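import Mathlib.Algebra.Category.ModuleCat.ChangeOfRings
import Mathlib.RingTheory.TensorProduct.Basic

/-!
# Bridging `ModuleCat.extendScalars` and the ordinary tensor product `S ⊗[R] M`

The object `(ModuleCat.extendScalars (algebraMap R S)).obj X` is a tensor product formed with the
`R`-module structure `Module.compHom S (algebraMap R S)` on `S`; this is only propositionally the
same as the structure coming from `Algebra R S`.  We give an explicit `S`-linear equivalence with
`S ⊗[R] X`, natural in `X`.
-/

set_option autoImplicit false

namespace Groth.Agent.Helper8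

open TensorProduct CategoryTheory ChangeOfRings

universe u₁ u₂ v

variable {R : Type u₁} {S : Type u₂} [CommRing R] [CommRing S] [Algebra R S]

section

variable (X : ModuleCat.{v} R)

/-- forward additive map -/
noncomputable def extScalFwd :
    ((ModuleCat.extendScalars (algebraMap R S)).obj X) →+ (S ⊗[R] X) :=
  @TensorProduct.liftAddHom R _ S X (S ⊗[R] X) _ _ _ (Module.compHom S (algebraMap R S)) _
    (AddMonoidHom.mk' (fun s => (TensorProduct.mk R S X s).toAddMonoidHom)
      (by intro a b; ext x; simp [add_tmul]))
    (by
      intro r s x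
      show ((algebraMap R S r) • s) ⊗ₜ[R] x = s ⊗ₜ[R] (r • x)
      rw [algebraMap_smul, smul_tmul])


/-- Induction principle for elements of the extended module, with the types kept in the form
`(extendScalars _).obj X`. -/
lemma extScal_induction {motive : ((ModuleCat.extendScalars (algebraMap R S)).obj X) → Prop}
    (zero : motive 0) (tmul : ∀ (s : S) (x : X), motive (s ⊗ₜ[R,algebraMap R S] x))
    (add : ∀ a b, motive a → motive b → motive (a + b))
    (z : (ModuleCat.extendScalars (algebraMap R S)).obj X) : motive z :=
  TensorProduct.induction_on z zero tmul add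

@[simp] lemma extScalFwd_tmul (s : S) (x : X) :
    extScalFwd X (s ⊗ₜ[R,algebraMap R S] x) = s ⊗ₜ[R] x := rfl

/-- backward additive map -/
noncomputable def extScalBwd :
    (S ⊗[R] X) →+ ((ModuleCat.extendScalars (algebraMap R S)).obj X) :=
  TensorProduct.liftAddHom
    (AddMonoidHom.mk' (fun s => AddMonoidHom.mk' (fun x => (s ⊗ₜ[R,algebraMap R S] x))
        (by intro a b; exact tmul_add _ _ _))
      (by intro a b; ext x; exact add_tmul _ _ _))
    (by
      intro r s x
      show (r • s) ⊗ₜ[R,algebraMap R S] x = s ⊗ₜ[R,algebraMap R S] (r • x)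
      rw [← algebraMap_smul S r s]
      letI m : Module R S := Module.compHom S (algebraMap R S)
      exact smul_tmul r s x)

@[simp] lemma extScalBwd_tmul (s : S) (x : X) :
    extScalBwd X (s ⊗ₜ[R] x) = (s ⊗ₜ[R,algebraMap R S] x) := rfl

lemma extScalBwd_fwd (z : (ModuleCat.extendScalars (algebraMap R S)).obj X) :
    extScalBwd X (extScalFwd X z) = z := by
  induction z using extScal_induction with
  | zero => rw [map_zero, map_zero]
  | tmul s x => rfl
  | add a b ha hb => rw [map_add, map_add, ha, hb]

lemma extScalFwd_bwd (z : S ⊗[R] X) :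
    extScalFwd X (extScalBwd X z) = z := by
  induction z using TensorProduct.induction_on with
  | zero => simp
  | tmul s x => rfl
  | add a b ha hb => rw [map_add, map_add, ha, hb]

set_option backward.isDefEq.respectTransparency false in
lemma extScal_smul_tmul (c s : S) (x : X) :
    c • (s ⊗ₜ[R,algebraMap R S] x : (ModuleCat.extendScalars (algebraMap R S)).obj X)
      = ((c * s) ⊗ₜ[R,algebraMap R S] x : (ModuleCat.extendScalars (algebraMap R S)).obj X) :=
  rfl

/-- The bridging equivalence. -/
noncomputable def extScalEquiv :
    ((ModuleCat.extendScalars (algebraMap R S)).obj X) ≃ₗ[S] (S ⊗[R] X) :=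
  { extScalFwd X with
    invFun := extScalBwd X
    left_inv := extScalBwd_fwd X
    right_inv := extScalFwd_bwd X
    map_smul' := by
      intro c z
      show extScalFwd X (c • z) = c • extScalFwd X z
      induction z using extScal_induction with
      | zero => rw [smul_zero, map_zero, smul_zero]
      | tmul s x =>
        refine (congrArg (extScalFwd X) (extScal_smul_tmul X c s x)).trans ?_
        show (c * s) ⊗ₜ[R] x = c • (s ⊗ₜ[R] x)
        rw [smul_tmul', smul_eq_mul]
      | add a b ha hb => rw [smul_add, map_add, map_add, smul_add, ha, hb] }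

@[simp] lemma extScalEquiv_tmul (s : S) (x : X) :
    extScalEquiv X (s ⊗ₜ[R,algebraMap R S] x) = s ⊗ₜ[R] x := rfl

@[simp] lemma extScalEquiv_symm_tmul (s : S) (x : X) :
    (extScalEquiv X).symm (s ⊗ₜ[R] x) = (s ⊗ₜ[R,algebraMap R S] x) := rfl

end

section Natural

variable {X Y : ModuleCat.{v} R} (f : X ⟶ Y)

lemma extScalEquiv_naturality (z : (ModuleCat.extendScalars (algebraMap R S)).obj X) :
    extScalEquiv Y (((ModuleCat.extendScalars (algebraMap R S)).map f).hom z)
      = (f.hom.baseChange S) (extScalEquiv X z) := by
  induction z using extScal_induction with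
  | zero => simp
  | tmul s x => rfl
  | add a b ha hb => rw [map_add, map_add, map_add, map_add, ha, hb]

lemma extScalEquiv_comp :
    (extScalEquiv Y).toLinearMap ∘ₗ ((ModuleCat.extendScalars (algebraMap R S)).map f).hom
      = (f.hom.baseChange S) ∘ₗ (extScalEquiv X).toLinearMap :=
  LinearMap.ext (extScalEquiv_naturality f)

end Natural

end Groth.Agent.Helper8
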