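import Groth.Agent.Lib.Helper8.LC17

set_option autoImplicit false
universe u
open CategoryTheory CategoryTheory.Limits Opposite

namespace Groth.Agent.Helper8.LC

variable {R : Type u} [CommRing R] [IsNoetherianRing R]

open Abelian localCohomology LocCoh

/-- every Ext class from a finitely generated module comes from a finitely generated submodule
of the target. -/
theorem exists_fg_submodule_ext (i : ℕ) : ∀ (X : Type u) [AddCommGroup X] [Module R X]
    [Module.Finite R X] (M : Type u) [AddCommGroup M] [Module R M]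
    (e : Abelian.Ext (ModuleCat.of R X) (ModuleCat.of R M) i),
    ∃ (N : Submodule R M) (_ : N.FG) (e' : Abelian.Ext (ModuleCat.of R X) (ModuleCat.of R N) i),
      e'.comp (Ext.mk₀ (ModuleCat.ofHom N.subtype)) (add_zero i) = e := by
  induction i with
  | zero =>
    intro X _ _ _ M _ _ e
    obtain ⟨f, rfl⟩ : ∃ f, Ext.mk₀ f = e := ⟨_, Ext.mk₀_linearEquiv₀_apply (R := R) e⟩
    refine ⟨LinearMap.range f.hom, ?_, Ext.mk₀ (ModuleCat.ofHom f.hom.rangeRestrict), ?_⟩
    · rw [LinearMap.range_eq_map]
      exact Submodule.FG.map _ Module.Finite.fg_top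
    · rw [Ext.mk₀_comp_mk₀]
      rfl
  | succ i ih =>
    intro X _ _ _ M _ _ e
    obtain ⟨k, π, hπ⟩ := Module.Finite.exists_fin' R X
    have hS := LinearMap.shortExact_shortComplexKer hπ
    haveI : Projective (ModuleCat.of R (Fin k → R)) :=
      (IsProjective.iff_projective (Fin k → R)).mp inferInstance
    have h0 : (Ext.mk₀ (LinearMap.shortComplexKer π).g).comp e (zero_add (i + 1)) = 0 :=
      Ext.eq_zero_of_projective _
    obtain ⟨x₁, hx₁⟩ := Ext.contravariant_sequence_exact₃ hS _ e h0 (add_comm 1 i)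
    haveI : Module.Finite R (LinearMap.ker π) := Module.IsNoetherian.finite R _
    obtain ⟨N, hN, x₁', hx₁'⟩ := ih (LinearMap.ker π) M x₁
    refine ⟨N, hN, hS.extClass.comp x₁' (add_comm 1 i), ?_⟩
    rw [Ext.comp_assoc_of_third_deg_zero, hx₁', hx₁]

theorem subsingleton_of_supportDim_lt (J : Ideal R) (M : Type u) [AddCommGroup M] [Module R M]
    (i : ℕ) (hi : Module.supportDim R M < (i : WithBot ℕ∞)) : Subsingleton (H J i M) := by
  apply subsingleton_of_forall_eq_zero
  intro z
  obtain ⟨n, e, rfl⟩ := ι_rep J i (ModuleCat.of R M) z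
  haveI : Module.Finite R (R ⧸ J ^ n) := Module.Finite.quotient R _
  obtain ⟨N, hN, e', he'⟩ := exists_fg_submodule_ext i (R ⧸ J ^ n) M e
  haveI : Module.Finite R N := Module.Finite.iff_fg.mpr hN
  have h1 : Module.supportDim R N < (i : WithBot ℕ∞) :=
    (Module.supportDim_le_of_injective N.subtype N.injective_subtype).trans_lt hi
  have h2 := subsingleton_of_supportDim_lt_of_finite J N i h1
  rw [← he', ← ι_map, Subsingleton.elim (ι J i n (ModuleCat.of R N) e') 0, map_zero]

theorem cdLE_of_ringKrullDim_le (J : Ideal R) (d : ℕ) (hd : ringKrullDim R ≤ d) :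
    CdLE R J d := by
  intro M _ _ i hi
  apply subsingleton_of_supportDim_lt J M i
  refine (Module.supportDim_le_ringKrullDim R M).trans_lt (hd.trans_lt ?_)
  exact_mod_cast hi

end Groth.Agent.Helper8.LC
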