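import Groth.Agent.Lib.Helper8.LC50

set_option autoImplicit false
universe u
open CategoryTheory CategoryTheory.Limits Opposite

namespace Groth.Agent.Helper8.LC

open Abelian localCohomology LocCoh

variable {R : Type u} [CommRing R] [IsNoetherianRing R]

theorem nonempty_localizedModule_H_equiv (I : Ideal R) (S : Submonoid R) (M : Type u)
    [AddCommGroup M] [Module R M] (i : ℕ) :
    Nonempty (LocalizedModule S (H I i M) ≃ₗ[Localization S]
      H (Ideal.map (algebraMap R (Localization S)) I) i (LocalizedModule S M)) := by
  let A := Localization S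
  let N := LocalizedModule S M
  let T := H (Ideal.map (algebraMap R A) I) i N
  let e₁ : LocalizedModule S (H I i M) ≃ₗ[R] H I i N :=
    IsLocalizedModule.iso S (locMapS I S i M)
  obtain ⟨φ, hφ⟩ := exists_semilinear_equiv (R' := A) I i N
  letI : Module R T := Module.compHom T (algebraMap R A)
  haveI : IsScalarTower R A T := ⟨fun r a x => by
    change (r • a) • x = algebraMap R A r • a • x
    rw [Algebra.smul_def, mul_smul]⟩
  let ψ : LocalizedModule S (H I i M) ≃ₗ[R] T :=
    { e₁.toAddEquiv.trans φ.symm with
      map_smul' := by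
        intro r x
        change φ.symm (e₁ (r • x)) = algebraMap R A r • φ.symm (e₁ x)
        rw [map_smul]
        apply φ.injective
        rw [hφ, AddEquiv.apply_symm_apply, AddEquiv.apply_symm_apply] }
  exact ⟨ψ.extendScalarsOfIsLocalization S A⟩

theorem cdLE_iff_forall_localization (I : Ideal R) (d : ℕ) :
    CdLE R I d ↔ ∀ (p : Ideal R) [p.IsPrime],
      CdLE (Localization.AtPrime p) (I.map (algebraMap R (Localization.AtPrime p))) d := by
  constructor
  · intro h p _ N _ _ i hi
    letI : Module R N := Module.compHom N (algebraMap R (Localization.AtPrime p))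
    haveI : IsScalarTower R (Localization.AtPrime p) N := ⟨fun r a x => by
      change (r • a) • x = algebraMap R (Localization.AtPrime p) r • a • x
      rw [Algebra.smul_def, mul_smul]⟩
    obtain ⟨φ, -⟩ := exists_semilinear_equiv (R' := Localization.AtPrime p) I i N
    haveI := h N i hi
    exact φ.toEquiv.subsingleton
  · intro h M _ _ i hi
    apply subsingleton_of_forall_eq_zero
    intro x
    by_contra hx
    let 𝔞 : Ideal R := LinearMap.ker (LinearMap.toSpanSingleton R (H I i M) x)
    have h𝔞 : 𝔞 ≠ ⊤ := by
      intro htop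
      have h1 : (1 : R) ∈ 𝔞 := by rw [htop]; exact Submodule.mem_top
      rw [LinearMap.mem_ker, LinearMap.toSpanSingleton_apply, one_smul] at h1
      exact hx h1
    obtain ⟨m, hm, h𝔞m⟩ := Ideal.exists_le_maximal 𝔞 h𝔞
    haveI : m.IsPrime := hm.isPrime
    have h0 : Subsingleton (H I i (LocalizedModule m.primeCompl M)) := by
      obtain ⟨φ, -⟩ := exists_semilinear_equiv (R' := Localization.AtPrime m) I i
        (LocalizedModule m.primeCompl M)
      haveI := h m (LocalizedModule m.primeCompl M) i hi
      exact φ.symm.toEquiv.subsingleton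
    have h1 : locMapS I m.primeCompl i M x = 0 := h0.elim _ _
    obtain ⟨s, hs⟩ := exists_smul_of_locMapS_eq_zero I m.primeCompl i M x h1
    have h2 : (s : R) ∈ 𝔞 := by
      rw [LinearMap.mem_ker, LinearMap.toSpanSingleton_apply]
      exact hs
    exact s.2 (h𝔞m h2)

end Groth.Agent.Helper8.LC
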