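import Mathlib
import Groth.Prelude.Def_CAlg

/-!
# Depth: basic API for `LocCoh.idealDepth` and `LocCoh.depth`

Basic facts on the depth defined as the supremum of lengths of weakly regular sequences,
and the link with the Rees theorem of Mathlib.
-/

set_option autoImplicit false
universe u v

namespace Groth.Agent.Helper8.Depth

open RingTheory.Sequence LocCoh CategoryTheory Abelian Pointwise

variable {R : Type u} [CommRing R] (I : Ideal R) (M : Type v) [AddCommGroup M] [Module R M]

theorem idealDepth_of_smul_top_eq (h : I • (⊤ : Submodule R M) = ⊤) :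
    idealDepth I M = ⊤ := by
  unfold idealDepth; rw [if_pos h]

theorem idealDepth_of_smul_top_ne (h : I • (⊤ : Submodule R M) ≠ ⊤) :
    idealDepth I M = ⨆ (rs : List R) (_ : IsWeaklyRegular M rs ∧ ∀ r ∈ rs, r ∈ I),
      (rs.length : ℕ∞) := by
  unfold idealDepth; rw [if_neg h]

variable {I M}

theorem length_le_idealDepth {rs : List R} (hreg : IsWeaklyRegular M rs)
    (hmem : ∀ r ∈ rs, r ∈ I) : (rs.length : ℕ∞) ≤ idealDepth I M := by
  by_cases h : I • (⊤ : Submodule R M) = ⊤
  · rw [idealDepth_of_smul_top_eq I M h]; exact le_top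
  · rw [idealDepth_of_smul_top_ne I M h]
    exact le_iSup₂ (f := fun (rs : List R) (_ : IsWeaklyRegular M rs ∧ ∀ r ∈ rs, r ∈ I) =>
      (rs.length : ℕ∞)) rs ⟨hreg, hmem⟩

theorem isWeaklyRegular_take (rs : List R) (h : IsWeaklyRegular M rs) (c : ℕ) :
    IsWeaklyRegular M (rs.take c) := by
  have h1 := List.take_append_drop c rs
  rw [← h1] at h
  exact ((isWeaklyRegular_append_iff M _ _).mp h).1

theorem le_idealDepth_iff (h : I • (⊤ : Submodule R M) ≠ ⊤) (n : ℕ) :
    (n : ℕ∞) ≤ idealDepth I M ↔
      ∃ rs : List R, rs.length = n ∧ IsWeaklyRegular M rs ∧ ∀ r ∈ rs, r ∈ I := by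
  constructor
  · intro hn
    rw [idealDepth_of_smul_top_ne I M h] at hn
    by_contra hcon
    push Not at hcon
    have hlt : ∀ rs : List R, IsWeaklyRegular M rs → (∀ r ∈ rs, r ∈ I) → rs.length < n := by
      intro rs hreg hmem
      by_contra hge
      push Not at hge
      have h1 := isWeaklyRegular_take rs hreg n
      have h2 : (rs.take n).length = n := by simp [hge]
      obtain ⟨r, hr, hrI⟩ := hcon (rs.take n) h2 h1
      exact hrI (hmem r (List.mem_of_mem_take hr))
    have hn0 : n ≠ 0 := by
      intro h0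
      have := hlt [] (IsWeaklyRegular.nil R M) (by simp)
      simp [h0] at this
    have hsup : (⨆ (rs : List R) (_ : IsWeaklyRegular M rs ∧ ∀ r ∈ rs, r ∈ I),
        (rs.length : ℕ∞)) ≤ ((n - 1 : ℕ) : ℕ∞) := by
      refine iSup₂_le fun rs hrs => ?_
      have := hlt rs hrs.1 hrs.2
      exact_mod_cast (by omega : rs.length ≤ n - 1)
    have := hn.trans hsup
    have h3 : n ≤ n - 1 := by exact_mod_cast this
    omega
  · rintro ⟨rs, rfl, hreg, hmem⟩
    exact length_le_idealDepth hreg hmem

theorem smul_top_quotSMulTop_ne_top {r : R} (hr : r ∈ I)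
    (hI : I • (⊤ : Submodule R M) ≠ ⊤) :
    I • (⊤ : Submodule R (QuotSMulTop r M)) ≠ ⊤ := by
  by_contra eq
  absurd congrArg (Submodule.comap (Submodule.mkQ _)) eq
  simpa [Submodule.comap_smul_top_of_surjective I _ (Submodule.mkQ_surjective _),
    Submodule.smul_mono_left ((Ideal.span_singleton_le_iff_mem I).mpr hr),
    ← Submodule.ideal_span_singleton_smul] using hI

/-- Easy inequality: prepending a regular element. -/
theorem idealDepth_quotSMulTop_add_one_le {x : R} (hx : x ∈ I) (hreg : IsSMulRegular M x) :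
    idealDepth I (QuotSMulTop x M) + 1 ≤ idealDepth I M := by
  by_cases h : I • (⊤ : Submodule R M) = ⊤
  · rw [idealDepth_of_smul_top_eq I M h]; exact le_top
  · have h' := smul_top_quotSMulTop_ne_top hx h
    rw [← ENat.forall_natCast_le_iff_le]
    intro n hn
    cases n with
    | zero => exact bot_le
    | succ n =>
      have hn' : (n : ℕ∞) ≤ idealDepth I (QuotSMulTop x M) := by
        have h1 : ((n : ℕ) : ℕ∞) + 1 ≤ idealDepth I (QuotSMulTop x M) + 1 := by exact_mod_cast hn
        exact (ENat.add_le_add_iff_right ENat.one_ne_top).mp h1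
      obtain ⟨rs, hlen, hrs, hmem⟩ := (le_idealDepth_iff h' n).mp hn'
      have : IsWeaklyRegular M (x :: rs) := (isWeaklyRegular_cons_iff M x rs).mpr ⟨hreg, hrs⟩
      have h2 := length_le_idealDepth (I := I) this (by
        intro r hr
        rcases List.mem_cons.mp hr with rfl | hr
        · exact hx
        · exact hmem r hr)
      simpa [hlen] using h2

end Groth.Agent.Helper8.Depth
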