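import Mathlib
import Groth.Agent.Lib.Helper8.Depth1

/-!
# Depth drops by exactly one modulo a regular element (via the Rees theorem)
-/

set_option autoImplicit false
universe u

namespace Groth.Agent.Helper8.Depth

open RingTheory.Sequence LocCoh CategoryTheory Abelian Pointwise

variable {R : Type u} [CommRing R] {I : Ideal R} {M : Type u} [AddCommGroup M] [Module R M]

theorem isRegular_of_isWeaklyRegular_of_mem {rs : List R} (h : I • (⊤ : Submodule R M) ≠ ⊤)
    (hreg : IsWeaklyRegular M rs) (hmem : ∀ r ∈ rs, r ∈ I) : IsRegular M rs := by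
  refine ⟨hreg, fun htop => h ?_⟩
  have h1 : Ideal.ofList rs • (⊤ : Submodule R M) ≤ I • (⊤ : Submodule R M) :=
    Submodule.smul_mono_left (Ideal.span_le.mpr hmem)
  exact top_le_iff.mp (htop.le.trans h1)

/-- Hard inequality: the depth drops by at most one modulo a regular element. -/
theorem idealDepth_le_quotSMulTop_add_one [IsNoetherianRing R] [Module.Finite R M]
    (h : I • (⊤ : Submodule R M) ≠ ⊤) {x : R} (hx : x ∈ I) (hreg : IsSMulRegular M x) :
    idealDepth I M ≤ idealDepth I (QuotSMulTop x M) + 1 := by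
  have h' := smul_top_quotSMulTop_ne_top hx h
  rw [← ENat.forall_natCast_le_iff_le]
  intro n hn
  cases n with
  | zero => exact bot_le
  | succ k =>
    obtain ⟨rs, hlen, hrs, hmem⟩ := (le_idealDepth_iff h (k + 1)).mp hn
    have hR := isRegular_of_isWeaklyRegular_of_mem h hrs hmem
    have tfae := ModuleCat.exists_isRegular_tfae I (k + 1) (ModuleCat.of R M) (lt_top_iff_ne_top.mpr h)
    have h2' : ∃ rs : List R, rs.length = k + 1 ∧ (∀ r ∈ rs, r ∈ I) ∧
        RingTheory.Sequence.IsRegular (ModuleCat.of R M) rs := ⟨rs, hlen, hmem, hR⟩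
    have h2 : ∀ i < k + 1, Subsingleton (Ext (ModuleCat.of R (Shrink.{u} (R ⧸ I)))
        (ModuleCat.of R M) i) := (tfae.out 3 1).mp h2'
    have h3 : ∀ i < k, Subsingleton (Ext (ModuleCat.of R (Shrink.{u} (R ⧸ I)))
        (ModuleCat.of R (QuotSMulTop x M)) i) := by
      intro i hi
      have zero1 := AddCommGrpCat.isZero_of_iff_subsingleton.mpr (h2 i (by omega))
      have zero2 := AddCommGrpCat.isZero_of_iff_subsingleton.mpr (h2 (i + 1) (by omega))
      exact AddCommGrpCat.subsingleton_of_isZero <| ShortComplex.Exact.isZero_of_both_zeros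
        ((Ext.covariant_sequence_exact₃' (ModuleCat.of R (Shrink.{u} (R ⧸ I)))
          (IsSMulRegular.smulShortComplex_shortExact (M := ModuleCat.of R M) hreg)) i (i + 1) rfl)
        (zero1.eq_zero_of_src _) (zero2.eq_zero_of_tgt _)
    have tfae' := ModuleCat.exists_isRegular_tfae I k (ModuleCat.of R (QuotSMulTop x M))
      (lt_top_iff_ne_top.mpr h')
    obtain ⟨rs', hlen', hmem', hR'⟩ := (tfae'.out 1 3).mp h3
    have h4 := length_le_idealDepth (I := I) hR'.toIsWeaklyRegular hmem'
    rw [hlen'] at h4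
    push_cast
    exact add_le_add_left h4 1

/-- Depth modulo a regular element. -/
theorem idealDepth_quotSMulTop_add_one [IsNoetherianRing R] [Module.Finite R M]
    (h : I • (⊤ : Submodule R M) ≠ ⊤) {x : R} (hx : x ∈ I) (hreg : IsSMulRegular M x) :
    idealDepth I (QuotSMulTop x M) + 1 = idealDepth I M :=
  le_antisymm (idealDepth_quotSMulTop_add_one_le hx hreg)
    (idealDepth_le_quotSMulTop_add_one h hx hreg)

end Groth.Agent.Helper8.Depth
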