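import Mathlib
import Groth.Agent.Lib.Helper8.Depth2

/-!
# Depth over a Noetherian local ring
-/

set_option autoImplicit false
universe u v

namespace Groth.Agent.Helper8.Depth

open RingTheory.Sequence LocCoh IsLocalRing Pointwise

section

variable (A : Type u) [CommRing A] [IsLocalRing A] (M : Type v) [AddCommGroup M] [Module A M]

theorem smul_top_ne_top_of_local [Module.Finite A M] [Nontrivial M] :
    maximalIdeal A • (⊤ : Submodule A M) ≠ ⊤ :=
  (Submodule.top_ne_ideal_smul_of_le_jacobson_annihilator
    (IsLocalRing.maximalIdeal_le_jacobson _)).symm

/-- No element of the maximal ideal is regular iff the maximal ideal is associated. -/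
theorem forall_not_isSMulRegular_iff [IsNoetherianRing A] [Module.Finite A M] :
    (∀ x ∈ maximalIdeal A, ¬ IsSMulRegular M x) ↔ maximalIdeal A ∈ associatedPrimes A M := by
  rw [← Ideal.subset_iUnion_iff_mem_of_isMaximal_of_finite (associatedPrimes.finite A M)
    (maximalIdeal A) (maximalIdeal A) (fun I hI _ _ => hI.isPrime)
    (maximalIdeal.isMaximal A).ne_top (maximalIdeal.isMaximal A).ne_top,
    biUnion_associatedPrimes_eq_compl_regular]
  rfl

theorem depth_eq_top_of_subsingleton [Subsingleton M] : depth A M = ⊤ := by
  unfold depth
  exact idealDepth_of_smul_top_eq _ _ (Subsingleton.elim _ _)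

/-- Depth zero means that the maximal ideal is an associated prime. -/
theorem depth_eq_zero_iff [IsNoetherianRing A] [Module.Finite A M] :
    depth A M = 0 ↔ maximalIdeal A ∈ associatedPrimes A M := by
  rcases subsingleton_or_nontrivial M with hM | hM
  · constructor
    · intro h
      rw [depth_eq_top_of_subsingleton] at h
      exact absurd h (by simp)
    · intro h
      rw [associatedPrimes.eq_empty_of_subsingleton] at h
      exact absurd h (Set.notMem_empty _)
  · have hne := smul_top_ne_top_of_local A M
    rw [← forall_not_isSMulRegular_iff]
    constructor
    · intro h0 x hx hreg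
      have := length_le_idealDepth (I := maximalIdeal A) (M := M) (rs := [x])
        ((isWeaklyRegular_singleton_iff M x).mpr hreg) (by simpa using hx)
      unfold depth at h0
      rw [h0] at this
      simp at this
    · intro hno
      unfold depth
      rw [idealDepth_of_smul_top_ne _ _ hne]
      apply le_antisymm _ bot_le
      refine iSup₂_le fun rs hrs => ?_
      cases rs with
      | nil => simp
      | cons x rs =>
        exfalso
        exact hno x (hrs.2 x List.mem_cons_self) ((isWeaklyRegular_cons_iff M x rs).mp hrs.1).1

end

end Groth.Agent.Helper8.Depth
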