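import Mathlib
import Groth.Agent.Lib.Helper8.Depth3

/-!
# Associated primes modulo a regular element
-/

set_option autoImplicit false
universe u v

namespace Groth.Agent.Helper8.Depth

open RingTheory.Sequence LocCoh IsLocalRing Pointwise

/-- For an `M`-regular `t` and `p ∈ Ass M`, every minimal prime of `p + tA` is associated to
`M/tM`. -/
theorem minimalPrimes_sup_span_mem_associatedPrimes (A : Type u) [CommRing A]
    [IsNoetherianRing A] (M : Type v) [AddCommGroup M] [Module A M] [Module.Finite A M] (t : A)
    (ht : IsSMulRegular M t) (p : Ideal A) (hp : p ∈ associatedPrimes A M) (q : Ideal A)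
    (hq : q ∈ (p ⊔ Ideal.span {t}).minimalPrimes) :
    q ∈ associatedPrimes A (QuotSMulTop t M) := by
  classical
  obtain ⟨hpp, x, hx⟩ := isAssociatedPrime_iff.mp hp
  set N : Submodule A M := Submodule.torsionBySet A M (p : Set A) with hN
  have hmemN : ∀ n : M, n ∈ N ↔ ∀ a ∈ p, a • n = 0 := by
    intro n
    rw [hN, Submodule.mem_torsionBySet_iff]
    exact ⟨fun h a ha => h ⟨a, ha⟩, fun h a => h a a.2⟩
  have hxN : x ∈ N := by
    rw [hmemN]
    intro a ha
    rw [hx, Submodule.mem_colon_singleton] at ha
    simpa using ha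
  have hann : Module.annihilator A N = p := by
    apply le_antisymm
    · intro a ha
      have := Module.mem_annihilator.mp ha ⟨x, hxN⟩
      rw [hx, Submodule.mem_colon_singleton, Submodule.mem_bot]
      simpa [Subtype.ext_iff] using this
    · intro a ha
      rw [Module.mem_annihilator]
      rintro ⟨n, hn⟩
      ext
      exact (hmemN n).mp hn a ha
  have hg : Function.Injective (QuotSMulTop.map t N.subtype) := by
    rw [injective_iff_map_eq_zero]
    intro z hz
    obtain ⟨n, rfl⟩ := Submodule.mkQ_surjective _ z
    have h1 : (QuotSMulTop.map t N.subtype) (Submodule.mkQ _ n) = Submodule.mkQ _ (n : M) := rfl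
    rw [h1, Submodule.mkQ_apply, Submodule.Quotient.mk_eq_zero] at hz
    obtain ⟨m, -, hm⟩ := (Submodule.mem_smul_pointwise_iff_exists _ _ _).mp hz
    have hmN : m ∈ N := by
      rw [hmemN]
      intro a ha
      apply ht
      change t • a • m = t • (0 : M)
      have : t • a • m = a • (n : M) := by rw [← hm, smul_comm]
      rw [this, smul_zero]
      exact (hmemN _).mp n.2 a ha
    rw [Submodule.mkQ_apply, Submodule.Quotient.mk_eq_zero]
    refine (Submodule.mem_smul_pointwise_iff_exists _ _ _).mpr ⟨⟨m, hmN⟩, Submodule.mem_top, ?_⟩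
    ext
    exact hm
  have hsupp : Module.support A (QuotSMulTop t N) =
      PrimeSpectrum.zeroLocus ((p ⊔ Ideal.span {t} : Ideal A) : Set A) := by
    rw [Module.support_quotSMulTop, Module.support_eq_zeroLocus, hann, PrimeSpectrum.zeroLocus_sup,
      PrimeSpectrum.zeroLocus_span]
  have hmin : (Module.annihilator A (QuotSMulTop t N)).minimalPrimes =
      (p ⊔ Ideal.span {t}).minimalPrimes := by
    rw [Module.support_eq_zeroLocus, PrimeSpectrum.zeroLocus_eq_iff] at hsupp
    rw [← Ideal.radical_minimalPrimes, hsupp, Ideal.radical_minimalPrimes]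
  have hq' : q ∈ associatedPrimes A (QuotSMulTop t N) :=
    Module.associatedPrimes.minimalPrimes_annihilator_subset_associatedPrimes A _ (hmin ▸ hq)
  exact associatedPrimes.subset_of_injective hg hq'

end Groth.Agent.Helper8.Depth
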