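import Mathlib
import Groth.Agent.Lib.Helper8.Depth4

/-!
# Depth and Ext: the least nonvanishing `Ext^i(R/I, M)`
-/

set_option autoImplicit false
universe u v

namespace Groth.Agent.Helper8.Depth

open RingTheory.Sequence LocCoh CategoryTheory Abelian Pointwise

variable {R : Type u} [CommRing R] {I : Ideal R} {M : Type u} [AddCommGroup M] [Module R M]

theorem support_quotient_ideal (I : Ideal R) :
    Module.support R (R ⧸ I) = PrimeSpectrum.zeroLocus I := by
  rw [Module.support_eq_zeroLocus, Ideal.annihilator_quotient]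

/-- `n ≤ depth_I M` iff `Ext^i(R/I, M) = 0` for all `i < n`. -/
theorem le_idealDepth_iff_ext [IsNoetherianRing R] [Module.Finite R M]
    (h : I • (⊤ : Submodule R M) ≠ ⊤) (n : ℕ) :
    (n : ℕ∞) ≤ idealDepth I M ↔
      ∀ i : ℕ, i < n → Subsingleton (Abelian.Ext (ModuleCat.of R (R ⧸ I)) (ModuleCat.of R M) i) := by
  rw [le_idealDepth_iff h]
  constructor
  · rintro ⟨rs, hlen, hreg, hmem⟩ i hi
    have hreg' := isRegular_of_isWeaklyRegular_of_mem h hreg hmem
    exact ModuleCat.subsingleton_ext_of_exists_isRegular I (ModuleCat.of R (R ⧸ I))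
      (support_quotient_ideal I).subset (ModuleCat.of R M) (lt_top_iff_ne_top.mpr h) rs hmem hreg'
      i (hlen ▸ hi)
  · intro hext
    obtain ⟨rs, hlen, hmem, hreg⟩ := ModuleCat.exists_isRegular_of_exists_subsingleton_ext I n
      (ModuleCat.of R M) (lt_top_iff_ne_top.mpr h) (ModuleCat.of R (R ⧸ I))
      (support_quotient_ideal I) hext
    exact ⟨rs, hlen, hreg.toIsWeaklyRegular, hmem⟩

theorem idealDepth_eq_iff_ext [IsNoetherianRing R] [Module.Finite R M]
    (h : I • (⊤ : Submodule R M) ≠ ⊤) (n : ℕ) :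
    idealDepth I M = n ↔
      ((∀ i : ℕ, i < n →
          Subsingleton (Abelian.Ext (ModuleCat.of R (R ⧸ I)) (ModuleCat.of R M) i)) ∧
        Nontrivial (Abelian.Ext (ModuleCat.of R (R ⧸ I)) (ModuleCat.of R M) n)) := by
  constructor
  · intro hd
    refine ⟨(le_idealDepth_iff_ext h n).mp hd.ge, ?_⟩
    by_contra hnt
    rw [not_nontrivial_iff_subsingleton] at hnt
    have h1 : ((n + 1 : ℕ) : ℕ∞) ≤ idealDepth I M := by
      rw [le_idealDepth_iff_ext h]
      intro i hi
      rcases Nat.lt_succ_iff_lt_or_eq.mp hi with h2 | h2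
      · exact (le_idealDepth_iff_ext h n).mp hd.ge i h2
      · rw [h2]; exact hnt
    rw [hd] at h1
    have : n + 1 ≤ n := by exact_mod_cast h1
    omega
  · rintro ⟨hs, hnt⟩
    refine le_antisymm ?_ ((le_idealDepth_iff_ext h n).mpr hs)
    by_contra hlt
    push Not at hlt
    have h1 : ((n + 1 : ℕ) : ℕ∞) ≤ idealDepth I M := by
      have := Order.add_one_le_of_lt hlt
      exact_mod_cast this
    have h2 := (le_idealDepth_iff_ext h (n + 1)).mp h1 n (Nat.lt_succ_self n)
    exact not_subsingleton _ h2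

end Groth.Agent.Helper8.Depth
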