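import Mathlib
import Groth.Agent.Lib.Helper8.Depth5

/-!
# Maximal regular sequences have length equal to the depth; finiteness of depth
-/

set_option autoImplicit false
universe u v

namespace Groth.Agent.Helper8.Depth

open RingTheory.Sequence LocCoh Pointwise

section congr

variable {R : Type u} [CommRing R] {I : Ideal R} {M : Type v} [AddCommGroup M] [Module R M]
  {N : Type*} [AddCommGroup N] [Module R N]

theorem smul_top_eq_top_of_equiv (e : M ≃ₗ[R] N) (h : I • (⊤ : Submodule R M) = ⊤) :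
    I • (⊤ : Submodule R N) = ⊤ := by
  have h1 : Submodule.map e.toLinearMap (I • (⊤ : Submodule R M)) = I • ⊤ := by
    rw [Submodule.map_smul'', Submodule.map_top, LinearMap.range_eq_top.mpr e.surjective]
  rw [← h1, h, Submodule.map_top, LinearMap.range_eq_top.mpr e.surjective]

theorem smul_top_eq_top_congr (e : M ≃ₗ[R] N) :
    I • (⊤ : Submodule R M) = ⊤ ↔ I • (⊤ : Submodule R N) = ⊤ :=
  ⟨smul_top_eq_top_of_equiv e, smul_top_eq_top_of_equiv e.symm⟩

theorem idealDepth_congr (e : M ≃ₗ[R] N) : idealDepth I M = idealDepth I N := by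
  unfold idealDepth
  have h1 := smul_top_eq_top_congr (I := I) e
  by_cases h : I • (⊤ : Submodule R M) = ⊤
  · rw [if_pos h, if_pos (h1.mp h)]
  · rw [if_neg h, if_neg (fun h' => h (h1.mpr h'))]
    refine iSup_congr fun rs => ?_
    have : (IsWeaklyRegular M rs ∧ ∀ r ∈ rs, r ∈ I) ↔ (IsWeaklyRegular N rs ∧ ∀ r ∈ rs, r ∈ I) := by
      rw [e.isWeaklyRegular_congr rs]
    simp only [this]

end congr

section maximal

variable {R : Type u} [CommRing R] {I : Ideal R} {M : Type u} [AddCommGroup M] [Module R M]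

/-- For `r ∈ I` with `I • (M/N) ≠ M/N`, if `r` is regular on `M/N` then `N < N ⊔ r • ⊤`. -/
theorem lt_ofList_append_singleton {rs : List R} (hmem : ∀ r ∈ rs, r ∈ I)
    (h : I • (⊤ : Submodule R M) ≠ ⊤) {r : R}
    (hreg : IsWeaklyRegular M (rs ++ [r])) :
    Ideal.ofList rs • (⊤ : Submodule R M) < Ideal.ofList (rs ++ [r]) • (⊤ : Submodule R M) := by
  have hle : Ideal.ofList rs • (⊤ : Submodule R M) ≤ Ideal.ofList (rs ++ [r]) • ⊤ := by
    refine Submodule.smul_mono_left ?_
    rw [Ideal.ofList_append]; exact le_sup_left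
  refine lt_of_le_of_ne hle fun heq => h ?_
  have hreg2 := ((isWeaklyRegular_append_iff M rs [r]).mp hreg).2
  rw [isWeaklyRegular_singleton_iff] at hreg2
  -- `r` acts as zero on the quotient
  have hzero : ∀ q : M ⧸ (Ideal.ofList rs • (⊤ : Submodule R M)), r • q = 0 := by
    intro q
    obtain ⟨m, rfl⟩ := Submodule.Quotient.mk_surjective _ q
    rw [← Submodule.Quotient.mk_smul, Submodule.Quotient.mk_eq_zero, heq]
    refine Submodule.smul_mem_smul ?_ Submodule.mem_top
    exact Ideal.subset_span (by simp)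
  have hsub : Subsingleton (M ⧸ (Ideal.ofList rs • (⊤ : Submodule R M))) := by
    refine ⟨fun a b => hreg2 ?_⟩
    simp only [hzero]
  rw [Submodule.Quotient.subsingleton_iff] at hsub
  have h1 : Ideal.ofList rs • (⊤ : Submodule R M) ≤ I • (⊤ : Submodule R M) :=
    Submodule.smul_mono_left (Ideal.span_le.mpr hmem)
  exact top_le_iff.mp (hsub.ge.trans h1)

theorem exists_maximal_extension [IsNoetherianRing R] [Module.Finite R M]
    (h : I • (⊤ : Submodule R M) ≠ ⊤) (rs : List R) (hreg : IsWeaklyRegular M rs)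
    (hmem : ∀ r ∈ rs, r ∈ I) :
    ∃ rs' : List R, rs <+: rs' ∧ IsWeaklyRegular M rs' ∧ (∀ r ∈ rs', r ∈ I) ∧
      ∀ r ∈ I, ¬ IsWeaklyRegular M (rs' ++ [r]) := by
  have hN : IsNoetherian R M := inferInstance
  let S : Set (Submodule R M) := {N | ∃ rs' : List R, rs <+: rs' ∧ IsWeaklyRegular M rs' ∧
    (∀ r ∈ rs', r ∈ I) ∧ N = Ideal.ofList rs' • ⊤}
  have hS : S.Nonempty := ⟨_, rs, List.prefix_refl rs, hreg, hmem, rfl⟩
  have hwf : WellFounded ((· > ·) : Submodule R M → Submodule R M → Prop) :=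
    (isNoetherian_iff'.mp hN).wf
  obtain ⟨N, ⟨rs', hpre, hreg', hmem', rfl⟩, hmax⟩ := hwf.has_min S hS
  refine ⟨rs', hpre, hreg', hmem', fun r hr hcon => ?_⟩
  have hmem'' : ∀ x ∈ rs' ++ [r], x ∈ I := by
    intro x hx
    rcases List.mem_append.mp hx with hx | hx
    · exact hmem' x hx
    · rw [List.mem_singleton.mp hx]; exact hr
  refine hmax _ ⟨rs' ++ [r], hpre.trans (List.prefix_append rs' [r]), hcon, hmem'', rfl⟩ ?_
  exact lt_ofList_append_singleton hmem' h hcon

theorem length_eq_idealDepth_of_maximal [IsNoetherianRing R] [Module.Finite R M]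
    (h : I • (⊤ : Submodule R M) ≠ ⊤) (rs : List R) (hreg : IsWeaklyRegular M rs)
    (hmem : ∀ r ∈ rs, r ∈ I) (hmax : ∀ r ∈ I, ¬ IsWeaklyRegular M (rs ++ [r])) :
    (rs.length : ℕ∞) = idealDepth I M := by
  induction rs generalizing M with
  | nil =>
    refine le_antisymm (length_le_idealDepth hreg hmem) ?_
    rw [idealDepth_of_smul_top_ne I M h]
    refine iSup₂_le fun rs' hrs' => ?_
    cases rs' with
    | nil => simp
    | cons x xs =>
      exfalso
      refine hmax x (hrs'.2 x List.mem_cons_self) ?_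
      simp only [List.nil_append, isWeaklyRegular_singleton_iff]
      exact ((isWeaklyRegular_cons_iff M x xs).mp hrs'.1).1
  | cons x xs ih =>
    obtain ⟨hx, hxs⟩ := (isWeaklyRegular_cons_iff M x xs).mp hreg
    have hxI : x ∈ I := hmem x List.mem_cons_self
    have h' := smul_top_quotSMulTop_ne_top hxI h
    have ih' := ih (M := QuotSMulTop x M) h' hxs
      (fun r hr => hmem r (List.mem_cons_of_mem x hr))
      (fun r hr hcon => hmax r hr (by
        rw [List.cons_append, isWeaklyRegular_cons_iff]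
        exact ⟨hx, hcon⟩))
    rw [← idealDepth_quotSMulTop_add_one h hxI hx, ← ih']
    simp

theorem exists_maximal_isWeaklyRegular [IsNoetherianRing R] [Module.Finite R M]
    (h : I • (⊤ : Submodule R M) ≠ ⊤) :
    ∃ rs : List R, IsWeaklyRegular M rs ∧ (∀ r ∈ rs, r ∈ I) ∧
      (∀ r ∈ I, ¬ IsWeaklyRegular M (rs ++ [r])) ∧ (rs.length : ℕ∞) = idealDepth I M := by
  obtain ⟨rs, -, hreg, hmem, hmax⟩ :=
    exists_maximal_extension h [] (IsWeaklyRegular.nil R M) (by simp)
  exact ⟨rs, hreg, hmem, hmax, length_eq_idealDepth_of_maximal h rs hreg hmem hmax⟩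

theorem idealDepth_ne_top [IsNoetherianRing R] [Module.Finite R M]
    (h : I • (⊤ : Submodule R M) ≠ ⊤) : idealDepth I M ≠ ⊤ := by
  obtain ⟨rs, -, -, -, hlen⟩ := exists_maximal_isWeaklyRegular h
  rw [← hlen]; exact ENat.natCast_ne_top _

theorem idealDepth_eq_top_iff [IsNoetherianRing R] [Module.Finite R M] :
    idealDepth I M = ⊤ ↔ I • (⊤ : Submodule R M) = ⊤ :=
  ⟨fun h => by_contra fun h' => idealDepth_ne_top h' h, idealDepth_of_smul_top_eq I M⟩

end maximal

end Groth.Agent.Helper8.Depth
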