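import Groth.Agent.Lib.Helper8.LC10
import Groth.Agent.Lib.Helper8.Depth6
import Groth.Agent.Lib.Helper8.Depth5

set_option autoImplicit false
universe u
open CategoryTheory CategoryTheory.Limits Opposite

namespace Groth.Agent.Helper8.LC

variable {R : Type u} [CommRing R] (J : Ideal R)

open Abelian localCohomology LocCoh

section Inj

/-- the projection as a linear map -/
abbrev projL {n k : ℕ} (h : n ≤ k) : (R ⧸ J ^ k) →ₗ[R] (R ⧸ J ^ n) :=
  Submodule.mapQ _ _ LinearMap.id (Ideal.pow_le_pow_right h)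

lemma projL_surjective {n k : ℕ} (h : n ≤ k) : Function.Surjective (projL J h) := by
  intro x
  obtain ⟨x, rfl⟩ := Submodule.Quotient.mk_surjective _ x
  exact ⟨Submodule.Quotient.mk x, rfl⟩

instance {n k : ℕ} (h : n ≤ k) : Epi (proj J h) :=
  (ModuleCat.epi_iff_surjective _).mpr (projL_surjective J h)

lemma ι_injective_zero (n : ℕ) (M : ModuleCat.{u} R) : Function.Injective (ι J 0 n M) := by
  rw [injective_iff_map_eq_zero]
  intro e he
  obtain ⟨k, h, hk⟩ := (ι_eq_zero_iff J 0 M e).mp he
  have := Ext.precomp_mk₀_injective_of_epi M (proj J h)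
  apply this
  rw [map_zero]
  exact hk

lemma ι_injective_succ (n j : ℕ) (M : ModuleCat.{u} R)
    (hK : ∀ (k : ℕ) (h : n ≤ k),
      Subsingleton (Abelian.Ext (ModuleCat.of R (LinearMap.ker (projL J h))) M j)) :
    Function.Injective (ι J (j + 1) n M) := by
  rw [injective_iff_map_eq_zero]
  intro e he
  obtain ⟨k, h, hk⟩ := (ι_eq_zero_iff J (j + 1) M e).mp he
  have hS := LinearMap.shortExact_shortComplexKer (projL_surjective J h)
  obtain ⟨x₁, hx₁⟩ := Ext.contravariant_sequence_exact₃ hS M e hk (add_comm 1 j)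
  have := hK k h
  rw [← hx₁, Subsingleton.elim x₁ 0, Ext.comp_zero]

end Inj

section Depth

variable [IsNoetherianRing R] {M : Type u} [AddCommGroup M] [Module R M] [Module.Finite R M]

lemma support_subset_of_pow_le_annihilator (N : Type u) [AddCommGroup N] [Module R N]
    (hN : ∃ k, J ^ k ≤ Module.annihilator R N) :
    Module.support R N ⊆ PrimeSpectrum.zeroLocus J := by
  obtain ⟨k, hk⟩ := hN
  intro p hp
  have h1 := Module.annihilator_le_of_mem_support hp
  rw [PrimeSpectrum.mem_zeroLocus]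
  exact Ideal.IsPrime.le_of_pow_le (hk.trans h1)

lemma subsingleton_ext_of_lt_idealDepth (N : ModuleCat.{u} R) [Module.Finite R N]
    (hN : ∃ k, J ^ k ≤ Module.annihilator R N) (hJM : J • (⊤ : Submodule R M) ≠ ⊤) (i : ℕ)
    (hi : (i : ℕ∞) < idealDepth J M) :
    Subsingleton (Abelian.Ext N (ModuleCat.of R M) i) := by
  have h1 : ((i + 1 : ℕ) : ℕ∞) ≤ idealDepth J M := by
    rw [Nat.cast_add, Nat.cast_one]
    exact Order.add_one_le_of_lt hi
  obtain ⟨rs, hlen, hreg, hmem⟩ := (Depth.le_idealDepth_iff hJM (i + 1)).mp h1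
  have hreg' := Depth.isRegular_of_isWeaklyRegular_of_mem hJM hreg hmem
  exact ModuleCat.subsingleton_ext_of_exists_isRegular J N
    (support_subset_of_pow_le_annihilator J N hN) (ModuleCat.of R M)
    (lt_top_iff_ne_top.mpr hJM) rs hmem hreg' i (by omega)

lemma pow_le_annihilator_quotient (k : ℕ) : J ^ k ≤ Module.annihilator R (R ⧸ J ^ k) := by
  rw [Ideal.annihilator_quotient]

lemma pow_le_annihilator_ker {n k : ℕ} (h : n ≤ k) :
    J ^ k ≤ Module.annihilator R (LinearMap.ker (projL J h)) := by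
  intro a ha
  rw [Module.mem_annihilator]
  intro x
  apply Subtype.ext
  have := Module.mem_annihilator.mp (pow_le_annihilator_quotient J k ha) x.1
  exact this

lemma subsingleton_of_lt_idealDepth (hJM : J • (⊤ : Submodule R M) ≠ ⊤) (i : ℕ)
    (hi : (i : ℕ∞) < idealDepth J M) : Subsingleton (H J i M) := by
  refine ⟨fun x y => ?_⟩
  obtain ⟨n, e, rfl⟩ := ι_rep J i (ModuleCat.of R M) x
  obtain ⟨m, e', rfl⟩ := ι_rep J i (ModuleCat.of R M) y
  have h1 := subsingleton_ext_of_lt_idealDepth J (Q J n) ⟨n, pow_le_annihilator_quotient J n⟩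
    hJM i hi
  have h2 := subsingleton_ext_of_lt_idealDepth J (Q J m) ⟨m, pow_le_annihilator_quotient J m⟩
    hJM i hi
  rw [Subsingleton.elim e 0, Subsingleton.elim e' 0, map_zero, map_zero]

lemma nontrivial_of_idealDepth_eq (hJM : J • (⊤ : Submodule R M) ≠ ⊤) (n : ℕ)
    (hn : idealDepth J M = n) : Nontrivial (H J n M) := by
  have hJ1 : J ^ 1 = J := pow_one J
  have hd : idealDepth (J ^ 1) M = n := by rw [hJ1]; exact hn
  have hJM1 : (J ^ 1) • (⊤ : Submodule R M) ≠ ⊤ := by rw [hJ1]; exact hJM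
  have hnt := ((Depth.idealDepth_eq_iff_ext hJM1 n).mp hd).2
  have hinj : Function.Injective (ι J n 1 (ModuleCat.of R M)) := by
    cases n with
    | zero => exact ι_injective_zero J 1 _
    | succ j =>
      apply ι_injective_succ
      intro k h
      exact subsingleton_ext_of_lt_idealDepth J _ ⟨k, pow_le_annihilator_ker J h⟩ hJM j (by
        rw [hn]; exact_mod_cast Nat.lt_succ_self j)
  exact hinj.nontrivial

theorem idealDepth_eq_iff (hJM : J • (⊤ : Submodule R M) ≠ ⊤) (n : ℕ) :
    idealDepth J M = n ↔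
      ((∀ i : ℕ, i < n → Subsingleton (H J i M)) ∧ Nontrivial (H J n M)) := by
  constructor
  · intro hn
    exact ⟨fun i hi => subsingleton_of_lt_idealDepth J hJM i (by rw [hn]; exact_mod_cast hi),
      nontrivial_of_idealDepth_eq J hJM n hn⟩
  · rintro ⟨h1, h2⟩
    obtain ⟨d, hd⟩ := ENat.ne_top_iff_exists.mp (Depth.idealDepth_ne_top hJM)
    have hd' : idealDepth J M = d := hd.symm
    rw [hd']
    congr 1
    rcases lt_trichotomy d n with h | h | h
    · have := h1 d h
      have := nontrivial_of_idealDepth_eq J hJM d hd'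
      exact absurd ‹Subsingleton (H J d M)› (not_subsingleton _)
    · exact h
    · have := subsingleton_of_lt_idealDepth J hJM n (by rw [hd']; exact_mod_cast h)
      exact absurd this (not_subsingleton _)

end Depth

end Groth.Agent.Helper8.LC
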