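import Groth.Agent.Lib.Helper8.LC51
import Groth.Agent.Lib.Helper8.LC11

set_option autoImplicit false
universe u
open CategoryTheory CategoryTheory.Limits Opposite

namespace Groth.Agent.Helper8.LC

open LocCoh Abelian

variable {R : Type u} [CommRing R] [IsNoetherianRing R]

omit [IsNoetherianRing R] in
/-- a module killed by an element of `S` has trivial localization. -/
lemma subsingleton_localizedModule_of_smul_eq_zero (S : Submonoid R) (N : Type u)
    [AddCommGroup N] [Module R N] (s : R) (hs : s ∈ S) (h : ∀ x : N, s • x = 0) :
    Subsingleton (LocalizedModule S N) := by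
  apply subsingleton_of_forall_eq_zero
  intro z
  induction z using LocalizedModule.induction_on with
  | h x u =>
    rw [← LocalizedModule.zero_mk u, LocalizedModule.mk_eq]
    refine ⟨⟨s, hs⟩, ?_⟩
    change s • ((u : R) • x) = s • ((u : R) • (0 : N))
    rw [smul_zero, smul_zero, smul_comm, h x, smul_zero]

theorem not_le_radical_annihilator_H_idealDepth (a b : Ideal R) (M : Type u) [AddCommGroup M]
    [Module R M] [Module.Finite R M] (p : PrimeSpectrum R)
    (hb : ¬ b ≤ p.asIdeal) (t : ℕ)
    (ht : idealDepth (a.map (algebraMap R (Localization.AtPrime p.asIdeal)))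
      (LocalizedModule p.asIdeal.primeCompl M) = t) :
    ¬ b ≤ (Module.annihilator R (H a t M)).radical := by
  intro hle
  obtain ⟨s, hsb, hsp⟩ := Set.not_subset.mp hb
  obtain ⟨n, hn⟩ := hle hsb
  let S := p.asIdeal.primeCompl
  have hsS : s ^ n ∈ S := by
    change s ^ n ∉ p.asIdeal
    intro h
    exact hsp (p.isPrime.mem_of_pow_mem n h)
  have h0 : Subsingleton (LocalizedModule S (H a t M)) :=
    subsingleton_localizedModule_of_smul_eq_zero S _ (s ^ n) hsS
      (fun x => Module.mem_annihilator.mp hn x)
  obtain ⟨e⟩ := nonempty_localizedModule_H_equiv a S M t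
  have hJM : (a.map (algebraMap R (Localization.AtPrime p.asIdeal))) •
      (⊤ : Submodule (Localization.AtPrime p.asIdeal) (LocalizedModule S M)) ≠ ⊤ := by
    intro htop
    unfold idealDepth at ht
    rw [if_pos htop] at ht
    exact ENat.top_ne_natCast t ht
  have hnt := nontrivial_of_idealDepth_eq
    (a.map (algebraMap R (Localization.AtPrime p.asIdeal))) hJM t ht
  haveI := hnt
  haveI := h0
  exact not_subsingleton _ e.symm.toEquiv.subsingleton

end Groth.Agent.Helper8.LC
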