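import Groth.Agent.Lib.Helper8.NV4
import Groth.Agent.Lib.Helper8.LC51
import Groth.Agent.Lib.Helper8.LC53

set_option autoImplicit false
universe u
open CategoryTheory CategoryTheory.Limits Opposite

namespace Groth.Agent.Helper8.NV

open LocCoh Groth.Agent.Helper8.LC Abelian IsLocalRing

/-- a ring of finite dimension `d` has a prime `P` with `dim R/P = d`. -/
lemma exists_prime_dim_eq {R : Type u} [CommRing R] (d : ℕ)
    (hd : ringKrullDim R = (d : WithBot ℕ∞)) :
    ∃ P : PrimeSpectrum R, ringKrullDim (R ⧸ P.asIdeal) = (d : WithBot ℕ∞) := by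
  have h1 : (d : WithBot ℕ∞) ≤ Order.krullDim (PrimeSpectrum R) := hd.ge
  rw [Order.le_krullDim_iff] at h1
  obtain ⟨l, hl⟩ := h1
  refine ⟨l.head, ?_⟩
  rw [ringKrullDim_quotient_eq_coheight]
  apply le_antisymm
  · rw [← hd]
    exact Order.coheight_le_krullDim _
  · have := Order.length_le_coheight_head (p := l)
    rw [hl] at this
    exact_mod_cast this

section Local

variable {R : Type u} [CommRing R] [IsNoetherianRing R] [IsLocalRing R]

/-- non-vanishing for `R ⧸ p` as an `R`-module. -/
theorem nontrivial_H_quotient_prime (p : Ideal R) [p.IsPrime] (d : ℕ)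
    (hd : ringKrullDim (R ⧸ p) = (d : WithBot ℕ∞)) :
    Nontrivial (H (maximalIdeal R) d (R ⧸ p)) := by
  haveI := isLocalRing_quotient p
  have hnt : Nontrivial (H (maximalIdeal (R ⧸ p)) d (R ⧸ p)) :=
    nontrivial_H_dim_of_domain d (R ⧸ p) hd
  rw [← map_maximalIdeal_quotient p] at hnt
  obtain ⟨φ, -⟩ := exists_semilinear_equiv (R := R) (R' := R ⧸ p) (maximalIdeal R) d (R ⧸ p)
  exact φ.symm.toEquiv.nontrivial

/-- Grothendieck's non-vanishing theorem for the ring itself. -/
theorem nontrivial_H_dim (d : ℕ) (hd : ringKrullDim R = (d : WithBot ℕ∞)) :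
    Nontrivial (H (maximalIdeal R) d R) := by
  obtain ⟨P, hP⟩ := exists_prime_dim_eq d hd
  let p := P.asIdeal
  haveI : p.IsPrime := P.isPrime
  haveI := nontrivial_H_quotient_prime p d hP
  let m := maximalIdeal R
  have hcd : CdLE R m d := cdLE_of_ringKrullDim_le m d hd.le
  have hS := sesSub_shortExact (p : Submodule R R)
  have hq1 : Subsingleton (H m (d + 1) p) := hcd p (d + 1) (Nat.lt_succ_self d)
  have hsurjπ : Function.Surjective
      ((localCohomology m d).map (sesSub (p : Submodule R R)).g) := by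
    intro y
    have h1 : δ m d hS y = 0 := hq1.elim _ _
    exact (exact_g_δ m d hS y).mp h1
  exact hsurjπ.nontrivial

/-- if `√(p + I)` is the maximal ideal and `dim R/p = d ≥ 1` then `cd I ≥ d`. -/
theorem not_cdLE_of_prime (I : Ideal R) (p : Ideal R) [p.IsPrime]
    (hpI : (p ⊔ I).radical = maximalIdeal R) (d : ℕ)
    (hd : ringKrullDim (R ⧸ p) = (d : WithBot ℕ∞)) (hd1 : 1 ≤ d) : ¬ CdLE R I (d - 1) := by
  intro hcd
  haveI := isLocalRing_quotient p
  have h0 : Subsingleton (H I d (R ⧸ p)) := hcd (R ⧸ p) d (by omega)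
  obtain ⟨φ, -⟩ := exists_semilinear_equiv (R := R) (R' := R ⧸ p) I d (R ⧸ p)
  haveI : Subsingleton (H (I.map (algebraMap R (R ⧸ p))) d (R ⧸ p)) := φ.toEquiv.subsingleton
  have hrad : (I.map (algebraMap R (R ⧸ p))).radical = (maximalIdeal (R ⧸ p)).radical := by
    rw [← map_maximalIdeal_quotient p, ← hpI]
    have hsurj : Function.Surjective (algebraMap R (R ⧸ p)) := Ideal.Quotient.mk_surjective
    have hker : RingHom.ker (algebraMap R (R ⧸ p)) ≤ p ⊔ I := by
      intro x hx
      apply Ideal.mem_sup_left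
      rw [RingHom.mem_ker] at hx
      exact Ideal.Quotient.eq_zero_iff_mem.mp hx
    rw [Ideal.map_radical_of_surjective hsurj hker, Ideal.radical_idem, Ideal.map_sup]
    have hp0 : p.map (algebraMap R (R ⧸ p)) = ⊥ := by
      rw [Ideal.map_eq_bot_iff_le_ker]
      intro x hx
      rw [RingHom.mem_ker]
      exact Ideal.Quotient.eq_zero_iff_mem.mpr hx
    rw [hp0, bot_sup_eq]
  let e := (localCohomology.isoOfSameRadical hrad d).app (ModuleCat.of (R ⧸ p) (R ⧸ p))
  haveI : Subsingleton (H (maximalIdeal (R ⧸ p)) d (R ⧸ p)) :=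
    e.symm.toLinearEquiv.toEquiv.subsingleton
  have hnt : Nontrivial (H (maximalIdeal (R ⧸ p)) d (R ⧸ p)) :=
    nontrivial_H_dim_of_domain d (R ⧸ p) hd
  exact not_subsingleton _ ‹_›

end Local

section Height

variable {R : Type u} [CommRing R] [IsNoetherianRing R]

/-- non-vanishing at the height of a minimal prime. -/
theorem nontrivial_H_of_mem_minimalPrimes (I : Ideal R) (p : Ideal R)
    (hp : p ∈ I.minimalPrimes) (h : ℕ) (hh : p.height = h) : Nontrivial (H I h R) := by
  haveI : p.IsPrime := hp.1.1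
  let S := p.primeCompl
  let A := Localization.AtPrime p
  have hdim : ringKrullDim A = (h : WithBot ℕ∞) := by
    rw [IsLocalization.AtPrime.ringKrullDim_eq_height p A, hh]
    rfl
  have hnt : Nontrivial (H (maximalIdeal A) h A) := nontrivial_H_dim h hdim
  have hrad : (I.map (algebraMap R A)).radical = (maximalIdeal A).radical := by
    rw [IsLocalization.AtPrime.radical_map_of_mem_minimalPrimes A p I hp,
      IsLocalization.AtPrime.map_eq_maximalIdeal p A]
    exact (Ideal.IsPrime.radical (Ideal.IsMaximal.isPrime' _)).symm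
  let e := (localCohomology.isoOfSameRadical hrad h).app (ModuleCat.of A A)
  haveI : Nontrivial (H (I.map (algebraMap R A)) h A) := e.toLinearEquiv.toEquiv.nontrivial
  -- compare `LocalizedModule S R` with `A`
  let ε₀ : LocalizedModule S R ≃ₗ[R] A :=
    IsLocalizedModule.linearEquiv S (LocalizedModule.mkLinearMap S R) (Algebra.linearMap R A)
  let ε : LocalizedModule S R ≃ₗ[A] A := LinearEquiv.extendScalarsOfIsLocalization S A ε₀
  let e₂ := (localCohomology (I.map (algebraMap R A)) h).mapIso ε.toModuleIso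
  haveI : Nontrivial (H (I.map (algebraMap R A)) h (LocalizedModule S R)) :=
    e₂.toLinearEquiv.toEquiv.nontrivial
  obtain ⟨e₃⟩ := nonempty_localizedModule_H_equiv I S R h
  haveI : Nontrivial (LocalizedModule S (H I h R)) := e₃.toEquiv.nontrivial
  by_contra hcon
  rw [not_nontrivial_iff_subsingleton] at hcon
  have : Subsingleton (LocalizedModule S (H I h R)) :=
    subsingleton_localizedModule_of_smul_eq_zero S _ 1 S.one_mem (fun x => by
      rw [one_smul]; exact hcon.elim _ _)
  exact not_subsingleton _ this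

theorem nontrivial_H_height (I : Ideal R) (h : ℕ) (hh : I.height = h) :
    Nontrivial (H I h R) := by
  have hI := hh
  rw [Ideal.height_eq_inf_minimalPrimes] at hI
  simp only [ENat.iInf_eq_natCast_iff] at hI
  rcases hI with ⟨⟨p, ⟨hpmin, hph⟩, -⟩, -⟩
  exact nontrivial_H_of_mem_minimalPrimes I p hpmin h hph

end Height

end Groth.Agent.Helper8.NV
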