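import Mathlib

/-!
# The long exact homology sequence of a mapping cone, in concrete form
-/

namespace Groth.Agent.Helper8.KoszulLib

open CategoryTheory CategoryTheory.Limits CochainComplex HomotopyCategory

universe u v

variable {C : Type u} [Category.{v} C] [Abelian C]

/-- Abbreviation for the comparison of the two homology functors. -/
noncomputable abbrev hff (n : ℤ) (K : CochainComplex C ℤ) :
    (homologyFunctor C (ComplexShape.up ℤ) n).obj ((quotient C (ComplexShape.up ℤ)).obj K) ≅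
      K.homology n :=
  (homologyFunctorFactors C (ComplexShape.up ℤ) n).app K

theorem hff_nat {K L : CochainComplex C ℤ} (ψ : K ⟶ L) (n : ℤ) :
    (homologyFunctor C (ComplexShape.up ℤ) n).map ((quotient C (ComplexShape.up ℤ)).map ψ) ≫
      (hff n L).hom = (hff n K).hom ≫ HomologicalComplex.homologyMap ψ n :=
  (homologyFunctorFactors C (ComplexShape.up ℤ) n).hom.naturality ψ

theorem hff_nat' {K L : CochainComplex C ℤ} (ψ : K ⟶ L) (n : ℤ) :
    HomologicalComplex.homologyMap ψ n ≫ (hff n L).inv = (hff n K).inv ≫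
      (homologyFunctor C (ComplexShape.up ℤ) n).map ((quotient C (ComplexShape.up ℤ)).map ψ) :=
  (homologyFunctorFactors C (ComplexShape.up ℤ) n).inv.naturality ψ

variable {F G : CochainComplex C ℤ} (φ : F ⟶ G)

/-- The abstract connecting map. -/
noncomputable def coneδ' (n₀ n₁ : ℤ) (h : n₀ + 1 = n₁) :
    (homologyFunctor C (ComplexShape.up ℤ) n₀).obj
        ((quotient C (ComplexShape.up ℤ)).obj (mappingCone φ)) ⟶
      (homologyFunctor C (ComplexShape.up ℤ) n₁).obj ((quotient C (ComplexShape.up ℤ)).obj F) :=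
  (homologyFunctor C (ComplexShape.up ℤ) 0).homologySequenceδ (mappingCone.triangleh φ) n₀ n₁ h

/-- The connecting map `H^n(cone φ) ⟶ H^{n+1}(F)`. -/
noncomputable def coneδ (n₀ n₁ : ℤ) (h : n₀ + 1 = n₁) :
    (mappingCone φ).homology n₀ ⟶ F.homology n₁ :=
  (hff n₀ (mappingCone φ)).inv ≫ coneδ' φ n₀ n₁ h ≫ (hff n₁ F).hom

theorem abs_comp₂ (n : ℤ) :
    (homologyFunctor C (ComplexShape.up ℤ) n).map ((quotient C (ComplexShape.up ℤ)).map φ) ≫
      (homologyFunctor C (ComplexShape.up ℤ) n).map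
        ((quotient C (ComplexShape.up ℤ)).map (mappingCone.inr φ)) = 0 :=
  (homologyFunctor C (ComplexShape.up ℤ) 0).homologySequence_comp
    (mappingCone.triangleh φ) (mappingCone_triangleh_distinguished φ) n

theorem abs_exact₂ (n : ℤ) : (ShortComplex.mk _ _ (abs_comp₂ φ n)).Exact :=
  (homologyFunctor C (ComplexShape.up ℤ) 0).homologySequence_exact₂
    (mappingCone.triangleh φ) (mappingCone_triangleh_distinguished φ) n

theorem abs_comp₃ (n₀ n₁ : ℤ) (h : n₀ + 1 = n₁) :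
    (homologyFunctor C (ComplexShape.up ℤ) n₀).map
        ((quotient C (ComplexShape.up ℤ)).map (mappingCone.inr φ)) ≫ coneδ' φ n₀ n₁ h = 0 :=
  (homologyFunctor C (ComplexShape.up ℤ) 0).comp_homologySequenceδ
    (mappingCone.triangleh φ) (mappingCone_triangleh_distinguished φ) n₀ n₁ h

theorem abs_exact₃ (n₀ n₁ : ℤ) (h : n₀ + 1 = n₁) :
    (ShortComplex.mk _ _ (abs_comp₃ φ n₀ n₁ h)).Exact :=
  (homologyFunctor C (ComplexShape.up ℤ) 0).homologySequence_exact₃
    (mappingCone.triangleh φ) (mappingCone_triangleh_distinguished φ) n₀ n₁ h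

theorem abs_comp₁ (n₀ n₁ : ℤ) (h : n₀ + 1 = n₁) :
    coneδ' φ n₀ n₁ h ≫
      (homologyFunctor C (ComplexShape.up ℤ) n₁).map ((quotient C (ComplexShape.up ℤ)).map φ) = 0 :=
  (homologyFunctor C (ComplexShape.up ℤ) 0).homologySequenceδ_comp
    (mappingCone.triangleh φ) (mappingCone_triangleh_distinguished φ) n₀ n₁ h

theorem abs_exact₁ (n₀ n₁ : ℤ) (h : n₀ + 1 = n₁) :
    (ShortComplex.mk _ _ (abs_comp₁ φ n₀ n₁ h)).Exact :=
  (homologyFunctor C (ComplexShape.up ℤ) 0).homologySequence_exact₁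
    (mappingCone.triangleh φ) (mappingCone_triangleh_distinguished φ) n₀ n₁ h

theorem cone_comp₂ (n : ℤ) :
    HomologicalComplex.homologyMap φ n ≫
      HomologicalComplex.homologyMap (mappingCone.inr φ) n = 0 := by
  rw [← cancel_epi (hff n F).hom, ← reassoc_of% (hff_nat φ n), ← hff_nat (mappingCone.inr φ) n,
    reassoc_of% (abs_comp₂ φ n), zero_comp, comp_zero]

theorem cone_exact₂ (n : ℤ) :
    (ShortComplex.mk _ _ (cone_comp₂ φ n)).Exact := by
  refine ShortComplex.exact_of_iso ?_ (abs_exact₂ φ n)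
  exact ShortComplex.isoMk (hff n F) (hff n G) (hff n (mappingCone φ))
    (hff_nat φ n).symm (hff_nat (mappingCone.inr φ) n).symm

theorem cone_comp₃ (n₀ n₁ : ℤ) (h : n₀ + 1 = n₁) :
    HomologicalComplex.homologyMap (mappingCone.inr φ) n₀ ≫ coneδ φ n₀ n₁ h = 0 := by
  unfold coneδ
  rw [reassoc_of% (hff_nat' (mappingCone.inr φ) n₀), reassoc_of% (abs_comp₃ φ n₀ n₁ h),
    zero_comp, comp_zero]

theorem cone_exact₃ (n₀ n₁ : ℤ) (h : n₀ + 1 = n₁) :
    (ShortComplex.mk _ _ (cone_comp₃ φ n₀ n₁ h)).Exact := by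
  refine ShortComplex.exact_of_iso ?_ (abs_exact₃ φ n₀ n₁ h)
  refine ShortComplex.isoMk (hff n₀ G) (hff n₀ (mappingCone φ)) (hff n₁ F)
    (hff_nat (mappingCone.inr φ) n₀).symm ?_
  dsimp only
  unfold coneδ
  rw [Iso.hom_inv_id_assoc]

theorem cone_comp₁ (n₀ n₁ : ℤ) (h : n₀ + 1 = n₁) :
    coneδ φ n₀ n₁ h ≫ HomologicalComplex.homologyMap φ n₁ = 0 := by
  unfold coneδ
  simp only [Category.assoc]
  rw [← hff_nat φ n₁, reassoc_of% (abs_comp₁ φ n₀ n₁ h), zero_comp, comp_zero]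

theorem cone_exact₁ (n₀ n₁ : ℤ) (h : n₀ + 1 = n₁) :
    (ShortComplex.mk _ _ (cone_comp₁ φ n₀ n₁ h)).Exact := by
  refine ShortComplex.exact_of_iso ?_ (abs_exact₁ φ n₀ n₁ h)
  refine ShortComplex.isoMk (hff n₀ (mappingCone φ)) (hff n₁ F) (hff n₁ G) ?_
    (hff_nat φ n₁).symm
  dsimp only
  unfold coneδ
  rw [Iso.hom_inv_id_assoc]

end Groth.Agent.Helper8.KoszulLib
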