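import Mathlib
import Groth.Agent.Lib.Helper8.Koszul1

/-!
# The cone of multiplication by a scalar on a complex of modules: homology
-/

namespace Groth.Agent.Helper8.KoszulLib

open CategoryTheory CategoryTheory.Limits CochainComplex

universe u

variable {A : Type u} [CommRing A]

set_option backward.isDefEq.respectTransparency false in
theorem homologyMap_smul' {K L : CochainComplex (ModuleCat.{u} A) ℤ} (a : A) (φ : K ⟶ L) (n : ℤ) :
    HomologicalComplex.homologyMap (a • φ) n = a • HomologicalComplex.homologyMap φ n := by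
  dsimp [HomologicalComplex.homologyMap]
  rw [← ShortComplex.homologyMap_smul]
  rfl

theorem homologyMap_smul_id (K : CochainComplex (ModuleCat.{u} A) ℤ) (a : A) (n : ℤ) :
    HomologicalComplex.homologyMap (a • 𝟙 K) n = a • 𝟙 (K.homology n) := by
  rw [homologyMap_smul', HomologicalComplex.homologyMap_id]

theorem smul_id_hom (X : ModuleCat.{u} A) (a : A) (x : X) : (a • 𝟙 X : X ⟶ X).hom x = a • x := rfl

/-- The long exact sequence of the cone of `a • 𝟙 K`, packaged with linear maps. -/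
theorem exists_exact_cone (K : CochainComplex (ModuleCat.{u} A) ℤ) (a : A) (n₀ n₁ : ℤ)
    (h : n₀ + 1 = n₁) :
    ∃ (i : K.homology n₀ →ₗ[A] (mappingCone (a • 𝟙 K)).homology n₀)
      (δ : (mappingCone (a • 𝟙 K)).homology n₀ →ₗ[A] K.homology n₁),
      Function.Exact (a • (LinearMap.id : K.homology n₀ →ₗ[A] K.homology n₀)) i ∧
      Function.Exact i δ ∧
      Function.Exact δ (a • (LinearMap.id : K.homology n₁ →ₗ[A] K.homology n₁)) := by
  have e : ∀ n, (HomologicalComplex.homologyMap (a • 𝟙 K) n).hom =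
      a • (LinearMap.id : K.homology n →ₗ[A] K.homology n) := by
    intro n
    rw [homologyMap_smul_id]
    rfl
  have h1 : Function.Exact (HomologicalComplex.homologyMap (a • 𝟙 K) n₀).hom
      (HomologicalComplex.homologyMap (mappingCone.inr (a • 𝟙 K)) n₀).hom :=
    (ShortComplex.ShortExact.moduleCat_exact_iff_function_exact _).mp
      (cone_exact₂ (a • 𝟙 K) n₀)
  have h2 : Function.Exact (HomologicalComplex.homologyMap (mappingCone.inr (a • 𝟙 K)) n₀).hom
      (coneδ (a • 𝟙 K) n₀ n₁ h).hom :=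
    (ShortComplex.ShortExact.moduleCat_exact_iff_function_exact _).mp
      (cone_exact₃ (a • 𝟙 K) n₀ n₁ h)
  have h3 : Function.Exact (coneδ (a • 𝟙 K) n₀ n₁ h).hom
      (HomologicalComplex.homologyMap (a • 𝟙 K) n₁).hom :=
    (ShortComplex.ShortExact.moduleCat_exact_iff_function_exact _).mp
      (cone_exact₁ (a • 𝟙 K) n₀ n₁ h)
  rw [e] at h1 h3
  exact ⟨_, _, h1, h2, h3⟩

section algebra

variable {X B Y : Type*} [AddCommGroup X] [AddCommGroup B] [AddCommGroup Y]
  [Module A X] [Module A B] [Module A Y]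

/-- From an exact sequence `X --a--> X --i--> B --δ--> Y --a--> Y` with `a` surjective on `X`:
`B ≃ ker (a on Y)`. -/
theorem nonempty_equiv_ker_of_exact (a : A) (i : X →ₗ[A] B) (δ : B →ₗ[A] Y)
    (h1 : Function.Exact (a • (LinearMap.id : X →ₗ[A] X)) i) (h2 : Function.Exact i δ)
    (h3 : Function.Exact δ (a • (LinearMap.id : Y →ₗ[A] Y)))
    (hs : Function.Surjective (a • (LinearMap.id : X →ₗ[A] X))) :
    Nonempty (B ≃ₗ[A] LinearMap.ker (a • (LinearMap.id : Y →ₗ[A] Y))) := by
  have hi : ∀ x, i x = 0 := by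
    intro x
    obtain ⟨x', rfl⟩ := hs x
    exact (h1 _).mpr ⟨x', rfl⟩
  have hδ : Function.Injective δ := by
    rw [injective_iff_map_eq_zero]
    intro b hb
    obtain ⟨x, rfl⟩ := (h2 b).mp hb
    exact hi x
  have hr : LinearMap.range δ = LinearMap.ker (a • (LinearMap.id : Y →ₗ[A] Y)) := by
    ext y
    rw [LinearMap.mem_ker, h3 y]
    rfl
  exact ⟨(LinearEquiv.ofInjective δ hδ).trans (LinearEquiv.ofEq _ _ hr)⟩

/-- From an exact sequence `X --a--> X --i--> B --δ--> Y --a--> Y` with `a` injective on `Y`: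
`B ≃ X / a X`. -/
theorem nonempty_equiv_coker_of_exact (a : A) (i : X →ₗ[A] B) (δ : B →ₗ[A] Y)
    (h1 : Function.Exact (a • (LinearMap.id : X →ₗ[A] X)) i) (h2 : Function.Exact i δ)
    (h3 : Function.Exact δ (a • (LinearMap.id : Y →ₗ[A] Y)))
    (hs : Function.Injective (a • (LinearMap.id : Y →ₗ[A] Y))) :
    Nonempty (B ≃ₗ[A] X ⧸ LinearMap.range (a • (LinearMap.id : X →ₗ[A] X))) := by
  have hδ : ∀ b, δ b = 0 := by
    intro b
    apply hs
    rw [map_zero]
    exact (h3 _).mpr ⟨b, rfl⟩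
  have hi : Function.Surjective i := by
    intro b
    exact (h2 b).mp (hδ b)
  have hk : LinearMap.ker i = LinearMap.range (a • (LinearMap.id : X →ₗ[A] X)) := by
    ext x
    rw [LinearMap.mem_ker, h1 x]
    rfl
  exact ⟨((Submodule.quotEquivOfEq _ _ hk.symm).trans
    (LinearMap.quotKerEquivOfSurjective i hi)).symm⟩

theorem subsingleton_of_exact (a : A) (i : X →ₗ[A] B) (δ : B →ₗ[A] Y)
    (h1 : Function.Exact (a • (LinearMap.id : X →ₗ[A] X)) i) (h2 : Function.Exact i δ)
    (h3 : Function.Exact δ (a • (LinearMap.id : Y →ₗ[A] Y)))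
    (hs : Function.Surjective (a • (LinearMap.id : X →ₗ[A] X)))
    (hi : Function.Injective (a • (LinearMap.id : Y →ₗ[A] Y))) : Subsingleton B := by
  obtain ⟨e⟩ := nonempty_equiv_ker_of_exact a i δ h1 h2 h3 hs
  have : Subsingleton (LinearMap.ker (a • (LinearMap.id : Y →ₗ[A] Y))) := by
    rw [LinearMap.ker_eq_bot.mpr hi]
    infer_instance
  exact e.toEquiv.subsingleton

end algebra

variable (K : CochainComplex (ModuleCat.{u} A) ℤ) (a : A)

theorem isZero_cone_homology (n₀ n₁ : ℤ) (h : n₀ + 1 = n₁)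
    (hs : Function.Surjective (a • (LinearMap.id : K.homology n₀ →ₗ[A] K.homology n₀)))
    (hi : Function.Injective (a • (LinearMap.id : K.homology n₁ →ₗ[A] K.homology n₁))) :
    IsZero ((mappingCone (a • 𝟙 K)).homology n₀) := by
  obtain ⟨i, δ, h1, h2, h3⟩ := exists_exact_cone K a n₀ n₁ h
  have := subsingleton_of_exact a i δ h1 h2 h3 hs hi
  exact ModuleCat.isZero_of_subsingleton _

theorem isZero_cone_homology_of_isZero (n₀ n₁ : ℤ) (h : n₀ + 1 = n₁)
    (h0 : IsZero (K.homology n₀)) (h1 : IsZero (K.homology n₁)) :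
    IsZero ((mappingCone (a • 𝟙 K)).homology n₀) := by
  have s0 : Subsingleton (K.homology n₀) := ModuleCat.subsingleton_of_isZero h0
  have s1 : Subsingleton (K.homology n₁) := ModuleCat.subsingleton_of_isZero h1
  apply isZero_cone_homology K a n₀ n₁ h
  · intro x; exact ⟨0, Subsingleton.elim _ _⟩
  · intro x y _; exact Subsingleton.elim _ _

theorem nonempty_cone_homology_equiv_ker (n₀ n₁ : ℤ) (h : n₀ + 1 = n₁)
    (hs : Function.Surjective (a • (LinearMap.id : K.homology n₀ →ₗ[A] K.homology n₀))) :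
    Nonempty ((mappingCone (a • 𝟙 K)).homology n₀ ≃ₗ[A]
      LinearMap.ker (a • (LinearMap.id : K.homology n₁ →ₗ[A] K.homology n₁))) := by
  obtain ⟨i, δ, h1, h2, h3⟩ := exists_exact_cone K a n₀ n₁ h
  exact nonempty_equiv_ker_of_exact a i δ h1 h2 h3 hs

theorem nonempty_cone_homology_equiv_coker (n₀ n₁ : ℤ) (h : n₀ + 1 = n₁)
    (hi : Function.Injective (a • (LinearMap.id : K.homology n₁ →ₗ[A] K.homology n₁))) :
    Nonempty ((mappingCone (a • 𝟙 K)).homology n₀ ≃ₗ[A]
      K.homology n₀ ⧸ LinearMap.range (a • (LinearMap.id : K.homology n₀ →ₗ[A] K.homology n₀))) := by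
  obtain ⟨i, δ, h1, h2, h3⟩ := exists_exact_cone K a n₀ n₁ h
  exact nonempty_equiv_coker_of_exact a i δ h1 h2 h3 hi

end Groth.Agent.Helper8.KoszulLib
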