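import Mathlib
import Groth.Prelude.Def_ega3
import Groth.Agent.Lib.Helper8.Koszul2

/-!
# Basic structure of the Koszul cohomology of the mapping-cone Koszul complex
-/

namespace Groth.Agent.Helper8.KoszulLib

open CategoryTheory CategoryTheory.Limits CochainComplex CohIII
open scoped Pointwise

universe u

variable {A : Type u} [CommRing A]

theorem koszulCx_nil (M : ModuleCat.{u} A) :
    koszulCx M [] = (HomologicalComplex.single (ModuleCat.{u} A) (ComplexShape.up ℤ) 0).obj M := rfl

theorem koszulCx_cons (M : ModuleCat.{u} A) (f : A) (fs : List A) :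
    koszulCx M (f :: fs) = mappingCone (f • 𝟙 (koszulCx M fs)) := rfl

/-- Koszul cohomology vanishes in positive degrees. -/
theorem isZero_homology_of_pos (M : ModuleCat.{u} A) (fs : List A) :
    ∀ n : ℤ, 0 < n → IsZero ((koszulCx M fs).homology n) := by
  induction fs with
  | nil =>
    intro n hn
    exact HomologicalComplex.isZero_single_obj_homology _ _ _ _ (by omega)
  | cons f fs ih =>
    intro n hn
    exact isZero_cone_homology_of_isZero (koszulCx M fs) f n (n + 1) rfl (ih n hn)
      (ih (n + 1) (by omega))

/-- Koszul cohomology vanishes in degrees below `-r`. -/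
theorem isZero_homology_of_lt (M : ModuleCat.{u} A) (fs : List A) :
    ∀ n : ℤ, n < -(fs.length : ℤ) → IsZero ((koszulCx M fs).homology n) := by
  induction fs with
  | nil =>
    intro n hn
    simp only [List.length_nil, Nat.cast_zero, neg_zero] at hn
    exact HomologicalComplex.isZero_single_obj_homology _ _ _ _ (by omega)
  | cons f fs ih =>
    intro n hn
    simp only [List.length_cons, Nat.cast_add, Nat.cast_one] at hn
    exact isZero_cone_homology_of_isZero (koszulCx M fs) f n (n + 1) rfl (ih n (by omega))
      (ih (n + 1) (by omega))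

theorem range_smul_id_eq (X : Type*) [AddCommGroup X] [Module A X] (a : A) :
    LinearMap.range (a • (LinearMap.id : X →ₗ[A] X)) = a • (⊤ : Submodule A X) := by
  ext x
  rw [Submodule.mem_smul_pointwise_iff_exists]
  constructor
  · rintro ⟨y, rfl⟩; exact ⟨y, trivial, rfl⟩
  · rintro ⟨y, -, rfl⟩; exact ⟨y, rfl⟩

/-- Top Koszul cohomology is `M / (fs) M`. -/
theorem nonempty_homology_zero_equiv (M : Type u) [AddCommGroup M] [Module A M] (fs : List A) :
    Nonempty ((koszulCx (ModuleCat.of A M) fs).homology 0 ≃ₗ[A]
      (M ⧸ (Ideal.ofList fs • (⊤ : Submodule A M)))) := by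
  induction fs with
  | nil =>
    have e1 : (koszulCx (ModuleCat.of A M) []).homology 0 ≃ₗ[A] M :=
      (HomologicalComplex.singleObjHomologySelfIso (ComplexShape.up ℤ) 0
        (ModuleCat.of A M)).toLinearEquiv
    have h0 : (Ideal.ofList ([] : List A) • (⊤ : Submodule A M)) = ⊥ := by
      rw [Ideal.ofList_nil, Submodule.bot_smul]
    exact ⟨e1.trans (Submodule.quotEquivOfEqBot _ h0).symm⟩
  | cons f fs ih =>
    obtain ⟨e⟩ := ih
    set K := koszulCx (ModuleCat.of A M) fs with hK
    have h1 : IsZero (K.homology (0 + 1)) := isZero_homology_of_pos _ fs _ (by omega)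
    have s1 : Subsingleton (K.homology (0 + 1)) := ModuleCat.subsingleton_of_isZero h1
    obtain ⟨e2⟩ := nonempty_cone_homology_equiv_coker K f 0 (0 + 1) rfl
      (fun x y _ => Subsingleton.elim _ _)
    -- K.homology 0 / f ≃ (M/(fs)M)/f
    have e3 : (K.homology 0 ⧸ LinearMap.range (f • (LinearMap.id :
        K.homology 0 →ₗ[A] K.homology 0))) ≃ₗ[A]
        QuotSMulTop f (M ⧸ (Ideal.ofList fs • (⊤ : Submodule A M))) := by
      refine Submodule.Quotient.equiv _ _ e ?_
      rw [range_smul_id_eq, Submodule.map_pointwise_smul, Submodule.map_top,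
        LinearEquiv.range]
    exact ⟨e2.trans (e3.trans
      (Submodule.quotOfListConsSMulTopEquivQuotSMulTopOuter M f fs).symm)⟩

/-- The submodule of elements killed by all members of a list. -/
def annSub (M : Type u) [AddCommGroup M] [Module A M] (fs : List A) : Submodule A M where
  carrier := {m | ∀ f ∈ fs, f • m = 0}
  add_mem' := by
    intro a b ha hb f hf
    rw [smul_add, ha f hf, hb f hf, add_zero]
  zero_mem' := by
    intro f _; exact smul_zero f
  smul_mem' := by
    intro c x hx f hf
    rw [smul_comm, hx f hf, smul_zero]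

theorem mem_annSub (M : Type u) [AddCommGroup M] [Module A M] (fs : List A) (m : M) :
    m ∈ annSub M fs ↔ ∀ f ∈ fs, f • m = 0 := Iff.rfl

/-- Bottom Koszul cohomology is the submodule killed by `fs`. -/
theorem nonempty_homology_bot_equiv (M : Type u) [AddCommGroup M] [Module A M] (fs : List A) :
    Nonempty ((koszulCx (ModuleCat.of A M) fs).homology (-(fs.length : ℤ)) ≃ₗ[A]
      annSub M fs) := by
  induction fs with
  | nil =>
    have e1 : (koszulCx (ModuleCat.of A M) []).homology 0 ≃ₗ[A] M :=
      (HomologicalComplex.singleObjHomologySelfIso (ComplexShape.up ℤ) 0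
        (ModuleCat.of A M)).toLinearEquiv
    have h0 : annSub M ([] : List A) = ⊤ := by
      ext m; simp [mem_annSub]
    simp only [List.length_nil, Nat.cast_zero, neg_zero]
    exact ⟨e1.trans ((LinearEquiv.ofTop _ h0).symm)⟩
  | cons f fs ih =>
    obtain ⟨e⟩ := ih
    set K := koszulCx (ModuleCat.of A M) fs with hK
    have hn : -(((f :: fs).length : ℕ) : ℤ) + 1 = -(fs.length : ℤ) := by
      simp only [List.length_cons, Nat.cast_add, Nat.cast_one]; ring
    have h1 : IsZero (K.homology (-(((f :: fs).length : ℕ) : ℤ))) :=
      isZero_homology_of_lt _ fs _ (by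
        simp only [List.length_cons, Nat.cast_add, Nat.cast_one]; omega)
    have s1 : Subsingleton (K.homology (-(((f :: fs).length : ℕ) : ℤ))) :=
      ModuleCat.subsingleton_of_isZero h1
    obtain ⟨e2⟩ := nonempty_cone_homology_equiv_ker K f (-(((f :: fs).length : ℕ) : ℤ))
      (-(fs.length : ℤ)) hn (fun x => ⟨0, Subsingleton.elim _ _⟩)
    -- ker (f on K.homology (-r)) ≃ ker (f on annSub M fs) ≃ annSub M (f :: fs)
    have e3 : LinearMap.ker (f • (LinearMap.id :
        K.homology (-(fs.length : ℤ)) →ₗ[A] K.homology (-(fs.length : ℤ)))) ≃ₗ[A]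
        annSub M (f :: fs) := by
      refine LinearEquiv.ofBijective
        (LinearMap.codRestrict (annSub M (f :: fs))
          ((annSub M fs).subtype ∘ₗ e.toLinearMap ∘ₗ (LinearMap.ker _).subtype) ?_) ⟨?_, ?_⟩
      · rintro ⟨x, hx⟩
        rw [LinearMap.mem_ker] at hx
        intro g hg
        simp only [LinearMap.coe_comp, Function.comp_apply, Submodule.coe_subtype,
          LinearEquiv.coe_coe]
        rcases List.mem_cons.mp hg with rfl | hg'
        · have : g • x = 0 := hx
          rw [← Submodule.coe_smul, ← map_smul, this, map_zero, Submodule.coe_zero]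
        · exact (e x).2 g hg'
      · intro x y hxy
        have := congrArg Subtype.val hxy
        simp only [LinearMap.codRestrict_apply, LinearMap.coe_comp, Function.comp_apply,
          Submodule.coe_subtype, LinearEquiv.coe_coe] at this
        exact Subtype.ext (e.injective (Subtype.ext this))
      · rintro ⟨m, hm⟩
        have hm' : m ∈ annSub M fs := fun g hg => hm g (List.mem_cons_of_mem _ hg)
        refine ⟨⟨e.symm ⟨m, hm'⟩, ?_⟩, ?_⟩
        · rw [LinearMap.mem_ker]
          show f • e.symm ⟨m, hm'⟩ = 0
          rw [← map_smul]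
          have : f • (⟨m, hm'⟩ : annSub M fs) = 0 := by
            apply Subtype.ext
            exact hm f List.mem_cons_self
          rw [this, map_zero]
        · apply Subtype.ext
          simp
    exact ⟨e2.trans e3⟩

end Groth.Agent.Helper8.KoszulLib

namespace Groth.Agent.Helper8.KoszulLib

open CategoryTheory CategoryTheory.Limits CochainComplex CohIII

universe u

variable {A : Type u} [CommRing A]

/-- Transport of homology along an equality of degrees. -/
noncomputable def homologyCongr (K : CochainComplex (ModuleCat.{u} A) ℤ) {n m : ℤ} (h : n = m) :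
    K.homology n ≃ₗ[A] K.homology m := by
  subst h
  exact LinearEquiv.refl _ _

theorem isZero_homology_congr (K : CochainComplex (ModuleCat.{u} A) ℤ) {n m : ℤ} (h : n = m)
    (hz : IsZero (K.homology n)) : IsZero (K.homology m) := by
  subst h
  exact hz

/-- S11917. -/
theorem koszulH_top (xs : List A) (M : Type u) [AddCommGroup M] [Module A M] :
    Nonempty (↑(koszulH xs (ModuleCat.of A M) xs.length) ≃ₗ[A]
      (M ⧸ (Ideal.ofList xs • (⊤ : Submodule A M)))) := by
  obtain ⟨e⟩ := nonempty_homology_zero_equiv M xs
  exact ⟨(homologyCongr _ (sub_self _)).trans e⟩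

end Groth.Agent.Helper8.KoszulLib
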