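import Mathlib
import Groth.Prelude.Def_ega3
import Groth.Agent.Lib.Helper8.Koszul3

/-!
# Multiplication by an element of the ideal is null-homotopic on the Koszul complex
-/

namespace Groth.Agent.Helper8.KoszulLib

open CategoryTheory CategoryTheory.Limits CochainComplex CochainComplex.HomComplex CohIII

universe u

variable {A : Type u} [CommRing A]

theorem ofHom_smul {K L : CochainComplex (ModuleCat.{u} A) ℤ} (a : A) (f : K ⟶ L) :
    Cochain.ofHom (a • f) = a • Cochain.ofHom f := by
  ext p
  simp

/-- `x` is null-homotopic on the cone of `x`. -/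
noncomputable def coneSelfHomotopy (K : CochainComplex (ModuleCat.{u} A) ℤ) (x : A) :
    Homotopy (x • 𝟙 (mappingCone (x • 𝟙 K))) 0 :=
  mappingCone.descHomotopy (x • 𝟙 K) _ _ 0 (mappingCone.inl (x • 𝟙 K))
    (by
      rw [ofHom_smul, ofHom_smul, Cochain.ofHom_zero]
      simp)
    (by
      rw [mappingCone.δ_inl]
      simp [Linear.smul_comp, Linear.comp_smul])

/-- A null-homotopy of `a` on `K` (given as a cochain) induces one on the cone of `x`. -/
noncomputable def coneHomotopyOfCochain (K : CochainComplex (ModuleCat.{u} A) ℤ) (x a : A)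
    (z : Cochain K K (-1)) (hz : Cochain.ofHom (a • 𝟙 K) = δ (-1) 0 z) :
    Homotopy (a • 𝟙 (mappingCone (x • 𝟙 K))) 0 :=
  mappingCone.descHomotopy (x • 𝟙 K) _ _
    (-(z.comp (mappingCone.inl (x • 𝟙 K)) (show (-1 : ℤ) + (-1) = -2 by norm_num)))
    (z.comp (Cochain.ofHom (mappingCone.inr (x • 𝟙 K))) (add_zero (-1)))
    (by
      rw [δ_neg, δ_comp _ _ (show (-1 : ℤ) + (-1) = -2 by norm_num) 0 0 (-1) (by norm_num)
        (by norm_num) (by norm_num), ← hz, mappingCone.δ_inl]
      rw [ofHom_smul, ofHom_smul, Cochain.ofHom_zero]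
      simp [Linear.smul_comp, Linear.comp_smul, ofHom_smul])
    (by
      rw [δ_comp_ofHom, ← hz]
      simp [Linear.smul_comp, Linear.comp_smul, ofHom_smul])

/-- A null-homotopy of `a` on `K` induces one on the cone of `x`. -/
noncomputable def coneHomotopy (K : CochainComplex (ModuleCat.{u} A) ℤ) (x a : A)
    (h : Homotopy (a • 𝟙 K) 0) :
    Homotopy (a • 𝟙 (mappingCone (x • 𝟙 K))) 0 :=
  coneHomotopyOfCochain K x a (Cochain.equivHomotopy _ _ h).1 (by
    have := (Cochain.equivHomotopy _ _ h).2
    simpa using this)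

end Groth.Agent.Helper8.KoszulLib

namespace Groth.Agent.Helper8.KoszulLib

open CategoryTheory CategoryTheory.Limits CochainComplex CochainComplex.HomComplex CohIII

universe u

variable {A : Type u} [CommRing A]

/-- S14433: multiplication by an element of the ideal `(xs)` is null-homotopic on `K(xs; M)`. -/
theorem nonempty_homotopy_smul_id (M : ModuleCat.{u} A) (xs : List A) :
    ∀ a : A, a ∈ Ideal.span {x | x ∈ xs} → Nonempty (Homotopy (a • 𝟙 (koszulCx M xs)) 0) := by
  induction xs with
  | nil =>
    intro a ha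
    have : a = 0 := by simpa using ha
    subst this
    exact ⟨Homotopy.ofEq (zero_smul _ _)⟩
  | cons x xs ih =>
    intro a ha
    have hset : {y | y ∈ x :: xs} = insert x {y | y ∈ xs} := by
      ext y; simp [List.mem_cons]
    rw [hset, Ideal.mem_span_insert] at ha
    obtain ⟨r, b, hb, rfl⟩ := ha
    obtain ⟨hb'⟩ := ih b hb
    have h1 := (coneSelfHomotopy (koszulCx M xs) x).smul r
    have h2 := coneHomotopy (koszulCx M xs) x b hb'
    have h3 := h1.add h2
    refine ⟨(Homotopy.ofEq ?_).trans (h3.trans (Homotopy.ofEq ?_))⟩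
    · show (r * x + b) • 𝟙 (mappingCone (x • 𝟙 (koszulCx M xs))) = _
      rw [add_smul, mul_smul]
    · rw [smul_zero, add_zero]
      rfl

/-- Elements of the ideal act as zero on Koszul cohomology. -/
theorem smul_homology_eq_zero (M : ModuleCat.{u} A) (xs : List A) (a : A)
    (ha : a ∈ Ideal.span {x | x ∈ xs}) (n : ℤ) (z : (koszulCx M xs).homology n) : a • z = 0 := by
  obtain ⟨h⟩ := nonempty_homotopy_smul_id M xs a ha
  have := h.homologyMap_eq n
  rw [homologyMap_smul_id, HomologicalComplex.homologyMap_zero] at this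
  have h2 := congrArg (fun g => g.hom z) this
  exact h2

/-- S2424. -/
theorem isZero_homology_of_span_eq_top (M : ModuleCat.{u} A) (xs : List A)
    (hxs : Ideal.span {a | a ∈ xs} = ⊤) (n : ℤ) : IsZero ((koszulCx M xs).homology n) := by
  have : Subsingleton ((koszulCx M xs).homology n) := by
    constructor
    intro z w
    have h1 := smul_homology_eq_zero M xs 1 (by rw [hxs]; trivial) n z
    have h2 := smul_homology_eq_zero M xs 1 (by rw [hxs]; trivial) n w
    rw [one_smul] at h1 h2
    rw [h1, h2]
  exact ModuleCat.isZero_of_subsingleton _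

end Groth.Agent.Helper8.KoszulLib
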