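import Mathlib
import Groth.Prelude.Def_ega3
import Groth.Agent.Lib.Helper8.Koszul4

/-!
# Functoriality and exactness of the Koszul complex in the module variable
-/

namespace Groth.Agent.Helper8.KoszulLib

open CategoryTheory CategoryTheory.Limits CochainComplex CochainComplex.HomComplex CohIII

universe u

section general

variable {C : Type*} [Category* C] [Preadditive C] [HasBinaryBiproducts C]
variable {K₁ L₁ K₂ L₂ : CochainComplex C ℤ} (φ₁ : K₁ ⟶ L₁) (φ₂ : K₂ ⟶ L₂)
  (a : K₁ ⟶ K₂) (b : L₁ ⟶ L₂) (comm : φ₁ ≫ b = a ≫ φ₂)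

theorem map_f_fst (n m : ℤ) (h : n + 1 = m) :
    (mappingCone.map φ₁ φ₂ a b comm).f n ≫ (mappingCone.fst φ₂).1.v n m h =
      (mappingCone.fst φ₁).1.v n m h ≫ a.f m := by
  subst h
  simp [mappingCone.ext_from_iff _ (n + 1) n rfl, mappingCone.map]

theorem map_f_snd (n : ℤ) :
    (mappingCone.map φ₁ φ₂ a b comm).f n ≫ (mappingCone.snd φ₂).v n n (add_zero n) =
      (mappingCone.snd φ₁).v n n (add_zero n) ≫ b.f n := by
  simp [mappingCone.ext_from_iff _ (n + 1) n rfl, mappingCone.map]

end general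

variable {A : Type u} [CommRing A]

section elements

variable {F G : CochainComplex (ModuleCat.{u} A) ℤ} (φ : F ⟶ G) (n : ℤ)

/-- first projection on elements -/
noncomputable def fstE : (mappingCone φ).X n →ₗ[A] F.X (n + 1) :=
  ((mappingCone.fst φ).1.v n (n + 1) rfl).hom

/-- second projection on elements -/
noncomputable def sndE : (mappingCone φ).X n →ₗ[A] G.X n :=
  ((mappingCone.snd φ).v n n (add_zero n)).hom

/-- first inclusion on elements -/
noncomputable def inlE : F.X (n + 1) →ₗ[A] (mappingCone φ).X n :=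
  ((mappingCone.inl φ).v (n + 1) n (by omega)).hom

/-- second inclusion on elements -/
noncomputable def inrE : G.X n →ₗ[A] (mappingCone φ).X n :=
  ((mappingCone.inr φ).f n).hom

theorem fstE_inlE (x : F.X (n + 1)) : fstE φ n (inlE φ n x) = x := by
  have := mappingCone.inl_v_fst_v φ (n + 1) n rfl
  exact congrArg (fun g => g.hom x) this

theorem sndE_inlE (x : F.X (n + 1)) : sndE φ n (inlE φ n x) = 0 := by
  have := mappingCone.inl_v_snd_v φ (n + 1) n (by omega)
  exact congrArg (fun g => g.hom x) this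

theorem fstE_inrE (y : G.X n) : fstE φ n (inrE φ n y) = 0 := by
  have := mappingCone.inr_f_fst_v φ n (n + 1) rfl
  exact congrArg (fun g => g.hom y) this

theorem sndE_inrE (y : G.X n) : sndE φ n (inrE φ n y) = y := by
  have := mappingCone.inr_f_snd_v φ n
  exact congrArg (fun g => g.hom y) this

theorem eq_inlE_add_inrE (z : (mappingCone φ).X n) :
    z = inlE φ n (fstE φ n z) + inrE φ n (sndE φ n z) := by
  have := mappingCone.id_X φ n (n + 1) rfl
  exact (congrArg (fun g => g.hom z) this).symm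

theorem ext_elem {z w : (mappingCone φ).X n} (h1 : fstE φ n z = fstE φ n w)
    (h2 : sndE φ n z = sndE φ n w) : z = w := by
  rw [eq_inlE_add_inrE φ n z, eq_inlE_add_inrE φ n w, h1, h2]

end elements

section mapE

variable {K₁ L₁ K₂ L₂ : CochainComplex (ModuleCat.{u} A) ℤ} (φ₁ : K₁ ⟶ L₁) (φ₂ : K₂ ⟶ L₂)
  (a : K₁ ⟶ K₂) (b : L₁ ⟶ L₂) (comm : φ₁ ≫ b = a ≫ φ₂)

theorem fstE_map (n : ℤ) (z : (mappingCone φ₁).X n) :
    fstE φ₂ n (((mappingCone.map φ₁ φ₂ a b comm).f n).hom z) = (a.f (n + 1)).hom (fstE φ₁ n z) := by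
  have := map_f_fst φ₁ φ₂ a b comm n (n + 1) rfl
  exact congrArg (fun g => g.hom z) this

theorem sndE_map (n : ℤ) (z : (mappingCone φ₁).X n) :
    sndE φ₂ n (((mappingCone.map φ₁ φ₂ a b comm).f n).hom z) = (b.f n).hom (sndE φ₁ n z) := by
  have := map_f_snd φ₁ φ₂ a b comm n
  exact congrArg (fun g => g.hom z) this

end mapE

/-- A degreewise short exact sequence of complexes of modules (elementwise formulation). -/
structure DegreewiseSES {K₁ K₂ K₃ : CochainComplex (ModuleCat.{u} A) ℤ} (i : K₁ ⟶ K₂)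
    (p : K₂ ⟶ K₃) : Prop where
  inj : ∀ n, Function.Injective (i.f n).hom
  surj : ∀ n, Function.Surjective (p.f n).hom
  exact : ∀ n, Function.Exact (i.f n).hom (p.f n).hom

theorem DegreewiseSES.cone {K₁ K₂ K₃ : CochainComplex (ModuleCat.{u} A) ℤ} {i : K₁ ⟶ K₂}
    {p : K₂ ⟶ K₃} (h : DegreewiseSES i p) (φ₁ : K₁ ⟶ K₁) (φ₂ : K₂ ⟶ K₂) (φ₃ : K₃ ⟶ K₃)
    (c₁ : φ₁ ≫ i = i ≫ φ₂) (c₂ : φ₂ ≫ p = p ≫ φ₃) :
    DegreewiseSES (mappingCone.map φ₁ φ₂ i i c₁) (mappingCone.map φ₂ φ₃ p p c₂) where
  inj n := by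
    rw [injective_iff_map_eq_zero]
    intro z hz
    have h1 := fstE_map φ₁ φ₂ i i c₁ n z
    have h2 := sndE_map φ₁ φ₂ i i c₁ n z
    rw [hz, map_zero] at h1 h2
    have e1 : fstE φ₁ n z = 0 := h.inj (n + 1) (by rw [← h1, map_zero])
    have e2 : sndE φ₁ n z = 0 := h.inj n (by rw [← h2, map_zero])
    rw [eq_inlE_add_inrE φ₁ n z, e1, e2, map_zero, map_zero, add_zero]
  surj n := by
    intro w
    obtain ⟨x, hx⟩ := h.surj (n + 1) (fstE φ₃ n w)
    obtain ⟨y, hy⟩ := h.surj n (sndE φ₃ n w)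
    refine ⟨inlE φ₂ n x + inrE φ₂ n y, ?_⟩
    apply ext_elem φ₃ n
    · rw [fstE_map, map_add, fstE_inlE, fstE_inrE, add_zero, hx]
    · rw [sndE_map, map_add, sndE_inlE, sndE_inrE, zero_add, hy]
  exact n := by
    intro z
    constructor
    · intro hz
      have h1 := fstE_map φ₂ φ₃ p p c₂ n z
      have h2 := sndE_map φ₂ φ₃ p p c₂ n z
      rw [hz, map_zero] at h1 h2
      obtain ⟨x, hx⟩ := (h.exact (n + 1) _).mp h1.symm
      obtain ⟨y, hy⟩ := (h.exact n _).mp h2.symm
      refine ⟨inlE φ₁ n x + inrE φ₁ n y, ?_⟩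
      apply ext_elem φ₂ n
      · rw [fstE_map, map_add, fstE_inlE, fstE_inrE, add_zero, hx]
      · rw [sndE_map, map_add, sndE_inlE, sndE_inrE, zero_add, hy]
    · rintro ⟨w, rfl⟩
      apply ext_elem φ₃ n
      · rw [fstE_map, fstE_map, map_zero]
        exact (h.exact (n + 1) _).mpr ⟨_, rfl⟩
      · rw [sndE_map, sndE_map, map_zero]
        exact (h.exact n _).mpr ⟨_, rfl⟩

/-- Functoriality of the Koszul complex in the module. -/
noncomputable def koszulMap {M N : ModuleCat.{u} A} (g : M ⟶ N) :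
    ∀ fs : List A, koszulCx M fs ⟶ koszulCx N fs
  | [] => (HomologicalComplex.single (ModuleCat.{u} A) (ComplexShape.up ℤ) 0).map g
  | f :: fs => mappingCone.map (f • 𝟙 (koszulCx M fs)) (f • 𝟙 (koszulCx N fs))
      (koszulMap g fs) (koszulMap g fs)
      (by rw [Linear.smul_comp, Linear.comp_smul, Category.id_comp, Category.comp_id])

theorem degreewiseSES_single {M₁ M₂ M₃ : ModuleCat.{u} A} (g₁ : M₁ ⟶ M₂) (g₂ : M₂ ⟶ M₃)
    (hi : Function.Injective g₁.hom) (hs : Function.Surjective g₂.hom)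
    (he : Function.Exact g₁.hom g₂.hom) :
    DegreewiseSES ((HomologicalComplex.single (ModuleCat.{u} A) (ComplexShape.up ℤ) 0).map g₁)
      ((HomologicalComplex.single (ModuleCat.{u} A) (ComplexShape.up ℤ) 0).map g₂) := by
  have hsub : ∀ (M : ModuleCat.{u} A) (n : ℤ), n ≠ 0 → Subsingleton
      (((HomologicalComplex.single (ModuleCat.{u} A) (ComplexShape.up ℤ) 0).obj M).X n) :=
    fun M n hn => ModuleCat.subsingleton_of_isZero
      (HomologicalComplex.isZero_single_obj_X (ComplexShape.up ℤ) 0 M n hn)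
  have key : ∀ {M N : ModuleCat.{u} A} (g : M ⟶ N) (x),
      (((HomologicalComplex.single (ModuleCat.{u} A) (ComplexShape.up ℤ) 0).map g).f 0).hom x =
        (HomologicalComplex.singleObjXSelf (ComplexShape.up ℤ) 0 N).inv.hom
          (g.hom ((HomologicalComplex.singleObjXSelf (ComplexShape.up ℤ) 0 M).hom.hom x)) := by
    intro M N g x
    have := HomologicalComplex.single_map_f_self (ComplexShape.up ℤ) 0 g
    exact congrArg (fun g => g.hom x) this
  have inj_iso : ∀ (M : ModuleCat.{u} A), Function.Injective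
      (HomologicalComplex.singleObjXSelf (ComplexShape.up ℤ) 0 M).inv.hom := fun M =>
    (HomologicalComplex.singleObjXSelf (ComplexShape.up ℤ) 0 M).symm.toLinearEquiv.injective
  have inj_iso' : ∀ (M : ModuleCat.{u} A), Function.Injective
      (HomologicalComplex.singleObjXSelf (ComplexShape.up ℤ) 0 M).hom.hom := fun M =>
    (HomologicalComplex.singleObjXSelf (ComplexShape.up ℤ) 0 M).toLinearEquiv.injective
  have surj_iso : ∀ (M : ModuleCat.{u} A), Function.Surjective
      (HomologicalComplex.singleObjXSelf (ComplexShape.up ℤ) 0 M).inv.hom := fun M =>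
    (HomologicalComplex.singleObjXSelf (ComplexShape.up ℤ) 0 M).symm.toLinearEquiv.surjective
  have surj_iso' : ∀ (M : ModuleCat.{u} A), Function.Surjective
      (HomologicalComplex.singleObjXSelf (ComplexShape.up ℤ) 0 M).hom.hom := fun M =>
    (HomologicalComplex.singleObjXSelf (ComplexShape.up ℤ) 0 M).toLinearEquiv.surjective
  refine ⟨fun n => ?_, fun n => ?_, fun n => ?_⟩
  · by_cases hn : n = 0
    · subst hn
      intro x y hxy
      rw [key, key] at hxy
      exact inj_iso' _ (hi (inj_iso _ hxy))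
    · have := hsub M₁ n hn
      intro x y _; exact Subsingleton.elim _ _
  · by_cases hn : n = 0
    · subst hn
      intro w
      obtain ⟨w', rfl⟩ := surj_iso M₃ w
      obtain ⟨y, rfl⟩ := hs w'
      obtain ⟨x, rfl⟩ := surj_iso' M₂ y
      exact ⟨x, key g₂ x⟩
    · have := hsub M₃ n hn
      intro w; exact ⟨0, Subsingleton.elim _ _⟩
  · by_cases hn : n = 0
    · subst hn
      intro y
      rw [key]
      constructor
      · intro hy
        have : g₂.hom ((HomologicalComplex.singleObjXSelf (ComplexShape.up ℤ) 0 M₂).hom.hom y)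
            = 0 := inj_iso _ (by rw [hy, map_zero])
        obtain ⟨x, hx⟩ := (he _).mp this
        obtain ⟨x', rfl⟩ := surj_iso' M₁ x
        refine ⟨x', ?_⟩
        rw [key, hx]
        exact congrArg (fun g => g.hom y)
          (HomologicalComplex.singleObjXSelf (ComplexShape.up ℤ) 0 M₂).hom_inv_id
      · rintro ⟨x, rfl⟩
        rw [key]
        have e : (HomologicalComplex.singleObjXSelf (ComplexShape.up ℤ) 0 M₂).hom.hom
            ((HomologicalComplex.singleObjXSelf (ComplexShape.up ℤ) 0 M₂).inv.hom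
              (g₁.hom ((HomologicalComplex.singleObjXSelf (ComplexShape.up ℤ) 0 M₁).hom.hom x)))
            = g₁.hom ((HomologicalComplex.singleObjXSelf (ComplexShape.up ℤ) 0 M₁).hom.hom x) :=
          congrArg (fun g => g.hom
              (g₁.hom ((HomologicalComplex.singleObjXSelf (ComplexShape.up ℤ) 0 M₁).hom.hom x)))
            (HomologicalComplex.singleObjXSelf (ComplexShape.up ℤ) 0 M₂).inv_hom_id
        rw [e, (he _).mpr ⟨_, rfl⟩, map_zero]
    · have := hsub M₂ n hn
      have := hsub M₃ n hn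
      intro y
      constructor
      · intro _; exact ⟨0, Subsingleton.elim _ _⟩
      · intro _; exact Subsingleton.elim _ _

theorem degreewiseSES_koszulMap {M₁ M₂ M₃ : ModuleCat.{u} A} (g₁ : M₁ ⟶ M₂) (g₂ : M₂ ⟶ M₃)
    (hi : Function.Injective g₁.hom) (hs : Function.Surjective g₂.hom)
    (he : Function.Exact g₁.hom g₂.hom) (fs : List A) :
    DegreewiseSES (koszulMap g₁ fs) (koszulMap g₂ fs) := by
  induction fs with
  | nil => exact degreewiseSES_single g₁ g₂ hi hs he
  | cons f fs ih => exact ih.cone _ _ _ _ _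

end Groth.Agent.Helper8.KoszulLib
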