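import Mathlib
import Groth.Prelude.Def_ega3
import Groth.Prelude.Def_Koszul
import Groth.Agent.Lib.Helper8.Koszul5

/-!
# Koszul cohomology of a weakly regular sequence
-/

namespace Groth.Agent.Helper8.KoszulLib

open CategoryTheory CategoryTheory.Limits CochainComplex CochainComplex.HomComplex CohIII
open scoped Pointwise

universe u

variable {A : Type u} [CommRing A]

theorem cone_map_smul_id {K : CochainComplex (ModuleCat.{u} A) ℤ} (φ : K ⟶ K) (a : A)
    (comm : φ ≫ (a • 𝟙 K) = (a • 𝟙 K) ≫ φ) :
    mappingCone.map φ φ (a • 𝟙 K) (a • 𝟙 K) comm = a • 𝟙 (mappingCone φ) := by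
  apply HomologicalComplex.hom_ext
  intro n
  rw [mappingCone.ext_from_iff _ (n + 1) n rfl]
  simp [mappingCone.map, Linear.smul_comp, Linear.comp_smul]

theorem koszulMap_smul_id (M : ModuleCat.{u} A) (a : A) (fs : List A) :
    koszulMap (a • 𝟙 M) fs = a • 𝟙 (koszulCx M fs) := by
  induction fs with
  | nil =>
    show (HomologicalComplex.single (ModuleCat.{u} A) (ComplexShape.up ℤ) 0).map (a • 𝟙 M) = _
    have : (HomologicalComplex.single (ModuleCat.{u} A) (ComplexShape.up ℤ) 0).map (a • 𝟙 M) =
        a • (HomologicalComplex.single (ModuleCat.{u} A) (ComplexShape.up ℤ) 0).map (𝟙 M) := by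
      ext
      simp [HomologicalComplex.single_map_f_self, Linear.smul_comp, Linear.comp_smul]
    rw [this]
    exact congrArg (a • ·) (CategoryTheory.Functor.map_id _ M)
  | cons f fs ih =>
    show mappingCone.map _ _ (koszulMap (a • 𝟙 M) fs) (koszulMap (a • 𝟙 M) fs) _ = _
    simp only [ih]
    exact cone_map_smul_id _ _ _

/-- From a degreewise short exact sequence to a short exact sequence of complexes. -/
theorem DegreewiseSES.shortExact {K₁ K₂ K₃ : CochainComplex (ModuleCat.{u} A) ℤ} {i : K₁ ⟶ K₂}
    {p : K₂ ⟶ K₃} (h : DegreewiseSES i p) :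
    ∃ (w : i ≫ p = 0), (ShortComplex.mk i p w).ShortExact := by
  have w : i ≫ p = 0 := by
    ext n x
    exact (h.exact n _).mpr ⟨x, rfl⟩
  refine ⟨w, HomologicalComplex.shortExact_of_degreewise_shortExact _ (fun n => ?_)⟩
  have hmono : Mono (i.f n) := (ModuleCat.mono_iff_injective _).mpr (h.inj n)
  have hepi : Epi (p.f n) := (ModuleCat.epi_iff_surjective _).mpr (h.surj n)
  refine ShortComplex.ShortExact.mk' ?_ hmono hepi
  exact (ShortComplex.ShortExact.moduleCat_exact_iff_function_exact _).mpr (h.exact n)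

/-- For `f` regular on `M`, the Koszul cohomology of `(f :: fs)` on `M` is that of `fs` on
`M / f M`. -/
theorem nonempty_homology_cons_equiv (M : Type u) [AddCommGroup M] [Module A M] (f : A)
    (hf : IsSMulRegular M f) (fs : List A) (n : ℤ) :
    Nonempty ((koszulCx (ModuleCat.of A M) (f :: fs)).homology n ≃ₗ[A]
      (koszulCx (ModuleCat.of A (QuotSMulTop f M)) fs).homology n) := by
  have hd := degreewiseSES_koszulMap (f • 𝟙 (ModuleCat.of A M))
    (ModuleCat.ofHom (Submodule.mkQ (f • (⊤ : Submodule A M)))) hf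
    (Submodule.mkQ_surjective _) (by
      intro y
      show Submodule.mkQ _ y = 0 ↔ _
      rw [Submodule.mkQ_apply, Submodule.Quotient.mk_eq_zero,
        Submodule.mem_smul_pointwise_iff_exists]
      constructor
      · rintro ⟨b, -, rfl⟩; exact ⟨b, rfl⟩
      · rintro ⟨b, rfl⟩; exact ⟨b, trivial, rfl⟩) fs
  rw [koszulMap_smul_id] at hd
  obtain ⟨w, hS⟩ := hd.shortExact
  have hq := mappingCone.quasiIso_descShortComplex hS
  have hqi : QuasiIsoAt (mappingCone.descShortComplex (ShortComplex.mk _ _ w)) n :=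
    hq.quasiIsoAt n
  rw [quasiIsoAt_iff_isIso_homologyMap] at hqi
  exact ⟨(asIso (HomologicalComplex.homologyMap
    (mappingCone.descShortComplex (ShortComplex.mk _ _ w)) n)).toLinearEquiv⟩

/-- Koszul cohomology of a weakly regular sequence vanishes outside degree `0`. -/
theorem isZero_homology_of_isWeaklyRegular (fs : List A) : ∀ (M : Type u) [AddCommGroup M]
    [Module A M], RingTheory.Sequence.IsWeaklyRegular M fs → ∀ n : ℤ, n ≠ 0 →
    IsZero ((koszulCx (ModuleCat.of A M) fs).homology n) := by
  induction fs with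
  | nil =>
    intro M _ _ _ n hn
    exact HomologicalComplex.isZero_single_obj_homology _ _ _ _ hn
  | cons f fs ih =>
    intro M _ _ h n hn
    rw [RingTheory.Sequence.isWeaklyRegular_cons_iff] at h
    obtain ⟨e⟩ := nonempty_homology_cons_equiv M f h.1 fs n
    have hz := ih (QuotSMulTop f M) h.2 n hn
    have : Subsingleton ((koszulCx (ModuleCat.of A (QuotSMulTop f M)) fs).homology n) :=
      ModuleCat.subsingleton_of_isZero hz
    have : Subsingleton ((koszulCx (ModuleCat.of A M) (f :: fs)).homology n) :=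
      e.toEquiv.subsingleton
    exact ModuleCat.isZero_of_subsingleton _

/-- S2423. -/
theorem koszulH_isZero_of_isWeaklyRegular (fs : List A) (M : Type u) [AddCommGroup M] [Module A M]
    (hreg : RingTheory.Sequence.IsWeaklyRegular M fs) (p : ℕ) (hp : p ≠ fs.length) :
    IsZero (koszulH fs (ModuleCat.of A M) p) :=
  isZero_homology_of_isWeaklyRegular fs M hreg _ (by
    intro h
    apply hp
    have : (p : ℤ) = fs.length := by linarith
    exact_mod_cast this)

theorem koszul_eq_koszulCx (l : List A) :
    Koszul.koszul A l = koszulCx (ModuleCat.of A A) l := by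
  induction l with
  | nil => rfl
  | cons f l ih =>
    show mappingCone (f • 𝟙 (Koszul.koszul A l)) = mappingCone (f • 𝟙 (koszulCx _ l))
    rw [ih]

end Groth.Agent.Helper8.KoszulLib

namespace Groth.Agent.Helper8.KoszulLib

open CategoryTheory CategoryTheory.Limits CochainComplex CohIII

universe u

variable {A : Type u} [CommRing A]

/-- S15821. -/
theorem koszul_regular (l : List A) (hl : RingTheory.Sequence.IsWeaklyRegular A l) :
    (∀ i : ℤ, i ≠ 0 → IsZero ((Koszul.koszul A l).homology i)) ∧
      Nonempty ((Koszul.koszul A l).homology 0 ≅ ModuleCat.of A (A ⧸ Ideal.ofList l)) := by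
  rw [koszul_eq_koszulCx]
  refine ⟨fun i hi => isZero_homology_of_isWeaklyRegular l A hl i hi, ?_⟩
  obtain ⟨e⟩ := nonempty_homology_zero_equiv A l
  have h : (Ideal.ofList l • (⊤ : Submodule A A)) = Ideal.ofList l := by
    rw [smul_eq_mul, Ideal.mul_top]
  exact ⟨(e.trans (Submodule.quotEquivOfEq _ _ h)).toModuleIso⟩

end Groth.Agent.Helper8.KoszulLib
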