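import Mathlib
import Groth.Prelude.Def_DRing3

set_option autoImplicit false
universe u
open CategoryTheory CategoryTheory.Limits Opposite

namespace Groth.Agent.Helper8.LC

variable {R : Type u} [CommRing R] [IsNoetherianRing R] (I : Ideal R)

/-- Artin--Rees consequence: a map from an ideal killed by `I ^ n` pointwise vanishes on
`I ^ m ⊓ 𝔞` for `m` large. -/
lemma exists_pow_inf_le (𝔞 : Ideal R) (n : ℕ) : ∃ m : ℕ, I ^ m ⊓ 𝔞 ≤ I ^ n * 𝔞 := by
  obtain ⟨k, hk⟩ := Ideal.exists_pow_inf_eq_pow_smul I (𝔞 : Submodule R R)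
  refine ⟨n + k, ?_⟩
  have h1 := hk (n + k) (Nat.le_add_left k n)
  rw [Nat.add_sub_cancel] at h1
  have h2 : I ^ (n + k) ⊓ 𝔞 = (I ^ (n + k) • (⊤ : Submodule R R)) ⊓ 𝔞 := by
    congr 1
    simp
  rw [h2, h1]
  intro x hx
  have h3 : I ^ n • (I ^ k • (⊤ : Submodule R R) ⊓ (𝔞 : Submodule R R)) ≤ I ^ n • 𝔞 :=
    Submodule.smul_mono le_rfl inf_le_right
  exact h3 hx

theorem torsionSub_injective (E : Type u) [AddCommGroup E] [Module R E] [Module.Injective R E] :
    Module.Injective R (DRing.torsionSub I E) := by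
  apply Module.Baer.injective
  intro 𝔞 f
  -- some power of `I` kills the image
  have hfg : (𝔞 : Submodule R R).FG := IsNoetherian.noetherian _
  obtain ⟨n, hn⟩ : ∃ n : ℕ, ∀ (y : 𝔞) (r : R), r ∈ I ^ n → r • f y = 0 := by
    obtain ⟨s, hs⟩ := hfg
    classical
    have hch : ∀ x : 𝔞, ∃ n : ℕ, ∀ r ∈ I ^ n, r • f x = 0 := by
      intro x
      obtain ⟨n, hn⟩ := (f x).2
      exact ⟨n, fun r hr => Subtype.ext (hn r hr)⟩
    choose nf hnf using hch
    let s' : Finset 𝔞 := s.attach.image (fun x => ⟨x.1, hs ▸ Submodule.subset_span x.2⟩)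
    refine ⟨s'.sup nf, ?_⟩
    let N : Submodule R 𝔞 :=
      { carrier := {y | ∀ r : R, r ∈ I ^ (s'.sup nf) → r • f y = 0}
        zero_mem' := fun r _ => by rw [map_zero, smul_zero]
        add_mem' := fun {a b} ha hb r hr => by rw [map_add, smul_add, ha r hr, hb r hr, add_zero]
        smul_mem' := fun c a ha r hr => by rw [map_smul, smul_comm, ha r hr, smul_zero] }
    have hN : N = ⊤ := by
      rw [eq_top_iff]
      intro y _
      have hy : (y : R) ∈ Submodule.span R (s : Set R) := hs ▸ y.2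
      have key : ∀ z (hz : z ∈ Submodule.span R (s : Set R)),
          (⟨z, hs ▸ hz⟩ : 𝔞) ∈ N := by
        intro z hz
        induction hz using Submodule.span_induction with
        | mem x hx =>
          intro r hr
          have hx' : (⟨x, hs ▸ Submodule.subset_span hx⟩ : 𝔞) ∈ s' := by
            apply Finset.mem_image.mpr
            exact ⟨⟨x, hx⟩, Finset.mem_attach _ _, rfl⟩
          exact hnf _ r (Ideal.pow_le_pow_right (Finset.le_sup hx') hr)
        | zero => exact N.zero_mem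
        | add a b ha hb iha ihb => exact N.add_mem iha ihb
        | smul c a ha iha => exact N.smul_mem c iha
      exact key y.1 hy
    intro y r hr
    have : y ∈ N := hN ▸ Submodule.mem_top
    exact this r hr
  obtain ⟨m, hm⟩ := exists_pow_inf_le I 𝔞 n
  -- `f` vanishes on `I ^ m ⊓ 𝔞`
  have hvan : ∀ y : 𝔞, (y : R) ∈ I ^ m → f y = 0 := by
    intro y hy
    have h1 : (y : R) ∈ I ^ n * 𝔞 := hm ⟨hy, y.2⟩
    have key : ∀ z (hz : z ∈ I ^ n • 𝔞), ∃ hz' : z ∈ 𝔞, f ⟨z, hz'⟩ = 0 := by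
      intro z hz
      refine Submodule.smul_induction_on hz ?_ ?_
      · intro a ha b hb
        refine ⟨𝔞.smul_mem a hb, ?_⟩
        have : (⟨a • b, 𝔞.smul_mem a hb⟩ : 𝔞) = a • (⟨b, hb⟩ : 𝔞) := rfl
        rw [this, map_smul]
        exact hn _ a ha
      · intro a b iha ihb
        obtain ⟨ha', ha⟩ := iha
        obtain ⟨hb', hb⟩ := ihb
        refine ⟨𝔞.add_mem ha' hb', ?_⟩
        have : (⟨a + b, 𝔞.add_mem ha' hb'⟩ : 𝔞) = ⟨a, ha'⟩ + ⟨b, hb'⟩ := rfl
        rw [this, map_add, ha, hb, add_zero]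
    obtain ⟨_, h2⟩ := key y.1 h1
    exact h2
  let φ : 𝔞 →ₗ[R] (R ⧸ I ^ m) := (I ^ m).mkQ ∘ₗ (𝔞 : Submodule R R).subtype
  let K : Submodule R 𝔞 := LinearMap.ker φ
  have hK : K ≤ LinearMap.ker ((DRing.torsionSub I E).subtype ∘ₗ f) := by
    intro y hy
    have hy' : (y : R) ∈ I ^ m := (Submodule.Quotient.mk_eq_zero _).mp hy
    rw [LinearMap.mem_ker, LinearMap.comp_apply, hvan y hy', map_zero]
  let g : (𝔞 ⧸ K) →ₗ[R] E := K.liftQ _ hK
  let ι' : (𝔞 ⧸ K) →ₗ[R] (R ⧸ I ^ m) := K.liftQ φ le_rfl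
  have hι' : Function.Injective ι' := by
    rw [← LinearMap.ker_eq_bot]
    exact Submodule.ker_liftQ_eq_bot _ _ _ le_rfl
  obtain ⟨h, hh⟩ := Module.Baer.extension_property
    (Module.Baer.of_injective (inferInstance : Module.Injective R E)) ι' hι' g
  have hmem : ∀ r : R, (h ∘ₗ (I ^ m).mkQ) r ∈ DRing.torsionSub I E := by
    intro r
    refine ⟨m, fun a ha => ?_⟩
    rw [← map_smul, smul_eq_mul, LinearMap.comp_apply, Submodule.mkQ_apply,
      (Submodule.Quotient.mk_eq_zero _).mpr (Ideal.mul_mem_right r _ ha), map_zero]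
  refine ⟨LinearMap.codRestrict (DRing.torsionSub I E) (h ∘ₗ (I ^ m).mkQ) hmem, fun x hx => ?_⟩
  apply Subtype.ext
  have h1 := congrArg (fun ψ => ψ (K.mkQ ⟨x, hx⟩)) hh
  exact h1

end Groth.Agent.Helper8.LC
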