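import Groth.Agent.Lib.Helper8.LC11
import Groth.Agent.Lib.Helper8.LC12

set_option autoImplicit false
universe u
open CategoryTheory CategoryTheory.Limits Opposite

namespace Groth.Agent.Helper8.LC

variable {R : Type u} [CommRing R] (J : Ideal R)

open Abelian localCohomology LocCoh

section SES

variable {M E : Type u} [AddCommGroup M] [Module R M] [AddCommGroup E] [Module R E]

/-- the short complex `M → E → E / M` attached to a linear map. -/
abbrev sesQuot (f : M →ₗ[R] E) : ShortComplex (ModuleCat.{u} R) :=
  ModuleCat.shortComplexOfCompEqZero f (LinearMap.range f).mkQ (LinearMap.range_mkQ_comp f)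

lemma sesQuot_shortExact (f : M →ₗ[R] E) (hf : Function.Injective f) :
    (sesQuot f).ShortExact := by
  apply ModuleCat.shortComplex_shortExact
  · intro x
    change (LinearMap.range f).mkQ x = 0 ↔ x ∈ Set.range f
    rw [Submodule.mkQ_apply, Submodule.Quotient.mk_eq_zero]
    rfl
  · exact hf
  · exact Submodule.mkQ_surjective _

end SES

section TorsionVanishing

variable [IsNoetherianRing R]

lemma exists_torsion_embedding (M : Type u) [AddCommGroup M] [Module R M]
    (hM : IsPowerTorsion J M) :
    ∃ (E : Type u) (_ : AddCommGroup E) (_ : Module R E) (_ : Module.Injective R E)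
      (f : M →ₗ[R] E), Function.Injective f ∧ IsPowerTorsion J E := by
  let E₀ : ModuleCat.{u} R := Injective.under (ModuleCat.of R M)
  let ι₀ : ModuleCat.of R M ⟶ E₀ := Injective.ι (ModuleCat.of R M)
  have hι₀ : Function.Injective ι₀ := (ModuleCat.mono_iff_injective _).mp inferInstance
  haveI hinj : Injective (ModuleCat.of R E₀) :=
    (inferInstance : Injective (Injective.under (ModuleCat.of R M)))
  haveI : Module.Injective R E₀ := Module.injective_module_of_injective_object R E₀
  haveI := torsionSub_injective J E₀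
  have hmem : ∀ m : M, ι₀.hom m ∈ DRing.torsionSub J E₀ := by
    intro m
    obtain ⟨n, hn⟩ := hM m
    exact ⟨n, fun a ha => by rw [← map_smul, hn a ha, map_zero]⟩
  refine ⟨DRing.torsionSub J E₀, inferInstance, inferInstance, inferInstance,
    LinearMap.codRestrict _ ι₀.hom hmem, ?_, ?_⟩
  · intro x y hxy
    apply hι₀
    exact congrArg Subtype.val hxy
  · rintro ⟨e, n, hn⟩
    exact ⟨n, fun a ha => Subtype.ext (hn a ha)⟩

lemma isPowerTorsion_quotient {E : Type u} [AddCommGroup E] [Module R E] (N : Submodule R E)
    (hE : IsPowerTorsion J E) : IsPowerTorsion J (E ⧸ N) := by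
  intro x
  obtain ⟨e, rfl⟩ := Submodule.Quotient.mk_surjective _ x
  obtain ⟨n, hn⟩ := hE e
  exact ⟨n, fun a ha => by rw [← Submodule.Quotient.mk_smul, hn a ha, Submodule.Quotient.mk_zero]⟩

lemma mem_torsionSub_of_isPowerTorsion {E : Type u} [AddCommGroup E] [Module R E]
    (hE : IsPowerTorsion J E) (e : E) : e ∈ DRing.torsionSub J E := hE e

theorem subsingleton_of_isPowerTorsion (i : ℕ) (hi : 0 < i) (M : Type u) [AddCommGroup M]
    [Module R M] (hM : IsPowerTorsion J M) : Subsingleton (H J i M) := by
  obtain ⟨j, rfl⟩ : ∃ j, i = j + 1 := ⟨i - 1, by omega⟩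
  clear hi
  induction j generalizing M with
  | zero =>
    obtain ⟨E, _, _, _, f, hf, hE⟩ := exists_torsion_embedding J M hM
    have hS := sesQuot_shortExact f hf
    haveI : Injective (ModuleCat.of R E) := Module.injective_object_of_injective_module R E
    have hE1 : Subsingleton ((localCohomology J 1).obj (ModuleCat.of R E)) :=
      subsingleton_of_injective J 1 _ Nat.one_pos
    refine ⟨fun x y => ?_⟩
    suffices h : ∀ z : H J (0 + 1) M, z = 0 by rw [h x, h y]
    intro z
    have h1 : ((localCohomology J (0 + 1)).map (sesQuot f).f) z = 0 := Subsingleton.elim _ _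
    obtain ⟨y, rfl⟩ := (exact_δ_f J 0 hS z).mp h1
    -- y ∈ H^0(E / M); lift to H^0(E)
    let C : ModuleCat.{u} R := (sesQuot f).X₃
    have hC : IsPowerTorsion J (E ⧸ LinearMap.range f) := isPowerTorsion_quotient J _ hE
    obtain ⟨e, he⟩ := Submodule.mkQ_surjective (LinearMap.range f) (ev0 J C y)
    obtain ⟨x, hx⟩ := exists_ev0_eq J (ModuleCat.of R E) e (hE e)
    have h2 : ((localCohomology J 0).map (sesQuot f).g) x = y := by
      apply ev0_injective J C
      rw [ev0_map, hx]
      exact he
    rw [← h2]
    exact (exact_g_δ J 0 hS _).mpr ⟨x, rfl⟩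
  | succ j ih =>
    obtain ⟨E, _, _, _, f, hf, hE⟩ := exists_torsion_embedding J M hM
    have hS := sesQuot_shortExact f hf
    haveI : Injective (ModuleCat.of R E) := Module.injective_object_of_injective_module R E
    have hE1 : Subsingleton ((localCohomology J (j + 1 + 1)).obj (ModuleCat.of R E)) :=
      subsingleton_of_injective J (j + 1 + 1) _ (Nat.succ_pos _)
    have hC : IsPowerTorsion J (E ⧸ LinearMap.range f) := isPowerTorsion_quotient J _ hE
    have hC1 := ih (E ⧸ LinearMap.range f) hC
    refine ⟨fun x y => ?_⟩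
    suffices h : ∀ z : H J (j + 1 + 1) M, z = 0 by rw [h x, h y]
    intro z
    have h1 : ((localCohomology J (j + 1 + 1)).map (sesQuot f).f) z = 0 := Subsingleton.elim _ _
    obtain ⟨y, rfl⟩ := (exact_δ_f J (j + 1) hS z).mp h1
    have hy : y = 0 := Subsingleton.elim _ _
    rw [hy, map_zero]

end TorsionVanishing

end Groth.Agent.Helper8.LC
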