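import Groth.Agent.Lib.Helper8.Cech4
import Groth.Agent.Lib.Helper8.LC13

set_option autoImplicit false
universe u
open CategoryTheory CategoryTheory.Limits Opposite

namespace Groth.Agent.Helper8.Cech

open CochainComplex HomComplex DerCA Groth.Agent.Lib.Helper6.ExtCech Groth.Agent.Helper8.LC

/-- two quotients are isomorphic when the kernels correspond. -/
lemma nonempty_equiv_of_surjective {R : Type*} [Ring R] {A A' X X' : Type*} [AddCommGroup A]
    [Module R A] [AddCommGroup A'] [Module R A'] [AddCommGroup X] [Module R X] [AddCommGroup X']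
    [Module R X'] (p : A →ₗ[R] X) (p' : A' →ₗ[R] X') (hp : Function.Surjective p)
    (hp' : Function.Surjective p') (θ : A ≃ₗ[R] A') (h : ∀ a, p a = 0 ↔ p' (θ a) = 0) :
    Nonempty (X ≃ₗ[R] X') := by
  have hmap : (LinearMap.ker p).map (θ : A →ₗ[R] A') = LinearMap.ker p' := by
    ext a'
    constructor
    · rintro ⟨a, ha, rfl⟩
      exact (h a).mp ha
    · intro ha'
      refine ⟨θ.symm a', ?_, by simp⟩
      rw [SetLike.mem_coe, LinearMap.mem_ker, h]
      simpa using ha'
  exact ⟨(p.quotKerEquivOfSurjective hp).symm ≪≫ₗ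
    Submodule.Quotient.equiv (LinearMap.ker p) (LinearMap.ker p') θ hmap ≪≫ₗ
    p'.quotKerEquivOfSurjective hp'⟩

variable {R : Type u} [CommRing R]

section SES

variable {K' K K'' : DRing.Cx R} {α : K' ⟶ K} {β : K ⟶ K''}

lemma comp_eq_zero_of_degSE (h : DegSE α β) : α ≫ β = 0 := by
  refine HomologicalComplex.hom_ext _ _ (fun n => ?_)
  ext x
  exact ((h n).2.1 _).mpr ⟨x, rfl⟩

lemma shortExact_of_degSE (h : DegSE α β) :
    (ShortComplex.mk α β (comp_eq_zero_of_degSE h)).ShortExact := by
  apply HomologicalComplex.shortExact_of_degreewise_shortExact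
  intro n
  obtain ⟨h1, h2, h3⟩ := h n
  exact
    { exact := (ShortComplex.ShortExact.moduleCat_exact_iff_function_exact _).mpr h2
      mono_f := (ModuleCat.mono_iff_injective _).mpr h1
      epi_g := (ModuleCat.epi_iff_surjective _).mpr h3 }

end SES


section Main

variable (fs : List R)

/-- the ideal generated by the entries of a list. -/
abbrev II : Ideal R := Ideal.span {x | x ∈ fs}

lemma range_jmap (M : ModuleCat.{u} R) :
    LinearMap.range (jmap M fs) = LinearMap.range (ev0 (II fs) M) := by
  rw [range_ev0]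
  ext m
  rw [(jmap_spec M fs).2 m, mem_torsionSub_iff]

/-- the comparison in degree zero. -/
noncomputable def Θ (M : ModuleCat.{u} R) :
    extCechH fs M 0 ≃ₗ[R] (localCohomology (II fs) 0).obj M :=
  (LinearEquiv.ofInjective (jmap M fs) (jmap_spec M fs).1) ≪≫ₗ
    LinearEquiv.ofEq _ _ (range_jmap fs M) ≪≫ₗ
    (LinearEquiv.ofInjective (ev0 (II fs) M) (ev0_injective _ M)).symm

lemma ev0_Θ (M : ModuleCat.{u} R) (x : extCechH fs M 0) :
    ev0 (II fs) M (Θ fs M x) = jmap M fs x := by
  unfold Θ
  simp only [LinearEquiv.trans_apply]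
  have h := LinearEquiv.apply_symm_apply
    (LinearEquiv.ofInjective (ev0 (II fs) M) (ev0_injective _ M))
    (LinearEquiv.ofEq _ _ (range_jmap fs M)
      (LinearEquiv.ofInjective (jmap M fs) (jmap_spec M fs).1 x))
  have h' := congrArg Subtype.val h
  exact h'

lemma Θ_natural {M N : ModuleCat.{u} R} (g : M ⟶ N) (x : extCechH fs M 0) :
    Θ fs N (HomologicalComplex.homologyMap (cechMap g fs) 0 x) =
      (localCohomology (II fs) 0).map g (Θ fs M x) := by
  apply ev0_injective (II fs) N
  rw [ev0_Θ, ev0_map, ev0_Θ, jmap_natural]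

variable [IsNoetherianRing R]

/-- the dimension shifting data attached to a module. -/
theorem nonempty_equiv_succ : ∀ (i : ℕ) (M : Type u) [AddCommGroup M] [Module R M],
    Nonempty (extCechH fs (ModuleCat.of R M) ((i + 1 : ℕ) : ℤ) ≃ₗ[R]
      (localCohomology (II fs) (i + 1)).obj (ModuleCat.of R M)) := by
  intro i
  induction i with
  | zero =>
    intro M _ _
    let E₀ : ModuleCat.{u} R := Injective.under (ModuleCat.of R M)
    let ι₀ : ModuleCat.of R M ⟶ E₀ := Injective.ι (ModuleCat.of R M)
    have hι₀ : Function.Injective ι₀.hom := (ModuleCat.mono_iff_injective _).mp inferInstance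
    haveI hinj : Injective (ModuleCat.of R E₀) :=
      (inferInstance : Injective (Injective.under (ModuleCat.of R M)))
    haveI : Module.Injective R E₀ := Module.injective_module_of_injective_object R E₀
    let S := sesQuot ι₀.hom
    have hS : S.ShortExact := sesQuot_shortExact _ hι₀
    have hdeg := degSE_cechMap S.f S.g hS.moduleCat_injective_f
      ((ShortComplex.ShortExact.moduleCat_exact_iff_function_exact S).mp hS.exact)
      hS.moduleCat_surjective_g fs
    have hT := shortExact_of_degSE hdeg
    have hE1 : IsZero (extCechH fs (ModuleCat.of R E₀) 1) :=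
      isZero_extCechH_pos_of_injective fs E₀ 1 le_rfl
    have hE1' : Subsingleton ((localCohomology (II fs) 1).obj S.X₂) :=
      subsingleton_of_injective (II fs) 1 (ModuleCat.of R E₀) Nat.one_pos
    -- the two connecting maps
    have hrel : (ComplexShape.up ℤ).Rel 0 ((0 + 1 : ℕ) : ℤ) := by
      change (0 : ℤ) + 1 = _
      norm_num
    let p := (hT.δ 0 ((0 + 1 : ℕ) : ℤ) hrel).hom
    let p' := δ (II fs) 0 hS
    have hp : Function.Surjective p := by
      intro x
      have hex := hT.homology_exact₁ 0 ((0 + 1 : ℕ) : ℤ) hrel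
      rw [ShortComplex.ShortExact.moduleCat_exact_iff_function_exact] at hex
      have hx0 : HomologicalComplex.homologyMap (cechMap S.f fs) ((0 + 1 : ℕ) : ℤ) x = 0 :=
        (ModuleCat.isZero_iff_subsingleton.mp hE1).elim _ _
      exact (hex x).mp hx0
    have hp' : Function.Surjective p' := by
      intro x
      exact (exact_δ_f (II fs) 0 hS x).mp (hE1'.elim _ _)
    refine nonempty_equiv_of_surjective p p' hp hp' (Θ fs S.X₃) ?_
    intro a
    have hex := hT.homology_exact₃ 0 ((0 + 1 : ℕ) : ℤ) hrel
    rw [ShortComplex.ShortExact.moduleCat_exact_iff_function_exact] at hex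
    have hex' := exact_g_δ (II fs) 0 hS (Θ fs S.X₃ a)
    refine ((hex a).trans ?_).trans hex'.symm
    constructor
    · rintro ⟨e, he⟩
      refine ⟨Θ fs S.X₂ e, ?_⟩
      rw [← Θ_natural]
      exact congrArg _ he
    · rintro ⟨e', he'⟩
      obtain ⟨e, rfl⟩ := (Θ fs S.X₂).surjective e'
      refine ⟨e, ?_⟩
      apply (Θ fs S.X₃).injective
      rw [← he']
      exact Θ_natural fs S.g e
  | succ i ih =>
    intro M _ _
    let E₀ : ModuleCat.{u} R := Injective.under (ModuleCat.of R M)
    let ι₀ : ModuleCat.of R M ⟶ E₀ := Injective.ι (ModuleCat.of R M)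
    have hι₀ : Function.Injective ι₀.hom := (ModuleCat.mono_iff_injective _).mp inferInstance
    haveI hinj : Injective (ModuleCat.of R E₀) :=
      (inferInstance : Injective (Injective.under (ModuleCat.of R M)))
    haveI : Module.Injective R E₀ := Module.injective_module_of_injective_object R E₀
    let S := sesQuot ι₀.hom
    have hS : S.ShortExact := sesQuot_shortExact _ hι₀
    have hdeg := degSE_cechMap S.f S.g hS.moduleCat_injective_f
      ((ShortComplex.ShortExact.moduleCat_exact_iff_function_exact S).mp hS.exact)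
      hS.moduleCat_surjective_g fs
    have hT := shortExact_of_degSE hdeg
    have hrel : (ComplexShape.up ℤ).Rel ((i + 1 : ℕ) : ℤ) ((i + 1 + 1 : ℕ) : ℤ) := by
      change ((i + 1 : ℕ) : ℤ) + 1 = _
      push_cast
      ring
    have hEi : IsZero (extCechH fs (ModuleCat.of R E₀) ((i + 1 : ℕ) : ℤ)) :=
      isZero_extCechH_pos_of_injective fs E₀ _ (by push_cast; omega)
    have hEj : IsZero (extCechH fs (ModuleCat.of R E₀) ((i + 1 + 1 : ℕ) : ℤ)) :=
      isZero_extCechH_pos_of_injective fs E₀ _ (by push_cast; omega)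
    let e1 := (hT.δIso ((i + 1 : ℕ) : ℤ) ((i + 1 + 1 : ℕ) : ℤ) hrel hEi hEj).toLinearEquiv
    obtain ⟨e2⟩ := ih (E₀ ⧸ LinearMap.range ι₀.hom)
    have hEi' : Subsingleton ((localCohomology (II fs) (i + 1)).obj S.X₂) :=
      subsingleton_of_injective (II fs) (i + 1) (ModuleCat.of R E₀) (Nat.succ_pos i)
    have hEj' : Subsingleton ((localCohomology (II fs) (i + 1 + 1)).obj S.X₂) :=
      subsingleton_of_injective (II fs) (i + 1 + 1) (ModuleCat.of R E₀) (Nat.succ_pos _)
    have hbij : Function.Bijective (δ (II fs) (i + 1) hS) := by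
      constructor
      · rw [injective_iff_map_eq_zero]
        intro x hx
        obtain ⟨y, rfl⟩ := (exact_g_δ (II fs) (i + 1) hS x).mp hx
        rw [hEi'.elim y 0, map_zero]
      · intro x
        exact (exact_δ_f (II fs) (i + 1) hS x).mp (hEj'.elim _ _)
    let e3 := LinearEquiv.ofBijective (δ (II fs) (i + 1) hS) hbij
    exact ⟨e1.symm ≪≫ₗ e2 ≪≫ₗ e3⟩

/-- the cohomology of the extended Čech complex is local cohomology. -/
theorem nonempty_extCechH_iso_localCohomology (M : Type u) [AddCommGroup M] [Module R M]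
    (i : ℕ) : Nonempty (DerCA.extCechH fs (ModuleCat.of R M) (i : ℤ) ≅
      (localCohomology (Ideal.span {x | x ∈ fs}) i).obj (ModuleCat.of R M)) := by
  cases i with
  | zero => exact ⟨(Θ fs (ModuleCat.of R M)).toModuleIso⟩
  | succ i =>
    obtain ⟨e⟩ := nonempty_equiv_succ fs i M
    exact ⟨e.toModuleIso⟩

end Main

end Groth.Agent.Helper8.Cech
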