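import Groth.Agent.Lib.Helper8.LC37

set_option autoImplicit false
universe u
open CategoryTheory CategoryTheory.Limits Opposite

namespace Groth.Agent.Helper8.LC

open Abelian localCohomology LocCoh

variable {R : Type u} [CommRing R] [IsNoetherianRing R]

/-- In an injective module over a Noetherian ring, every element is divisible by `b ^ n`
up to `b`-power torsion. -/
lemma exists_div_of_injective (E : Type u) [AddCommGroup E] [Module R E] [Module.Injective R E]
    (b : R) (n : ℕ) (e : E) : ∃ (e' : E) (m : ℕ), b ^ m • (e - b ^ n • e') = 0 := by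
  let A : ℕ →o Submodule R R :=
    ⟨fun k => Submodule.torsionBy R R (b ^ k), by
      intro k k' hk r hr
      rw [Submodule.mem_torsionBy_iff] at hr ⊢
      obtain ⟨t, rfl⟩ := Nat.exists_eq_add_of_le hk
      rw [pow_add, mul_comm, mul_smul, hr, smul_zero]⟩
  obtain ⟨m, hm⟩ := monotone_stabilizes_iff_noetherian.mpr inferInstance A
  have hA : A (m + n) = A m := (hm (m + n) (Nat.le_add_right m n)).symm
  let f : (R ⧸ A (m + n)) →ₗ[R] R := (A (m + n)).liftQ (LinearMap.lsmul R R (b ^ (m + n))) (by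
    intro r hr
    rw [LinearMap.mem_ker, LinearMap.lsmul_apply]
    exact (Submodule.mem_torsionBy_iff _ _).mp hr)
  have hf : Function.Injective f := by
    rw [← LinearMap.ker_eq_bot]
    apply Submodule.ker_liftQ_eq_bot'
    ext r
    rw [LinearMap.mem_ker, LinearMap.lsmul_apply]
    exact (Submodule.mem_torsionBy_iff _ _)
  let g : (R ⧸ A (m + n)) →ₗ[R] E :=
    (A (m + n)).liftQ (LinearMap.toSpanSingleton R E (b ^ m • e)) (by
      intro r hr
      rw [hA] at hr
      have hr' : b ^ m • r = 0 := (Submodule.mem_torsionBy_iff _ _).mp hr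
      rw [LinearMap.mem_ker, LinearMap.toSpanSingleton_apply, ← mul_smul, mul_comm]
      rw [smul_eq_mul] at hr'
      rw [hr', zero_smul])
  obtain ⟨h, hh⟩ := Module.Injective.out f hf g
  refine ⟨h 1, m, ?_⟩
  have h1 : f (Submodule.Quotient.mk 1) = b ^ (m + n) := by
    change (A (m + n)).liftQ (LinearMap.lsmul R R (b ^ (m + n))) _ (Submodule.Quotient.mk 1) = _
    rw [Submodule.liftQ_apply, LinearMap.lsmul_apply, smul_eq_mul, mul_one]
  have h2 : g (Submodule.Quotient.mk 1) = b ^ m • e := by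
    change (A (m + n)).liftQ (LinearMap.toSpanSingleton R E (b ^ m • e)) _
      (Submodule.Quotient.mk 1) = _
    rw [Submodule.liftQ_apply, LinearMap.toSpanSingleton_apply, one_smul]
  have h3 : b ^ (m + n) • h 1 = b ^ m • e := by
    rw [← map_smul, smul_eq_mul, mul_one, ← h1, hh, h2]
  rw [smul_sub, ← mul_smul, ← pow_add, h3, sub_self]

lemma pow_mem_sup_pow (a : Ideal R) (b : R) (n : ℕ) : b ^ n ∈ (a ⊔ Ideal.span {b}) ^ n :=
  Ideal.pow_mem_pow (Ideal.mem_sup_right (Ideal.mem_span_singleton_self b)) n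

lemma mem_torsionSub_sup_span (a : Ideal R) (b : R) {M : Type u} [AddCommGroup M] [Module R M]
    (m : M) (hm : m ∈ DRing.torsionSub a M) (n : ℕ) (hb : b ^ n • m = 0) :
    m ∈ DRing.torsionSub (a ⊔ Ideal.span {b}) M := by
  obtain ⟨k, hk⟩ := hm
  refine ⟨k + n, fun r hr => ?_⟩
  have h1 := Ideal.sup_pow_add_le_pow_sup_pow (I := a) (J := Ideal.span {b}) (n := k) (m := n) hr
  obtain ⟨r₁, hr₁, r₂, hr₂, rfl⟩ := Submodule.mem_sup.mp h1
  rw [Ideal.span_singleton_pow, Ideal.mem_span_singleton'] at hr₂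
  obtain ⟨t, rfl⟩ := hr₂
  rw [add_smul, hk r₁ hr₁, mul_smul, hb, smul_zero, add_zero]

section T1

variable (a : Ideal R) (b : R)

/-- the comparison map for `a ≤ a ⊔ (b)`. -/
noncomputable abbrev θb (i : ℕ) (M : ModuleCat.{u} R) :
    (localCohomology (a ⊔ Ideal.span {b}) i).obj M →ₗ[R] (localCohomology a i).obj M :=
  θ (le_sup_left : a ≤ a ⊔ Ideal.span {b}) i M

lemma exists_pow_smul_eq_zero_of_mem_range (i : ℕ) (M : ModuleCat.{u} R)
    (x : (localCohomology a i).obj M) (hx : x ∈ LinearMap.range (θb a b i M)) :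
    ∃ n : ℕ, b ^ n • x = 0 := by
  obtain ⟨y, rfl⟩ := hx
  obtain ⟨n, hn⟩ := isPowerTorsion (a ⊔ Ideal.span {b}) i M y
  exact ⟨n, by rw [← map_smul, hn _ (pow_mem_sup_pow a b n), map_zero]⟩

lemma mem_range_θb_zero (M : ModuleCat.{u} R) (x : (localCohomology a 0).obj M) (n : ℕ)
    (hx : b ^ n • x = 0) : x ∈ LinearMap.range (θb a b 0 M) := by
  have hm : ev0 a M x ∈ DRing.torsionSub (a ⊔ Ideal.span {b}) M := by
    apply mem_torsionSub_sup_span a b _ (ev0_mem a M x) n
    rw [← map_smul, hx, map_zero]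
  obtain ⟨y, hy⟩ := exists_ev0_eq (a ⊔ Ideal.span {b}) M _ hm
  refine ⟨y, ?_⟩
  apply ev0_injective a M
  rw [ev0_θ, hy]

theorem mem_range_θb (i : ℕ) (M : Type u) [AddCommGroup M] [Module R M]
    (x : H a i M) (n : ℕ) (hx : b ^ n • x = 0) :
    x ∈ LinearMap.range (θb a b i (ModuleCat.of R M)) := by
  induction i generalizing M n with
  | zero => exact mem_range_θb_zero a b _ x n hx
  | succ i ih =>
    let E₀ : ModuleCat.{u} R := Injective.under (ModuleCat.of R M)
    let ι₀ : ModuleCat.of R M ⟶ E₀ := Injective.ι (ModuleCat.of R M)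
    have hι₀ : Function.Injective ι₀.hom := (ModuleCat.mono_iff_injective _).mp inferInstance
    haveI hinj : Injective (ModuleCat.of R E₀) :=
      (inferInstance : Injective (Injective.under (ModuleCat.of R M)))
    haveI : Module.Injective R E₀ := Module.injective_module_of_injective_object R E₀
    have hS := sesQuot_shortExact ι₀.hom hι₀
    -- `x = δ y`
    have h1 : ((localCohomology a (i + 1)).map (sesQuot ι₀.hom).f) x = 0 :=
      (subsingleton_of_injective a (i + 1) (ModuleCat.of R E₀) (Nat.succ_pos i)).elim _ _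
    obtain ⟨y, rfl⟩ := (exact_δ_f a i hS x).mp h1
    -- find `y'` with `δ y' = δ y` and `y'` killed by a power of `b`
    obtain ⟨y', hy', k, hk⟩ : ∃ y' : H a i (E₀ ⧸ LinearMap.range ι₀.hom),
        δ a i hS y' = δ a i hS y ∧ ∃ k : ℕ, b ^ k • y' = 0 := by
      have h2 : δ a i hS (b ^ n • y) = 0 := by rw [map_smul]; exact hx
      obtain ⟨w, hw⟩ := (exact_g_δ a i hS _).mp h2
      rcases Nat.eq_zero_or_pos i with rfl | hipos
      · -- degree zero: use divisibility in the injective `Γ_a(E)`
        haveI : Module.Injective R (DRing.torsionSub a E₀) := torsionSub_injective a E₀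
        obtain ⟨e', m, hm⟩ := exists_div_of_injective (DRing.torsionSub a E₀) b n
          (h0Equiv a (ModuleCat.of R E₀) w)
        let w' : H a 0 E₀ := (h0Equiv a (ModuleCat.of R E₀)).symm e'
        have hw' : b ^ m • (w - b ^ n • w') = 0 := by
          apply (h0Equiv a (ModuleCat.of R E₀)).injective
          rw [map_smul, map_sub, map_smul, LinearEquiv.apply_symm_apply, map_zero]
          exact hm
        refine ⟨y - ((localCohomology a 0).map (sesQuot ι₀.hom).g) w', ?_, m + n, ?_⟩
        · rw [map_sub, (exact_g_δ a 0 hS _).mpr ⟨w', rfl⟩, sub_zero]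
        · have h3 : b ^ n • (y - ((localCohomology a 0).map (sesQuot ι₀.hom).g) w') =
              ((localCohomology a 0).map (sesQuot ι₀.hom).g) (w - b ^ n • w') := by
            rw [smul_sub, map_sub, hw, map_smul]
          rw [pow_add, mul_smul, h3, ← map_smul, hw', map_zero]
      · have hw0 : w = 0 :=
          (subsingleton_of_injective a i (ModuleCat.of R E₀) hipos).elim _ _
        refine ⟨y, rfl, n, ?_⟩
        rw [← hw, hw0, map_zero]
    obtain ⟨z, hz⟩ := ih (E₀ ⧸ LinearMap.range ι₀.hom) y' k hk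
    refine ⟨δ (a ⊔ Ideal.span {b}) i hS z, ?_⟩
    have := θ_δ (le_sup_left : a ≤ a ⊔ Ideal.span {b}) i hS z
    rw [← hy', ← hz]
    exact this

/-- (T1) the image of the comparison map is the `b`-power torsion. -/
theorem mem_range_θb_iff (i : ℕ) (M : Type u) [AddCommGroup M] [Module R M] (x : H a i M) :
    x ∈ LinearMap.range (θb a b i (ModuleCat.of R M)) ↔ ∃ n : ℕ, b ^ n • x = 0 :=
  ⟨exists_pow_smul_eq_zero_of_mem_range a b i _ x, fun ⟨n, hn⟩ => mem_range_θb a b i M x n hn⟩

end T1

end Groth.Agent.Helper8.LC
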