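import Groth.Agent.Lib.Helper8.LC28

set_option autoImplicit false
universe u
open CategoryTheory CategoryTheory.Limits Opposite

namespace Groth.Agent.Helper8.LC

open Abelian localCohomology LocCoh

variable {R : Type u} [CommRing R]

/-- a universal class: every class in `Ext^i(X, N)` is pushed forward from a single class. -/
lemma exists_universal_ext (X : ModuleCat.{u} R) (i : ℕ) :
    ∃ (N₀ : ModuleCat.{u} R) (ξ₀ : Abelian.Ext X N₀ i),
      ∀ (N : ModuleCat.{u} R) (x : Abelian.Ext X N i),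
        ∃ g : N₀ ⟶ N, ξ₀.comp (Ext.mk₀ g) (add_zero i) = x := by
  let P : ProjectiveResolution X := ProjectiveResolution.of X
  refine ⟨cokernel (P.complex.d (i + 1) i),
    P.extMk (cokernel.π (P.complex.d (i + 1) i)) (i + 1) rfl (cokernel.condition _), ?_⟩
  intro N x
  obtain ⟨f, hf, rfl⟩ := P.extMk_surjective x (i + 1) rfl
  refine ⟨cokernel.desc _ f hf, ?_⟩
  rw [ProjectiveResolution.extMk_comp_mk₀]
  congr 1
  exact cokernel.π_desc _ _ _

/-- Step 1: a uniform index in a fixed degree. -/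
lemma exists_uniform_index (J : Ideal R) (i n : ℕ)
    (hvan : ∀ N : ModuleCat.{u} R, Subsingleton ((localCohomology J i).obj N)) :
    ∃ (m : ℕ) (hm : n ≤ m), ∀ (N : ModuleCat.{u} R) (x : Abelian.Ext (Q J n) N i),
      (Ext.mk₀ (proj J hm)).comp x (zero_add i) = 0 := by
  obtain ⟨N₀, ξ₀, hξ₀⟩ := exists_universal_ext (Q J n) i
  have h0 : ι J i n N₀ ξ₀ = 0 := (hvan N₀).elim _ _
  obtain ⟨m, hm, hk⟩ := (ι_eq_zero_iff J i N₀ ξ₀).mp h0
  refine ⟨m, hm, fun N x => ?_⟩
  obtain ⟨g, rfl⟩ := hξ₀ N x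
  rw [trans_comp, hk, Ext.zero_comp]

/-- Step 2: dimension shifting makes the index uniform in all higher degrees. -/
lemma uniform_index_succ (J : Ideal R) (i n m : ℕ) (hm : n ≤ m)
    (h : ∀ (N : ModuleCat.{u} R) (x : Abelian.Ext (Q J n) N i),
      (Ext.mk₀ (proj J hm)).comp x (zero_add i) = 0)
    (N : ModuleCat.{u} R) (x : Abelian.Ext (Q J n) N (i + 1)) :
    (Ext.mk₀ (proj J hm)).comp x (zero_add (i + 1)) = 0 := by
  let E : ModuleCat.{u} R := Injective.under N
  let f : N ⟶ E := Injective.ι N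
  haveI : Mono f := inferInstance
  let S : ShortComplex (ModuleCat.{u} R) := ShortComplex.mk f (cokernel.π f) (cokernel.condition f)
  have hS : S.ShortExact :=
    { exact := ShortComplex.exact_cokernel f
      mono_f := inferInstanceAs (Mono f)
      epi_g := inferInstanceAs (Epi (cokernel.π f)) }
  have h1 : (x : Abelian.Ext (Q J n) S.X₁ (i + 1)).comp (Ext.mk₀ S.f) (add_zero _) = 0 :=
    Ext.eq_zero_of_injective _
  obtain ⟨x₃, hx₃⟩ := Ext.covariant_sequence_exact₁ (Q J n) hS x h1 rfl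
  have h3 := h S.X₃ x₃
  have : (Ext.mk₀ (proj J hm)).comp (x₃.comp hS.extClass rfl) (zero_add (i + 1)) = 0 := by
    rw [trans_comp, h3, Ext.zero_comp]
  rw [← hx₃]
  exact this

theorem exists_uniform_index_above (J : Ideal R) (e n : ℕ)
    (hvan : ∀ (N : ModuleCat.{u} R) (i : ℕ), e < i → Subsingleton ((localCohomology J i).obj N)) :
    ∃ (m : ℕ) (hm : n < m), ∀ (N : ModuleCat.{u} R) (i : ℕ), e < i →
      ∀ x : Abelian.Ext (Q J n) N i, (Ext.mk₀ (proj J hm.le)).comp x (zero_add i) = 0 := by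
  obtain ⟨m, hm, h⟩ := exists_uniform_index J (e + 1) n (fun N => hvan N (e + 1) (Nat.lt_succ_self e))
  have key : ∀ (k : ℕ) (N : ModuleCat.{u} R) (x : Abelian.Ext (Q J n) N (e + 1 + k)),
      (Ext.mk₀ (proj J hm)).comp x (zero_add _) = 0 := by
    intro k
    induction k with
    | zero => exact h
    | succ k ih => exact fun N x => uniform_index_succ J (e + 1 + k) n m hm ih N x
  refine ⟨m + 1, Nat.lt_succ_of_le hm, fun N i hi x => ?_⟩
  obtain ⟨k, rfl⟩ : ∃ k, i = e + 1 + k := ⟨i - (e + 1), by omega⟩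
  have h2 : proj J (Nat.lt_succ_of_le hm).le = proj J (Nat.le_succ m) ≫ proj J hm := by
    apply ModuleCat.hom_ext
    apply LinearMap.ext
    intro y
    obtain ⟨y, rfl⟩ := Submodule.Quotient.mk_surjective _ y
    rfl
  rw [h2, ← Ext.mk₀_comp_mk₀, Ext.comp_assoc _ _ _ (zero_add 0) (zero_add _) (by omega), key k N x,
    Ext.comp_zero]

end Groth.Agent.Helper8.LC
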