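import Mathlib.RingTheory.AdicCompletion.Basic

/-! Helper lemmas on adic completeness (seat helper8). -/

set_option autoImplicit false

namespace Groth.Agent.Helper8

variable {R : Type*} [CommRing R] (I : Ideal R)
variable {M N : Type*} [AddCommGroup M] [Module R M] [AddCommGroup N] [Module R N]

/-- A linear map sends congruences modulo `I ^ n • ⊤` to congruences modulo `I ^ n • ⊤`. -/
theorem smodEq_pow_smul_top_map (f : M →ₗ[R] N) {x y : M} (n : ℕ)
    (h : x ≡ y [SMOD (I ^ n • ⊤ : Submodule R M)]) :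
    f x ≡ f y [SMOD (I ^ n • ⊤ : Submodule R N)] := by
  refine SModEq.mono ?_ (h.map f)
  rw [Submodule.map_smul'']
  exact Submodule.smul_mono le_rfl le_top

/-- A retract of an `I`-adically Hausdorff module is Hausdorff. -/
theorem isHausdorff_of_retract (i : N →ₗ[R] M) (hi : Function.Injective i)
    [IsHausdorff I M] : IsHausdorff I N := by
  refine ⟨fun x hx => hi ?_⟩
  rw [map_zero]
  apply IsHausdorff.haus (I := I) inferInstance
  intro n
  have := smodEq_pow_smul_top_map I i n (hx n)
  rwa [map_zero] at this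

/-- A retract of an `I`-adically precomplete module is precomplete. -/
theorem isPrecomplete_of_retract (i : N →ₗ[R] M) (r : M →ₗ[R] N) (hri : ∀ x, r (i x) = x)
    [IsPrecomplete I M] : IsPrecomplete I N := by
  refine ⟨fun f hf => ?_⟩
  obtain ⟨L, hL⟩ := IsPrecomplete.prec (I := I) (M := M) inferInstance (f := fun n => i (f n))
    (fun {m n} hmn => smodEq_pow_smul_top_map I i m (hf hmn))
  refine ⟨r L, fun n => ?_⟩
  have := smodEq_pow_smul_top_map I r n (hL n)
  rwa [hri] at this

/-- A retract of an `I`-adically complete module is complete. -/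
theorem isAdicComplete_of_retract (i : N →ₗ[R] M) (r : M →ₗ[R] N) (hri : ∀ x, r (i x) = x)
    [IsAdicComplete I M] : IsAdicComplete I N :=
  { isHausdorff_of_retract I i (Function.LeftInverse.injective hri),
    isPrecomplete_of_retract I i r hri with }

end Groth.Agent.Helper8

namespace Groth.Agent.Helper8

variable {R : Type*} [CommRing R] {I J : Ideal R}
variable {M : Type*} [AddCommGroup M] [Module R M]

theorem pow_mul_smul_top_le_of_pow_le {c : ℕ} (hI : I ^ c ≤ J) (n : ℕ) :
    (I ^ (c * n) • ⊤ : Submodule R M) ≤ J ^ n • ⊤ := by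
  rw [pow_mul]
  exact Submodule.smul_mono (Ideal.pow_right_mono hI n) le_rfl

theorem isHausdorff_of_pow_le {c : ℕ} (hc : 0 < c) (hI : I ^ c ≤ J) [IsHausdorff J M] :
    IsHausdorff I M := by
  refine ⟨fun x hx => IsHausdorff.haus (I := J) inferInstance x fun n => ?_⟩
  exact SModEq.mono (pow_mul_smul_top_le_of_pow_le hI n) (hx (c * n))

theorem isPrecomplete_of_pow_le {c d : ℕ} (hc : 0 < c) (hd : 0 < d) (hI : I ^ c ≤ J)
    (hJ : J ^ d ≤ I) [IsPrecomplete J M] : IsPrecomplete I M := by
  refine ⟨fun f hf => ?_⟩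
  obtain ⟨L, hL⟩ := IsPrecomplete.prec (I := J) (M := M) inferInstance (f := fun n => f (c * n))
    (fun {m n} hmn => SModEq.mono (pow_mul_smul_top_le_of_pow_le hI m)
      (hf (Nat.mul_le_mul_left c hmn)))
  refine ⟨L, fun n => ?_⟩
  have h1 : f n ≡ f (c * (d * n)) [SMOD (I ^ n • ⊤ : Submodule R M)] := by
    apply hf
    calc n = 1 * (1 * n) := by ring
      _ ≤ c * (d * n) := Nat.mul_le_mul hc (Nat.mul_le_mul hd le_rfl)
  have h2 : f (c * (d * n)) ≡ L [SMOD (I ^ n • ⊤ : Submodule R M)] :=
    SModEq.mono (pow_mul_smul_top_le_of_pow_le hJ n) (hL (d * n))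
  exact h1.trans h2

theorem isAdicComplete_of_pow_le {c d : ℕ} (hc : 0 < c) (hd : 0 < d) (hI : I ^ c ≤ J)
    (hJ : J ^ d ≤ I) [IsAdicComplete J M] : IsAdicComplete I M :=
  { isHausdorff_of_pow_le hc hI, isPrecomplete_of_pow_le hc hd hI hJ with }

end Groth.Agent.Helper8
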