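import Mathlib
import Groth.Agent.Lib.Helper1.FlatQuot

/-!
# Splitting of small extensions of a flat algebra with formally smooth special fibre
-/

set_option autoImplicit false

namespace Groth.Agent.Helper8.CohenSm

open TensorProduct

section flat

variable {A : Type*} [CommRing A] {L G X : Type*} [AddCommGroup L] [Module A L]
  [AddCommGroup G] [Module A G] [AddCommGroup X] [Module A X]

/-- `(1 ⊗ g = 0 ↔ g ∈ 𝔞 G)` in `(A ⧸ 𝔞) ⊗ G`. -/
theorem one_tmul_eq_zero_iff (𝔞 : Ideal A) (g : G) :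
    ((1 : A ⧸ 𝔞) ⊗ₜ[A] g = 0) ↔ g ∈ 𝔞 • (⊤ : Submodule A G) := by
  rw [← (quotTensorEquivQuotSMul G 𝔞).map_eq_zero_iff, quotTensorEquivQuotSMul_mk_one_tmul,
    Submodule.Quotient.mk_eq_zero]

/-- If `0 → L → G → X → 0` is exact with `X` flat, then `L ∩ 𝔞 G = 𝔞 L`. -/
theorem mem_smul_top_of_flat [Module.Flat A X] (i : L →ₗ[A] G) (p : G →ₗ[A] X)
    (hi : Function.Injective i) (hp : Function.Surjective p) (hip : Function.Exact i p)
    (𝔞 : Ideal A) (x : L) (hx : i x ∈ 𝔞 • (⊤ : Submodule A G)) :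
    x ∈ 𝔞 • (⊤ : Submodule A L) := by
  have hinj := Groth.Agent.Helper1.FlatQuot.lTensor_injective_of_flat_coker (A ⧸ 𝔞) i p hi hp hip
  rw [← one_tmul_eq_zero_iff] at hx ⊢
  apply hinj
  rw [LinearMap.lTensor_tmul, hx, map_zero]

end flat

end Groth.Agent.Helper8.CohenSm

namespace Groth.Agent.Helper8.CohenSm

section split

universe u

variable {A : Type u} [CommRing A] (𝔪 : Ideal A)
  {B : Type u} [CommRing B] [Algebra A B] [Module.Flat A B]
  {K : Type u} [CommRing K] [Algebra A K] [Algebra (A ⧸ 𝔪) K] [IsScalarTower A (A ⧸ 𝔪) K]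
  [Algebra.FormallySmooth (A ⧸ 𝔪) K]
  (ρ : B →ₐ[A] K) (hρ : Function.Surjective ρ) (hker : RingHom.ker ρ = 𝔪.map (algebraMap A B))
  {E : Type u} [CommRing E] [Algebra A E] (π : E →ₐ[A] B) (hπ : Function.Surjective π)
  (hsq : RingHom.ker π ^ 2 = ⊥) (hm : ∀ a ∈ 𝔪, ∀ x ∈ RingHom.ker π, a • x = 0)

include hρ hker hπ hsq hm in
/-- A small extension of a flat `A`-algebra `B` with formally smooth special fibre, whose kernel
is killed by `𝔪`, splits. -/
theorem exists_section : ∃ σ : B →ₐ[A] E, π.comp σ = AlgHom.id A B := by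
  classical
  -- the special fibre of `E`
  let 𝔪E : Ideal E := 𝔪.map (algebraMap A E)
  have hkill : ∀ a : E, a ∈ 𝔪E → (ρ.comp π) a = 0 := by
    intro a ha
    have hle : 𝔪E ≤ RingHom.ker (ρ.comp π : E →+* K) := by
      rw [Ideal.map_le_iff_le_comap]
      intro a ha
      rw [Ideal.mem_comap, RingHom.mem_ker]
      show (ρ.comp π) (algebraMap A E a) = 0
      rw [AlgHom.commutes, IsScalarTower.algebraMap_apply A (A ⧸ 𝔪) K,
        Ideal.Quotient.algebraMap_eq, Ideal.Quotient.eq_zero_iff_mem.2 ha, map_zero]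
    exact hle ha
  let πA : (E ⧸ 𝔪E) →ₐ[A] K := Ideal.Quotient.liftₐ 𝔪E (ρ.comp π) hkill
  have hπA : ∀ e : E, πA (Ideal.Quotient.mk 𝔪E e) = ρ (π e) := fun e => rfl
  let πk : (E ⧸ 𝔪E) →ₐ[A ⧸ 𝔪] K :=
    AlgHom.extendScalarsOfSurjective (Ideal.Quotient.mk_surjective (I := 𝔪)) πA
  have hπk : ∀ e : E, πk (Ideal.Quotient.mk 𝔪E e) = ρ (π e) := fun e => rfl
  have hπk_surj : Function.Surjective πk := by
    intro y
    obtain ⟨b, rfl⟩ := hρ y
    obtain ⟨e, rfl⟩ := hπ b
    exact ⟨Ideal.Quotient.mk 𝔪E e, hπk e⟩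
  have hmapB : 𝔪E.map (π : E →+* B) = 𝔪.map (algebraMap A B) := by
    rw [Ideal.map_map]
    congr 1
    ext a
    exact π.commutes a
  have hmemπ : ∀ e : E, e ∈ RingHom.ker π ↔ π e = 0 := fun e => RingHom.mem_ker
  have hkerk : RingHom.ker (πk : (E ⧸ 𝔪E) →+* K) = (RingHom.ker π).map
      (Ideal.Quotient.mk 𝔪E) := by
    apply le_antisymm
    · intro y hy
      obtain ⟨e, rfl⟩ := Ideal.Quotient.mk_surjective y
      have h1 : ρ (π e) = 0 := hy
      have h2 : π e ∈ 𝔪E.map (π : E →+* B) := by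
        rw [hmapB, ← hker]; exact h1
      obtain ⟨e', he', he'2⟩ := (Ideal.mem_map_iff_of_surjective (π : E →+* B) hπ).1 h2
      have h3 : e - e' ∈ RingHom.ker π := by
        rw [hmemπ, map_sub, sub_eq_zero]; exact he'2.symm
      have h4 : Ideal.Quotient.mk 𝔪E e = Ideal.Quotient.mk 𝔪E (e - e') := by
        rw [map_sub, Ideal.Quotient.eq_zero_iff_mem.2 he', sub_zero]
      rw [h4]
      exact Ideal.mem_map_of_mem _ h3
    · rw [Ideal.map_le_iff_le_comap]
      intro e he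
      rw [Ideal.mem_comap, RingHom.mem_ker]
      show ρ (π e) = 0
      rw [(hmemπ e).1 he, map_zero]
  have hnil : IsNilpotent (RingHom.ker (πk : (E ⧸ 𝔪E) →+* K)) := by
    refine ⟨2, ?_⟩
    rw [hkerk, ← Ideal.map_pow, hsq, Ideal.map_bot, Ideal.zero_eq_bot]
  let s : K →ₐ[A ⧸ 𝔪] (E ⧸ 𝔪E) :=
    Algebra.FormallySmooth.liftOfSurjective (AlgHom.id (A ⧸ 𝔪) K) πk hπk_surj hnil
  have hs : ∀ x : K, πk (s x) = x := fun x =>
    Algebra.FormallySmooth.liftOfSurjective_apply (AlgHom.id (A ⧸ 𝔪) K) πk hπk_surj hnil x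
  -- uniqueness
  have huniq : ∀ e e' : E, π e = π e' → Ideal.Quotient.mk 𝔪E e = Ideal.Quotient.mk 𝔪E e' →
      e = e' := by
    intro e e' h1 h2
    have hd1 : e - e' ∈ RingHom.ker π := by
      rw [hmemπ, map_sub, sub_eq_zero]; exact h1
    have hd2 : e - e' ∈ 𝔪E := by
      rw [← Ideal.Quotient.eq_zero_iff_mem, map_sub, sub_eq_zero]; exact h2
    let L : Submodule A E := (RingHom.ker π).restrictScalars A
    have hex : Function.Exact L.subtype π.toLinearMap := by
      intro y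
      constructor
      · intro hy
        exact ⟨⟨y, hy⟩, rfl⟩
      · rintro ⟨z, rfl⟩
        exact z.2
    have h3 : (⟨e - e', hd1⟩ : L) ∈ 𝔪 • (⊤ : Submodule A L) := by
      apply mem_smul_top_of_flat L.subtype π.toLinearMap L.subtype_injective hπ hex
      show e - e' ∈ 𝔪 • (⊤ : Submodule A E)
      rw [Ideal.smul_top_eq_map, Submodule.restrictScalars_mem]
      exact hd2
    have h4 : 𝔪 • (⊤ : Submodule A L) = ⊥ := by
      rw [eq_bot_iff]
      intro z hz
      refine Submodule.smul_induction_on hz ?_ ?_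
      · intro a ha x _
        rw [Submodule.mem_bot]
        apply Subtype.ext
        exact hm a ha x.1 x.2
      · intro x y hx hy
        exact Submodule.add_mem _ hx hy
    rw [h4, Submodule.mem_bot] at h3
    have h5 : e - e' = 0 := congrArg Subtype.val h3
    exact sub_eq_zero.1 h5
  -- existence
  have hexist : ∀ b : B, ∃ e : E, π e = b ∧ Ideal.Quotient.mk 𝔪E e = s (ρ b) := by
    intro b
    obtain ⟨e₁, he₁⟩ := hπ b
    have h1 : Ideal.Quotient.mk 𝔪E e₁ - s (ρ b) ∈ RingHom.ker (πk : (E ⧸ 𝔪E) →+* K) := by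
      rw [RingHom.mem_ker, map_sub]
      show πk (Ideal.Quotient.mk 𝔪E e₁) - πk (s (ρ b)) = 0
      rw [hπk, hs, he₁, sub_self]
    rw [hkerk] at h1
    obtain ⟨j, hj, hj2⟩ := (Ideal.mem_map_iff_of_surjective (Ideal.Quotient.mk 𝔪E)
      Ideal.Quotient.mk_surjective).1 h1
    refine ⟨e₁ - j, ?_, ?_⟩
    · rw [map_sub, he₁, (hmemπ j).1 hj, sub_zero]
    · rw [map_sub, hj2]; ring
  choose σ hσ1 hσ2 using hexist
  have hcomm : ∀ a : A, s (ρ (algebraMap A B a)) = Ideal.Quotient.mk 𝔪E (algebraMap A E a) := by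
    intro a
    rw [AlgHom.commutes, IsScalarTower.algebraMap_apply A (A ⧸ 𝔪) K, AlgHom.commutes]
    rfl
  refine ⟨{ toFun := σ
            map_one' := ?_
            map_mul' := ?_
            map_zero' := ?_
            map_add' := ?_
            commutes' := ?_ }, ?_⟩
  · apply huniq
    · rw [hσ1, map_one]
    · rw [hσ2, map_one, map_one, map_one]
  · intro x y
    apply huniq
    · rw [hσ1, map_mul, hσ1, hσ1]
    · rw [hσ2, map_mul, map_mul, map_mul, hσ2, hσ2]
  · apply huniq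
    · rw [hσ1, map_zero]
    · rw [hσ2, map_zero, map_zero, map_zero]
  · intro x y
    apply huniq
    · rw [hσ1, map_add, hσ1, hσ1]
    · rw [hσ2, map_add, map_add, map_add, hσ2, hσ2]
  · intro a
    apply huniq
    · rw [hσ1, AlgHom.commutes]
    · rw [hσ2, hcomm]
  · ext b
    exact hσ1 b

end split

end Groth.Agent.Helper8.CohenSm
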