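import Mathlib
import Groth.Agent.Lib.Helper8.CohenSm1

/-!
# Flat algebras with formally smooth special fibre are formally smooth for the adic topologies
-/

set_option autoImplicit false

namespace Groth.Agent.Helper8.CohenSm

universe u

section

variable {A : Type u} [CommRing A] (𝔪 : Ideal A)
  {B : Type u} [CommRing B] [Algebra A B] [Module.Flat A B]
  {K : Type u} [CommRing K] [Algebra A K] [Algebra (A ⧸ 𝔪) K] [IsScalarTower A (A ⧸ 𝔪) K]
  [Algebra.FormallySmooth (A ⧸ 𝔪) K]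
  (ρ : B →ₐ[A] K) (hρ : Function.Surjective ρ) (hker : RingHom.ker ρ = 𝔪.map (algebraMap A B))

include hρ hker in
/-- Lifting along a small extension whose kernel is killed by `𝔪`. -/
theorem exists_lift_small {C' C'' : Type u} [CommRing C'] [Algebra A C'] [CommRing C'']
    [Algebra A C''] (p : C' →ₐ[A] C'') (hp : Function.Surjective p)
    (hsq : RingHom.ker p ^ 2 = ⊥) (hm : ∀ a ∈ 𝔪, ∀ x ∈ RingHom.ker p, a • x = 0)
    (u : B →ₐ[A] C'') : ∃ v : B →ₐ[A] C', p.comp v = u := by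
  classical
  have hmemp : ∀ c : C', c ∈ RingHom.ker p ↔ p c = 0 := fun c => RingHom.mem_ker
  let E : Subalgebra A (C' × B) :=
    AlgHom.equalizer (p.comp (AlgHom.fst A C' B)) (u.comp (AlgHom.snd A C' B))
  have hE : ∀ x : E, p (x.1.1) = u (x.1.2) := fun x => x.2
  let π : E →ₐ[A] B := (AlgHom.snd A C' B).comp E.val
  have hπapply : ∀ x : E, π x = x.1.2 := fun x => rfl
  have hmemπ : ∀ x : E, x ∈ RingHom.ker π ↔ x.1.2 = 0 := fun x => RingHom.mem_ker
  have hπ : Function.Surjective π := by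
    intro b
    obtain ⟨c, hc⟩ := hp (u b)
    exact ⟨⟨(c, b), hc⟩, rfl⟩
  have hfst : ∀ x : E, x ∈ RingHom.ker π → x.1.1 ∈ RingHom.ker p := by
    intro x hx
    rw [hmemp, hE, (hmemπ x).1 hx, map_zero]
  have hsqπ : RingHom.ker π ^ 2 = ⊥ := by
    rw [eq_bot_iff, pow_two, Ideal.mul_le]
    intro x hx y hy
    rw [Ideal.mem_bot]
    apply Subtype.ext
    apply Prod.ext
    · show x.1.1 * y.1.1 = 0
      have h1 : x.1.1 * y.1.1 ∈ RingHom.ker p ^ 2 := by
        rw [pow_two]; exact Ideal.mul_mem_mul (hfst x hx) (hfst y hy)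
      rw [hsq] at h1
      exact h1
    · show x.1.2 * y.1.2 = 0
      rw [(hmemπ x).1 hx, zero_mul]
  have hmπ : ∀ a ∈ 𝔪, ∀ x ∈ RingHom.ker π, a • x = 0 := by
    intro a ha x hx
    apply Subtype.ext
    apply Prod.ext
    · show a • x.1.1 = 0
      exact hm a ha _ (hfst x hx)
    · show a • x.1.2 = 0
      rw [(hmemπ x).1 hx, smul_zero]
  obtain ⟨σ, hσ⟩ := exists_section 𝔪 ρ hρ hker π hπ hsqπ hmπ
  refine ⟨(AlgHom.fst A C' B).comp (E.val.comp σ), ?_⟩
  ext b
  show p ((σ b).1.1) = u b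
  rw [hE]
  have := AlgHom.congr_fun hσ b
  rw [AlgHom.comp_apply, hπapply] at this
  rw [this]
  rfl

variable {C : Type u} [CommRing C] [Algebra A C]

/-- One step of the filtration. -/
def next (J : Ideal C) : Ideal C := (J ⊔ 𝔪.map (algebraMap A C)) * J

theorem next_le (J : Ideal C) : next 𝔪 J ≤ J := Ideal.mul_le_right

theorem iterate_next_le (t : ℕ) : ∀ J : Ideal C,
    (next 𝔪)^[t] J ≤ (J ⊔ 𝔪.map (algebraMap A C)) ^ t * J := by
  induction t with
  | zero =>
    intro J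
    rw [Function.iterate_zero, id, pow_zero, Ideal.one_eq_top, Ideal.top_mul]
  | succ t ih =>
    intro J
    rw [Function.iterate_succ_apply]
    refine (ih (next 𝔪 J)).trans ?_
    have h1 : next 𝔪 J ⊔ 𝔪.map (algebraMap A C) ≤ J ⊔ 𝔪.map (algebraMap A C) :=
      sup_le_sup_right (next_le 𝔪 J) _
    calc (next 𝔪 J ⊔ 𝔪.map (algebraMap A C)) ^ t * next 𝔪 J
        ≤ (J ⊔ 𝔪.map (algebraMap A C)) ^ t * ((J ⊔ 𝔪.map (algebraMap A C)) * J) :=
          Ideal.mul_mono (Ideal.pow_right_mono h1 t) le_rfl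
      _ = (J ⊔ 𝔪.map (algebraMap A C)) ^ (t + 1) * J := by rw [pow_succ, mul_assoc]

include hρ hker in
theorem exists_lift_of_iterate (t : ℕ) : ∀ J : Ideal C, (next 𝔪)^[t] J = ⊥ →
    ∀ u : B →ₐ[A] C ⧸ J, ∃ v : B →ₐ[A] C, (Ideal.Quotient.mkₐ A J).comp v = u := by
  induction t with
  | zero =>
    intro J hJ u
    rw [Function.iterate_zero, id] at hJ
    subst hJ
    refine ⟨(AlgEquiv.quotientBot A C).toAlgHom.comp u, ?_⟩
    ext b
    obtain ⟨c, hc⟩ := Ideal.Quotient.mk_surjective (u b)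
    show Ideal.Quotient.mk ⊥ (AlgEquiv.quotientBot A C (u b)) = u b
    rw [← hc, AlgEquiv.quotientBot_mk]
  | succ t ih =>
    intro J hJ u
    rw [Function.iterate_succ_apply] at hJ
    have hle := next_le 𝔪 J
    have hkerp : RingHom.ker (Ideal.Quotient.factorₐ A hle) =
        J.map (Ideal.Quotient.mk (next 𝔪 J)) := Ideal.Quotient.factor_ker hle
    obtain ⟨v₁, hv₁⟩ := exists_lift_small 𝔪 ρ hρ hker (Ideal.Quotient.factorₐ A hle)
      (Ideal.Quotient.factor_surjective hle) (by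
        rw [hkerp, ← Ideal.map_pow, eq_bot_iff, Ideal.map_le_iff_le_comap]
        intro x hx
        rw [Ideal.mem_comap, Ideal.mem_bot, Ideal.Quotient.eq_zero_iff_mem]
        rw [pow_two] at hx
        exact Ideal.mul_mono le_sup_left le_rfl hx) (by
        intro a ha x hx
        rw [hkerp] at hx
        obtain ⟨j, hj, rfl⟩ := (Ideal.mem_map_iff_of_surjective _
          Ideal.Quotient.mk_surjective).1 hx
        rw [Algebra.smul_def]
        show Ideal.Quotient.mk (next 𝔪 J) (algebraMap A C a) * Ideal.Quotient.mk _ j = 0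
        rw [← map_mul, Ideal.Quotient.eq_zero_iff_mem]
        exact Ideal.mul_mem_mul (Ideal.mem_sup_right (Ideal.mem_map_of_mem _ ha)) hj) u
    obtain ⟨v, hv⟩ := ih (next 𝔪 J) hJ v₁
    refine ⟨v, ?_⟩
    rw [← hv₁, ← hv, ← AlgHom.comp_assoc, Ideal.Quotient.factorₐ_comp_mk]

include hρ hker in
/-- `B` is formally smooth over `A` for the `𝔪`-adic topology on `A`. -/
theorem exists_lift (J : Ideal C) (hJ : IsNilpotent J)
    (hk : ∃ k : ℕ, (𝔪 ^ k).map (algebraMap A C) = ⊥) (u : B →ₐ[A] C ⧸ J) :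
    ∃ v : B →ₐ[A] C, (Ideal.Quotient.mkₐ A J).comp v = u := by
  obtain ⟨N, hN⟩ := hJ
  obtain ⟨k, hk⟩ := hk
  apply exists_lift_of_iterate 𝔪 ρ hρ hker (N + k) J
  rw [eq_bot_iff]
  refine (iterate_next_le 𝔪 (N + k) J).trans (Ideal.mul_le_left.trans ?_)
  refine Ideal.sup_pow_add_le_pow_sup_pow.trans ?_
  rw [hN, ← Ideal.map_pow, hk]
  simp

end

end Groth.Agent.Helper8.CohenSm
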