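import Mathlib
import Groth.Agent.Lib.Helper8.CohenSm2

/-!
# Lifting to complete rings for flat algebras with formally smooth special fibre
-/

set_option autoImplicit false

namespace Groth.Agent.Helper8.CohenSm

universe u

theorem eq_of_forall_mk_pow_eq {R : Type u} [CommRing R] (I : Ideal R) [IsHausdorff I R]
    (x y : R) (h : ∀ n : ℕ, Ideal.Quotient.mk (I ^ (n + 1)) x = Ideal.Quotient.mk (I ^ (n + 1)) y) :
    x = y := by
  rw [← sub_eq_zero]
  apply IsHausdorff.haus' (I := I)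
  intro n
  rw [SModEq.zero, smul_eq_mul, Ideal.mul_top]
  exact Ideal.pow_le_pow_right (Nat.le_succ n) (Ideal.Quotient.eq.1 (h n))

section

variable {A : Type u} [CommRing A] (𝔪 : Ideal A)
  {B : Type u} [CommRing B] [Algebra A B] [Module.Flat A B]
  {K : Type u} [CommRing K] [Algebra A K] [Algebra (A ⧸ 𝔪) K] [IsScalarTower A (A ⧸ 𝔪) K]
  [Algebra.FormallySmooth (A ⧸ 𝔪) K]
  (ρ : B →ₐ[A] K) (hρ : Function.Surjective ρ) (hker : RingHom.ker ρ = 𝔪.map (algebraMap A B))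

include hρ hker in
/-- Lifting along a surjection with nilpotent kernel. -/
theorem exists_lift_surjective {C' C'' : Type u} [CommRing C'] [Algebra A C'] [CommRing C'']
    [Algebra A C''] (p : C' →ₐ[A] C'') (hp : Function.Surjective p)
    (hnil : IsNilpotent (RingHom.ker p)) (hk : ∃ k : ℕ, (𝔪 ^ k).map (algebraMap A C') = ⊥)
    (u : B →ₐ[A] C'') : ∃ v : B →ₐ[A] C', p.comp v = u := by
  let e := Ideal.quotientKerAlgEquivOfSurjective hp
  obtain ⟨v, hv⟩ := exists_lift 𝔪 ρ hρ hker (RingHom.ker p) hnil hk (e.symm.toAlgHom.comp u)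
  refine ⟨v, ?_⟩
  ext b
  have h1 : Ideal.Quotient.mk (RingHom.ker p) (v b) = e.symm (u b) := AlgHom.congr_fun hv b
  have h2 : e (Ideal.Quotient.mk _ (v b)) = u b := by
    rw [h1]; exact e.apply_symm_apply _
  rw [← h2]
  exact (Ideal.quotientKerAlgEquivOfSurjective_mk hp (v b)).symm

variable {R : Type u} [CommRing R] [Algebra A R] (I : Ideal R)
  (hI : 𝔪.map (algebraMap A R) ≤ I)

include hρ hker hI in
theorem exists_step (n : ℕ) (g : B →ₐ[A] R ⧸ I ^ (n + 1)) :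
    ∃ g' : B →ₐ[A] R ⧸ I ^ (n + 1 + 1),
      (Ideal.Quotient.factorₐ A (Ideal.pow_le_pow_right (Nat.le_succ (n + 1)))).comp g' = g := by
  have hle : I ^ (n + 1 + 1) ≤ I ^ (n + 1) := Ideal.pow_le_pow_right (Nat.le_succ (n + 1))
  have hkerp : RingHom.ker (Ideal.Quotient.factorₐ A hle) =
      (I ^ (n + 1)).map (Ideal.Quotient.mk (I ^ (n + 1 + 1))) := Ideal.Quotient.factor_ker hle
  refine exists_lift_surjective 𝔪 ρ hρ hker (Ideal.Quotient.factorₐ A hle)
    (Ideal.Quotient.factor_surjective hle) ⟨2, ?_⟩ ⟨n + 1 + 1, ?_⟩ g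
  · rw [hkerp, ← Ideal.map_pow, Ideal.zero_eq_bot, Ideal.map_eq_bot_iff_le_ker, Ideal.mk_ker,
      ← pow_mul]
    exact Ideal.pow_le_pow_right (by omega)
  · rw [IsScalarTower.algebraMap_eq A R (R ⧸ I ^ (n + 1 + 1)), ← Ideal.map_map, Ideal.map_pow]
    rw [Ideal.Quotient.algebraMap_eq, Ideal.map_eq_bot_iff_le_ker, Ideal.mk_ker]
    exact Ideal.pow_right_mono hI _

/-- The compatible sequence of lifts. -/
noncomputable def seq (g0 : B →ₐ[A] R ⧸ I ^ (0 + 1)) : (n : ℕ) → (B →ₐ[A] R ⧸ I ^ (n + 1))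
  | 0 => g0
  | n + 1 => Classical.choose (exists_step 𝔪 ρ hρ hker I hI n (seq g0 n))

theorem seq_succ (g0 : B →ₐ[A] R ⧸ I ^ (0 + 1)) (n : ℕ) :
    (Ideal.Quotient.factorₐ A (Ideal.pow_le_pow_right (Nat.le_succ (n + 1)))).comp
      (seq 𝔪 ρ hρ hker I hI g0 (n + 1)) = seq 𝔪 ρ hρ hker I hI g0 n :=
  Classical.choose_spec (exists_step 𝔪 ρ hρ hker I hI n (seq 𝔪 ρ hρ hker I hI g0 n))

include hρ hker hI in
/-- Lifting to an `I`-adically complete `A`-algebra `R` with `𝔪 R ≤ I`. -/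
theorem exists_lift_complete [IsAdicComplete I R] (u : B →ₐ[A] R ⧸ I) :
    ∃ v : B →ₐ[A] R, (Ideal.Quotient.mkₐ A I).comp v = u := by
  have h1 : I = I ^ (0 + 1) := by rw [zero_add, pow_one]
  let e : (R ⧸ I) ≃ₐ[A] R ⧸ I ^ (0 + 1) := Ideal.quotientEquivAlgOfEq A h1
  let g0 : B →ₐ[A] R ⧸ I ^ (0 + 1) := e.toAlgHom.comp u
  have ha : StrictMono (fun n : ℕ => n + 1) := fun a b h => Nat.succ_lt_succ h
  obtain ⟨s, hs0, hs1⟩ : ∃ s : (n : ℕ) → (B →ₐ[A] R ⧸ I ^ (n + 1)), s 0 = g0 ∧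
      ∀ n, (Ideal.Quotient.factorₐ A (Ideal.pow_le_pow_right (Nat.le_succ (n + 1)))).comp
        (s (n + 1)) = s n :=
    ⟨seq 𝔪 ρ hρ hker I hI g0, rfl, seq_succ 𝔪 ρ hρ hker I hI g0⟩
  let f : (n : ℕ) → (B →+* R ⧸ I ^ (n + 1)) := fun n => (s n).toRingHom
  have hf : ∀ n, (Ideal.Quotient.factorPow I (Nat.le_succ (n + 1))).comp (f (n + 1)) = f n :=
    fun n => by
    ext x
    have := AlgHom.congr_fun (hs1 n) x
    rw [AlgHom.comp_apply] at this
    rw [RingHom.comp_apply]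
    exact this
  obtain ⟨φ, hφ⟩ : ∃ φ : B →+* R, ∀ n (x : B),
      Ideal.Quotient.mk (I ^ (n + 1)) (φ x) = f n x :=
    ⟨IsAdicComplete.StrictMono.liftRingHom I ha f (fun {m} => hf m),
      fun n x => IsAdicComplete.StrictMono.mk_liftRingHom I ha f (fun {m} => hf m) (n := n) x⟩
  let v : B →ₐ[A] R :=
    { φ with
      commutes' := by
        intro a
        apply eq_of_forall_mk_pow_eq I
        intro n
        show Ideal.Quotient.mk (I ^ (n + 1)) (φ (algebraMap A B a)) = _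
        rw [hφ]
        show s n (algebraMap A B a) = _
        rw [AlgHom.commutes]
        rfl }
  refine ⟨v, ?_⟩
  ext x
  have h2 : Ideal.Quotient.mk (I ^ (0 + 1)) (φ x) = e (u x) := by
    rw [hφ 0 x]
    show s 0 x = _
    rw [hs0]
    rfl
  apply e.injective
  rw [← h2]
  rfl

end

end Groth.Agent.Helper8.CohenSm
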