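import Mathlib
import Groth.Prelude.Def_CAlgX
import Groth.Agent.Lib.Helper8.CohenSm3

/-!
# Formal smoothness for an adic topology: lifting to complete rings
-/

set_option autoImplicit false

namespace Groth.Agent.Helper8.AdicFS

open CAlgX

universe u

section basic

variable {R S : Type u} [CommRing R] [CommRing S] [Algebra R S] {𝔫 : Ideal S}

theorem map_pow_mem {S' : Type*} [CommRing S'] {𝔫' : Ideal S'} (f : S →+* S')
    (hf : ∀ x ∈ 𝔫, f x ∈ 𝔫') (k : ℕ) : ∀ x ∈ 𝔫 ^ k, f x ∈ 𝔫' ^ k := by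
  intro x hx
  have h1 : 𝔫.map f ≤ 𝔫' := by
    rw [Ideal.map_le_iff_le_comap]
    intro y hy
    exact hf y hy
  have h2 : f x ∈ (𝔫 ^ k).map f := Ideal.mem_map_of_mem f hx
  rw [Ideal.map_pow] at h2
  exact Ideal.pow_right_mono h1 k h2

/-- Transport along an isomorphism. -/
theorem of_algEquiv {S' : Type u} [CommRing S'] [Algebra R S'] {𝔫' : Ideal S'}
    (h : IsAdicFormallySmooth R S 𝔫) (e : S' ≃ₐ[R] S) (he : ∀ x ∈ 𝔫, e.symm x ∈ 𝔫') :
    IsAdicFormallySmooth R S' 𝔫' := by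
  intro A _ _ J hJ ψ ⟨k, hk⟩
  obtain ⟨χ, hχ⟩ := h A J hJ (ψ.comp e.symm.toAlgHom) ⟨k, fun x hx => by
    show ψ (e.symm x) = 0
    exact hk _ (map_pow_mem (e.symm : S →+* S') he k x hx)⟩
  refine ⟨χ.comp e.toAlgHom, ?_⟩
  ext x
  have := AlgHom.congr_fun hχ (e x)
  rw [AlgHom.comp_apply, AlgHom.comp_apply] at this
  rw [AlgHom.comp_apply, AlgHom.comp_apply]
  show _ = ψ x
  rw [show χ (e.toAlgHom x) = χ (e x) from rfl, this]
  show ψ (e.symm (e x)) = ψ x
  rw [e.symm_apply_apply]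

/-- Lifting along a surjection with square-zero kernel; the lift is again continuous. -/
theorem exists_lift_surjective (h : IsAdicFormallySmooth R S 𝔫)
    {C' C'' : Type u} [CommRing C'] [Algebra R C'] [CommRing C''] [Algebra R C'']
    (p : C' →ₐ[R] C'') (hp : Function.Surjective p) (hsq : RingHom.ker p ^ 2 = ⊥)
    (u : S →ₐ[R] C'') (hu : ∃ k : ℕ, ∀ x ∈ 𝔫 ^ k, u x = 0) :
    ∃ v : S →ₐ[R] C', p.comp v = u ∧ ∃ k : ℕ, ∀ x ∈ 𝔫 ^ k, v x = 0 := by
  obtain ⟨k, hk⟩ := hu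
  let e := Ideal.quotientKerAlgEquivOfSurjective hp
  obtain ⟨v, hv⟩ := h C' (RingHom.ker p) hsq (e.symm.toAlgHom.comp u) ⟨k, fun x hx => by
    show e.symm (u x) = 0
    rw [hk x hx, map_zero]⟩
  have hpv : p.comp v = u := by
    ext b
    have h1 : Ideal.Quotient.mk (RingHom.ker p) (v b) = e.symm (u b) := AlgHom.congr_fun hv b
    have h2 : e (Ideal.Quotient.mk _ (v b)) = u b := by
      rw [h1]; exact e.apply_symm_apply _
    rw [← h2]
    exact (Ideal.quotientKerAlgEquivOfSurjective_mk hp (v b)).symm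
  refine ⟨v, hpv, 2 * k, ?_⟩
  have hmem : ∀ x ∈ 𝔫 ^ k, v x ∈ RingHom.ker p := by
    intro x hx
    rw [RingHom.mem_ker]
    have := AlgHom.congr_fun hpv x
    rw [AlgHom.comp_apply] at this
    rw [this, hk x hx]
  have hle : 𝔫 ^ (2 * k) ≤ RingHom.ker (v : S →+* C') := by
    rw [two_mul, pow_add, Ideal.mul_le]
    intro a ha b hb
    rw [RingHom.mem_ker, map_mul]
    have h1 : v a * v b ∈ RingHom.ker p ^ 2 := by
      rw [pow_two]; exact Ideal.mul_mem_mul (hmem a ha) (hmem b hb)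
    rw [hsq] at h1
    exact h1
  intro x hx
  exact RingHom.mem_ker.1 (hle hx)

end basic

section complete

variable {R S : Type u} [CommRing R] [CommRing S] [Algebra R S] {𝔫 : Ideal S}
  (h : IsAdicFormallySmooth R S 𝔫)
  {T : Type u} [CommRing T] [Algebra R T] (I : Ideal T)

/-- Continuous homomorphisms to `T ⧸ I ^ (n + 1)`. -/
abbrev CHom (𝔫 : Ideal S) (I : Ideal T) (n : ℕ) : Type u :=
  {g : S →ₐ[R] T ⧸ I ^ (n + 1) // ∃ k : ℕ, ∀ x ∈ 𝔫 ^ k, g x = 0}

include h in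
theorem exists_step (n : ℕ) (g : CHom (R := R) 𝔫 I n) :
    ∃ g' : CHom (R := R) 𝔫 I (n + 1),
      (Ideal.Quotient.factorₐ R (Ideal.pow_le_pow_right (Nat.le_succ (n + 1)))).comp g'.1 = g.1 := by
  have hle : I ^ (n + 1 + 1) ≤ I ^ (n + 1) := Ideal.pow_le_pow_right (Nat.le_succ (n + 1))
  have hkerp : RingHom.ker (Ideal.Quotient.factorₐ R hle) =
      (I ^ (n + 1)).map (Ideal.Quotient.mk (I ^ (n + 1 + 1))) := Ideal.Quotient.factor_ker hle
  obtain ⟨v, hv, hk⟩ := exists_lift_surjective h (Ideal.Quotient.factorₐ R hle)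
    (Ideal.Quotient.factor_surjective hle) (by
      rw [hkerp, ← Ideal.map_pow, Ideal.map_eq_bot_iff_le_ker, Ideal.mk_ker, ← pow_mul]
      exact Ideal.pow_le_pow_right (by omega)) g.1 g.2
  exact ⟨⟨v, hk⟩, hv⟩

/-- The compatible sequence of lifts. -/
noncomputable def seq (g0 : CHom (R := R) 𝔫 I 0) : (n : ℕ) → CHom (R := R) 𝔫 I n
  | 0 => g0
  | n + 1 => Classical.choose (exists_step h I n (seq g0 n))

theorem seq_succ (g0 : CHom (R := R) 𝔫 I 0) (n : ℕ) :
    (Ideal.Quotient.factorₐ R (Ideal.pow_le_pow_right (Nat.le_succ (n + 1)))).comp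
      (seq h I g0 (n + 1)).1 = (seq h I g0 n).1 :=
  Classical.choose_spec (exists_step h I n (seq h I g0 n))

include h in
/-- A continuous homomorphism to `T ⧸ I` lifts to `T` when `T` is `I`-adically complete. -/
theorem exists_lift_complete [IsAdicComplete I T] (u : S →ₐ[R] T ⧸ I)
    (hu : ∃ k : ℕ, ∀ x ∈ 𝔫 ^ k, u x = 0) :
    ∃ v : S →ₐ[R] T, (Ideal.Quotient.mkₐ R I).comp v = u := by
  have h1 : I = I ^ (0 + 1) := by rw [zero_add, pow_one]
  let e : (T ⧸ I) ≃ₐ[R] T ⧸ I ^ (0 + 1) := Ideal.quotientEquivAlgOfEq R h1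
  let g0 : CHom (R := R) 𝔫 I 0 := ⟨e.toAlgHom.comp u, by
    obtain ⟨k, hk⟩ := hu
    refine ⟨k, fun x hx => ?_⟩
    show e (u x) = 0
    rw [hk x hx, map_zero]⟩
  have ha : StrictMono (fun n : ℕ => n + 1) := fun a b h => Nat.succ_lt_succ h
  obtain ⟨s, hs0, hs1⟩ : ∃ s : (n : ℕ) → (S →ₐ[R] T ⧸ I ^ (n + 1)), s 0 = g0.1 ∧
      ∀ n, (Ideal.Quotient.factorₐ R (Ideal.pow_le_pow_right (Nat.le_succ (n + 1)))).comp
        (s (n + 1)) = s n :=
    ⟨fun n => (seq h I g0 n).1, rfl, seq_succ h I g0⟩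
  let f : (n : ℕ) → (S →+* T ⧸ I ^ (n + 1)) := fun n => (s n).toRingHom
  have hf : ∀ n, (Ideal.Quotient.factorPow I (Nat.le_succ (n + 1))).comp (f (n + 1)) = f n :=
    fun n => by
    ext x
    have := AlgHom.congr_fun (hs1 n) x
    rw [AlgHom.comp_apply] at this
    rw [RingHom.comp_apply]
    exact this
  obtain ⟨φ, hφ⟩ : ∃ φ : S →+* T, ∀ n (x : S),
      Ideal.Quotient.mk (I ^ (n + 1)) (φ x) = f n x :=
    ⟨IsAdicComplete.StrictMono.liftRingHom I ha f (fun {m} => hf m),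
      fun n x => IsAdicComplete.StrictMono.mk_liftRingHom I ha f (fun {m} => hf m) (n := n) x⟩
  let v : S →ₐ[R] T :=
    { φ with
      commutes' := by
        intro a
        apply Groth.Agent.Helper8.CohenSm.eq_of_forall_mk_pow_eq I
        intro n
        show Ideal.Quotient.mk (I ^ (n + 1)) (φ (algebraMap R S a)) = _
        rw [hφ]
        show s n (algebraMap R S a) = _
        rw [AlgHom.commutes]
        rfl }
  refine ⟨v, ?_⟩
  ext x
  have h2 : Ideal.Quotient.mk (I ^ (0 + 1)) (φ x) = e (u x) := by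
    rw [hφ 0 x]
    show s 0 x = _
    rw [hs0]
    rfl
  apply e.injective
  rw [← h2]
  rfl

end complete

end Groth.Agent.Helper8.AdicFS
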