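import Mathlib
import Groth.Agent.Lib.Helper8.AdicFS1

/-!
# Formal smoothness for an adic topology is insensitive to completion
-/

set_option autoImplicit false

namespace Groth.Agent.Helper8.AdicFS

open CAlgX

universe u

section

variable {S : Type u} [CommRing S] (𝔫 : Ideal S)

theorem map_pow_le_ker_evalₐ (n : ℕ) :
    (𝔫 ^ n).map (algebraMap S (AdicCompletion 𝔫 S)) ≤ RingHom.ker (AdicCompletion.evalₐ 𝔫 n) := by
  rw [Ideal.map_le_iff_le_comap]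
  intro x hx
  rw [Ideal.mem_comap, RingHom.mem_ker, AlgHom.commutes, Ideal.Quotient.algebraMap_eq,
    Ideal.Quotient.eq_zero_iff_mem]
  exact hx

theorem ker_evalₐ_le_map_pow (fg : 𝔫.FG) (n : ℕ) :
    RingHom.ker (AdicCompletion.evalₐ 𝔫 n) ≤ (𝔫 ^ n).map (algebraMap S (AdicCompletion 𝔫 S)) := by
  intro x hx
  rw [RingHom.mem_ker] at hx
  have h1 : AdicCompletion.eval 𝔫 S n x = 0 := by
    rw [← AdicCompletion.factor_evalₐ_eq_eval 𝔫 (n := n) x
      (le_of_eq (Ideal.mul_top (𝔫 ^ n)).symm), hx, map_zero]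
  have h3 : x ∈ (𝔫 ^ n • ⊤ : Submodule S (AdicCompletion 𝔫 S)) := by
    rw [AdicCompletion.pow_smul_top_eq_ker_eval fg]
    exact h1
  rw [Ideal.smul_top_eq_map] at h3
  exact h3

end

section cpl

variable {R S : Type u} [CommRing R] [CommRing S] [Algebra R S] (𝔫 : Ideal S)

instance isScalarTower_cpl : IsScalarTower R S (AdicCompletion 𝔫 S) :=
  IsScalarTower.of_algebraMap_eq (fun _ => rfl)

/-- Descent from the completion. -/
theorem of_completion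
    (h : IsAdicFormallySmooth R (AdicCompletion 𝔫 S) (𝔫.map (algebraMap S (AdicCompletion 𝔫 S)))) :
    IsAdicFormallySmooth R S 𝔫 := by
  intro A _ _ J hJ ψ ⟨k, hk⟩
  let ψ' : S ⧸ 𝔫 ^ k →ₐ[R] A ⧸ J := Ideal.Quotient.liftₐ (𝔫 ^ k) ψ hk
  let ψh : AdicCompletion 𝔫 S →ₐ[R] A ⧸ J :=
    ψ'.comp ((AdicCompletion.evalₐ 𝔫 k).restrictScalars R)
  obtain ⟨χh, hχh⟩ := h A J hJ ψh ⟨k, fun x hx => by
    rw [← Ideal.map_pow] at hx
    have h1 := map_pow_le_ker_evalₐ 𝔫 k hx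
    rw [RingHom.mem_ker] at h1
    show ψ' (AdicCompletion.evalₐ 𝔫 k x) = 0
    rw [h1, map_zero]⟩
  refine ⟨χh.comp (IsScalarTower.toAlgHom R S (AdicCompletion 𝔫 S)), ?_⟩
  ext s
  have h2 := AlgHom.congr_fun hχh (algebraMap S (AdicCompletion 𝔫 S) s)
  rw [AlgHom.comp_apply] at h2
  rw [AlgHom.comp_apply, AlgHom.comp_apply]
  show Ideal.Quotient.mkₐ R J (χh (algebraMap S (AdicCompletion 𝔫 S) s)) = ψ s
  rw [h2]
  show ψ' (AdicCompletion.evalₐ 𝔫 k (AdicCompletion.of 𝔫 S s)) = ψ s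
  rw [AdicCompletion.evalₐ_of]
  rfl

/-- Passage to the completion. -/
theorem completion (fg : 𝔫.FG) (h : IsAdicFormallySmooth R S 𝔫) :
    IsAdicFormallySmooth R (AdicCompletion 𝔫 S) (𝔫.map (algebraMap S (AdicCompletion 𝔫 S))) := by
  intro A _ _ J hJ ψh ⟨k, hk⟩
  let ψ : S →ₐ[R] A ⧸ J := ψh.comp (IsScalarTower.toAlgHom R S (AdicCompletion 𝔫 S))
  have hψ : ∀ x ∈ 𝔫 ^ k, ψ x = 0 := fun x hx => by
    show ψh (algebraMap S (AdicCompletion 𝔫 S) x) = 0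
    apply hk
    rw [← Ideal.map_pow]
    exact Ideal.mem_map_of_mem _ hx
  obtain ⟨χ, hχ, k', hk'⟩ := exists_lift_surjective h (Ideal.Quotient.mkₐ R J)
    Ideal.Quotient.mk_surjective (by
      have : RingHom.ker (Ideal.Quotient.mkₐ R J) = J := Ideal.mk_ker
      rw [this]; exact hJ) ψ ⟨k, hψ⟩
  have hN : ∀ x ∈ 𝔫 ^ (k + k'), χ x = 0 := fun x hx =>
    hk' x (Ideal.pow_le_pow_right (Nat.le_add_left k' k) hx)
  let χ' : S ⧸ 𝔫 ^ (k + k') →ₐ[R] A := Ideal.Quotient.liftₐ (𝔫 ^ (k + k')) χ hN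
  let χh : AdicCompletion 𝔫 S →ₐ[R] A :=
    χ'.comp ((AdicCompletion.evalₐ 𝔫 (k + k')).restrictScalars R)
  refine ⟨χh, ?_⟩
  ext x
  obtain ⟨s, hs⟩ := Ideal.Quotient.mk_surjective (AdicCompletion.evalₐ 𝔫 (k + k') x)
  have hdiff : x - algebraMap S (AdicCompletion 𝔫 S) s ∈
      RingHom.ker (AdicCompletion.evalₐ 𝔫 (k + k')) := by
    rw [RingHom.mem_ker, map_sub, ← hs]
    show _ - AdicCompletion.evalₐ 𝔫 (k + k') (AdicCompletion.of 𝔫 S s) = 0
    rw [AdicCompletion.evalₐ_of, sub_self]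
  have hmem := ker_evalₐ_le_map_pow 𝔫 fg (k + k') hdiff
  have hmem' : x - algebraMap S (AdicCompletion 𝔫 S) s ∈
      (𝔫.map (algebraMap S (AdicCompletion 𝔫 S))) ^ k := by
    rw [← Ideal.map_pow]
    exact Ideal.map_mono (Ideal.pow_le_pow_right (Nat.le_add_right k k')) hmem
  have h0 := hk _ hmem'
  rw [map_sub, sub_eq_zero] at h0
  rw [AlgHom.comp_apply]
  show Ideal.Quotient.mkₐ R J (χ' (AdicCompletion.evalₐ 𝔫 (k + k') x)) = ψh x
  rw [← hs, h0]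
  show Ideal.Quotient.mkₐ R J (χ s) = ψ s
  have := AlgHom.congr_fun hχ s
  rw [AlgHom.comp_apply] at this
  exact this

end cpl

end Groth.Agent.Helper8.AdicFS
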