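import Mathlib
import Groth.Agent.S9455

/-!
# Lifting homomorphisms from a Cohen ring along nilpotent surjections
-/

set_option autoImplicit false

namespace Groth.Agent.Helper8.CohenLift

open IsLocalRing

universe u v w

/-- The ring homomorphism `ZMod N → D` when `N = 0` in `D`. -/
noncomputable def zmodHom (N : ℕ) (D : Type*) [CommRing D] (h : (N : D) = 0) : ZMod N →+* D :=
  (Ideal.Quotient.lift (Ideal.span {(N : ℤ)}) (Int.castRingHom D) (by
    intro a ha
    rw [Ideal.mem_span_singleton] at ha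
    obtain ⟨c, rfl⟩ := ha
    simp [h])).comp (Int.quotientSpanNatEquivZMod N).symm.toRingHom

/-- A ring homomorphism between `ZMod N`-algebras is an algebra homomorphism. -/
def toZModAlgHom {N : ℕ} {A B : Type*} [CommRing A] [CommRing B] [Algebra (ZMod N) A]
    [Algebra (ZMod N) B] (f : A →+* B) : A →ₐ[ZMod N] B :=
  { f with
    commutes' := fun r =>
      RingHom.congr_fun (Subsingleton.elim (f.comp (algebraMap (ZMod N) A))
        (algebraMap (ZMod N) B)) r }

@[simp]
theorem toZModAlgHom_apply {N : ℕ} {A B : Type*} [CommRing A] [CommRing B] [Algebra (ZMod N) A]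
    [Algebra (ZMod N) B] (f : A →+* B) (a : A) : toZModAlgHom (N := N) f a = f a := rfl

section step

variable (Λ : Type u) [CommRing Λ] [IsDomain Λ] [IsDiscreteValuationRing Λ]
  [IsAdicComplete (maximalIdeal Λ) Λ] (p : ℕ) (hp : p.Prime)
  (hm : maximalIdeal Λ = Ideal.span {(p : Λ)})

include hp hm in
/-- Lifting along a surjection with nilpotent kernel, when a power of `p` vanishes in the
source of the surjection. -/
theorem exists_lift_of_nilpotent {B : Type v} {C : Type w} [CommRing B] [CommRing C]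
    (π : B →+* C) (hπ : Function.Surjective π) (hnil : IsNilpotent (RingHom.ker π))
    (N : ℕ) (hN : 1 ≤ N) (hpB : ((p : B)) ^ N = 0) (g : Λ →+* C) :
    ∃ g' : Λ →+* B, π.comp g' = g := by
  have hpB' : ((p ^ N : ℕ) : B) = 0 := by rw [Nat.cast_pow]; exact hpB
  have hpC' : ((p ^ N : ℕ) : C) = 0 := by
    have := congrArg π hpB'
    rwa [map_natCast, map_zero] at this
  have hpΛ' : ((p ^ N : ℕ) : Λ ⧸ Ideal.span {((p : Λ)) ^ N}) = 0 := by
    rw [Nat.cast_pow, ← map_natCast (Ideal.Quotient.mk (Ideal.span {((p : Λ)) ^ N})), ← map_pow,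
      Ideal.Quotient.eq_zero_iff_mem]
    exact Ideal.mem_span_singleton_self _
  letI : Algebra (ZMod (p ^ N)) B := (zmodHom (p ^ N) B hpB').toAlgebra
  letI : Algebra (ZMod (p ^ N)) C := (zmodHom (p ^ N) C hpC').toAlgebra
  letI : Algebra (ZMod (p ^ N)) (Λ ⧸ Ideal.span {((p : Λ)) ^ N}) :=
    (zmodHom (p ^ N) _ hpΛ').toAlgebra
  haveI : Algebra.FormallySmooth (ZMod (p ^ N)) (Λ ⧸ Ideal.span {((p : Λ)) ^ N}) :=
    Groth.Agent.S9455.result Λ p hp hm N hN
  -- the induced map on the quotient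
  have hker : ∀ a ∈ Ideal.span {((p : Λ)) ^ N}, g a = 0 := by
    intro a ha
    rw [Ideal.mem_span_singleton] at ha
    obtain ⟨c, rfl⟩ := ha
    rw [map_mul, map_pow, map_natCast, ← Nat.cast_pow, hpC', zero_mul]
  let gbar : (Λ ⧸ Ideal.span {((p : Λ)) ^ N}) →+* C := Ideal.Quotient.lift _ g hker
  let gA : (Λ ⧸ Ideal.span {((p : Λ)) ^ N}) →ₐ[ZMod (p ^ N)] C := toZModAlgHom gbar
  let πA : B →ₐ[ZMod (p ^ N)] C := toZModAlgHom π
  have hπA : Function.Surjective πA := hπ
  have hnilA : IsNilpotent (RingHom.ker (πA : B →+* C)) := hnil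
  let L := Algebra.FormallySmooth.liftOfSurjective gA πA hπA hnilA
  refine ⟨L.toRingHom.comp (Ideal.Quotient.mk _), ?_⟩
  ext a
  have := Algebra.FormallySmooth.liftOfSurjective_apply gA πA hπA hnilA (Ideal.Quotient.mk _ a)
  exact this

end step

end Groth.Agent.Helper8.CohenLift
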