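import Mathlib
import Groth.Agent.S0579
import Groth.Agent.S2451
import Groth.Agent.S2452
import Groth.Agent.Lib.Helper8.CohenLift1
import Groth.Agent.Lib.Helper2.SepPerfect

/-!
# Coefficient fields of complete local rings of equal characteristic
-/

set_option autoImplicit false

namespace Groth.Agent.Helper8.CoeffField

open IsLocalRing

universe u

/-- A complete local ring in which the residue characteristic vanishes has a coefficient
field. -/
theorem exists_coeffField (A : Type u) [CommRing A] [IsLocalRing A]
    [IsAdicComplete (maximalIdeal A) A] (p : ℕ) [CharP (ResidueField A) p] (hp : (p : A) = 0) :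
    ∃ s : ResidueField A →+* A, (residue A).comp s = RingHom.id _ := by
  rcases CharP.char_is_prime_or_zero (ResidueField A) p with hpp | h0
  · haveI : Fact p.Prime := ⟨hpp⟩
    let φ₀ : ULift.{u} (ZMod p) →+* A :=
      (Groth.Agent.Helper8.CohenLift.zmodHom p A hp).comp
        (ULift.ringEquiv : ULift.{u} (ZMod p) ≃+* ZMod p).toRingHom
    letI : Algebra (ULift.{u} (ZMod p)) A := φ₀.toAlgebra
    haveI : Algebra.FormallySmooth (ULift.{u} (ZMod p)) (ResidueField A) :=
      Groth.Agent.Helper2.Sep.formallySmooth_of_perfect p (ULift.{u} (ZMod p)) (ResidueField A)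
    haveI : Algebra.IsGeometricallyReduced (ULift.{u} (ZMod p)) (ResidueField A) :=
      Groth.Agent.S2451.result.1 inferInstance
    obtain ⟨σ, hσ⟩ := Groth.Agent.S2452.result (k := ULift.{u} (ZMod p)) (A := A)
    refine ⟨σ.toRingHom, ?_⟩
    ext x
    exact hσ x
  · subst h0
    haveI : CharZero (ResidueField A) := CharP.charP_to_charZero _
    exact Groth.Agent.S0579.result A

/-- A complete local ring containing a field has a coefficient field. -/
theorem exists_coeffField_of_field (A : Type u) [CommRing A] [IsLocalRing A]
    [IsAdicComplete (maximalIdeal A) A] (K : Type*) [Field K] (f : K →+* A) :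
    ∃ s : ResidueField A →+* A, (residue A).comp s = RingHom.id _ := by
  obtain ⟨p, hp⟩ := CharP.exists (ResidueField A)
  haveI : CharP K p := by
    have hinj : Function.Injective ((residue A).comp f) := RingHom.injective _
    exact (RingHom.charP_iff _ hinj p).2 hp
  apply exists_coeffField A p
  rw [← map_natCast f, CharP.cast_eq_zero, map_zero]

end Groth.Agent.Helper8.CoeffField
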