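import Mathlib

/-!
# Directed unions of local rings with flat local transition maps (EGA 0_III 10.3.1.3), part 1

A directed system of rings `B i` with maps into a ring `R` which is their "directed colimit"
(jointly surjective, and two elements with the same image become equal at a later stage).
If all `B i` are local and the transition maps are flat and local, then `R` is local,
each `B i → R` is flat and local.
-/

set_option autoImplicit false

namespace Groth.Agent.Helper8.ColimLoc

open IsLocalRing

universe u v w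

variable {ι : Type u} [Preorder ι]
  (B : ι → Type v) [∀ i, CommRing (B i)]
  (f : ∀ i j, i ≤ j → B i →+* B j)
  (R : Type w) [CommRing R] (g : ∀ i, B i →+* R)

/-- `R` together with the maps `g i : B i → R` is a directed colimit of the system `(B, f)`,
elementwise formulation. -/
structure IsDirColim : Prop where
  comp : ∀ i j (h : i ≤ j) (x : B i), g j (f i j h x) = g i x
  surj : ∀ r : R, ∃ i, ∃ x : B i, g i x = r
  inj : ∀ i (x y : B i), g i x = g i y → ∃ j, ∃ h : i ≤ j, f i j h x = f i j h y

/-- The transition maps of the system are flat local homomorphisms of local rings which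
preserve the maximal ideals (`m_i B_j = m_j`). -/
structure GoodSys [∀ i, IsLocalRing (B i)] : Prop where
  flat : ∀ i j (h : i ≤ j), (f i j h).Flat
  loc : ∀ i j (h : i ≤ j), IsLocalHom (f i j h)
  max : ∀ i j (h : i ≤ j), (maximalIdeal (B i)).map (f i j h) = maximalIdeal (B j)

/-- A flat local homomorphism of local rings is injective. -/
theorem injective_of_flat_of_isLocalHom {S T : Type*} [CommRing S] [CommRing T] [IsLocalRing S]
    [IsLocalRing T] (φ : S →+* T) (hφ : φ.Flat) [IsLocalHom φ] : Function.Injective φ := by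
  letI := φ.toAlgebra
  haveI : Module.Flat S T := hφ
  haveI : IsLocalHom (algebraMap S T) := ‹IsLocalHom φ›
  haveI : Module.FaithfullyFlat S T := Module.FaithfullyFlat.of_flat_of_isLocalHom
  rw [injective_iff_map_eq_zero]
  intro x hx
  have h := Ideal.comap_map_eq_self_of_faithfullyFlat (B := T) (⊥ : Ideal S)
  have hx' : x ∈ Ideal.comap (algebraMap S T) (Ideal.map (algebraMap S T) ⊥) := by
    rw [Ideal.mem_comap, Ideal.map_bot]
    exact hx
  rw [h] at hx'
  exact hx'

/-- Contraction of an extended ideal along a flat local homomorphism of local rings. -/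
theorem comap_map_of_flat_of_isLocalHom {S T : Type*} [CommRing S] [CommRing T] [IsLocalRing S]
    [IsLocalRing T] (φ : S →+* T) (hφ : φ.Flat) [IsLocalHom φ] (I : Ideal S) :
    (I.map φ).comap φ = I := by
  letI := φ.toAlgebra
  haveI : Module.Flat S T := hφ
  haveI : IsLocalHom (algebraMap S T) := ‹IsLocalHom φ›
  haveI : Module.FaithfullyFlat S T := Module.FaithfullyFlat.of_flat_of_isLocalHom
  exact Ideal.comap_map_eq_self_of_faithfullyFlat (B := T) I

/-- Equational criterion, forward direction, in algebra form. -/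
theorem flat_aux0 {R' : Type*} {S' : Type*} [CommRing R'] [CommRing S'] [Algebra R' S']
    [Module.Flat R' S'] {l : ℕ} (F : Fin l → R') (X : Fin l → S')
    (hrel' : ∑ i, F i • X i = 0) : Module.IsTrivialRelation F X :=
  Module.Flat.isTrivialRelation_of_sum_smul_eq_zero hrel'

/-- A relation which holds after a flat map followed by an injective map is trivial. -/
theorem isTrivialRelation_of_factor {S T R : Type*} [CommRing S] [CommRing T] [CommRing R]
    (φ : S →+* T) (hφ : φ.Flat) (γ : T →+* R) (hγ : Function.Injective γ) {l : ℕ}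
    (c : Fin l → S) (X : Fin l → T) (h : ∑ t, γ (φ (c t)) * γ (X t) = 0) :
    ∃ (n : ℕ) (a : Fin l → Fin n → S) (y : Fin n → R),
      (∀ t, γ (X t) = ∑ m, γ (φ (a t m)) * y m) ∧ ∀ m, ∑ t, c t * a t m = 0 := by
  letI := φ.toAlgebra
  haveI : Module.Flat S T := hφ
  have hsmul' : ∀ (b : S) (y : T), b • y = φ b * y := fun b y => by
    rw [Algebra.smul_def]; rfl
  have h2 : ∑ t, φ (c t) * X t = 0 := by
    apply hγ
    rw [map_sum, map_zero, ← h]
    exact Finset.sum_congr rfl fun t _ => map_mul _ _ _
  have h3 : ∑ t, c t • X t = 0 := by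
    rw [← h2]
    exact Finset.sum_congr rfl fun t _ => hsmul' _ _
  obtain ⟨n, a, y, hxy, hca⟩ := flat_aux0 c X h3
  refine ⟨n, a, fun m => γ (y m), fun t => ?_, hca⟩
  rw [hxy t, map_sum]
  refine Finset.sum_congr rfl fun m _ => ?_
  rw [hsmul', map_mul]

variable {B f R g}

section basic

variable [∀ i, IsLocalRing (B i)] (hc : IsDirColim B f R g) (hs : GoodSys B f)
include hc hs

omit hc in
theorem f_injective (i j : ι) (h : i ≤ j) : Function.Injective (f i j h) := by
  haveI := hs.loc i j h
  exact injective_of_flat_of_isLocalHom _ (hs.flat i j h)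

theorem g_injective (i : ι) : Function.Injective (g i) := by
  intro x y hxy
  obtain ⟨j, h, hj⟩ := hc.inj i x y hxy
  exact f_injective hs i j h hj

theorem f_comp (i j k : ι) (hij : i ≤ j) (hjk : j ≤ k) (x : B i) :
    f j k hjk (f i j hij x) = f i k (hij.trans hjk) x := by
  apply g_injective hc hs k
  rw [hc.comp, hc.comp, hc.comp]

end basic

section rep

variable [IsDirected ι (· ≤ ·)] [Nonempty ι] (hc : IsDirColim B f R g)
include hc

omit [Nonempty ι] in
/-- Every element comes from a stage above any given stage. -/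
theorem exists_rep_ge (i₀ : ι) (r : R) : ∃ i, i₀ ≤ i ∧ ∃ x : B i, g i x = r := by
  obtain ⟨i, x, hx⟩ := hc.surj r
  obtain ⟨k, hik, hi₀k⟩ := exists_ge_ge i i₀
  exact ⟨k, hi₀k, f i k hik x, by rw [hc.comp, hx]⟩

omit [Nonempty ι] in
/-- Finite families come from a common stage above any given stage. -/
theorem exists_rep_fin_ge (i₀ : ι) : ∀ (n : ℕ) (r : Fin n → R),
    ∃ i, i₀ ≤ i ∧ ∃ x : Fin n → B i, ∀ l, g i (x l) = r l := by
  intro n
  induction n with
  | zero => intro r; exact ⟨i₀, le_refl _, Fin.elim0, fun l => l.elim0⟩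
  | succ n ih =>
    intro r
    obtain ⟨i₁, h₁, x₁, hx₁⟩ := ih (Fin.tail r)
    obtain ⟨i₂, h₂, x₂, hx₂⟩ := exists_rep_ge hc i₀ (r 0)
    obtain ⟨k, hk₁, hk₂⟩ := exists_ge_ge i₁ i₂
    refine ⟨k, h₁.trans hk₁, Fin.cons (f i₂ k hk₂ x₂) (fun l => f i₁ k hk₁ (x₁ l)), ?_⟩
    intro l
    refine Fin.cases ?_ (fun l => ?_) l
    · rw [Fin.cons_zero, hc.comp, hx₂]
    · rw [Fin.cons_succ, hc.comp, hx₁]; rfl

end rep

section localring

variable [IsDirected ι (· ≤ ·)] [Nonempty ι] [∀ i, IsLocalRing (B i)]
  (hc : IsDirColim B f R g) (hs : GoodSys B f)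
include hc hs

omit [Nonempty ι] in
/-- `g i x` is a unit only if `x` is. -/
theorem isUnit_of_isUnit_g (i : ι) (x : B i) (hx : IsUnit (g i x)) : IsUnit x := by
  obtain ⟨r, hr⟩ := hx.exists_right_inv
  obtain ⟨j, hij, y, hy⟩ := exists_rep_ge hc i r
  have h1 : g j (f i j hij x * y) = g j 1 := by
    rw [map_mul, hc.comp, hy, hr, map_one]
  have h2 : f i j hij x * y = 1 := g_injective hc hs j h1
  have h3 : IsUnit (f i j hij x) := IsUnit.of_mul_eq_one _ h2
  haveI := hs.loc i j hij
  exact (isUnit_map_iff (f i j hij) x).1 h3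

omit [Nonempty ι] in
theorem isLocalHom_g (i : ι) : IsLocalHom (g i) :=
  ⟨fun x hx => isUnit_of_isUnit_g hc hs i x hx⟩

theorem isLocalRing_R : IsLocalRing R := by
  obtain ⟨i₀⟩ := ‹Nonempty ι›
  haveI : Nontrivial R := by
    refine ⟨⟨g i₀ 0, g i₀ 1, fun h => ?_⟩⟩
    exact zero_ne_one (g_injective hc hs i₀ h)
  refine IsLocalRing.of_nonunits_add ?_
  intro a b ha hb
  obtain ⟨i, -, x, hx⟩ := exists_rep_fin_ge hc i₀ 2 ![a, b]
  have hxa : g i (x 0) = a := hx 0
  have hxb : g i (x 1) = b := hx 1
  have h0 : x 0 ∈ nonunits (B i) := fun h => ha (hxa ▸ h.map (g i))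
  have h1 : x 1 ∈ nonunits (B i) := fun h => hb (hxb ▸ h.map (g i))
  have h2 : x 0 + x 1 ∈ nonunits (B i) := IsLocalRing.nonunits_add h0 h1
  intro hu
  apply h2
  apply isUnit_of_isUnit_g hc hs i
  rw [map_add, hxa, hxb]
  exact hu

omit [Nonempty ι] in
theorem map_maximalIdeal_g [IsLocalRing R] (i : ι) :
    (maximalIdeal (B i)).map (g i) = maximalIdeal R := by
  haveI := isLocalHom_g hc hs i
  apply le_antisymm
  · exact ((IsLocalRing.local_hom_TFAE (g i)).out 0 2 rfl rfl).mp (isLocalHom_g hc hs i)
  · intro r hr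
    obtain ⟨j, hij, x, hx⟩ := exists_rep_ge hc i r
    have hxm : x ∈ maximalIdeal (B j) := by
      rw [mem_maximalIdeal]
      intro hu
      exact hr (hx ▸ hu.map (g j))
    rw [← hs.max i j hij] at hxm
    have : g j x ∈ ((maximalIdeal (B i)).map (f i j hij)).map (g j) := Ideal.mem_map_of_mem _ hxm
    rw [Ideal.map_map] at this
    have he : (g j).comp (f i j hij) = g i := RingHom.ext fun y => hc.comp i j hij y
    rw [he, hx] at this
    exact this

omit [Nonempty ι] in
/-- Each `g i` is flat. -/
theorem flat_g (i : ι) : (g i).Flat := by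
  letI := (g i).toAlgebra
  show Module.Flat (B i) R
  have hsmul : ∀ (b : B i) (r : R), b • r = g i b * r := fun b r => by
    rw [Algebra.smul_def]; rfl
  apply Module.Flat.of_forall_isTrivialRelation
  intro l c x hcx
  obtain ⟨j, hij, X, hX⟩ := exists_rep_fin_ge hc i l x
  have h0 : ∑ t, (g j) ((f i j hij) (c t)) * (g j) (X t) = 0 := by
    rw [← hcx]
    refine Finset.sum_congr rfl fun t _ => ?_
    rw [hc.comp, hX, hsmul]
  obtain ⟨n, a, y, hxy, hca⟩ := isTrivialRelation_of_factor (f i j hij) (hs.flat i j hij) (g j)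
    (g_injective hc hs j) c X h0
  refine ⟨n, a, y, fun t => ?_, hca⟩
  rw [← hX t, hxy t]
  refine Finset.sum_congr rfl fun m _ => ?_
  rw [hc.comp, hsmul]

end localring

end Groth.Agent.Helper8.ColimLoc
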