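import Mathlib
import Groth.Agent.Lib.Helper2.CompleteNoeth
import Groth.Agent.Lib.Helper8.ColimLoc1

/-!
# Directed unions of Noetherian local rings with flat local transition maps are Noetherian
(EGA 0_III 10.3.1.3), part 2
-/

set_option autoImplicit false

namespace Groth.Agent.Helper8.ColimLoc

open IsLocalRing

universe u v w

/-- Krull intersection theorem for a quotient of a Noetherian local ring. -/
theorem mem_of_forall_mem_sup_pow {S : Type*} [CommRing S] [IsNoetherianRing S] [IsLocalRing S]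
    (𝔞 : Ideal S) (z : S) (h : ∀ n : ℕ, z ∈ 𝔞 ⊔ maximalIdeal S ^ n) : z ∈ 𝔞 := by
  by_cases h𝔞 : 𝔞 = ⊤
  · rw [h𝔞]; trivial
  haveI : Nontrivial (S ⧸ 𝔞) := Ideal.Quotient.nontrivial_iff.mpr h𝔞
  haveI : IsLocalRing (S ⧸ 𝔞) :=
    IsLocalRing.of_surjective' (Ideal.Quotient.mk 𝔞) Ideal.Quotient.mk_surjective
  set I : Ideal (S ⧸ 𝔞) := (maximalIdeal S).map (Ideal.Quotient.mk 𝔞) with hIdef
  have hI : I ≠ ⊤ := by
    intro htop
    have h1 : (1 : S ⧸ 𝔞) ∈ I := by rw [htop]; trivial
    rw [hIdef, Ideal.mem_map_iff_of_surjective _ Ideal.Quotient.mk_surjective] at h1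
    obtain ⟨y, hy, hy1⟩ := h1
    have h2 : (1 : S) - y ∈ 𝔞 := by
      rw [← Ideal.Quotient.eq_zero_iff_mem, map_sub, map_one, hy1, sub_self]
    have h3 : (1 : S) - y ∈ maximalIdeal S := by
      have : 𝔞 ≤ maximalIdeal S := IsLocalRing.le_maximalIdeal h𝔞
      exact this h2
    have h4 : (1 : S) ∈ maximalIdeal S := by
      have := (maximalIdeal S).add_mem h3 hy
      rwa [sub_add_cancel] at this
    exact (Ideal.ne_top_iff_one _).1 (Ideal.IsPrime.ne_top inferInstance) h4
  have hbot := Ideal.iInf_pow_eq_bot_of_isLocalRing I hI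
  have hz : Ideal.Quotient.mk 𝔞 z ∈ ⨅ n : ℕ, I ^ n := by
    rw [Ideal.mem_iInf]
    intro n
    obtain ⟨a, ha, b, hb, hab⟩ := Submodule.mem_sup.1 (h n)
    have : Ideal.Quotient.mk 𝔞 z = Ideal.Quotient.mk 𝔞 b := by
      rw [← hab, map_add, Ideal.Quotient.eq_zero_iff_mem.2 ha, zero_add]
    rw [this, hIdef, ← Ideal.map_pow]
    exact Ideal.mem_map_of_mem _ hb
  rw [hbot] at hz
  exact Ideal.Quotient.eq_zero_iff_mem.1 hz

section noeth

variable {ι : Type u} [Preorder ι] [IsDirected ι (· ≤ ·)] [Nonempty ι]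
  {B : ι → Type v} [∀ i, CommRing (B i)] [∀ i, IsLocalRing (B i)] [∀ i, IsNoetherianRing (B i)]
  {f : ∀ i j, i ≤ j → B i →+* B j}
  {R : Type w} [CommRing R] {g : ∀ i, B i →+* R}
  (hc : IsDirColim B f R g) (hs : GoodSys B f)
include hc hs

omit [Nonempty ι] [∀ i, IsNoetherianRing (B i)] in
theorem comap_map_g [IsLocalRing R] (i : ι) (𝔞 : Ideal (B i)) :
    (𝔞.map (g i)).comap (g i) = 𝔞 := by
  haveI := isLocalHom_g hc hs i
  exact comap_map_of_flat_of_isLocalHom (g i) (flat_g hc hs i) 𝔞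

omit [Nonempty ι] in
/-- Ideals extended from a stage are closed for the adic topology of the maximal ideal. -/
theorem mem_of_forall_mem_map_sup_pow [IsLocalRing R] (j : ι) (𝔞 : Ideal (B j)) (z : B j)
    (h : ∀ n : ℕ, g j z ∈ 𝔞.map (g j) ⊔ maximalIdeal R ^ n) : z ∈ 𝔞 := by
  apply mem_of_forall_mem_sup_pow
  intro n
  have h1 := h n
  rw [← map_maximalIdeal_g hc hs j, ← Ideal.map_pow, ← Ideal.map_sup] at h1
  have h2 : z ∈ ((𝔞 ⊔ maximalIdeal (B j) ^ n).map (g j)).comap (g j) := h1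
  rwa [comap_map_g hc hs] at h2

/-- Finitely generated ideals are closed for the adic topology of the maximal ideal. -/
theorem mem_of_forall_mem_sup_pow_of_fg [IsLocalRing R] (I : Ideal R) (hI : I.FG) (x : R)
    (h : ∀ n : ℕ, x ∈ I ⊔ maximalIdeal R ^ n) : x ∈ I := by
  obtain ⟨l, r, hr⟩ := Submodule.fg_iff_exists_fin_generating_family.1 hI
  obtain ⟨i₀⟩ := ‹Nonempty ι›
  obtain ⟨j, -, ρ, hρ⟩ := exists_rep_fin_ge hc i₀ (l + 1) (Fin.cons x r)
  have hz : g j (ρ 0) = x := by rw [hρ 0]; rfl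
  have hρ' : ∀ t : Fin l, g j (ρ t.succ) = r t := fun t => by rw [hρ t.succ]; rfl
  set 𝔞 : Ideal (B j) := Ideal.span (Set.range fun t : Fin l => ρ t.succ) with h𝔞
  have hI𝔞 : 𝔞.map (g j) = I := by
    rw [h𝔞, Ideal.map_span, ← hr, ← Set.range_comp]
    congr 2
    funext t
    exact hρ' t
  have hmem : ρ 0 ∈ 𝔞 := by
    apply mem_of_forall_mem_map_sup_pow hc hs j 𝔞
    intro n
    rw [hz, hI𝔞]
    exact h n
  rw [← hI𝔞, ← hz]
  exact Ideal.mem_map_of_mem _ hmem

end noeth

section noeth'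

variable {ι : Type u} [Preorder ι] [IsDirected ι (· ≤ ·)] [Nonempty ι]
  {B : ι → Type v} [∀ i, CommRing (B i)] [∀ i, IsLocalRing (B i)] [∀ i, IsNoetherianRing (B i)]
  {f : ∀ i j, i ≤ j → B i →+* B j}
  {R : Type w} [CommRing R] {g : ∀ i, B i →+* R}
  (hc : IsDirColim B f R g) (hs : GoodSys B f)
include hc hs

/-- The directed colimit is Noetherian. -/
theorem isNoetherianRing_R : IsNoetherianRing R := by
  haveI := isLocalRing_R hc hs
  obtain ⟨i₀⟩ := ‹Nonempty ι›
  have hfg : (maximalIdeal R).FG := by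
    rw [← map_maximalIdeal_g hc hs i₀]
    exact Ideal.FG.map (IsNoetherian.noetherian _) _
  haveI : IsNoetherianRing (R ⧸ maximalIdeal R) :=
    inferInstanceAs (IsNoetherianRing (IsLocalRing.ResidueField R))
  haveI : IsNoetherianRing (AdicCompletion (maximalIdeal R) R) :=
    Groth.Agent.Helper2.CompleteNoeth.isNoetherianRing_adicCompletion R (maximalIdeal R) hfg
  -- contraction of extension of a finitely generated ideal
  have hK : ∀ I : Ideal R, I.FG →
      (I.map (algebraMap R (AdicCompletion (maximalIdeal R) R))).comap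
        (algebraMap R (AdicCompletion (maximalIdeal R) R)) ≤ I := by
    intro I hI x hx
    apply mem_of_forall_mem_sup_pow_of_fg hc hs I hI x
    intro n
    have h1 : (AdicCompletion.evalₐ (maximalIdeal R) n)
        (algebraMap R (AdicCompletion (maximalIdeal R) R) x) ∈
        (I.map (algebraMap R (AdicCompletion (maximalIdeal R) R))).map
          (AdicCompletion.evalₐ (maximalIdeal R) n).toRingHom :=
      Ideal.mem_map_of_mem _ hx
    rw [Ideal.map_map] at h1
    have he : (AdicCompletion.evalₐ (maximalIdeal R) n).toRingHom.comp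
        (algebraMap R (AdicCompletion (maximalIdeal R) R)) =
        Ideal.Quotient.mk (maximalIdeal R ^ n) := by
      ext y
      exact (AdicCompletion.evalₐ (maximalIdeal R) n).commutes y
    rw [he, AlgHom.commutes] at h1
    have h2 : x ∈ (I.map (Ideal.Quotient.mk (maximalIdeal R ^ n))).comap
        (Ideal.Quotient.mk (maximalIdeal R ^ n)) := h1
    rw [Ideal.comap_map_of_surjective _ Ideal.Quotient.mk_surjective,
      ← RingHom.ker_eq_comap_bot, Ideal.mk_ker] at h2
    exact h2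
  rw [isNoetherianRing_iff, isNoetherian_iff_fg_wellFounded]
  let Φ : {N : Ideal R // N.FG} → Ideal (AdicCompletion (maximalIdeal R) R) :=
    fun N => N.1.map (algebraMap R (AdicCompletion (maximalIdeal R) R))
  refine ⟨Subrelation.wf ?_ (InvImage.wf Φ
    (wellFounded_gt : WellFounded ((· > ·) : Ideal (AdicCompletion (maximalIdeal R) R) → _ → Prop)))⟩
  intro a b hab
  show Φ b < Φ a
  have hab' : b.1 < a.1 := hab
  refine lt_of_le_of_ne (Ideal.map_mono hab'.le) ?_
  intro heq
  apply hab'.not_ge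
  intro x hx
  apply hK b.1 b.2
  rw [Ideal.mem_comap]
  show _ ∈ Φ b
  rw [heq]
  exact Ideal.mem_map_of_mem _ hx

end noeth'

end Groth.Agent.Helper8.ColimLoc
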