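import Mathlib

/-!
# Simple extensions of the residue field of a Noetherian local ring, part 1: common tools and the
algebraic case (EGA 0_III 10.3.1.1)
-/

set_option autoImplicit false

namespace Groth.Agent.Helper8.SimpExt

open IsLocalRing Polynomial

universe u v

variable {B : Type u} [CommRing B] [IsLocalRing B] {K : Type v} [Field K] (φ : B →+* K)
  (hφ : RingHom.ker φ = maximalIdeal B)

include hφ

theorem isLocalHom_of_ker : IsLocalHom φ := by
  refine ⟨fun x hx => ?_⟩
  by_contra hnu
  have : x ∈ maximalIdeal B := (mem_maximalIdeal x).2 hnu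
  rw [← hφ, RingHom.mem_ker] at this
  rw [this] at hx
  exact not_isUnit_zero hx

/-- The map induced on the residue field. -/
noncomputable def resK : ResidueField B →+* K :=
  haveI := isLocalHom_of_ker φ hφ
  ResidueField.lift φ

theorem resK_residue (b : B) : resK φ hφ (residue B b) = φ b := by
  haveI := isLocalHom_of_ker φ hφ
  exact ResidueField.lift_residue_apply φ b

theorem resK_comp : (resK φ hφ).comp (residue B) = φ :=
  RingHom.ext fun b => resK_residue φ hφ b

theorem eval₂_map_residue (p : B[X]) (t : K) :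
    (p.map (residue B)).eval₂ (resK φ hφ) t = p.eval₂ φ t := by
  rw [Polynomial.eval₂_map, resK_comp]

omit hφ in
theorem exists_monic_lift (q : (ResidueField B)[X]) (hq : q.Monic) :
    ∃ Q : B[X], Q.Monic ∧ Q.map (residue B) = q ∧ Q.natDegree = q.natDegree := by
  obtain ⟨Q, h1, h2, h3⟩ := Polynomial.lifts_and_natDegree_eq_and_monic
    (Polynomial.mem_lifts_of_surjective (residue_surjective (R := B)) q) hq
  exact ⟨Q, h3, h1, h2⟩

/-- An element which is a root of a polynomial with a unit coefficient is integral. -/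
theorem isIntegralElem_of_root (t : K) (g : B[X]) (hg : g.map (residue B) ≠ 0)
    (h0 : g.eval₂ φ t = 0) : φ.IsIntegralElem t := by
  set gb := g.map (residue B) with hgb
  have hq : (gb * C gb.leadingCoeff⁻¹).Monic := Polynomial.monic_mul_leadingCoeff_inv hg
  obtain ⟨Q, hQ1, hQ2, -⟩ := exists_monic_lift _ hq
  refine ⟨Q, hQ1, ?_⟩
  rw [← eval₂_map_residue φ hφ, hQ2, Polynomial.eval₂_mul, hgb, eval₂_map_residue φ hφ, h0,
    zero_mul]

omit hφ [IsLocalRing B] in
/-- A monic polynomial of minimal degree vanishing at an integral element. -/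
theorem exists_minPoly (t : K) (h : φ.IsIntegralElem t) :
    ∃ F : B[X], F.Monic ∧ F.eval₂ φ t = 0 ∧
      ∀ p : B[X], p.Monic → p.eval₂ φ t = 0 → F.natDegree ≤ p.natDegree := by
  classical
  have hex : ∃ n : ℕ, ∃ p : B[X], p.Monic ∧ p.eval₂ φ t = 0 ∧ p.natDegree = n := by
    obtain ⟨p, hp1, hp2⟩ := h
    exact ⟨_, p, hp1, hp2, rfl⟩
  obtain ⟨F, hF1, hF2, hF3⟩ := Nat.find_spec hex
  refine ⟨F, hF1, hF2, fun p hp1 hp2 => ?_⟩
  rw [hF3]
  exact Nat.find_min' hex ⟨p, hp1, hp2, rfl⟩

/-- The reduction of a minimal polynomial is irreducible. -/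
theorem irreducible_map_of_min (t : K) (F : B[X]) (hF1 : F.Monic) (hF2 : F.eval₂ φ t = 0)
    (hF3 : ∀ p : B[X], p.Monic → p.eval₂ φ t = 0 → F.natDegree ≤ p.natDegree) :
    Irreducible (F.map (residue B)) := by
  letI := (resK φ hφ).toAlgebra
  have halg : algebraMap (ResidueField B) K = resK φ hφ := rfl
  have hmonic : (F.map (residue B)).Monic := hF1.map _
  have hroot : Polynomial.aeval t (F.map (residue B)) = 0 := by
    rw [Polynomial.aeval_def, halg, eval₂_map_residue φ hφ, hF2]
  have hint : IsIntegral (ResidueField B) t := ⟨_, hmonic, by rw [halg, eval₂_map_residue φ hφ, hF2]⟩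
  have hmin : F.map (residue B) = minpoly (ResidueField B) t := by
    apply minpoly.unique _ _ hmonic hroot
    intro q hq hq0
    obtain ⟨Q, hQ1, hQ2, hQ3⟩ := exists_monic_lift q hq
    have hQ0 : Q.eval₂ φ t = 0 := by
      rw [← eval₂_map_residue φ hφ, hQ2, ← halg, ← Polynomial.aeval_def, hq0]
    have h1 := hF3 Q hQ1 hQ0
    rw [Polynomial.degree_eq_natDegree hmonic.ne_zero, Polynomial.degree_eq_natDegree hq.ne_zero,
      hF1.natDegree_map, ← hQ3]
    exact_mod_cast h1
  rw [hmin]
  exact minpoly.irreducible hint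

section alg

variable (t : K) (F : B[X]) (hF1 : F.Monic) (hF2 : F.eval₂ φ t = 0)
  (hF3 : ∀ p : B[X], p.Monic → p.eval₂ φ t = 0 → F.natDegree ≤ p.natDegree)

include hF1 hF2 hF3 in
/-- The extension of the maximal ideal to `B[X]/(F)` is maximal. -/
theorem isMaximal_map_of : ((maximalIdeal B).map (AdjoinRoot.of F)).IsMaximal := by
  have hirr := irreducible_map_of_min φ hφ t F hF1 hF2 hF3
  haveI : Fact (Irreducible (F.map (residue B))) := ⟨hirr⟩
  have hmax : (Ideal.span {F.map (residue B)} : Ideal (ResidueField B)[X]).IsMaximal :=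
    AdjoinRoot.span_maximal_of_irreducible
  have hfield : IsField ((ResidueField B)[X] ⧸
      (Ideal.span {F.map (residue B)} : Ideal (ResidueField B)[X])) :=
    (Ideal.Quotient.maximal_ideal_iff_isField_quotient _).1 hmax
  apply Ideal.Quotient.maximal_of_isField
  exact MulEquiv.isField hfield (AdjoinRoot.quotEquivQuotMap F (maximalIdeal B)).toMulEquiv

omit hφ [IsLocalRing B] in
include hF1 in
theorem finite_adjoinRoot : Module.Finite B (AdjoinRoot F) :=
  (AdjoinRoot.powerBasis' hF1).finite

omit hφ [IsLocalRing B] in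
include hF1 in
theorem free_adjoinRoot : Module.Free B (AdjoinRoot F) :=
  Module.Free.of_basis (AdjoinRoot.powerBasis' hF1).basis

include hF1 hF2 hF3 in
theorem isLocalRing_adjoinRoot : IsLocalRing (AdjoinRoot F) := by
  have hmax := isMaximal_map_of φ hφ t F hF1 hF2 hF3
  haveI := finite_adjoinRoot F hF1
  haveI : Algebra.IsIntegral B (AdjoinRoot F) := Algebra.IsIntegral.of_finite B _
  refine IsLocalRing.of_unique_max_ideal ⟨_, hmax, fun M hM => ?_⟩
  have h1 : (M.comap (algebraMap B (AdjoinRoot F))).IsMaximal :=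
    Ideal.isMaximal_comap_of_isIntegral_of_isMaximal (R := B) M
  have h2 : M.comap (algebraMap B (AdjoinRoot F)) = maximalIdeal B := IsLocalRing.eq_maximalIdeal h1
  have h3 : (maximalIdeal B).map (AdjoinRoot.of F) ≤ M := by
    rw [Ideal.map_le_iff_le_comap, ← h2]
    exact le_refl _
  exact (hmax.eq_of_le hM.ne_top h3).symm

include hF1 hF2 hF3 in
theorem map_maximalIdeal_adjoinRoot [IsLocalRing (AdjoinRoot F)] :
    (maximalIdeal B).map (AdjoinRoot.of F) = maximalIdeal (AdjoinRoot F) :=
  IsLocalRing.eq_maximalIdeal (isMaximal_map_of φ hφ t F hF1 hF2 hF3)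

include hF1 hF2 hF3 in
theorem ker_lift_adjoinRoot [IsLocalRing (AdjoinRoot F)] :
    RingHom.ker (AdjoinRoot.lift φ t hF2) = maximalIdeal (AdjoinRoot F) := by
  rw [← map_maximalIdeal_adjoinRoot φ hφ t F hF1 hF2 hF3]
  have hmax := isMaximal_map_of φ hφ t F hF1 hF2 hF3
  symm
  apply hmax.eq_of_le (RingHom.ker_ne_top _)
  rw [Ideal.map_le_iff_le_comap]
  intro b hb
  rw [Ideal.mem_comap, RingHom.mem_ker, AdjoinRoot.lift_of]
  rw [← hφ] at hb
  exact hb

include hF1 hF2 hF3 in
theorem isLocalHom_of_adjoinRoot [IsLocalRing (AdjoinRoot F)] :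
    IsLocalHom (AdjoinRoot.of F) := by
  apply ((IsLocalRing.local_hom_TFAE (AdjoinRoot.of F)).out 0 2 rfl rfl).mpr
  rw [map_maximalIdeal_adjoinRoot φ hφ t F hF1 hF2 hF3]

omit hφ [IsLocalRing B] in
include hF1 in
theorem flat_of_adjoinRoot : (AdjoinRoot.of F).Flat := by
  haveI := free_adjoinRoot F hF1
  have : Module.Flat B (AdjoinRoot F) := Module.Flat.of_free
  exact RingHom.flat_algebraMap_iff.2 this

omit hφ [IsLocalRing B] in
include hF1 in
theorem isNoetherianRing_adjoinRoot [IsNoetherianRing B] : IsNoetherianRing (AdjoinRoot F) := by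
  haveI := finite_adjoinRoot F hF1
  exact isNoetherian_of_isNoetherianRing_of_finite B (AdjoinRoot F) |> fun h =>
    isNoetherian_of_tower B h

end alg

end Groth.Agent.Helper8.SimpExt
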