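import Mathlib
import Groth.Agent.Lib.Helper8.SimpExt1

/-!
# Simple extensions of the residue field of a Noetherian local ring, part 2: the transcendental
case and the packaged statement (EGA 0_III 10.3.1.1)
-/

set_option autoImplicit false

namespace Groth.Agent.Helper8.SimpExt

open IsLocalRing Polynomial

universe u v

section trans

variable {B : Type u} [CommRing B] [IsLocalRing B] {K : Type v} [Field K] (φ : B →+* K)
  (hφ : RingHom.ker φ = maximalIdeal B) (t : K) (ht : ¬ φ.IsIntegralElem t)

/-- The prime ideal `m_B B[X]`. -/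
noncomputable abbrev P (B : Type u) [CommRing B] [IsLocalRing B] : Ideal B[X] := (maximalIdeal B).map C

instance : (P B).IsPrime := Ideal.isPrime_map_C_of_isPrime

/-- The ring `B[X]` localized at `m_B B[X]`. -/
noncomputable abbrev Loc (B : Type u) [CommRing B] [IsLocalRing B] : Type u := Localization.AtPrime (P B)

include hφ ht in
theorem eval₂_ne_zero (g : B[X]) (hg : g ∉ P B) : g.eval₂ φ t ≠ 0 := by
  intro h0
  apply ht
  apply isIntegralElem_of_root φ hφ t g _ h0
  intro hmap
  apply hg
  rw [Ideal.mem_map_C_iff]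
  intro n
  have : (g.map (residue B)).coeff n = 0 := by rw [hmap, coeff_zero]
  rw [coeff_map] at this
  exact (residue_eq_zero_iff _).1 this

include hφ ht in
theorem isUnit_eval₂ (y : (P B).primeCompl) : IsUnit ((eval₂RingHom φ t) y) := by
  rw [isUnit_iff_ne_zero]
  exact eval₂_ne_zero φ hφ t ht y.1 y.2

/-- The extension of `φ` to the localization, sending `X` to `t`. -/
noncomputable def liftLoc : Loc B →+* K :=
  IsLocalization.lift (M := (P B).primeCompl) (g := eval₂RingHom φ t) (isUnit_eval₂ φ hφ t ht)

theorem liftLoc_algebraMap (b : B) : liftLoc φ hφ t ht (algebraMap B (Loc B) b) = φ b := by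
  rw [IsScalarTower.algebraMap_apply B B[X] (Loc B), liftLoc, IsLocalization.lift_eq]
  simp

theorem liftLoc_X : liftLoc φ hφ t ht (algebraMap B[X] (Loc B) X) = t := by
  rw [liftLoc, IsLocalization.lift_eq]
  simp

theorem liftLoc_comp : (liftLoc φ hφ t ht).comp (algebraMap B (Loc B)) = φ :=
  RingHom.ext fun b => liftLoc_algebraMap φ hφ t ht b

omit [IsLocalRing B] in
theorem isNoetherianRing_loc [IsLocalRing B] [IsNoetherianRing B] : IsNoetherianRing (Loc B) :=
  IsLocalization.isNoetherianRing (P B).primeCompl (Loc B) inferInstance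

theorem flat_loc : Module.Flat B (Loc B) := by
  haveI : Module.Flat B[X] (Loc B) := IsLocalization.flat (Loc B) (P B).primeCompl
  exact Module.Flat.trans B B[X] (Loc B)

theorem map_maximalIdeal_loc :
    (maximalIdeal B).map (algebraMap B (Loc B)) = maximalIdeal (Loc B) := by
  rw [← Localization.AtPrime.map_eq_maximalIdeal, IsScalarTower.algebraMap_eq B B[X] (Loc B),
    ← Ideal.map_map]
  rfl

theorem isLocalHom_loc : IsLocalHom (algebraMap B (Loc B)) := by
  apply ((IsLocalRing.local_hom_TFAE (algebraMap B (Loc B))).out 0 2 rfl rfl).mpr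
  rw [map_maximalIdeal_loc]

theorem ker_liftLoc : RingHom.ker (liftLoc φ hφ t ht) = maximalIdeal (Loc B) := by
  apply le_antisymm
  · exact IsLocalRing.le_maximalIdeal (RingHom.ker_ne_top _)
  · rw [← map_maximalIdeal_loc, Ideal.map_le_iff_le_comap]
    intro b hb
    rw [Ideal.mem_comap, RingHom.mem_ker, liftLoc_algebraMap]
    rw [← hφ] at hb
    exact hb

end trans

section pack

variable {K : Type u} [Field K]

/-- A ring with a map to `K` is good when it is a Noetherian local ring and the kernel of the map
is the maximal ideal. -/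
def GoodRing (B : Type u) [CommRing B] (φ : B →+* K) : Prop :=
  IsNoetherianRing B ∧ ∃ _ : IsLocalRing B, RingHom.ker φ = maximalIdeal B

/-- A ring map is good when it is a flat local homomorphism of local rings which preserves the
maximal ideal. -/
def GoodHom {B B' : Type u} [CommRing B] [CommRing B'] (f : B →+* B') : Prop :=
  ∃ (_ : IsLocalRing B) (_ : IsLocalRing B'), f.Flat ∧ IsLocalHom f ∧
    (maximalIdeal B).map f = maximalIdeal B'

/-- The data of a simple extension. -/
structure ExtData (B : Type u) [CommRing B] (φ : B →+* K) (t : K) where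
  /-- the new ring -/
  B' : Type u
  /-- its ring structure -/
  [ring : CommRing B']
  /-- the structure map -/
  f : B →+* B'
  /-- the new map to `K` -/
  φ' : B' →+* K
  comp : φ'.comp f = φ
  mem : t ∈ φ'.range
  good : GoodRing B' φ'
  goodHom : GoodHom f

theorem nonempty_extData (B : Type u) [CommRing B] (φ : B →+* K) (hB : GoodRing B φ) (t : K) :
    Nonempty (ExtData B φ t) := by
  obtain ⟨hN, hL, hφ⟩ := hB
  by_cases ht : φ.IsIntegralElem t
  · obtain ⟨F, hF1, hF2, hF3⟩ := exists_minPoly φ t ht
    haveI := isLocalRing_adjoinRoot φ hφ t F hF1 hF2 hF3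
    exact ⟨{
      B' := AdjoinRoot F
      f := AdjoinRoot.of F
      φ' := AdjoinRoot.lift φ t hF2
      comp := RingHom.ext fun b => AdjoinRoot.lift_of hF2
      mem := ⟨AdjoinRoot.root F, AdjoinRoot.lift_root hF2⟩
      good := ⟨isNoetherianRing_adjoinRoot F hF1, inferInstance,
        ker_lift_adjoinRoot φ hφ t F hF1 hF2 hF3⟩
      goodHom := ⟨hL, inferInstance, flat_of_adjoinRoot F hF1,
        isLocalHom_of_adjoinRoot φ hφ t F hF1 hF2 hF3,
        map_maximalIdeal_adjoinRoot φ hφ t F hF1 hF2 hF3⟩ }⟩
  · exact ⟨{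
      B' := Loc B
      f := algebraMap B (Loc B)
      φ' := liftLoc φ hφ t ht
      comp := liftLoc_comp φ hφ t ht
      mem := ⟨_, liftLoc_X φ hφ t ht⟩
      good := ⟨isNoetherianRing_loc, inferInstance, ker_liftLoc φ hφ t ht⟩
      goodHom := ⟨hL, inferInstance, RingHom.flat_algebraMap_iff.2 flat_loc, isLocalHom_loc,
        map_maximalIdeal_loc⟩ }⟩

end pack

end Groth.Agent.Helper8.SimpExt
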