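import Mathlib
import Groth.Agent.Lib.Helper8.ResExt1

/-!
# Flat local extensions with prescribed residue field (EGA 0_III 10.3.1), part 2:
the limit step
-/

set_option autoImplicit false

namespace Groth.Agent.Helper8.ResExt

open CategoryTheory CategoryTheory.Limits CategoryTheory.SmallObject IsLocalRing
open Groth.Agent.Helper8.SimpExt Groth.Agent.Helper8.ColimLoc

universe u

variable {K : Type u} [Field K]
variable {J : Type u} [LinearOrder J] [OrderBot J] [SuccOrder J] [WellFoundedLT J]

section limit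

variable (G : J ⥤ Cat K) (m : J) (hm : Order.IsSuccLimit m)
  (hc : IsColimit ((Set.principalSegIio m).cocone G))

/-- The rings of the system below `m`. -/
abbrev Bsys (i : Set.Iio m) : Type u := (G.obj i.1).left

/-- The transition maps of the system below `m`. -/
abbrev fsys (i j : Set.Iio m) (h : i ≤ j) : Bsys G m i →+* Bsys G m j :=
  (G.map (homOfLE (show i.1 ≤ j.1 from h))).left.hom

/-- The maps to the limit stage. -/
abbrev gsys (i : Set.Iio m) : Bsys G m i →+* (G.obj m).left :=
  (G.map (homOfLE (le_of_lt i.2))).left.hom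

omit [SuccOrder J] [WellFoundedLT J] in
include hm in
theorem nonempty_Iio : Nonempty (Set.Iio m) := ⟨⟨⊥, hm.bot_lt⟩⟩

omit [SuccOrder J] [WellFoundedLT J] in
include hm hc in
theorem isDirColim_sys : IsDirColim (Bsys G m) (fsys G m) (G.obj m).left (gsys G m) := by
  haveI := nonempty_Iio m hm
  let U := Over.forget (CommRingCat.of K)
  let D := U.mapCocone ((Set.principalSegIio m).cocone G)
  have hD : IsColimit D := isColimitOfPreserves U hc
  refine ⟨?_, ?_, ?_⟩
  · intro i j h x
    have h1 : G.map (homOfLE (show i.1 ≤ j.1 from h)) ≫ G.map (homOfLE (le_of_lt j.2)) =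
        G.map (homOfLE (le_of_lt i.2)) := by
      rw [← G.map_comp]; rfl
    have h2 := congrArg (fun g => g.left.hom x) h1
    exact h2
  · intro r
    obtain ⟨j, y, hy⟩ := Concrete.isColimit_exists_rep _ hD r
    exact ⟨j, y, hy⟩
  · intro i x y hxy
    obtain ⟨k, f', g', hk⟩ := Concrete.isColimit_exists_of_rep_eq _ hD x y hxy
    refine ⟨k, leOfHom f', ?_⟩
    have : g' = f' := Subsingleton.elim _ _
    rw [this] at hk
    exact hk

omit [SuccOrder J] [WellFoundedLT J] in
include hm hc in
/-- The limit step: if everything below `m` is good, then so is the stage `m`. -/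
theorem limit_step
    (IH : ∀ j : J, j < m → GoodObj (G.obj j) ∧
      ∀ (i : J) (h : i ≤ j), GoodHom (G.map (homOfLE h)).left.hom) :
    GoodObj (G.obj m) ∧ ∀ (i : J) (h : i < m), GoodHom (G.map (homOfLE h.le)).left.hom := by
  haveI := nonempty_Iio m hm
  have hdc := isDirColim_sys G m hm hc
  haveI hL : ∀ i : Set.Iio m, IsLocalRing (Bsys G m i) := fun i => (IH i.1 i.2).1.2.choose
  haveI hN : ∀ i : Set.Iio m, IsNoetherianRing (Bsys G m i) := fun i => (IH i.1 i.2).1.1
  have hker : ∀ i : Set.Iio m, RingHom.ker (str (G.obj i.1)) = maximalIdeal (Bsys G m i) :=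
    fun i => (IH i.1 i.2).1.2.choose_spec
  have hgs : GoodSys (Bsys G m) (fsys G m) := by
    refine ⟨?_, ?_, ?_⟩
    · intro i j h
      obtain ⟨_, _, h1, -, -⟩ := (IH j.1 j.2).2 i.1 h
      exact h1
    · intro i j h
      obtain ⟨_, _, -, h2, -⟩ := (IH j.1 j.2).2 i.1 h
      exact h2
    · intro i j h
      obtain ⟨_, _, -, -, h3⟩ := (IH j.1 j.2).2 i.1 h
      exact h3
  haveI hLR : IsLocalRing (G.obj m).left := isLocalRing_R hdc hgs
  have hNR : IsNoetherianRing (G.obj m).left := isNoetherianRing_R hdc hgs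
  refine ⟨⟨hNR, hLR, ?_⟩, ?_⟩
  · ext r
    obtain ⟨i, y, rfl⟩ := hdc.surj r
    have h1 : str (G.obj m) (gsys G m i y) = str (G.obj i.1) y := str_comp _ y
    rw [RingHom.mem_ker, h1, ← RingHom.mem_ker, hker i]
    haveI := isLocalHom_g hdc hgs i
    constructor
    · intro hy
      rw [mem_maximalIdeal, mem_nonunits_iff] at hy ⊢
      intro hu
      exact hy ((isUnit_map_iff (gsys G m i) y).1 hu)
    · intro hy
      rw [mem_maximalIdeal, mem_nonunits_iff] at hy ⊢
      intro hu
      exact hy (hu.map (gsys G m i))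
  · intro i h
    exact ⟨hL ⟨i, h⟩, hLR, flat_g hdc hgs ⟨i, h⟩, isLocalHom_g hdc hgs ⟨i, h⟩,
      map_maximalIdeal_g hdc hgs ⟨i, h⟩⟩

end limit

end Groth.Agent.Helper8.ResExt
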