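import Mathlib
import Groth.Agent.Lib.Helper8.ResExt2

/-!
# Flat local extensions with prescribed residue field (EGA 0_III 10.3.1), part 3:
the transfinite induction and the main theorem
-/

set_option autoImplicit false

namespace Groth.Agent.Helper8.ResExt

open CategoryTheory CategoryTheory.Limits CategoryTheory.SmallObject IsLocalRing
open Groth.Agent.Helper8.SimpExt Groth.Agent.Helper8.ColimLoc

universe u

variable {K : Type u} [Field K]

theorem goodHom_eqToHom {X Y : Cat K} (h : X = Y) (hX : GoodObj X) :
    GoodHom (eqToHom h).left.hom := by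
  subst h
  obtain ⟨_, hL, _⟩ := hX
  exact goodHom_id X.left

theorem goodHom_map_refl {J : Type u} [Preorder J] (G : J ⥤ Cat K) (j : J) (h : j ≤ j)
    (hX : GoodObj (G.obj j)) : GoodHom (G.map (homOfLE h)).left.hom := by
  have : homOfLE h = 𝟙 j := Subsingleton.elim _ _
  rw [this, G.map_id]
  obtain ⟨_, hL, _⟩ := hX
  exact goodHom_id (G.obj j).left

section ind

variable {J : Type u} [LinearOrder J] [OrderBot J] [SuccOrder J] [WellFoundedLT J]
variable {A : Type u} [CommRing A] (ψ : A →+* K) (hA : GoodRing A ψ)

include hA in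
theorem good_all (j : J) : GoodObj (((Φ ψ).iterationFunctor J).obj j) ∧
    ∀ (i : J) (h : i ≤ j), GoodHom (((Φ ψ).iterationFunctor J).map (homOfLE h)).left.hom := by
  induction j using WellFoundedLT.induction with
  | ind j IH =>
  by_cases hmin : IsMin j
  · have hj : j = ⊥ := hmin.eq_bot
    subst hj
    have h0 : ((Φ ψ).iterationFunctor J).obj ⊥ = (Φ ψ).X₀ := ((Φ ψ).iter ⊥).obj_bot
    have hg : GoodObj (((Φ ψ).iterationFunctor J).obj ⊥) := by rw [h0]; exact hA
    refine ⟨hg, fun i h => ?_⟩
    have hi : i = ⊥ := le_bot_iff.1 h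
    subst hi
    exact goodHom_map_refl _ _ h hg
  · by_cases hpre : Order.IsSuccPrelimit j
    · have hlim : Order.IsSuccLimit j := ⟨hmin, hpre⟩
      have hstep := limit_step ((Φ ψ).iterationFunctor J) j hlim
        (Functor.isColimitOfIsWellOrderContinuous _ j hlim) (fun j' hj' => IH j' hj')
      refine ⟨hstep.1, fun i h => ?_⟩
      rcases h.lt_or_eq with h' | h'
      · exact hstep.2 i h'
      · subst h'
        exact goodHom_map_refl _ _ h hstep.1
    · rw [Order.not_isSuccPrelimit_iff] at hpre
      obtain ⟨b, hb⟩ := hpre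
      have hbm : ¬ IsMax b := not_isMax_of_lt hb.lt
      have hsucc : Order.succ b = j := hb.succ_eq
      subst hsucc
      have hlt : b < Order.succ b := Order.lt_succ_of_not_isMax hbm
      have hprop := (Φ ψ).prop_iterationFunctor_map_succ b hbm
      obtain ⟨h1, h2, -⟩ := prop_spec ψ _ hprop (IH b hlt).1
      refine ⟨h1, fun i h => ?_⟩
      rcases h.lt_or_eq with h' | h'
      · have hib : i ≤ b := Order.le_of_lt_succ h'
        have hcomp : homOfLE h = homOfLE hib ≫ homOfLE (Order.le_succ b) := Subsingleton.elim _ _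
        rw [hcomp, Functor.map_comp, Over.comp_left, CommRingCat.hom_comp]
        exact goodHom_comp _ _ ((IH b hlt).2 i hib) h2
      · subst h'
        exact goodHom_map_refl _ _ h h1

include hA in
/-- Some stage surjects onto `K`, provided `J` does not inject into `K`. -/
theorem exists_surjective_stage (hcard : ¬ ∃ τ : J → K, Function.Injective τ) :
    ∃ j : J, Function.Surjective (str (((Φ ψ).iterationFunctor J).obj j)) := by
  by_contra hne
  push Not at hne
  apply hcard
  refine ⟨fun j => tOf (((Φ ψ).iterationFunctor J).obj j), ?_⟩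
  have key : ∀ i j : J, i < j → tOf (((Φ ψ).iterationFunctor J).obj i) ≠
      tOf (((Φ ψ).iterationFunctor J).obj j) := by
    intro i j hij heq
    have hbm : ¬ IsMax i := not_isMax_of_lt hij
    have hprop := (Φ ψ).prop_iterationFunctor_map_succ i hbm
    obtain ⟨-, -, h3⟩ := prop_spec ψ _ hprop (good_all ψ hA i).1
    have h4 := h3 (hne i)
    have h5 := range_subset (((Φ ψ).iterationFunctor J).map (homOfLE (Order.succ_le_of_lt hij))) h4
    rw [heq] at h5
    exact tOf_not_mem _ (hne j) h5
  intro i j hij
  by_contra hne'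
  rcases lt_or_gt_of_ne hne' with h | h
  · exact key i j h hij
  · exact key j i h hij.symm

end ind

end Groth.Agent.Helper8.ResExt
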