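import Mathlib
import Groth.Agent.Lib.Helper8.ResExt3

/-!
# Flat local extensions with prescribed residue field (EGA 0_III 10.3.1), part 4: main theorem
-/

set_option autoImplicit false

namespace Groth.Agent.Helper8.ResExt

open CategoryTheory CategoryTheory.Limits CategoryTheory.SmallObject IsLocalRing
open Groth.Agent.Helper8.SimpExt Groth.Agent.Helper8.ColimLoc

universe u

variable {K : Type u} [Field K]

/-- The index type of the iteration: a well-ordered type which does not inject into `K`. -/
abbrev Idx (K : Type u) : Type u := (Cardinal.mk (Set K)).ord.ToType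

theorem ord_ne_zero (K : Type u) : (Cardinal.mk (Set K)).ord ≠ 0 := by
  rw [Ne, Cardinal.ord_eq_zero]
  exact Cardinal.mk_ne_zero _

instance : Nonempty (Idx K) := Ordinal.nonempty_toType_iff.2 (ord_ne_zero K)

noncomputable instance : OrderBot (Idx K) := WellFoundedLT.toOrderBot _

noncomputable instance : SuccOrder (Idx K) := SuccOrder.ofLinearWellFoundedLT _

omit [Field K] in
theorem not_injective_idx : ¬ ∃ τ : Idx K → K, Function.Injective τ := by
  rintro ⟨τ, hτ⟩
  have h1 : Cardinal.mk (Idx K) ≤ Cardinal.mk K := Cardinal.mk_le_of_injective hτ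
  rw [Cardinal.mk_ord_toType, Cardinal.mk_set] at h1
  exact absurd h1 (not_le_of_gt (Cardinal.cantor _))

/-- **EGA 0_III 10.3.1**: a Noetherian local ring `A` with a map `ψ : A → K` to a field whose
kernel is the maximal ideal has a flat local extension `B`, Noetherian, with `m_A B = m_B`, and
with a surjection `B → K` extending `ψ` whose kernel is `m_B`. -/
theorem exists_flat_local {A : Type u} [CommRing A] (ψ : A →+* K) (hA : GoodRing A ψ) :
    ∃ (B : Type u) (_ : CommRing B) (f : A →+* B) (φ : B →+* K),
      φ.comp f = ψ ∧ GoodRing B φ ∧ GoodHom f ∧ Function.Surjective φ := by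
  obtain ⟨j, hj⟩ := exists_surjective_stage (J := Idx K) ψ hA not_injective_idx
  have hgood := good_all (J := Idx K) ψ hA
  let ι := ((Φ ψ).ιIterationFunctor (Idx K)).app j
  refine ⟨(((Φ ψ).iterationFunctor (Idx K)).obj j).left, inferInstance, ι.left.hom,
    str (((Φ ψ).iterationFunctor (Idx K)).obj j), ?_, (hgood j).1, ?_, hj⟩
  · ext a
    exact str_comp ι a
  · have h0 : ((Φ ψ).iterationFunctor (Idx K)).obj ⊥ = (Φ ψ).X₀ := ((Φ ψ).iter ⊥).obj_bot
    have hι : ι = eqToHom h0.symm ≫ ((Φ ψ).iterationFunctor (Idx K)).map (homOfLE bot_le) := rfl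
    rw [hι, Over.comp_left, CommRingCat.hom_comp]
    refine goodHom_comp _ _ (goodHom_eqToHom h0.symm ?_) ((hgood j).2 ⊥ bot_le)
    exact hA

end Groth.Agent.Helper8.ResExt
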