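import Mathlib
import Groth.Agent.Lib.Helper8.ResExt4

/-!
# Existence of Cohen rings: auxiliary results
-/

set_option autoImplicit false

namespace Groth.Agent.Helper8.Cohen

open IsLocalRing Groth.Agent.Helper8.SimpExt

universe u

section dvr

variable {R : Type u} [CommRing R] [IsLocalRing R] [IsNoetherianRing R] (π : R)
  (hπ : maximalIdeal R = Ideal.span {π}) (hreg : π ∈ nonZeroDivisors R)

include hπ in
theorem exists_eq_pow_mul_unit (x : R) (hx : x ≠ 0) : ∃ (n : ℕ) (u : R), IsUnit u ∧ x = π ^ n * u := by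
  classical
  have hbot := Ideal.iInf_pow_eq_bot_of_isLocalRing (maximalIdeal R) (Ideal.IsPrime.ne_top inferInstance)
  have hex : ∃ n : ℕ, x ∉ maximalIdeal R ^ n := by
    by_contra hne
    push Not at hne
    apply hx
    have : x ∈ ⨅ n : ℕ, maximalIdeal R ^ n := by
      rw [Ideal.mem_iInf]; exact hne
    rw [hbot] at this
    exact this
  have hn0 : Nat.find hex ≠ 0 := by
    intro h0
    have := Nat.find_spec hex
    rw [h0, pow_zero, Ideal.one_eq_top] at this
    exact this trivial
  obtain ⟨n, hn⟩ := Nat.exists_eq_succ_of_ne_zero hn0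
  have h1 : x ∈ maximalIdeal R ^ n := by
    by_contra hnot
    have := Nat.find_min' hex hnot
    omega
  have h2 : x ∉ maximalIdeal R ^ (n + 1) := by
    have := Nat.find_spec hex
    rwa [hn] at this
  rw [hπ, Ideal.span_singleton_pow, Ideal.mem_span_singleton'] at h1
  obtain ⟨u, hu⟩ := h1
  refine ⟨n, u, ?_, by rw [← hu, mul_comm]⟩
  by_contra hnu
  apply h2
  have hum : u ∈ maximalIdeal R := (mem_maximalIdeal u).2 hnu
  rw [hπ, Ideal.mem_span_singleton'] at hum
  obtain ⟨v, hv⟩ := hum
  rw [hπ, Ideal.span_singleton_pow, Ideal.mem_span_singleton']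
  exact ⟨v, by rw [← hu, ← hv]; ring⟩

include hπ hreg in
theorem noZeroDivisors_of_principal : NoZeroDivisors R := by
  refine ⟨fun {a b} hab => ?_⟩
  by_contra hne
  push Not at hne
  obtain ⟨n, u, hu, rfl⟩ := exists_eq_pow_mul_unit π hπ a hne.1
  obtain ⟨m, v, hv, rfl⟩ := exists_eq_pow_mul_unit π hπ b hne.2
  have h1 : (u * v) * π ^ (n + m) = 0 := by
    rw [← hab]; ring
  have h2 : u * v = 0 := (mem_nonZeroDivisors_iff_right.1 (pow_mem hreg (n + m))) _ h1
  exact (hu.mul hv).ne_zero h2

include hπ hreg in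
theorem isDomain_of_principal : IsDomain R := by
  haveI := noZeroDivisors_of_principal π hπ hreg
  exact NoZeroDivisors.to_isDomain R

include hπ hreg in
theorem isDiscreteValuationRing_of_principal [IsDomain R] : IsDiscreteValuationRing R := by
  apply IsDiscreteValuationRing.ofHasUnitMulPowIrreducibleFactorization
  have hπ0 : π ≠ 0 := nonZeroDivisors.ne_zero hreg
  have hprime : Prime π := by
    rw [← Ideal.span_singleton_prime hπ0, ← hπ]
    infer_instance
  refine ⟨π, hprime.irreducible, fun {x} hx => ?_⟩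
  obtain ⟨n, u, hu, rfl⟩ := exists_eq_pow_mul_unit π hπ x hx
  exact ⟨n, hu.unit, rfl⟩

end dvr

end Groth.Agent.Helper8.Cohen
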