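import Mathlib
import Groth.Agent.Lib.Helper8.Cohen1
import Groth.Agent.Lib.Helper2.CompleteNoeth

/-!
# Existence of Cohen rings
-/

set_option autoImplicit false

namespace Groth.Agent.Helper8.Cohen

open IsLocalRing Groth.Agent.Helper8.SimpExt

universe u

section base

variable (p : ℕ) [Fact p.Prime] (k : Type u) [Field k] [CharP k p]

/-- The canonical map from (a lift of) the integers to `k`. -/
noncomputable def gMap : ULift.{u} ℤ →+* k :=
  (Int.castRingHom k).comp (ULift.ringEquiv : ULift.{u} ℤ ≃+* ℤ).toRingHom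

theorem gMap_apply (x : ULift.{u} ℤ) : gMap k x = ((x.down : ℤ) : k) := rfl

omit [Fact p.Prime] in
theorem ker_gMap : RingHom.ker (gMap k) = Ideal.span {(p : ULift.{u} ℤ)} := by
  ext x
  rw [RingHom.mem_ker, Ideal.mem_span_singleton, gMap_apply, CharP.intCast_eq_zero_iff k p]
  constructor
  · rintro ⟨c, hc⟩
    refine ⟨ULift.up c, ?_⟩
    apply ULift.ext
    simpa using hc
  · rintro ⟨c, hc⟩
    refine ⟨c.down, ?_⟩
    have := congrArg ULift.down hc
    simpa using this

instance : (RingHom.ker (gMap k)).IsPrime := RingHom.ker_isPrime _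

instance : IsNoetherianRing (ULift.{u} ℤ) :=
  isNoetherianRing_of_ringEquiv ℤ (ULift.ringEquiv : ULift.{u} ℤ ≃+* ℤ).symm

instance : IsDomain (ULift.{u} ℤ) :=
  (ULift.ringEquiv : ULift.{u} ℤ ≃+* ℤ).toMulEquiv.isDomain ℤ

/-- The localization of the integers at the kernel of the map to `k`. -/
abbrev ZLoc : Type u := Localization.AtPrime (RingHom.ker (gMap k))

theorem isUnit_gMap (y : (RingHom.ker (gMap k)).primeCompl) : IsUnit (gMap k y) := by
  rw [isUnit_iff_ne_zero]
  exact y.2

/-- The induced map from the localization to `k`. -/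
noncomputable def psi : ZLoc k →+* k :=
  IsLocalization.lift (M := (RingHom.ker (gMap k)).primeCompl) (g := gMap k) (isUnit_gMap k)

theorem psi_algebraMap (x : ULift.{u} ℤ) : psi k (algebraMap _ (ZLoc k) x) = gMap k x := by
  rw [psi, IsLocalization.lift_eq]

theorem ker_psi : RingHom.ker (psi k) = maximalIdeal (ZLoc k) := by
  apply le_antisymm
  · exact IsLocalRing.le_maximalIdeal (RingHom.ker_ne_top _)
  · rw [← Localization.AtPrime.map_eq_maximalIdeal, Ideal.map_le_iff_le_comap]
    intro x hx
    rw [Ideal.mem_comap, RingHom.mem_ker, psi_algebraMap]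
    exact hx

theorem good_zLoc : GoodRing (K := k) (ZLoc k) (psi k) :=
  ⟨IsLocalization.isNoetherianRing (RingHom.ker (gMap k)).primeCompl _ inferInstance,
    inferInstance, ker_psi k⟩

omit [Fact p.Prime] in
theorem maximalIdeal_zLoc : maximalIdeal (ZLoc k) = Ideal.span {(p : ZLoc k)} := by
  rw [← Localization.AtPrime.map_eq_maximalIdeal]
  have h : Ideal.map (algebraMap (ULift.{u} ℤ) (ZLoc k)) (RingHom.ker (gMap k)) =
      Ideal.map (algebraMap (ULift.{u} ℤ) (ZLoc k)) (Ideal.span {(p : ULift.{u} ℤ)}) :=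
    congrArg _ (ker_gMap p k)
  rw [h, Ideal.map_span, Set.image_singleton, map_natCast]

omit [CharP k p] in
theorem natCast_mem_nonZeroDivisors_zLoc : (p : ZLoc k) ∈ nonZeroDivisors (ZLoc k) := by
  have hinj : Function.Injective (algebraMap (ULift.{u} ℤ) (ZLoc k)) :=
    IsLocalization.injective _ (Ideal.primeCompl_le_nonZeroDivisors (RingHom.ker (gMap k)))
  have hp0 : (p : ULift.{u} ℤ) ≠ 0 := by
    intro h
    have := congrArg ULift.down h
    have hp := (Fact.out : p.Prime).ne_zero
    simp at this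
    exact hp this
  have : (p : ZLoc k) ≠ 0 := by
    rw [← map_natCast (algebraMap (ULift.{u} ℤ) (ZLoc k))]
    exact fun h => hp0 (hinj (by rw [h, map_zero]))
  exact mem_nonZeroDivisors_of_ne_zero this

/-- Scalar regularity along a flat ring map, for natural number casts. -/
theorem natCast_mem_nonZeroDivisors_of_flat {S T : Type*} [CommRing S] [CommRing T] [Algebra S T]
    [Module.Flat S T] (n : ℕ) (hn : (n : S) ∈ nonZeroDivisors S) : (n : T) ∈ nonZeroDivisors T := by
  have h1 : IsSMulRegular T (n : S) := Module.Flat.isSMulRegular_of_nonZeroDivisors hn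
  rw [mem_nonZeroDivisors_iff_right]
  intro x hx
  apply h1
  show (n : S) • x = (n : S) • (0 : T)
  rw [smul_zero, Algebra.smul_def, map_natCast, mul_comm]
  exact hx

end base

/-- Existence of Cohen rings (unfolded form). -/
theorem exists_cohenRing (p : ℕ) [Fact p.Prime] (k : Type u) [Field k] [CharP k p] : ∃ (Λ : Type u) (_ : CommRing Λ) (_ : IsLocalRing Λ),
    (∃ (_ : IsDomain Λ) (_ : IsDiscreteValuationRing Λ),
      IsAdicComplete (maximalIdeal Λ) Λ ∧
        ∃ q : ℕ, q.Prime ∧ maximalIdeal Λ = Ideal.span {(q : Λ)}) ∧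
      Nonempty (ResidueField Λ ≃+* k) := by
  obtain ⟨B, hB, f, φ, hcomp, ⟨hN, hL, hker⟩, ⟨_, _, hflat, hloc, hmax⟩, hsurj⟩ :=
    Groth.Agent.Helper8.ResExt.exists_flat_local (psi k) (good_zLoc k)
  have hmB : maximalIdeal B = Ideal.span {(p : B)} := by
    rw [← hmax, maximalIdeal_zLoc p k, Ideal.map_span, Set.image_singleton, map_natCast]
  letI : Algebra (ZLoc k) B := f.toAlgebra
  haveI : Module.Flat (ZLoc k) B := hflat
  have hregB : (p : B) ∈ nonZeroDivisors B :=
    natCast_mem_nonZeroDivisors_of_flat (S := ZLoc k) p (natCast_mem_nonZeroDivisors_zLoc p k)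
  haveI : IsNoetherianRing (B ⧸ maximalIdeal B) :=
    inferInstanceAs (IsNoetherianRing (ResidueField B))
  haveI hNΛ : IsNoetherianRing (AdicCompletion (maximalIdeal B) B) :=
    Groth.Agent.Helper2.CompleteNoeth.isNoetherianRing_adicCompletion B (maximalIdeal B)
      (IsNoetherian.noetherian _)
  have hmΛ : maximalIdeal (AdicCompletion (maximalIdeal B) B) =
      Ideal.span {(p : AdicCompletion (maximalIdeal B) B)} := by
    rw [AdicCompletion.maximalIdeal_eq_map, hmB, Ideal.map_span, Set.image_singleton, map_natCast]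
  have hregΛ : (p : AdicCompletion (maximalIdeal B) B) ∈
      nonZeroDivisors (AdicCompletion (maximalIdeal B) B) :=
    natCast_mem_nonZeroDivisors_of_flat (S := B) p hregB
  haveI hdom : IsDomain (AdicCompletion (maximalIdeal B) B) :=
    isDomain_of_principal _ hmΛ hregΛ
  have hdvr : IsDiscreteValuationRing (AdicCompletion (maximalIdeal B) B) :=
    isDiscreteValuationRing_of_principal _ hmΛ hregΛ
  refine ⟨AdicCompletion (maximalIdeal B) B, inferInstance, inferInstance,
    ⟨hdom, hdvr, inferInstance, p, Fact.out, hmΛ⟩, ?_⟩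
  let e1 : ResidueField B ≃+* ResidueField (AdicCompletion (maximalIdeal B) B) :=
    RingEquiv.ofBijective _ (AdicCompletion.residueField_map_bijective (R := B))
  let e2 : ResidueField B ≃+* k :=
    (Ideal.quotEquivOfEq hker.symm).trans (RingHom.quotientKerEquivOfSurjective hsurj)
  exact ⟨e1.symm.trans e2⟩

end Groth.Agent.Helper8.Cohen
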