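import Mathlib
import Groth.Agent.Lib.Helper8.CohenLift1

/-!
# Lifting homomorphisms from a Cohen ring to a complete ring
-/

set_option autoImplicit false

namespace Groth.Agent.Helper8.CohenLift

open IsLocalRing

universe u v

section tower

variable (Λ : Type u) [CommRing Λ] [IsDomain Λ] [IsDiscreteValuationRing Λ]
  [IsAdicComplete (maximalIdeal Λ) Λ] (p : ℕ) (hp : p.Prime)
  (hm : maximalIdeal Λ = Ideal.span {(p : Λ)})
  {R : Type v} [CommRing R] (I : Ideal R) (hpI : (p : R) ∈ I)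

theorem isNilpotent_ker_factorPowSucc (n : ℕ) (hn : 1 ≤ n) :
    IsNilpotent (RingHom.ker (Ideal.Quotient.factorPow I (Nat.le_succ n))) := by
  refine ⟨2, ?_⟩
  rw [Ideal.Quotient.factor_ker, ← Ideal.map_pow, Ideal.zero_eq_bot, Ideal.map_eq_bot_iff_le_ker,
    Ideal.mk_ker, ← pow_mul]
  exact Ideal.pow_le_pow_right (by omega)

include hp hm hpI in
theorem exists_step (n : ℕ) (g : Λ →+* R ⧸ I ^ (n + 1)) :
    ∃ g' : Λ →+* R ⧸ I ^ (n + 1 + 1),
      (Ideal.Quotient.factorPow I (Nat.le_succ (n + 1))).comp g' = g := by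
  refine exists_lift_of_nilpotent Λ p hp hm (Ideal.Quotient.factorPow I (Nat.le_succ (n + 1)))
    (Ideal.Quotient.factor_surjective _) (isNilpotent_ker_factorPowSucc I (n + 1) (by omega))
    (n + 1 + 1) (by omega) ?_ g
  rw [← map_natCast (Ideal.Quotient.mk (I ^ (n + 1 + 1))), ← map_pow,
    Ideal.Quotient.eq_zero_iff_mem]
  exact Ideal.pow_mem_pow hpI _

/-- The compatible sequence of lifts. -/
noncomputable def seq (g0 : Λ →+* R ⧸ I ^ (0 + 1)) : (n : ℕ) → (Λ →+* R ⧸ I ^ (n + 1))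
  | 0 => g0
  | n + 1 => Classical.choose (exists_step Λ p hp hm I hpI n (seq g0 n))

theorem seq_succ (g0 : Λ →+* R ⧸ I ^ (0 + 1)) (n : ℕ) :
    (Ideal.Quotient.factorPow I (Nat.le_succ (n + 1))).comp (seq Λ p hp hm I hpI g0 (n + 1)) =
      seq Λ p hp hm I hpI g0 n :=
  Classical.choose_spec (exists_step Λ p hp hm I hpI n (seq Λ p hp hm I hpI g0 n))

include hp hm hpI in
/-- A homomorphism from a Cohen ring to `R ⧸ I` lifts to `R` when `R` is `I`-adically complete
and `p ∈ I`. -/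
theorem exists_lift_complete [IsAdicComplete I R] (g : Λ →+* R ⧸ I) :
    ∃ φ : Λ →+* R, (Ideal.Quotient.mk I).comp φ = g := by
  have h1 : I = I ^ (0 + 1) := by rw [zero_add, pow_one]
  let e : R ⧸ I ≃+* R ⧸ I ^ (0 + 1) := Ideal.quotEquivOfEq h1
  let g0 : Λ →+* R ⧸ I ^ (0 + 1) := e.toRingHom.comp g
  have ha : StrictMono (fun n : ℕ => n + 1) := fun a b h => Nat.succ_lt_succ h
  let φ := IsAdicComplete.StrictMono.liftRingHom I ha (seq Λ p hp hm I hpI g0)
    (fun {m} => seq_succ Λ p hp hm I hpI g0 m)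
  refine ⟨φ, ?_⟩
  have h0 : (Ideal.Quotient.mk (I ^ (0 + 1))).comp φ = g0 :=
    IsAdicComplete.StrictMono.mk_comp_liftRingHom I ha (seq Λ p hp hm I hpI g0)
      (fun {m} => seq_succ Λ p hp hm I hpI g0 m) (n := 0)
  ext x
  have h2 := RingHom.congr_fun h0 x
  apply e.injective
  rw [RingHom.comp_apply] at h2 ⊢
  rw [show e (Ideal.Quotient.mk I (φ x)) = Ideal.Quotient.mk (I ^ (0 + 1)) (φ x) from rfl, h2]
  rfl

end tower

end Groth.Agent.Helper8.CohenLift
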