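import Mathlib
import Groth.Agent.Lib.Helper8.CohenLift2
import Groth.Agent.Lib.Helper8.Cohen2
import Groth.Agent.S0579

/-!
# Cohen structure theorem: complete local rings are quotients of power series rings
-/

set_option autoImplicit false

namespace Groth.Agent.Helper8.CohenStr

open IsLocalRing

universe u

/-- Evaluation of power series at elements of the maximal ideal of a complete local ring. -/
theorem exists_algHom (W R : Type*) [CommRing W] [CommRing R] [IsLocalRing R] [Algebra W R]
    [IsAdicComplete (maximalIdeal R) R] (d : ℕ) (b : Fin d → R) (hb : ∀ i, b i ∈ maximalIdeal R) :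
    ∃ ψ : MvPowerSeries (Fin d) W →ₐ[W] R, ∀ i, ψ (MvPowerSeries.X i) = b i := by
  let _ : WithIdeal R := ⟨maximalIdeal R⟩
  let _ : TopologicalSpace W := ⊥
  have : DiscreteTopology W := ⟨rfl⟩
  let _ : UniformSpace W := IsTopologicalAddGroup.rightUniformSpace W
  have : IsUniformAddGroup W := isUniformAddGroup_of_addCommGroup
  have hc : CompleteSpace R ∧ T2Space R :=
    (IsAdic.isAdicComplete_iff (I := maximalIdeal R) rfl).mp inferInstance
  obtain ⟨h1, h2⟩ := hc
  have : ContinuousSMul W R := DiscreteTopology.instContinuousSMul W R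
  have hev : MvPowerSeries.HasEval b :=
    ⟨fun i => WithIdeal.isTopologicallyNilpotent_of_mem (hb i), by
      rw [Filter.cofinite_eq_bot]; exact Filter.tendsto_bot⟩
  refine ⟨MvPowerSeries.aeval hev, fun i => ?_⟩
  rw [MvPowerSeries.coe_aeval, MvPowerSeries.eval₂_X]

/-- A complete local ring with finitely generated maximal ideal, with a ring map from `W`
inducing a surjection onto the residue field, is a quotient of a power series ring over `W`. -/
theorem exists_surjective_of_section (R : Type u) [CommRing R] [IsLocalRing R]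
    [IsAdicComplete (maximalIdeal R) R] (hfg : (maximalIdeal R).FG)
    (W : Type u) [CommRing W] (σ : W →+* R)
    (hσ : Function.Surjective ((residue R).comp σ)) :
    ∃ (n : ℕ) (f : MvPowerSeries (Fin n) W →+* R), Function.Surjective f := by
  obtain ⟨n, b, hb⟩ := Submodule.fg_iff_exists_fin_generating_family.1 hfg
  have hbm : ∀ i, b i ∈ maximalIdeal R := fun i => by
    rw [← hb]; exact Submodule.subset_span ⟨i, rfl⟩
  letI : Algebra W R := σ.toAlgebra
  obtain ⟨ψ, hψ⟩ := exists_algHom W R n b hbm
  refine ⟨n, ψ.toRingHom, ?_⟩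
  have hmap : (Ideal.span (Set.range (MvPowerSeries.X : Fin n → MvPowerSeries (Fin n) W))).map
      ψ.toRingHom = maximalIdeal R := by
    rw [Ideal.map_span, ← Set.range_comp]
    have : (⇑ψ.toRingHom ∘ (MvPowerSeries.X : Fin n → MvPowerSeries (Fin n) W)) = b := by
      funext i; exact hψ i
    rw [this]
    exact hb
  haveI : IsHausdorff ((Ideal.span (Set.range
      (MvPowerSeries.X : Fin n → MvPowerSeries (Fin n) W))).map ψ.toRingHom) R := by
    rw [hmap]; infer_instance
  apply surjective_of_mk_map_comp_surjective ψ.toRingHom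
    (I := Ideal.span (Set.range (MvPowerSeries.X : Fin n → MvPowerSeries (Fin n) W)))
  intro y
  obtain ⟨r, rfl⟩ := Ideal.Quotient.mk_surjective y
  obtain ⟨w, hw⟩ := hσ (residue R r)
  refine ⟨MvPowerSeries.C w, ?_⟩
  rw [RingHom.comp_apply, Ideal.Quotient.eq, hmap]
  have h1 : ψ.toRingHom (MvPowerSeries.C w) = σ w := by
    have := ψ.commutes w
    exact this
  rw [h1]
  have h2 : residue R (σ w - r) = 0 := by
    rw [map_sub, ← hw, RingHom.comp_apply, sub_self]
  exact (residue_eq_zero_iff _).1 h2

end Groth.Agent.Helper8.CohenStr
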