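import Mathlib

/-!
# The maximal ideal of a multivariate power series ring over a field

`maximalIdeal (MvPowerSeries σ k) = span (range X)` for finite `σ`, completeness, residue field.
-/

set_option autoImplicit false

namespace Groth.Agent.Helper8

open MvPowerSeries

section

variable {σ : Type*} {R : Type*} [CommRing R]

/-- If all coefficients of `f` at exponents vanishing on the finset `S` are zero, then `f`
lies in the ideal generated by the variables in `S`. -/
theorem mvPowerSeries_mem_span_X_of_forall (S : Finset σ) :
    ∀ f : MvPowerSeries σ R, (∀ m : σ →₀ ℕ, (∀ s ∈ S, m s = 0) → coeff m f = 0) →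
      f ∈ Ideal.span ((fun s : σ => (X s : MvPowerSeries σ R)) '' (S : Set σ)) := by
  classical
  induction S using Finset.induction_on with
  | empty =>
    intro f hf
    have : f = 0 := by
      ext m
      rw [hf m (by simp)]
      simp
    rw [this]
    exact Ideal.zero_mem _
  | insert a S ha ih =>
    intro f hf
    obtain ⟨f₁, hf₁⟩ : ∃ f₁ : MvPowerSeries σ R,
        ∀ m, coeff m f₁ = if m a = 0 then 0 else coeff m f :=
      ⟨fun m => if m a = 0 then 0 else coeff m f, fun m => rfl⟩
    obtain ⟨f₂, hf₂⟩ : ∃ f₂ : MvPowerSeries σ R,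
        ∀ m, coeff m f₂ = if m a = 0 then coeff m f else 0 :=
      ⟨fun m => if m a = 0 then coeff m f else 0, fun m => rfl⟩
    have hsum : f = f₁ + f₂ := by
      ext m
      rw [map_add, hf₁, hf₂]
      split_ifs <;> simp
    have h1 : (X a : MvPowerSeries σ R) ∣ f₁ := by
      rw [X_dvd_iff]
      intro m hm
      rw [hf₁, if_pos hm]
    have h2 : f₂ ∈ Ideal.span ((fun s : σ => (X s : MvPowerSeries σ R)) '' (S : Set σ)) := by
      apply ih
      intro m hm
      rw [hf₂]
      split_ifs with h0
      · exact hf m (by
          intro s hs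
          rcases Finset.mem_insert.mp hs with rfl | hs
          · exact h0
          · exact hm s hs)
      · rfl
    rw [hsum]
    refine Ideal.add_mem _ ?_ ?_
    · obtain ⟨g, hg⟩ := h1
      rw [hg]
      refine Ideal.mul_mem_right _ _ (Ideal.subset_span ⟨a, ?_, rfl⟩)
      simp
    · refine Ideal.span_mono ?_ h2
      apply Set.image_mono
      simp

theorem mvPowerSeries_mem_span_range_X [Finite σ] (f : MvPowerSeries σ R)
    (hf : constantCoeff f = 0) :
    f ∈ Ideal.span (Set.range (fun s : σ => (X s : MvPowerSeries σ R))) := by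
  classical
  haveI := Fintype.ofFinite σ
  have := mvPowerSeries_mem_span_X_of_forall (R := R) (Finset.univ : Finset σ) f (by
    intro m hm
    have : m = 0 := by
      ext s
      simpa using hm s (Finset.mem_univ s)
    rw [this]
    simpa using hf)
  simpa using this

end

section Field

variable (σ : Type*) [Finite σ] (k : Type*) [Field k]

theorem mvPowerSeries_maximalIdeal_eq :
    IsLocalRing.maximalIdeal (MvPowerSeries σ k) =
      Ideal.span (Set.range (fun s : σ => (X s : MvPowerSeries σ k))) := by
  apply le_antisymm
  · intro f hf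
    apply mvPowerSeries_mem_span_range_X
    by_contra h
    have hu : IsUnit f := by
      rw [isUnit_iff_constantCoeff]
      exact (Ne.isUnit h)
    exact (IsLocalRing.mem_maximalIdeal _).mp hf hu
  · rw [Ideal.span_le]
    rintro _ ⟨s, rfl⟩
    rw [SetLike.mem_coe, IsLocalRing.mem_maximalIdeal, mem_nonunits_iff,
      isUnit_iff_constantCoeff]
    simp

instance mvPowerSeries_isAdicComplete_maximalIdeal :
    IsAdicComplete (IsLocalRing.maximalIdeal (MvPowerSeries σ k)) (MvPowerSeries σ k) := by
  rw [mvPowerSeries_maximalIdeal_eq]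
  infer_instance

theorem mvPowerSeries_mem_maximalIdeal_iff (f : MvPowerSeries σ k) :
    f ∈ IsLocalRing.maximalIdeal (MvPowerSeries σ k) ↔ constantCoeff f = 0 := by
  rw [IsLocalRing.mem_maximalIdeal, mem_nonunits_iff, isUnit_iff_constantCoeff]
  simp

theorem mvPowerSeries_sub_C_mem_maximalIdeal (f : MvPowerSeries σ k) :
    f - C (constantCoeff f) ∈ IsLocalRing.maximalIdeal (MvPowerSeries σ k) := by
  rw [mvPowerSeries_mem_maximalIdeal_iff]
  simp

theorem mvPowerSeries_residue_comp_algebraMap_surjective :
    Function.Surjective ((IsLocalRing.residue (MvPowerSeries σ k)).comp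
      (algebraMap k (MvPowerSeries σ k))) := by
  intro x
  obtain ⟨f, rfl⟩ := IsLocalRing.residue_surjective x
  refine ⟨constantCoeff f, ?_⟩
  rw [RingHom.comp_apply]
  symm
  exact (Ideal.Quotient.eq (I := IsLocalRing.maximalIdeal (MvPowerSeries σ k))).mpr
    (mvPowerSeries_sub_C_mem_maximalIdeal σ k f)

end Field

end Groth.Agent.Helper8
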