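import Mathlib
import Groth.Agent.Lib.Helper8.CoeffField1
import Groth.Agent.Lib.Helper8.CohenStr1
import Groth.Agent.Lib.Helper8.MvPSLocal

/-!
# Minimal presentations of complete Noetherian local rings with a coefficient field
-/

set_option autoImplicit false

namespace Groth.Agent.Helper8.CoeffField

open IsLocalRing MvPowerSeries

universe u

/-- Evaluation of power series over `W` at elements of the maximal ideal of a complete local
ring receiving a homomorphism from `W`. -/
theorem exists_ringHom_eval {W R : Type*} [CommRing W] [CommRing R] [IsLocalRing R]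
    [IsAdicComplete (maximalIdeal R) R] (s : W →+* R) (d : ℕ) (b : Fin d → R)
    (hb : ∀ i, b i ∈ maximalIdeal R) :
    ∃ ψ : MvPowerSeries (Fin d) W →+* R, (∀ c, ψ (C c) = s c) ∧ ∀ i, ψ (X i) = b i := by
  letI : Algebra W R := s.toAlgebra
  obtain ⟨ψ, hψ⟩ := Groth.Agent.Helper8.CohenStr.exists_algHom W R d b hb
  exact ⟨ψ, fun c => ψ.commutes c, hψ⟩

/-- A complete Noetherian local ring with a coefficient field is a quotient of a power series
ring over its residue field in `dim m/m²` variables, by an ideal contained in the square of the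
maximal ideal. -/
theorem exists_surjective_ker_le_sq (A : Type u) [CommRing A] [IsLocalRing A] [IsNoetherianRing A]
    [IsAdicComplete (maximalIdeal A) A] (s : ResidueField A →+* A)
    (hs : (residue A).comp s = RingHom.id _) :
    ∃ f : MvPowerSeries (Fin (Module.finrank (ResidueField A) (CotangentSpace A)))
        (ResidueField A) →+* A,
      Function.Surjective f ∧ (∀ c, f (C c) = s c) ∧
      RingHom.ker f ≤ maximalIdeal (MvPowerSeries
        (Fin (Module.finrank (ResidueField A) (CotangentSpace A))) (ResidueField A)) ^ 2 := by
  classical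
  set n := Module.finrank (ResidueField A) (CotangentSpace A) with hn
  let b : Module.Basis (Fin n) (ResidueField A) (CotangentSpace A) :=
    Module.finBasis (ResidueField A) _
  have hex : ∀ i, ∃ y : maximalIdeal A, (maximalIdeal A).toCotangent y = b i :=
    fun i => Ideal.toCotangent_surjective _ (b i)
  choose xs hxs using hex
  have hspan : Submodule.span A (Set.range xs) = ⊤ := by
    rw [← CotangentSpace.span_image_eq_top_iff, ← Set.range_comp]
    have : (⇑(maximalIdeal A).toCotangent ∘ xs) = b := funext hxs
    rw [this]; exact b.span_eq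
  let x : Fin n → A := fun i => (xs i : A)
  have hx : ∀ i, x i ∈ maximalIdeal A := fun i => (xs i).2
  have hgen : Ideal.span (Set.range x) = maximalIdeal A := by
    have := congrArg (Submodule.map (Submodule.subtype (maximalIdeal A))) hspan
    rw [Submodule.map_span, Submodule.map_top, Submodule.range_subtype, ← Set.range_comp] at this
    exact this
  have hres : ∀ c : ResidueField A, residue A (s c) = c := fun c => RingHom.congr_fun hs c
  obtain ⟨ψ, hC, hψ⟩ := exists_ringHom_eval s n x hx
  have hmap : (maximalIdeal (MvPowerSeries (Fin n) (ResidueField A))).map ψ =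
      maximalIdeal A := by
    rw [Groth.Agent.Helper8.mvPowerSeries_maximalIdeal_eq, Ideal.map_span, ← Set.range_comp]
    have : (⇑ψ ∘ fun i : Fin n => (X i : MvPowerSeries (Fin n) (ResidueField A))) = x := by
      funext i; exact hψ i
    rw [this]
    exact hgen
  have hmem : ∀ g ∈ maximalIdeal (MvPowerSeries (Fin n) (ResidueField A)),
      ψ g ∈ maximalIdeal A := by
    intro g hg
    rw [← hmap]
    exact Ideal.mem_map_of_mem _ hg
  have hmem2 : ∀ g ∈ maximalIdeal (MvPowerSeries (Fin n) (ResidueField A)) ^ 2,
      ψ g ∈ maximalIdeal A ^ 2 := by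
    intro g hg
    rw [← hmap, ← Ideal.map_pow]
    exact Ideal.mem_map_of_mem _ hg
  refine ⟨ψ, ?_, hC, ?_⟩
  · -- surjectivity
    haveI : IsHausdorff ((maximalIdeal (MvPowerSeries (Fin n) (ResidueField A))).map
        ψ) A := by
      rw [hmap]; infer_instance
    apply surjective_of_mk_map_comp_surjective ψ
      (I := maximalIdeal (MvPowerSeries (Fin n) (ResidueField A)))
    intro y
    obtain ⟨r, rfl⟩ := Ideal.Quotient.mk_surjective y
    refine ⟨C (residue A r), ?_⟩
    rw [RingHom.comp_apply, Ideal.Quotient.eq, hmap]
    have h1 : ψ (C (residue A r)) = s (residue A r) := hC _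
    rw [h1]
    have h2 : residue A (s (residue A r) - r) = 0 := by
      rw [map_sub, hres, sub_self]
    exact (residue_eq_zero_iff _).1 h2
  · -- the kernel
    intro f hf
    rw [RingHom.mem_ker] at hf
    have hf' : ψ f = 0 := hf
    -- the constant coefficient vanishes
    have h0 : constantCoeff f = 0 := by
      have h1 := hmem _ (Groth.Agent.Helper8.mvPowerSeries_sub_C_mem_maximalIdeal (Fin n)
        (ResidueField A) f)
      rw [map_sub, hf', zero_sub, hC, neg_mem_iff] at h1
      have := (residue_eq_zero_iff _).2 h1
      rwa [hres] at this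
    have hfm : f ∈ Ideal.span (Set.range
        (fun i : Fin n => (X i : MvPowerSeries (Fin n) (ResidueField A)))) :=
      Groth.Agent.Helper8.mvPowerSeries_mem_span_range_X f h0
    obtain ⟨g, hg⟩ := Ideal.mem_span_range_iff_exists_fun.1 hfm
    let h : MvPowerSeries (Fin n) (ResidueField A) :=
      ∑ i, (g i - C (constantCoeff (g i))) * X i
    have hh : h ∈ maximalIdeal (MvPowerSeries (Fin n) (ResidueField A)) ^ 2 := by
      refine Ideal.sum_mem _ fun i _ => ?_
      rw [pow_two]
      refine Ideal.mul_mem_mul
        (Groth.Agent.Helper8.mvPowerSeries_sub_C_mem_maximalIdeal (Fin n) (ResidueField A) (g i)) ?_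
      rw [Groth.Agent.Helper8.mvPowerSeries_mem_maximalIdeal_iff, constantCoeff_X]
    have hdec : f = (∑ i, C (constantCoeff (g i)) * X i) + h := by
      rw [← hg, ← Finset.sum_add_distrib]
      refine Finset.sum_congr rfl fun i _ => ?_
      ring
    -- apply `ψ`
    have h2 : ∑ i, s (constantCoeff (g i)) * x i ∈ maximalIdeal A ^ 2 := by
      have h3 := congrArg ψ hdec
      rw [hf', map_add, map_sum] at h3
      have h4 : ∑ i, ψ (C (constantCoeff (g i)) * X i) = - ψ h := by
        rw [eq_neg_iff_add_eq_zero]; exact h3.symm
      have h5 : ∑ i, s (constantCoeff (g i)) * x i = - ψ h := by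
        rw [← h4]
        refine Finset.sum_congr rfl fun i _ => ?_
        rw [map_mul, hC, hψ]
      rw [h5, neg_mem_iff]
      exact hmem2 h hh
    -- pass to the cotangent space
    have h6 : ∑ i, constantCoeff (g i) • b i = 0 := by
      have hm : ∑ i, s (constantCoeff (g i)) * x i ∈ maximalIdeal A :=
        Ideal.pow_le_self (by norm_num) h2
      have h7 : (maximalIdeal A).toCotangent ⟨_, hm⟩ = 0 :=
        (Ideal.toCotangent_eq_zero _ _).2 h2
      have h8 : (⟨_, hm⟩ : maximalIdeal A) = ∑ i, s (constantCoeff (g i)) • xs i := by
        apply Subtype.ext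
        rw [Submodule.coe_sum]
        rfl
      rw [h8, map_sum] at h7
      rw [← h7]
      refine Finset.sum_congr rfl fun i _ => ?_
      rw [LinearMap.map_smul, hxs, ← hres (constantCoeff (g i)), hres (constantCoeff (g i))]
      conv_lhs => rw [← hres (constantCoeff (g i))]
      exact (algebraMap_smul (ResidueField A) (s (constantCoeff (g i))) (b i))
    have h9 : ∀ i, constantCoeff (g i) = 0 := by
      have := Fintype.linearIndependent_iff.1 b.linearIndependent _ h6
      exact this
    rw [hdec]
    have h10 : ∑ i, C (constantCoeff (g i)) * (X i : MvPowerSeries (Fin n) (ResidueField A)) = 0 := by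
      refine Finset.sum_eq_zero fun i _ => ?_
      rw [h9 i, map_zero, zero_mul]
    rw [h10, zero_add]
    exact hh

end Groth.Agent.Helper8.CoeffField
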