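import Mathlib
import Groth.Agent.Lib.Helper8.MvPSLocal
import Groth.Agent.Lib.Helper3.SchlO

/-!
# Substitution of a regular system of parameters in a power series ring over a
discrete valuation ring is bijective
-/

set_option autoImplicit false

namespace Groth.Agent.Helper8.PSeries

open MvPowerSeries

universe u v

/-- A surjective endomorphism of a Noetherian ring is injective. -/
theorem injective_of_surjective_ringEnd {S : Type u} [CommRing S] [IsNoetherianRing S]
    (φ : S →+* S) (hφ : Function.Surjective φ) : Function.Injective φ := by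
  have hmono : Monotone (fun n : ℕ => RingHom.ker (φ ^ n)) := by
    apply monotone_nat_of_le_succ
    intro n x hx
    rw [RingHom.mem_ker] at hx ⊢
    rw [pow_succ', RingHom.mul_def, RingHom.comp_apply, hx, map_zero]
  obtain ⟨n, hn⟩ := monotone_stabilizes_iff_noetherian.2 (inferInstance : IsNoetherian S S)
    ⟨fun n : ℕ => RingHom.ker (φ ^ n), hmono⟩
  have hsurj : Function.Surjective (φ ^ n) := by
    rw [RingHom.coe_pow]
    exact hφ.iterate n
  rw [injective_iff_map_eq_zero]
  intro x hx
  obtain ⟨z, rfl⟩ := hsurj x
  have h1 : z ∈ RingHom.ker (φ ^ (n + 1)) := by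
    rw [RingHom.mem_ker, pow_succ', RingHom.mul_def, RingHom.comp_apply]
    exact hx
  have h2 : z ∈ RingHom.ker (φ ^ n) := by
    have := hn (n + 1) (Nat.le_succ n)
    change RingHom.ker (φ ^ n) = RingHom.ker (φ ^ (n + 1)) at this
    rw [this]
    exact h1
  exact h2

section

variable {σ : Type u} [Finite σ] {Λ : Type v} [CommRing Λ] [IsLocalRing Λ]

/-- If the maximal ideal of `Λ` is generated by `π`, then the maximal ideal of the power series
ring is generated by `π` and the variables. -/
theorem maximalIdeal_eq_span_insert (π : Λ) (hπ : IsLocalRing.maximalIdeal Λ = Ideal.span {π}) :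
    IsLocalRing.maximalIdeal (MvPowerSeries σ Λ) =
      Ideal.span (insert (C π : MvPowerSeries σ Λ)
        (Set.range (fun s : σ => (X s : MvPowerSeries σ Λ)))) := by
  have hmem : ∀ f : MvPowerSeries σ Λ, f ∈ IsLocalRing.maximalIdeal (MvPowerSeries σ Λ) ↔
      constantCoeff f ∈ IsLocalRing.maximalIdeal Λ := by
    intro f
    rw [IsLocalRing.mem_maximalIdeal, mem_nonunits_iff, isUnit_iff_constantCoeff,
      IsLocalRing.mem_maximalIdeal, mem_nonunits_iff]
  apply le_antisymm
  · intro f hf
    rw [hmem, hπ, Ideal.mem_span_singleton] at hf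
    obtain ⟨c, hc⟩ := hf
    have h1 : f - C π * C c ∈ Ideal.span (Set.range (fun s : σ => (X s : MvPowerSeries σ Λ))) := by
      apply Groth.Agent.Helper8.mvPowerSeries_mem_span_range_X
      rw [map_sub, map_mul, constantCoeff_C, constantCoeff_C, hc, sub_self]
    have h2 : f = C π * C c + (f - C π * C c) := by ring
    rw [h2]
    refine Ideal.add_mem _ ?_ ?_
    · exact Ideal.mul_mem_right _ _ (Ideal.subset_span (Set.mem_insert _ _))
    · exact Ideal.span_mono (Set.subset_insert _ _) h1
  · rw [Ideal.span_le]
    rintro f (rfl | ⟨s, rfl⟩)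
    · rw [SetLike.mem_coe, hmem, constantCoeff_C, hπ]
      exact Ideal.mem_span_singleton_self _
    · rw [SetLike.mem_coe, hmem]
      show constantCoeff (X s) ∈ _
      rw [constantCoeff_X]
      exact Ideal.zero_mem _

variable [IsNoetherianRing Λ] [IsAdicComplete (IsLocalRing.maximalIdeal Λ) Λ]

/-- A `Λ`-algebra endomorphism of the power series ring which carries the maximal ideal onto a
set of generators of the maximal ideal is bijective. -/
theorem bijective_of_map_maximalIdeal (φ : MvPowerSeries σ Λ →ₐ[Λ] MvPowerSeries σ Λ)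
    (hφ : (IsLocalRing.maximalIdeal (MvPowerSeries σ Λ)).map φ.toRingHom =
      IsLocalRing.maximalIdeal (MvPowerSeries σ Λ)) :
    Function.Bijective φ := by
  haveI : IsPrecomplete (IsLocalRing.maximalIdeal (MvPowerSeries σ Λ)) (MvPowerSeries σ Λ) :=
    Groth.Agent.Helper3.ArtFunLib.isPrecomplete_ps_local
  haveI : IsHausdorff ((IsLocalRing.maximalIdeal (MvPowerSeries σ Λ)).map φ.toRingHom)
      (MvPowerSeries σ Λ) := by
    rw [hφ]; infer_instance
  have hsurj : Function.Surjective φ.toRingHom := by
    apply surjective_of_mk_map_comp_surjective φ.toRingHom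
      (I := IsLocalRing.maximalIdeal (MvPowerSeries σ Λ))
    intro y
    obtain ⟨f, rfl⟩ := Ideal.Quotient.mk_surjective y
    refine ⟨C (constantCoeff f), ?_⟩
    rw [RingHom.comp_apply, Ideal.Quotient.eq, hφ]
    have h1 : φ.toRingHom (C (constantCoeff f)) = C (constantCoeff f) := by
      have := φ.commutes (constantCoeff f)
      rw [MvPowerSeries.algebraMap_apply, Algebra.algebraMap_self, RingHom.id_apply] at this
      exact this
    rw [h1, IsLocalRing.mem_maximalIdeal, mem_nonunits_iff, isUnit_iff_constantCoeff, map_sub,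
      constantCoeff_C, sub_self]
    exact not_isUnit_zero
  exact ⟨injective_of_surjective_ringEnd φ.toRingHom hsurj, hsurj⟩

end

end Groth.Agent.Helper8.PSeries
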