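import Mathlib
import Groth.Agent.Lib.Helper8.AdicFS2
import Groth.Agent.Lib.Helper8.CoeffField2
import Groth.Agent.Lib.Helper8.PSeries3
import Groth.Agent.Lib.Helper8.Adic
import Groth.Agent.Lib.Helper3.SchlO

/-!
# Complete local algebras formally smooth over a field, with a coefficient field, are power
series rings
-/

set_option autoImplicit false

namespace Groth.Agent.Helper8.AdicFS

open CAlgX IsLocalRing MvPowerSeries

universe u

/-- An endomorphism of a complete Noetherian local ring congruent to the identity modulo the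
square of the maximal ideal is surjective. -/
theorem surjective_of_congr_id {S : Type*} [CommRing S] [IsLocalRing S] [IsNoetherianRing S]
    [IsAdicComplete (maximalIdeal S) S] (ψ : S →+* S)
    (h : ∀ x, ψ x - x ∈ maximalIdeal S ^ 2) : Function.Surjective ψ := by
  have hsq : maximalIdeal S ^ 2 ≤ maximalIdeal S := Ideal.pow_le_self two_ne_zero
  have hmap : (maximalIdeal S).map ψ = maximalIdeal S := by
    apply le_antisymm
    · rw [Ideal.map_le_iff_le_comap]
      intro x hx
      rw [Ideal.mem_comap]
      have : ψ x = x + (ψ x - x) := by ring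
      rw [this]
      exact Ideal.add_mem _ hx (hsq (h x))
    · apply Submodule.le_of_le_smul_of_le_jacobson_bot (IsNoetherian.noetherian _)
        (IsLocalRing.maximalIdeal_le_jacobson ⊥)
      intro x hx
      have : x = ψ x + (-(ψ x - x)) := by ring
      rw [this]
      refine Submodule.add_mem_sup (Ideal.mem_map_of_mem _ hx) ?_
      rw [smul_eq_mul, ← pow_two]
      exact Ideal.neg_mem_iff _ |>.2 (h x)
  haveI : IsHausdorff ((maximalIdeal S).map ψ) S := by
    rw [hmap]; infer_instance
  apply surjective_of_mk_map_comp_surjective ψ (I := maximalIdeal S)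
  intro y
  obtain ⟨y', rfl⟩ := Ideal.Quotient.mk_surjective y
  refine ⟨y', ?_⟩
  rw [RingHom.comp_apply, Ideal.Quotient.eq, hmap]
  exact hsq (h y')

/-- The power series ring over a field is complete for the square of its maximal ideal. -/
theorem isAdicComplete_sq_mvPowerSeries (K : Type u) [Field K] (n : ℕ) :
    IsAdicComplete (maximalIdeal (MvPowerSeries (Fin n) K) ^ 2) (MvPowerSeries (Fin n) K) := by
  haveI : IsAdicComplete (maximalIdeal K) K := by
    rw [IsLocalRing.maximalIdeal_eq_bot]
    infer_instance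
  haveI : IsAdicComplete (maximalIdeal (MvPowerSeries (Fin n) K)) (MvPowerSeries (Fin n) K) :=
    Groth.Agent.Helper3.ArtFunLib.isAdicComplete_ps_local
  exact Groth.Agent.Helper8.isAdicComplete_of_pow_le (c := 1) (d := 2)
    (J := maximalIdeal (MvPowerSeries (Fin n) K)) Nat.one_pos (by norm_num)
    (by rw [pow_one]; exact Ideal.pow_le_self two_ne_zero) le_rfl

/-- A complete Noetherian local `k`-algebra, formally smooth over `k` for its adic topology, with
a coefficient field containing `k`, is a power series ring over that field. -/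
theorem exists_algEquiv_of_section {k A : Type u} [Field k] [CommRing A] [IsLocalRing A]
    [IsNoetherianRing A] [IsAdicComplete (maximalIdeal A) A] [Algebra k A]
    (h : IsAdicFormallySmooth k A (maximalIdeal A)) (σ : ResidueField A →ₐ[k] A)
    (hσ : ∀ x, residue A (σ x) = x) :
    ∃ (n : ℕ) (e : MvPowerSeries (Fin n) (ResidueField A) ≃ₐ[k] A), ∀ c, e (C c) = σ c := by
  classical
  have hs : (residue A).comp σ.toRingHom = RingHom.id _ := RingHom.ext hσ
  have key : ∃ (n : ℕ) (f : MvPowerSeries (Fin n) (ResidueField A) →+* A),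
      Function.Surjective f ∧ (∀ c, f (C c) = σ c) ∧
      RingHom.ker f ≤ maximalIdeal (MvPowerSeries (Fin n) (ResidueField A)) ^ 2 := by
    obtain ⟨f, hf, hfC, hker⟩ :=
      Groth.Agent.Helper8.CoeffField.exists_surjective_ker_le_sq A σ.toRingHom hs
    exact ⟨_, f, hf, hfC, hker⟩
  obtain ⟨n, f, hf, hfC, hker⟩ := key
  let fₐ : MvPowerSeries (Fin n) (ResidueField A) →ₐ[k] A :=
    { f with
      commutes' := fun x => by
        show f (algebraMap k (MvPowerSeries (Fin n) (ResidueField A)) x) = _
        rw [MvPowerSeries.algebraMap_apply, hfC]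
        exact σ.commutes x }
  have hfₐ : ∀ x, fₐ x = f x := fun x => rfl
  have hmapm : (maximalIdeal (MvPowerSeries (Fin n) (ResidueField A))).map f = maximalIdeal A :=
    map_maximalIdeal_of_surjective f hf
  -- elements mapping into `m²` lie in `n²`
  have hfm : ∀ x, f x ∈ maximalIdeal A ^ 2 →
      x ∈ maximalIdeal (MvPowerSeries (Fin n) (ResidueField A)) ^ 2 := by
    intro x hx
    rw [← hmapm, ← Ideal.map_pow] at hx
    obtain ⟨y, hy, hyx⟩ := (Ideal.mem_map_iff_of_surjective f hf).1 hx
    have h1 : x - y ∈ RingHom.ker f := by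
      rw [RingHom.mem_ker, map_sub, hyx, sub_self]
    have h2 := hker h1
    have : x = (x - y) + y := by ring
    rw [this]
    exact Ideal.add_mem _ h2 hy
  have hkerₐ : RingHom.ker fₐ ≤ maximalIdeal (MvPowerSeries (Fin n) (ResidueField A)) ^ 2 := by
    intro x hx
    exact hker (RingHom.mem_ker.2 (RingHom.mem_ker.1 hx))
  have hfₐs : Function.Surjective fₐ := hf
  let u : A →ₐ[k] MvPowerSeries (Fin n) (ResidueField A) ⧸
      maximalIdeal (MvPowerSeries (Fin n) (ResidueField A)) ^ 2 :=
    (Ideal.Quotient.factorₐ k hkerₐ).comp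
      (Ideal.quotientKerAlgEquivOfSurjective hfₐs).symm.toAlgHom
  have hu : ∀ x, u (f x) = Ideal.Quotient.mk _ x := by
    intro x
    show Ideal.Quotient.factorₐ k hkerₐ ((Ideal.quotientKerAlgEquivOfSurjective hfₐs).symm (fₐ x)) = _
    rw [Ideal.quotientKerAlgEquivOfSurjective_symm_apply]
    rfl
  have hucont : ∃ t : ℕ, ∀ a ∈ maximalIdeal A ^ t, u a = 0 := by
    refine ⟨2, fun a ha => ?_⟩
    obtain ⟨x, rfl⟩ := hf a
    rw [hu, Ideal.Quotient.eq_zero_iff_mem]
    exact hfm x ha
  haveI := isAdicComplete_sq_mvPowerSeries (ResidueField A) n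
  obtain ⟨v, hv⟩ := exists_lift_complete h
    (maximalIdeal (MvPowerSeries (Fin n) (ResidueField A)) ^ 2) u hucont
  let ψ : MvPowerSeries (Fin n) (ResidueField A) →+* MvPowerSeries (Fin n) (ResidueField A) :=
    (v : A →+* MvPowerSeries (Fin n) (ResidueField A)).comp f
  have hψ : ∀ x, ψ x - x ∈ maximalIdeal (MvPowerSeries (Fin n) (ResidueField A)) ^ 2 := by
    intro x
    rw [← Ideal.Quotient.eq]
    have h1 := AlgHom.congr_fun hv (f x)
    rw [AlgHom.comp_apply, hu] at h1
    exact h1
  haveI : IsAdicComplete (maximalIdeal (ResidueField A)) (ResidueField A) := by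
    rw [IsLocalRing.maximalIdeal_eq_bot]
    infer_instance
  haveI : IsAdicComplete (maximalIdeal (MvPowerSeries (Fin n) (ResidueField A)))
      (MvPowerSeries (Fin n) (ResidueField A)) :=
    Groth.Agent.Helper3.ArtFunLib.isAdicComplete_ps_local
  have hψs := surjective_of_congr_id ψ hψ
  have hψi := Groth.Agent.Helper8.PSeries.injective_of_surjective_ringEnd ψ hψs
  have hfi : Function.Injective f := fun x y hxy => hψi (by
    show v (f x) = v (f y)
    rw [hxy])
  exact ⟨n, AlgEquiv.ofBijective fₐ ⟨hfi, hf⟩, fun c => hfC c⟩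

end Groth.Agent.Helper8.AdicFS
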