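import Mathlib

/-!
# Injective dimension is detected by cyclic modules (Baer's criterion for `Ext`)
-/

set_option autoImplicit false
universe u

namespace Groth.Agent.Helper8.ABS

open CategoryTheory Abelian Limits

variable (A : Type u) [CommRing A]

/-- The short exact sequence `0 → I → A → A/I → 0`. -/
noncomputable abbrev idealShortComplex (I : Ideal A) : ShortComplex (ModuleCat.{u} A) :=
  ModuleCat.shortComplexOfCompEqZero (I.subtype) (Submodule.mkQ I) (by
    apply LinearMap.ext
    intro x
    exact (Submodule.Quotient.mk_eq_zero I).mpr x.2)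

theorem idealShortComplex_shortExact (I : Ideal A) : (idealShortComplex A I).ShortExact :=
  ModuleCat.shortComplex_shortExact _ (LinearMap.exact_subtype_mkQ I)
    (Submodule.injective_subtype I) (Submodule.mkQ_surjective I)

theorem baer_of_ext_one (M : Type u) [AddCommGroup M] [Module A M]
    (h : ∀ I : Ideal A, Subsingleton (Ext (ModuleCat.of A (A ⧸ I)) (ModuleCat.of A M) 1)) :
    Module.Baer A M := by
  intro I g
  have hS := idealShortComplex_shortExact A I
  have : Subsingleton (Ext (idealShortComplex A I).X₃ (ModuleCat.of A M) 1) := h I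
  obtain ⟨x₂, hx₂⟩ := Ext.contravariant_sequence_exact₁ hS (ModuleCat.of A M)
    (Ext.mk₀ (ModuleCat.ofHom g)) (by norm_num : 1 + 0 = 1) (Subsingleton.elim _ _)
  obtain ⟨ψ, rfl⟩ := (Ext.mk₀_bijective _ _).2 x₂
  rw [Ext.mk₀_comp_mk₀, (Ext.mk₀_bijective _ _).1.eq_iff] at hx₂
  refine ⟨ψ.hom, fun x mem => ?_⟩
  have h1 := congrArg (fun f => f.hom ⟨x, mem⟩) hx₂
  simpa using h1

theorem hasInjectiveDimensionLT_of_forall_ideal (n : ℕ) :
    ∀ (M : Type u) [AddCommGroup M] [Module A M],
      (∀ I : Ideal A, Subsingleton (Ext (ModuleCat.of A (A ⧸ I)) (ModuleCat.of A M) (n + 1))) →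
        HasInjectiveDimensionLT (ModuleCat.of A M) (n + 1) := by
  induction n with
  | zero =>
    intro M _ _ h
    have h1 : Module.Injective A M := (baer_of_ext_one A M h).injective
    have h2 : Injective (ModuleCat.of A M) := Module.injective_object_of_injective_module A M
    infer_instance
  | succ n ih =>
    intro M _ _ h
    obtain ⟨p⟩ := EnoughInjectives.presentation (ModuleCat.of A M)
    have hS : (ShortComplex.mk _ _ (cokernel.condition p.f)).ShortExact :=
      { exact := ShortComplex.exact_cokernel p.f }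
    let C : ModuleCat.{u} A := cokernel p.f
    have hC : ∀ I : Ideal A, Subsingleton (Ext (ModuleCat.of A (A ⧸ I))
        (ModuleCat.of A C) (n + 1)) := by
      intro I
      refine subsingleton_of_forall_eq 0 fun x₃ => ?_
      have : Subsingleton (Ext (ModuleCat.of A (A ⧸ I)) (ModuleCat.of A M) (n + 1 + 1)) := h I
      obtain ⟨x₂, rfl⟩ := Ext.covariant_sequence_exact₃ _ hS x₃ rfl (Subsingleton.elim _ _)
      have : x₂ = 0 := Ext.eq_zero_of_injective x₂
      rw [this, Ext.zero_comp]
    have h1 := ih C hC
    exact hS.hasInjectiveDimensionLT_X₁ (n + 1) h1 inferInstance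

end Groth.Agent.Helper8.ABS
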