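import Mathlib

/-!
# Projective dimension over a Noetherian local ring via `Ext` into the residue field
-/

set_option autoImplicit false
universe u

namespace Groth.Agent.Helper8.ABS

open CategoryTheory Abelian IsLocalRing TensorProduct

variable {R : Type u} [CommRing R] [IsLocalRing R]

/-- A minimal free cover of a finite module over a local ring. -/
theorem exists_minimal_cover (M : Type u) [AddCommGroup M] [Module R M] [Module.Finite R M] :
    ∃ (n : ℕ) (π : (Fin n → R) →ₗ[R] M), Function.Surjective π ∧
      LinearMap.ker π ≤ maximalIdeal R • (⊤ : Submodule R (Fin n → R)) := by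
  classical
  set k := ResidueField R
  let n := Module.finrank k (k ⊗[R] M)
  let bk : Module.Basis (Fin n) k (k ⊗[R] M) := Module.finBasis k (k ⊗[R] M)
  have hsurj : Function.Surjective (TensorProduct.mk R k M 1) :=
    TensorProduct.mk_surjective R M k Ideal.Quotient.mk_surjective
  choose v hv using fun i => hsurj (bk i)
  have hspan : Submodule.span R (Set.range v) = ⊤ :=
    IsLocalRing.span_eq_top_of_tmul_eq_basis v bk (fun i => hv i)
  let π : (Fin n → R) →ₗ[R] M := Fintype.linearCombination R v
  refine ⟨n, π, ?_, ?_⟩
  · rw [← LinearMap.range_eq_top, Fintype.range_linearCombination, hspan]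
  · intro c hc
    rw [LinearMap.mem_ker] at hc
    have h1 : ∑ i, c i • v i = 0 := by
      simpa [π, Fintype.linearCombination_apply] using hc
    have h2 : ∑ i, (residue R (c i)) • bk i = 0 := by
      have := congrArg (TensorProduct.mk R k M 1) h1
      rw [map_sum, map_zero] at this
      rw [← this]
      refine Finset.sum_congr rfl fun i _ => ?_
      rw [map_smul, hv i]
      exact (algebraMap_smul k (c i) (bk i))
    have h3 : ∀ i, residue R (c i) = 0 := by
      intro i
      have := Fintype.linearIndependent_iff.mp bk.linearIndependent _ h2 i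
      exact this
    have h4 : ∀ i, c i ∈ maximalIdeal R := fun i => (residue_eq_zero_iff _).mp (h3 i)
    have h5 : c = ∑ i, c i • (Pi.single i (1 : R) : Fin n → R) := by
      ext j
      simp [Finset.sum_apply, Pi.single_apply]
    rw [h5]
    exact Submodule.sum_mem _ fun i _ => Submodule.smul_mem_smul (h4 i) Submodule.mem_top

/-- A linear map to the residue field kills `𝔪 • ⊤`. -/
theorem apply_eq_zero_of_mem_smul_top {F : Type u} [AddCommGroup F] [Module R F]
    (ψ : F →ₗ[R] ResidueField R) {x : F} (hx : x ∈ maximalIdeal R • (⊤ : Submodule R F)) :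
    ψ x = 0 := by
  refine Submodule.smul_induction_on hx (fun r hr m _ => ?_) (fun x y hx hy => ?_)
  · rw [map_smul, ← algebraMap_smul (ResidueField R) r (ψ m)]
    have : algebraMap R (ResidueField R) r = 0 := (residue_eq_zero_iff r).mpr hr
    rw [this, zero_smul]
  · rw [map_add, hx, hy, add_zero]

/-- A nonzero finite module over a local ring has a nonzero map to the residue field. -/
theorem exists_linearMap_residueField_ne_zero (K : Type u) [AddCommGroup K] [Module R K]
    [Module.Finite R K] [Nontrivial K] : ∃ φ : K →ₗ[R] ResidueField R, φ ≠ 0 := by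
  set k := ResidueField R
  have hnt : Nontrivial (k ⊗[R] K) := by
    rw [← not_subsingleton_iff_nontrivial, IsLocalRing.subsingleton_tensorProduct]
    exact not_subsingleton K
  obtain ⟨v, hv⟩ := exists_ne (0 : k ⊗[R] K)
  obtain ⟨f, hf⟩ := Module.Projective.exists_dual_ne_zero k hv
  have hsurj : Function.Surjective (TensorProduct.mk R k K 1) :=
    TensorProduct.mk_surjective R K k Ideal.Quotient.mk_surjective
  refine ⟨(f.restrictScalars R).comp (TensorProduct.mk R k K 1), fun h0 => hf ?_⟩
  obtain ⟨x, rfl⟩ := hsurj v
  have := LinearMap.congr_fun h0 x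
  simpa using this

variable [IsNoetherianRing R]

/-- A finite module over a Noetherian local ring with `Ext¹(M, k) = 0` is free. -/
theorem free_of_ext_one_subsingleton (M : Type u) [AddCommGroup M] [Module R M]
    [Module.Finite R M]
    (h : Subsingleton (Ext (ModuleCat.of R M) (ModuleCat.of R (ResidueField R)) 1)) :
    Module.Free R M := by
  obtain ⟨n, π, hπ, hker⟩ := exists_minimal_cover (R := R) M
  have hS := LinearMap.shortExact_shortComplexKer hπ
  by_cases hK : LinearMap.ker π = ⊥
  · exact Module.Free.of_equiv (LinearEquiv.ofBijective π ⟨LinearMap.ker_eq_bot.mp hK, hπ⟩)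
  · exfalso
    have : Nontrivial (LinearMap.ker π) := Submodule.nontrivial_iff_ne_bot.mpr hK
    obtain ⟨φ, hφ⟩ := exists_linearMap_residueField_ne_zero (R := R) (LinearMap.ker π)
    obtain ⟨x₂, hx₂⟩ := Ext.contravariant_sequence_exact₁ hS
      (ModuleCat.of R (ResidueField R)) (Ext.mk₀ (ModuleCat.ofHom φ)) (by norm_num : 1 + 0 = 1)
      (Subsingleton.elim _ _)
    obtain ⟨ψ, rfl⟩ := (Ext.mk₀_bijective _ _).2 x₂
    rw [Ext.mk₀_comp_mk₀, (Ext.mk₀_bijective _ _).1.eq_iff] at hx₂
    apply hφ
    ext x
    have h1 := congrArg (fun f => f.hom x) hx₂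
    simp only [ModuleCat.hom_comp, ModuleCat.hom_ofHom, LinearMap.coe_comp, Function.comp_apply,
      Submodule.coe_subtype] at h1
    rw [← h1]
    exact apply_eq_zero_of_mem_smul_top ψ.hom (hker x.2)

/-- Over a Noetherian local ring, `Ext^{n+1}(M, k) = 0` forces `pd M ≤ n` for finite `M`. -/
theorem hasProjectiveDimensionLT_of_ext_residueField_subsingleton (n : ℕ) :
    ∀ (M : Type u) [AddCommGroup M] [Module R M] [Module.Finite R M],
      Subsingleton (Ext (ModuleCat.of R M) (ModuleCat.of R (ResidueField R)) (n + 1)) →
        HasProjectiveDimensionLT (ModuleCat.of R M) (n + 1) := by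
  induction n with
  | zero =>
    intro M _ _ _ h
    have := free_of_ext_one_subsingleton M h
    infer_instance
  | succ n ih =>
    intro M _ _ _ h
    obtain ⟨n', π, hπ, -⟩ := exists_minimal_cover (R := R) M
    have hS := LinearMap.shortExact_shortComplexKer hπ
    have hK : Subsingleton (Ext (ModuleCat.of R (LinearMap.ker π))
        (ModuleCat.of R (ResidueField R)) (n + 1)) := by
      refine subsingleton_of_forall_eq 0 fun x₁ => ?_
      obtain ⟨x₂, rfl⟩ := Ext.contravariant_sequence_exact₁ hS _ x₁
        (by omega : 1 + (n + 1) = n + 1 + 1) (Subsingleton.elim _ _)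
      have : x₂ = 0 := Ext.eq_zero_of_projective x₂
      rw [this, Ext.comp_zero]
    have h1 := ih (LinearMap.ker π) hK
    exact hS.hasProjectiveDimensionLT_X₃ (n + 1) h1 inferInstance

end Groth.Agent.Helper8.ABS
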