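import Mathlib

/-!
# Regular local rings: basic structure theory

* `exists_extension`: a family in the maximal ideal whose cotangent classes are linearly
  independent extends to a generating family of the maximal ideal with `finrank (m/m²)` members.
* `quotient_of_linearIndependent`: quotient of a regular local ring by such a family is
  regular of the expected dimension.
* `isDomain`: a regular local ring is a domain.
-/

namespace Groth.Agent.Helper8.RLR

open IsLocalRing
open scoped Pointwise

variable {R : Type*} [CommRing R]

/-- Extend a family whose cotangent classes are linearly independent to a generating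
family of the maximal ideal. -/
theorem exists_extension [IsLocalRing R] [IsNoetherianRing R] {ι : Type*} [Fintype ι]
    (x : ι → maximalIdeal R)
    (hli : LinearIndependent (ResidueField R) (fun i => (maximalIdeal R).toCotangent (x i))) :
    ∃ y : Fin (Module.finrank (ResidueField R) (CotangentSpace R) - Fintype.card ι) →
        maximalIdeal R,
      Ideal.span (Set.range (fun i => (x i : R)) ∪ Set.range (fun j => (y j : R))) =
        maximalIdeal R := by
  classical
  set k := ResidueField R
  set V := CotangentSpace R
  set v : ι → V := fun i => (maximalIdeal R).toCotangent (x i) with hv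
  set W : Submodule k V := Submodule.span k (Set.range v) with hW
  have hWr : Module.finrank k W = Fintype.card ι := finrank_span_eq_card hli
  have hq : Module.finrank k (V ⧸ W) = Module.finrank k V - Fintype.card ι := by
    have := Submodule.finrank_quotient_add_finrank W
    omega
  let b : Module.Basis (Fin (Module.finrank k V - Fintype.card ι)) k (V ⧸ W) :=
    Module.finBasisOfFinrankEq k (V ⧸ W) hq
  choose w hw using fun j => Submodule.mkQ_surjective W (b j)
  choose y hy using fun j => (maximalIdeal R).toCotangent_surjective (w j)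
  refine ⟨y, ?_⟩
  have hspan : Submodule.span k ((maximalIdeal R).toCotangent ''
      (Set.range x ∪ Set.range y)) = ⊤ := by
    rw [Set.image_union, Submodule.span_union, ← Set.range_comp, ← Set.range_comp]
    have h1 : Submodule.span k (Set.range ((maximalIdeal R).toCotangent ∘ x)) = W := rfl
    have h2 : (maximalIdeal R).toCotangent ∘ y = w := funext hy
    rw [h1, h2, eq_top_iff]
    intro z _
    have hz : W.mkQ z ∈ Submodule.span k (Set.range b) := by
      rw [b.span_eq]; trivial
    have hb : Set.range b = W.mkQ '' Set.range w := by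
      rw [← Set.range_comp]; congr 1; exact funext fun j => (hw j).symm
    rw [hb, ← Submodule.map_span] at hz
    obtain ⟨z', hz', hzz⟩ := hz
    have : z - z' ∈ W := by
      rw [← Submodule.Quotient.mk_eq_zero, Submodule.Quotient.mk_sub]
      simpa [sub_eq_zero] using hzz.symm
    have h3 : z = (z - z') + z' := by abel
    rw [h3]
    exact Submodule.add_mem_sup this hz'
  rw [CotangentSpace.span_image_eq_top_iff] at hspan
  have := congrArg (Submodule.map (maximalIdeal R).subtype) hspan
  rw [Submodule.map_span, Submodule.map_top, Submodule.range_subtype, Set.image_union,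
    ← Set.range_comp, ← Set.range_comp] at this
  exact this

/-- A value of `WithBot ℕ∞` between `0` and a natural number is a natural number. -/
theorem exists_nat_eq {D : WithBot ℕ∞} {s : ℕ} (h0 : 0 ≤ D) (hs : D ≤ (s : WithBot ℕ∞)) :
    ∃ e : ℕ, D = (e : WithBot ℕ∞) ∧ e ≤ s := by
  induction D with
  | bot => simp at h0
  | coe a =>
    have ha : a ≤ (s : ℕ∞) := by exact_mod_cast hs
    lift a to ℕ using ne_top_of_le_ne_top (ENat.natCast_ne_top s) ha
    exact ⟨a, rfl, by exact_mod_cast ha⟩

theorem span_range_le_maximalIdeal [IsLocalRing R] {ι : Type*} (x : ι → maximalIdeal R) :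
    Ideal.span (Set.range fun i => (x i : R)) ≤ maximalIdeal R := by
  rw [Ideal.span_le]; rintro _ ⟨i, rfl⟩; exact (x i).2

theorem isLocalRing_quotient [IsLocalRing R] {J : Ideal R} (hJ : J ≤ maximalIdeal R) :
    IsLocalRing (R ⧸ J) := by
  have : Nontrivial (R ⧸ J) :=
    Ideal.Quotient.nontrivial_iff.mpr (fun h => (maximalIdeal.isMaximal R).ne_top (top_le_iff.mp (h ▸ hJ)))
  exact IsLocalRing.of_surjective' (Ideal.Quotient.mk J) Ideal.Quotient.mk_surjective

/-- The maximal ideal of the quotient by a family with independent cotangent classes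
needs at most `finrank (m/m²) - card` generators. -/
theorem quotient_spanFinrank_le [IsLocalRing R] [IsNoetherianRing R] {ι : Type*} [Fintype ι]
    (x : ι → maximalIdeal R)
    (hli : LinearIndependent (ResidueField R) (fun i => (maximalIdeal R).toCotangent (x i)))
    [IsLocalRing (R ⧸ Ideal.span (Set.range fun i => (x i : R)))] :
    (maximalIdeal (R ⧸ Ideal.span (Set.range fun i => (x i : R)))).spanFinrank +
      Fintype.card ι ≤ Module.finrank (ResidueField R) (CotangentSpace R) := by
  classical
  obtain ⟨y, hy⟩ := exists_extension x hli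
  have hle : Fintype.card ι ≤ Module.finrank (ResidueField R) (CotangentSpace R) :=
    hli.fintype_card_le_finrank
  set J := Ideal.span (Set.range fun i => (x i : R)) with hJ
  have hm0 : Ideal.map (Ideal.Quotient.mk J) (Ideal.span (Set.range (fun i => (x i : R)) ∪
      Set.range (fun j => (y j : R)))) = maximalIdeal (R ⧸ J) := by
    rw [hy]
    exact map_maximalIdeal_of_surjective (Ideal.Quotient.mk J) Ideal.Quotient.mk_surjective
  have hm : maximalIdeal (R ⧸ J) =
      Ideal.span ((Ideal.Quotient.mk J) '' Set.range (fun j => (y j : R))) := by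
    rw [← hm0, Ideal.map_span, Set.image_union]
    apply le_antisymm
    · rw [Ideal.span_le]
      rintro _ (⟨_, ⟨i, rfl⟩, rfl⟩ | h)
      · have : (Ideal.Quotient.mk J) (x i : R) = 0 :=
          Ideal.Quotient.eq_zero_iff_mem.mpr (Ideal.subset_span ⟨i, rfl⟩)
        rw [this]; exact Ideal.zero_mem _
      · exact Ideal.subset_span h
    · exact Ideal.span_mono Set.subset_union_right
  have hfin : ((Ideal.Quotient.mk J) '' Set.range (fun j => (y j : R))).Finite :=
    (Set.finite_range _).image _
  have h1 : (maximalIdeal (R ⧸ J)).spanFinrank ≤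
      ((Ideal.Quotient.mk J) '' Set.range (fun j => (y j : R))).ncard := by
    rw [hm]; exact Submodule.spanFinrank_span_le_ncard_of_finite hfin
  have h2 : ((Ideal.Quotient.mk J) '' Set.range (fun j => (y j : R))).ncard ≤
      Module.finrank (ResidueField R) (CotangentSpace R) - Fintype.card ι := by
    refine (Set.ncard_image_le (Set.finite_range _)).trans ?_
    rw [← Set.image_univ]
    refine (Set.ncard_image_le Set.finite_univ).trans ?_
    simp [Set.ncard_univ]
  have h3 := h1.trans h2
  change (maximalIdeal (R ⧸ J)).spanFinrank + Fintype.card ι ≤ _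
  omega

/-- Quotient of a regular local ring by part of a regular system of parameters. -/
theorem quotient_of_linearIndependent [IsRegularLocalRing R] {ι : Type*} [Fintype ι]
    (x : ι → maximalIdeal R)
    (hli : LinearIndependent (ResidueField R) (fun i => (maximalIdeal R).toCotangent (x i))) :
    IsRegularLocalRing (R ⧸ Ideal.span (Set.range fun i => (x i : R))) ∧
      ringKrullDim (R ⧸ Ideal.span (Set.range fun i => (x i : R))) + Fintype.card ι =
        ringKrullDim R := by
  classical
  set J := Ideal.span (Set.range fun i => (x i : R)) with hJ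
  have hJm : J ≤ maximalIdeal R := span_range_le_maximalIdeal x
  have : IsLocalRing (R ⧸ J) := isLocalRing_quotient hJm
  have h1 : (maximalIdeal (R ⧸ J)).spanFinrank + Fintype.card ι ≤
      Module.finrank (ResidueField R) (CotangentSpace R) := quotient_spanFinrank_le x hli
  have hreg : ((maximalIdeal R).spanFinrank : WithBot ℕ∞) = ringKrullDim R :=
    IsRegularLocalRing.spanFinrank_maximalIdeal
  rw [spanFinrank_maximalIdeal_eq_finrank_cotangentSpace] at hreg
  have h2 : ringKrullDim R ≤ ringKrullDim (R ⧸ J) + (Fintype.card ι : ℕ) := by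
    refine (ringKrullDim_le_ringKrullDim_quotient_add_spanFinrank J ?_).trans ?_
    · rw [IsLocalRing.ringJacobson_eq_maximalIdeal]; exact hJm
    · gcongr
      refine (Submodule.spanFinrank_span_le_ncard_of_finite (Set.finite_range _)).trans ?_
      rw [← Set.image_univ]
      refine (Set.ncard_image_le Set.finite_univ).trans ?_
      simp [Set.ncard_univ]
  have h3 := ringKrullDim_le_spanFinrank_maximalIdeal (R ⧸ J)
  obtain ⟨e, he, hes⟩ := exists_nat_eq ringKrullDim_nonneg_of_nontrivial h3
  rw [he] at h2 ⊢
  rw [← hreg] at h2 ⊢
  have h4 : Module.finrank (ResidueField R) (CotangentSpace R) ≤ e + Fintype.card ι := by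
    exact_mod_cast h2
  have h5 : e = (maximalIdeal (R ⧸ J)).spanFinrank := by omega
  refine ⟨?_, ?_⟩
  · apply IsRegularLocalRing.of_spanFinrank_maximalIdeal_le
    rw [he, h5]
  · have : e + Fintype.card ι = Module.finrank (ResidueField R) (CotangentSpace R) := by omega
    exact_mod_cast this

/-- In a Noetherian local ring of positive dimension there is an element of the maximal
ideal outside its square and outside all minimal primes. -/
theorem exists_notMem_sq_notMem_minimalPrimes [IsLocalRing R] [IsNoetherianRing R]
    (hdim : ringKrullDim R ≠ 0) :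
    ∃ x ∈ maximalIdeal R, x ∉ maximalIdeal R ^ 2 ∧ ∀ p ∈ minimalPrimes R, x ∉ p := by
  classical
  by_contra hcon
  push Not at hcon
  have hfin : (minimalPrimes R).Finite := minimalPrimes.finite_of_isNoetherianRing R
  have hsub : ((maximalIdeal R : Ideal R) : Set R) ⊆
      ((id (maximalIdeal R ^ 2) : Ideal R) : Set R) ∪ ((id (maximalIdeal R ^ 2) : Ideal R) : Set R) ∪
        ⋃ p ∈ (hfin.toFinset : Set (Ideal R)), ((id p : Ideal R) : Set R) := by
    intro x hx
    by_cases h2 : x ∈ maximalIdeal R ^ 2
    · left; left; exact h2
    · obtain ⟨p, hp, hxp⟩ := hcon x hx h2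
      right
      simp only [Set.mem_iUnion]
      exact ⟨p, by simpa using hp, hxp⟩
  rw [Ideal.subset_union_prime' (f := id)
    (fun p hp => ((hfin.mem_toFinset.mp hp).1.1 : p.IsPrime))] at hsub
  have hbot : maximalIdeal R ≤ maximalIdeal R ^ 2 → False := by
    intro h
    have hm : maximalIdeal R = ⊥ := by
      apply Submodule.eq_bot_of_le_smul_of_le_jacobson_bot (maximalIdeal R) (maximalIdeal R)
        (IsNoetherian.noetherian _)
      · rw [smul_eq_mul, ← pow_two]; exact h
      · rw [IsLocalRing.jacobson_eq_maximalIdeal _ bot_ne_top]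
    have hf : IsField R := IsLocalRing.isField_iff_maximalIdeal_eq.mpr hm
    exact hdim (ringKrullDim_eq_zero_of_isField hf)
  rcases hsub with h | h | ⟨p, hp, h⟩
  · exact hbot h
  · exact hbot h
  · have hp' : p ∈ minimalPrimes R := hfin.mem_toFinset.mp hp
    have : p.IsPrime := hp'.1.1
    have hpm : p = maximalIdeal R := le_antisymm (IsLocalRing.le_maximalIdeal this.ne_top) h
    apply hdim
    rw [← IsLocalRing.maximalIdeal_height_eq_ringKrullDim, ← hpm]
    have := Ideal.height_eq_zero_iff.mpr hp'
    rw [this]; rfl

/-- Quotient of a regular local ring by one element of `m` outside `m²`. -/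
theorem quotient_singleton [IsRegularLocalRing R] {x : R} (hxm : x ∈ maximalIdeal R)
    (hx2 : x ∉ maximalIdeal R ^ 2) :
    IsRegularLocalRing (R ⧸ Ideal.span ({x} : Set R)) ∧
      ringKrullDim (R ⧸ Ideal.span ({x} : Set R)) + 1 = ringKrullDim R := by
  let xf : Unit → maximalIdeal R := fun _ => ⟨x, hxm⟩
  have hli : LinearIndependent (ResidueField R)
      (fun i => (maximalIdeal R).toCotangent (xf i)) := by
    apply LinearIndependent.of_subsingleton ()
    intro h
    exact hx2 ((Ideal.toCotangent_eq_zero _ _).mp h)
  obtain ⟨hreg, hd⟩ := quotient_of_linearIndependent xf hli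
  have hrange : Set.range (fun i => (xf i : R)) = {x} := by
    ext z; simp [xf, eq_comm]
  rw [hrange] at hreg hd
  exact ⟨hreg, by simpa using hd⟩

universe u

theorem isDomain_aux (n : ℕ) : ∀ (R : Type u) [CommRing R] [IsRegularLocalRing R],
    (maximalIdeal R).spanFinrank = n → IsDomain R := by
  induction n with
  | zero =>
    intro R _ _ h
    have hm : maximalIdeal R = ⊥ :=
      (Submodule.spanFinrank_eq_zero_iff_eq_bot (IsNoetherian.noetherian _)).mp h
    have hf : IsField R := IsLocalRing.isField_iff_maximalIdeal_eq.mpr hm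
    exact hf.isDomain
  | succ n ih =>
    intro R _ _ h
    have hdim : ringKrullDim R = ((n + 1 : ℕ) : WithBot ℕ∞) := by
      rw [← IsRegularLocalRing.spanFinrank_maximalIdeal, h]
    obtain ⟨x, hxm, hx2, hxmin⟩ := exists_notMem_sq_notMem_minimalPrimes (R := R)
      (by rw [hdim]; norm_cast)
    obtain ⟨hreg, hd⟩ := quotient_singleton hxm hx2
    have hdim' : (maximalIdeal (R ⧸ Ideal.span ({x} : Set R))).spanFinrank = n := by
      have h1 : ((maximalIdeal (R ⧸ Ideal.span ({x} : Set R))).spanFinrank : WithBot ℕ∞) =
          ringKrullDim (R ⧸ Ideal.span ({x} : Set R)) :=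
        IsRegularLocalRing.spanFinrank_maximalIdeal
      rw [hdim, ← h1] at hd
      have : (maximalIdeal (R ⧸ Ideal.span ({x} : Set R))).spanFinrank + 1 = n + 1 := by
        exact_mod_cast hd
      omega
    have hdom : IsDomain (R ⧸ Ideal.span ({x} : Set R)) := ih _ hdim'
    have hprime : (Ideal.span ({x} : Set R)).IsPrime :=
      (Ideal.Quotient.isDomain_iff_prime _).mp hdom
    obtain ⟨p, hpmin, hple⟩ := Ideal.exists_minimalPrimes_le
      (I := ⊥) (J := Ideal.span ({x} : Set R)) bot_le
    have hp : p.IsPrime := hpmin.1.1
    have hpx : p ≤ Ideal.span ({x} : Set R) • p := by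
      intro y hy
      obtain ⟨a, rfl⟩ := Ideal.mem_span_singleton'.mp (hple hy)
      have ha : a ∈ p := (hp.mem_or_mem hy).resolve_right (hxmin p hpmin)
      rw [smul_eq_mul, mul_comm a x]
      exact Ideal.mul_mem_mul (Ideal.mem_span_singleton_self x) ha
    have hpbot : p = ⊥ := by
      apply Submodule.eq_bot_of_le_smul_of_le_jacobson_bot (Ideal.span ({x} : Set R)) p
        (IsNoetherian.noetherian _) hpx
      rw [IsLocalRing.jacobson_eq_maximalIdeal _ bot_ne_top]
      exact (Ideal.span_singleton_le_iff_mem _).mpr hxm
    rw [hpbot] at hp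
    exact IsDomain.of_bot_isPrime R

/-- A regular local ring is an integral domain. -/
theorem isDomain (R : Type u) [CommRing R] [IsRegularLocalRing R] : IsDomain R :=
  isDomain_aux _ R rfl

/-- If `R/(x)` is regular for a nonzerodivisor `x ∈ m`, then `R` is regular. -/
theorem of_quotient_singleton [IsLocalRing R] [IsNoetherianRing R] (x : R)
    (hx : x ∈ maximalIdeal R) (hreg : x ∈ nonZeroDivisors R)
    [IsRegularLocalRing (R ⧸ Ideal.span ({x} : Set R))] : IsRegularLocalRing R := by
  classical
  apply IsRegularLocalRing.of_spanFinrank_maximalIdeal_le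
  have hd := ringKrullDim_quotient_span_singleton_succ_eq_ringKrullDim_of_mem_nonZeroDivisors
    hreg hx
  set J := Ideal.span ({x} : Set R) with hJ
  set m' := maximalIdeal (R ⧸ J) with hm'
  have hfg : m'.FG := IsNoetherian.noetherian _
  have hgen := Submodule.span_generators m'
  have hfin : m'.generators.Finite := Submodule.FG.finite_generators hfg
  have hcard : m'.generators.ncard = m'.spanFinrank := Submodule.FG.generators_ncard hfg
  have hq : (m'.spanFinrank : WithBot ℕ∞) = ringKrullDim (R ⧸ J) :=
    IsRegularLocalRing.spanFinrank_maximalIdeal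
  set t : Set R := (Function.surjInv (Ideal.Quotient.mk_surjective (I := J))) '' m'.generators
    with ht
  have htfin : t.Finite := hfin.image _
  have htcard : t.ncard ≤ m'.spanFinrank := hcard ▸ Set.ncard_image_le hfin
  have htimg : (Ideal.Quotient.mk J) '' t = m'.generators := by
    rw [ht, Set.image_image]
    simp [Function.surjInv_eq]
  have hm : maximalIdeal R = Ideal.span (t ∪ {x}) := by
    have h1 : Ideal.map (Ideal.Quotient.mk J) (Ideal.span (t ∪ {x})) = m' := by
      rw [Ideal.map_span, Set.image_union, htimg, Set.image_singleton, Ideal.span_union]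
      have : (Ideal.Quotient.mk J) x = 0 :=
        Ideal.Quotient.eq_zero_iff_mem.mpr (Ideal.mem_span_singleton_self x)
      rw [this, Ideal.span_singleton_eq_bot.mpr rfl, sup_bot_eq]
      exact hgen
    have h2 : Ideal.comap (Ideal.Quotient.mk J) m' = maximalIdeal R := by
      have := IsLocalHom.of_surjective (Ideal.Quotient.mk J) Ideal.Quotient.mk_surjective
      exact IsLocalRing.maximalIdeal_comap (Ideal.Quotient.mk J)
    rw [← h2, ← h1, Ideal.comap_map_of_surjective _ Ideal.Quotient.mk_surjective,
      ← RingHom.ker_eq_comap_bot, Ideal.mk_ker]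
    rw [hJ]
    exact sup_eq_left.mpr (Ideal.span_mono Set.subset_union_right)
  have h3 : (maximalIdeal R).spanFinrank ≤ m'.spanFinrank + 1 := by
    rw [hm]
    refine (Submodule.spanFinrank_span_le_ncard_of_finite
      (htfin.union (Set.finite_singleton x))).trans ?_
    refine (Set.ncard_union_le _ _).trans ?_
    rw [Set.ncard_singleton]
    omega
  rw [← hd, ← hq]
  exact_mod_cast h3

/-- Generators of the maximal ideal, in number equal to the dimension of the cotangent
space, have linearly independent cotangent classes. -/
theorem linearIndependent_of_span_eq [IsLocalRing R] [IsNoetherianRing R] {ι : Type*}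
    [Fintype ι] (x : ι → maximalIdeal R)
    (hx : Ideal.span (Set.range fun i => (x i : R)) = maximalIdeal R)
    (hcard : Fintype.card ι = Module.finrank (ResidueField R) (CotangentSpace R)) :
    LinearIndependent (ResidueField R) (fun i => (maximalIdeal R).toCotangent (x i)) := by
  apply linearIndependent_of_top_le_span_of_card_eq_finrank _ hcard
  have h1 : Submodule.span R (Set.range x) = ⊤ := by
    apply Submodule.map_injective_of_injective (maximalIdeal R).injective_subtype
    rw [Submodule.map_span, Submodule.map_top, Submodule.range_subtype, ← Set.range_comp]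
    exact hx
  rw [← CotangentSpace.span_image_eq_top_iff, ← Set.range_comp] at h1
  exact h1.ge

theorem isRegular_aux (d : ℕ) : ∀ (R : Type u) [CommRing R] [IsRegularLocalRing R],
    ringKrullDim R = (d : WithBot ℕ∞) → ∀ (x : Fin d → R),
    Ideal.span (Set.range x) = maximalIdeal R →
    RingTheory.Sequence.IsRegular R (List.ofFn x) := by
  induction d with
  | zero =>
    intro R _ _ _ x _
    simp only [List.ofFn_zero]
    exact RingTheory.Sequence.IsRegular.nil R R
  | succ d ih =>
    intro R _ _ hd x hx
    have hxm : ∀ i, x i ∈ maximalIdeal R := fun i => hx ▸ Ideal.subset_span ⟨i, rfl⟩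
    have hfr : Module.finrank (ResidueField R) (CotangentSpace R) = d + 1 := by
      have h1 : ((maximalIdeal R).spanFinrank : WithBot ℕ∞) = ringKrullDim R :=
        IsRegularLocalRing.spanFinrank_maximalIdeal
      rw [spanFinrank_maximalIdeal_eq_finrank_cotangentSpace, hd] at h1
      exact_mod_cast h1
    have hli := linearIndependent_of_span_eq (fun i => (⟨x i, hxm i⟩ : maximalIdeal R)) hx
      (by simp [hfr])
    have hx2 : x 0 ∉ maximalIdeal R ^ 2 := by
      intro h
      exact hli.ne_zero 0 ((Ideal.toCotangent_eq_zero _ _).mpr h)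
    obtain ⟨hreg, hdq⟩ := quotient_singleton (hxm 0) hx2
    have hd' : ringKrullDim (R ⧸ Ideal.span ({x 0} : Set R)) = (d : WithBot ℕ∞) := by
      rw [hd] at hdq
      obtain ⟨e, he, -⟩ := exists_nat_eq
        (ringKrullDim_nonneg_of_nontrivial (R := R ⧸ Ideal.span ({x 0} : Set R)))
        (ringKrullDim_le_spanFinrank_maximalIdeal (R ⧸ Ideal.span ({x 0} : Set R)))
      rw [he] at hdq ⊢
      have : e + 1 = d + 1 := by exact_mod_cast hdq
      have : e = d := by omega
      rw [this]
    set J := Ideal.span ({x 0} : Set R) with hJ
    set x' : Fin d → R ⧸ J := fun i => Ideal.Quotient.mk J (x i.succ) with hx'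
    have hspan' : Ideal.span (Set.range x') = maximalIdeal (R ⧸ J) := by
      rw [← map_maximalIdeal_of_surjective (Ideal.Quotient.mk J) Ideal.Quotient.mk_surjective,
        ← hx, Ideal.map_span]
      apply le_antisymm
      · apply Ideal.span_mono
        rintro _ ⟨i, rfl⟩
        exact ⟨x i.succ, ⟨i.succ, rfl⟩, rfl⟩
      · rw [Ideal.span_le]
        rintro _ ⟨_, ⟨i, rfl⟩, rfl⟩
        refine Fin.cases ?_ (fun j => ?_) i
        · have : (Ideal.Quotient.mk J) (x 0) = 0 :=
            Ideal.Quotient.eq_zero_iff_mem.mpr (Ideal.mem_span_singleton_self _)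
          rw [this]; exact Ideal.zero_mem _
        · exact Ideal.subset_span ⟨j, rfl⟩
    have hIH := ih (R ⧸ J) hd' x' hspan'
    have hdom : IsDomain R := isDomain R
    have hx0 : x 0 ≠ 0 := fun h => hx2 (h ▸ Ideal.zero_mem _)
    rw [List.ofFn_succ, RingTheory.Sequence.isRegular_cons_iff]
    refine ⟨(isRegular_of_ne_zero hx0).isSMulRegular, ?_⟩
    have hmem : ∀ r ∈ List.ofFn (fun i : Fin d => x i.succ), r ∈ maximalIdeal R := by
      intro r hr
      obtain ⟨i, rfl⟩ := (List.mem_ofFn' _ _).mp hr
      exact hxm _
    have : Nontrivial (QuotSMulTop (x 0) R) :=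
      nontrivial_quotSMulTop_of_mem_maximalIdeal R (hxm 0)
    apply RingTheory.Sequence.IsRegular.of_isWeaklyRegular_of_mem_maximalIdeal _ hmem
    have hw := hIH.toIsWeaklyRegular
    have hmap : List.ofFn x' = (List.ofFn (fun i : Fin d => x i.succ)).map
        (algebraMap R (R ⧸ J)) := by
      rw [List.map_ofFn]; rfl
    rw [hmap, RingTheory.Sequence.isWeaklyRegular_map_algebraMap_iff] at hw
    have hJeq : J = (x 0 • ⊤ : Submodule R R) := by
      rw [hJ, ← Submodule.ideal_span_singleton_smul, smul_eq_mul, Ideal.mul_top]
    exact ((Submodule.quotEquivOfEq _ _ hJeq).isWeaklyRegular_congr _).mp hw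

/-- In a regular local ring of dimension `d`, any `d` generators of the maximal ideal
form a regular sequence. -/
theorem isRegular_of_span_eq (R : Type u) [CommRing R] [IsRegularLocalRing R] (d : ℕ)
    (hd : ringKrullDim R = d) (x : Fin d → R)
    (hx : Ideal.span (Set.range x) = maximalIdeal R) :
    RingTheory.Sequence.IsRegular R (List.ofFn x) :=
  isRegular_aux d R hd x hx

end Groth.Agent.Helper8.RLR
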