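import Mathlib
import Groth.Agent.Lib.Helper8.ABS1
import Groth.Agent.Lib.Helper8.RegularLocal

/-!
# Change of rings for projective dimension: from `R/x` up to `R`
-/

set_option autoImplicit false
universe u

namespace Groth.Agent.Helper8.ABS

open CategoryTheory Abelian IsLocalRing Pointwise

section maps

variable {R : Type u} [CommRing R] (x : R)
  {M M' : Type u} [AddCommGroup M] [Module R M] [AddCommGroup M'] [Module R M']

/-- The map induced on quotients by `x`, linear over `R/(x)`. -/
noncomputable def qmap (f : M →ₗ[R] M') :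
    QuotSMulTop x M →ₗ[R ⧸ Ideal.span {x}] QuotSMulTop x M' :=
  (QuotSMulTop.map x f).extendScalarsOfSurjective Ideal.Quotient.mk_surjective

@[simp] theorem qmap_mk (f : M →ₗ[R] M') (m : M) :
    qmap x f (Submodule.Quotient.mk m) = Submodule.Quotient.mk (f m) := rfl

theorem qmap_surjective {f : M →ₗ[R] M'} (hf : Function.Surjective f) :
    Function.Surjective (qmap x f) :=
  QuotSMulTop.map_surjective x hf

theorem qmap_subtype_injective (K : Submodule R M)
    (hreg : IsSMulRegular (M ⧸ K) x) : Function.Injective (qmap x K.subtype) := by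
  rw [injective_iff_map_eq_zero]
  intro q hq
  obtain ⟨k, rfl⟩ := Submodule.Quotient.mk_surjective _ q
  rw [qmap_mk, Submodule.Quotient.mk_eq_zero, Submodule.mem_smul_pointwise_iff_exists] at hq
  obtain ⟨m, -, hm⟩ := hq
  have h1 : x • (Submodule.Quotient.mk m : M ⧸ K) = 0 := by
    rw [← Submodule.Quotient.mk_smul, hm, Submodule.Quotient.mk_eq_zero]
    exact k.2
  have h2 : (Submodule.Quotient.mk m : M ⧸ K) = 0 :=
    (isSMulRegular_iff_right_eq_zero_of_smul.mp hreg) _ h1
  rw [Submodule.Quotient.mk_eq_zero] at h2
  rw [Submodule.Quotient.mk_eq_zero, Submodule.mem_smul_pointwise_iff_exists]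
  exact ⟨⟨m, h2⟩, Submodule.mem_top, Subtype.ext hm⟩

theorem qmap_exact {M'' : Type u} [AddCommGroup M''] [Module R M'']
    {f : M →ₗ[R] M'} {g : M' →ₗ[R] M''} (h : Function.Exact f g)
    (hg : Function.Surjective g) : Function.Exact (qmap x f) (qmap x g) :=
  QuotSMulTop.map_exact x h hg

end maps

section CR

variable {R : Type u} [CommRing R] [IsLocalRing R] [IsNoetherianRing R] (x : R)

omit [IsLocalRing R] [IsNoetherianRing R] in
theorem isSMulRegular_pi (hxR : IsSMulRegular R x) (n : ℕ) : IsSMulRegular (Fin n → R) x := by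
  intro a b hab
  funext i
  exact hxR (congrFun hab i)

omit [IsLocalRing R] [IsNoetherianRing R] in
theorem isSMulRegular_submodule {F : Type u} [AddCommGroup F] [Module R F]
    (h : IsSMulRegular F x) (K : Submodule R F) : IsSMulRegular K x := by
  intro a b hab
  exact Subtype.ext (h (congrArg Subtype.val hab))

/-- If `x ∈ 𝔪` is regular on `R` and on the finite module `M`, a bound for the projective
dimension of `M/xM` over `R/(x)` is a bound for the projective dimension of `M` over `R`. -/
theorem hasProjectiveDimensionLT_of_quotSMulTop (hx : x ∈ maximalIdeal R)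
    (hxR : IsSMulRegular R x) [IsLocalRing (R ⧸ Ideal.span {x})] (n : ℕ) :
    ∀ (M : Type u) [AddCommGroup M] [Module R M] [Module.Finite R M], IsSMulRegular M x →
      HasProjectiveDimensionLT (ModuleCat.of (R ⧸ Ideal.span {x}) (QuotSMulTop x M)) (n + 1) →
      HasProjectiveDimensionLT (ModuleCat.of R M) (n + 1) := by
  induction n with
  | zero =>
    intro M _ _ _ hreg h
    have h1 : Projective (ModuleCat.of (R ⧸ Ideal.span {x}) (QuotSMulTop x M)) :=
      projective_iff_hasProjectiveDimensionLT_one.mpr h
    have h2 : Module.Projective (R ⧸ Ideal.span {x}) (QuotSMulTop x M) :=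
      (IsProjective.iff_projective _).mpr h1
    have h3 : Module.Finite (R ⧸ Ideal.span {x}) (QuotSMulTop x M) :=
      Module.Finite.of_restrictScalars_finite R _ _
    have h4 : Module.Free (R ⧸ Ideal.span {x}) (QuotSMulTop x M) :=
      Module.free_of_flat_of_isLocalRing
    have : Module.FinitePresentation R M := Module.finitePresentation_of_finite R M
    have mem : x ∈ (⊥ : Ideal R).jacobson := by
      rw [IsLocalRing.jacobson_eq_maximalIdeal ⊥ bot_ne_top]; exact hx
    have h5 : Module.Free R M := (Module.free_quotSMulTop_iff_free R M mem hreg).mp h4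
    infer_instance
  | succ n ih =>
    intro M _ _ _ hreg h
    obtain ⟨n', π, hπ, -⟩ := exists_minimal_cover (R := R) M
    set K := LinearMap.ker π with hK
    have hregF : IsSMulRegular (Fin n' → R) x := isSMulRegular_pi x hxR n'
    have hregK : IsSMulRegular K x := isSMulRegular_submodule x hregF K
    have hregFK : IsSMulRegular ((Fin n' → R) ⧸ K) x :=
      ((π.quotKerEquivOfSurjective hπ).isSMulRegular_congr x).mpr hreg
    have hcomp : (qmap x π).comp (qmap x K.subtype) = 0 := by
      apply LinearMap.ext
      intro q
      obtain ⟨k, rfl⟩ := Submodule.Quotient.mk_surjective _ q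
      rw [LinearMap.comp_apply, qmap_mk, qmap_mk]
      have : π (K.subtype k) = 0 := k.2
      rw [this]
      rfl
    let Sbar : ShortComplex (ModuleCat.{u} (R ⧸ Ideal.span {x})) :=
      ModuleCat.shortComplexOfCompEqZero (qmap x K.subtype) (qmap x π) hcomp
    have hSbar : Sbar.ShortExact := ModuleCat.shortComplex_shortExact Sbar
      (qmap_exact x (LinearMap.exact_subtype_ker_map π) hπ)
      (qmap_subtype_injective x K hregFK) (qmap_surjective x hπ)
    have h2 : HasProjectiveDimensionLT Sbar.X₂ (n + 1) := by
      have : Projective Sbar.X₂ := by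
        change Projective (ModuleCat.of (R ⧸ Ideal.span {x}) (QuotSMulTop x (Fin n' → R)))
        infer_instance
      infer_instance
    have h1 := hSbar.hasProjectiveDimensionLT_X₁ (n + 1) h2 h
    have h3 := ih K hregK h1
    have hS := LinearMap.shortExact_shortComplexKer hπ
    exact hS.hasProjectiveDimensionLT_X₃ (n + 1) h3 inferInstance

end CR

end Groth.Agent.Helper8.ABS
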