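import Mathlib
import Groth.Agent.Lib.Helper8.ABS2

/-!
# Finite modules over a regular local ring have projective dimension at most the dimension
-/

set_option autoImplicit false
universe u

namespace Groth.Agent.Helper8.ABS

open CategoryTheory Abelian IsLocalRing Pointwise

theorem withBot_add_one_cancel (y : WithBot ℕ∞) (d : ℕ)
    (h : y + 1 = ((d + 1 : ℕ) : WithBot ℕ∞)) : y = d := by
  induction y with
  | bot =>
    exfalso
    rw [WithBot.bot_add] at h
    exact WithBot.bot_ne_coe h
  | coe a =>
    induction a with
    | top =>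
      exfalso
      have h' : ((⊤ : ℕ∞) : WithBot ℕ∞) + ((1 : ℕ∞) : WithBot ℕ∞) =
          (((d + 1 : ℕ) : ℕ∞) : WithBot ℕ∞) := h
      rw [← WithBot.coe_add, WithBot.coe_inj, top_add] at h'
      exact ENat.top_ne_natCast _ h'
    | coe n =>
      have h' : (((n : ℕ∞)) : WithBot ℕ∞) + ((1 : ℕ∞) : WithBot ℕ∞) =
          (((d + 1 : ℕ) : ℕ∞) : WithBot ℕ∞) := h
      rw [← WithBot.coe_add, WithBot.coe_inj] at h'
      have : n + 1 = d + 1 := by exact_mod_cast h'
      have : n = d := by omega
      rw [this]; rfl

/-- Over a local ring whose maximal ideal is zero, every finite module is free. -/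
theorem free_of_maximalIdeal_eq_bot {R : Type u} [CommRing R] [IsLocalRing R]
    (hm : maximalIdeal R = ⊥) (M : Type u) [AddCommGroup M] [Module R M] [Module.Finite R M] :
    Module.Free R M := by
  obtain ⟨n, π, hπ, hker⟩ := exists_minimal_cover (R := R) M
  rw [hm, Submodule.bot_smul, le_bot_iff] at hker
  exact Module.Free.of_equiv (LinearEquiv.ofBijective π ⟨LinearMap.ker_eq_bot.mp hker, hπ⟩)

theorem hasProjectiveDimensionLT_of_regular_finite (d : ℕ) :
    ∀ (R : Type u) [CommRing R] [IsRegularLocalRing R], ringKrullDim R = d →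
      ∀ (M : Type u) [AddCommGroup M] [Module R M] [Module.Finite R M],
        HasProjectiveDimensionLT (ModuleCat.of R M) (d + 1) := by
  induction d with
  | zero =>
    intro R _ _ hd M _ _ _
    have := RLR.isDomain R
    have hm : maximalIdeal R = ⊥ := by
      rw [← Ideal.height_eq_zero_iff_eq_bot]
      have h1 := IsLocalRing.maximalIdeal_height_eq_ringKrullDim (R := R)
      rw [hd] at h1
      exact_mod_cast h1
    have := free_of_maximalIdeal_eq_bot hm M
    infer_instance
  | succ d ih =>
    intro R _ _ hd M _ _ _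
    have hdom := RLR.isDomain R
    have hne : ringKrullDim R ≠ 0 := by
      rw [hd]
      intro h
      have : (d + 1 : ℕ) = 0 := by exact_mod_cast h
      omega
    obtain ⟨x, hxm, hx2, -⟩ := RLR.exists_notMem_sq_notMem_minimalPrimes hne
    have hx0 : x ≠ 0 := fun h => hx2 (h ▸ Ideal.zero_mem _)
    have hxR : IsSMulRegular R x := by
      intro a b hab
      exact mul_left_cancel₀ hx0 hab
    obtain ⟨hreg, hdim⟩ := RLR.quotient_singleton hxm hx2
    have hdim' : ringKrullDim (R ⧸ Ideal.span ({x} : Set R)) = d := by
      rw [hd] at hdim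
      exact withBot_add_one_cancel _ d hdim
    obtain ⟨n', π, hπ, -⟩ := exists_minimal_cover (R := R) M
    set K := LinearMap.ker π with hK
    have hregK : IsSMulRegular K x := isSMulRegular_submodule x (isSMulRegular_pi x hxR n') K
    have : Module.Finite (R ⧸ Ideal.span ({x} : Set R)) (QuotSMulTop x K) :=
      Module.Finite.of_restrictScalars_finite R _ _
    have h1 := ih (R ⧸ Ideal.span ({x} : Set R)) hdim' (QuotSMulTop x K)
    have h2 := hasProjectiveDimensionLT_of_quotSMulTop x hxm hxR d K hregK h1
    have hS := LinearMap.shortExact_shortComplexKer hπ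
    exact hS.hasProjectiveDimensionLT_X₃ (d + 1) h2 inferInstance

end Groth.Agent.Helper8.ABS
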