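import Mathlib
import Groth.Agent.Lib.Helper8.ABS3

/-!
# Change of rings for projective dimension: from `R` down to `R/x`
-/

set_option autoImplicit false
universe u

namespace Groth.Agent.Helper8.ABS

open CategoryTheory Abelian IsLocalRing Pointwise

section CR

variable {R : Type u} [CommRing R] [IsLocalRing R] [IsNoetherianRing R] (x : R)

/-- If `x ∈ 𝔪` is regular on `R` and on the finite module `M`, a bound for the projective
dimension of `M` over `R` is a bound for the projective dimension of `M/xM` over `R/(x)`. -/
theorem hasProjectiveDimensionLT_quotSMulTop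
    (hxR : IsSMulRegular R x) (n : ℕ) :
    ∀ (M : Type u) [AddCommGroup M] [Module R M] [Module.Finite R M], IsSMulRegular M x →
      HasProjectiveDimensionLT (ModuleCat.of R M) (n + 1) →
      HasProjectiveDimensionLT (ModuleCat.of (R ⧸ Ideal.span {x}) (QuotSMulTop x M)) (n + 1) := by
  induction n with
  | zero =>
    intro M _ _ _ hreg h
    have h1 : Projective (ModuleCat.of R M) :=
      projective_iff_hasProjectiveDimensionLT_one.mpr h
    have h2 : Module.Projective R M := (IsProjective.iff_projective _).mpr h1
    have h4 : Module.Free R M := Module.free_of_flat_of_isLocalRing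
    have h5 : Module.Free (R ⧸ Ideal.span {x}) (QuotSMulTop x M) := inferInstance
    infer_instance
  | succ n ih =>
    intro M _ _ _ hreg h
    obtain ⟨n', π, hπ, -⟩ := exists_minimal_cover (R := R) M
    set K := LinearMap.ker π with hK
    have hregF : IsSMulRegular (Fin n' → R) x := isSMulRegular_pi x hxR n'
    have hregK : IsSMulRegular K x := isSMulRegular_submodule x hregF K
    have hregFK : IsSMulRegular ((Fin n' → R) ⧸ K) x :=
      ((π.quotKerEquivOfSurjective hπ).isSMulRegular_congr x).mpr hreg
    have hcomp : (qmap x π).comp (qmap x K.subtype) = 0 := by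
      apply LinearMap.ext
      intro q
      obtain ⟨k, rfl⟩ := Submodule.Quotient.mk_surjective _ q
      rw [LinearMap.comp_apply, qmap_mk, qmap_mk]
      have : π (K.subtype k) = 0 := k.2
      rw [this]
      rfl
    let Sbar : ShortComplex (ModuleCat.{u} (R ⧸ Ideal.span {x})) :=
      ModuleCat.shortComplexOfCompEqZero (qmap x K.subtype) (qmap x π) hcomp
    have hSbar : Sbar.ShortExact := ModuleCat.shortComplex_shortExact Sbar
      (qmap_exact x (LinearMap.exact_subtype_ker_map π) hπ)
      (qmap_subtype_injective x K hregFK) (qmap_surjective x hπ)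
    have hS := LinearMap.shortExact_shortComplexKer hπ
    have h1 : HasProjectiveDimensionLT (ModuleCat.of R K) (n + 1) :=
      hS.hasProjectiveDimensionLT_X₁ (n + 1) inferInstance h
    have h2 := ih K hregK h1
    have h3 : HasProjectiveDimensionLT Sbar.X₂ (n + 1 + 1) := by
      have : Projective Sbar.X₂ := by
        change Projective (ModuleCat.of (R ⧸ Ideal.span {x}) (QuotSMulTop x (Fin n' → R)))
        infer_instance
      infer_instance
    exact hSbar.hasProjectiveDimensionLT_X₃ (n + 1) h2 h3

/-- The quotient by `(a) • ⊤` agrees with the quotient by `a • ⊤`, linearly over `A/(a)`. -/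
noncomputable def quotSpanEquiv (A : Type u) [CommRing A] (E : Type u) [AddCommGroup E]
    [Module A E] (a : A) :
    (E ⧸ (Ideal.span {a} • (⊤ : Submodule A E))) ≃ₗ[A ⧸ Ideal.span {a}] QuotSMulTop a E :=
  (Submodule.quotEquivOfEq _ _
    (Submodule.ideal_span_singleton_smul a ⊤)).extendScalarsOfSurjective
      Ideal.Quotient.mk_surjective

theorem projectiveDimension_quotient_le (A : Type u) [CommRing A] [IsLocalRing A]
    [IsNoetherianRing A] (E : Type u) [AddCommGroup E] [Module A E] [Module.Finite A E]
    (hfin : projectiveDimension (ModuleCat.of A E) ≠ ⊤) (a : A)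
    (hA : IsSMulRegular A a) (hE : IsSMulRegular E a) :
    projectiveDimension (ModuleCat.of (A ⧸ Ideal.span {a})
      (E ⧸ (Ideal.span {a} • (⊤ : Submodule A E)))) ≤
      projectiveDimension (ModuleCat.of A E) := by
  set e := (quotSpanEquiv A E a).toModuleIso with he
  generalize hd : projectiveDimension (ModuleCat.of A E) = d at hfin ⊢
  induction d with
  | bot =>
    rw [projectiveDimension_eq_bot_iff] at hd
    have hsub : Subsingleton E := ModuleCat.isZero_iff_subsingleton.mp hd
    have : Subsingleton (E ⧸ (Ideal.span {a} • (⊤ : Submodule A E))) :=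
      Function.Surjective.subsingleton (Submodule.Quotient.mk_surjective _)
    have hz : Limits.IsZero (ModuleCat.of (A ⧸ Ideal.span {a})
        (E ⧸ (Ideal.span {a} • (⊤ : Submodule A E)))) :=
      ModuleCat.isZero_of_subsingleton _
    rw [(projectiveDimension_eq_bot_iff _).mpr hz]
  | coe d =>
    induction d with
    | top => exact absurd rfl hfin
    | coe n =>
      have h1 : HasProjectiveDimensionLT (ModuleCat.of A E) (n + 1) :=
        (projectiveDimension_le_iff _ n).mp (le_of_eq hd)
      have h2 := hasProjectiveDimensionLT_quotSMulTop a hA n E hE h1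
      have h3 : HasProjectiveDimensionLT (ModuleCat.of (A ⧸ Ideal.span {a})
          (E ⧸ (Ideal.span {a} • (⊤ : Submodule A E)))) (n + 1) :=
        hasProjectiveDimensionLT_of_iso e.symm (n + 1)
      exact (projectiveDimension_le_iff _ n).mpr h3

end CR

end Groth.Agent.Helper8.ABS
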