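import Mathlib
import Groth.Agent.Lib.Helper8.Depth6

/-!
# Depth is bounded by `dim A/p` for associated primes `p`, hence by the dimension of the support
-/

set_option autoImplicit false
universe u v

namespace Groth.Agent.Helper8.Depth

open RingTheory.Sequence LocCoh Pointwise IsLocalRing

/-- If `p < q` are primes with `x ∈ q \ p`, then `dim A/q + 1 ≤ dim A/p`. -/
theorem ringKrullDim_quotient_succ_le_of_le_of_notMem {A : Type u} [CommRing A] {p q : Ideal A}
    [p.IsPrime] (hpq : p ≤ q) {x : A} (hxq : x ∈ q) (hxp : x ∉ p) :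
    ringKrullDim (A ⧸ q) + 1 ≤ ringKrullDim (A ⧸ p) := by
  have hx0 : Ideal.Quotient.mk p x ≠ 0 := by
    rwa [Ne, Ideal.Quotient.eq_zero_iff_mem]
  have hnzd : Ideal.Quotient.mk p x ∈ nonZeroDivisors (A ⧸ p) :=
    mem_nonZeroDivisors_of_ne_zero hx0
  have h1 := ringKrullDim_quotient_succ_le_of_nonZeroDivisor hnzd
  refine le_trans ?_ h1
  gcongr
  let f : (A ⧸ p) ⧸ Ideal.span {Ideal.Quotient.mk p x} →+* A ⧸ q :=
    Ideal.Quotient.lift _ (Ideal.Quotient.factor hpq) (by
      intro a ha
      obtain ⟨c, rfl⟩ := Ideal.mem_span_singleton'.mp ha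
      rw [map_mul]
      have : Ideal.Quotient.factor hpq (Ideal.Quotient.mk p x) = 0 := by
        rw [Ideal.Quotient.factor_mk, Ideal.Quotient.eq_zero_iff_mem]; exact hxq
      rw [this, mul_zero])
  have hf : Function.Surjective f :=
    Ideal.Quotient.lift_surjective_of_surjective _ _ (Ideal.Quotient.factor_surjective hpq)
  exact ringKrullDim_le_of_surjective f hf

variable {A : Type u} [CommRing A] [IsLocalRing A] [IsNoetherianRing A]

theorem nontrivial_of_mem_associatedPrimes {R : Type*} [CommRing R] {M : Type*} [AddCommGroup M]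
    [Module R M] {p : Ideal R} (hp : p ∈ associatedPrimes R M) : Nontrivial M := by
  by_contra h
  rw [not_nontrivial_iff_subsingleton] at h
  rw [associatedPrimes.eq_empty_of_subsingleton] at hp
  exact hp

theorem notMem_associatedPrime_of_isSMulRegular {R : Type*} [CommRing R] [IsNoetherianRing R]
    {M : Type*} [AddCommGroup M] [Module R M] {p : Ideal R} (hp : p ∈ associatedPrimes R M)
    {x : R} (hx : IsSMulRegular M x) : x ∉ p := by
  intro hxp
  have h1 : x ∈ ⋃ q ∈ associatedPrimes R M, (q : Set R) := Set.mem_biUnion hp hxp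
  rw [biUnion_associatedPrimes_eq_compl_regular] at h1
  exact h1 hx

theorem natCast_le_dim_quotient_of_le_depth (n : ℕ) :
    ∀ (M : Type u) [AddCommGroup M] [Module A M] [Module.Finite A M] (p : Ideal A),
      p ∈ associatedPrimes A M → (n : ℕ∞) ≤ depth A M →
      (n : WithBot ℕ∞) ≤ ringKrullDim (A ⧸ p) := by
  induction n with
  | zero =>
    intro M _ _ _ p hp _
    have : p.IsPrime := hp.isPrime
    have := ringKrullDim_nonneg_of_nontrivial (R := A ⧸ p)
    simpa using this
  | succ n ih =>
    intro M _ _ _ p hp hd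
    have : p.IsPrime := hp.isPrime
    have hnt : Nontrivial M := nontrivial_of_mem_associatedPrimes hp
    have h : maximalIdeal A • (⊤ : Submodule A M) ≠ ⊤ := smul_top_ne_top_of_local A M
    obtain ⟨rs, hlen, hreg, hmem⟩ := (le_idealDepth_iff h (n + 1)).mp hd
    cases rs with
    | nil => simp at hlen
    | cons x xs =>
      obtain ⟨hx, hxs⟩ := (isWeaklyRegular_cons_iff M x xs).mp hreg
      have hxm : x ∈ maximalIdeal A := hmem x List.mem_cons_self
      have hxp : x ∉ p := notMem_associatedPrime_of_isSMulRegular hp hx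
      have hne : p ⊔ Ideal.span {x} ≠ ⊤ := by
        intro htop
        have hle : p ⊔ Ideal.span {x} ≤ maximalIdeal A :=
          sup_le (le_maximalIdeal this.ne_top) ((Ideal.span_singleton_le_iff_mem _).mpr hxm)
        exact (maximalIdeal.isMaximal A).ne_top (top_le_iff.mp (htop ▸ hle))
      obtain ⟨q, hq⟩ := Ideal.nonempty_minimalPrimes hne
      have hqass := minimalPrimes_sup_span_mem_associatedPrimes A M x hx p hp q hq
      have hlen' : xs.length = n := by simpa using hlen
      have hd' : (n : ℕ∞) ≤ depth A (QuotSMulTop x M) := by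
        rw [← hlen']
        exact length_le_idealDepth hxs (fun r hr => hmem r (List.mem_cons_of_mem x hr))
      have h1 := ih (QuotSMulTop x M) q hqass hd'
      have hpq : p ≤ q := le_sup_left.trans hq.1.2
      have hxq : x ∈ q := hq.1.2 (Ideal.mem_sup_right (Ideal.mem_span_singleton_self x))
      have h2 := ringKrullDim_quotient_succ_le_of_le_of_notMem hpq hxq hxp
      refine le_trans ?_ h2
      push_cast
      gcongr

theorem depth_le_dim_quotient_associatedPrime {M : Type u} [AddCommGroup M] [Module A M]
    [Module.Finite A M] (p : Ideal A) (hp : p ∈ associatedPrimes A M) :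
    ((depth A M : ℕ∞) : WithBot ℕ∞) ≤ ringKrullDim (A ⧸ p) := by
  have hnt : Nontrivial M := nontrivial_of_mem_associatedPrimes hp
  have h : maximalIdeal A • (⊤ : Submodule A M) ≠ ⊤ := smul_top_ne_top_of_local A M
  have hfin : depth A M ≠ ⊤ := idealDepth_ne_top h
  obtain ⟨n, hn⟩ := ENat.ne_top_iff_exists.mp hfin
  rw [← hn]
  exact natCast_le_dim_quotient_of_le_depth n M p hp hn.le

theorem dim_quotient_associatedPrime_le_supportDim {R : Type*} [CommRing R] {M : Type*}
    [AddCommGroup M] [Module R M] [Module.Finite R M] (p : Ideal R)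
    (hp : p ∈ associatedPrimes R M) : ringKrullDim (R ⧸ p) ≤ Module.supportDim R M := by
  rw [Module.supportDim_eq_ringKrullDim_quotient_annihilator]
  have hle : Module.annihilator R M ≤ p := by
    rw [← Submodule.annihilator_top]; exact IsAssociatedPrime.annihilator_le hp
  exact ringKrullDim_le_of_surjective (Ideal.Quotient.factor hle)
    (Ideal.Quotient.factor_surjective hle)

theorem depth_le_supportDim {M : Type u} [AddCommGroup M] [Module A M]
    [Module.Finite A M] [Nontrivial M] :
    ((depth A M : ℕ∞) : WithBot ℕ∞) ≤ Module.supportDim A M := by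
  obtain ⟨p, hp⟩ := associatedPrimes.nonempty A M
  exact (depth_le_dim_quotient_associatedPrime p hp).trans
    (dim_quotient_associatedPrime_le_supportDim p hp)

end Groth.Agent.Helper8.Depth
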