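import Mathlib
import Groth.Agent.Lib.Helper8.Depth7

/-!
# Cohen–Macaulay modules: basics
-/

set_option autoImplicit false
universe u v

namespace Groth.Agent.Helper8.Depth

open RingTheory.Sequence LocCoh Pointwise IsLocalRing

section general

variable {R : Type*} [CommRing R] {M : Type*} [AddCommGroup M] [Module R M]

theorem dim_quotient_le_supportDim_of_mem_support [Module.Finite R M] (p : PrimeSpectrum R)
    (hp : p ∈ Module.support R M) : ringKrullDim (R ⧸ p.asIdeal) ≤ Module.supportDim R M := by
  rw [Module.supportDim_eq_ringKrullDim_quotient_annihilator]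
  have hle : Module.annihilator R M ≤ p.asIdeal := Module.mem_support_iff_of_finite.mp hp
  exact ringKrullDim_le_of_surjective (Ideal.Quotient.factor hle)
    (Ideal.Quotient.factor_surjective hle)

theorem mem_support_of_mem_associatedPrimes [Module.Finite R M] {p : Ideal R}
    (hp : p ∈ associatedPrimes R M) :
    (⟨p, hp.isPrime⟩ : PrimeSpectrum R) ∈ Module.support R M := by
  rw [Module.mem_support_iff_of_finite, ← Submodule.annihilator_top]
  exact IsAssociatedPrime.annihilator_le hp

end general

section loc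

variable {A : Type u} [CommRing A] [IsLocalRing A] [IsNoetherianRing A]

theorem exists_nat_supportDim (M : Type*) [AddCommGroup M] [Module A M] [Nontrivial M] :
    ∃ n : ℕ, Module.supportDim A M = (n : WithBot ℕ∞) := by
  have h1 : Module.supportDim A M ≠ ⊥ := Module.supportDim_ne_bot_of_nontrivial A M
  have h2 : Module.supportDim A M < ⊤ :=
    (Module.supportDim_le_ringKrullDim A M).trans_lt ringKrullDim_lt_top
  generalize Module.supportDim A M = D at h1 h2
  induction D with
  | bot => exact absurd rfl h1
  | coe a =>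
    have ha : a ≠ ⊤ := by
      rintro rfl
      exact absurd h2 (by simp)
    lift a to ℕ using ha
    exact ⟨a, rfl⟩

variable {M : Type u} [AddCommGroup M] [Module A M]

theorem cm_nontrivial (hM : IsCohenMacaulayModule A M) : Nontrivial M := by
  rw [← Module.supportDim_ne_bot_iff_nontrivial A, hM]
  exact WithBot.coe_ne_bot

theorem isCohenMacaulayModule_congr {N : Type*} [AddCommGroup N] [Module A N] (e : M ≃ₗ[A] N) :
    IsCohenMacaulayModule A M ↔ IsCohenMacaulayModule A N := by
  unfold IsCohenMacaulayModule depth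
  rw [Module.supportDim_eq_of_equiv e, idealDepth_congr e]

theorem cm_exists_nat [Module.Finite A M] (hM : IsCohenMacaulayModule A M) :
    ∃ n : ℕ, Module.supportDim A M = (n : WithBot ℕ∞) ∧ depth A M = (n : ℕ∞) := by
  have := cm_nontrivial hM
  obtain ⟨n, hn⟩ := exists_nat_supportDim (A := A) M
  refine ⟨n, hn, ?_⟩
  have h1 : ((depth A M : ℕ∞) : WithBot ℕ∞) = ((n : ℕ∞) : WithBot ℕ∞) := by
    rw [← hM, hn]; rfl
  exact WithBot.coe_injective h1

/-- For a Cohen–Macaulay module, `dim A/p = dim M` for all associated primes. -/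
theorem cm_dim_quotient_eq [Module.Finite A M]
    (hM : IsCohenMacaulayModule A M) (p : Ideal A) (hp : p ∈ associatedPrimes A M) :
    ringKrullDim (A ⧸ p) = Module.supportDim A M :=
  le_antisymm (dim_quotient_associatedPrime_le_supportDim p hp)
    (hM ▸ depth_le_dim_quotient_associatedPrime p hp)

/-- A parameter on a Cohen–Macaulay module is a nonzerodivisor. -/
theorem cm_isSMulRegular_of_supportDim [Module.Finite A M]
    (hM : IsCohenMacaulayModule A M) {x : A}
    (hdim : Module.supportDim A (QuotSMulTop x M) + 1 = Module.supportDim A M) :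
    IsSMulRegular M x := by
  by_contra hreg
  have hx : x ∈ ⋃ p ∈ associatedPrimes A M, (p : Set A) := by
    rw [biUnion_associatedPrimes_eq_compl_regular]; exact hreg
  obtain ⟨p, hp, hxp⟩ := Set.mem_iUnion₂.mp hx
  have hpp : p.IsPrime := hp.isPrime
  have h1 := cm_dim_quotient_eq hM p hp
  have h2 : (⟨p, hpp⟩ : PrimeSpectrum A) ∈ Module.support A (QuotSMulTop x M) := by
    rw [Module.support_quotSMulTop]
    refine ⟨mem_support_of_mem_associatedPrimes hp, ?_⟩
    simpa using hxp
  have h3 := dim_quotient_le_supportDim_of_mem_support _ h2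
  simp only at h3
  rw [h1] at h3
  obtain ⟨n, hn, -⟩ := cm_exists_nat hM
  rw [hn] at h3 hdim
  have h4 : ((n : WithBot ℕ∞)) + 1 ≤ (n : WithBot ℕ∞) :=
    (add_le_add_left h3 1).trans hdim.le
  have h5 : ((n + 1 : ℕ) : WithBot ℕ∞) ≤ (n : WithBot ℕ∞) := by exact_mod_cast h4
  have : n + 1 ≤ n := by exact_mod_cast h5
  omega

theorem cm_quotSMulTop [Module.Finite A M]
    (hM : IsCohenMacaulayModule A M) {x : A} (hx : x ∈ maximalIdeal A)
    (hreg : IsSMulRegular M x) : IsCohenMacaulayModule A (QuotSMulTop x M) := by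
  have := cm_nontrivial hM
  have h : maximalIdeal A • (⊤ : Submodule A M) ≠ ⊤ := smul_top_ne_top_of_local A M
  have h1 : depth A (QuotSMulTop x M) + 1 = depth A M := idealDepth_quotSMulTop_add_one h hx hreg
  have h2 := Module.supportDim_quotSMulTop_succ_eq_supportDim hreg hx
  obtain ⟨n, hn, hn'⟩ := cm_exists_nat hM
  have h' := smul_top_quotSMulTop_ne_top hx h
  have hnt : Nontrivial (QuotSMulTop x M) := by
    by_contra hcon
    rw [not_nontrivial_iff_subsingleton] at hcon
    exact h' (Subsingleton.elim _ _)
  obtain ⟨k, hk⟩ := exists_nat_supportDim (A := A) (QuotSMulTop x M)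
  obtain ⟨l, hl⟩ := ENat.ne_top_iff_exists.mp (idealDepth_ne_top h')
  unfold IsCohenMacaulayModule
  rw [hk]
  change _ = ((idealDepth (maximalIdeal A) (QuotSMulTop x M) : ℕ∞) : WithBot ℕ∞)
  rw [← hl]
  rw [hk, hn] at h2
  unfold depth at h1 hn'
  rw [← hl, hn'] at h1
  have e1 : k + 1 = n := by exact_mod_cast h2
  have e2 : l + 1 = n := by exact_mod_cast h1
  have : k = l := by omega
  rw [this]; rfl

end loc

end Groth.Agent.Helper8.Depth
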