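import Mathlib
import Groth.Agent.Lib.Helper8.Depth8

/-!
# Cohen–Macaulay modules: regular sequences are exactly partial systems of parameters
-/

set_option autoImplicit false
universe u v

namespace Groth.Agent.Helper8.Depth

open RingTheory.Sequence LocCoh Pointwise IsLocalRing

variable {A : Type u} [CommRing A] [IsLocalRing A] [IsNoetherianRing A]

/-- `M ⧸ (x) • ⊤` is `M / xM`. -/
noncomputable def quotSpanSingletonEquiv {R : Type*} [CommRing R] (M : Type*) [AddCommGroup M]
    [Module R M] (x : R) :
    (M ⧸ (Ideal.span {x} • (⊤ : Submodule R M))) ≃ₗ[R] QuotSMulTop x M :=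
  Submodule.quotEquivOfEq _ _ ((⊤ : Submodule R M).ideal_span_singleton_smul x)

/-- `M ⧸ ofList [] • ⊤` is `M`. -/
noncomputable def quotOfListNilEquiv {R : Type*} [CommRing R] (M : Type*) [AddCommGroup M]
    [Module R M] :
    (M ⧸ (Ideal.ofList ([] : List R) • (⊤ : Submodule R M))) ≃ₗ[R] M :=
  Submodule.quotEquivOfEqBot _ (by rw [Ideal.ofList_nil, Submodule.bot_smul])

theorem supportDim_le_add_length (xs : List A) (hxs : ∀ x ∈ xs, x ∈ maximalIdeal A) :
    ∀ (M : Type v) [AddCommGroup M] [Module A M] [Module.Finite A M],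
      Module.supportDim A M ≤
        Module.supportDim A (M ⧸ (Ideal.ofList xs • (⊤ : Submodule A M))) + xs.length := by
  induction xs with
  | nil =>
    intro M _ _ _
    rw [Module.supportDim_eq_of_equiv (quotOfListNilEquiv (R := A) M)]
    simp
  | cons x xs ih =>
    intro M _ _ _
    have hx : x ∈ maximalIdeal A := hxs x List.mem_cons_self
    have h1 := Module.supportDim_le_supportDim_quotSMulTop_succ (M := M) hx
    have h2 := ih (fun y hy => hxs y (List.mem_cons_of_mem x hy)) (QuotSMulTop x M)
    rw [Module.supportDim_eq_of_equiv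
      (Submodule.quotOfListConsSMulTopEquivQuotSMulTopInner M x xs)]
    refine h1.trans ?_
    refine (add_le_add_left h2 1).trans ?_
    rw [List.length_cons, add_assoc]
    push_cast
    exact le_rfl

theorem cm_list (xs : List A) (hxs : ∀ x ∈ xs, x ∈ maximalIdeal A) :
    ∀ (M : Type u) [AddCommGroup M] [Module A M] [Module.Finite A M],
      IsCohenMacaulayModule A M →
      (IsWeaklyRegular M xs ↔
        Module.supportDim A (M ⧸ (Ideal.ofList xs • (⊤ : Submodule A M))) + xs.length =
          Module.supportDim A M) ∧
      (IsWeaklyRegular M xs →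
        IsCohenMacaulayModule A (M ⧸ (Ideal.ofList xs • (⊤ : Submodule A M)))) := by
  induction xs with
  | nil =>
    intro M _ _ _ hM
    refine ⟨⟨fun _ => ?_, fun _ => IsWeaklyRegular.nil A M⟩, fun _ => ?_⟩
    · rw [Module.supportDim_eq_of_equiv (quotOfListNilEquiv (R := A) M)]; simp
    · exact (isCohenMacaulayModule_congr (quotOfListNilEquiv (R := A) M)).mpr hM
  | cons x xs ih =>
    intro M _ _ _ hM
    have hnt := cm_nontrivial hM
    have hx : x ∈ maximalIdeal A := hxs x List.mem_cons_self
    have hxs' : ∀ y ∈ xs, y ∈ maximalIdeal A := fun y hy => hxs y (List.mem_cons_of_mem x hy)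
    have e := Submodule.quotOfListConsSMulTopEquivQuotSMulTopInner M x xs
    have hdir : IsWeaklyRegular M (x :: xs) →
        Module.supportDim A (M ⧸ (Ideal.ofList (x :: xs) • (⊤ : Submodule A M))) +
          (x :: xs).length = Module.supportDim A M := by
      intro hreg
      have h : maximalIdeal A • (⊤ : Submodule A M) ≠ ⊤ := smul_top_ne_top_of_local A M
      exact Module.supportDim_add_length_eq_supportDim_of_isRegular _
        (isRegular_of_isWeaklyRegular_of_mem h hreg hxs)
    refine ⟨⟨hdir, fun hdim => ?_⟩, fun hreg => ?_⟩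
    · -- the dimension drops by the length: `x` is regular and we recurse
      rw [Module.supportDim_eq_of_equiv e] at hdim
      have h1 := Module.supportDim_le_supportDim_quotSMulTop_succ (M := M) hx
      have h2 := supportDim_le_add_length xs hxs' (QuotSMulTop x M)
      obtain ⟨n, hn, -⟩ := cm_exists_nat hM
      have hntQ : Nontrivial (QuotSMulTop x M) := by
        have h : maximalIdeal A • (⊤ : Submodule A M) ≠ ⊤ := smul_top_ne_top_of_local A M
        have h' := smul_top_quotSMulTop_ne_top hx h
        by_contra hcon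
        rw [not_nontrivial_iff_subsingleton] at hcon
        exact h' (Subsingleton.elim _ _)
      obtain ⟨k, hk⟩ := exists_nat_supportDim (A := A) (QuotSMulTop x M)
      have hntQ2 : Nontrivial
          (QuotSMulTop x M ⧸ (Ideal.ofList xs • (⊤ : Submodule A (QuotSMulTop x M)))) := by
        rw [← Module.supportDim_ne_bot_iff_nontrivial A]
        intro hbot
        rw [hbot, hn] at hdim
        simp at hdim
      obtain ⟨l, hl⟩ := exists_nat_supportDim (A := A)
        (QuotSMulTop x M ⧸ (Ideal.ofList xs • (⊤ : Submodule A (QuotSMulTop x M))))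
      rw [hn, hk] at h1
      rw [hk, hl] at h2
      rw [hl, hn, List.length_cons] at hdim
      have e1 : n ≤ k + 1 := by exact_mod_cast h1
      have e2 : k ≤ l + xs.length := by exact_mod_cast h2
      have e3 : l + (xs.length + 1) = n := by exact_mod_cast hdim
      have hk1 : k + 1 = n := by omega
      have hxreg : IsSMulRegular M x := by
        refine cm_isSMulRegular_of_supportDim hM ?_
        rw [hk, hn]; exact_mod_cast hk1
      have hQ := cm_quotSMulTop hM hx hxreg
      have h3 := (ih hxs' (QuotSMulTop x M) hQ).1.mpr (by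
        rw [hl, hk]
        have : l + xs.length = k := by omega
        exact_mod_cast this)
      exact (isWeaklyRegular_cons_iff M x xs).mpr ⟨hxreg, h3⟩
    · obtain ⟨hxreg, hxsreg⟩ := (isWeaklyRegular_cons_iff M x xs).mp hreg
      have hQ := cm_quotSMulTop hM hx hxreg
      have h3 := (ih hxs' (QuotSMulTop x M) hQ).2 hxsreg
      exact (isCohenMacaulayModule_congr e).mpr h3

theorem cm_quotient_of_supportDim_drop {M : Type u} [AddCommGroup M] [Module A M]
    [Module.Finite A M] (hM : IsCohenMacaulayModule A M) (g : A) (hg : g ∈ maximalIdeal A)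
    (hdim : Module.supportDim A (M ⧸ Ideal.span {g} • (⊤ : Submodule A M)) + 1 =
      Module.supportDim A M) :
    IsSMulRegular M g ∧ IsCohenMacaulayModule A (M ⧸ Ideal.span {g} • (⊤ : Submodule A M)) ∧
      depth A (M ⧸ Ideal.span {g} • (⊤ : Submodule A M)) + 1 = depth A M := by
  have e := quotSpanSingletonEquiv (R := A) M g
  rw [Module.supportDim_eq_of_equiv e] at hdim
  have hreg := cm_isSMulRegular_of_supportDim hM hdim
  have hnt := cm_nontrivial hM
  have h : maximalIdeal A • (⊤ : Submodule A M) ≠ ⊤ := smul_top_ne_top_of_local A M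
  refine ⟨hreg, (isCohenMacaulayModule_congr e).mpr (cm_quotSMulTop hM hg hreg), ?_⟩
  unfold depth
  rw [idealDepth_congr e]
  exact idealDepth_quotSMulTop_add_one h hg hreg

end Groth.Agent.Helper8.Depth
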