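import Mathlib
import Groth.Agent.Lib.Helper8.Depth9

/-!
# A criterion for Cohen–Macaulayness via unmixedness of quotients by parameters
-/

set_option autoImplicit false
universe u v

namespace Groth.Agent.Helper8.Depth

open RingTheory.Sequence LocCoh Pointwise IsLocalRing

variable {A : Type u} [CommRing A] [IsLocalRing A] [IsNoetherianRing A]

theorem cm_of_unmixed_aux (n : ℕ) :
    ∀ (M : Type u) [AddCommGroup M] [Module A M] [Module.Finite A M] [Nontrivial M],
      Module.supportDim A M = (n : WithBot ℕ∞) →
      (∀ xs : List A, (∀ x ∈ xs, x ∈ maximalIdeal A) →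
        Module.supportDim A (M ⧸ (Ideal.ofList xs • (⊤ : Submodule A M))) + xs.length =
          Module.supportDim A M →
        ∀ p ∈ associatedPrimes A (M ⧸ (Ideal.ofList xs • (⊤ : Submodule A M))),
          ringKrullDim (A ⧸ p) =
            Module.supportDim A (M ⧸ (Ideal.ofList xs • (⊤ : Submodule A M)))) →
      IsCohenMacaulayModule A M := by
  induction n with
  | zero =>
    intro M _ _ _ _ hdim _
    unfold IsCohenMacaulayModule
    have h1 := depth_le_supportDim (A := A) (M := M)
    rw [hdim] at h1 ⊢
    have h2 : depth A M ≤ 0 := by exact_mod_cast h1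
    rw [nonpos_iff_eq_zero.mp h2]; rfl
  | succ n ih =>
    intro M _ _ _ _ hdim h
    have hmM : maximalIdeal A • (⊤ : Submodule A M) ≠ ⊤ := smul_top_ne_top_of_local A M
    -- the maximal ideal is not associated to `M`
    have hnotass : maximalIdeal A ∉ associatedPrimes A M := by
      intro hm
      have e0 := quotOfListNilEquiv (R := A) M
      have h0 := h [] (by simp) (by
        rw [Module.supportDim_eq_of_equiv e0]; simp) (maximalIdeal A) (by
        rw [LinearEquiv.AssociatedPrimes.eq e0]; exact hm)
      rw [Module.supportDim_eq_of_equiv e0, hdim] at h0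
      have h1 : ringKrullDim (A ⧸ maximalIdeal A) = 0 := ringKrullDim_eq_zero_of_isField
        ((Ideal.Quotient.maximal_ideal_iff_isField_quotient _).mp inferInstance)
      rw [h1] at h0
      have : ((0 : ℕ) : WithBot ℕ∞) = ((n + 1 : ℕ) : WithBot ℕ∞) := by exact_mod_cast h0
      have : (0 : ℕ) = n + 1 := by exact_mod_cast this
      omega
    rw [← forall_not_isSMulRegular_iff] at hnotass
    push Not at hnotass
    obtain ⟨x, hx, hxreg⟩ := hnotass
    have h' := smul_top_quotSMulTop_ne_top hx hmM
    have hntQ : Nontrivial (QuotSMulTop x M) := by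
      by_contra hcon
      rw [not_nontrivial_iff_subsingleton] at hcon
      exact h' (Subsingleton.elim _ _)
    have hdimQ := Module.supportDim_quotSMulTop_succ_eq_supportDim hxreg hx
    obtain ⟨k, hk⟩ := exists_nat_supportDim (A := A) (QuotSMulTop x M)
    have hkn : k = n := by
      rw [hk, hdim] at hdimQ
      have : k + 1 = n + 1 := by exact_mod_cast hdimQ
      omega
    subst hkn
    have hQ : IsCohenMacaulayModule A (QuotSMulTop x M) := by
      refine ih (QuotSMulTop x M) hk ?_
      intro ys hys hdimys p hp
      have e := Submodule.quotOfListConsSMulTopEquivQuotSMulTopInner M x ys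
      have h2 := h (x :: ys) (by
        intro y hy
        rcases List.mem_cons.mp hy with rfl | hy
        · exact hx
        · exact hys y hy) (by
        rw [Module.supportDim_eq_of_equiv e, List.length_cons, ← hdimQ, ← hdimys]
        push_cast
        rw [add_assoc]) p (by
        rw [LinearEquiv.AssociatedPrimes.eq e]; exact hp)
      rw [Module.supportDim_eq_of_equiv e] at h2
      exact h2
    unfold IsCohenMacaulayModule at hQ ⊢
    have hd : depth A (QuotSMulTop x M) + 1 = depth A M :=
      idealDepth_quotSMulTop_add_one hmM hx hxreg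
    rw [← hdimQ, hQ, ← hd]
    rfl

theorem cm_of_unmixed (M : Type u) [AddCommGroup M] [Module A M] [Module.Finite A M]
    [Nontrivial M]
    (h : ∀ xs : List A, (∀ x ∈ xs, x ∈ maximalIdeal A) →
      Module.supportDim A (M ⧸ (Ideal.ofList xs • (⊤ : Submodule A M))) + xs.length =
        Module.supportDim A M →
      ∀ p ∈ associatedPrimes A (M ⧸ (Ideal.ofList xs • (⊤ : Submodule A M))),
        ringKrullDim (A ⧸ p) =
          Module.supportDim A (M ⧸ (Ideal.ofList xs • (⊤ : Submodule A M)))) :
    IsCohenMacaulayModule A M := by
  obtain ⟨n, hn⟩ := exists_nat_supportDim (A := A) M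
  exact cm_of_unmixed_aux n M hn h

end Groth.Agent.Helper8.Depth
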