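import Mathlib
import Groth.Agent.Lib.Helper8.Depth10

/-!
# Support and dimension of a localized module
-/

set_option autoImplicit false
universe u v

namespace Groth.Agent.Helper8.Depth

open RingTheory.Sequence LocCoh Pointwise IsLocalRing

variable {A : Type*} [CommRing A] (p : Ideal A) [hpp : p.IsPrime] (M : Type*) [AddCommGroup M]
  [Module A M]

/-- The support of the localized module `M_p` over `A_p` is the preimage of the support of `M`. -/
theorem mem_support_localizedModule_iff (q' : PrimeSpectrum (Localization.AtPrime p)) :
    q' ∈ Module.support (Localization.AtPrime p) (LocalizedModule p.primeCompl M) ↔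
      PrimeSpectrum.comap (algebraMap A (Localization.AtPrime p)) q' ∈ Module.support A M := by
  rw [Module.mem_support_iff', Module.mem_support_iff']
  constructor
  · rintro ⟨m', hm'⟩
    induction m' using LocalizedModule.induction_on with
    | h m s =>
      refine ⟨m, fun r hr hrm => ?_⟩
      have h1 : algebraMap A (Localization.AtPrime p) r • LocalizedModule.mk m s = 0 := by
        rw [algebraMap_smul, LocalizedModule.smul'_mk, hrm, LocalizedModule.zero_mk]
      exact hm' _ hr h1
  · rintro ⟨m, hm⟩
    refine ⟨LocalizedModule.mk m 1, fun r' hr' hzero => hr' ?_⟩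
    induction r' using Localization.induction_on with
    | H y =>
    obtain ⟨a, s⟩ := y
    simp only at hzero ⊢
    rw [Localization.mk_eq_mk', IsLocalization.mk'_mem_iff]
    rw [LocalizedModule.mk_smul_mk, ← LocalizedModule.zero_mk (s * 1), LocalizedModule.mk_eq]
      at hzero
    obtain ⟨u, hu⟩ := hzero
    simp only [smul_zero] at hu
    have h2 : ((u : A) * ((s * 1 : p.primeCompl) : A) * a) • m = 0 := by
      rw [mul_smul, mul_smul]; exact hu
    have hq'p : (PrimeSpectrum.comap (algebraMap A (Localization.AtPrime p)) q').asIdeal ≤ p := by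
      have := (IsLocalization.AtPrime.primeSpectrumOrderIso (Localization.AtPrime p) p q').2
      exact this
    have hprime := (PrimeSpectrum.comap (algebraMap A (Localization.AtPrime p)) q').isPrime
    by_contra ha
    have h3 : (u : A) * ((s * 1 : p.primeCompl) : A) * a ∉
        (PrimeSpectrum.comap (algebraMap A (Localization.AtPrime p)) q').asIdeal := by
      intro h3
      rcases hprime.mem_or_mem h3 with h4 | h4
      · rcases hprime.mem_or_mem h4 with h5 | h5
        · exact u.2 (hq'p h5)
        · exact (s * 1).2 (hq'p h5)
      · exact ha h4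
    exact hm _ h3 h2

theorem comap_localization_le (q' : PrimeSpectrum (Localization.AtPrime p)) :
    PrimeSpectrum.comap (algebraMap A (Localization.AtPrime p)) q' ≤ ⟨p, hpp⟩ :=
  (IsLocalization.AtPrime.primeSpectrumOrderIso (Localization.AtPrime p) p q').2

/-- `dim M_p + dim A/p ≤ dim M` for `p` in the support of `M`. -/
theorem supportDim_localizedModule_add_dim_quotient_le
    (hp : (⟨p, hpp⟩ : PrimeSpectrum A) ∈ Module.support A M) :
    Module.supportDim (Localization.AtPrime p) (LocalizedModule p.primeCompl M) +
      ringKrullDim (A ⧸ p) ≤ Module.supportDim A M := by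
  let X := Module.support A M
  let x : X := ⟨⟨p, hpp⟩, hp⟩
  have h1 : Module.supportDim (Localization.AtPrime p) (LocalizedModule p.primeCompl M) ≤
      (Order.height x : WithBot ℕ∞) := by
    rw [Order.height_eq_krullDim_Iic]
    let f : Module.support (Localization.AtPrime p) (LocalizedModule p.primeCompl M) →
        Set.Iic x := fun q' =>
      ⟨⟨PrimeSpectrum.comap (algebraMap A (Localization.AtPrime p)) q'.1,
        (mem_support_localizedModule_iff p M q'.1).mp q'.2⟩, comap_localization_le p q'.1⟩
    refine Order.krullDim_le_of_strictMono f ?_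
    intro a b hab
    have hinj := PrimeSpectrum.localization_comap_injective (Localization.AtPrime p) p.primeCompl
    have hle : PrimeSpectrum.comap (algebraMap A (Localization.AtPrime p)) a.1 ≤
        PrimeSpectrum.comap (algebraMap A (Localization.AtPrime p)) b.1 :=
      Ideal.comap_mono (show a.1.asIdeal ≤ b.1.asIdeal from hab.le)
    refine lt_of_le_of_ne hle fun heq => ?_
    have h5 : PrimeSpectrum.comap (algebraMap A (Localization.AtPrime p)) a.1 =
        PrimeSpectrum.comap (algebraMap A (Localization.AtPrime p)) b.1 := congrArg (fun z => z.1.1) heq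
    exact hab.ne (Subtype.ext (hinj h5))
  have h2 : ringKrullDim (A ⧸ p) ≤ (Order.coheight x : WithBot ℕ∞) := by
    rw [Order.coheight_eq_krullDim_Ici]
    let g : PrimeSpectrum (A ⧸ p) → Set.Ici x := fun q =>
      ⟨⟨PrimeSpectrum.comap (Ideal.Quotient.mk p) q, Module.mem_support_mono (by
          change p ≤ Ideal.comap (Ideal.Quotient.mk p) q.asIdeal
          intro a ha
          rw [Ideal.mem_comap, Ideal.Quotient.eq_zero_iff_mem.mpr ha]
          exact zero_mem _) hp⟩, by
        change p ≤ Ideal.comap (Ideal.Quotient.mk p) q.asIdeal
        intro a ha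
        rw [Ideal.mem_comap, Ideal.Quotient.eq_zero_iff_mem.mpr ha]
        exact zero_mem _⟩
    refine Order.krullDim_le_of_strictMono g ?_
    intro a b hab
    have hle : PrimeSpectrum.comap (Ideal.Quotient.mk p) a ≤
        PrimeSpectrum.comap (Ideal.Quotient.mk p) b :=
      Ideal.comap_mono (show a.asIdeal ≤ b.asIdeal from hab.le)
    refine lt_of_le_of_ne hle fun heq => ?_
    have h5 : PrimeSpectrum.comap (Ideal.Quotient.mk p) a =
        PrimeSpectrum.comap (Ideal.Quotient.mk p) b := congrArg (fun z => z.1.1) heq
    exact hab.ne (PrimeSpectrum.comap_injective_of_surjective (Ideal.Quotient.mk p)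
      Ideal.Quotient.mk_surjective h5)
  have : Nonempty X := ⟨x⟩
  have h3 : ((Order.height x + Order.coheight x : ℕ∞) : WithBot ℕ∞) ≤ Module.supportDim A M := by
    unfold Module.supportDim
    rw [Order.krullDim_eq_iSup_height_add_coheight_of_nonempty]
    norm_cast
    exact le_iSup (fun a : X => Order.height a + Order.coheight a) x
  refine le_trans (add_le_add h1 h2) ?_
  exact_mod_cast h3

end Groth.Agent.Helper8.Depth
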