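import Mathlib
import Groth.Agent.Lib.Helper8.Depth11

/-!
# Cohen–Macaulay modules: regular sequences inside a prime, localization
-/

set_option autoImplicit false
universe u v

namespace Groth.Agent.Helper8.Depth

open RingTheory.Sequence LocCoh Pointwise IsLocalRing

theorem exists_nat_of_le {D : WithBot ℕ∞} {s : ℕ} (h0 : 0 ≤ D) (hs : D ≤ (s : WithBot ℕ∞)) :
    ∃ e : ℕ, D = (e : WithBot ℕ∞) ∧ e ≤ s := by
  induction D with
  | bot => simp at h0
  | coe a =>
    have ha : a ≤ (s : ℕ∞) := by exact_mod_cast hs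
    lift a to ℕ using ne_top_of_le_ne_top (ENat.natCast_ne_top s) ha
    exact ⟨a, rfl, by exact_mod_cast ha⟩

section general

variable {R : Type*} [CommRing R] {M : Type*} [AddCommGroup M] [Module R M]

/-- `dim (M/pM) = dim A/p` for `p` in the support of a finite module. -/
theorem supportDim_quotient_prime_eq [Module.Finite R M] (p : PrimeSpectrum R)
    (hp : p ∈ Module.support R M) :
    Module.supportDim R (M ⧸ (p.asIdeal • (⊤ : Submodule R M))) = ringKrullDim (R ⧸ p.asIdeal) := by
  unfold Module.supportDim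
  rw [ringKrullDim_quotient, Module.support_quotient]
  have : Module.support R M ∩ PrimeSpectrum.zeroLocus (p.asIdeal : Set R) =
      PrimeSpectrum.zeroLocus (p.asIdeal : Set R) := by
    refine Set.inter_eq_right.mpr fun q hq => ?_
    exact Module.mem_support_mono (show p ≤ q from hq) hp
  rw [this]

theorem mem_support_quotient_ofList [Module.Finite R M] (p : PrimeSpectrum R)
    (hp : p ∈ Module.support R M) (xs : List R) (hxs : ∀ x ∈ xs, x ∈ p.asIdeal) :
    p ∈ Module.support R (M ⧸ (Ideal.ofList xs • (⊤ : Submodule R M))) := by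
  rw [Module.support_quotient]
  refine ⟨hp, ?_⟩
  rw [PrimeSpectrum.mem_zeroLocus]
  exact Ideal.span_le.mpr hxs

/-- Comparable primes with the same finite coheight are equal. -/
theorem eq_of_le_of_dim_quotient_eq {q p : Ideal R} [q.IsPrime] (hqp : q ≤ p) (n : ℕ)
    (hq : ringKrullDim (R ⧸ q) = (n : WithBot ℕ∞)) (hp : ringKrullDim (R ⧸ p) = (n : WithBot ℕ∞)) :
    q = p := by
  by_contra hne
  have hlt : q < p := lt_of_le_of_ne hqp hne
  obtain ⟨x, hxp, hxq⟩ := Set.exists_of_ssubset hlt
  have h1 := ringKrullDim_quotient_succ_le_of_le_of_notMem hqp hxp hxq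
  rw [hq, hp] at h1
  have : n + 1 ≤ n := by exact_mod_cast h1
  omega

end general

section loc

variable {A : Type u} [CommRing A] [IsLocalRing A] [IsNoetherianRing A]

theorem cm_exists_isWeaklyRegular_in_prime (r : ℕ) :
    ∀ (M : Type u) [AddCommGroup M] [Module A M] [Module.Finite A M],
      IsCohenMacaulayModule A M → ∀ (p : PrimeSpectrum A), p ∈ Module.support A M →
      ringKrullDim (A ⧸ p.asIdeal) + r = Module.supportDim A M →
      ∃ xs : List A, xs.length = r ∧ (∀ x ∈ xs, x ∈ p.asIdeal) ∧ IsWeaklyRegular M xs := by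
  induction r with
  | zero =>
    intro M _ _ _ _ p _ _
    exact ⟨[], rfl, by simp, IsWeaklyRegular.nil A M⟩
  | succ r ih =>
    intro M _ _ _ hM p hp hr
    classical
    have hnt := cm_nontrivial hM
    obtain ⟨n, hn, -⟩ := cm_exists_nat hM
    have hpm : p.asIdeal ≤ maximalIdeal A := le_maximalIdeal p.isPrime.ne_top
    -- `p` is not contained in any associated prime
    have hnot : ¬ ((p.asIdeal : Set A) ⊆ ⋃ q ∈ associatedPrimes A M, (q : Set A)) := by
      intro hsub
      have hfin := associatedPrimes.finite A M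
      have hsub' : (p.asIdeal : Set A) ⊆ ⋃ q ∈ (hfin.toFinset : Set (Ideal A)), (q : Set A) := by
        simpa using hsub
      rw [Ideal.subset_union_prime (f := fun q : Ideal A => q) ⊥ ⊥ (fun q hq _ _ => by
        have : q ∈ associatedPrimes A M := by simpa using hq
        exact this.isPrime)] at hsub'
      obtain ⟨q, hq, hpq⟩ := hsub'
      have hq' : q ∈ associatedPrimes A M := by simpa using hq
      have h1 := cm_dim_quotient_eq hM q hq'
      have h2 : ringKrullDim (A ⧸ q) ≤ ringKrullDim (A ⧸ p.asIdeal) :=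
        ringKrullDim_le_of_surjective (Ideal.Quotient.factor hpq)
          (Ideal.Quotient.factor_surjective hpq)
      rw [h1, ← hr] at h2
      have hnn : (0 : WithBot ℕ∞) ≤ ringKrullDim (A ⧸ p.asIdeal) :=
        ringKrullDim_nonneg_of_nontrivial
      have hle : ringKrullDim (A ⧸ p.asIdeal) ≤ (n : WithBot ℕ∞) := by
        rw [← hn]; exact dim_quotient_le_supportDim_of_mem_support p hp
      obtain ⟨e, he, -⟩ := exists_nat_of_le hnn hle
      rw [he] at h2
      have : e + (r + 1) ≤ e := by exact_mod_cast h2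
      omega
    rw [Set.not_subset] at hnot
    obtain ⟨x, hxp, hx⟩ := hnot
    rw [biUnion_associatedPrimes_eq_compl_regular] at hx
    have hxreg : IsSMulRegular M x := by
      by_contra hcon; exact hx hcon
    have hxm : x ∈ maximalIdeal A := hpm hxp
    have hQ := cm_quotSMulTop hM hxm hxreg
    have hdimQ := Module.supportDim_quotSMulTop_succ_eq_supportDim hxreg hxm
    have hpQ : p ∈ Module.support A (QuotSMulTop x M) := by
      rw [Module.support_quotSMulTop]
      exact ⟨hp, by simpa using hxp⟩
    have hr' : ringKrullDim (A ⧸ p.asIdeal) + r = Module.supportDim A (QuotSMulTop x M) := by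
      have hnn : (0 : WithBot ℕ∞) ≤ ringKrullDim (A ⧸ p.asIdeal) :=
        ringKrullDim_nonneg_of_nontrivial
      have hle : ringKrullDim (A ⧸ p.asIdeal) ≤ (n : WithBot ℕ∞) := by
        rw [← hn]; exact dim_quotient_le_supportDim_of_mem_support p hp
      obtain ⟨e, he, -⟩ := exists_nat_of_le hnn hle
      have := cm_nontrivial hQ
      obtain ⟨k, hk⟩ := exists_nat_supportDim (A := A) (QuotSMulTop x M)
      rw [he, hn] at hr
      rw [hk, hn] at hdimQ
      rw [he, hk]
      have e1 : e + (r + 1) = n := by exact_mod_cast hr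
      have e2 : k + 1 = n := by exact_mod_cast hdimQ
      have : e + r = k := by omega
      exact_mod_cast this
    obtain ⟨xs, hlen, hmem, hreg⟩ := ih (QuotSMulTop x M) hQ p hpQ hr'
    refine ⟨x :: xs, by simp [hlen], ?_, (isWeaklyRegular_cons_iff M x xs).mpr ⟨hxreg, hreg⟩⟩
    intro y hy
    rcases List.mem_cons.mp hy with rfl | hy
    · exact hxp
    · exact hmem y hy

/-- For a regular sequence of the right length inside `p`, `p` is a minimal associated prime
of the quotient. -/
theorem cm_prime_mem_associatedPrimes_quotient {M : Type u} [AddCommGroup M] [Module A M]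
    [Module.Finite A M] (hM : IsCohenMacaulayModule A M) (p : PrimeSpectrum A)
    (hp : p ∈ Module.support A M) (r : ℕ)
    (hr : ringKrullDim (A ⧸ p.asIdeal) + r = Module.supportDim A M)
    (xs : List A) (hlen : xs.length = r) (hmem : ∀ x ∈ xs, x ∈ p.asIdeal)
    (hreg : IsWeaklyRegular M xs) :
    Module.supportDim A (M ⧸ (Ideal.ofList xs • (⊤ : Submodule A M))) =
        ringKrullDim (A ⧸ p.asIdeal) ∧
      p.asIdeal ∈ associatedPrimes A (M ⧸ (Ideal.ofList xs • (⊤ : Submodule A M))) ∧
      ∀ q ∈ associatedPrimes A (M ⧸ (Ideal.ofList xs • (⊤ : Submodule A M))),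
        q ≤ p.asIdeal → q = p.asIdeal := by
  have hpm : p.asIdeal ≤ maximalIdeal A := le_maximalIdeal p.isPrime.ne_top
  have hxsm : ∀ x ∈ xs, x ∈ maximalIdeal A := fun x hx => hpm (hmem x hx)
  obtain ⟨hiff, hcm⟩ := cm_list xs hxsm M hM
  have hN := hcm hreg
  have hdimN := hiff.mp hreg
  have hnt := cm_nontrivial hM
  have hntN := cm_nontrivial hN
  obtain ⟨n, hn, -⟩ := cm_exists_nat hM
  obtain ⟨k, hk, -⟩ := cm_exists_nat hN
  have hnn : (0 : WithBot ℕ∞) ≤ ringKrullDim (A ⧸ p.asIdeal) :=
    ringKrullDim_nonneg_of_nontrivial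
  have hle : ringKrullDim (A ⧸ p.asIdeal) ≤ (n : WithBot ℕ∞) := by
    rw [← hn]; exact dim_quotient_le_supportDim_of_mem_support p hp
  obtain ⟨e, he, -⟩ := exists_nat_of_le hnn hle
  have hke : k = e := by
    rw [hk, hn, hlen] at hdimN
    rw [he, hn] at hr
    have e1 : k + r = n := by exact_mod_cast hdimN
    have e2 : e + r = n := by exact_mod_cast hr
    omega
  subst hke
  have hpN := mem_support_quotient_ofList p hp xs hmem
  have key : ∀ q ∈ associatedPrimes A (M ⧸ (Ideal.ofList xs • (⊤ : Submodule A M))),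
      q ≤ p.asIdeal → q = p.asIdeal := by
    intro q hq hqp
    have : q.IsPrime := hq.isPrime
    have h1 := cm_dim_quotient_eq hN q hq
    rw [hk] at h1
    exact eq_of_le_of_dim_quotient_eq hqp k h1 he
  refine ⟨by rw [hk, he], ?_, key⟩
  -- a minimal prime of the support below `p` is associated
  have hann : Module.annihilator A (M ⧸ (Ideal.ofList xs • (⊤ : Submodule A M))) ≤ p.asIdeal :=
    Module.mem_support_iff_of_finite.mp hpN
  obtain ⟨q, hqmin, hqp⟩ := Ideal.exists_minimalPrimes_le hann
  have hqass := Module.associatedPrimes.minimalPrimes_annihilator_subset_associatedPrimes A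
    (M ⧸ (Ideal.ofList xs • (⊤ : Submodule A M))) hqmin
  have := key q hqass hqp
  rw [← this]; exact hqass

end loc

end Groth.Agent.Helper8.Depth
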