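import Mathlib
import Groth.Agent.Lib.Helper8.Depth12

/-!
# Localization of Cohen–Macaulay modules
-/

set_option autoImplicit false
universe u v

namespace Groth.Agent.Helper8.Depth

open RingTheory.Sequence LocCoh Pointwise IsLocalRing

/-- A weakly regular sequence inside `p` gives a lower bound for the depth of `M_p`. -/
theorem length_le_depth_localizedModule {A : Type u} [CommRing A] (p : Ideal A) [p.IsPrime]
    {M : Type v} [AddCommGroup M] [Module A M] (xs : List A) (hmem : ∀ x ∈ xs, x ∈ p)
    (hreg : IsWeaklyRegular M xs) :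
    (xs.length : ℕ∞) ≤ depth (Localization.AtPrime p) (LocalizedModule p.primeCompl M) := by
  have h1 : IsWeaklyRegular (LocalizedModule p.primeCompl M)
      (xs.map (algebraMap A (Localization.AtPrime p))) :=
    IsWeaklyRegular.of_isLocalizedModule (Localization.AtPrime p) p.primeCompl
      (LocalizedModule.mkLinearMap p.primeCompl M) hreg
  have h2 : ∀ y ∈ xs.map (algebraMap A (Localization.AtPrime p)),
      y ∈ maximalIdeal (Localization.AtPrime p) := by
    intro y hy
    obtain ⟨x, hx, rfl⟩ := List.mem_map.mp hy
    exact (IsLocalization.AtPrime.to_map_mem_maximal_iff (Localization.AtPrime p) p x).mpr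
      (hmem x hx)
  have := length_le_idealDepth h1 h2
  rw [List.length_map] at this
  exact this

variable {A : Type u} [CommRing A] [IsLocalRing A] [IsNoetherianRing A]

theorem cm_localizedModule {M : Type u} [AddCommGroup M] [Module A M] [Module.Finite A M]
    (hM : IsCohenMacaulayModule A M) (p : PrimeSpectrum A) (hp : p ∈ Module.support A M) :
    IsCohenMacaulayModule (Localization.AtPrime p.asIdeal)
        (LocalizedModule p.asIdeal.primeCompl M) ∧
      Module.supportDim A M = ringKrullDim (A ⧸ p.asIdeal) +
        Module.supportDim (Localization.AtPrime p.asIdeal)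
          (LocalizedModule p.asIdeal.primeCompl M) := by
  have hnt := cm_nontrivial hM
  obtain ⟨n, hn, -⟩ := cm_exists_nat hM
  have hnn : (0 : WithBot ℕ∞) ≤ ringKrullDim (A ⧸ p.asIdeal) :=
    ringKrullDim_nonneg_of_nontrivial
  have hle : ringKrullDim (A ⧸ p.asIdeal) ≤ (n : WithBot ℕ∞) := by
    rw [← hn]; exact dim_quotient_le_supportDim_of_mem_support p hp
  obtain ⟨e, he, hen⟩ := exists_nat_of_le hnn hle
  have hr : ringKrullDim (A ⧸ p.asIdeal) + ((n - e : ℕ) : WithBot ℕ∞) =
      Module.supportDim A M := by
    rw [he, hn]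
    have : e + (n - e) = n := by omega
    exact_mod_cast this
  obtain ⟨xs, hlen, hmem, hreg⟩ := cm_exists_isWeaklyRegular_in_prime (n - e) M hM p hp hr
  have h1 := length_le_depth_localizedModule p.asIdeal xs hmem hreg
  have hntp : Nontrivial (LocalizedModule p.asIdeal.primeCompl M) := Module.mem_support_iff.mp hp
  have h2 := depth_le_supportDim (A := Localization.AtPrime p.asIdeal)
    (M := LocalizedModule p.asIdeal.primeCompl M)
  have h3 := supportDim_localizedModule_add_dim_quotient_le p.asIdeal M hp
  obtain ⟨k, hk⟩ := exists_nat_supportDim (A := Localization.AtPrime p.asIdeal)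
    (LocalizedModule p.asIdeal.primeCompl M)
  have hfin : depth (Localization.AtPrime p.asIdeal) (LocalizedModule p.asIdeal.primeCompl M) ≠ ⊤ :=
    idealDepth_ne_top (smul_top_ne_top_of_local _ _)
  obtain ⟨l, hl⟩ := ENat.ne_top_iff_exists.mp hfin
  rw [← hl, hlen] at h1
  rw [← hl, hk] at h2
  rw [hk, he, hn] at h3
  have e1 : n - e ≤ l := by exact_mod_cast h1
  have e2 : l ≤ k := by exact_mod_cast h2
  have e3 : k + e ≤ n := by exact_mod_cast h3
  have e4 : k = l := by omega
  have e5 : e + k = n := by omega
  constructor
  · unfold IsCohenMacaulayModule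
    rw [hk, ← hl, e4]; rfl
  · rw [hn, he, hk]
    exact_mod_cast e5.symm

end Groth.Agent.Helper8.Depth
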