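import Mathlib
import Groth.Agent.Lib.Helper8.Depth13

/-!
# Cohen–Macaulay modules: `dim M = dim M/IM + depth_I M`
-/

set_option autoImplicit false
universe u v

namespace Groth.Agent.Helper8.Depth

open RingTheory.Sequence LocCoh Pointwise IsLocalRing

section general

variable {R : Type*} [CommRing R] {M : Type*} [AddCommGroup M] [Module R M]

/-- If no element of `I` is regular on `M` then `I` lies in an associated prime. -/
theorem exists_le_associatedPrime_of_forall_not_isSMulRegular [IsNoetherianRing R]
    [Module.Finite R M] (I : Ideal R) (h : ∀ x ∈ I, ¬ IsSMulRegular M x) :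
    ∃ p ∈ associatedPrimes R M, I ≤ p := by
  classical
  have hfin := associatedPrimes.finite R M
  have hsub : (I : Set R) ⊆ ⋃ q ∈ associatedPrimes R M, (q : Set R) := by
    rw [biUnion_associatedPrimes_eq_compl_regular]
    intro x hx; exact h x hx
  have hsub' : (I : Set R) ⊆ ⋃ q ∈ (hfin.toFinset : Set (Ideal R)), (q : Set R) := by
    simpa using hsub
  rw [Ideal.subset_union_prime (f := fun q : Ideal R => q) ⊥ ⊥ (fun q hq _ _ => by
    have : q ∈ associatedPrimes R M := by simpa using hq
    exact this.isPrime)] at hsub'
  obtain ⟨q, hq, hIq⟩ := hsub'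
  exact ⟨q, by simpa using hq, hIq⟩

theorem supportDim_eq_of_support_eq {N : Type*} [AddCommGroup N] [Module R N]
    (h : Module.support R M = Module.support R N) :
    Module.supportDim R M = Module.supportDim R N := by
  unfold Module.supportDim
  rw [h]

theorem supportDim_quotient_quotSMulTop [Module.Finite R M] (I : Ideal R) {x : R} (hx : x ∈ I) :
    Module.supportDim R (QuotSMulTop x M ⧸ (I • (⊤ : Submodule R (QuotSMulTop x M)))) =
      Module.supportDim R (M ⧸ (I • (⊤ : Submodule R M))) := by
  apply supportDim_eq_of_support_eq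
  rw [Module.support_quotient, Module.support_quotient, Module.support_quotSMulTop,
    Set.inter_assoc]
  congr 1
  refine Set.inter_eq_right.mpr ?_
  intro q hq
  rw [PrimeSpectrum.mem_zeroLocus] at hq ⊢
  exact Set.singleton_subset_iff.mpr (hq hx)

end general

variable {A : Type u} [CommRing A] [IsLocalRing A] [IsNoetherianRing A]

theorem cm_supportDim_eq_add_idealDepth_aux (I : Ideal A) (hI : I ≠ ⊤) (d : ℕ) :
    ∀ (M : Type u) [AddCommGroup M] [Module A M] [Module.Finite A M],
      IsCohenMacaulayModule A M → idealDepth I M = (d : ℕ∞) →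
      Module.supportDim A M =
        Module.supportDim A (M ⧸ (I • (⊤ : Submodule A M))) + (d : WithBot ℕ∞) := by
  have hIm : I ≤ maximalIdeal A := le_maximalIdeal hI
  induction d with
  | zero =>
    intro M _ _ _ hM hd
    have hnt := cm_nontrivial hM
    have hnoreg : ∀ x ∈ I, ¬ IsSMulRegular M x := by
      intro x hx hreg
      have h1 : (([x] : List A).length : ℕ∞) ≤ idealDepth I M :=
        length_le_idealDepth ((isWeaklyRegular_singleton_iff M x).mpr hreg) (by simpa using hx)
      rw [hd] at h1
      simp at h1
    obtain ⟨p, hp, hIp⟩ := exists_le_associatedPrime_of_forall_not_isSMulRegular I hnoreg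
    have hpp : p.IsPrime := hp.isPrime
    have h1 := cm_dim_quotient_eq hM p hp
    have h2 : (⟨p, hpp⟩ : PrimeSpectrum A) ∈
        Module.support A (M ⧸ (I • (⊤ : Submodule A M))) := by
      rw [Module.support_quotient]
      exact ⟨mem_support_of_mem_associatedPrimes hp, by
        rw [PrimeSpectrum.mem_zeroLocus]; exact hIp⟩
    have h3 := dim_quotient_le_supportDim_of_mem_support _ h2
    simp only at h3
    rw [h1] at h3
    have h4 : Module.supportDim A (M ⧸ (I • (⊤ : Submodule A M))) ≤ Module.supportDim A M :=
      Module.supportDim_le_of_surjective _ (Submodule.mkQ_surjective _)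
    simp only [Nat.cast_zero, add_zero]
    exact le_antisymm h3 h4
  | succ d ih =>
    intro M _ _ _ hM hd
    have hnt := cm_nontrivial hM
    have hIM : I • (⊤ : Submodule A M) ≠ ⊤ := by
      intro htop
      have := idealDepth_of_smul_top_eq I M htop
      rw [this] at hd
      exact ENat.top_ne_coe (d + 1) hd
    have h1 : ((1 : ℕ) : ℕ∞) ≤ idealDepth I M := by
      rw [hd]; exact_mod_cast Nat.succ_le_succ (Nat.zero_le d)
    obtain ⟨rs, hlen, hreg, hmem⟩ := (le_idealDepth_iff hIM 1).mp h1
    match rs, hlen, hreg, hmem with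
    | [x], _, hreg, hmem =>
      have hxreg : IsSMulRegular M x := (isWeaklyRegular_singleton_iff M x).mp hreg
      have hxI : x ∈ I := hmem x (by simp)
      have hxm : x ∈ maximalIdeal A := hIm hxI
      have hQ := cm_quotSMulTop hM hxm hxreg
      have hdQ : idealDepth I (QuotSMulTop x M) = (d : ℕ∞) := by
        have h2 := idealDepth_quotSMulTop_add_one hIM hxI hxreg
        rw [hd] at h2
        have hne : idealDepth I (QuotSMulTop x M) ≠ ⊤ :=
          idealDepth_ne_top (smul_top_quotSMulTop_ne_top hxI hIM)
        obtain ⟨l, hl⟩ := ENat.ne_top_iff_exists.mp hne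
        rw [← hl] at h2 ⊢
        have : l + 1 = d + 1 := by exact_mod_cast h2
        have : l = d := by omega
        rw [this]
      have h3 := ih (QuotSMulTop x M) hQ hdQ
      rw [supportDim_quotient_quotSMulTop I hxI] at h3
      rw [← Module.supportDim_quotSMulTop_succ_eq_supportDim hxreg hxm, h3]
      push_cast
      rw [add_assoc]

theorem cm_supportDim_eq_add_idealDepth (I : Ideal A) (hI : I ≠ ⊤) (M : Type u) [AddCommGroup M]
    [Module A M] [Module.Finite A M] (hM : IsCohenMacaulayModule A M) :
    Module.supportDim A M =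
      Module.supportDim A (M ⧸ (I • (⊤ : Submodule A M))) +
        ((idealDepth I M : ℕ∞) : WithBot ℕ∞) := by
  have hnt := cm_nontrivial hM
  have hIM : I • (⊤ : Submodule A M) ≠ ⊤ := by
    intro htop
    have h0 : I • (⊤ : Submodule A M) ≤ maximalIdeal A • (⊤ : Submodule A M) :=
      Submodule.smul_mono_left (le_maximalIdeal hI)
    rw [htop] at h0
    exact smul_top_ne_top_of_local A M (top_le_iff.mp h0)
  obtain ⟨d, hd⟩ := ENat.ne_top_iff_exists.mp (idealDepth_ne_top hIM)
  rw [← hd]
  exact cm_supportDim_eq_add_idealDepth_aux I hI d M hM hd.symm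

end Groth.Agent.Helper8.Depth
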