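import Mathlib
import Groth.Agent.Lib.Helper8.Depth14

/-!
# Cohen–Macaulay local rings: complete intersections through an equidimensional ideal
-/

set_option autoImplicit false
universe u v

namespace Groth.Agent.Helper8.Depth

open RingTheory.Sequence LocCoh Pointwise IsLocalRing

/-- `R ⧸ J • ⊤` is `R ⧸ J`. -/
noncomputable def quotSMulTopRingEquiv {R : Type*} [CommRing R] (J : Ideal R) :
    (R ⧸ (J • (⊤ : Submodule R R))) ≃ₗ[R] R ⧸ J :=
  Submodule.quotEquivOfEq _ _ (by simp)

theorem supportDim_quot_smul_top_self {R : Type*} [CommRing R] (J : Ideal R) :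
    Module.supportDim R (R ⧸ (J • (⊤ : Submodule R R))) = ringKrullDim (R ⧸ J) := by
  rw [Module.supportDim_eq_of_equiv (quotSMulTopRingEquiv J),
    Module.supportDim_quotient_eq_ringKrullDim]

theorem cm_ring_exists_regular_sequence (R : Type u) [CommRing R]
    [IsCohenMacaulayLocalRing R] (I : Ideal R)
    (hI : ∀ p ∈ I.minimalPrimes, ringKrullDim (R ⧸ p) = ringKrullDim (R ⧸ I)) :
    ∃ rs : List R, IsWeaklyRegular R rs ∧ Ideal.ofList rs ≤ I ∧
      ringKrullDim (R ⧸ Ideal.ofList rs) = ringKrullDim (R ⧸ I) ∧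
      I.minimalPrimes ⊆ (Ideal.ofList rs).minimalPrimes := by
  have hM : IsCohenMacaulayModule R R := IsCohenMacaulayLocalRing.supportDim_eq_depth
  by_cases hItop : I = ⊤
  · subst hItop
    refine ⟨[1], (isWeaklyRegular_singleton_iff R 1).mpr (IsSMulRegular.one R), le_top, ?_, ?_⟩
    · have h1 : Ideal.ofList ([1] : List R) = ⊤ := by
        rw [Ideal.ofList_singleton]; exact Ideal.span_singleton_one
      rw [h1]
    · rw [Ideal.minimalPrimes_top]; exact Set.empty_subset _
  · have hIR : I • (⊤ : Submodule R R) ≠ ⊤ := by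
      intro h
      apply hItop
      simpa using h
    obtain ⟨rs, hreg, hmem, -, hlen⟩ := exists_maximal_isWeaklyRegular (M := R) hIR
    have hle : Ideal.ofList rs ≤ I := Ideal.span_le.mpr hmem
    have hIm : I ≤ maximalIdeal R := le_maximalIdeal hItop
    have hmemm : ∀ x ∈ rs, x ∈ maximalIdeal R := fun x hx => hIm (hmem x hx)
    obtain ⟨hiff, hcm⟩ := cm_list rs hmemm R hM
    have hN := hcm hreg
    have h1 := hiff.mp hreg
    have h2 := cm_supportDim_eq_add_idealDepth I hItop R hM
    rw [← hlen, supportDim_quot_smul_top_self] at h2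
    rw [supportDim_quot_smul_top_self] at h1
    obtain ⟨n, hn, -⟩ := cm_exists_nat hM
    obtain ⟨k, hk, -⟩ := cm_exists_nat hN
    rw [supportDim_quot_smul_top_self] at hk
    have hdimeq : ringKrullDim (R ⧸ Ideal.ofList rs) = ringKrullDim (R ⧸ I) := by
      rw [hn] at h1 h2
      rw [hk] at h1 ⊢
      have hnt : Nontrivial (R ⧸ I) := Ideal.Quotient.nontrivial_iff.mpr hItop
      have hnn : (0 : WithBot ℕ∞) ≤ ringKrullDim (R ⧸ I) := ringKrullDim_nonneg_of_nontrivial
      have hle' : ringKrullDim (R ⧸ I) ≤ (n : WithBot ℕ∞) := by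
        rw [← hn, Module.supportDim_self_eq_ringKrullDim]
        exact ringKrullDim_le_of_surjective (Ideal.Quotient.mk I) Ideal.Quotient.mk_surjective
      obtain ⟨e, he, -⟩ := exists_nat_of_le hnn hle'
      rw [he] at h2 ⊢
      have e1 : k + rs.length = n := by exact_mod_cast h1
      have e2 : n = e + rs.length := by exact_mod_cast h2
      have : k = e := by omega
      rw [this]
    refine ⟨rs, hreg, hle, hdimeq, ?_⟩
    intro p hp
    have hpp : p.IsPrime := hp.1.1
    have hrsp : Ideal.ofList rs ≤ p := hle.trans hp.1.2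
    obtain ⟨q, hqmin, hqp⟩ := Ideal.exists_minimalPrimes_le hrsp
    have hann : Module.annihilator R (R ⧸ (Ideal.ofList rs • (⊤ : Submodule R R))) =
        Ideal.ofList rs := by
      rw [(quotSMulTopRingEquiv (Ideal.ofList rs)).annihilator_eq, Ideal.annihilator_quotient]
    have hqass : q ∈ associatedPrimes R (R ⧸ (Ideal.ofList rs • (⊤ : Submodule R R))) := by
      apply Module.associatedPrimes.minimalPrimes_annihilator_subset_associatedPrimes
      rw [hann]; exact hqmin
    have h3 := cm_dim_quotient_eq hN q hqass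
    rw [supportDim_quot_smul_top_self, hk] at h3
    have h4 : ringKrullDim (R ⧸ p) = (k : WithBot ℕ∞) := by
      rw [hI p hp, ← hdimeq, hk]
    have : q.IsPrime := hqmin.1.1
    have hqeq := eq_of_le_of_dim_quotient_eq hqp k h3 h4
    rw [← hqeq]; exact hqmin

end Groth.Agent.Helper8.Depth
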