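import Mathlib
import Groth.Agent.Lib.Helper8.Depth15

/-!
# Depth is insensitive to a finite local change of rings
-/

set_option autoImplicit false
universe u v

namespace Groth.Agent.Helper8.Depth

open RingTheory.Sequence LocCoh Pointwise IsLocalRing

section

variable (A B : Type u) [CommRing A] [CommRing B] [IsLocalRing A] [IsLocalRing B]
  [IsNoetherianRing A] [IsNoetherianRing B] [Algebra A B] [IsLocalHom (algebraMap A B)]
  (M : Type u) [AddCommGroup M] [Module B M] [Module A M] [IsScalarTower A B M]
  [Module.Finite A M]

include A in
theorem finite_of_tower : Module.Finite B M := Module.Finite.of_restrictScalars_finite A B M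

theorem isArtinian_torsionBySet_maximalIdeal :
    IsArtinian A (Submodule.torsionBySet A M (maximalIdeal A : Set A)) := by
  letI : Field (A ⧸ maximalIdeal A) := Ideal.Quotient.field (maximalIdeal A)
  have h1 : Module.Finite A (Submodule.torsionBySet A M (maximalIdeal A : Set A)) :=
    inferInstance
  have h2 : Module.Finite (A ⧸ maximalIdeal A)
      (Submodule.torsionBySet A M (maximalIdeal A : Set A)) :=
    Module.Finite.of_restrictScalars_finite A _ _
  have h3 : IsArtinian (A ⧸ maximalIdeal A)
      (Submodule.torsionBySet A M (maximalIdeal A : Set A)) := inferInstance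
  exact isArtinian_of_surjective_algebraMap (R := A ⧸ maximalIdeal A)
    (Ideal.Quotient.mk_surjective)

/-- If the maximal ideal of `A` is associated to `M`, so is the maximal ideal of `B`. -/
theorem maximalIdeal_mem_associatedPrimes_of_tower
    (h : maximalIdeal A ∈ associatedPrimes A M) : maximalIdeal B ∈ associatedPrimes B M := by
  have hfinB : Module.Finite B M := finite_of_tower A B M
  rw [← forall_not_isSMulRegular_iff]
  intro b hb hreg
  obtain ⟨-, n, hn⟩ := isAssociatedPrime_iff.mp h
  -- the socle-like submodule
  let V : Submodule A M := Submodule.torsionBySet A M (maximalIdeal A : Set A)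
  have hmemV : ∀ m : M, m ∈ V ↔ ∀ a ∈ maximalIdeal A, a • m = 0 := by
    intro m
    rw [Submodule.mem_torsionBySet_iff]
    exact ⟨fun h a ha => h ⟨a, ha⟩, fun h a => h a.1 a.2⟩
  have hnV : n ∈ V := by
    rw [hmemV]
    intro a ha
    rw [hn, Submodule.mem_colon_singleton] at ha
    simpa using ha
  have hn0 : n ≠ 0 := by
    rintro rfl
    have h1 : (1 : A) ∈ maximalIdeal A := by
      rw [hn, Submodule.mem_colon_singleton]; simp
    exact (maximalIdeal.isMaximal A).ne_top ((Ideal.eq_top_iff_one _).mpr h1)
  have hsmulV : ∀ v ∈ V, b • v ∈ V := by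
    intro v hv
    rw [hmemV] at hv ⊢
    intro a ha
    rw [smul_comm, hv a ha, smul_zero]
  let f : V →ₗ[A] V :=
    { toFun := fun v => ⟨b • v.1, hsmulV v.1 v.2⟩
      map_add' := fun v w => Subtype.ext (smul_add b v.1 w.1)
      map_smul' := fun a v => Subtype.ext (smul_comm b a v.1) }
  have hfinj : Function.Injective f := by
    intro v w hvw
    have : b • v.1 = b • w.1 := congrArg Subtype.val hvw
    exact Subtype.ext (hreg this)
  have hart : IsArtinian A V := isArtinian_torsionBySet_maximalIdeal A M
  have hfsurj : Function.Surjective f := IsArtinian.surjective_of_injective_endomorphism f hfinj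
  -- the same set as a `B`-submodule
  let VB : Submodule B M :=
    { carrier := V
      add_mem' := fun hx hy => V.add_mem hx hy
      zero_mem' := V.zero_mem
      smul_mem' := fun c x hx => by
        change c • x ∈ V
        change x ∈ V at hx
        rw [hmemV] at hx ⊢
        intro a ha
        rw [smul_comm, hx a ha, smul_zero] }
  have hVBfg : VB.FG := IsNoetherian.noetherian VB
  have hle : VB ≤ maximalIdeal B • VB := by
    intro v hv
    obtain ⟨w, hw⟩ := hfsurj ⟨v, hv⟩
    have hw' : b • w.1 = v := congrArg Subtype.val hw
    rw [← hw']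
    exact Submodule.smul_mem_smul hb w.2
  have hbot := Submodule.eq_bot_of_le_smul_of_le_jacobson_bot (maximalIdeal B) VB hVBfg hle
    (maximalIdeal_le_jacobson _)
  have : n ∈ VB := hnV
  rw [hbot] at this
  exact hn0 this

end

end Groth.Agent.Helper8.Depth
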