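import Mathlib
import Groth.Agent.Lib.Helper8.Depth16

/-!
# Depth is insensitive to a finite local change of rings (main theorem)
-/

set_option autoImplicit false
universe u v

namespace Groth.Agent.Helper8.Depth

open RingTheory.Sequence LocCoh Pointwise IsLocalRing

section

variable (A B : Type u) [CommRing A] [CommRing B] [Algebra A B]
  (M : Type u) [AddCommGroup M] [Module B M] [Module A M] [IsScalarTower A B M]

/-- `M/xM` over `A` is `M/(x·1)M` over `B`, `A`-linearly. -/
noncomputable def quotSMulTopTowerEquiv (x : A) :
    QuotSMulTop x M ≃ₗ[A] QuotSMulTop (algebraMap A B x) M :=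
  Submodule.quotEquivOfEq (x • (⊤ : Submodule A M))
    ((algebraMap A B x • (⊤ : Submodule B M)).restrictScalars A) (by
      ext m
      rw [Submodule.restrictScalars_mem, Submodule.mem_smul_pointwise_iff_exists,
        Submodule.mem_smul_pointwise_iff_exists]
      simp only [Submodule.mem_top, true_and, algebraMap_smul]) ≪≫ₗ
    Submodule.Quotient.restrictScalarsEquiv A (algebraMap A B x • (⊤ : Submodule B M))

end

theorem finite_quotient_tower (A B : Type u) [CommRing A] [CommRing B] [Algebra A B]
    (M : Type u) [AddCommGroup M] [Module B M] [Module A M] [IsScalarTower A B M]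
    [Module.Finite A M] (P : Submodule B M) : Module.Finite A (M ⧸ P) := by
  let f : M →ₗ[A] (M ⧸ P) := (Submodule.mkQ P).restrictScalars A
  have hf : Function.Surjective f := Submodule.mkQ_surjective P
  exact Module.Finite.of_surjective f hf

variable (A B : Type u) [CommRing A] [CommRing B] [IsLocalRing A] [IsLocalRing B]
  [IsNoetherianRing A] [IsNoetherianRing B] [Algebra A B] [IsLocalHom (algebraMap A B)]

theorem algebraMap_mem_maximalIdeal {x : A} (hx : x ∈ maximalIdeal A) :
    algebraMap A B x ∈ maximalIdeal B := by
  rw [mem_maximalIdeal, mem_nonunits_iff] at hx ⊢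
  exact fun h => hx (IsLocalHom.map_nonunit x h)

theorem depth_eq_of_tower_aux (d : ℕ) :
    ∀ (M : Type u) [AddCommGroup M] [Module B M] [Module A M] [IsScalarTower A B M]
      [Module.Finite A M], depth A M = (d : ℕ∞) → depth B M = (d : ℕ∞) := by
  induction d with
  | zero =>
    intro M _ _ _ _ _ hd
    have hfinB : Module.Finite B M := finite_of_tower A B M
    have h0 : depth A M = 0 := by simpa using hd
    rw [depth_eq_zero_iff] at h0
    have := maximalIdeal_mem_associatedPrimes_of_tower A B M h0
    rw [← depth_eq_zero_iff] at this
    simpa using this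
  | succ d ih =>
    intro M _ _ _ _ _ hd
    have hfinB : Module.Finite B M := finite_of_tower A B M
    have hnt : Nontrivial M := by
      by_contra hcon
      rw [not_nontrivial_iff_subsingleton] at hcon
      rw [depth_eq_top_of_subsingleton] at hd
      exact ENat.top_ne_coe _ hd
    have hA : maximalIdeal A • (⊤ : Submodule A M) ≠ ⊤ := smul_top_ne_top_of_local A M
    have hB : maximalIdeal B • (⊤ : Submodule B M) ≠ ⊤ := smul_top_ne_top_of_local B M
    have h1 : ((1 : ℕ) : ℕ∞) ≤ idealDepth (maximalIdeal A) M := by
      change _ ≤ depth A M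
      rw [hd]; exact_mod_cast Nat.succ_le_succ (Nat.zero_le d)
    obtain ⟨rs, hlen, hreg, hmem⟩ := (le_idealDepth_iff hA 1).mp h1
    match rs, hlen, hreg, hmem with
    | [x], _, hreg, hmem =>
      have hxreg : IsSMulRegular M x := (isWeaklyRegular_singleton_iff M x).mp hreg
      have hxm : x ∈ maximalIdeal A := hmem x (by simp)
      have hx'm : algebraMap A B x ∈ maximalIdeal B := algebraMap_mem_maximalIdeal A B hxm
      have hx'reg : IsSMulRegular M (algebraMap A B x) := by
        intro m1 m2 h
        apply hxreg
        simpa only [algebraMap_smul] using h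
      have hfinN : Module.Finite A (QuotSMulTop (algebraMap A B x) M) :=
        finite_quotient_tower A B M _
      have e := quotSMulTopTowerEquiv A B M x
      have h2 : depth A (QuotSMulTop x M) + 1 = depth A M :=
        idealDepth_quotSMulTop_add_one hA hxm hxreg
      have h3 : depth A (QuotSMulTop (algebraMap A B x) M) = (d : ℕ∞) := by
        have h4 : depth A (QuotSMulTop (algebraMap A B x) M) = depth A (QuotSMulTop x M) :=
          (idealDepth_congr e).symm
        rw [h4]
        rw [hd] at h2
        have hne : depth A (QuotSMulTop x M) ≠ ⊤ :=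
          idealDepth_ne_top (smul_top_quotSMulTop_ne_top hxm hA)
        obtain ⟨l, hl⟩ := ENat.ne_top_iff_exists.mp hne
        rw [← hl] at h2 ⊢
        have : l + 1 = d + 1 := by exact_mod_cast h2
        have : l = d := by omega
        rw [this]
      have h5 := ih (QuotSMulTop (algebraMap A B x) M) h3
      have h6 : depth B (QuotSMulTop (algebraMap A B x) M) + 1 = depth B M :=
        idealDepth_quotSMulTop_add_one hB hx'm hx'reg
      rw [← h6, h5]
      push_cast
      rfl

theorem depth_eq_of_tower (M : Type u) [AddCommGroup M] [Module B M] [Module A M]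
    [IsScalarTower A B M] [Module.Finite A M] : depth A M = depth B M := by
  rcases subsingleton_or_nontrivial M with hM | hM
  · rw [depth_eq_top_of_subsingleton, depth_eq_top_of_subsingleton]
  · have hA : maximalIdeal A • (⊤ : Submodule A M) ≠ ⊤ := smul_top_ne_top_of_local A M
    obtain ⟨d, hd⟩ := ENat.ne_top_iff_exists.mp (idealDepth_ne_top hA)
    have h1 : depth A M = (d : ℕ∞) := hd.symm
    rw [h1, depth_eq_of_tower_aux A B d M h1]

end Groth.Agent.Helper8.Depth
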