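import Mathlib
import Groth.Agent.Lib.Helper8.Depth17

/-!
# The depth along an ideal is the infimum of the depths of the localizations
-/

set_option autoImplicit false
universe u v

namespace Groth.Agent.Helper8.Depth

open RingTheory.Sequence LocCoh Pointwise IsLocalRing

section

variable {A : Type u} [CommRing A] (p : Ideal A) [p.IsPrime] (M : Type v) [AddCommGroup M]
  [Module A M]

/-- Localization commutes with the quotient by `I • ⊤`. -/
noncomputable def localizedQuotSMulTopEquiv (I : Ideal A) :
    LocalizedModule p.primeCompl (M ⧸ (I • (⊤ : Submodule A M))) ≃ₗ[Localization.AtPrime p]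
      (LocalizedModule p.primeCompl M ⧸ (I.map (algebraMap A (Localization.AtPrime p)) •
        (⊤ : Submodule (Localization.AtPrime p) (LocalizedModule p.primeCompl M)))) :=
  (localizedQuotientEquiv _ _).symm ≪≫ₗ
    Submodule.quotEquivOfEq _ _ (by rw [Submodule.localized,
      Submodule.localized'_smul, Ideal.localized'_eq_map, Submodule.localized'_top])

/-- Localization commutes with the quotient by a sequence. -/
noncomputable def localizedQuotOfListEquiv (xs : List A) :
    LocalizedModule p.primeCompl (M ⧸ (Ideal.ofList xs • (⊤ : Submodule A M)))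
      ≃ₗ[Localization.AtPrime p]
      (LocalizedModule p.primeCompl M ⧸
        (Ideal.ofList (xs.map (algebraMap A (Localization.AtPrime p))) •
          (⊤ : Submodule (Localization.AtPrime p) (LocalizedModule p.primeCompl M)))) :=
  localizedQuotSMulTopEquiv p M (Ideal.ofList xs) ≪≫ₗ
    Submodule.quotEquivOfEq _ _ (by rw [Ideal.map_ofList])

end

variable {A : Type u} [CommRing A] [IsNoetherianRing A]

/-- If `p` is associated to `M/(xs)M` for a weakly regular sequence `xs` inside `p`, then the depth
of `M_p` is the length of `xs`. -/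
theorem depth_localizedModule_eq_length {M : Type u} [AddCommGroup M] [Module A M]
    [Module.Finite A M] (p : Ideal A) [p.IsPrime] (xs : List A) (hmem : ∀ x ∈ xs, x ∈ p)
    (hreg : IsWeaklyRegular M xs)
    (hp : p ∈ associatedPrimes A (M ⧸ (Ideal.ofList xs • (⊤ : Submodule A M)))) :
    depth (Localization.AtPrime p) (LocalizedModule p.primeCompl M) = (xs.length : ℕ∞) := by
  set Ap := Localization.AtPrime p
  set Mp := LocalizedModule p.primeCompl M
  set ys := xs.map (algebraMap A Ap) with hys
  have h1 : IsWeaklyRegular Mp ys :=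
    IsWeaklyRegular.of_isLocalizedModule Ap p.primeCompl
      (LocalizedModule.mkLinearMap p.primeCompl M) hreg
  have h2 : ∀ y ∈ ys, y ∈ maximalIdeal Ap := by
    intro y hy
    obtain ⟨x, hx, rfl⟩ := List.mem_map.mp hy
    exact (IsLocalization.AtPrime.to_map_mem_maximal_iff Ap p x).mpr (hmem x hx)
  have hass := Module.associatedPrimes.mem_associatedPrimes_atPrime_of_mem_associatedPrimes hp
  have e := localizedQuotOfListEquiv p M xs
  have hass' : maximalIdeal Ap ∈ associatedPrimes Ap (Mp ⧸ (Ideal.ofList ys • (⊤ : Submodule Ap Mp))) := by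
    rw [← LinearEquiv.AssociatedPrimes.eq e]; exact hass
  have hntQ : Nontrivial (Mp ⧸ (Ideal.ofList ys • (⊤ : Submodule Ap Mp))) :=
    nontrivial_of_mem_associatedPrimes hass'
  have hntMp : Nontrivial Mp := by
    by_contra hcon
    rw [not_nontrivial_iff_subsingleton] at hcon
    have : Subsingleton (Mp ⧸ (Ideal.ofList ys • (⊤ : Submodule Ap Mp))) :=
      (Submodule.mkQ_surjective _).subsingleton
    exact not_subsingleton _ this
  have hne : maximalIdeal Ap • (⊤ : Submodule Ap Mp) ≠ ⊤ := smul_top_ne_top_of_local Ap Mp
  have hmax : ∀ r ∈ maximalIdeal Ap, ¬ IsWeaklyRegular Mp (ys ++ [r]) := by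
    intro r hr hcon
    have h3 := ((isWeaklyRegular_append_iff Mp ys [r]).mp hcon).2
    rw [isWeaklyRegular_singleton_iff] at h3
    exact ((forall_not_isSMulRegular_iff _ _).mpr hass') r hr h3
  have := length_eq_idealDepth_of_maximal hne ys h1 h2 hmax
  rw [hys, List.length_map] at this
  exact this.symm

theorem idealDepth_eq_iInf_depth_localization (I : Ideal A) (M : Type u) [AddCommGroup M]
    [Module A M] [Module.Finite A M] :
    idealDepth I M = ⨅ (p : PrimeSpectrum A) (_ : I ≤ p.asIdeal),
      depth (Localization.AtPrime p.asIdeal) (LocalizedModule p.asIdeal.primeCompl M) := by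
  by_cases hIM : I • (⊤ : Submodule A M) = ⊤
  · rw [idealDepth_of_smul_top_eq I M hIM]
    symm
    rw [iInf₂_eq_top]
    intro p hp
    have hsub : Subsingleton (LocalizedModule p.asIdeal.primeCompl M) := by
      by_contra hcon
      rw [not_subsingleton_iff_nontrivial] at hcon
      have h1 : p ∈ Module.support A M := Module.mem_support_iff.mpr hcon
      have h2 : p ∈ Module.support A (M ⧸ (I • (⊤ : Submodule A M))) := by
        rw [Module.support_quotient]
        exact ⟨h1, by rw [PrimeSpectrum.mem_zeroLocus]; exact hp⟩
      have h3 : Subsingleton (M ⧸ (I • (⊤ : Submodule A M))) := by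
        rw [Submodule.Quotient.subsingleton_iff]; exact hIM
      rw [Module.support_eq_empty] at h2
      exact h2
    exact depth_eq_top_of_subsingleton _ _
  · apply le_antisymm
    · refine le_iInf₂ fun p hp => ?_
      rw [idealDepth_of_smul_top_ne I M hIM]
      refine iSup₂_le fun rs hrs => ?_
      exact length_le_depth_localizedModule p.asIdeal rs (fun x hx => hp (hrs.2 x hx)) hrs.1
    · obtain ⟨xs, hreg, hmem, hmax, hlen⟩ := exists_maximal_isWeaklyRegular hIM
      have hnoreg : ∀ r ∈ I,
          ¬ IsSMulRegular (M ⧸ (Ideal.ofList xs • (⊤ : Submodule A M))) r := by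
        intro r hr hcon
        refine hmax r hr ?_
        rw [isWeaklyRegular_append_iff, isWeaklyRegular_singleton_iff]
        exact ⟨hreg, hcon⟩
      obtain ⟨p, hp, hIp⟩ := exists_le_associatedPrime_of_forall_not_isSMulRegular I hnoreg
      have hpp : p.IsPrime := hp.isPrime
      have h1 := depth_localizedModule_eq_length p xs (fun x hx => hIp (hmem x hx)) hreg hp
      rw [← hlen, ← h1]
      exact iInf₂_le (⟨p, hpp⟩ : PrimeSpectrum A) hIp

end Groth.Agent.Helper8.Depth
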