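import Mathlib
import Groth.Agent.Lib.Helper8.Depth18

/-!
# Cohen–Macaulay rings: depth along an ideal equals its height
-/

set_option autoImplicit false
universe u v

namespace Groth.Agent.Helper8.Depth

open RingTheory.Sequence LocCoh Pointwise IsLocalRing

variable {R : Type u} [CommRing R]

/-- The localized module of the ring is the localization. -/
noncomputable def localizedModuleSelfEquiv (p : Ideal R) [p.IsPrime] :
    LocalizedModule p.primeCompl R ≃ₗ[Localization.AtPrime p] Localization.AtPrime p :=
  IsLocalizedModule.mapEquiv p.primeCompl (LocalizedModule.mkLinearMap p.primeCompl R)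
    (Algebra.linearMap R (Localization.AtPrime p)) (Localization.AtPrime p)
    (LinearEquiv.refl R R)

theorem depth_localizedModule_self (p : Ideal R) [p.IsPrime] :
    depth (Localization.AtPrime p) (LocalizedModule p.primeCompl R) =
      depth (Localization.AtPrime p) (Localization.AtPrime p) :=
  idealDepth_congr (localizedModuleSelfEquiv p)

theorem height_eq_iInf_height_primes (a : Ideal R) :
    a.height = ⨅ (p : PrimeSpectrum R) (_ : a ≤ p.asIdeal), p.asIdeal.height := by
  apply le_antisymm
  · refine le_iInf₂ fun p hp => Ideal.height_mono hp
  · rw [Ideal.height_eq_inf_minimalPrimes]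
    refine le_iInf₂ fun J hJ => ?_
    have : J.IsPrime := hJ.isPrime
    exact iInf₂_le (⟨J, this⟩ : PrimeSpectrum R) hJ.1.2

theorem supportDim_localization_self (p : Ideal R) [p.IsPrime] :
    Module.supportDim (Localization.AtPrime p) (Localization.AtPrime p) =
      (p.height : WithBot ℕ∞) := by
  rw [Module.supportDim_self_eq_ringKrullDim,
    IsLocalization.AtPrime.ringKrullDim_eq_height p (Localization.AtPrime p)]

theorem isCohenMacaulayRing_iff_idealDepth_eq_height [IsNoetherianRing R] :
    IsCohenMacaulayRing R ↔ ∀ a : Ideal R, a ≠ ⊤ → idealDepth a R = a.height := by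
  constructor
  · intro hCM a _
    rw [idealDepth_eq_iInf_depth_localization, height_eq_iInf_height_primes]
    refine iInf_congr fun p => iInf_congr fun hp => ?_
    have h1 := hCM.isCohenMacaulayLocalRing_localization p.asIdeal
    have h2 := h1.supportDim_eq_depth
    rw [supportDim_localization_self] at h2
    rw [depth_localizedModule_self]
    exact (WithBot.coe_injective h2).symm
  · intro h
    refine ⟨fun p hp => ?_⟩
    have h1 := h p hp.ne_top
    have h2 : idealDepth p R ≤
        depth (Localization.AtPrime p) (LocalizedModule p.primeCompl R) := by
      rw [idealDepth_eq_iInf_depth_localization]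
      exact iInf₂_le (⟨p, hp⟩ : PrimeSpectrum R) le_rfl
    rw [depth_localizedModule_self, h1] at h2
    have h3 := depth_le_supportDim (A := Localization.AtPrime p) (M := Localization.AtPrime p)
    rw [supportDim_localization_self] at h3
    have h4 : depth (Localization.AtPrime p) (Localization.AtPrime p) ≤ p.height := by
      exact_mod_cast h3
    refine { supportDim_eq_depth := ?_ }
    rw [supportDim_localization_self, le_antisymm h4 h2]

end Groth.Agent.Helper8.Depth
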