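import Mathlib
import Groth.Agent.Lib.Helper8.Depth19

/-!
# Depth along an ideal is insensitive to a finite change of rings
-/

set_option autoImplicit false
universe u v

namespace Groth.Agent.Helper8.Depth

open RingTheory.Sequence LocCoh Pointwise IsLocalRing

variable (A B : Type u) [CommRing A] [CommRing B] [Algebra A B]

theorem smul_top_tower_eq_top_iff (a : Ideal A) (M : Type v) [AddCommGroup M] [Module B M]
    [Module A M] [IsScalarTower A B M] :
    a.map (algebraMap A B) • (⊤ : Submodule B M) = ⊤ ↔ a • (⊤ : Submodule A M) = ⊤ := by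
  have h1 := Ideal.smul_restrictScalars (S := B) a (⊤ : Submodule B M)
  rw [Submodule.restrictScalars_top] at h1
  constructor
  · intro h
    rw [← h1, h, Submodule.restrictScalars_top]
  · intro h
    rw [h] at h1
    apply Submodule.restrictScalars_injective A
    rw [h1, Submodule.restrictScalars_top]

theorem smul_eq_zero_of_mem_map {a : Ideal A} {M : Type v} [AddCommGroup M] [Module B M]
    [Module A M] [IsScalarTower A B M] {n : M} (hn : ∀ x ∈ a, x • n = 0) {b : B}
    (hb : b ∈ a.map (algebraMap A B)) : b • n = 0 := by
  have hle : a.map (algebraMap A B) ≤ LinearMap.ker (LinearMap.toSpanSingleton B M n) := by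
    rw [Ideal.map_le_iff_le_comap]
    intro x hx
    rw [Ideal.mem_comap, LinearMap.mem_ker, LinearMap.toSpanSingleton_apply, algebraMap_smul]
    exact hn x hx
  have := hle hb
  rwa [LinearMap.mem_ker, LinearMap.toSpanSingleton_apply] at this

variable [IsNoetherianRing A] [IsNoetherianRing B]

theorem idealDepth_tower_aux (a : Ideal A) (d : ℕ) :
    ∀ (M : Type u) [AddCommGroup M] [Module B M] [Module A M] [IsScalarTower A B M]
      [Module.Finite A M] [Module.Finite B M], idealDepth a M = (d : ℕ∞) →
      idealDepth (a.map (algebraMap A B)) M = (d : ℕ∞) := by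
  induction d with
  | zero =>
    intro M _ _ _ _ _ _ hd
    have hA : a • (⊤ : Submodule A M) ≠ ⊤ := by
      intro h
      rw [idealDepth_of_smul_top_eq a M h] at hd
      exact ENat.top_ne_coe _ hd
    have hB : a.map (algebraMap A B) • (⊤ : Submodule B M) ≠ ⊤ :=
      fun h => hA ((smul_top_tower_eq_top_iff A B a M).mp h)
    have hnoreg : ∀ x ∈ a, ¬ IsSMulRegular M x := by
      intro x hx hreg
      have h1 : (([x] : List A).length : ℕ∞) ≤ idealDepth a M :=
        length_le_idealDepth ((isWeaklyRegular_singleton_iff M x).mpr hreg) (by simpa using hx)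
      rw [hd] at h1
      simp at h1
    obtain ⟨p, hp, hap⟩ := exists_le_associatedPrime_of_forall_not_isSMulRegular a hnoreg
    obtain ⟨hpp, n, hn⟩ := isAssociatedPrime_iff.mp hp
    have hn0 : n ≠ 0 := by
      rintro rfl
      have h1 : (1 : A) ∈ p := by
        rw [hn, Submodule.mem_colon_singleton]; simp
      exact hpp.ne_top ((Ideal.eq_top_iff_one _).mpr h1)
    have hkill : ∀ x ∈ a, x • n = 0 := by
      intro x hx
      have := hap hx
      rw [hn, Submodule.mem_colon_singleton] at this
      simpa using this
    have := length_eq_idealDepth_of_maximal hB [] (IsWeaklyRegular.nil B M) (by simp)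
      (fun b hb hcon => by
        simp only [List.nil_append, isWeaklyRegular_singleton_iff] at hcon
        have h0 : b • n = b • (0 : M) := by
          rw [smul_zero]; exact smul_eq_zero_of_mem_map A B hkill hb
        exact hn0 (hcon h0))
    simpa using this.symm
  | succ d ih =>
    intro M _ _ _ _ _ _ hd
    have hA : a • (⊤ : Submodule A M) ≠ ⊤ := by
      intro h
      rw [idealDepth_of_smul_top_eq a M h] at hd
      exact ENat.top_ne_coe _ hd
    have hB : a.map (algebraMap A B) • (⊤ : Submodule B M) ≠ ⊤ :=
      fun h => hA ((smul_top_tower_eq_top_iff A B a M).mp h)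
    have h1 : ((1 : ℕ) : ℕ∞) ≤ idealDepth a M := by
      rw [hd]; exact_mod_cast Nat.succ_le_succ (Nat.zero_le d)
    obtain ⟨rs, hlen, hreg, hmem⟩ := (le_idealDepth_iff hA 1).mp h1
    match rs, hlen, hreg, hmem with
    | [x], _, hreg, hmem =>
      have hxreg : IsSMulRegular M x := (isWeaklyRegular_singleton_iff M x).mp hreg
      have hxa : x ∈ a := hmem x (by simp)
      have hx'a : algebraMap A B x ∈ a.map (algebraMap A B) := Ideal.mem_map_of_mem _ hxa
      have hx'reg : IsSMulRegular M (algebraMap A B x) := by
        intro m1 m2 h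
        apply hxreg
        simpa only [algebraMap_smul] using h
      have hfinN : Module.Finite A (QuotSMulTop (algebraMap A B x) M) :=
        finite_quotient_tower A B M _
      have e := quotSMulTopTowerEquiv A B M x
      have h2 : idealDepth a (QuotSMulTop x M) + 1 = idealDepth a M :=
        idealDepth_quotSMulTop_add_one hA hxa hxreg
      have h3 : idealDepth a (QuotSMulTop (algebraMap A B x) M) = (d : ℕ∞) := by
        rw [← idealDepth_congr e]
        rw [hd] at h2
        have hne : idealDepth a (QuotSMulTop x M) ≠ ⊤ :=
          idealDepth_ne_top (smul_top_quotSMulTop_ne_top hxa hA)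
        obtain ⟨l, hl⟩ := ENat.ne_top_iff_exists.mp hne
        rw [← hl] at h2 ⊢
        have : l + 1 = d + 1 := by exact_mod_cast h2
        have : l = d := by omega
        rw [this]
      have h5 := ih (QuotSMulTop (algebraMap A B x) M) h3
      have h6 : idealDepth (a.map (algebraMap A B)) (QuotSMulTop (algebraMap A B x) M) + 1 =
          idealDepth (a.map (algebraMap A B)) M :=
        idealDepth_quotSMulTop_add_one hB hx'a hx'reg
      rw [← h6, h5]
      push_cast
      rfl

theorem idealDepth_tower (a : Ideal A) (M : Type u) [AddCommGroup M] [Module B M] [Module A M]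
    [IsScalarTower A B M] [Module.Finite A M] [Module.Finite B M] :
    idealDepth a M = idealDepth (a.map (algebraMap A B)) M := by
  by_cases hA : a • (⊤ : Submodule A M) = ⊤
  · rw [idealDepth_of_smul_top_eq a M hA,
      idealDepth_of_smul_top_eq _ M ((smul_top_tower_eq_top_iff A B a M).mpr hA)]
  · obtain ⟨d, hd⟩ := ENat.ne_top_iff_exists.mp (idealDepth_ne_top hA)
    rw [← hd, idealDepth_tower_aux A B a d M hd.symm]

end Groth.Agent.Helper8.Depth
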