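import Mathlib
import Groth.Agent.Lib.Helper8.Depth20

/-!
# Depth along an ideal versus codimension; Serre's condition and depth along an ideal
-/

set_option autoImplicit false
universe u v

namespace Groth.Agent.Helper8.Depth

open RingTheory.Sequence LocCoh Pointwise IsLocalRing

variable {A : Type u} [CommRing A] [IsNoetherianRing A] (M : Type u) [AddCommGroup M]
  [Module A M] [Module.Finite A M]

theorem idealDepth_le_depth_localization (I : Ideal A) (p : PrimeSpectrum A)
    (hIp : I ≤ p.asIdeal) :
    idealDepth I M ≤
      depth (Localization.AtPrime p.asIdeal) (LocalizedModule p.asIdeal.primeCompl M) := by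
  rw [idealDepth_eq_iInf_depth_localization]
  exact iInf₂_le p hIp

theorem idealDepth_le_supportDim_of_mem_support (I : Ideal A) (p : PrimeSpectrum A)
    (hIp : I ≤ p.asIdeal) (hp : p ∈ Module.support A M) :
    ((idealDepth I M : ℕ∞) : WithBot ℕ∞) ≤
      Module.supportDim (Localization.AtPrime p.asIdeal)
        (LocalizedModule p.asIdeal.primeCompl M) := by
  have hnt : Nontrivial (LocalizedModule p.asIdeal.primeCompl M) := Module.mem_support_iff.mp hp
  refine le_trans ?_ (depth_le_supportDim (A := Localization.AtPrime p.asIdeal)
    (M := LocalizedModule p.asIdeal.primeCompl M))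
  exact_mod_cast idealDepth_le_depth_localization M I p hIp

theorem le_idealDepth_of_hasSk (k : ℕ) (I : Ideal A) (hS : HasSk k A M)
    (hcodim : ∀ p : PrimeSpectrum A, I ≤ p.asIdeal → p ∈ Module.support A M →
      (k : WithBot ℕ∞) ≤ Module.supportDim (Localization.AtPrime p.asIdeal)
        (LocalizedModule p.asIdeal.primeCompl M)) :
    (k : ℕ∞) ≤ idealDepth I M := by
  rw [idealDepth_eq_iInf_depth_localization]
  refine le_iInf₂ fun p hp => ?_
  by_cases hsupp : p ∈ Module.support A M
  · have h1 := hS p.asIdeal
    have h2 := hcodim p hp hsupp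
    rw [min_eq_left h2] at h1
    exact_mod_cast h1
  · have hsub : Subsingleton (LocalizedModule p.asIdeal.primeCompl M) := by
      by_contra hcon
      rw [not_subsingleton_iff_nontrivial] at hcon
      exact hsupp (Module.mem_support_iff.mpr hcon)
    rw [depth_eq_top_of_subsingleton]
    exact le_top

end Groth.Agent.Helper8.Depth
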