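import Mathlib
import Groth.Agent.Lib.Helper8.Depth21

/-!
# `depth M ≤ depth M_p + dim A/p`
-/

set_option autoImplicit false
universe u v

namespace Groth.Agent.Helper8.Depth

open RingTheory.Sequence LocCoh Pointwise IsLocalRing

section

variable {A : Type u} [CommRing A] (p : Ideal A) [p.IsPrime] (M : Type v) [AddCommGroup M]
  [Module A M]

/-- Localization commutes with the quotient by an element. -/
noncomputable def localizedQuotSMulTopEquiv' (x : A) :
    LocalizedModule p.primeCompl (QuotSMulTop x M) ≃ₗ[Localization.AtPrime p]
      QuotSMulTop (algebraMap A (Localization.AtPrime p) x) (LocalizedModule p.primeCompl M) :=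
  (localizedQuotientEquiv _ _).symm ≪≫ₗ
    Submodule.quotEquivOfEq _ _ (by
      rw [← Submodule.ideal_span_singleton_smul, Submodule.localized,
        Submodule.localized'_smul, Ideal.localized'_eq_map, Submodule.localized'_top,
        Ideal.map_span, Set.image_singleton, Submodule.ideal_span_singleton_smul])

end

section

variable {A : Type u} [CommRing A] [IsNoetherianRing A] (p : Ideal A) [p.IsPrime]
  (M : Type u) [AddCommGroup M] [Module A M] [Module.Finite A M]

theorem depth_localizedModule_quotSMulTop [Nontrivial (LocalizedModule p.primeCompl M)]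
    {x : A} (hxp : x ∈ p) (hreg : IsSMulRegular M x) :
    depth (Localization.AtPrime p) (LocalizedModule p.primeCompl (QuotSMulTop x M)) + 1 =
      depth (Localization.AtPrime p) (LocalizedModule p.primeCompl M) := by
  have e := localizedQuotSMulTopEquiv' p M x
  have h1 : depth (Localization.AtPrime p) (LocalizedModule p.primeCompl (QuotSMulTop x M)) =
      depth (Localization.AtPrime p)
        (QuotSMulTop (algebraMap A (Localization.AtPrime p) x)
          (LocalizedModule p.primeCompl M)) := idealDepth_congr e
  rw [h1]
  have hne : maximalIdeal (Localization.AtPrime p) •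
      (⊤ : Submodule (Localization.AtPrime p) (LocalizedModule p.primeCompl M)) ≠ ⊤ :=
    smul_top_ne_top_of_local _ _
  have hx' : algebraMap A (Localization.AtPrime p) x ∈ maximalIdeal (Localization.AtPrime p) :=
    (IsLocalization.AtPrime.to_map_mem_maximal_iff (Localization.AtPrime p) p x).mpr hxp
  have hreg' : IsSMulRegular (LocalizedModule p.primeCompl M)
      (algebraMap A (Localization.AtPrime p) x) := by
    have h2 : IsWeaklyRegular M [x] := (isWeaklyRegular_singleton_iff M x).mpr hreg
    have h3 := IsWeaklyRegular.of_isLocalizedModule (Localization.AtPrime p) p.primeCompl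
      (LocalizedModule.mkLinearMap p.primeCompl M) h2
    simpa [isWeaklyRegular_singleton_iff] using h3
  exact idealDepth_quotSMulTop_add_one hne hx' hreg'

end

variable {A : Type u} [CommRing A] [IsLocalRing A] [IsNoetherianRing A]

theorem depth_le_depth_localizedModule_add_aux (p : Ideal A) [p.IsPrime] (d : ℕ) :
    ∀ (M : Type u) [AddCommGroup M] [Module A M] [Module.Finite A M]
      [Nontrivial (LocalizedModule p.primeCompl M)], depth A M = (d : ℕ∞) →
      (d : WithBot ℕ∞) ≤
        ((depth (Localization.AtPrime p) (LocalizedModule p.primeCompl M) : ℕ∞) : WithBot ℕ∞) +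
          ringKrullDim (A ⧸ p) := by
  have hnn : (0 : WithBot ℕ∞) ≤ ringKrullDim (A ⧸ p) := ringKrullDim_nonneg_of_nontrivial
  obtain ⟨e, he⟩ : ∃ e : ℕ, ringKrullDim (A ⧸ p) = (e : WithBot ℕ∞) := by
    have h2 : ringKrullDim (A ⧸ p) < ⊤ :=
      (ringKrullDim_le_of_surjective (Ideal.Quotient.mk p)
        Ideal.Quotient.mk_surjective).trans_lt ringKrullDim_lt_top
    generalize ringKrullDim (A ⧸ p) = D at hnn h2
    induction D with
    | bot => simp at hnn
    | coe a =>
      have ha : a ≠ ⊤ := by
        rintro rfl
        exact absurd h2 (by simp)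
      lift a to ℕ using ha
      exact ⟨a, rfl⟩
  induction d with
  | zero =>
    intro M _ _ _ _ _
    have h0 : (0 : WithBot ℕ∞) ≤
        ((depth (Localization.AtPrime p) (LocalizedModule p.primeCompl M) : ℕ∞) : WithBot ℕ∞) :=
      WithBot.coe_le_coe.mpr bot_le
    simpa using add_nonneg h0 hnn
  | succ d ih =>
    intro M _ _ _ hntp hd
    have hfin : depth (Localization.AtPrime p) (LocalizedModule p.primeCompl M) ≠ ⊤ :=
      idealDepth_ne_top (smul_top_ne_top_of_local _ _)
    obtain ⟨l, hl⟩ := ENat.ne_top_iff_exists.mp hfin
    rw [he, ← hl]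
    by_cases hde : d + 1 ≤ e
    · have : d + 1 ≤ l + e := by omega
      exact_mod_cast this
    · push Not at hde
      have hsupp : (⟨p, inferInstance⟩ : PrimeSpectrum A) ∈ Module.support A M :=
        Module.mem_support_iff.mpr hntp
      have hntM : Nontrivial M := by
        by_contra hcon
        rw [not_nontrivial_iff_subsingleton] at hcon
        rw [Module.support_eq_empty] at hsupp
        exact hsupp
      have hmM : maximalIdeal A • (⊤ : Submodule A M) ≠ ⊤ := smul_top_ne_top_of_local A M
      -- there is a regular element in `p`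
      have hex : ∃ x ∈ p, IsSMulRegular M x := by
        by_contra hcon
        push Not at hcon
        obtain ⟨q, hq, hpq⟩ := exists_le_associatedPrime_of_forall_not_isSMulRegular p hcon
        have h1 := depth_le_dim_quotient_associatedPrime q hq
        have h2 : ringKrullDim (A ⧸ q) ≤ ringKrullDim (A ⧸ p) :=
          ringKrullDim_le_of_surjective (Ideal.Quotient.factor hpq)
            (Ideal.Quotient.factor_surjective hpq)
        rw [hd] at h1
        have h3 := h1.trans h2
        rw [he] at h3
        have : d + 1 ≤ e := by exact_mod_cast h3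
        omega
      obtain ⟨x, hxp, hxreg⟩ := hex
      have hxm : x ∈ maximalIdeal A := le_maximalIdeal (Ideal.IsPrime.ne_top inferInstance) hxp
      have h1 : depth A (QuotSMulTop x M) + 1 = depth A M :=
        idealDepth_quotSMulTop_add_one hmM hxm hxreg
      have hd' : depth A (QuotSMulTop x M) = (d : ℕ∞) := by
        rw [hd] at h1
        have hne : depth A (QuotSMulTop x M) ≠ ⊤ :=
          idealDepth_ne_top (smul_top_quotSMulTop_ne_top hxm hmM)
        obtain ⟨k, hk⟩ := ENat.ne_top_iff_exists.mp hne
        rw [← hk] at h1 ⊢
        have : k + 1 = d + 1 := by exact_mod_cast h1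
        have : k = d := by omega
        rw [this]
      have hntQ : Nontrivial (LocalizedModule p.primeCompl (QuotSMulTop x M)) := by
        rw [← Module.mem_support_iff (p := (⟨p, inferInstance⟩ : PrimeSpectrum A)),
          Module.support_quotSMulTop]
        exact ⟨hsupp, by simpa using hxp⟩
      have h2 := ih (QuotSMulTop x M) hd'
      have h3 := depth_localizedModule_quotSMulTop p M hxp hxreg
      rw [← hl] at h3
      have hfin' : depth (Localization.AtPrime p)
          (LocalizedModule p.primeCompl (QuotSMulTop x M)) ≠ ⊤ :=
        idealDepth_ne_top (smul_top_ne_top_of_local _ _)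
      obtain ⟨l', hl'⟩ := ENat.ne_top_iff_exists.mp hfin'
      rw [← hl'] at h2 h3
      rw [he] at h2
      have e1 : d ≤ l' + e := by exact_mod_cast h2
      have e2 : l' + 1 = l := by exact_mod_cast h3
      have : d + 1 ≤ l + e := by omega
      exact_mod_cast this

/-- `depth M ≤ depth M_p + dim A/p` for a prime `p` in the support of `M`. -/
theorem depth_le_depth_localizedModule_add (p : Ideal A) [p.IsPrime] (M : Type u)
    [AddCommGroup M] [Module A M] [Module.Finite A M]
    [Nontrivial (LocalizedModule p.primeCompl M)] :
    ((depth A M : ℕ∞) : WithBot ℕ∞) ≤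
      ((depth (Localization.AtPrime p) (LocalizedModule p.primeCompl M) : ℕ∞) : WithBot ℕ∞) +
        ringKrullDim (A ⧸ p) := by
  have hsupp : (⟨p, inferInstance⟩ : PrimeSpectrum A) ∈ Module.support A M :=
    Module.mem_support_iff.mpr inferInstance
  have hntM : Nontrivial M := by
    by_contra hcon
    rw [not_nontrivial_iff_subsingleton] at hcon
    rw [Module.support_eq_empty] at hsupp
    exact hsupp
  have hmM : maximalIdeal A • (⊤ : Submodule A M) ≠ ⊤ := smul_top_ne_top_of_local A M
  obtain ⟨d, hd⟩ := ENat.ne_top_iff_exists.mp (idealDepth_ne_top hmM)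
  have hd' : depth A M = (d : ℕ∞) := hd.symm
  rw [hd']
  exact depth_le_depth_localizedModule_add_aux p d M hd'

end Groth.Agent.Helper8.Depth
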