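import Mathlib
import Groth.Agent.Lib.Helper8.Depth22

/-!
# Transport of depth along a semilinear isomorphism
-/

set_option autoImplicit false
universe u v

namespace Groth.Agent.Helper8.Depth

open RingTheory.Sequence LocCoh Pointwise IsLocalRing

section transport

variable {R₁ R₂ : Type*} [CommRing R₁] [CommRing R₂] (σ : R₁ ≃+* R₂)
  {M₁ M₂ : Type*} [AddCommGroup M₁] [Module R₁ M₁] [AddCommGroup M₂] [Module R₂ M₂]
  (e : M₁ ≃+ M₂) (he : ∀ (r : R₁) (x : M₁), e (r • x) = σ r • e x)

include he in
theorem smul_top_eq_top_of_semilinear (J : Ideal R₁) (h : J • (⊤ : Submodule R₁ M₁) = ⊤) :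
    J.map (σ : R₁ →+* R₂) • (⊤ : Submodule R₂ M₂) = ⊤ := by
  rw [eq_top_iff]
  intro y _
  have hx : e.symm y ∈ J • (⊤ : Submodule R₁ M₁) := by rw [h]; exact Submodule.mem_top
  have key : ∀ x ∈ J • (⊤ : Submodule R₁ M₁),
      e x ∈ J.map (σ : R₁ →+* R₂) • (⊤ : Submodule R₂ M₂) := by
    intro x hx
    induction hx using Submodule.smul_induction_on' with
    | smul r hr m _ =>
      rw [he]
      exact Submodule.smul_mem_smul (Ideal.mem_map_of_mem _ hr) Submodule.mem_top
    | add x _ y _ hx hy =>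
      rw [map_add]; exact Submodule.add_mem _ hx hy
  have := key _ hx
  rwa [AddEquiv.apply_symm_apply] at this

include he in
theorem idealDepth_map_le_of_semilinear (I : Ideal R₁) :
    idealDepth (I.map (σ : R₁ →+* R₂)) M₂ ≤ idealDepth I M₁ := by
  by_cases h : I • (⊤ : Submodule R₁ M₁) = ⊤
  · rw [idealDepth_of_smul_top_eq I M₁ h]; exact le_top
  · have h2 : I.map (σ : R₁ →+* R₂) • (⊤ : Submodule R₂ M₂) ≠ ⊤ := by
      intro h2
      apply h
      have he' : ∀ (r : R₂) (y : M₂), e.symm (r • y) = σ.symm r • e.symm y := by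
        intro r y
        apply e.injective
        rw [he]; simp
      have h3 := smul_top_eq_top_of_semilinear σ.symm e.symm he' _ h2
      have h4 : (I.map (σ : R₁ →+* R₂)).map (σ.symm : R₂ →+* R₁) = I := by
        rw [Ideal.map_map]
        have : (σ.symm : R₂ →+* R₁).comp (σ : R₁ →+* R₂) = RingHom.id R₁ := by
          ext x; simp
        rw [this, Ideal.map_id]
      rwa [h4] at h3
    rw [idealDepth_of_smul_top_ne _ M₂ h2]
    refine iSup₂_le fun rs hrs => ?_
    have h5 : IsWeaklyRegular M₁ (rs.map σ.symm) := by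
      refine (AddEquiv.isWeaklyRegular_congr (e := e) ?_).mpr hrs.1
      rw [List.forall₂_map_left_iff]
      refine List.forall₂_same.mpr fun r _ x => ?_
      rw [he]; simp
    have h6 : ∀ r ∈ rs.map σ.symm, r ∈ I := by
      intro r hr
      obtain ⟨s, hs, rfl⟩ := List.mem_map.mp hr
      have := hrs.2 s hs
      have h7 : σ.symm s ∈ (I.map (σ : R₁ →+* R₂)).map (σ.symm : R₂ →+* R₁) :=
        Ideal.mem_map_of_mem _ this
      rw [Ideal.map_map] at h7
      have : (σ.symm : R₂ →+* R₁).comp (σ : R₁ →+* R₂) = RingHom.id R₁ := by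
        ext x; simp
      rwa [this, Ideal.map_id] at h7
    have := length_le_idealDepth h5 h6
    rwa [List.length_map] at this

include he in
theorem idealDepth_map_eq_of_semilinear (I : Ideal R₁) :
    idealDepth (I.map (σ : R₁ →+* R₂)) M₂ = idealDepth I M₁ := by
  refine le_antisymm (idealDepth_map_le_of_semilinear σ e he I) ?_
  have he' : ∀ (r : R₂) (y : M₂), e.symm (r • y) = σ.symm r • e.symm y := by
    intro r y
    apply e.injective
    rw [he]; simp
  have h1 := idealDepth_map_le_of_semilinear σ.symm e.symm he' (I.map (σ : R₁ →+* R₂))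
  have h4 : (I.map (σ : R₁ →+* R₂)).map (σ.symm : R₂ →+* R₁) = I := by
    rw [Ideal.map_map]
    have : (σ.symm : R₂ →+* R₁).comp (σ : R₁ →+* R₂) = RingHom.id R₁ := by
      ext x; simp
    rw [this, Ideal.map_id]
  rwa [h4] at h1

include he in
theorem depth_eq_of_semilinear [IsLocalRing R₁] [IsLocalRing R₂] :
    depth R₂ M₂ = depth R₁ M₁ := by
  unfold depth
  rw [← idealDepth_map_eq_of_semilinear σ e he (maximalIdeal R₁)]
  congr 1
  exact (IsLocalRing.map_maximalIdeal_of_surjective (σ : R₁ →+* R₂) σ.surjective).symm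

end transport

end Groth.Agent.Helper8.Depth
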