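import Mathlib
import Groth.Agent.Lib.Helper8.Depth23

/-!
# Depth of an iterated localization
-/

set_option autoImplicit false
universe u v

namespace Groth.Agent.Helper8.Depth

open RingTheory.Sequence LocCoh Pointwise IsLocalRing

variable {R : Type u} [CommRing R] (M : Type u) [AddCommGroup M] [Module R M]
  (p s : Ideal R) [hp : p.IsPrime] [hs : s.IsPrime]

theorem disjoint_primeCompl_of_le (hps : p ≤ s) : Disjoint (s.primeCompl : Set R) (p : Set R) := by
  rw [Set.disjoint_left]
  intro x hx hxp
  exact hx (hps hxp)

theorem isPrime_map_localization (hps : p ≤ s) :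
    (p.map (algebraMap R (Localization.AtPrime s))).IsPrime :=
  IsLocalization.isPrime_of_isPrime_disjoint s.primeCompl _ p hp (disjoint_primeCompl_of_le p s hps)

theorem comap_map_localization (hps : p ≤ s) :
    (p.map (algebraMap R (Localization.AtPrime s))).comap
      (algebraMap R (Localization.AtPrime s)) = p :=
  IsLocalization.under_map_of_isPrime_disjoint s.primeCompl _ hp
    (disjoint_primeCompl_of_le p s hps)

/-- The depth of `(M_s)_{pR_s}` over `(R_s)_{pR_s}` is the depth of `M_p` over `R_p`. -/
theorem depth_localizedModule_localizedModule (hps : p ≤ s)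
    (P : Ideal (Localization.AtPrime s)) [hP : P.IsPrime]
    (hPp : P.comap (algebraMap R (Localization.AtPrime s)) = p) :
    depth (Localization.AtPrime P)
        (LocalizedModule P.primeCompl (LocalizedModule s.primeCompl M)) =
      depth (Localization.AtPrime p) (LocalizedModule p.primeCompl M) := by
  set S := Localization.AtPrime s
  set T := Localization.AtPrime P
  set Ms := LocalizedModule s.primeCompl M
  set MsP := LocalizedModule P.primeCompl Ms
  have hsub : (P.comap (algebraMap R S)).primeCompl = p.primeCompl := by
    ext x
    simp only [Ideal.mem_primeCompl_iff]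
    rw [hPp]
  have hloc : IsLocalization p.primeCompl T := by
    have : IsLocalization (P.comap (algebraMap R S)).primeCompl T := inferInstance
    rwa [hsub] at this
  let f : M →ₗ[R] Ms := LocalizedModule.mkLinearMap s.primeCompl M
  let g : Ms →ₗ[S] MsP := LocalizedModule.mkLinearMap P.primeCompl Ms
  have hf : IsBaseChange S f := IsLocalizedModule.isBaseChange s.primeCompl S f
  have hg : IsBaseChange T g := IsLocalizedModule.isBaseChange P.primeCompl T g
  have hgf : IsBaseChange T ((g.restrictScalars R).comp f) := IsBaseChange.comp hf hg
  have hlm : IsLocalizedModule p.primeCompl ((g.restrictScalars R).comp f) :=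
    (isLocalizedModule_iff_isBaseChange p.primeCompl T _).mpr hgf
  let e₀ : LocalizedModule p.primeCompl M ≃ₗ[R] MsP :=
    IsLocalizedModule.linearEquiv p.primeCompl (LocalizedModule.mkLinearMap p.primeCompl M)
      ((g.restrictScalars R).comp f)
  let σ : Localization.AtPrime p ≃ₐ[R] T :=
    IsLocalization.algEquiv p.primeCompl (Localization.AtPrime p) T
  have he : ∀ (a : Localization.AtPrime p) (x : LocalizedModule p.primeCompl M),
      e₀.toAddEquiv (a • x) = σ.toRingEquiv a • e₀.toAddEquiv x := by
    intro a x
    obtain ⟨⟨r, t⟩, rfl⟩ := IsLocalization.mk'_surjective p.primeCompl a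
    -- multiply by the unit `t`
    have hunit : IsUnit (algebraMap R T (t : R)) := IsLocalization.map_units T t
    have hinj : Function.Injective fun y : MsP => (algebraMap R T (t : R)) • y := by
      intro y1 y2 h
      exact hunit.smul_left_cancel.mp h
    apply hinj
    change (algebraMap R T (t : R)) • e₀ (IsLocalization.mk' (Localization.AtPrime p) r t • x) =
      (algebraMap R T (t : R)) • (σ (IsLocalization.mk' (Localization.AtPrime p) r t) • e₀ x)
    have h2 : (t : R) • (IsLocalization.mk' (Localization.AtPrime p) r t • x) = r • x := by
      rw [← algebraMap_smul (Localization.AtPrime p) (t : R), smul_smul,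
        IsLocalization.mk'_spec', algebraMap_smul]
    have h1 : (algebraMap R T (t : R)) •
        e₀ (IsLocalization.mk' (Localization.AtPrime p) r t • x) = r • e₀ x := by
      rw [algebraMap_smul, ← e₀.map_smul, h2, e₀.map_smul]
    have h3 : (algebraMap R T (t : R)) •
        (σ (IsLocalization.mk' (Localization.AtPrime p) r t) • e₀ x) = r • e₀ x := by
      rw [smul_smul]
      have h4 : algebraMap R T (t : R) * σ (IsLocalization.mk' (Localization.AtPrime p) r t) =
          algebraMap R T r := by
        have h5 : algebraMap R T (t : R) = σ (algebraMap R (Localization.AtPrime p) (t : R)) :=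
          (σ.commutes _).symm
        rw [h5, ← map_mul, IsLocalization.mk'_spec', σ.commutes]
      rw [h4, algebraMap_smul]
    rw [h1, h3]
  exact depth_eq_of_semilinear σ.toRingEquiv e₀.toAddEquiv he

end Groth.Agent.Helper8.Depth
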