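import Mathlib
import Groth.Agent.Lib.Helper8.Depth24

/-!
# `depth M_s ≤ depth M_p + ht(s/p)`
-/

set_option autoImplicit false
universe u v

namespace Groth.Agent.Helper8.Depth

open RingTheory.Sequence LocCoh Pointwise IsLocalRing

section order

variable {R : Type*} [CommRing R]

/-- `dim (R ⧸ P)` is the coheight of `P` in the spectrum. -/
theorem ringKrullDim_quotient_eq_coheight (P : PrimeSpectrum R) :
    ringKrullDim (R ⧸ P.asIdeal) = Order.coheight P := by
  rw [ringKrullDim_quotient, Order.coheight_eq_krullDim_Ici]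
  have : PrimeSpectrum.zeroLocus (P.asIdeal : Set R) = Set.Ici P := by
    ext q
    simp [PrimeSpectrum.mem_zeroLocus, ← PrimeSpectrum.asIdeal_le_asIdeal]
  rw [this]

/-- The dimension of `R_s / p R_s` is at most the height of `s/p` in `R/p`. -/
theorem ringKrullDim_localization_quotient_le (p s : Ideal R) [hp : p.IsPrime] [hs : s.IsPrime]
    (hps : p ≤ s) (P : Ideal (Localization.AtPrime s)) [hP : P.IsPrime]
    (hPp : P.comap (algebraMap R (Localization.AtPrime s)) = p) :
    ringKrullDim (Localization.AtPrime s ⧸ P) ≤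
      ((s.map (Ideal.Quotient.mk p)).height : WithBot ℕ∞) := by
  have hsbar : (s.map (Ideal.Quotient.mk p)).IsPrime :=
    Ideal.isPrime_map_quotientMk_of_isPrime hps
  let sbar : PrimeSpectrum (R ⧸ p) := ⟨s.map (Ideal.Quotient.mk p), hsbar⟩
  let Pp : PrimeSpectrum (Localization.AtPrime s) := ⟨P, hP⟩
  have h1 : ringKrullDim (Localization.AtPrime s ⧸ P) = Order.coheight Pp :=
    ringKrullDim_quotient_eq_coheight Pp
  have h2 : ((s.map (Ideal.Quotient.mk p)).height : ℕ∞) = Order.height sbar :=
    PrimeSpectrum.height_eq_orderHeight sbar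
  let φ := IsLocalization.AtPrime.primeSpectrumOrderIso (Localization.AtPrime s) s
  let ψ := p.primeSpectrumQuotientOrderIsoZeroLocus
  have h3 : Order.coheight (φ Pp) = Order.coheight Pp := Order.coheight_orderIso φ Pp
  have h4 : Order.height (ψ sbar) = Order.height sbar := Order.height_orderIso ψ sbar
  rw [h1, h2, ← h3, ← h4, Order.coheight_eq_krullDim_Ici, Order.height_eq_krullDim_Iic]
  have hφ : ((φ Pp : Set.Iic (⟨s, hs⟩ : PrimeSpectrum R)) : PrimeSpectrum R).asIdeal = p := hPp
  have hψ : ((ψ sbar : PrimeSpectrum.zeroLocus (p : Set R)) : PrimeSpectrum R).asIdeal = s :=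
    Ideal.comap_map_mk hps
  let F : Set.Ici (φ Pp) → Set.Iic (ψ sbar) := fun x =>
    ⟨⟨x.1.1, by
      rw [PrimeSpectrum.mem_zeroLocus]
      have h5 : φ Pp ≤ x.1 := x.2
      have h6 : ((φ Pp : Set.Iic (⟨s, hs⟩ : PrimeSpectrum R)) : PrimeSpectrum R).asIdeal ≤
          x.1.1.asIdeal := h5
      rw [hφ] at h6
      exact h6⟩, by
      have h7 : x.1.1 ≤ (⟨s, hs⟩ : PrimeSpectrum R) := x.1.2
      change x.1.1.asIdeal ≤
        ((ψ sbar : PrimeSpectrum.zeroLocus (p : Set R)) : PrimeSpectrum R).asIdeal
      rw [hψ]
      exact h7⟩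
  refine Order.krullDim_le_of_strictMono F ?_
  intro a b hab
  exact hab

end order

variable {R : Type u} [CommRing R] [IsNoetherianRing R]

theorem depth_localization_le_depth_add_height (M : Type u) [AddCommGroup M] [Module R M]
    [Module.Finite R M] (p s : Ideal R) [hp : p.IsPrime] [hs : s.IsPrime] (hps : p ≤ s) :
    depth (Localization.AtPrime s) (LocalizedModule s.primeCompl M) ≤
      depth (Localization.AtPrime p) (LocalizedModule p.primeCompl M) +
        (s.map (Ideal.Quotient.mk p)).height := by
  rcases subsingleton_or_nontrivial (LocalizedModule p.primeCompl M) with hsub | hnt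
  · rw [depth_eq_top_of_subsingleton (Localization.AtPrime p)]
    simp
  · set P := p.map (algebraMap R (Localization.AtPrime s)) with hPdef
    have hP : P.IsPrime := isPrime_map_localization p s hps
    have hPp : P.comap (algebraMap R (Localization.AtPrime s)) = p :=
      comap_map_localization p s hps
    have hsuppM : (⟨p, hp⟩ : PrimeSpectrum R) ∈ Module.support R M :=
      Module.mem_support_iff.mpr hnt
    have hsupp : (⟨P, hP⟩ : PrimeSpectrum (Localization.AtPrime s)) ∈
        Module.support (Localization.AtPrime s) (LocalizedModule s.primeCompl M) := by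
      rw [mem_support_localizedModule_iff]
      have : PrimeSpectrum.comap (algebraMap R (Localization.AtPrime s)) ⟨P, hP⟩ =
          (⟨p, hp⟩ : PrimeSpectrum R) := PrimeSpectrum.ext hPp
      rw [this]; exact hsuppM
    have hntP : Nontrivial (LocalizedModule P.primeCompl (LocalizedModule s.primeCompl M)) :=
      Module.mem_support_iff.mp hsupp
    have h1 := depth_le_depth_localizedModule_add P (LocalizedModule s.primeCompl M)
    rw [depth_localizedModule_localizedModule M p s hps P hPp] at h1
    have h2 := ringKrullDim_localization_quotient_le p s hps P hPp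
    have h3 := h1.trans (add_le_add_right h2 _)
    exact_mod_cast h3

end Groth.Agent.Helper8.Depth
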