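import Mathlib
import Groth.Agent.Lib.Helper8.Depth25

/-!
# The Ext characterization of depth, without side conditions
-/

set_option autoImplicit false
universe u v

namespace Groth.Agent.Helper8.Depth

open RingTheory.Sequence LocCoh CategoryTheory Abelian Pointwise

variable {R : Type u} [CommRing R] {I : Ideal R} {M : Type u} [AddCommGroup M] [Module R M]

theorem ext_smul_eq_zero_of_mem_annihilator_right {N M : ModuleCat.{u} R} {r : R}
    (hr : r ∈ Module.annihilator R M) (n : ℕ) (x : Abelian.Ext N M n) : r • x = 0 := by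
  have h0 : r • 𝟙 M = 0 := by
    simp [← ModuleCat.lsmul_eq_smul_id, Module.mem_annihilator_iff_lsmul_eq_zero.mp hr]
  rw [Ext.smul_eq_comp_mk₀, h0, Ext.mk₀_zero, Ext.comp_zero]

theorem ext_smul_eq_zero_of_mem_annihilator_left {N M : ModuleCat.{u} R} {r : R}
    (hr : r ∈ Module.annihilator R N) (n : ℕ) (x : Abelian.Ext N M n) : r • x = 0 := by
  have h0 : r • 𝟙 N = 0 := by
    simp [← ModuleCat.lsmul_eq_smul_id, Module.mem_annihilator_iff_lsmul_eq_zero.mp hr]
  have h1 : r • x = (Ext.mk₀ (r • 𝟙 N)).comp x (zero_add n) := by simp [Ext.mk₀_smul]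
  rw [h1, h0, Ext.mk₀_zero, Ext.zero_comp]

/-- If `IM = M` for a finite module then all `Ext^i(R/I, M)` vanish. -/
theorem ext_subsingleton_of_smul_top_eq_top [Module.Finite R M]
    (h : I • (⊤ : Submodule R M) = ⊤) (n : ℕ) :
    Subsingleton (Abelian.Ext (ModuleCat.of R (R ⧸ I)) (ModuleCat.of R M) n) := by
  obtain ⟨r, hr1, hr2⟩ := Submodule.exists_sub_one_mem_and_smul_eq_zero_of_fg_of_le_smul I
    (⊤ : Submodule R M) Module.Finite.fg_top h.ge
  have hrM : r ∈ Module.annihilator R (ModuleCat.of R M) := by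
    rw [Module.mem_annihilator]
    intro m; exact hr2 m Submodule.mem_top
  have hrI : r - 1 ∈ Module.annihilator R (ModuleCat.of R (R ⧸ I)) := by
    change r - 1 ∈ Module.annihilator R (R ⧸ I)
    rw [Ideal.annihilator_quotient]; exact hr1
  refine ⟨fun x y => ?_⟩
  have key : ∀ z : Abelian.Ext (ModuleCat.of R (R ⧸ I)) (ModuleCat.of R M) n, z = 0 := by
    intro z
    have h1 := ext_smul_eq_zero_of_mem_annihilator_right hrM n z
    have h2 := ext_smul_eq_zero_of_mem_annihilator_left hrI n z
    have h3 : z = r • z - (r - 1) • z := by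
      rw [sub_smul, one_smul]; abel
    rw [h3, h1, h2, sub_zero]
  rw [key x, key y]

/-- `n ≤ depth_I M` iff `Ext^i(R/I, M) = 0` for all `i < n` (no side condition). -/
theorem le_idealDepth_iff_ext' [IsNoetherianRing R] [Module.Finite R M] (n : ℕ) :
    (n : ℕ∞) ≤ idealDepth I M ↔
      ∀ i : ℕ, i < n → Subsingleton (Abelian.Ext (ModuleCat.of R (R ⧸ I)) (ModuleCat.of R M) i) := by
  by_cases h : I • (⊤ : Submodule R M) = ⊤
  · rw [idealDepth_of_smul_top_eq I M h]
    exact ⟨fun _ i _ => ext_subsingleton_of_smul_top_eq_top h i, fun _ => le_top⟩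
  · exact le_idealDepth_iff_ext h n

end Groth.Agent.Helper8.Depth
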