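import Mathlib
import Groth.Agent.Lib.Helper8.Depth26

/-!
# Depth along a short exact sequence
-/

set_option autoImplicit false
universe u v

namespace Groth.Agent.Helper8.Depth

open RingTheory.Sequence LocCoh CategoryTheory Abelian Pointwise

variable {R : Type u} [CommRing R] [IsNoetherianRing R] (I : Ideal R)
  {N' N N'' : Type u} [AddCommGroup N'] [Module R N'] [Module.Finite R N']
  [AddCommGroup N] [Module R N] [Module.Finite R N]
  [AddCommGroup N''] [Module R N''] [Module.Finite R N'']
  (f : N' →ₗ[R] N) (g : N →ₗ[R] N'') (hf : Function.Injective f) (hg : Function.Surjective g)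
  (hfg : Function.Exact f g)

include hf hg hfg

theorem idealDepth_mid_ge : min (idealDepth I N') (idealDepth I N'') ≤ idealDepth I N := by
  let S := ModuleCat.shortComplexOfCompEqZero f g hfg.linearMap_comp_eq_zero
  have hS : S.ShortExact := ModuleCat.shortComplex_shortExact S hfg hf hg
  rw [← ENat.forall_natCast_le_iff_le]
  intro n hn
  have h1 := (le_idealDepth_iff_ext' (I := I) (M := N') n).mp (hn.trans (min_le_left _ _))
  have h2 := (le_idealDepth_iff_ext' (I := I) (M := N'') n).mp (hn.trans (min_le_right _ _))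
  rw [le_idealDepth_iff_ext']
  intro i hi
  have := h1 i hi
  have := h2 i hi
  refine ⟨fun x y => ?_⟩
  have key : ∀ z : Abelian.Ext (ModuleCat.of R (R ⧸ I)) (ModuleCat.of R N) i, z = 0 := by
    intro z
    obtain ⟨x₁, hx₁⟩ := Ext.covariant_sequence_exact₂ (ModuleCat.of R (R ⧸ I)) hS (n := i) z
      (Subsingleton.elim _ _)
    rw [← hx₁, Subsingleton.elim x₁ 0, Ext.zero_comp]
  rw [key x, key y]

theorem idealDepth_right_ge :
    min (idealDepth I N) (idealDepth I N' - 1) ≤ idealDepth I N'' := by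
  let S := ModuleCat.shortComplexOfCompEqZero f g hfg.linearMap_comp_eq_zero
  have hS : S.ShortExact := ModuleCat.shortComplex_shortExact S hfg hf hg
  rw [← ENat.forall_natCast_le_iff_le]
  intro n hn
  rcases Nat.eq_zero_or_pos n with rfl | hnpos
  · simp
  have hn1 : (n : ℕ∞) ≤ idealDepth I N := hn.trans (min_le_left _ _)
  have hn2 : (n : ℕ∞) ≤ idealDepth I N' - 1 := hn.trans (min_le_right _ _)
  have hn3 : ((n + 1 : ℕ) : ℕ∞) ≤ idealDepth I N' := by
    have h1le : (1 : ℕ∞) ≤ idealDepth I N' := by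
      by_contra hcon
      push Not at hcon
      have h0 : idealDepth I N' = 0 := ENat.lt_one_iff_eq_zero.mp hcon
      rw [h0] at hn2
      simp at hn2
      omega
    have h5 : (n : ℕ∞) + 1 ≤ idealDepth I N' - 1 + 1 := by gcongr
    rw [tsub_add_cancel_of_le h1le] at h5
    exact_mod_cast h5
  have h1 := (le_idealDepth_iff_ext' (I := I) (M := N) n).mp hn1
  have h2 := (le_idealDepth_iff_ext' (I := I) (M := N') (n + 1)).mp hn3
  rw [le_idealDepth_iff_ext']
  intro i hi
  have := h1 i hi
  have := h2 (i + 1) (by omega)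
  refine ⟨fun x y => ?_⟩
  have key : ∀ z : Abelian.Ext (ModuleCat.of R (R ⧸ I)) (ModuleCat.of R N'') i, z = 0 := by
    intro z
    obtain ⟨x₂, hx₂⟩ := Ext.covariant_sequence_exact₃ (ModuleCat.of R (R ⧸ I)) hS z
      (n₁ := i + 1) rfl (Subsingleton.elim _ _)
    rw [← hx₂, Subsingleton.elim x₂ 0, Ext.zero_comp]
  rw [key x, key y]

theorem idealDepth_left_ge :
    min (idealDepth I N) (idealDepth I N'' + 1) ≤ idealDepth I N' := by
  let S := ModuleCat.shortComplexOfCompEqZero f g hfg.linearMap_comp_eq_zero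
  have hS : S.ShortExact := ModuleCat.shortComplex_shortExact S hfg hf hg
  rw [← ENat.forall_natCast_le_iff_le]
  intro n hn
  have hn1 : (n : ℕ∞) ≤ idealDepth I N := hn.trans (min_le_left _ _)
  have hn2 : (n : ℕ∞) ≤ idealDepth I N'' + 1 := hn.trans (min_le_right _ _)
  have h1 := (le_idealDepth_iff_ext' (I := I) (M := N) n).mp hn1
  rw [le_idealDepth_iff_ext']
  intro i hi
  have := h1 i hi
  refine ⟨fun x y => ?_⟩
  have key : ∀ z : Abelian.Ext (ModuleCat.of R (R ⧸ I)) (ModuleCat.of R N') i, z = 0 := by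
    intro z
    have hz : z.comp (Ext.mk₀ S.f) (add_zero i) = 0 := Subsingleton.elim _ _
    cases i with
    | zero =>
      have : Mono S.f := hS.mono_f
      have hinj := Ext.postcomp_mk₀_injective_of_mono (ModuleCat.of R (R ⧸ I)) S.f
      apply hinj
      simpa using hz
    | succ j =>
      have hj : ((j + 1 : ℕ) : ℕ∞) ≤ idealDepth I N'' := by
        have h3 : ((j + 1 + 1 : ℕ) : ℕ∞) ≤ idealDepth I N'' + 1 := by
          refine le_trans ?_ hn2
          exact_mod_cast hi
        have h4 : (((j + 1 : ℕ) : ℕ∞)) + 1 ≤ idealDepth I N'' + 1 := by exact_mod_cast h3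
        exact (ENat.add_le_add_iff_right ENat.one_ne_top).mp h4
      have h2 := (le_idealDepth_iff_ext' (I := I) (M := N'') (j + 1)).mp hj j (Nat.lt_succ_self j)
      obtain ⟨x₃, hx₃⟩ := Ext.covariant_sequence_exact₁ (ModuleCat.of R (R ⧸ I)) hS z hz
        (n₀ := j) rfl
      rw [← hx₃, Subsingleton.elim x₃ 0, Ext.zero_comp]
  rw [key x, key y]

end Groth.Agent.Helper8.Depth
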