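import Mathlib
import Groth.Agent.Lib.Helper8.Depth27

/-!
# Depth of retracts, products and finite free modules
-/

set_option autoImplicit false
universe u

namespace Groth.Agent.Helper8.ABS

open CategoryTheory Abelian LocCoh Depth

variable {R : Type u} [CommRing R] [IsNoetherianRing R] (I : Ideal R)

theorem idealDepth_le_of_retract {M N : Type u} [AddCommGroup M] [Module R M] [Module.Finite R M]
    [AddCommGroup N] [Module R N] [Module.Finite R N]
    (i : N →ₗ[R] M) (r : M →ₗ[R] N) (h : r.comp i = LinearMap.id) :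
    idealDepth I M ≤ idealDepth I N := by
  rw [← ENat.forall_natCast_le_iff_le]
  intro n hn
  rw [le_idealDepth_iff_ext'] at hn ⊢
  intro k hk
  have := hn k hk
  have key : ∀ z : Abelian.Ext (ModuleCat.of R (R ⧸ I)) (ModuleCat.of R N) k, z = 0 := by
    intro z
    have h1 : ModuleCat.ofHom i ≫ ModuleCat.ofHom r = 𝟙 (ModuleCat.of R N) := by
      rw [← ModuleCat.ofHom_comp, h]
      rfl
    have h2 : z = (z.comp (Ext.mk₀ (ModuleCat.ofHom i)) (add_zero k)).comp
        (Ext.mk₀ (ModuleCat.ofHom r)) (add_zero k) := by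
      rw [Ext.comp_assoc_of_third_deg_zero, Ext.mk₀_comp_mk₀, h1, Ext.comp_mk₀_id]
    rw [h2, Subsingleton.elim (z.comp (Ext.mk₀ (ModuleCat.ofHom i)) (add_zero k)) 0,
      Ext.zero_comp]
  exact ⟨fun x y => by rw [key x, key y]⟩

theorem idealDepth_prod_ge {M N : Type u} [AddCommGroup M] [Module R M] [Module.Finite R M]
    [AddCommGroup N] [Module R N] [Module.Finite R N] :
    min (idealDepth I M) (idealDepth I N) ≤ idealDepth I (M × N) :=
  idealDepth_mid_ge I (LinearMap.inl R M N) (LinearMap.snd R M N) LinearMap.inl_injective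
    LinearMap.snd_surjective Function.Exact.inl_snd

theorem idealDepth_le_pi (n : ℕ) : idealDepth I R ≤ idealDepth I (Fin n → R) := by
  induction n with
  | zero =>
    rw [idealDepth_of_smul_top_eq I (Fin 0 → R) (Subsingleton.elim _ _)]
    exact le_top
  | succ n ih =>
    rw [← idealDepth_congr (I := I) (Fin.consLinearEquiv R (fun _ : Fin (n + 1) => R))]
    exact (le_min le_rfl ih).trans (idealDepth_prod_ge I)

theorem idealDepth_pi_succ (n : ℕ) : idealDepth I (Fin (n + 1) → R) = idealDepth I R := by
  refine le_antisymm ?_ (idealDepth_le_pi I (n + 1))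
  refine idealDepth_le_of_retract I (LinearMap.single R (fun _ : Fin (n + 1) => R) 0)
    (LinearMap.proj 0) ?_
  ext
  simp

end Groth.Agent.Helper8.ABS
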