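import Mathlib
import Groth.Agent.Lib.Helper8.Depth27

/-!
# Depth of submodules and kernels
-/

set_option autoImplicit false
universe u v

namespace Groth.Agent.Helper8.Depth

open RingTheory.Sequence LocCoh CategoryTheory Abelian Pointwise

variable {R : Type u} [CommRing R] [IsNoetherianRing R] (I : Ideal R)

/-- Depth of the source of an injective map, in terms of the target and the cokernel. -/
theorem idealDepth_of_injective {N' N : Type u} [AddCommGroup N'] [Module R N']
    [Module.Finite R N'] [AddCommGroup N] [Module R N] [Module.Finite R N]
    (f : N' →ₗ[R] N) (hf : Function.Injective f) :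
    min (idealDepth I N) (idealDepth I (N ⧸ LinearMap.range f) + 1) ≤ idealDepth I N' :=
  idealDepth_left_ge I f (LinearMap.range f).mkQ hf (Submodule.mkQ_surjective _)
    (LinearMap.exact_map_mkQ_range f)

theorem one_le_idealDepth_of_injective {N' N : Type u} [AddCommGroup N'] [Module R N']
    [Module.Finite R N'] [AddCommGroup N] [Module R N] [Module.Finite R N]
    (f : N' →ₗ[R] N) (hf : Function.Injective f) (h : 1 ≤ idealDepth I N) :
    1 ≤ idealDepth I N' := by
  refine le_trans (le_min h ?_) (idealDepth_of_injective I f hf)
  exact le_add_self

/-- Depth of a kernel. -/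
theorem idealDepth_ker {E0 E1 : Type u} [AddCommGroup E0] [Module R E0] [Module.Finite R E0]
    [AddCommGroup E1] [Module R E1] [Module.Finite R E1] (u : E0 →ₗ[R] E1) :
    (1 ≤ idealDepth I E0 → 1 ≤ idealDepth I (LinearMap.ker u)) ∧
    (2 ≤ idealDepth I E0 → 1 ≤ idealDepth I E1 → 2 ≤ idealDepth I (LinearMap.ker u)) := by
  constructor
  · intro h
    exact one_le_idealDepth_of_injective I (LinearMap.ker u).subtype
      (Submodule.subtype_injective _) h
  · intro h0 h1
    have hr : 1 ≤ idealDepth I (LinearMap.range u) :=
      one_le_idealDepth_of_injective I (LinearMap.range u).subtype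
        (Submodule.subtype_injective _) h1
    have hex : Function.Exact (LinearMap.ker u).subtype u.rangeRestrict := by
      intro x
      constructor
      · intro hx
        refine ⟨⟨x, ?_⟩, rfl⟩
        have := congrArg Subtype.val hx
        simpa using this
      · rintro ⟨y, rfl⟩
        apply Subtype.ext
        simp
    have h2 := idealDepth_left_ge I (LinearMap.ker u).subtype u.rangeRestrict
      (Submodule.subtype_injective _) u.surjective_rangeRestrict hex
    refine le_trans (le_min h0 ?_) h2
    have : (1 : ℕ∞) + 1 ≤ idealDepth I (LinearMap.range u) + 1 := by gcongr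
    exact le_trans (by norm_num) this

end Groth.Agent.Helper8.Depth
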