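import Mathlib
import Groth.Agent.Lib.Helper8.Depth28

/-!
# Serre's condition `(S_1)` and embedded primes
-/

set_option autoImplicit false
universe u v

namespace Groth.Agent.Helper8.Depth

open RingTheory.Sequence LocCoh Pointwise IsLocalRing

section

variable {A : Type*} [CommRing A] (p : Ideal A) [hpp : p.IsPrime] (M : Type*) [AddCommGroup M]
  [Module A M]

theorem comap_closedPoint_localization :
    PrimeSpectrum.comap (algebraMap A (Localization.AtPrime p))
      (closedPoint (Localization.AtPrime p)) = ⟨p, hpp⟩ :=
  PrimeSpectrum.ext (Localization.AtPrime.under_maximalIdeal (I := p))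

/-- If `p` is minimal over the annihilator then `M_p` has dimension at most zero. -/
theorem supportDim_localizedModule_le_zero_of_minimal [Module.Finite A M]
    (hp : p ∈ (Module.annihilator A M).minimalPrimes) :
    Module.supportDim (Localization.AtPrime p) (LocalizedModule p.primeCompl M) ≤ 0 := by
  unfold Module.supportDim
  have : Subsingleton (Module.support (Localization.AtPrime p)
      (LocalizedModule p.primeCompl M)) := by
    refine ⟨fun a b => ?_⟩
    have key : ∀ c : Module.support (Localization.AtPrime p)
        (LocalizedModule p.primeCompl M), c.1 = closedPoint (Localization.AtPrime p) := by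
      intro c
      have h1 := (mem_support_localizedModule_iff p M c.1).mp c.2
      have h2 := comap_localization_le p c.1
      have h3 : Module.annihilator A M ≤
          (PrimeSpectrum.comap (algebraMap A (Localization.AtPrime p)) c.1).asIdeal :=
        Module.mem_support_iff_of_finite.mp h1
      have h4 : (PrimeSpectrum.comap (algebraMap A (Localization.AtPrime p)) c.1).asIdeal = p :=
        le_antisymm h2 (hp.2 ⟨(PrimeSpectrum.comap _ c.1).isPrime, h3⟩ h2)
      apply PrimeSpectrum.localization_comap_injective (Localization.AtPrime p) p.primeCompl
      rw [comap_closedPoint_localization]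
      exact PrimeSpectrum.ext h4
    exact Subtype.ext ((key a).trans (key b).symm)
  exact Order.krullDim_nonpos_of_subsingleton

/-- If `M_p` is nonzero of dimension at most zero then `p` is minimal over the annihilator. -/
theorem minimal_of_supportDim_localizedModule_le_zero [Module.Finite A M]
    (hp : (⟨p, hpp⟩ : PrimeSpectrum A) ∈ Module.support A M)
    (hdim : Module.supportDim (Localization.AtPrime p) (LocalizedModule p.primeCompl M) ≤ 0) :
    p ∈ (Module.annihilator A M).minimalPrimes := by
  refine ⟨⟨hpp, Module.mem_support_iff_of_finite.mp hp⟩, ?_⟩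
  rintro q ⟨hq, hannq⟩ hqp
  unfold Module.supportDim at hdim
  rw [Order.krullDim_nonpos_iff_forall_isMax] at hdim
  -- the prime of the localization corresponding to `q`
  have hdisj : Disjoint (p.primeCompl : Set A) (q : Set A) := by
    rw [Set.disjoint_left]
    intro x hx hxq
    exact hx (hqp hxq)
  let q' : PrimeSpectrum (Localization.AtPrime p) :=
    ⟨q.map (algebraMap A (Localization.AtPrime p)),
      IsLocalization.isPrime_of_isPrime_disjoint p.primeCompl _ q hq hdisj⟩
  have hq'comap : PrimeSpectrum.comap (algebraMap A (Localization.AtPrime p)) q' = ⟨q, hq⟩ :=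
    PrimeSpectrum.ext (IsLocalization.under_map_of_isPrime_disjoint p.primeCompl _ hq hdisj)
  have hq'supp : q' ∈ Module.support (Localization.AtPrime p)
      (LocalizedModule p.primeCompl M) := by
    rw [mem_support_localizedModule_iff, hq'comap]
    exact Module.mem_support_iff_of_finite.mpr hannq
  have hmsupp : closedPoint (Localization.AtPrime p) ∈
      Module.support (Localization.AtPrime p) (LocalizedModule p.primeCompl M) := by
    rw [mem_support_localizedModule_iff, comap_closedPoint_localization]
    exact hp
  have hle : (⟨q', hq'supp⟩ : Module.support (Localization.AtPrime p)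
      (LocalizedModule p.primeCompl M)) ≤ ⟨closedPoint _, hmsupp⟩ := by
    change q'.asIdeal ≤ maximalIdeal (Localization.AtPrime p)
    exact le_maximalIdeal q'.isPrime.ne_top
  have hge := hdim ⟨q', hq'supp⟩ hle
  have h5 : maximalIdeal (Localization.AtPrime p) ≤ q'.asIdeal := hge
  have h6 := Ideal.comap_mono (f := algebraMap A (Localization.AtPrime p)) h5
  have h7 : (PrimeSpectrum.comap (algebraMap A (Localization.AtPrime p)) q').asIdeal = q :=
    congrArg PrimeSpectrum.asIdeal hq'comap
  have h8 : Ideal.comap (algebraMap A (Localization.AtPrime p))
      (maximalIdeal (Localization.AtPrime p)) = p :=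
    Localization.AtPrime.under_maximalIdeal (I := p)
  rw [h8] at h6
  exact h6.trans h7.le

end

section

variable {A : Type u} [CommRing A] [IsNoetherianRing A] (p : Ideal A) [hpp : p.IsPrime]
  (M : Type u) [AddCommGroup M] [Module A M] [Module.Finite A M]

/-- The depth of `M_p` vanishes iff `p` is an associated prime of `M`. -/
theorem depth_localizedModule_eq_zero_iff :
    depth (Localization.AtPrime p) (LocalizedModule p.primeCompl M) = 0 ↔
      p ∈ associatedPrimes A M := by
  rw [depth_eq_zero_iff,
    ← Module.associatedPrimes.preimage_comap_associatedPrimes_eq_associatedPrimes_of_isLocalizedModule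
      p.primeCompl (Localization.AtPrime p) (LocalizedModule.mkLinearMap p.primeCompl M),
    Set.mem_preimage]
  have h8 : Ideal.comap (algebraMap A (Localization.AtPrime p))
      (maximalIdeal (Localization.AtPrime p)) = p :=
    Localization.AtPrime.under_maximalIdeal (I := p)
  rw [h8]

end

/-- No embedded primes iff `(S_1)`. -/
theorem noEmbeddedPrimes_iff_hasSk_one {R M : Type u} [CommRing R] [IsNoetherianRing R]
    [AddCommGroup M] [Module R M] [Module.Finite R M] :
    (∀ p ∈ associatedPrimes R M, p ∈ (Module.annihilator R M).minimalPrimes) ↔ HasSk 1 R M := by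
  constructor
  · intro h p hp
    rcases subsingleton_or_nontrivial (LocalizedModule p.primeCompl M) with hsub | hnt
    · rw [Module.supportDim_eq_bot_of_subsingleton]
      simp
    · by_cases hd : depth (Localization.AtPrime p) (LocalizedModule p.primeCompl M) = 0
      · have hass := (depth_localizedModule_eq_zero_iff p M).mp hd
        have hmin := h p hass
        have hdim := supportDim_localizedModule_le_zero_of_minimal p M hmin
        rw [hd]
        exact (min_le_right _ _).trans (by simpa using hdim)
      · have h1 : (1 : ℕ∞) ≤ depth (Localization.AtPrime p) (LocalizedModule p.primeCompl M) :=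
          Order.one_le_iff_pos.mpr (pos_iff_ne_zero.mpr hd)
        refine (min_le_left _ _).trans ?_
        exact_mod_cast h1
  · intro h p hp
    have hpp : p.IsPrime := hp.isPrime
    have hd := (depth_localizedModule_eq_zero_iff p M).mpr hp
    have h1 := h p
    rw [hd] at h1
    have hsupp : (⟨p, hpp⟩ : PrimeSpectrum R) ∈ Module.support R M :=
      mem_support_of_mem_associatedPrimes hp
    apply minimal_of_supportDim_localizedModule_le_zero p M hsupp
    rcases min_le_iff.mp h1 with h2 | h2
    · exfalso
      have : ((1 : ℕ) : WithBot ℕ∞) ≤ ((0 : ℕ) : WithBot ℕ∞) := by exact_mod_cast h2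
      have : (1 : ℕ) ≤ 0 := by exact_mod_cast this
      omega
    · exact_mod_cast h2

end Groth.Agent.Helper8.Depth
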