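import Mathlib
import Groth.Agent.Lib.Helper8.Depth29
import Groth.Agent.Lib.Helper8.RegularLocal

/-!
# Reduced iff `(R_0)` and `(S_1)`
-/

set_option autoImplicit false
universe u v

namespace Groth.Agent.Helper8.Depth

open RingTheory.Sequence LocCoh Pointwise IsLocalRing

variable (R : Type u) [CommRing R]

/-- The localization of a reduced ring at a minimal prime is a field. -/
theorem isField_localization_of_minimal [IsReduced R] (p : Ideal R) [hpp : p.IsPrime]
    (hp : p ∈ minimalPrimes R) : IsField (Localization.AtPrime p) := by
  rw [IsLocalRing.isField_iff_maximalIdeal_eq, eq_bot_iff]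
  intro x hx
  have hnil : x ∈ nilradical (Localization.AtPrime p) := by
    rw [nilradical_eq_sInf, Ideal.mem_sInf]
    intro q' hq'
    have hq'prime : q'.IsPrime := hq'
    -- every prime is the maximal ideal
    let Q : PrimeSpectrum (Localization.AtPrime p) := ⟨q', hq'prime⟩
    have h2 := comap_localization_le p Q
    have h4 : (PrimeSpectrum.comap (algebraMap R (Localization.AtPrime p)) Q).asIdeal = p :=
      le_antisymm h2 (hp.2 ⟨(PrimeSpectrum.comap _ Q).isPrime, bot_le⟩ h2)
    have h5 : Q = closedPoint (Localization.AtPrime p) := by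
      apply PrimeSpectrum.localization_comap_injective (Localization.AtPrime p) p.primeCompl
      rw [comap_closedPoint_localization]
      exact PrimeSpectrum.ext h4
    have h6 : q' = maximalIdeal (Localization.AtPrime p) := congrArg PrimeSpectrum.asIdeal h5
    rw [h6]; exact hx
  have := (mem_nilradical.mp hnil).eq_zero
  rw [this]; exact Submodule.zero_mem _

theorem isRegularLocalRing_of_isField (K : Type*) [CommRing K] (hK : IsField K) :
    IsRegularLocalRing K := by
  have h1 : IsDomain K := hK.isDomain
  have h2 : IsPrincipalIdealRing K := hK.isPrincipalIdealRing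
  letI := hK.toField
  have h3 : IsLocalRing K := inferInstance
  infer_instance

variable [IsNoetherianRing R]

theorem associatedPrimes_subset_minimalPrimes_of_isReduced [IsReduced R] :
    ∀ p ∈ associatedPrimes R R, p ∈ minimalPrimes R := by
  intro p hp
  obtain ⟨hpp, x, hx⟩ := isAssociatedPrime_iff.mp hp
  have hx0 : x ≠ 0 := by
    rintro rfl
    have h1 : (1 : R) ∈ p := by
      rw [hx, Submodule.mem_colon_singleton]; simp
    exact hpp.ne_top ((Ideal.eq_top_iff_one _).mpr h1)
  -- `x` avoids some minimal prime
  have hnil : x ∉ nilradical R := by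
    intro h
    exact hx0 (mem_nilradical.mp h).eq_zero
  have hex : ∃ q ∈ minimalPrimes R, x ∉ q := by
    by_contra hcon
    push Not at hcon
    apply hnil
    rw [nilradical, ← Ideal.sInf_minimalPrimes, Ideal.mem_sInf]
    exact fun q hq => hcon q hq
  obtain ⟨q, hq, hxq⟩ := hex
  have hpq : p ≤ q := by
    intro a ha
    rw [hx, Submodule.mem_colon_singleton] at ha
    have h2 : a * x ∈ q := by
      have : a * x = 0 := by simpa using ha
      rw [this]; exact q.zero_mem
    exact (hq.1.1.mem_or_mem h2).resolve_right hxq
  have hqp : q ≤ p := hq.2 ⟨hpp, bot_le⟩ hpq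
  rw [le_antisymm hpq hqp]; exact hq

theorem isReduced_iff_R0_S1 : IsReduced R ↔ (HasRk 0 R ∧ HasSk 1 R R) := by
  have hann : Module.annihilator R R = ⊥ :=
    Module.annihilator_eq_bot.mpr inferInstance
  constructor
  · intro hred
    constructor
    · intro p hp hht
      have h0 : p.height = 0 := by
        have : p.height ≤ 0 := by exact_mod_cast hht
        exact le_antisymm this bot_le
      have hmin : p ∈ minimalPrimes R := Ideal.height_eq_zero_iff.mp h0
      exact isRegularLocalRing_of_isField _ (isField_localization_of_minimal R p hmin)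
    · rw [← noEmbeddedPrimes_iff_hasSk_one, hann]
      exact associatedPrimes_subset_minimalPrimes_of_isReduced R
  · rintro ⟨hR0, hS1⟩
    rw [← noEmbeddedPrimes_iff_hasSk_one, hann] at hS1
    refine ⟨fun x hxnil => ?_⟩
    by_contra hx0
    obtain ⟨p, hp, hle⟩ := exists_le_isAssociatedPrime_of_isNoetherianRing R x hx0
    have hpp : p.IsPrime := hp.isPrime
    have hmin : p ∈ minimalPrimes R := hS1 p hp
    have hht : p.height = 0 := Ideal.height_eq_zero_iff.mpr hmin
    have hreg := hR0 p (by rw [hht]; exact_mod_cast le_rfl)
    have hdom : IsDomain (Localization.AtPrime p) := RLR.isDomain _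
    have h1 : IsNilpotent (algebraMap R (Localization.AtPrime p) x) := hxnil.map _
    have h2 : algebraMap R (Localization.AtPrime p) x = 0 := h1.eq_zero
    rw [IsLocalization.map_eq_zero_iff p.primeCompl] at h2
    obtain ⟨s, hs⟩ := h2
    have h3 : (s : R) ∈ (⊥ : Submodule R R).colon {x} := by
      rw [Submodule.mem_colon_singleton]
      simpa using hs
    exact s.2 (hle h3)

end Groth.Agent.Helper8.Depth
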