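import Mathlib
import Groth.Agent.Lib.Helper8.Depth30

/-!
# `(S_2)` for a Noetherian domain via associated primes of principal ideals
-/

set_option autoImplicit false
universe u v

namespace Groth.Agent.Helper8.Depth

open RingTheory.Sequence LocCoh Pointwise IsLocalRing

variable (R : Type u) [CommRing R]

theorem supportDim_localizedModule_self (P : Ideal R) [P.IsPrime] :
    Module.supportDim (Localization.AtPrime P) (LocalizedModule P.primeCompl R) =
      (P.height : WithBot ℕ∞) := by
  rw [Module.supportDim_eq_of_equiv (localizedModuleSelfEquiv P), supportDim_localization_self]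

theorem nontrivial_localizedModule_self (P : Ideal R) [P.IsPrime] :
    Nontrivial (LocalizedModule P.primeCompl R) :=
  (localizedModuleSelfEquiv P).toEquiv.nontrivial

/-- `R ⧸ (a)` is `R / aR`. -/
noncomputable def quotSpanSingletonSelfEquiv (a : R) :
    (R ⧸ Ideal.span {a}) ≃ₗ[R] QuotSMulTop a R :=
  Submodule.quotEquivOfEq _ _ (by simp [← Submodule.ideal_span_singleton_smul])

variable [IsDomain R] [IsNoetherianRing R]

theorem depth_localizedModule_self_eq_succ (P : Ideal R) [P.IsPrime] {a : R} (haP : a ∈ P)
    (ha0 : a ≠ 0) :
    depth (Localization.AtPrime P) (LocalizedModule P.primeCompl (QuotSMulTop a R)) + 1 =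
      depth (Localization.AtPrime P) (LocalizedModule P.primeCompl R) := by
  have := nontrivial_localizedModule_self R P
  have hreg : IsSMulRegular R a := by
    intro x y hxy
    exact mul_left_cancel₀ ha0 hxy
  exact depth_localizedModule_quotSMulTop P R haP hreg

theorem hasSk_two_iff_associatedPrimes_height_one :
    HasSk 2 R R ↔
      ∀ a : R, a ≠ 0 → ∀ P : Ideal R, P ∈ associatedPrimes R (R ⧸ Ideal.span {a}) →
        P.height = 1 := by
  constructor
  · intro hS a ha0 P hP
    have hPp : P.IsPrime := hP.isPrime
    rw [LinearEquiv.AssociatedPrimes.eq (quotSpanSingletonSelfEquiv R a)] at hP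
    have haP : a ∈ P := by
      have h1 : Module.annihilator R (QuotSMulTop a R) ≤ P := by
        rw [← Submodule.annihilator_top]; exact IsAssociatedPrime.annihilator_le hP
      apply h1
      rw [Module.mem_annihilator]
      intro q
      obtain ⟨r, rfl⟩ := Submodule.Quotient.mk_surjective _ q
      rw [← Submodule.Quotient.mk_smul, Submodule.Quotient.mk_eq_zero]
      exact Submodule.smul_mem_pointwise_smul r a ⊤ Submodule.mem_top
    have h0 := (depth_localizedModule_eq_zero_iff P (QuotSMulTop a R)).mpr hP
    have h1 := depth_localizedModule_self_eq_succ R P haP ha0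
    rw [h0, zero_add] at h1
    have h2 := hS P
    rw [supportDim_localizedModule_self, ← h1] at h2
    have hle : P.height ≤ 1 := by
      rcases min_le_iff.mp h2 with h3 | h3
      · exfalso
        have h4 : ((2 : ℕ) : ℕ∞) ≤ ((1 : ℕ) : ℕ∞) := by
          have h5 : (((2 : ℕ) : ℕ∞) : WithBot ℕ∞) ≤ (((1 : ℕ) : ℕ∞) : WithBot ℕ∞) := by
            simpa using h3
          exact WithBot.coe_le_coe.mp h5
        have : (2 : ℕ) ≤ 1 := by exact_mod_cast h4
        omega
      · exact_mod_cast h3
    have hne : P.height ≠ 0 := by
      rw [Ne, Ideal.height_eq_zero_iff_eq_bot]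
      rintro rfl
      exact ha0 (by simpa using haP)
    exact le_antisymm hle (Order.one_le_iff_pos.mpr (pos_iff_ne_zero.mpr hne))
  · intro h P hPp
    rw [supportDim_localizedModule_self]
    by_cases hP0 : P = ⊥
    · have : P.height = 0 := Ideal.height_eq_zero_iff_eq_bot.mpr hP0
      rw [this]
      refine (min_le_right _ _).trans ?_
      exact_mod_cast bot_le
    · obtain ⟨a, haP, ha0⟩ := Submodule.exists_mem_ne_zero_of_ne_bot hP0
      have h1 := depth_localizedModule_self_eq_succ R P haP ha0
      by_cases hht : P.height ≤ 1
      · refine (min_le_right _ _).trans ?_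
        have : (1 : ℕ∞) ≤ depth (Localization.AtPrime P) (LocalizedModule P.primeCompl R) := by
          rw [← h1]; exact le_add_self
        exact_mod_cast hht.trans this
      · have hnotass : P ∉ associatedPrimes R (QuotSMulTop a R) := by
          intro hass
          rw [← LinearEquiv.AssociatedPrimes.eq (quotSpanSingletonSelfEquiv R a)] at hass
          have := h a ha0 P hass
          exact hht this.le
        have hd : depth (Localization.AtPrime P)
            (LocalizedModule P.primeCompl (QuotSMulTop a R)) ≠ 0 :=
          fun h0 => hnotass ((depth_localizedModule_eq_zero_iff P (QuotSMulTop a R)).mp h0)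
        have h2 : (1 : ℕ∞) ≤ depth (Localization.AtPrime P)
            (LocalizedModule P.primeCompl (QuotSMulTop a R)) :=
          Order.one_le_iff_pos.mpr (pos_iff_ne_zero.mpr hd)
        have h3 : (2 : ℕ∞) ≤ depth (Localization.AtPrime P) (LocalizedModule P.primeCompl R) := by
          rw [← h1]
          have : (1 : ℕ∞) + 1 ≤ depth (Localization.AtPrime P)
              (LocalizedModule P.primeCompl (QuotSMulTop a R)) + 1 := by gcongr
          exact le_trans (by norm_num) this
        refine (min_le_left _ _).trans ?_
        have h4 : (((2 : ℕ) : ℕ∞) : WithBot ℕ∞) ≤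
            ((depth (Localization.AtPrime P) (LocalizedModule P.primeCompl R) : ℕ∞) :
              WithBot ℕ∞) := WithBot.coe_le_coe.mpr (by exact_mod_cast h3)
        simpa using h4

end Groth.Agent.Helper8.Depth
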