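import Mathlib
import Groth.Agent.Lib.Helper8.Depth31

/-!
# Saturated chains of primes in a ring carrying a Cohen–Macaulay module of full support
-/

set_option autoImplicit false
universe u v

namespace Groth.Agent.Helper8.Depth

open RingTheory.Sequence LocCoh Pointwise IsLocalRing

section general

variable {A : Type*} [CommRing A] {M : Type*} [AddCommGroup M] [Module A M]

theorem supportDim_eq_ringKrullDim_of_support_eq_univ (h : Module.support A M = Set.univ) :
    Module.supportDim A M = ringKrullDim A := by
  unfold Module.supportDim ringKrullDim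
  rw [h]
  exact Order.krullDim_eq_of_orderIso OrderIso.Set.univ

theorem support_localizedModule_eq_univ (p : Ideal A) [p.IsPrime]
    (h : Module.support A M = Set.univ) :
    Module.support (Localization.AtPrime p) (LocalizedModule p.primeCompl M) = Set.univ := by
  ext q'
  simp only [Set.mem_univ, iff_true]
  rw [mem_support_localizedModule_iff, h]
  exact Set.mem_univ _

/-- In the localization at `p`, a prime covered by `p` has coheight one. -/
theorem ringKrullDim_localization_quotient_of_covBy {q p : PrimeSpectrum A} (hqp : q ⋖ p)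
    (Q : Ideal (Localization.AtPrime p.asIdeal)) [hQ : Q.IsPrime]
    (hQq : Q.comap (algebraMap A (Localization.AtPrime p.asIdeal)) = q.asIdeal) :
    ringKrullDim (Localization.AtPrime p.asIdeal ⧸ Q) = 1 := by
  let Qp : PrimeSpectrum (Localization.AtPrime p.asIdeal) := ⟨Q, hQ⟩
  have h1 : ringKrullDim (Localization.AtPrime p.asIdeal ⧸ Q) = Order.coheight Qp :=
    ringKrullDim_quotient_eq_coheight Qp
  let φ := IsLocalization.AtPrime.primeSpectrumOrderIso (Localization.AtPrime p.asIdeal) p.asIdeal
  have h3 : Order.coheight (φ Qp) = Order.coheight Qp := Order.coheight_orderIso φ Qp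
  have hφ : ((φ Qp : Set.Iic (⟨p.asIdeal, p.isPrime⟩ : PrimeSpectrum A)) : PrimeSpectrum A) = q :=
    PrimeSpectrum.ext hQq
  rw [h1, ← h3]
  have hone : Order.coheight (φ Qp) = 1 := by
    rw [Order.coheight_eq_iSup_gt_coheight]
    apply le_antisymm
    · refine iSup₂_le fun y hy => ?_
      have hy1 : q < y.1 := by
        rw [← hφ]; exact hy
      have hy2 : y.1 ≤ p := y.2
      have hy3 : y.1 = p := by
        by_contra hne
        exact hqp.2 hy1 (lt_of_le_of_ne hy2 hne)
      have hmax : IsMax y := by
        intro z hz
        have : z.1 ≤ p := z.2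
        change z.1 ≤ y.1
        rw [hy3]; exact this
      rw [Order.coheight_eq_zero.mpr hmax, zero_add]
    · have hq_lt : q < p := hqp.1
      let y : Set.Iic (⟨p.asIdeal, p.isPrime⟩ : PrimeSpectrum A) := ⟨p, le_refl p⟩
      have hy : y > φ Qp := by
        change ((φ Qp : Set.Iic _) : PrimeSpectrum A) < p
        rw [hφ]; exact hq_lt
      refine le_trans ?_ (le_iSup₂ (f := fun y (_ : y > φ Qp) => Order.coheight y + 1) y hy)
      exact le_add_self
  rw [hone]; rfl

end general

variable {A : Type u} [CommRing A] [IsLocalRing A] [IsNoetherianRing A]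
  {M : Type u} [AddCommGroup M] [Module A M] [Module.Finite A M]

/-- `ht p + dim A/p = dim A` when `A` carries a Cohen–Macaulay module of full support. -/
theorem cm_height_add_dim_quotient (hM : IsCohenMacaulayModule A M)
    (hsupp : Module.support A M = Set.univ) (p : PrimeSpectrum A) :
    (p.asIdeal.height : WithBot ℕ∞) + ringKrullDim (A ⧸ p.asIdeal) = ringKrullDim A := by
  have hp : p ∈ Module.support A M := by rw [hsupp]; exact Set.mem_univ _
  have h1 := (cm_localizedModule hM p hp).2
  rw [supportDim_eq_ringKrullDim_of_support_eq_univ hsupp,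
    supportDim_eq_ringKrullDim_of_support_eq_univ
      (support_localizedModule_eq_univ p.asIdeal hsupp),
    IsLocalization.AtPrime.ringKrullDim_eq_height p.asIdeal (Localization.AtPrime p.asIdeal)] at h1
  rw [h1, add_comm]

/-- Heights increase by exactly one along a covering relation. -/
theorem cm_height_of_covBy (hM : IsCohenMacaulayModule A M)
    (hsupp : Module.support A M = Set.univ) {q p : PrimeSpectrum A} (hqp : q ⋖ p) :
    p.asIdeal.height = q.asIdeal.height + 1 := by
  have hp : p ∈ Module.support A M := by rw [hsupp]; exact Set.mem_univ _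
  have hMp := (cm_localizedModule hM p hp).1
  have hsuppp := support_localizedModule_eq_univ p.asIdeal hsupp
  have hle : q.asIdeal ≤ p.asIdeal := hqp.1.le
  have hQ : (q.asIdeal.map (algebraMap A (Localization.AtPrime p.asIdeal))).IsPrime :=
    isPrime_map_localization q.asIdeal p.asIdeal hle
  have hQq := comap_map_localization q.asIdeal p.asIdeal hle
  set Q := q.asIdeal.map (algebraMap A (Localization.AtPrime p.asIdeal)) with hQdef
  have h1 := cm_height_add_dim_quotient hMp hsuppp ⟨Q, hQ⟩
  simp only at h1
  rw [ringKrullDim_localization_quotient_of_covBy hqp Q hQq,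
    IsLocalization.AtPrime.ringKrullDim_eq_height p.asIdeal (Localization.AtPrime p.asIdeal)] at h1
  have h2 : Q.height = q.asIdeal.height := by
    rw [← hQq]
    exact (IsLocalization.height_under p.asIdeal.primeCompl Q).symm
  rw [h2] at h1
  have h3 : ((q.asIdeal.height + 1 : ℕ∞) : WithBot ℕ∞) = (p.asIdeal.height : WithBot ℕ∞) := by
    rw [← h1]; rfl
  exact (WithBot.coe_injective h3).symm

theorem cm_length_maximal_chain (hM : IsCohenMacaulayModule A M)
    (hsupp : Module.support A M = Set.univ) (s : LTSeries (PrimeSpectrum A))
    (hhead : s.head.asIdeal ∈ minimalPrimes A)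
    (hlast : s.last.asIdeal = maximalIdeal A)
    (hsat : ∀ i : Fin s.length, s (Fin.castSucc i) ⋖ s (Fin.succ i)) :
    (s.length : WithBot ℕ∞) = ringKrullDim A := by
  have key : ∀ i : Fin (s.length + 1), (s i).asIdeal.height = (i : ℕ) := by
    intro i
    induction i using Fin.induction with
    | zero =>
      have : (s 0).asIdeal.height = 0 := Ideal.height_eq_zero_iff.mpr hhead
      simpa using this
    | succ i ih =>
      rw [cm_height_of_covBy hM hsupp (hsat i), ih]
      simp
  have h1 := key (Fin.last s.length)
  have h2 : (s (Fin.last s.length)).asIdeal = maximalIdeal A := hlast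
  rw [h2] at h1
  rw [← IsLocalRing.maximalIdeal_height_eq_ringKrullDim, h1]
  simp

end Groth.Agent.Helper8.Depth
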