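import Mathlib
import Groth.Agent.Lib.Helper8.Depth32

/-!
# Serre's condition modulo a regular sequence
-/

set_option autoImplicit false
universe u v

namespace Groth.Agent.Helper8.Depth

open RingTheory.Sequence LocCoh Pointwise IsLocalRing

section

variable {R : Type u} [CommRing R] [IsNoetherianRing R] {I : Ideal R}

/-- Depth drops by the length of a regular sequence. -/
theorem idealDepth_quotient_ofList_add_length (rs : List R) :
    ∀ (M : Type u) [AddCommGroup M] [Module R M] [Module.Finite R M],
      I • (⊤ : Submodule R M) ≠ ⊤ → IsWeaklyRegular M rs → (∀ r ∈ rs, r ∈ I) →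
      idealDepth I (M ⧸ (Ideal.ofList rs • (⊤ : Submodule R M))) + rs.length = idealDepth I M := by
  induction rs with
  | nil =>
    intro M _ _ _ _ _ _
    rw [idealDepth_congr (quotOfListNilEquiv (R := R) M)]
    simp
  | cons x xs ih =>
    intro M _ _ _ h hreg hmem
    obtain ⟨hx, hxs⟩ := (isWeaklyRegular_cons_iff M x xs).mp hreg
    have hxI : x ∈ I := hmem x List.mem_cons_self
    have h' := smul_top_quotSMulTop_ne_top hxI h
    have h1 := ih (QuotSMulTop x M) h' hxs (fun r hr => hmem r (List.mem_cons_of_mem x hr))
    rw [idealDepth_congr (Submodule.quotOfListConsSMulTopEquivQuotSMulTopInner M x xs),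
      ← idealDepth_quotSMulTop_add_one h hxI hx, ← h1, List.length_cons]
    push_cast
    rw [add_assoc]

end

section

variable {A : Type u} [CommRing A] [IsNoetherianRing A] (M : Type u) [AddCommGroup M]
  [Module A M] [Module.Finite A M]

/-- Dimension and depth of the localization of `M/(rs)M` at a prime containing `rs`. -/
theorem localizedModule_quotient_ofList (p : Ideal A) [hp : p.IsPrime] (rs : List A)
    (hreg : IsWeaklyRegular M rs) (hmem : ∀ r ∈ rs, r ∈ p)
    [hnt : Nontrivial (LocalizedModule p.primeCompl M)] :
    Module.supportDim (Localization.AtPrime p)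
        (LocalizedModule p.primeCompl (M ⧸ (Ideal.ofList rs • (⊤ : Submodule A M)))) + rs.length =
      Module.supportDim (Localization.AtPrime p) (LocalizedModule p.primeCompl M) ∧
    depth (Localization.AtPrime p)
        (LocalizedModule p.primeCompl (M ⧸ (Ideal.ofList rs • (⊤ : Submodule A M)))) + rs.length =
      depth (Localization.AtPrime p) (LocalizedModule p.primeCompl M) := by
  set Ap := Localization.AtPrime p
  set Mp := LocalizedModule p.primeCompl M
  set ys := rs.map (algebraMap A Ap) with hys
  have h1 : IsWeaklyRegular Mp ys :=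
    IsWeaklyRegular.of_isLocalizedModule Ap p.primeCompl
      (LocalizedModule.mkLinearMap p.primeCompl M) hreg
  have h2 : ∀ y ∈ ys, y ∈ maximalIdeal Ap := by
    intro y hy
    obtain ⟨x, hx, rfl⟩ := List.mem_map.mp hy
    exact (IsLocalization.AtPrime.to_map_mem_maximal_iff Ap p x).mpr (hmem x hx)
  have hne : maximalIdeal Ap • (⊤ : Submodule Ap Mp) ≠ ⊤ := smul_top_ne_top_of_local Ap Mp
  have hreg' : IsRegular Mp ys := isRegular_of_isWeaklyRegular_of_mem hne h1 h2
  have e := localizedQuotOfListEquiv p M rs
  have hlen : ys.length = rs.length := List.length_map _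
  constructor
  · rw [Module.supportDim_eq_of_equiv e, ← hlen]
    exact Module.supportDim_add_length_eq_supportDim_of_isRegular ys hreg'
  · have h3 := idealDepth_quotient_ofList_add_length (I := maximalIdeal Ap) ys Mp hne h1 h2
    rw [hlen] at h3
    unfold depth
    rw [idealDepth_congr e]
    exact h3

theorem hasSk_quotient_ofList (k : ℕ) (hM : HasSk k A M) (rs : List A)
    (hrs : IsWeaklyRegular M rs) (hr : rs.length ≤ k) :
    HasSk (k - rs.length) A (M ⧸ (Ideal.ofList rs • (⊤ : Submodule A M))) := by
  intro p hp
  rcases subsingleton_or_nontrivial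
    (LocalizedModule p.primeCompl (M ⧸ (Ideal.ofList rs • (⊤ : Submodule A M)))) with hsub | hnt
  · rw [Module.supportDim_eq_bot_of_subsingleton]
    simp
  · have hsupp : (⟨p, hp⟩ : PrimeSpectrum A) ∈
        Module.support A (M ⧸ (Ideal.ofList rs • (⊤ : Submodule A M))) :=
      Module.mem_support_iff.mpr hnt
    rw [Module.support_quotient] at hsupp
    have hntM : Nontrivial (LocalizedModule p.primeCompl M) := Module.mem_support_iff.mp hsupp.1
    have hmem : ∀ r ∈ rs, r ∈ p := by
      intro r hr'
      have := hsupp.2
      rw [PrimeSpectrum.mem_zeroLocus] at this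
      exact this (Ideal.subset_span hr')
    obtain ⟨h1, h2⟩ := localizedModule_quotient_ofList M p rs hrs hmem
    have h3 := hM p
    obtain ⟨d, hd⟩ := exists_nat_supportDim (A := Localization.AtPrime p)
      (LocalizedModule p.primeCompl M)
    obtain ⟨d', hd'⟩ := exists_nat_supportDim (A := Localization.AtPrime p)
      (LocalizedModule p.primeCompl (M ⧸ (Ideal.ofList rs • (⊤ : Submodule A M))))
    have hfin : depth (Localization.AtPrime p) (LocalizedModule p.primeCompl M) ≠ ⊤ :=
      idealDepth_ne_top (smul_top_ne_top_of_local _ _)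
    obtain ⟨e, he⟩ := ENat.ne_top_iff_exists.mp hfin
    have hfin' : depth (Localization.AtPrime p)
        (LocalizedModule p.primeCompl (M ⧸ (Ideal.ofList rs • (⊤ : Submodule A M)))) ≠ ⊤ :=
      idealDepth_ne_top (smul_top_ne_top_of_local _ _)
    obtain ⟨e', he'⟩ := ENat.ne_top_iff_exists.mp hfin'
    rw [hd, hd'] at h1
    rw [← he, ← he'] at h2
    rw [hd, ← he] at h3
    rw [hd', ← he']
    have e1 : d' + rs.length = d := by exact_mod_cast h1
    have e2 : e' + rs.length = e := by exact_mod_cast h2
    have e3 : k ≤ e ∨ d ≤ e := by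
      rcases min_le_iff.mp h3 with h4 | h4
      · left
        have : ((k : ℕ∞) : WithBot ℕ∞) ≤ ((e : ℕ∞) : WithBot ℕ∞) := by simpa using h4
        exact_mod_cast WithBot.coe_le_coe.mp this
      · right
        have : ((d : ℕ∞) : WithBot ℕ∞) ≤ ((e : ℕ∞) : WithBot ℕ∞) := by simpa using h4
        exact_mod_cast WithBot.coe_le_coe.mp this
    rw [min_le_iff]
    rcases e3 with e3 | e3
    · left
      have : k ≤ e' + rs.length := by omega
      simpa using this
    · right
      have : d' ≤ e' := by omega
      exact_mod_cast this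

end

end Groth.Agent.Helper8.Depth
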