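import Mathlib
import Groth.Prelude
import Groth.Agent.Lib.Helper8.Depth26

/-!
# `depth M ≤ depth_I M + dim A/I` and Ischebeck's vanishing theorem
-/

set_option autoImplicit false
universe u v

namespace Groth.Agent.Helper8.Depth

open RingTheory.Sequence LocCoh Pointwise IsLocalRing CategoryTheory Abelian

variable {A : Type u} [CommRing A] [IsLocalRing A] [IsNoetherianRing A]

/-- `depth M ≤ depth_I M + dim A/I`. -/
theorem depth_le_idealDepth_add_dim_quotient (I : Ideal A) (hI : I ≠ ⊤) (M : Type u)
    [AddCommGroup M] [Module A M] [Module.Finite A M] [Nontrivial M] :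
    ((depth A M : ℕ∞) : WithBot ℕ∞) ≤
      ((idealDepth I M : ℕ∞) : WithBot ℕ∞) + ringKrullDim (A ⧸ I) := by
  have hIm : I ≤ maximalIdeal A := le_maximalIdeal hI
  have hmM : maximalIdeal A • (⊤ : Submodule A M) ≠ ⊤ := smul_top_ne_top_of_local A M
  have hIM : I • (⊤ : Submodule A M) ≠ ⊤ := by
    intro h
    apply hmM
    exact top_le_iff.mp (h.ge.trans (Submodule.smul_mono_left hIm))
  obtain ⟨xs, hreg, hmem, hmax, hlen⟩ := exists_maximal_isWeaklyRegular hIM
  have hnoreg : ∀ r ∈ I,
      ¬ IsSMulRegular (M ⧸ (Ideal.ofList xs • (⊤ : Submodule A M))) r := by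
    intro r hr hcon
    refine hmax r hr ?_
    rw [isWeaklyRegular_append_iff, isWeaklyRegular_singleton_iff]
    exact ⟨hreg, hcon⟩
  obtain ⟨p, hp, hIp⟩ := exists_le_associatedPrime_of_forall_not_isSMulRegular I hnoreg
  have hpp : p.IsPrime := hp.isPrime
  have h1 := depth_localizedModule_eq_length p xs (fun x hx => hIp (hmem x hx)) hreg hp
  have hntp : Nontrivial (LocalizedModule p.primeCompl M) := by
    by_contra hcon
    rw [not_nontrivial_iff_subsingleton] at hcon
    have h2 : depth (Localization.AtPrime p) (LocalizedModule p.primeCompl M) = ⊤ :=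
      depth_eq_top_of_subsingleton _ _
    rw [h2] at h1
    exact ENat.top_ne_natCast _ h1
  have h3 := depth_le_depth_localizedModule_add p M
  rw [h1, hlen] at h3
  refine h3.trans (add_le_add_right ?_ _)
  exact ringKrullDim_le_of_surjective (Ideal.Quotient.factor hIp)
    (Ideal.Quotient.factor_surjective hIp)

/-- Ischebeck: `Ext^i(N, M) = 0` for `i + dim N < depth M`. -/
theorem ext_subsingleton_of_add_supportDim_lt_depth (M N : Type u) [AddCommGroup M] [Module A M]
    [AddCommGroup N] [Module A N] [Module.Finite A M] [Module.Finite A N] [Nontrivial M]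
    [Nontrivial N] (d r i : ℕ) (hd : depth A M = d) (hr : Module.supportDim A N = r)
    (hi : i + r < d) :
    Subsingleton (Abelian.Ext (ModuleCat.of A N) (ModuleCat.of A M) i) := by
  set I : Ideal A := Module.annihilator A N with hI
  have hItop : I ≠ ⊤ := by
    intro h
    have : (1 : A) ∈ Module.annihilator A N := by rw [← hI, h]; trivial
    rw [Module.mem_annihilator] at this
    obtain ⟨m, hm⟩ := exists_ne (0 : N)
    exact hm (by simpa using this m)
  have hIm : I ≤ maximalIdeal A := le_maximalIdeal hItop
  have hmM : maximalIdeal A • (⊤ : Submodule A M) ≠ ⊤ := smul_top_ne_top_of_local A M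
  have hIM : I • (⊤ : Submodule A M) ≠ ⊤ := by
    intro h
    apply hmM
    exact top_le_iff.mp (h.ge.trans (Submodule.smul_mono_left hIm))
  have h1 := depth_le_idealDepth_add_dim_quotient I hItop M
  rw [hd, ← Module.supportDim_eq_ringKrullDim_quotient_annihilator, hr] at h1
  have hp : ((i + 1 : ℕ) : ℕ∞) ≤ idealDepth I M := by
    generalize idealDepth I M = g at h1
    induction g with
    | top => exact le_top
    | coe g =>
      have h3 : ((d : ℕ) : WithBot ℕ∞) ≤ ((g + r : ℕ) : WithBot ℕ∞) := by
        push_cast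
        exact h1
      have h4 : d ≤ g + r := by exact_mod_cast h3
      have : i + 1 ≤ g := by omega
      exact_mod_cast this
  obtain ⟨rs, hlen, hreg, hmem⟩ := (le_idealDepth_iff hIM (i + 1)).mp hp
  have hreg' := isRegular_of_isWeaklyRegular_of_mem hIM hreg hmem
  have hsupp : Module.support A (ModuleCat.of A N) ⊆ PrimeSpectrum.zeroLocus I := by
    change Module.support A N ⊆ _
    rw [Module.support_eq_zeroLocus]
  exact ModuleCat.subsingleton_ext_of_exists_isRegular I (ModuleCat.of A N) hsupp
    (ModuleCat.of A M) (lt_top_iff_ne_top.mpr hIM) rs hmem hreg' i (by rw [hlen]; omega)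

end Groth.Agent.Helper8.Depth
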