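import Mathlib
import Groth.Agent.Lib.Helper8.Depth39
import Groth.Agent.Lib.Helper8.Depth31
import Groth.Agent.Lib.Helper8.Depth33
import Groth.Agent.Lib.Helper8.Depth25
import Groth.Agent.Lib.Helper8.RegularLocal

/-!
# Serre's condition `(S_k)` lifts from `A/tA` to `A`
-/

set_option autoImplicit false
universe u v

namespace Groth.Agent.Helper8.Sk

open RingTheory.Sequence LocCoh Pointwise IsLocalRing

section quotient_local

variable (R : Type u) [CommRing R] [IsLocalRing R] [IsNoetherianRing R]

/-- Depth of a local ring modulo a regular element of the maximal ideal. -/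
theorem depth_quotient_add_one (x : R) (hx : x ∈ maximalIdeal R) (hreg : IsSMulRegular R x)
    [IsLocalRing (R ⧸ Ideal.span {x})] :
    depth (R ⧸ Ideal.span {x}) (R ⧸ Ideal.span {x}) + 1 = depth R R := by
  have hne : maximalIdeal R • (⊤ : Submodule R R) ≠ ⊤ := Depth.smul_top_ne_top_of_local R R
  have h1 : depth R (QuotSMulTop x R) + 1 = depth R R :=
    Depth.idealDepth_quotSMulTop_add_one hne hx hreg
  have h2 : depth R (QuotSMulTop x R) = depth R (R ⧸ Ideal.span {x}) :=
    Depth.idealDepth_congr (Depth.quotSpanSingletonSelfEquiv R x).symm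
  have : IsLocalHom (algebraMap R (R ⧸ Ideal.span {x})) :=
    IsLocalHom.of_surjective _ Ideal.Quotient.mk_surjective
  have h3 : depth R (R ⧸ Ideal.span {x}) = depth (R ⧸ Ideal.span {x}) (R ⧸ Ideal.span {x}) :=
    Depth.depth_eq_of_tower R (R ⧸ Ideal.span {x}) (R ⧸ Ideal.span {x})
  rw [← h1, h2, h3]

theorem depth_quotient_add_one' (J : Ideal R) (x : R) (hJ : J = Ideal.span {x})
    (hx : x ∈ maximalIdeal R) (hreg : IsSMulRegular R x) [IsLocalRing (R ⧸ J)] :
    depth (R ⧸ J) (R ⧸ J) + 1 = depth R R := by
  subst hJ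
  exact depth_quotient_add_one R x hx hreg

omit [IsNoetherianRing R] in
theorem ringKrullDim_quotient_add_one' [IsNoetherianRing R] (J : Ideal R) (x : R)
    (hJ : J = Ideal.span {x})
    (hx : x ∈ maximalIdeal R) (hreg : IsSMulRegular R x) :
    ringKrullDim (R ⧸ J) + 1 = ringKrullDim R := by
  subst hJ
  exact ringKrullDim_quotient_span_singleton_succ_eq_ringKrullDim hreg hx

end quotient_local

section localization_quotient

variable (A : Type u) [CommRing A] (I : Ideal A) (q : Ideal A) [hq : q.IsPrime]

theorem algebraMapSubmonoid_primeCompl_eq (hIq : I ≤ q)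
    [(q.map (Ideal.Quotient.mk I)).IsPrime] :
    Algebra.algebraMapSubmonoid (A ⧸ I) q.primeCompl =
      (q.map (Ideal.Quotient.mk I)).primeCompl := by
  ext y
  obtain ⟨a, rfl⟩ := Ideal.Quotient.mk_surjective y
  rw [Ideal.mem_primeCompl_iff, Ideal.mem_quotient_iff_mem hIq]
  constructor
  · rintro ⟨s, hs, hsa⟩ haq
    have h1 : a - s ∈ I := by
      rw [← Ideal.Quotient.eq_zero_iff_mem, map_sub, sub_eq_zero]
      exact hsa.symm
    have h2 : s = a - (a - s) := by ring
    apply hs
    change s ∈ q
    rw [h2]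
    exact q.sub_mem haq (hIq h1)
  · intro ha
    exact ⟨a, ha, rfl⟩

/-- The localization of `A ⧸ I` at the image of `q` is the quotient of `A_q` by `I A_q`. -/
noncomputable def locQuotEquiv (hIq : I ≤ q) [(q.map (Ideal.Quotient.mk I)).IsPrime] :
    Localization.AtPrime (q.map (Ideal.Quotient.mk I)) ≃+*
      (Localization.AtPrime q ⧸ I.map (algebraMap A (Localization.AtPrime q))) := by
  have inst : IsLocalization (Algebra.algebraMapSubmonoid (A ⧸ I) q.primeCompl)
      (Localization.AtPrime q ⧸ I.map (algebraMap A (Localization.AtPrime q))) := inferInstance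
  rw [algebraMapSubmonoid_primeCompl_eq A I q hIq] at inst
  exact (IsLocalization.algEquiv (q.map (Ideal.Quotient.mk I)).primeCompl
    (Localization.AtPrime (q.map (Ideal.Quotient.mk I)))
    (Localization.AtPrime q ⧸ I.map (algebraMap A (Localization.AtPrime q)))).toRingEquiv

end localization_quotient

section main

variable (A : Type u) [CommRing A] [IsNoetherianRing A]

theorem depth_height_of_mem (t : A) (hreg : IsSMulRegular A t) (k : ℕ)
    (hS : HasSk k (A ⧸ Ideal.span {t}) (A ⧸ Ideal.span {t})) (q : Ideal A) [hq : q.IsPrime]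
    (htq : t ∈ q) :
    ∃ d h : ℕ∞, depth (Localization.AtPrime q) (Localization.AtPrime q) = d + 1 ∧
      q.height = h + 1 ∧ min (k : ℕ∞) h ≤ d := by
  set I := Ideal.span {t} with hI
  have hIq : I ≤ q := by rw [hI, Ideal.span_singleton_le_iff_mem]; exact htq
  have hQ : (q.map (Ideal.Quotient.mk I)).IsPrime := Ideal.isPrime_map_quotientMk_of_isPrime hIq
  set Q := q.map (Ideal.Quotient.mk I) with hQdef
  set R := Localization.AtPrime q with hR
  set x := algebraMap A R t with hxdef
  have hx : x ∈ maximalIdeal R := (IsLocalization.AtPrime.to_map_mem_maximal_iff R q t).mpr htq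
  have hxreg : IsSMulRegular R x := IsSMulRegular.of_isLocalization R q.primeCompl hreg
  set J := I.map (algebraMap A R) with hJdef
  have hJ : J = Ideal.span {x} := by
    rw [hJdef, hI, Ideal.map_span, Set.image_singleton]
  have hJm : J ≤ maximalIdeal R := by
    rw [hJ, Ideal.span_singleton_le_iff_mem]; exact hx
  have : IsLocalRing (R ⧸ J) := RLR.isLocalRing_quotient hJm
  let σ : Localization.AtPrime Q ≃+* (R ⧸ J) := locQuotEquiv A I q hIq
  have h1 := depth_quotient_add_one' R J x hJ hx hxreg
  have h2 := ringKrullDim_quotient_add_one' R J x hJ hx hxreg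
  have h3 : depth (R ⧸ J) (R ⧸ J) = depth (Localization.AtPrime Q) (Localization.AtPrime Q) :=
    Depth.depth_eq_of_semilinear σ σ.toAddEquiv (fun r y => by simp)
  have h4 : ringKrullDim (R ⧸ J) = (Q.height : WithBot ℕ∞) := by
    rw [← ringKrullDim_eq_of_ringEquiv σ,
      IsLocalization.AtPrime.ringKrullDim_eq_height Q (Localization.AtPrime Q)]
  have h5 : ringKrullDim R = (q.height : WithBot ℕ∞) :=
    IsLocalization.AtPrime.ringKrullDim_eq_height q R
  refine ⟨depth (Localization.AtPrime Q) (Localization.AtPrime Q), Q.height, ?_, ?_, ?_⟩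
  · rw [← h1, h3]
  · rw [h4, h5] at h2
    exact_mod_cast h2.symm
  · have hSQ := hS Q
    rw [Depth.supportDim_localizedModule_self, Depth.depth_localizedModule_self] at hSQ
    exact_mod_cast hSQ

theorem min_add_one_le (a b : ℕ∞) : min a (b + 1) ≤ min a b + 1 := by
  rcases le_total a b with h | h
  · rw [min_eq_left h]
    exact (min_le_left _ _).trans le_self_add
  · rw [min_eq_right h]
    exact min_le_right _ _

theorem hasSk_of_hasSk_quotient [IsLocalRing A] (t : A) (ht : t ∈ maximalIdeal A)
    (hreg : IsSMulRegular A t) (k : ℕ)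
    (hS : HasSk k (A ⧸ Ideal.span {t}) (A ⧸ Ideal.span {t})) : HasSk k A A := by
  intro p hp
  rw [Depth.supportDim_localizedModule_self, Depth.depth_localizedModule_self]
  suffices h : min (k : ℕ∞) p.height ≤
      depth (Localization.AtPrime p) (Localization.AtPrime p) by exact_mod_cast h
  by_cases htp : t ∈ p
  · obtain ⟨d, h, h1, h2, h3⟩ := depth_height_of_mem A t hreg k hS p htp
    rw [h1, h2]
    exact (min_add_one_le _ _).trans (by gcongr)
  · have hle : p ⊔ Ideal.span {t} ≤ maximalIdeal A :=
      sup_le (le_maximalIdeal hp.ne_top) ((Ideal.span_singleton_le_iff_mem _).mpr ht)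
    have hne : p ⊔ Ideal.span {t} ≠ ⊤ :=
      fun h => (maximalIdeal.isMaximal A).ne_top (top_le_iff.mp (h ▸ hle))
    obtain ⟨q, hqmin⟩ := Ideal.nonempty_minimalPrimes hne
    have hq : q.IsPrime := hqmin.1.1
    have hpq : p ≤ q := le_sup_left.trans hqmin.1.2
    have htq : t ∈ q := hqmin.1.2 (Ideal.mem_sup_right (Ideal.mem_span_singleton_self t))
    obtain ⟨d, h, h1, h2, h3⟩ := depth_height_of_mem A t hreg k hS q htq
    have h4 := Depth.depth_localization_le_depth_add_height A p q hpq
    rw [Depth.depth_localizedModule_self, Depth.depth_localizedModule_self, h1] at h4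
    have h5 : (q.map (Ideal.Quotient.mk p)).height ≤ 1 :=
      Ideal.map_height_le_one_of_mem_minimalPrimes hqmin
    have h6 : d + 1 ≤ depth (Localization.AtPrime p) (Localization.AtPrime p) + 1 :=
      h4.trans (by gcongr)
    have h7 : d ≤ depth (Localization.AtPrime p) (Localization.AtPrime p) :=
      (ENat.add_le_add_iff_right ENat.one_ne_top).mp h6
    have hlt : p < q := lt_of_le_of_ne hpq (fun h => htp (h ▸ htq))
    have h8 := Ideal.height_add_one_le_of_lt_of_isPrime hlt
    rw [h2] at h8
    have h9 : p.height ≤ h := (ENat.add_le_add_iff_right ENat.one_ne_top).mp h8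
    exact (min_le_min le_rfl h9).trans (h3.trans h7)

end main

end Groth.Agent.Helper8.Sk
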