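import Mathlib
import Groth.Agent.Lib.Helper8.ABS7
import Groth.Agent.Lib.Helper8.ABS8
import Groth.Agent.Lib.Helper8.Sk1

/-!
# The Auslander–Buchsbaum formula
-/

set_option autoImplicit false
universe u

namespace Groth.Agent.Helper8.ABS

open CategoryTheory Abelian IsLocalRing LocCoh Depth Pointwise RingTheory.Sequence

section

variable {R : Type u} [CommRing R] [IsLocalRing R] [IsNoetherianRing R]

theorem depth_of_basis {M : Type u} [AddCommGroup M] [Module R M] [Module.Finite R M]
    [Nontrivial M] {k : ℕ} (b : Module.Basis (Fin k) R M) : depth R M = depth R R := by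
  cases k with
  | zero =>
    exfalso
    have : Subsingleton M := b.equivFun.toEquiv.subsingleton
    exact not_subsingleton M this
  | succ k =>
    unfold depth
    rw [idealDepth_congr b.equivFun]
    exact idealDepth_pi_succ _ k

theorem depth_of_free {M : Type u} [AddCommGroup M] [Module R M] [Module.Finite R M]
    [Nontrivial M] [Module.Free R M] : depth R M = depth R R :=
  depth_of_basis (Module.finBasis R M)

theorem exists_socle (h : depth R R = 0) :
    ∃ s : R, s ≠ 0 ∧ ∀ y ∈ maximalIdeal R, y * s = 0 := by
  rw [depth_eq_zero_iff] at h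
  obtain ⟨-, s, hs⟩ := (isAssociatedPrime_iff (R := R) (M := R)).mp h
  refine ⟨s, ?_, ?_⟩
  · rintro rfl
    have : (1 : R) ∈ maximalIdeal R := by
      rw [hs, Submodule.mem_colon_singleton]
      simp
    exact (maximalIdeal.isMaximal R).ne_top ((Ideal.eq_top_iff_one _).mpr this)
  · intro y hy
    rw [hs, Submodule.mem_colon_singleton] at hy
    simpa using hy

omit [IsNoetherianRing R] in
theorem free_of_projective_local {M : Type u} [AddCommGroup M] [Module R M] [Module.Finite R M]
    (h : HasProjectiveDimensionLT (ModuleCat.of R M) 1) : Module.Free R M := by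
  have h1 : Projective (ModuleCat.of R M) := projective_iff_hasProjectiveDimensionLT_one.mpr h
  have h2 : Module.Projective R M := (IsProjective.iff_projective _).mpr h1
  exact Module.free_of_flat_of_isLocalRing

theorem free_of_depth_zero (hd : depth R R = 0) (e : ℕ) :
    ∀ (M : Type u) [AddCommGroup M] [Module R M] [Module.Finite R M],
      HasProjectiveDimensionLT (ModuleCat.of R M) (e + 1) → Module.Free R M := by
  obtain ⟨s, hs0, hs⟩ := exists_socle hd
  induction e with
  | zero =>
    intro M _ _ _ h
    exact free_of_projective_local h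
  | succ e ih =>
    intro M _ _ _ h
    obtain ⟨n', π, hπ, hker⟩ := exists_minimal_cover (R := R) M
    set K := LinearMap.ker π with hK
    have hS := LinearMap.shortExact_shortComplexKer hπ
    have h1 : HasProjectiveDimensionLT (ModuleCat.of R K) (e + 1) :=
      hS.hasProjectiveDimensionLT_X₁ (e + 1) inferInstance h
    have hKfree : Module.Free R K := ih K h1
    have hsF : ∀ f ∈ maximalIdeal R • (⊤ : Submodule R (Fin n' → R)), s • f = 0 := by
      intro f hf
      refine Submodule.smul_induction_on hf ?_ ?_
      · intro y hy g _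
        rw [smul_smul, mul_comm, hs y hy, zero_smul]
      · intro a b ha hb
        rw [smul_add, ha, hb, add_zero]
    have hsK : ∀ k : K, s • k = 0 := fun k => Subtype.ext (hsF k.1 (hker k.2))
    have hKsub : Subsingleton K := by
      by_contra hne
      rw [not_subsingleton_iff_nontrivial] at hne
      let b := Module.Free.chooseBasis R K
      have hnon : Nonempty (Module.Free.ChooseBasisIndex R K) := by
        by_contra hemp
        rw [not_nonempty_iff] at hemp
        exact not_subsingleton K b.repr.toEquiv.subsingleton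
      obtain ⟨i⟩ := hnon
      have h0 := hsK (b i)
      have h2 : b.repr (s • b i) i = s := by simp
      rw [h0] at h2
      simp at h2
      exact hs0 h2.symm
    have hinj : Function.Injective π := by
      rw [← LinearMap.ker_eq_bot]
      exact Submodule.eq_bot_of_subsingleton
    exact Module.Free.of_equiv (LinearEquiv.ofBijective π ⟨hinj, hπ⟩)

theorem exists_regular_both (M : Type u) [AddCommGroup M] [Module R M] [Module.Finite R M]
    [Nontrivial M] (h1 : 1 ≤ depth R R) (h2 : 1 ≤ depth R M) :
    ∃ x ∈ maximalIdeal R, IsSMulRegular R x ∧ IsSMulRegular M x := by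
  have h3 : ((1 : ℕ) : ℕ∞) ≤ idealDepth (maximalIdeal R) (R × M) := by
    have := (le_min h1 h2).trans (idealDepth_prod_ge (maximalIdeal R) (M := R) (N := M))
    exact_mod_cast this
  have hne : maximalIdeal R • (⊤ : Submodule R (R × M)) ≠ ⊤ := smul_top_ne_top_of_local R (R × M)
  obtain ⟨rs, hlen, hreg, hmem⟩ := (le_idealDepth_iff hne 1).mp h3
  obtain ⟨x, rfl⟩ := List.length_eq_one_iff.mp hlen
  rw [isWeaklyRegular_singleton_iff] at hreg
  refine ⟨x, hmem x (by simp), ?_, ?_⟩
  · intro a b hab
    have h4 : x • ((a, 0) : R × M) = x • ((b, 0) : R × M) := by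
      rw [Prod.smul_mk, Prod.smul_mk]
      exact Prod.ext hab rfl
    exact (Prod.ext_iff.mp (hreg h4)).1
  · intro a b hab
    have h4 : x • ((0, a) : R × M) = x • ((0, b) : R × M) := by
      rw [Prod.smul_mk, Prod.smul_mk]
      exact Prod.ext rfl hab
    exact (Prod.ext_iff.mp (hreg h4)).2

end

/-- The statement of the Auslander–Buchsbaum formula for rings of depth `n`. -/
def ABStatement (n : ℕ) : Prop :=
  ∀ (R : Type u) [CommRing R] [IsLocalRing R] [IsNoetherianRing R], depth R R = (n : ℕ∞) →
    ∀ (M : Type u) [AddCommGroup M] [Module R M] [Module.Finite R M] [Nontrivial M] (e : ℕ),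
      HasProjectiveDimensionLT (ModuleCat.of R M) (e + 1) →
      ¬ HasProjectiveDimensionLT (ModuleCat.of R M) e →
      (n : ℕ∞) = e + depth R M

theorem ab_zero : ABStatement.{u} 0 := by
  intro R _ _ _ hd M _ _ _ _ e h1 h2
  have hd0 : depth R R = 0 := by simpa using hd
  have hfree : Module.Free R M := free_of_depth_zero hd0 e M h1
  have he : e = 0 := by
    by_contra hne
    apply h2
    have : Projective (ModuleCat.of R M) := inferInstance
    have : HasProjectiveDimensionLT (ModuleCat.of R M) 1 :=
      projective_iff_hasProjectiveDimensionLT_one.mp this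
    exact hasProjectiveDimensionLT_of_ge _ 1 e (by omega)
  subst he
  rw [depth_of_free, hd0]
  simp

theorem ab_step1 (n : ℕ) (IH : ABStatement.{u} n)
    (R : Type u) [CommRing R] [IsLocalRing R] [IsNoetherianRing R]
    (hd : depth R R = ((n + 1 : ℕ) : ℕ∞))
    (M : Type u) [AddCommGroup M] [Module R M] [Module.Finite R M] [Nontrivial M]
    (hM : 1 ≤ depth R M) (e : ℕ)
    (h1 : HasProjectiveDimensionLT (ModuleCat.of R M) (e + 1))
    (h2 : ¬ HasProjectiveDimensionLT (ModuleCat.of R M) e) :
    ((n + 1 : ℕ) : ℕ∞) = e + depth R M := by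
  have hR1 : 1 ≤ depth R R := by
    rw [hd]
    exact_mod_cast Nat.le_add_left 1 n
  obtain ⟨x, hxm, hxR, hxM⟩ := exists_regular_both M hR1 hM
  have hloc : IsLocalRing (R ⧸ Ideal.span {x}) :=
    RLR.isLocalRing_quotient ((Ideal.span_singleton_le_iff_mem _).mpr hxm)
  have hdR' : depth (R ⧸ Ideal.span {x}) (R ⧸ Ideal.span {x}) = (n : ℕ∞) := by
    have h3 := Sk.depth_quotient_add_one R x hxm hxR
    rw [hd] at h3
    have h4 : depth (R ⧸ Ideal.span {x}) (R ⧸ Ideal.span {x}) + 1 = (n : ℕ∞) + 1 := by
      rw [h3]; push_cast; rfl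
    exact (ENat.add_left_injective_of_ne_top ENat.one_ne_top) h4
  have hfin : Module.Finite (R ⧸ Ideal.span {x}) (QuotSMulTop x M) :=
    Module.Finite.of_restrictScalars_finite R _ _
  have hnt : Nontrivial (QuotSMulTop x M) := nontrivial_quotSMulTop_of_mem_maximalIdeal M hxm
  have h1' := hasProjectiveDimensionLT_quotSMulTop x hxR e M hxM h1
  have h2' : ¬ HasProjectiveDimensionLT
      (ModuleCat.of (R ⧸ Ideal.span {x}) (QuotSMulTop x M)) e := by
    intro hcon
    cases e with
    | zero =>
      have hz := (hasProjectiveDimensionLT_zero_iff_isZero _).mp hcon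
      have : Subsingleton (QuotSMulTop x M) := ModuleCat.isZero_iff_subsingleton.mp hz
      exact not_subsingleton _ this
    | succ e' => exact h2 (hasProjectiveDimensionLT_of_quotSMulTop x hxm hxR e' M hxM hcon)
  have key := IH (R ⧸ Ideal.span {x}) hdR' (QuotSMulTop x M) e h1' h2'
  have : IsLocalHom (algebraMap R (R ⧸ Ideal.span {x})) :=
    IsLocalHom.of_surjective _ Ideal.Quotient.mk_surjective
  have htower : depth R (QuotSMulTop x M) = depth (R ⧸ Ideal.span {x}) (QuotSMulTop x M) :=
    depth_eq_of_tower R (R ⧸ Ideal.span {x}) (QuotSMulTop x M)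
  have hne : maximalIdeal R • (⊤ : Submodule R M) ≠ ⊤ := smul_top_ne_top_of_local R M
  have hq : depth R (QuotSMulTop x M) + 1 = depth R M :=
    idealDepth_quotSMulTop_add_one hne hxm hxM
  rw [← hq, htower, ← add_assoc, ← key]
  push_cast
  rfl

theorem ab_step2 (n : ℕ) (IH : ABStatement.{u} n)
    (R : Type u) [CommRing R] [IsLocalRing R] [IsNoetherianRing R]
    (hd : depth R R = ((n + 1 : ℕ) : ℕ∞))
    (M : Type u) [AddCommGroup M] [Module R M] [Module.Finite R M] [Nontrivial M]
    (hM : depth R M = 0) (e : ℕ)
    (h1 : HasProjectiveDimensionLT (ModuleCat.of R M) (e + 1))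
    (h2 : ¬ HasProjectiveDimensionLT (ModuleCat.of R M) e) :
    ((n + 1 : ℕ) : ℕ∞) = e + depth R M := by
  obtain ⟨n', π, hπ, -⟩ := exists_minimal_cover (R := R) M
  have hn' : n' ≠ 0 := by
    rintro rfl
    exact not_subsingleton M hπ.subsingleton
  obtain ⟨n'', rfl⟩ := Nat.exists_eq_succ_of_ne_zero hn'
  set K := LinearMap.ker π with hK
  have hS := LinearMap.shortExact_shortComplexKer hπ
  have hdF : depth R (Fin (n'' + 1) → R) = ((n + 1 : ℕ) : ℕ∞) := by
    rw [← hd]
    exact idealDepth_pi_succ _ n''
  have hnp : ¬ HasProjectiveDimensionLT (ModuleCat.of R M) 1 := by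
    intro h
    have := free_of_projective_local h
    rw [depth_of_free, hd] at hM
    have : (n + 1 : ℕ) = 0 := by exact_mod_cast hM
    omega
  obtain ⟨e', rfl⟩ : ∃ e', e = e' + 1 := by
    cases e with
    | zero => exact absurd h1 hnp
    | succ e' => exact ⟨e', rfl⟩
  have hK1 : HasProjectiveDimensionLT (ModuleCat.of R K) (e' + 1) :=
    hS.hasProjectiveDimensionLT_X₁ (e' + 1) inferInstance h1
  have hK2 : ¬ HasProjectiveDimensionLT (ModuleCat.of R K) e' :=
    fun h => h2 (hS.hasProjectiveDimensionLT_X₃ e' h inferInstance)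
  have hKnt : Nontrivial K := by
    by_contra hcon
    rw [not_nontrivial_iff_subsingleton] at hcon
    apply hnp
    have hinj : Function.Injective π := by
      rw [← LinearMap.ker_eq_bot]
      exact Submodule.eq_bot_of_subsingleton
    have : Module.Free R M := Module.Free.of_equiv (LinearEquiv.ofBijective π ⟨hinj, hπ⟩)
    have : Projective (ModuleCat.of R M) := inferInstance
    exact projective_iff_hasProjectiveDimensionLT_one.mp this
  have hge : min (depth R (Fin (n'' + 1) → R)) (depth R M + 1) ≤ depth R K :=
    idealDepth_left_ge (maximalIdeal R) K.subtype π K.injective_subtype hπ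
      (LinearMap.exact_subtype_ker_map π)
  have hle : min (depth R (Fin (n'' + 1) → R)) (depth R K - 1) ≤ depth R M :=
    idealDepth_right_ge (maximalIdeal R) K.subtype π K.injective_subtype hπ
      (LinearMap.exact_subtype_ker_map π)
  have hKd : depth R K = 1 := by
    rw [hdF, hM] at hge hle
    apply le_antisymm
    · rcases min_le_iff.mp hle with h | h
      · exfalso
        have : (n + 1 : ℕ) ≤ 0 := by exact_mod_cast h
        omega
      · have := tsub_le_iff_right.mp h
        simpa using this
    · refine le_trans ?_ hge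
      rw [zero_add]
      apply le_min
      · exact_mod_cast Nat.le_add_left 1 n
      · exact le_rfl
  have := ab_step1 n IH R hd K (by rw [hKd]) e' hK1 hK2
  rw [this, hKd, hM]
  push_cast
  ring

theorem ab_main (n : ℕ) : ABStatement.{u} n := by
  induction n with
  | zero => exact ab_zero
  | succ n IH =>
    intro R _ _ _ hd M _ _ _ _ e h1 h2
    by_cases hM : depth R M = 0
    · exact ab_step2 n IH R hd M hM e h1 h2
    · exact ab_step1 n IH R hd M (Order.one_le_iff_ne_zero.mpr hM) e h1 h2

theorem auslander_buchsbaum (R : Type u) [CommRing R] [IsLocalRing R] [IsNoetherianRing R]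
    (M : Type u) [AddCommGroup M] [Module R M] [Module.Finite R M] [Nontrivial M] (e : ℕ)
    (he : projectiveDimension (ModuleCat.of R M) = e) :
    depth R R = e + depth R M := by
  obtain ⟨n, hn⟩ := ENat.ne_top_iff_exists.mp
    (idealDepth_ne_top (smul_top_ne_top_of_local R R))
  have hn' : depth R R = (n : ℕ∞) := hn.symm
  rw [hn']
  apply ab_main n R hn' M e
  · exact (projectiveDimension_le_iff _ e).mp he.le
  · rw [← projectiveDimension_ge_iff]
    exact he.ge

end Groth.Agent.Helper8.ABS
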