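import Mathlib
import Groth.Agent.Lib.Helper8.ABS9
import Groth.Agent.Lib.Helper8.ABS4

/-!
# Serre's criterion: finite projective dimension of the residue field implies regularity
-/

set_option autoImplicit false
universe u

namespace Groth.Agent.Helper8.ABS

open CategoryTheory Abelian IsLocalRing LocCoh Depth Pointwise

/-- The residue field is a retract of a module containing an element killed by the maximal
ideal on which some linear form to the residue field takes the value one. -/
noncomputable def retractResidueField {R : Type u} [CommRing R] [IsLocalRing R]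
    (N : Type u) [AddCommGroup N] [Module R N] (n₀ : N) (r : N →ₗ[R] ResidueField R)
    (h0 : ∀ a ∈ maximalIdeal R, a • n₀ = 0) (h1 : r n₀ = 1) :
    Retract (ModuleCat.of R (ResidueField R)) (ModuleCat.of R N) where
  i := ModuleCat.ofHom (Submodule.liftQ (maximalIdeal R) (LinearMap.toSpanSingleton R N n₀)
    (fun a ha => by simpa using h0 a ha))
  r := ModuleCat.ofHom r
  retract := by
    ext x
    obtain ⟨a, rfl⟩ := Ideal.Quotient.mk_surjective x
    show r (Submodule.liftQ (maximalIdeal R) (LinearMap.toSpanSingleton R N n₀) _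
      (Submodule.Quotient.mk a)) = _
    rw [Submodule.liftQ_apply, LinearMap.toSpanSingleton_apply, map_smul, h1]
    show a • (1 : ResidueField R) = residue R a
    rw [Algebra.smul_def, mul_one]
    rfl

theorem exists_linearMap_apply_eq_one {R : Type u} [CommRing R] [IsLocalRing R]
    (S : Type u) [CommRing S] [IsLocalRing S] [Algebra R S] [IsLocalHom (algebraMap R S)]
    {x : R} (hxm : x ∈ maximalIdeal R) (hx2 : x ∉ maximalIdeal R ^ 2) :
    ∃ φ : maximalIdeal R →ₗ[R] ResidueField S, φ ⟨x, hxm⟩ = 1 := by
  set k := ResidueField R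
  set v : CotangentSpace R := (maximalIdeal R).toCotangent ⟨x, hxm⟩ with hv'
  have hv : v ≠ 0 := fun h => hx2 ((Ideal.toCotangent_eq_zero _ _).mp h)
  obtain ⟨f, hf⟩ := Module.Projective.exists_dual_ne_zero k hv
  let ι : k →ₗ[R] ResidueField S := (Algebra.linearMap k (ResidueField S)).restrictScalars R
  refine ⟨ι ∘ₗ (((f v)⁻¹ • f).restrictScalars R) ∘ₗ (maximalIdeal R).toCotangent, ?_⟩
  simp only [LinearMap.coe_comp, Function.comp_apply, LinearMap.coe_restrictScalars,
    LinearMap.smul_apply, ← hv', smul_eq_mul, inv_mul_cancel₀ hf, ι]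
  simp

section

variable {R : Type u} [CommRing R] [IsLocalRing R] [IsNoetherianRing R]

theorem maximalIdeal_mem_associatedPrimes_of_eq_bot (hm : maximalIdeal R = ⊥) :
    maximalIdeal R ∈ associatedPrimes R R := by
  refine (isAssociatedPrime_iff (R := R) (M := R)).mpr ⟨inferInstance, 1, ?_⟩
  rw [hm]
  ext a
  rw [Submodule.mem_colon_singleton]
  simp

theorem exists_notMem_sq_regular (h : 1 ≤ depth R R) :
    ∃ x ∈ maximalIdeal R, x ∉ maximalIdeal R ^ 2 ∧ IsSMulRegular R x := by
  classical
  have hd0 : depth R R ≠ 0 := fun h0 => by rw [h0] at h; simp at h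
  have hnotass : maximalIdeal R ∉ associatedPrimes R R := fun hass =>
    hd0 ((depth_eq_zero_iff (A := R) (M := R)).mpr hass)
  by_contra hcon
  push Not at hcon
  have hfin : (associatedPrimes R R).Finite := associatedPrimes.finite R R
  have hsub : ((maximalIdeal R : Ideal R) : Set R) ⊆
      ((id (maximalIdeal R ^ 2) : Ideal R) : Set R) ∪ ((id (maximalIdeal R ^ 2) : Ideal R) : Set R) ∪
        ⋃ p ∈ (hfin.toFinset : Set (Ideal R)), ((id p : Ideal R) : Set R) := by
    intro x hx
    by_cases h2 : x ∈ maximalIdeal R ^ 2
    · left; left; exact h2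
    · have h3 := hcon x hx h2
      have hx' : x ∈ ⋃ p ∈ associatedPrimes R R, (p : Set R) := by
        rw [biUnion_associatedPrimes_eq_compl_regular]
        exact h3
      right
      simp only [Set.mem_iUnion] at hx' ⊢
      obtain ⟨p, hp, hxp⟩ := hx'
      exact ⟨p, by simpa using hp, hxp⟩
  rw [Ideal.subset_union_prime' (f := id)
    (fun p hp => ((hfin.mem_toFinset.mp hp).isPrime : p.IsPrime))] at hsub
  have hbot : maximalIdeal R ≤ maximalIdeal R ^ 2 → False := by
    intro h
    have hm : maximalIdeal R = ⊥ := by
      apply Submodule.eq_bot_of_le_smul_of_le_jacobson_bot (maximalIdeal R) (maximalIdeal R)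
        (IsNoetherian.noetherian _)
      · rw [smul_eq_mul, ← pow_two]; exact h
      · rw [IsLocalRing.jacobson_eq_maximalIdeal _ bot_ne_top]
    exact hnotass (maximalIdeal_mem_associatedPrimes_of_eq_bot hm)
  rcases hsub with h | h | ⟨p, hp, h⟩
  · exact hbot h
  · exact hbot h
  · have hp' : p ∈ associatedPrimes R R := hfin.mem_toFinset.mp hp
    have : p.IsPrime := hp'.isPrime
    have hpm : p = maximalIdeal R := le_antisymm (IsLocalRing.le_maximalIdeal this.ne_top) h
    exact hnotass (hpm ▸ hp')

theorem isRegularLocalRing_of_maximalIdeal_eq_bot (hm : maximalIdeal R = ⊥) :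
    IsRegularLocalRing R := by
  apply IsRegularLocalRing.of_spanFinrank_maximalIdeal_le
  rw [hm, Submodule.spanFinrank_bot]
  exact_mod_cast ringKrullDim_nonneg_of_nontrivial

end

theorem serre_aux (d : ℕ) :
    ∀ (R : Type u) [CommRing R] [IsLocalRing R] [IsNoetherianRing R], depth R R = (d : ℕ∞) →
      ∀ n : ℕ, HasProjectiveDimensionLT (ModuleCat.of R (ResidueField R)) n →
        IsRegularLocalRing R := by
  induction d with
  | zero =>
    intro R _ _ _ hd n h
    have hd0 : depth R R = 0 := by simpa using hd
    have h' : HasProjectiveDimensionLT (ModuleCat.of R (ResidueField R)) (n + 1) :=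
      hasProjectiveDimensionLT_of_ge _ n (n + 1) (by omega)
    have hfree : Module.Free R (ResidueField R) := free_of_depth_zero hd0 n _ h'
    apply isRegularLocalRing_of_maximalIdeal_eq_bot
    rw [eq_bot_iff]
    intro y hy
    let b := Module.Free.chooseBasis R (ResidueField R)
    have hnon : Nonempty (Module.Free.ChooseBasisIndex R (ResidueField R)) := by
      by_contra hemp
      rw [not_nonempty_iff] at hemp
      exact not_subsingleton (ResidueField R) b.repr.toEquiv.subsingleton
    obtain ⟨i⟩ := hnon
    have h0 : y • b i = 0 := by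
      rw [Algebra.smul_def]
      have : algebraMap R (ResidueField R) y = 0 := (residue_eq_zero_iff y).mpr hy
      rw [this, zero_mul]
    have h2 : b.repr (y • b i) i = y := by simp
    rw [h0] at h2
    simp at h2
    rw [Ideal.mem_bot]
    exact h2.symm
  | succ d IH =>
    intro R _ _ _ hd n h
    have hR1 : 1 ≤ depth R R := by
      rw [hd]
      exact_mod_cast Nat.le_add_left 1 d
    obtain ⟨x, hxm, hx2, hxR⟩ := exists_notMem_sq_regular hR1
    have hloc : IsLocalRing (R ⧸ Ideal.span {x}) :=
      RLR.isLocalRing_quotient ((Ideal.span_singleton_le_iff_mem _).mpr hxm)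
    have hdR' : depth (R ⧸ Ideal.span {x}) (R ⧸ Ideal.span {x}) = (d : ℕ∞) := by
      have h3 := Sk.depth_quotient_add_one R x hxm hxR
      rw [hd] at h3
      have h4 : depth (R ⧸ Ideal.span {x}) (R ⧸ Ideal.span {x}) + 1 = (d : ℕ∞) + 1 := by
        rw [h3]; push_cast; rfl
      exact (ENat.add_left_injective_of_ne_top ENat.one_ne_top) h4
    have : IsLocalHom (algebraMap R (R ⧸ Ideal.span {x})) :=
      IsLocalHom.of_surjective _ Ideal.Quotient.mk_surjective
    -- finite projective dimension of the maximal ideal
    have hS := idealShortComplex_shortExact R (maximalIdeal R)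
    have hk : HasProjectiveDimensionLT (idealShortComplex R (maximalIdeal R)).X₃ (n + 1 + 1) :=
      hasProjectiveDimensionLT_of_ge (ModuleCat.of R (ResidueField R)) n (n + 1 + 1) (by omega)
    have hR : HasProjectiveDimensionLT (idealShortComplex R (maximalIdeal R)).X₂ (n + 1) := by
      have : Projective (idealShortComplex R (maximalIdeal R)).X₂ := by
        change Projective (ModuleCat.of R R)
        infer_instance
      infer_instance
    have hm : HasProjectiveDimensionLT (ModuleCat.of R (maximalIdeal R)) (n + 1) :=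
      hS.hasProjectiveDimensionLT_X₁ (n + 1) hR hk
    have hxM : IsSMulRegular (maximalIdeal R) x := isSMulRegular_submodule x hxR _
    have hN := hasProjectiveDimensionLT_quotSMulTop x hxR n (maximalIdeal R) hxM hm
    -- the retraction
    obtain ⟨φ, hφ⟩ := exists_linearMap_apply_eq_one (R ⧸ Ideal.span {x}) hxm hx2
    have hφx : x • (⊤ : Submodule R (maximalIdeal R)) ≤ LinearMap.ker φ := by
      intro z hz
      rw [Submodule.mem_smul_pointwise_iff_exists] at hz
      obtain ⟨w, -, rfl⟩ := hz
      rw [LinearMap.mem_ker, map_smul, Algebra.smul_def]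
      have : algebraMap R (ResidueField (R ⧸ Ideal.span {x})) x = 0 := by
        rw [IsScalarTower.algebraMap_apply R (R ⧸ Ideal.span {x}) (ResidueField (R ⧸ Ideal.span {x}))]
        have : algebraMap R (R ⧸ Ideal.span {x}) x = 0 :=
          Ideal.Quotient.eq_zero_iff_mem.mpr (Ideal.mem_span_singleton_self x)
        rw [this, map_zero]
      rw [this, zero_mul]
    let r0 : QuotSMulTop x (maximalIdeal R) →ₗ[R] ResidueField (R ⧸ Ideal.span {x}) :=
      Submodule.liftQ _ φ hφx
    let r : QuotSMulTop x (maximalIdeal R) →ₗ[R ⧸ Ideal.span {x}]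
        ResidueField (R ⧸ Ideal.span {x}) :=
      r0.extendScalarsOfSurjective Ideal.Quotient.mk_surjective
    let n₀ : QuotSMulTop x (maximalIdeal R) := Submodule.Quotient.mk ⟨x, hxm⟩
    have hr : r n₀ = 1 := hφ
    have h0 : ∀ a ∈ maximalIdeal (R ⧸ Ideal.span {x}), a • n₀ = 0 := by
      intro a ha
      obtain ⟨a, rfl⟩ := Ideal.Quotient.mk_surjective a
      have ham : a ∈ maximalIdeal R := by
        rw [mem_maximalIdeal, mem_nonunits_iff] at ha ⊢
        exact fun hu => ha (hu.map _)
      show (Submodule.Quotient.mk (a • (⟨x, hxm⟩ : maximalIdeal R)) :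
        QuotSMulTop x (maximalIdeal R)) = 0
      rw [Submodule.Quotient.mk_eq_zero, Submodule.mem_smul_pointwise_iff_exists]
      refine ⟨⟨a, ham⟩, Submodule.mem_top, ?_⟩
      apply Subtype.ext
      simp [mul_comm]
    have hret := retractResidueField (QuotSMulTop x (maximalIdeal R)) n₀ r h0 hr
    have hk' : HasProjectiveDimensionLT (ModuleCat.of (R ⧸ Ideal.span {x})
        (ResidueField (R ⧸ Ideal.span {x}))) (n + 1) := hret.hasProjectiveDimensionLT (n + 1)
    have hreg' := IH (R ⧸ Ideal.span {x}) hdR' (n + 1) hk'
    have hleft : IsLeftRegular x := hxR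
    exact RLR.of_quotient_singleton x hxm
      (isRegular_iff_mem_nonZeroDivisors.mp (isLeftRegular_iff_isRegular.mp hleft))

/-- **Serre**: a Noetherian local ring whose residue field has finite projective dimension is
regular. -/
theorem isRegularLocalRing_of_residueField (R : Type u) [CommRing R] [IsLocalRing R]
    [IsNoetherianRing R] (n : ℕ)
    (h : HasProjectiveDimensionLT (ModuleCat.of R (ResidueField R)) n) :
    IsRegularLocalRing R := by
  obtain ⟨d, hd⟩ := ENat.ne_top_iff_exists.mp
    (idealDepth_ne_top (smul_top_ne_top_of_local R R))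
  exact serre_aux d R hd.symm n h

end Groth.Agent.Helper8.ABS
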