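import Mathlib

/-!
# Projective dimension of a finite module is detected by `Ext` into cyclic modules;
projective dimension and localization
-/

set_option autoImplicit false
universe u

namespace Groth.Agent.Helper8.ABS

open CategoryTheory Abelian Limits

variable {A : Type u} [CommRing A]

theorem ext_subsingleton_of_iso_right (X : ModuleCat.{u} A) {Y Y' : ModuleCat.{u} A} (e : Y ≅ Y')
    (m : ℕ) (h : Subsingleton (Ext X Y m)) : Subsingleton (Ext X Y' m) := by
  refine subsingleton_of_forall_eq 0 fun x => ?_
  have h1 : (x.comp (Ext.mk₀ e.inv) (add_zero m)).comp (Ext.mk₀ e.hom) (add_zero m) = x := by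
    rw [Ext.comp_assoc_of_third_deg_zero, Ext.mk₀_comp_mk₀, e.inv_hom_id, Ext.comp_mk₀_id]
  have h2 : x.comp (Ext.mk₀ e.inv) (add_zero m) = 0 := Subsingleton.elim _ _
  rw [← h1, h2, Ext.zero_comp]

theorem ext_subsingleton_of_subsingleton_right (X : ModuleCat.{u} A) (L : Type u)
    [AddCommGroup L] [Module A L] [Subsingleton L] (m : ℕ) :
    Subsingleton (Ext X (ModuleCat.of A L) m) := by
  refine subsingleton_of_forall_eq 0 fun x => ?_
  have hz : IsZero (ModuleCat.of A L) := ModuleCat.isZero_of_subsingleton _
  have h1 : x.comp (Ext.mk₀ (𝟙 (ModuleCat.of A L))) (add_zero m) = x := Ext.comp_mk₀_id x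
  rw [← h1, hz.eq_of_src (𝟙 _) 0, Ext.mk₀_zero, Ext.comp_zero]

/-- Vanishing of `Ext^m(X, A/I)` for all ideals gives vanishing of `Ext^m(X, L)` for all finite
`L`. -/
theorem ext_subsingleton_of_forall_cyclic (X : ModuleCat.{u} A) (m : ℕ)
    (h : ∀ I : Ideal A, Subsingleton (Ext X (ModuleCat.of A (A ⧸ I)) m)) (k : ℕ) :
    ∀ (L : Type u) [AddCommGroup L] [Module A L] (v : Fin k → L),
      Submodule.span A (Set.range v) = ⊤ → Subsingleton (Ext X (ModuleCat.of A L) m) := by
  induction k with
  | zero =>
    intro L _ _ v hv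
    have : Subsingleton L := by
      have h1 : Set.range v = ∅ := Set.range_eq_empty v
      rw [h1, Submodule.span_empty] at hv
      exact (Submodule.subsingleton_iff A).mp (subsingleton_of_bot_eq_top hv)
    exact ext_subsingleton_of_subsingleton_right X L m
  | succ k ih =>
    intro L _ _ v hv
    set L' : Submodule A L := Submodule.span A (Set.range (v ∘ Fin.castSucc)) with hL'
    let v' : Fin k → L' := fun i => ⟨v (Fin.castSucc i), Submodule.subset_span ⟨i, rfl⟩⟩
    have hv' : Submodule.span A (Set.range v') = ⊤ := by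
      have h1 : Set.range v' = ((↑) : L' → L) ⁻¹' (Set.range (v ∘ Fin.castSucc)) := by
        ext y
        constructor
        · rintro ⟨i, rfl⟩
          exact ⟨i, rfl⟩
        · rintro ⟨i, hi⟩
          exact ⟨i, Subtype.ext hi⟩
      rw [h1]
      exact Submodule.span_span_coe_preimage
    have h1 := ih L' v' hv'
    -- the quotient is cyclic
    let φ : A →ₗ[A] L ⧸ L' := LinearMap.toSpanSingleton A _ (L'.mkQ (v (Fin.last k)))
    have hφ : Function.Surjective φ := by
      intro q
      obtain ⟨y, rfl⟩ := Submodule.Quotient.mk_surjective _ q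
      have hy : y ∈ Submodule.span A (Set.range v) := by rw [hv]; exact Submodule.mem_top
      refine Submodule.span_induction (p := fun y _ => ∃ a, φ a = Submodule.Quotient.mk y)
        ?_ ?_ ?_ ?_ hy
      · rintro _ ⟨i, rfl⟩
        refine Fin.lastCases ?_ (fun j => ?_) i
        · exact ⟨1, by simp [φ]⟩
        · refine ⟨0, ?_⟩
          rw [map_zero, eq_comm, Submodule.Quotient.mk_eq_zero]
          exact Submodule.subset_span ⟨j, rfl⟩
      · exact ⟨0, by simp⟩
      · rintro a b _ _ ⟨a', ha'⟩ ⟨b', hb'⟩
        exact ⟨a' + b', by rw [map_add, ha', hb', Submodule.Quotient.mk_add]⟩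
      · rintro r a _ ⟨a', ha'⟩
        exact ⟨r • a', by rw [map_smul, ha', Submodule.Quotient.mk_smul]⟩
    let e : (A ⧸ LinearMap.ker φ) ≃ₗ[A] L ⧸ L' := φ.quotKerEquivOfSurjective hφ
    have h2 : Subsingleton (Ext X (ModuleCat.of A (L ⧸ L')) m) :=
      ext_subsingleton_of_iso_right X e.toModuleIso m (h (LinearMap.ker φ))
    let S : ShortComplex (ModuleCat.{u} A) :=
      ModuleCat.shortComplexOfCompEqZero L'.subtype L'.mkQ (by
        apply LinearMap.ext
        intro x
        exact (Submodule.Quotient.mk_eq_zero L').mpr x.2)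
    have hS : S.ShortExact := ModuleCat.shortComplex_shortExact S
      (LinearMap.exact_subtype_mkQ L') (Submodule.injective_subtype L')
      (Submodule.mkQ_surjective L')
    refine subsingleton_of_forall_eq 0 fun x₂ => ?_
    have h3 : Subsingleton (Ext X S.X₃ m) := h2
    have h4 : Subsingleton (Ext X S.X₁ m) := h1
    obtain ⟨x₁, rfl⟩ := Ext.covariant_sequence_exact₂ X hS x₂ (Subsingleton.elim _ _)
    rw [Subsingleton.elim x₁ 0, Ext.zero_comp]

theorem hasProjectiveDimensionLT_iff_forall_ideal [IsNoetherianRing A] (M : Type u)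
    [AddCommGroup M] [Module A M] [Module.Finite A M] (n : ℕ) :
    HasProjectiveDimensionLT (ModuleCat.of A M) (n + 1) ↔
      ∀ I : Ideal A, Subsingleton (Ext (ModuleCat.of A M) (ModuleCat.of A (A ⧸ I)) (n + 1)) := by
  constructor
  · intro _ _
    exact HasProjectiveDimensionLT.subsingleton (ModuleCat.of A M) (n + 1) (n + 1) le_rfl _
  · intro h
    refine ModuleCat.hasProjectiveDimensionLT_of_forall_finite (ModuleCat.of A M) (n + 1) ?_
    intro L hL
    obtain ⟨k, v, hv⟩ := Module.Finite.exists_fin (R := A) (M := L)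
    exact ext_subsingleton_of_forall_cyclic (ModuleCat.of A M) (n + 1) h k L v hv

theorem hasProjectiveDimensionLT_iff_forall_localization [IsNoetherianRing A] (M : Type u)
    [AddCommGroup M] [Module A M] [Module.Finite A M] (n : ℕ) :
    HasProjectiveDimensionLT (ModuleCat.of A M) (n + 1) ↔
      ∀ p : PrimeSpectrum A, HasProjectiveDimensionLT
        (ModuleCat.of (Localization.AtPrime p.asIdeal)
          (LocalizedModule p.asIdeal.primeCompl M)) (n + 1) := by
  have key := ModuleCat.hasProjectiveDimensionLE_iff_forall_primeSpectrum n (ModuleCat.of A M)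
  have hiso : ∀ p : PrimeSpectrum A,
      ((ModuleCat.of A M).localizedModule p.asIdeal.primeCompl) ≅
        ModuleCat.of (Localization.AtPrime p.asIdeal) (LocalizedModule p.asIdeal.primeCompl M) :=
    fun p => (Shrink.linearEquiv (Localization p.asIdeal.primeCompl)
      (LocalizedModule p.asIdeal.primeCompl M)).toModuleIso
  constructor
  · intro h p
    have h1 := key.mp h p
    exact hasProjectiveDimensionLT_of_iso (hiso p) (n + 1)
  · intro h
    refine key.mpr fun p => ?_
    have := h p
    exact hasProjectiveDimensionLT_of_iso (hiso p).symm (n + 1)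

end Groth.Agent.Helper8.ABS
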