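import Mathlib
import Groth.Agent.Lib.Helper8.ABS10
import Groth.Agent.Lib.Helper8.ABS6

/-!
# Localizations of regular local rings are regular
-/

set_option autoImplicit false
universe u

namespace Groth.Agent.Helper8.ABS

open CategoryTheory Abelian IsLocalRing LocCoh Depth Pointwise

/-- The residue field of `A_p` is a retract of `(A/p)_p`. -/
theorem nonempty_retract_localizedModule_quotient (A : Type u) [CommRing A] (p : Ideal A)
    [p.IsPrime] :
    Nonempty (Retract (ModuleCat.of (Localization.AtPrime p)
        (ResidueField (Localization.AtPrime p)))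
      (ModuleCat.of (Localization.AtPrime p) (LocalizedModule p.primeCompl (A ⧸ p)))) := by
  set Ap := Localization.AtPrime p
  set k := ResidueField Ap
  let g : A ⧸ p →ₗ[A] k := Submodule.liftQ p (Algebra.linearMap A k) (by
    intro a ha
    rw [LinearMap.mem_ker, Algebra.linearMap_apply,
      IsScalarTower.algebraMap_apply A Ap k]
    exact (residue_eq_zero_iff _).mpr
      ((IsLocalization.AtPrime.to_map_mem_maximal_iff Ap p a).mpr ha))
  have hunit : ∀ s : p.primeCompl, IsUnit (algebraMap A (Module.End A k) s) := by
    intro s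
    have hs : IsUnit (algebraMap A k s) := by
      rw [IsScalarTower.algebraMap_apply A Ap k]
      exact (IsLocalization.map_units Ap s).map _
    rw [Module.End.isUnit_iff]
    constructor
    · intro a b hab
      simp only [Module.algebraMap_end_apply] at hab
      rw [Algebra.smul_def, Algebra.smul_def] at hab
      exact hs.mul_left_cancel hab
    · intro b
      obtain ⟨u, hu⟩ := hs
      refine ⟨(↑u⁻¹ : k) * b, ?_⟩
      simp only [Module.algebraMap_end_apply]
      rw [Algebra.smul_def, ← hu, ← mul_assoc, Units.mul_inv, one_mul]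
  let r0 : LocalizedModule p.primeCompl (A ⧸ p) →ₗ[A] k :=
    LocalizedModule.lift p.primeCompl g hunit
  let r : LocalizedModule p.primeCompl (A ⧸ p) →ₗ[Ap] k :=
    r0.extendScalarsOfIsLocalization p.primeCompl Ap
  let n₀ : LocalizedModule p.primeCompl (A ⧸ p) := LocalizedModule.mk 1 1
  have hr : r n₀ = 1 := by
    show LocalizedModule.lift p.primeCompl g hunit (LocalizedModule.mk 1 1) = 1
    rw [LocalizedModule.lift_mk_one]
    show (Algebra.linearMap A k) 1 = 1
    simp
  have h0 : ∀ a ∈ maximalIdeal Ap, a • n₀ = 0 := by
    intro a ha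
    obtain ⟨x, s, rfl⟩ := IsLocalization.exists_mk'_eq p.primeCompl a
    rw [IsLocalization.AtPrime.mk'_mem_maximal_iff Ap p] at ha
    show IsLocalization.mk' Ap x s • LocalizedModule.mk (1 : A ⧸ p) 1 = 0
    rw [← Localization.mk_eq_mk'_apply, LocalizedModule.mk_smul_mk]
    have : x • (1 : A ⧸ p) = 0 := by
      rw [Algebra.smul_def, mul_one]
      exact Ideal.Quotient.eq_zero_iff_mem.mpr ha
    rw [this, LocalizedModule.zero_mk]
  exact ⟨retractResidueField _ n₀ r h0 hr⟩

theorem isRegularLocalRing_localization (R : Type u) [CommRing R] [IsRegularLocalRing R]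
    (p : Ideal R) [p.IsPrime] : IsRegularLocalRing (Localization.AtPrime p) := by
  set d := (maximalIdeal R).spanFinrank with hd'
  have hd : ringKrullDim R = (d : WithBot ℕ∞) :=
    (IsRegularLocalRing.spanFinrank_maximalIdeal (R := R)).symm
  have h1 := hasProjectiveDimensionLT_of_regular_finite d R hd (R ⧸ p)
  have h2 := (hasProjectiveDimensionLT_iff_forall_localization (R ⧸ p) d).mp h1
    ⟨p, inferInstance⟩
  obtain ⟨hret⟩ := nonempty_retract_localizedModule_quotient R p
  have h3 := hret.hasProjectiveDimensionLT (d + 1)
  exact isRegularLocalRing_of_residueField _ (d + 1) h3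

end Groth.Agent.Helper8.ABS
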