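import Mathlib

/-!
# Projective dimension and flat base change
-/

set_option autoImplicit false
universe u

namespace Groth.Agent.Helper8.ABS

open CategoryTheory Abelian TensorProduct

section general

variable {C : Type*} [Category C] [Abelian C] {D : Type*} [Category D] [Abelian D]

theorem projectiveDimension_le_of_forall (X : C) (Y : D)
    (h : ∀ n : ℕ, HasProjectiveDimensionLT X n → HasProjectiveDimensionLT Y n) :
    projectiveDimension Y ≤ projectiveDimension X := by
  refine le_of_forall_ge fun N hN => ?_
  induction N with
  | bot =>
    rw [le_bot_iff, projectiveDimension_eq_bot_iff,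
      ← hasProjectiveDimensionLT_zero_iff_isZero] at hN ⊢
    exact h 0 hN
  | coe N =>
    induction N with
    | top => exact le_top
    | coe n =>
      have hN' : projectiveDimension X ≤ (n : WithBot ℕ∞) := hN
      show projectiveDimension Y ≤ (n : WithBot ℕ∞)
      rw [projectiveDimension_le_iff] at hN' ⊢
      exact h (n + 1) hN'

theorem projectiveDimension_eq_of_forall (X : C) (Y : D)
    (h : ∀ n : ℕ, HasProjectiveDimensionLT X n ↔ HasProjectiveDimensionLT Y n) :
    projectiveDimension X = projectiveDimension Y :=
  le_antisymm (projectiveDimension_le_of_forall Y X fun n => (h n).mpr)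
    (projectiveDimension_le_of_forall X Y fun n => (h n).mp)

end general

section baseChange

variable (A B : Type u) [CommRing A] [CommRing B] [Algebra A B]

/-- The base change of a short exact sequence along a flat algebra. -/
theorem shortExact_baseChange [Module.Flat A B] {M N P : Type u} [AddCommGroup M] [Module A M]
    [AddCommGroup N] [Module A N] [AddCommGroup P] [Module A P]
    (f : M →ₗ[A] N) (g : N →ₗ[A] P) (hf : Function.Injective f) (hg : Function.Surjective g)
    (hfg : Function.Exact f g) :
    ∃ S : ShortComplex (ModuleCat.{u} B), S.ShortExact ∧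
      S.X₁ = ModuleCat.of B (B ⊗[A] M) ∧ S.X₂ = ModuleCat.of B (B ⊗[A] N) ∧
      S.X₃ = ModuleCat.of B (B ⊗[A] P) := by
  have hcomp : (g.baseChange B).comp (f.baseChange B) = 0 := by
    rw [← LinearMap.baseChange_comp, hfg.linearMap_comp_eq_zero, LinearMap.baseChange_zero]
  refine ⟨ModuleCat.shortComplexOfCompEqZero (f.baseChange B) (g.baseChange B) hcomp,
    ?_, rfl, rfl, rfl⟩
  refine ModuleCat.shortComplex_shortExact _ ?_ ?_ ?_
  · have := lTensor_exact B hfg hg
    exact this
  · exact Module.Flat.lTensor_preserves_injective_linearMap (M := B) f hf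
  · exact LinearMap.lTensor_surjective B hg

theorem hasProjectiveDimensionLT_baseChange [Module.Flat A B] (n : ℕ) :
    ∀ (M : Type u) [AddCommGroup M] [Module A M],
      HasProjectiveDimensionLT (ModuleCat.of A M) (n + 1) →
      HasProjectiveDimensionLT (ModuleCat.of B (B ⊗[A] M)) (n + 1) := by
  induction n with
  | zero =>
    intro M _ _ h
    have h1 : Projective (ModuleCat.of A M) := projective_iff_hasProjectiveDimensionLT_one.mpr h
    have h2 : Module.Projective A M := (IsProjective.iff_projective _).mpr h1
    have h3 : Module.Projective B (B ⊗[A] M) := inferInstance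
    have h4 : Projective (ModuleCat.of B (B ⊗[A] M)) := (IsProjective.iff_projective _).mp h3
    exact projective_iff_hasProjectiveDimensionLT_one.mp h4
  | succ n ih =>
    intro M _ _ h
    let π : (M →₀ A) →ₗ[A] M := Finsupp.linearCombination A id
    have hπ : Function.Surjective π := Finsupp.linearCombination_id_surjective A M
    set K := LinearMap.ker π with hK
    have hS := LinearMap.shortExact_shortComplexKer hπ
    have h1 : HasProjectiveDimensionLT (ModuleCat.of A K) (n + 1) :=
      hS.hasProjectiveDimensionLT_X₁ (n + 1) inferInstance h
    have h2 := ih K h1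
    obtain ⟨S, hSbar, hX₁, hX₂, hX₃⟩ := shortExact_baseChange A B (M := K) (N := M →₀ A)
      (P := M) K.subtype π K.injective_subtype hπ (LinearMap.exact_subtype_ker_map π)
    rw [← hX₃]
    rw [← hX₁] at h2
    have h3 : HasProjectiveDimensionLT S.X₂ (n + 1 + 1) := by
      rw [hX₂]
      have : Module.Projective B (B ⊗[A] (M →₀ A)) := inferInstance
      have : Projective (ModuleCat.of B (B ⊗[A] (M →₀ A))) :=
        (IsProjective.iff_projective _).mp this
      infer_instance
    exact hSbar.hasProjectiveDimensionLT_X₃ (n + 1) h2 h3

theorem hasProjectiveDimensionLT_of_baseChange [IsNoetherianRing A] [Module.FaithfullyFlat A B]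
    (n : ℕ) :
    ∀ (M : Type u) [AddCommGroup M] [Module A M] [Module.Finite A M],
      HasProjectiveDimensionLT (ModuleCat.of B (B ⊗[A] M)) (n + 1) →
      HasProjectiveDimensionLT (ModuleCat.of A M) (n + 1) := by
  induction n with
  | zero =>
    intro M _ _ _ h
    have h1 : Projective (ModuleCat.of B (B ⊗[A] M)) :=
      projective_iff_hasProjectiveDimensionLT_one.mpr h
    have h2 : Module.Projective B (B ⊗[A] M) := (IsProjective.iff_projective _).mpr h1
    have h3 : Module.Flat B (B ⊗[A] M) := inferInstance
    have h4 : Module.Flat A M := Module.Flat.of_flat_tensorProduct A M B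
    have : Module.FinitePresentation A M := Module.finitePresentation_of_finite A M
    have h5 : Module.Projective A M := Module.Flat.projective_of_finitePresentation
    have h6 : Projective (ModuleCat.of A M) := (IsProjective.iff_projective _).mp h5
    exact projective_iff_hasProjectiveDimensionLT_one.mp h6
  | succ n ih =>
    intro M _ _ _ h
    obtain ⟨k, π, hπ⟩ := Module.Finite.exists_fin' A M
    set K := LinearMap.ker π with hK
    have hS := LinearMap.shortExact_shortComplexKer hπ
    obtain ⟨S, hSbar, hX₁, hX₂, hX₃⟩ := shortExact_baseChange A B (LinearMap.ker π).subtype π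
      (LinearMap.ker π).injective_subtype hπ (LinearMap.exact_subtype_ker_map π)
    have h3 : HasProjectiveDimensionLT S.X₂ (n + 1) := by
      rw [hX₂]
      have : Module.Projective B (B ⊗[A] (Fin k → A)) := inferInstance
      have : Projective (ModuleCat.of B (B ⊗[A] (Fin k → A))) :=
        (IsProjective.iff_projective _).mp this
      infer_instance
    rw [← hX₃] at h
    have h1 := hSbar.hasProjectiveDimensionLT_X₁ (n + 1) h3 h
    rw [hX₁] at h1
    have h2 := ih K h1
    exact hS.hasProjectiveDimensionLT_X₃ (n + 1) h2 inferInstance

theorem projectiveDimension_baseChange_le [Module.Flat A B] (M : Type u) [AddCommGroup M]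
    [Module A M] :
    projectiveDimension (ModuleCat.of B (B ⊗[A] M)) ≤ projectiveDimension (ModuleCat.of A M) := by
  refine projectiveDimension_le_of_forall _ _ fun n h => ?_
  cases n with
  | zero =>
    rw [hasProjectiveDimensionLT_zero_iff_isZero, ModuleCat.isZero_iff_subsingleton] at h ⊢
    have : Subsingleton M := h
    infer_instance
  | succ n => exact hasProjectiveDimensionLT_baseChange A B n M h

theorem projectiveDimension_baseChange_eq [IsNoetherianRing A] [Module.FaithfullyFlat A B]
    (M : Type u) [AddCommGroup M] [Module A M] [Module.Finite A M] :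
    projectiveDimension (ModuleCat.of B (B ⊗[A] M)) = projectiveDimension (ModuleCat.of A M) := by
  refine le_antisymm (projectiveDimension_baseChange_le A B M) ?_
  refine projectiveDimension_le_of_forall _ _ fun n h => ?_
  cases n with
  | zero =>
    rw [hasProjectiveDimensionLT_zero_iff_isZero, ModuleCat.isZero_iff_subsingleton] at h ⊢
    have : Subsingleton (B ⊗[A] M) := h
    exact (Module.FaithfullyFlat.subsingleton_tensorProduct_iff_right A B).mp this
  | succ n => exact hasProjectiveDimensionLT_of_baseChange A B n M h

end baseChange

end Groth.Agent.Helper8.ABS
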