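import Mathlib
import Groth.Agent.Lib.Helper8.ABS3
import Groth.Agent.Lib.Helper8.ABS4

/-!
# Global dimension of a regular local ring
-/

set_option autoImplicit false
universe u

namespace Groth.Agent.Helper8.ABS

open CategoryTheory Abelian IsLocalRing

theorem hasInjectiveDimensionLT_iff_forall_ideal (A : Type u) [CommRing A] (M : Type u)
    [AddCommGroup M] [Module A M] (n : ℕ) :
    HasInjectiveDimensionLT (ModuleCat.of A M) (n + 1) ↔
      ∀ I : Ideal A, Subsingleton (Ext (ModuleCat.of A (A ⧸ I)) (ModuleCat.of A M) (n + 1)) :=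
  ⟨fun _ _ => HasInjectiveDimensionLT.subsingleton (ModuleCat.of A M) (n + 1) (n + 1) le_rfl _,
    hasInjectiveDimensionLT_of_forall_ideal A n M⟩

/-- Every module over a regular local ring of dimension `d` has projective dimension `≤ d`. -/
theorem hasProjectiveDimensionLT_of_regular (R : Type u) [CommRing R] [IsRegularLocalRing R]
    (d : ℕ) (hd : ringKrullDim R = d) (M : Type u) [AddCommGroup M] [Module R M] :
    HasProjectiveDimensionLT (ModuleCat.of R M) (d + 1) := by
  refine hasProjectiveDimensionLT_of_enoughInjectives _ _ fun Y => ?_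
  have hY : HasInjectiveDimensionLT (ModuleCat.of R Y) (d + 1) := by
    refine hasInjectiveDimensionLT_of_forall_ideal R d Y fun I => ?_
    have := hasProjectiveDimensionLT_of_regular_finite d R hd (R ⧸ I)
    exact HasProjectiveDimensionLT.subsingleton (ModuleCat.of R (R ⧸ I)) (d + 1) (d + 1) le_rfl _
  exact HasInjectiveDimensionLT.subsingleton (ModuleCat.of R Y) (d + 1) (d + 1) le_rfl _

end Groth.Agent.Helper8.ABS
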