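import Mathlib
import Groth.Agent.Lib.Helper8.ABS11
import Groth.Agent.Lib.Helper8.ABS12
import Groth.Agent.Lib.Helper8.ABS5

/-!
# Flat descent of regularity and of global dimension
-/

set_option autoImplicit false
universe u

namespace Groth.Agent.Helper8.ABS

open CategoryTheory Abelian IsLocalRing TensorProduct

/-- Global dimension is detected on cyclic modules. -/
theorem hasProjectiveDimensionLT_of_forall_ideal (A : Type u) [CommRing A] (n : ℕ)
    (h : ∀ I : Ideal A, HasProjectiveDimensionLT (ModuleCat.of A (A ⧸ I)) (n + 1))
    (M : Type u) [AddCommGroup M] [Module A M] :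
    HasProjectiveDimensionLT (ModuleCat.of A M) (n + 1) := by
  refine hasProjectiveDimensionLT_of_enoughInjectives _ _ fun Y => ?_
  have hY : HasInjectiveDimensionLT (ModuleCat.of A Y) (n + 1) := by
    refine hasInjectiveDimensionLT_of_forall_ideal A n Y fun I => ?_
    have := h I
    exact HasProjectiveDimensionLT.subsingleton (ModuleCat.of A (A ⧸ I)) (n + 1) (n + 1) le_rfl _
  exact HasInjectiveDimensionLT.subsingleton (ModuleCat.of A Y) (n + 1) (n + 1) le_rfl _

theorem isRegularLocalRing_of_flat (R : Type u) [CommRing R] [IsLocalRing R] [IsNoetherianRing R]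
    (S : Type u) [CommRing S] [IsRegularLocalRing S] [Algebra R S]
    [IsLocalHom (algebraMap R S)] [Module.Flat R S] : IsRegularLocalRing R := by
  have : Module.FaithfullyFlat R S := Module.FaithfullyFlat.of_flat_of_isLocalHom
  set d := (maximalIdeal S).spanFinrank with hd'
  have hd : ringKrullDim S = (d : WithBot ℕ∞) :=
    (IsRegularLocalRing.spanFinrank_maximalIdeal (R := S)).symm
  have h1 := hasProjectiveDimensionLT_of_regular_finite d S hd (S ⊗[R] ResidueField R)
  have h2 := hasProjectiveDimensionLT_of_baseChange R S d (ResidueField R) h1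
  exact isRegularLocalRing_of_residueField R (d + 1) h2

theorem hasProjectiveDimensionLT_of_flat_isLocalHom (A B : Type u) [CommRing A] [CommRing B]
    [IsLocalRing A] [IsLocalRing B] [IsNoetherianRing A] [Algebra A B]
    [IsLocalHom (algebraMap A B)] [Module.Flat A B] (n : ℕ)
    (hB : ∀ (N : Type u) [AddCommGroup N] [Module B N],
      HasProjectiveDimensionLT (ModuleCat.of B N) (n + 1))
    (M : Type u) [AddCommGroup M] [Module A M] :
    HasProjectiveDimensionLT (ModuleCat.of A M) (n + 1) := by
  have : Module.FaithfullyFlat A B := Module.FaithfullyFlat.of_flat_of_isLocalHom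
  refine hasProjectiveDimensionLT_of_forall_ideal A n (fun I => ?_) M
  exact hasProjectiveDimensionLT_of_baseChange A B n (A ⧸ I) (hB _)

end Groth.Agent.Helper8.ABS
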