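import Mathlib
import Groth.Agent.Lib.Helper8.Depth14
import Groth.Agent.Lib.Helper8.Depth6
import Groth.Agent.Lib.Helper8.Depth2

/-!
# Depth with respect to an ideal under flat base change
-/

set_option autoImplicit false
universe u

namespace Groth.Agent.Helper8.FlatDepth

open LocCoh Depth RingTheory.Sequence TensorProduct

variable (A B : Type u) [CommRing A] [CommRing B] [Algebra A B]

/-- If `I M = M` then `IB (B ⊗ M) = B ⊗ M`. -/
theorem map_smul_top_eq_top (I : Ideal A) (M : Type u) [AddCommGroup M] [Module A M]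
    (h : I • (⊤ : Submodule A M) = ⊤) :
    I.map (algebraMap A B) • (⊤ : Submodule B (B ⊗[A] M)) = ⊤ := by
  rw [eq_top_iff]
  rintro z -
  induction z using TensorProduct.induction_on with
  | zero => exact Submodule.zero_mem _
  | add x y hx hy => exact Submodule.add_mem _ hx hy
  | tmul b m =>
    have hm : m ∈ I • (⊤ : Submodule A M) := by rw [h]; trivial
    refine Submodule.smul_induction_on hm ?_ ?_
    · intro r hr n _
      have : b ⊗ₜ[A] (r • n) = (algebraMap A B r) • (b ⊗ₜ[A] n) := by
        rw [TensorProduct.tmul_smul, TensorProduct.smul_tmul', TensorProduct.smul_tmul',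
          Algebra.smul_def, smul_eq_mul]
      rw [this]
      exact Submodule.smul_mem_smul (Ideal.mem_map_of_mem _ hr) Submodule.mem_top
    · intro x y hx hy
      rw [TensorProduct.tmul_add]
      exact Submodule.add_mem _ hx hy

theorem idealDepth_le_baseChange [Module.Flat A B] (I : Ideal A) (M : Type u) [AddCommGroup M]
    [Module A M] :
    idealDepth I M ≤ idealDepth (I.map (algebraMap A B)) (B ⊗[A] M) := by
  by_cases hB : I.map (algebraMap A B) • (⊤ : Submodule B (B ⊗[A] M)) = ⊤
  · rw [idealDepth_of_smul_top_eq _ _ hB]; exact le_top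
  have hM : I • (⊤ : Submodule A M) ≠ ⊤ := fun h => hB (map_smul_top_eq_top A B I M h)
  rw [← ENat.forall_natCast_le_iff_le]
  intro n hn
  obtain ⟨rs, hlen, hreg, hmem⟩ := (le_idealDepth_iff hM n).mp hn
  have hreg' : IsWeaklyRegular (B ⊗[A] M) (rs.map (algebraMap A B)) :=
    hreg.of_flat_of_isBaseChange (TensorProduct.isBaseChange A M B)
  have hmem' : ∀ r ∈ rs.map (algebraMap A B), r ∈ I.map (algebraMap A B) := by
    intro r hr
    obtain ⟨r0, hr0, rfl⟩ := List.mem_map.mp hr
    exact Ideal.mem_map_of_mem _ (hmem r0 hr0)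
  have := length_le_idealDepth (I := I.map (algebraMap A B)) hreg' hmem'
  rwa [List.length_map, hlen] at this

/-- If some nonzero element is killed by `J`, the `J`-depth is zero. -/
theorem idealDepth_eq_zero_of_smul_eq_zero {R : Type u} [CommRing R] (J : Ideal R) (N : Type u)
    [AddCommGroup N] [Module R N] (hJ : J • (⊤ : Submodule R N) ≠ ⊤) (z : N) (hz : z ≠ 0)
    (h : ∀ r ∈ J, r • z = 0) : idealDepth J N = 0 := by
  by_contra hne
  have h1 : ((1 : ℕ) : ℕ∞) ≤ idealDepth J N := by
    have : (1 : ℕ∞) ≤ idealDepth J N := Order.one_le_iff_pos.mpr (pos_iff_ne_zero.mpr hne)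
    exact_mod_cast this
  obtain ⟨rs, hlen, hreg, hmem⟩ := (le_idealDepth_iff hJ 1).mp h1
  obtain ⟨x, rfl⟩ : ∃ x, rs = [x] := List.length_eq_one_iff.mp hlen
  rw [isWeaklyRegular_singleton_iff] at hreg
  have hx : x • z = x • (0 : N) := by rw [h x (hmem x (by simp)), smul_zero]
  exact hz (hreg hx)

variable [IsNoetherianRing A] [IsNoetherianRing B] [Module.FaithfullyFlat A B]

theorem baseChange_idealDepth_le_aux (I : Ideal A) (d : ℕ) :
    ∀ (M : Type u) [AddCommGroup M] [Module A M] [Module.Finite A M],
      I • (⊤ : Submodule A M) ≠ ⊤ → idealDepth I M = d →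
      idealDepth (I.map (algebraMap A B)) (B ⊗[A] M) ≤ d := by
  induction d with
  | zero =>
    intro M _ _ _ hM hd
    have hB : I.map (algebraMap A B) • (⊤ : Submodule B (B ⊗[A] M)) ≠ ⊤ :=
      ((TensorProduct.isBaseChange A M B).map_smul_top_ne_top_iff_of_faithfullyFlat A M I).mpr hM
    have hnoreg : ∀ x ∈ I, ¬ IsSMulRegular M x := by
      intro x hx hreg
      have h1 : ((1 : ℕ) : ℕ∞) ≤ idealDepth I M := by
        have := length_le_idealDepth (I := I) (M := M) (rs := [x])
          ((isWeaklyRegular_singleton_iff M x).mpr hreg) (by simpa using hx)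
        simpa using this
      rw [hd] at h1
      simp at h1
    obtain ⟨p, hp, hIp⟩ := exists_le_associatedPrime_of_forall_not_isSMulRegular I hnoreg
    obtain ⟨-, m, hm⟩ := (isAssociatedPrime_iff (R := A) (M := M)).mp hp
    have hm0 : m ≠ 0 := by
      rintro rfl
      have : (1 : A) ∈ p := by
        rw [hm, Submodule.mem_colon_singleton, Submodule.mem_bot, smul_zero]
      exact (Ideal.ne_top_iff_one p).mp hp.isPrime.ne_top this
    have hz : (1 : B) ⊗ₜ[A] m ≠ 0 := by
      intro h0
      apply hm0
      have hinj := Module.FaithfullyFlat.tensorProduct_mk_injective (A := A) (B := B) M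
      apply hinj
      simpa using h0
    have hkill : ∀ r ∈ I.map (algebraMap A B), r • ((1 : B) ⊗ₜ[A] m) = 0 := by
      intro r hr
      refine Submodule.span_induction (p := fun r _ => r • ((1 : B) ⊗ₜ[A] m) = 0) ?_ ?_ ?_ ?_ hr
      · rintro _ ⟨a, ha, rfl⟩
        have ham : a • m = 0 := by
          have : a ∈ p := hIp ha
          rw [hm, Submodule.mem_colon_singleton, Submodule.mem_bot] at this
          exact this
        rw [TensorProduct.smul_tmul', smul_eq_mul, mul_one]
        have h5 : (algebraMap A B a) ⊗ₜ[A] m = (1 : B) ⊗ₜ[A] (a • m) := by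
          rw [TensorProduct.tmul_smul, TensorProduct.smul_tmul', Algebra.smul_def, mul_one]
        rw [h5, ham, TensorProduct.tmul_zero]
      · simp
      · intro x y _ _ hx hy
        rw [add_smul, hx, hy, add_zero]
      · intro a x _ hx
        rw [smul_eq_mul, mul_smul, hx, smul_zero]
    rw [idealDepth_eq_zero_of_smul_eq_zero _ _ hB _ hz hkill]
    simp
  | succ d ih =>
    intro M _ _ _ hM hd
    have hB : I.map (algebraMap A B) • (⊤ : Submodule B (B ⊗[A] M)) ≠ ⊤ :=
      ((TensorProduct.isBaseChange A M B).map_smul_top_ne_top_iff_of_faithfullyFlat A M I).mpr hM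
    have h1 : ((1 : ℕ) : ℕ∞) ≤ idealDepth I M := by
      rw [hd]; exact_mod_cast Nat.succ_pos d
    obtain ⟨rs, hlen, hreg, hmem⟩ := (le_idealDepth_iff hM 1).mp h1
    obtain ⟨x, rfl⟩ : ∃ x, rs = [x] := List.length_eq_one_iff.mp hlen
    rw [isWeaklyRegular_singleton_iff] at hreg
    have hxI : x ∈ I := hmem x (by simp)
    have hdM := idealDepth_quotSMulTop_add_one hM hxI hreg
    have hdq : idealDepth I (QuotSMulTop x M) = d := by
      rw [hd] at hdM
      have h2 : idealDepth I (QuotSMulTop x M) + 1 = (d : ℕ∞) + 1 := by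
        rw [hdM]; push_cast; rfl
      exact ENat.add_left_injective_of_ne_top (ENat.one_ne_top) h2
    have hMq : I • (⊤ : Submodule A (QuotSMulTop x M)) ≠ ⊤ := smul_top_quotSMulTop_ne_top hxI hM
    have hih := ih (QuotSMulTop x M) hMq hdq
    have hreg' : IsSMulRegular (B ⊗[A] M) (algebraMap A B x) := by
      have h3 : IsWeaklyRegular (B ⊗[A] M) ([x].map (algebraMap A B)) :=
        ((isWeaklyRegular_singleton_iff M x).mpr hreg).of_flat_of_isBaseChange
          (TensorProduct.isBaseChange A M B)
      simpa [isWeaklyRegular_singleton_iff] using h3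
    have hxB : algebraMap A B x ∈ I.map (algebraMap A B) := Ideal.mem_map_of_mem _ hxI
    have hdB := idealDepth_quotSMulTop_add_one hB hxB hreg'
    have e := QuotSMulTop.algebraMapTensorEquivTensorQuotSMulTop x M B
    have hcong : idealDepth (I.map (algebraMap A B)) (QuotSMulTop (algebraMap A B x) (B ⊗[A] M)) =
        idealDepth (I.map (algebraMap A B)) (B ⊗[A] QuotSMulTop x M) :=
      idealDepth_congr (I := I.map (algebraMap A B)) e
    rw [← hdB, hcong]
    calc idealDepth (I.map (algebraMap A B)) (B ⊗[A] QuotSMulTop x M) + 1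
        ≤ (d : ℕ∞) + 1 := add_le_add hih le_rfl
      _ = ((d + 1 : ℕ) : ℕ∞) := by push_cast; rfl

theorem idealDepth_baseChange_eq (I : Ideal A) (M : Type u) [AddCommGroup M] [Module A M]
    [Module.Finite A M] :
    idealDepth (I.map (algebraMap A B)) (B ⊗[A] M) = idealDepth I M := by
  apply le_antisymm _ (idealDepth_le_baseChange A B I M)
  by_cases hM : I • (⊤ : Submodule A M) = ⊤
  · rw [idealDepth_of_smul_top_eq I M hM]; exact le_top
  obtain ⟨d, hd⟩ := ENat.ne_top_iff_exists.mp (idealDepth_ne_top hM)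
  rw [← hd]
  exact baseChange_idealDepth_le_aux A B I d M hM hd.symm

end Groth.Agent.Helper8.FlatDepth
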