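import Mathlib
import Groth.Agent.Lib.Helper8.Depth31
import Groth.Agent.Lib.Helper8.Depth23

/-!
# Serre's conditions `(R_k)` and `(S_k)` pass to localizations at primes
-/

set_option autoImplicit false
universe u

namespace Groth.Agent.Helper8.Serre

open LocCoh IsLocalRing Depth

theorem depth_self_eq_of_ringEquiv {R₁ R₂ : Type u} [CommRing R₁] [CommRing R₂] [IsLocalRing R₁]
    [IsLocalRing R₂] (σ : R₁ ≃+* R₂) : depth R₂ R₂ = depth R₁ R₁ :=
  depth_eq_of_semilinear σ σ.toAddEquiv (fun r x => by simp)

variable (R : Type u) [CommRing R]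

theorem hasSk_self_iff (k : ℕ) :
    HasSk k R R ↔ ∀ (q : Ideal R) [q.IsPrime],
      min (k : WithBot ℕ∞) (q.height : WithBot ℕ∞) ≤
        ((depth (Localization.AtPrime q) (Localization.AtPrime q) : ℕ∞) : WithBot ℕ∞) := by
  constructor
  · intro h q _
    have := h q
    rwa [supportDim_localizedModule_self, depth_localizedModule_self] at this
  · intro h q _
    rw [supportDim_localizedModule_self, depth_localizedModule_self]
    exact h q

theorem hasRk_localization (k : ℕ) (hR : HasRk k R) (p : Ideal R) [p.IsPrime] :
    HasRk k (Localization.AtPrime p) := by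
  intro 𝔮 _ h𝔮
  set q := 𝔮.comap (algebraMap R (Localization.AtPrime p)) with hq
  have hht : q.height = 𝔮.height := IsLocalization.height_under p.primeCompl 𝔮
  have hreg : IsRegularLocalRing (Localization.AtPrime q) := hR q (hht ▸ h𝔮)
  exact IsRegularLocalRing.of_ringEquiv
    (IsLocalization.localizationLocalizationAtPrimeIsoLocalization p.primeCompl 𝔮).toRingEquiv

theorem hasSk_self_localization (k : ℕ) (hS : HasSk k R R) (p : Ideal R) [p.IsPrime] :
    HasSk k (Localization.AtPrime p) (Localization.AtPrime p) := by
  rw [hasSk_self_iff] at hS ⊢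
  intro 𝔮 _
  set q := 𝔮.comap (algebraMap R (Localization.AtPrime p)) with hq
  have hht : q.height = 𝔮.height := IsLocalization.height_under p.primeCompl 𝔮
  have h1 := hS q
  rw [hht] at h1
  have h2 : depth (Localization.AtPrime 𝔮) (Localization.AtPrime 𝔮) =
      depth (Localization.AtPrime q) (Localization.AtPrime q) :=
    depth_self_eq_of_ringEquiv
      (IsLocalization.localizationLocalizationAtPrimeIsoLocalization p.primeCompl 𝔮).toRingEquiv
  rw [h2]
  exact h1

end Groth.Agent.Helper8.Serre
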