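import Mathlib
import Groth.Agent.Lib.Helper8.ABS13
import Groth.Agent.Lib.Helper8.Serre1

/-!
# Descent of `(R_k)` along flat maps
-/

set_option autoImplicit false
universe u

namespace Groth.Agent.Helper8.FlatReg

open IsLocalRing LocCoh

theorem isNoetherianRing_of_faithfullyFlat (R S : Type u) [CommRing R] [CommRing S]
    [Algebra R S] [Module.FaithfullyFlat R S] [IsNoetherianRing S] : IsNoetherianRing R := by
  rw [isNoetherianRing_iff_ideal_fg]
  intro I
  exact Ideal.FG.of_FG_map_of_faithfullyFlat (S := S)
    ((isNoetherianRing_iff_ideal_fg S).mp inferInstance _)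

theorem isRegularLocalRing_of_flat_liesOver (R S : Type u) [CommRing R] [CommRing S]
    [Algebra R S] [Module.Flat R S] [IsNoetherianRing R] (p : Ideal R) [p.IsPrime]
    (P : Ideal S) [P.IsPrime] [P.LiesOver p]
    (h : IsRegularLocalRing (Localization.AtPrime P)) :
    IsRegularLocalRing (Localization.AtPrime p) := by
  let := Localization.AtPrime.algebraOfLiesOver p P
  have : IsLocalHom (algebraMap (Localization.AtPrime p) (Localization.AtPrime P)) := by
    rw [RingHom.algebraMap_toAlgebra]
    exact Localization.isLocalHom_localRingHom p P (algebraMap R S) Ideal.LiesOver.over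
  exact ABS.isRegularLocalRing_of_flat (Localization.AtPrime p) (Localization.AtPrime P)

theorem exists_minimalPrimes_liesOver (R S : Type u) [CommRing R] [CommRing S]
    [Algebra R S] [Module.FaithfullyFlat R S] (p : Ideal R) [p.IsPrime] :
    ∃ P ∈ (p.map (algebraMap R S)).minimalPrimes, P.comap (algebraMap R S) = p := by
  obtain ⟨⟨Q, hQ⟩, hQp⟩ := PrimeSpectrum.comap_surjective_of_faithfullyFlat (A := R) (B := S)
    ⟨p, inferInstance⟩
  have hQp' : Q.comap (algebraMap R S) = p := congrArg PrimeSpectrum.asIdeal hQp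
  have hle : p.map (algebraMap R S) ≤ Q := by
    rw [Ideal.map_le_iff_le_comap, hQp']
  obtain ⟨P, hP, hPQ⟩ := Ideal.exists_minimalPrimes_le hle
  refine ⟨P, hP, le_antisymm ?_ ?_⟩
  · rw [← hQp']; exact Ideal.comap_mono hPQ
  · rw [← Ideal.map_le_iff_le_comap]; exact hP.1.2

theorem height_le_of_minimalPrimes_map (R S : Type u) [CommRing R] [CommRing S]
    [Algebra R S] [IsNoetherianRing R] [IsNoetherianRing S] (p : Ideal R) [p.IsPrime] (P : Ideal S)
    (hP : P ∈ (p.map (algebraMap R S)).minimalPrimes) (hPp : P.comap (algebraMap R S) = p) :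
    P.height ≤ p.height := by
  have hPprime : P.IsPrime := hP.1.1
  have : P.LiesOver p := ⟨hPp.symm⟩
  have h1 := Ideal.height_le_height_add_of_liesOver p P
  have h2 : (P.map (Ideal.Quotient.mk <| p.map (algebraMap R S))).height = 0 := by
    rw [Ideal.minimalPrimes_eq_comap] at hP
    obtain ⟨P', hP', rfl⟩ := hP
    rw [Ideal.map_comap_of_surjective _ Ideal.Quotient.mk_surjective]
    have := hP'.1.1
    exact Ideal.height_eq_zero_iff.mpr hP'
  rwa [h2, add_zero] at h1

theorem hasRk_of_faithfullyFlat (k : ℕ) (R S : Type u) [CommRing R] [CommRing S]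
    [Algebra R S] [Module.FaithfullyFlat R S] [IsNoetherianRing S] (hS : HasRk k S) :
    IsNoetherianRing R ∧ HasRk k R := by
  have hR := isNoetherianRing_of_faithfullyFlat R S
  refine ⟨hR, ?_⟩
  intro p _ hp
  obtain ⟨P, hP, hPp⟩ := exists_minimalPrimes_liesOver R S p
  have hPprime : P.IsPrime := hP.1.1
  have : P.LiesOver p := ⟨hPp.symm⟩
  have hht := height_le_of_minimalPrimes_map R S p P hP hPp
  exact isRegularLocalRing_of_flat_liesOver R S p P (hS P (hht.trans hp))

theorem hasRkAt_base_of_flat (k : ℕ) (A B : Type u) [CommRing A] [CommRing B]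
    [IsNoetherianRing A] [IsNoetherianRing B] [Algebra A B] [Module.Flat A B]
    (q : Ideal B) [q.IsPrime] (h : HasRk k (Localization.AtPrime q)) :
    HasRk k (Localization.AtPrime (q.comap (algebraMap A B))) := by
  have : q.LiesOver (q.comap (algebraMap A B)) := ⟨rfl⟩
  let := Localization.AtPrime.algebraOfLiesOver (q.comap (algebraMap A B)) q
  have : IsLocalHom (algebraMap (Localization.AtPrime (q.comap (algebraMap A B)))
      (Localization.AtPrime q)) := by
    rw [RingHom.algebraMap_toAlgebra]
    exact Localization.isLocalHom_localRingHom _ q (algebraMap A B) Ideal.LiesOver.over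
  have : Module.FaithfullyFlat (Localization.AtPrime (q.comap (algebraMap A B)))
      (Localization.AtPrime q) := Module.FaithfullyFlat.of_flat_of_isLocalHom
  exact (hasRk_of_faithfullyFlat k _ (Localization.AtPrime q) h).2

end Groth.Agent.Helper8.FlatReg
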