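import Mathlib
import Groth.Agent.Lib.Helper8.FlatDepth1
import Groth.Agent.Lib.Helper8.FlatReg9

/-!
# Height and depth of an extended ideal along a flat map covering `V(I)`
-/

set_option autoImplicit false
universe u

namespace Groth.Agent.Helper8.FlatDepth

open LocCoh Depth RingTheory.Sequence TensorProduct

variable (A B : Type u) [CommRing A] [CommRing B] [Algebra A B]

/-- If `ann m = p` and some prime of `B` lies over `p`, then `1 ⊗ m ≠ 0` in `B ⊗ M`
(for `B` flat over `A`). -/
theorem one_tmul_ne_zero [Module.Flat A B] (p : Ideal A) (q : Ideal B) [q.IsPrime]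
    (hq : q.comap (algebraMap A B) = p) (M : Type u) [AddCommGroup M] [Module A M] (m : M)
    (hm : p = Submodule.colon (⊥ : Submodule A M) {m}) : (1 : B) ⊗ₜ[A] m ≠ 0 := by
  have hle : p ≤ LinearMap.ker (LinearMap.toSpanSingleton A M m) := by
    intro r hr
    rw [hm, Submodule.mem_colon_singleton, Submodule.mem_bot] at hr
    rw [LinearMap.mem_ker, LinearMap.toSpanSingleton_apply]
    exact hr
  let φ : A ⧸ p →ₗ[A] M := Submodule.liftQ p (LinearMap.toSpanSingleton A M m) hle
  have hφ : Function.Injective φ := by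
    rw [← LinearMap.ker_eq_bot]
    apply Submodule.ker_liftQ_eq_bot'
    ext r
    rw [hm, Submodule.mem_colon_singleton, Submodule.mem_bot, LinearMap.mem_ker,
      LinearMap.toSpanSingleton_apply]
  have hinj := Module.Flat.lTensor_preserves_injective_linearMap (M := B) φ hφ
  have hle' : p ≤ q.comap (Algebra.ofId A B) := by
    rw [← hq]; exact le_rfl
  let ψ : B ⊗[A] (A ⧸ p) →ₐ[A] B ⧸ q :=
    Algebra.TensorProduct.productMap (Ideal.Quotient.mkₐ A q)
      (Ideal.quotientMapₐ q (Algebra.ofId A B) hle')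
  intro h0
  have h1 : φ.lTensor B ((1 : B) ⊗ₜ[A] (1 : A ⧸ p)) = 0 := by
    rw [LinearMap.lTensor_tmul]
    have : φ 1 = m := by
      show (Submodule.liftQ p (LinearMap.toSpanSingleton A M m) hle) (Submodule.Quotient.mk 1) = m
      rw [Submodule.liftQ_apply, LinearMap.toSpanSingleton_apply, one_smul]
    rw [this, h0]
  have h2 : (1 : B) ⊗ₜ[A] (1 : A ⧸ p) = 0 := hinj (by rw [h1, map_zero])
  have h3 : ψ ((1 : B) ⊗ₜ[A] (1 : A ⧸ p)) = 1 := by
    rw [Algebra.TensorProduct.productMap_apply_tmul, map_one, map_one, mul_one]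
  rw [h2, map_zero] at h3
  exact zero_ne_one h3

variable [IsNoetherianRing A] [IsNoetherianRing B] [Module.Flat A B]

omit [IsNoetherianRing B] in
theorem map_smul_top_ne_top_of_cover (I : Ideal A)
    (hI : ∀ p : Ideal A, p.IsPrime → I ≤ p → ∃ q : Ideal B, q.IsPrime ∧
      q.comap (algebraMap A B) = p)
    (M : Type u) [AddCommGroup M] [Module A M] [Module.Finite A M]
    (hM : I • (⊤ : Submodule A M) ≠ ⊤) :
    I.map (algebraMap A B) • (⊤ : Submodule B (B ⊗[A] M)) ≠ ⊤ := by
  intro htop
  set N := M ⧸ (I • (⊤ : Submodule A M)) with hN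
  have hnt : Nontrivial N := Submodule.Quotient.nontrivial_iff.mpr hM
  obtain ⟨p, hp⟩ := associatedPrimes.nonempty A N
  have hpp : p.IsPrime := hp.isPrime
  obtain ⟨-, n, hn⟩ := (isAssociatedPrime_iff (R := A) (M := N)).mp hp
  have hIp : I ≤ p := by
    intro r hr
    rw [hn, Submodule.mem_colon_singleton, Submodule.mem_bot]
    obtain ⟨m, rfl⟩ := Submodule.Quotient.mk_surjective _ n
    rw [← Submodule.Quotient.mk_smul, Submodule.Quotient.mk_eq_zero]
    exact Submodule.smul_mem_smul hr Submodule.mem_top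
  obtain ⟨q, hq, hqp⟩ := hI p hpp hIp
  have hne := one_tmul_ne_zero A B p q hqp N n hn
  apply hne
  -- `1 ⊗ n` is the image of `1 ⊗ m`, which lies in `IB (B ⊗ M) = ⊤`
  obtain ⟨m, rfl⟩ := Submodule.Quotient.mk_surjective _ n
  let π : B ⊗[A] M →ₗ[B] B ⊗[A] N :=
    LinearMap.baseChange B (I • (⊤ : Submodule A M)).mkQ
  have hkey : ∀ a ∈ I, ∀ w : B ⊗[A] M, (algebraMap A B a) • π w = 0 := by
    intro a ha w
    induction w using TensorProduct.induction_on with
    | zero => simp
    | add x y hx hy => rw [map_add, smul_add, hx, hy, add_zero]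
    | tmul b m' =>
      rw [LinearMap.baseChange_tmul, TensorProduct.smul_tmul', smul_eq_mul]
      have h5 : (algebraMap A B a * b) ⊗ₜ[A] ((I • (⊤ : Submodule A M)).mkQ m') =
          b ⊗ₜ[A] (a • (I • (⊤ : Submodule A M)).mkQ m') := by
        rw [TensorProduct.tmul_smul, TensorProduct.smul_tmul', Algebra.smul_def]
      rw [h5, ← map_smul]
      have : (I • (⊤ : Submodule A M)).mkQ (a • m') = 0 := by
        rw [Submodule.mkQ_apply, Submodule.Quotient.mk_eq_zero]
        exact Submodule.smul_mem_smul ha Submodule.mem_top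
      rw [this, TensorProduct.tmul_zero]
  have hπ : ∀ z ∈ I.map (algebraMap A B) • (⊤ : Submodule B (B ⊗[A] M)), π z = 0 := by
    intro z hz
    refine Submodule.smul_induction_on hz ?_ ?_
    · rintro r hr w -
      rw [map_smul]
      refine Submodule.span_induction (p := fun r _ => r • π w = 0) ?_ ?_ ?_ ?_ hr
      · rintro _ ⟨a, ha, rfl⟩
        exact hkey a ha w
      · simp
      · intro x y _ _ hx hy
        rw [add_smul, hx, hy, add_zero]
      · intro a x _ hx
        rw [smul_eq_mul, mul_smul, hx, smul_zero]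
    · intro x y hx hy
      rw [map_add, hx, hy, add_zero]
  have h1 : π ((1 : B) ⊗ₜ[A] m) = 0 := hπ _ (by rw [htop]; trivial)
  rw [LinearMap.baseChange_tmul] at h1
  exact h1

theorem baseChange_idealDepth_le_aux' (I : Ideal A)
    (hI : ∀ p : Ideal A, p.IsPrime → I ≤ p → ∃ q : Ideal B, q.IsPrime ∧
      q.comap (algebraMap A B) = p) (d : ℕ) :
    ∀ (M : Type u) [AddCommGroup M] [Module A M] [Module.Finite A M],
      I • (⊤ : Submodule A M) ≠ ⊤ → idealDepth I M = d →
      idealDepth (I.map (algebraMap A B)) (B ⊗[A] M) ≤ d := by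
  induction d with
  | zero =>
    intro M _ _ _ hM hd
    have hB := map_smul_top_ne_top_of_cover A B I hI M hM
    have hnoreg : ∀ x ∈ I, ¬ IsSMulRegular M x := by
      intro x hx hreg
      have h1 : ((1 : ℕ) : ℕ∞) ≤ idealDepth I M := by
        have := length_le_idealDepth (I := I) (M := M) (rs := [x])
          ((isWeaklyRegular_singleton_iff M x).mpr hreg) (by simpa using hx)
        simpa using this
      rw [hd] at h1
      simp at h1
    obtain ⟨p, hp, hIp⟩ := exists_le_associatedPrime_of_forall_not_isSMulRegular I hnoreg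
    have hpp : p.IsPrime := hp.isPrime
    obtain ⟨-, m, hm⟩ := (isAssociatedPrime_iff (R := A) (M := M)).mp hp
    obtain ⟨q, hq, hqp⟩ := hI p hpp hIp
    have hz := one_tmul_ne_zero A B p q hqp M m hm
    have hkill : ∀ r ∈ I.map (algebraMap A B), r • ((1 : B) ⊗ₜ[A] m) = 0 := by
      intro r hr
      refine Submodule.span_induction (p := fun r _ => r • ((1 : B) ⊗ₜ[A] m) = 0) ?_ ?_ ?_ ?_ hr
      · rintro _ ⟨a, ha, rfl⟩
        have ham : a • m = 0 := by
          have : a ∈ p := hIp ha
          rw [hm, Submodule.mem_colon_singleton, Submodule.mem_bot] at this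
          exact this
        rw [TensorProduct.smul_tmul', smul_eq_mul, mul_one]
        have h5 : (algebraMap A B a) ⊗ₜ[A] m = (1 : B) ⊗ₜ[A] (a • m) := by
          rw [TensorProduct.tmul_smul, TensorProduct.smul_tmul', Algebra.smul_def, mul_one]
        rw [h5, ham, TensorProduct.tmul_zero]
      · simp
      · intro x y _ _ hx hy
        rw [add_smul, hx, hy, add_zero]
      · intro a x _ hx
        rw [smul_eq_mul, mul_smul, hx, smul_zero]
    rw [idealDepth_eq_zero_of_smul_eq_zero _ _ hB _ hz hkill]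
    simp
  | succ d ih =>
    intro M _ _ _ hM hd
    have hB := map_smul_top_ne_top_of_cover A B I hI M hM
    have h1 : ((1 : ℕ) : ℕ∞) ≤ idealDepth I M := by
      rw [hd]; exact_mod_cast Nat.succ_pos d
    obtain ⟨rs, hlen, hreg, hmem⟩ := (le_idealDepth_iff hM 1).mp h1
    obtain ⟨x, rfl⟩ : ∃ x, rs = [x] := List.length_eq_one_iff.mp hlen
    rw [isWeaklyRegular_singleton_iff] at hreg
    have hxI : x ∈ I := hmem x (by simp)
    have hdM := idealDepth_quotSMulTop_add_one hM hxI hreg
    have hdq : idealDepth I (QuotSMulTop x M) = d := by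
      rw [hd] at hdM
      have h2 : idealDepth I (QuotSMulTop x M) + 1 = (d : ℕ∞) + 1 := by
        rw [hdM]; push_cast; rfl
      exact ENat.add_left_injective_of_ne_top (ENat.one_ne_top) h2
    have hMq : I • (⊤ : Submodule A (QuotSMulTop x M)) ≠ ⊤ := smul_top_quotSMulTop_ne_top hxI hM
    have hih := ih (QuotSMulTop x M) hMq hdq
    have hreg' : IsSMulRegular (B ⊗[A] M) (algebraMap A B x) := by
      have h3 : IsWeaklyRegular (B ⊗[A] M) ([x].map (algebraMap A B)) :=
        ((isWeaklyRegular_singleton_iff M x).mpr hreg).of_flat_of_isBaseChange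
          (TensorProduct.isBaseChange A M B)
      simpa [isWeaklyRegular_singleton_iff] using h3
    have hxB : algebraMap A B x ∈ I.map (algebraMap A B) := Ideal.mem_map_of_mem _ hxI
    have hdB := idealDepth_quotSMulTop_add_one hB hxB hreg'
    have e := QuotSMulTop.algebraMapTensorEquivTensorQuotSMulTop x M B
    have hcong : idealDepth (I.map (algebraMap A B)) (QuotSMulTop (algebraMap A B x) (B ⊗[A] M)) =
        idealDepth (I.map (algebraMap A B)) (B ⊗[A] QuotSMulTop x M) :=
      idealDepth_congr (I := I.map (algebraMap A B)) e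
    rw [← hdB, hcong]
    calc idealDepth (I.map (algebraMap A B)) (B ⊗[A] QuotSMulTop x M) + 1
        ≤ (d : ℕ∞) + 1 := add_le_add hih le_rfl
      _ = ((d + 1 : ℕ) : ℕ∞) := by push_cast; rfl

theorem idealDepth_baseChange_eq_of_cover (I : Ideal A)
    (hI : ∀ p : Ideal A, p.IsPrime → I ≤ p → ∃ q : Ideal B, q.IsPrime ∧
      q.comap (algebraMap A B) = p)
    (M : Type u) [AddCommGroup M] [Module A M] [Module.Finite A M] :
    idealDepth (I.map (algebraMap A B)) (B ⊗[A] M) = idealDepth I M := by
  apply le_antisymm _ (idealDepth_le_baseChange A B I M)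
  by_cases hM : I • (⊤ : Submodule A M) = ⊤
  · rw [idealDepth_of_smul_top_eq I M hM]; exact le_top
  obtain ⟨d, hd⟩ := ENat.ne_top_iff_exists.mp (idealDepth_ne_top hM)
  rw [← hd]
  exact baseChange_idealDepth_le_aux' A B I hI d M hM hd.symm

theorem height_map_eq_of_cover (I : Ideal A)
    (hI : ∀ p : Ideal A, p.IsPrime → I ≤ p → ∃ q : Ideal B, q.IsPrime ∧
      q.comap (algebraMap A B) = p) :
    (I.map (algebraMap A B)).height = I.height := by
  apply le_antisymm
  · rw [Ideal.height_eq_inf_minimalPrimes I]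
    refine le_iInf₂ fun p hp => ?_
    have hpp : p.IsPrime := hp.1.1
    obtain ⟨q, hq, hqp⟩ := hI p hpp hp.1.2
    have hle : p.map (algebraMap A B) ≤ q := by
      rw [Ideal.map_le_iff_le_comap, hqp]
    obtain ⟨Q, hQ, hQq⟩ := Ideal.exists_minimalPrimes_le hle
    have hQp : Q.comap (algebraMap A B) = p := by
      apply le_antisymm
      · rw [← hqp]; exact Ideal.comap_mono hQq
      · rw [← Ideal.map_le_iff_le_comap]; exact hQ.1.2
    have hQprime : Q.IsPrime := hQ.1.1
    have hht := FlatReg.height_le_of_minimalPrimes_map A B p Q hQ hQp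
    have hIQ : I.map (algebraMap A B) ≤ Q := (Ideal.map_mono hp.1.2).trans hQ.1.2
    exact (Ideal.height_mono hIQ).trans hht
  · rw [Ideal.height_eq_inf_minimalPrimes (I.map (algebraMap A B))]
    refine le_iInf₂ fun Q hQ => ?_
    have hQprime : Q.IsPrime := hQ.1.1
    set p := Q.comap (algebraMap A B) with hp
    have hpp : p.IsPrime := Ideal.comap_isPrime _ _
    have : Q.LiesOver p := ⟨rfl⟩
    have hIp : I ≤ p := by
      rw [hp, ← Ideal.map_le_iff_le_comap]; exact hQ.1.2
    have h1 := Ideal.height_eq_height_add_of_liesOver_of_hasGoingDown p Q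
    calc I.height ≤ p.height := Ideal.height_mono hIp
      _ ≤ Q.height := by rw [h1]; exact le_self_add

end Groth.Agent.Helper8.FlatDepth
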