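import Mathlib
import Groth.Agent.Lib.Helper2.CompleteNoeth
import Groth.Agent.Lib.Helper8.FlatDepth2
import Groth.Agent.Lib.Helper8.ABS13

/-!
# The `I`-adic completion of a Noetherian local ring: dimension and regularity
-/

set_option autoImplicit false
universe u

namespace Groth.Agent.Helper8.AdicReg

open IsLocalRing

section NoLocal

variable (A : Type u) [CommRing A] [IsNoetherianRing A] (I : Ideal A)

theorem isNoetherianRing : IsNoetherianRing (AdicCompletion I A) :=
  Groth.Agent.Helper2.CompleteNoeth.isNoetherianRing_adicCompletion A I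
    (IsNoetherian.noetherian I)

end NoLocal

variable (A : Type u) [CommRing A] [IsLocalRing A] (I : Ideal A)

theorem isLocalRing (hfg : I.FG) (hI : I ≠ ⊤) : IsLocalRing (AdicCompletion I A) := by
  have : Nontrivial (A ⧸ I) := Ideal.Quotient.nontrivial_iff.mpr hI
  have hloc : IsLocalRing (A ⧸ I) :=
    IsLocalRing.of_surjective' (Ideal.Quotient.mk I) Ideal.Quotient.mk_surjective
  let e : AdicCompletion I A →+* A ⧸ I := (AdicCompletion.evalOneₐ I).toRingHom
  have hsurj : Function.Surjective e := AdicCompletion.evalOneₐ_surjective I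
  have hcompl := AdicCompletion.isAdicComplete_self I hfg
  have hjac := IsAdicComplete.le_jacobson_bot (I.map (algebraMap A (AdicCompletion I A)))
  have hker : RingHom.ker e = I.map (algebraMap A (AdicCompletion I A)) :=
    AdicCompletion.ker_evalOneₐ_eq_map I hfg
  have hlh : IsLocalHom e := by
    refine ⟨fun a ha => ?_⟩
    obtain ⟨b', hb'⟩ := ha.exists_right_inv
    obtain ⟨b, rfl⟩ := hsurj b'
    have h1 : a * b - 1 ∈ RingHom.ker e := by
      rw [RingHom.mem_ker, map_sub, map_mul, hb', map_one, sub_self]
    rw [hker] at h1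
    have h2 := Ideal.mem_jacobson_bot.mp (hjac h1) 1
    have h3 : (a * b - 1) * 1 + 1 = a * b := by ring
    rw [h3] at h2
    exact isUnit_of_mul_isUnit_left h2
  exact RingHom.domain_isLocalRing e

theorem maximalIdeal_eq (hfg : I.FG) (hI : I ≠ ⊤) :
    haveI := isLocalRing A I hfg hI
    maximalIdeal (AdicCompletion I A) =
      (maximalIdeal A).map (algebraMap A (AdicCompletion I A)) := by
  haveI := isLocalRing A I hfg hI
  exact (IsLocalRing.eq_maximalIdeal
    (AdicCompletion.isMaximal_map_of_le I (maximalIdeal A) (IsLocalRing.le_maximalIdeal hI) hfg)).symm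

theorem isLocalHom (hfg : I.FG) (hI : I ≠ ⊤) :
    IsLocalHom (algebraMap A (AdicCompletion I A)) := by
  haveI := isLocalRing A I hfg hI
  apply ((IsLocalRing.local_hom_TFAE _).out 0 2).mpr
  rw [maximalIdeal_eq A I hfg hI]

theorem height_maximalIdeal [IsNoetherianRing A] (hI : I ≠ ⊤) :
    haveI := isLocalRing A I (IsNoetherian.noetherian I) hI
    (maximalIdeal (AdicCompletion I A)).height = (maximalIdeal A).height := by
  have hfg : I.FG := IsNoetherian.noetherian I
  haveI := isLocalRing A I hfg hI
  haveI := isLocalHom A I hfg hI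
  haveI := isNoetherianRing A I
  rw [maximalIdeal_eq A I hfg hI]
  apply FlatDepth.height_map_eq_of_cover
  intro p hp hle
  have : p = maximalIdeal A := by
    have := IsLocalRing.le_maximalIdeal hp.ne_top
    exact le_antisymm this hle
  subst this
  refine ⟨maximalIdeal (AdicCompletion I A), inferInstance, ?_⟩
  exact IsLocalRing.maximalIdeal_comap (algebraMap A (AdicCompletion I A))

theorem ringKrullDim_eq [IsNoetherianRing A] (hI : I ≠ ⊤) :
    ringKrullDim (AdicCompletion I A) = ringKrullDim A := by
  have hfg : I.FG := IsNoetherian.noetherian I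
  haveI := isLocalRing A I hfg hI
  rw [← IsLocalRing.maximalIdeal_height_eq_ringKrullDim,
    ← IsLocalRing.maximalIdeal_height_eq_ringKrullDim, height_maximalIdeal A I hI]

theorem isRegularLocalRing_iff [IsNoetherianRing A] (hI : I ≠ ⊤) :
    IsRegularLocalRing A ↔ IsRegularLocalRing (AdicCompletion I A) := by
  have hfg : I.FG := IsNoetherian.noetherian I
  haveI := isLocalRing A I hfg hI
  haveI := isLocalHom A I hfg hI
  haveI := isNoetherianRing A I
  constructor
  · intro hreg
    apply IsRegularLocalRing.of_spanFinrank_maximalIdeal_le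
    rw [ringKrullDim_eq A I hI, ← IsRegularLocalRing.spanFinrank_maximalIdeal (R := A)]
    rw [maximalIdeal_eq A I hfg hI]
    exact_mod_cast Ideal.spanFinrank_map_le_of_fg (algebraMap A (AdicCompletion I A))
      (IsNoetherian.noetherian (maximalIdeal A))
  · intro hreg
    exact ABS.isRegularLocalRing_of_flat A (AdicCompletion I A)

end Groth.Agent.Helper8.AdicReg
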