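import Mathlib
import Groth.Agent.Lib.Helper8.CoeffField2

/-!
# Complete regular local rings with a coefficient field are power series rings
-/

set_option autoImplicit false

namespace Groth.Agent.Helper8.CoeffField

open IsLocalRing MvPowerSeries

universe u

/-- The dimension of a power series ring in `n` variables over a field is at most `n`. -/
theorem ringKrullDim_mvPowerSeries_le (n : ℕ) (k : Type u) [Field k] :
    ringKrullDim (MvPowerSeries (Fin n) k) ≤ n := by
  refine (ringKrullDim_le_spanFinrank_maximalIdeal (MvPowerSeries (Fin n) k)).trans ?_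
  rw [Groth.Agent.Helper8.mvPowerSeries_maximalIdeal_eq]
  have h1 := Submodule.spanFinrank_span_le_ncard_of_finite (R := MvPowerSeries (Fin n) k)
    (Set.finite_range (fun s : Fin n => (X s : MvPowerSeries (Fin n) k)))
  have h2 : (Set.range (fun s : Fin n => (X s : MvPowerSeries (Fin n) k))).ncard ≤ n := by
    have := Set.ncard_image_le (f := fun s : Fin n => (X s : MvPowerSeries (Fin n) k))
      (Set.finite_univ (α := Fin n))
    rw [Set.image_univ, Set.ncard_univ, Nat.card_eq_fintype_card, Fintype.card_fin] at this
    exact this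
  exact_mod_cast h1.trans h2

/-- A surjection from a power series ring in `n` variables over a field onto a ring of dimension
at least `n` is injective. -/
theorem injective_of_surjective_of_dim {R : Type u} [CommRing R] (n : ℕ) (k : Type u) [Field k]
    (f : MvPowerSeries (Fin n) k →+* R) (hf : Function.Surjective f)
    (hdim : (n : WithBot ℕ∞) ≤ ringKrullDim R) : Function.Injective f := by
  rw [injective_iff_map_eq_zero]
  intro g hg
  by_contra hne
  have hg0 : g ∈ nonZeroDivisors (MvPowerSeries (Fin n) k) := mem_nonZeroDivisors_of_ne_zero hne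
  have h1 := ringKrullDim_quotient_succ_le_of_nonZeroDivisor hg0
  have h2 := ringKrullDim_mvPowerSeries_le n k
  -- `R` is a quotient of `S ⧸ (g)`
  have hle : Ideal.span {g} ≤ RingHom.ker f := by
    rw [Ideal.span_le, Set.singleton_subset_iff]
    exact hg
  have h3 : ringKrullDim R ≤ ringKrullDim (MvPowerSeries (Fin n) k ⧸ Ideal.span {g}) := by
    apply ringKrullDim_le_of_surjective (Ideal.Quotient.lift (Ideal.span {g}) f hle)
    exact Ideal.Quotient.lift_surjective_of_surjective _ _ hf
  have h4 : (n : WithBot ℕ∞) + 1 ≤ n := by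
    calc (n : WithBot ℕ∞) + 1 ≤ ringKrullDim R + 1 := by gcongr
      _ ≤ ringKrullDim (MvPowerSeries (Fin n) k ⧸ Ideal.span {g}) + 1 := by gcongr
      _ ≤ ringKrullDim (MvPowerSeries (Fin n) k) := h1
      _ ≤ n := h2
  have h5 : ((n + 1 : ℕ) : WithBot ℕ∞) ≤ (n : ℕ) := by exact_mod_cast h4
  have h6 : n + 1 ≤ n := by exact_mod_cast h5
  omega

/-- A complete regular local ring with a coefficient field is a power series ring over its
residue field. -/
theorem exists_ringEquiv_of_regular (R : Type u) [CommRing R] [IsRegularLocalRing R]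
    [IsAdicComplete (maximalIdeal R) R] (s : ResidueField R →+* R)
    (hs : (residue R).comp s = RingHom.id _) :
    ∃ (d : ℕ) (e : MvPowerSeries (Fin d) (ResidueField R) ≃+* R), ∀ c, e (C c) = s c := by
  obtain ⟨f, hf, hC, -⟩ := exists_surjective_ker_le_sq R s hs
  have hreg := (IsRegularLocalRing.iff_finrank_cotangentSpace R).1 inferInstance
  have hinj := injective_of_surjective_of_dim _ _ f hf (by rw [← hreg])
  exact ⟨_, RingEquiv.ofBijective f ⟨hinj, hf⟩, hC⟩

end Groth.Agent.Helper8.CoeffField
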