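import Mathlib
import Groth.Agent.Lib.Helper8.Depth33

/-!
# Serre's conditions for kernels
-/

set_option autoImplicit false
universe u v

namespace Groth.Agent.Helper8.Depth

open RingTheory.Sequence LocCoh Pointwise IsLocalRing

section
variable {A : Type u} [CommRing A] (p : Ideal A) [hpp : p.IsPrime]

/-- Localization of linear maps (as a map of modules over the local ring) preserves exactness. -/
theorem localizedModule_map_exact {M0 M1 M2 : Type u} [AddCommGroup M0] [Module A M0]
    [AddCommGroup M1] [Module A M1] [AddCommGroup M2] [Module A M2]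
    (f : M0 →ₗ[A] M1) (g : M1 →ₗ[A] M2) (ex : Function.Exact f g) :
    Function.Exact (LocalizedModule.map p.primeCompl f) (LocalizedModule.map p.primeCompl g) :=
  LocalizedModule.map_exact p.primeCompl f g ex

/-- If the support of `M` is contained in the support of `N`, the same holds after localizing. -/
theorem supportDim_localizedModule_le_of_support_subset {M N : Type u} [AddCommGroup M]
    [Module A M] [AddCommGroup N] [Module A N]
    (h : Module.support A M ⊆ Module.support A N) :
    Module.supportDim (Localization.AtPrime p) (LocalizedModule p.primeCompl M) ≤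
      Module.supportDim (Localization.AtPrime p) (LocalizedModule p.primeCompl N) := by
  have hsub : Module.support (Localization.AtPrime p) (LocalizedModule p.primeCompl M) ⊆
      Module.support (Localization.AtPrime p) (LocalizedModule p.primeCompl N) := by
    intro q hq
    rw [mem_support_localizedModule_iff] at hq ⊢
    exact h hq
  exact Order.krullDim_le_of_strictMono (fun x => ⟨x.1, hsub x.2⟩) (fun a b hab => hab)

end

section
variable {A : Type u} [CommRing A] [IsNoetherianRing A]

/-- The localization of a kernel is the kernel of the localization. -/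
theorem depth_localizedModule_ker (p : Ideal A) [hpp : p.IsPrime]
    {E0 E1 : Type u} [AddCommGroup E0] [Module A E0] [Module.Finite A E0]
    [AddCommGroup E1] [Module A E1] [Module.Finite A E1] (u : E0 →ₗ[A] E1) :
    depth (Localization.AtPrime p) (LocalizedModule p.primeCompl (LinearMap.ker u)) =
      depth (Localization.AtPrime p) (LinearMap.ker (LocalizedModule.map p.primeCompl u)) := by
  have hinj : Function.Injective (LocalizedModule.map p.primeCompl (LinearMap.ker u).subtype) :=
    LocalizedModule.map_injective _ _ (Submodule.subtype_injective _)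
  have hex : Function.Exact (LocalizedModule.map p.primeCompl (LinearMap.ker u).subtype)
      (LocalizedModule.map p.primeCompl u) :=
    localizedModule_map_exact p _ _ (LinearMap.exact_subtype_ker_map u)
  have hrange : LinearMap.range (LocalizedModule.map p.primeCompl (LinearMap.ker u).subtype) =
      LinearMap.ker (LocalizedModule.map p.primeCompl u) :=
    (LinearMap.exact_iff.mp hex).symm
  let e : LocalizedModule p.primeCompl (LinearMap.ker u) ≃ₗ[Localization.AtPrime p]
      LinearMap.ker (LocalizedModule.map p.primeCompl u) :=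
    (LinearEquiv.ofInjective _ hinj).trans (LinearEquiv.ofEq _ _ hrange)
  exact idealDepth_congr e

end

theorem sk_arith1 {dG dE : WithBot ℕ∞} {tG tE : ℕ∞} (hd : dG ≤ dE)
    (hE : min (1 : WithBot ℕ∞) dE ≤ ((tE : ℕ∞) : WithBot ℕ∞)) (h : 1 ≤ tE → 1 ≤ tG) :
    min (1 : WithBot ℕ∞) dG ≤ ((tG : ℕ∞) : WithBot ℕ∞) := by
  by_cases h1 : 1 ≤ tG
  · exact le_trans (min_le_left _ _) (by exact_mod_cast h1)
  · have h2 : ¬ 1 ≤ tE := fun h' => h1 (h h')
    have h3 : tE = 0 := Order.lt_one_iff.mp (not_le.mp h2)
    have h4 : tG = 0 := Order.lt_one_iff.mp (not_le.mp h1)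
    rw [h3] at hE
    rw [h4]
    rcases min_le_iff.mp hE with h5 | h5
    · exfalso
      have : (1 : ℕ∞) ≤ 0 := by exact_mod_cast h5
      simp at this
    · exact le_trans (min_le_right _ _) (hd.trans h5)

theorem sk_arith2 {dG dE0 dE1 : WithBot ℕ∞} {tG tE0 tE1 : ℕ∞} (hd0 : dG ≤ dE0) (hd1 : dG ≤ dE1)
    (hE0 : min (2 : WithBot ℕ∞) dE0 ≤ ((tE0 : ℕ∞) : WithBot ℕ∞))
    (hE1 : min (1 : WithBot ℕ∞) dE1 ≤ ((tE1 : ℕ∞) : WithBot ℕ∞))
    (h1 : 1 ≤ tE0 → 1 ≤ tG) (h2 : 2 ≤ tE0 → 1 ≤ tE1 → 2 ≤ tG) :
    min (2 : WithBot ℕ∞) dG ≤ ((tG : ℕ∞) : WithBot ℕ∞) := by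
  by_cases hG2 : 2 ≤ tG
  · exact le_trans (min_le_left _ _) (WithBot.coe_le_coe.mpr hG2)
  · by_cases hG1 : 1 ≤ tG
    · -- tG = 1
      have hcase : ¬ 2 ≤ tE0 ∨ ¬ 1 ≤ tE1 := by
        by_contra hc
        push Not at hc
        exact hG2 (h2 hc.1 hc.2)
      have hgoal : dG ≤ ((1 : ℕ∞) : WithBot ℕ∞) := by
        rcases hcase with hc | hc
        · have h3 : tE0 ≤ 1 := by
            have := not_le.mp hc
            exact ENat.lt_add_one_iff (by simp) |>.mp (by simpa [one_add_one_eq_two] using this)
          rcases min_le_iff.mp hE0 with h5 | h5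
          · exfalso
            have h6 : (2 : ℕ∞) ≤ tE0 := WithBot.coe_le_coe.mp h5
            exact hc h6
          · exact hd0.trans (h5.trans (by exact_mod_cast h3))
        · have h3 : tE1 = 0 := Order.lt_one_iff.mp (not_le.mp hc)
          rw [h3] at hE1
          rcases min_le_iff.mp hE1 with h5 | h5
          · exfalso
            have : (1 : ℕ∞) ≤ 0 := by exact_mod_cast h5
            simp at this
          · exact hd1.trans (h5.trans (by exact_mod_cast (zero_le_one : (0 : ℕ∞) ≤ 1)))
      exact le_trans (min_le_right _ _) (hgoal.trans (by exact_mod_cast hG1))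
    · have h4 : tG = 0 := Order.lt_one_iff.mp (not_le.mp hG1)
      have h2' : ¬ 1 ≤ tE0 := fun h' => hG1 (h1 h')
      have h3 : tE0 = 0 := Order.lt_one_iff.mp (not_le.mp h2')
      rw [h3] at hE0
      rw [h4]
      rcases min_le_iff.mp hE0 with h5 | h5
      · exfalso
        have : (2 : ℕ∞) ≤ 0 := WithBot.coe_le_coe.mp h5
        simp at this
      · exact le_trans (min_le_right _ _) (hd0.trans h5)

section
variable {A : Type u} [CommRing A] [IsNoetherianRing A]

/-- Serre's conditions `(S_1)` and `(S_2)` for the kernel of a map of finite modules. -/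
theorem hasSk_ker {E0 E1 : Type u} [AddCommGroup E0] [Module A E0] [Module.Finite A E0]
    [AddCommGroup E1] [Module A E1] [Module.Finite A E1] (u : E0 →ₗ[A] E1) :
    (HasSk 1 A E0 → HasSk 1 A (LinearMap.ker u)) ∧
    (Module.support A (LinearMap.ker u) ⊆ Module.support A E1 → HasSk 1 A E1 → HasSk 2 A E0 →
      HasSk 2 A (LinearMap.ker u)) := by
  have hd0 : ∀ (p : Ideal A) [p.IsPrime],
      Module.supportDim (Localization.AtPrime p) (LocalizedModule p.primeCompl (LinearMap.ker u)) ≤
        Module.supportDim (Localization.AtPrime p) (LocalizedModule p.primeCompl E0) := by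
    intro p _
    exact Module.supportDim_le_of_injective
      (LocalizedModule.map p.primeCompl (LinearMap.ker u).subtype)
      (LocalizedModule.map_injective _ _ (Submodule.subtype_injective _))
  constructor
  · intro h0 p _
    have hdep := depth_localizedModule_ker p u
    have hk := idealDepth_ker (IsLocalRing.maximalIdeal (Localization.AtPrime p))
      (LocalizedModule.map p.primeCompl u)
    refine sk_arith1 (hd0 p) (h0 p) (fun h => ?_)
    rw [hdep]
    exact hk.1 h
  · intro hsupp h1 h0 p _
    have hdep := depth_localizedModule_ker p u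
    have hk := idealDepth_ker (IsLocalRing.maximalIdeal (Localization.AtPrime p))
      (LocalizedModule.map p.primeCompl u)
    have hd1 := supportDim_localizedModule_le_of_support_subset p hsupp
    have h0' : (1 : ℕ∞) ≤ depth (Localization.AtPrime p) (LocalizedModule p.primeCompl E0) →
        (1 : ℕ∞) ≤ depth (Localization.AtPrime p)
          (LocalizedModule p.primeCompl (LinearMap.ker u)) := by
      intro h
      rw [hdep]
      exact hk.1 h
    have h0'' : (2 : ℕ∞) ≤ depth (Localization.AtPrime p) (LocalizedModule p.primeCompl E0) →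
        (1 : ℕ∞) ≤ depth (Localization.AtPrime p) (LocalizedModule p.primeCompl E1) →
        (2 : ℕ∞) ≤ depth (Localization.AtPrime p)
          (LocalizedModule p.primeCompl (LinearMap.ker u)) := by
      intro h h'
      rw [hdep]
      exact hk.2 h h'
    exact sk_arith2 (hd0 p) hd1 (h0 p) (h1 p) h0' h0''

end

end Groth.Agent.Helper8.Depth
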