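import Mathlib
import Groth.Agent.Lib.Helper8.Depth34

/-!
# Bijectivity from localizations and depth two
-/

set_option autoImplicit false
universe u v

namespace Groth.Agent.Helper8.Depth

open RingTheory.Sequence LocCoh Pointwise IsLocalRing

section
variable {R : Type u} [CommRing R] (p : Ideal R) [hpp : p.IsPrime]
  {N : Type u} [AddCommGroup N] [Module R N]

/-- Elements of the maximal ideal of the localization move `n/1` into the localized range. -/
theorem smul_mk_one_mem_range {M : Type u} [AddCommGroup M] [Module R M] (φ : M →ₗ[R] N)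
    (n : N) (hn : ∀ r ∈ p, r • n ∈ LinearMap.range φ)
    (c : Localization.AtPrime p) (hc : c ∈ maximalIdeal (Localization.AtPrime p)) :
    c • (LocalizedModule.mk n 1 : LocalizedModule p.primeCompl N) ∈
      LinearMap.range (LocalizedModule.map p.primeCompl φ) := by
  induction c using Localization.induction_on with
  | H rs =>
    obtain ⟨r, s⟩ := rs
    have hr : r ∈ p := by
      rw [Localization.mk_eq_mk'] at hc
      exact (IsLocalization.AtPrime.mk'_mem_maximal_iff (Localization.AtPrime p) p r s).mp hc
    obtain ⟨m, hm⟩ := hn r hr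
    refine ⟨LocalizedModule.mk m (s * 1), ?_⟩
    rw [LocalizedModule.map_mk, hm, LocalizedModule.mk_smul_mk]

/-- If `n/1` is in the localized range then some element outside `p` moves `n` into the range. -/
theorem exists_smul_mem_range_of_mk_mem_range {M : Type u} [AddCommGroup M] [Module R M]
    (φ : M →ₗ[R] N) (n : N)
    (h : (LocalizedModule.mk n 1 : LocalizedModule p.primeCompl N) ∈
      LinearMap.range (LocalizedModule.map p.primeCompl φ)) :
    ∃ t : R, t ∉ p ∧ t • n ∈ LinearMap.range φ := by
  obtain ⟨z, hz⟩ := h
  induction z using LocalizedModule.induction_on with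
  | h m s =>
    rw [LocalizedModule.map_mk, LocalizedModule.mk_eq] at hz
    obtain ⟨u, hu⟩ := hz
    refine ⟨(u * s : p.primeCompl), (u * s).2, (u : R) • m, ?_⟩
    rw [one_smul] at hu
    rw [map_smul]
    change (u : R) • φ m = ((u : R) * (s : R)) • n
    rw [mul_smul]
    exact hu

/-- A nonzero element killed by the maximal ideal makes the maximal ideal an associated prime. -/
theorem maximalIdeal_mem_associatedPrimes_of_smul_eq_zero {B : Type u} [CommRing B]
    [IsLocalRing B] [IsNoetherianRing B] {N' : Type u} [AddCommGroup N'] [Module B N']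
    (y : N') (hy : y ≠ 0) (h : ∀ c ∈ maximalIdeal B, c • y = 0) :
    maximalIdeal B ∈ associatedPrimes B N' := by
  refine isAssociatedPrime_iff.mpr ⟨inferInstance, y, ?_⟩
  have hle : maximalIdeal B ≤ Submodule.colon (⊥ : Submodule B N') {y} := by
    intro c hc
    rw [Submodule.mem_colon_singleton]
    simpa using h c hc
  have hne : Submodule.colon (⊥ : Submodule B N') {y} ≠ ⊤ := by
    intro htop
    have h1 : (1 : B) ∈ Submodule.colon (⊥ : Submodule B N') {y} := by rw [htop]; trivial
    rw [Submodule.mem_colon_singleton] at h1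
    exact hy (by simpa using h1)
  exact ((maximalIdeal.isMaximal B).eq_of_le hne hle)

end

section
variable {B : Type u} [CommRing B] [IsLocalRing B] [IsNoetherianRing B]
  {M' N' : Type u} [AddCommGroup M'] [Module B M'] [Module.Finite B M']
  [AddCommGroup N'] [Module B N']

/-- If `M' ⊆ N'` has depth at least two and `x ∉ M'` is moved into `M'` by the maximal ideal, then
`N'` has a nonzero element killed by the maximal ideal. -/
theorem exists_socle_of_depth_two (φ' : M' →ₗ[B] N') (hinj : Function.Injective φ')
    (hd : (2 : ℕ∞) ≤ depth B M') (x : N') (hx : x ∉ LinearMap.range φ')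
    (hcx : ∀ c ∈ maximalIdeal B, c • x ∈ LinearMap.range φ') :
    ∃ y : N', y ≠ 0 ∧ ∀ c ∈ maximalIdeal B, c • y = 0 := by
  rcases subsingleton_or_nontrivial M' with hM | hM
  · refine ⟨x, ?_, ?_⟩
    · rintro rfl
      exact hx (zero_mem _)
    · intro c hc
      obtain ⟨z, hz⟩ := hcx c hc
      rw [← hz, Subsingleton.elim z 0, map_zero]
  · have htop : maximalIdeal B • (⊤ : Submodule B M') ≠ ⊤ := smul_top_ne_top_of_local B M'
    obtain ⟨rs, hlen, hreg, hmem⟩ := (le_idealDepth_iff htop 2).mp (by exact_mod_cast hd)
    match rs, hlen with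
    | [a, b], _ =>
      have ha : a ∈ maximalIdeal B := hmem a (by simp)
      have hb : b ∈ maximalIdeal B := hmem b (by simp)
      rw [isWeaklyRegular_cons_iff, isWeaklyRegular_cons_iff] at hreg
      obtain ⟨hareg, hbreg, -⟩ := hreg
      obtain ⟨u, hu⟩ := hcx a ha
      obtain ⟨v, hv⟩ := hcx b hb
      have h1 : b • u = a • v := by
        apply hinj
        rw [map_smul, map_smul, hu, hv, smul_comm]
      have h2 : (Submodule.Quotient.mk u : QuotSMulTop a M') = 0 := by
        apply hbreg
        change b • (Submodule.Quotient.mk u : QuotSMulTop a M') = b • 0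
        rw [smul_zero, ← Submodule.Quotient.mk_smul, h1, Submodule.Quotient.mk_eq_zero]
        exact Submodule.smul_mem_pointwise_smul v a ⊤ trivial
      rw [Submodule.Quotient.mk_eq_zero] at h2
      obtain ⟨m, -, hm⟩ := (Submodule.mem_smul_pointwise_iff_exists _ _ _).mp h2
      have hay : a • (x - φ' m) = 0 := by
        rw [smul_sub, ← map_smul, hm, hu, sub_self]
      have hy : x - φ' m ∉ LinearMap.range φ' := by
        intro hmem'
        apply hx
        have : x = (x - φ' m) + φ' m := by abel
        rw [this]
        exact add_mem hmem' ⟨m, rfl⟩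
      refine ⟨x - φ' m, ?_, ?_⟩
      · intro h0
        apply hy
        rw [h0]
        exact zero_mem _
      · intro c hc
        obtain ⟨w0, hw0⟩ := hcx c hc
        have hcy : c • (x - φ' m) = φ' (w0 - c • m) := by
          rw [map_sub, map_smul, hw0, smul_sub]
        have hw : a • (w0 - c • m) = 0 := by
          apply hinj
          rw [map_smul, ← hcy, smul_comm, hay, smul_zero, map_zero]
        have hw' : w0 - c • m = 0 := by
          apply hareg
          change a • (w0 - c • m) = a • 0
          rw [hw, smul_zero]
        rw [hcy, hw', map_zero]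

end

section
variable {R M N : Type u} [CommRing R] [IsNoetherianRing R] [AddCommGroup M]
    [Module R M] [Module.Finite R M] [AddCommGroup N] [Module R N]

theorem injective_of_localization_depth_two (φ : M →ₗ[R] N)
    (h : ∀ (p : Ideal R) [p.IsPrime],
      Function.Injective (LocalizedModule.map p.primeCompl φ) ∨
        ((1 : ℕ∞) ≤ depth (Localization.AtPrime p) (LocalizedModule p.primeCompl M))) :
    Function.Injective φ := by
  rw [← LinearMap.ker_eq_bot]
  by_contra hker
  have hnt : Nontrivial (LinearMap.ker φ) := Submodule.nontrivial_iff_ne_bot.mpr hker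
  obtain ⟨p, hp⟩ := associatedPrimes.nonempty R (LinearMap.ker φ)
  have hpM : p ∈ associatedPrimes R M :=
    IsAssociatedPrime.map_of_injective (f := (LinearMap.ker φ).subtype) hp
      (Submodule.subtype_injective _)
  obtain ⟨hpp, k, hk⟩ := isAssociatedPrime_iff.mp hp
  rcases h p with hinj | hd
  · have h1 : LocalizedModule.map p.primeCompl φ (LocalizedModule.mk k.1 1) =
        LocalizedModule.map p.primeCompl φ 0 := by
      rw [LocalizedModule.map_mk, map_zero, LinearMap.mem_ker.mp k.2, LocalizedModule.zero_mk]
    have h2 := hinj h1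
    rw [← LocalizedModule.zero_mk 1, LocalizedModule.mk_eq] at h2
    obtain ⟨u, hu⟩ := h2
    rw [one_smul, smul_zero, smul_zero] at hu
    have h3 : (u : R) ∈ Submodule.colon (⊥ : Submodule R (LinearMap.ker φ)) {k} := by
      rw [Submodule.mem_colon_singleton, Submodule.mem_bot]
      exact Subtype.ext hu
    rw [← hk] at h3
    exact u.2 h3
  · have h0 := (depth_localizedModule_eq_zero_iff p M).mpr hpM
    rw [h0] at hd
    simp at hd

theorem bijective_of_localization_depth_two (φ : M →ₗ[R] N)
    (h : ∀ (p : Ideal R) [p.IsPrime],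
      Function.Bijective (LocalizedModule.map p.primeCompl φ) ∨
        ((2 : ℕ∞) ≤ depth (Localization.AtPrime p) (LocalizedModule p.primeCompl M) ∧
          p ∉ associatedPrimes R N)) :
    Function.Bijective φ := by
  have hinj : Function.Injective φ := by
    apply injective_of_localization_depth_two
    intro p _
    rcases h p with h1 | h1
    · exact Or.inl h1.1
    · exact Or.inr (le_trans (by norm_num) h1.1)
  refine ⟨hinj, ?_⟩
  rw [← LinearMap.range_eq_top]
  by_contra hrange
  have hnt : Nontrivial (N ⧸ LinearMap.range φ) := Submodule.Quotient.nontrivial_iff.mpr hrange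
  obtain ⟨p, hp⟩ := associatedPrimes.nonempty R (N ⧸ LinearMap.range φ)
  obtain ⟨hpp, q, hq⟩ := isAssociatedPrime_iff.mp hp
  obtain ⟨n, rfl⟩ := Submodule.Quotient.mk_surjective _ q
  have hmem : ∀ r : R, r ∈ p ↔ r • n ∈ LinearMap.range φ := by
    intro r
    rw [hq, Submodule.mem_colon_singleton, Submodule.mem_bot, ← Submodule.Quotient.mk_smul,
      Submodule.Quotient.mk_eq_zero]
  have hx : (LocalizedModule.mk n 1 : LocalizedModule p.primeCompl N) ∉
      LinearMap.range (LocalizedModule.map p.primeCompl φ) := by
    intro hcon
    obtain ⟨t, ht, htn⟩ := exists_smul_mem_range_of_mk_mem_range p φ n hcon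
    exact ht ((hmem t).mpr htn)
  rcases h p with hbij | ⟨hd, hass⟩
  · exact hx (LinearMap.range_eq_top.mpr hbij.2 ▸ Submodule.mem_top)
  · apply hass
    obtain ⟨y, hy0, hy⟩ := exists_socle_of_depth_two (LocalizedModule.map p.primeCompl φ)
      (LocalizedModule.map_injective _ _ hinj) hd _ hx
      (fun c hc => smul_mk_one_mem_range p φ n (fun r hr => (hmem r).mp hr) c hc)
    have hmax := maximalIdeal_mem_associatedPrimes_of_smul_eq_zero y hy0 hy
    rw [← Module.associatedPrimes.preimage_comap_associatedPrimes_eq_associatedPrimes_of_isLocalizedModule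
      p.primeCompl (Localization.AtPrime p) (LocalizedModule.mkLinearMap p.primeCompl N),
      Set.mem_preimage] at hmax
    have hcomap : Ideal.comap (algebraMap R (Localization.AtPrime p))
        (maximalIdeal (Localization.AtPrime p)) = p := Localization.AtPrime.under_maximalIdeal
    rwa [hcomap] at hmax

end

end Groth.Agent.Helper8.Depth
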