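import Mathlib
import Groth.Agent.Lib.Helper8.Depth35

/-!
# Flat local homomorphisms out of a Cohen–Macaulay ring
-/

set_option autoImplicit false
universe u v

namespace Groth.Agent.Helper8.Depth

open RingTheory.Sequence LocCoh Pointwise IsLocalRing

/-- Integral extensions do not raise the dimension. -/
theorem ringKrullDim_le_of_isIntegral (R S : Type*) [CommRing R] [CommRing S] [Algebra R S]
    [Algebra.IsIntegral R S] : ringKrullDim S ≤ ringKrullDim R := by
  refine Order.krullDim_le_of_strictMono (PrimeSpectrum.comap (algebraMap R S)) ?_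
  intro P Q hPQ
  have hle : P.asIdeal ≤ Q.asIdeal := hPQ.le
  have hne : ¬ Q.asIdeal ≤ P.asIdeal := fun h => (not_le_of_gt hPQ) h
  obtain ⟨x, hxQ, hxP⟩ := Set.not_subset.mp hne
  have h1 := Ideal.comap_lt_comap_of_integral_mem_sdiff (R := R) hle ⟨hxQ, hxP⟩
    (Algebra.IsIntegral.isIntegral x)
  exact h1

/-- The image of a weakly regular sequence under a flat local homomorphism bounds the depth. -/
theorem depth_le_depth_of_flat (R S : Type u) [CommRing R] [CommRing S] [IsLocalRing R]
    [IsNoetherianRing R] [IsLocalRing S] [Algebra R S] [IsLocalHom (algebraMap R S)]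
    [Module.Flat R S] : depth R R ≤ depth S S := by
  have htop : maximalIdeal R • (⊤ : Submodule R R) ≠ ⊤ := smul_top_ne_top_of_local R R
  obtain ⟨n, hn⟩ := ENat.ne_top_iff_exists.mp (idealDepth_ne_top htop)
  have hn' : depth R R = n := hn.symm
  obtain ⟨rs, hlen, hreg, hmem⟩ := (le_idealDepth_iff htop n).mp (le_of_eq hn)
  rw [hn', ← hlen]
  have hreg' : IsWeaklyRegular S (rs.map (algebraMap R S)) := hreg.of_flat
  have hmem' : ∀ r ∈ rs.map (algebraMap R S), r ∈ maximalIdeal S := by
    intro r hr
    obtain ⟨r0, hr0, rfl⟩ := List.mem_map.mp hr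
    have hx := hmem r0 hr0
    rw [mem_maximalIdeal, mem_nonunits_iff] at hx ⊢
    exact fun h => hx (IsLocalHom.map_nonunit r0 h)
  have := length_le_idealDepth hreg' hmem'
  rwa [List.length_map] at this

/-- A flat local extension of a Cohen–Macaulay local ring of no larger dimension is
Cohen–Macaulay of the same dimension. -/
theorem cm_of_flat_of_dim_le (R S : Type u) [CommRing R] [CommRing S]
    [IsCohenMacaulayLocalRing R] [IsNoetherianRing S] [IsLocalRing S] [Algebra R S]
    [IsLocalHom (algebraMap R S)] [Module.Flat R S]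
    (h : Module.Finite R S ∨ ringKrullDim S ≤ ringKrullDim R) :
    IsCohenMacaulayLocalRing S ∧ ringKrullDim R = ringKrullDim S := by
  have hdim : ringKrullDim S ≤ ringKrullDim R := by
    rcases h with h | h
    · have : Algebra.IsIntegral R S := Algebra.IsIntegral.of_finite R S
      exact ringKrullDim_le_of_isIntegral R S
    · exact h
  have hR : ringKrullDim R = ((depth R R : ℕ∞) : WithBot ℕ∞) := by
    rw [← Module.supportDim_self_eq_ringKrullDim]
    exact IsCohenMacaulayLocalRing.supportDim_eq_depth
  have h1 : ((depth R R : ℕ∞) : WithBot ℕ∞) ≤ ((depth S S : ℕ∞) : WithBot ℕ∞) :=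
    WithBot.coe_le_coe.mpr (depth_le_depth_of_flat R S)
  have h2 : ((depth S S : ℕ∞) : WithBot ℕ∞) ≤ ringKrullDim S := by
    rw [← Module.supportDim_self_eq_ringKrullDim]
    exact depth_le_supportDim
  have h3 : ringKrullDim S = ((depth S S : ℕ∞) : WithBot ℕ∞) :=
    le_antisymm (hdim.trans (hR.le.trans h1)) h2
  refine ⟨⟨?_⟩, le_antisymm (hR.le.trans (h1.trans h2)) hdim⟩
  rw [Module.supportDim_self_eq_ringKrullDim]
  exact h3

end Groth.Agent.Helper8.Depth
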