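import Mathlib
import Groth.Agent.Lib.Helper8.Depth36

/-!
# Dimension and integral ring maps
-/

set_option autoImplicit false
universe u

namespace Groth.Agent.Helper8.Depth

/-- For an integral ring map `R → S`, `dim S = dim R / ker`. -/
theorem ringKrullDim_eq_quotient_ker_of_isIntegral (R S : Type*) [CommRing R] [CommRing S]
    [Algebra R S] [Algebra.IsIntegral R S] :
    ringKrullDim S = ringKrullDim (R ⧸ RingHom.ker (algebraMap R S)) := by
  rw [ringKrullDim_quotient]
  apply le_antisymm
  · -- incomparability
    let f : PrimeSpectrum S → PrimeSpectrum.zeroLocus (RingHom.ker (algebraMap R S) : Set R) :=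
      fun Q => ⟨PrimeSpectrum.comap (algebraMap R S) Q, by
        intro x hx
        change algebraMap R S x ∈ Q.asIdeal
        rw [RingHom.mem_ker.mp hx]
        exact zero_mem _⟩
    refine Order.krullDim_le_of_strictMono f ?_
    intro P Q hPQ
    have hle : P.asIdeal ≤ Q.asIdeal := hPQ.le
    have hne : ¬ Q.asIdeal ≤ P.asIdeal := fun h => (not_le_of_gt hPQ) h
    obtain ⟨x, hxQ, hxP⟩ := Set.not_subset.mp hne
    have h1 := Ideal.comap_lt_comap_of_integral_mem_sdiff (R := R) hle ⟨hxQ, hxP⟩
      (Algebra.IsIntegral.isIntegral x)
    exact h1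
  · -- going up
    unfold Order.krullDim
    apply iSup_le
    intro l
    let l' : LTSeries (PrimeSpectrum R) := l.map Subtype.val (fun _ _ h => h)
    have hker : RingHom.ker (algebraMap R S) ≤ (RelSeries.head l').asIdeal := by
      have := (RelSeries.head l).2
      exact this
    obtain ⟨Q, -, hQ, hQc⟩ :=
      Ideal.exists_ideal_over_prime_of_isIntegral (S := S)
        (RelSeries.head l').asIdeal (⊥ : Ideal S) hker
    have hlo : Q.LiesOver (RelSeries.head l').asIdeal := ⟨hQc.symm⟩
    obtain ⟨L, hlen, -, -⟩ := Ideal.exists_ltSeries_of_hasGoingUp l' Q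
    have h2 : (L.length : WithBot ℕ∞) ≤ ⨆ p : LTSeries (PrimeSpectrum S), (p.length : WithBot ℕ∞) :=
      le_iSup (fun p : LTSeries (PrimeSpectrum S) => (p.length : WithBot ℕ∞)) L
    have h3 : l.length = L.length := by
      rw [hlen]; rfl
    rw [h3]
    exact h2

/-- The dimension of a module does not depend on the ring, for a module finite over the base. -/
theorem supportDim_restrictScalars_eq (A B : Type u) [CommRing A] [CommRing B]
    [Algebra A B] (M : Type u) [AddCommGroup M] [Module B M] [Module A M] [IsScalarTower A B M]
    [Module.Finite A M] : Module.supportDim A M = Module.supportDim B M := by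
  have hfinB : Module.Finite B M := Module.Finite.of_restrictScalars_finite A B M
  rw [Module.supportDim_eq_ringKrullDim_quotient_annihilator,
    Module.supportDim_eq_ringKrullDim_quotient_annihilator]
  set J := Module.annihilator B M with hJ
  -- `B ⧸ J` is integral over `A`
  have hint : Algebra.IsIntegral A (B ⧸ J) := by
    constructor
    intro z
    obtain ⟨b, rfl⟩ := Ideal.Quotient.mk_surjective z
    obtain ⟨p, hp, hpb⟩ := LinearMap.exists_monic_and_aeval_eq_zero A (Algebra.lsmul A A M b)
    refine ⟨p, hp, ?_⟩
    rw [← Polynomial.aeval_def]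
    have h1 : Polynomial.aeval (Ideal.Quotient.mk J b) p =
        Ideal.Quotient.mk J (Polynomial.aeval b p) := by
      have := Polynomial.aeval_algHom_apply (Ideal.Quotient.mkₐ A J) b p
      simpa using this
    rw [h1, Ideal.Quotient.eq_zero_iff_mem, hJ, Module.mem_annihilator]
    intro m
    have h2 : Algebra.lsmul A A M (Polynomial.aeval b p) = 0 := by
      rw [← Polynomial.aeval_algHom_apply]; exact hpb
    have := LinearMap.congr_fun h2 m
    simpa using this
  have hker : RingHom.ker (algebraMap A (B ⧸ J)) = Module.annihilator A M := by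
    ext a
    rw [RingHom.mem_ker, Module.mem_annihilator]
    have : algebraMap A (B ⧸ J) a = Ideal.Quotient.mk J (algebraMap A B a) := rfl
    rw [this, Ideal.Quotient.eq_zero_iff_mem, hJ, Module.mem_annihilator]
    simp only [algebraMap_smul]
  rw [ringKrullDim_eq_quotient_ker_of_isIntegral A (B ⧸ J), hker]

end Groth.Agent.Helper8.Depth
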