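import Mathlib
import Groth.Agent.Lib.Helper2.CompleteFinite
import Groth.Agent.Lib.Helper8.IntegralDim

/-!
# Finiteness and injectivity criteria for maps from complete local rings
-/

set_option autoImplicit false

namespace Groth.Agent.Helper8.FinPS

open IsLocalRing

universe u v

section FL

variable (S : Type v) (R : Type u) [CommRing S] [CommRing R] [IsLocalRing R] [Algebra S R]

/-- A module of finite length over a local `S`-algebra `R` whose residue field is finite over
`S` is finite over `S`. -/
theorem finite_of_isFiniteLength [hκ : Module.Finite S (ResidueField R)] :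
    ∀ (M : Type u) [AddCommGroup M] [Module R M], IsFiniteLength R M →
      ∀ [Module S M] [IsScalarTower S R M], Module.Finite S M := by
  intro M _ _ hM
  induction hM with
  | @of_subsingleton M _ _ _ =>
    intro _ _
    exact Module.Finite.of_finite
  | @of_simple_quotient M _ _ N hsimple hN ih =>
    intro _ _
    obtain ⟨I, hImax, ⟨e⟩⟩ := isSimpleModule_iff_quot_maximal.mp hsimple
    obtain rfl : I = maximalIdeal R := IsLocalRing.eq_maximalIdeal hImax
    haveI : Module.Finite S N := ih
    haveI : Module.Finite S (R ⧸ maximalIdeal R) := hκ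
    haveI : Module.Finite S (M ⧸ N) := Module.Finite.equiv (e.restrictScalars S).symm
    exact Module.Finite.of_exact (f := N.subtype.restrictScalars S)
      (g := N.mkQ.restrictScalars S) (LinearMap.exact_subtype_mkQ N)
      (Submodule.Quotient.mk_surjective _)

end FL

section Art

variable {R : Type u} [CommRing R] [IsNoetherianRing R] [IsLocalRing R]

/-- The quotient of a Noetherian local ring by an ideal over which the maximal ideal is a minimal
prime is Artinian. -/
theorem isArtinianRing_quotient_of_mem_minimalPrimes (J : Ideal R)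
    (hJ : maximalIdeal R ∈ J.minimalPrimes) : IsArtinianRing (R ⧸ J) := by
  rw [isArtinianRing_iff_krullDimLE_zero, Ring.krullDimLE_zero_iff]
  intro P hP
  have hsurj : Function.Surjective (Ideal.Quotient.mk J) := Ideal.Quotient.mk_surjective
  have hcomap : (P.comap (Ideal.Quotient.mk J)).IsPrime := Ideal.comap_isPrime _ P
  have hle : J ≤ P.comap (Ideal.Quotient.mk J) := by
    intro a ha
    rw [Ideal.mem_comap, Ideal.Quotient.eq_zero_iff_mem.mpr ha]
    exact P.zero_mem
  have hm : maximalIdeal R ≤ P.comap (Ideal.Quotient.mk J) :=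
    hJ.2 ⟨hcomap, hle⟩ (IsLocalRing.le_maximalIdeal hcomap.ne_top)
  have heq : P.comap (Ideal.Quotient.mk J) = maximalIdeal R :=
    ((IsLocalRing.maximalIdeal.isMaximal R).eq_of_le hcomap.ne_top hm).symm
  have hmax : (P.comap (Ideal.Quotient.mk J)).IsMaximal := by
    rw [heq]; exact IsLocalRing.maximalIdeal.isMaximal R
  rcases Ideal.map_eq_top_or_isMaximal_of_surjective _ hsurj hmax with h | h
  · rw [Ideal.map_comap_of_surjective _ hsurj] at h
    exact absurd h hP.ne_top
  · rwa [Ideal.map_comap_of_surjective _ hsurj] at h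

theorem isFiniteLength_quotient_of_mem_minimalPrimes (J : Ideal R)
    (hJ : maximalIdeal R ∈ J.minimalPrimes) : IsFiniteLength R (R ⧸ J) := by
  haveI := isArtinianRing_quotient_of_mem_minimalPrimes J hJ
  haveI : IsArtinian R (R ⧸ J) :=
    isArtinian_of_surjective_algebraMap (S := R) (R := R ⧸ J) (M := R ⧸ J)
      Ideal.Quotient.mk_surjective
  exact isFiniteLength_iff_isNoetherian_isArtinian.mpr ⟨inferInstance, inferInstance⟩

end Art

section Fin

variable (S R : Type u) [CommRing S] [IsLocalRing S] [IsAdicComplete (maximalIdeal S) S]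
  [CommRing R] [IsNoetherianRing R] [IsLocalRing R] [Algebra S R]

/-- A Noetherian local algebra `R` over a complete local ring `S`, such that `𝔪_S R` is primary
to the maximal ideal of `R` and the residue field of `R` is finite over `S`, is finite
over `S`. -/
theorem finite_of_complete [Module.Finite S (ResidueField R)]
    (hJ : maximalIdeal R ∈ ((maximalIdeal S).map (algebraMap S R)).minimalPrimes) :
    Module.Finite S R := by
  classical
  set J := (maximalIdeal S).map (algebraMap S R) with hJdef
  have hJm : J ≤ maximalIdeal R := hJ.1.2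
  have hfl := isFiniteLength_quotient_of_mem_minimalPrimes J hJ
  haveI : Module.Finite S (R ⧸ J) := finite_of_isFiniteLength S R (R ⧸ J) hfl
  -- `R` is separated for the `𝔪_S`-adic topology
  haveI : IsHausdorff (maximalIdeal S) R := by
    refine ⟨fun x hx => ?_⟩
    apply IsHausdorff.haus (I := maximalIdeal R) inferInstance
    intro n
    have h1 := hx n
    rw [SModEq.zero] at h1 ⊢
    have h2 : ((maximalIdeal S) ^ n • ⊤ : Submodule S R) ≤
        ((maximalIdeal R ^ n • ⊤ : Submodule R R)).restrictScalars S := by
      rw [Ideal.smul_top_eq_map]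
      intro y hy
      rw [Submodule.restrictScalars_mem] at hy ⊢
      rw [smul_eq_mul, Ideal.mul_top]
      rw [Ideal.map_pow] at hy
      exact Ideal.pow_right_mono hJm n hy
    exact h2 h1
  obtain ⟨r, s, hs⟩ := Module.Finite.exists_fin (R := S) (M := R ⧸ J)
  have hex : ∀ i, ∃ y : R, Ideal.Quotient.mk J y = s i := fun i => Ideal.Quotient.mk_surjective _
  choose x hx using hex
  have hspan : Submodule.span S (Set.range x) ⊔ (maximalIdeal S) • ⊤ = ⊤ := by
    rw [eq_top_iff]
    intro y _
    have hy : Ideal.Quotient.mk J y ∈ Submodule.span S (Set.range s) := by rw [hs]; trivial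
    obtain ⟨c, hc⟩ := (Submodule.mem_span_range_iff_exists_fun S).1 hy
    have h1 : Ideal.Quotient.mk J (y - ∑ i, c i • x i) = 0 := by
      rw [map_sub, ← hc, map_sum, sub_eq_zero]
      refine Finset.sum_congr rfl fun i _ => ?_
      rw [← hx i]
      rfl
    rw [Ideal.Quotient.eq_zero_iff_mem] at h1
    have h2 : y - ∑ i, c i • x i ∈ ((maximalIdeal S) • ⊤ : Submodule S R) := by
      rw [Ideal.smul_top_eq_map, Submodule.restrictScalars_mem]
      exact h1
    have h3 : y = ∑ i, c i • x i + (y - ∑ i, c i • x i) := by ring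
    rw [h3]
    refine Submodule.add_mem_sup ?_ h2
    exact Submodule.sum_mem _ fun i _ =>
      Submodule.smul_mem _ _ (Submodule.subset_span ⟨i, rfl⟩)
  have htop := Groth.Agent.Helper2.CompleteFinite.span_eq_top_of_sup_smul_eq_top
    (maximalIdeal S) R x hspan
  exact ⟨(Submodule.fg_def).2 ⟨Set.range x, Set.finite_range x, htop⟩⟩

end Fin

section Inj

/-- A finite algebra `R` over a domain `S` with `dim S ≤ d ≤ dim R` (`d` finite) is faithful. -/
theorem injective_of_finite_of_dim (S R : Type*) [CommRing S] [IsDomain S] [CommRing R]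
    [Algebra S R] [Module.Finite S R] (d : ℕ) (h1 : ringKrullDim S ≤ d)
    (h2 : (d : WithBot ℕ∞) ≤ ringKrullDim R) : Function.Injective (algebraMap S R) := by
  rw [injective_iff_map_eq_zero]
  intro g hg
  by_contra hne
  have hg0 : g ∈ nonZeroDivisors S := mem_nonZeroDivisors_of_ne_zero hne
  have h3 := ringKrullDim_quotient_succ_le_of_nonZeroDivisor hg0
  have h4 := Groth.Agent.Helper8.Depth.ringKrullDim_eq_quotient_ker_of_isIntegral S R
  have hle : Ideal.span {g} ≤ RingHom.ker (algebraMap S R) := by
    rw [Ideal.span_le, Set.singleton_subset_iff]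
    exact hg
  have h5 : ringKrullDim (S ⧸ RingHom.ker (algebraMap S R)) ≤
      ringKrullDim (S ⧸ Ideal.span {g}) :=
    ringKrullDim_le_of_surjective (Ideal.Quotient.factor hle)
      (Ideal.Quotient.factor_surjective hle)
  have h6 : (d : WithBot ℕ∞) + 1 ≤ d := by
    calc (d : WithBot ℕ∞) + 1 ≤ ringKrullDim R + 1 := by gcongr
      _ = ringKrullDim (S ⧸ RingHom.ker (algebraMap S R)) + 1 := by rw [h4]
      _ ≤ ringKrullDim (S ⧸ Ideal.span {g}) + 1 := by gcongr
      _ ≤ ringKrullDim S := h3
      _ ≤ d := h1
  have h7 : ((d + 1 : ℕ) : WithBot ℕ∞) ≤ (d : ℕ) := by exact_mod_cast h6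
  have h8 : d + 1 ≤ d := by exact_mod_cast h7
  omega

end Inj

end Groth.Agent.Helper8.FinPS
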