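import Mathlib
import Groth.Agent.Lib.Helper8.FinPS1
import Groth.Agent.Lib.Helper8.PSeries3
import Groth.Agent.Lib.Helper8.CoeffField3

/-!
# Finite injective maps from power series rings over a complete local domain `W` to complete
local rings
-/

set_option autoImplicit false

namespace Groth.Agent.Helper8.FinPS

open IsLocalRing MvPowerSeries

universe u

section

variable {σ : Type*} [Finite σ] {W : Type*} [CommRing W] [IsLocalRing W]

/-- The maximal ideal of a power series ring over a local ring is generated by the maximal ideal
of the coefficient ring and the variables. -/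
theorem maximalIdeal_mvPowerSeries_eq_sup :
    maximalIdeal (MvPowerSeries σ W) =
      (maximalIdeal W).map (C : W →+* MvPowerSeries σ W) ⊔
        Ideal.span (Set.range (fun s : σ => (X s : MvPowerSeries σ W))) := by
  have hmem : ∀ f : MvPowerSeries σ W, f ∈ maximalIdeal (MvPowerSeries σ W) ↔
      constantCoeff f ∈ maximalIdeal W := by
    intro f
    rw [IsLocalRing.mem_maximalIdeal, mem_nonunits_iff, isUnit_iff_constantCoeff,
      IsLocalRing.mem_maximalIdeal, mem_nonunits_iff]
  apply le_antisymm
  · intro f hf
    rw [hmem] at hf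
    have h1 : f - C (constantCoeff f) ∈
        Ideal.span (Set.range (fun s : σ => (X s : MvPowerSeries σ W))) := by
      apply Groth.Agent.Helper8.mvPowerSeries_mem_span_range_X
      rw [map_sub, constantCoeff_C, sub_self]
    have h2 : f = C (constantCoeff f) + (f - C (constantCoeff f)) := by ring
    rw [h2]
    exact Submodule.add_mem_sup (Ideal.mem_map_of_mem _ hf) h1
  · rw [sup_le_iff]
    constructor
    · rw [Ideal.map_le_iff_le_comap]
      intro c hc
      rw [Ideal.mem_comap, hmem, constantCoeff_C]
      exact hc
    · rw [Ideal.span_le]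
      rintro _ ⟨s, rfl⟩
      rw [SetLike.mem_coe, hmem]
      show constantCoeff (X s) ∈ _
      rw [constantCoeff_X]
      exact Ideal.zero_mem _

end

/-- The dimension of a power series ring in `n` variables over a local ring with principal
maximal ideal is at most `n + 1`. -/
theorem ringKrullDim_mvPowerSeries_le_succ (n : ℕ) (W : Type u) [CommRing W] [IsLocalRing W]
    [IsNoetherianRing W] (π : W) (hπ : maximalIdeal W = Ideal.span {π}) :
    ringKrullDim (MvPowerSeries (Fin n) W) ≤ (n + 1 : ℕ) := by
  refine (ringKrullDim_le_spanFinrank_maximalIdeal (MvPowerSeries (Fin n) W)).trans ?_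
  rw [Groth.Agent.Helper8.PSeries.maximalIdeal_eq_span_insert π hπ]
  have hfin : (insert (C π : MvPowerSeries (Fin n) W)
      (Set.range (fun s : Fin n => (X s : MvPowerSeries (Fin n) W)))).Finite :=
    (Set.finite_range _).insert _
  have h1 := Submodule.spanFinrank_span_le_ncard_of_finite (R := MvPowerSeries (Fin n) W) hfin
  have h2 : (Set.range (fun s : Fin n => (X s : MvPowerSeries (Fin n) W))).ncard ≤ n := by
    have := Set.ncard_image_le (f := fun s : Fin n => (X s : MvPowerSeries (Fin n) W))
      (Set.finite_univ (α := Fin n))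
    rw [Set.image_univ, Set.ncard_univ, Nat.card_eq_fintype_card, Fintype.card_fin] at this
    exact this
  have h3 : (insert (C π : MvPowerSeries (Fin n) W)
      (Set.range (fun s : Fin n => (X s : MvPowerSeries (Fin n) W)))).ncard ≤ n + 1 :=
    (Set.ncard_insert_le _ _).trans (by omega)
  exact_mod_cast h1.trans h3

section G

variable (W R : Type u) [CommRing W] [IsLocalRing W] [IsNoetherianRing W] [IsDomain W]
  [IsAdicComplete (maximalIdeal W) W]
  [CommRing R] [IsLocalRing R] [IsNoetherianRing R] [IsAdicComplete (maximalIdeal R) R]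

/-- The main construction: a finite injective map from a power series ring over `W`. -/
theorem exists_finite_injective (φ : W →+* R)
    (hres : Function.Surjective ((residue R).comp φ)) (n : ℕ) (x : Fin n → R)
    (hx : ∀ i, x i ∈ maximalIdeal R)
    (hprim : maximalIdeal R ∈
      ((maximalIdeal W).map φ ⊔ Ideal.span (Set.range x)).minimalPrimes)
    (e : ℕ) (he1 : ringKrullDim (MvPowerSeries (Fin n) W) ≤ e)
    (he2 : (e : WithBot ℕ∞) ≤ ringKrullDim R) :
    ∃ f : MvPowerSeries (Fin n) W →+* R, Function.Injective f ∧ f.Finite ∧
      Function.Surjective ((residue R).comp f) := by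
  obtain ⟨f, hC, hX⟩ := Groth.Agent.Helper8.CoeffField.exists_ringHom_eval φ n x hx
  have hmap : (maximalIdeal (MvPowerSeries (Fin n) W)).map f =
      (maximalIdeal W).map φ ⊔ Ideal.span (Set.range x) := by
    rw [maximalIdeal_mvPowerSeries_eq_sup, Ideal.map_sup, Ideal.map_map, Ideal.map_span,
      ← Set.range_comp]
    have h1 : f.comp (C : W →+* MvPowerSeries (Fin n) W) = φ := by
      ext c; exact hC c
    have h2 : (⇑f ∘ fun i : Fin n => (X i : MvPowerSeries (Fin n) W)) = x := by
      funext i; exact hX i
    rw [h1, h2]
  have hsurj : Function.Surjective ((residue R).comp f) := by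
    intro y
    obtain ⟨c, hc⟩ := hres y
    refine ⟨C c, ?_⟩
    rw [RingHom.comp_apply, hC]
    exact hc
  letI : Algebra (MvPowerSeries (Fin n) W) R := f.toAlgebra
  haveI : IsAdicComplete (maximalIdeal (MvPowerSeries (Fin n) W)) (MvPowerSeries (Fin n) W) :=
    Groth.Agent.Helper3.ArtFunLib.isAdicComplete_ps_local
  haveI : Module.Finite (MvPowerSeries (Fin n) W) (ResidueField R) := by
    refine Module.Finite.of_surjective
      ((IsScalarTower.toAlgHom (MvPowerSeries (Fin n) W) R (ResidueField R)).toLinearMap.comp
        (Algebra.linearMap (MvPowerSeries (Fin n) W) R)) ?_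
    intro y
    obtain ⟨g, hg⟩ := hsurj y
    exact ⟨g, hg⟩
  have hfin : Module.Finite (MvPowerSeries (Fin n) W) R := by
    apply finite_of_complete
    show maximalIdeal R ∈ ((maximalIdeal (MvPowerSeries (Fin n) W)).map f).minimalPrimes
    rw [hmap]
    exact hprim
  haveI : IsDomain (MvPowerSeries (Fin n) W) := NoZeroDivisors.to_isDomain _
  refine ⟨f, ?_, hfin, hsurj⟩
  haveI := hfin
  exact injective_of_finite_of_dim (MvPowerSeries (Fin n) W) R e he1 he2

end G

end Groth.Agent.Helper8.FinPS
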