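import Mathlib
import Groth.Agent.Lib.Helper1.LocalCrit

/-!
# Flatness and regular sequences
-/

set_option autoImplicit false
universe u v

namespace Groth.Agent.Helper8.FlatReg

open RingTheory.Sequence Pointwise

section
variable {A : Type*} {B : Type u} [CommRing A] [CommRing B] [Algebra A B] [IsNoetherianRing B]

omit [IsNoetherianRing B] in
/-- transfer of flatness along a `B`-linear equivalence -/
theorem flat_of_linearEquiv {M N : Type*} [AddCommGroup M] [Module B M] [Module A M]
    [IsScalarTower A B M] [AddCommGroup N] [Module B N] [Module A N] [IsScalarTower A B N]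
    (e : N ≃ₗ[B] M) [Module.Flat A M] : Module.Flat A N :=
  Module.Flat.of_linearEquiv (e.restrictScalars A)

/-- If `fs` is a weakly regular sequence on `M` in the radical of `B` and `M/(fs)M` is flat
over `A`, then `M` is flat over `A`. -/
theorem flat_of_isWeaklyRegular_of_flat_quotient (fs : List B)
    (hfs : ∀ f ∈ fs, f ∈ Ideal.jacobson (⊥ : Ideal B)) :
    ∀ (M : Type v) [AddCommGroup M] [Module B M] [Module A M] [IsScalarTower A B M]
      [Module.Finite B M] (_ : IsWeaklyRegular M fs)
      (_ : Module.Flat A (M ⧸ (Ideal.ofList fs • (⊤ : Submodule B M)))), Module.Flat A M := by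
  induction fs with
  | nil =>
    intro M _ _ _ _ _ _ hflat
    have h0 : (Ideal.ofList ([] : List B) • (⊤ : Submodule B M)) = ⊥ := by
      rw [Ideal.ofList_nil, Submodule.bot_smul]
    exact flat_of_linearEquiv (A := A) (Submodule.quotEquivOfEqBot _ h0).symm
  | cons f rs ih =>
    intro M _ _ _ _ _ hreg hflat
    rw [isWeaklyRegular_cons_iff] at hreg
    have hf : f ∈ Ideal.jacobson (⊥ : Ideal B) := hfs f (List.mem_cons_self)
    have hrs : ∀ g ∈ rs, g ∈ Ideal.jacobson (⊥ : Ideal B) :=
      fun g hg => hfs g (List.mem_cons_of_mem _ hg)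
    have h1 : Module.Flat A
        (QuotSMulTop f M ⧸ (Ideal.ofList rs • (⊤ : Submodule B (QuotSMulTop f M)))) :=
      flat_of_linearEquiv (A := A)
        (Submodule.quotOfListConsSMulTopEquivQuotSMulTopInner M f rs).symm
    have h2 : Module.Flat A (QuotSMulTop f M) := ih hrs (QuotSMulTop f M) hreg.2 h1
    have h3 : Module.Flat A (M ⧸ (Ideal.span {f} • (⊤ : Submodule B M))) :=
      flat_of_linearEquiv (A := A)
        (Submodule.quotEquivOfEq _ _ (Submodule.ideal_span_singleton_smul f ⊤))
    exact Groth.Agent.Helper1.LocalCrit.flat_of_flat_quotient_regular M f hf hreg.1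

/-- All the partial quotients are flat. -/
theorem flat_quotient_take (fs : List B)
    (hfs : ∀ f ∈ fs, f ∈ Ideal.jacobson (⊥ : Ideal B)) (i : ℕ) :
    ∀ (M : Type v) [AddCommGroup M] [Module B M] [Module A M] [IsScalarTower A B M]
      [Module.Finite B M] (_ : IsWeaklyRegular M fs)
      (_ : Module.Flat A (M ⧸ (Ideal.ofList fs • (⊤ : Submodule B M)))),
      Module.Flat A (M ⧸ (Ideal.ofList (fs.take i) • (⊤ : Submodule B M))) := by
  induction i generalizing fs with
  | zero =>
    intro M _ _ _ _ _ hreg hflat
    have hM := flat_of_isWeaklyRegular_of_flat_quotient (A := A) fs hfs M hreg hflat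
    have h0 : (Ideal.ofList (fs.take 0) • (⊤ : Submodule B M)) = ⊥ := by
      rw [List.take_zero, Ideal.ofList_nil, Submodule.bot_smul]
    exact flat_of_linearEquiv (A := A) (Submodule.quotEquivOfEqBot _ h0)
  | succ i ih =>
    intro M _ _ _ _ _ hreg hflat
    cases fs with
    | nil =>
      rw [List.take_nil]
      exact hflat
    | cons f rs =>
      rw [List.take_succ_cons]
      rw [isWeaklyRegular_cons_iff] at hreg
      have hrs : ∀ g ∈ rs, g ∈ Ideal.jacobson (⊥ : Ideal B) :=
        fun g hg => hfs g (List.mem_cons_of_mem _ hg)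
      have h1 : Module.Flat A
          (QuotSMulTop f M ⧸ (Ideal.ofList rs • (⊤ : Submodule B (QuotSMulTop f M)))) :=
        flat_of_linearEquiv (A := A)
          (Submodule.quotOfListConsSMulTopEquivQuotSMulTopInner M f rs).symm
      have h2 := ih rs hrs (QuotSMulTop f M) hreg.2 h1
      exact flat_of_linearEquiv (A := A)
        (Submodule.quotOfListConsSMulTopEquivQuotSMulTopInner M f (rs.take i))

end

end Groth.Agent.Helper8.FlatReg
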