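import Mathlib
import Groth.Agent.Lib.Helper1.LocalCrit
import Groth.Agent.Lib.Helper8.FlatReg1

/-!
# Flatness and regular sequences, IV: `J ⊗ M → M` is injective for `J` generated by an
`M`-regular sequence; flatness modulo a regular sequence
-/

set_option autoImplicit false
universe u v

namespace Groth.Agent.Helper8.FlatReg

open RingTheory.Sequence Pointwise IsLocalRing TensorProduct

section Tor
variable {A : Type*} [CommRing A] (M : Type*) [AddCommGroup M] [Module A M]

/-- One step: if `J' ⊗ M → M` is injective and `f` is regular on `M / J'M`, then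
`(J' + (f)) ⊗ M → M` is injective. -/
theorem rTensor_sup_span_singleton_injective (J' : Ideal A) (f : A)
    (h : Function.Injective (J'.subtype.rTensor M))
    (hf : IsSMulRegular (M ⧸ (J' • (⊤ : Submodule A M))) f) :
    Function.Injective ((J' ⊔ Ideal.span {f}).subtype.rTensor M) := by
  set J : Ideal A := J' ⊔ Ideal.span {f} with hJ
  have hle : J' ≤ J := le_sup_left
  have hfJ : f ∈ J := Ideal.mem_sup_right (Ideal.mem_span_singleton_self f)
  let incl : J' ⊗[A] M →ₗ[A] J ⊗[A] M := (Submodule.inclusion hle).rTensor M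
  have hcomp : ∀ z, J.subtype.rTensor M (incl z) = J'.subtype.rTensor M z := by
    intro z
    rw [← LinearMap.comp_apply, ← LinearMap.rTensor_comp]
    rfl
  -- every element is `incl z' + f ⊗ m`
  have hsurj : ∀ z : J ⊗[A] M, ∃ (z' : J' ⊗[A] M) (m : M),
      z = incl z' + (⟨f, hfJ⟩ : J) ⊗ₜ[A] m := by
    intro z
    induction z using TensorProduct.induction_on with
    | zero => exact ⟨0, 0, by simp⟩
    | tmul j m =>
      obtain ⟨j, hj⟩ := j
      obtain ⟨j', hj', g, hg, rfl⟩ := Submodule.mem_sup.mp hj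
      obtain ⟨c, rfl⟩ := Ideal.mem_span_singleton'.mp hg
      refine ⟨(⟨j', hj'⟩ : J') ⊗ₜ[A] m, c • m, ?_⟩
      have h1 : (⟨j' + c * f, hj⟩ : J) = Submodule.inclusion hle ⟨j', hj'⟩ + c • ⟨f, hfJ⟩ := by
        apply Subtype.ext
        rfl
      rw [h1, add_tmul, smul_tmul]
      rfl
    | add x y hx hy =>
      obtain ⟨x', m, rfl⟩ := hx
      obtain ⟨y', m', rfl⟩ := hy
      refine ⟨x' + y', m + m', ?_⟩
      rw [map_add, tmul_add]
      abel
  -- `f ⊗ m` for `m ∈ J'M` comes from `J' ⊗ M`
  have hmem : ∀ m : M, m ∈ J' • (⊤ : Submodule A M) →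
      ∃ z' : J' ⊗[A] M, incl z' = (⟨f, hfJ⟩ : J) ⊗ₜ[A] m := by
    intro m hm
    refine Submodule.smul_induction_on hm (fun a ha m' _ => ?_) (fun x y hx hy => ?_)
    · refine ⟨(⟨a * f, J'.mul_mem_right f ha⟩ : J') ⊗ₜ[A] m', ?_⟩
      have h1 : Submodule.inclusion hle ⟨a * f, J'.mul_mem_right f ha⟩ = a • (⟨f, hfJ⟩ : J) := by
        apply Subtype.ext
        rfl
      show (Submodule.inclusion hle ⟨a * f, J'.mul_mem_right f ha⟩) ⊗ₜ[A] m' = _
      rw [h1, smul_tmul]
    · obtain ⟨zx, hzx⟩ := hx
      obtain ⟨zy, hzy⟩ := hy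
      exact ⟨zx + zy, by rw [map_add, hzx, hzy, tmul_add]⟩
  rw [injective_iff_map_eq_zero]
  intro z hz
  obtain ⟨z', m, rfl⟩ := hsurj z
  rw [map_add, hcomp, LinearMap.rTensor_tmul] at hz
  have hz2 := congrArg (TensorProduct.lid A M) hz
  rw [map_add, lid_tmul, map_zero] at hz2
  have hfm : f • m ∈ J' • (⊤ : Submodule A M) := by
    have h3 : f • m = -(TensorProduct.lid A M (J'.subtype.rTensor M z')) := by
      have : (J.subtype ⟨f, hfJ⟩) • m = f • m := rfl
      rw [this] at hz2
      exact eq_neg_of_add_eq_zero_right hz2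
    rw [h3]
    exact neg_mem (Groth.Agent.Helper1.LocalCrit.lid_rTensor_subtype_mem J' z')
  have hm : m ∈ J' • (⊤ : Submodule A M) := by
    have h0 : f • (Submodule.Quotient.mk m : M ⧸ (J' • (⊤ : Submodule A M))) =
        f • (0 : M ⧸ (J' • (⊤ : Submodule A M))) := by
      rw [smul_zero, ← Submodule.Quotient.mk_smul, Submodule.Quotient.mk_eq_zero]
      exact hfm
    exact (Submodule.Quotient.mk_eq_zero _).mp (hf h0)
  obtain ⟨z'', hz''⟩ := hmem m hm
  rw [← hz'', ← map_add]
  have : z' + z'' = 0 := by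
    apply h
    rw [map_zero, ← hcomp, map_add, hz'']
    rw [map_add, hcomp, LinearMap.rTensor_tmul]
    exact hz
  rw [this, map_zero]

/-- If `fs` is a weakly regular sequence on `M`, then `(fs) ⊗ M → M` is injective. -/
theorem rTensor_ofList_injective (fs : List A) (hreg : IsWeaklyRegular M fs) :
    Function.Injective ((Ideal.ofList fs).subtype.rTensor M) := by
  induction fs using List.reverseRecOn with
  | nil =>
    rw [Ideal.ofList_nil]
    have : Subsingleton ((⊥ : Ideal A) ⊗[A] M) := by
      refine ⟨fun x y => ?_⟩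
      have h0 : ∀ z : (⊥ : Ideal A) ⊗[A] M, z = 0 := by
        intro z
        induction z using TensorProduct.induction_on with
        | zero => rfl
        | tmul a m =>
          have : a = 0 := Subsingleton.elim _ _
          rw [this, zero_tmul]
        | add x y hx hy => rw [hx, hy, add_zero]
      rw [h0 x, h0 y]
    exact Function.injective_of_subsingleton _
  | append_singleton l a ih =>
    rw [isWeaklyRegular_append_iff, isWeaklyRegular_singleton_iff] at hreg
    have := rTensor_sup_span_singleton_injective M (Ideal.ofList l) a (ih hreg.1) hreg.2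
    rw [Ideal.ofList_append, Ideal.ofList_singleton]
    exact this

end Tor

section Main

theorem flat_iff_flat_quotient_and_isWeaklyRegular {A : Type u} (B : Type v) [CommRing A]
    [CommRing B] [IsLocalRing A] [IsLocalRing B]
    [IsNoetherianRing A] [IsNoetherianRing B] [Algebra A B] [IsLocalHom (algebraMap A B)]
    (M : Type*) [AddCommGroup M] [Module B M] [Module A M] [IsScalarTower A B M]
    [Module.Finite B M] (fs : List A)
    (hfs : ∀ f ∈ fs, f ∈ maximalIdeal A) (hA : IsWeaklyRegular A fs) :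
    Module.Flat A M ↔
      Module.Flat (A ⧸ Ideal.ofList fs) (M ⧸ (Ideal.ofList fs • (⊤ : Submodule A M))) ∧
        IsWeaklyRegular M fs := by
  set J : Ideal A := Ideal.ofList fs with hJdef
  have hsurj : Function.Surjective (algebraMap A (A ⧸ J)) := Ideal.Quotient.mk_surjective
  have : IsScalarTower A (A ⧸ J) (M ⧸ (J • (⊤ : Submodule A M))) :=
    (Module.isTorsionBySet_quotient_ideal_smul M J).isScalarTower
  let e : ((A ⧸ J) ⊗[A] M) ≃ₗ[A ⧸ J] (M ⧸ (J • (⊤ : Submodule A M))) :=
    (quotTensorEquivQuotSMul M J).extendScalarsOfSurjective hsurj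
  constructor
  · intro hflat
    refine ⟨Module.Flat.of_linearEquiv e.symm, ?_⟩
    have h1 : IsWeaklyRegular (M ⊗[A] A) fs := hA.isWeaklyRegular_lTensor (M₂ := M)
    exact (LinearEquiv.isWeaklyRegular_congr (TensorProduct.rid A M) fs).mp h1
  · rintro ⟨h1, h2⟩
    have : Module.Flat (A ⧸ J) ((A ⧸ J) ⊗[A] M) := Module.Flat.of_linearEquiv e
    have hJ : J ≠ ⊤ := by
      have hle : J ≤ maximalIdeal A := by
        rw [hJdef, Ideal.ofList, Ideal.span_le]
        intro f hf
        exact hfs f hf
      exact fun h => (IsLocalRing.maximalIdeal.isMaximal A).ne_top (top_le_iff.mp (h ▸ hle))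
    exact Groth.Agent.Helper1.LocalCrit.flat_of_rTensor_injective_of_flat_quotient (S := B) J
      (Groth.Agent.Helper1.LocalCrit.map_ne_top_of_isLocalHom J hJ)
      (rTensor_ofList_injective M fs h2)

end Main

end Groth.Agent.Helper8.FlatReg
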