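import Mathlib
import Groth.Agent.Lib.Helper8.RegularLocal

/-!
# Regular local rings: quotients that are regular
-/

namespace Groth.Agent.Helper8.RLR

open IsLocalRing

universe u

variable {R : Type*} [CommRing R]

theorem exists_lift_generators_aux [IsLocalRing R] (J : Ideal R)
    [IsLocalRing (R ⧸ J)] (n : ℕ) (g : Fin n → R ⧸ J)
    (hg : Ideal.span (Set.range g) = maximalIdeal (R ⧸ J)) :
    ∃ y : Fin n → maximalIdeal R,
      maximalIdeal R = J ⊔ Ideal.span (Set.range fun j => (y j : R)) := by
  classical
  have hloc := IsLocalHom.of_surjective (Ideal.Quotient.mk J) Ideal.Quotient.mk_surjective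
  have hcomap : Ideal.comap (Ideal.Quotient.mk J) (maximalIdeal (R ⧸ J)) = maximalIdeal R :=
    IsLocalRing.maximalIdeal_comap (Ideal.Quotient.mk J)
  choose f hf using fun j => Ideal.Quotient.mk_surjective (I := J) (g j)
  have hmem : ∀ j, f j ∈ maximalIdeal R := by
    intro j
    have : (Ideal.Quotient.mk J) (f j) ∈ maximalIdeal (R ⧸ J) := by
      rw [hf, ← hg]; exact Ideal.subset_span ⟨j, rfl⟩
    have h2 : f j ∈ Ideal.comap (Ideal.Quotient.mk J) (maximalIdeal (R ⧸ J)) := this
    rwa [hcomap] at h2
  refine ⟨fun j => ⟨f j, hmem j⟩, ?_⟩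
  have h1 : Ideal.map (Ideal.Quotient.mk J) (Ideal.span (Set.range f)) =
      maximalIdeal (R ⧸ J) := by
    rw [Ideal.map_span, ← Set.range_comp]
    have : ((Ideal.Quotient.mk J) ∘ f) = g := funext hf
    rw [this, hg]
  have h3 : Ideal.comap (Ideal.Quotient.mk J) (Ideal.map (Ideal.Quotient.mk J)
      (Ideal.span (Set.range f))) = maximalIdeal R := by rw [h1, hcomap]
  rw [Ideal.comap_map_of_surjective _ Ideal.Quotient.mk_surjective,
    ← RingHom.ker_eq_comap_bot, Ideal.mk_ker, sup_comm] at h3
  exact h3.symm

/-- Lift a minimal generating family of the maximal ideal of a local quotient. -/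
theorem exists_lift_generators [IsLocalRing R] [IsNoetherianRing R] (J : Ideal R)
    [IsLocalRing (R ⧸ J)] :
    ∃ y : Fin (maximalIdeal (R ⧸ J)).spanFinrank → maximalIdeal R,
      maximalIdeal R = J ⊔ Ideal.span (Set.range fun j => (y j : R)) := by
  classical
  have hfg : (maximalIdeal (R ⧸ J)).FG := IsNoetherian.noetherian _
  obtain ⟨s, hcard, hspan⟩ := Submodule.FG.exists_span_finset_card_eq_spanFinrank hfg
  let e := s.equivFinOfCardEq hcard
  apply exists_lift_generators_aux J _ (fun j => (e.symm j : R ⧸ J))
  refine Eq.trans ?_ hspan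
  congr 1
  ext z
  constructor
  · rintro ⟨j, rfl⟩; exact (e.symm j).2
  · intro hz; exact ⟨e ⟨z, hz⟩, by simp⟩

/-- If the quotient by `card ι` elements of `m` is regular of dimension `dim R - card ι`,
then `R` is regular and the elements have independent cotangent classes. -/
theorem of_quotient_regular [IsLocalRing R] [IsNoetherianRing R] {ι : Type*} [Fintype ι]
    (x : ι → maximalIdeal R)
    [hq : IsRegularLocalRing (R ⧸ Ideal.span (Set.range fun i => (x i : R)))]
    (hd : ringKrullDim (R ⧸ Ideal.span (Set.range fun i => (x i : R))) +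
      (Fintype.card ι : ℕ) = ringKrullDim R) :
    IsRegularLocalRing R ∧
      LinearIndependent (ResidueField R) (fun i => (maximalIdeal R).toCotangent (x i)) := by
  classical
  have hqd : ((maximalIdeal (R ⧸ Ideal.span (Set.range fun i => (x i : R)))).spanFinrank :
      WithBot ℕ∞) = ringKrullDim (R ⧸ Ideal.span (Set.range fun i => (x i : R))) :=
    IsRegularLocalRing.spanFinrank_maximalIdeal
  set e := (maximalIdeal (R ⧸ Ideal.span (Set.range fun i => (x i : R)))).spanFinrank with he
  obtain ⟨y, hy⟩ : ∃ y : Fin e → maximalIdeal R, maximalIdeal R =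
      Ideal.span (Set.range fun i => (x i : R)) ⊔ Ideal.span (Set.range fun j => (y j : R)) :=
    exists_lift_generators (Ideal.span (Set.range fun i => (x i : R)))
  have hspan : Ideal.span (Set.range fun i => ((Sum.elim x y i : maximalIdeal R) : R)) =
      maximalIdeal R := by
    refine Eq.trans ?_ hy.symm
    rw [← Ideal.span_union]
    congr 1
    ext z
    simp only [Set.mem_range, Sum.exists, Sum.elim_inl, Sum.elim_inr, Set.mem_union]
  have hle : (maximalIdeal R).spanFinrank ≤ Fintype.card ι + e := by
    rw [← hspan]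
    refine (Submodule.spanFinrank_span_le_ncard_of_finite (Set.finite_range _)).trans ?_
    rw [← Set.image_univ]
    refine (Set.ncard_image_le Set.finite_univ).trans ?_
    simp [Set.ncard_univ]
  have hdim : ringKrullDim R = ((Fintype.card ι + e : ℕ) : WithBot ℕ∞) := by
    rw [← hd, ← hqd]; push_cast; rw [add_comm]
  have hreg : IsRegularLocalRing R := by
    apply IsRegularLocalRing.of_spanFinrank_maximalIdeal_le
    rw [hdim]; exact_mod_cast hle
  refine ⟨hreg, ?_⟩
  have hfr : Module.finrank (ResidueField R) (CotangentSpace R) = Fintype.card ι + e := by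
    have h1 : ((maximalIdeal R).spanFinrank : WithBot ℕ∞) = ringKrullDim R :=
      IsRegularLocalRing.spanFinrank_maximalIdeal
    rw [spanFinrank_maximalIdeal_eq_finrank_cotangentSpace, hdim] at h1
    exact_mod_cast h1
  have hli := linearIndependent_of_span_eq (Sum.elim x y) hspan (by simp [hfr])
  exact hli.comp Sum.inl Sum.inl_injective

end Groth.Agent.Helper8.RLR
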