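import Mathlib
import Groth.Agent.Lib.Helper8.RegularLocal2

/-!
# Regular local rings: ideals with regular quotient are generated by part of a
regular system of parameters.
-/

namespace Groth.Agent.Helper8.RLR

open IsLocalRing

universe u

/-- Extract `c` linearly independent members of a set from a lower bound on the dimension
of its span. -/
theorem exists_linearIndependent_of_le_finrank {K V : Type*} [Field K] [AddCommGroup V]
    [Module K V] [FiniteDimensional K V] (S : Set V) (c : ℕ)
    (hc : c ≤ Module.finrank K (Submodule.span K S)) :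
    ∃ v : Fin c → V, (∀ i, v i ∈ S) ∧ LinearIndependent K v := by
  classical
  obtain ⟨b, hbS, hspan, hli⟩ := exists_linearIndependent K S
  have hfin : b.Finite := hli.setFinite
  have : Fintype b := hfin.fintype
  have hcard : Module.finrank K (Submodule.span K S) = Fintype.card b := by
    rw [← hspan, finrank_span_set_eq_card hli, Set.toFinset_card]
  have hle : Fintype.card (Fin c) ≤ Fintype.card b := by simpa [← hcard] using hc
  obtain ⟨f⟩ := Function.Embedding.nonempty_of_card_le hle
  refine ⟨fun i => (f i : V), fun i => hbS (f i).2, ?_⟩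
  exact hli.comp f f.injective

variable {R : Type*} [CommRing R]

/-- A quotient of a finite-dimensional domain with the same dimension is the domain itself. -/
theorem eq_of_le_of_isDomain_of_dim_eq {J I : Ideal R} (hJI : J ≤ I) [IsDomain (R ⧸ J)]
    (e : ℕ) (h1 : ringKrullDim (R ⧸ J) = e) (h2 : ringKrullDim (R ⧸ I) = e) : I = J := by
  by_contra hne
  have hlt : J < I := lt_of_le_of_ne hJI (Ne.symm hne)
  obtain ⟨a, haI, haJ⟩ := Set.exists_of_ssubset hlt
  set r : R ⧸ J := Ideal.Quotient.mk J a with hr
  have hr0 : r ≠ 0 := fun h => haJ (Ideal.Quotient.eq_zero_iff_mem.mp h)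
  have hrnzd : r ∈ nonZeroDivisors (R ⧸ J) := mem_nonZeroDivisors_of_ne_zero hr0
  have hd1 := ringKrullDim_quotient_succ_le_of_nonZeroDivisor hrnzd
  have hle : Ideal.span {r} ≤ I.map (Ideal.Quotient.mk J) := by
    rw [Ideal.span_singleton_le_iff_mem]
    exact Ideal.mem_map_of_mem _ haI
  have hd2 := ringKrullDim_le_of_surjective (Ideal.Quotient.factor hle)
    (Ideal.Quotient.factor_surjective hle)
  have hd3 := ringKrullDim_eq_of_ringEquiv (DoubleQuot.quotQuotEquivQuotOfLE hJI)
  rw [hd3, h2] at hd2
  rw [h1] at hd1
  have h4 : ((e : WithBot ℕ∞) + 1) ≤ e := (add_le_add_left hd2 1).trans hd1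
  have h5 : e + 1 ≤ e := by exact_mod_cast h4
  omega

theorem fin_cast_surjective {m n : ℕ} (h : m = n) : Function.Surjective (Fin.cast h) :=
  fun j => ⟨Fin.cast h.symm j, Fin.ext rfl⟩

theorem range_append {α : Type*} {m n : ℕ} (a : Fin m → α) (b : Fin n → α) :
    Set.range (Fin.append a b) = Set.range a ∪ Set.range b := by
  ext z
  constructor
  · rintro ⟨i, rfl⟩
    refine Fin.addCases (fun j => ?_) (fun j => ?_) i
    · left; exact ⟨j, by rw [Fin.append_left]⟩
    · right; exact ⟨j, by rw [Fin.append_right]⟩
  · rintro (⟨j, rfl⟩ | ⟨j, rfl⟩)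
    · exact ⟨Fin.castAdd n j, Fin.append_left a b j⟩
    · exact ⟨Fin.natAdd m j, Fin.append_right a b j⟩

/-- An ideal of a regular local ring with regular quotient is generated by part of a regular
system of parameters. -/
theorem exists_generators_of_quotient_regular (R : Type u) [CommRing R] [IsRegularLocalRing R]
    (d : ℕ) (hd : ringKrullDim R = d) (I : Ideal R) [IsRegularLocalRing (R ⧸ I)] :
    ∃ (x : Fin d → R) (c : ℕ) (hc : c ≤ d), Ideal.span (Set.range x) = maximalIdeal R ∧
      I = Ideal.span (Set.range (fun i : Fin c => x (Fin.castLE hc i))) := by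
  classical
  have hI : I ≤ maximalIdeal R := by
    apply IsLocalRing.le_maximalIdeal
    intro h
    have hnt : Nontrivial (R ⧸ I) := inferInstance
    exact Ideal.Quotient.nontrivial_iff.mp hnt h
  have hfr : Module.finrank (ResidueField R) (CotangentSpace R) = d := by
    have h1 : ((maximalIdeal R).spanFinrank : WithBot ℕ∞) = ringKrullDim R :=
      IsRegularLocalRing.spanFinrank_maximalIdeal
    rw [spanFinrank_maximalIdeal_eq_finrank_cotangentSpace, hd] at h1
    exact_mod_cast h1
  have hqd : ((maximalIdeal (R ⧸ I)).spanFinrank : WithBot ℕ∞) = ringKrullDim (R ⧸ I) :=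
    IsRegularLocalRing.spanFinrank_maximalIdeal
  set e := (maximalIdeal (R ⧸ I)).spanFinrank with he
  obtain ⟨y, hy⟩ : ∃ y : Fin e → maximalIdeal R, maximalIdeal R =
      I ⊔ Ideal.span (Set.range fun j => (y j : R)) := exists_lift_generators I
  have hed : e ≤ d := by
    have := ringKrullDim_quotient_le I
    rw [← hqd, hd] at this
    exact_mod_cast this
  set S : Set (CotangentSpace R) :=
    (maximalIdeal R).toCotangent '' {z : maximalIdeal R | (z : R) ∈ I} with hS
  have hym : Ideal.span (Set.range fun j => (y j : R)) ≤ maximalIdeal R := by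
    rw [Ideal.span_le]; rintro _ ⟨j, rfl⟩; exact (y j).2
  have key : ∀ b ∈ Ideal.span (Set.range fun j => (y j : R)), ∀ h : b ∈ maximalIdeal R,
      (maximalIdeal R).toCotangent ⟨b, h⟩ ∈ Submodule.span (ResidueField R)
        (Set.range fun j => (maximalIdeal R).toCotangent (y j)) := by
    intro b hb
    induction hb using Submodule.span_induction with
    | mem b hb =>
      obtain ⟨j, rfl⟩ := hb
      intro h
      exact Submodule.subset_span ⟨j, rfl⟩
    | zero =>
      intro h
      have : (⟨0, h⟩ : maximalIdeal R) = 0 := rfl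
      rw [this, map_zero]
      exact Submodule.zero_mem _
    | add b1 b2 hb1 hb2 ih1 ih2 =>
      intro h
      have h1 := hym hb1
      have h2 := hym hb2
      have : (⟨b1 + b2, h⟩ : maximalIdeal R) = ⟨b1, h1⟩ + ⟨b2, h2⟩ := rfl
      rw [this, map_add]
      exact Submodule.add_mem _ (ih1 h1) (ih2 h2)
    | smul r b hb ih =>
      intro h
      have h1 := hym hb
      have : (⟨r • b, h⟩ : maximalIdeal R) = r • ⟨b, h1⟩ := rfl
      rw [this, map_smul, ← algebraMap_smul (ResidueField R) r]
      exact Submodule.smul_mem _ _ (ih h1)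
  have hsup : Submodule.span (ResidueField R) S ⊔ Submodule.span (ResidueField R)
      (Set.range fun j => (maximalIdeal R).toCotangent (y j)) = ⊤ := by
    rw [eq_top_iff]
    intro v _
    obtain ⟨z, rfl⟩ := (maximalIdeal R).toCotangent_surjective v
    have hz : (z : R) ∈ I ⊔ Ideal.span (Set.range fun j => (y j : R)) := hy ▸ z.2
    obtain ⟨a, ha, b, hb, hab⟩ := Submodule.mem_sup.mp hz
    have ham : a ∈ maximalIdeal R := hI ha
    have hbm : b ∈ maximalIdeal R := hym hb
    have hz' : z = ⟨a, ham⟩ + ⟨b, hbm⟩ := Subtype.ext hab.symm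
    rw [hz', map_add]
    apply Submodule.add_mem_sup
    · exact Submodule.subset_span ⟨⟨a, ham⟩, ha, rfl⟩
    · exact key b hb hbm
  have hdle : d ≤ Module.finrank (ResidueField R) (Submodule.span (ResidueField R) S) + e := by
    have h1 := Submodule.finrank_add_le_finrank_add_finrank
      (Submodule.span (ResidueField R) S) (Submodule.span (ResidueField R)
      (Set.range fun j => (maximalIdeal R).toCotangent (y j)))
    rw [hsup, finrank_top, hfr] at h1
    have h2 : Module.finrank (ResidueField R) (Submodule.span (ResidueField R)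
      (Set.range fun j => (maximalIdeal R).toCotangent (y j))) ≤ e := by
      refine (finrank_range_le_card _).trans ?_
      simp
    exact h1.trans (Nat.add_le_add_left h2 _)
  obtain ⟨v, hvS, hvli⟩ := exists_linearIndependent_of_le_finrank S (d - e)
    (Nat.sub_le_iff_le_add.mpr hdle)
  choose x hxI hxv using hvS
  have hli : LinearIndependent (ResidueField R)
      (fun i => (maximalIdeal R).toCotangent (x i)) := by
    have : (fun i => (maximalIdeal R).toCotangent (x i)) = v := funext hxv
    rw [this]; exact hvli
  obtain ⟨hregJ, hdJ⟩ := quotient_of_linearIndependent x hli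
  set J := Ideal.span (Set.range fun i => (x i : R)) with hJ
  have hJI : J ≤ I := by
    rw [hJ, Ideal.span_le]; rintro _ ⟨i, rfl⟩; exact hxI i
  have hdimJ : ringKrullDim (R ⧸ J) = (e : WithBot ℕ∞) := by
    obtain ⟨e', he', -⟩ := exists_nat_eq
      (ringKrullDim_nonneg_of_nontrivial (R := R ⧸ J))
      (ringKrullDim_le_spanFinrank_maximalIdeal (R ⧸ J))
    rw [he', hd] at hdJ
    rw [he']
    have h1 : e' + (d - e) = d := by
      have := hdJ
      simp only [Fintype.card_fin] at this
      exact_mod_cast this
    have : e' = e := by omega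
    rw [this]
  have hdom : IsDomain (R ⧸ J) := isDomain (R ⧸ J)
  have hIJ : I = J := eq_of_le_of_isDomain_of_dim_eq hJI e hdimJ hqd.symm
  obtain ⟨y', hy'⟩ := exists_extension x hli
  have hn : Module.finrank (ResidueField R) (CotangentSpace R) - Fintype.card (Fin (d - e)) =
      d - (d - e) := by rw [hfr, Fintype.card_fin]
  have hsum : d = (d - e) + (d - (d - e)) := by omega
  refine ⟨fun i => Fin.append (fun i => (x i : R)) (fun j => (y' (Fin.cast hn.symm j) : R))
    (Fin.cast hsum i), d - e, Nat.sub_le d e, ?_, ?_⟩
  · have hr : Set.range (fun i => Fin.append (fun i => (x i : R))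
        (fun j => (y' (Fin.cast hn.symm j) : R)) (Fin.cast hsum i)) =
        Set.range (fun i => (x i : R)) ∪ Set.range (fun j => (y' j : R)) := by
      have h1 : (fun i => Fin.append (fun i => (x i : R))
          (fun j => (y' (Fin.cast hn.symm j) : R)) (Fin.cast hsum i)) =
          Fin.append (fun i => (x i : R)) (fun j => (y' (Fin.cast hn.symm j) : R)) ∘
            (Fin.cast hsum) := rfl
      rw [h1, Set.range_comp, (fin_cast_surjective hsum).range_eq, Set.image_univ, range_append]
      congr 1
      have h2 : (fun j => (y' (Fin.cast hn.symm j) : R)) =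
          (fun j => (y' j : R)) ∘ Fin.cast hn.symm := rfl
      rw [h2, Set.range_comp, (fin_cast_surjective hn.symm).range_eq, Set.image_univ]
    rw [hr]; exact hy'
  · rw [hIJ, hJ]
    congr 2
    funext i
    have : Fin.cast hsum (Fin.castLE (Nat.sub_le d e) i) = Fin.castAdd _ i := Fin.ext rfl
    dsimp only
    rw [this, Fin.append_left]

end Groth.Agent.Helper8.RLR
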