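import Mathlib
import Groth.Agent.Lib.Helper8.RegularLocal3

/-!
# Regular local rings: number of generators of an ideal with regular quotient
-/

namespace Groth.Agent.Helper8.RLR

open IsLocalRing

universe u

/-- An ideal of a regular local ring with regular quotient needs at most
`dim R - dim R/I` generators. -/
theorem spanFinrank_add_dim_quotient_le (R : Type u) [CommRing R] [IsRegularLocalRing R]
    (n a : ℕ) (hn : ringKrullDim R = n) (I : Ideal R) [IsRegularLocalRing (R ⧸ I)]
    (ha : ringKrullDim (R ⧸ I) = a) : I.spanFinrank + a ≤ n := by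
  classical
  obtain ⟨x, c, hc, hxm, hxI⟩ := exists_generators_of_quotient_regular R n hn I
  have hmem : ∀ i, x i ∈ maximalIdeal R := fun i => hxm ▸ Ideal.subset_span ⟨i, rfl⟩
  have hfr : Module.finrank (ResidueField R) (CotangentSpace R) = n := by
    have h1 : ((maximalIdeal R).spanFinrank : WithBot ℕ∞) = ringKrullDim R :=
      IsRegularLocalRing.spanFinrank_maximalIdeal
    rw [spanFinrank_maximalIdeal_eq_finrank_cotangentSpace, hn] at h1
    exact_mod_cast h1
  have hli := linearIndependent_of_span_eq
    (fun i => (⟨x i, hmem i⟩ : maximalIdeal R)) hxm (by simp [hfr])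
  have hli' := hli.comp (Fin.castLE hc) (Fin.castLE_injective hc)
  obtain ⟨-, hd⟩ := quotient_of_linearIndependent
    (fun i : Fin c => (⟨x (Fin.castLE hc i), hmem _⟩ : maximalIdeal R)) hli'
  have hI' : Ideal.span (Set.range fun i : Fin c =>
      ((⟨x (Fin.castLE hc i), hmem _⟩ : maximalIdeal R) : R)) = I := hxI.symm
  rw [hI', ha, hn] at hd
  have hac : a + c = n := by
    simp only [Fintype.card_fin] at hd
    exact_mod_cast hd
  have hs : I.spanFinrank ≤ c := by
    rw [hxI]
    refine (Submodule.spanFinrank_span_le_ncard_of_finite (Set.finite_range _)).trans ?_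
    rw [← Set.image_univ]
    refine (Set.ncard_image_le Set.finite_univ).trans ?_
    simp [Set.ncard_univ]
  omega

theorem spanFinrank_sup_le {A M : Type*} [Semiring A] [AddCommMonoid M] [Module A M]
    {p q : Submodule A M} (hp : p.FG) (hq : q.FG) :
    (p ⊔ q).spanFinrank ≤ p.spanFinrank + q.spanFinrank := by
  have h1 : p ⊔ q = Submodule.span A (p.generators ∪ q.generators) := by
    rw [Submodule.span_union, Submodule.span_generators, Submodule.span_generators]
  rw [h1]
  refine (Submodule.spanFinrank_span_le_ncard_of_finite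
    (hp.finite_generators.union hq.finite_generators)).trans ?_
  refine (Set.ncard_union_le _ _).trans ?_
  rw [hp.generators_ncard, hq.generators_ncard]

/-- Transversal intersection in a regular local ring. -/
theorem quotient_sup_of_transversal {R : Type u} [CommRing R] [IsRegularLocalRing R]
    (I J : Ideal R) [IsRegularLocalRing (R ⧸ I)] [IsRegularLocalRing (R ⧸ J)]
    [IsLocalRing (R ⧸ (I ⊔ J))]
    (n a b : ℕ) (hn : ringKrullDim R = n) (ha : ringKrullDim (R ⧸ I) = a)
    (hb : ringKrullDim (R ⧸ J) = b)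
    (ht : Module.finrank (IsLocalRing.ResidueField (R ⧸ (I ⊔ J)))
      (IsLocalRing.CotangentSpace (R ⧸ (I ⊔ J))) + n = a + b) :
    IsRegularLocalRing (R ⧸ (I ⊔ J)) ∧
      ringKrullDim (R ⧸ (I ⊔ J)) = ((a + b - n : ℕ) : WithBot ℕ∞) := by
  classical
  have hI := spanFinrank_add_dim_quotient_le R n a hn I ha
  have hJ := spanFinrank_add_dim_quotient_le R n b hn J hb
  have hsup : (I ⊔ J).spanFinrank ≤ I.spanFinrank + J.spanFinrank :=
    spanFinrank_sup_le (IsNoetherian.noetherian _) (IsNoetherian.noetherian _)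
  have hle : I ⊔ J ≤ maximalIdeal R := by
    apply IsLocalRing.le_maximalIdeal
    intro h
    have hnt : Nontrivial (R ⧸ (I ⊔ J)) := inferInstance
    exact Ideal.Quotient.nontrivial_iff.mp hnt h
  have h1 := ringKrullDim_le_ringKrullDim_quotient_add_spanFinrank (I ⊔ J)
    (by rw [IsLocalRing.ringJacobson_eq_maximalIdeal]; exact hle)
  have h2 := ringKrullDim_le_spanFinrank_maximalIdeal (R ⧸ (I ⊔ J))
  obtain ⟨e, he, hes⟩ := exists_nat_eq
    (ringKrullDim_nonneg_of_nontrivial (R := R ⧸ (I ⊔ J))) h2
  rw [spanFinrank_maximalIdeal_eq_finrank_cotangentSpace] at hes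
  rw [he, hn] at h1
  have h3 : n ≤ e + (I ⊔ J).spanFinrank := by exact_mod_cast h1
  have h4 : e = Module.finrank (IsLocalRing.ResidueField (R ⧸ (I ⊔ J)))
      (IsLocalRing.CotangentSpace (R ⧸ (I ⊔ J))) := by omega
  refine ⟨?_, ?_⟩
  · apply IsRegularLocalRing.of_spanFinrank_maximalIdeal_le
    rw [he, spanFinrank_maximalIdeal_eq_finrank_cotangentSpace, h4]
  · rw [he]
    have : e = a + b - n := by omega
    rw [this]

end Groth.Agent.Helper8.RLR
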