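import Mathlib
import Groth.Agent.Lib.Helper8.RegularLocal4

/-!
# Regular local rings: ideals generated by regular sequences
-/

namespace Groth.Agent.Helper8.RLR

open IsLocalRing RingTheory.Sequence

universe u

theorem isWeaklyRegular_take {R M : Type*} [CommRing R] [AddCommGroup M] [Module R M]
    (rs : List R) (h : IsWeaklyRegular M rs) (c : ℕ) : IsWeaklyRegular M (rs.take c) := by
  have h1 := List.take_append_drop c rs
  rw [← h1] at h
  exact ((isWeaklyRegular_append_iff M _ _).mp h).1

theorem ofFn_castLE_eq_take {α : Type*} {c d : ℕ} (hc : c ≤ d) (x : Fin d → α) :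
    List.ofFn (fun i : Fin c => x (Fin.castLE hc i)) = (List.ofFn x).take c := by
  apply List.ext_getElem
  · simp [hc]
  · intro i h1 h2
    simp

theorem ofList_ofFn {R : Type*} [CommSemiring R] {c : ℕ} (f : Fin c → R) :
    Ideal.ofList (List.ofFn f) = Ideal.span (Set.range f) := by
  unfold Ideal.ofList
  congr 1
  ext z
  simp [List.mem_ofFn]

/-- The first `c` members of a regular system of parameters form a regular sequence. -/
theorem isRegular_castLE (R : Type u) [CommRing R] [IsRegularLocalRing R] (d : ℕ)
    (hd : ringKrullDim R = d) (x : Fin d → R)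
    (hx : Ideal.span (Set.range x) = maximalIdeal R) (c : ℕ) (hc : c ≤ d) :
    IsRegular R (List.ofFn (fun i : Fin c => x (Fin.castLE hc i))) := by
  have hfull := isRegular_of_span_eq R d hd x hx
  have hmem : ∀ i, x i ∈ maximalIdeal R := fun i => hx ▸ Ideal.subset_span ⟨i, rfl⟩
  apply IsRegular.of_isWeaklyRegular_of_mem_maximalIdeal
  · intro r hr
    obtain ⟨i, rfl⟩ := (List.mem_ofFn' _ _).mp hr
    exact hmem _
  · rw [ofFn_castLE_eq_take]
    exact isWeaklyRegular_take _ hfull.toIsWeaklyRegular c

theorem spanFinrank_ofList_le {R : Type*} [CommRing R] (rs : List R) :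
    (Ideal.ofList rs).spanFinrank ≤ rs.length := by
  classical
  have h1 : {r | r ∈ rs} = (rs.toFinset : Set R) := by ext; simp
  unfold Ideal.ofList
  rw [h1]
  refine (Submodule.spanFinrank_span_le_ncard_of_finite (Finset.finite_toSet _)).trans ?_
  rw [Set.ncard_coe_finset]
  exact List.toFinset_card_le rs

/-- A Noetherian local ring with a regular quotient by an ideal `J` is regular iff `J` is
generated by a regular sequence. -/
theorem isRegularLocalRing_iff_of_quotient (A : Type u) [CommRing A] [IsNoetherianRing A]
    [IsLocalRing A] (J : Ideal A) [IsRegularLocalRing (A ⧸ J)] :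
    IsRegularLocalRing A ↔
      ∃ rs : List A, RingTheory.Sequence.IsRegular A rs ∧ Ideal.ofList rs = J := by
  classical
  constructor
  · intro hA
    obtain ⟨d, hd, -⟩ := exists_nat_eq
      (ringKrullDim_nonneg_of_nontrivial (R := A)) (ringKrullDim_le_spanFinrank_maximalIdeal A)
    obtain ⟨x, c, hc, hxm, hxJ⟩ := exists_generators_of_quotient_regular A d hd J
    refine ⟨_, isRegular_castLE A d hd x hxm c hc, ?_⟩
    rw [ofList_ofFn, hxJ]
  · rintro ⟨rs, hreg, rfl⟩
    have hdim := ringKrullDim_add_length_eq_ringKrullDim_of_isRegular rs hreg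
    have hqd : ((maximalIdeal (A ⧸ Ideal.ofList rs)).spanFinrank : WithBot ℕ∞) =
        ringKrullDim (A ⧸ Ideal.ofList rs) := IsRegularLocalRing.spanFinrank_maximalIdeal
    set e := (maximalIdeal (A ⧸ Ideal.ofList rs)).spanFinrank with he
    obtain ⟨y, hy⟩ : ∃ y : Fin e → maximalIdeal A, maximalIdeal A =
        Ideal.ofList rs ⊔ Ideal.span (Set.range fun j => (y j : A)) :=
      exists_lift_generators (Ideal.ofList rs)
    apply IsRegularLocalRing.of_spanFinrank_maximalIdeal_le
    rw [← hdim, ← hqd]
    have h1 : (maximalIdeal A).spanFinrank ≤ e + rs.length := by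
      rw [hy]
      refine (spanFinrank_sup_le (IsNoetherian.noetherian _) (IsNoetherian.noetherian _)).trans ?_
      have h2 := spanFinrank_ofList_le rs
      have h3 : (Ideal.span (Set.range fun j => (y j : A))).spanFinrank ≤ e := by
        refine (Submodule.spanFinrank_span_le_ncard_of_finite (Set.finite_range _)).trans ?_
        rw [← Set.image_univ]
        refine (Set.ncard_image_le Set.finite_univ).trans ?_
        simp [Set.ncard_univ]
      omega
    exact_mod_cast h1

end Groth.Agent.Helper8.RLR
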