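import Mathlib
import Groth.Prelude
import Groth.Agent.Lib.Helper8.FlatReg4
import Groth.Agent.Lib.Helper8.IntegralDim
import Groth.Agent.Lib.Helper8.RegularLocal5
import Groth.Agent.Lib.Helper8.Depth9

/-!
# Finite local algebras over a regular local ring: free iff Cohen–Macaulay and injective
-/

set_option autoImplicit false
universe u v

namespace Groth.Agent.Helper8.FlatReg

open RingTheory.Sequence Pointwise IsLocalRing TensorProduct LocCoh
open Groth.Agent.Helper8.Depth

/-- A regular local ring has a regular sequence generating the maximal ideal, of length `dim`. -/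
theorem exists_regular_generators (A : Type u) [CommRing A] [IsRegularLocalRing A] :
    ∃ xs : List A, Ideal.ofList xs = maximalIdeal A ∧ ringKrullDim A = (xs.length : WithBot ℕ∞) ∧
      IsWeaklyRegular A xs := by
  classical
  have hfg : (maximalIdeal A).FG := (isNoetherianRing_iff_ideal_fg A).mp inferInstance _
  obtain ⟨s, hscard, hsspan⟩ := Submodule.FG.exists_span_finset_card_eq_spanFinrank hfg
  have h1 : ((maximalIdeal A).spanFinrank : WithBot ℕ∞) = ringKrullDim A :=
    IsRegularLocalRing.spanFinrank_maximalIdeal
  set d := s.card with hd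
  have hdim : ringKrullDim A = (d : WithBot ℕ∞) := by
    rw [← h1, ← hscard]
  let e : s ≃ Fin d := s.equivFin
  let x : Fin d → A := fun i => (e.symm i : A)
  have hrange : Set.range x = (s : Set A) := by
    ext z
    constructor
    · rintro ⟨i, rfl⟩
      exact (e.symm i).2
    · intro hz
      exact ⟨e ⟨z, hz⟩, by simp [x]⟩
  have hx : Ideal.span (Set.range x) = maximalIdeal A := by
    rw [hrange]; exact hsspan
  refine ⟨List.ofFn x, ?_, ?_, ?_⟩
  · rw [RLR.ofList_ofFn, hx]
  · rw [List.length_ofFn]; exact hdim
  · exact (RLR.isRegular_of_span_eq A d hdim x hx).toIsWeaklyRegular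

/-- A regular local ring is Cohen–Macaulay. -/
theorem isCohenMacaulayLocalRing_of_isRegularLocalRing (A : Type u) [CommRing A]
    [IsRegularLocalRing A] : IsCohenMacaulayLocalRing A := by
  obtain ⟨xs, hxs, hdim, hreg⟩ := exists_regular_generators A
  refine ⟨?_⟩
  rw [Module.supportDim_self_eq_ringKrullDim]
  apply le_antisymm
  · rw [hdim]
    have hmem : ∀ r ∈ xs, r ∈ maximalIdeal A := by
      intro r hr
      rw [← hxs]
      exact Ideal.subset_span hr
    have := length_le_idealDepth hreg hmem
    exact_mod_cast WithBot.coe_le_coe.mpr this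
  · rw [← Module.supportDim_self_eq_ringKrullDim]
    exact depth_le_supportDim

theorem free_iff_isCohenMacaulay_and_injective (A B : Type u) [CommRing A] [CommRing B]
    [IsRegularLocalRing A] [IsLocalRing B] [Algebra A B] [IsLocalHom (algebraMap A B)]
    [Module.Finite A B] :
    Module.Free A B ↔ IsCohenMacaulayLocalRing B ∧ Function.Injective (algebraMap A B) := by
  have hBnoeth : IsNoetherianRing B := IsNoetherianRing.of_finite A B
  have hint : Algebra.IsIntegral A B := Algebra.IsIntegral.of_finite A B
  obtain ⟨xs, hxs, hdim, hreg⟩ := exists_regular_generators A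
  have hmem : ∀ r ∈ xs, r ∈ maximalIdeal A := by
    intro r hr
    rw [← hxs]
    exact Ideal.subset_span hr
  constructor
  · intro hfree
    have hinj : Function.Injective (algebraMap A B) := FaithfulSMul.algebraMap_injective A B
    have := isCohenMacaulayLocalRing_of_isRegularLocalRing A
    exact ⟨(cm_of_flat_of_dim_le A B (Or.inl inferInstance)).1, hinj⟩
  · rintro ⟨hCM, hinj⟩
    -- dimensions agree
    have hdimB : ringKrullDim B = ringKrullDim A := by
      rw [ringKrullDim_eq_quotient_ker_of_isIntegral A B,
        (RingHom.injective_iff_ker_eq_bot _).mp hinj]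
      exact ringKrullDim_eq_of_ringEquiv (RingEquiv.quotientBot A)
    set xs' : List B := xs.map (algebraMap A B) with hxs'
    have hmem' : ∀ r ∈ xs', r ∈ maximalIdeal B := by
      intro r hr
      obtain ⟨r0, hr0, rfl⟩ := List.mem_map.mp hr
      have hx := hmem r0 hr0
      rw [mem_maximalIdeal, mem_nonunits_iff] at hx ⊢
      exact fun h => hx (IsLocalHom.map_nonunit r0 h)
    -- the quotient `B / m_A B` has dimension zero
    set I : Ideal B := (maximalIdeal A).map (algebraMap A B) with hI
    have hIeq : Ideal.ofList xs' = I := by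
      rw [hxs', ← Ideal.map_ofList, hxs]
    have hIle : I ≤ maximalIdeal B := by
      rw [← hIeq]
      exact Ideal.span_le.mpr hmem'
    have hIne : I ≠ ⊤ := fun h => (maximalIdeal.isMaximal B).ne_top (top_le_iff.mp (h ▸ hIle))
    have hq0 : ringKrullDim (B ⧸ I) = 0 := by
      have hint' : Algebra.IsIntegral A (B ⧸ I) := Algebra.IsIntegral.of_finite A (B ⧸ I)
      rw [ringKrullDim_eq_quotient_ker_of_isIntegral A (B ⧸ I)]
      have hker : RingHom.ker (algebraMap A (B ⧸ I)) = maximalIdeal A := by
        have hne : RingHom.ker (algebraMap A (B ⧸ I)) ≠ ⊤ := by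
          have : Nontrivial (B ⧸ I) := Ideal.Quotient.nontrivial_iff.mpr hIne
          exact RingHom.ker_ne_top _
        refine (IsLocalRing.eq_maximalIdeal ?_)
        refine (maximalIdeal.isMaximal A).eq_of_le hne ?_ ▸ maximalIdeal.isMaximal A
        intro a ha
        rw [RingHom.mem_ker, IsScalarTower.algebraMap_apply A B (B ⧸ I)]
        exact Ideal.Quotient.eq_zero_iff_mem.mpr (Ideal.mem_map_of_mem _ ha)
      rw [hker]
      exact ringKrullDim_eq_zero_of_isField
        ((Ideal.Quotient.maximal_ideal_iff_isField_quotient _).mp (maximalIdeal.isMaximal A))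
    have hq : Module.supportDim B (B ⧸ (Ideal.ofList xs' • (⊤ : Submodule B B))) = 0 := by
      have h2 : Ideal.ofList xs' • (⊤ : Submodule B B) = I := by
        rw [hIeq, smul_eq_mul, Ideal.mul_top]
      rw [Module.supportDim_eq_of_equiv (Submodule.quotEquivOfEq _ _ h2),
        Module.supportDim_quotient_eq_ringKrullDim, hq0]
    have hCMmod : IsCohenMacaulayModule B B := IsCohenMacaulayLocalRing.supportDim_eq_depth
    have hregB : IsWeaklyRegular B xs' := by
      refine ((cm_list xs' hmem' B hCMmod).1).mpr ?_
      rw [hq, zero_add, Module.supportDim_self_eq_ringKrullDim, hdimB, hdim, hxs',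
        List.length_map]
    have hregA : IsWeaklyRegular B xs :=
      (isWeaklyRegular_map_algebraMap_iff B B xs).mp hregB
    -- flatness
    have hflat : Module.Flat A B := by
      have hloc : IsLocalHom (algebraMap A A) := by
        rw [Algebra.algebraMap_self]
        infer_instance
      refine (flat_iff_flat_quotient_and_isWeaklyRegular (A := A) A B xs hmem hreg).mpr
        ⟨?_, hregA⟩
      have hmax : (Ideal.ofList xs).IsMaximal := hxs ▸ maximalIdeal.isMaximal A
      letI := Ideal.Quotient.field (Ideal.ofList xs)
      infer_instance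
    exact Module.free_of_flat_of_isLocalRing

end Groth.Agent.Helper8.FlatReg
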