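import Mathlib
import Groth.Prelude
import Groth.Agent.Lib.Helper8.FlatReg5

/-!
# Miracle flatness
-/

set_option autoImplicit false
universe u v

namespace Groth.Agent.Helper8.FlatReg

open RingTheory.Sequence Pointwise IsLocalRing TensorProduct LocCoh
open Groth.Agent.Helper8.Depth

/-- Miracle flatness for modules: a Cohen–Macaulay module over `B` whose dimension is
`dim A + dim M / m_A M`, with `A` regular, is flat over `A`. -/
theorem flat_of_isCohenMacaulayModule_of_supportDim_eq (A B : Type u) [CommRing A] [CommRing B]
    [IsRegularLocalRing A] [IsNoetherianRing B] [IsLocalRing B] [Algebra A B]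
    [IsLocalHom (algebraMap A B)] (M : Type u) [AddCommGroup M] [Module B M] [Module A M]
    [IsScalarTower A B M] [Module.Finite B M] (hCM : IsCohenMacaulayModule B M)
    (hdim : Module.supportDim B M = ringKrullDim A +
      Module.supportDim B (M ⧸ ((maximalIdeal A).map (algebraMap A B) • (⊤ : Submodule B M)))) :
    Module.Flat A M := by
  obtain ⟨xs, hxs, hdimA, hreg⟩ := exists_regular_generators A
  have hmem : ∀ r ∈ xs, r ∈ maximalIdeal A := by
    intro r hr
    rw [← hxs]
    exact Ideal.subset_span hr
  set xs' : List B := xs.map (algebraMap A B) with hxs'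
  have hmem' : ∀ r ∈ xs', r ∈ maximalIdeal B := by
    intro r hr
    obtain ⟨r0, hr0, rfl⟩ := List.mem_map.mp hr
    have hx := hmem r0 hr0
    rw [mem_maximalIdeal, mem_nonunits_iff] at hx ⊢
    exact fun h => hx (IsLocalHom.map_nonunit r0 h)
  have hIeq : Ideal.ofList xs' = (maximalIdeal A).map (algebraMap A B) := by
    rw [hxs', ← Ideal.map_ofList, hxs]
  have hregB : IsWeaklyRegular M xs' := by
    refine ((cm_list xs' hmem' M hCM).1).mpr ?_
    rw [hIeq, hdim, hdimA, hxs', List.length_map, add_comm]
  have hregA : IsWeaklyRegular M xs := (isWeaklyRegular_map_algebraMap_iff B M xs).mp hregB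
  refine (flat_iff_flat_quotient_and_isWeaklyRegular (A := A) B M xs hmem hreg).mpr ⟨?_, hregA⟩
  have hmax : (Ideal.ofList xs).IsMaximal := hxs ▸ maximalIdeal.isMaximal A
  letI := Ideal.Quotient.field (Ideal.ofList xs)
  infer_instance

/-- Miracle flatness. -/
theorem miracle_flatness {R S : Type u} [CommRing R] [CommRing S] [IsRegularLocalRing R]
    [IsCohenMacaulayLocalRing S] [Algebra R S] [IsLocalHom (algebraMap R S)]
    (hdim : ringKrullDim S = ringKrullDim R +
      ringKrullDim (S ⧸ (maximalIdeal R).map (algebraMap R S))) :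
    Module.Flat R S := by
  refine flat_of_isCohenMacaulayModule_of_supportDim_eq R S S
    IsCohenMacaulayLocalRing.supportDim_eq_depth ?_
  have h2 : (maximalIdeal R).map (algebraMap R S) • (⊤ : Submodule S S) =
      (maximalIdeal R).map (algebraMap R S) := by
    rw [smul_eq_mul, Ideal.mul_top]
  rw [Module.supportDim_self_eq_ringKrullDim,
    Module.supportDim_eq_of_equiv (Submodule.quotEquivOfEq _ _ h2),
    Module.supportDim_quotient_eq_ringKrullDim]
  exact hdim

end Groth.Agent.Helper8.FlatReg
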