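import Mathlib

/-!
# Powers of a regular sequence form a regular sequence
-/

set_option autoImplicit false
universe u v

namespace Groth.Agent.Helper8.RegPow

open RingTheory.Sequence Pointwise Function

section
variable {A : Type u} [CommRing A]

/-- Weak regularity passes to the middle term of a short exact sequence. -/
theorem isWeaklyRegular_of_exact (rs : List A) :
    ∀ (M' M M'' : Type v) [AddCommGroup M'] [Module A M'] [AddCommGroup M] [Module A M]
      [AddCommGroup M''] [Module A M''] (f : M' →ₗ[A] M) (g : M →ₗ[A] M'')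
      (_ : Injective f) (_ : Exact f g) (_ : Surjective g)
      (_ : IsWeaklyRegular M' rs) (_ : IsWeaklyRegular M'' rs), IsWeaklyRegular M rs := by
  induction rs with
  | nil =>
    intro M' M M'' _ _ _ _ _ _ f g _ _ _ _ _
    exact IsWeaklyRegular.nil A M
  | cons r rs ih =>
    intro M' M M'' _ _ _ _ _ _ f g hf hfg hg h1 h2
    rw [isWeaklyRegular_cons_iff] at h1 h2 ⊢
    refine ⟨isSMulRegular_of_range_eq_ker hf hfg.linearMap_ker_eq.symm h1.1 h2.1, ?_⟩
    have hex0 : Exact (0 : PUnit.{v+1} →ₗ[A] M') f := by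
      intro x
      constructor
      · intro hx
        exact ⟨0, by rw [LinearMap.zero_apply]; exact (hf (by rw [hx, map_zero])).symm⟩
      · rintro ⟨y, rfl⟩
        simp
    have hex1 := QuotSMulTop.map_first_exact_on_four_term_exact_of_isSMulRegular_last
      hex0 hfg h2.1
    have hinj : Injective (QuotSMulTop.map r f) := by
      rw [injective_iff_map_eq_zero]
      intro x hx
      obtain ⟨y, rfl⟩ := (hex1 x).mp hx
      rw [map_zero, LinearMap.zero_apply]
    exact ih (QuotSMulTop r M') (QuotSMulTop r M) (QuotSMulTop r M'') (QuotSMulTop.map r f)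
      (QuotSMulTop.map r g) hinj (QuotSMulTop.map_exact r hfg hg)
      (QuotSMulTop.map_surjective r hg) h1.2 h2.2

variable (M : Type v) [AddCommGroup M] [Module A M]

/-- If `f` is `M`-regular and `rs` is weakly regular on `M/fM` then `rs` is weakly regular on
`M / f^v M` for `v ≥ 1`. -/
theorem isWeaklyRegular_quotSMulTop_pow (f : A) (hf : IsSMulRegular M f) (rs : List A)
    (hrs : IsWeaklyRegular (QuotSMulTop f M) rs) (v : ℕ) (hv : 1 ≤ v) :
    IsWeaklyRegular (QuotSMulTop (f ^ v) M) rs := by
  induction v, hv using Nat.le_induction with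
  | base => rw [pow_one]; exact hrs
  | succ v hv ih =>
    -- `0 → M/f^v M → M/f^(v+1) M → M/fM → 0`
    have hle1 : (f ^ v • (⊤ : Submodule A M)) ≤
        (f ^ (v + 1) • (⊤ : Submodule A M)).comap (LinearMap.lsmul A M f) := by
      intro x hx
      obtain ⟨y, -, rfl⟩ := (Submodule.mem_smul_pointwise_iff_exists _ _ _).mp hx
      rw [Submodule.mem_comap, LinearMap.lsmul_apply, smul_smul, ← pow_succ']
      exact Submodule.smul_mem_pointwise_smul y _ _ Submodule.mem_top
    have hle2 : (f ^ (v + 1) • (⊤ : Submodule A M)) ≤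
        (f • (⊤ : Submodule A M)).comap (LinearMap.id : M →ₗ[A] M) := by
      intro x hx
      obtain ⟨y, -, rfl⟩ := (Submodule.mem_smul_pointwise_iff_exists _ _ _).mp hx
      rw [Submodule.mem_comap, LinearMap.id_apply, pow_succ', mul_smul]
      exact Submodule.smul_mem_pointwise_smul _ _ _ Submodule.mem_top
    let φ : QuotSMulTop (f ^ v) M →ₗ[A] QuotSMulTop (f ^ (v + 1)) M :=
      Submodule.mapQ _ _ (LinearMap.lsmul A M f) hle1
    let ψ : QuotSMulTop (f ^ (v + 1)) M →ₗ[A] QuotSMulTop f M :=
      Submodule.mapQ _ _ LinearMap.id hle2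
    have hφ : Injective φ := by
      rw [injective_iff_map_eq_zero]
      intro x hx
      obtain ⟨m, rfl⟩ := Submodule.Quotient.mk_surjective _ x
      have h1 : f • m ∈ f ^ (v + 1) • (⊤ : Submodule A M) := by
        have : φ (Submodule.Quotient.mk m) = Submodule.Quotient.mk (f • m) := rfl
        rw [this, Submodule.Quotient.mk_eq_zero] at hx
        exact hx
      obtain ⟨y, -, hy⟩ := (Submodule.mem_smul_pointwise_iff_exists _ _ _).mp h1
      rw [pow_succ', mul_smul] at hy
      have h2 : m = f ^ v • y := (hf hy).symm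
      rw [Submodule.Quotient.mk_eq_zero, h2]
      exact Submodule.smul_mem_pointwise_smul y _ _ Submodule.mem_top
    have hψ : Surjective ψ := by
      intro x
      obtain ⟨m, rfl⟩ := Submodule.Quotient.mk_surjective _ x
      exact ⟨Submodule.Quotient.mk m, rfl⟩
    have hex : Exact φ ψ := by
      intro x
      obtain ⟨m, rfl⟩ := Submodule.Quotient.mk_surjective _ x
      constructor
      · intro hx
        have h1 : m ∈ f • (⊤ : Submodule A M) := by
          have : ψ (Submodule.Quotient.mk m) = Submodule.Quotient.mk m := rfl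
          rw [this, Submodule.Quotient.mk_eq_zero] at hx
          exact hx
        obtain ⟨y, -, rfl⟩ := (Submodule.mem_smul_pointwise_iff_exists _ _ _).mp h1
        exact ⟨Submodule.Quotient.mk y, rfl⟩
      · rintro ⟨y, hy⟩
        obtain ⟨y, rfl⟩ := Submodule.Quotient.mk_surjective _ y
        rw [← hy]
        have : ψ (φ (Submodule.Quotient.mk y)) = Submodule.Quotient.mk (f • y) := rfl
        rw [this, Submodule.Quotient.mk_eq_zero]
        exact Submodule.smul_mem_pointwise_smul y _ _ Submodule.mem_top
    exact isWeaklyRegular_of_exact rs _ _ _ φ ψ hφ hex hψ ih hrs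

/-- Replacing the first element of a weakly regular sequence by a power. -/
theorem isWeaklyRegular_cons_pow (f : A) (rs : List A) (h : IsWeaklyRegular M (f :: rs))
    (v : ℕ) (hv : 1 ≤ v) : IsWeaklyRegular M (f ^ v :: rs) := by
  rw [isWeaklyRegular_cons_iff] at h ⊢
  exact ⟨h.1.pow v, isWeaklyRegular_quotSMulTop_pow M f h.1 rs h.2 v hv⟩

end

section
variable {A : Type u} [CommRing A]

theorem isWeaklyRegular_ofFn_pow (n : ℕ) :
    ∀ (M : Type v) [AddCommGroup M] [Module A M] (f : Fin n → A) (v : Fin n → ℕ)
      (_ : ∀ i, 1 ≤ v i) (_ : IsWeaklyRegular M (List.ofFn f)),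
      IsWeaklyRegular M (List.ofFn fun i => f i ^ v i) := by
  induction n with
  | zero =>
    intro M _ _ f v _ _
    rw [List.ofFn_zero]
    exact IsWeaklyRegular.nil A M
  | succ n ih =>
    intro M _ _ f v hv h
    rw [List.ofFn_succ] at h ⊢
    have h1 := isWeaklyRegular_cons_pow M (f 0) _ h (v 0) (hv 0)
    rw [isWeaklyRegular_cons_iff] at h1 ⊢
    exact ⟨h1.1, ih (QuotSMulTop (f 0 ^ v 0) M) (fun i => f i.succ) (fun i => v i.succ)
      (fun i => hv i.succ) h1.2⟩

end

end Groth.Agent.Helper8.RegPow
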