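import Mathlib
import Groth.Agent.Lib.Helper8.Depth31
import Groth.Agent.Lib.Helper8.RegPow

/-!
# Hartshorne's connectedness: the algebraic core

For a local ring with a regular sequence `x, y` and ideals `a, b` with `a * b = 0` and
`x, y ∈ a + b`, one of `a`, `b` vanishes.  Consequences for Noetherian local rings of depth at
least two.
-/

set_option autoImplicit false
universe u v

namespace Groth.Agent.Helper8.Hart

open RingTheory.Sequence LocCoh Pointwise IsLocalRing

section core

variable {R : Type u} [CommRing R]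

theorem isSMulRegular_of_add_sq_zero {x α β : R} (hx : IsSMulRegular R x) (hβ : β * β = 0)
    (h : α + β = x) : IsSMulRegular R α := by
  rw [isSMulRegular_iff_right_eq_zero_of_smul]
  intro r hr
  have hr' : α * r = 0 := by simpa using hr
  have h1 : x * r = β * r := by rw [← h, add_mul, hr', zero_add]
  have h2 : x • (x • r) = 0 := by
    simp only [smul_eq_mul]
    rw [h1, mul_comm x, mul_assoc, mul_comm r, h1, ← mul_assoc, hβ, zero_mul]
  have h3 := (isSMulRegular_iff_right_eq_zero_of_smul.mp hx) _ h2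
  exact (isSMulRegular_iff_right_eq_zero_of_smul.mp hx) _ h3

theorem mul_eq_zero_of_mem_of_mul_eq_bot {a b : Ideal R} (hab : a * b = ⊥) {r s : R}
    (hr : r ∈ a) (hs : s ∈ b) : r * s = 0 := by
  have := Ideal.mul_mem_mul hr hs
  rw [hab] at this
  simpa using this

theorem eq_bot_or_eq_bot_of_regular_pair [IsLocalRing R] (x y : R)
    (hx : IsSMulRegular R x) (hy : ∀ r : R, y * r ∈ Ideal.span {x} → r ∈ Ideal.span {x})
    (a b : Ideal R) (hab : a * b = ⊥) (hxa : x ∈ a ⊔ b) (hya : y ∈ a ⊔ b) :
    a = ⊥ ∨ b = ⊥ := by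
  obtain ⟨α, hα, β, hβ, hxe⟩ := Submodule.mem_sup.mp hxa
  obtain ⟨α', hα', β', hβ', hye⟩ := Submodule.mem_sup.mp hya
  have h1 : α * β' = 0 := mul_eq_zero_of_mem_of_mul_eq_bot hab hα hβ'
  have h2 : α' * β = 0 := mul_eq_zero_of_mem_of_mul_eq_bot hab hα' hβ
  have h3 : y * α ∈ Ideal.span {x} := by
    rw [Ideal.mem_span_singleton']
    refine ⟨α', ?_⟩
    rw [← hxe, ← hye]
    linear_combination h2 - h1
  obtain ⟨c, hc⟩ := Ideal.mem_span_singleton'.mp (hy α h3)
  have hz : (1 - c) * α = c * β := by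
    rw [← hxe] at hc
    linear_combination -hc
  by_cases hcu : IsUnit c
  · right
    obtain ⟨u, rfl⟩ := hcu
    have hβa : β ∈ a := by
      have : β = ↑u⁻¹ * ((1 - ↑u) * α) := by rw [hz, ← mul_assoc]; simp
      rw [this]
      exact a.mul_mem_left _ (a.mul_mem_left _ hα)
    have hββ : β * β = 0 := mul_eq_zero_of_mem_of_mul_eq_bot hab hβa hβ
    have hαreg : IsSMulRegular R α := isSMulRegular_of_add_sq_zero hx hββ hxe
    rw [eq_bot_iff]
    intro r hr
    have : α * r = 0 := mul_eq_zero_of_mem_of_mul_eq_bot hab hα hr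
    exact (isSMulRegular_iff_right_eq_zero_of_smul.mp hαreg) r (by simpa using this)
  · left
    obtain ⟨u, hu⟩ := isUnit_one_sub_self_of_mem_nonunits c hcu
    have hαb : α ∈ b := by
      have : α = ↑u⁻¹ * (c * β) := by rw [← hz, ← hu, ← mul_assoc]; simp
      rw [this]
      exact b.mul_mem_left _ (b.mul_mem_left _ hβ)
    have hαα : α * α = 0 := mul_eq_zero_of_mem_of_mul_eq_bot hab hα hαb
    have hβreg : IsSMulRegular R β :=
      isSMulRegular_of_add_sq_zero hx hαα (by rw [add_comm]; exact hxe)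
    rw [eq_bot_iff]
    intro r hr
    have : r * β = 0 := mul_eq_zero_of_mem_of_mul_eq_bot hab hr hβ
    exact (isSMulRegular_iff_right_eq_zero_of_smul.mp hβreg) r (by simpa [mul_comm] using this)

end core

section local_

variable (R : Type u) [CommRing R] [IsLocalRing R] [IsNoetherianRing R]

omit [IsNoetherianRing R] in
/-- A regular pair in a high power of the maximal ideal. -/
theorem exists_regular_pair_pow (h : 2 ≤ depth R R) (N : ℕ) :
    ∃ x y : R, x ∈ maximalIdeal R ^ N ∧ y ∈ maximalIdeal R ^ N ∧ IsSMulRegular R x ∧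
      ∀ r : R, y * r ∈ Ideal.span {x} → r ∈ Ideal.span {x} := by
  have hne : maximalIdeal R • (⊤ : Submodule R R) ≠ ⊤ := Depth.smul_top_ne_top_of_local R R
  obtain ⟨rs, hlen, hreg, hmem⟩ := (Depth.le_idealDepth_iff hne 2).mp (by exact_mod_cast h)
  match rs, hlen, hreg, hmem with
  | [x, y], _, hreg, hmem =>
    have hxm : x ∈ maximalIdeal R := hmem x (by simp)
    have hym : y ∈ maximalIdeal R := hmem y (by simp)
    have hreg' := RegPow.isWeaklyRegular_cons_pow R x [y] hreg (N + 1) (by omega)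
    rw [isWeaklyRegular_cons_iff] at hreg'
    obtain ⟨hx, hy⟩ := hreg'
    rw [isWeaklyRegular_cons_iff] at hy
    have hy' := hy.1.pow (N + 1)
    refine ⟨x ^ (N + 1), y ^ (N + 1), ?_, ?_, hx, ?_⟩
    · exact Ideal.pow_le_pow_right (Nat.le_succ N) (Ideal.pow_mem_pow hxm _)
    · exact Ideal.pow_le_pow_right (Nat.le_succ N) (Ideal.pow_mem_pow hym _)
    · intro r hr
      have h0 : (y ^ (N + 1)) • (Submodule.Quotient.mk r : QuotSMulTop (x ^ (N + 1)) R) = 0 := by
        rw [← Submodule.Quotient.mk_smul, Submodule.Quotient.mk_eq_zero]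
        obtain ⟨c, hc⟩ := Ideal.mem_span_singleton'.mp hr
        rw [Submodule.mem_smul_pointwise_iff_exists]
        exact ⟨c, Submodule.mem_top, by rw [smul_eq_mul, smul_eq_mul, mul_comm, hc]⟩
      have h1 := (isSMulRegular_iff_right_eq_zero_of_smul.mp hy') _ h0
      rw [Submodule.Quotient.mk_eq_zero, Submodule.mem_smul_pointwise_iff_exists] at h1
      obtain ⟨c, -, hc⟩ := h1
      rw [Ideal.mem_span_singleton']
      exact ⟨c, by rw [mul_comm]; simpa using hc⟩

/-- **Hartshorne's lemma**: in a Noetherian local ring of depth at least two, if `a * b` is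
nilpotent and `a + b` is primary to the maximal ideal (or the unit ideal), then `a` or `b` is
nilpotent. -/
theorem le_nilradical_or_le_nilradical (h : 2 ≤ depth R R) (a b : Ideal R)
    (hab : a * b ≤ nilradical R)
    (hm : ∀ Q : Ideal R, Q.IsPrime → a ⊔ b ≤ Q → Q = maximalIdeal R) :
    a ≤ nilradical R ∨ b ≤ nilradical R := by
  obtain ⟨k, hk⟩ := IsNoetherianRing.isNilpotent_nilradical R
  have habk : a ^ k * b ^ k = ⊥ := by
    rw [← mul_pow, eq_bot_iff, ← Ideal.zero_eq_bot, ← hk]
    exact Ideal.pow_right_mono hab k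
  have hrad : maximalIdeal R ≤ (a ⊔ b).radical := by
    rw [Ideal.radical_eq_sInf]
    refine le_sInf fun Q hQ => ?_
    rw [hm Q hQ.2 hQ.1]
  obtain ⟨n, hn⟩ := Ideal.exists_pow_le_of_le_radical_of_fg hrad
    (IsNoetherian.noetherian (maximalIdeal R))
  have hle : maximalIdeal R ^ (n * (k + k)) ≤ a ^ k ⊔ b ^ k := by
    rw [pow_mul]
    exact (Ideal.pow_right_mono hn (k + k)).trans Ideal.sup_pow_add_le_pow_sup_pow
  obtain ⟨x, y, hx, hy, hxreg, hyreg⟩ := exists_regular_pair_pow R h (n * (k + k))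
  have key := eq_bot_or_eq_bot_of_regular_pair x y hxreg hyreg (a ^ k) (b ^ k) habk
    (hle hx) (hle hy)
  have aux : ∀ c : Ideal R, c ^ k = ⊥ → c ≤ nilradical R := by
    intro c hc r hr
    rw [mem_nilradical]
    refine ⟨k, ?_⟩
    have := Ideal.pow_mem_pow hr k
    rw [hc] at this
    simpa using this
  exact key.imp (aux a) (aux b)

end local_

section global

variable (A : Type u) [CommRing A] [IsNoetherianRing A]

/-- Hartshorne's lemma at a prime `p` of a Noetherian ring with `depth A_p ≥ 2`: if every prime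
inside `p` contains `a` or `b`, and `p` is minimal over `a + b`, then all primes inside `p`
contain `a`, or all contain `b`. -/
theorem forall_le_or_forall_le_of_mem_minimalPrimes (p : Ideal A) [hpp : p.IsPrime]
    (h : 2 ≤ depth (Localization.AtPrime p) (Localization.AtPrime p)) (a b : Ideal A)
    (hab : ∀ q : Ideal A, q.IsPrime → q ≤ p → a ≤ q ∨ b ≤ q)
    (hp : p ∈ (a ⊔ b).minimalPrimes) :
    (∀ q : Ideal A, q.IsPrime → q ≤ p → a ≤ q) ∨ (∀ q : Ideal A, q.IsPrime → q ≤ p → b ≤ q) := by
  set R := Localization.AtPrime p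
  have hcomap : ∀ Q : Ideal R, Q.IsPrime → (Q.comap (algebraMap A R)).IsPrime ∧
      Q.comap (algebraMap A R) ≤ p := by
    intro Q hQ
    exact ⟨Ideal.comap_isPrime _ _, Depth.comap_localization_le p ⟨Q, hQ⟩⟩
  have hab' : a.map (algebraMap A R) * b.map (algebraMap A R) ≤ nilradical R := by
    rw [nilradical_eq_sInf]
    refine le_sInf fun Q hQ => ?_
    obtain ⟨hq1, hq2⟩ := hcomap Q hQ
    rcases hab _ hq1 hq2 with h1 | h1
    · exact Ideal.mul_le_left.trans (Ideal.map_le_iff_le_comap.mpr h1)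
    · exact Ideal.mul_le_right.trans (Ideal.map_le_iff_le_comap.mpr h1)
  have hm : ∀ Q : Ideal R, Q.IsPrime → a.map (algebraMap A R) ⊔ b.map (algebraMap A R) ≤ Q →
      Q = maximalIdeal R := by
    intro Q hQ hle
    obtain ⟨hq1, hq2⟩ := hcomap Q hQ
    have h1 : a ⊔ b ≤ Q.comap (algebraMap A R) :=
      sup_le (Ideal.map_le_iff_le_comap.mp (le_sup_left.trans hle))
        (Ideal.map_le_iff_le_comap.mp (le_sup_right.trans hle))
    have h2 : Q.comap (algebraMap A R) = p := le_antisymm hq2 (hp.2 ⟨hq1, h1⟩ hq2)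
    have h3 := IsLocalization.map_under p.primeCompl R Q
    rw [Ideal.under_def, h2, Localization.AtPrime.map_eq_maximalIdeal] at h3
    exact h3.symm
  have aux : ∀ c : Ideal A, c.map (algebraMap A R) ≤ nilradical R →
      ∀ q : Ideal A, q.IsPrime → q ≤ p → c ≤ q := by
    intro c hc q hq hqp
    have h1 : (q.map (algebraMap A R)).IsPrime := Depth.isPrime_map_localization q p hqp
    have h2 := Depth.comap_map_localization q p hqp
    rw [← h2]
    refine Ideal.map_le_iff_le_comap.mp (hc.trans ?_)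
    rw [nilradical_eq_sInf]
    exact sInf_le h1
  exact (le_nilradical_or_le_nilradical R h _ _ hab' hm).imp (aux a) (aux b)

end global

end Groth.Agent.Helper8.Hart
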