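import Mathlib
import Groth.Agent.Lib.Helper8.Hart1

/-!
# Hartshorne's connectedness: the punctured spectrum of a local ring of depth at least two
-/

set_option autoImplicit false
universe u v

namespace Groth.Agent.Helper8.Hart

open RingTheory.Sequence LocCoh Pointwise IsLocalRing

variable (R : Type u) [CommRing R] [IsLocalRing R] [IsNoetherianRing R]

theorem maximalIdeal_notMem_minimalPrimes (h : 1 ≤ depth R R) :
    maximalIdeal R ∉ minimalPrimes R := by
  intro hmin
  have h1 := Depth.depth_le_supportDim (A := R) (M := R)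
  rw [Module.supportDim_self_eq_ringKrullDim, ← IsLocalRing.maximalIdeal_height_eq_ringKrullDim,
    Ideal.height_eq_zero_iff.mpr hmin] at h1
  have h2 : depth R R ≤ 0 := by exact_mod_cast h1
  have : (1 : ℕ∞) ≤ 0 := h.trans h2
  simp at this

theorem exists_ne_maximalIdeal (h : 1 ≤ depth R R) :
    ∃ x : PrimeSpectrum R, x.asIdeal ≠ maximalIdeal R := by
  obtain ⟨q, hq, -⟩ := Ideal.exists_minimalPrimes_le (bot_le : (⊥ : Ideal R) ≤ maximalIdeal R)
  refine ⟨⟨q, hq.1.1⟩, fun heq => maximalIdeal_notMem_minimalPrimes R h ?_⟩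
  have : q = maximalIdeal R := heq
  rw [← this]
  exact hq

theorem isConnected_punctured (h : 2 ≤ depth R R) :
    IsConnected {x : PrimeSpectrum R | x.asIdeal ≠ maximalIdeal R} := by
  have h1 : (1 : ℕ∞) ≤ depth R R := le_trans (by norm_num) h
  obtain ⟨x0, hx0⟩ := exists_ne_maximalIdeal R h1
  refine ⟨⟨x0, hx0⟩, ?_⟩
  rw [isPreconnected_closed_iff]
  intro t t' ht ht' hU hne hne'
  by_contra hcon
  rw [Set.not_nonempty_iff_eq_empty] at hcon
  set a := PrimeSpectrum.vanishingIdeal t with ha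
  set b := PrimeSpectrum.vanishingIdeal t' with hb
  have hta : PrimeSpectrum.zeroLocus (a : Set R) = t := by
    rw [ha, PrimeSpectrum.zeroLocus_vanishingIdeal_eq_closure, ht.closure_eq]
  have htb : PrimeSpectrum.zeroLocus (b : Set R) = t' := by
    rw [hb, PrimeSpectrum.zeroLocus_vanishingIdeal_eq_closure, ht'.closure_eq]
  have hmem : ∀ (Q : Ideal R) (hQ : Q.IsPrime), Q ≠ maximalIdeal R → a ≤ Q ∨ b ≤ Q := by
    intro Q hQ hQm
    have h2 : (⟨Q, hQ⟩ : PrimeSpectrum R) ∈ t ∪ t' := hU hQm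
    rcases h2 with h2 | h2
    · left
      rw [← hta] at h2
      exact h2
    · right
      rw [← htb] at h2
      exact h2
  have hab : a * b ≤ nilradical R := by
    rw [nilradical_eq_sInf]
    refine le_sInf fun Q hQ => ?_
    by_cases hQm : Q = maximalIdeal R
    · rcases hmem x0.asIdeal x0.2 hx0 with h2 | h2
      · exact Ideal.mul_le_left.trans (h2.trans (hQm ▸ IsLocalRing.le_maximalIdeal x0.2.ne_top))
      · exact Ideal.mul_le_right.trans (h2.trans (hQm ▸ IsLocalRing.le_maximalIdeal x0.2.ne_top))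
    · rcases hmem Q hQ hQm with h2 | h2
      · exact Ideal.mul_le_left.trans h2
      · exact Ideal.mul_le_right.trans h2
  have hm : ∀ Q : Ideal R, Q.IsPrime → a ⊔ b ≤ Q → Q = maximalIdeal R := by
    intro Q hQ hle
    by_contra hQm
    have h2 : (⟨Q, hQ⟩ : PrimeSpectrum R) ∈
        {x : PrimeSpectrum R | x.asIdeal ≠ maximalIdeal R} ∩ (t ∩ t') := by
      refine ⟨hQm, ?_, ?_⟩
      · rw [← hta]; exact le_sup_left.trans hle
      · rw [← htb]; exact le_sup_right.trans hle
    rw [hcon] at h2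
    exact h2
  have aux : ∀ c : Ideal R, c ≤ nilradical R → PrimeSpectrum.zeroLocus (c : Set R) = Set.univ := by
    intro c hc
    rw [Set.eq_univ_iff_forall]
    intro Q
    rw [PrimeSpectrum.mem_zeroLocus]
    refine hc.trans ?_
    rw [nilradical_eq_sInf]
    exact sInf_le Q.2
  rcases le_nilradical_or_le_nilradical R h a b hab hm with h2 | h2
  · have h3 := aux a h2
    rw [hta] at h3
    obtain ⟨y, hy1, hy2⟩ := hne'
    have : y ∈ {x : PrimeSpectrum R | x.asIdeal ≠ maximalIdeal R} ∩ (t ∩ t') :=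
      ⟨hy1, h3 ▸ Set.mem_univ y, hy2⟩
    rw [hcon] at this
    exact this
  · have h3 := aux b h2
    rw [htb] at h3
    obtain ⟨y, hy1, hy2⟩ := hne
    have : y ∈ {x : PrimeSpectrum R | x.asIdeal ≠ maximalIdeal R} ∩ (t ∩ t') :=
      ⟨hy1, hy2, h3 ▸ Set.mem_univ y⟩
    rw [hcon] at this
    exact this

end Groth.Agent.Helper8.Hart
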