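import Mathlib
import Groth.Agent.Lib.Helper8.Hart2

/-!
# Components of the zero ideal along minimal primes, and the height of `a + b`
-/

set_option autoImplicit false
universe u v

namespace Groth.Agent.Helper8.Hart

open RingTheory.Sequence LocCoh Pointwise IsLocalRing

variable {R : Type u} [CommRing R]

/-- An element of a minimal prime has a power killed by an element outside the prime. -/
theorem exists_notMem_mul_pow_eq_zero {p : Ideal R} (hp : p ∈ minimalPrimes R) {x : R}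
    (hx : x ∈ p) : ∃ (k : ℕ) (s : R), s ∉ p ∧ s * x ^ k = 0 := by
  have hpp : p.IsPrime := hp.1.1
  have h1 := IsLocalization.AtPrime.radical_map_of_mem_minimalPrimes
    (A := Localization.AtPrime p) p ⊥ hp
  rw [Ideal.map_bot] at h1
  have h2 : algebraMap R (Localization.AtPrime p) x ∈ (⊥ : Ideal (Localization.AtPrime p)).radical := by
    rw [h1]; exact Ideal.mem_map_of_mem _ hx
  obtain ⟨k, hk⟩ := h2
  rw [Ideal.mem_bot, ← map_pow, IsLocalization.map_eq_zero_iff p.primeCompl] at hk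
  obtain ⟨m, hm⟩ := hk
  exact ⟨k, m.1, m.2, hm⟩

theorem exists_mem_le_of_le [IsNoetherianRing R] (S : Set (Ideal R)) (hS : S ⊆ minimalPrimes R)
    (c : Ideal R) (hc : ∀ r : R, (∀ p ∈ S, ∃ s : R, s ∉ p ∧ s * r = 0) → r ∈ c)
    (Q : Ideal R) [hQ : Q.IsPrime] (hcQ : c ≤ Q) : ∃ p ∈ S, p ≤ Q := by
  classical
  by_contra hcon
  push Not at hcon
  have h1 : ∀ p : Ideal R, ∃ y : R, p ∈ S → (y ∉ Q ∧ ∃ s : R, s ∉ p ∧ s * y = 0) := by
    intro p
    by_cases hpS : p ∈ S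
    · obtain ⟨x, hxp, hxQ⟩ := SetLike.not_le_iff_exists.mp (hcon p hpS)
      obtain ⟨k, s, hs, hsx⟩ := exists_notMem_mul_pow_eq_zero (hS hpS) hxp
      exact ⟨x ^ k, fun _ => ⟨fun h => hxQ (hQ.mem_of_pow_mem k h), s, hs, hsx⟩⟩
    · exact ⟨1, fun h => absurd h hpS⟩
  choose y hy using h1
  have Sfin : S.Finite := (minimalPrimes.finite_of_isNoetherianRing R).subset hS
  have hmem : (∏ p ∈ Sfin.toFinset, y p) ∈ c := by
    apply hc
    intro p hpS
    obtain ⟨-, s, hs, hsy⟩ := hy p hpS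
    refine ⟨s, hs, ?_⟩
    obtain ⟨z, hz⟩ := Finset.dvd_prod_of_mem y (Sfin.mem_toFinset.mpr hpS)
    rw [hz, ← mul_assoc, hsy, zero_mul]
  have h2 := hcQ hmem
  rw [Ideal.IsPrime.prod_mem_iff] at h2
  obtain ⟨p, hp, hpQ⟩ := h2
  exact (hy p (Sfin.mem_toFinset.mp hp)).1 hpQ

theorem le_of_mem_of_forall (S : Set (Ideal R)) (c : Ideal R)
    (hc : ∀ r : R, r ∈ c → ∀ p ∈ S, ∃ s : R, s ∉ p ∧ s * r = 0)
    (p : Ideal R) [hp : p.IsPrime] (hpS : p ∈ S) : c ≤ p := by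
  intro r hr
  obtain ⟨s, hs, hsr⟩ := hc r hr p hpS
  have : s * r ∈ p := by rw [hsr]; exact p.zero_mem
  exact (hp.mem_or_mem this).resolve_left hs

theorem height_eq_one_of_mem_minimalPrimes_sup [IsNoetherianRing R] (hS : HasSk 2 R R)
    (P1 P2 : Set (Ideal R)) (hP : P1 ∪ P2 = minimalPrimes R) (hdisj : Disjoint P1 P2)
    (a b : Ideal R) (ha : ∀ r : R, r ∈ a ↔ ∀ p ∈ P1, ∃ s : R, s ∉ p ∧ s * r = 0)
    (hb : ∀ r : R, r ∈ b ↔ ∀ p ∈ P2, ∃ s : R, s ∉ p ∧ s * r = 0) (P : Ideal R)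
    (hPmin : P ∈ (a ⊔ b).minimalPrimes) : P.height = 1 := by
  have hPp : P.IsPrime := hPmin.1.1
  have hP1 : P1 ⊆ minimalPrimes R := hP ▸ Set.subset_union_left
  have hP2 : P2 ⊆ minimalPrimes R := hP ▸ Set.subset_union_right
  obtain ⟨p1, hp1, hp1P⟩ := exists_mem_le_of_le P1 hP1 a (fun r => (ha r).mpr) P
    (le_sup_left.trans hPmin.1.2)
  obtain ⟨p2, hp2, hp2P⟩ := exists_mem_le_of_le P2 hP2 b (fun r => (hb r).mpr) P
    (le_sup_right.trans hPmin.1.2)
  have hp1p : p1.IsPrime := (hP1 hp1).1.1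
  have hp2p : p2.IsPrime := (hP2 hp2).1.1
  have hne : p1 ≠ p2 := fun h => Set.disjoint_left.mp hdisj hp1 (h ▸ hp2)
  -- every prime contains `a` or `b`
  have hab : ∀ q : Ideal R, q.IsPrime → a ≤ q ∨ b ≤ q := by
    intro q hq
    obtain ⟨p0, hp0, hp0q⟩ := Ideal.exists_minimalPrimes_le (bot_le : (⊥ : Ideal R) ≤ q)
    have hp0' : p0 ∈ P1 ∪ P2 := hP ▸ hp0
    have : p0.IsPrime := hp0.1.1
    rcases hp0' with h | h
    · exact Or.inl ((le_of_mem_of_forall P1 a (fun r => (ha r).mp) p0 h).trans hp0q)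
    · exact Or.inr ((le_of_mem_of_forall P2 b (fun r => (hb r).mp) p0 h).trans hp0q)
  have h0 : P.height ≠ 0 := by
    intro h0
    rw [Ideal.height_eq_zero_iff] at h0
    have e1 : p1 = P := le_antisymm hp1P (h0.2 ⟨hp1p, bot_le⟩ hp1P)
    have e2 : p2 = P := le_antisymm hp2P (h0.2 ⟨hp2p, bot_le⟩ hp2P)
    exact hne (e1.trans e2.symm)
  have h2 : ¬ (2 : ℕ∞) ≤ P.height := by
    intro h2
    have hSP := hS P
    rw [Depth.supportDim_localizedModule_self, Depth.depth_localizedModule_self] at hSP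
    have h3 : (2 : ℕ∞) ≤ depth (Localization.AtPrime P) (Localization.AtPrime P) := by
      have h4 : (((2 : ℕ∞)) : WithBot ℕ∞) ≤
          ((depth (Localization.AtPrime P) (Localization.AtPrime P) : ℕ∞) : WithBot ℕ∞) := by
        refine le_trans (le_min ?_ ?_) hSP
        · exact le_rfl
        · exact_mod_cast h2
      exact_mod_cast h4
    rcases forall_le_or_forall_le_of_mem_minimalPrimes R P h3 a b
      (fun q hq _ => hab q hq) hPmin with h5 | h5
    · have h6 := h5 p2 hp2p hp2P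
      obtain ⟨p1', hp1', hle⟩ := exists_mem_le_of_le P1 hP1 a (fun r => (ha r).mpr) p2 h6
      have : p1'.IsPrime := (hP1 hp1').1.1
      have e : p1' = p2 := le_antisymm hle ((hP2 hp2).2 ⟨this, bot_le⟩ hle)
      exact Set.disjoint_left.mp hdisj hp1' (e ▸ hp2)
    · have h6 := h5 p1 hp1p hp1P
      obtain ⟨p2', hp2', hle⟩ := exists_mem_le_of_le P2 hP2 b (fun r => (hb r).mpr) p1 h6
      have : p2'.IsPrime := (hP2 hp2').1.1
      have e : p2' = p1 := le_antisymm hle ((hP1 hp1).2 ⟨this, bot_le⟩ hle)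
      exact Set.disjoint_left.mp hdisj hp1 (e ▸ hp2')
  have hfin : P.height ≠ ⊤ := Ideal.height_ne_top hPp.ne_top
  obtain ⟨n, hn⟩ := ENat.ne_top_iff_exists.mp hfin
  rw [← hn] at h0 h2 ⊢
  have h0' : n ≠ 0 := by exact_mod_cast h0
  have h2' : ¬ 2 ≤ n := by exact_mod_cast h2
  have : n = 1 := by omega
  rw [this]; rfl

end Groth.Agent.Helper8.Hart
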