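import Mathlib
import Groth.Agent.Lib.Helper8.Hart3

/-!
# Hartshorne's connectedness for a Noetherian ring: partitions of the minimal primes
-/

set_option autoImplicit false
universe u v

namespace Groth.Agent.Helper8.Hart

open RingTheory.Sequence LocCoh Pointwise IsLocalRing

variable {A : Type u} [CommRing A]

theorem exists_mem_le_of_sInf_le {S : Set (Ideal A)} (hS : S.Finite) {Q : Ideal A}
    (hQ : Q.IsPrime) (h : sInf S ≤ Q) : ∃ P ∈ S, P ≤ Q := by
  classical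
  have h1 : hS.toFinset.inf id ≤ Q := by
    rw [Finset.inf_id_eq_sInf]
    simpa using h
  obtain ⟨P, hP, hPQ⟩ := hQ.inf_le'.mp h1
  exact ⟨P, hS.mem_toFinset.mp hP, hPQ⟩

/-- For a partition of the minimal primes of a Noetherian ring into `M1` and `M2`, a prime minimal
over `⋂ M1 + ⋂ M2` has a local ring of depth less than two. -/
theorem not_two_le_depth_of_mem_minimalPrimes [IsNoetherianRing A] (M1 M2 : Set (Ideal A))
    (hM : M1 ∪ M2 = minimalPrimes A) (hdisj : Disjoint M1 M2) (p : Ideal A) [hpp : p.IsPrime]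
    (hp : p ∈ (sInf M1 ⊔ sInf M2).minimalPrimes) :
    ¬ (2 : ℕ∞) ≤ depth (Localization.AtPrime p) (Localization.AtPrime p) := by
  intro h
  have hM1 : M1 ⊆ minimalPrimes A := hM ▸ Set.subset_union_left
  have hM2 : M2 ⊆ minimalPrimes A := hM ▸ Set.subset_union_right
  have hfin := minimalPrimes.finite_of_isNoetherianRing A
  obtain ⟨P1, hP1, hP1p⟩ := exists_mem_le_of_sInf_le (hfin.subset hM1) hpp
    (le_sup_left.trans hp.1.2)
  obtain ⟨P2, hP2, hP2p⟩ := exists_mem_le_of_sInf_le (hfin.subset hM2) hpp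
    (le_sup_right.trans hp.1.2)
  have hab : ∀ q : Ideal A, q.IsPrime → q ≤ p → sInf M1 ≤ q ∨ sInf M2 ≤ q := by
    intro q hq _
    obtain ⟨p0, hp0, hp0q⟩ := Ideal.exists_minimalPrimes_le (bot_le : (⊥ : Ideal A) ≤ q)
    have hp0' : p0 ∈ M1 ∪ M2 := hM ▸ hp0
    rcases hp0' with h1 | h1
    · exact Or.inl ((sInf_le h1).trans hp0q)
    · exact Or.inr ((sInf_le h1).trans hp0q)
  rcases forall_le_or_forall_le_of_mem_minimalPrimes A p h _ _ hab hp with h5 | h5
  · have hP2p' : P2.IsPrime := (hM2 hP2).1.1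
    obtain ⟨P1', hP1', hle⟩ := exists_mem_le_of_sInf_le (hfin.subset hM1) hP2p'
      (h5 P2 hP2p' hP2p)
    have : P1'.IsPrime := (hM1 hP1').1.1
    have e : P1' = P2 := le_antisymm hle ((hM2 hP2).2 ⟨this, bot_le⟩ hle)
    exact Set.disjoint_left.mp hdisj hP1' (e ▸ hP2)
  · have hP1p' : P1.IsPrime := (hM1 hP1).1.1
    obtain ⟨P2', hP2', hle⟩ := exists_mem_le_of_sInf_le (hfin.subset hM2) hP1p'
      (h5 P1 hP1p' hP1p)
    have : P2'.IsPrime := (hM2 hP2').1.1
    have e : P2' = P1 := le_antisymm hle ((hM1 hP1).2 ⟨this, bot_le⟩ hle)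
    exact Set.disjoint_left.mp hdisj hP1 (e ▸ hP2')

/-- In a connected spectrum, two proper ideals whose zero loci cover everything have a common
prime. -/
theorem exists_mem_minimalPrimes_sup [ConnectedSpace (PrimeSpectrum A)] (a b : Ideal A)
    (hab : ∀ q : Ideal A, q.IsPrime → a ≤ q ∨ b ≤ q) (ha : a ≠ ⊤) (hb : b ≠ ⊤) :
    ∃ p, p ∈ (a ⊔ b).minimalPrimes := by
  have hpre : IsPreconnected (Set.univ : Set (PrimeSpectrum A)) := isPreconnected_univ
  rw [isPreconnected_closed_iff] at hpre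
  obtain ⟨ma, hma, hama⟩ := Ideal.exists_le_maximal a ha
  obtain ⟨mb, hmb, hbmb⟩ := Ideal.exists_le_maximal b hb
  have h1 := hpre (PrimeSpectrum.zeroLocus (a : Set A)) (PrimeSpectrum.zeroLocus (b : Set A))
    (PrimeSpectrum.isClosed_zeroLocus _) (PrimeSpectrum.isClosed_zeroLocus _)
    (fun q _ => by
      rcases hab q.asIdeal q.2 with h | h
      · exact Or.inl h
      · exact Or.inr h)
    ⟨⟨ma, hma.isPrime⟩, Set.mem_univ _, hama⟩ ⟨⟨mb, hmb.isPrime⟩, Set.mem_univ _, hbmb⟩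
  obtain ⟨Q, -, hQa, hQb⟩ := h1
  have : a ⊔ b ≤ Q.asIdeal := sup_le hQa hQb
  obtain ⟨p, hp, -⟩ := Ideal.exists_minimalPrimes_le this
  exact ⟨p, hp⟩

end Groth.Agent.Helper8.Hart
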