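import Mathlib
import Groth.Agent.Lib.Helper8.Hart4

/-!
# Connectedness in codimension `d - 1`
-/

set_option autoImplicit false
universe u v

namespace Groth.Agent.Helper8.Hart

open RingTheory.Sequence LocCoh Pointwise IsLocalRing

section chains

variable {α : Type*} (r : α → α → Prop)

theorem exists_fin_chain {x y : α} (h : Relation.ReflTransGen r x y) :
    ∃ (n : ℕ) (c : Fin (n + 1) → α), c 0 = x ∧ c (Fin.last n) = y ∧
      ∀ i : Fin n, r (c i.castSucc) (c i.succ) := by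
  induction h with
  | refl => exact ⟨0, fun _ => x, rfl, rfl, fun i => i.elim0⟩
  | tail hab hbc ih =>
    obtain ⟨n, c, h0, hl, hc⟩ := ih
    refine ⟨n + 1, Fin.snoc c _, ?_, Fin.snoc_last _ _, ?_⟩
    · have : (0 : Fin (n + 2)) = Fin.castSucc (0 : Fin (n + 1)) := rfl
      rw [this, Fin.snoc_castSucc]; exact h0
    · intro i
      refine Fin.lastCases ?_ (fun j => ?_) i
      · rw [Fin.snoc_castSucc, Fin.succ_last, Fin.snoc_last, hl]; exact hbc
      · rw [Fin.snoc_castSucc, Fin.succ_castSucc, Fin.snoc_castSucc]; exact hc j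

theorem exists_list_chain {x y : α} (h : Relation.ReflTransGen r x y) :
    ∃ l : List α, l.head? = some x ∧ l.getLast? = some y ∧ l.IsChain r ∧
      ∀ z ∈ l, z = x ∨ ∃ w, r w z := by
  induction h with
  | refl => exact ⟨[x], rfl, rfl, List.isChain_singleton _, by simp⟩
  | @tail b c hab hbc ih =>
    obtain ⟨l, h0, hl, hc, hmem⟩ := ih
    have hne : l ≠ [] := by rintro rfl; simp at h0
    refine ⟨l ++ [c], ?_, ?_, ?_, ?_⟩
    · rw [List.head?_append_of_ne_nil _ hne]; exact h0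
    · simp
    · refine hc.append (List.isChain_singleton _) ?_
      intro u hu v hv
      rw [hl] at hu
      simp only [List.head?_cons, Option.mem_def, Option.some.injEq] at hu hv
      subst hu hv
      exact hbc
    · intro z hz
      rw [List.mem_append, List.mem_singleton] at hz
      rcases hz with hz | rfl
      · exact hmem z hz
      · exact Or.inr ⟨b, hbc⟩

end chains

variable (A : Type u) [CommRing A]

/-- Two minimal primes are linked when they lie in a common prime of height less than `d`. -/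
def Linked (d : ℕ∞) (P Q : PrimeSpectrum A) : Prop :=
  P.asIdeal ∈ minimalPrimes A ∧ Q.asIdeal ∈ minimalPrimes A ∧
    ∃ r : PrimeSpectrum A, P ≤ r ∧ Q ≤ r ∧ r.asIdeal.height < d

variable [IsNoetherianRing A] [ConnectedSpace (PrimeSpectrum A)]

theorem reflTransGen_linked (d : ℕ∞)
    (h : ∀ p : PrimeSpectrum A, d ≤ p.asIdeal.height →
      (2 : ℕ∞) ≤ depth (Localization.AtPrime p.asIdeal) (Localization.AtPrime p.asIdeal))
    (p' p'' : PrimeSpectrum A) (hp' : p'.asIdeal ∈ minimalPrimes A)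
    (hp'' : p''.asIdeal ∈ minimalPrimes A) :
    Relation.ReflTransGen (Linked A d) p' p'' := by
  by_contra hcon
  set M1 : Set (Ideal A) := {P | ∃ hP : P ∈ minimalPrimes A,
    Relation.ReflTransGen (Linked A d) p' ⟨P, hP.1.1⟩} with hM1
  set M2 : Set (Ideal A) := {P | ∃ hP : P ∈ minimalPrimes A,
    ¬ Relation.ReflTransGen (Linked A d) p' ⟨P, hP.1.1⟩} with hM2
  have hM : M1 ∪ M2 = minimalPrimes A := by
    ext P
    constructor
    · rintro (⟨hP, -⟩ | ⟨hP, -⟩) <;> exact hP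
    · intro hP
      by_cases h1 : Relation.ReflTransGen (Linked A d) p' ⟨P, hP.1.1⟩
      · exact Or.inl ⟨hP, h1⟩
      · exact Or.inr ⟨hP, h1⟩
  have hdisj : Disjoint M1 M2 := by
    rw [Set.disjoint_left]
    rintro P ⟨hP, h1⟩ ⟨_, h2⟩
    exact h2 h1
  have hp'1 : p'.asIdeal ∈ M1 := ⟨hp', Relation.ReflTransGen.refl⟩
  have hp''2 : p''.asIdeal ∈ M2 := ⟨hp'', hcon⟩
  have ha : sInf M1 ≠ ⊤ := fun h1 => p'.2.ne_top (top_le_iff.mp (h1 ▸ sInf_le hp'1))
  have hb : sInf M2 ≠ ⊤ := fun h1 => p''.2.ne_top (top_le_iff.mp (h1 ▸ sInf_le hp''2))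
  have hab : ∀ q : Ideal A, q.IsPrime → sInf M1 ≤ q ∨ sInf M2 ≤ q := by
    intro q hq
    obtain ⟨p0, hp0, hp0q⟩ := Ideal.exists_minimalPrimes_le (bot_le : (⊥ : Ideal A) ≤ q)
    have hp0' : p0 ∈ M1 ∪ M2 := hM ▸ hp0
    rcases hp0' with h1 | h1
    · exact Or.inl ((sInf_le h1).trans hp0q)
    · exact Or.inr ((sInf_le h1).trans hp0q)
  obtain ⟨p, hp⟩ := exists_mem_minimalPrimes_sup _ _ hab ha hb
  have hpp : p.IsPrime := hp.1.1
  have h1 := not_two_le_depth_of_mem_minimalPrimes M1 M2 hM hdisj p hp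
  have h2 : p.height < d := by
    by_contra h2
    exact h1 (h ⟨p, hpp⟩ (not_lt.mp h2))
  have hfin := minimalPrimes.finite_of_isNoetherianRing A
  have hM1s : M1 ⊆ minimalPrimes A := hM ▸ Set.subset_union_left
  have hM2s : M2 ⊆ minimalPrimes A := hM ▸ Set.subset_union_right
  obtain ⟨P1, ⟨hP1, hP1r⟩, hP1p⟩ := exists_mem_le_of_sInf_le (hfin.subset hM1s) hpp
    (le_sup_left.trans hp.1.2)
  obtain ⟨P2, ⟨hP2, hP2r⟩, hP2p⟩ := exists_mem_le_of_sInf_le (hfin.subset hM2s) hpp
    (le_sup_right.trans hp.1.2)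
  exact hP2r (hP1r.tail ⟨hP1, hP2, ⟨p, hpp⟩, hP1p, hP2p, h2⟩)

end Groth.Agent.Helper8.Hart
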