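import Mathlib
import Groth.Agent.Lib.Helper8.Hart5

/-!
# Connectedness in codimension `d - 1`: chains of minimal primes
-/

set_option autoImplicit false
universe u v

namespace Groth.Agent.Helper8.Hart

open RingTheory.Sequence LocCoh Pointwise IsLocalRing

variable (A : Type u) [CommRing A] [IsNoetherianRing A] [ConnectedSpace (PrimeSpectrum A)]

theorem chain_fin (d : ℕ)
    (h : ∀ (p : Ideal A) [p.IsPrime], (d : ℕ∞) ≤ p.height →
      (2 : ℕ∞) ≤ LocCoh.depth (Localization.AtPrime p) (Localization.AtPrime p))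
    (p' p'' : Ideal A) (hp' : p' ∈ minimalPrimes A) (hp'' : p'' ∈ minimalPrimes A) :
    ∃ (n : ℕ) (c : Fin (n + 1) → Ideal A), c 0 = p' ∧ c (Fin.last n) = p'' ∧
      (∀ i, c i ∈ minimalPrimes A) ∧
      ∀ i : Fin n, ∃ (q : Ideal A) (_ : q.IsPrime),
        c i.castSucc ≤ q ∧ c i.succ ≤ q ∧ q.height + 1 ≤ (d : ℕ∞) := by
  have key := reflTransGen_linked A (d : ℕ∞) (fun p hp => h p.asIdeal hp)
    ⟨p', hp'.1.1⟩ ⟨p'', hp''.1.1⟩ hp' hp''
  obtain ⟨n, c, h0, hl, hc⟩ := exists_fin_chain _ key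
  refine ⟨n, fun i => (c i).asIdeal, by simp only [h0], by simp only [hl], ?_, ?_⟩
  · intro i
    refine Fin.cases ?_ (fun j => ?_) i
    · simp only [h0]; exact hp'
    · exact (hc j).2.1
  · intro i
    obtain ⟨-, -, r, h1, h2, h3⟩ := hc i
    exact ⟨r.asIdeal, r.2, h1, h2, Order.add_one_le_of_lt h3⟩

theorem chain_list (d : ℕ)
    (h : ∀ p : PrimeSpectrum A, (d : ℕ∞) ≤ p.asIdeal.height →
      (2 : ℕ∞) ≤ LocCoh.depth (Localization.AtPrime p.asIdeal) (Localization.AtPrime p.asIdeal))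
    (p' p'' : PrimeSpectrum A) (hp' : p'.asIdeal ∈ minimalPrimes A)
    (hp'' : p''.asIdeal ∈ minimalPrimes A) :
    ∃ l : List (PrimeSpectrum A), l.head? = some p' ∧ l.getLast? = some p'' ∧
      (∀ p ∈ l, p.asIdeal ∈ minimalPrimes A) ∧
      List.IsChain (fun p q => ∃ r : PrimeSpectrum A, p ≤ r ∧ q ≤ r ∧
        r.asIdeal.height ≤ (d - 1 : ℕ)) l := by
  have key := reflTransGen_linked A (d : ℕ∞) h p' p'' hp' hp''
  obtain ⟨l, h0, hl, hc, hmem⟩ := exists_list_chain _ key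
  refine ⟨l, h0, hl, ?_, ?_⟩
  · intro p hp
    rcases hmem p hp with rfl | ⟨w, hw⟩
    · exact hp'
    · exact hw.2.1
  · refine List.IsChain.imp ?_ hc
    rintro P Q ⟨-, -, r, h1, h2, h3⟩
    refine ⟨r, h1, h2, ?_⟩
    have hfin : r.asIdeal.height ≠ ⊤ := Ideal.height_ne_top r.2.ne_top
    obtain ⟨n, hn⟩ := ENat.ne_top_iff_exists.mp hfin
    rw [← hn] at h3 ⊢
    have : n < d := by exact_mod_cast h3
    exact_mod_cast (by omega : n ≤ d - 1)

end Groth.Agent.Helper8.Hart
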