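import Mathlib
import Groth.Agent.Lib.Helper8.Hart6
import Groth.Prelude.Def_Found

/-!
# Catenary local rings which are connected in codimension one are equidimensional
-/

set_option autoImplicit false
universe u v

namespace Groth.Agent.Helper8.Hart

open RingTheory.Sequence LocCoh Pointwise IsLocalRing

section order

variable {α : Type*} [PartialOrder α]

/-- Saturated chains of a given length between two elements. -/
inductive SatChain (x : α) : α → ℕ → Prop
  | refl : SatChain x x 0
  | tail {y z : α} {n : ℕ} : SatChain x y n → y ⋖ z → SatChain x z (n + 1)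

theorem SatChain.cons {x y z : α} {n : ℕ} (hxy : x ⋖ y) (h : SatChain y z n) :
    SatChain x z (n + 1) := by
  induction h with
  | refl => exact SatChain.tail SatChain.refl hxy
  | tail _ hyz ih => exact SatChain.tail ih hyz

theorem SatChain.exists_ltSeries {x z : α} {n : ℕ} (h : SatChain x z n) :
    ∃ s : LTSeries α, s.head = x ∧ s.last = z ∧ s.length = n ∧
      ∀ i : Fin s.length, s (Fin.castSucc i) ⋖ s (Fin.succ i) := by
  induction h with
  | refl => exact ⟨RelSeries.singleton _ x, rfl, rfl, rfl, fun i => i.elim0⟩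
  | @tail y z n _ hyz ih =>
    obtain ⟨s, hs0, hsl, hsn, hsat⟩ := ih
    have hrel : s.last < z := hsl ▸ hyz.lt
    have key : ∀ i : Fin (s.length + 1),
        (s.snoc z hrel) (Fin.castSucc i) ⋖ (s.snoc z hrel) (Fin.succ i) := by
      intro i
      refine Fin.lastCases ?_ (fun j => ?_) i
      · change (s.snoc z hrel) (Fin.castSucc (Fin.last s.length)) ⋖
          (s.snoc z hrel) (Fin.last (s.length + 1))
        rw [RelSeries.snoc_castSucc, RelSeries.last_snoc']
        have : s (Fin.last s.length) = y := hsl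
        rw [this]
        exact hyz
      · have e1 := RelSeries.snoc_castSucc s z hrel (Fin.castSucc j)
        have e2 := RelSeries.snoc_castSucc s z hrel (Fin.succ j)
        have h3 := hsat j
        rw [← e1, ← e2] at h3
        exact h3
    refine ⟨s.snoc z hrel, by simp [hs0], by simp, ?_, key⟩
    show s.length + 1 = n + 1
    rw [hsn]

theorem SatChain.length_unique
    (hcat : ∀ s t : LTSeries α, s.head = t.head → s.last = t.last →
      (∀ i : Fin s.length, s (Fin.castSucc i) ⋖ s (Fin.succ i)) →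
      (∀ i : Fin t.length, t (Fin.castSucc i) ⋖ t (Fin.succ i)) → s.length = t.length)
    {x z : α} {n n' : ℕ} (h : SatChain x z n) (h' : SatChain x z n') : n = n' := by
  obtain ⟨s, hs0, hsl, hsn, hsat⟩ := h.exists_ltSeries
  obtain ⟨t, ht0, htl, htn, htat⟩ := h'.exists_ltSeries
  rw [← hsn, ← htn]
  exact hcat s t (hs0.trans ht0.symm) (hsl.trans htl.symm) hsat htat

theorem satChain_of_coheight_eq (m : α) (hm : ∀ x, x ≤ m) :
    ∀ (n : ℕ) (x : α), Order.coheight x = n → SatChain x m n := by
  intro n
  induction n with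
  | zero =>
    intro x hx
    have h1 : IsMax x := Order.coheight_eq_zero.mp (by simpa using hx)
    have h2 : x = m := le_antisymm (hm x) (h1 (hm x))
    subst h2
    exact SatChain.refl
  | succ n ih =>
    intro x hx
    obtain ⟨-, ⟨y, hxy, hy⟩, hall⟩ :=
      Order.coheight_eq_coe_add_one_iff.mp (by exact_mod_cast hx)
    have hcov : x ⋖ y := by
      refine ⟨hxy, fun z hxz hzy => ?_⟩
      have h1 := Order.coheight_add_one_le hzy
      have h2 := hall z hxz
      rw [hy] at h1
      have h3 : ((n + 1 : ℕ) : ℕ∞) ≤ (n : ℕ∞) := by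
        push_cast
        exact h1.trans h2
      have : n + 1 ≤ n := by exact_mod_cast h3
      omega
    exact SatChain.cons hcov (ih y hy)

theorem coheight_eq_add_one_of_covBy
    (hcat : ∀ s t : LTSeries α, s.head = t.head → s.last = t.last →
      (∀ i : Fin s.length, s (Fin.castSucc i) ⋖ s (Fin.succ i)) →
      (∀ i : Fin t.length, t (Fin.castSucc i) ⋖ t (Fin.succ i)) → s.length = t.length)
    (m : α) (hm : ∀ x, x ≤ m) {x y : α} (hxy : x ⋖ y) (hfin : Order.coheight x < ⊤) :
    Order.coheight x = Order.coheight y + 1 := by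
  have h1 := Order.coheight_add_one_le hxy.lt
  obtain ⟨n, hn⟩ := ENat.ne_top_iff_exists.mp hfin.ne
  have hfin' : Order.coheight y ≠ ⊤ := by
    intro h2
    rw [h2] at h1
    simp at h1
    exact hfin.ne h1
  obtain ⟨k, hk⟩ := ENat.ne_top_iff_exists.mp hfin'
  have c1 := satChain_of_coheight_eq m hm n x hn.symm
  have c2 := SatChain.cons hxy (satChain_of_coheight_eq m hm k y hk.symm)
  have := SatChain.length_unique hcat c1 c2
  rw [← hn, ← hk, this]
  rfl

end order

section ring

variable (A : Type u) [CommRing A] [IsLocalRing A]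

theorem connectedSpace_of_isLocalRing : ConnectedSpace (PrimeSpectrum A) := by
  have : PreconnectedSpace (PrimeSpectrum A) := by
    refine ⟨isPreconnected_of_forall (closedPoint A) fun y _ => ?_⟩
    refine ⟨closure {y}, Set.subset_univ _, ?_, subset_closure rfl,
      isPreconnected_singleton.closure⟩
    exact (specializes_closedPoint y).mem_closed isClosed_closure (subset_closure rfl)
  exact { toNonempty := ⟨closedPoint A⟩ }

variable [IsNoetherianRing A]

theorem coheight_lt_top (x : PrimeSpectrum A) : Order.coheight x < ⊤ := by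
  have h1 := Order.coheight_le_krullDim x
  have h2 : Order.krullDim (PrimeSpectrum A) < ⊤ := ringKrullDim_lt_top
  have h3 := lt_of_le_of_lt h1 h2
  rw [lt_top_iff_ne_top] at h3 ⊢
  intro h4
  rw [h4] at h3
  exact h3 rfl

variable {A}

omit [IsLocalRing A] [IsNoetherianRing A] in
theorem covBy_of_minimal_of_height_lt_two {P r : PrimeSpectrum A}
    (_hP : P.asIdeal ∈ minimalPrimes A) (hPr : P ≤ r) (hne : P ≠ r) (hr : r.asIdeal.height < 2) :
    P ⋖ r := by
  refine ⟨lt_of_le_of_ne hPr hne, fun z hPz hzr => ?_⟩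
  rw [PrimeSpectrum.height_eq_orderHeight] at hr
  have h1 := Order.height_add_one_le hPz
  have h2 := Order.height_add_one_le hzr
  have h3 : (1 : ℕ∞) ≤ Order.height z := le_trans le_add_self h1
  have h4 : (2 : ℕ∞) ≤ Order.height r := by
    refine le_trans ?_ h2
    have : (1 : ℕ∞) + 1 ≤ Order.height z + 1 := by gcongr
    exact le_trans (by norm_num) this
  exact absurd hr (not_lt.mpr h4)

theorem coheight_eq_of_linked (hc : CAlg.IsCatenary A) {P Q : PrimeSpectrum A}
    (h : Linked A 2 P Q) : Order.coheight P = Order.coheight Q := by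
  obtain ⟨hP, hQ, r, hPr, hQr, hr⟩ := h
  have hm : ∀ x : PrimeSpectrum A, x ≤ closedPoint A :=
    fun x => IsLocalRing.le_maximalIdeal x.2.ne_top
  by_cases hPr' : P = r
  · subst hPr'
    have : P ≤ Q := hP.2 ⟨Q.2, bot_le⟩ hQr
    rw [le_antisymm this hQr]
  by_cases hQr' : Q = r
  · subst hQr'
    have : Q ≤ P := hQ.2 ⟨P.2, bot_le⟩ hPr
    rw [le_antisymm this hPr]
  have c1 := coheight_eq_add_one_of_covBy hc.2 (closedPoint A) hm
    (covBy_of_minimal_of_height_lt_two hP hPr hPr' hr) (coheight_lt_top A P)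
  have c2 := coheight_eq_add_one_of_covBy hc.2 (closedPoint A) hm
    (covBy_of_minimal_of_height_lt_two hQ hQr hQr' hr) (coheight_lt_top A Q)
  rw [c1, c2]

omit [IsLocalRing A] [IsNoetherianRing A] in
theorem ringKrullDim_quotient_eq_coheight (p : PrimeSpectrum A) :
    ringKrullDim (A ⧸ p.asIdeal) = (Order.coheight p : WithBot ℕ∞) := by
  rw [ringKrullDim_quotient, Order.coheight_eq_krullDim_Ici]
  have : PrimeSpectrum.zeroLocus (p.asIdeal : Set A) = Set.Ici p := by
    ext x
    rw [PrimeSpectrum.mem_zeroLocus, Set.mem_Ici]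
    rfl
  rw [this]

theorem ringKrullDim_quotient_minimalPrime (hc : CAlg.IsCatenary A)
    (h : ∀ p : PrimeSpectrum A, (2 : ℕ∞) ≤ p.asIdeal.height →
      (2 : ℕ∞) ≤ LocCoh.depth (Localization.AtPrime p.asIdeal) (Localization.AtPrime p.asIdeal))
    (p : Ideal A) (hp : p ∈ minimalPrimes A) : ringKrullDim (A ⧸ p) = ringKrullDim A := by
  have := connectedSpace_of_isLocalRing A
  have hpp : p.IsPrime := hp.1.1
  have hall : ∀ P : PrimeSpectrum A, P.asIdeal ∈ minimalPrimes A →
      Order.coheight P = Order.coheight (⟨p, hpp⟩ : PrimeSpectrum A) := by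
    intro P hP
    have key := reflTransGen_linked A 2 h ⟨p, hpp⟩ P hp hP
    induction key with
    | refl => rfl
    | tail _ hbc ih => rw [← coheight_eq_of_linked hc hbc]; exact ih hbc.1
  rw [ringKrullDim_quotient_eq_coheight ⟨p, hpp⟩, ringKrullDim, Order.krullDim_eq_iSup_coheight]
  refine le_antisymm (le_iSup (fun a : PrimeSpectrum A => (Order.coheight a : WithBot ℕ∞)) _)
    (iSup_le fun a => ?_)
  obtain ⟨p0, hp0, hp0a⟩ := Ideal.exists_minimalPrimes_le (bot_le : (⊥ : Ideal A) ≤ a.asIdeal)
  have h1 : Order.coheight a ≤ Order.coheight (⟨p0, hp0.1.1⟩ : PrimeSpectrum A) :=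
    Order.coheight_anti (show (⟨p0, hp0.1.1⟩ : PrimeSpectrum A) ≤ a from hp0a)
  rw [hall ⟨p0, hp0.1.1⟩ hp0] at h1
  exact_mod_cast h1

omit [IsLocalRing A] [IsNoetherianRing A] in
theorem two_le_depth_of_hasSk (hS : HasSk 2 A A) (P : Ideal A) [P.IsPrime]
    (h2 : (2 : ℕ∞) ≤ P.height) :
    (2 : ℕ∞) ≤ depth (Localization.AtPrime P) (Localization.AtPrime P) := by
  have hSP := hS P
  rw [Depth.supportDim_localizedModule_self, Depth.depth_localizedModule_self] at hSP
  have h4 : (((2 : ℕ∞)) : WithBot ℕ∞) ≤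
      ((depth (Localization.AtPrime P) (Localization.AtPrime P) : ℕ∞) : WithBot ℕ∞) := by
    refine le_trans (le_min ?_ ?_) hSP
    · exact le_rfl
    · exact_mod_cast h2
  exact_mod_cast h4

theorem ringKrullDim_quotient_minimalPrime_of_hasSk (hc : CAlg.IsCatenary A)
    (hS : HasSk 2 A A) (p : Ideal A) (hp : p ∈ minimalPrimes A) :
    ringKrullDim (A ⧸ p) = ringKrullDim A :=
  ringKrullDim_quotient_minimalPrime hc
    (fun q hq => two_le_depth_of_hasSk hS q.asIdeal hq) p hp

end ring

end Groth.Agent.Helper8.Hart
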