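import Mathlib
import Groth.Agent.Lib.Helper8.Hart8

/-!
# Catenary local rings and the dimension function `p ↦ dim A/p`
-/

set_option autoImplicit false
universe u v

namespace Groth.Agent.Helper8.Hart

open RingTheory.Sequence LocCoh Pointwise IsLocalRing

section order

variable {α : Type*} [PartialOrder α]

/-- Along a saturated chain, a function dropping by one at each cover drops by the length. -/
theorem coheight_head_eq_of_saturated
    (hcov : ∀ x y : α, x ⋖ y → Order.coheight x = Order.coheight y + 1)
    (s : LTSeries α) (hs : ∀ i : Fin s.length, s (Fin.castSucc i) ⋖ s (Fin.succ i)) :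
    Order.coheight s.head = Order.coheight s.last + s.length := by
  have key : ∀ i : Fin (s.length + 1),
      Order.coheight s.head = Order.coheight (s i) + (i : ℕ) := by
    intro i
    induction i using Fin.induction with
    | zero => simp [RelSeries.head]
    | succ i ih =>
      rw [ih, hcov _ _ (hs i)]
      simp only [Fin.val_castSucc, Fin.val_succ]
      push_cast
      ring
  have := key (Fin.last s.length)
  simpa [RelSeries.last] using this

end order

variable (A : Type u) [CommRing A] [IsLocalRing A] [IsNoetherianRing A]

theorem isCatenary_iff_dimFun :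
    CAlg.IsCatenary A ↔
      ∀ p q : PrimeSpectrum A, p < q →
        ringKrullDim (A ⧸ q.asIdeal) < ringKrullDim (A ⧸ p.asIdeal) ∧
          (p ⋖ q → ringKrullDim (A ⧸ p.asIdeal) = ringKrullDim (A ⧸ q.asIdeal) + 1) := by
  have hm : ∀ x : PrimeSpectrum A, x ≤ closedPoint A :=
    fun x => IsLocalRing.le_maximalIdeal x.2.ne_top
  constructor
  · intro hc p q hpq
    rw [ringKrullDim_quotient_eq_coheight, ringKrullDim_quotient_eq_coheight]
    refine ⟨?_, fun hcov => ?_⟩
    · exact_mod_cast Order.coheight_strictAnti hpq (coheight_lt_top A q)
    · rw [coheight_eq_add_one_of_covBy hc.2 (closedPoint A) hm hcov (coheight_lt_top A p)]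
      rfl
  · intro h
    have hcov : ∀ x y : PrimeSpectrum A, x ⋖ y → Order.coheight x = Order.coheight y + 1 := by
      intro x y hxy
      have h1 := (h x y hxy.lt).2 hxy
      rw [ringKrullDim_quotient_eq_coheight, ringKrullDim_quotient_eq_coheight] at h1
      exact_mod_cast h1
    refine ⟨fun p q _ => ?_, fun s t h0 hl hs ht => ?_⟩
    · obtain ⟨n, hn⟩ := ENat.ne_top_iff_exists.mp (coheight_lt_top A p).ne
      refine ⟨n, fun s hs0 _ => ?_⟩
      have h1 := Order.length_le_coheight_head (p := s)
      rw [hs0, ← hn] at h1
      exact_mod_cast h1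
    · have e1 := coheight_head_eq_of_saturated hcov s hs
      have e2 := coheight_head_eq_of_saturated hcov t ht
      rw [h0, hl, e2] at e1
      have hfin : Order.coheight t.last ≠ ⊤ := (coheight_lt_top A _).ne
      have h3 := ENat.add_right_injective_of_ne_top hfin e1
      exact_mod_cast h3.symm

end Groth.Agent.Helper8.Hart
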