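import Mathlib
import Groth.Prelude.Def_EGA4b
import Groth.Agent.Lib.Helper8.Hart9
import Groth.Agent.Lib.Helper8.Depth4
import Groth.Agent.Lib.Helper8.Depth30
import Groth.Agent.Lib.Helper8.Depth31
import Groth.Agent.Lib.Helper8.Sk1
import Groth.Agent.Lib.Helper8.ABS11

/-!
# Lifting reducedness, equidimensionality and `(R_k)` from `A/tA` to `A`
-/

set_option autoImplicit false
universe u

namespace Groth.Agent.Helper8.Lift

open LocCoh IsLocalRing

section reduced

variable (A : Type u) [CommRing A] [IsNoetherianRing A]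

/-- If `t` is a nonzerodivisor in the Jacobson radical and `A/tA` is reduced then `A` is reduced. -/
theorem isReduced_of_quotient (t : A) (ht : t ∈ Ideal.jacobson (⊥ : Ideal A))
    (hreg : IsSMulRegular A t) [IsReduced (A ⧸ Ideal.span {t})] : IsReduced A := by
  have hN : (nilradical A : Submodule A A) ≤ (Ideal.span {t}) • (nilradical A : Submodule A A) := by
    intro x hx
    have hx' : IsNilpotent x := mem_nilradical.mp hx
    have h1 : IsNilpotent (Ideal.Quotient.mk (Ideal.span {t}) x) := hx'.map _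
    have h2 : Ideal.Quotient.mk (Ideal.span {t}) x = 0 := h1.eq_zero
    rw [Ideal.Quotient.eq_zero_iff_mem, Ideal.mem_span_singleton'] at h2
    obtain ⟨y, hy⟩ := h2
    have hy' : IsNilpotent y := by
      obtain ⟨n, hn⟩ := hx'
      refine ⟨n, ?_⟩
      rw [← hy, mul_pow] at hn
      have h3 : IsSMulRegular A (t ^ n) := hreg.pow n
      apply h3
      change t ^ n • y ^ n = t ^ n • 0
      rw [smul_eq_mul, smul_zero, mul_comm]
      exact hn
    rw [← hy, mul_comm]
    exact Submodule.smul_mem_smul (Ideal.mem_span_singleton_self t) (mem_nilradical.mpr hy')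
  have h0 : (nilradical A : Submodule A A) = ⊥ :=
    Submodule.eq_bot_of_le_smul_of_le_jacobson_bot (Ideal.span {t}) _
      (IsNoetherian.noetherian _) hN ((Ideal.span_singleton_le_iff_mem _).mpr ht)
  rw [← nilradical_eq_bot_iff]
  exact h0

end reduced

section cover

variable (A : Type u) [CommRing A] [IsNoetherianRing A]

/-- A minimal prime over `P + tA` covers `P` in the spectrum when `t ∉ P`. -/
theorem covBy_of_mem_minimalPrimes_sup_span (P q : PrimeSpectrum A) (t : A) (htP : t ∉ P.asIdeal)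
    (hq : q.asIdeal ∈ (P.asIdeal ⊔ Ideal.span {t}).minimalPrimes) : P ⋖ q := by
  have hPq : P.asIdeal ≤ q.asIdeal := le_sup_left.trans hq.1.2
  have htq : t ∈ q.asIdeal := hq.1.2 (Ideal.mem_sup_right (Ideal.mem_span_singleton_self t))
  have hlt : P < q := by
    refine lt_of_le_of_ne hPq (fun h => htP ?_)
    rw [h]; exact htq
  refine ⟨hlt, fun r hPr hrq => ?_⟩
  have h5 : (q.asIdeal.map (Ideal.Quotient.mk P.asIdeal)).height ≤ 1 :=
    Ideal.map_height_le_one_of_mem_minimalPrimes hq
  haveI := P.2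
  haveI := q.2
  haveI := r.2
  have hr' : (r.asIdeal.map (Ideal.Quotient.mk P.asIdeal)).IsPrime :=
    Ideal.isPrime_map_quotientMk_of_isPrime (le_of_lt hPr)
  have hq' : (q.asIdeal.map (Ideal.Quotient.mk P.asIdeal)).IsPrime :=
    Ideal.isPrime_map_quotientMk_of_isPrime hPq
  have hlt' : r.asIdeal.map (Ideal.Quotient.mk P.asIdeal) <
      q.asIdeal.map (Ideal.Quotient.mk P.asIdeal) := by
    refine lt_of_le_of_ne (Ideal.map_mono (le_of_lt hrq)) (fun h => ?_)
    have h1 := congrArg (Ideal.comap (Ideal.Quotient.mk P.asIdeal)) h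
    rw [Ideal.comap_map_of_surjective _ Ideal.Quotient.mk_surjective,
      Ideal.comap_map_of_surjective _ Ideal.Quotient.mk_surjective,
      ← RingHom.ker_eq_comap_bot, Ideal.mk_ker, sup_eq_left.mpr (le_of_lt hPr),
      sup_eq_left.mpr hPq] at h1
    exact (ne_of_lt hrq) (PrimeSpectrum.ext h1)
  have hne : r.asIdeal.map (Ideal.Quotient.mk P.asIdeal) ≠ ⊥ := by
    intro h
    rw [Ideal.map_eq_bot_iff_le_ker, Ideal.mk_ker] at h
    exact (not_le_of_gt hPr) h
  have h6 := Ideal.height_add_one_le_of_lt_of_isPrime hlt'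
  have h7 : (r.asIdeal.map (Ideal.Quotient.mk P.asIdeal)).height ≠ 0 := by
    rw [Ne, Ideal.height_eq_zero_iff_eq_bot]; exact hne
  have h8 : (1 : ℕ∞) ≤ (r.asIdeal.map (Ideal.Quotient.mk P.asIdeal)).height :=
    Order.one_le_iff_pos.mpr (pos_iff_ne_zero.mpr h7)
  have h9 : (1 : ℕ∞) + 1 ≤ 1 := (add_le_add_left h8 1).trans (h6.trans h5)
  have h10 : ((2 : ℕ) : ℕ∞) ≤ ((1 : ℕ) : ℕ∞) := by
    have : ((2 : ℕ) : ℕ∞) = 1 + 1 := by norm_num
    rw [this]; simpa using h9
  have : (2 : ℕ) ≤ 1 := by exact_mod_cast h10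
  omega

end cover

section minimal

variable (A : Type u) [CommRing A] [IsNoetherianRing A]

theorem minimalPrimes_subset_associatedPrimes_self :
    minimalPrimes A ⊆ associatedPrimes A A := by
  have h := Module.associatedPrimes.minimalPrimes_annihilator_subset_associatedPrimes A A
  have h2 : Module.annihilator A A = ⊥ := by
    rw [eq_bot_iff]
    intro a ha
    have := Module.mem_annihilator.mp ha (1 : A)
    simpa using this
  rw [h2] at h
  exact h

/-- If `A/tA` is reduced, `t` is regular and `p` is a minimal prime of `A`, then every minimal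
prime of `p + tA` is a minimal prime of `tA`. -/
theorem mem_minimalPrimes_span_of_isReduced_quotient (t : A) (hreg : IsSMulRegular A t)
    [IsReduced (A ⧸ Ideal.span {t})] (p : Ideal A) (hp : p ∈ minimalPrimes A) (q : Ideal A)
    (hq : q ∈ (p ⊔ Ideal.span {t}).minimalPrimes) : q ∈ (Ideal.span {t}).minimalPrimes := by
  have hqp : q.IsPrime := hq.1.1
  have htq : Ideal.span {t} ≤ q := le_sup_right.trans hq.1.2
  have h1 : q ∈ associatedPrimes A (QuotSMulTop t A) :=
    Depth.minimalPrimes_sup_span_mem_associatedPrimes A A t hreg p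
      (minimalPrimes_subset_associatedPrimes_self A hp) q hq
  rw [← LinearEquiv.AssociatedPrimes.eq (Depth.quotSpanSingletonSelfEquiv A t)] at h1
  obtain ⟨_, x', hx'⟩ := isAssociatedPrime_iff.mp h1
  have hx0 : x' ≠ 0 := by
    rintro rfl
    have h1 : (1 : A) ∈ q := by
      rw [hx', Submodule.mem_colon_singleton]; simp
    exact hqp.ne_top ((Ideal.eq_top_iff_one _).mpr h1)
  have hnil : x' ∉ nilradical (A ⧸ Ideal.span {t}) := by
    intro h
    exact hx0 (mem_nilradical.mp h).eq_zero
  have hex : ∃ Q ∈ minimalPrimes (A ⧸ Ideal.span {t}), x' ∉ Q := by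
    by_contra hcon
    push Not at hcon
    apply hnil
    rw [nilradical, ← Ideal.sInf_minimalPrimes, Ideal.mem_sInf]
    exact fun Q hQ => hcon Q hQ
  obtain ⟨Q, hQ, hxQ⟩ := hex
  have hQmin : Q.comap (Ideal.Quotient.mk (Ideal.span {t})) ∈ (Ideal.span {t}).minimalPrimes := by
    rw [Ideal.minimalPrimes_eq_comap]
    exact ⟨Q, hQ, rfl⟩
  have hqQ : q ≤ Q.comap (Ideal.Quotient.mk (Ideal.span {t})) := by
    intro a ha
    rw [hx', Submodule.mem_colon_singleton, Submodule.mem_bot] at ha
    rw [Ideal.mem_comap]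
    have h2 : Ideal.Quotient.mk (Ideal.span {t}) a * x' ∈ Q := by
      have : Ideal.Quotient.mk (Ideal.span {t}) a * x' = a • x' := by
        rw [Algebra.smul_def]; rfl
      rw [this, ha]; exact Q.zero_mem
    exact (hQ.1.1.mem_or_mem h2).resolve_right hxQ
  have hQq : Q.comap (Ideal.Quotient.mk (Ideal.span {t})) ≤ q := hQmin.2 ⟨hqp, htq⟩ hqQ
  rw [le_antisymm hqQ hQq]
  exact hQmin

end minimal

section equidim

variable (A : Type u) [CommRing A] [IsNoetherianRing A]

omit [IsNoetherianRing A] in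
/-- `(A/I)/Q ≃ A/(Q ∩ A)`. -/
theorem ringKrullDim_quotient_comap (I : Ideal A) (Q : Ideal (A ⧸ I)) :
    ringKrullDim (A ⧸ Q.comap (Ideal.Quotient.mk I)) = ringKrullDim ((A ⧸ I) ⧸ Q) := by
  set φ : A →+* (A ⧸ I) ⧸ Q := (Ideal.Quotient.mk Q).comp (Ideal.Quotient.mk I) with hφ
  have hsurj : Function.Surjective φ :=
    Ideal.Quotient.mk_surjective.comp Ideal.Quotient.mk_surjective
  have hker : RingHom.ker φ = Q.comap (Ideal.Quotient.mk I) := by
    rw [hφ, ← RingHom.comap_ker, Ideal.mk_ker]
  rw [← hker]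
  exact ringKrullDim_eq_of_ringEquiv (RingHom.quotientKerEquivOfSurjective hsurj)

variable [IsLocalRing A]

theorem isEquidim_of_quotient (hc : CAlg.IsCatenary A) (t : A) (ht : t ∈ maximalIdeal A)
    (hreg : IsSMulRegular A t) [IsReduced (A ⧸ Ideal.span {t})]
    (heq : EGA4.IsEquidim (A ⧸ Ideal.span {t})) : EGA4.IsEquidim A := by
  intro p hp
  have hpp : p.IsPrime := hp.1.1
  have htp : t ∉ p := Depth.notMem_associatedPrime_of_isSMulRegular
    (minimalPrimes_subset_associatedPrimes_self A hp) hreg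
  have hle : p ⊔ Ideal.span {t} ≤ maximalIdeal A :=
    sup_le (le_maximalIdeal hpp.ne_top) ((Ideal.span_singleton_le_iff_mem _).mpr ht)
  have hne : p ⊔ Ideal.span {t} ≠ ⊤ :=
    fun h => (maximalIdeal.isMaximal A).ne_top (top_le_iff.mp (h ▸ hle))
  obtain ⟨q, hqmin⟩ := Ideal.nonempty_minimalPrimes hne
  have hq : q.IsPrime := hqmin.1.1
  have hqt := mem_minimalPrimes_span_of_isReduced_quotient A t hreg p hp q hqmin
  rw [Ideal.minimalPrimes_eq_comap] at hqt
  obtain ⟨Q, hQ, hQq⟩ := hqt
  have h1 := heq Q hQ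
  have h2 := ringKrullDim_quotient_comap A (Ideal.span {t}) Q
  rw [hQq] at h2
  have h3 : ringKrullDim (A ⧸ Ideal.span {t}) + 1 = ringKrullDim A :=
    ringKrullDim_quotient_span_singleton_succ_eq_ringKrullDim hreg ht
  have hcov : (⟨p, hpp⟩ : PrimeSpectrum A) ⋖ ⟨q, hq⟩ :=
    covBy_of_mem_minimalPrimes_sup_span A ⟨p, hpp⟩ ⟨q, hq⟩ t htp hqmin
  have h4 := (((Hart.isCatenary_iff_dimFun A).mp hc) ⟨p, hpp⟩ ⟨q, hq⟩ hcov.lt).2 hcov
  change ringKrullDim (A ⧸ p) = ringKrullDim (A ⧸ q) + 1 at h4
  rw [h4, h2, h1, h3]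

end equidim

section formula

variable (A : Type u) [CommRing A] [IsNoetherianRing A] [IsLocalRing A]

/-- In an equidimensional catenary Noetherian local ring, `dim A/P + ht P = dim A`. -/
theorem coheight_add_height_eq (hc : CAlg.IsCatenary A) (heq : EGA4.IsEquidim A) :
    ∀ (n : ℕ) (P : PrimeSpectrum A), P.asIdeal.height = n →
      ((Order.coheight P + n : ℕ∞) : WithBot ℕ∞) = ringKrullDim A := by
  have hm : ∀ x : PrimeSpectrum A, x ≤ closedPoint A :=
    fun x => IsLocalRing.le_maximalIdeal x.2.ne_top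
  intro n
  induction n with
  | zero =>
    intro P hP
    haveI := P.2
    have h1 : P.asIdeal ∈ minimalPrimes A := Ideal.height_eq_zero_iff.mp (by simpa using hP)
    have h2 := heq P.asIdeal h1
    rw [Hart.ringKrullDim_quotient_eq_coheight] at h2
    rw [← h2]; simp
  | succ n ih =>
    intro P hP
    haveI := P.2
    have h1 : ¬ P.asIdeal.height ≤ (n : ℕ) := by
      rw [hP]
      intro h
      have : n + 1 ≤ n := by exact_mod_cast h
      omega
    rw [Ideal.height_le_iff_covBy] at h1
    push Not at h1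
    obtain ⟨q, hq, hqP, hcov, hqn⟩ := h1
    have h2 : q.height + 1 ≤ P.asIdeal.height := Ideal.height_add_one_le_of_lt_of_isPrime hqP
    rw [hP] at h2
    have h3 : q.height ≤ n := by
      have : q.height + 1 ≤ (n : ℕ∞) + 1 := by exact_mod_cast h2
      exact (ENat.add_le_add_iff_right ENat.one_ne_top).mp this
    have h4 : q.height = n := le_antisymm h3 hqn
    have h5 := ih ⟨q, hq⟩ h4
    have hcov' : (⟨q, hq⟩ : PrimeSpectrum A) ⋖ P := by
      refine ⟨hqP, fun r hqr hrP => ?_⟩
      exact hcov r.asIdeal r.2 hqr hrP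
    have h6 := Hart.coheight_eq_add_one_of_covBy hc.2 (closedPoint A) hm hcov'
      (Hart.coheight_lt_top A _)
    rw [← h5, h6]
    push_cast
    ring

end formula

section regular

variable (A : Type u) [CommRing A] [IsNoetherianRing A]

omit [IsNoetherianRing A] in
/-- Regularity of `A_q` passes to `A_P` for `P ≤ q`. -/
theorem isRegularLocalRing_atPrime_of_le (P q : Ideal A) [P.IsPrime] [q.IsPrime] (hPq : P ≤ q)
    [IsRegularLocalRing (Localization.AtPrime q)] :
    IsRegularLocalRing (Localization.AtPrime P) := by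
  have hdisj : Disjoint (q.primeCompl : Set A) (P : Set A) := by
    rw [Set.disjoint_left]
    intro a ha haP
    exact ha (hPq haP)
  have hprime : (P.map (algebraMap A (Localization.AtPrime q))).IsPrime :=
    IsLocalization.isPrime_of_isPrime_disjoint q.primeCompl _ P inferInstance hdisj
  have hcomap : (P.map (algebraMap A (Localization.AtPrime q))).comap
      (algebraMap A (Localization.AtPrime q)) = P :=
    IsLocalization.under_map_of_isPrime_disjoint q.primeCompl _ inferInstance hdisj
  have key : ∀ (P' : Ideal A) [P'.IsPrime], P' = P →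
      IsRegularLocalRing (Localization.AtPrime P') →
      IsRegularLocalRing (Localization.AtPrime P) := by
    intro P' _ h hreg
    subst h
    exact hreg
  have h1 : IsRegularLocalRing
      (Localization.AtPrime (P.map (algebraMap A (Localization.AtPrime q)))) :=
    ABS.isRegularLocalRing_localization _ _
  exact key _ hcomap (IsRegularLocalRing.of_ringEquiv
    (IsLocalization.localizationLocalizationAtPrimeIsoLocalization q.primeCompl
      (P.map (algebraMap A (Localization.AtPrime q)))).toRingEquiv.symm)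

/-- If `t ∈ q` is regular and the image of `q` in `A/tA` has height at most `k` with `A/tA`
satisfying `(R_k)`, then `A_q` is regular. -/
theorem isRegularLocalRing_of_mem (t : A) (hreg : IsSMulRegular A t) (k : ℕ)
    (hR : HasRk k (A ⧸ Ideal.span {t})) (q : Ideal A) [hq : q.IsPrime]
    (htq : t ∈ q) (hk : q.height ≤ k + 1) :
    IsRegularLocalRing (Localization.AtPrime q) := by
  set I := Ideal.span {t} with hI
  have hIq : I ≤ q := by rw [hI, Ideal.span_singleton_le_iff_mem]; exact htq
  have hQ : (q.map (Ideal.Quotient.mk I)).IsPrime := Ideal.isPrime_map_quotientMk_of_isPrime hIq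
  set Q := q.map (Ideal.Quotient.mk I) with hQdef
  set R := Localization.AtPrime q with hR'
  set x := algebraMap A R t with hxdef
  have hx : x ∈ maximalIdeal R := (IsLocalization.AtPrime.to_map_mem_maximal_iff R q t).mpr htq
  have hxreg : IsSMulRegular R x := IsSMulRegular.of_isLocalization R q.primeCompl hreg
  have hJ : I.map (algebraMap A R) = Ideal.span {x} := by
    rw [hI, Ideal.map_span, Set.image_singleton]
  have hJm : Ideal.span {x} ≤ maximalIdeal R := by
    rw [Ideal.span_singleton_le_iff_mem]; exact hx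
  have : IsLocalRing (R ⧸ Ideal.span {x}) := RLR.isLocalRing_quotient hJm
  let σ0 : Localization.AtPrime Q ≃+* (R ⧸ I.map (algebraMap A R)) := Sk.locQuotEquiv A I q hIq
  let σ : Localization.AtPrime Q ≃+* (R ⧸ Ideal.span {x}) :=
    σ0.trans (Ideal.quotEquivOfEq hJ)
  have h2 := Sk.ringKrullDim_quotient_add_one' R (Ideal.span {x}) x rfl hx hxreg
  have h4 : ringKrullDim (R ⧸ Ideal.span {x}) = (Q.height : WithBot ℕ∞) := by
    rw [← ringKrullDim_eq_of_ringEquiv σ,
      IsLocalization.AtPrime.ringKrullDim_eq_height Q (Localization.AtPrime Q)]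
  have h5 : ringKrullDim R = (q.height : WithBot ℕ∞) :=
    IsLocalization.AtPrime.ringKrullDim_eq_height q R
  rw [h4, h5] at h2
  have h6 : Q.height + 1 = q.height := by exact_mod_cast h2
  have h7 : Q.height ≤ k := by
    rw [← h6] at hk
    exact (ENat.add_le_add_iff_right ENat.one_ne_top).mp hk
  have h8 : IsRegularLocalRing (Localization.AtPrime Q) := hR Q h7
  have h9 : IsRegularLocalRing (R ⧸ Ideal.span {x}) := IsRegularLocalRing.of_ringEquiv σ
  exact RLR.of_quotient_singleton x hx (by
    rw [mem_nonZeroDivisors_iff]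
    refine ⟨fun y hy => ?_, fun y hy => ?_⟩
    · exact hxreg (by simpa [smul_eq_mul] using hy)
    · exact hxreg (by simpa [smul_eq_mul, mul_comm] using hy))

variable [IsLocalRing A]

theorem hasRk_of_quotient (hc : CAlg.IsCatenary A) (heq : EGA4.IsEquidim A) (t : A)
    (ht : t ∈ maximalIdeal A) (hreg : IsSMulRegular A t) (k : ℕ)
    (hR : HasRk k (A ⧸ Ideal.span {t})) : HasRk k A := by
  have hm : ∀ x : PrimeSpectrum A, x ≤ closedPoint A :=
    fun x => IsLocalRing.le_maximalIdeal x.2.ne_top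
  intro P hP hk
  by_cases htP : t ∈ P
  · exact isRegularLocalRing_of_mem A t hreg k hR P htP (hk.trans le_self_add)
  · have hle : P ⊔ Ideal.span {t} ≤ maximalIdeal A :=
      sup_le (le_maximalIdeal hP.ne_top) ((Ideal.span_singleton_le_iff_mem _).mpr ht)
    have hne : P ⊔ Ideal.span {t} ≠ ⊤ :=
      fun h => (maximalIdeal.isMaximal A).ne_top (top_le_iff.mp (h ▸ hle))
    obtain ⟨q, hqmin⟩ := Ideal.nonempty_minimalPrimes hne
    have hq : q.IsPrime := hqmin.1.1
    have hPq : P ≤ q := le_sup_left.trans hqmin.1.2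
    have htq : t ∈ q := hqmin.1.2 (Ideal.mem_sup_right (Ideal.mem_span_singleton_self t))
    have hcov : (⟨P, hP⟩ : PrimeSpectrum A) ⋖ ⟨q, hq⟩ :=
      covBy_of_mem_minimalPrimes_sup_span A ⟨P, hP⟩ ⟨q, hq⟩ t htP hqmin
    have h6 := Hart.coheight_eq_add_one_of_covBy hc.2 (closedPoint A) hm hcov
      (Hart.coheight_lt_top A _)
    obtain ⟨n, hn⟩ := ENat.ne_top_iff_exists.mp (Ideal.height_ne_top_of_isPrime (I := P))
    obtain ⟨n', hn'⟩ := ENat.ne_top_iff_exists.mp (Ideal.height_ne_top_of_isPrime (I := q))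
    have h7 := coheight_add_height_eq A hc heq n ⟨P, hP⟩ hn.symm
    have h8 := coheight_add_height_eq A hc heq n' ⟨q, hq⟩ hn'.symm
    rw [← h8, h6] at h7
    have h9 : Order.coheight (⟨q, hq⟩ : PrimeSpectrum A) + 1 + (n : ℕ∞) =
        Order.coheight (⟨q, hq⟩ : PrimeSpectrum A) + (n' : ℕ∞) := by exact_mod_cast h7
    obtain ⟨c, hc'⟩ := ENat.ne_top_iff_exists.mp (Hart.coheight_lt_top A (⟨q, hq⟩ : PrimeSpectrum A)).ne
    rw [← hc'] at h9
    have h10 : c + 1 + n = c + n' := by exact_mod_cast h9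
    have h11 : n' = n + 1 := by omega
    have h12 : q.height ≤ k + 1 := by
      rw [← hn', h11]
      have : (n : ℕ∞) ≤ k := by rw [hn]; exact hk
      push_cast
      gcongr
    haveI := isRegularLocalRing_of_mem A t hreg k hR q htq h12
    exact isRegularLocalRing_atPrime_of_le A P q hPq

end regular

section main

theorem reduced_equidim_hasRk_of_quotient_regular (k : ℕ) (A : Type u) [CommRing A]
    [IsNoetherianRing A] [IsLocalRing A] (hcat : CAlg.IsCatenary A) (t : A)
    (ht : t ∈ IsLocalRing.maximalIdeal A) (hreg : t ∈ nonZeroDivisors A)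
    [IsReduced (A ⧸ Ideal.span {t})] (heq : EGA4.IsEquidim (A ⧸ Ideal.span {t}))
    (hR : LocCoh.HasRk k (A ⧸ Ideal.span {t})) :
    IsReduced A ∧ EGA4.IsEquidim A ∧ LocCoh.HasRk k A := by
  have hreg' : IsSMulRegular A t := Module.Flat.isSMulRegular_of_nonZeroDivisors hreg
  have hjac : t ∈ Ideal.jacobson (⊥ : Ideal A) := by
    rw [IsLocalRing.jacobson_eq_maximalIdeal ⊥ bot_ne_top]; exact ht
  have h1 := isReduced_of_quotient A t hjac hreg'
  have h2 := isEquidim_of_quotient A hcat t ht hreg' heq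
  exact ⟨h1, h2, hasRk_of_quotient A hcat h2 t ht hreg' k hR⟩

end main

end Groth.Agent.Helper8.Lift
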