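import Mathlib
import Groth.Agent.Lib.Helper8.Lift1

/-!
# Power series rings over regular rings are regular
-/

set_option autoImplicit false
universe u

namespace Groth.Agent.Helper8.RegPS

open LocCoh IsLocalRing

section general

variable (B : Type u) [CommRing B] [IsNoetherianRing B]

theorem hasRk_of_isRegularRing (R : Type u) [CommRing R] [IsRegularRing R] (k : ℕ) : HasRk k R :=
  fun _ _ _ => inferInstance

/-- If `t ∈ q` is regular and `B/tB` is a regular ring, then `B_q` is regular. -/
theorem isRegularLocalRing_of_mem (t : B) (hreg : IsSMulRegular B t)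
    [IsRegularRing (B ⧸ Ideal.span {t})] (q : Ideal B) [hq : q.IsPrime] (htq : t ∈ q) :
    IsRegularLocalRing (Localization.AtPrime q) := by
  obtain ⟨n, hn⟩ := ENat.ne_top_iff_exists.mp (Ideal.height_ne_top_of_isPrime (I := q))
  refine Lift.isRegularLocalRing_of_mem B t hreg n (hasRk_of_isRegularRing _ n) q htq ?_
  rw [← hn]
  exact le_self_add

/-- If `t` is a regular element of the Jacobson radical and `B/tB` is a regular ring, then `B` is
a regular ring. -/
theorem isRegularRing_of_quotient (t : B) (hreg : IsSMulRegular B t)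
    (hjac : t ∈ Ideal.jacobson (⊥ : Ideal B))
    [IsRegularRing (B ⧸ Ideal.span {t})] : IsRegularRing B := by
  refine ⟨fun P hP => ?_⟩
  obtain ⟨m, hm, hPm⟩ := Ideal.exists_le_maximal P hP.ne_top
  have htm : t ∈ m := by
    have h1 : Ideal.jacobson (⊥ : Ideal B) ≤ m := by
      rw [Ideal.jacobson]
      exact sInf_le ⟨bot_le, hm⟩
    exact h1 hjac
  haveI : m.IsPrime := hm.isPrime
  haveI := isRegularLocalRing_of_mem B t hreg m htm
  exact Lift.isRegularLocalRing_atPrime_of_le B P m hPm

end general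

section powerSeries

open PowerSeries

variable (A : Type u) [CommRing A]

theorem X_mem_jacobson_bot : (X : A⟦X⟧) ∈ Ideal.jacobson (⊥ : Ideal A⟦X⟧) := by
  rw [Ideal.mem_jacobson_bot]
  intro y
  rw [PowerSeries.isUnit_iff_constantCoeff]
  simp

theorem isSMulRegular_X : IsSMulRegular A⟦X⟧ (X : A⟦X⟧) := by
  intro a b hab
  exact PowerSeries.X_mul_cancel (by simpa [smul_eq_mul] using hab)

/-- `A⟦X⟧ / (X) ≃ A`. -/
noncomputable def quotientXEquiv : (A⟦X⟧ ⧸ Ideal.span {(X : A⟦X⟧)}) ≃+* A :=
  (Ideal.quotEquivOfEq (by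
    ext f
    rw [RingHom.mem_ker, Ideal.mem_span_singleton, PowerSeries.X_dvd_iff])).trans
    (RingHom.quotientKerEquivOfSurjective
      (f := (constantCoeff : A⟦X⟧ →+* A)) (fun a => ⟨C a, by simp⟩))

instance isRegularRing_powerSeries [IsRegularRing A] : IsRegularRing A⟦X⟧ := by
  haveI : IsRegularRing (A⟦X⟧ ⧸ Ideal.span {(X : A⟦X⟧)}) :=
    IsRegularRing.of_ringEquiv (quotientXEquiv A).symm
  exact isRegularRing_of_quotient A⟦X⟧ X (isSMulRegular_X A) (X_mem_jacobson_bot A)

theorem isRegularRing_mvPowerSeries_fin [IsRegularRing A] (n : ℕ) :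
    IsRegularRing (MvPowerSeries (Fin n) A) := by
  induction n with
  | zero =>
    exact IsRegularRing.of_ringEquiv (MvPowerSeries.isEmptyEquiv (Fin 0) A).toRingEquiv.symm
  | succ n ih =>
    exact IsRegularRing.of_ringEquiv (MvPowerSeries.finSuccEquiv A n).toRingEquiv.symm

end powerSeries

end Groth.Agent.Helper8.RegPS
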