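import Mathlib
import Groth.Agent.Lib.Helper8.RegPS1
import Groth.Agent.Lib.Helper8.ABS11
import Groth.Agent.Lib.Helper8.FinPS2
import Groth.Agent.Lib.Helper8.FlatReg6
import Groth.Agent.Lib.Helper8.RegularLocal4

/-!
# Power series rings over regular local rings; a flatness criterion for maps between them
-/

set_option autoImplicit false

namespace Groth.Agent.Helper8.CohenFact

open IsLocalRing MvPowerSeries

universe u

theorem isRegularRing_of_isRegularLocalRing (W : Type u) [CommRing W] [IsRegularLocalRing W] :
    IsRegularRing W :=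
  isRegularRing_iff.2 fun p _ => ABS.isRegularLocalRing_localization W p

theorem ringKrullDim_add_le_mvPowerSeries_fin (R : Type u) [CommRing R] (n : ℕ) :
    ringKrullDim R + n ≤ ringKrullDim (MvPowerSeries (Fin n) R) := by
  induction n with
  | zero =>
    rw [ringKrullDim_eq_of_ringEquiv (MvPowerSeries.isEmptyEquiv (Fin 0) R).toRingEquiv]
    simp
  | succ n ih =>
    rw [ringKrullDim_eq_of_ringEquiv (MvPowerSeries.finSuccEquiv R n).toRingEquiv]
    refine le_trans ?_ (ringKrullDim_succ_le_ringKrullDim_powerseries
      (R := MvPowerSeries (Fin n) R))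
    push_cast
    rw [← add_assoc]
    gcongr

section reg

variable (W : Type u) [CommRing W] [IsRegularLocalRing W] (n : ℕ)

instance isRegularLocalRing_mvPowerSeries : IsRegularLocalRing (MvPowerSeries (Fin n) W) := by
  haveI := isRegularRing_of_isRegularLocalRing W
  haveI := Groth.Agent.Helper8.RegPS.isRegularRing_mvPowerSeries_fin W n
  exact IsRegularLocalRing.of_isRegularRing_of_isLocalRing _

theorem spanFinrank_maximalIdeal_mvPowerSeries_le :
    (maximalIdeal (MvPowerSeries (Fin n) W)).spanFinrank ≤ (maximalIdeal W).spanFinrank + n := by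
  rw [Groth.Agent.Helper8.FinPS.maximalIdeal_mvPowerSeries_eq_sup]
  refine (RLR.spanFinrank_sup_le ((IsNoetherian.noetherian _)) (IsNoetherian.noetherian _)).trans ?_
  refine add_le_add (Ideal.spanFinrank_map_le_of_fg _ (IsNoetherian.noetherian _)) ?_
  refine (Submodule.spanFinrank_span_le_ncard_of_finite (Set.finite_range _)).trans ?_
  rw [← Set.image_univ]
  refine (Set.ncard_image_le Set.finite_univ).trans ?_
  simp [Set.ncard_univ]

theorem ringKrullDim_mvPowerSeries :
    ringKrullDim (MvPowerSeries (Fin n) W) = ringKrullDim W + n := by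
  apply le_antisymm
  · refine (ringKrullDim_le_spanFinrank_maximalIdeal _).trans ?_
    rw [← IsRegularLocalRing.spanFinrank_maximalIdeal (R := W)]
    exact_mod_cast spanFinrank_maximalIdeal_mvPowerSeries_le W n
  · exact ringKrullDim_add_le_mvPowerSeries_fin W n

end reg

end Groth.Agent.Helper8.CohenFact
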