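import Mathlib
import Groth.Agent.Lib.Helper8.CohenFact1

/-!
# A flatness criterion for maps between power series rings over regular local rings
-/

set_option autoImplicit false

namespace Groth.Agent.Helper8.CohenFact

open IsLocalRing MvPowerSeries

universe u

section core

variable {W W' : Type u} [CommRing W] [CommRing W'] [IsRegularLocalRing W] [IsRegularLocalRing W']
  (hdim : ringKrullDim W = ringKrullDim W') (n m : ℕ)
  (τ : MvPowerSeries (Fin n) W →+* MvPowerSeries (Fin (n + m)) W')
  (hC : (maximalIdeal W).map (τ.comp (C : W →+* MvPowerSeries (Fin n) W)) =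
    (maximalIdeal W').map (C : W' →+* MvPowerSeries (Fin (n + m)) W'))
  (hX : ∀ i, τ (X i) = X (Fin.castAdd m i))

include hC hX in
theorem map_maximalIdeal_eq :
    (maximalIdeal (MvPowerSeries (Fin n) W)).map τ =
      (maximalIdeal W').map (C : W' →+* MvPowerSeries (Fin (n + m)) W') ⊔
        Ideal.span (Set.range fun i : Fin n =>
          (X (Fin.castAdd m i) : MvPowerSeries (Fin (n + m)) W')) := by
  rw [Groth.Agent.Helper8.FinPS.maximalIdeal_mvPowerSeries_eq_sup, Ideal.map_sup, Ideal.map_map,
    hC, Ideal.map_span, ← Set.range_comp]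
  congr 3
  funext i
  exact hX i

theorem maximalIdeal_eq_sup_sup :
    maximalIdeal (MvPowerSeries (Fin (n + m)) W') =
      ((maximalIdeal W').map (C : W' →+* MvPowerSeries (Fin (n + m)) W') ⊔
        Ideal.span (Set.range fun i : Fin n =>
          (X (Fin.castAdd m i) : MvPowerSeries (Fin (n + m)) W'))) ⊔
        Ideal.span (Set.range fun j : Fin m =>
          (X (Fin.natAdd n j) : MvPowerSeries (Fin (n + m)) W')) := by
  rw [Groth.Agent.Helper8.FinPS.maximalIdeal_mvPowerSeries_eq_sup, sup_assoc, ← Ideal.span_union,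
    ← RLR.range_append, Fin.append_castAdd_natAdd]

theorem spanFinrank_span_range_le {R : Type*} [CommRing R] {k : ℕ} (f : Fin k → R) :
    (Ideal.span (Set.range f)).spanFinrank ≤ k := by
  refine (Submodule.spanFinrank_span_le_ncard_of_finite (Set.finite_range _)).trans ?_
  rw [← Set.image_univ]
  refine (Set.ncard_image_le Set.finite_univ).trans ?_
  simp [Set.ncard_univ]

include hdim hC hX in
/-- The quotient by the extended maximal ideal is regular of dimension `m`, and dimensions add. -/
theorem quotient_regular :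
    ∃ _ : IsLocalRing (MvPowerSeries (Fin (n + m)) W' ⧸
        (maximalIdeal (MvPowerSeries (Fin n) W)).map τ),
      IsRegularLocalRing (MvPowerSeries (Fin (n + m)) W' ⧸
        (maximalIdeal (MvPowerSeries (Fin n) W)).map τ) ∧
      ringKrullDim (MvPowerSeries (Fin (n + m)) W') =
        ringKrullDim (MvPowerSeries (Fin n) W) +
          ringKrullDim (MvPowerSeries (Fin (n + m)) W' ⧸
            (maximalIdeal (MvPowerSeries (Fin n) W)).map τ) := by
  classical
  have hJeq := map_maximalIdeal_eq n m τ hC hX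
  have hmS := maximalIdeal_eq_sup_sup (W' := W') n m
  set J : Ideal (MvPowerSeries (Fin (n + m)) W') :=
    (maximalIdeal (MvPowerSeries (Fin n) W)).map τ with hJ
  set Y : Ideal (MvPowerSeries (Fin (n + m)) W') := Ideal.span (Set.range fun j : Fin m =>
          (X (Fin.natAdd n j) : MvPowerSeries (Fin (n + m)) W')) with hY
  rw [← hJeq] at hmS
  have hJle : J ≤ maximalIdeal (MvPowerSeries (Fin (n + m)) W') := by
    rw [hmS]; exact le_sup_left
  set e := (maximalIdeal W').spanFinrank with he
  have hdW' : ringKrullDim W' = (e : WithBot ℕ∞) :=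
    (IsRegularLocalRing.spanFinrank_maximalIdeal (R := W')).symm
  have hdS : ringKrullDim (MvPowerSeries (Fin (n + m)) W') = ((e + (n + m) : ℕ) : WithBot ℕ∞) := by
    rw [ringKrullDim_mvPowerSeries, hdW']; push_cast; rfl
  have hdR : ringKrullDim (MvPowerSeries (Fin n) W) = ((e + n : ℕ) : WithBot ℕ∞) := by
    rw [ringKrullDim_mvPowerSeries, hdim, hdW']; push_cast; rfl
  have hJfr : J.spanFinrank ≤ e + n := by
    rw [hJeq]
    refine (RLR.spanFinrank_sup_le (IsNoetherian.noetherian _) (IsNoetherian.noetherian _)).trans ?_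
    exact add_le_add (Ideal.spanFinrank_map_le_of_fg _ (IsNoetherian.noetherian _))
      (spanFinrank_span_range_le _)
  haveI hloc : IsLocalRing (MvPowerSeries (Fin (n + m)) W' ⧸ J) := RLR.isLocalRing_quotient hJle
  have hmq : maximalIdeal (MvPowerSeries (Fin (n + m)) W' ⧸ J) =
      Y.map (Ideal.Quotient.mk J) := by
    rw [← map_maximalIdeal_of_surjective (Ideal.Quotient.mk J) Ideal.Quotient.mk_surjective, hmS,
      Ideal.map_sup, Ideal.map_quotient_self, bot_sup_eq]
  have hfrq : (maximalIdeal (MvPowerSeries (Fin (n + m)) W' ⧸ J)).spanFinrank ≤ m := by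
    rw [hmq]
    exact (Ideal.spanFinrank_map_le_of_fg _ (IsNoetherian.noetherian _)).trans
      (spanFinrank_span_range_le _)
  have hkrull := ringKrullDim_le_ringKrullDim_quotient_add_spanFinrank J
    (by rw [IsLocalRing.ringJacobson_eq_maximalIdeal]; exact hJle)
  have hle : ringKrullDim (MvPowerSeries (Fin (n + m)) W' ⧸ J) ≤ (m : WithBot ℕ∞) :=
    (ringKrullDim_le_spanFinrank_maximalIdeal _).trans (by exact_mod_cast hfrq)
  obtain ⟨d, hd, hdm⟩ := RLR.exists_nat_eq (ringKrullDim_nonneg_of_nontrivial) hle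
  have hdm' : m ≤ d := by
    rw [hdS, hd] at hkrull
    have h1 : ((e + (n + m) : ℕ) : WithBot ℕ∞) ≤ ((d + (e + n) : ℕ) : WithBot ℕ∞) := by
      refine hkrull.trans ?_
      push_cast
      gcongr
      exact_mod_cast hJfr
    have h2 : e + (n + m) ≤ d + (e + n) := by exact_mod_cast h1
    omega
  have hdeq : d = m := le_antisymm hdm hdm'
  subst hdeq
  refine ⟨hloc, IsRegularLocalRing.of_spanFinrank_maximalIdeal_le _ ?_, ?_⟩
  · rw [hd]; exact_mod_cast hfrq
  · rw [hdS, hdR, hd]; push_cast; ring

include hC hX in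
theorem map_maximalIdeal_le :
    (maximalIdeal (MvPowerSeries (Fin n) W)).map τ ≤
      maximalIdeal (MvPowerSeries (Fin (n + m)) W') := by
  rw [map_maximalIdeal_eq n m τ hC hX, maximalIdeal_eq_sup_sup (W' := W') n m]
  exact le_sup_left

include hdim hC hX in
/-- The map `τ` is flat with regular closed fibre. -/
theorem flat_and_isRegularRing :
    τ.Flat ∧ IsRegularRing (MvPowerSeries (Fin (n + m)) W' ⧸
        (maximalIdeal (MvPowerSeries (Fin n) W)).map τ) := by
  obtain ⟨hloc, hreg, hd⟩ := quotient_regular hdim n m τ hC hX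
  refine ⟨?_, isRegularRing_of_isRegularLocalRing _⟩
  letI : Algebra (MvPowerSeries (Fin n) W) (MvPowerSeries (Fin (n + m)) W') := τ.toAlgebra
  haveI : IsLocalHom (algebraMap (MvPowerSeries (Fin n) W) (MvPowerSeries (Fin (n + m)) W')) :=
    ((local_hom_TFAE τ).out 0 2).mpr (map_maximalIdeal_le n m τ hC hX)
  haveI := Groth.Agent.Helper8.FlatReg.isCohenMacaulayLocalRing_of_isRegularLocalRing
    (MvPowerSeries (Fin (n + m)) W')
  exact Groth.Agent.Helper8.FlatReg.miracle_flatness hd

end core

end Groth.Agent.Helper8.CohenFact
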