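import Mathlib
import Groth.Agent.Lib.Helper8.CohenLift2
import Groth.Agent.Lib.Helper8.ColimLoc2

/-!
# Lifting homomorphisms along a quotient of a complete Noetherian local ring
(EGA 0_IV 19.8.6 (i)), abstract form
-/

set_option autoImplicit false

namespace Groth.Agent.Helper8.CohenLift

open IsLocalRing Ideal.Quotient

universe u v

section gen

variable (W : Type u) [CommRing W] {C : Type v} [CommRing C] (m : Ideal C)

/-- The lifting property of `W` with respect to the thickenings `C ⧸ m^(n+2) → C ⧸ 𝔟` with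
`m^(n+2) ≤ 𝔟 ≤ m^(n+1)`. -/
def LiftProp : Prop :=
  ∀ (n : ℕ) (𝔟 : Ideal C) (h1 : m ^ (n + 1 + 1) ≤ 𝔟) (_ : 𝔟 ≤ m ^ (n + 1)) (g : W →+* C ⧸ 𝔟),
    ∃ g' : W →+* C ⧸ m ^ (n + 1 + 1), (factor h1).comp g' = g

variable {W m}
variable (J : Ideal C) (u : W →+* C ⧸ J)

/-- The invariant of the `n`-th approximation: it is compatible with `u` modulo `J + m^(n+1)`. -/
def Inv (n : ℕ) (v : W →+* C ⧸ m ^ (n + 1)) : Prop :=
  (factor (le_sup_right : m ^ (n + 1) ≤ J ⊔ m ^ (n + 1))).comp v =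
    (factor (le_sup_left : J ≤ J ⊔ m ^ (n + 1))).comp u

/-- Gluing a map to `C ⧸ m^(n+1)` and the map `u`, compatible modulo `J + m^(n+1)`, to a map to
`C ⧸ (m^(n+1) ⊓ (J ⊔ m^(n+2)))`. -/
theorem exists_glue (n : ℕ) (v : W →+* C ⧸ m ^ (n + 1)) (hv : Inv J u n v) :
    ∃ w : W →+* C ⧸ (m ^ (n + 1) ⊓ (J ⊔ m ^ (n + 1 + 1))),
      (factor (inf_le_left : m ^ (n + 1) ⊓ (J ⊔ m ^ (n + 1 + 1)) ≤ m ^ (n + 1))).comp w = v ∧
      (factor (inf_le_right : m ^ (n + 1) ⊓ (J ⊔ m ^ (n + 1 + 1)) ≤ J ⊔ m ^ (n + 1 + 1))).comp w =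
        (factor (le_sup_left : J ≤ J ⊔ m ^ (n + 1 + 1))).comp u := by
  set 𝔟 : Ideal C := m ^ (n + 1) ⊓ (J ⊔ m ^ (n + 1 + 1)) with h𝔟
  let ρ₁ : C ⧸ 𝔟 →+* C ⧸ m ^ (n + 1) := factor inf_le_left
  let ρ₂ : C ⧸ 𝔟 →+* C ⧸ (J ⊔ m ^ (n + 1 + 1)) := factor inf_le_right
  let ι : C ⧸ 𝔟 →+* (C ⧸ m ^ (n + 1)) × (C ⧸ (J ⊔ m ^ (n + 1 + 1))) := ρ₁.prod ρ₂
  have hι : Function.Injective ι := by
    rw [injective_iff_map_eq_zero]
    intro y hy
    obtain ⟨c, rfl⟩ := Ideal.Quotient.mk_surjective y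
    have h1 : ρ₁ (Ideal.Quotient.mk 𝔟 c) = 0 := congrArg Prod.fst hy
    have h2 : ρ₂ (Ideal.Quotient.mk 𝔟 c) = 0 := congrArg Prod.snd hy
    rw [Ideal.Quotient.eq_zero_iff_mem]
    exact ⟨Ideal.Quotient.eq_zero_iff_mem.1 h1, Ideal.Quotient.eq_zero_iff_mem.1 h2⟩
  let h : W →+* (C ⧸ m ^ (n + 1)) × (C ⧸ (J ⊔ m ^ (n + 1 + 1))) :=
    v.prod ((factor (le_sup_left : J ≤ J ⊔ m ^ (n + 1 + 1))).comp u)
  have hmem : ∀ x : W, ∃ y : C ⧸ 𝔟, ι y = h x := by
    intro x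
    obtain ⟨a, ha⟩ := Ideal.Quotient.mk_surjective (v x)
    obtain ⟨b, hb⟩ := Ideal.Quotient.mk_surjective (u x)
    have hab : a - b ∈ J ⊔ m ^ (n + 1) := by
      have h0 := RingHom.congr_fun hv x
      rw [RingHom.comp_apply, RingHom.comp_apply, ← ha, ← hb, factor_mk, factor_mk,
        Ideal.Quotient.eq] at h0
      exact h0
    obtain ⟨j, hj, μ, hμ, hjμ⟩ := Submodule.mem_sup.1 hab
    refine ⟨Ideal.Quotient.mk 𝔟 (b + j), Prod.ext ?_ ?_⟩
    · show Ideal.Quotient.mk (m ^ (n + 1)) (b + j) = v x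
      rw [← ha, Ideal.Quotient.eq]
      have : b + j - a = -μ := by
        have h3 : a = j + μ + b := by rw [hjμ]; ring
        rw [h3]; ring
      rw [this]
      exact (m ^ (n + 1)).neg_mem hμ
    · show Ideal.Quotient.mk (J ⊔ m ^ (n + 1 + 1)) (b + j) =
        (factor (le_sup_left : J ≤ J ⊔ m ^ (n + 1 + 1))) (u x)
      rw [← hb, factor_mk, Ideal.Quotient.eq]
      have : b + j - b = j := by ring
      rw [this]
      exact Ideal.mem_sup_left hj
  choose w0 hw0 using hmem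
  have hw0_add : ∀ x y, w0 (x + y) = w0 x + w0 y := fun x y => hι (by
    rw [map_add, hw0, hw0, hw0, map_add])
  have hw0_mul : ∀ x y, w0 (x * y) = w0 x * w0 y := fun x y => hι (by
    rw [map_mul, hw0, hw0, hw0, map_mul])
  have hw0_one : w0 1 = 1 := hι (by rw [hw0, map_one, map_one])
  have hw0_zero : w0 0 = 0 := hι (by rw [hw0, map_zero, map_zero])
  let w : W →+* C ⧸ 𝔟 :=
    { toFun := w0, map_one' := hw0_one, map_mul' := hw0_mul, map_zero' := hw0_zero,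
      map_add' := hw0_add }
  refine ⟨w, ?_, ?_⟩
  · ext x
    exact congrArg Prod.fst (hw0 x)
  · ext x
    exact congrArg Prod.snd (hw0 x)

/-- One step of the tower. -/
theorem exists_step_inv (hLP : LiftProp W m) (n : ℕ) (v : W →+* C ⧸ m ^ (n + 1))
    (hv : Inv J u n v) :
    ∃ v' : W →+* C ⧸ m ^ (n + 1 + 1), Inv J u (n + 1) v' ∧
      (factorPow m (Nat.le_succ (n + 1))).comp v' = v := by
  obtain ⟨w, hw1, hw2⟩ := exists_glue J u n v hv
  have h1 : m ^ (n + 1 + 1) ≤ m ^ (n + 1) ⊓ (J ⊔ m ^ (n + 1 + 1)) :=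
    le_inf (Ideal.pow_le_pow_right (Nat.le_succ _)) le_sup_right
  obtain ⟨v', hv'⟩ := hLP n _ h1 inf_le_left w
  refine ⟨v', ?_, ?_⟩
  · unfold Inv
    rw [← hw2, ← hv', ← RingHom.comp_assoc, factor_comp]
  · rw [← hw1, ← hv', ← RingHom.comp_assoc, factor_comp]

end gen

section main

variable {W : Type u} [CommRing W] {C : Type v} [CommRing C] [IsLocalRing C]
  [IsNoetherianRing C] [IsAdicComplete (maximalIdeal C) C]
  (J : Ideal C) (hJ : J ≠ ⊤) (u : W →+* C ⧸ J) (hLP : LiftProp W (maximalIdeal C))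

/-- The sequence of approximations. -/
noncomputable def seqInv (v0 : {v : W →+* C ⧸ maximalIdeal C ^ (0 + 1) // Inv J u 0 v}) :
    (n : ℕ) → {v : W →+* C ⧸ maximalIdeal C ^ (n + 1) // Inv J u n v}
  | 0 => v0
  | n + 1 => ⟨Classical.choose (exists_step_inv J u hLP n (seqInv v0 n).1 (seqInv v0 n).2),
      (Classical.choose_spec (exists_step_inv J u hLP n (seqInv v0 n).1 (seqInv v0 n).2)).1⟩

omit [IsNoetherianRing C] [IsAdicComplete (maximalIdeal C) C] in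
theorem seqInv_succ (v0 : {v : W →+* C ⧸ maximalIdeal C ^ (0 + 1) // Inv J u 0 v}) (n : ℕ) :
    (factorPow (maximalIdeal C) (Nat.le_succ (n + 1))).comp (seqInv J u hLP v0 (n + 1)).1 =
      (seqInv J u hLP v0 n).1 :=
  (Classical.choose_spec (exists_step_inv J u hLP n (seqInv J u hLP v0 n).1
    (seqInv J u hLP v0 n).2)).2

include hJ hLP in
/-- Lifting along `C → C ⧸ J` for a complete Noetherian local ring `C`. -/
theorem exists_lift_quotient : ∃ v : W →+* C, (Ideal.Quotient.mk J).comp v = u := by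
  have hJm : J ≤ maximalIdeal C := IsLocalRing.le_maximalIdeal hJ
  have hJm1 : J ≤ maximalIdeal C ^ (0 + 1) := by rw [zero_add, pow_one]; exact hJm
  let v0 : {v : W →+* C ⧸ maximalIdeal C ^ (0 + 1) // Inv J u 0 v} :=
    ⟨(factor hJm1).comp u, by
      unfold Inv
      rw [← RingHom.comp_assoc, factor_comp]⟩
  have ha : StrictMono (fun n : ℕ => n + 1) := fun a b h => Nat.succ_lt_succ h
  let v := IsAdicComplete.StrictMono.liftRingHom (maximalIdeal C) ha
    (fun n => (seqInv J u hLP v0 n).1) (fun {k} => seqInv_succ J u hLP v0 k)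
  refine ⟨v, ?_⟩
  ext x
  obtain ⟨b, hb⟩ := Ideal.Quotient.mk_surjective (u x)
  rw [RingHom.comp_apply, ← hb, Ideal.Quotient.eq]
  apply Groth.Agent.Helper8.ColimLoc.mem_of_forall_mem_sup_pow
  intro n
  rcases n with _ | n
  · rw [pow_zero, Ideal.one_eq_top, sup_top_eq]; trivial
  · have h1 : Ideal.Quotient.mk (maximalIdeal C ^ (n + 1)) (v x) = (seqInv J u hLP v0 n).1 x :=
      IsAdicComplete.StrictMono.mk_liftRingHom (maximalIdeal C) ha
        (fun n => (seqInv J u hLP v0 n).1) (fun {k} => seqInv_succ J u hLP v0 k) (n := n) x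
    have h2 := RingHom.congr_fun (seqInv J u hLP v0 n).2 x
    rw [RingHom.comp_apply, RingHom.comp_apply, ← h1, ← hb, factor_mk, factor_mk,
      Ideal.Quotient.eq] at h2
    exact h2

end main

end Groth.Agent.Helper8.CohenLift
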