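import Mathlib
import Groth.Agent.Lib.Helper8.CohenLift3
import Groth.Agent.Lib.Helper2.SepPerfect

/-!
# The lifting property for Cohen rings and for fields of characteristic zero
-/

set_option autoImplicit false

namespace Groth.Agent.Helper8.CohenLift

open IsLocalRing Ideal.Quotient

universe u v

theorem isNilpotent_ker_factor {C : Type v} [CommRing C] (m : Ideal C) (n : ℕ) (𝔟 : Ideal C)
    (h1 : m ^ (n + 1 + 1) ≤ 𝔟) (h2 : 𝔟 ≤ m ^ (n + 1)) :
    IsNilpotent (RingHom.ker (factor h1)) := by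
  refine ⟨2, ?_⟩
  rw [Ideal.Quotient.factor_ker, ← Ideal.map_pow, Ideal.zero_eq_bot, Ideal.map_eq_bot_iff_le_ker,
    Ideal.mk_ker]
  calc 𝔟 ^ 2 ≤ (m ^ (n + 1)) ^ 2 := Ideal.pow_right_mono h2 2
    _ = m ^ ((n + 1) * 2) := (pow_mul _ _ _).symm
    _ ≤ m ^ (n + 1 + 1) := Ideal.pow_le_pow_right (by omega)

/-- The lifting property for a Cohen ring. -/
theorem liftProp_of_cohen (Λ : Type u) [CommRing Λ] [IsDomain Λ] [IsDiscreteValuationRing Λ]
    [IsAdicComplete (maximalIdeal Λ) Λ] (p : ℕ) (hp : p.Prime)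
    (hm : maximalIdeal Λ = Ideal.span {(p : Λ)})
    {C : Type v} [CommRing C] (m : Ideal C) (hpm : (p : C) ∈ m) : LiftProp Λ m := by
  intro n 𝔟 h1 h2 g
  refine exists_lift_of_nilpotent Λ p hp hm (factor h1) (factor_surjective h1)
    (isNilpotent_ker_factor m n 𝔟 h1 h2) (n + 1 + 1) (by omega) ?_ g
  rw [← map_natCast (Ideal.Quotient.mk (m ^ (n + 1 + 1))), ← map_pow,
    Ideal.Quotient.eq_zero_iff_mem]
  exact Ideal.pow_mem_pow hpm _

/-- A field of characteristic zero is formally smooth over the integers. -/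
theorem formallySmooth_int_of_charZero (W : Type u) [Field W] [CharZero W] :
    Algebra.FormallySmooth ℤ W := by
  haveI : Algebra.FormallySmooth ℚ W := Groth.Agent.Helper2.Sep.formallySmooth_of_charZero ℚ W
  haveI : Algebra.FormallySmooth ℤ ℚ := Algebra.FormallySmooth.of_isLocalization (nonZeroDivisors ℤ)
  exact Algebra.FormallySmooth.comp ℤ ℚ W

/-- The lifting property for a field of characteristic zero. -/
theorem liftProp_of_charZero (W : Type u) [Field W] [CharZero W]
    {C : Type v} [CommRing C] (m : Ideal C) : LiftProp W m := by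
  intro n 𝔟 h1 h2 g
  haveI := formallySmooth_int_of_charZero W
  let G : (C ⧸ m ^ (n + 1 + 1)) →ₐ[ℤ] (C ⧸ 𝔟) := (factor h1).toIntAlgHom
  have hsurj : Function.Surjective G := factor_surjective h1
  have hnil : IsNilpotent (RingHom.ker (G : (C ⧸ m ^ (n + 1 + 1)) →+* (C ⧸ 𝔟))) :=
    isNilpotent_ker_factor m n 𝔟 h1 h2
  let L := Algebra.FormallySmooth.liftOfSurjective g.toIntAlgHom G hsurj hnil
  refine ⟨L.toRingHom, ?_⟩
  ext a
  exact Algebra.FormallySmooth.liftOfSurjective_apply g.toIntAlgHom G hsurj hnil a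

end Groth.Agent.Helper8.CohenLift
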