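import Mathlib

/-!
# Power series in finitely many variables: evaluation at nilpotent elements, and a criterion
for the equality of two homomorphisms
-/

set_option autoImplicit false

namespace Groth.Agent.Helper8.PSeries

open MvPowerSeries

universe u v w

section decomp

variable {σ : Type u} {R : Type v} [CommRing R]

/-- A power series all of whose monomials have some exponent (with index in `s`) at least `k`
lies in the ideal generated by the `k`-th powers of the variables in `s`. -/
theorem mem_span_X_pow [DecidableEq σ] (k : ℕ) (s : Finset σ) :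
    ∀ f : MvPowerSeries σ R, (∀ e : σ →₀ ℕ, (∀ i ∈ s, e i < k) → coeff e f = 0) →
      f ∈ Ideal.span ((fun i => (X i : MvPowerSeries σ R) ^ k) '' (s : Set σ)) := by
  classical
  induction s using Finset.induction_on with
  | empty =>
    intro f hf
    have : f = 0 := by
      ext e
      rw [hf e (fun i hi => absurd hi (Finset.notMem_empty i)), map_zero]
    rw [this]
    exact Ideal.zero_mem _
  | insert a t hat ih =>
    intro f hf
    let f₁ : MvPowerSeries σ R := fun e => if k ≤ e a then coeff e f else 0
    let f₂ : MvPowerSeries σ R := fun e => if k ≤ e a then 0 else coeff e f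
    have hsum : f = f₁ + f₂ := by
      ext e
      rw [map_add]
      show coeff e f = (if k ≤ e a then coeff e f else 0) + (if k ≤ e a then 0 else coeff e f)
      split_ifs <;> simp
    have h1 : (X a : MvPowerSeries σ R) ^ k ∣ f₁ := by
      rw [X_pow_dvd_iff]
      intro m hm
      show (if k ≤ m a then coeff m f else 0) = 0
      rw [if_neg (by omega)]
    have h2 : f₂ ∈ Ideal.span ((fun i => (X i : MvPowerSeries σ R) ^ k) '' (t : Set σ)) := by
      apply ih
      intro e he
      show (if k ≤ e a then 0 else coeff e f) = 0
      split_ifs with h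
      · rfl
      · apply hf
        intro i hi
        rcases Finset.mem_insert.1 hi with rfl | hi
        · omega
        · exact he i hi
    rw [hsum]
    refine Ideal.add_mem _ ?_ ?_
    · obtain ⟨g, hg⟩ := h1
      rw [hg]
      refine Ideal.mul_mem_right _ _ (Ideal.subset_span ⟨a, ?_, rfl⟩)
      exact Finset.mem_coe.2 (Finset.mem_insert_self a t)
    · refine Ideal.span_mono ?_ h2
      apply Set.image_mono
      intro i hi
      exact Finset.mem_coe.2 (Finset.mem_insert_of_mem (Finset.mem_coe.1 hi))

end decomp

section ext

variable {σ : Type u} [Fintype σ] {R : Type v} [CommRing R] {B : Type w} [CommRing B]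

/-- Two ring homomorphisms out of a power series ring in finitely many variables which agree on
the constants and on the variables, and which both kill the `N`-th powers of the variables,
are equal. -/
theorem ringHom_ext_of_X_pow (φ₁ φ₂ : MvPowerSeries σ R →+* B) (N : ℕ)
    (hC : ∀ r, φ₁ (C r) = φ₂ (C r)) (hX : ∀ i, φ₁ (X i) = φ₂ (X i))
    (h1 : ∀ i, φ₁ (X i) ^ N = 0) : φ₁ = φ₂ := by
  classical
  have h2 : ∀ i, φ₂ (X i) ^ N = 0 := fun i => by rw [← hX]; exact h1 i
  -- the two maps agree on polynomials
  have hpoly : φ₁.comp (MvPolynomial.coeToMvPowerSeries.ringHom) =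
      φ₂.comp (MvPolynomial.coeToMvPowerSeries.ringHom) := by
    apply MvPolynomial.ringHom_ext
    · intro r
      simp only [RingHom.comp_apply, MvPolynomial.coeToMvPowerSeries.ringHom_apply,
        MvPolynomial.coe_C]
      exact hC r
    · intro i
      simp only [RingHom.comp_apply, MvPolynomial.coeToMvPowerSeries.ringHom_apply,
        MvPolynomial.coe_X]
      exact hX i
  -- both maps kill the ideal generated by the `N`-th powers of the variables
  have hker : ∀ (φ : MvPowerSeries σ R →+* B), (∀ i, φ (X i) ^ N = 0) →
      Ideal.span ((fun i => (X i : MvPowerSeries σ R) ^ N) '' ((Finset.univ : Finset σ) : Set σ))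
        ≤ RingHom.ker φ := by
    intro φ hφ
    rw [Ideal.span_le]
    rintro _ ⟨i, -, rfl⟩
    show φ (X i ^ N) = 0
    rw [map_pow]; exact hφ i
  ext f
  -- the truncation of `f`
  let d : σ →₀ ℕ := Finsupp.equivFunOnFinite.symm (fun _ => N)
  let q : MvPolynomial σ R := trunc' R d f
  have hmem : f - (q : MvPowerSeries σ R) ∈
      Ideal.span ((fun i => (X i : MvPowerSeries σ R) ^ N) '' ((Finset.univ : Finset σ) : Set σ)) := by
    apply mem_span_X_pow
    intro e he
    have hle : e ≤ d := by
      intro i
      have := he i (Finset.mem_univ i)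
      show e i ≤ N
      omega
    rw [map_sub, MvPolynomial.coeff_coe, coeff_trunc', if_pos hle, sub_self]
  have e1 : φ₁ f = φ₁ (q : MvPowerSeries σ R) := by
    have := hker φ₁ h1 hmem
    rw [RingHom.mem_ker, map_sub, sub_eq_zero] at this
    exact this
  have e2 : φ₂ f = φ₂ (q : MvPowerSeries σ R) := by
    have := hker φ₂ h2 hmem
    rw [RingHom.mem_ker, map_sub, sub_eq_zero] at this
    exact this
  rw [e1, e2]
  exact RingHom.congr_fun hpoly q

end ext

section eval

variable {σ : Type u} [Finite σ] {W : Type v} [CommRing W] {A : Type w} [CommRing A]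

/-- Evaluation of power series in finitely many variables at nilpotent elements. -/
theorem exists_eval_nilpotent (g : W →+* A) (a : σ → A) (ha : ∀ i, IsNilpotent (a i)) :
    ∃ χ : MvPowerSeries σ W →+* A, (∀ r, χ (C r) = g r) ∧ ∀ i, χ (X i) = a i := by
  let _ : UniformSpace W := ⊥
  let _ : UniformSpace A := ⊥
  have hev : MvPowerSeries.HasEval a :=
    ⟨fun i => by
      obtain ⟨n, hn⟩ := ha i
      unfold IsTopologicallyNilpotent
      apply tendsto_atTop_of_eventually_const (i₀ := n)
      intro m hm
      exact pow_eq_zero_of_le hm hn, by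
      rw [Filter.cofinite_eq_bot]; exact Filter.tendsto_bot⟩
  have hg : Continuous g := continuous_of_discreteTopology
  refine ⟨MvPowerSeries.eval₂Hom hg hev, fun r => ?_, fun i => ?_⟩
  · rw [MvPowerSeries.coe_eval₂Hom, MvPowerSeries.eval₂_C]
  · rw [MvPowerSeries.coe_eval₂Hom, MvPowerSeries.eval₂_X]

end eval

end Groth.Agent.Helper8.PSeries
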