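import Mathlib
import Groth.Agent.Lib.Helper8.CohenFact2
import Groth.Agent.Lib.Helper8.CohenLift4
import Groth.Agent.Lib.Helper8.CoeffField2
import Groth.Agent.Lib.Helper8.PSeries1
import Groth.Agent.Lib.Helper3.SchlO

/-!
# Cohen factorizations of local homomorphisms of complete Noetherian local rings
-/

set_option autoImplicit false

namespace Groth.Agent.Helper8.CohenFact

open IsLocalRing MvPowerSeries

universe u

/-- Two ring homomorphisms from a power series ring in finitely many variables to a ring which is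
Hausdorff for the `I`-adic topology, agreeing on constants and variables and mapping the variables
into `I`, are equal. -/
theorem ringHom_ext_of_hausdorff {σ : Type*} [Fintype σ] {W B : Type*} [CommRing W] [CommRing B]
    (I : Ideal B) [IsHausdorff I B] (φ₁ φ₂ : MvPowerSeries σ W →+* B)
    (hC : ∀ r, φ₁ (C r) = φ₂ (C r)) (hX : ∀ i, φ₁ (X i) = φ₂ (X i))
    (h1 : ∀ i, φ₁ (X i) ∈ I) : φ₁ = φ₂ := by
  ext f
  rw [← sub_eq_zero]
  apply IsHausdorff.haus' (I := I)
  intro N
  rw [SModEq.zero, smul_eq_mul, Ideal.mul_top]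
  have h2 : (Ideal.Quotient.mk (I ^ N)).comp φ₁ = (Ideal.Quotient.mk (I ^ N)).comp φ₂ := by
    apply Groth.Agent.Helper8.PSeries.ringHom_ext_of_X_pow _ _ N
    · intro r; rw [RingHom.comp_apply, RingHom.comp_apply, hC]
    · intro i; rw [RingHom.comp_apply, RingHom.comp_apply, hX]
    · intro i
      rw [RingHom.comp_apply, ← map_pow, Ideal.Quotient.eq_zero_iff_mem]
      exact Ideal.pow_mem_pow (h1 i) N
  have h3 := RingHom.congr_fun h2 f
  rw [RingHom.comp_apply, RingHom.comp_apply] at h3
  exact Ideal.Quotient.eq.1 h3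

/-- Surjectivity criterion for a map from a power series ring to a complete local ring. -/
theorem surjective_of_generators {W R : Type*} [CommRing W] [CommRing R] [IsLocalRing R]
    [IsAdicComplete (maximalIdeal R) R] (d : ℕ) (ψ : MvPowerSeries (Fin d) W →+* R)
    (hres : Function.Surjective ((residue R).comp (ψ.comp C)))
    (hX : Ideal.span (Set.range fun i => ψ (X i)) = maximalIdeal R) : Function.Surjective ψ := by
  have hmap : (Ideal.span (Set.range (MvPowerSeries.X : Fin d → MvPowerSeries (Fin d) W))).map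
      ψ = maximalIdeal R := by
    rw [Ideal.map_span, ← Set.range_comp]
    exact hX
  haveI : IsHausdorff ((Ideal.span (Set.range
      (MvPowerSeries.X : Fin d → MvPowerSeries (Fin d) W))).map ψ) R := by
    rw [hmap]; infer_instance
  apply surjective_of_mk_map_comp_surjective ψ
    (I := Ideal.span (Set.range (MvPowerSeries.X : Fin d → MvPowerSeries (Fin d) W)))
  intro y
  obtain ⟨r, rfl⟩ := Ideal.Quotient.mk_surjective y
  obtain ⟨w, hw⟩ := hres (residue R r)
  refine ⟨MvPowerSeries.C w, ?_⟩
  rw [RingHom.comp_apply, Ideal.Quotient.eq, hmap]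
  have h2 : residue R (ψ (C w) - r) = 0 := by
    rw [map_sub, ← hw]
    simp
  exact (residue_eq_zero_iff _).1 h2

theorem X_mem_maximalIdeal {σ : Type*} [Finite σ] {W : Type*} [CommRing W] [IsLocalRing W] (i : σ) :
    (X i : MvPowerSeries σ W) ∈ maximalIdeal (MvPowerSeries σ W) := by
  rw [Groth.Agent.Helper8.FinPS.maximalIdeal_mvPowerSeries_eq_sup]
  exact Ideal.mem_sup_right (Ideal.subset_span ⟨i, rfl⟩)

section fact

variable {A B : Type u} [CommRing A] [CommRing B] [IsLocalRing A] [IsLocalRing B]
  [IsNoetherianRing A] [IsNoetherianRing B] [IsAdicComplete (maximalIdeal A) A]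
  [IsAdicComplete (maximalIdeal B) B] [Algebra A B] [IsLocalHom (algebraMap A B)]
  (W W' : Type u) [CommRing W] [CommRing W'] [IsRegularLocalRing W] [IsRegularLocalRing W']
  [IsAdicComplete (maximalIdeal W') W']
  (hdim : ringKrullDim W = ringKrullDim W') (π : ℕ)
  (hπ : maximalIdeal W = Ideal.span {(π : W)}) (hπ' : maximalIdeal W' = Ideal.span {(π : W')})
  (hLP : ∀ N : ℕ, CohenLift.LiftProp W (maximalIdeal (MvPowerSeries (Fin N) W')))
  (φ : W →+* A) (hφ : Function.Surjective ((residue A).comp φ))
  (φ' : W' →+* B) (hφ' : Function.Surjective ((residue B).comp φ'))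

include hdim hπ hπ' hLP hφ hφ' in
/-- Cohen factorization. -/
theorem exists_factorization :
    ∃ (n m : ℕ) (ρ : MvPowerSeries (Fin n) W →+* A) (σ : MvPowerSeries (Fin (n + m)) W' →+* B)
      (τ : MvPowerSeries (Fin n) W →+* MvPowerSeries (Fin (n + m)) W'),
      Function.Surjective ρ ∧ Function.Surjective σ ∧ σ.comp τ = (algebraMap A B).comp ρ ∧
        τ.Flat ∧ IsRegularRing (MvPowerSeries (Fin (n + m)) W' ⧸
          (maximalIdeal (MvPowerSeries (Fin n) W)).map τ) := by
  classical
  obtain ⟨n, b, hb⟩ := Submodule.fg_iff_exists_fin_generating_family.1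
    (IsNoetherian.noetherian (maximalIdeal A))
  obtain ⟨m, c, hc⟩ := Submodule.fg_iff_exists_fin_generating_family.1
    (IsNoetherian.noetherian (maximalIdeal B))
  have hbm : ∀ i, b i ∈ maximalIdeal A := fun i => by
    rw [← hb]; exact Submodule.subset_span ⟨i, rfl⟩
  have hcm : ∀ j, c j ∈ maximalIdeal B := fun j => by
    rw [← hc]; exact Submodule.subset_span ⟨j, rfl⟩
  obtain ⟨ρ, hρC, hρX⟩ := Groth.Agent.Helper8.CoeffField.exists_ringHom_eval φ n b hbm
  have hρ : Function.Surjective ρ := by
    apply surjective_of_generators n ρ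
    · have : ρ.comp C = φ := RingHom.ext hρC
      rw [this]; exact hφ
    · have : (fun i => ρ (X i)) = b := funext hρX
      rw [this]; exact hb
  let d : Fin (n + m) → B := Fin.append (fun i => algebraMap A B (b i)) c
  have hdm : ∀ k, d k ∈ maximalIdeal B := by
    intro k
    refine Fin.addCases (fun i => ?_) (fun j => ?_) k
    · show Fin.append (fun i => algebraMap A B (b i)) c (Fin.castAdd m i) ∈ _
      rw [Fin.append_left]
      exact IsLocalRing.map_maximalIdeal_le (algebraMap A B) (Ideal.mem_map_of_mem _ (hbm i))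
    · show Fin.append (fun i => algebraMap A B (b i)) c (Fin.natAdd n j) ∈ _
      rw [Fin.append_right]; exact hcm j
  obtain ⟨σ, hσC, hσX⟩ := Groth.Agent.Helper8.CoeffField.exists_ringHom_eval φ' (n + m) d hdm
  have hσ : Function.Surjective σ := by
    apply surjective_of_generators (n + m) σ
    · have : σ.comp C = φ' := RingHom.ext hσC
      rw [this]; exact hφ'
    · have : (fun k => σ (X k)) = d := funext hσX
      rw [this]
      apply le_antisymm
      · rw [Ideal.span_le]; rintro _ ⟨k, rfl⟩; exact hdm k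
      · have hc' : Ideal.span (Set.range c) = maximalIdeal B := hc
        rw [← hc']
        apply Ideal.span_mono
        rintro _ ⟨j, rfl⟩
        exact ⟨Fin.natAdd n j, Fin.append_right _ _ j⟩
  haveI hScompl : IsAdicComplete (maximalIdeal (MvPowerSeries (Fin (n + m)) W'))
      (MvPowerSeries (Fin (n + m)) W') :=
    Groth.Agent.Helper3.ArtFunLib.isAdicComplete_ps_local
  have hJ : RingHom.ker σ ≠ ⊤ := RingHom.ker_ne_top σ
  let eσ : (MvPowerSeries (Fin (n + m)) W' ⧸ RingHom.ker σ) ≃+* B :=
    RingHom.quotientKerEquivOfSurjective hσ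
  let u : W →+* MvPowerSeries (Fin (n + m)) W' ⧸ RingHom.ker σ :=
    eσ.symm.toRingHom.comp ((algebraMap A B).comp φ)
  obtain ⟨τ₀, hτ₀⟩ := Groth.Agent.Helper8.CohenLift.exists_lift_quotient (RingHom.ker σ) hJ u
    (hLP (n + m))
  have hστ₀ : ∀ w, σ (τ₀ w) = algebraMap A B (φ w) := by
    intro w
    have h1 : Ideal.Quotient.mk (RingHom.ker σ) (τ₀ w) = eσ.symm (algebraMap A B (φ w)) :=
      RingHom.congr_fun hτ₀ w
    have h2 : eσ (Ideal.Quotient.mk (RingHom.ker σ) (τ₀ w)) = algebraMap A B (φ w) := by
      rw [h1]; exact eσ.apply_symm_apply _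
    rw [← h2]
    rfl
  obtain ⟨τ, hτC, hτX⟩ := Groth.Agent.Helper8.CoeffField.exists_ringHom_eval τ₀ n
    (fun i => (X (Fin.castAdd m i) : MvPowerSeries (Fin (n + m)) W'))
    (fun i => X_mem_maximalIdeal _)
  refine ⟨n, m, ρ, σ, τ, hρ, hσ, ?_, ?_⟩
  · apply ringHom_ext_of_hausdorff (maximalIdeal B)
    · intro w
      rw [RingHom.comp_apply, RingHom.comp_apply, hτC, hστ₀, hρC]
    · intro i
      rw [RingHom.comp_apply, RingHom.comp_apply, hτX, hσX, hρX]
      exact Fin.append_left _ _ i
    · intro i
      rw [RingHom.comp_apply, hτX, hσX]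
      exact hdm _
  · apply flat_and_isRegularRing hdim n m τ _ hτX
    rw [hπ, hπ', Ideal.map_span, Ideal.map_span, Set.image_singleton, Set.image_singleton,
      map_natCast, map_natCast]

end fact

end Groth.Agent.Helper8.CohenFact
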