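import Mathlib
import Groth.Agent.Lib.Helper8.MvPSLocal

/-!
# Dimension and regularity of `k⟦t_1, …, t_d⟧`
-/

set_option autoImplicit false

namespace Groth.Agent.Helper8

open MvPowerSeries

theorem le_ringKrullDim_mvPowerSeries_fin (R : Type*) [CommRing R] [Nontrivial R] (n : ℕ) :
    (n : WithBot ℕ∞) ≤ ringKrullDim (MvPowerSeries (Fin n) R) := by
  induction n with
  | zero =>
    simpa using ringKrullDim_nonneg_of_nontrivial (R := MvPowerSeries (Fin 0) R)
  | succ n ih =>
    rw [ringKrullDim_eq_of_ringEquiv (MvPowerSeries.finSuccEquiv R n).toRingEquiv]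
    refine le_trans ?_ (ringKrullDim_succ_le_ringKrullDim_powerseries
      (R := MvPowerSeries (Fin n) R))
    push_cast
    gcongr

theorem spanFinrank_maximalIdeal_mvPowerSeries_fin_le (k : Type*) [Field k] (n : ℕ) :
    (IsLocalRing.maximalIdeal (MvPowerSeries (Fin n) k)).spanFinrank ≤ n := by
  rw [mvPowerSeries_maximalIdeal_eq]
  refine le_trans (Submodule.spanFinrank_span_le_ncard_of_finite (Set.finite_range _)) ?_
  rw [← Set.image_univ]
  refine le_trans (Set.ncard_image_le Set.finite_univ) ?_
  simp

theorem ringKrullDim_mvPowerSeries_fin (k : Type*) [Field k] (n : ℕ) :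
    ringKrullDim (MvPowerSeries (Fin n) k) = n := by
  apply le_antisymm
  · refine le_trans (ringKrullDim_le_spanFinrank_maximalIdeal _) ?_
    exact_mod_cast spanFinrank_maximalIdeal_mvPowerSeries_fin_le k n
  · exact le_ringKrullDim_mvPowerSeries_fin k n

instance isRegularLocalRing_mvPowerSeries_fin (k : Type*) [Field k] (n : ℕ) :
    IsRegularLocalRing (MvPowerSeries (Fin n) k) := by
  apply IsRegularLocalRing.of_spanFinrank_maximalIdeal_le
  rw [ringKrullDim_mvPowerSeries_fin]
  exact_mod_cast spanFinrank_maximalIdeal_mvPowerSeries_fin_le k n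

end Groth.Agent.Helper8
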