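import Mathlib
import Groth.Prelude.Def_CAlgX
import Groth.Agent.Lib.Helper8.PSeries1

/-!
# Power series rings over formally smooth algebras are formally smooth for the adic topology
-/

set_option autoImplicit false

namespace Groth.Agent.Helper8.PSeries

open MvPowerSeries

universe u

/-- If `K` is a formally smooth `R`-algebra then `K[[x_1, …, x_n]]` is formally smooth over `R`
for the adic topology of any ideal containing the variables. -/
theorem isAdicFormallySmooth_mvPowerSeries (R K : Type u) [CommRing R] [CommRing K] [Algebra R K]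
    [Algebra.FormallySmooth R K] (n : ℕ) (𝔫 : Ideal (MvPowerSeries (Fin n) K))
    (h𝔫 : ∀ i, (X i : MvPowerSeries (Fin n) K) ∈ 𝔫) :
    CAlgX.IsAdicFormallySmooth R (MvPowerSeries (Fin n) K) 𝔫 := by
  classical
  intro A _ _ J hJ ψ ⟨k, hk⟩
  have hsq : ∀ a : A, (Ideal.Quotient.mk J a) ^ k = 0 → a ^ (2 * k) = 0 := by
    intro a ha
    rw [← map_pow, Ideal.Quotient.eq_zero_iff_mem] at ha
    have : a ^ (2 * k) ∈ J ^ 2 := by
      rw [mul_comm, pow_mul]
      exact Ideal.pow_mem_pow ha 2
    rw [hJ] at this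
    exact this
  -- lift the coefficient ring
  let g : K →ₐ[R] A ⧸ J :=
    { toRingHom := (ψ : MvPowerSeries (Fin n) K →+* A ⧸ J).comp C
      commutes' := fun z => by
        have := ψ.commutes z
        rw [MvPowerSeries.algebraMap_apply] at this
        exact this }
  let g' : K →ₐ[R] A := Algebra.FormallySmooth.lift J ⟨2, hJ⟩ g
  have hg' : ∀ r, Ideal.Quotient.mk J (g' r) = g r := fun r =>
    Algebra.FormallySmooth.mk_lift J ⟨2, hJ⟩ g r
  -- lift the variables
  have hex : ∀ i : Fin n, ∃ a : A, Ideal.Quotient.mk J a = ψ (X i) :=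
    fun i => Ideal.Quotient.mk_surjective _
  choose a ha using hex
  have hanil : ∀ i, a i ^ (2 * k) = 0 := by
    intro i
    apply hsq
    rw [ha, ← map_pow]
    exact hk _ (Ideal.pow_mem_pow (h𝔫 i) k)
  obtain ⟨χ, hχC, hχX⟩ := exists_eval_nilpotent (g' : K →+* A) a (fun i => ⟨2 * k, hanil i⟩)
  have hcomp : (Ideal.Quotient.mk J).comp χ = (ψ : MvPowerSeries (Fin n) K →+* A ⧸ J) := by
    apply ringHom_ext_of_X_pow _ _ (2 * k)
    · intro r
      rw [RingHom.comp_apply, hχC]
      exact hg' r
    · intro i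
      rw [RingHom.comp_apply, hχX, ha]
      rfl
    · intro i
      rw [RingHom.comp_apply, hχX, ← map_pow, hanil, map_zero]
  refine ⟨{ toRingHom := χ, commutes' := fun z => ?_ }, ?_⟩
  · show χ (algebraMap R (MvPowerSeries (Fin n) K) z) = algebraMap R A z
    rw [MvPowerSeries.algebraMap_apply, hχC]
    exact g'.commutes z
  · ext f
    exact RingHom.congr_fun hcomp f

end Groth.Agent.Helper8.PSeries
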