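import Mathlib
import Groth.Agent.Lib.Helper8.AdicFS3
import Groth.Agent.Lib.Helper8.CoeffField3
import Groth.Agent.Lib.Helper8.PSeries2
import Groth.Agent.Lib.Helper8.AdicReg1
import Groth.Agent.Lib.Helper8.MvPSDim
import Groth.Agent.S2451
import Groth.Agent.S2452
import Groth.Agent.Lib.Helper8.CohenFact3

/-!
# Noetherian local algebras over a field with separable residue field: formal smoothness,
regularity and the structure of the completion (EGA 0_IV 19.6.4)
-/

set_option autoImplicit false

namespace Groth.Agent.Helper8.AdicFS

open CAlgX IsLocalRing MvPowerSeries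

universe u

/-- The isomorphism of power series rings induced by an isomorphism of coefficient rings. -/
noncomputable def mapRingEquiv (σ : Type*) {K K' : Type*} [CommRing K] [CommRing K']
    (e : K ≃+* K') : MvPowerSeries σ K ≃+* MvPowerSeries σ K' :=
  RingEquiv.ofRingHom (MvPowerSeries.map (e : K →+* K')) (MvPowerSeries.map (e.symm : K' →+* K))
    (by rw [← MvPowerSeries.map_comp, RingEquiv.comp_symm, MvPowerSeries.map_id])
    (by rw [← MvPowerSeries.map_comp, RingEquiv.symm_comp, MvPowerSeries.map_id])

theorem mapRingEquiv_C (σ : Type*) {K K' : Type*} [CommRing K] [CommRing K'] (e : K ≃+* K')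
    (c : K) : mapRingEquiv σ e (C c) = C (e c) := MvPowerSeries.map_C (e : K →+* K') c

section

variable (k A : Type u) [Field k] [CommRing A] [IsLocalRing A] [IsNoetherianRing A] [Algebra k A]

/-- The residue field of the completion. -/
noncomputable def resEquiv : ResidueField A ≃+* ResidueField (AdicCompletion (maximalIdeal A) A) :=
  RingEquiv.ofBijective _ (AdicCompletion.residueField_map_bijective A)

theorem resEquiv_algebraMap (x : k) :
    resEquiv A (algebraMap k (ResidueField A) x) =
      algebraMap k (ResidueField (AdicCompletion (maximalIdeal A) A)) x := rfl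

/-- Transport of a power series presentation of the completion, compatible with a coefficient
field containing `k`, to one with coefficients in the residue field of `A`. -/
theorem exists_ringEquiv_compat (n : ℕ)
    (ê : MvPowerSeries (Fin n) (ResidueField (AdicCompletion (maximalIdeal A) A)) ≃+*
      AdicCompletion (maximalIdeal A) A)
    (σ : ResidueField (AdicCompletion (maximalIdeal A) A) →ₐ[k] AdicCompletion (maximalIdeal A) A)
    (hê : ∀ c, ê (C c) = σ c) :
    ∃ e : AdicCompletion (maximalIdeal A) A ≃+* MvPowerSeries (Fin n) (ResidueField A),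
      ∀ x : k, e (algebraMap A (AdicCompletion (maximalIdeal A) A) (algebraMap k A x)) =
        algebraMap (ResidueField A) (MvPowerSeries (Fin n) (ResidueField A))
          (algebraMap k (ResidueField A) x) := by
  refine ⟨ê.symm.trans (mapRingEquiv (Fin n) (resEquiv A).symm), fun x => ?_⟩
  have h1 : algebraMap A (AdicCompletion (maximalIdeal A) A) (algebraMap k A x) =
      ê (C (algebraMap k (ResidueField (AdicCompletion (maximalIdeal A) A)) x)) := by
    rw [hê, σ.commutes]
    rfl
  rw [h1]
  show mapRingEquiv (Fin n) (resEquiv A).symm (ê.symm (ê _)) = _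
  rw [RingEquiv.symm_apply_apply, mapRingEquiv_C, MvPowerSeries.algebraMap_apply,
    ← resEquiv_algebraMap k A x, RingEquiv.symm_apply_apply]
  rfl

end

section tfae

variable (k A : Type u) [Field k] [CommRing A] [IsLocalRing A] [IsNoetherianRing A] [Algebra k A]
  [Algebra.IsGeometricallyReduced k (ResidueField A)]

instance isNoetherianRing_cpl' : IsNoetherianRing (AdicCompletion (maximalIdeal A) A) :=
  Groth.Agent.Helper2.CompleteNoeth.isNoetherianRing_adicCompletion A (maximalIdeal A)
    (maximalIdeal A).fg_of_isNoetherianRing

theorem isGeometricallyReduced_cpl :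
    Algebra.IsGeometricallyReduced k (ResidueField (AdicCompletion (maximalIdeal A) A)) := by
  let ι : ResidueField (AdicCompletion (maximalIdeal A) A) →ₐ[k] ResidueField A :=
    { ((resEquiv A).symm : ResidueField (AdicCompletion (maximalIdeal A) A) →+* ResidueField A) with
      commutes' := fun x => by
        show (resEquiv A).symm (algebraMap k _ x) = _
        rw [← resEquiv_algebraMap k A x, RingEquiv.symm_apply_apply] }
  exact Algebra.IsGeometricallyReduced.of_injective ι (resEquiv A).symm.injective

/-- (a) ⟹ (b). -/
theorem exists_ringEquiv_of_formallySmooth (h : IsAdicFormallySmooth k A (maximalIdeal A)) :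
    ∃ (n : ℕ) (e : AdicCompletion (maximalIdeal A) A ≃+* MvPowerSeries (Fin n) (ResidueField A)),
      ∀ x : k, e (algebraMap A (AdicCompletion (maximalIdeal A) A) (algebraMap k A x)) =
        algebraMap (ResidueField A) (MvPowerSeries (Fin n) (ResidueField A))
          (algebraMap k (ResidueField A) x) := by
  have h1 := completion (maximalIdeal A) (maximalIdeal A).fg_of_isNoetherianRing h
  rw [← AdicCompletion.maximalIdeal_eq_map] at h1
  haveI := isGeometricallyReduced_cpl k A
  obtain ⟨σ, hσ⟩ := Groth.Agent.S2452.result (k := k) (A := AdicCompletion (maximalIdeal A) A)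
  obtain ⟨n, ê, hê⟩ := exists_algEquiv_of_section h1 σ hσ
  exact ⟨n, exists_ringEquiv_compat k A n ê.toRingEquiv σ hê⟩

/-- (c) ⟹ (b). -/
theorem exists_ringEquiv_of_regular [IsRegularLocalRing A] :
    ∃ (n : ℕ) (e : AdicCompletion (maximalIdeal A) A ≃+* MvPowerSeries (Fin n) (ResidueField A)),
      ∀ x : k, e (algebraMap A (AdicCompletion (maximalIdeal A) A) (algebraMap k A x)) =
        algebraMap (ResidueField A) (MvPowerSeries (Fin n) (ResidueField A))
          (algebraMap k (ResidueField A) x) := by
  haveI : IsRegularLocalRing (AdicCompletion (maximalIdeal A) A) :=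
    (Groth.Agent.Helper8.AdicReg.isRegularLocalRing_iff A (maximalIdeal A)
      (Ideal.IsMaximal.ne_top inferInstance)).1 inferInstance
  haveI := isGeometricallyReduced_cpl k A
  obtain ⟨σ, hσ⟩ := Groth.Agent.S2452.result (k := k) (A := AdicCompletion (maximalIdeal A) A)
  obtain ⟨n, ê, hê⟩ := Groth.Agent.Helper8.CoeffField.exists_ringEquiv_of_regular
    (AdicCompletion (maximalIdeal A) A) σ.toRingHom (RingHom.ext hσ)
  exact ⟨n, exists_ringEquiv_compat k A n ê σ hê⟩

omit [Algebra.IsGeometricallyReduced k (ResidueField A)] in
/-- (b') ⟹ (c). -/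
theorem isRegularLocalRing_of_ringEquiv (n : ℕ)
    (e : AdicCompletion (maximalIdeal A) A ≃+* MvPowerSeries (Fin n) (ResidueField A)) :
    IsRegularLocalRing A := by
  haveI : IsRegularLocalRing (AdicCompletion (maximalIdeal A) A) :=
    IsRegularLocalRing.of_ringEquiv e.symm
  exact (Groth.Agent.Helper8.AdicReg.isRegularLocalRing_iff A (maximalIdeal A)
    (Ideal.IsMaximal.ne_top inferInstance)).2 inferInstance

/-- (b) ⟹ (a). -/
theorem formallySmooth_of_ringEquiv (n : ℕ)
    (e : AdicCompletion (maximalIdeal A) A ≃+* MvPowerSeries (Fin n) (ResidueField A))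
    (he : ∀ x : k, e (algebraMap A (AdicCompletion (maximalIdeal A) A) (algebraMap k A x)) =
        algebraMap (ResidueField A) (MvPowerSeries (Fin n) (ResidueField A))
          (algebraMap k (ResidueField A) x)) :
    IsAdicFormallySmooth k A (maximalIdeal A) := by
  haveI : Algebra.FormallySmooth k (ResidueField A) :=
    (Groth.Agent.S2451.result (k := k) (K := ResidueField A)).2 inferInstance
  have hPS := Groth.Agent.Helper8.PSeries.isAdicFormallySmooth_mvPowerSeries k (ResidueField A) n
    (maximalIdeal (MvPowerSeries (Fin n) (ResidueField A)))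
    (fun i => Groth.Agent.Helper8.CohenFact.X_mem_maximalIdeal i)
  let eₐ : AdicCompletion (maximalIdeal A) A ≃ₐ[k] MvPowerSeries (Fin n) (ResidueField A) :=
    AlgEquiv.ofRingEquiv (f := e) (fun x => by
      rw [IsScalarTower.algebraMap_apply k A (AdicCompletion (maximalIdeal A) A), he,
        ← IsScalarTower.algebraMap_apply])
  have h1 : IsAdicFormallySmooth k (AdicCompletion (maximalIdeal A) A)
      (maximalIdeal (AdicCompletion (maximalIdeal A) A)) := by
    refine of_algEquiv hPS eₐ (fun x hx => ?_)
    rw [IsLocalRing.mem_maximalIdeal, mem_nonunits_iff] at hx ⊢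
    intro hu
    apply hx
    have := hu.map eₐ
    rwa [AlgEquiv.apply_symm_apply] at this
  rw [AdicCompletion.maximalIdeal_eq_map] at h1
  exact of_completion (maximalIdeal A) h1

end tfae

end Groth.Agent.Helper8.AdicFS
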