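import Mathlib
import Groth.Agent.Lib.Helper8.AdicFS4

/-!
# Formal smoothness for an adic topology: transitivity, base change, localization
-/

set_option autoImplicit false

namespace Groth.Agent.Helper8.AdicFS

open CAlgX IsLocalRing

universe u

/-- Transitivity: formally smooth (adic) over a formally smooth (discrete) algebra. -/
theorem trans {k₀ k A : Type u} [CommRing k₀] [CommRing k] [CommRing A] [Algebra k₀ k]
    [Algebra k A] [Algebra k₀ A] [IsScalarTower k₀ k A] [Algebra.FormallySmooth k₀ k]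
    {𝔫 : Ideal A} (h : IsAdicFormallySmooth k A 𝔫) : IsAdicFormallySmooth k₀ A 𝔫 := by
  intro C _ _ J hJ ψ ⟨t, ht⟩
  let g : k →ₐ[k₀] C ⧸ J := ψ.comp (IsScalarTower.toAlgHom k₀ k A)
  let l : k →ₐ[k₀] C := Algebra.FormallySmooth.lift J ⟨2, hJ⟩ g
  have hl : ∀ x, Ideal.Quotient.mk J (l x) = g x :=
    Algebra.FormallySmooth.mk_lift J ⟨2, hJ⟩ g
  letI : Algebra k C := l.toRingHom.toAlgebra
  haveI : IsScalarTower k₀ k C := IsScalarTower.of_algebraMap_eq (fun x => (l.commutes x).symm)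
  let ψ' : A →ₐ[k] C ⧸ J :=
    { ψ.toRingHom with
      commutes' := fun x => by
        show ψ (algebraMap k A x) = Ideal.Quotient.mk J (l x)
        rw [hl]
        rfl }
  obtain ⟨χ', hχ'⟩ := h C J hJ ψ' ⟨t, ht⟩
  refine ⟨χ'.restrictScalars k₀, ?_⟩
  ext a
  exact AlgHom.congr_fun hχ' a

/-- Base change along an arbitrary algebra. -/
theorem baseChange {k A : Type u} [CommRing k] [CommRing A] [Algebra k A] {𝔫 : Ideal A}
    (h : IsAdicFormallySmooth k A 𝔫) (k' : Type u) [CommRing k'] [Algebra k k'] :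
    IsAdicFormallySmooth k' (TensorProduct k k' A)
      (𝔫.map (Algebra.TensorProduct.includeRight : A →ₐ[k] TensorProduct k k' A)) := by
  intro C _ _ J hJ ψ ⟨t, ht⟩
  letI : Algebra k C := Algebra.compHom C (algebraMap k k')
  haveI : IsScalarTower k k' C := IsScalarTower.of_algebraMap_eq (fun _ => rfl)
  let ψ₀ : A →ₐ[k] C ⧸ J :=
    (ψ.restrictScalars k).comp (Algebra.TensorProduct.includeRight : A →ₐ[k] TensorProduct k k' A)
  obtain ⟨χ₀, hχ₀⟩ := h C J hJ ψ₀ ⟨t, fun x hx => by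
    show ψ (Algebra.TensorProduct.includeRight x) = 0
    apply ht
    rw [← Ideal.map_pow]
    exact Ideal.mem_map_of_mem _ hx⟩
  let χ : TensorProduct k k' A →ₐ[k'] C :=
    Algebra.TensorProduct.lift (Algebra.ofId k' C) χ₀ (fun _ _ => Commute.all _ _)
  refine ⟨χ, ?_⟩
  apply Algebra.TensorProduct.ext
  · ext
  · ext a
    show Ideal.Quotient.mk J (χ ((1 : k') ⊗ₜ[k] a)) = ψ ((1 : k') ⊗ₜ[k] a)
    rw [Algebra.TensorProduct.lift_tmul, map_one, one_mul]
    exact AlgHom.congr_fun hχ₀ a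

/-- Localization. -/
theorem localization {R S : Type u} [CommRing R] [CommRing S] [Algebra R S] {𝔫 : Ideal S}
    (h : IsAdicFormallySmooth R S 𝔫) (M : Submonoid S) (S' : Type u) [CommRing S'] [Algebra S S']
    [Algebra R S'] [IsScalarTower R S S'] [IsLocalization M S'] (𝔫' : Ideal S')
    (h𝔫 : 𝔫.map (algebraMap S S') ≤ 𝔫') : IsAdicFormallySmooth R S' 𝔫' := by
  intro C _ _ J hJ ψ ⟨t, ht⟩
  let ψ₀ : S →ₐ[R] C ⧸ J := ψ.comp (IsScalarTower.toAlgHom R S S')
  obtain ⟨χ₀, hχ₀⟩ := h C J hJ ψ₀ ⟨t, fun x hx => by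
    show ψ (algebraMap S S' x) = 0
    apply ht
    refine Ideal.pow_right_mono h𝔫 t ?_
    rw [← Ideal.map_pow]
    exact Ideal.mem_map_of_mem _ hx⟩
  have hχ₀' : ∀ s, Ideal.Quotient.mk J (χ₀ s) = ψ (algebraMap S S' s) :=
    fun s => AlgHom.congr_fun hχ₀ s
  haveI : IsLocalHom (Ideal.Quotient.mk J) := by
    apply isLocalHom_of_le_jacobson_bot
    refine le_trans ?_ (Ideal.radical_le_jacobson)
    intro x hx
    refine ⟨2, ?_⟩
    have : x ^ 2 ∈ J ^ 2 := Ideal.pow_mem_pow hx 2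
    rw [hJ] at this
    exact this
  have hunit : ∀ s : M, IsUnit (χ₀.toRingHom s) := by
    intro s
    apply isUnit_of_map_unit (Ideal.Quotient.mk J)
    show IsUnit (Ideal.Quotient.mk J (χ₀ s))
    rw [hχ₀']
    exact (IsLocalization.map_units S' s).map ψ
  let χr : S' →+* C := IsLocalization.lift (M := M) hunit
  have hχr : ∀ s, χr (algebraMap S S' s) = χ₀ s := fun s => IsLocalization.lift_eq hunit s
  let χ : S' →ₐ[R] C :=
    { χr with
      commutes' := fun r => by
        show χr (algebraMap R S' r) = _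
        rw [IsScalarTower.algebraMap_apply R S S', hχr, AlgHom.commutes] }
  refine ⟨χ, ?_⟩
  have hring : ((Ideal.Quotient.mkₐ R J).comp χ : S' →ₐ[R] C ⧸ J).toRingHom = ψ.toRingHom := by
    apply IsLocalization.ringHom_ext M
    ext s
    show Ideal.Quotient.mk J (χr (algebraMap S S' s)) = ψ (algebraMap S S' s)
    rw [hχr, hχ₀']
  ext x
  exact RingHom.congr_fun hring x

end Groth.Agent.Helper8.AdicFS
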