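import Mathlib
import Groth.Agent.Lib.Helper1.RegLift

/-!
# Flat modules over a local homomorphism: regularity modulo the maximal ideal lifts
-/

set_option autoImplicit false
universe u

namespace Groth.Agent.Helper8.FlatMod

open IsLocalRing TensorProduct

variable {R S : Type u} [CommRing R] [CommRing S] [Algebra R S]
  {N : Type u} [AddCommGroup N] [Module S N] [Module R N] [IsScalarTower R S N]

/-- Multiplication by `y : S` on `N`, as an `R`-linear map. -/
noncomputable def mulR (y : S) : N →ₗ[R] N := (LinearMap.lsmul S N y).restrictScalars R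

@[simp] theorem mulR_apply (y : S) (n : N) : mulR (R := R) y n = y • n := rfl

/-- `m • ⊤` as an `R`-submodule is the restriction of `(mS) • ⊤`. -/
theorem mem_smul_top_iff (I : Ideal R) (n : N) :
    n ∈ I • (⊤ : Submodule R N) ↔ n ∈ I.map (algebraMap R S) • (⊤ : Submodule S N) := by
  have h := Submodule.restrictScalars_map_smul_eq (R := S) (S := R) I (⊤ : Submodule S N)
  rw [Submodule.restrictScalars_top] at h
  rw [← h, Submodule.restrictScalars_mem]

/-- Regularity on the fibre gives the hypothesis of `RegLift`. -/
theorem mem_of_smul_mem [IsLocalRing R] (y : S)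
    (hy : IsSMulRegular (N ⧸ ((maximalIdeal R).map (algebraMap R S) • (⊤ : Submodule S N))) y)
    (n : N) (h : mulR (R := R) y n ∈ maximalIdeal R • (⊤ : Submodule R N)) :
    n ∈ maximalIdeal R • (⊤ : Submodule R N) := by
  rw [mem_smul_top_iff (S := S)] at h ⊢
  rw [← Submodule.Quotient.mk_eq_zero] at h ⊢
  apply hy
  show y • Submodule.Quotient.mk n = y • 0
  rw [smul_zero, ← Submodule.Quotient.mk_smul]
  exact h

/-- `N ⊗[R] M` is a finite `S`-module. -/
theorem finite_tensorProduct [Module.Finite S N] (M : Type u) [AddCommGroup M] [Module R M]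
    [Module.Finite R M] : Module.Finite S (N ⊗[R] M) := by
  obtain ⟨k, f, hf⟩ := Module.Finite.exists_fin' R M
  let g : N ⊗[R] (Fin k → R) →ₗ[S] N ⊗[R] M :=
    TensorProduct.AlgebraTensorModule.map (LinearMap.id : N →ₗ[S] N) f
  have hg : Function.Surjective g := LinearMap.lTensor_surjective N hf
  let e : N ⊗[R] (Fin k → R) ≃ₗ[S] (Fin k → N) := TensorProduct.piScalarRight R S N (Fin k)
  exact Module.Finite.of_surjective (g ∘ₗ e.symm.toLinearMap)
    (hg.comp e.symm.surjective)

/-- An element of `S` regular on the fibre `N/mN` is regular on `N ⊗ M` for every finite `M`. -/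
theorem rTensor_mulR_injective [IsLocalRing R] [IsLocalRing S] [IsNoetherianRing S]
    [IsLocalHom (algebraMap R S)] [Module.Finite S N] [Module.Flat R N] (y : S)
    (hy : IsSMulRegular (N ⧸ ((maximalIdeal R).map (algebraMap R S) • (⊤ : Submodule S N))) y)
    (M : Type u) [AddCommGroup M] [Module R M] [Module.Finite R M] :
    Function.Injective ((mulR (R := R) (N := N) y).rTensor M) := by
  rw [injective_iff_map_eq_zero]
  intro z hz
  have key : ∀ i : ℕ, z ∈ (maximalIdeal R) ^ i • (⊤ : Submodule R (N ⊗[R] M)) := by
    intro i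
    set P : Submodule R M := (maximalIdeal R) ^ i • ⊤ with hP
    have hex := lTensor_exact N (LinearMap.exact_subtype_mkQ P) P.mkQ_surjective
    have hbot : (maximalIdeal R) ^ i • (⊤ : Submodule R (M ⧸ P)) = ⊥ := by
      rw [← Submodule.range_mkQ P, ← Submodule.map_top, ← Submodule.map_smul'', ← hP,
        Submodule.mkQ_map_self]
    have h1 : P.mkQ.lTensor N z = 0 := by
      have hinj := Groth.Agent.Helper1.RegLift.lTensor_injective_of_pow (mulR (R := R) (N := N) y)
        (mem_of_smul_mem y hy) i (M ⧸ P) hbot
      have hinj' : Function.Injective ((mulR (R := R) (N := N) y).rTensor (M ⧸ P)) :=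
        (LinearMap.lTensor_inj_iff_rTensor_inj _ _).mp hinj
      apply hinj'
      rw [map_zero, ← LinearMap.comp_apply, LinearMap.rTensor_comp_lTensor,
        ← LinearMap.lTensor_comp_rTensor, LinearMap.comp_apply, hz, map_zero]
    obtain ⟨w, rfl⟩ := (hex z).mp h1
    clear hz h1
    induction w using TensorProduct.induction_on with
    | zero => simp
    | add a b ha hb => rw [map_add]; exact add_mem ha hb
    | tmul n x =>
      rw [LinearMap.lTensor_tmul]
      obtain ⟨x, hx⟩ := x
      show n ⊗ₜ[R] x ∈ _
      refine Submodule.smul_induction_on hx ?_ ?_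
      · intro a ha m _
        rw [TensorProduct.tmul_smul]
        exact Submodule.smul_mem_smul ha Submodule.mem_top
      · intro a b ha hb
        rw [TensorProduct.tmul_add]
        exact add_mem ha hb
  -- Krull's intersection theorem over `S`
  haveI : Module.Finite S (N ⊗[R] M) := finite_tensorProduct M
  have hK := Ideal.iInf_pow_smul_eq_bot_of_isLocalRing (R := S) (M := N ⊗[R] M)
    (maximalIdeal S) (maximalIdeal.isMaximal S).ne_top
  have hz' : z ∈ (⨅ i : ℕ, (maximalIdeal S) ^ i • ⊤ : Submodule S (N ⊗[R] M)) := by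
    rw [Submodule.mem_iInf]
    intro i
    have h2 := (mem_smul_top_iff (S := S) ((maximalIdeal R) ^ i) z).mp (key i)
    refine Submodule.smul_mono_left ?_ h2
    rw [Ideal.map_pow]
    exact Ideal.pow_right_mono (IsLocalRing.map_maximalIdeal_le (algebraMap R S)) i
  rw [hK] at hz'
  exact hz'

end Groth.Agent.Helper8.FlatMod
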