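import Mathlib
import Groth.Agent.Lib.Helper8.FlatMod1

/-!
# Flat modules over a local homomorphism: quotient by a fibre-regular element
-/

set_option autoImplicit false
universe u

namespace Groth.Agent.Helper8.FlatMod

open IsLocalRing TensorProduct Pointwise

variable {R S : Type u} [CommRing R] [CommRing S] [Algebra R S]
  {N : Type u} [AddCommGroup N] [Module S N] [Module R N] [IsScalarTower R S N]

theorem rTensor_mulR_apply (y : S) (M : Type u) [AddCommGroup M] [Module R M] (z : N ⊗[R] M) :
    (mulR (R := R) (N := N) y).rTensor M z = y • z := by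
  induction z using TensorProduct.induction_on with
  | zero => simp
  | add a b ha hb => rw [map_add, ha, hb, smul_add]
  | tmul n m => rw [LinearMap.rTensor_tmul, mulR_apply, TensorProduct.smul_tmul']

variable [IsLocalRing R] [IsLocalRing S] [IsNoetherianRing S]
  [IsLocalHom (algebraMap R S)] [Module.Finite S N] [Module.Flat R N]

/-- An element regular on the fibre is regular on `N ⊗ M`. -/
theorem isSMulRegular_tensor (y : S)
    (hy : IsSMulRegular (N ⧸ ((maximalIdeal R).map (algebraMap R S) • (⊤ : Submodule S N))) y)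
    (M : Type u) [AddCommGroup M] [Module R M] [Module.Finite R M] :
    IsSMulRegular (N ⊗[R] M) y := by
  intro a b hab
  apply rTensor_mulR_injective y hy M
  rw [rTensor_mulR_apply, rTensor_mulR_apply]
  exact hab

/-- An element regular on the fibre is regular on `N`. -/
theorem isSMulRegular_of_fibre (y : S)
    (hy : IsSMulRegular (N ⧸ ((maximalIdeal R).map (algebraMap R S) • (⊤ : Submodule S N))) y) :
    IsSMulRegular N y := by
  have h := isSMulRegular_tensor (R := R) y hy R
  intro a b hab
  have h1 : y • (a ⊗ₜ[R] (1 : R)) = y • (b ⊗ₜ[R] (1 : R)) := by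
    rw [TensorProduct.smul_tmul', TensorProduct.smul_tmul']
    show (y • a) ⊗ₜ[R] (1 : R) = (y • b) ⊗ₜ[R] (1 : R)
    exact congrArg (· ⊗ₜ[R] (1 : R)) hab
  have h2 := h h1
  have h3 := congrArg (TensorProduct.rid R N) h2
  simpa using h3

/-- The quotient of `N` by a fibre-regular element is flat over `R`. -/
theorem flat_quotSMulTop (y : S)
    (hy : IsSMulRegular (N ⧸ ((maximalIdeal R).map (algebraMap R S) • (⊤ : Submodule S N))) y) :
    Module.Flat R (QuotSMulTop y N) := by
  set φ : N →ₗ[R] N := mulR (R := R) (N := N) y with hφ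
  let p : N →ₗ[R] QuotSMulTop y N :=
    ((y • (⊤ : Submodule S N)).mkQ).restrictScalars R
  have hp : Function.Surjective p := by
    intro x
    obtain ⟨n, rfl⟩ := Submodule.mkQ_surjective (y • (⊤ : Submodule S N)) x
    exact ⟨n, rfl⟩
  have hex : Function.Exact φ p := by
    intro n
    constructor
    · intro h
      have h1 : n ∈ y • (⊤ : Submodule S N) := (Submodule.Quotient.mk_eq_zero _).mp h
      obtain ⟨w, -, rfl⟩ := (Submodule.mem_smul_pointwise_iff_exists _ _ _).mp h1
      exact ⟨w, rfl⟩
    · rintro ⟨w, rfl⟩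
      apply (Submodule.Quotient.mk_eq_zero _).mpr
      exact Submodule.smul_mem_pointwise_smul w y ⊤ Submodule.mem_top
  have hinjI : ∀ I : Ideal R, Function.Injective (φ.lTensor (R ⧸ I)) := by
    intro I
    exact (LinearMap.lTensor_inj_iff_rTensor_inj _ _).mpr (rTensor_mulR_injective y hy (R ⧸ I))
  rw [Module.Flat.iff_rTensor_injective']
  intro I
  rw [injective_iff_map_eq_zero]
  intro c hc
  obtain ⟨m', rfl⟩ := LinearMap.lTensor_surjective I hp c
  have hexA := lTensor_exact R hex hp
  have h1 : p.lTensor R (I.subtype.rTensor N m') = 0 := by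
    rw [← LinearMap.comp_apply, LinearMap.lTensor_comp_rTensor, ← LinearMap.rTensor_comp_lTensor,
      LinearMap.comp_apply, hc]
  obtain ⟨m₁, hm₁⟩ := (hexA _).mp h1
  have hexI := rTensor_exact N (LinearMap.exact_subtype_mkQ I) I.mkQ_surjective
  have h2 : I.mkQ.rTensor N m₁ = 0 := by
    apply hinjI I
    rw [map_zero, ← LinearMap.comp_apply, LinearMap.lTensor_comp_rTensor,
      ← LinearMap.rTensor_comp_lTensor, LinearMap.comp_apply, hm₁, ← LinearMap.comp_apply,
      ← LinearMap.rTensor_comp]
    have : I.mkQ ∘ₗ I.subtype = 0 := by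
      ext x
      exact Ideal.Quotient.eq_zero_iff_mem.mpr x.2
    rw [this, LinearMap.rTensor_zero, LinearMap.zero_apply]
  obtain ⟨m₁', rfl⟩ := (hexI _).mp h2
  have hflat := Module.Flat.rTensor_preserves_injective_linearMap (M := N) I.subtype
    I.injective_subtype
  have h3 : φ.lTensor I m₁' = m' := by
    apply hflat
    rw [← hm₁, ← LinearMap.comp_apply, LinearMap.rTensor_comp_lTensor,
      ← LinearMap.lTensor_comp_rTensor, LinearMap.comp_apply]
  rw [← h3, ← LinearMap.comp_apply, ← LinearMap.lTensor_comp]
  have : p ∘ₗ φ = 0 := by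
    ext x
    exact hex.apply_apply_eq_zero x
  rw [this, LinearMap.lTensor_zero, LinearMap.zero_apply]

end Groth.Agent.Helper8.FlatMod
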