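import Mathlib
import Groth.Agent.Lib.Helper8.FlatMod2

/-!
# Flat modules over a local homomorphism: quotient isomorphisms
-/

set_option autoImplicit false
universe u

namespace Groth.Agent.Helper8.FlatMod

open IsLocalRing TensorProduct Pointwise

variable {R S : Type u} [CommRing R] [CommRing S] [Algebra R S]
  {N : Type u} [AddCommGroup N] [Module S N] [Module R N] [IsScalarTower R S N]

/-- The projection `N → N / yN` as an `R`-linear map. -/
noncomputable def projR (y : S) : N →ₗ[R] QuotSMulTop y N :=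
  ((y • (⊤ : Submodule S N)).mkQ).restrictScalars R

theorem projR_surjective (y : S) : Function.Surjective (projR (R := R) (N := N) y) := by
  intro x
  obtain ⟨n, rfl⟩ := Submodule.mkQ_surjective (y • (⊤ : Submodule S N)) x
  exact ⟨n, rfl⟩

theorem exact_mulR_projR (y : S) :
    Function.Exact (mulR (R := R) (N := N) y) (projR (R := R) (N := N) y) := by
  intro n
  constructor
  · intro h
    have h1 : n ∈ y • (⊤ : Submodule S N) := (Submodule.Quotient.mk_eq_zero _).mp h
    obtain ⟨w, -, rfl⟩ := (Submodule.mem_smul_pointwise_iff_exists _ _ _).mp h1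
    exact ⟨w, rfl⟩
  · rintro ⟨w, rfl⟩
    apply (Submodule.Quotient.mk_eq_zero _).mpr
    exact Submodule.smul_mem_pointwise_smul w y ⊤ Submodule.mem_top

/-- The `S`-linear map `N ⊗ M → (N / yN) ⊗ M`. -/
noncomputable def gmap (y : S) (M : Type u) [AddCommGroup M] [Module R M] :
    N ⊗[R] M →ₗ[S] (QuotSMulTop y N) ⊗[R] M :=
  TensorProduct.AlgebraTensorModule.map ((y • (⊤ : Submodule S N)).mkQ)
    (LinearMap.id : M →ₗ[R] M)

theorem gmap_tmul (y : S) (M : Type u) [AddCommGroup M] [Module R M] (n : N) (m : M) :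
    gmap (R := R) y M (n ⊗ₜ[R] m) = ((y • (⊤ : Submodule S N)).mkQ n) ⊗ₜ[R] m := rfl

theorem gmap_eq_rTensor (y : S) (M : Type u) [AddCommGroup M] [Module R M] (z : N ⊗[R] M) :
    gmap (R := R) y M z = (projR (R := R) (N := N) y).rTensor M z := by
  induction z using TensorProduct.induction_on with
  | zero => simp
  | add a b ha hb => rw [map_add, map_add, ha, hb]
  | tmul n m => rfl

theorem gmap_surjective (y : S) (M : Type u) [AddCommGroup M] [Module R M] :
    Function.Surjective (gmap (R := R) (N := N) y M) := by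
  intro z
  obtain ⟨w, hw⟩ := LinearMap.rTensor_surjective M (projR_surjective (R := R) (N := N) y) z
  exact ⟨w, (gmap_eq_rTensor y M w).trans hw⟩

theorem smul_quot_tensor_eq_zero (y : S) (M : Type u) [AddCommGroup M] [Module R M]
    (w : (QuotSMulTop y N) ⊗[R] M) : y • w = 0 := by
  induction w using TensorProduct.induction_on with
  | zero => simp
  | add a b ha hb => rw [smul_add, ha, hb, add_zero]
  | tmul q m =>
    obtain ⟨n, rfl⟩ := Submodule.mkQ_surjective (y • (⊤ : Submodule S N)) q
    rw [TensorProduct.smul_tmul']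
    have : y • (y • (⊤ : Submodule S N)).mkQ n = 0 := by
      rw [← map_smul]
      apply (Submodule.Quotient.mk_eq_zero _).mpr
      exact Submodule.smul_mem_pointwise_smul n y ⊤ Submodule.mem_top
    rw [this, TensorProduct.zero_tmul]

theorem ker_gmap (y : S) (M : Type u) [AddCommGroup M] [Module R M] :
    y • (⊤ : Submodule S (N ⊗[R] M)) = LinearMap.ker (gmap (R := R) (N := N) y M) := by
  apply le_antisymm
  · intro z hz
    obtain ⟨w, -, rfl⟩ := (Submodule.mem_smul_pointwise_iff_exists _ _ _).mp hz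
    rw [LinearMap.mem_ker, map_smul]
    exact smul_quot_tensor_eq_zero y M _
  · intro z hz
    rw [LinearMap.mem_ker, gmap_eq_rTensor] at hz
    have hex := rTensor_exact M (exact_mulR_projR (R := R) (N := N) y) (projR_surjective y)
    obtain ⟨w, rfl⟩ := (hex z).mp hz
    rw [rTensor_mulR_apply]
    exact Submodule.smul_mem_pointwise_smul w y ⊤ Submodule.mem_top

/-- `(N ⊗ M) / y (N ⊗ M) ≃ (N / y N) ⊗ M`, `S`-linearly. -/
noncomputable def quotTensorEquiv (y : S) (M : Type u) [AddCommGroup M] [Module R M] :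
    QuotSMulTop y (N ⊗[R] M) ≃ₗ[S] (QuotSMulTop y N) ⊗[R] M :=
  (Submodule.quotEquivOfEq _ _ (ker_gmap y M)).trans
    ((gmap (R := R) (N := N) y M).quotKerEquivOfSurjective (gmap_surjective y M))

section second

variable (x : R) (M : Type u) [AddCommGroup M] [Module R M]

theorem exact_lsmul_mkQ :
    Function.Exact (LinearMap.lsmul R M x) ((x • (⊤ : Submodule R M)).mkQ) := by
  intro n
  constructor
  · intro h
    have h1 : n ∈ x • (⊤ : Submodule R M) := (Submodule.Quotient.mk_eq_zero _).mp h
    obtain ⟨w, -, rfl⟩ := (Submodule.mem_smul_pointwise_iff_exists _ _ _).mp h1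
    exact ⟨w, rfl⟩
  · rintro ⟨w, rfl⟩
    apply (Submodule.Quotient.mk_eq_zero _).mpr
    exact Submodule.smul_mem_pointwise_smul w x ⊤ Submodule.mem_top

/-- The `S`-linear map `N ⊗ M → N ⊗ (M / xM)`. -/
noncomputable def hmap : N ⊗[R] M →ₗ[S] N ⊗[R] (QuotSMulTop x M) :=
  TensorProduct.AlgebraTensorModule.map (LinearMap.id : N →ₗ[S] N)
    ((x • (⊤ : Submodule R M)).mkQ)

theorem hmap_eq_lTensor (z : N ⊗[R] M) :
    hmap (S := S) (N := N) x M z = ((x • (⊤ : Submodule R M)).mkQ).lTensor N z := by
  induction z using TensorProduct.induction_on with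
  | zero => simp
  | add a b ha hb => rw [map_add, map_add, ha, hb]
  | tmul n m => rfl

theorem hmap_surjective : Function.Surjective (hmap (S := S) (N := N) x M) := by
  intro z
  obtain ⟨w, hw⟩ := LinearMap.lTensor_surjective N
    (Submodule.mkQ_surjective (x • (⊤ : Submodule R M))) z
  exact ⟨w, (hmap_eq_lTensor x M w).trans hw⟩

theorem lTensor_lsmul_apply (z : N ⊗[R] M) :
    (LinearMap.lsmul R M x).lTensor N z = algebraMap R S x • z := by
  induction z using TensorProduct.induction_on with
  | zero => simp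
  | add a b ha hb => rw [map_add, ha, hb, smul_add]
  | tmul n m =>
    rw [LinearMap.lTensor_tmul, TensorProduct.smul_tmul', algebraMap_smul]
    show n ⊗ₜ[R] (x • m) = (x • n) ⊗ₜ[R] m
    rw [TensorProduct.tmul_smul, TensorProduct.smul_tmul']

theorem ker_hmap :
    algebraMap R S x • (⊤ : Submodule S (N ⊗[R] M)) =
      LinearMap.ker (hmap (S := S) (N := N) x M) := by
  apply le_antisymm
  · intro z hz
    obtain ⟨w, -, rfl⟩ := (Submodule.mem_smul_pointwise_iff_exists _ _ _).mp hz
    rw [LinearMap.mem_ker, hmap_eq_lTensor, ← lTensor_lsmul_apply (S := S), ← LinearMap.comp_apply,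
      ← LinearMap.lTensor_comp]
    have : (x • (⊤ : Submodule R M)).mkQ ∘ₗ LinearMap.lsmul R M x = 0 := by
      ext m
      exact (exact_lsmul_mkQ x M).apply_apply_eq_zero m
    rw [this, LinearMap.lTensor_zero, LinearMap.zero_apply]
  · intro z hz
    rw [LinearMap.mem_ker, hmap_eq_lTensor] at hz
    have hex := lTensor_exact N (exact_lsmul_mkQ x M) (Submodule.mkQ_surjective _)
    obtain ⟨w, rfl⟩ := (hex z).mp hz
    rw [lTensor_lsmul_apply (S := S)]
    exact Submodule.smul_mem_pointwise_smul w _ ⊤ Submodule.mem_top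

/-- `(N ⊗ M) / x (N ⊗ M) ≃ N ⊗ (M / x M)`, `S`-linearly. -/
noncomputable def tensorQuotEquiv :
    QuotSMulTop (algebraMap R S x) (N ⊗[R] M) ≃ₗ[S] N ⊗[R] (QuotSMulTop x M) :=
  (Submodule.quotEquivOfEq _ _ (ker_hmap x M)).trans
    ((hmap (S := S) (N := N) x M).quotKerEquivOfSurjective (hmap_surjective x M))

end second

section third

variable {S' : Type u} [CommRing S'] {N' : Type u} [AddCommGroup N'] [Module S' N']

/-- `(N / yN) / J (N / yN) ≃ (N / JN) / y (N / JN)`. -/
noncomputable def fibQuotEquiv (J : Ideal S') (y : S') :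
    (QuotSMulTop y N' ⧸ (J • (⊤ : Submodule S' (QuotSMulTop y N')))) ≃ₗ[S']
      QuotSMulTop y (N' ⧸ (J • (⊤ : Submodule S' N'))) :=
  (Submodule.quotEquivOfEq _ _ (by
      rw [Submodule.map_smul'', Submodule.map_top, Submodule.range_mkQ])).symm.trans <|
    (Submodule.quotientQuotientEquivQuotientSup (y • (⊤ : Submodule S' N'))
      (J • (⊤ : Submodule S' N'))).trans <|
    (Submodule.quotEquivOfEq _ _ (sup_comm _ _)).trans <|
    (Submodule.quotientQuotientEquivQuotientSup (J • (⊤ : Submodule S' N'))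
      (y • (⊤ : Submodule S' N'))).symm.trans <|
    Submodule.quotEquivOfEq _ _ (by
      rw [Submodule.map_pointwise_smul, Submodule.map_top, Submodule.range_mkQ])

end third

end Groth.Agent.Helper8.FlatMod
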