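import Mathlib
import Groth.Prelude
import Groth.Agent.Lib.Helper8.FlatMod3
import Groth.Agent.Lib.Helper8.FlatDepth1
import Groth.Agent.Lib.Helper8.Depth3

/-!
# The depth formula for flat modules over a local homomorphism
-/

set_option autoImplicit false
universe u

namespace Groth.Agent.Helper8.FlatMod

open IsLocalRing TensorProduct Pointwise LocCoh Depth

variable {R S : Type u} [CommRing R] [CommRing S] [IsLocalRing R] [IsLocalRing S]
  [IsNoetherianRing R] [IsNoetherianRing S] [Algebra R S] [IsLocalHom (algebraMap R S)]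

section base

variable {N : Type u} [AddCommGroup N] [Module S N] [Module R N] [IsScalarTower R S N]

omit [IsLocalRing S] [IsNoetherianRing R] [IsNoetherianRing S] [IsLocalHom (algebraMap R S)] in
/-- `n ⊗ x = 0` when `n ∈ mN` and `m x = 0`. -/
theorem tmul_eq_zero_of_mem_smul_top {M : Type u} [AddCommGroup M] [Module R M] (x : M)
    (hx : ∀ a ∈ maximalIdeal R, a • x = 0) {n : N}
    (hn : n ∈ maximalIdeal R • (⊤ : Submodule R N)) : n ⊗ₜ[R] x = 0 := by
  refine Submodule.smul_induction_on hn ?_ ?_
  · intro a ha n' _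
    rw [TensorProduct.smul_tmul, hx a ha, TensorProduct.tmul_zero]
  · intro a b ha hb
    rw [TensorProduct.add_tmul, ha, hb, add_zero]

omit [IsLocalRing S] [IsNoetherianRing R] [IsNoetherianRing S] [IsLocalHom (algebraMap R S)] in
/-- For flat `N` and `x` with annihilator `m`: `n ⊗ x = 0` only when `n ∈ mN`. -/
theorem mem_smul_top_of_tmul_eq_zero [Module.Flat R N] {M : Type u} [AddCommGroup M] [Module R M]
    (x : M) (hx : maximalIdeal R = Submodule.colon (⊥ : Submodule R M) {x}) {n : N}
    (hn : n ⊗ₜ[R] x = 0) : n ∈ maximalIdeal R • (⊤ : Submodule R N) := by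
  have hle : maximalIdeal R ≤ LinearMap.ker (LinearMap.toSpanSingleton R M x) := by
    intro a ha
    rw [hx, Submodule.mem_colon_singleton, Submodule.mem_bot] at ha
    rw [LinearMap.mem_ker, LinearMap.toSpanSingleton_apply]
    exact ha
  let ι : (R ⧸ maximalIdeal R) →ₗ[R] M :=
    Submodule.liftQ (maximalIdeal R) (LinearMap.toSpanSingleton R M x) hle
  have hι : Function.Injective ι := by
    rw [← LinearMap.ker_eq_bot, Submodule.ker_liftQ_eq_bot']
    apply le_antisymm hle
    intro a ha
    rw [LinearMap.mem_ker, LinearMap.toSpanSingleton_apply] at ha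
    rw [hx, Submodule.mem_colon_singleton, Submodule.mem_bot]
    exact ha
  have hflat := Module.Flat.lTensor_preserves_injective_linearMap (M := N) ι hι
  have h1 : ι.lTensor N (n ⊗ₜ[R] (Ideal.Quotient.mk (maximalIdeal R) 1)) = 0 := by
    rw [LinearMap.lTensor_tmul]
    have : ι (Ideal.Quotient.mk (maximalIdeal R) 1) = x := by
      show (LinearMap.toSpanSingleton R M x) 1 = x
      simp
    rw [this, hn]
  have h2 : n ⊗ₜ[R] (Ideal.Quotient.mk (maximalIdeal R) 1) = 0 := hflat (h1.trans (map_zero _).symm)
  have h3 := congrArg (TensorProduct.tensorQuotEquivQuotSMul N (maximalIdeal R)) h2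
  rw [TensorProduct.tensorQuotEquivQuotSMul_tmul_mk, map_zero, one_smul,
    Submodule.Quotient.mk_eq_zero] at h3
  exact h3

end base

/-- The fibre module `N / mN` as an `S`-module. -/
abbrev Fib (R S : Type u) [CommRing R] [CommRing S] [IsLocalRing R] [Algebra R S]
    (N : Type u) [AddCommGroup N] [Module S N] : Type u :=
  N ⧸ ((maximalIdeal R).map (algebraMap R S) • (⊤ : Submodule S N))

section A

variable (M : Type u) [AddCommGroup M] [Module R M] [Module.Finite R M]

/-- The case `depth M = 0`, `depth (N/mN) = 0`. -/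
theorem depth_tensor_eq_zero (hM : maximalIdeal R ∈ associatedPrimes R M)
    (N : Type u) [AddCommGroup N] [Module S N] [Module R N] [IsScalarTower R S N]
    [Module.Finite S N] [Module.Flat R N]
    (hF : depth S (Fib R S N) = 0) : depth S (N ⊗[R] M) = 0 := by
  obtain ⟨-, x, hx⟩ := (Submodule.isAssociatedPrime_iff).mp hM
  have hxm : ∀ a ∈ maximalIdeal R, a • x = 0 := by
    intro a ha
    rw [hx, Submodule.mem_colon_singleton, Submodule.mem_bot] at ha
    exact ha
  have hF' := (depth_eq_zero_iff S (Fib R S N)).mp hF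
  obtain ⟨-, fbar, hfbar⟩ := (Submodule.isAssociatedPrime_iff).mp hF'
  obtain ⟨f, rfl⟩ := Submodule.mkQ_surjective _ fbar
  have hfne : f ∉ (maximalIdeal R).map (algebraMap R S) • (⊤ : Submodule S N) := by
    intro hf
    have h0 : ((maximalIdeal R).map (algebraMap R S) • (⊤ : Submodule S N)).mkQ f = 0 :=
      (Submodule.Quotient.mk_eq_zero _).mpr hf
    have : (1 : S) ∈ maximalIdeal S := by
      rw [hfbar, Submodule.mem_colon_singleton, Submodule.mem_bot, h0, smul_zero]
    exact (maximalIdeal.isMaximal S).ne_top ((Ideal.eq_top_iff_one _).mpr this)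
  have hw : f ⊗ₜ[R] x ≠ 0 := by
    intro h
    have := mem_smul_top_of_tmul_eq_zero (N := N) x hx h
    rw [mem_smul_top_iff (S := S)] at this
    exact hfne this
  have hkill : ∀ s ∈ maximalIdeal S, s • (f ⊗ₜ[R] x) = 0 := by
    intro s hs
    rw [hfbar, Submodule.mem_colon_singleton, Submodule.mem_bot, ← map_smul,
      Submodule.mkQ_apply, Submodule.Quotient.mk_eq_zero, ← mem_smul_top_iff (S := S)] at hs
    rw [TensorProduct.smul_tmul']
    exact tmul_eq_zero_of_mem_smul_top x hxm hs
  haveI : Module.Finite S (N ⊗[R] M) := finite_tensorProduct M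
  haveI : Nontrivial (N ⊗[R] M) := ⟨⟨_, 0, hw⟩⟩
  exact FlatDepth.idealDepth_eq_zero_of_smul_eq_zero (maximalIdeal S) (N ⊗[R] M)
    (smul_top_ne_top_of_local S _) _ hw hkill

omit [IsNoetherianRing R] [Module.Finite R M] in
theorem nontrivial_tensor (hM : maximalIdeal R ∈ associatedPrimes R M)
    (N : Type u) [AddCommGroup N] [Module S N] [Module R N] [IsScalarTower R S N]
    [Module.Finite S N] [Module.Flat R N] [Nontrivial N] [IsNoetherianRing R] :
    Nontrivial (N ⊗[R] M) := by
  obtain ⟨-, x, hx⟩ := (Submodule.isAssociatedPrime_iff).mp hM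
  have hne : (maximalIdeal R).map (algebraMap R S) • (⊤ : Submodule S N) ≠ ⊤ := by
    intro h
    apply smul_top_ne_top_of_local S N
    have h1 : (maximalIdeal R).map (algebraMap R S) • (⊤ : Submodule S N) ≤
        maximalIdeal S • (⊤ : Submodule S N) :=
      Submodule.smul_mono_left (IsLocalRing.map_maximalIdeal_le (algebraMap R S))
    rw [h] at h1
    exact top_le_iff.mp h1
  obtain ⟨f, -, hf⟩ := SetLike.exists_of_lt (lt_top_iff_ne_top.mpr hne)
  refine ⟨⟨f ⊗ₜ[R] x, 0, fun h => hf ?_⟩⟩
  have := mem_smul_top_of_tmul_eq_zero (N := N) x hx h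
  rwa [mem_smul_top_iff (S := S)] at this

theorem smul_top_quotSMulTop_ne_top (N : Type u) [AddCommGroup N] [Module S N]
    [Module.Finite S N] [Nontrivial N] (y : S) (hy : y ∈ maximalIdeal S) :
    Nontrivial (QuotSMulTop y N) := by
  rw [Submodule.Quotient.nontrivial_iff]
  intro h
  apply smul_top_ne_top_of_local S N
  have h1 : y • (⊤ : Submodule S N) ≤ maximalIdeal S • (⊤ : Submodule S N) := by
    intro z hz
    obtain ⟨w, -, rfl⟩ := (Submodule.mem_smul_pointwise_iff_exists _ _ _).mp hz
    exact Submodule.smul_mem_smul hy Submodule.mem_top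
  rw [h] at h1
  exact top_le_iff.mp h1

/-- The case `depth M = 0`. -/
theorem depth_tensor_of_depth_zero (hM : maximalIdeal R ∈ associatedPrimes R M) :
    ∀ (d : ℕ) (N : Type u) [AddCommGroup N] [Module S N] [Module R N] [IsScalarTower R S N]
      [Module.Finite S N] [Module.Flat R N] [Nontrivial N],
      depth S (Fib R S N) = d → depth S (N ⊗[R] M) = d := by
  intro d
  induction d with
  | zero =>
    intro N _ _ _ _ _ _ _ hF
    rw [depth_tensor_eq_zero M hM N (by simpa using hF)]
    rfl
  | succ d ih =>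
    intro N _ _ _ _ _ _ _ hF
    have hFtop : maximalIdeal S • (⊤ : Submodule S (Fib R S N)) ≠ ⊤ := by
      intro h
      unfold LocCoh.depth at hF
      rw [idealDepth_of_smul_top_eq _ _ h] at hF
      exact absurd hF.symm (ENat.natCast_ne_top _)
    obtain ⟨rs, hlen, hreg, hmem⟩ := (le_idealDepth_iff hFtop (d + 1)).mp hF.ge
    match rs, hlen, hreg, hmem with
    | [], hlen, _, _ => simp at hlen
    | y :: rs', hlen, hreg, hmem =>
      rw [RingTheory.Sequence.isWeaklyRegular_cons_iff] at hreg
      have hy : IsSMulRegular (Fib R S N) y := hreg.1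
      have hyn : y ∈ maximalIdeal S := hmem y List.mem_cons_self
      have hd := idealDepth_quotSMulTop_add_one hFtop hyn hy
      haveI : Module.Flat R (QuotSMulTop y N) := flat_quotSMulTop y hy
      haveI : Nontrivial (QuotSMulTop y N) := smul_top_quotSMulTop_ne_top N y hyn
      have hF' : depth S (Fib R S (QuotSMulTop y N)) = d := by
        unfold LocCoh.depth at hF ⊢
        rw [idealDepth_congr (fibQuotEquiv _ y)]
        rw [hF] at hd
        have h5 : idealDepth (maximalIdeal S) (QuotSMulTop y (Fib R S N)) + 1 = (d : ℕ∞) + 1 := by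
          rw [hd]; push_cast; rfl
        exact (ENat.add_left_injective_of_ne_top ENat.one_ne_top) h5
      have h1 := ih (QuotSMulTop y N) hF'
      have hreg' : IsSMulRegular (N ⊗[R] M) y := isSMulRegular_tensor y hy M
      haveI : Module.Finite S (N ⊗[R] M) := finite_tensorProduct M
      haveI : Nontrivial (N ⊗[R] M) := nontrivial_tensor (S := S) M hM N
      have htop : maximalIdeal S • (⊤ : Submodule S (N ⊗[R] M)) ≠ ⊤ :=
        smul_top_ne_top_of_local S _
      have hd2 := idealDepth_quotSMulTop_add_one htop hyn hreg'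
      rw [idealDepth_congr (quotTensorEquiv y M)] at hd2
      unfold LocCoh.depth at h1 ⊢
      rw [← hd2, h1]
      push_cast
      rfl

end A

end Groth.Agent.Helper8.FlatMod
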