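import Mathlib
import Groth.Prelude
import Groth.Agent.Lib.Helper8.FlatMod4

/-!
# The depth formula for flat modules over a local homomorphism (general case)
-/

set_option autoImplicit false
universe u

namespace Groth.Agent.Helper8.FlatMod

open IsLocalRing TensorProduct Pointwise LocCoh Depth

variable {R S : Type u} [CommRing R] [CommRing S] [IsLocalRing R] [IsLocalRing S]
  [IsNoetherianRing R] [IsNoetherianRing S] [Algebra R S] [IsLocalHom (algebraMap R S)]

variable (N : Type u) [AddCommGroup N] [Module S N] [Module R N] [IsScalarTower R S N]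
  [Module.Finite S N] [Module.Flat R N]

omit [IsNoetherianRing R] [IsNoetherianRing S] [Module.Flat R N] in
theorem nontrivial_fib [Nontrivial N] : Nontrivial (Fib R S N) := by
  rw [Submodule.Quotient.nontrivial_iff]
  intro h
  apply smul_top_ne_top_of_local S N
  have h1 : (maximalIdeal R).map (algebraMap R S) • (⊤ : Submodule S N) ≤
      maximalIdeal S • (⊤ : Submodule S N) :=
    Submodule.smul_mono_left (IsLocalRing.map_maximalIdeal_le (algebraMap R S))
  rw [h] at h1
  exact top_le_iff.mp h1

omit [IsLocalRing S] [IsNoetherianRing R] [IsNoetherianRing S] [IsLocalHom (algebraMap R S)]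
  [Module.Finite S N] in
/-- An `M`-regular element of `R` is `N ⊗ M`-regular. -/
theorem isSMulRegular_tensor_of_base (M : Type u) [AddCommGroup M] [Module R M] (x : R)
    (hx : IsSMulRegular M x) : IsSMulRegular (N ⊗[R] M) (algebraMap R S x) := by
  have hinj : Function.Injective (LinearMap.lsmul R M x) := hx
  have h := Module.Flat.lTensor_preserves_injective_linearMap (M := N) _ hinj
  intro a b hab
  apply h
  rw [lTensor_lsmul_apply (S := S), lTensor_lsmul_apply (S := S)]
  exact hab

theorem depth_tensor [Nontrivial N] :
    ∀ (r : ℕ) (M : Type u) [AddCommGroup M] [Module R M] [Module.Finite R M] [Nontrivial M],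
      depth R M = r → depth S (N ⊗[R] M) = r + depth S (Fib R S N) := by
  haveI := nontrivial_fib (R := R) (S := S) N
  have hFtop : maximalIdeal S • (⊤ : Submodule S (Fib R S N)) ≠ ⊤ := smul_top_ne_top_of_local S _
  obtain ⟨d, hd⟩ := ENat.ne_top_iff_exists.mp (idealDepth_ne_top hFtop)
  have hd' : depth S (Fib R S N) = d := hd.symm
  intro r
  induction r with
  | zero =>
    intro M _ _ _ _ hM
    have hass := (depth_eq_zero_iff R M).mp (by simpa using hM)
    rw [depth_tensor_of_depth_zero M hass d N hd', hd']
    simp
  | succ r ih =>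
    intro M _ _ _ _ hM
    have htopM : maximalIdeal R • (⊤ : Submodule R M) ≠ ⊤ := smul_top_ne_top_of_local R M
    obtain ⟨rs, hlen, hreg, hmem⟩ := (le_idealDepth_iff htopM (r + 1)).mp hM.ge
    match rs, hlen, hreg, hmem with
    | [], hlen, _, _ => simp at hlen
    | x :: rs', hlen, hreg, hmem =>
      rw [RingTheory.Sequence.isWeaklyRegular_cons_iff] at hreg
      have hx : IsSMulRegular M x := hreg.1
      have hxm : x ∈ maximalIdeal R := hmem x List.mem_cons_self
      have hdM := idealDepth_quotSMulTop_add_one htopM hxm hx
      haveI : Nontrivial (QuotSMulTop x M) := smul_top_quotSMulTop_ne_top M x hxm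
      have hM' : depth R (QuotSMulTop x M) = r := by
        unfold LocCoh.depth at hM ⊢
        rw [hM] at hdM
        have h5 : idealDepth (maximalIdeal R) (QuotSMulTop x M) + 1 = (r : ℕ∞) + 1 := by
          rw [hdM]; push_cast; rfl
        exact (ENat.add_left_injective_of_ne_top ENat.one_ne_top) h5
      have h1 := ih (QuotSMulTop x M) hM'
      have hreg' : IsSMulRegular (N ⊗[R] M) (algebraMap R S x) :=
        isSMulRegular_tensor_of_base N M x hx
      have hxn : algebraMap R S x ∈ maximalIdeal S :=
        IsLocalRing.map_maximalIdeal_le (algebraMap R S) (Ideal.mem_map_of_mem _ hxm)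
      haveI : Module.Finite S (N ⊗[R] M) := finite_tensorProduct M
      have htop : maximalIdeal S • (⊤ : Submodule S (N ⊗[R] M)) ≠ ⊤ := by
        intro h
        have hsub : Subsingleton (N ⊗[R] M) := by
          by_contra hns
          rw [not_subsingleton_iff_nontrivial] at hns
          exact smul_top_ne_top_of_local S _ h
        have hsub2 : Subsingleton (N ⊗[R] QuotSMulTop x M) :=
          (tensorQuotEquiv (S := S) (N := N) x M).symm.toEquiv.subsingleton
        rw [depth_eq_top_of_subsingleton, hd'] at h1
        exact absurd h1 (by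
          have : ((r : ℕ∞) + (d : ℕ∞)) ≠ ⊤ := by
            exact_mod_cast ENat.natCast_ne_top (r + d)
          exact fun h => this h.symm)
      have hd2 := idealDepth_quotSMulTop_add_one htop hxn hreg'
      rw [idealDepth_congr (tensorQuotEquiv (S := S) (N := N) x M)] at hd2
      unfold LocCoh.depth at h1 ⊢
      rw [← hd2, h1]
      push_cast
      ring

/-- S2062: the depth formula. -/
theorem depth_formula (M : Type u) [AddCommGroup M] [Module R M] [Module.Finite R M] :
    depth S (N ⊗[R] M) = depth R M + depth S (Fib R S N) := by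
  rcases subsingleton_or_nontrivial N with hN | hN
  · rw [depth_eq_top_of_subsingleton S (N ⊗[R] M), depth_eq_top_of_subsingleton S (Fib R S N)]
    simp
  rcases subsingleton_or_nontrivial M with hM | hM
  · rw [depth_eq_top_of_subsingleton S (N ⊗[R] M), depth_eq_top_of_subsingleton R M]
    simp
  have htopM : maximalIdeal R • (⊤ : Submodule R M) ≠ ⊤ := smul_top_ne_top_of_local R M
  obtain ⟨r, hr⟩ := ENat.ne_top_iff_exists.mp (idealDepth_ne_top htopM)
  have hr' : depth R M = r := hr.symm
  rw [depth_tensor N r M hr', hr']

end Groth.Agent.Helper8.FlatMod
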