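import Mathlib

/-!
# Finite length and dimension over general Noetherian rings; systems of parameters in
semi-local rings
-/

namespace Groth.Agent.Helper8.KoszulLib

open scoped Pointwise

universe u

variable {A : Type u} [CommRing A]

/-- The support of a module of finite length consists of maximal ideals. -/
theorem isMaximal_of_mem_support_of_isFiniteLength {N : Type*} [AddCommGroup N] [Module A N]
    (h : IsFiniteLength A N) : ∀ p ∈ Module.support A N, p.asIdeal.IsMaximal := by
  induction h with
  | of_subsingleton =>
    intro p hp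
    rw [Module.support_eq_empty] at hp
    exact absurd hp (Set.notMem_empty _)
  | @of_simple_quotient M _ _ S _ _ ih =>
    intro p hp
    rw [Module.support_of_exact (LinearMap.exact_subtype_mkQ S) S.subtype_injective
      S.mkQ_surjective] at hp
    rcases hp with hp | hp
    · exact ih p hp
    · have h1 := Module.annihilator_le_of_mem_support hp
      have h2 : (Module.annihilator A (M ⧸ S)).IsMaximal := IsSimpleModule.annihilator_isMaximal
      have := h2.eq_of_le p.2.ne_top h1
      rw [← this]
      exact h2

theorem supportDim_le_zero_of_isFiniteLength' {N : Type*} [AddCommGroup N] [Module A N]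
    (h : IsFiniteLength A N) : Module.supportDim A N ≤ 0 := by
  unfold Module.supportDim
  rw [Order.krullDim_nonpos_iff_forall_isMax]
  rintro ⟨p, hp⟩ ⟨q, hq⟩ hpq
  have hmax := isMaximal_of_mem_support_of_isFiniteLength h p hp
  have : p.asIdeal = q.asIdeal := hmax.eq_of_le q.2.ne_top hpq
  exact le_of_eq (Subtype.ext (PrimeSpectrum.ext this.symm))

section noeth

variable [IsNoetherianRing A]

/-- A finite module over a Noetherian ring whose annihilator has only maximal minimal primes has
finite length. -/
theorem isFiniteLength_of_minimalPrimes_isMaximal (N : Type*) [AddCommGroup N] [Module A N]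
    [Module.Finite A N]
    (h : ∀ p ∈ (Module.annihilator A N).minimalPrimes, p.IsMaximal) : IsFiniteLength A N := by
  letI : Module (A ⧸ Module.annihilator A N) N := Module.quotientAnnihilator
  have : IsScalarTower A (A ⧸ Module.annihilator A N) N := by
    constructor
    intro a b n
    obtain ⟨b, rfl⟩ := Ideal.Quotient.mk_surjective b
    rw [Algebra.smul_def]
    change (Ideal.Quotient.mk _ a * Ideal.Quotient.mk _ b) • n = a • (Ideal.Quotient.mk _ b) • n
    rw [← map_mul]
    change (a * b) • n = a • b • n
    rw [mul_smul]
  have hdim : Ring.KrullDimLE 0 (A ⧸ Module.annihilator A N) :=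
    Ideal.krullDimLE_zero_quotient_iff_forall_minimalPrimes_isMaximal.mpr h
  have hart : IsArtinianRing (A ⧸ Module.annihilator A N) :=
    isArtinianRing_iff_krullDimLE_zero.mpr hdim
  have hfin : Module.Finite (A ⧸ Module.annihilator A N) N :=
    Module.Finite.of_restrictScalars_finite A _ N
  have h1 : IsFiniteLength (A ⧸ Module.annihilator A N) N :=
    isFiniteLength_iff_isNoetherian_isArtinian.mpr ⟨inferInstance, inferInstance⟩
  rw [← Module.length_ne_top_iff] at h1 ⊢
  rwa [Module.length_eq_of_surjective (S := A) (R := A ⧸ Module.annihilator A N)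
    Ideal.Quotient.mk_surjective]

/-- A finite module of dimension `≤ 0` over a Noetherian ring has finite length. -/
theorem isFiniteLength_of_supportDim_le_zero (N : Type*) [AddCommGroup N] [Module A N]
    [Module.Finite A N] (h : Module.supportDim A N ≤ 0) : IsFiniteLength A N := by
  refine isFiniteLength_of_minimalPrimes_isMaximal N (fun p hp => ?_)
  have hpp : p.IsPrime := hp.1.1
  by_contra hmax
  obtain ⟨m, hm, hpm⟩ := Ideal.exists_le_maximal p hpp.ne_top
  have hlt : p < m := lt_of_le_of_ne hpm (fun e => hmax (e ▸ hm))
  unfold Module.supportDim at h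
  rw [Order.krullDim_nonpos_iff_forall_isMax] at h
  have hp' : (⟨p, hpp⟩ : PrimeSpectrum A) ∈ Module.support A N :=
    Module.mem_support_iff_of_finite.mpr hp.1.2
  have hm' : (⟨m, hm.isPrime⟩ : PrimeSpectrum A) ∈ Module.support A N :=
    Module.mem_support_mono hpm hp'
  have := h ⟨_, hp'⟩ (b := ⟨_, hm'⟩) hpm
  exact absurd (this : m ≤ p) (not_le_of_gt hlt)

omit [IsNoetherianRing A] in
/-- Dimension drops when dividing by an element avoiding the non-maximal minimal primes. -/
theorem supportDim_quotSMulTop_le_of_notMem {M : Type*} [AddCommGroup M] [Module A M]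
    [Module.Finite A M] (x : A)
    (hx : ∀ p ∈ (Module.annihilator A M).minimalPrimes, ¬ p.IsMaximal → x ∉ p) (n : ℕ)
    (hn : Module.supportDim A M ≤ ((n + 1 : ℕ) : WithBot ℕ∞)) :
    Module.supportDim A (QuotSMulTop x M) ≤ (n : WithBot ℕ∞) := by
  unfold Module.supportDim at hn ⊢
  refine iSup_le fun p => ?_
  by_cases hp0 : p.length = 0
  · rw [hp0]
    exact_mod_cast Nat.zero_le n
  have hle : Module.support A (QuotSMulTop x M) ⊆ Module.support A M := by simp
  have hhead := p.head.2
  simp only [Module.support_quotSMulTop, Set.mem_inter_iff, PrimeSpectrum.mem_zeroLocus,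
    Set.singleton_subset_iff] at hhead
  obtain ⟨q, hq, hqle⟩ := Ideal.exists_minimalPrimes_le
    (Module.mem_support_iff_of_finite.mp hhead.1)
  have hqp : q.IsPrime := hq.1.1
  have hne : q ≠ p.head.1.asIdeal := by
    intro e
    -- `p.head` is not maximal since the chain has positive length
    have h1 : p.head < p.last := p.strictMono (by
      rw [Fin.lt_def]
      simp only [Fin.val_zero, Fin.val_last]
      omega)
    have hnm : ¬ q.IsMaximal := by
      intro hm
      have h2 : p.head.1.asIdeal ≤ p.last.1.asIdeal := h1.le
      rw [← e] at h2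
      have h3 := hm.eq_of_le p.last.1.2.ne_top h2
      have h4 : p.head.1.asIdeal = p.last.1.asIdeal := e ▸ h3
      exact absurd (Subtype.ext (PrimeSpectrum.ext h4)) h1.ne
    exact hx q hq hnm (e ▸ hhead.2)
  let q' : Module.support A M :=
    ⟨⟨q, hqp⟩, Module.mem_support_iff_of_finite.mpr hq.1.2⟩
  let p' : LTSeries (Module.support A M) :=
    p.map (Set.MapsTo.restrict id _ _ hle) (fun _ _ h => h)
  have hlt : q' < p'.head := lt_of_le_of_ne hqle (fun h => hne (congrArg (fun z => z.1.asIdeal) h))
  have h5 := (le_iSup (fun s : LTSeries (Module.support A M) => (s.length : WithBot ℕ∞))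
    (p'.cons q' hlt)).trans hn
  have h6 : (p'.cons q' hlt).length = p.length + 1 := by
    rw [RelSeries.cons_length]
    rfl
  rw [h6] at h5
  have h7 : p.length + 1 ≤ n + 1 := by exact_mod_cast h5
  exact_mod_cast Nat.le_of_succ_le_succ h7

end noeth

end Groth.Agent.Helper8.KoszulLib
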