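import Mathlib
import Groth.Agent.Lib.Helper8.KG1

/-!
# Systems of parameters in semi-local Noetherian rings
-/

namespace Groth.Agent.Helper8.KoszulLib

open scoped Pointwise

universe u

variable {A : Type u} [CommRing A]

section noeth

variable [IsNoetherianRing A]

/-- The dimension is at most the number of parameters (elements of the Jacobson radical). -/
theorem supportDim_le_length' : ∀ (l : List A) (N : Type u) [AddCommGroup N] [Module A N]
    [Module.Finite A N], (∀ a ∈ l, a ∈ Ring.jacobson A) →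
    IsFiniteLength A (N ⧸ Ideal.ofList l • (⊤ : Submodule A N)) →
    Module.supportDim A N ≤ (l.length : WithBot ℕ∞)
  | [], N, _, _, _, _, h => by
    have e : (N ⧸ Ideal.ofList ([] : List A) • (⊤ : Submodule A N)) ≃ₗ[A] N :=
      Submodule.quotEquivOfEqBot _ (by simp)
    have := supportDim_le_zero_of_isFiniteLength' (e.isFiniteLength h)
    simpa using this
  | y :: l, N, _, _, _, hmem, h => by
    have e := Submodule.quotOfListConsSMulTopEquivQuotSMulTopInner N y l
    have h1 := supportDim_le_length' l (QuotSMulTop y N)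
      (fun a ha => hmem a (List.mem_cons_of_mem _ ha)) (e.isFiniteLength h)
    have h2 := Module.supportDim_le_supportDim_quotSMulTop_succ_of_mem_jacobson (M := N)
      (Ideal.ringJacobson_le_jacobson (hmem y List.mem_cons_self))
    refine h2.trans ?_
    simp only [List.length_cons, Nat.cast_add, Nat.cast_one]
    exact add_le_add_left h1 1

variable [Finite (MaximalSpectrum A)]

/-- Prime avoidance in the Jacobson radical of a semi-local ring. -/
theorem exists_mem_jacobson_notMem (M : Type*) [AddCommGroup M] [Module A M] :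
    ∃ x ∈ Ring.jacobson A, ∀ p ∈ (Module.annihilator A M).minimalPrimes,
      ¬ p.IsMaximal → x ∉ p := by
  classical
  have hfin : {p ∈ (Module.annihilator A M).minimalPrimes | ¬ p.IsMaximal}.Finite :=
    ((Module.annihilator A M).finite_minimalPrimes_of_isNoetherianRing).subset
      (fun p hp => hp.1)
  set S := hfin.toFinset with hS
  by_contra hcon
  push Not at hcon
  have hsub : ((Ring.jacobson A : Ideal A) : Set A) ⊆ ⋃ p ∈ (S : Set (Ideal A)), (id p : Ideal A) := by
    intro x hx
    obtain ⟨p, hp, hnm, hxp⟩ := hcon x hx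
    refine Set.mem_biUnion (x := p) ?_ hxp
    rw [hS]
    simpa using ⟨hp, hnm⟩
  obtain ⟨p, hpS, hle⟩ := (Ideal.subset_union_prime (R := A) (s := S) (f := id) ⊥ ⊥
    (fun i hi _ _ => by
      rw [hS, Set.Finite.mem_toFinset] at hi
      exact hi.1.1.1)).mp hsub
  rw [hS, Set.Finite.mem_toFinset] at hpS
  obtain ⟨hpmin, hpnm⟩ := hpS
  have hpp : p.IsPrime := hpmin.1.1
  have : Fintype (MaximalSpectrum A) := Fintype.ofFinite _
  have hjac : Ring.jacobson A = Finset.univ.inf (fun m : MaximalSpectrum A => m.asIdeal) := by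
    rw [Ring.jacobson_eq_sInf_isMaximal]
    apply le_antisymm
    · refine Finset.le_inf fun m _ => sInf_le m.isMaximal
    · refine le_sInf fun I hI => ?_
      exact Finset.inf_le (f := fun m : MaximalSpectrum A => m.asIdeal)
        (Finset.mem_univ (⟨I, hI⟩ : MaximalSpectrum A))
  rw [hjac] at hle
  obtain ⟨m, -, hm⟩ := (Ideal.IsPrime.inf_le' hpp).mp hle
  have := m.isMaximal.eq_of_le hpp.ne_top hm
  exact hpnm (this ▸ m.isMaximal)

/-- Existence of systems of parameters in semi-local rings. -/
theorem exists_parameters_of_supportDim_le : ∀ (n : ℕ) (M : Type u) [AddCommGroup M]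
    [Module A M] [Module.Finite A M], Module.supportDim A M ≤ (n : WithBot ℕ∞) →
    ∃ l : List A, l.length = n ∧ (∀ a ∈ l, a ∈ Ring.jacobson A) ∧
      IsFiniteLength A (M ⧸ Ideal.ofList l • (⊤ : Submodule A M))
  | 0, M, _, _, _, h => by
    refine ⟨[], rfl, by simp, ?_⟩
    have e : (M ⧸ Ideal.ofList ([] : List A) • (⊤ : Submodule A M)) ≃ₗ[A] M :=
      Submodule.quotEquivOfEqBot _ (by simp)
    exact e.symm.isFiniteLength (isFiniteLength_of_supportDim_le_zero M (by simpa using h))
  | n + 1, M, _, _, _, h => by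
    obtain ⟨x, hxj, hx⟩ := exists_mem_jacobson_notMem (A := A) M
    have h1 := supportDim_quotSMulTop_le_of_notMem x hx n h
    obtain ⟨l, hl, hlj, hfl⟩ := exists_parameters_of_supportDim_le n (QuotSMulTop x M) h1
    refine ⟨x :: l, by simp [hl], ?_, ?_⟩
    · intro a ha
      rcases List.mem_cons.mp ha with rfl | ha
      · exact hxj
      · exact hlj a ha
    · exact (Submodule.quotOfListConsSMulTopEquivQuotSMulTopInner M x l).symm.isFiniteLength hfl

/-- The dimension of a semi-local Noetherian ring is finite. -/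
theorem exists_ringKrullDim_le : ∃ n : ℕ, ringKrullDim A ≤ (n : WithBot ℕ∞) := by
  classical
  have : Fintype (MaximalSpectrum A) := Fintype.ofFinite _
  obtain ⟨N, hN⟩ : ∃ N : ℕ, ∀ m : MaximalSpectrum A, m.asIdeal.height.toNat ≤ N :=
    ⟨Finset.univ.sup (fun m : MaximalSpectrum A => m.asIdeal.height.toNat), fun m =>
      Finset.le_sup (f := fun m : MaximalSpectrum A => m.asIdeal.height.toNat)
        (Finset.mem_univ m)⟩
  refine ⟨N, ?_⟩
  rw [ringKrullDim_le_iff_isMaximal_height_le]
  intro m hm
  have h1 : m.height ≠ ⊤ := (Ideal.height_lt_top hm.ne_top).ne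
  have h2 : m.height.toNat ≤ N := hN ⟨m, hm⟩
  obtain ⟨k, hk⟩ := ENat.ne_top_iff_exists.mp h1
  rw [← hk] at h2 ⊢
  rw [ENat.toNat_natCast] at h2
  exact_mod_cast h2

theorem exists_supportDim_eq (M : Type u) [AddCommGroup M] [Module A M] [Nontrivial M] :
    ∃ n : ℕ, Module.supportDim A M = (n : WithBot ℕ∞) := by
  obtain ⟨k, hk⟩ := exists_ringKrullDim_le (A := A)
  have h1 : Module.supportDim A M ≤ (k : WithBot ℕ∞) :=
    (Module.supportDim_le_ringKrullDim A M).trans hk
  have h2 : Module.supportDim A M ≠ ⊥ := Module.supportDim_ne_bot_of_nontrivial A M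
  obtain ⟨e, he⟩ := WithBot.ne_bot_iff_exists.mp h2
  have h3 : e ≤ (k : ℕ∞) := by
    rw [← he] at h1
    exact_mod_cast h1
  obtain ⟨n, hn⟩ := ENat.ne_top_iff_exists.mp (ne_top_of_le_ne_top (ENat.natCast_ne_top k) h3)
  exact ⟨n, by rw [← he, ← hn]; rfl⟩

/-- **S3406.** -/
theorem supportDim_eq_sInf_card (M : Type u) [AddCommGroup M] [Module A M] [Module.Finite A M]
    [Nontrivial M] :
    Module.supportDim A M =
      sInf {k : WithBot ℕ∞ | ∃ (n : ℕ) (x : Fin n → A), k = n ∧ (∀ i, x i ∈ Ring.jacobson A) ∧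
        IsFiniteLength A (M ⧸ (Ideal.span (Set.range x) • (⊤ : Submodule A M)))} := by
  have hofFn : ∀ {n : ℕ} (x : Fin n → A),
      Ideal.ofList (List.ofFn x) = Ideal.span (Set.range x) := by
    intro n x
    unfold Ideal.ofList
    congr 1
    ext a
    simp [List.mem_ofFn]
  apply le_antisymm
  · refine le_sInf ?_
    rintro k ⟨n, x, rfl, hx, hfl⟩
    rw [← hofFn] at hfl
    have := supportDim_le_length' (List.ofFn x) M (fun a ha => by
      obtain ⟨i, rfl⟩ := (List.mem_ofFn' x a).mp ha
      exact hx i) hfl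
    rwa [List.length_ofFn] at this
  · obtain ⟨n, hn⟩ := exists_supportDim_eq (A := A) M
    obtain ⟨l, hl, hlj, hfl⟩ := exists_parameters_of_supportDim_le n M hn.le
    refine sInf_le ⟨n, fun i => l.get (i.cast hl.symm), hn, fun i => hlj _ (List.get_mem _ _), ?_⟩
    have e : Ideal.span (Set.range fun i : Fin n => l.get (i.cast hl.symm)) = Ideal.ofList l := by
      unfold Ideal.ofList
      congr 1
      ext a
      constructor
      · rintro ⟨i, rfl⟩
        exact List.get_mem _ _
      · intro ha
        obtain ⟨i, rfl⟩ := List.get_of_mem ha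
        exact ⟨i.cast hl, by simp⟩
    rw [e]
    exact hfl

end noeth

end Groth.Agent.Helper8.KoszulLib
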