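import Mathlib
import Groth.Prelude
import Groth.Agent.Lib.Helper8.FlatMod5
import Groth.Agent.Lib.Helper8.KG2
import Groth.Agent.Lib.Helper8.Depth8

/-!
# Dimension of a tensor product over a local homomorphism: the upper bound
-/

set_option autoImplicit false
universe u

namespace Groth.Agent.Helper8.FlatMod

open IsLocalRing TensorProduct Pointwise

section gen

variable {R : Type u} [CommRing R]

theorem supportDim_le_of_support_subset {X Y : Type*} [AddCommGroup X] [Module R X]
    [AddCommGroup Y] [Module R Y] (h : Module.support R X ⊆ Module.support R Y) :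
    Module.supportDim R X ≤ Module.supportDim R Y :=
  Order.krullDim_le_of_strictMono (Set.inclusion h) (fun _ _ h => h)

end gen

section ann

variable {R S : Type u} [CommRing R] [CommRing S] [Algebra R S]
variable (N : Type u) [AddCommGroup N] [Module S N] [Module R N] [IsScalarTower R S N]
variable (M : Type u) [AddCommGroup M] [Module R M]

theorem annihilator_le_annihilator_tensor :
    Module.annihilator S N ≤ Module.annihilator S (N ⊗[R] M) := by
  intro b hb
  rw [Module.mem_annihilator] at hb ⊢
  intro z
  induction z with
  | zero => simp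
  | tmul n m => rw [TensorProduct.smul_tmul', hb n, TensorProduct.zero_tmul]
  | add x y hx hy => rw [smul_add, hx, hy, add_zero]

theorem map_annihilator_le_annihilator_tensor :
    (Module.annihilator R M).map (algebraMap R S) ≤ Module.annihilator S (N ⊗[R] M) := by
  rw [Ideal.map_le_iff_le_comap]
  intro a ha
  rw [Ideal.mem_comap, Module.mem_annihilator]
  rw [Module.mem_annihilator] at ha
  intro z
  induction z with
  | zero => simp
  | tmul n m =>
    rw [TensorProduct.smul_tmul', algebraMap_smul, TensorProduct.smul_tmul, ha m,
      TensorProduct.tmul_zero]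
  | add x y hx hy => rw [smul_add, hx, hy, add_zero]

end ann

variable {R S : Type u} [CommRing R] [CommRing S] [IsLocalRing R] [IsLocalRing S]
  [IsNoetherianRing R] [IsNoetherianRing S] [Algebra R S] [IsLocalHom (algebraMap R S)]
variable (N : Type u) [AddCommGroup N] [Module S N] [Module R N] [IsScalarTower R S N]
  [Module.Finite S N]

omit [IsLocalRing S] [IsNoetherianRing S] [IsLocalHom (algebraMap R S)] in
theorem support_tensor_subset_of_supportDim_le_zero (M : Type u) [AddCommGroup M] [Module R M]
    [Module.Finite R M] (h : Module.supportDim R M ≤ 0) :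
    Module.support S (N ⊗[R] M) ⊆ Module.support S (Fib R S N) := by
  haveI : Module.Finite S (N ⊗[R] M) := finite_tensorProduct (S := S) (N := N) M
  by_cases hsub : Subsingleton M
  · haveI : Subsingleton (N ⊗[R] M) := inferInstance
    intro q hq
    rw [Module.support_eq_empty] at hq
    exact absurd hq (Set.notMem_empty q)
  · rw [not_subsingleton_iff_nontrivial] at hsub
    obtain ⟨n, hn⟩ := Groth.Agent.Helper8.Depth.exists_nat_supportDim (A := R) M
    have hn0 : n = 0 := by
      rw [hn] at h
      have : (n : WithBot ℕ∞) ≤ ((0 : ℕ) : WithBot ℕ∞) := h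
      have h2 : n ≤ 0 := by exact_mod_cast this
      omega
    subst hn0
    have hsupp := support_of_supportDim_eq_zero R M (by simpa using hn)
    rw [Module.support_eq_zeroLocus] at hsupp
    have hrad : maximalIdeal R ≤ (Module.annihilator R M).radical :=
      (PrimeSpectrum.zeroLocus_subset_zeroLocus_iff
        (Module.annihilator R M) (maximalIdeal R)).mp hsupp.le
    intro q hq
    show q ∈ Module.support S (N ⧸ ((maximalIdeal R).map (algebraMap R S) • (⊤ : Submodule S N)))
    rw [Module.support_quotient]
    rw [Module.mem_support_iff_of_finite] at hq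
    refine ⟨?_, ?_⟩
    · rw [Module.mem_support_iff_of_finite]
      exact (annihilator_le_annihilator_tensor N M).trans hq
    · rw [PrimeSpectrum.mem_zeroLocus, SetLike.coe_subset_coe, Ideal.map_le_iff_le_comap]
      have h1 : Module.annihilator R M ≤ q.asIdeal.comap (algebraMap R S) := by
        rw [← Ideal.map_le_iff_le_comap]
        exact (map_annihilator_le_annihilator_tensor N M).trans hq
      have h2 : (Module.annihilator R M).radical ≤ q.asIdeal.comap (algebraMap R S) :=
        (Ideal.IsPrime.radical_le_iff (Ideal.comap_isPrime _ _)).mpr h1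
      exact fun a ha => h2 (hrad ha)

theorem supportDim_tensor_le_aux : ∀ (r : ℕ) (M : Type u) [AddCommGroup M] [Module R M]
    [Module.Finite R M], Module.supportDim R M ≤ (r : WithBot ℕ∞) →
    Module.supportDim S (N ⊗[R] M) ≤ (r : WithBot ℕ∞) + Module.supportDim S (Fib R S N) := by
  intro r
  induction r with
  | zero =>
    intro M _ _ _ h
    have := supportDim_le_of_support_subset
      (support_tensor_subset_of_supportDim_le_zero (R := R) (S := S) N M (by simpa using h))
    simpa using this
  | succ r ih =>
    intro M _ _ _ h
    haveI : Module.Finite S (N ⊗[R] M) := finite_tensorProduct (S := S) (N := N) M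
    obtain ⟨x, hxj, hx⟩ := Groth.Agent.Helper8.KoszulLib.exists_mem_jacobson_notMem (A := R) M
    have hxm : x ∈ maximalIdeal R := by
      rwa [IsLocalRing.ringJacobson_eq_maximalIdeal] at hxj
    have h1 := Groth.Agent.Helper8.KoszulLib.supportDim_quotSMulTop_le_of_notMem x hx r h
    have h2 := ih (QuotSMulTop x M) h1
    have hxS : algebraMap R S x ∈ maximalIdeal S :=
      IsLocalRing.map_maximalIdeal_le (algebraMap R S) (Ideal.mem_map_of_mem _ hxm)
    have h3 := Module.supportDim_le_supportDim_quotSMulTop_succ (M := N ⊗[R] M) hxS
    rw [Module.supportDim_eq_of_equiv (tensorQuotEquiv (S := S) (N := N) x M)] at h3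
    refine h3.trans ?_
    calc Module.supportDim S (N ⊗[R] QuotSMulTop x M) + 1
        ≤ ((r : WithBot ℕ∞) + Module.supportDim S (Fib R S N)) + 1 := add_le_add_left h2 1
      _ = ((r + 1 : ℕ) : WithBot ℕ∞) + Module.supportDim S (Fib R S N) := by
        push_cast
        rw [add_right_comm]

/-- The upper bound `dim (N ⊗ M) ≤ dim M + dim (N / mN)`. -/
theorem supportDim_tensor_le (M : Type u) [AddCommGroup M] [Module R M] [Module.Finite R M] :
    Module.supportDim S (N ⊗[R] M) ≤
      Module.supportDim R M + Module.supportDim S (Fib R S N) := by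
  by_cases hsub : Subsingleton M
  · haveI : Subsingleton (N ⊗[R] M) := inferInstance
    rw [Module.supportDim_eq_bot_of_subsingleton]
    exact bot_le
  · rw [not_subsingleton_iff_nontrivial] at hsub
    obtain ⟨n, hn⟩ := Groth.Agent.Helper8.Depth.exists_nat_supportDim (A := R) M
    rw [hn]
    exact supportDim_tensor_le_aux N n M hn.le

end Groth.Agent.Helper8.FlatMod
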