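import Mathlib
import Groth.Prelude
import Groth.Agent.Lib.Helper8.FlatMod6

/-!
# Dimension of a tensor product over a flat local homomorphism: the lower bound
-/

set_option autoImplicit false
universe u

namespace Groth.Agent.Helper8.FlatMod

open IsLocalRing TensorProduct Pointwise

section maps

variable {R S : Type u} [CommRing R] [CommRing S] [Algebra R S]
variable (N : Type u) [AddCommGroup N] [Module S N] [Module R N] [IsScalarTower R S N]
variable {M M' : Type u} [AddCommGroup M] [Module R M] [AddCommGroup M'] [Module R M']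

/-- The `S`-linear map `N ⊗ M → N ⊗ M'` induced by `f : M → M'`. -/
noncomputable def lTensorS (f : M →ₗ[R] M') : N ⊗[R] M →ₗ[S] N ⊗[R] M' :=
  TensorProduct.AlgebraTensorModule.map (LinearMap.id : N →ₗ[S] N) f

theorem lTensorS_apply (f : M →ₗ[R] M') (z : N ⊗[R] M) :
    lTensorS (S := S) N f z = f.lTensor N z := by
  induction z using TensorProduct.induction_on with
  | zero => simp
  | add a b ha hb => rw [map_add, map_add, ha, hb]
  | tmul n m => rfl

theorem lTensorS_injective [Module.Flat R N] (f : M →ₗ[R] M') (hf : Function.Injective f) :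
    Function.Injective (lTensorS (S := S) N f) := by
  have h := Module.Flat.lTensor_preserves_injective_linearMap (M := N) f hf
  intro a b hab
  apply h
  rw [← lTensorS_apply (S := S), ← lTensorS_apply (S := S)]
  exact hab

theorem lTensorS_surjective (f : M →ₗ[R] M') (hf : Function.Surjective f) :
    Function.Surjective (lTensorS (S := S) N f) := by
  intro z
  obtain ⟨w, hw⟩ := LinearMap.lTensor_surjective N hf z
  exact ⟨w, (lTensorS_apply N f w).trans hw⟩

theorem supportDim_tensor_le_of_injective [Module.Flat R N] (f : M →ₗ[R] M')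
    (hf : Function.Injective f) :
    Module.supportDim S (N ⊗[R] M) ≤ Module.supportDim S (N ⊗[R] M') :=
  Module.supportDim_le_of_injective _ (lTensorS_injective (S := S) N f hf)

theorem supportDim_tensor_le_of_surjective (f : M →ₗ[R] M') (hf : Function.Surjective f) :
    Module.supportDim S (N ⊗[R] M') ≤ Module.supportDim S (N ⊗[R] M) :=
  Module.supportDim_le_of_surjective _ (lTensorS_surjective (S := S) N f hf)

/-- `n ↦ n ⊗ x` as an `S`-linear map. -/
noncomputable def tmulRight (x : M) : N →ₗ[S] N ⊗[R] M where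
  toFun n := n ⊗ₜ[R] x
  map_add' a b := TensorProduct.add_tmul a b x
  map_smul' s n := by
    simp only [RingHom.id_apply]
    rw [TensorProduct.smul_tmul']

@[simp] theorem tmulRight_apply (x : M) (n : N) : tmulRight (S := S) N x n = n ⊗ₜ[R] x := rfl

end maps

section dimlemma

variable {R : Type u} [CommRing R] [IsNoetherianRing R]

/-- An associated prime realising (a lower bound for) the dimension. -/
theorem exists_associatedPrime_le_dim (M : Type u) [AddCommGroup M] [Module R M]
    [Module.Finite R M] (n : ℕ) (h : (n : WithBot ℕ∞) ≤ Module.supportDim R M) :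
    ∃ p ∈ associatedPrimes R M, (n : WithBot ℕ∞) ≤ ringKrullDim (R ⧸ p) := by
  obtain ⟨l, hl⟩ := Order.le_krullDim_iff.mp h
  have h0 : Module.annihilator R M ≤ l.head.1.asIdeal :=
    Module.mem_support_iff_of_finite.mp l.head.2
  obtain ⟨p, hp, hple⟩ := Ideal.exists_minimalPrimes_le h0
  refine ⟨p, Module.associatedPrimes.minimalPrimes_annihilator_subset_associatedPrimes R M hp, ?_⟩
  rw [ringKrullDim_quotient]
  let l' : LTSeries (PrimeSpectrum.zeroLocus (R := R) p) :=
    { length := l.length
      toFun := fun i => ⟨(l i).1, by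
        rw [PrimeSpectrum.mem_zeroLocus, SetLike.coe_subset_coe]
        exact hple.trans (l.head_le i)⟩
      step := fun i => l.step i }
  rw [← hl]
  exact Order.LTSeries.length_le_krullDim l'

end dimlemma

section fib

variable {R S : Type u} [CommRing R] [CommRing S] [IsLocalRing R] [IsLocalRing S]
  [IsNoetherianRing R] [IsNoetherianRing S] [Algebra R S] [IsLocalHom (algebraMap R S)]
variable (N : Type u) [AddCommGroup N] [Module S N] [Module R N] [IsScalarTower R S N]
  [Module.Finite S N] [Module.Flat R N]

omit [IsLocalRing S] [IsNoetherianRing R] [IsNoetherianRing S] [IsLocalHom (algebraMap R S)]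
  [Module.Finite S N] in
theorem supportDim_fib_le_tensor_residue :
    Module.supportDim S (Fib R S N) ≤ Module.supportDim S (N ⊗[R] (R ⧸ maximalIdeal R)) := by
  have hx : ∀ a ∈ maximalIdeal R, a • (1 : R ⧸ maximalIdeal R) = 0 := by
    intro a ha
    rw [Algebra.smul_def, mul_one, Ideal.Quotient.algebraMap_eq]
    exact Ideal.Quotient.eq_zero_iff_mem.mpr ha
  have hcol : maximalIdeal R = Submodule.colon (⊥ : Submodule R (R ⧸ maximalIdeal R))
      {(1 : R ⧸ maximalIdeal R)} := by
    ext a
    rw [Submodule.mem_colon_singleton, Submodule.mem_bot, Algebra.smul_def, mul_one,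
      Ideal.Quotient.algebraMap_eq, Ideal.Quotient.eq_zero_iff_mem]
  have hker : (maximalIdeal R).map (algebraMap R S) • (⊤ : Submodule S N) ≤
      LinearMap.ker (tmulRight (R := R) (S := S) N (1 : R ⧸ maximalIdeal R)) := by
    intro n hn
    rw [← mem_smul_top_iff (S := S)] at hn
    rw [LinearMap.mem_ker, tmulRight_apply]
    exact tmul_eq_zero_of_mem_smul_top (R := R) (1 : R ⧸ maximalIdeal R) hx hn
  refine Module.supportDim_le_of_injective
    (Submodule.liftQ _ (tmulRight (R := R) (S := S) N (1 : R ⧸ maximalIdeal R)) hker) ?_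
  rw [← LinearMap.ker_eq_bot, Submodule.ker_liftQ_eq_bot']
  refine le_antisymm hker ?_
  intro n hn
  rw [LinearMap.mem_ker, tmulRight_apply] at hn
  rw [← mem_smul_top_iff (S := S)]
  exact mem_smul_top_of_tmul_eq_zero (N := N) _ hcol hn

omit [IsLocalRing S] [IsNoetherianRing S] [IsLocalHom (algebraMap R S)] [Module.Finite S N] in
theorem supportDim_fib_le_tensor (M : Type u) [AddCommGroup M] [Module R M] [Nontrivial M] :
    Module.supportDim S (Fib R S N) ≤ Module.supportDim S (N ⊗[R] M) := by
  obtain ⟨p, hp⟩ := associatedPrimes.nonempty R M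
  obtain ⟨hpp, ι, hι⟩ := (isAssociatedPrime_iff_exists_injective_linearMap p M).mp hp
  have hle : p ≤ maximalIdeal R := le_maximalIdeal hpp.ne_top
  let π : (R ⧸ p) →ₗ[R] (R ⧸ maximalIdeal R) :=
    Submodule.liftQ p (Submodule.mkQ (maximalIdeal R)) (by
      rw [Submodule.ker_mkQ]; exact hle)
  have hπ : Function.Surjective π := by
    intro z
    obtain ⟨a, rfl⟩ := Submodule.mkQ_surjective _ z
    exact ⟨Submodule.mkQ p a, rfl⟩
  exact (supportDim_fib_le_tensor_residue (S := S) N).trans
    ((supportDim_tensor_le_of_surjective (S := S) N π hπ).trans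
      (supportDim_tensor_le_of_injective (S := S) N ι hι))

theorem le_supportDim_tensor_aux [Nontrivial N] : ∀ (r : ℕ) (M : Type u) [AddCommGroup M]
    [Module R M] [Module.Finite R M] [Nontrivial M],
    (r : WithBot ℕ∞) ≤ Module.supportDim R M →
    (r : WithBot ℕ∞) + Module.supportDim S (Fib R S N) ≤ Module.supportDim S (N ⊗[R] M) := by
  intro r
  induction r with
  | zero =>
    intro M _ _ _ _ _
    simpa using supportDim_fib_le_tensor (S := S) N M
  | succ r ih =>
    intro M _ _ _ _ h
    obtain ⟨p, hp, hdim⟩ := exists_associatedPrime_le_dim M (r + 1) h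
    obtain ⟨hpp, ι, hι⟩ := (isAssociatedPrime_iff_exists_injective_linearMap p M).mp hp
    have hne : p ≠ maximalIdeal R := by
      rintro rfl
      rw [ringKrullDim_eq_zero_of_isField
        ((Ideal.Quotient.maximal_ideal_iff_isField_quotient _).mp (maximalIdeal.isMaximal R))]
        at hdim
      have : ((r + 1 : ℕ) : WithBot ℕ∞) ≤ ((0 : ℕ) : WithBot ℕ∞) := hdim
      have h2 : r + 1 ≤ 0 := by exact_mod_cast this
      omega
    have hlt : p < maximalIdeal R := lt_of_le_of_ne (le_maximalIdeal hpp.ne_top) hne
    obtain ⟨x, hxm, hxp⟩ := SetLike.exists_of_lt hlt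
    have hreg : IsSMulRegular (R ⧸ p) x := by
      intro a b hab
      obtain ⟨a, rfl⟩ := Ideal.Quotient.mk_surjective a
      obtain ⟨b, rfl⟩ := Ideal.Quotient.mk_surjective b
      simp only [Algebra.smul_def, Ideal.Quotient.algebraMap_eq, ← map_mul] at hab
      rw [Ideal.Quotient.eq, ← mul_sub] at hab
      rw [Ideal.Quotient.eq]
      exact (hpp.mem_or_mem hab).resolve_left hxp
    haveI : Nontrivial (R ⧸ p) := Ideal.Quotient.nontrivial_iff.mpr hpp.ne_top
    have h1 := Module.supportDim_quotSMulTop_succ_eq_supportDim hreg hxm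
    rw [Module.supportDim_quotient_eq_ringKrullDim] at h1
    haveI : Nontrivial (QuotSMulTop x (R ⧸ p)) := smul_top_quotSMulTop_ne_top (R ⧸ p) x hxm
    have h2 : (r : WithBot ℕ∞) ≤ Module.supportDim R (QuotSMulTop x (R ⧸ p)) := by
      rw [← h1] at hdim
      obtain ⟨n, hn⟩ := Groth.Agent.Helper8.Depth.exists_nat_supportDim (A := R)
        (QuotSMulTop x (R ⧸ p))
      rw [hn] at hdim ⊢
      have : r + 1 ≤ n + 1 := by exact_mod_cast hdim
      exact_mod_cast Nat.le_of_succ_le_succ this
    have h3 := ih (QuotSMulTop x (R ⧸ p)) h2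
    have hxS : algebraMap R S x ∈ maximalIdeal S :=
      IsLocalRing.map_maximalIdeal_le (algebraMap R S) (Ideal.mem_map_of_mem _ hxm)
    haveI : Module.Finite S (N ⊗[R] (R ⧸ p)) := finite_tensorProduct (S := S) (N := N) (R ⧸ p)
    have h4 := Module.supportDim_quotSMulTop_succ_eq_supportDim
      (isSMulRegular_tensor_of_base (S := S) N (R ⧸ p) x hreg) hxS
    rw [Module.supportDim_eq_of_equiv (tensorQuotEquiv (S := S) (N := N) x (R ⧸ p))] at h4
    refine le_trans ?_ (supportDim_tensor_le_of_injective (S := S) N ι hι)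
    rw [← h4]
    calc ((r + 1 : ℕ) : WithBot ℕ∞) + Module.supportDim S (Fib R S N)
        = ((r : WithBot ℕ∞) + Module.supportDim S (Fib R S N)) + 1 := by
          push_cast
          rw [add_right_comm]
      _ ≤ Module.supportDim S (N ⊗[R] QuotSMulTop x (R ⧸ p)) + 1 := add_le_add_left h3 1

/-- **The dimension formula** for flat modules over a local homomorphism. -/
theorem supportDim_tensor_eq [Nontrivial N] (M : Type u) [AddCommGroup M] [Module R M]
    [Module.Finite R M] [Nontrivial M] :
    Module.supportDim S (N ⊗[R] M) =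
      Module.supportDim R M + Module.supportDim S (Fib R S N) := by
  apply le_antisymm (supportDim_tensor_le N M)
  obtain ⟨n, hn⟩ := Groth.Agent.Helper8.Depth.exists_nat_supportDim (A := R) M
  rw [hn]
  exact le_supportDim_tensor_aux N n M hn.ge

end fib

end Groth.Agent.Helper8.FlatMod
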