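import Mathlib
import Groth.Prelude
import Groth.Agent.Lib.Helper8.FlatMod7
import Groth.Agent.Lib.Helper8.Depth15

/-!
# Ascent of regularity along flat local homomorphisms with regular closed fibre
-/

set_option autoImplicit false
universe u

namespace Groth.Agent.Helper8.FlatReg

open IsLocalRing Groth.Agent.Helper8.FlatMod

section local_case

variable (R S : Type u) [CommRing R] [CommRing S] [IsLocalRing R] [IsLocalRing S]
  [IsNoetherianRing R] [IsNoetherianRing S] [Algebra R S] [IsLocalHom (algebraMap R S)]

/-- The dimension formula for a flat local homomorphism. -/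
theorem ringKrullDim_eq_add_of_flat [Module.Flat R S] :
    ringKrullDim S = ringKrullDim R +
      ringKrullDim (S ⧸ (maximalIdeal R).map (algebraMap R S)) := by
  have h1 := supportDim_tensor_eq (R := R) (S := S) S R
  rw [Module.supportDim_eq_of_equiv (TensorProduct.AlgebraTensorModule.rid R S S),
    Module.supportDim_self_eq_ringKrullDim, Module.supportDim_self_eq_ringKrullDim,
    Groth.Agent.Helper8.Depth.supportDim_quot_smul_top_self] at h1
  exact h1

omit [IsNoetherianRing R] in
/-- The embedding dimension is subadditive along a local homomorphism. -/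
theorem spanFinrank_maximalIdeal_le [IsNoetherianRing R]
    [IsLocalRing (S ⧸ (maximalIdeal R).map (algebraMap R S))] :
    (maximalIdeal S).spanFinrank ≤ (maximalIdeal R).spanFinrank +
      (maximalIdeal (S ⧸ (maximalIdeal R).map (algebraMap R S))).spanFinrank := by
  classical
  set K := (maximalIdeal R).map (algebraMap R S) with hK
  obtain ⟨s, hs, hsspan⟩ := Submodule.FG.exists_span_finset_card_eq_spanFinrank
    (IsNoetherian.noetherian (maximalIdeal R))
  obtain ⟨t, ht, htspan⟩ := Submodule.FG.exists_span_finset_card_eq_spanFinrank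
    (IsNoetherian.noetherian (maximalIdeal (S ⧸ K)))
  let sec : (S ⧸ K) → S := Function.surjInv Ideal.Quotient.mk_surjective
  have hsec : ∀ y, Ideal.Quotient.mk K (sec y) = y :=
    Function.surjInv_eq Ideal.Quotient.mk_surjective
  set t' : Finset S := t.image sec with ht'
  set s' : Finset S := s.image (algebraMap R S) with hs'
  have hmapt : (Ideal.span (t' : Set S)).map (Ideal.Quotient.mk K) = maximalIdeal (S ⧸ K) := by
    rw [Ideal.map_span, ← htspan]
    congr 1
    ext y
    simp only [ht', Finset.coe_image, Set.mem_image, Finset.mem_coe]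
    constructor
    · rintro ⟨x, ⟨z, hz, rfl⟩, rfl⟩
      rw [hsec]; exact hz
    · intro hy
      exact ⟨sec y, ⟨y, hy, rfl⟩, hsec y⟩
  have hKs : K = Ideal.span (s' : Set S) := by
    rw [hK, ← hsspan]
    change Ideal.map (algebraMap R S) (Ideal.span (s : Set R)) = _
    rw [Ideal.map_span, hs', Finset.coe_image]
  have hmS : maximalIdeal S = Ideal.span ((s' ∪ t' : Finset S) : Set S) := by
    have h1 : (maximalIdeal S).map (Ideal.Quotient.mk K) = maximalIdeal (S ⧸ K) :=
      IsLocalRing.map_maximalIdeal_of_surjective _ Ideal.Quotient.mk_surjective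
    have h2 := congrArg (Ideal.comap (Ideal.Quotient.mk K)) (h1.trans hmapt.symm)
    rw [Ideal.comap_map_of_surjective _ Ideal.Quotient.mk_surjective,
      Ideal.comap_map_of_surjective _ Ideal.Quotient.mk_surjective, ← RingHom.ker_eq_comap_bot,
      Ideal.mk_ker] at h2
    have hKle : K ≤ maximalIdeal S := IsLocalRing.map_maximalIdeal_le (algebraMap R S)
    rw [sup_eq_left.mpr hKle] at h2
    rw [h2, hKs, Finset.coe_union, Ideal.span_union, sup_comm]
  have hcard : (s' ∪ t').card ≤ s.card + t.card :=
    (Finset.card_union_le _ _).trans (add_le_add Finset.card_image_le Finset.card_image_le)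
  rw [hmS, ← hs, ← ht]
  refine le_trans ?_ hcard
  have := Submodule.spanFinrank_span_le_ncard_of_finite (R := S)
    (Finset.finite_toSet (s' ∪ t'))
  rwa [Set.ncard_coe_finset] at this

/-- **Ascent of regularity.** -/
theorem isRegularLocalRing_of_flat_of_fibre [Module.Flat R S] [IsRegularLocalRing R]
    [IsRegularLocalRing (S ⧸ (maximalIdeal R).map (algebraMap R S))] :
    IsRegularLocalRing S := by
  apply IsRegularLocalRing.of_spanFinrank_maximalIdeal_le
  rw [ringKrullDim_eq_add_of_flat R S,
    ← IsRegularLocalRing.spanFinrank_maximalIdeal (R := R),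
    ← IsRegularLocalRing.spanFinrank_maximalIdeal
      (R := S ⧸ (maximalIdeal R).map (algebraMap R S))]
  exact_mod_cast spanFinrank_maximalIdeal_le R S

end local_case

end Groth.Agent.Helper8.FlatReg
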