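import Mathlib
import Groth.Prelude
import Groth.Agent.Lib.Helper8.FlatReg11
import Groth.Agent.Lib.Helper8.Serre1
import Groth.Agent.Lib.Helper8.Depth11

/-!
# Ascent of `(R_k)` along flat ring maps with `(R_k)` fibres
-/

set_option autoImplicit false
universe u

namespace Groth.Agent.Helper8.FlatReg

open IsLocalRing LocCoh

section general

variable {C : Type u} [CommRing C]

/-- A local ring whose localization at the maximal ideal is regular is regular. -/
theorem isRegularLocalRing_of_localization_maximalIdeal [IsLocalRing C]
    (h : IsRegularLocalRing (Localization.AtPrime (maximalIdeal C))) : IsRegularLocalRing C := by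
  have H : (maximalIdeal C).primeCompl ≤ IsUnit.submonoid C := by
    intro x hx
    rw [IsUnit.mem_submonoid_iff]
    by_contra hnu
    exact hx ((IsLocalRing.mem_maximalIdeal x).mpr hnu)
  exact IsRegularLocalRing.of_ringEquiv
    (IsLocalization.atUnits C (maximalIdeal C).primeCompl
      (S := Localization.AtPrime (maximalIdeal C)) H).toRingEquiv.symm

/-- `(R_k)` for a local ring of dimension at most `k` means regular. -/
theorem isRegularLocalRing_of_hasRk_of_dim_le [IsLocalRing C] (k : ℕ) (h : HasRk k C)
    (hdim : ringKrullDim C ≤ (k : WithBot ℕ∞)) : IsRegularLocalRing C := by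
  apply isRegularLocalRing_of_localization_maximalIdeal
  apply h
  have h1 : ((maximalIdeal C).height : WithBot ℕ∞) ≤ (k : WithBot ℕ∞) := by
    rw [IsLocalRing.maximalIdeal_height_eq_ringKrullDim]; exact hdim
  exact_mod_cast h1

/-- `(R_k)` at `p` gives regularity at smaller primes of height at most `k`. -/
theorem isRegularLocalRing_atPrime_of_hasRk (k : ℕ) (p P : Ideal C) [p.IsPrime] [hP : P.IsPrime]
    (hPp : P ≤ p) (hC : HasRk k (Localization.AtPrime p)) (hht : P.height ≤ k) :
    IsRegularLocalRing (Localization.AtPrime P) := by
  have hdisj : Disjoint (p.primeCompl : Set C) (P : Set C) := by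
    rw [Set.disjoint_left]
    intro a ha haP
    exact ha (hPp haP)
  have hprime : (P.map (algebraMap C (Localization.AtPrime p))).IsPrime :=
    IsLocalization.isPrime_of_isPrime_disjoint p.primeCompl _ P inferInstance hdisj
  have hcomap : (P.map (algebraMap C (Localization.AtPrime p))).comap
      (algebraMap C (Localization.AtPrime p)) = P :=
    IsLocalization.under_map_of_isPrime_disjoint p.primeCompl _ inferInstance hdisj
  have hheight : (P.map (algebraMap C (Localization.AtPrime p))).height = P.height := by
    have := IsLocalization.height_under p.primeCompl (P.map (algebraMap C (Localization.AtPrime p)))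
    rw [← this]
    congr 1
  have key : ∀ (P' : Ideal C) [P'.IsPrime], P' = P →
      IsRegularLocalRing (Localization.AtPrime P') →
      IsRegularLocalRing (Localization.AtPrime P) := by
    intro P' _ h hreg
    subst h
    exact hreg
  have h1 : IsRegularLocalRing
      (Localization.AtPrime (P.map (algebraMap C (Localization.AtPrime p)))) :=
    hC _ (hheight ▸ hht)
  exact key _ hcomap (IsRegularLocalRing.of_ringEquiv
    (IsLocalization.localizationLocalizationAtPrimeIsoLocalization p.primeCompl
      (P.map (algebraMap C (Localization.AtPrime p)))).toRingEquiv.symm)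

end general

variable (A B : Type u) [CommRing A] [CommRing B] [IsNoetherianRing A] [IsNoetherianRing B]
  [Algebra A B] [Module.Flat A B]

/-- The local form: regular base local ring and regular fibre local ring give a regular local
ring. -/
theorem isRegularLocalRing_atPrime_of_fibre (Q : Ideal B) [Q.IsPrime]
    (hP : IsRegularLocalRing (Localization.AtPrime (Q.comap (algebraMap A B))))
    (hF : IsRegularLocalRing (EGA4.FibLocRing A B Q)) :
    IsRegularLocalRing (Localization.AtPrime Q) := by
  haveI : Q.LiesOver (Q.comap (algebraMap A B)) := ⟨rfl⟩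
  letI := Localization.AtPrime.algebraOfLiesOver (Q.comap (algebraMap A B)) Q
  haveI : IsLocalHom (algebraMap (Localization.AtPrime (Q.comap (algebraMap A B)))
      (Localization.AtPrime Q)) := by
    rw [RingHom.algebraMap_toAlgebra]
    exact Localization.isLocalHom_localRingHom _ Q (algebraMap A B) Ideal.LiesOver.over
  have hideal : (maximalIdeal (Localization.AtPrime (Q.comap (algebraMap A B)))).map
      (algebraMap (Localization.AtPrime (Q.comap (algebraMap A B))) (Localization.AtPrime Q)) =
      (Q.comap (algebraMap A B)).map (algebraMap A (Localization.AtPrime Q)) := by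
    rw [← Localization.AtPrime.map_eq_maximalIdeal, Ideal.map_map,
      ← IsScalarTower.algebraMap_eq]
  haveI : IsRegularLocalRing (Localization.AtPrime Q ⧸
      (maximalIdeal (Localization.AtPrime (Q.comap (algebraMap A B)))).map
      (algebraMap (Localization.AtPrime (Q.comap (algebraMap A B))) (Localization.AtPrime Q))) :=
    IsRegularLocalRing.of_ringEquiv (Ideal.quotEquivOfEq hideal.symm)
  exact isRegularLocalRing_of_flat_of_fibre (Localization.AtPrime (Q.comap (algebraMap A B)))
    (Localization.AtPrime Q)

omit [IsNoetherianRing A] [IsNoetherianRing B] [Module.Flat A B] in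
theorem nontrivial_fibLocRing (Q : Ideal B) [Q.IsPrime] : Nontrivial (EGA4.FibLocRing A B Q) := by
  rw [Ideal.Quotient.nontrivial_iff]
  intro htop
  have hle : (Q.comap (algebraMap A B)).map (algebraMap A (Localization.AtPrime Q)) ≤
      maximalIdeal (Localization.AtPrime Q) := by
    rw [Ideal.map_le_iff_le_comap]
    intro a ha
    rw [Ideal.mem_comap, IsScalarTower.algebraMap_apply A B (Localization.AtPrime Q)]
    exact (IsLocalization.AtPrime.to_map_mem_maximal_iff _ Q _).mpr ha
  rw [htop] at hle
  exact (maximalIdeal.isMaximal _).ne_top (top_le_iff.mp hle)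

/-- **S2609.** -/
theorem hasRk_atPrime_of_fibres (k : ℕ)
    (hfib : ∀ (q : Ideal B) [q.IsPrime], HasRk k (EGA4.FibLocRing A B q))
    (q : Ideal B) [q.IsPrime]
    (hA : HasRk k (Localization.AtPrime (q.comap (algebraMap A B)))) :
    HasRk k (Localization.AtPrime q) := by
  intro Q' _ hQ'
  set Q := Q'.comap (algebraMap B (Localization.AtPrime q)) with hQ
  have hht : Q.height = Q'.height := IsLocalization.height_under q.primeCompl Q'
  have hQq : Q ≤ q := Groth.Agent.Helper8.Depth.comap_localization_le (p := q) ⟨Q', inferInstance⟩
  suffices hreg : IsRegularLocalRing (Localization.AtPrime Q) from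
    IsRegularLocalRing.of_ringEquiv
      (IsLocalization.localizationLocalizationAtPrimeIsoLocalization q.primeCompl Q').toRingEquiv
  have hQk : Q.height ≤ k := hht ▸ hQ'
  -- the base
  have hPp : Q.comap (algebraMap A B) ≤ q.comap (algebraMap A B) := Ideal.comap_mono hQq
  haveI : Q.LiesOver (Q.comap (algebraMap A B)) := ⟨rfl⟩
  have hPht : (Q.comap (algebraMap A B)).height ≤ k := by
    haveI : Algebra.HasGoingDown A B := Algebra.HasGoingDown.of_flat
    have := Ideal.height_eq_height_add_of_liesOver_of_hasGoingDown (Q.comap (algebraMap A B)) Q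
    exact le_trans (this ▸ le_self_add) hQk
  have hP : IsRegularLocalRing (Localization.AtPrime (Q.comap (algebraMap A B))) :=
    isRegularLocalRing_atPrime_of_hasRk k _ _ hPp hA hPht
  -- the fibre
  haveI := nontrivial_fibLocRing A B Q
  have hFdim : ringKrullDim (EGA4.FibLocRing A B Q) ≤ (k : WithBot ℕ∞) := by
    refine (ringKrullDim_quotient_le _).trans ?_
    rw [IsLocalization.AtPrime.ringKrullDim_eq_height Q (Localization.AtPrime Q)]
    exact_mod_cast hQk
  have hF : IsRegularLocalRing (EGA4.FibLocRing A B Q) :=
    isRegularLocalRing_of_hasRk_of_dim_le k (hfib Q) hFdim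
  exact isRegularLocalRing_atPrime_of_fibre A B Q hP hF

end Groth.Agent.Helper8.FlatReg
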