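import Mathlib
import Groth.Agent.Lib.Helper8.Serre1
import Groth.Agent.Lib.Helper8.RegularLocal

/-!
# A Noetherian domain with `(R_1)` and `(S_2)` is integrally closed
-/

set_option autoImplicit false
universe u

namespace Groth.Agent.Helper8.Serre

open LocCoh IsLocalRing Depth

/-- A regular local ring of dimension at most one is integrally closed. -/
theorem isIntegrallyClosed_of_regular_of_dim_le_one (A : Type u) [CommRing A]
    [IsRegularLocalRing A] (h : ringKrullDim A ≤ 1) : IsIntegrallyClosed A := by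
  have := RLR.isDomain A
  have h1 : Module.finrank (ResidueField A) (CotangentSpace A) ≤ 1 := by
    have h2 := (IsRegularLocalRing.iff_finrank_cotangentSpace A).mp inferInstance
    rw [← h2] at h
    exact_mod_cast h
  have h3 : IsIntegrallyClosed A ∧ ∀ P : Ideal A, P ≠ ⊥ → P.IsPrime → P = maximalIdeal A :=
    ((tfae_of_isNoetherianRing_of_isLocalRing_of_isDomain A).out 5 3).mp h1
  exact h3.1

theorem mem_span_singleton_of_forall_associatedPrimes {B : Type u} [CommRing B]
    [IsNoetherianRing B] (a b : B)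
    (h : ∀ P ∈ associatedPrimes B (B ⧸ Ideal.span {b}), ∃ s : B, s ∉ P ∧ s * a ∈ Ideal.span {b}) :
    a ∈ Ideal.span {b} := by
  by_contra hcon
  have hx0 : (Ideal.Quotient.mk (Ideal.span {b}) a) ≠ 0 := by
    rwa [Ne, Ideal.Quotient.eq_zero_iff_mem]
  obtain ⟨P, hP, hle⟩ := exists_le_isAssociatedPrime_of_isNoetherianRing B
    (Ideal.Quotient.mk (Ideal.span {b}) a) hx0
  obtain ⟨s, hsP, hsa⟩ := h P hP
  apply hsP
  apply hle
  rw [Submodule.mem_colon_singleton, Submodule.mem_bot]
  show s • (Ideal.Quotient.mk (Ideal.span {b}) a) = 0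
  rw [Algebra.smul_def, Ideal.Quotient.algebraMap_eq, ← map_mul]
  exact Ideal.Quotient.eq_zero_iff_mem.mpr hsa

theorem isIntegrallyClosed_of_R1_S2 (B : Type u) [CommRing B] [IsDomain B] [IsNoetherianRing B]
    (hR : HasRk 1 B) (hS : HasSk 2 B B) : IsIntegrallyClosed B := by
  have hass := (hasSk_two_iff_associatedPrimes_height_one B).mp hS
  apply IsIntegrallyClosed.of_localization {p : PrimeSpectrum B | p.asIdeal.height = 1}
  · intro p hp
    have hp1 : p.asIdeal.height = 1 := hp
    have hreg : IsRegularLocalRing (Localization.AtPrime p.asIdeal) :=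
      hR p.asIdeal (by rw [hp1]; norm_num)
    apply isIntegrallyClosed_of_regular_of_dim_le_one
    rw [IsLocalization.AtPrime.ringKrullDim_eq_height p.asIdeal, hp1]
    norm_num
  · rw [eq_bot_iff]
    intro x hx
    rw [Algebra.mem_bot]
    obtain ⟨a, ⟨b, hb⟩, rfl⟩ := IsLocalization.exists_mk'_eq (nonZeroDivisors B) x
    have hb0 : b ≠ 0 := nonZeroDivisors.ne_zero hb
    have key : a ∈ Ideal.span {b} := by
      apply mem_span_singleton_of_forall_associatedPrimes
      intro P hP
      have hPp : P.IsPrime := hP.isPrime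
      have hht : P.height = 1 := hass b hb0 P hP
      have hmem := (Algebra.mem_iInf.mp hx) ⟨P, hPp⟩
      have hmem' := (Algebra.mem_iInf.mp hmem) hht
      obtain ⟨r, s, hs, hrs⟩ := hmem'
      refine ⟨s, hs, ?_⟩
      rw [IsLocalization.mk'_eq_iff_eq] at hrs
      have h2 : (s * a) = (b * r) := by
        apply IsFractionRing.injective B (FractionRing B)
        simpa [mul_comm] using hrs
      rw [h2]
      exact Ideal.mul_mem_right _ _ (Ideal.mem_span_singleton_self b)
    obtain ⟨c, hc⟩ := Ideal.mem_span_singleton'.mp key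
    refine ⟨c, ?_⟩
    rw [eq_comm, IsLocalization.mk'_eq_iff_eq_mul, ← hc, map_mul]

end Groth.Agent.Helper8.Serre
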