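import Mathlib
import Groth.Agent.Lib.Helper8.Serre2
import Groth.Agent.Lib.Helper8.Hart8
import Groth.Agent.Lib.Helper8.Depth30
import Groth.Agent.S10957

/-!
# Serre's criterion for normality
-/

set_option autoImplicit false
universe u

namespace Groth.Agent.Helper8.Serre

open LocCoh IsLocalRing Depth

section mono

variable (R : Type u) [CommRing R]

theorem hasRk_mono {k l : ℕ} (hkl : k ≤ l) (h : HasRk l R) : HasRk k R :=
  fun p _ hp => h p (hp.trans (by exact_mod_cast hkl))

theorem hasSk_self_mono {k l : ℕ} (hkl : k ≤ l) (h : HasSk l R R) : HasSk k R R := by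
  rw [hasSk_self_iff] at h ⊢
  intro q _
  refine le_trans (min_le_min ?_ le_rfl) (h q)
  exact_mod_cast hkl

end mono

section domain

variable {B : Type u} [CommRing B]

/-- Two minimal primes contained in a prime `r` whose local ring is a domain coincide. -/
theorem eq_of_minimalPrimes_le_of_isDomain {P Q r : Ideal B} [r.IsPrime]
    [IsDomain (Localization.AtPrime r)] (hP : P ∈ minimalPrimes B) (hQ : Q ∈ minimalPrimes B)
    (hPr : P ≤ r) (hQr : Q ≤ r) : P = Q := by
  set q₀ := RingHom.ker (algebraMap B (Localization.AtPrime r)) with hq₀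
  have hq₀p : q₀.IsPrime := RingHom.ker_isPrime _
  have key : ∀ P' : Ideal B, P' ∈ minimalPrimes B → P' ≤ r → P' = q₀ := by
    intro P' hP' hP'r
    have hP'p : P'.IsPrime := hP'.1.1
    have hle : q₀ ≤ P' := by
      intro x hx
      rw [hq₀, RingHom.mem_ker, IsLocalization.map_eq_zero_iff r.primeCompl] at hx
      obtain ⟨s, hs⟩ := hx
      have : (s : B) * x ∈ P' := by rw [hs]; exact P'.zero_mem
      rcases hP'p.mem_or_mem this with h | h
      · exact absurd (hP'r h) s.2
      · exact h
    exact le_antisymm (hP'.2 ⟨hq₀p, bot_le⟩ hle) hle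
  rw [key P hP hPr, key Q hQ hQr]

theorem isDomain_of_R1_S2_local [IsLocalRing B] [IsNoetherianRing B] (hR : HasRk 1 B)
    (hS : HasSk 2 B B) : IsDomain B := by
  have hred : IsReduced B :=
    (isReduced_iff_R0_S1 B).mpr ⟨hasRk_mono B (by norm_num) hR, hasSk_self_mono B (by norm_num) hS⟩
  haveI := Hart.connectedSpace_of_isLocalRing B
  have hS' := (hasSk_self_iff B 2).mp hS
  have hdepth : ∀ p : PrimeSpectrum B, ((2 : ℕ) : ℕ∞) ≤ p.asIdeal.height →
      (2 : ℕ∞) ≤ depth (Localization.AtPrime p.asIdeal) (Localization.AtPrime p.asIdeal) := by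
    intro p hp
    have h1 := hS' p.asIdeal
    have h4 : (((2 : ℕ∞)) : WithBot ℕ∞) ≤
        ((depth (Localization.AtPrime p.asIdeal) (Localization.AtPrime p.asIdeal) : ℕ∞) :
          WithBot ℕ∞) := by
      refine le_trans (le_min ?_ ?_) h1
      · exact le_rfl
      · exact_mod_cast hp
    exact_mod_cast h4
  have hlink : ∀ P Q : PrimeSpectrum B, Hart.Linked B ((2 : ℕ) : ℕ∞) P Q → P = Q := by
    rintro P Q ⟨hP, hQ, r, hPr, hQr, hr⟩
    have hr1 : r.asIdeal.height ≤ ((1 : ℕ) : ℕ∞) := by
      have : r.asIdeal.height + 1 ≤ ((2 : ℕ) : ℕ∞) := Order.add_one_le_of_lt hr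
      have h3 : r.asIdeal.height + 1 ≤ ((1 : ℕ) : ℕ∞) + 1 := by exact_mod_cast this
      exact (ENat.add_le_add_iff_right ENat.one_ne_top).mp h3
    have hreg : IsRegularLocalRing (Localization.AtPrime r.asIdeal) := hR r.asIdeal hr1
    have := RLR.isDomain (Localization.AtPrime r.asIdeal)
    exact PrimeSpectrum.ext (eq_of_minimalPrimes_le_of_isDomain hP hQ hPr hQr)
  have huniq : ∀ P Q : Ideal B, P ∈ minimalPrimes B → Q ∈ minimalPrimes B → P = Q := by
    intro P Q hP hQ
    have key := Hart.reflTransGen_linked B ((2 : ℕ) : ℕ∞) hdepth ⟨P, hP.1.1⟩ ⟨Q, hQ.1.1⟩ hP hQ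
    have gen : ∀ X : PrimeSpectrum B,
        Relation.ReflTransGen (Hart.Linked B ((2 : ℕ) : ℕ∞)) ⟨P, hP.1.1⟩ X →
          (⟨P, hP.1.1⟩ : PrimeSpectrum B) = X := by
      intro X hX
      induction hX with
      | refl => rfl
      | tail _ hlast ih => exact ih.trans (hlink _ _ hlast)
    exact congrArg PrimeSpectrum.asIdeal (gen _ key)
  obtain ⟨⟨P, hP⟩⟩ := Ideal.nonempty_minimalPrimes (R := B) (I := ⊥) bot_ne_top
  have hPeq : minimalPrimes B = {P} := by
    ext Q
    constructor
    · intro hQ
      exact huniq Q P hQ hP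
    · rintro rfl
      exact hP
  have hbot : (⊥ : Ideal B) = P := by
    have h1 : sInf (minimalPrimes B) = (⊥ : Ideal B).radical := Ideal.sInf_minimalPrimes
    rw [hPeq, sInf_singleton] at h1
    rw [h1]
    exact (nilradical_eq_zero B).symm
  have : (⊥ : Ideal B).IsPrime := hbot ▸ hP.1.1
  exact IsDomain.of_bot_isPrime B

end domain

section criterion

variable (R : Type u) [CommRing R] [IsNoetherianRing R]

theorem normal_of_R1_S2 (hR : HasRk 1 R) (hS : HasSk 2 R R) (p : Ideal R) [p.IsPrime] :
    IsDomain (Localization.AtPrime p) ∧ IsIntegrallyClosed (Localization.AtPrime p) := by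
  have hR' := hasRk_localization R 1 hR p
  have hS' := hasSk_self_localization R 2 hS p
  have hdom := isDomain_of_R1_S2_local hR' hS'
  exact ⟨hdom, isIntegrallyClosed_of_R1_S2 _ hR' hS'⟩

theorem hasRk_one_of_normal
    (h : ∀ (p : Ideal R) [p.IsPrime], IsDomain (Localization.AtPrime p) ∧
      IsIntegrallyClosed (Localization.AtPrime p)) : HasRk 1 R := by
  intro p _ hp
  obtain ⟨hdom, hic⟩ := h p
  have hdim : ringKrullDim (Localization.AtPrime p) ≤ 1 := by
    rw [IsLocalization.AtPrime.ringKrullDim_eq_height p (Localization.AtPrime p)]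
    exact_mod_cast hp
  have hK : Ring.KrullDimLE 1 (Localization.AtPrime p) := Ring.krullDimLE_iff.mpr hdim
  have h3 : IsIntegrallyClosed (Localization.AtPrime p) ∧
      ∀ P : Ideal (Localization.AtPrime p), P ≠ ⊥ → P.IsPrime →
        P = maximalIdeal (Localization.AtPrime p) :=
    ⟨hic, fun P hP hPp =>
      eq_maximalIdeal (Ring.krullDimLE_one_iff_of_noZeroDivisors.mp hK P hP hPp)⟩
  have : IsPrincipalIdealRing (Localization.AtPrime p) :=
    ((tfae_of_isNoetherianRing_of_isLocalRing_of_isDomain (Localization.AtPrime p)).out 3 0).mp h3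
  infer_instance

theorem hasSk_two_of_normal
    (h : ∀ (p : Ideal R) [p.IsPrime], IsDomain (Localization.AtPrime p) ∧
      IsIntegrallyClosed (Localization.AtPrime p)) : HasSk 2 R R := by
  rw [hasSk_self_iff]
  intro q _
  obtain ⟨hdom, hic⟩ := h q
  have hdimq : ringKrullDim (Localization.AtPrime q) = q.height :=
    IsLocalization.AtPrime.ringKrullDim_eq_height q (Localization.AtPrime q)
  by_cases hm : maximalIdeal (Localization.AtPrime q) = ⊥
  · have hf : IsField (Localization.AtPrime q) := IsLocalRing.isField_iff_maximalIdeal_eq.mpr hm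
    have h0 : ringKrullDim (Localization.AtPrime q) = 0 := ringKrullDim_eq_zero_of_isField hf
    rw [← hdimq, h0]
    exact (min_le_right _ _).trans (by exact_mod_cast bot_le)
  · obtain ⟨b, hbm, hb0⟩ := Submodule.exists_mem_ne_zero_of_ne_bot hm
    have hbreg : IsSMulRegular (Localization.AtPrime q) b := fun x y hxy => mul_left_cancel₀ hb0 hxy
    have hne : maximalIdeal (Localization.AtPrime q) •
        (⊤ : Submodule (Localization.AtPrime q) (Localization.AtPrime q)) ≠ ⊤ :=
      smul_top_ne_top_of_local _ _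
    have hd1 : depth (Localization.AtPrime q) (QuotSMulTop b (Localization.AtPrime q)) + 1 =
        depth (Localization.AtPrime q) (Localization.AtPrime q) :=
      idealDepth_quotSMulTop_add_one hne hbm hbreg
    by_cases hass : maximalIdeal (Localization.AtPrime q) ∈
        associatedPrimes (Localization.AtPrime q) (Localization.AtPrime q ⧸ Ideal.span {b})
    · have hdvr := Groth.Agent.S10957.result (Localization.AtPrime q) b hb0 hass
      have hdim1 : ringKrullDim (Localization.AtPrime q) = 1 :=
        IsPrincipalIdealRing.ringKrullDim_eq_one _ (IsDiscreteValuationRing.not_isField _)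
      rw [← hdimq, hdim1, ← hd1]
      refine (min_le_right _ _).trans ?_
      have : (1 : ℕ∞) ≤ depth (Localization.AtPrime q)
          (QuotSMulTop b (Localization.AtPrime q)) + 1 := le_add_self
      exact_mod_cast this
    · have hdQ : depth (Localization.AtPrime q) (QuotSMulTop b (Localization.AtPrime q)) ≠ 0 := by
        intro h0
        rw [depth_eq_zero_iff,
          ← LinearEquiv.AssociatedPrimes.eq (quotSpanSingletonSelfEquiv _ b)] at h0
        exact hass h0
      have h1 : (1 : ℕ∞) ≤ depth (Localization.AtPrime q)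
          (QuotSMulTop b (Localization.AtPrime q)) := Order.one_le_iff_ne_zero.mpr hdQ
      have h2 : (2 : ℕ∞) ≤ depth (Localization.AtPrime q) (Localization.AtPrime q) := by
        rw [← hd1]
        have : (1 : ℕ∞) + 1 ≤ depth (Localization.AtPrime q)
            (QuotSMulTop b (Localization.AtPrime q)) + 1 := by gcongr
        rwa [one_add_one_eq_two] at this
      refine (min_le_left _ _).trans ?_
      have h3 : ((2 : ℕ∞) : WithBot ℕ∞) ≤
          ((depth (Localization.AtPrime q) (Localization.AtPrime q) : ℕ∞) : WithBot ℕ∞) :=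
        WithBot.coe_le_coe.mpr h2
      exact le_trans le_rfl h3

theorem serre_criterion_normal :
    (∀ (p : Ideal R) [p.IsPrime], IsDomain (Localization.AtPrime p) ∧
      IsIntegrallyClosed (Localization.AtPrime p)) ↔ (HasRk 1 R ∧ HasSk 2 R R) :=
  ⟨fun h => ⟨hasRk_one_of_normal R h, hasSk_two_of_normal R h⟩,
    fun h p _ => normal_of_R1_S2 R h.1 h.2 p⟩

end criterion

end Groth.Agent.Helper8.Serre
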