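import Mathlib
import Groth.Prelude
import Groth.Agent.Lib.Helper8.FlatReg12
import Groth.Agent.Lib.Helper8.FlatMod5
import Groth.Agent.Lib.Helper8.Depth17
import Groth.Agent.Lib.Helper8.Serre4

/-!
# Ascent of `(S_k)` (for rings) and of normality along flat ring maps
-/

set_option autoImplicit false
universe u

namespace Groth.Agent.Helper8.FlatReg

open IsLocalRing LocCoh Groth.Agent.Helper8.Depth Groth.Agent.Helper8.FlatMod

/-- The local form of `(S_k)`: `min k (dim C) ≤ depth C`. -/
def SkLocal (k : ℕ) (C : Type u) [CommRing C] [IsLocalRing C] : Prop :=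
  min (k : ℕ∞) (maximalIdeal C).height ≤ depth C C

section basic

variable {C C' : Type u} [CommRing C] [CommRing C'] [IsLocalRing C] [IsLocalRing C']

theorem skLocal_of_ringEquiv (k : ℕ) (e : C ≃+* C') (h : SkLocal k C) : SkLocal k C' := by
  unfold SkLocal at h ⊢
  rw [Groth.Agent.Helper8.Serre.depth_self_eq_of_ringEquiv e]
  have h1 : ((maximalIdeal C').height : WithBot ℕ∞) = ((maximalIdeal C).height : WithBot ℕ∞) := by
    rw [IsLocalRing.maximalIdeal_height_eq_ringKrullDim,
      IsLocalRing.maximalIdeal_height_eq_ringKrullDim, ringKrullDim_eq_of_ringEquiv e]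
  have h2 : (maximalIdeal C').height = (maximalIdeal C).height := by exact_mod_cast h1
  rw [h2]
  exact h

theorem hasSk_self_iff_skLocal (k : ℕ) (D : Type u) [CommRing D] :
    HasSk k D D ↔ ∀ (q : Ideal D) [q.IsPrime], SkLocal k (Localization.AtPrime q) := by
  rw [Groth.Agent.Helper8.Serre.hasSk_self_iff]
  refine forall_congr' fun q => forall_congr' fun hq => ?_
  unfold SkLocal
  have h1 : ((maximalIdeal (Localization.AtPrime q)).height : WithBot ℕ∞) =
      (q.height : WithBot ℕ∞) := by
    rw [IsLocalRing.maximalIdeal_height_eq_ringKrullDim,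
      IsLocalization.AtPrime.ringKrullDim_eq_height q (Localization.AtPrime q)]
  have h2 : (maximalIdeal (Localization.AtPrime q)).height = q.height := by exact_mod_cast h1
  rw [h2]
  constructor
  · intro h
    exact_mod_cast h
  · intro h
    exact_mod_cast h

theorem skLocal_of_hasSk (k : ℕ) (h : HasSk k C C) : SkLocal k C := by
  have h1 := (hasSk_self_iff_skLocal k C).mp h (maximalIdeal C)
  have H : (maximalIdeal C).primeCompl ≤ IsUnit.submonoid C := by
    intro x hx
    rw [IsUnit.mem_submonoid_iff]
    by_contra hnu
    exact hx ((IsLocalRing.mem_maximalIdeal x).mpr hnu)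
  exact skLocal_of_ringEquiv k
    (IsLocalization.atUnits C (maximalIdeal C).primeCompl
      (S := Localization.AtPrime (maximalIdeal C)) H).toRingEquiv.symm h1

end basic

section local_case

variable (R S : Type u) [CommRing R] [CommRing S] [IsLocalRing R] [IsLocalRing S]
  [IsNoetherianRing R] [IsNoetherianRing S] [Algebra R S] [IsLocalHom (algebraMap R S)]
  [Module.Flat R S]

/-- The depth formula for a flat local homomorphism. -/
theorem depth_eq_add_of_flat [IsLocalRing (S ⧸ (maximalIdeal R).map (algebraMap R S))] :
    depth S S = depth R R + depth (S ⧸ (maximalIdeal R).map (algebraMap R S))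
      (S ⧸ (maximalIdeal R).map (algebraMap R S)) := by
  have h1 := depth_formula (R := R) (S := S) S R
  have h2 : depth S (TensorProduct R S R) = depth S S :=
    idealDepth_congr (TensorProduct.AlgebraTensorModule.rid R S S)
  have h3 : depth S (Fib R S S) = depth S (S ⧸ (maximalIdeal R).map (algebraMap R S)) :=
    idealDepth_congr (quotSMulTopRingEquiv ((maximalIdeal R).map (algebraMap R S)))
  haveI : IsLocalHom (algebraMap S (S ⧸ (maximalIdeal R).map (algebraMap R S))) :=
    IsLocalHom.of_surjective _ Ideal.Quotient.mk_surjective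
  have h4 := depth_eq_of_tower S (S ⧸ (maximalIdeal R).map (algebraMap R S))
    (S ⧸ (maximalIdeal R).map (algebraMap R S))
  rw [← h2, h1, h3, h4]

theorem min_add_le (k a b : ℕ∞) : min k (a + b) ≤ min k a + min k b := by
  rcases le_total k a with h | h
  · rw [min_eq_left h]
    exact (min_le_left _ _).trans le_self_add
  · rcases le_total k b with h' | h'
    · rw [min_eq_left h']
      exact (min_le_left _ _).trans le_add_self
    · rw [min_eq_right h, min_eq_right h']
      exact min_le_right _ _

theorem skLocal_of_flat (k : ℕ) [IsLocalRing (S ⧸ (maximalIdeal R).map (algebraMap R S))]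
    (hR : SkLocal k R) (hF : SkLocal k (S ⧸ (maximalIdeal R).map (algebraMap R S))) :
    SkLocal k S := by
  unfold SkLocal at hR hF ⊢
  rw [depth_eq_add_of_flat R S]
  have hdim := ringKrullDim_eq_add_of_flat R S
  rw [← IsLocalRing.maximalIdeal_height_eq_ringKrullDim,
    ← IsLocalRing.maximalIdeal_height_eq_ringKrullDim,
    ← IsLocalRing.maximalIdeal_height_eq_ringKrullDim] at hdim
  have hdim' : (maximalIdeal S).height = (maximalIdeal R).height +
      (maximalIdeal (S ⧸ (maximalIdeal R).map (algebraMap R S))).height := by
    exact_mod_cast hdim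
  rw [hdim']
  exact (min_add_le _ _ _).trans (add_le_add hR hF)

end local_case

section global

variable (A B : Type u) [CommRing A] [CommRing B] [IsNoetherianRing A] [IsNoetherianRing B]
  [Algebra A B] [Module.Flat A B]

theorem skLocal_atPrime_of_fibre (k : ℕ) (Q : Ideal B) [Q.IsPrime]
    (hP : SkLocal k (Localization.AtPrime (Q.comap (algebraMap A B))))
    [IsLocalRing (EGA4.FibLocRing A B Q)]
    (hF : SkLocal k (EGA4.FibLocRing A B Q)) :
    SkLocal k (Localization.AtPrime Q) := by
  haveI : Q.LiesOver (Q.comap (algebraMap A B)) := ⟨rfl⟩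
  letI := Localization.AtPrime.algebraOfLiesOver (Q.comap (algebraMap A B)) Q
  haveI : IsLocalHom (algebraMap (Localization.AtPrime (Q.comap (algebraMap A B)))
      (Localization.AtPrime Q)) := by
    rw [RingHom.algebraMap_toAlgebra]
    exact Localization.isLocalHom_localRingHom _ Q (algebraMap A B) Ideal.LiesOver.over
  have hideal : (maximalIdeal (Localization.AtPrime (Q.comap (algebraMap A B)))).map
      (algebraMap (Localization.AtPrime (Q.comap (algebraMap A B))) (Localization.AtPrime Q)) =
      (Q.comap (algebraMap A B)).map (algebraMap A (Localization.AtPrime Q)) := by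
    rw [← Localization.AtPrime.map_eq_maximalIdeal, Ideal.map_map,
      ← IsScalarTower.algebraMap_eq]
  haveI : IsLocalRing (Localization.AtPrime Q ⧸
      (maximalIdeal (Localization.AtPrime (Q.comap (algebraMap A B)))).map
      (algebraMap (Localization.AtPrime (Q.comap (algebraMap A B))) (Localization.AtPrime Q))) :=
    (Ideal.quotEquivOfEq hideal.symm).isLocalRing
  have hF' : SkLocal k (Localization.AtPrime Q ⧸
      (maximalIdeal (Localization.AtPrime (Q.comap (algebraMap A B)))).map
      (algebraMap (Localization.AtPrime (Q.comap (algebraMap A B))) (Localization.AtPrime Q))) :=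
    skLocal_of_ringEquiv k (Ideal.quotEquivOfEq hideal.symm) hF
  exact skLocal_of_flat (Localization.AtPrime (Q.comap (algebraMap A B)))
    (Localization.AtPrime Q) k hP hF'

omit [IsNoetherianRing A] [IsNoetherianRing B] [Algebra A B] [Module.Flat A B] in
/-- `(S_k)` at `p` gives the local `(S_k)` at all smaller primes. -/
theorem skLocal_atPrime_of_hasSk (k : ℕ) (p P : Ideal A) [p.IsPrime] [hP : P.IsPrime]
    (hPp : P ≤ p) (hC : HasSk k (Localization.AtPrime p) (Localization.AtPrime p)) :
    SkLocal k (Localization.AtPrime P) := by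
  have hdisj : Disjoint (p.primeCompl : Set A) (P : Set A) := by
    rw [Set.disjoint_left]
    intro a ha haP
    exact ha (hPp haP)
  have hprime : (P.map (algebraMap A (Localization.AtPrime p))).IsPrime :=
    IsLocalization.isPrime_of_isPrime_disjoint p.primeCompl _ P inferInstance hdisj
  have hcomap : (P.map (algebraMap A (Localization.AtPrime p))).comap
      (algebraMap A (Localization.AtPrime p)) = P :=
    IsLocalization.under_map_of_isPrime_disjoint p.primeCompl _ inferInstance hdisj
  have key : ∀ (P' : Ideal A) [P'.IsPrime], P' = P →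
      SkLocal k (Localization.AtPrime P') → SkLocal k (Localization.AtPrime P) := by
    intro P' _ h hreg
    subst h
    exact hreg
  have h1 := (hasSk_self_iff_skLocal k _).mp hC (P.map (algebraMap A (Localization.AtPrime p)))
  exact key _ hcomap (skLocal_of_ringEquiv k
    (IsLocalization.localizationLocalizationAtPrimeIsoLocalization p.primeCompl
      (P.map (algebraMap A (Localization.AtPrime p)))).toRingEquiv.symm h1)

/-- Ascent of `(S_k)` for rings. -/
theorem hasSk_atPrime_of_fibres (k : ℕ)
    (hfib : ∀ (q : Ideal B) [q.IsPrime],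
      HasSk k (EGA4.FibLocRing A B q) (EGA4.FibLocRing A B q))
    (q : Ideal B) [q.IsPrime]
    (hA : HasSk k (Localization.AtPrime (q.comap (algebraMap A B)))
      (Localization.AtPrime (q.comap (algebraMap A B)))) :
    HasSk k (Localization.AtPrime q) (Localization.AtPrime q) := by
  rw [hasSk_self_iff_skLocal]
  intro Q' _
  set Q := Q'.comap (algebraMap B (Localization.AtPrime q)) with hQ
  have hQq : Q ≤ q := Groth.Agent.Helper8.Depth.comap_localization_le (p := q) ⟨Q', inferInstance⟩
  suffices hreg : SkLocal k (Localization.AtPrime Q) from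
    skLocal_of_ringEquiv k
      (IsLocalization.localizationLocalizationAtPrimeIsoLocalization q.primeCompl Q').toRingEquiv
      hreg
  have hPp : Q.comap (algebraMap A B) ≤ q.comap (algebraMap A B) := Ideal.comap_mono hQq
  have hP : SkLocal k (Localization.AtPrime (Q.comap (algebraMap A B))) :=
    skLocal_atPrime_of_hasSk A k _ _ hPp hA
  haveI := nontrivial_fibLocRing A B Q
  have hF : SkLocal k (EGA4.FibLocRing A B Q) := skLocal_of_hasSk k (hfib Q)
  exact skLocal_atPrime_of_fibre A B k Q hP hF

end global

end Groth.Agent.Helper8.FlatReg
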