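import Mathlib
import Groth.Prelude
import Groth.Agent.Lib.Helper8.FlatReg13

/-!
# Fibre rings `κ(p) ⊗ S` and the fibre local rings `S_Q / p S_Q`
-/

set_option autoImplicit false
universe u

namespace Groth.Agent.Helper8.Fib

open IsLocalRing LocCoh Groth.Agent.Helper8.FlatReg

variable {R S : Type u} [CommRing R] [CommRing S] [Algebra R S]

/-- A prime of `S` over `p` comes from a prime of the fibre ring. -/
theorem exists_fiber_prime (p : Ideal R) [p.IsPrime] (Q : Ideal S) [hQ : Q.IsPrime]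
    (h : Q.comap (algebraMap R S) = p) :
    ∃ (Q' : Ideal (p.Fiber S)) (_ : Q'.IsPrime),
      Q'.comap (Algebra.TensorProduct.includeRight : S →ₐ[R] p.Fiber S) = Q := by
  let x : (PrimeSpectrum.comap (algebraMap R S)) ⁻¹' {(⟨p, inferInstance⟩ : PrimeSpectrum R)} :=
    ⟨⟨Q, hQ⟩, by
      rw [Set.mem_preimage, Set.mem_singleton_iff]
      exact PrimeSpectrum.ext h⟩
  refine ⟨(PrimeSpectrum.preimageEquivFiber R S ⟨p, inferInstance⟩ x).asIdeal,
    (PrimeSpectrum.preimageEquivFiber R S ⟨p, inferInstance⟩ x).isPrime, ?_⟩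
  have := (PrimeSpectrum.preimageEquivFiber R S ⟨p, inferInstance⟩).left_inv x
  have h2 := congrArg (fun y => y.1.asIdeal) this
  exact h2

/-- The localization of the fibre ring at a prime is the fibre local ring. -/
theorem nonempty_ringEquiv_fibLocRing (p : Ideal R) [p.IsPrime] (Q' : Ideal (p.Fiber S))
    [Q'.IsPrime] (Q : Ideal S) [Q.IsPrime]
    (hQ : Q'.comap (Algebra.TensorProduct.includeRight : S →ₐ[R] p.Fiber S) = Q) :
    Nonempty (Localization.AtPrime Q' ≃+* EGA4.FibLocRing R S Q) := by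
  subst hQ
  have e := (Ideal.Fiber.algEquivAux₂ p Q').toRingEquiv
  have hover : (Q'.comap (Algebra.TensorProduct.includeRight : S →ₐ[R] p.Fiber S)).comap
      (algebraMap R S) = p := by
    have h1 : Q'.comap (algebraMap R (p.Fiber S)) = p := (Ideal.LiesOver.over (p := p) (P := Q')).symm
    refine Eq.trans ?_ h1
    ext x
    simp only [Ideal.mem_comap]
    rw [AlgHom.commutes (Algebra.TensorProduct.includeRight : S →ₐ[R] p.Fiber S)]
  have hideal : ((p.map (algebraMap R S)).map (algebraMap S (Localization.AtPrime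
      (Q'.comap (Algebra.TensorProduct.includeRight : S →ₐ[R] p.Fiber S))))) =
      ((Q'.comap (Algebra.TensorProduct.includeRight : S →ₐ[R] p.Fiber S)).comap
        (algebraMap R S)).map (algebraMap R (Localization.AtPrime
      (Q'.comap (Algebra.TensorProduct.includeRight : S →ₐ[R] p.Fiber S)))) := by
    rw [hover, Ideal.map_map, ← IsScalarTower.algebraMap_eq]
  exact ⟨e.trans (Ideal.quotEquivOfEq hideal)⟩

/-- `(S_k)` for the fibre ring gives the local `(S_k)` for the fibre local rings. -/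
theorem skLocal_fibLocRing_of_fiber (k : ℕ) (p : Ideal R) [p.IsPrime]
    (hfib : HasSk k (p.Fiber S) (p.Fiber S)) (Q : Ideal S) [Q.IsPrime]
    (h : Q.comap (algebraMap R S) = p) [IsLocalRing (EGA4.FibLocRing R S Q)] :
    SkLocal k (EGA4.FibLocRing R S Q) := by
  obtain ⟨Q', hQ'prime, hQ'⟩ := exists_fiber_prime p Q h
  have h1 := (hasSk_self_iff_skLocal k (p.Fiber S)).mp hfib Q'
  obtain ⟨e⟩ := nonempty_ringEquiv_fibLocRing p Q' Q hQ'
  exact skLocal_of_ringEquiv k e h1

/-- The local `(S_k)` for all the fibre local rings over `p` gives `(S_k)` for the fibre ring. -/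
theorem hasSk_fiber_of_skLocal (k : ℕ) (p : Ideal R) [p.IsPrime]
    (h : ∀ (Q : Ideal S) [Q.IsPrime], Q.comap (algebraMap R S) = p →
      ∀ [IsLocalRing (EGA4.FibLocRing R S Q)], SkLocal k (EGA4.FibLocRing R S Q)) :
    HasSk k (p.Fiber S) (p.Fiber S) := by
  rw [hasSk_self_iff_skLocal]
  intro Q' _
  set Q := Q'.comap (Algebra.TensorProduct.includeRight : S →ₐ[R] p.Fiber S) with hQdef
  haveI : Q.IsPrime := Ideal.comap_isPrime _ _
  obtain ⟨e⟩ := nonempty_ringEquiv_fibLocRing p Q' Q rfl
  haveI : IsLocalRing (EGA4.FibLocRing R S Q) := e.isLocalRing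
  have hover : Q.comap (algebraMap R S) = p := by
    have h1 : Q'.comap (algebraMap R (p.Fiber S)) = p :=
      (Ideal.LiesOver.over (p := p) (P := Q')).symm
    refine Eq.trans ?_ h1
    ext x
    simp only [hQdef, Ideal.mem_comap]
    rw [AlgHom.commutes (Algebra.TensorProduct.includeRight : S →ₐ[R] p.Fiber S)]
  exact skLocal_of_ringEquiv k e.symm (h Q hover)

/-- **S2086.** -/
theorem hasSk_of_flat_of_fibres [IsNoetherianRing R] [IsNoetherianRing S] [Module.Flat R S]
    (k : ℕ) (hR : HasSk k R R)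
    (hfib : ∀ (p : Ideal R) [p.IsPrime], HasSk k (p.Fiber S) (p.Fiber S)) :
    HasSk k S S := by
  rw [hasSk_self_iff_skLocal]
  intro Q _
  have hP : SkLocal k (Localization.AtPrime (Q.comap (algebraMap R S))) :=
    (hasSk_self_iff_skLocal k R).mp hR _
  haveI := nontrivial_fibLocRing R S Q
  exact skLocal_atPrime_of_fibre R S k Q hP
    (skLocal_fibLocRing_of_fiber k (Q.comap (algebraMap R S)) (hfib _) Q rfl)

end Groth.Agent.Helper8.Fib
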