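import Mathlib
import Groth.Prelude
import Groth.Agent.Lib.Helper8.Fib1

/-!
# Depth and dimension of `S / I S` for a flat local homomorphism `R → S`
-/

set_option autoImplicit false
universe u

namespace Groth.Agent.Helper8.Fib

open IsLocalRing LocCoh Groth.Agent.Helper8.FlatReg Groth.Agent.Helper8.Depth
  Groth.Agent.Helper8.FlatMod TensorProduct

section local_case

variable (R S : Type u) [CommRing R] [CommRing S] [IsLocalRing R] [IsLocalRing S]
  [IsNoetherianRing R] [IsNoetherianRing S] [Algebra R S] [IsLocalHom (algebraMap R S)]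
  [Module.Flat R S] (I : Ideal R)

/-- The depth formula for `R/I → S/IS`. -/
theorem depth_quot_eq_add [IsLocalRing (R ⧸ I)] [IsLocalRing (S ⧸ I.map (algebraMap R S))]
    [IsLocalRing (S ⧸ (maximalIdeal R).map (algebraMap R S))] :
    depth (S ⧸ I.map (algebraMap R S)) (S ⧸ I.map (algebraMap R S)) =
      depth (R ⧸ I) (R ⧸ I) + depth (S ⧸ (maximalIdeal R).map (algebraMap R S))
        (S ⧸ (maximalIdeal R).map (algebraMap R S)) := by
  have h1 := depth_formula (R := R) (S := S) S (R ⧸ I)
  have h2 : depth S (S ⊗[R] (R ⧸ I)) = depth S (S ⧸ I.map (algebraMap R S)) :=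
    idealDepth_congr (Algebra.TensorProduct.quotIdealMapEquivTensorQuot S I).symm.toLinearEquiv
  have h3 : depth S (Fib R S S) = depth S (S ⧸ (maximalIdeal R).map (algebraMap R S)) :=
    idealDepth_congr (quotSMulTopRingEquiv ((maximalIdeal R).map (algebraMap R S)))
  haveI : IsLocalHom (algebraMap S (S ⧸ (maximalIdeal R).map (algebraMap R S))) :=
    IsLocalHom.of_surjective _ Ideal.Quotient.mk_surjective
  haveI : IsLocalHom (algebraMap S (S ⧸ I.map (algebraMap R S))) :=
    IsLocalHom.of_surjective _ Ideal.Quotient.mk_surjective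
  haveI : IsLocalHom (algebraMap R (R ⧸ I)) :=
    IsLocalHom.of_surjective _ Ideal.Quotient.mk_surjective
  have h4 := depth_eq_of_tower S (S ⧸ (maximalIdeal R).map (algebraMap R S))
    (S ⧸ (maximalIdeal R).map (algebraMap R S))
  have h5 := depth_eq_of_tower S (S ⧸ I.map (algebraMap R S)) (S ⧸ I.map (algebraMap R S))
  have h6 := depth_eq_of_tower R (R ⧸ I) (R ⧸ I)
  rw [← h5, ← h2, h1, h3, h4, h6]

/-- The dimension formula for `R/I → S/IS`. -/
theorem ringKrullDim_quot_eq_add [Nontrivial (R ⧸ I)] :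
    ringKrullDim (S ⧸ I.map (algebraMap R S)) =
      ringKrullDim (R ⧸ I) + ringKrullDim (S ⧸ (maximalIdeal R).map (algebraMap R S)) := by
  have h1 := supportDim_tensor_eq (R := R) (S := S) S (R ⧸ I)
  rw [Module.supportDim_eq_of_equiv
      (Algebra.TensorProduct.quotIdealMapEquivTensorQuot S I).symm.toLinearEquiv,
    Module.supportDim_quotient_eq_ringKrullDim, Module.supportDim_quotient_eq_ringKrullDim,
    Groth.Agent.Helper8.Depth.supportDim_quot_smul_top_self] at h1
  exact h1

/-- Ascent of the local `(S_k)` for `R/I → S/IS`. -/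
theorem skLocal_quot_of_flat (k : ℕ) [IsLocalRing (R ⧸ I)]
    [IsLocalRing (S ⧸ I.map (algebraMap R S))]
    [IsLocalRing (S ⧸ (maximalIdeal R).map (algebraMap R S))]
    (hR : SkLocal k (R ⧸ I))
    (hF : SkLocal k (S ⧸ (maximalIdeal R).map (algebraMap R S))) :
    SkLocal k (S ⧸ I.map (algebraMap R S)) := by
  unfold SkLocal at hR hF ⊢
  rw [depth_quot_eq_add R S I]
  have hdim := ringKrullDim_quot_eq_add R S I
  rw [← IsLocalRing.maximalIdeal_height_eq_ringKrullDim,
    ← IsLocalRing.maximalIdeal_height_eq_ringKrullDim,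
    ← IsLocalRing.maximalIdeal_height_eq_ringKrullDim] at hdim
  have hdim' : (maximalIdeal (S ⧸ I.map (algebraMap R S))).height =
      (maximalIdeal (R ⧸ I)).height +
      (maximalIdeal (S ⧸ (maximalIdeal R).map (algebraMap R S))).height := by
    exact_mod_cast hdim
  rw [hdim']
  exact (min_add_le _ _ _).trans (add_le_add hR hF)

/-- Descent of the local `(S_k)` for `R/I → S/IS` when the closed fibre is zero-dimensional. -/
theorem skLocal_quot_descent (k : ℕ) [IsLocalRing (R ⧸ I)]
    [IsLocalRing (S ⧸ I.map (algebraMap R S))]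
    [IsLocalRing (S ⧸ (maximalIdeal R).map (algebraMap R S))]
    (hdim0 : ringKrullDim (S ⧸ (maximalIdeal R).map (algebraMap R S)) ≤ 0)
    (hS : SkLocal k (S ⧸ I.map (algebraMap R S))) :
    SkLocal k (R ⧸ I) := by
  unfold SkLocal at hS ⊢
  have hdim := ringKrullDim_quot_eq_add R S I
  have hd0 : ringKrullDim (S ⧸ (maximalIdeal R).map (algebraMap R S)) = 0 :=
    le_antisymm hdim0 ringKrullDim_nonneg_of_nontrivial
  rw [hd0, add_zero] at hdim
  rw [← IsLocalRing.maximalIdeal_height_eq_ringKrullDim,
    ← IsLocalRing.maximalIdeal_height_eq_ringKrullDim] at hdim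
  have hdim' : (maximalIdeal (S ⧸ I.map (algebraMap R S))).height =
      (maximalIdeal (R ⧸ I)).height := by exact_mod_cast hdim
  have hdepth := depth_quot_eq_add R S I
  have hF0 : depth (S ⧸ (maximalIdeal R).map (algebraMap R S))
      (S ⧸ (maximalIdeal R).map (algebraMap R S)) = 0 := by
    have h1 := depth_le_supportDim (A := S ⧸ (maximalIdeal R).map (algebraMap R S))
      (M := S ⧸ (maximalIdeal R).map (algebraMap R S))
    rw [Module.supportDim_self_eq_ringKrullDim, hd0] at h1
    have h2 : depth (S ⧸ (maximalIdeal R).map (algebraMap R S))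
        (S ⧸ (maximalIdeal R).map (algebraMap R S)) ≤ 0 := by exact_mod_cast h1
    exact le_antisymm h2 zero_le
  rw [hF0, add_zero] at hdepth
  rw [← hdim', ← hdepth]
  exact hS

end local_case

end Groth.Agent.Helper8.Fib
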