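import Mathlib
import Groth.Prelude
import Groth.Agent.Lib.Helper8.Fib2

/-!
# The fibre local rings of a composite `A → B → C`
-/

set_option autoImplicit false
universe u

namespace Groth.Agent.Helper8.Fib

open IsLocalRing LocCoh Groth.Agent.Helper8.FlatReg Groth.Agent.Helper8.Depth
  Groth.Agent.Helper8.FlatMod TensorProduct

section comp

variable (A B C : Type u) [CommRing A] [CommRing B] [CommRing C]
  [Algebra A B] [Algebra B C] [Algebra A C] [IsScalarTower A B C]

theorem comap_comap_eq (Q : Ideal C) :
    (Q.comap (algebraMap B C)).comap (algebraMap A B) = Q.comap (algebraMap A C) := by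
  rw [Ideal.comap_comap, ← IsScalarTower.algebraMap_eq]

variable [IsNoetherianRing B] [IsNoetherianRing C] [Module.Flat B C]

/-- Ascent of the local `(S_k)` along the composite: the fibre local ring of `A → C` at `Q` is a
flat local extension of the fibre local ring of `A → B` at `Q ∩ B` with closed fibre the fibre
local ring of `B → C` at `Q`. -/
theorem skLocal_fibLocRing_comp (k : ℕ) (Q : Ideal C) [Q.IsPrime]
    [IsLocalRing (EGA4.FibLocRing A B (Q.comap (algebraMap B C)))]
    [IsLocalRing (EGA4.FibLocRing A C Q)] [IsLocalRing (EGA4.FibLocRing B C Q)]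
    (h1 : SkLocal k (EGA4.FibLocRing A B (Q.comap (algebraMap B C))))
    (h2 : SkLocal k (EGA4.FibLocRing B C Q)) :
    SkLocal k (EGA4.FibLocRing A C Q) := by
  haveI : Q.LiesOver (Q.comap (algebraMap B C)) := ⟨rfl⟩
  letI := Localization.AtPrime.algebraOfLiesOver (Q.comap (algebraMap B C)) Q
  haveI : IsLocalHom (algebraMap (Localization.AtPrime (Q.comap (algebraMap B C)))
      (Localization.AtPrime Q)) := by
    rw [RingHom.algebraMap_toAlgebra]
    exact Localization.isLocalHom_localRingHom _ Q (algebraMap B C) Ideal.LiesOver.over
  have hideal1 : (maximalIdeal (Localization.AtPrime (Q.comap (algebraMap B C)))).map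
      (algebraMap (Localization.AtPrime (Q.comap (algebraMap B C))) (Localization.AtPrime Q)) =
      (Q.comap (algebraMap B C)).map (algebraMap B (Localization.AtPrime Q)) := by
    rw [← Localization.AtPrime.map_eq_maximalIdeal, Ideal.map_map,
      ← IsScalarTower.algebraMap_eq]
  have hideal2 : (((Q.comap (algebraMap B C)).comap (algebraMap A B)).map
      (algebraMap A (Localization.AtPrime (Q.comap (algebraMap B C))))).map
      (algebraMap (Localization.AtPrime (Q.comap (algebraMap B C))) (Localization.AtPrime Q)) =
      (Q.comap (algebraMap A C)).map (algebraMap A (Localization.AtPrime Q)) := by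
    rw [Ideal.map_map, ← IsScalarTower.algebraMap_eq, comap_comap_eq]
  haveI : IsLocalRing (Localization.AtPrime Q ⧸
      (maximalIdeal (Localization.AtPrime (Q.comap (algebraMap B C)))).map
      (algebraMap (Localization.AtPrime (Q.comap (algebraMap B C))) (Localization.AtPrime Q))) :=
    (Ideal.quotEquivOfEq hideal1.symm).isLocalRing
  haveI : IsLocalRing (Localization.AtPrime Q ⧸
      (((Q.comap (algebraMap B C)).comap (algebraMap A B)).map
      (algebraMap A (Localization.AtPrime (Q.comap (algebraMap B C))))).map
      (algebraMap (Localization.AtPrime (Q.comap (algebraMap B C))) (Localization.AtPrime Q))) :=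
    (Ideal.quotEquivOfEq hideal2.symm).isLocalRing
  have h2' : SkLocal k (Localization.AtPrime Q ⧸
      (maximalIdeal (Localization.AtPrime (Q.comap (algebraMap B C)))).map
      (algebraMap (Localization.AtPrime (Q.comap (algebraMap B C))) (Localization.AtPrime Q))) :=
    skLocal_of_ringEquiv k (Ideal.quotEquivOfEq hideal1.symm) h2
  have h3 := skLocal_quot_of_flat (Localization.AtPrime (Q.comap (algebraMap B C)))
    (Localization.AtPrime Q) (((Q.comap (algebraMap B C)).comap (algebraMap A B)).map
      (algebraMap A (Localization.AtPrime (Q.comap (algebraMap B C))))) k h1 h2'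
  exact skLocal_of_ringEquiv k (Ideal.quotEquivOfEq hideal2) h3

/-- Descent of the local `(S_k)` along the composite, at a point where the fibre of `B → C` is
zero-dimensional. -/
theorem skLocal_fibLocRing_descent (k : ℕ) (Q : Ideal C) [Q.IsPrime]
    [IsLocalRing (EGA4.FibLocRing A B (Q.comap (algebraMap B C)))]
    [IsLocalRing (EGA4.FibLocRing A C Q)] [IsLocalRing (EGA4.FibLocRing B C Q)]
    (hdim0 : ringKrullDim (EGA4.FibLocRing B C Q) ≤ 0)
    (h : SkLocal k (EGA4.FibLocRing A C Q)) :
    SkLocal k (EGA4.FibLocRing A B (Q.comap (algebraMap B C))) := by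
  haveI : Q.LiesOver (Q.comap (algebraMap B C)) := ⟨rfl⟩
  letI := Localization.AtPrime.algebraOfLiesOver (Q.comap (algebraMap B C)) Q
  haveI : IsLocalHom (algebraMap (Localization.AtPrime (Q.comap (algebraMap B C)))
      (Localization.AtPrime Q)) := by
    rw [RingHom.algebraMap_toAlgebra]
    exact Localization.isLocalHom_localRingHom _ Q (algebraMap B C) Ideal.LiesOver.over
  have hideal1 : (maximalIdeal (Localization.AtPrime (Q.comap (algebraMap B C)))).map
      (algebraMap (Localization.AtPrime (Q.comap (algebraMap B C))) (Localization.AtPrime Q)) =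
      (Q.comap (algebraMap B C)).map (algebraMap B (Localization.AtPrime Q)) := by
    rw [← Localization.AtPrime.map_eq_maximalIdeal, Ideal.map_map,
      ← IsScalarTower.algebraMap_eq]
  have hideal2 : (((Q.comap (algebraMap B C)).comap (algebraMap A B)).map
      (algebraMap A (Localization.AtPrime (Q.comap (algebraMap B C))))).map
      (algebraMap (Localization.AtPrime (Q.comap (algebraMap B C))) (Localization.AtPrime Q)) =
      (Q.comap (algebraMap A C)).map (algebraMap A (Localization.AtPrime Q)) := by
    rw [Ideal.map_map, ← IsScalarTower.algebraMap_eq, comap_comap_eq]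
  haveI : IsLocalRing (Localization.AtPrime Q ⧸
      (maximalIdeal (Localization.AtPrime (Q.comap (algebraMap B C)))).map
      (algebraMap (Localization.AtPrime (Q.comap (algebraMap B C))) (Localization.AtPrime Q))) :=
    (Ideal.quotEquivOfEq hideal1.symm).isLocalRing
  haveI : IsLocalRing (Localization.AtPrime Q ⧸
      (((Q.comap (algebraMap B C)).comap (algebraMap A B)).map
      (algebraMap A (Localization.AtPrime (Q.comap (algebraMap B C))))).map
      (algebraMap (Localization.AtPrime (Q.comap (algebraMap B C))) (Localization.AtPrime Q))) :=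
    (Ideal.quotEquivOfEq hideal2.symm).isLocalRing
  have hdim0' : ringKrullDim (Localization.AtPrime Q ⧸
      (maximalIdeal (Localization.AtPrime (Q.comap (algebraMap B C)))).map
      (algebraMap (Localization.AtPrime (Q.comap (algebraMap B C))) (Localization.AtPrime Q))) ≤
      0 := by
    rw [ringKrullDim_eq_of_ringEquiv (Ideal.quotEquivOfEq hideal1)]
    exact hdim0
  have h' : SkLocal k (Localization.AtPrime Q ⧸
      (((Q.comap (algebraMap B C)).comap (algebraMap A B)).map
      (algebraMap A (Localization.AtPrime (Q.comap (algebraMap B C))))).map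
      (algebraMap (Localization.AtPrime (Q.comap (algebraMap B C))) (Localization.AtPrime Q))) :=
    skLocal_of_ringEquiv k (Ideal.quotEquivOfEq hideal2.symm) h
  exact skLocal_quot_descent (Localization.AtPrime (Q.comap (algebraMap B C)))
    (Localization.AtPrime Q) (((Q.comap (algebraMap B C)).comap (algebraMap A B)).map
      (algebraMap A (Localization.AtPrime (Q.comap (algebraMap B C))))) k hdim0' h'

end comp

end Groth.Agent.Helper8.Fib
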