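import Mathlib
import Groth.Prelude
import Groth.Agent.Lib.Helper8.Fib3
import Groth.Agent.Lib.Helper8.Depth11

/-!
# Descent of flatness; points with zero-dimensional fibre
-/

set_option autoImplicit false
universe u

namespace Groth.Agent.Helper8.Fib

open IsLocalRing LocCoh Groth.Agent.Helper8.FlatReg TensorProduct

section flat_descent

variable (A B C : Type u) [CommRing A] [CommRing B] [CommRing C]
  [Algebra A B] [Algebra B C] [Algebra A C] [IsScalarTower A B C]

/-- If `C` is faithfully flat over `B` and flat over `A` then `B` is flat over `A`. -/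
theorem flat_of_faithfullyFlat_comp [Module.FaithfullyFlat B C] [Module.Flat A C] :
    Module.Flat A B := by
  rw [Module.Flat.iff_lTensor_preserves_injective_linearMap]
  intro N N' _ _ _ _ f hf
  have h1 : Function.Injective (f.lTensor C) :=
    Module.Flat.lTensor_preserves_injective_linearMap f hf
  have h2 : Function.Injective ((LinearMap.baseChange B f).lTensor C) := by
    have hcomm : ∀ x, AlgebraTensorModule.cancelBaseChange A B B C N'
        (((LinearMap.baseChange B f).lTensor C) x) =
        (f.lTensor C) (AlgebraTensorModule.cancelBaseChange A B B C N x) := by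
      intro x
      induction x using TensorProduct.induction_on with
      | zero => simp
      | tmul c y =>
        induction y using TensorProduct.induction_on with
        | zero => simp
        | tmul b n => simp
        | add y1 y2 h1 h2 =>
          rw [TensorProduct.tmul_add, map_add, map_add, map_add, map_add, h1, h2]
      | add x1 x2 h1 h2 => rw [map_add, map_add, map_add, map_add, h1, h2]
    intro x y hxy
    have h3 := congrArg (AlgebraTensorModule.cancelBaseChange A B B C N') hxy
    rw [hcomm, hcomm] at h3
    exact (AlgebraTensorModule.cancelBaseChange A B B C N).injective (h1 h3)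
  have h3 := (Module.FaithfullyFlat.lTensor_injective_iff_injective B C
    (LinearMap.baseChange B f)).mp h2
  exact h3

/-- Over every prime of `B` there is a prime of the faithfully flat `B`-algebra `C` at which the
fibre is zero-dimensional. -/
theorem exists_prime_fibre_dim_zero [Module.FaithfullyFlat B C] (q : Ideal B) [q.IsPrime] :
    ∃ (Q : Ideal C) (_ : Q.IsPrime), Q.comap (algebraMap B C) = q ∧
      ringKrullDim (EGA4.FibLocRing B C Q) ≤ 0 := by
  obtain ⟨Q0, hQ0prime, hQ0over⟩ := Ideal.exists_isPrime_liesOver_of_faithfullyFlat (B := C) q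
  have hle : q.map (algebraMap B C) ≤ Q0 := by
    rw [Ideal.map_le_iff_le_comap]
    exact le_of_eq hQ0over.over
  obtain ⟨Q, hQmin, hQle⟩ := Ideal.exists_minimalPrimes_le hle
  haveI hQprime : Q.IsPrime := hQmin.1.1
  have hcomap : Q.comap (algebraMap B C) = q := by
    apply le_antisymm
    · calc Q.comap (algebraMap B C) ≤ Q0.comap (algebraMap B C) := Ideal.comap_mono hQle
        _ = q := hQ0over.over.symm
    · exact Ideal.map_le_iff_le_comap.mp hQmin.1.2
  refine ⟨Q, hQprime, hcomap, ?_⟩
  rw [← Nat.cast_zero, ← Ring.krullDimLE_iff, Ring.krullDimLE_zero_iff]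
  intro P' hP'
  -- the prime `P'` of `C_Q / q C_Q` pulls back to a prime of `C` between `qC` and `Q`
  set J := (Q.comap (algebraMap B C)).map (algebraMap B (Localization.AtPrime Q)) with hJ
  set P'' := P'.comap (Ideal.Quotient.mk J) with hP''
  haveI : P''.IsPrime := Ideal.comap_isPrime _ _
  set P := P''.comap (algebraMap C (Localization.AtPrime Q)) with hP
  haveI : P.IsPrime := Ideal.comap_isPrime _ _
  have hPQ : P ≤ Q := Groth.Agent.Helper8.Depth.comap_localization_le (p := Q) ⟨P'', inferInstance⟩
  have hJP'' : J ≤ P'' := by
    intro x hx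
    rw [hP'', Ideal.mem_comap, Ideal.Quotient.eq_zero_iff_mem.mpr hx]
    exact zero_mem _
  have hqP : q.map (algebraMap B C) ≤ P := by
    rw [Ideal.map_le_iff_le_comap]
    intro b hb
    rw [Ideal.mem_comap, hP, Ideal.mem_comap]
    apply hJP''
    rw [hJ, hcomap, ← IsScalarTower.algebraMap_apply B C (Localization.AtPrime Q) b]
    exact Ideal.mem_map_of_mem _ hb
  have hPeq : P = Q := le_antisymm hPQ (hQmin.2 ⟨inferInstance, hqP⟩ hPQ)
  have hP''max : P'' = maximalIdeal (Localization.AtPrime Q) := by
    have h1 : P.map (algebraMap C (Localization.AtPrime Q)) = P'' :=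
      IsLocalization.map_under Q.primeCompl (Localization.AtPrime Q) P''
    rw [← h1, hPeq, Localization.AtPrime.map_eq_maximalIdeal]
  haveI : Nontrivial (Localization.AtPrime Q ⧸ J) :=
    ⟨⟨0, 1, fun h => hP'.ne_top ((Ideal.eq_top_iff_one _).mpr (h ▸ zero_mem _))⟩⟩
  have hP'max : P' = maximalIdeal (Localization.AtPrime Q ⧸ J) := by
    have h2 : P''.map (Ideal.Quotient.mk J) = P' :=
      Ideal.map_comap_of_surjective _ Ideal.Quotient.mk_surjective P'
    rw [← h2, hP''max]
    exact IsLocalRing.map_maximalIdeal_of_surjective _ Ideal.Quotient.mk_surjective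
  rw [hP'max]
  exact maximalIdeal.isMaximal _

end flat_descent

end Groth.Agent.Helper8.Fib
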