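import Mathlib
import Groth.Prelude
import Groth.Agent.Lib.Helper8.Fib4

/-!
# Descent of properties of fibres along faithfully flat homomorphisms
-/

set_option autoImplicit false
universe u

namespace Groth.Agent.Helper8.DescFib

open TensorProduct

variable (A B C : Type u) [CommRing A] [CommRing B] [CommRing C] [Algebra A B] [Algebra B C]
  [Algebra A C] [IsScalarTower A B C]

theorem nonempty_baseChange_equiv (K : Type u) [CommRing K] [Algebra A K] :
    Nonempty (((B ⊗[A] K) ⊗[B] C) ≃+* (K ⊗[A] C)) := by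
  let e1 : (B ⊗[A] K) ⊗[B] C ≃ₐ[B] C ⊗[B] (B ⊗[A] K) := Algebra.TensorProduct.comm B _ _
  let e2 : C ⊗[B] (B ⊗[A] K) ≃ₐ[B] C ⊗[A] K := Algebra.TensorProduct.cancelBaseChange A B B C K
  let e3 : C ⊗[A] K ≃ₐ[A] K ⊗[A] C := Algebra.TensorProduct.comm A C K
  exact ⟨e1.toRingEquiv.trans (e2.toRingEquiv.trans e3.toRingEquiv)⟩

/-- A property of rings which is invariant under isomorphisms and descends along faithfully flat
homomorphisms descends from the (extended) fibres of `A → C` to those of `A → B` when `B → C` is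
faithfully flat. -/
theorem descent_fibre (P : ∀ (R : Type u) [CommRing R], Prop)
    (hiso : ∀ (R S : Type u) [CommRing R] [CommRing S], (R ≃+* S) → P R → P S)
    (hdesc : ∀ (R S : Type u) [CommRing R] [CommRing S] [Algebra R S]
      [Module.FaithfullyFlat R S], P S → P R)
    [Module.FaithfullyFlat B C] (p : Ideal A) [p.IsPrime] (K : Type u) [Field K]
    [Algebra p.ResidueField K] (h : P (K ⊗[p.ResidueField] p.Fiber C)) :
    P (K ⊗[p.ResidueField] p.Fiber B) := by
  letI i4 : Algebra A K :=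
    ((algebraMap p.ResidueField K).comp (algebraMap A p.ResidueField)).toAlgebra
  haveI t4 : IsScalarTower A p.ResidueField K := .of_algebraMap_eq' rfl
  let eB : K ⊗[p.ResidueField] (p.ResidueField ⊗[A] B) ≃ₐ[p.ResidueField] K ⊗[A] B :=
    Algebra.TensorProduct.cancelBaseChange A p.ResidueField p.ResidueField K B
  let eC : K ⊗[p.ResidueField] (p.ResidueField ⊗[A] C) ≃ₐ[p.ResidueField] K ⊗[A] C :=
    Algebra.TensorProduct.cancelBaseChange A p.ResidueField p.ResidueField K C
  let eK : B ⊗[A] K ≃ₐ[A] K ⊗[A] B := Algebra.TensorProduct.comm A B K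
  obtain ⟨e⟩ := nonempty_baseChange_equiv A B C K
  have h1 : P (K ⊗[A] C) := hiso _ _ eC.toRingEquiv h
  have h2 : P ((B ⊗[A] K) ⊗[B] C) := hiso _ _ e.symm h1
  have h3 : P (B ⊗[A] K) := hdesc (B ⊗[A] K) ((B ⊗[A] K) ⊗[B] C) h2
  have h4 : P (K ⊗[A] B) := hiso _ _ eK.toRingEquiv h3
  exact hiso _ _ eB.toRingEquiv.symm h4

end Groth.Agent.Helper8.DescFib
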