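import Mathlib
import Groth.Prelude
import Groth.Agent.Lib.Helper8.DescFib1

/-!
# Fibres of a composite homomorphism
-/

set_option autoImplicit false
universe u

namespace Groth.Agent.Helper8.CompFib

open TensorProduct

variable (B C : Type u) [CommRing B] [CommRing C] [Algebra B C]

/-- The fibres of `T → T ⊗_B C` for a quasi-finite `B`-algebra `T` are finite base changes of fibres
of `B → C`. -/
theorem fibre_baseChange_equiv (T : Type u) [CommRing T] [Algebra B T] [Algebra.QuasiFinite B T]
    (Q : Ideal T) [Q.IsPrime] :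
    ∃ (_ : Algebra (Q.under B).ResidueField Q.ResidueField),
      Module.Finite (Q.under B).ResidueField Q.ResidueField ∧
      Nonempty (Q.Fiber (T ⊗[B] C) ≃+*
        Q.ResidueField ⊗[(Q.under B).ResidueField] (Q.under B).Fiber C) := by
  haveI : Q.LiesOver (Q.under B) := ⟨rfl⟩
  letI := Localization.AtPrime.algebraOfLiesOver (Q.under B) Q
  refine ⟨inferInstance, inferInstance, ?_⟩
  let e1 : Q.ResidueField ⊗[T] (T ⊗[B] C) ≃ₐ[T] Q.ResidueField ⊗[B] C :=
    Algebra.TensorProduct.cancelBaseChange B T T Q.ResidueField C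
  let e2 : Q.ResidueField ⊗[(Q.under B).ResidueField] ((Q.under B).ResidueField ⊗[B] C)
      ≃ₐ[(Q.under B).ResidueField] Q.ResidueField ⊗[B] C :=
    Algebra.TensorProduct.cancelBaseChange B (Q.under B).ResidueField (Q.under B).ResidueField
      Q.ResidueField C
  exact ⟨e1.toRingEquiv.trans e2.toRingEquiv.symm⟩

section comp

variable (A : Type u) [CommRing A] [Algebra A B] [Algebra A C] [IsScalarTower A B C]

theorem isNoetherianRing_tensor_of_finite (k F K : Type u) [Field k] [CommRing F] [Algebra k F]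
    [IsNoetherianRing F] [Field K] [Algebra k K] [Module.Finite k K] :
    IsNoetherianRing (K ⊗[k] F) := by
  haveI : IsNoetherianRing (F ⊗[k] K) := IsNoetherianRing.of_finite F (F ⊗[k] K)
  exact isNoetherianRing_of_ringEquiv _ (Algebra.TensorProduct.comm k F K).toRingEquiv

/-- A property of rings which is invariant under isomorphisms and ascends along flat homomorphisms
of Noetherian rings with fibres having the property passes to the (finitely extended) fibres of a
composite. -/
theorem comp_fibre (P : ∀ (R : Type u) [CommRing R], Prop)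
    (hiso : ∀ (R S : Type u) [CommRing R] [CommRing S], (R ≃+* S) → P R → P S)
    (hasc : ∀ (R S : Type u) [CommRing R] [CommRing S] [Algebra R S] [IsNoetherianRing R]
      [IsNoetherianRing S] [Module.Flat R S], P R →
      (∀ (Q : Ideal R) [Q.IsPrime], P (Q.Fiber S)) → P S)
    [Module.Flat B C] (p : Ideal A) [p.IsPrime] [IsNoetherianRing (p.Fiber B)]
    [IsNoetherianRing (p.Fiber C)]
    (K : Type u) [Field K] [Algebra p.ResidueField K] [Module.Finite p.ResidueField K]
    (hB : P (K ⊗[p.ResidueField] p.Fiber B))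
    (hC : ∀ (q : Ideal B) [q.IsPrime] (K' : Type u) [Field K'] [Algebra q.ResidueField K'],
      Module.Finite q.ResidueField K' → P (K' ⊗[q.ResidueField] q.Fiber C)) :
    P (K ⊗[p.ResidueField] p.Fiber C) := by
  letI i4 : Algebra A K :=
    ((algebraMap p.ResidueField K).comp (algebraMap A p.ResidueField)).toAlgebra
  haveI t4 : IsScalarTower A p.ResidueField K := .of_algebraMap_eq' rfl
  let eB : K ⊗[p.ResidueField] (p.ResidueField ⊗[A] B) ≃ₐ[p.ResidueField] K ⊗[A] B :=
    Algebra.TensorProduct.cancelBaseChange A p.ResidueField p.ResidueField K B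
  let eC : K ⊗[p.ResidueField] (p.ResidueField ⊗[A] C) ≃ₐ[p.ResidueField] K ⊗[A] C :=
    Algebra.TensorProduct.cancelBaseChange A p.ResidueField p.ResidueField K C
  let eK : B ⊗[A] K ≃ₐ[A] K ⊗[A] B := Algebra.TensorProduct.comm A B K
  obtain ⟨e⟩ := Groth.Agent.Helper8.DescFib.nonempty_baseChange_equiv A B C K
  -- Noetherianity
  haveI hN1 : IsNoetherianRing (K ⊗[p.ResidueField] p.Fiber B) :=
    isNoetherianRing_tensor_of_finite _ _ _
  haveI hN2 : IsNoetherianRing (K ⊗[p.ResidueField] p.Fiber C) :=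
    isNoetherianRing_tensor_of_finite _ _ _
  haveI hN3 : IsNoetherianRing (B ⊗[A] K) :=
    isNoetherianRing_of_ringEquiv _ (eB.toRingEquiv.trans eK.toRingEquiv.symm)
  haveI hN4 : IsNoetherianRing ((B ⊗[A] K) ⊗[B] C) :=
    isNoetherianRing_of_ringEquiv _ (eC.toRingEquiv.trans e.symm)
  -- quasi-finiteness
  haveI : Algebra.QuasiFinite A K := Algebra.QuasiFinite.trans A p.ResidueField K
  haveI : Algebra.QuasiFinite B (B ⊗[A] K) := inferInstance
  have hT : P (B ⊗[A] K) := hiso _ _ (eB.toRingEquiv.trans eK.toRingEquiv.symm) hB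
  have hTC : P ((B ⊗[A] K) ⊗[B] C) := by
    refine hasc (B ⊗[A] K) ((B ⊗[A] K) ⊗[B] C) hT fun Q _ => ?_
    obtain ⟨i, hfin, ⟨e'⟩⟩ := fibre_baseChange_equiv B C (B ⊗[A] K) Q
    exact hiso _ _ e'.symm (hC (Q.under B) Q.ResidueField hfin)
  exact hiso _ _ (e.trans eC.toRingEquiv.symm) hTC

end comp

end Groth.Agent.Helper8.CompFib
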