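import Mathlib
import Groth.Prelude.Def_Found
import Groth.Agent.Lib.Helper8.AdicFS5
import Groth.Agent.Lib.Helper8.CompFib1
import Groth.Agent.Lib.Helper8.Lift1
import Groth.Agent.Lib.Helper8.CohenLift1
import Groth.Agent.Lib.Helper2.SepPerfect

/-!
# Noetherian local algebras formally smooth over a field for the adic topology are
geometrically regular (EGA 0_IV 19.6.5, 22.5.8 one direction)
-/

set_option autoImplicit false

namespace Groth.Agent.Helper8.AdicFS

open CAlgX IsLocalRing TensorProduct

universe u

/-- A Noetherian local algebra formally smooth over a field for the adic topology is regular, and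
its completion is a power series ring over the residue field. -/
theorem regular_and_ringEquiv {k A : Type u} [Field k] [CommRing A] [IsLocalRing A]
    [IsNoetherianRing A] [Algebra k A] (h : IsAdicFormallySmooth k A (maximalIdeal A)) :
    IsRegularLocalRing A ∧ ∃ n : ℕ, Nonempty
      (AdicCompletion (maximalIdeal A) A ≃+* MvPowerSeries (Fin n) (ResidueField A)) := by
  obtain ⟨p, hp⟩ := CharP.exists k
  rcases CharP.char_is_prime_or_zero k p with hpp | h0
  · haveI : Fact p.Prime := ⟨hpp⟩
    have hpk : (p : k) = 0 := CharP.cast_eq_zero k p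
    let φ : ULift.{u} (ZMod p) →+* k :=
      (Groth.Agent.Helper8.CohenLift.zmodHom p k hpk).comp
        (ULift.ringEquiv : ULift.{u} (ZMod p) ≃+* ZMod p).toRingHom
    letI : Algebra (ULift.{u} (ZMod p)) k := φ.toAlgebra
    letI : Algebra (ULift.{u} (ZMod p)) A := ((algebraMap k A).comp φ).toAlgebra
    haveI : IsScalarTower (ULift.{u} (ZMod p)) k A := IsScalarTower.of_algebraMap_eq' rfl
    haveI : Algebra.FormallySmooth (ULift.{u} (ZMod p)) k :=
      Groth.Agent.Helper2.Sep.formallySmooth_of_perfect p (ULift.{u} (ZMod p)) k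
    have h0 : IsAdicFormallySmooth (ULift.{u} (ZMod p)) A (maximalIdeal A) := trans h
    haveI : Algebra.FormallySmooth (ULift.{u} (ZMod p)) (ResidueField A) :=
      Groth.Agent.Helper2.Sep.formallySmooth_of_perfect p (ULift.{u} (ZMod p)) (ResidueField A)
    haveI : Algebra.IsGeometricallyReduced (ULift.{u} (ZMod p)) (ResidueField A) :=
      Groth.Agent.S2451.result.1 inferInstance
    obtain ⟨n, e, -⟩ := exists_ringEquiv_of_formallySmooth (ULift.{u} (ZMod p)) A h0
    exact ⟨isRegularLocalRing_of_ringEquiv A n e, n, ⟨e⟩⟩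
  · subst h0
    haveI : CharZero k := CharP.charP_to_charZero k
    haveI : Algebra.FormallySmooth k (ResidueField A) :=
      Groth.Agent.Helper2.Sep.formallySmooth_of_charZero k (ResidueField A)
    haveI : Algebra.IsGeometricallyReduced k (ResidueField A) :=
      Groth.Agent.S2451.result.1 inferInstance
    obtain ⟨n, e, -⟩ := exists_ringEquiv_of_formallySmooth k A h
    exact ⟨isRegularLocalRing_of_ringEquiv A n e, n, ⟨e⟩⟩

/-- A Noetherian local algebra formally smooth over a field for the adic topology is
geometrically regular. -/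
theorem isGeometricallyRegular {k A : Type u} [Field k] [CommRing A] [IsLocalRing A]
    [IsNoetherianRing A] [Algebra k A] (h : IsAdicFormallySmooth k A (maximalIdeal A)) :
    CAlg.IsGeometricallyRegular k A := by
  intro k' _ _ hfin
  haveI := hfin
  have hbc := baseChange h k'
  haveI hN : IsNoetherianRing (k' ⊗[k] A) :=
    Groth.Agent.Helper8.CompFib.isNoetherianRing_tensor_of_finite k A k'
  -- maximal ideals of `k' ⊗ A` contain the image of the maximal ideal of `A`
  have hmax : ∀ (n : Ideal (k' ⊗[k] A)) [n.IsMaximal],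
      (maximalIdeal A).map (Algebra.TensorProduct.includeRight : A →ₐ[k] k' ⊗[k] A) ≤ n := by
    intro n hn
    let c : (k' ⊗[k] A) ≃ₐ[k] A ⊗[k] k' := Algebra.TensorProduct.comm k k' A
    let n' : Ideal (A ⊗[k] k') := n.comap (c.symm : A ⊗[k] k' →+* k' ⊗[k] A)
    haveI : n'.IsMaximal := Ideal.comap_isMaximal_of_equiv (c.symm : A ⊗[k] k' ≃+* k' ⊗[k] A)
    haveI : (n'.comap (algebraMap A (A ⊗[k] k'))).IsMaximal :=
      Ideal.isMaximal_comap_of_isIntegral_of_isMaximal n'
    have hm : n'.comap (algebraMap A (A ⊗[k] k')) = maximalIdeal A :=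
      IsLocalRing.eq_maximalIdeal inferInstance
    rw [Ideal.map_le_iff_le_comap]
    intro a ha
    rw [← hm] at ha
    exact ha
  refine isRegularRing_iff.2 (fun P hP => ?_)
  obtain ⟨n, hn, hPn⟩ := Ideal.exists_le_maximal P hP.ne_top
  haveI := hn
  haveI : n.IsPrime := hn.isPrime
  have hloc : IsAdicFormallySmooth k' (Localization.AtPrime n)
      (maximalIdeal (Localization.AtPrime n)) := by
    refine localization hbc n.primeCompl (Localization.AtPrime n) _ ?_
    rw [← Localization.AtPrime.map_eq_maximalIdeal]
    exact Ideal.map_mono (hmax n)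
  haveI := (regular_and_ringEquiv hloc).1
  exact Groth.Agent.Helper8.Lift.isRegularLocalRing_atPrime_of_le _ P n hPn

end Groth.Agent.Helper8.AdicFS
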