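import Mathlib
import Groth.Prelude.Def_CAlgX
import Groth.Agent.Lib.Helper8.AdicFS6
import Groth.Agent.Lib.Helper8.CohenSm2

/-!
# Formal smoothness for an adic topology: reduction modulo an ideal of the base, discrete case
-/

set_option autoImplicit false

namespace Groth.Agent.Helper8.AdicFS

open CAlgX IsLocalRing

universe u

/-- Reduction modulo an ideal of the base. -/
theorem quotient_base {A B : Type u} [CommRing A] [CommRing B] [Algebra A B] {𝔫 : Ideal B}
    (h : IsAdicFormallySmooth A B 𝔫) (𝔪 : Ideal A) :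
    IsAdicFormallySmooth (A ⧸ 𝔪) (B ⧸ 𝔪.map (algebraMap A B))
      (𝔫.map (Ideal.Quotient.mk (𝔪.map (algebraMap A B)))) := by
  intro C _ _ J hJ ψ ⟨k, hk⟩
  letI : Algebra A C := ((algebraMap (A ⧸ 𝔪) C).comp (Ideal.Quotient.mk 𝔪)).toAlgebra
  haveI : IsScalarTower A (A ⧸ 𝔪) C := IsScalarTower.of_algebraMap_eq' rfl
  let ψ' : B →ₐ[A] C ⧸ J :=
    (ψ.restrictScalars A).comp (Ideal.Quotient.mkₐ A (𝔪.map (algebraMap A B)))
  obtain ⟨χ, hχ⟩ := h C J hJ ψ' ⟨k, fun x hx => by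
    show ψ (Ideal.Quotient.mk _ x) = 0
    apply hk
    rw [← Ideal.map_pow]
    exact Ideal.mem_map_of_mem _ hx⟩
  have hker : 𝔪.map (algebraMap A B) ≤ RingHom.ker (χ : B →+* C) := by
    rw [Ideal.map_le_iff_le_comap]
    intro a ha
    rw [Ideal.mem_comap, RingHom.mem_ker]
    show χ (algebraMap A B a) = 0
    rw [χ.commutes]
    show algebraMap (A ⧸ 𝔪) C (Ideal.Quotient.mk 𝔪 a) = 0
    rw [Ideal.Quotient.eq_zero_iff_mem.2 ha, map_zero]
  let χ₀ : B ⧸ 𝔪.map (algebraMap A B) →+* C :=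
    Ideal.Quotient.lift _ (χ : B →+* C) (fun b hb => RingHom.mem_ker.1 (hker hb))
  let χ' : B ⧸ 𝔪.map (algebraMap A B) →ₐ[A ⧸ 𝔪] C :=
    { χ₀ with
      commutes' := by
        intro r
        obtain ⟨a, rfl⟩ := Ideal.Quotient.mk_surjective r
        show χ₀ (Ideal.Quotient.mk _ (algebraMap A B a)) = _
        show χ (algebraMap A B a) = _
        rw [χ.commutes]
        rfl }
  refine ⟨χ', ?_⟩
  ext x
  obtain ⟨b, rfl⟩ := Ideal.Quotient.mk_surjective x
  have := AlgHom.congr_fun hχ b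
  exact this

/-- Formal smoothness for the discrete topology is ordinary formal smoothness. -/
theorem formallySmooth_of_bot {R S : Type u} [CommRing R] [CommRing S] [Algebra R S]
    {𝔫 : Ideal S} (h𝔫 : ∃ k : ℕ, 𝔫 ^ k = ⊥)
    (h : IsAdicFormallySmooth R S 𝔫) : Algebra.FormallySmooth R S := by
  obtain ⟨k, hk⟩ := h𝔫
  apply Algebra.FormallySmooth.of_comp_surjective
  intro C _ _ J hJ ψ
  obtain ⟨χ, hχ⟩ := h C J hJ ψ ⟨k, fun x hx => by
    rw [hk, Ideal.mem_bot] at hx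
    rw [hx, map_zero]⟩
  exact ⟨χ, hχ⟩

/-- Ordinary formal smoothness implies formal smoothness for any adic topology. -/
theorem of_formallySmooth {R S : Type u} [CommRing R] [CommRing S] [Algebra R S]
    [Algebra.FormallySmooth R S] (𝔫 : Ideal S) : IsAdicFormallySmooth R S 𝔫 := by
  intro C _ _ J hJ ψ _
  exact Algebra.FormallySmooth.comp_surjective R S J hJ ψ

/-- A flat algebra whose special fibre is a formally smooth field extension is formally smooth
for the adic topology. -/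
theorem of_flat_of_fibre {A : Type u} [CommRing A] (𝔪 : Ideal A)
    {B : Type u} [CommRing B] [Algebra A B] [Module.Flat A B]
    {K : Type u} [CommRing K] [Algebra A K] [Algebra (A ⧸ 𝔪) K] [IsScalarTower A (A ⧸ 𝔪) K]
    [Algebra.FormallySmooth (A ⧸ 𝔪) K]
    (ρ : B →ₐ[A] K) (hρ : Function.Surjective ρ)
    (hker : RingHom.ker ρ = 𝔪.map (algebraMap A B)) (𝔫 : Ideal B)
    (h𝔫 : 𝔪.map (algebraMap A B) ≤ 𝔫) : IsAdicFormallySmooth A B 𝔫 := by
  intro C _ _ J hJ ψ ⟨k, hk⟩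
  refine Groth.Agent.Helper8.CohenSm.exists_lift 𝔪 ρ hρ hker J ⟨2, hJ⟩ ⟨2 * k, ?_⟩ ψ
  have h1 : (𝔪 ^ k).map (algebraMap A C) ≤ J := by
    rw [Ideal.map_le_iff_le_comap]
    intro a ha
    rw [Ideal.mem_comap, ← Ideal.Quotient.eq_zero_iff_mem]
    have h2 : algebraMap A B a ∈ 𝔫 ^ k := by
      have : algebraMap A B a ∈ (𝔪 ^ k).map (algebraMap A B) := Ideal.mem_map_of_mem _ ha
      rw [Ideal.map_pow] at this
      exact Ideal.pow_right_mono h𝔫 k this
    have h3 := hk _ h2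
    rw [ψ.commutes] at h3
    exact h3
  rw [two_mul, pow_add, Ideal.map_mul, eq_bot_iff, ← hJ, pow_two]
  exact Ideal.mul_mono h1 h1

end Groth.Agent.Helper8.AdicFS
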