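import Mathlib
import Groth.Prelude.Def_CAlgX
import Groth.Agent.Lib.Helper8.AdicFS7

/-!
# Flat Noetherian algebras whose special fibre is formally smooth for an adic topology
are formally smooth for that adic topology (EGA 0_IV 19.7.1, one direction)
-/

set_option autoImplicit false

namespace Groth.Agent.Helper8.AdicFS

open CAlgX

universe u

section quot

variable {A : Type u} [CommRing A] (𝔪 : Ideal A)

/-- Lifting along a surjection of `A`-algebras killed by `𝔪`, for an `A ⧸ 𝔪`-algebra. -/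
theorem exists_lift_surjective_of_quotient {S : Type u} [CommRing S] [Algebra A S]
    [Algebra (A ⧸ 𝔪) S] [IsScalarTower A (A ⧸ 𝔪) S] {𝔫 : Ideal S}
    (h : IsAdicFormallySmooth (A ⧸ 𝔪) S 𝔫)
    {C' C'' : Type u} [CommRing C'] [Algebra A C'] [CommRing C''] [Algebra A C'']
    (hC' : ∀ a ∈ 𝔪, algebraMap A C' a = 0)
    (p : C' →ₐ[A] C'') (hp : Function.Surjective p) (hsq : RingHom.ker p ^ 2 = ⊥)
    (u : S →ₐ[A] C'') (hu : ∃ k : ℕ, ∀ x ∈ 𝔫 ^ k, u x = 0) :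
    ∃ v : S →ₐ[A] C', p.comp v = u := by
  have hC'' : ∀ a ∈ 𝔪, algebraMap A C'' a = 0 := by
    intro a ha
    rw [← p.commutes, hC' a ha, map_zero]
  letI : Algebra (A ⧸ 𝔪) C' := (Ideal.Quotient.lift 𝔪 (algebraMap A C') hC').toAlgebra
  letI : Algebra (A ⧸ 𝔪) C'' := (Ideal.Quotient.lift 𝔪 (algebraMap A C'') hC'').toAlgebra
  haveI : IsScalarTower A (A ⧸ 𝔪) C' := IsScalarTower.of_algebraMap_eq' rfl
  haveI : IsScalarTower A (A ⧸ 𝔪) C'' := IsScalarTower.of_algebraMap_eq' rfl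
  let p' : C' →ₐ[A ⧸ 𝔪] C'' :=
    AlgHom.extendScalarsOfSurjective (Ideal.Quotient.mk_surjective (I := 𝔪)) p
  let u' : S →ₐ[A ⧸ 𝔪] C'' :=
    AlgHom.extendScalarsOfSurjective (Ideal.Quotient.mk_surjective (I := 𝔪)) u
  obtain ⟨v, hv, -⟩ := exists_lift_surjective h p' hp hsq u' hu
  refine ⟨v.restrictScalars A, ?_⟩
  ext x
  exact AlgHom.congr_fun hv x

end quot

section flat

variable {A : Type u} [CommRing A] (𝔪 : Ideal A)
  {B : Type u} [CommRing B] [Algebra A B] [Module.Flat A B]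
  {E : Type u} [CommRing E] [Algebra A E] (π : E →ₐ[A] B) (hπ : Function.Surjective π)
  (hm : ∀ a ∈ 𝔪, ∀ x ∈ RingHom.ker π, a • x = 0)

include hπ hm in
/-- For a flat quotient, the kernel (killed by `𝔪`) meets `𝔪 E` trivially. -/
theorem map_inf_ker_eq_bot : 𝔪.map (algebraMap A E) ⊓ RingHom.ker π = ⊥ := by
  rw [eq_bot_iff]
  rintro y ⟨hy1, hy2⟩
  rw [Ideal.mem_bot]
  let L : Submodule A E := (RingHom.ker π).restrictScalars A
  have hex : Function.Exact L.subtype π.toLinearMap := by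
    intro z
    constructor
    · intro hz
      exact ⟨⟨z, hz⟩, rfl⟩
    · rintro ⟨w, rfl⟩
      exact w.2
  have h3 : (⟨y, hy2⟩ : L) ∈ 𝔪 • (⊤ : Submodule A L) := by
    apply Groth.Agent.Helper8.CohenSm.mem_smul_top_of_flat L.subtype π.toLinearMap
      L.subtype_injective hπ hex
    show y ∈ 𝔪 • (⊤ : Submodule A E)
    rw [Ideal.smul_top_eq_map, Submodule.restrictScalars_mem]
    exact hy1
  have h4 : 𝔪 • (⊤ : Submodule A L) = ⊥ := by
    rw [eq_bot_iff]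
    intro z hz
    refine Submodule.smul_induction_on hz ?_ ?_
    · intro a ha x _
      rw [Submodule.mem_bot]
      apply Subtype.ext
      exact hm a ha x.1 x.2
    · intro x y hx hy
      exact Submodule.add_mem _ hx hy
  rw [h4, Submodule.mem_bot] at h3
  exact congrArg Subtype.val h3

variable [IsNoetherianRing B] (𝔫 : Ideal B)
  (h : IsAdicFormallySmooth (A ⧸ 𝔪) (B ⧸ 𝔪.map (algebraMap A B))
    (𝔫.map (Ideal.Quotient.mk (𝔪.map (algebraMap A B)))))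
  (hsq : RingHom.ker π ^ 2 = ⊥)
  (𝔞₀ : Ideal E) (t : ℕ) (h𝔞 : 𝔞₀ ⊓ RingHom.ker π = ⊥) (h𝔞t : ∀ b ∈ 𝔫 ^ t, ∃ e ∈ 𝔞₀, π e = b)

include hπ hm h hsq h𝔞 h𝔞t in
/-- A small extension of `B` (kernel killed by `𝔪`) which is trivial over a power of `𝔫`
splits. -/
theorem exists_section_adic : ∃ σ : B →ₐ[A] E, π.comp σ = AlgHom.id A B := by
  classical
  have hmemπ : ∀ e : E, e ∈ RingHom.ker π ↔ π e = 0 := fun e => RingHom.mem_ker
  have hmapB : (𝔪.map (algebraMap A E)).map (π : E →+* B) = 𝔪.map (algebraMap A B) := by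
    rw [Ideal.map_map]
    congr 1
    ext a
    exact π.commutes a
  -- Artin–Rees
  obtain ⟨k, hk⟩ := Ideal.exists_pow_inf_eq_pow_smul 𝔫
    (𝔪.map (algebraMap A B) : Submodule B B)
  have hAR : 𝔫 ^ (t + k) ⊓ 𝔪.map (algebraMap A B) ≤ 𝔫 ^ t * 𝔪.map (algebraMap A B) := by
    have h1 := hk (t + k) (Nat.le_add_left k t)
    rw [Nat.add_sub_cancel] at h1
    simp only [smul_eq_mul, Ideal.mul_top] at h1
    rw [h1]
    exact Ideal.mul_mono_right inf_le_right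
  -- lifting products
  have hprod : 𝔫 ^ t * 𝔪.map (algebraMap A B) ≤
      (𝔞₀ ⊓ 𝔪.map (algebraMap A E)).map (π : E →+* B) := by
    rw [Ideal.mul_le]
    intro a ha b hb
    obtain ⟨ea, hea, rfl⟩ := h𝔞t a ha
    rw [← hmapB] at hb
    obtain ⟨eb, heb, rfl⟩ := (Ideal.mem_map_iff_of_surjective (π : E →+* B) hπ).1 hb
    have : π ea * π eb = (π : E →+* B) (ea * eb) := (map_mul π ea eb).symm
    show π ea * (π : E →+* B) eb ∈ _
    rw [show π ea * (π : E →+* B) eb = (π : E →+* B) (ea * eb) from (map_mul π ea eb).symm]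
    exact Ideal.mem_map_of_mem _ ⟨Ideal.mul_mem_right _ _ hea, Ideal.mul_mem_left _ _ heb⟩
  let 𝔞₁ : Ideal E := 𝔞₀ ⊓ (𝔫 ^ (t + k)).comap (π : E →+* B)
  have hA : ∀ x ∈ 𝔞₁, π x ∈ 𝔪.map (algebraMap A B) → x ∈ 𝔪.map (algebraMap A E) := by
    intro x hx hx2
    have h1 : π x ∈ 𝔫 ^ (t + k) ⊓ 𝔪.map (algebraMap A B) := ⟨hx.2, hx2⟩
    obtain ⟨e, he, he2⟩ := (Ideal.mem_map_iff_of_surjective (π : E →+* B) hπ).1
      (hprod (hAR h1))
    have h2 : x - e ∈ 𝔞₀ ⊓ RingHom.ker π := by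
      refine ⟨𝔞₀.sub_mem hx.1 he.1, (hmemπ _).2 ?_⟩
      rw [map_sub, sub_eq_zero]
      exact he2.symm
    rw [h𝔞, Ideal.mem_bot, sub_eq_zero] at h2
    rw [h2]
    exact he.2
  let 𝔟 : Ideal E := 𝔪.map (algebraMap A E) ⊔ 𝔞₁
  have hB : ∀ y ∈ 𝔟, π y = 0 → y = 0 := by
    intro y hy hy0
    obtain ⟨m, hm1, x, hx, rfl⟩ := Submodule.mem_sup.1 hy
    have h1 : π x ∈ 𝔪.map (algebraMap A B) := by
      have h2 : π x = - π m := by
        rw [map_add] at hy0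
        exact eq_neg_of_add_eq_zero_right hy0
      rw [h2, ← hmapB]
      exact Submodule.neg_mem _ (Ideal.mem_map_of_mem (π : E →+* B) hm1)
    have h3 : m + x ∈ 𝔪.map (algebraMap A E) ⊓ RingHom.ker π :=
      ⟨Ideal.add_mem _ hm1 (hA x hx h1), (hmemπ _).2 hy0⟩
    rw [map_inf_ker_eq_bot 𝔪 π hπ hm, Ideal.mem_bot] at h3
    exact h3
  -- the discrete quotients
  let 𝔮 : Ideal B := 𝔪.map (algebraMap A B) ⊔ 𝔫 ^ (t + k)
  have hkill : ∀ e : E, e ∈ 𝔟 → ((Ideal.Quotient.mkₐ A 𝔮).comp π) e = 0 := by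
    intro e he
    show Ideal.Quotient.mk 𝔮 (π e) = 0
    rw [Ideal.Quotient.eq_zero_iff_mem]
    obtain ⟨m, hm1, x, hx, rfl⟩ := Submodule.mem_sup.1 he
    rw [map_add]
    refine Ideal.add_mem _ (Ideal.mem_sup_left ?_) (Ideal.mem_sup_right hx.2)
    rw [← hmapB]
    exact Ideal.mem_map_of_mem (π : E →+* B) hm1
  let p : (E ⧸ 𝔟) →ₐ[A] (B ⧸ 𝔮) := Ideal.Quotient.liftₐ 𝔟 ((Ideal.Quotient.mkₐ A 𝔮).comp π) hkill
  have hpmk : ∀ e : E, p (Ideal.Quotient.mk 𝔟 e) = Ideal.Quotient.mk 𝔮 (π e) := fun e => rfl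
  have hp : Function.Surjective p := by
    intro y
    obtain ⟨b, rfl⟩ := Ideal.Quotient.mk_surjective y
    obtain ⟨e, rfl⟩ := hπ b
    exact ⟨Ideal.Quotient.mk 𝔟 e, hpmk e⟩
  have hkerp : RingHom.ker (p : (E ⧸ 𝔟) →+* (B ⧸ 𝔮)) =
      (RingHom.ker π).map (Ideal.Quotient.mk 𝔟) := by
    apply le_antisymm
    · intro y hy
      obtain ⟨e, rfl⟩ := Ideal.Quotient.mk_surjective y
      have h1 : Ideal.Quotient.mk 𝔮 (π e) = 0 := hy
      rw [Ideal.Quotient.eq_zero_iff_mem] at h1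
      obtain ⟨m, hm1, n, hn, hmn⟩ := Submodule.mem_sup.1 h1
      rw [← hmapB] at hm1
      obtain ⟨em, hem, hem2⟩ := (Ideal.mem_map_iff_of_surjective (π : E →+* B) hπ).1 hm1
      obtain ⟨en, hen, hen2⟩ := h𝔞t n (Ideal.pow_le_pow_right (Nat.le_add_right t k) hn)
      have hen' : en ∈ 𝔞₁ := ⟨hen, Ideal.mem_comap.2 (by show π en ∈ _; rw [hen2]; exact hn)⟩
      have h3 : e - (em + en) ∈ RingHom.ker π := by
        rw [hmemπ, map_sub, map_add, hen2, sub_eq_zero, ← hmn]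
        congr 1
        exact hem2.symm
      have h4 : Ideal.Quotient.mk 𝔟 e = Ideal.Quotient.mk 𝔟 (e - (em + en)) := by
        rw [map_sub, Ideal.Quotient.eq_zero_iff_mem.2
          (Ideal.add_mem _ (Ideal.mem_sup_left hem) (Ideal.mem_sup_right hen')), sub_zero]
      rw [h4]
      exact Ideal.mem_map_of_mem _ h3
    · rw [Ideal.map_le_iff_le_comap]
      intro e he
      rw [Ideal.mem_comap, RingHom.mem_ker]
      show p (Ideal.Quotient.mk 𝔟 e) = 0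
      rw [hpmk, (hmemπ e).1 he, map_zero]
  have hsqp : RingHom.ker (p : (E ⧸ 𝔟) →+* (B ⧸ 𝔮)) ^ 2 = ⊥ := by
    rw [hkerp, ← Ideal.map_pow, hsq, Ideal.map_bot]
  let u : (B ⧸ 𝔪.map (algebraMap A B)) →ₐ[A] (B ⧸ 𝔮) := Ideal.Quotient.factorₐ A le_sup_left
  have humk : ∀ b : B, u (Ideal.Quotient.mk _ b) = Ideal.Quotient.mk 𝔮 b := fun b => rfl
  have hu : ∃ j : ℕ, ∀ x ∈ (𝔫.map (Ideal.Quotient.mk (𝔪.map (algebraMap A B)))) ^ j,
      u x = 0 := by
    refine ⟨t + k, ?_⟩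
    intro x hx
    rw [← Ideal.map_pow] at hx
    obtain ⟨b, hb, rfl⟩ := (Ideal.mem_map_iff_of_surjective _ Ideal.Quotient.mk_surjective).1 hx
    rw [humk, Ideal.Quotient.eq_zero_iff_mem]
    exact Ideal.mem_sup_right hb
  have hC' : ∀ a ∈ 𝔪, algebraMap A (E ⧸ 𝔟) a = 0 := by
    intro a ha
    show Ideal.Quotient.mk 𝔟 (algebraMap A E a) = 0
    rw [Ideal.Quotient.eq_zero_iff_mem]
    exact Ideal.mem_sup_left (Ideal.mem_map_of_mem _ ha)
  obtain ⟨v, hv⟩ := exists_lift_surjective_of_quotient 𝔪 h hC' p hp hsqp u hu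
  have hpv : ∀ x, p (v x) = u x := fun x => AlgHom.congr_fun hv x
  -- uniqueness
  have huniq : ∀ e e' : E, π e = π e' → Ideal.Quotient.mk 𝔟 e = Ideal.Quotient.mk 𝔟 e' →
      e = e' := by
    intro e e' h1 h2
    have hd2 : e - e' ∈ 𝔟 := by
      rw [← Ideal.Quotient.eq_zero_iff_mem, map_sub, sub_eq_zero]; exact h2
    have := hB _ hd2 (by rw [map_sub, sub_eq_zero]; exact h1)
    exact sub_eq_zero.1 this
  -- existence
  have hexist : ∀ b : B, ∃ e : E, π e = b ∧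
      Ideal.Quotient.mk 𝔟 e = v (Ideal.Quotient.mk _ b) := by
    intro b
    obtain ⟨e₁, he₁⟩ := hπ b
    have h1 : Ideal.Quotient.mk 𝔟 e₁ - v (Ideal.Quotient.mk _ b) ∈
        RingHom.ker (p : (E ⧸ 𝔟) →+* (B ⧸ 𝔮)) := by
      rw [RingHom.mem_ker, map_sub]
      show p (Ideal.Quotient.mk 𝔟 e₁) - p (v (Ideal.Quotient.mk _ b)) = 0
      rw [hpmk, hpv, humk, he₁, sub_self]
    rw [hkerp] at h1
    obtain ⟨j, hj, hj2⟩ := (Ideal.mem_map_iff_of_surjective (Ideal.Quotient.mk 𝔟)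
      Ideal.Quotient.mk_surjective).1 h1
    refine ⟨e₁ - j, ?_, ?_⟩
    · rw [map_sub, he₁, (hmemπ j).1 hj, sub_zero]
    · rw [map_sub, hj2]; ring
  choose σ hσ1 hσ2 using hexist
  refine ⟨{ toFun := σ
            map_one' := ?_
            map_mul' := ?_
            map_zero' := ?_
            map_add' := ?_
            commutes' := ?_ }, ?_⟩
  · apply huniq
    · rw [hσ1, map_one]
    · rw [hσ2, map_one, map_one, map_one]
  · intro x y
    apply huniq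
    · rw [hσ1, map_mul, hσ1, hσ1]
    · rw [hσ2, map_mul, map_mul, map_mul, hσ2, hσ2]
  · apply huniq
    · rw [hσ1, map_zero]
    · rw [hσ2, map_zero, map_zero, map_zero]
  · intro x y
    apply huniq
    · rw [hσ1, map_add, hσ1, hσ1]
    · rw [hσ2, map_add, map_add, map_add, hσ2, hσ2]
  · intro a
    apply huniq
    · rw [hσ1, AlgHom.commutes]
    · rw [hσ2]
      show v (algebraMap A (B ⧸ 𝔪.map (algebraMap A B)) a) = _
      rw [AlgHom.commutes]
      rfl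
  · ext b
    exact hσ1 b

end flat

end Groth.Agent.Helper8.AdicFS
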