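import Mathlib
import Groth.Prelude.Def_CAlgX
import Groth.Agent.Lib.Helper8.AdicFS8

/-!
# Flat Noetherian algebras whose special fibre is formally smooth for an adic topology
are formally smooth for that adic topology (EGA 0_IV 19.7.1, one direction): conclusion
-/

set_option autoImplicit false

namespace Groth.Agent.Helper8.AdicFS

open CAlgX

universe u

/-- A lift along a square-zero surjection of a continuous map is continuous. -/
theorem continuous_of_comp_eq {A B : Type u} [CommRing A] [CommRing B] [Algebra A B]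
    (𝔫 : Ideal B) {C' C'' : Type u} [CommRing C'] [Algebra A C'] [CommRing C'']
    [Algebra A C''] (p : C' →ₐ[A] C'') (hsq : RingHom.ker p ^ 2 = ⊥)
    (u : B →ₐ[A] C'') (v : B →ₐ[A] C') (hpv : p.comp v = u) (k : ℕ)
    (hk : ∀ x ∈ 𝔫 ^ k, u x = 0) : ∀ x ∈ 𝔫 ^ (2 * k), v x = 0 := by
  have hmem : ∀ x ∈ 𝔫 ^ k, v x ∈ RingHom.ker p := by
    intro x hx
    rw [RingHom.mem_ker]
    have := AlgHom.congr_fun hpv x
    rw [AlgHom.comp_apply] at this
    rw [this, hk x hx]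
  have hle : 𝔫 ^ (2 * k) ≤ RingHom.ker (v : B →+* C') := by
    rw [two_mul, pow_add, Ideal.mul_le]
    intro a ha b hb
    rw [RingHom.mem_ker, map_mul]
    have h1 : v a * v b ∈ RingHom.ker p ^ 2 := by
      rw [pow_two]; exact Ideal.mul_mem_mul (hmem a ha) (hmem b hb)
    rw [hsq] at h1
    exact h1
  intro x hx
  exact RingHom.mem_ker.1 (hle hx)

section small

variable {A : Type u} [CommRing A] (𝔪 : Ideal A)
  {B : Type u} [CommRing B] [Algebra A B] [Module.Flat A B] [IsNoetherianRing B] (𝔫 : Ideal B)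
  (h : IsAdicFormallySmooth (A ⧸ 𝔪) (B ⧸ 𝔪.map (algebraMap A B))
    (𝔫.map (Ideal.Quotient.mk (𝔪.map (algebraMap A B)))))

include h in
/-- Lifting along a small extension whose kernel is killed by `𝔪`. -/
theorem exists_lift_small_adic {C' C'' : Type u} [CommRing C'] [Algebra A C'] [CommRing C'']
    [Algebra A C''] (p : C' →ₐ[A] C'') (hp : Function.Surjective p)
    (hsq : RingHom.ker p ^ 2 = ⊥) (hm : ∀ a ∈ 𝔪, ∀ x ∈ RingHom.ker p, a • x = 0)
    (u : B →ₐ[A] C'') (hu : ∃ t : ℕ, ∀ x ∈ 𝔫 ^ t, u x = 0) :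
    ∃ v : B →ₐ[A] C', p.comp v = u ∧ ∃ t : ℕ, ∀ x ∈ 𝔫 ^ t, v x = 0 := by
  classical
  obtain ⟨t, ht⟩ := hu
  have hmemp : ∀ c : C', c ∈ RingHom.ker p ↔ p c = 0 := fun c => RingHom.mem_ker
  let E : Subalgebra A (C' × B) :=
    AlgHom.equalizer (p.comp (AlgHom.fst A C' B)) (u.comp (AlgHom.snd A C' B))
  have hE : ∀ x : E, p (x.1.1) = u (x.1.2) := fun x => x.2
  let π : E →ₐ[A] B := (AlgHom.snd A C' B).comp E.val
  have hπapply : ∀ x : E, π x = x.1.2 := fun x => rfl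
  have hmemπ : ∀ x : E, x ∈ RingHom.ker π ↔ x.1.2 = 0 := fun x => RingHom.mem_ker
  have hπ : Function.Surjective π := by
    intro b
    obtain ⟨c, hc⟩ := hp (u b)
    exact ⟨⟨(c, b), hc⟩, rfl⟩
  have hfst : ∀ x : E, x ∈ RingHom.ker π → x.1.1 ∈ RingHom.ker p := by
    intro x hx
    rw [hmemp, hE, (hmemπ x).1 hx, map_zero]
  have hsqπ : RingHom.ker π ^ 2 = ⊥ := by
    rw [eq_bot_iff, pow_two, Ideal.mul_le]
    intro x hx y hy
    rw [Ideal.mem_bot]
    apply Subtype.ext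
    apply Prod.ext
    · show x.1.1 * y.1.1 = 0
      have h1 : x.1.1 * y.1.1 ∈ RingHom.ker p ^ 2 := by
        rw [pow_two]; exact Ideal.mul_mem_mul (hfst x hx) (hfst y hy)
      rw [hsq] at h1
      exact h1
    · show x.1.2 * y.1.2 = 0
      rw [(hmemπ x).1 hx, zero_mul]
  have hmπ : ∀ a ∈ 𝔪, ∀ x ∈ RingHom.ker π, a • x = 0 := by
    intro a ha x hx
    apply Subtype.ext
    apply Prod.ext
    · show a • x.1.1 = 0
      exact hm a ha _ (hfst x hx)
    · show a • x.1.2 = 0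
      rw [(hmemπ x).1 hx, smul_zero]
  let φ : E →ₐ[A] C' := (AlgHom.fst A C' B).comp E.val
  have hφapply : ∀ x : E, φ x = x.1.1 := fun x => rfl
  let 𝔞₀ : Ideal E := RingHom.ker (φ : E →+* C')
  have hmem𝔞 : ∀ x : E, x ∈ 𝔞₀ ↔ x.1.1 = 0 := fun x => RingHom.mem_ker
  have h𝔞 : 𝔞₀ ⊓ RingHom.ker π = ⊥ := by
    rw [eq_bot_iff]
    rintro x ⟨hx1, hx2⟩
    rw [Ideal.mem_bot]
    apply Subtype.ext
    apply Prod.ext
    · exact (hmem𝔞 x).1 hx1
    · exact (hmemπ x).1 hx2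
  have h𝔞t : ∀ b ∈ 𝔫 ^ t, ∃ e ∈ 𝔞₀, π e = b := by
    intro b hb
    refine ⟨⟨(0, b), ?_⟩, ?_, rfl⟩
    · show p 0 = u b
      rw [map_zero, ht b hb]
    · exact (hmem𝔞 _).2 rfl
  obtain ⟨σ, hσ⟩ := exists_section_adic 𝔪 π hπ hmπ 𝔫 h hsqπ 𝔞₀ t h𝔞 h𝔞t
  have hpv : p.comp (φ.comp σ) = u := by
    ext b
    show p ((σ b).1.1) = u b
    rw [hE]
    have := AlgHom.congr_fun hσ b
    rw [AlgHom.comp_apply, hπapply] at this
    rw [this]
    rfl
  exact ⟨φ.comp σ, hpv, 2 * t, continuous_of_comp_eq 𝔫 p hsq u _ hpv t ht⟩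

variable {C : Type u} [CommRing C] [Algebra A C]

include h in
theorem exists_lift_of_iterate_adic (s : ℕ) : ∀ J : Ideal C,
    (Groth.Agent.Helper8.CohenSm.next 𝔪)^[s] J = ⊥ →
    ∀ u : B →ₐ[A] C ⧸ J, (∃ t : ℕ, ∀ x ∈ 𝔫 ^ t, u x = 0) →
      ∃ v : B →ₐ[A] C, (Ideal.Quotient.mkₐ A J).comp v = u := by
  induction s with
  | zero =>
    intro J hJ u _
    rw [Function.iterate_zero, id] at hJ
    subst hJ
    refine ⟨(AlgEquiv.quotientBot A C).toAlgHom.comp u, ?_⟩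
    ext b
    obtain ⟨c, hc⟩ := Ideal.Quotient.mk_surjective (u b)
    show Ideal.Quotient.mk ⊥ (AlgEquiv.quotientBot A C (u b)) = u b
    rw [← hc, AlgEquiv.quotientBot_mk]
  | succ s ih =>
    intro J hJ u hu
    rw [Function.iterate_succ_apply] at hJ
    have hle := Groth.Agent.Helper8.CohenSm.next_le 𝔪 J
    have hkerp : RingHom.ker (Ideal.Quotient.factorₐ A hle) =
        J.map (Ideal.Quotient.mk (Groth.Agent.Helper8.CohenSm.next 𝔪 J)) :=
      Ideal.Quotient.factor_ker hle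
    obtain ⟨v₁, hv₁, hv₁c⟩ := exists_lift_small_adic 𝔪 𝔫 h (Ideal.Quotient.factorₐ A hle)
      (Ideal.Quotient.factor_surjective hle) (by
        rw [hkerp, ← Ideal.map_pow, eq_bot_iff, Ideal.map_le_iff_le_comap]
        intro x hx
        rw [Ideal.mem_comap, Ideal.mem_bot, Ideal.Quotient.eq_zero_iff_mem]
        rw [pow_two] at hx
        exact Ideal.mul_mono le_sup_left le_rfl hx) (by
        intro a ha x hx
        rw [hkerp] at hx
        obtain ⟨j, hj, rfl⟩ := (Ideal.mem_map_iff_of_surjective _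
          Ideal.Quotient.mk_surjective).1 hx
        rw [Algebra.smul_def]
        show Ideal.Quotient.mk (Groth.Agent.Helper8.CohenSm.next 𝔪 J) (algebraMap A C a) *
          Ideal.Quotient.mk _ j = 0
        rw [← map_mul, Ideal.Quotient.eq_zero_iff_mem]
        exact Ideal.mul_mem_mul (Ideal.mem_sup_right (Ideal.mem_map_of_mem _ ha)) hj) u hu
    obtain ⟨v, hv⟩ := ih (Groth.Agent.Helper8.CohenSm.next 𝔪 J) hJ v₁ hv₁c
    refine ⟨v, ?_⟩
    rw [← hv₁, ← hv, ← AlgHom.comp_assoc, Ideal.Quotient.factorₐ_comp_mk]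

include h in
/-- **EGA 0_IV 19.7.1 (one direction)**: a flat Noetherian `A`-algebra `B` whose special fibre
`B ⧸ 𝔪 B` is formally smooth over `A ⧸ 𝔪` for the `𝔫`-adic topology (`𝔪 B ≤ 𝔫`) is formally
smooth over `A` for the `𝔫`-adic topology. -/
theorem of_flat_of_fibre_adic (h𝔫 : 𝔪.map (algebraMap A B) ≤ 𝔫) :
    IsAdicFormallySmooth A B 𝔫 := by
  intro C _ _ J hJ ψ ⟨k, hk⟩
  have h1 : (𝔪 ^ k).map (algebraMap A C) ≤ J := by
    rw [Ideal.map_le_iff_le_comap]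
    intro a ha
    rw [Ideal.mem_comap, ← Ideal.Quotient.eq_zero_iff_mem]
    have h2 : algebraMap A B a ∈ 𝔫 ^ k := by
      have : algebraMap A B a ∈ (𝔪 ^ k).map (algebraMap A B) := Ideal.mem_map_of_mem _ ha
      rw [Ideal.map_pow] at this
      exact Ideal.pow_right_mono h𝔫 k this
    have h3 := hk _ h2
    rw [ψ.commutes] at h3
    exact h3
  have h2 : (𝔪 ^ (2 * k)).map (algebraMap A C) = ⊥ := by
    rw [two_mul, pow_add, Ideal.map_mul, eq_bot_iff, ← hJ, pow_two]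
    exact Ideal.mul_mono h1 h1
  apply exists_lift_of_iterate_adic 𝔪 𝔫 h (2 + 2 * k) J ?_ ψ ⟨k, hk⟩
  rw [eq_bot_iff]
  refine (Groth.Agent.Helper8.CohenSm.iterate_next_le 𝔪 (2 + 2 * k) J).trans
    (Ideal.mul_le_left.trans ?_)
  refine Ideal.sup_pow_add_le_pow_sup_pow.trans ?_
  rw [hJ, ← Ideal.map_pow, h2]
  simp

end small

end Groth.Agent.Helper8.AdicFS
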