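import Mathlib
import Groth.Prelude.Def_CAlgX
import Groth.Agent.Lib.Helper8.AdicFS9

/-!
# Formal smoothness for an adic topology: change of base along an isomorphism, fibres as tensor
products
-/

set_option autoImplicit false

namespace Groth.Agent.Helper8.AdicFS

open CAlgX TensorProduct

universe u

/-- Transport along an isomorphism of base rings. -/
theorem of_ringEquiv_base {R R' S : Type u} [CommRing R] [CommRing R'] [CommRing S]
    [Algebra R S] [Algebra R' S] {𝔫 : Ideal S} (e : R ≃+* R')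
    (he : ∀ r, algebraMap R' S (e r) = algebraMap R S r)
    (h : IsAdicFormallySmooth R' S 𝔫) : IsAdicFormallySmooth R S 𝔫 := by
  intro C _ _ J hJ ψ hψ
  letI : Algebra R' C := ((algebraMap R C).comp (e.symm : R' →+* R)).toAlgebra
  have hC : ∀ r', algebraMap R' C r' = algebraMap R C (e.symm r') := fun _ => rfl
  let ψ' : S →ₐ[R'] C ⧸ J :=
    { (ψ : S →+* C ⧸ J) with
      commutes' := fun r' => by
        show ψ (algebraMap R' S r') = Ideal.Quotient.mk J (algebraMap R' C r')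
        rw [hC, ← e.apply_symm_apply r', he, ψ.commutes, e.symm_apply_apply]
        rfl }
  obtain ⟨χ', hχ'⟩ := h C J hJ ψ' hψ
  let χ : S →ₐ[R] C :=
    { (χ' : S →+* C) with
      commutes' := fun r => by
        show χ' (algebraMap R S r) = algebraMap R C r
        rw [← he, χ'.commutes, hC, e.symm_apply_apply] }
  refine ⟨χ, ?_⟩
  ext x
  exact AlgHom.congr_fun hχ' x

/-- A flat Noetherian `A`-algebra `C` whose special fibre `(A ⧸ 𝔪) ⊗ C` is isomorphic to an algebra
formally smooth for an adic topology is formally smooth for the corresponding adic topology. -/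
theorem of_flat_of_tensor_fibre {A : Type u} [CommRing A] (𝔪 : Ideal A)
    {C : Type u} [CommRing C] [Algebra A C] [Module.Flat A C] [IsNoetherianRing C] (𝔫 : Ideal C)
    (h𝔫 : 𝔪.map (algebraMap A C) ≤ 𝔫)
    {B : Type u} [CommRing B] [Algebra (A ⧸ 𝔪) B] {𝔫B : Ideal B}
    (hB : IsAdicFormallySmooth (A ⧸ 𝔪) B 𝔫B) (e : (A ⧸ 𝔪) ⊗[A] C ≃ₐ[A ⧸ 𝔪] B)
    (he : ∀ x ∈ 𝔫B, ∃ c ∈ 𝔫, e.symm x = 1 ⊗ₜ[A] c) :
    IsAdicFormallySmooth A C 𝔫 := by
  apply of_flat_of_fibre_adic 𝔪 𝔫 ?_ h𝔫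
  let e' : (C ⧸ 𝔪.map (algebraMap A C)) ≃ₐ[A ⧸ 𝔪] B :=
    (Algebra.TensorProduct.quotIdealMapEquivQuotTensor C 𝔪).trans e
  refine of_algEquiv hB e' ?_
  intro x hx
  obtain ⟨c, hc, hxc⟩ := he x hx
  have h1 : e'.symm x = Ideal.Quotient.mk _ c := by
    show (Algebra.TensorProduct.quotIdealMapEquivQuotTensor C 𝔪).symm (e.symm x) = _
    rw [hxc, AlgEquiv.symm_apply_eq]
    rfl
  rw [h1]
  exact Ideal.mem_map_of_mem _ hc

end Groth.Agent.Helper8.AdicFS
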