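import Mathlib
import Groth.Prelude.Def_CAlgX
import Groth.Agent.Lib.Helper8.AdicFS1

/-!
# Formal smoothness for an adic topology: lifting continuous maps to complete rings
(EGA 0_IV 19.3.10-type lemma)
-/

set_option autoImplicit false

namespace Groth.Agent.Helper8.AdicFS

open CAlgX

universe u

section pullback

variable {R S : Type u} [CommRing R] [CommRing S] [Algebra R S]
  {T : Type u} [CommRing T] [Algebra R T]

/-- A pair of compatible maps to `T ⧸ 𝔞` and `T ⧸ 𝔟` comes from a map to `T ⧸ 𝔞 ⊓ 𝔟`. -/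
theorem exists_algHom_inf (𝔞 𝔟 : Ideal T) (f : S →ₐ[R] T ⧸ 𝔞) (g : S →ₐ[R] T ⧸ 𝔟)
    (hfg : ∀ s, ∃ t, Ideal.Quotient.mk 𝔞 t = f s ∧ Ideal.Quotient.mk 𝔟 t = g s) :
    ∃ w : S →ₐ[R] T ⧸ (𝔞 ⊓ 𝔟), ∀ s t, Ideal.Quotient.mk 𝔞 t = f s →
      Ideal.Quotient.mk 𝔟 t = g s → w s = Ideal.Quotient.mk (𝔞 ⊓ 𝔟) t := by
  let j : (T ⧸ (𝔞 ⊓ 𝔟)) →ₐ[R] (T ⧸ 𝔞) × (T ⧸ 𝔟) :=
    (Ideal.Quotient.factorₐ R inf_le_left).prod (Ideal.Quotient.factorₐ R inf_le_right)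
  have hjmk : ∀ t : T, j (Ideal.Quotient.mk (𝔞 ⊓ 𝔟) t) =
      (Ideal.Quotient.mk 𝔞 t, Ideal.Quotient.mk 𝔟 t) := fun t => rfl
  have hj : Function.Injective j := by
    rw [injective_iff_map_eq_zero]
    intro z hz
    obtain ⟨t, rfl⟩ := Ideal.Quotient.mk_surjective z
    rw [hjmk, Prod.mk_eq_zero, Ideal.Quotient.eq_zero_iff_mem, Ideal.Quotient.eq_zero_iff_mem]
      at hz
    exact Ideal.Quotient.eq_zero_iff_mem.2 ⟨hz.1, hz.2⟩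
  let φ : S →ₐ[R] (T ⧸ 𝔞) × (T ⧸ 𝔟) := f.prod g
  have hφ : ∀ s, φ s ∈ j.range := by
    intro s
    obtain ⟨t, ht1, ht2⟩ := hfg s
    refine ⟨Ideal.Quotient.mk (𝔞 ⊓ 𝔟) t, ?_⟩
    show j (Ideal.Quotient.mk (𝔞 ⊓ 𝔟) t) = φ s
    rw [hjmk, ht1, ht2]
    rfl
  let w : S →ₐ[R] T ⧸ (𝔞 ⊓ 𝔟) :=
    (AlgEquiv.ofInjective j hj).symm.toAlgHom.comp (φ.codRestrict j.range hφ)
  refine ⟨w, ?_⟩
  intro s t ht1 ht2
  apply (AlgEquiv.ofInjective j hj).injective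
  show (AlgEquiv.ofInjective j hj) ((AlgEquiv.ofInjective j hj).symm _) = _
  rw [AlgEquiv.apply_symm_apply]
  apply Subtype.ext
  show φ s = j (Ideal.Quotient.mk (𝔞 ⊓ 𝔟) t)
  rw [hjmk, ht1, ht2]
  rfl

end pullback

section liftc

variable {R S : Type u} [CommRing R] [CommRing S] [Algebra R S] {𝔫 : Ideal S}
  (h : IsAdicFormallySmooth R S 𝔫)
  {T : Type u} [CommRing T] [Algebra R T] (𝔮 I : Ideal T) (u : S →ₐ[R] T ⧸ I)
  (hu : ∀ s ∈ 𝔫, ∀ t, Ideal.Quotient.mk I t = u s → t ∈ 𝔮)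

/-- Homomorphisms to `T ⧸ 𝔮 ^ (n + 1)` compatible with `u`. -/
abbrev CHom' (n : ℕ) : Type u :=
  {g : S →ₐ[R] T ⧸ 𝔮 ^ (n + 1) // ∀ s, ∃ t, Ideal.Quotient.mk (𝔮 ^ (n + 1)) t = g s ∧
    Ideal.Quotient.mk I t = u s}

include h hu in
theorem exists_step' (n : ℕ) (g : CHom' 𝔮 I u n) :
    ∃ g' : CHom' 𝔮 I u (n + 1),
      (Ideal.Quotient.factorₐ R (Ideal.pow_le_pow_right (Nat.le_succ (n + 1)))).comp g'.1 = g.1 := by
  have hpow : 𝔮 ^ (n + 1 + 1) ≤ 𝔮 ^ (n + 1) := Ideal.pow_le_pow_right (Nat.le_succ (n + 1))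
  let 𝔟 : Ideal T := I ⊔ 𝔮 ^ (n + 1 + 1)
  let g₂ : S →ₐ[R] T ⧸ 𝔟 := (Ideal.Quotient.factorₐ R (le_sup_left : I ≤ 𝔟)).comp u
  have hfg : ∀ s, ∃ t, Ideal.Quotient.mk (𝔮 ^ (n + 1)) t = g.1 s ∧
      Ideal.Quotient.mk 𝔟 t = g₂ s := by
    intro s
    obtain ⟨t, ht1, ht2⟩ := g.2 s
    refine ⟨t, ht1, ?_⟩
    show _ = Ideal.Quotient.factorₐ R (le_sup_left : I ≤ 𝔟) (u s)
    rw [← ht2]
    rfl
  obtain ⟨w, hw⟩ := exists_algHom_inf (𝔮 ^ (n + 1)) 𝔟 g.1 g₂ hfg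
  have hw' : ∀ s t, Ideal.Quotient.mk (𝔮 ^ (n + 1)) t = g.1 s → Ideal.Quotient.mk I t = u s →
      w s = Ideal.Quotient.mk _ t := by
    intro s t ht1 ht2
    apply hw s t ht1
    show _ = Ideal.Quotient.factorₐ R (le_sup_left : I ≤ 𝔟) (u s)
    rw [← ht2]
    rfl
  have hle : 𝔮 ^ (n + 1 + 1) ≤ 𝔮 ^ (n + 1) ⊓ 𝔟 := le_inf hpow le_sup_right
  have hkerp : RingHom.ker (Ideal.Quotient.factorₐ R hle) =
      (𝔮 ^ (n + 1) ⊓ 𝔟).map (Ideal.Quotient.mk (𝔮 ^ (n + 1 + 1))) := Ideal.Quotient.factor_ker hle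
  have hwc : ∃ k : ℕ, ∀ x ∈ 𝔫 ^ k, w x = 0 := by
    refine ⟨n + 1 + 1, ?_⟩
    intro x hx
    have h1 : ∀ s ∈ 𝔫, (w : S →+* T ⧸ (𝔮 ^ (n + 1) ⊓ 𝔟)) s ∈
        𝔮.map (Ideal.Quotient.mk (𝔮 ^ (n + 1) ⊓ 𝔟)) := by
      intro s hs
      obtain ⟨t, ht1, ht2⟩ := g.2 s
      show w s ∈ _
      rw [hw' s t ht1 ht2]
      exact Ideal.mem_map_of_mem _ (hu s hs t ht2)
    have h2 := map_pow_mem (w : S →+* T ⧸ (𝔮 ^ (n + 1) ⊓ 𝔟)) h1 (n + 1 + 1) x hx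
    rw [← Ideal.map_pow, (Ideal.map_eq_bot_iff_le_ker _).2 (by rw [Ideal.mk_ker]; exact hle),
      Ideal.mem_bot] at h2
    exact h2
  obtain ⟨v', hv', -⟩ := exists_lift_surjective h (Ideal.Quotient.factorₐ R hle)
    (Ideal.Quotient.factor_surjective hle) (by
      rw [hkerp, ← Ideal.map_pow, Ideal.map_eq_bot_iff_le_ker, Ideal.mk_ker]
      refine (Ideal.pow_right_mono inf_le_left 2).trans ?_
      rw [← pow_mul]
      exact Ideal.pow_le_pow_right (by omega)) w hwc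
  have hpv : ∀ s, Ideal.Quotient.factorₐ R hle (v' s) = w s := fun s => AlgHom.congr_fun hv' s
  have key : ∀ s t₀ t₁, Ideal.Quotient.mk (𝔮 ^ (n + 1 + 1)) t₀ = v' s →
      Ideal.Quotient.mk (𝔮 ^ (n + 1)) t₁ = g.1 s → Ideal.Quotient.mk I t₁ = u s →
      t₀ - t₁ ∈ 𝔮 ^ (n + 1) ⊓ 𝔟 := by
    intro s t₀ t₁ h0 h1 h2
    have h3 : w s = Ideal.Quotient.mk _ t₁ := hw' s t₁ h1 h2
    have h4 : w s = Ideal.Quotient.mk _ t₀ := by
      rw [← hpv, ← h0]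
      rfl
    rw [← Ideal.Quotient.eq, ← h3, ← h4]
  refine ⟨⟨v', ?_⟩, ?_⟩
  · intro s
    obtain ⟨t₀, ht₀⟩ := Ideal.Quotient.mk_surjective (v' s)
    obtain ⟨t₁, ht1, ht2⟩ := g.2 s
    have h5 := (key s t₀ t₁ ht₀ ht1 ht2).2
    obtain ⟨i, hi, q, hq, hiq⟩ := Submodule.mem_sup.1 h5
    refine ⟨t₀ - q, ?_, ?_⟩
    · rw [map_sub, Ideal.Quotient.eq_zero_iff_mem.2 hq, sub_zero, ht₀]
    · have : t₀ - q = t₁ + i := by linear_combination (-1 : T) * hiq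
      rw [this, map_add, Ideal.Quotient.eq_zero_iff_mem.2 hi, add_zero, ht2]
  · ext s
    obtain ⟨t₀, ht₀⟩ := Ideal.Quotient.mk_surjective (v' s)
    obtain ⟨t₁, ht1, ht2⟩ := g.2 s
    have h5 := (key s t₀ t₁ ht₀ ht1 ht2).1
    show Ideal.Quotient.factorₐ R hpow (v' s) = g.1 s
    rw [← ht₀, ← ht1]
    show Ideal.Quotient.mk (𝔮 ^ (n + 1)) t₀ = _
    rw [Ideal.Quotient.eq]
    exact h5

/-- The compatible sequence of lifts. -/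
noncomputable def seq' (g0 : CHom' (R := R) 𝔮 I u 0) : (n : ℕ) → CHom' (R := R) 𝔮 I u n
  | 0 => g0
  | n + 1 => Classical.choose (exists_step' h 𝔮 I u hu n (seq' g0 n))

theorem seq'_succ (g0 : CHom' (R := R) 𝔮 I u 0) (n : ℕ) :
    (Ideal.Quotient.factorₐ R (Ideal.pow_le_pow_right (Nat.le_succ (n + 1)))).comp
      (seq' h 𝔮 I u hu g0 (n + 1)).1 = (seq' h 𝔮 I u hu g0 n).1 :=
  Classical.choose_spec (exists_step' h 𝔮 I u hu n (seq' h 𝔮 I u hu g0 n))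

include h hu in
/-- A continuous homomorphism to `T ⧸ I`, with `I` closed in the `𝔮`-adically complete ring `T`,
lifts to `T`. -/
theorem exists_lift_complete' [IsAdicComplete 𝔮 T] (hI : I ≤ 𝔮)
    (hclosed : ∀ t, (∀ n : ℕ, t ∈ I ⊔ 𝔮 ^ (n + 1)) → t ∈ I) :
    ∃ v : S →ₐ[R] T, (Ideal.Quotient.mkₐ R I).comp v = u := by
  have h1 : I ≤ 𝔮 ^ (0 + 1) := by rw [zero_add, pow_one]; exact hI
  let g0 : CHom' (R := R) 𝔮 I u 0 := ⟨(Ideal.Quotient.factorₐ R h1).comp u, by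
    intro s
    obtain ⟨t, ht⟩ := Ideal.Quotient.mk_surjective (u s)
    refine ⟨t, ?_, ht⟩
    show _ = Ideal.Quotient.factorₐ R h1 (u s)
    rw [← ht]
    rfl⟩
  have ha : StrictMono (fun n : ℕ => n + 1) := fun a b h => Nat.succ_lt_succ h
  obtain ⟨s, hs0, hs1⟩ : ∃ s : (n : ℕ) → (S →ₐ[R] T ⧸ 𝔮 ^ (n + 1)),
      (∀ n x, ∃ t, Ideal.Quotient.mk (𝔮 ^ (n + 1)) t = s n x ∧ Ideal.Quotient.mk I t = u x) ∧
      ∀ n, (Ideal.Quotient.factorₐ R (Ideal.pow_le_pow_right (Nat.le_succ (n + 1)))).comp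
        (s (n + 1)) = s n :=
    ⟨fun n => (seq' h 𝔮 I u hu g0 n).1, fun n => (seq' h 𝔮 I u hu g0 n).2,
      seq'_succ h 𝔮 I u hu g0⟩
  let f : (n : ℕ) → (S →+* T ⧸ 𝔮 ^ (n + 1)) := fun n => (s n).toRingHom
  have hf : ∀ n, (Ideal.Quotient.factorPow 𝔮 (Nat.le_succ (n + 1))).comp (f (n + 1)) = f n :=
    fun n => by
    ext x
    have := AlgHom.congr_fun (hs1 n) x
    rw [AlgHom.comp_apply] at this
    rw [RingHom.comp_apply]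
    exact this
  obtain ⟨φ, hφ⟩ : ∃ φ : S →+* T, ∀ n (x : S),
      Ideal.Quotient.mk (𝔮 ^ (n + 1)) (φ x) = f n x :=
    ⟨IsAdicComplete.StrictMono.liftRingHom 𝔮 ha f (fun {m} => hf m),
      fun n x => IsAdicComplete.StrictMono.mk_liftRingHom 𝔮 ha f (fun {m} => hf m) (n := n) x⟩
  let v : S →ₐ[R] T :=
    { φ with
      commutes' := by
        intro a
        apply Groth.Agent.Helper8.CohenSm.eq_of_forall_mk_pow_eq 𝔮
        intro n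
        show Ideal.Quotient.mk (𝔮 ^ (n + 1)) (φ (algebraMap R S a)) = _
        rw [hφ]
        show s n (algebraMap R S a) = _
        rw [AlgHom.commutes]
        rfl }
  refine ⟨v, ?_⟩
  ext x
  obtain ⟨a, ha⟩ := Ideal.Quotient.mk_surjective (u x)
  show Ideal.Quotient.mk I (φ x) = u x
  rw [← ha, Ideal.Quotient.eq]
  apply hclosed
  intro n
  obtain ⟨t, ht1, ht2⟩ := hs0 n x
  have h3 : φ x - t ∈ 𝔮 ^ (n + 1) := by
    rw [← Ideal.Quotient.eq, ht1, hφ]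
    rfl
  have h4 : t - a ∈ I := by
    rw [← Ideal.Quotient.eq, ht2, ha]
  have : φ x - a = (t - a) + (φ x - t) := by ring
  rw [this]
  exact Submodule.add_mem_sup h4 h3

end liftc

end Groth.Agent.Helper8.AdicFS
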