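import Mathlib
import Groth.Prelude.Def_CAlgX
import Groth.Agent.Lib.Helper8.AdicFS11
import Groth.Agent.Lib.Helper8.PSeries3
import Groth.Agent.Lib.Helper2.AdicLe

/-!
# Formal smoothness for an adic topology: lifting to complete Noetherian local rings, uniqueness
of complete formally smooth algebras with a given fibre
-/

set_option autoImplicit false

namespace Groth.Agent.Helper8.AdicFS

open CAlgX IsLocalRing

universe u

/-- Lifting a continuous homomorphism to a complete Noetherian local ring. -/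
theorem exists_lift_local {R S : Type u} [CommRing R] [CommRing S] [Algebra R S] {𝔫 : Ideal S}
    (h : IsAdicFormallySmooth R S 𝔫) {T : Type u} [CommRing T] [Algebra R T] [IsLocalRing T]
    [IsNoetherianRing T] [IsAdicComplete (maximalIdeal T) T] (I : Ideal T)
    (hI : I ≤ maximalIdeal T) (u : S →ₐ[R] T ⧸ I)
    (hu : ∀ s ∈ 𝔫, u s ∈ (maximalIdeal T).map (Ideal.Quotient.mk I)) :
    ∃ v : S →ₐ[R] T, (Ideal.Quotient.mkₐ R I).comp v = u := by
  apply exists_lift_complete' h (maximalIdeal T) I u ?_ hI ?_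
  · intro s hs t ht
    have h1 := hu s hs
    rw [← ht] at h1
    obtain ⟨t', ht', ht'2⟩ := (Ideal.mem_map_iff_of_surjective _ Ideal.Quotient.mk_surjective).1 h1
    have h2 : t - t' ∈ I := by
      rw [← Ideal.Quotient.eq]; exact ht'2.symm
    have : t = (t - t') + t' := by ring
    rw [this]
    exact Ideal.add_mem _ (hI h2) ht'
  · intro t ht
    haveI : Nontrivial (T ⧸ I) := Ideal.Quotient.nontrivial_iff.2
      (ne_top_of_le_ne_top (maximalIdeal.isMaximal T).ne_top hI)
    haveI : IsLocalRing (T ⧸ I) :=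
      IsLocalRing.of_surjective' (Ideal.Quotient.mk I) Ideal.Quotient.mk_surjective
    have hne : (maximalIdeal T).map (Ideal.Quotient.mk I) ≠ ⊤ := by
      rw [IsLocalRing.map_maximalIdeal_of_surjective _ Ideal.Quotient.mk_surjective]
      exact (maximalIdeal.isMaximal _).ne_top
    have h1 := Ideal.iInf_pow_eq_bot_of_isLocalRing _ hne
    rw [← Ideal.Quotient.eq_zero_iff_mem, ← Ideal.mem_bot, ← h1, Ideal.mem_iInf]
    intro n
    have h2 : (maximalIdeal T).map (Ideal.Quotient.mk I) ^ (n + 1) ≤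
        (maximalIdeal T).map (Ideal.Quotient.mk I) ^ n := Ideal.pow_le_pow_right (Nat.le_succ n)
    apply h2
    rw [← Ideal.map_pow]
    obtain ⟨i, hi, q, hq, hiq⟩ := Submodule.mem_sup.1 (ht n)
    rw [← hiq, map_add, Ideal.Quotient.eq_zero_iff_mem.2 hi, zero_add]
    exact Ideal.mem_map_of_mem _ hq

/-- An algebra endomorphism of a complete Noetherian local ring congruent to the identity modulo
an ideal of the base is bijective. -/
theorem bijective_of_congr_id {A T : Type u} [CommRing A] [CommRing T] [Algebra A T]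
    [IsLocalRing T] [IsNoetherianRing T] [IsAdicComplete (maximalIdeal T) T] (𝔞 : Ideal A)
    (h𝔞 : 𝔞.map (algebraMap A T) ≤ maximalIdeal T) (θ : T →ₐ[A] T)
    (hθ : ∀ x, θ x - x ∈ 𝔞.map (algebraMap A T)) : Function.Bijective θ := by
  have hmap : (𝔞.map (algebraMap A T)).map (θ : T →+* T) = 𝔞.map (algebraMap A T) := by
    rw [Ideal.map_map, AlgHom.comp_algebraMap]
  haveI : IsAdicComplete (𝔞.map (algebraMap A T)) T :=
    Groth.Agent.Helper2.AdicLe.isAdicComplete_of_le _ (maximalIdeal T) h𝔞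
      (IsNoetherian.noetherian _)
  haveI : IsHausdorff ((𝔞.map (algebraMap A T)).map (θ : T →+* T)) T := by
    rw [hmap]; infer_instance
  have hsurj : Function.Surjective (θ : T →+* T) := by
    apply surjective_of_mk_map_comp_surjective (θ : T →+* T) (I := 𝔞.map (algebraMap A T))
    intro y
    obtain ⟨y', rfl⟩ := Ideal.Quotient.mk_surjective y
    refine ⟨y', ?_⟩
    rw [RingHom.comp_apply, Ideal.Quotient.eq, hmap]
    exact hθ y'
  exact ⟨Groth.Agent.Helper8.PSeries.injective_of_surjective_ringEnd (θ : T →+* T) hsurj, hsurj⟩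

section uniq

variable {A : Type u} [CommRing A] (𝔞 : Ideal A)
  {T T' F : Type u} [CommRing T] [CommRing T'] [CommRing F] [Algebra A T] [Algebra A T']
  [Algebra A F] [IsLocalRing T] [IsNoetherianRing T] [IsAdicComplete (maximalIdeal T) T]
  [IsLocalRing T'] [IsNoetherianRing T'] [IsAdicComplete (maximalIdeal T') T']

/-- A surjection with kernel in the maximal ideal reflects units. -/
theorem isUnit_of_map_of_ker_le {T F : Type*} [CommRing T] [CommRing F] [IsLocalRing T]
    (ρ : T →+* F) (hρ : Function.Surjective ρ) (hker : RingHom.ker ρ ≤ maximalIdeal T)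
    (s : T) (hs : IsUnit (ρ s)) : IsUnit s := by
  obtain ⟨y, hy⟩ := hs.exists_right_inv
  obtain ⟨s', rfl⟩ := hρ y
  have h1 : s * s' - 1 ∈ RingHom.ker ρ := by
    rw [RingHom.mem_ker, map_sub, map_mul, hy, map_one, sub_self]
  have h2 : IsUnit (s * s') := by
    by_contra hcon
    have h3 : s * s' ∈ maximalIdeal T := hcon
    have h4 : (1 : T) ∈ maximalIdeal T := by
      have : (1 : T) = s * s' - (s * s' - 1) := by ring
      rw [this]
      exact Ideal.sub_mem _ h3 (hker h1)
    exact (Ideal.ne_top_iff_one _).1 (maximalIdeal.isMaximal T).ne_top h4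
  exact isUnit_of_mul_isUnit_left h2

/-- One-sided lift between complete formally smooth algebras with the same fibre. -/
theorem exists_lift_of_fibre (hT : IsAdicFormallySmooth A T (maximalIdeal T))
    (ρ : T →ₐ[A] F) (ρ' : T' →ₐ[A] F) (hρ : Function.Surjective ρ)
    (hρ' : Function.Surjective ρ') (hker : RingHom.ker ρ ≤ maximalIdeal T)
    (hker' : RingHom.ker ρ' ≤ maximalIdeal T') :
    ∃ v : T →ₐ[A] T', ∀ x, ρ' (v x) = ρ x := by
  let e' : (T' ⧸ RingHom.ker ρ') ≃ₐ[A] F := Ideal.quotientKerAlgEquivOfSurjective hρ'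
  have he' : ∀ y : T', e' (Ideal.Quotient.mk _ y) = ρ' y := fun y =>
    Ideal.quotientKerAlgEquivOfSurjective_mk hρ' y
  let u : T →ₐ[A] T' ⧸ RingHom.ker ρ' := e'.symm.toAlgHom.comp ρ
  have hu : ∀ s ∈ maximalIdeal T, u s ∈ (maximalIdeal T').map
      (Ideal.Quotient.mk (RingHom.ker (ρ' : T' →+* F))) := by
    intro s hs
    obtain ⟨t, ht⟩ := hρ' (ρ s)
    have h1 : u s = Ideal.Quotient.mk _ t := by
      show e'.symm (ρ s) = _
      rw [AlgEquiv.symm_apply_eq, he', ht]
    rw [h1]
    apply Ideal.mem_map_of_mem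
    rw [mem_maximalIdeal, mem_nonunits_iff]
    intro htu
    rw [mem_maximalIdeal, mem_nonunits_iff] at hs
    apply hs
    apply isUnit_of_map_of_ker_le (ρ : T →+* F) hρ hker
    show IsUnit (ρ s)
    rw [← ht]
    exact htu.map ρ'
  obtain ⟨v, hv⟩ := exists_lift_local hT (RingHom.ker (ρ' : T' →+* F)) hker' u hu
  refine ⟨v, fun x => ?_⟩
  have h2 : Ideal.Quotient.mk _ (v x) = e'.symm (ρ x) := AlgHom.congr_fun hv x
  rw [← he', h2, e'.apply_symm_apply]

/-- Two complete Noetherian local algebras formally smooth over `A` with the same fibre modulo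
an ideal `𝔞` of `A` are isomorphic. -/
theorem exists_algEquiv_of_fibre (hT : IsAdicFormallySmooth A T (maximalIdeal T))
    (hT' : IsAdicFormallySmooth A T' (maximalIdeal T'))
    (ρ : T →ₐ[A] F) (ρ' : T' →ₐ[A] F) (hρ : Function.Surjective ρ)
    (hρ' : Function.Surjective ρ') (hker : RingHom.ker ρ = 𝔞.map (algebraMap A T))
    (hker' : RingHom.ker ρ' = 𝔞.map (algebraMap A T'))
    (h𝔞 : 𝔞.map (algebraMap A T) ≤ maximalIdeal T)
    (h𝔞' : 𝔞.map (algebraMap A T') ≤ maximalIdeal T') :
    ∃ v : T ≃ₐ[A] T', ∀ x, ρ' (v x) = ρ x := by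
  obtain ⟨v, hv⟩ := exists_lift_of_fibre hT ρ ρ' hρ hρ' (hker ▸ h𝔞) (hker' ▸ h𝔞')
  obtain ⟨v', hv'⟩ := exists_lift_of_fibre hT' ρ' ρ hρ' hρ (hker' ▸ h𝔞') (hker ▸ h𝔞)
  have h1 : Function.Bijective (v'.comp v) := by
    apply bijective_of_congr_id 𝔞 h𝔞
    intro x
    rw [← hker, RingHom.mem_ker, map_sub, sub_eq_zero]
    show ρ (v' (v x)) = ρ x
    rw [hv', hv]
  have h2 : Function.Bijective (v.comp v') := by
    apply bijective_of_congr_id 𝔞 h𝔞'
    intro x
    rw [← hker', RingHom.mem_ker, map_sub, sub_eq_zero]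
    show ρ' (v (v' x)) = ρ' x
    rw [hv, hv']
  have hbij : Function.Bijective v := by
    constructor
    · intro x y hxy
      apply h1.1
      show v' (v x) = v' (v y)
      rw [hxy]
    · intro y
      obtain ⟨x, hx⟩ := h2.2 y
      exact ⟨v' x, hx⟩
  exact ⟨AlgEquiv.ofBijective v hbij, hv⟩

end uniq

end Groth.Agent.Helper8.AdicFS
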