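import Mathlib
import Groth.Agent.Lib.Helper2.CompleteNoeth
import Groth.Agent.Lib.Helper2.CompleteFinite

/-!
# Noetherianity and quotients of adically complete rings
-/

set_option autoImplicit false
universe u v

namespace Groth.Agent.Helper8.AdicNoeth

/-- The image of a precomplete module under a surjective linear map is precomplete. -/
theorem isPrecomplete_of_surjective {R : Type*} [CommRing R] (I : Ideal R)
    {M N : Type*} [AddCommGroup M] [Module R M] [AddCommGroup N] [Module R N]
    (f : M →ₗ[R] N) (hf : Function.Surjective f) [IsPrecomplete I M] : IsPrecomplete I N := by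
  rw [← AdicCompletion.of_surjective_iff]
  intro y
  obtain ⟨x, rfl⟩ := AdicCompletion.map_surjective I hf y
  obtain ⟨m, rfl⟩ := AdicCompletion.of_surjective I M x
  exact ⟨f m, (AdicCompletion.map_of I f m).symm⟩

/-- S8800. -/
theorem isNoetherianRing_of_finiteType_quotient (A : Type u) [CommRing A] [IsNoetherianRing A]
    (I : Ideal A) (B : Type v) [CommRing B] [Algebra A B]
    [IsAdicComplete (I.map (algebraMap A B)) B]
    (hB : Algebra.FiniteType A (B ⧸ I.map (algebraMap A B))) : IsNoetherianRing B := by
  haveI : IsNoetherianRing (B ⧸ I.map (algebraMap A B)) :=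
    Algebra.FiniteType.isNoetherianRing A _
  exact Groth.Agent.Helper2.CompleteNoeth.isNoetherianRing_of_isAdicComplete
    (I.map (algebraMap A B)) (Ideal.FG.map (IsNoetherian.noetherian I) _)

/-- A quotient of a Noetherian ring complete for `K` is complete for the image of `K`. -/
theorem isAdicComplete_quotient (B : Type v) [CommRing B] [IsNoetherianRing B] (K : Ideal B)
    [IsAdicComplete K B] (J : Ideal B) :
    IsAdicComplete (K.map (algebraMap B (B ⧸ J))) (B ⧸ J) := by
  rw [IsAdicComplete.map_algebraMap_iff]
  haveI : IsHausdorff K (B ⧸ J) :=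
    IsHausdorff.of_le_jacobson K (B ⧸ J) (IsAdicComplete.le_jacobson_bot K)
  haveI : IsPrecomplete K (B ⧸ J) :=
    isPrecomplete_of_surjective K (Submodule.mkQ J) (Submodule.mkQ_surjective J)
  exact {}

/-- S8822. -/
theorem isAdicComplete_quotient_of_finiteType_quotient (A : Type u) [CommRing A]
    [IsNoetherianRing A] (I : Ideal A) (B : Type v) [CommRing B] [Algebra A B]
    [IsAdicComplete (I.map (algebraMap A B)) B]
    (hB : Algebra.FiniteType A (B ⧸ I.map (algebraMap A B))) (J : Ideal B) :
    IsAdicComplete (I.map (algebraMap A (B ⧸ J))) (B ⧸ J) := by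
  haveI := isNoetherianRing_of_finiteType_quotient A I B hB
  have h := isAdicComplete_quotient B (I.map (algebraMap A B)) J
  rwa [Ideal.map_map, ← IsScalarTower.algebraMap_eq] at h

/-- An ideal `J` of a `J`-adically separated ring is `J`-adically separated as a module. -/
theorem isHausdorff_ideal {A : Type u} [CommRing A] (J : Ideal A) [IsHausdorff J A] :
    IsHausdorff J ↥J := by
  refine ⟨fun x hx => ?_⟩
  apply Subtype.ext
  apply IsHausdorff.haus (I := J) inferInstance
  intro n
  have h := hx n
  rw [SModEq.zero] at h ⊢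
  have : (J ^ n • (⊤ : Submodule A ↥J)).map J.subtype ≤ J ^ n • (⊤ : Submodule A A) := by
    rw [Submodule.map_smul'']
    exact Submodule.smul_mono le_rfl le_top
  exact this ⟨x, h, rfl⟩

/-- S3856. -/
theorem isNoetherianRing_of_quotient_sq (A : Type u) [CommRing A]
    (J : Ideal A) [IsAdicComplete J A] [IsNoetherianRing (A ⧸ J ^ 2)] : IsNoetherianRing A := by
  -- `A ⧸ J` is Noetherian
  haveI : IsNoetherianRing (A ⧸ J) :=
    isNoetherianRing_of_surjective (A ⧸ J ^ 2) (A ⧸ J)
      (Ideal.Quotient.factor (Ideal.pow_le_self (by norm_num)))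
      (Ideal.Quotient.factor_surjective _)
  -- the cotangent module is finite
  have hcot : Module.Finite A J.Cotangent := by
    have h1 : Module.Finite (A ⧸ J ^ 2) J.cotangentIdeal :=
      Module.Finite.iff_fg.mpr (IsNoetherian.noetherian _)
    have h2 : Module.Finite A J.cotangentIdeal := Module.Finite.trans (A ⧸ J ^ 2) _
    exact Module.Finite.equiv J.cotangentEquivIdeal.symm
  obtain ⟨r, s, hs⟩ := Module.Finite.exists_fin (R := A) (M := J.Cotangent)
  choose x hx using fun i => Ideal.toCotangent_surjective J (s i)
  haveI := isHausdorff_ideal J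
  have hx' : Submodule.span A (Set.range x) ⊔ J • (⊤ : Submodule A ↥J) = ⊤ := by
    rw [eq_top_iff]
    intro z _
    have hz : J.toCotangent z ∈ Submodule.span A (Set.range s) := by rw [hs]; trivial
    have hsx : Set.range s = J.toCotangent '' Set.range x := by
      ext y; constructor
      · rintro ⟨i, rfl⟩; exact ⟨x i, ⟨i, rfl⟩, hx i⟩
      · rintro ⟨_, ⟨i, rfl⟩, rfl⟩; exact ⟨i, (hx i).symm⟩
    rw [hsx, ← Submodule.map_span] at hz
    obtain ⟨w, hw, hwz⟩ := hz
    have hd : J.toCotangent (z - w) = 0 := by rw [map_sub, hwz, sub_self]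
    have hd' : z - w ∈ J • (⊤ : Submodule A ↥J) := by
      have := (Submodule.Quotient.mk_eq_zero (J • (⊤ : Submodule A ↥J))).mp hd
      exact this
    have : z = w + (z - w) := by abel
    rw [this]
    exact Submodule.add_mem_sup hw hd'
  have htop := Groth.Agent.Helper2.CompleteFinite.span_eq_top_of_sup_smul_eq_top J ↥J x hx'
  have hfg : J.FG := by
    have : (⊤ : Submodule A ↥J).FG := by
      rw [← htop]; exact Submodule.fg_span (Set.finite_range x)
    exact (Submodule.fg_top J).mp this
  exact Groth.Agent.Helper2.CompleteNoeth.isNoetherianRing_of_isAdicComplete J hfg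

end Groth.Agent.Helper8.AdicNoeth
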