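import Mathlib
import Groth.Prelude.Def_Found
import Groth.Agent.Lib.Helper8.CohenFact3
import Groth.Agent.Lib.Helper8.CohenStr1

/-!
# Cohen rings mapping to complete local rings
-/

set_option autoImplicit false

namespace Groth.Agent.Helper8.CohenFact

open IsLocalRing MvPowerSeries

universe u

/-- A complete local ring of residue characteristic `q > 0` receives a homomorphism from a Cohen
ring inducing an isomorphism of residue fields. -/
theorem exists_cohen_section (R : Type u) [CommRing R] [IsLocalRing R]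
    [IsAdicComplete (maximalIdeal R) R] (q : ℕ) (hq : q.Prime) [CharP (ResidueField R) q] :
    ∃ (Λ : Type u) (_ : CommRing Λ) (_ : IsDomain Λ) (_ : IsDiscreteValuationRing Λ)
      (_ : IsAdicComplete (maximalIdeal Λ) Λ) (φ : Λ →+* R),
      maximalIdeal Λ = Ideal.span {(q : Λ)} ∧ Function.Surjective ((residue R).comp φ) := by
  haveI : Fact q.Prime := ⟨hq⟩
  obtain ⟨Λ, hΛ, hL, ⟨hd, hv, hc, p, hp, hm⟩, ⟨e⟩⟩ :=
    Groth.Agent.Helper8.Cohen.exists_cohenRing q (ResidueField R)
  have hpΛ : (p : ResidueField Λ) = 0 := by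
    rw [← map_natCast (residue Λ), residue_eq_zero_iff, hm]
    exact Ideal.mem_span_singleton_self _
  have hpk : (p : ResidueField R) = 0 := by
    rw [← map_natCast e, hpΛ, map_zero]
  have hpq : p = q := by
    have h1 : q ∣ p := (CharP.cast_eq_zero_iff (ResidueField R) q p).1 hpk
    exact ((Nat.prime_dvd_prime_iff_eq hq hp).1 h1).symm
  subst hpq
  have hpR : (p : R) ∈ maximalIdeal R := by
    rw [← residue_eq_zero_iff, map_natCast]
    exact hpk
  let g : Λ →+* R ⧸ maximalIdeal R := e.toRingHom.comp (residue Λ)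
  obtain ⟨φ, hφ⟩ := Groth.Agent.Helper8.CohenLift.exists_lift_complete Λ p hp hm
    (maximalIdeal R) hpR g
  refine ⟨Λ, hΛ, hd, hv, hc, φ, hm, ?_⟩
  have : (residue R).comp φ = g := hφ
  rw [this]
  exact e.surjective.comp residue_surjective

/-- The Krull dimension of a discrete valuation ring whose maximal ideal is generated by `π`. -/
theorem ringKrullDim_eq_one_of_dvr (Λ : Type u) [CommRing Λ] [IsDomain Λ]
    [IsDiscreteValuationRing Λ] : ringKrullDim Λ = 1 := by
  obtain ⟨π, hπ⟩ := IsDiscreteValuationRing.exists_irreducible Λ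
  have hm : maximalIdeal Λ = Ideal.span {π} := (IsDiscreteValuationRing.irreducible_iff_uniformizer π).1 hπ
  rw [← IsRegularLocalRing.spanFinrank_maximalIdeal (R := Λ), hm,
    Submodule.spanFinrank_singleton hπ.ne_zero]
  rfl

end Groth.Agent.Helper8.CohenFact
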