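import Mathlib
import Groth.Agent.Lib.Helper8.CohenFact4

/-!
# Cohen factorizations with prescribed generators, and the kernel of the second surjection
-/

set_option autoImplicit false

namespace Groth.Agent.Helper8.CohenFact

open IsLocalRing MvPowerSeries

universe u

/-- A surjection from a domain of dimension at most `d` onto a ring of dimension at least `d`
is injective. -/
theorem injective_of_surjective_of_dim_le {D B : Type*} [CommRing D] [IsDomain D] [CommRing B]
    (f : D →+* B) (hf : Function.Surjective f) (d : ℕ) (hD : ringKrullDim D ≤ d)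
    (hB : (d : WithBot ℕ∞) ≤ ringKrullDim B) : Function.Injective f := by
  rw [injective_iff_map_eq_zero]
  intro g hg
  by_contra hne
  have hg0 : g ∈ nonZeroDivisors D := mem_nonZeroDivisors_of_ne_zero hne
  have h1 := ringKrullDim_quotient_succ_le_of_nonZeroDivisor hg0
  have hle : Ideal.span {g} ≤ RingHom.ker f := by
    rw [Ideal.span_le, Set.singleton_subset_iff]
    exact hg
  have hle' : ∀ a ∈ Ideal.span {g}, f a = 0 := fun a ha => RingHom.mem_ker.1 (hle ha)
  have hsurj : Function.Surjective (Ideal.Quotient.lift (Ideal.span {g}) f hle') := by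
    intro y
    obtain ⟨x, rfl⟩ := hf y
    exact ⟨Ideal.Quotient.mk _ x, Ideal.Quotient.lift_mk _ _ _⟩
  have h2 := ringKrullDim_le_of_surjective _ hsurj
  have h3 : (d : WithBot ℕ∞) + 1 ≤ d :=
    (add_le_add_left (hB.trans h2) 1).trans (h1.trans hD)
  have h4 : d + 1 ≤ d := by exact_mod_cast h3
  omega

section fact

variable {A B : Type u} [CommRing A] [CommRing B] [IsLocalRing A] [IsLocalRing B]
  [IsNoetherianRing A] [IsNoetherianRing B] [IsAdicComplete (maximalIdeal A) A]
  [IsAdicComplete (maximalIdeal B) B] [Algebra A B] [IsLocalHom (algebraMap A B)]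
  (W W' : Type u) [CommRing W] [CommRing W'] [IsRegularLocalRing W] [IsRegularLocalRing W']
  [IsAdicComplete (maximalIdeal W') W']
  (hdim : ringKrullDim W = ringKrullDim W') (π : ℕ)
  (hπ : maximalIdeal W = Ideal.span {(π : W)}) (hπ' : maximalIdeal W' = Ideal.span {(π : W')})
  (hLP : ∀ N : ℕ, CohenLift.LiftProp W (maximalIdeal (MvPowerSeries (Fin N) W')))
  (φ : W →+* A) (hφ : Function.Surjective ((residue A).comp φ))
  (φ' : W' →+* B) (hφ' : Function.Surjective ((residue B).comp φ'))
  (hAB : ∀ a ∈ maximalIdeal A, algebraMap A B a = 0)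
  (m : ℕ) (c : Fin m → B) (hc : Ideal.span (Set.range c) = maximalIdeal B)
  (hm : (m : WithBot ℕ∞) ≤ ringKrullDim B)

include hdim hπ hπ' hLP hφ hφ' hAB hc hm in
/-- Cohen factorization of a local homomorphism factoring through the residue field of the
source, with regular target: the second surjection has kernel generated by the maximal ideal of
the first power series ring. -/
theorem exists_factorization_of_regular :
    ∃ (n : ℕ) (ρ : MvPowerSeries (Fin n) W →+* A) (σ : MvPowerSeries (Fin (n + m)) W' →+* B)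
      (τ : MvPowerSeries (Fin n) W →+* MvPowerSeries (Fin (n + m)) W'),
      Function.Surjective ρ ∧ Function.Surjective σ ∧ σ.comp τ = (algebraMap A B).comp ρ ∧
        τ.Flat ∧ RingHom.ker σ = (maximalIdeal (MvPowerSeries (Fin n) W)).map τ := by
  classical
  obtain ⟨n, b, hb⟩ := Submodule.fg_iff_exists_fin_generating_family.1
    (IsNoetherian.noetherian (maximalIdeal A))
  have hbm : ∀ i, b i ∈ maximalIdeal A := fun i => by
    rw [← hb]; exact Submodule.subset_span ⟨i, rfl⟩
  have hcm : ∀ j, c j ∈ maximalIdeal B := fun j => by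
    rw [← hc]; exact Submodule.subset_span ⟨j, rfl⟩
  obtain ⟨ρ, hρC, hρX⟩ := Groth.Agent.Helper8.CoeffField.exists_ringHom_eval φ n b hbm
  have hρ : Function.Surjective ρ := by
    apply surjective_of_generators n ρ
    · have : ρ.comp C = φ := RingHom.ext hρC
      rw [this]; exact hφ
    · have : (fun i => ρ (X i)) = b := funext hρX
      rw [this]; exact hb
  let d : Fin (n + m) → B := Fin.append (fun i => algebraMap A B (b i)) c
  have hdm : ∀ k, d k ∈ maximalIdeal B := by
    intro k
    refine Fin.addCases (fun i => ?_) (fun j => ?_) k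
    · show Fin.append (fun i => algebraMap A B (b i)) c (Fin.castAdd m i) ∈ _
      rw [Fin.append_left]
      exact IsLocalRing.map_maximalIdeal_le (algebraMap A B) (Ideal.mem_map_of_mem _ (hbm i))
    · show Fin.append (fun i => algebraMap A B (b i)) c (Fin.natAdd n j) ∈ _
      rw [Fin.append_right]; exact hcm j
  obtain ⟨σ, hσC, hσX⟩ := Groth.Agent.Helper8.CoeffField.exists_ringHom_eval φ' (n + m) d hdm
  have hσ : Function.Surjective σ := by
    apply surjective_of_generators (n + m) σ
    · have : σ.comp C = φ' := RingHom.ext hσC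
      rw [this]; exact hφ'
    · have : (fun k => σ (X k)) = d := funext hσX
      rw [this]
      apply le_antisymm
      · rw [Ideal.span_le]; rintro _ ⟨k, rfl⟩; exact hdm k
      · rw [← hc]
        apply Ideal.span_mono
        rintro _ ⟨j, rfl⟩
        exact ⟨Fin.natAdd n j, Fin.append_right _ _ j⟩
  haveI hScompl : IsAdicComplete (maximalIdeal (MvPowerSeries (Fin (n + m)) W'))
      (MvPowerSeries (Fin (n + m)) W') :=
    Groth.Agent.Helper3.ArtFunLib.isAdicComplete_ps_local
  have hJ : RingHom.ker σ ≠ ⊤ := RingHom.ker_ne_top σ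
  let eσ : (MvPowerSeries (Fin (n + m)) W' ⧸ RingHom.ker σ) ≃+* B :=
    RingHom.quotientKerEquivOfSurjective hσ
  let u : W →+* MvPowerSeries (Fin (n + m)) W' ⧸ RingHom.ker σ :=
    eσ.symm.toRingHom.comp ((algebraMap A B).comp φ)
  obtain ⟨τ₀, hτ₀⟩ := Groth.Agent.Helper8.CohenLift.exists_lift_quotient (RingHom.ker σ) hJ u
    (hLP (n + m))
  have hστ₀ : ∀ w, σ (τ₀ w) = algebraMap A B (φ w) := by
    intro w
    have h1 : Ideal.Quotient.mk (RingHom.ker σ) (τ₀ w) = eσ.symm (algebraMap A B (φ w)) :=
      RingHom.congr_fun hτ₀ w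
    have h2 : eσ (Ideal.Quotient.mk (RingHom.ker σ) (τ₀ w)) = algebraMap A B (φ w) := by
      rw [h1]; exact eσ.apply_symm_apply _
    rw [← h2]
    rfl
  obtain ⟨τ, hτC, hτX⟩ := Groth.Agent.Helper8.CoeffField.exists_ringHom_eval τ₀ n
    (fun i => (X (Fin.castAdd m i) : MvPowerSeries (Fin (n + m)) W'))
    (fun i => X_mem_maximalIdeal _)
  have hcomp : σ.comp τ = (algebraMap A B).comp ρ := by
    apply ringHom_ext_of_hausdorff (maximalIdeal B)
    · intro w
      rw [RingHom.comp_apply, RingHom.comp_apply, hτC, hστ₀, hρC]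
    · intro i
      rw [RingHom.comp_apply, RingHom.comp_apply, hτX, hσX, hρX]
      exact Fin.append_left _ _ i
    · intro i
      rw [RingHom.comp_apply, hτX, hσX]
      exact hdm _
  have hC : (maximalIdeal W).map (τ.comp (C : W →+* MvPowerSeries (Fin n) W)) =
      (maximalIdeal W').map (C : W' →+* MvPowerSeries (Fin (n + m)) W') := by
    rw [hπ, hπ', Ideal.map_span, Ideal.map_span, Set.image_singleton, Set.image_singleton,
      map_natCast, map_natCast]
  obtain ⟨hflat, -⟩ := flat_and_isRegularRing hdim n m τ hC hτX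
  refine ⟨n, ρ, σ, τ, hρ, hσ, hcomp, hflat, ?_⟩
  -- the kernel of `σ`
  obtain ⟨hloc, hreg, hd⟩ := quotient_regular hdim n m τ hC hτX
  have hle : (maximalIdeal (MvPowerSeries (Fin n) W)).map τ ≤ RingHom.ker σ := by
    rw [Ideal.map_le_iff_le_comap]
    intro r hr
    rw [Ideal.mem_comap, RingHom.mem_ker]
    have h1 := RingHom.congr_fun hcomp r
    rw [RingHom.comp_apply, RingHom.comp_apply] at h1
    rw [h1]
    apply hAB
    rw [← map_maximalIdeal_of_surjective ρ hρ]
    exact Ideal.mem_map_of_mem _ hr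
  refine le_antisymm ?_ hle
  -- dimension of the quotient
  have hdQ : ringKrullDim (MvPowerSeries (Fin (n + m)) W' ⧸
      (maximalIdeal (MvPowerSeries (Fin n) W)).map τ) = (m : WithBot ℕ∞) := by
    have h1 := IsRegularLocalRing.spanFinrank_maximalIdeal (R := MvPowerSeries (Fin (n + m)) W' ⧸
      (maximalIdeal (MvPowerSeries (Fin n) W)).map τ)
    have h2 := IsRegularLocalRing.spanFinrank_maximalIdeal (R := W')
    rw [ringKrullDim_mvPowerSeries, ringKrullDim_mvPowerSeries, hdim, ← h1, ← h2] at hd
    rw [← h1]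
    have h3 : (maximalIdeal W').spanFinrank + (n + m) = (maximalIdeal W').spanFinrank + n +
        (maximalIdeal (MvPowerSeries (Fin (n + m)) W' ⧸
          (maximalIdeal (MvPowerSeries (Fin n) W)).map τ)).spanFinrank := by
      exact_mod_cast hd
    have h4 : (maximalIdeal (MvPowerSeries (Fin (n + m)) W' ⧸
          (maximalIdeal (MvPowerSeries (Fin n) W)).map τ)).spanFinrank = m := by omega
    rw [h4]
  haveI := RLR.isDomain (MvPowerSeries (Fin (n + m)) W' ⧸
      (maximalIdeal (MvPowerSeries (Fin n) W)).map τ)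
  have hle' : ∀ a ∈ (maximalIdeal (MvPowerSeries (Fin n) W)).map τ, σ a = 0 :=
    fun a ha => RingHom.mem_ker.1 (hle ha)
  have hinj := injective_of_surjective_of_dim_le
    (Ideal.Quotient.lift ((maximalIdeal (MvPowerSeries (Fin n) W)).map τ) σ hle') (by
      intro y
      obtain ⟨x, rfl⟩ := hσ y
      exact ⟨Ideal.Quotient.mk _ x, Ideal.Quotient.lift_mk _ _ _⟩) m (le_of_eq hdQ) hm
  intro s hs
  rw [← Ideal.Quotient.eq_zero_iff_mem]
  apply hinj
  rw [Ideal.Quotient.lift_mk, map_zero]
  exact RingHom.mem_ker.1 hs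

end fact

end Groth.Agent.Helper8.CohenFact
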