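import Mathlib
import Groth.Agent.Lib.Helper8.CohenFact5
import Groth.Agent.Lib.Helper8.AdicNoeth1
import Groth.Agent.Lib.Helper8.CohenSm1

/-!
# Flat complete local algebras with prescribed regular closed fibre (EGA 0_IV 19.7.1.5-type lemma)
-/

set_option autoImplicit false

namespace Groth.Agent.Helper8.CohenFact

open IsLocalRing TensorProduct

universe u

/-- The image of a complete Noetherian local ring under a surjective ring homomorphism onto a
local ring is complete. -/
theorem isAdicComplete_of_surjective {S B : Type*} [CommRing S] [CommRing B] [IsLocalRing S]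
    [IsNoetherianRing S] [IsAdicComplete (maximalIdeal S) S] [IsLocalRing B] (ι : S →+* B)
    (hι : Function.Surjective ι) : IsAdicComplete (maximalIdeal B) B := by
  let e : (S ⧸ RingHom.ker ι) ≃+* B := RingHom.quotientKerEquivOfSurjective hι
  have h1 : IsAdicComplete ((maximalIdeal S).map (algebraMap S (S ⧸ RingHom.ker ι)))
      (S ⧸ RingHom.ker ι) :=
    Groth.Agent.Helper8.AdicNoeth.isAdicComplete_quotient S (maximalIdeal S) (RingHom.ker ι)
  have h2 := (IsAdicComplete.congr_ringEquiv
    ((maximalIdeal S).map (algebraMap S (S ⧸ RingHom.ker ι))) e).2 h1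
  have h3 : ((maximalIdeal S).map (algebraMap S (S ⧸ RingHom.ker ι))).map e = maximalIdeal B := by
    show Ideal.map (e : (S ⧸ RingHom.ker ι) →+* B) _ = _
    rw [Ideal.map_map]
    have : (e : (S ⧸ RingHom.ker ι) →+* B).comp (algebraMap S (S ⧸ RingHom.ker ι)) = ι := by
      ext s; rfl
    rw [this]
    exact map_maximalIdeal_of_surjective ι hι
  rw [← h3]
  exact h2

section final

variable {A : Type u} [CommRing A] [IsLocalRing A] [IsNoetherianRing A]
  (B₀ : Type u) [CommRing B₀] [IsLocalRing B₀] [Algebra (ResidueField A) B₀]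

/-- The canonical map from the completion of `A` to a `κ(A)`-algebra. -/
noncomputable def toFibre : AdicCompletion (maximalIdeal A) A →+* B₀ :=
  (algebraMap (ResidueField A) B₀).comp (AdicCompletion.evalOneₐ (maximalIdeal A)).toRingHom

theorem toFibre_algebraMap (a : A) :
    toFibre B₀ (algebraMap A (AdicCompletion (maximalIdeal A) A) a) =
      algebraMap (ResidueField A) B₀ (residue A a) := rfl

theorem maximalIdeal_le_ker_toFibre :
    maximalIdeal (AdicCompletion (maximalIdeal A) A) ≤ RingHom.ker (toFibre (A := A) B₀) := by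
  rw [AdicCompletion.maximalIdeal_eq_map, Ideal.map_le_iff_le_comap]
  intro a ha
  rw [Ideal.mem_comap, RingHom.mem_ker, toFibre_algebraMap, (residue_eq_zero_iff a).2 ha,
    map_zero]

theorem exists_of_factorization
    (R S : Type u) [CommRing R] [CommRing S] [IsLocalRing R] [IsLocalRing S] [IsNoetherianRing S]
    [IsAdicComplete (maximalIdeal S) S]
    (ρ : R →+* AdicCompletion (maximalIdeal A) A) (σ : S →+* B₀) (τ : R →+* S)
    (hρ : Function.Surjective ρ) (hσ : Function.Surjective σ)
    (hcomp : σ.comp τ = (toFibre B₀).comp ρ) (hflat : τ.Flat)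
    (hker : RingHom.ker σ = (maximalIdeal R).map τ) :
    ∃ (B : Type u) (_ : CommRing B) (_ : IsLocalRing B) (_ : IsNoetherianRing B) (_ : Algebra A B)
      (_ : IsLocalHom (algebraMap A B)),
      IsAdicComplete (maximalIdeal B) B ∧ Module.Flat A B ∧
        Nonempty (ResidueField A ⊗[A] B ≃ₐ[ResidueField A] B₀) := by
  classical
  letI algRÂ : Algebra R (AdicCompletion (maximalIdeal A) A) := ρ.toAlgebra
  letI algRS : Algebra R S := τ.toAlgebra
  haveI : Module.Flat R S := hflat
  let ι : S →ₐ[R] (AdicCompletion (maximalIdeal A) A) ⊗[R] S :=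
    Algebra.TensorProduct.includeRight
  have hι : Function.Surjective ι := Algebra.TensorProduct.includeRight_surjective S hρ
  letI algRB₀ : Algebra R B₀ := (σ.comp τ).toAlgebra
  let f : (AdicCompletion (maximalIdeal A) A) →ₐ[R] B₀ :=
    { toFibre B₀ with commutes' := fun r => (RingHom.congr_fun hcomp r).symm }
  let h : S →ₐ[R] B₀ := { σ with commutes' := fun r => rfl }
  let g : (AdicCompletion (maximalIdeal A) A) ⊗[R] S →ₐ[R] B₀ :=
    Algebra.TensorProduct.productMap f h
  have hgι : ∀ s, g (ι s) = σ s := fun s => by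
    show g ((1 : AdicCompletion (maximalIdeal A) A) ⊗ₜ[R] s) = σ s
    rw [Algebra.TensorProduct.productMap_apply_tmul, map_one, one_mul]
    rfl
  have hgl : ∀ a : AdicCompletion (maximalIdeal A) A,
      g (a ⊗ₜ[R] (1 : S)) = toFibre B₀ a := fun a => by
    rw [Algebra.TensorProduct.productMap_apply_tmul, map_one, mul_one]
    rfl
  haveI : Nontrivial ((AdicCompletion (maximalIdeal A) A) ⊗[R] S) :=
    g.toRingHom.domain_nontrivial
  haveI hlocB : IsLocalRing ((AdicCompletion (maximalIdeal A) A) ⊗[R] S) :=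
    .of_surjective' ι.toRingHom hι
  haveI hNB : IsNoetherianRing ((AdicCompletion (maximalIdeal A) A) ⊗[R] S) :=
    isNoetherianRing_of_surjective S _ ι.toRingHom hι
  have hcompl : IsAdicComplete (maximalIdeal ((AdicCompletion (maximalIdeal A) A) ⊗[R] S))
      ((AdicCompletion (maximalIdeal A) A) ⊗[R] S) :=
    isAdicComplete_of_surjective ι.toRingHom hι
  let algAB : Algebra A ((AdicCompletion (maximalIdeal A) A) ⊗[R] S) := inferInstance
  haveI : IsScalarTower A (AdicCompletion (maximalIdeal A) A)
      ((AdicCompletion (maximalIdeal A) A) ⊗[R] S) := inferInstance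
  have hflatAB : Module.Flat A ((AdicCompletion (maximalIdeal A) A) ⊗[R] S) :=
    Module.Flat.trans A (AdicCompletion (maximalIdeal A) A) _
  have hgA : ∀ a : A, g (algebraMap A ((AdicCompletion (maximalIdeal A) A) ⊗[R] S) a) =
      algebraMap (ResidueField A) B₀ (residue A a) := fun a => hgl _
  haveI hlocAB : IsLocalHom (algebraMap A ((AdicCompletion (maximalIdeal A) A) ⊗[R] S)) := by
    refine ⟨fun a ha => ?_⟩
    have h1 : IsUnit (g (algebraMap A ((AdicCompletion (maximalIdeal A) A) ⊗[R] S) a)) :=
      ha.map g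
    rw [hgA] at h1
    rw [← IsLocalRing.residue_ne_zero_iff_isUnit]
    intro h0
    rw [h0, map_zero] at h1
    exact not_isUnit_zero h1
  refine ⟨(AdicCompletion (maximalIdeal A) A) ⊗[R] S, inferInstance, hlocB, hNB, algAB, hlocAB,
    hcompl, hflatAB, ?_⟩
  -- the kernel of `g`
  have hkerg : ∀ b : (AdicCompletion (maximalIdeal A) A) ⊗[R] S, g b = 0 →
      b ∈ (maximalIdeal A).map (algebraMap A ((AdicCompletion (maximalIdeal A) A) ⊗[R] S)) := by
    intro b hb
    obtain ⟨s, rfl⟩ := hι b
    rw [hgι] at hb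
    have hs : s ∈ (maximalIdeal R).map τ := hker ▸ RingHom.mem_ker.2 hb
    have h1 : ι.toRingHom s ∈ ((maximalIdeal R).map τ).map ι.toRingHom :=
      Ideal.mem_map_of_mem _ hs
    rw [Ideal.map_map] at h1
    have h2 : ι.toRingHom.comp τ = (algebraMap (AdicCompletion (maximalIdeal A) A)
        ((AdicCompletion (maximalIdeal A) A) ⊗[R] S)).comp ρ := by
      ext r
      have := ι.commutes r
      rw [IsScalarTower.algebraMap_apply R (AdicCompletion (maximalIdeal A) A)
        ((AdicCompletion (maximalIdeal A) A) ⊗[R] S)] at this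
      exact this
    rw [h2, ← Ideal.map_map, map_maximalIdeal_of_surjective ρ hρ,
      AdicCompletion.maximalIdeal_eq_map, Ideal.map_map,
      ← IsScalarTower.algebraMap_eq A (AdicCompletion (maximalIdeal A) A)
        ((AdicCompletion (maximalIdeal A) A) ⊗[R] S)] at h1
    exact h1
  -- the `A`-algebra structure of `B₀`
  letI algAB₀ : Algebra A B₀ :=
    ((algebraMap (ResidueField A) B₀).comp (algebraMap A (ResidueField A))).toAlgebra
  haveI : IsScalarTower A (ResidueField A) B₀ := IsScalarTower.of_algebraMap_eq' rfl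
  let gA : (AdicCompletion (maximalIdeal A) A) ⊗[R] S →ₐ[A] B₀ :=
    { g.toRingHom with commutes' := hgA }
  let F : ResidueField A ⊗[A] ((AdicCompletion (maximalIdeal A) A) ⊗[R] S) →ₐ[ResidueField A] B₀ :=
    Algebra.TensorProduct.lift (Algebra.ofId (ResidueField A) B₀) gA (fun _ _ => Commute.all _ _)
  have hF : ∀ b, F ((1 : ResidueField A) ⊗ₜ[A] b) = g b := fun b => by
    rw [Algebra.TensorProduct.lift_tmul, map_one, one_mul]
    rfl
  refine ⟨AlgEquiv.ofBijective F ⟨?_, ?_⟩⟩
  · rw [injective_iff_map_eq_zero]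
    intro x hx
    obtain ⟨b, rfl⟩ := Algebra.TensorProduct.includeRight_surjective (R := A)
      (S := ResidueField A) ((AdicCompletion (maximalIdeal A) A) ⊗[R] S) residue_surjective x
    have hx' : F ((1 : ResidueField A) ⊗ₜ[A] b) = 0 := hx
    rw [hF] at hx'
    have hb := hkerg b hx'
    show (1 : ResidueField A) ⊗ₜ[A] b = 0
    have key := (Groth.Agent.Helper8.CohenSm.one_tmul_eq_zero_iff (maximalIdeal A) b).2
    apply key
    rw [Ideal.smul_top_eq_map]
    exact hb
  · intro y
    obtain ⟨s, rfl⟩ := hσ y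
    exact ⟨(1 : ResidueField A) ⊗ₜ[A] ι s, by rw [hF, hgι]⟩

end final

end Groth.Agent.Helper8.CohenFact
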