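import Mathlib
import Groth.Prelude.Def_CAlgX
import Groth.Prelude.Def_EGA41
import Groth.Agent.Lib.Helper8.AdicFS10
import Groth.Agent.Lib.Helper8.AdicFS12
import Groth.Agent.Lib.Helper8.CohenFact6
import Groth.Agent.S4514

/-!
# Existence and uniqueness of flat complete lifts of a formally smooth complete local algebra over
a quotient (EGA 0_IV 19.7.2)
-/

set_option autoImplicit false

namespace Groth.Agent.Helper8.AdicFS

open CAlgX IsLocalRing TensorProduct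

universe u

/-- A test algebra receiving a continuous map is killed by a power of the ideal of the base. -/
theorem map_pow_eq_bot_of_continuous {A B C : Type*} [CommRing A] [CommRing B] [CommRing C]
    [Algebra A B] [Algebra A C] (𝔞 : Ideal A) (𝔟 : Ideal B)
    (h𝔞 : 𝔞.map (algebraMap A B) ≤ 𝔟) (J : Ideal C) (hJ : J ^ 2 = ⊥) (ψ : B →ₐ[A] C ⧸ J) (k : ℕ)
    (hk : ∀ x ∈ 𝔟 ^ k, ψ x = 0) : (𝔞 ^ (2 * k)).map (algebraMap A C) = ⊥ := by
  have h1 : (𝔞 ^ k).map (algebraMap A C) ≤ J := by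
    rw [Ideal.map_le_iff_le_comap]
    intro a ha
    rw [Ideal.mem_comap, ← Ideal.Quotient.eq_zero_iff_mem]
    have h2 : algebraMap A B a ∈ 𝔟 ^ k := by
      have : algebraMap A B a ∈ (𝔞 ^ k).map (algebraMap A B) := Ideal.mem_map_of_mem _ ha
      rw [Ideal.map_pow] at this
      exact Ideal.pow_right_mono h𝔞 k this
    have h3 := hk _ h2
    rw [ψ.commutes] at h3
    exact h3
  rw [two_mul, pow_add, Ideal.map_mul, eq_bot_iff, ← hJ, pow_two]
  exact Ideal.mul_mono h1 h1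

/-- Formal smoothness for adic topologies on both rings implies formal smoothness with discrete
base. -/
theorem of_isFormallySmoothAdic {A B : Type u} [CommRing A] [CommRing B] [Algebra A B]
    (𝔞 : Ideal A) (𝔟 : Ideal B) (h𝔞 : 𝔞.map (algebraMap A B) ≤ 𝔟)
    (h : EGA41.IsFormallySmoothAdic A 𝔞 B 𝔟) : IsAdicFormallySmooth A B 𝔟 := by
  intro C _ _ J hJ ψ ⟨k, hk⟩
  exact h C J ⟨2, hJ⟩ ⟨2 * k, map_pow_eq_bot_of_continuous 𝔞 𝔟 h𝔞 J hJ ψ k hk⟩ ψ ⟨k, hk⟩

/-- The image of the maximal ideal under a local homomorphism. -/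
theorem map_maximalIdeal_le_of_isLocalHom {A B : Type*} [CommRing A] [CommRing B] [IsLocalRing A]
    [IsLocalRing B] (f : A →+* B) [IsLocalHom f] :
    (maximalIdeal A).map f ≤ maximalIdeal B := by
  rw [Ideal.map_le_iff_le_comap]
  intro a ha
  rw [Ideal.mem_comap, mem_maximalIdeal, mem_nonunits_iff]
  rw [mem_maximalIdeal, mem_nonunits_iff] at ha
  exact fun hu => ha (isUnit_of_map_unit f a hu)

section tensor

variable {A : Type u} [CommRing A] (J : Ideal A) {B B₀ : Type u} [CommRing B] [CommRing B₀]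
  [Algebra A B] [Algebra (A ⧸ J) B₀]

theorem exists_mem_maximalIdeal_tmul [IsLocalRing B] [IsLocalRing B₀]
    (u : (A ⧸ J) ⊗[A] B ≃ₐ[A ⧸ J] B₀) :
    ∀ x ∈ maximalIdeal B₀, ∃ c ∈ maximalIdeal B, u.symm x = 1 ⊗ₜ[A] c := by
  intro x hx
  obtain ⟨c, hc⟩ := Algebra.TensorProduct.includeRight_surjective
    (R := A) (S := A ⧸ J) B Ideal.Quotient.mk_surjective (u.symm x)
  refine ⟨c, ?_, hc.symm⟩
  rw [mem_maximalIdeal, mem_nonunits_iff]
  intro hu
  rw [mem_maximalIdeal, mem_nonunits_iff] at hx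
  apply hx
  have h1 : IsUnit (u.symm x) := by
    rw [← hc]
    exact hu.map (Algebra.TensorProduct.includeRight : B →ₐ[A] (A ⧸ J) ⊗[A] B)
  have h2 := h1.map u
  rwa [u.apply_symm_apply] at h2

variable [Algebra A B₀] [IsScalarTower A (A ⧸ J) B₀]

/-- The surjection `B → B₀` attached to an isomorphism `(A ⧸ J) ⊗ B ≃ B₀`. -/
noncomputable def rho (u : (A ⧸ J) ⊗[A] B ≃ₐ[A ⧸ J] B₀) : B →ₐ[A] B₀ :=
  (u.toAlgHom.restrictScalars A).comp Algebra.TensorProduct.includeRight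

theorem rho_apply (u : (A ⧸ J) ⊗[A] B ≃ₐ[A ⧸ J] B₀) (b : B) : rho J u b = u (1 ⊗ₜ[A] b) := rfl

theorem rho_surjective (u : (A ⧸ J) ⊗[A] B ≃ₐ[A ⧸ J] B₀) : Function.Surjective (rho J u) := by
  intro y
  obtain ⟨c, hc⟩ := Algebra.TensorProduct.includeRight_surjective
    (R := A) (S := A ⧸ J) B Ideal.Quotient.mk_surjective (u.symm y)
  refine ⟨c, ?_⟩
  rw [rho_apply]
  have : (1 : A ⧸ J) ⊗ₜ[A] c = u.symm y := hc
  rw [this, u.apply_symm_apply]

theorem ker_rho (u : (A ⧸ J) ⊗[A] B ≃ₐ[A ⧸ J] B₀) :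
    RingHom.ker (rho J u) = J.map (algebraMap A B) := by
  ext b
  rw [RingHom.mem_ker, rho_apply, map_eq_zero_iff _ u.injective,
    Groth.Agent.Helper8.CohenSm.one_tmul_eq_zero_iff, Ideal.smul_top_eq_map,
    Submodule.restrictScalars_mem]

end tensor

/-- **EGA 0_IV 19.7.2, uniqueness.** -/
theorem exists_algEquiv_of_tensor_equiv {A : Type u} [CommRing A] [IsLocalRing A] (J : Ideal A)
    (hJ : J ≤ maximalIdeal A)
    {B₀ : Type u} [CommRing B₀] [IsLocalRing B₀] [Algebra (A ⧸ J) B₀]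
    (h₀ : IsAdicFormallySmooth (A ⧸ J) B₀ (maximalIdeal B₀))
    (B B' : Type u) [CommRing B] [IsLocalRing B] [IsNoetherianRing B] [Algebra A B]
    [IsLocalHom (algebraMap A B)]
    [CommRing B'] [IsLocalRing B'] [IsNoetherianRing B'] [Algebra A B']
    [IsLocalHom (algebraMap A B')]
    [IsAdicComplete (maximalIdeal B) B] [Module.Flat A B] [IsAdicComplete (maximalIdeal B') B']
    [Module.Flat A B']
    (u : (A ⧸ J) ⊗[A] B ≃ₐ[A ⧸ J] B₀) (u' : (A ⧸ J) ⊗[A] B' ≃ₐ[A ⧸ J] B₀) :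
    ∃ v : B ≃ₐ[A] B', ∀ b, u' (1 ⊗ₜ[A] v b) = u (1 ⊗ₜ[A] b) := by
  letI : Algebra A B₀ := ((algebraMap (A ⧸ J) B₀).comp (Ideal.Quotient.mk J)).toAlgebra
  haveI : IsScalarTower A (A ⧸ J) B₀ := IsScalarTower.of_algebraMap_eq' rfl
  have hle : J.map (algebraMap A B) ≤ maximalIdeal B :=
    (Ideal.map_mono hJ).trans (map_maximalIdeal_le_of_isLocalHom _)
  have hle' : J.map (algebraMap A B') ≤ maximalIdeal B' :=
    (Ideal.map_mono hJ).trans (map_maximalIdeal_le_of_isLocalHom _)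
  have hB : IsAdicFormallySmooth A B (maximalIdeal B) :=
    of_flat_of_tensor_fibre J (maximalIdeal B) hle h₀ u (exists_mem_maximalIdeal_tmul J u)
  have hB' : IsAdicFormallySmooth A B' (maximalIdeal B') :=
    of_flat_of_tensor_fibre J (maximalIdeal B') hle' h₀ u' (exists_mem_maximalIdeal_tmul J u')
  obtain ⟨v, hv⟩ := exists_algEquiv_of_fibre J hB hB' (rho J u) (rho J u') (rho_surjective J u)
    (rho_surjective J u') (ker_rho J u) (ker_rho J u') hle hle'
  exact ⟨v, hv⟩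

end Groth.Agent.Helper8.AdicFS
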