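import Mathlib
import Groth.Prelude.Def_CAlgX
import Groth.Agent.Lib.Helper8.AdicFS13
import Groth.Agent.Lib.Helper8.AdicFS2
import Groth.Agent.Lib.Helper8.AdicFS4
import Groth.Agent.Lib.Helper8.Fib4

/-!
# Formal smoothness for the adic topology implies flatness (EGA 0_IV 19.7.1, other direction)
-/

set_option autoImplicit false

namespace Groth.Agent.Helper8.AdicFS

open CAlgX IsLocalRing TensorProduct

universe u

/-- **EGA 0_IV 19.7.1**: a local homomorphism of Noetherian local rings which is formally smooth
for the adic topology is flat. -/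
theorem flat_of_isAdicFormallySmooth {A B : Type u} [CommRing A] [CommRing B] [IsLocalRing A]
    [IsLocalRing B] [IsNoetherianRing A] [IsNoetherianRing B] [Algebra A B]
    [IsLocalHom (algebraMap A B)]
    (h : IsAdicFormallySmooth A B (maximalIdeal B)) : Module.Flat A B := by
  classical
  have h1 : IsAdicFormallySmooth A (AdicCompletion (maximalIdeal B) B)
      (maximalIdeal (AdicCompletion (maximalIdeal B) B)) := by
    have := completion (R := A) (maximalIdeal B) (maximalIdeal B).fg_of_isNoetherianRing h
    rwa [← AdicCompletion.maximalIdeal_eq_map] at this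
  haveI hlocB' : IsLocalHom (algebraMap A (AdicCompletion (maximalIdeal B) B)) := by
    have : algebraMap A (AdicCompletion (maximalIdeal B) B) =
        (algebraMap B (AdicCompletion (maximalIdeal B) B)).comp (algebraMap A B) :=
      IsScalarTower.algebraMap_eq A B _
    rw [this]
    infer_instance
  have h𝔪' : (maximalIdeal A).map (algebraMap A (AdicCompletion (maximalIdeal B) B)) ≤
      maximalIdeal (AdicCompletion (maximalIdeal B) B) := map_maximalIdeal_le_of_isLocalHom _
  haveI : Nontrivial (AdicCompletion (maximalIdeal B) B ⧸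
      (maximalIdeal A).map (algebraMap A (AdicCompletion (maximalIdeal B) B))) :=
    Ideal.Quotient.nontrivial_iff.2
      (ne_top_of_le_ne_top (maximalIdeal.isMaximal _).ne_top h𝔪')
  haveI : IsLocalRing (AdicCompletion (maximalIdeal B) B ⧸
      (maximalIdeal A).map (algebraMap A (AdicCompletion (maximalIdeal B) B))) :=
    IsLocalRing.of_surjective' (Ideal.Quotient.mk _) Ideal.Quotient.mk_surjective
  haveI : IsAdicComplete (maximalIdeal (AdicCompletion (maximalIdeal B) B ⧸
      (maximalIdeal A).map (algebraMap A (AdicCompletion (maximalIdeal B) B))))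
      (AdicCompletion (maximalIdeal B) B ⧸
      (maximalIdeal A).map (algebraMap A (AdicCompletion (maximalIdeal B) B))) :=
    Groth.Agent.Helper8.CohenFact.isAdicComplete_of_surjective (Ideal.Quotient.mk _)
      Ideal.Quotient.mk_surjective
  have hK₀ : IsAdicFormallySmooth (A ⧸ maximalIdeal A) (AdicCompletion (maximalIdeal B) B ⧸
      (maximalIdeal A).map (algebraMap A (AdicCompletion (maximalIdeal B) B)))
      (maximalIdeal (AdicCompletion (maximalIdeal B) B ⧸
      (maximalIdeal A).map (algebraMap A (AdicCompletion (maximalIdeal B) B)))) := by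
    have := quotient_base h1 (maximalIdeal A)
    rwa [IsLocalRing.map_maximalIdeal_of_surjective _ Ideal.Quotient.mk_surjective] at this
  letI algκK : Algebra (ResidueField A) (AdicCompletion (maximalIdeal B) B ⧸
      (maximalIdeal A).map (algebraMap A (AdicCompletion (maximalIdeal B) B))) :=
    Ideal.Quotient.algebraQuotientMapQuotient
  have hK : IsAdicFormallySmooth (ResidueField A) (AdicCompletion (maximalIdeal B) B ⧸
      (maximalIdeal A).map (algebraMap A (AdicCompletion (maximalIdeal B) B)))
      (maximalIdeal (AdicCompletion (maximalIdeal B) B ⧸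
      (maximalIdeal A).map (algebraMap A (AdicCompletion (maximalIdeal B) B)))) := hK₀
  haveI : IsRegularLocalRing (AdicCompletion (maximalIdeal B) B ⧸
      (maximalIdeal A).map (algebraMap A (AdicCompletion (maximalIdeal B) B))) :=
    (regular_and_ringEquiv hK).1
  obtain ⟨C, iC, iCl, iCn, iCa, hloc, hcomp, hflat, ⟨ε⟩⟩ :=
    Groth.Agent.S4514.result (A := A) (AdicCompletion (maximalIdeal B) B ⧸
      (maximalIdeal A).map (algebraMap A (AdicCompletion (maximalIdeal B) B)))
  haveI := hflat
  haveI := hloc
  haveI := hcomp
  have hle : (maximalIdeal A).map (algebraMap A C) ≤ maximalIdeal C :=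
    map_maximalIdeal_le_of_isLocalHom _
  have hC : IsAdicFormallySmooth A C (maximalIdeal C) :=
    of_flat_of_tensor_fibre (maximalIdeal A) (maximalIdeal C) hle hK₀ ε
      (exists_mem_maximalIdeal_tmul (maximalIdeal A) ε)
  obtain ⟨v, -⟩ := exists_algEquiv_of_fibre (maximalIdeal A) h1 hC
    (Ideal.Quotient.mkₐ A ((maximalIdeal A).map (algebraMap A (AdicCompletion (maximalIdeal B) B))))
    (rho (maximalIdeal A) ε) Ideal.Quotient.mk_surjective (rho_surjective (maximalIdeal A) ε)
    (Ideal.Quotient.mkₐ_ker A _) (ker_rho (maximalIdeal A) ε) h𝔪' hle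
  haveI : Module.Flat A (AdicCompletion (maximalIdeal B) B) :=
    Module.Flat.of_linearEquiv v.toLinearEquiv
  haveI : Module.FaithfullyFlat B (AdicCompletion (maximalIdeal B) B) :=
    Module.FaithfullyFlat.of_flat_of_isLocalHom
  exact Groth.Agent.Helper8.Fib.flat_of_faithfullyFlat_comp A B (AdicCompletion (maximalIdeal B) B)

end Groth.Agent.Helper8.AdicFS
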