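import Mathlib
import Groth.Agent.Lib.Helper8.Adic

/-!
# Finite algebras over complete Noetherian local rings
-/

set_option autoImplicit false

universe u

namespace Groth.Agent.Helper8.GRing

open IsLocalRing TensorProduct

/-- A finite module over a Noetherian ring complete for `I` is complete for `I`. -/
theorem isAdicComplete_of_finite (R : Type u) [CommRing R] [IsNoetherianRing R] (I : Ideal R)
    [IsAdicComplete I R] (M : Type u) [AddCommGroup M] [Module R M] [Module.Finite R M] :
    IsAdicComplete I M := by
  rw [← AdicCompletion.of_bijective_iff]
  have h1 : (AdicCompletion.of I M : M → AdicCompletion I M) =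
      (AdicCompletion.ofTensorProduct I M) ∘ (TensorProduct.mk R (AdicCompletion I R) M 1) := by
    funext x
    simp
  rw [h1]
  refine (AdicCompletion.ofTensorProduct_bijective_of_finite_of_isNoetherian I M).comp ?_
  let e : M ≃ₗ[R] AdicCompletion I R ⊗[R] M :=
    (TensorProduct.lid R M).symm ≪≫ₗ
      TensorProduct.congr (AdicCompletion.ofLinearEquiv I R) (LinearEquiv.refl R M)
  have h2 : (TensorProduct.mk R (AdicCompletion I R) M 1 : M → _) = e := by
    funext x
    show (1 : AdicCompletion I R) ⊗ₜ[R] x = _
    simp only [e, LinearEquiv.trans_apply, TensorProduct.lid_symm_apply, TensorProduct.congr_tmul,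
      LinearEquiv.refl_apply]
    congr 1
  rw [h2]
  exact e.bijective

/-- A complete local ring is henselian. -/
theorem henselianLocalRing_of_isAdicComplete (C : Type*) [CommRing C] [IsLocalRing C]
    [IsAdicComplete (maximalIdeal C) C] : HenselianLocalRing C where
  is_henselian := by
    intro f hf a₀ h₁ h₂
    exact HenselianRing.is_henselian f hf a₀ h₁ (h₂.map _)

end Groth.Agent.Helper8.GRing
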