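import Mathlib
import Groth.Agent.Lib.Helper8.GRing3
import Groth.Agent.Lib.Helper7.Hensel.FiniteLocal
import Groth.Agent.Lib.Helper7.Adic.Cofinal

/-!
# A local ring finite over a complete Noetherian local ring is complete
-/

set_option autoImplicit false

universe u

namespace Groth.Agent.Helper8.GRing

open IsLocalRing

theorem isAdicComplete_of_finite_local (C : Type u) [CommRing C] [IsLocalRing C]
    [IsNoetherianRing C] [IsAdicComplete (maximalIdeal C) C] (S : Type u) [CommRing S]
    [IsLocalRing S] [Algebra C S] [Module.Finite C S] :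
    IsAdicComplete (maximalIdeal S) S := by
  haveI : IsNoetherianRing S := isNoetherian_of_tower C (isNoetherian_of_isNoetherianRing_of_finite C S)
  haveI h1 : IsAdicComplete (maximalIdeal C) S := isAdicComplete_of_finite C (maximalIdeal C) S
  haveI h2 : IsAdicComplete ((maximalIdeal C).map (algebraMap C S)) S :=
    (IsAdicComplete.map_algebraMap_iff (maximalIdeal C) S).2 h1
  have hle : (maximalIdeal C).map (algebraMap C S) ≤ maximalIdeal S :=
    Groth.Agent.Helper7.Hensel.map_maximalIdeal_le_maximalIdeal
  have hrad : maximalIdeal S ≤ ((maximalIdeal C).map (algebraMap C S)).radical := by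
    intro x hx
    have hx' : x ∈ Ideal.jacobson (⊥ : Ideal S) := by
      rw [IsLocalRing.jacobson_eq_maximalIdeal ⊥ bot_ne_top]
      exact hx
    obtain ⟨n, hn⟩ :=
      Groth.Agent.Helper7.Hensel.exists_pow_mem_map_maximalIdeal_of_mem_jacobson (R := C) x hx'
    exact ⟨n, hn⟩
  obtain ⟨N, hN⟩ := Ideal.exists_pow_le_of_le_radical_of_fg hrad
    (IsNoetherian.noetherian (maximalIdeal S))
  exact Groth.Agent.Helper7.Adic.isAdicComplete_of_le_of_pow_le _ _ hle N hN

end Groth.Agent.Helper8.GRing
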