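import Mathlib

/-!
# Coefficientwise derivations of multivariate power series rings, and `p`-th powers
-/

set_option autoImplicit false

namespace Groth.Agent.Helper8.PSDer

open MvPowerSeries

section coeffDer

variable {σ : Type*} {k : Type*} [CommRing k]

/-- The coefficientwise map. -/
noncomputable def cdFun (δ : Derivation ℤ k k) (f : MvPowerSeries σ k) : MvPowerSeries σ k :=
  fun α => δ (coeff α f)

theorem coeff_cdFun (δ : Derivation ℤ k k) (f : MvPowerSeries σ k) (α : σ →₀ ℕ) :
    coeff α (cdFun δ f) = δ (coeff α f) := rfl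

theorem cdFun_add (δ : Derivation ℤ k k) (f g : MvPowerSeries σ k) :
    cdFun δ (f + g) = cdFun δ f + cdFun δ g := by
  ext α
  rw [map_add, coeff_cdFun, coeff_cdFun, coeff_cdFun, map_add, map_add]

theorem cdFun_smul (δ : Derivation ℤ k k) (c : ℤ) (f : MvPowerSeries σ k) :
    cdFun δ (c • f) = c • cdFun δ f := by
  ext α
  rw [coeff_cdFun, map_zsmul, map_zsmul, map_zsmul, coeff_cdFun]

theorem cdFun_mul (δ : Derivation ℤ k k) (f g : MvPowerSeries σ k) :
    cdFun δ (f * g) = f * cdFun δ g + g * cdFun δ f := by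
  classical
  ext α
  rw [coeff_cdFun, map_add, mul_comm g, coeff_mul, coeff_mul, coeff_mul, map_sum,
    ← Finset.sum_add_distrib]
  refine Finset.sum_congr rfl fun x _ => ?_
  rw [Derivation.leibniz, coeff_cdFun, coeff_cdFun, smul_eq_mul, smul_eq_mul, mul_comm (coeff x.2 g)]

/-- Derivations of a ring into itself over `ℤ`, with the canonical `ℤ`-algebra structure. -/
abbrev Der (R : Type*) [CommRing R] := Derivation ℤ R R

/-- A derivation over `ℤ` from an additive map satisfying the Leibniz rule. -/
def mkDer {R : Type*} [CommRing R] (f : R →+ R) (h : ∀ a b, f (a * b) = a * f b + b * f a) :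
    Der R :=
  Derivation.mk' (R := ℤ) f.toIntLinearMap (fun a b => h a b)

@[simp] theorem mkDer_apply {R : Type*} [CommRing R] (f : R →+ R)
    (h : ∀ a b, f (a * b) = a * f b + b * f a) (a : R) : mkDer f h a = f a := rfl

/-- The coefficientwise extension of a derivation of `k` to `k[[σ]]`. -/
noncomputable def coeffDer (δ : Derivation ℤ k k) : Der (MvPowerSeries σ k) :=
  mkDer
    { toFun := cdFun δ
      map_zero' := by
        ext α
        rw [coeff_cdFun, map_zero, map_zero]
      map_add' := cdFun_add δ }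
    (fun f g => cdFun_mul δ f g)

@[simp] theorem coeff_coeffDer (δ : Derivation ℤ k k) (f : MvPowerSeries σ k) (α : σ →₀ ℕ) :
    coeff α (coeffDer δ f) = δ (coeff α f) := rfl

/-- The partial derivative as a `ℤ`-derivation (canonical `ℤ`-algebra structure). -/
noncomputable def pd (l : σ) : Der (MvPowerSeries σ k) :=
  mkDer ((pderiv k l : MvPowerSeries σ k →ₗ[k] MvPowerSeries σ k) :
      MvPowerSeries σ k →+ MvPowerSeries σ k)
    (fun f g => Derivation.leibniz (pderiv k l) f g)

@[simp] theorem pd_apply (l : σ) (f : MvPowerSeries σ k) : pd l f = pderiv k l f := rfl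

end coeffDer

section pthPower

variable {σ : Type*} {k : Type*} [Field k] (p : ℕ) [hp : Fact p.Prime] [CharP k p]

/-- A power series with vanishing partial derivatives whose coefficients are `p`-th powers is a
`p`-th power. -/
theorem exists_pow_eq (w : MvPowerSeries σ k) (h1 : ∀ l, pderiv k l w = 0)
    (h2 : ∀ α, ∃ c : k, c ^ p = coeff α w) : ∃ h : MvPowerSeries σ k, h ^ p = w := by
  classical
  haveI : ExpChar k p := ExpChar.prime hp.out
  have hp0 : p ≠ 0 := hp.out.ne_zero
  choose c hc using h2
  let h : MvPowerSeries σ k := fun γ => c (p • γ)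
  have hh : ∀ γ, coeff γ h = c (p • γ) := fun γ => rfl
  refine ⟨h, ?_⟩
  rw [← map_frobenius_expand p hp0]
  ext β
  rw [coeff_map]
  by_cases hβ : ∀ i, p ∣ β i
  · have hβ' : β = p • (β.mapRange (· / p) (Nat.zero_div p)) := by
      ext i
      simp only [Finsupp.coe_smul, Pi.smul_apply, Finsupp.mapRange_apply, smul_eq_mul]
      exact (Nat.mul_div_cancel' (hβ i)).symm
    rw [hβ', coeff_expand_smul, hh, ← hβ', frobenius_def, hc]
  · push Not at hβ
    obtain ⟨i, hi⟩ := hβ
    rw [coeff_expand_of_not_dvd p hp0 _ hi, map_zero]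
    have hi0 : β i ≠ 0 := fun h => hi (h ▸ dvd_zero p)
    have h3 := congrArg (coeff (β - Finsupp.single i 1)) (h1 i)
    rw [coeff_pderiv, map_zero] at h3
    have h4 : β - Finsupp.single i 1 + Finsupp.single i 1 = β := by
      ext j
      by_cases hj : j = i
      · subst hj
        simp only [Finsupp.coe_add, Finsupp.coe_tsub, Pi.add_apply, Pi.sub_apply,
          Finsupp.single_eq_same]
        omega
      · simp [Finsupp.single_eq_of_ne hj]
    rw [h4] at h3
    have h5 : ((((β - Finsupp.single i 1 : σ →₀ ℕ) i : ℕ)) : k) + 1 = ((β i : ℕ) : k) := by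
      have : (β - Finsupp.single i 1 : σ →₀ ℕ) i + 1 = β i := by
        simp only [Finsupp.coe_tsub, Pi.sub_apply, Finsupp.single_eq_same]
        omega
      rw [← this]
      push_cast
      rfl
    rw [h5] at h3
    have h6 : ((β i : ℕ) : k) ≠ 0 := by
      rw [Ne, CharP.cast_eq_zero_iff k p]
      exact hi
    exact ((mul_eq_zero.1 h3).resolve_right h6).symm

end pthPower

end Groth.Agent.Helper8.PSDer
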