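import Mathlib
import Groth.Prelude
import Groth.Agent.Lib.Helper8.AdicFS12
import Groth.Agent.Lib.Helper8.GRing4
import Groth.Agent.Lib.Helper8.PSDer1

/-!
# Extension of derivations along formally smooth homomorphisms to complete local rings
-/

set_option autoImplicit false

universe u

namespace Groth.Agent.Helper8.DerExt

open IsLocalRing CAlgX TrivSqZeroExt Groth.Agent.Helper8.PSDer

section tsze

variable (B : Type u) [CommRing B] [IsLocalRing B]

instance isLocalRing_tsze : IsLocalRing (TrivSqZeroExt B B) := by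
  refine { isUnit_or_isUnit_of_add_one := ?_ }
  intro a b hab
  have h1 : a.fst + b.fst = 1 := by
    have := congrArg TrivSqZeroExt.fst hab
    simpa using this
  rcases IsLocalRing.isUnit_or_isUnit_of_add_one h1 with h | h
  · exact Or.inl (TrivSqZeroExt.isUnit_iff_isUnit_fst.2 h)
  · exact Or.inr (TrivSqZeroExt.isUnit_iff_isUnit_fst.2 h)

instance finite_tsze : Module.Finite B (TrivSqZeroExt B B) :=
  inferInstanceAs (Module.Finite B (B × B))

theorem mem_maximalIdeal_tsze_iff (x : TrivSqZeroExt B B) :
    x ∈ maximalIdeal (TrivSqZeroExt B B) ↔ x.fst ∈ maximalIdeal B := by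
  rw [mem_maximalIdeal, mem_maximalIdeal, mem_nonunits_iff, mem_nonunits_iff,
    TrivSqZeroExt.isUnit_iff_isUnit_fst]

end tsze

variable (A B : Type u) [CommRing A] [CommRing B] [IsLocalRing B] [IsNoetherianRing B]
  [Algebra A B] [IsAdicComplete (maximalIdeal B) B]

/-- The ring homomorphism `a ↦ a + D(a) ε`. -/
noncomputable def dualHom (D : Der A) : A →+* TrivSqZeroExt B B where
  toFun a := TrivSqZeroExt.inl (algebraMap A B a) + TrivSqZeroExt.inr (algebraMap A B (D a))
  map_one' := by
    rw [map_one, Derivation.map_one_eq_zero, map_zero, TrivSqZeroExt.inr_zero, add_zero,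
      TrivSqZeroExt.inl_one]
  map_mul' a b := by
    ext
    · simp
    · simp only [Derivation.leibniz, smul_eq_mul, map_add, map_mul, TrivSqZeroExt.snd_add,
        TrivSqZeroExt.snd_inl, TrivSqZeroExt.snd_inr, zero_add, TrivSqZeroExt.snd_mul,
        TrivSqZeroExt.fst_add, TrivSqZeroExt.fst_inl, TrivSqZeroExt.fst_inr, add_zero,
        MulOpposite.smul_eq_mul_unop, MulOpposite.unop_op]
      ring
  map_zero' := by
    rw [map_zero, map_zero, map_zero, TrivSqZeroExt.inl_zero, TrivSqZeroExt.inr_zero, add_zero]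
  map_add' a b := by
    rw [map_add, map_add, map_add, TrivSqZeroExt.inl_add, TrivSqZeroExt.inr_add]
    abel

/-- **Extension of derivations** along a formally smooth homomorphism to a complete Noetherian
local ring. -/
theorem exists_derivation_extension
    (hfs : IsAdicFormallySmooth A B (maximalIdeal B)) (D : Der A) :
    ∃ D' : Der B, ∀ a : A, D' (algebraMap A B a) = algebraMap A B (D a) := by
  let T := TrivSqZeroExt B B
  haveI : IsNoetherianRing T :=
    isNoetherian_of_tower B (isNoetherian_of_isNoetherianRing_of_finite B T)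
  haveI : IsAdicComplete (maximalIdeal T) T :=
    Groth.Agent.Helper8.GRing.isAdicComplete_of_finite_local B T
  letI : Algebra A T := (dualHom A B D).toAlgebra
  let I : Ideal T := RingHom.ker (TrivSqZeroExt.fstHom B B B).toRingHom
  have hI : I ≤ maximalIdeal T := by
    intro x hx
    have hx0 : x.fst = 0 := hx
    rw [mem_maximalIdeal_tsze_iff, hx0]
    exact zero_mem _
  have hmemI : ∀ x : T, x ∈ I ↔ x.fst = 0 := fun x => Iff.rfl
  let u : B →ₐ[A] T ⧸ I :=
    { (Ideal.Quotient.mk I).comp (TrivSqZeroExt.inlHom B B) with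
      commutes' := by
        intro a
        show Ideal.Quotient.mk I (TrivSqZeroExt.inl (algebraMap A B a)) =
          Ideal.Quotient.mk I (dualHom A B D a)
        rw [Ideal.Quotient.eq, hmemI]
        show (TrivSqZeroExt.inl (algebraMap A B a) -
          (TrivSqZeroExt.inl (algebraMap A B a) +
            TrivSqZeroExt.inr (algebraMap A B (D a)))).fst = 0
        rw [TrivSqZeroExt.fst_sub, TrivSqZeroExt.fst_add, TrivSqZeroExt.fst_inl,
          TrivSqZeroExt.fst_inr, add_zero, sub_self] }
  have hu : ∀ s ∈ maximalIdeal B, u s ∈ (maximalIdeal T).map (Ideal.Quotient.mk I) := by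
    intro s hs
    refine Ideal.mem_map_of_mem _ ?_
    rw [mem_maximalIdeal_tsze_iff]
    show (TrivSqZeroExt.inl s : T).fst ∈ maximalIdeal B
    rw [TrivSqZeroExt.fst_inl]
    exact hs
  obtain ⟨v, hv⟩ := Groth.Agent.Helper8.AdicFS.exists_lift_local hfs I hI u hu
  have hfst : ∀ b : B, (v b).fst = b := by
    intro b
    have h1 : Ideal.Quotient.mk I (v b) = Ideal.Quotient.mk I (TrivSqZeroExt.inl b) :=
      congrArg (fun w : B →ₐ[A] T ⧸ I => w b) hv
    rw [Ideal.Quotient.eq, hmemI, TrivSqZeroExt.fst_sub, TrivSqZeroExt.fst_inl,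
      sub_eq_zero] at h1
    exact h1
  refine ⟨mkDer
    { toFun := fun b => (v b).snd
      map_zero' := by rw [map_zero, TrivSqZeroExt.snd_zero]
      map_add' := fun a b => by rw [map_add, TrivSqZeroExt.snd_add] } (fun a b => ?_), fun a => ?_⟩
  · show (v (a * b)).snd = a * (v b).snd + b * (v a).snd
    rw [map_mul, TrivSqZeroExt.snd_mul, hfst, hfst]
    simp only [smul_eq_mul, MulOpposite.smul_eq_mul_unop, MulOpposite.unop_op]
    ring
  · show (v (algebraMap A B a)).snd = _
    rw [v.commutes]
    show (TrivSqZeroExt.inl (algebraMap A B a) +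
      TrivSqZeroExt.inr (algebraMap A B (D a)) : T).snd = _
    rw [TrivSqZeroExt.snd_add, TrivSqZeroExt.snd_inl, TrivSqZeroExt.snd_inr, zero_add]

end Groth.Agent.Helper8.DerExt
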