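import Mathlib
import Groth.Agent.Lib.Helper8.AdicReg1
import Groth.Agent.Lib.Helper8.FlatDepth1

/-!
# Depth of the completion of a finite module over a Noetherian local ring
-/

set_option autoImplicit false
universe u

namespace Groth.Agent.Helper8.AdicReg

open IsLocalRing LocCoh

/-- S5810. -/
theorem depth_adicCompletion_eq (A : Type u) [CommRing A] [IsLocalRing A] [IsNoetherianRing A]
    (M : Type u) [AddCommGroup M] [Module A M] [Module.Finite A M] :
    LocCoh.depth (AdicCompletion (maximalIdeal A) A) (AdicCompletion (maximalIdeal A) M) =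
      LocCoh.depth A M := by
  unfold LocCoh.depth
  rw [AdicCompletion.maximalIdeal_eq_map]
  haveI : Module.FaithfullyFlat A (AdicCompletion (maximalIdeal A) A) :=
    Module.FaithfullyFlat.of_flat_of_isLocalHom
  haveI : IsNoetherianRing (AdicCompletion (maximalIdeal A) A) :=
    isNoetherianRing A (maximalIdeal A)
  rw [← Depth.idealDepth_congr
    (AdicCompletion.ofTensorProductEquivOfFiniteNoetherian (maximalIdeal A) M)]
  exact FlatDepth.idealDepth_baseChange_eq A _ _ M

end Groth.Agent.Helper8.AdicReg
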