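import Mathlib
import Groth.Prelude
import Groth.Agent.Lib.Helper8.AdicReg2

/-!
# Reducedness ascends along flat maps with reduced fibres over the minimal primes
-/

set_option autoImplicit false
universe u

namespace Groth.Agent.Helper8.Cpl

open IsLocalRing TensorProduct

section reduced

variable (A B : Type u) [CommRing A] [CommRing B] [IsNoetherianRing A] [Algebra A B]
  [Module.Flat A B]

/-- If `A` is a reduced Noetherian ring, `B` is flat over `A` and the fibres of `B` over the
minimal primes of `A` are reduced, then `B` is reduced. -/
theorem isReduced_of_flat_of_fibres [IsReduced A]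
    (h : ∀ (p : Ideal A) [p.IsPrime], p ∈ minimalPrimes A → IsReduced (p.Fiber B)) :
    IsReduced B := by
  classical
  let ι := {p : Ideal A // p ∈ minimalPrimes A}
  haveI : Finite ι := (minimalPrimes.finite_of_isNoetherianRing A).to_subtype
  letI : Fintype ι := Fintype.ofFinite ι
  haveI hprime : ∀ i : ι, i.1.IsPrime := fun i => i.2.1.1
  let K : ι → Type u := fun i => i.1.ResidueField
  let P := ∀ i, K i
  -- `A → P` is injective
  have hφ : Function.Injective (algebraMap A P) := by
    rw [injective_iff_map_eq_zero]
    intro x hx
    have h1 : ∀ i : ι, x ∈ i.1 := by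
      intro i
      have := congrFun hx i
      change algebraMap A (K i) x = 0 at this
      exact (Ideal.algebraMap_residueField_eq_zero).mp this
    have h2 : x ∈ sInf (minimalPrimes A) := by
      rw [Submodule.mem_sInf]
      intro p hp
      exact h1 ⟨p, hp⟩
    have h3 : sInf (minimalPrimes A) = (⊥ : Ideal A).radical := Ideal.sInf_minimalPrimes
    rw [h3] at h2
    have h4 : (⊥ : Ideal A).radical = ⊥ := by
      have := nilradical_eq_zero A
      exact this
    rw [h4] at h2
    exact h2
  -- `B → B ⊗ P` is injective
  have hψ : Function.Injective (Algebra.TensorProduct.includeLeft : B →ₐ[A] B ⊗[A] P) := by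
    have h1 : Function.Injective ((Algebra.linearMap A P).lTensor B) :=
      Module.Flat.lTensor_preserves_injective_linearMap _ hφ
    intro b1 b2 hb
    have h2 : ((Algebra.linearMap A P).lTensor B) (b1 ⊗ₜ 1) =
        ((Algebra.linearMap A P).lTensor B) (b2 ⊗ₜ 1) := by
      simpa using hb
    have h3 := h1 h2
    have h4 := congrArg (TensorProduct.rid A B) h3
    simpa using h4
  -- `B ⊗ P` is reduced
  haveI : ∀ i, IsReduced (B ⊗[A] K i) := fun i => by
    haveI := h i.1 i.2
    exact isReduced_of_injective (Algebra.TensorProduct.comm A B (K i)).toRingHom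
      (Algebra.TensorProduct.comm A B (K i)).injective
  haveI : IsReduced (B ⊗[A] P) :=
    isReduced_of_injective (Algebra.TensorProduct.piRight A A B K).toRingHom
      (Algebra.TensorProduct.piRight A A B K).injective
  exact isReduced_of_injective
    (Algebra.TensorProduct.includeLeft : B →ₐ[A] B ⊗[A] P).toRingHom hψ

end reduced

section completion

variable (A : Type u) [CommRing A] [IsNoetherianRing A] [IsLocalRing A]

/-- **S2643.** -/
theorem isReduced_iff_cpl_of_geomReducedFormalFibres (hA : EGA4.HasGeomReducedFormalFibres A) :
    IsReduced A ↔ IsReduced (EGA4.Cpl A) := by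
  haveI : Module.FaithfullyFlat A (AdicCompletion (maximalIdeal A) A) :=
    Module.FaithfullyFlat.of_flat_of_isLocalHom
  constructor
  · intro h
    refine isReduced_of_flat_of_fibres A (AdicCompletion (maximalIdeal A) A) ?_
    intro p _ _
    haveI := hA p
    exact Algebra.isReduced_of_isGeometricallyReduced (k := p.ResidueField)
  · intro h
    exact isReduced_of_injective (algebraMap A (AdicCompletion (maximalIdeal A) A))
      (FaithfulSMul.algebraMap_injective A (AdicCompletion (maximalIdeal A) A))

end completion

end Groth.Agent.Helper8.Cpl
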