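import Mathlib
import Groth.Prelude
import Groth.Agent.Lib.Helper8.Fib4

/-!
# `(S_n)` and Cohen–Macaulay fibres: composition and descent
-/

set_option autoImplicit false
universe u

namespace Groth.Agent.Helper8.Fib

open IsLocalRing LocCoh Groth.Agent.Helper8.FlatReg Groth.Agent.Helper8.Depth TensorProduct

section cm

/-- A Noetherian local ring is Cohen–Macaulay iff it satisfies the local `(S_k)` for all `k`. -/
theorem cm_local_iff_forall_skLocal (C : Type u) [CommRing C] [IsLocalRing C]
    [IsNoetherianRing C] :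
    Module.supportDim C C = ((depth C C : ℕ∞) : WithBot ℕ∞) ↔ ∀ k : ℕ, SkLocal k C := by
  have hdim : Module.supportDim C C = (((maximalIdeal C).height : ℕ∞) : WithBot ℕ∞) := by
    rw [Module.supportDim_self_eq_ringKrullDim, IsLocalRing.maximalIdeal_height_eq_ringKrullDim]
  have hle : ((depth C C : ℕ∞) : WithBot ℕ∞) ≤ Module.supportDim C C := depth_le_supportDim
  rw [hdim] at hle ⊢
  have hle' : depth C C ≤ (maximalIdeal C).height := by exact_mod_cast hle
  constructor
  · intro h k
    have h' : (maximalIdeal C).height = depth C C := by exact_mod_cast h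
    unfold SkLocal
    rw [← h']
    exact min_le_right _ _
  · intro h
    have hfin : (maximalIdeal C).height ≠ ⊤ :=
      Ideal.height_ne_top (Ideal.IsPrime.ne_top inferInstance)
    obtain ⟨n, hn⟩ := ENat.ne_top_iff_exists.mp hfin
    have h1 := h n
    unfold SkLocal at h1
    rw [← hn, min_self] at h1
    have : (maximalIdeal C).height = depth C C := le_antisymm (hn ▸ h1) hle'
    exact_mod_cast this

theorem isCohenMacaulayRing_iff_forall_hasSk (D : Type u) [CommRing D] [IsNoetherianRing D] :
    IsCohenMacaulayRing D ↔ ∀ k : ℕ, HasSk k D D := by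
  constructor
  · intro h k
    rw [hasSk_self_iff_skLocal]
    intro q _
    have := h.isCohenMacaulayLocalRing_localization q
    exact (cm_local_iff_forall_skLocal _).mp this.supportDim_eq_depth k
  · intro h
    refine ⟨fun q _ => ?_⟩
    refine ⟨(cm_local_iff_forall_skLocal _).mpr fun k => ?_⟩
    exact (hasSk_self_iff_skLocal k D).mp (h k) q

end cm

section noeth

variable {R S : Type u} [CommRing R] [CommRing S] [Algebra R S]

attribute [local instance] Algebra.TensorProduct.rightAlgebra in
theorem isNoetherianRing_fiber (p : Ideal R) [p.IsPrime] [IsNoetherianRing S] :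
    IsNoetherianRing (p.Fiber S) :=
  isNoetherianRing_of_ringEquiv _ (Ideal.Fiber.algEquivQuotient (S := S) p).toRingEquiv.symm

end noeth

section main

variable (A B C : Type u) [CommRing A] [CommRing B] [CommRing C] [IsNoetherianRing A]
  [IsNoetherianRing B] [IsNoetherianRing C] [Algebra A B] [Algebra B C] [Algebra A C]
  [IsScalarTower A B C]

/-- **S4750.** -/
theorem snFibres_comp (n : ℕ) [Module.Flat A B] [Module.Flat B C]
    (hAB : ∀ (p : Ideal A) [p.IsPrime], HasSk n (p.Fiber B) (p.Fiber B))
    (hBC : ∀ (q : Ideal B) [q.IsPrime], HasSk n (q.Fiber C) (q.Fiber C)) :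
    Module.Flat A C ∧ ∀ (p : Ideal A) [p.IsPrime], HasSk n (p.Fiber C) (p.Fiber C) := by
  haveI : Module.Flat A C := Module.Flat.trans A B C
  refine ⟨inferInstance, fun p _ => ?_⟩
  apply hasSk_fiber_of_skLocal
  intro Q _ hQ _
  haveI := nontrivial_fibLocRing B C Q
  haveI := nontrivial_fibLocRing A B (Q.comap (algebraMap B C))
  have h1 : SkLocal n (EGA4.FibLocRing A B (Q.comap (algebraMap B C))) :=
    skLocal_fibLocRing_of_fiber n _ (hAB _) _ rfl
  have h2 : SkLocal n (EGA4.FibLocRing B C Q) :=
    skLocal_fibLocRing_of_fiber n _ (hBC _) Q rfl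
  exact skLocal_fibLocRing_comp A B C n Q h1 h2

/-- **S4751.** -/
theorem snFibres_descent (n : ℕ) [Module.FaithfullyFlat B C] [Module.Flat A C]
    (hAC : ∀ (p : Ideal A) [p.IsPrime], HasSk n (p.Fiber C) (p.Fiber C)) :
    Module.Flat A B ∧ ∀ (p : Ideal A) [p.IsPrime], HasSk n (p.Fiber B) (p.Fiber B) := by
  haveI : Module.Flat A B := flat_of_faithfullyFlat_comp A B C
  refine ⟨inferInstance, fun p _ => ?_⟩
  apply hasSk_fiber_of_skLocal
  intro q _ hq _
  obtain ⟨Q, hQprime, hQq, hdim0⟩ := exists_prime_fibre_dim_zero B C q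
  subst hQq
  haveI := nontrivial_fibLocRing B C Q
  haveI := nontrivial_fibLocRing A C Q
  have h : SkLocal n (EGA4.FibLocRing A C Q) :=
    skLocal_fibLocRing_of_fiber n _ (hAC _) Q rfl
  exact skLocal_fibLocRing_descent A B C n Q hdim0 h

/-- **S2717.** -/
theorem cmFibres_comp [Module.Flat A B] [Module.Flat B C]
    (hAB : ∀ (p : Ideal A) [p.IsPrime], IsCohenMacaulayRing (p.Fiber B))
    (hBC : ∀ (q : Ideal B) [q.IsPrime], IsCohenMacaulayRing (q.Fiber C)) :
    Module.Flat A C ∧ ∀ (p : Ideal A) [p.IsPrime], IsCohenMacaulayRing (p.Fiber C) := by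
  haveI : Module.Flat A C := Module.Flat.trans A B C
  refine ⟨inferInstance, fun p _ => ?_⟩
  haveI := isNoetherianRing_fiber (S := C) p
  rw [isCohenMacaulayRing_iff_forall_hasSk]
  intro n
  refine (snFibres_comp A B C n (fun p' _ => ?_) (fun q _ => ?_)).2 p
  · haveI := isNoetherianRing_fiber (S := B) p'
    exact (isCohenMacaulayRing_iff_forall_hasSk _).mp (hAB p') n
  · haveI := isNoetherianRing_fiber (S := C) q
    exact (isCohenMacaulayRing_iff_forall_hasSk _).mp (hBC q) n

/-- **S2718.** -/
theorem cmFibres_descent [Module.FaithfullyFlat B C] [Module.Flat A C]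
    (hAC : ∀ (p : Ideal A) [p.IsPrime], IsCohenMacaulayRing (p.Fiber C)) :
    Module.Flat A B ∧ ∀ (p : Ideal A) [p.IsPrime], IsCohenMacaulayRing (p.Fiber B) := by
  haveI : Module.Flat A B := flat_of_faithfullyFlat_comp A B C
  refine ⟨inferInstance, fun p _ => ?_⟩
  haveI := isNoetherianRing_fiber (S := B) p
  rw [isCohenMacaulayRing_iff_forall_hasSk]
  intro n
  refine (snFibres_descent A B C n (fun p' _ => ?_)).2 p
  haveI := isNoetherianRing_fiber (S := C) p'
  exact (isCohenMacaulayRing_iff_forall_hasSk _).mp (hAC p') n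

end main

end Groth.Agent.Helper8.Fib
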