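import Mathlib
import Groth.Prelude
import Groth.Agent.Lib.Helper8.Fib5
import Groth.Agent.Lib.Helper8.AdicReg2

/-!
# Descent of `(S_k)` along faithfully flat maps; completion with `(S_n)` formal fibres
-/

set_option autoImplicit false
universe u

namespace Groth.Agent.Helper8.Fib

open IsLocalRing LocCoh Groth.Agent.Helper8.FlatReg Groth.Agent.Helper8.Depth TensorProduct

section local_case

variable (R S : Type u) [CommRing R] [CommRing S] [IsLocalRing R] [IsLocalRing S]
  [IsNoetherianRing R] [IsNoetherianRing S] [Algebra R S] [IsLocalHom (algebraMap R S)]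
  [Module.Flat R S]

/-- Descent of the local `(S_k)` along a flat local homomorphism with zero-dimensional closed
fibre. -/
theorem skLocal_descent_of_flat (k : ℕ) [IsLocalRing (S ⧸ (maximalIdeal R).map (algebraMap R S))]
    (hdim0 : ringKrullDim (S ⧸ (maximalIdeal R).map (algebraMap R S)) ≤ 0)
    (hS : SkLocal k S) : SkLocal k R := by
  unfold SkLocal at hS ⊢
  have hdim := ringKrullDim_eq_add_of_flat R S
  have hd0 : ringKrullDim (S ⧸ (maximalIdeal R).map (algebraMap R S)) = 0 :=
    le_antisymm hdim0 ringKrullDim_nonneg_of_nontrivial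
  rw [hd0, add_zero] at hdim
  rw [← IsLocalRing.maximalIdeal_height_eq_ringKrullDim,
    ← IsLocalRing.maximalIdeal_height_eq_ringKrullDim] at hdim
  have hdim' : (maximalIdeal S).height = (maximalIdeal R).height := by exact_mod_cast hdim
  have hdepth := depth_eq_add_of_flat R S
  have hF0 : depth (S ⧸ (maximalIdeal R).map (algebraMap R S))
      (S ⧸ (maximalIdeal R).map (algebraMap R S)) = 0 := by
    have h1 := depth_le_supportDim (A := S ⧸ (maximalIdeal R).map (algebraMap R S))
      (M := S ⧸ (maximalIdeal R).map (algebraMap R S))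
    rw [Module.supportDim_self_eq_ringKrullDim, hd0] at h1
    have h2 : depth (S ⧸ (maximalIdeal R).map (algebraMap R S))
        (S ⧸ (maximalIdeal R).map (algebraMap R S)) ≤ 0 := by exact_mod_cast h1
    exact le_antisymm h2 zero_le
  rw [hF0, add_zero] at hdepth
  rw [← hdim', ← hdepth]
  exact hS

end local_case

section global

variable (A B : Type u) [CommRing A] [CommRing B] [IsNoetherianRing A] [IsNoetherianRing B]
  [Algebra A B] [Module.Flat A B]

theorem skLocal_descent_atPrime (k : ℕ) (Q : Ideal B) [Q.IsPrime]
    [IsLocalRing (EGA4.FibLocRing A B Q)]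
    (hdim0 : ringKrullDim (EGA4.FibLocRing A B Q) ≤ 0)
    (hQ : SkLocal k (Localization.AtPrime Q)) :
    SkLocal k (Localization.AtPrime (Q.comap (algebraMap A B))) := by
  haveI : Q.LiesOver (Q.comap (algebraMap A B)) := ⟨rfl⟩
  letI := Localization.AtPrime.algebraOfLiesOver (Q.comap (algebraMap A B)) Q
  haveI : IsLocalHom (algebraMap (Localization.AtPrime (Q.comap (algebraMap A B)))
      (Localization.AtPrime Q)) := by
    rw [RingHom.algebraMap_toAlgebra]
    exact Localization.isLocalHom_localRingHom _ Q (algebraMap A B) Ideal.LiesOver.over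
  have hideal : (maximalIdeal (Localization.AtPrime (Q.comap (algebraMap A B)))).map
      (algebraMap (Localization.AtPrime (Q.comap (algebraMap A B))) (Localization.AtPrime Q)) =
      (Q.comap (algebraMap A B)).map (algebraMap A (Localization.AtPrime Q)) := by
    rw [← Localization.AtPrime.map_eq_maximalIdeal, Ideal.map_map,
      ← IsScalarTower.algebraMap_eq]
  haveI : IsLocalRing (Localization.AtPrime Q ⧸
      (maximalIdeal (Localization.AtPrime (Q.comap (algebraMap A B)))).map
      (algebraMap (Localization.AtPrime (Q.comap (algebraMap A B))) (Localization.AtPrime Q))) :=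
    (Ideal.quotEquivOfEq hideal.symm).isLocalRing
  have hdim0' : ringKrullDim (Localization.AtPrime Q ⧸
      (maximalIdeal (Localization.AtPrime (Q.comap (algebraMap A B)))).map
      (algebraMap (Localization.AtPrime (Q.comap (algebraMap A B))) (Localization.AtPrime Q))) ≤
      0 := by
    rw [ringKrullDim_eq_of_ringEquiv (Ideal.quotEquivOfEq hideal)]
    exact hdim0
  exact skLocal_descent_of_flat (Localization.AtPrime (Q.comap (algebraMap A B)))
    (Localization.AtPrime Q) k hdim0' hQ

/-- `(S_k)` descends along faithfully flat maps of Noetherian rings. -/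
theorem hasSk_of_faithfullyFlat [Module.FaithfullyFlat A B] (k : ℕ) (h : HasSk k B B) :
    HasSk k A A := by
  rw [hasSk_self_iff_skLocal] at h ⊢
  intro P _
  obtain ⟨Q, hQprime, hQP, hdim0⟩ := exists_prime_fibre_dim_zero A B P
  subst hQP
  haveI := nontrivial_fibLocRing A B Q
  exact skLocal_descent_atPrime A B k Q hdim0 (h Q)

end global

section completion

variable (A : Type u) [CommRing A] [IsNoetherianRing A] [IsLocalRing A]

/-- **S2645.** -/
theorem hasSk_iff_cpl_of_SnFormalFibres (n : ℕ) (hA : EGA4.HasSnFormalFibres n A) :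
    HasSk n A A ↔ HasSk n (EGA4.Cpl A) (EGA4.Cpl A) := by
  haveI : IsNoetherianRing (AdicCompletion (maximalIdeal A) A) :=
    Groth.Agent.Helper8.AdicReg.isNoetherianRing A (maximalIdeal A)
  haveI : Module.FaithfullyFlat A (AdicCompletion (maximalIdeal A) A) :=
    Module.FaithfullyFlat.of_flat_of_isLocalHom
  constructor
  · intro h
    exact hasSk_of_flat_of_fibres n h hA
  · intro h
    exact hasSk_of_faithfullyFlat A (AdicCompletion (maximalIdeal A) A) n h

end completion

end Groth.Agent.Helper8.Fib
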