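import Mathlib
import Groth.Agent.Lib.Helper8.Depth34
import Groth.Agent.Lib.Helper8.Depth28
import Groth.Agent.Lib.Helper8.Serre1

/-!
# Reflexive modules are second syzygies; depth and `(S_k)` of reflexive modules
-/

set_option autoImplicit false
universe u v

namespace Groth.Agent.Helper8.Refl

open LocCoh Groth.Agent.Helper8.Depth

section equiv

variable {A : Type u} [CommRing A]

/-- The localization of a linear equivalence. -/
noncomputable def locEquiv (S : Submonoid A) {M N : Type v} [AddCommGroup M] [Module A M]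
    [AddCommGroup N] [Module A N] (e : M ≃ₗ[A] N) :
    LocalizedModule S M ≃ₗ[Localization S] LocalizedModule S N :=
  LinearEquiv.ofBijective (LocalizedModule.map S e.toLinearMap)
    ⟨LocalizedModule.map_injective _ _ e.injective,
      LocalizedModule.map_surjective _ _ e.surjective⟩

theorem hasSk_of_linearEquiv (k : ℕ) {M N : Type u} [AddCommGroup M] [Module A M]
    [AddCommGroup N] [Module A N] (e : M ≃ₗ[A] N) (h : HasSk k A M) : HasSk k A N := by
  intro p _
  have h1 := h p
  have e' := locEquiv p.primeCompl e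
  rw [Module.supportDim_eq_of_equiv e'] at h1
  have h2 : depth (Localization.AtPrime p) (LocalizedModule p.primeCompl M) =
      depth (Localization.AtPrime p) (LocalizedModule p.primeCompl N) := idealDepth_congr e'
  rw [h2] at h1
  exact h1

end equiv

section presentation

variable {A : Type u} [CommRing A] [IsNoetherianRing A]

/-- The dual of a finite module over a Noetherian ring is the kernel of a map of finite free
modules (with nonzero target). -/
theorem exists_ker_equiv_dual (P : Type u) [AddCommGroup P] [Module A P] [Module.Finite A P] :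
    ∃ (n m : ℕ) (u : (Fin n → A) →ₗ[A] (Fin (m + 1) → A)),
      Nonempty (Module.Dual A P ≃ₗ[A] LinearMap.ker u) := by
  obtain ⟨n, π, hπ⟩ := Module.Finite.exists_fin' A P
  obtain ⟨m, ρ', hρ'⟩ := Module.Finite.exists_fin' A (LinearMap.ker π)
  let pad : (Fin (m + 1) → A) →ₗ[A] (Fin m → A) := LinearMap.funLeft A A Fin.castSucc
  have hpad : Function.Surjective pad :=
    LinearMap.funLeft_surjective_of_injective A A _ (Fin.castSucc_injective m)
  let ρ : (Fin (m + 1) → A) →ₗ[A] (Fin n → A) := (LinearMap.ker π).subtype ∘ₗ ρ' ∘ₗ pad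
  have hρ : LinearMap.range ρ = LinearMap.ker π := by
    rw [LinearMap.range_comp, LinearMap.range_comp, LinearMap.range_eq_top.mpr hpad,
      Submodule.map_top, LinearMap.range_eq_top.mpr hρ', Submodule.map_top,
      Submodule.range_subtype]
  have hπρ : π ∘ₗ ρ = 0 := by
    ext x
    have : ρ (Pi.single x 1) ∈ LinearMap.ker π := by
      rw [← hρ]
      exact LinearMap.mem_range_self _ _
    simpa using this
  let en : (Fin n → A) ≃ₗ[A] Module.Dual A (Fin n → A) := (Pi.basisFun A (Fin n)).toDualEquiv
  let em : (Fin (m + 1) → A) ≃ₗ[A] Module.Dual A (Fin (m + 1) → A) :=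
    (Pi.basisFun A (Fin (m + 1))).toDualEquiv
  let u : (Fin n → A) →ₗ[A] (Fin (m + 1) → A) :=
    em.symm.toLinearMap ∘ₗ ρ.dualMap ∘ₗ en.toLinearMap
  let Θ : Module.Dual A P →ₗ[A] (Fin n → A) := en.symm.toLinearMap ∘ₗ π.dualMap
  have hΘ : ∀ φ, Θ φ ∈ LinearMap.ker u := by
    intro φ
    rw [LinearMap.mem_ker]
    change em.symm (ρ.dualMap (en (en.symm (π.dualMap φ)))) = 0
    rw [LinearEquiv.apply_symm_apply]
    have : ρ.dualMap (π.dualMap φ) = 0 := by
      have h3 : ρ.dualMap ∘ₗ π.dualMap = (π ∘ₗ ρ).dualMap := (LinearMap.dualMap_comp_dualMap ρ π)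
      have h4 : (ρ.dualMap ∘ₗ π.dualMap) φ = 0 := by
        rw [h3, hπρ]
        ext x
        simp [LinearMap.dualMap_apply]
      exact h4
    rw [this, map_zero]
  let Θ' : Module.Dual A P →ₗ[A] LinearMap.ker u := Θ.codRestrict _ hΘ
  refine ⟨n, m, u, ⟨LinearEquiv.ofBijective Θ' ⟨?_, ?_⟩⟩⟩
  · intro φ ψ h
    have h1 : Θ φ = Θ ψ := congrArg Subtype.val h
    have h2 : π.dualMap φ = π.dualMap ψ := en.symm.injective h1
    exact LinearMap.dualMap_injective_of_surjective hπ h2
  · rintro ⟨a, ha⟩
    rw [LinearMap.mem_ker] at ha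
    have h1 : ρ.dualMap (en a) = 0 := by
      have : em.symm (ρ.dualMap (en a)) = 0 := ha
      exact em.symm.map_eq_zero_iff.mp this
    have h2 : en a ∈ LinearMap.range π.dualMap := by
      rw [LinearMap.range_dualMap_eq_dualAnnihilator_ker_of_surjective π hπ, ← hρ,
        ← LinearMap.ker_dualMap_eq_dualAnnihilator_range]
      exact h1
    obtain ⟨φ, hφ⟩ := h2
    refine ⟨φ, Subtype.ext ?_⟩
    change en.symm (π.dualMap φ) = a
    rw [hφ, LinearEquiv.symm_apply_apply]

/-- A finite reflexive module over a Noetherian ring is the kernel of a map of finite free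
modules. -/
theorem exists_ker_equiv_of_isReflexive (G : Type u) [AddCommGroup G] [Module A G]
    [Module.Finite A G] [Module.IsReflexive A G] :
    ∃ (n m : ℕ) (u : (Fin n → A) →ₗ[A] (Fin (m + 1) → A)),
      Nonempty (G ≃ₗ[A] LinearMap.ker u) := by
  obtain ⟨n, m, u, ⟨e⟩⟩ := exists_ker_equiv_dual (A := A) (Module.Dual A G)
  exact ⟨n, m, u, ⟨(Module.evalEquiv A G).trans e⟩⟩

end presentation

section pi

variable {R : Type u} [CommRing R] [IsNoetherianRing R] (I : Ideal R)

/-- The depth of a finite power of a module. -/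
theorem idealDepth_le_pi (M : Type u) [AddCommGroup M] [Module R M] [Module.Finite R M] (n : ℕ) :
    idealDepth I M ≤ idealDepth I (Fin n → M) := by
  induction n with
  | zero =>
    rw [idealDepth_of_smul_top_eq I (Fin 0 → M) (Subsingleton.elim _ _)]
    exact le_top
  | succ n ih =>
    let f : M →ₗ[R] (Fin (n + 1) → M) := LinearMap.single R (fun _ => M) 0
    let g : (Fin (n + 1) → M) →ₗ[R] (Fin n → M) := LinearMap.funLeft R M Fin.succ
    have hf : Function.Injective f := by
      intro a b hab
      have := congrFun hab 0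
      simpa [f] using this
    have hg : Function.Surjective g :=
      LinearMap.funLeft_surjective_of_injective R M _ (Fin.succ_injective n)
    have hfg : Function.Exact f g := by
      intro y
      constructor
      · intro hy
        refine ⟨y 0, ?_⟩
        ext i
        refine Fin.cases ?_ (fun j => ?_) i
        · simp [f]
        · have h1 : g y j = 0 := by rw [hy]; rfl
          have h2 : y j.succ = 0 := h1
          simp [f, h2]
      · rintro ⟨x, rfl⟩
        ext j
        simp [f, g, LinearMap.funLeft_apply]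
    have := idealDepth_mid_ge I f g hf hg hfg
    exact le_trans (le_min le_rfl ih) this

end pi

section sk

variable {A : Type u} [CommRing A] [IsNoetherianRing A]

/-- Finite free modules over a ring with `(S_k)` have `(S_k)`. -/
theorem hasSk_pi (k : ℕ) (h : HasSk k A A) (n : ℕ) : HasSk k A (Fin n → A) := by
  intro p _
  set S := p.primeCompl
  set Ap := Localization.AtPrime p
  let F : (Fin n → A) →ₗ[A] (Fin n → Ap) :=
    LinearMap.pi fun i => (Algebra.linearMap A Ap) ∘ₗ LinearMap.proj i
  have hF : IsLocalizedModule S F := IsLocalizedModule.pi S (fun _ => Algebra.linearMap A Ap)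
  let e0 : LocalizedModule S (Fin n → A) ≃ₗ[A] (Fin n → Ap) := IsLocalizedModule.iso S F
  let e : LocalizedModule S (Fin n → A) ≃ₗ[Ap] (Fin n → Ap) :=
    e0.extendScalarsOfIsLocalization S Ap
  have h1 : depth Ap (LocalizedModule S (Fin n → A)) = depth Ap (Fin n → Ap) := idealDepth_congr e
  have h2 : depth Ap Ap ≤ depth Ap (Fin n → Ap) := idealDepth_le_pi _ Ap n
  have h3 := (Groth.Agent.Helper8.Serre.hasSk_self_iff A k).mp h p
  have h4 : Module.supportDim Ap (LocalizedModule S (Fin n → A)) ≤ (p.height : WithBot ℕ∞) := by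
    refine le_trans (Module.supportDim_le_ringKrullDim Ap _) ?_
    rw [IsLocalization.AtPrime.ringKrullDim_eq_height p Ap]
  rw [h1]
  refine le_trans (min_le_min le_rfl h4) (le_trans h3 ?_)
  exact_mod_cast h2

end sk

section main

variable {A : Type u} [CommRing A] [IsNoetherianRing A]

/-- Depth and Serre conditions of reflexive modules. -/
theorem idealDepth_of_isReflexive (I : Ideal A) (G : Type u) [AddCommGroup G] [Module A G]
    [Module.Finite A G] [Module.IsReflexive A G] :
    (1 ≤ idealDepth I A → 1 ≤ idealDepth I G) ∧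
    (2 ≤ idealDepth I A → 2 ≤ idealDepth I G) ∧
    (HasSk 1 A A → HasSk 1 A G) ∧ (HasSk 2 A A → HasSk 2 A G) := by
  obtain ⟨n, m, u, ⟨e⟩⟩ := exists_ker_equiv_of_isReflexive (A := A) G
  have hd := idealDepth_ker I u
  have hs := hasSk_ker u
  have hc : idealDepth I G = idealDepth I (LinearMap.ker u) := idealDepth_congr e
  refine ⟨fun h => ?_, fun h => ?_, fun h => ?_, fun h => ?_⟩
  · rw [hc]
    exact hd.1 (le_trans h (idealDepth_le_pi I A n))
  · rw [hc]
    exact hd.2 (le_trans h (idealDepth_le_pi I A n))
      (le_trans (le_trans (by norm_num) h) (idealDepth_le_pi I A (m + 1)))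
  · exact hasSk_of_linearEquiv 1 e.symm (hs.1 (hasSk_pi 1 h n))
  · refine hasSk_of_linearEquiv 2 e.symm (hs.2 ?_ (hasSk_pi 1 ?_ (m + 1)) (hasSk_pi 2 h n))
    · intro q _
      rw [Module.mem_support_iff_of_finite]
      intro x hx
      rw [Module.mem_annihilator] at hx
      have h1 := congrFun (hx (Pi.single 0 1)) 0
      simp only [Pi.smul_apply, Pi.single_eq_same, smul_eq_mul, mul_one, Pi.zero_apply] at h1
      rw [h1]
      exact zero_mem _
    · rw [Groth.Agent.Helper8.Serre.hasSk_self_iff] at h ⊢
      intro q _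
      refine le_trans (min_le_min ?_ le_rfl) (h q)
      norm_num

end main

end Groth.Agent.Helper8.Refl
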