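import Mathlib
import Groth.Agent.Lib.Helper8.Refl2
import Groth.Agent.Lib.Helper8.Depth29
import Groth.Agent.Lib.Helper8.Depth27
import Groth.Agent.Lib.Helper8.Depth21

/-!
# Localization of the double dual; reflexivity from depth two
-/

set_option autoImplicit false
universe u v

namespace Groth.Agent.Helper8.Refl

open LocCoh Groth.Agent.Helper8.Depth

section loc

variable {A : Type u} [CommRing A] [IsNoetherianRing A] (S : Submonoid A)
  (G : Type u) [AddCommGroup G] [Module A G] [Module.Finite A G]

/-- The localization map on duals. -/
noncomputable def dualLoc :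
    Module.Dual A G →ₗ[A] Module.Dual (Localization S) (LocalizedModule S G) :=
  IsLocalizedModule.mapExtendScalars S (LocalizedModule.mkLinearMap S G)
    (Algebra.linearMap A (Localization S)) (Localization S)

instance : IsLocalizedModule S (dualLoc S G) := by
  unfold dualLoc
  haveI : Module.FinitePresentation A G := Module.finitePresentation_of_finite A G
  infer_instance

theorem dualLoc_apply (φ : Module.Dual A G) (x : G) :
    dualLoc S G φ (LocalizedModule.mkLinearMap S G x) = algebraMap A (Localization S) (φ x) := by
  unfold dualLoc
  rw [IsLocalizedModule.mapExtendScalars_apply_apply]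
  exact IsLocalizedModule.map_apply S _ _ φ x

/-- The localization map on double duals. -/
noncomputable def ddualLoc :
    Module.Dual A (Module.Dual A G) →ₗ[A]
      Module.Dual (Localization S) (Module.Dual (Localization S) (LocalizedModule S G)) :=
  IsLocalizedModule.mapExtendScalars S (dualLoc S G)
    (Algebra.linearMap A (Localization S)) (Localization S)

instance : IsLocalizedModule S (ddualLoc S G) := by
  unfold ddualLoc
  haveI : Module.FinitePresentation A (Module.Dual A G) :=
    Module.finitePresentation_of_finite A (Module.Dual A G)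
  infer_instance

theorem ddualLoc_apply (Φ : Module.Dual A (Module.Dual A G)) (φ : Module.Dual A G) :
    ddualLoc S G Φ (dualLoc S G φ) = algebraMap A (Localization S) (Φ φ) := by
  unfold ddualLoc
  rw [IsLocalizedModule.mapExtendScalars_apply_apply]
  exact IsLocalizedModule.map_apply S _ _ Φ φ

/-- Compatibility of the evaluation maps with localization. -/
theorem ddualLoc_eval (x : G) :
    ddualLoc S G (Module.Dual.eval A G x) =
      Module.Dual.eval (Localization S) (LocalizedModule S G)
        (LocalizedModule.mkLinearMap S G x) := by
  apply LinearMap.restrictScalars_injective A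
  apply IsLocalizedModule.linearMap_ext S (dualLoc S G) (Algebra.linearMap A (Localization S))
  ext φ
  simp only [LinearMap.coe_comp, LinearMap.coe_restrictScalars, Function.comp_apply]
  rw [ddualLoc_apply, Module.Dual.eval_apply, Module.Dual.eval_apply, dualLoc_apply]

variable {S G}

/-- If `G_S` is reflexive, elements of the kernel of the evaluation map are `S`-torsion. -/
theorem exists_smul_eq_zero_of_eval_eq_zero
    (hS : Function.Injective (Module.Dual.eval (Localization S) (LocalizedModule S G)))
    (x : G) (hx : Module.Dual.eval A G x = 0) : ∃ s : S, s • x = 0 := by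
  have h1 := ddualLoc_eval S G x
  rw [hx, map_zero] at h1
  have h2 : LocalizedModule.mkLinearMap S G x = 0 := by
    apply hS
    rw [← h1, map_zero]
  exact (IsLocalizedModule.eq_zero_iff S (LocalizedModule.mkLinearMap S G)).mp h2

/-- If `G_S` is reflexive, every element of the double dual is, up to `S`, in the image of the
evaluation map. -/
theorem exists_smul_mem_range_eval
    (hS : Function.Surjective (Module.Dual.eval (Localization S) (LocalizedModule S G)))
    (y : Module.Dual A (Module.Dual A G)) :
    ∃ s : S, (s : A) • y ∈ LinearMap.range (Module.Dual.eval A G) := by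
  obtain ⟨z, hz⟩ := hS (ddualLoc S G y)
  obtain ⟨⟨x, t⟩, hxt⟩ := IsLocalizedModule.surj S (LocalizedModule.mkLinearMap S G) z
  have hxt' : t • z = LocalizedModule.mkLinearMap S G x := hxt
  have h1 : ddualLoc S G ((t : A) • y - Module.Dual.eval A G x) = 0 := by
    rw [map_sub, ddualLoc_eval, ← hxt', map_smul, ← hz]
    have : ∀ (w : LocalizedModule S G),
        Module.Dual.eval (Localization S) (LocalizedModule S G) (t • w) =
          t • Module.Dual.eval (Localization S) (LocalizedModule S G) w := by
      intro w
      have h3 : t • w = (algebraMap A (Localization S) (t : A)) • w := by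
        rw [algebraMap_smul]
        rfl
      rw [h3, map_smul, algebraMap_smul]
      rfl
    rw [this]
    exact sub_self _
  obtain ⟨s, hs⟩ := (IsLocalizedModule.eq_zero_iff S (ddualLoc S G)).mp h1
  refine ⟨s * t, (s : A) • x, ?_⟩
  have hs' : (s : A) • ((t : A) • y - Module.Dual.eval A G x) = 0 := hs
  rw [smul_sub, sub_eq_zero] at hs'
  rw [map_smul, ← hs', Submonoid.coe_mul, mul_smul]

end loc

section main

variable {A : Type u} [CommRing A] [IsNoetherianRing A] (I : Ideal A)

/-- An element which is torsion away from `V(I)` vanishes if the `I`-depth is positive. -/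
theorem eq_zero_of_one_le_idealDepth (M : Type u) [AddCommGroup M] [Module A M]
    [Module.Finite A M] (h1 : 1 ≤ idealDepth I M) (x : M)
    (hx : ∀ p : PrimeSpectrum A, ¬ I ≤ p.asIdeal →
      ∃ s : p.asIdeal.primeCompl, (s : A) • x = 0) : x = 0 := by
  by_contra hne
  obtain ⟨P, hP, hle⟩ := exists_le_isAssociatedPrime_of_isNoetherianRing A x hne
  have hPprime : P.IsPrime := hP.isPrime
  have hIP : I ≤ P := by
    by_contra hcon
    obtain ⟨s, hs⟩ := hx ⟨P, hPprime⟩ hcon
    have : (s : A) ∈ P := hle (by
      rw [Submodule.mem_colon_singleton]
      simpa using hs)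
    exact s.2 this
  have h2 := idealDepth_le_depth_localization M I ⟨P, hPprime⟩ hIP
  have h3 := (depth_localizedModule_eq_zero_iff P M).mpr hP
  rw [h3] at h2
  have h4 : (1 : ℕ∞) ≤ 0 := le_trans h1 h2
  simp at h4

/-- The double dual has positive `I`-depth if the ring does. -/
theorem one_le_idealDepth_dual (hA : 1 ≤ idealDepth I A) (P : Type u) [AddCommGroup P]
    [Module A P] [Module.Finite A P] : 1 ≤ idealDepth I (Module.Dual A P) := by
  obtain ⟨n, m, u, ⟨e⟩⟩ := exists_ker_equiv_dual (A := A) P
  rw [idealDepth_congr e]
  exact (idealDepth_ker I u).1 (le_trans hA (idealDepth_le_pi I A n))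

/-- A finite module which is reflexive off `V(I)` and has `I`-depth at least two is reflexive,
provided the ring has positive `I`-depth. -/
theorem isReflexive_of_idealDepth_two (hA : 1 ≤ idealDepth I A)
    (G : Type u) [AddCommGroup G] [Module A G] [Module.Finite A G]
    (hU : ∀ p : PrimeSpectrum A, ¬ I ≤ p.asIdeal →
      Module.IsReflexive (Localization.AtPrime p.asIdeal)
        (LocalizedModule p.asIdeal.primeCompl G))
    (hG : 2 ≤ idealDepth I G) : Module.IsReflexive A G := by
  have hinj : Function.Injective (Module.Dual.eval A G) := by
    rw [injective_iff_map_eq_zero]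
    intro x hx
    apply eq_zero_of_one_le_idealDepth I G (le_trans (by norm_num) hG) x
    intro p hp
    have := (hU p hp).bijective_dual_eval'
    exact exists_smul_eq_zero_of_eval_eq_zero this.1 x hx
  refine ⟨⟨hinj, ?_⟩⟩
  have hD : 1 ≤ idealDepth I (Module.Dual A (Module.Dual A G)) :=
    one_le_idealDepth_dual I hA (Module.Dual A G)
  have hC : 1 ≤ idealDepth I
      (Module.Dual A (Module.Dual A G) ⧸ LinearMap.range (Module.Dual.eval A G)) := by
    have h1 := idealDepth_right_ge I (Module.Dual.eval A G)
      (LinearMap.range (Module.Dual.eval A G)).mkQ hinj (Submodule.mkQ_surjective _)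
      (LinearMap.exact_map_mkQ_range _)
    refine le_trans (le_min hD ?_) h1
    have h2 : (1 : ℕ∞) + 1 ≤ idealDepth I G := by
      rw [one_add_one_eq_two]
      exact hG
    exact ENat.le_sub_of_add_le_right (by norm_num) h2
  intro y
  have h0 : (LinearMap.range (Module.Dual.eval A G)).mkQ y = 0 := by
    apply eq_zero_of_one_le_idealDepth I _ hC
    intro p hp
    obtain ⟨s, hs⟩ := exists_smul_mem_range_eval (hU p hp).bijective_dual_eval'.2 y
    refine ⟨s, ?_⟩
    rw [← map_smul]
    exact (Submodule.Quotient.mk_eq_zero _).mpr hs
  exact (Submodule.Quotient.mk_eq_zero _).mp h0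

end main

end Groth.Agent.Helper8.Refl
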