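import Mathlib
import Groth.Agent.Lib.Helper8.Refl3
import Groth.Agent.Lib.Helper8.Depth31

/-!
# `(S_2)`, depth two and reflexivity
-/

set_option autoImplicit false
universe u v

namespace Groth.Agent.Helper8.Refl

open LocCoh Groth.Agent.Helper8.Depth

variable {A : Type u} [CommRing A] [IsNoetherianRing A]

theorem two_le_idealDepth_self (hA : HasSk 2 A A) (I : Ideal A) (hI : 2 ≤ I.height) :
    2 ≤ idealDepth I A := by
  have h := le_idealDepth_of_hasSk A 2 I hA (fun p hp _ => by
    rw [supportDim_localizedModule_self]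
    have h1 : I.height ≤ p.asIdeal.height := Ideal.height_mono hp
    have h2 : (2 : ℕ∞) ≤ p.asIdeal.height := le_trans hI h1
    have h3 : ((2 : ℕ∞) : WithBot ℕ∞) ≤ (p.asIdeal.height : WithBot ℕ∞) := WithBot.coe_le_coe.mpr h2
    exact h3)
  exact_mod_cast h

theorem hasSk_two_iff_idealDepth_iff_isReflexive
    (hA : HasSk 2 A A) (I : Ideal A) (hI : 2 ≤ I.height)
    (G : Type u) [AddCommGroup G] [Module A G] [Module.Finite A G]
    (hU : ∀ p : PrimeSpectrum A, ¬ I ≤ p.asIdeal →
      Module.IsReflexive (Localization.AtPrime p.asIdeal)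
        (LocalizedModule p.asIdeal.primeCompl G)) :
    ((HasSk 2 A G ∧ ∀ p : PrimeSpectrum A, I ≤ p.asIdeal → p ∈ Module.support A G →
        (2 : WithBot ℕ∞) ≤ Module.supportDim (Localization.AtPrime p.asIdeal)
          (LocalizedModule p.asIdeal.primeCompl G)) ↔
      2 ≤ idealDepth I G) ∧
    (2 ≤ idealDepth I G ↔ Module.IsReflexive A G) := by
  have hIA : 2 ≤ idealDepth I A := two_le_idealDepth_self hA I hI
  have h23 : 2 ≤ idealDepth I G → Module.IsReflexive A G := fun h =>
    isReflexive_of_idealDepth_two I (le_trans (by norm_num) hIA) G hU h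
  have h32 : Module.IsReflexive A G → 2 ≤ idealDepth I G := fun h =>
    (idealDepth_of_isReflexive I G).2.1 hIA
  refine ⟨⟨fun h => ?_, fun h => ⟨?_, ?_⟩⟩, h23, h32⟩
  · have := le_idealDepth_of_hasSk G 2 I h.1 (fun p hp hs => by exact_mod_cast h.2 p hp hs)
    exact_mod_cast this
  · haveI := h23 h
    exact (idealDepth_of_isReflexive I G).2.2.2 hA
  · intro p hp hs
    have h1 := idealDepth_le_supportDim_of_mem_support G I p hp hs
    refine le_trans ?_ h1
    have h3 : ((2 : ℕ∞) : WithBot ℕ∞) ≤ (idealDepth I G : WithBot ℕ∞) := WithBot.coe_le_coe.mpr h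
    exact h3

end Groth.Agent.Helper8.Refl
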