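import Mathlib
import Groth.Prelude
import Groth.Agent.Lib.Helper8.Refl4
import Groth.Agent.Lib.Helper8.Serre4
import Groth.Agent.Lib.Helper8.Depth32

/-!
# Reflexive modules over Noetherian normal domains: reflexive iff torsion free and `(S_2)`
-/

set_option autoImplicit false
universe u

namespace Groth.Agent.Helper8.Refl

open LocCoh IsLocalRing Groth.Agent.Helper8.Depth

variable {R : Type u} [CommRing R] [IsDomain R] [IsNoetherianRing R] [IsIntegrallyClosed R]

omit [IsNoetherianRing R] in
theorem normal_localization (p : Ideal R) [p.IsPrime] :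
    IsDomain (Localization.AtPrime p) ∧ IsIntegrallyClosed (Localization.AtPrime p) :=
  ⟨inferInstance, isIntegrallyClosed_of_isLocalization _ p.primeCompl p.primeCompl_le_nonZeroDivisors⟩

theorem isPrincipalIdealRing_of_height_le_one (p : Ideal R) [p.IsPrime] (hp : p.height ≤ 1) :
    IsPrincipalIdealRing (Localization.AtPrime p) := by
  obtain ⟨hdom, hic⟩ := normal_localization p
  have hdim : ringKrullDim (Localization.AtPrime p) ≤ 1 := by
    rw [IsLocalization.AtPrime.ringKrullDim_eq_height p (Localization.AtPrime p)]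
    exact_mod_cast hp
  have hK : Ring.KrullDimLE 1 (Localization.AtPrime p) := Ring.krullDimLE_iff.mpr hdim
  have h3 : IsIntegrallyClosed (Localization.AtPrime p) ∧
      ∀ P : Ideal (Localization.AtPrime p), P ≠ ⊥ → P.IsPrime →
        P = maximalIdeal (Localization.AtPrime p) :=
    ⟨hic, fun P hP hPp =>
      eq_maximalIdeal (Ring.krullDimLE_one_iff_of_noZeroDivisors.mp hK P hP hPp)⟩
  exact ((tfae_of_isNoetherianRing_of_isLocalRing_of_isDomain (Localization.AtPrime p)).out 3 0).mp h3

variable (M : Type u) [AddCommGroup M] [Module R M] [Module.Finite R M]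

omit [IsNoetherianRing R] [IsIntegrallyClosed R] [Module.Finite R M] in
theorem noZeroSMulDivisors_of_isReflexive [Module.IsReflexive R M] : NoZeroSMulDivisors R M := by
  constructor
  intro c x hcx
  by_cases hc : c = 0
  · exact Or.inl hc
  · right
    have hinj := (Module.IsReflexive.bijective_dual_eval' (R := R) (M := M)).1
    apply hinj
    rw [map_zero]
    ext φ
    have h1 : Module.Dual.eval R M (c • x) φ = 0 := by rw [hcx, map_zero]; rfl
    rw [map_smul, LinearMap.smul_apply, smul_eq_mul] at h1
    rw [LinearMap.zero_apply]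
    exact (mul_eq_zero.mp h1).resolve_left hc

omit [IsNoetherianRing R] [IsIntegrallyClosed R] [Module.Finite R M] in
theorem isTorsionFree_of_noZeroSMulDivisors [NoZeroSMulDivisors R M] : Module.IsTorsionFree R M :=
  Module.isTorsionFree_iff_smul_eq_zero.mpr fun _ _ h => eq_zero_or_eq_zero_of_smul_eq_zero h

/-- A finite torsion-free nonzero module over a domain has full support. -/
theorem support_eq_univ_of_isTorsionFree {D : Type*} [CommRing D] [IsDomain D] (N : Type*)
    [AddCommGroup N] [Module D N] [Module.Finite D N] [Module.IsTorsionFree D N] [Nontrivial N] :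
    Module.support D N = Set.univ := by
  have hann : Module.annihilator D N = ⊥ := by
    rw [eq_bot_iff]
    intro a ha
    obtain ⟨m, hm⟩ := exists_ne (0 : N)
    have h1 := (Module.mem_annihilator.mp ha) m
    rcases (Module.isTorsionFree_iff_smul_eq_zero.mp inferInstance) a m h1 with h | h
    · exact h
    · exact absurd h hm
  rw [Module.support_eq_zeroLocus, hann]
  simp

theorem isReflexive_of_torsionFree_S2 [NoZeroSMulDivisors R M] (hS : HasSk 2 R M) :
    Module.IsReflexive R M := by
  haveI := isTorsionFree_of_noZeroSMulDivisors (R := R) M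
  haveI : Module.FinitePresentation R M := Module.finitePresentation_of_finite R M
  have hA : HasSk 2 R R :=
    Groth.Agent.Helper8.Serre.hasSk_two_of_normal R (fun p _ => normal_localization p)
  obtain ⟨I, hI⟩ := (PrimeSpectrum.isClosed_iff_zeroLocus_ideal _).mp
    (Module.isOpen_freeLocus (R := R) (M := M)).isClosed_compl
  have hfree : ∀ p : PrimeSpectrum R, p.asIdeal.height ≤ 1 → p ∈ Module.freeLocus R M := by
    intro p hp
    haveI := isPrincipalIdealRing_of_height_le_one p.asIdeal hp
    rw [Module.mem_freeLocus]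
    infer_instance
  have hht : 2 ≤ I.height := by
    rw [Ideal.height_eq_inf_minimalPrimes]
    refine le_iInf₂ fun q hq => ?_
    haveI := hq.1.1
    by_contra hlt
    have hle : q.height ≤ 1 := by
      have h2 : q.height < 2 := not_le.mp hlt
      have h3 : q.height ≠ ⊤ := ne_top_of_lt h2
      lift q.height to ℕ using h3 with n
      have : n < 2 := by exact_mod_cast h2
      have : n ≤ 1 := by omega
      exact_mod_cast this
    have hmem : (⟨q, hq.1.1⟩ : PrimeSpectrum R) ∈ PrimeSpectrum.zeroLocus (I : Set R) :=
      hq.1.2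
    rw [← hI] at hmem
    exact hmem (hfree ⟨q, hq.1.1⟩ hle)
  have hU : ∀ p : PrimeSpectrum R, ¬ I ≤ p.asIdeal →
      Module.IsReflexive (Localization.AtPrime p.asIdeal)
        (LocalizedModule p.asIdeal.primeCompl M) := by
    intro p hp
    have hmem : p ∈ Module.freeLocus R M := by
      by_contra hn
      have : p ∈ (Module.freeLocus R M)ᶜ := hn
      rw [hI] at this
      exact hp this
    rw [Module.mem_freeLocus] at hmem
    infer_instance
  have key := hasSk_two_iff_idealDepth_iff_isReflexive hA I hht M hU
  apply key.2.mp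
  apply key.1.mp
  refine ⟨hS, ?_⟩
  intro p hp hsupp
  haveI : Nontrivial (LocalizedModule p.asIdeal.primeCompl M) :=
    (Module.mem_support_iff (R := R) (M := M)).mp hsupp
  rw [supportDim_eq_ringKrullDim_of_support_eq_univ (support_eq_univ_of_isTorsionFree _),
    IsLocalization.AtPrime.ringKrullDim_eq_height p.asIdeal (Localization.AtPrime p.asIdeal)]
  have h1 : I.height ≤ p.asIdeal.height := Ideal.height_mono hp
  have h2 : (2 : ℕ∞) ≤ p.asIdeal.height := le_trans hht h1
  have h3 : ((2 : ℕ∞) : WithBot ℕ∞) ≤ (p.asIdeal.height : WithBot ℕ∞) := WithBot.coe_le_coe.mpr h2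
  exact h3

theorem hasSk_two_of_isReflexive [Module.IsReflexive R M] : HasSk 2 R M := by
  have hA : HasSk 2 R R :=
    Groth.Agent.Helper8.Serre.hasSk_two_of_normal R (fun p _ => normal_localization p)
  exact (idealDepth_of_isReflexive (⊤ : Ideal R) M).2.2.2 hA

/-- **S2054.** -/
theorem isReflexive_iff_torsionFree_S2 :
    Module.IsReflexive R M ↔ NoZeroSMulDivisors R M ∧ HasSk 2 R M :=
  ⟨fun _ => ⟨noZeroSMulDivisors_of_isReflexive M, hasSk_two_of_isReflexive M⟩,
    fun ⟨_, h⟩ => isReflexive_of_torsionFree_S2 M h⟩

end Groth.Agent.Helper8.Refl
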