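import Mathlib
import Groth.Prelude
import Groth.Agent.Lib.Helper8.FlatReg13
import Groth.Agent.Lib.Helper8.Refl5

/-!
# Ascent of normality along flat ring maps with normal fibre local rings
-/

set_option autoImplicit false
universe u

namespace Groth.Agent.Helper8.FlatReg

open IsLocalRing LocCoh

theorem hasRk_one_of_normal_domain (D : Type u) [CommRing D] [IsNoetherianRing D] [IsDomain D]
    [IsIntegrallyClosed D] : HasRk 1 D :=
  Groth.Agent.Helper8.Serre.hasRk_one_of_normal D
    (fun p _ => Groth.Agent.Helper8.Refl.normal_localization p)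

theorem hasSk_two_of_normal_domain (D : Type u) [CommRing D] [IsNoetherianRing D] [IsDomain D]
    [IsIntegrallyClosed D] : HasSk 2 D D :=
  Groth.Agent.Helper8.Serre.hasSk_two_of_normal D
    (fun p _ => Groth.Agent.Helper8.Refl.normal_localization p)

variable (A B : Type u) [CommRing A] [CommRing B] [IsNoetherianRing A] [IsNoetherianRing B]
  [Algebra A B] [Module.Flat A B]

/-- **S2611.** -/
theorem normal_atPrime_of_fibres
    (hfib : ∀ (q : Ideal B) [q.IsPrime],
      IsDomain (EGA4.FibLocRing A B q) ∧ IsIntegrallyClosed (EGA4.FibLocRing A B q))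
    (q : Ideal B) [q.IsPrime]
    [IsDomain (Localization.AtPrime (q.comap (algebraMap A B)))]
    [IsIntegrallyClosed (Localization.AtPrime (q.comap (algebraMap A B)))] :
    IsDomain (Localization.AtPrime q) ∧ IsIntegrallyClosed (Localization.AtPrime q) := by
  have hR : HasRk 1 (Localization.AtPrime q) :=
    hasRk_atPrime_of_fibres A B 1 (fun Q _ => by
      obtain ⟨h1, h2⟩ := hfib Q
      exact hasRk_one_of_normal_domain _) q (hasRk_one_of_normal_domain _)
  have hS : HasSk 2 (Localization.AtPrime q) (Localization.AtPrime q) :=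
    hasSk_atPrime_of_fibres A B 2 (fun Q _ => by
      obtain ⟨h1, h2⟩ := hfib Q
      exact hasSk_two_of_normal_domain _) q (hasSk_two_of_normal_domain _)
  have hdom : IsDomain (Localization.AtPrime q) :=
    Groth.Agent.Helper8.Serre.isDomain_of_R1_S2_local hR hS
  exact ⟨hdom, Groth.Agent.Helper8.Serre.isIntegrallyClosed_of_R1_S2 _ hR hS⟩

end Groth.Agent.Helper8.FlatReg
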