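import Mathlib
import Groth.Prelude
import Groth.Agent.Lib.Helper8.Cpl1
import Groth.Agent.Lib.Helper8.Fib6
import Groth.Agent.Lib.Helper8.FlatReg14

/-!
# Normality and completion with geometrically normal formal fibres
-/

set_option autoImplicit false
universe u

namespace Groth.Agent.Helper8.Cpl

open IsLocalRing TensorProduct

section transport

variable {R S : Type u} [CommRing R] [CommRing S]

theorem isNormalRing_of_ringEquiv (e : R ≃+* S) (h : EGA4.IsNormalRing R) :
    EGA4.IsNormalRing S := by
  intro p _
  haveI : (p.comap (e : R →+* S)).IsPrime := Ideal.comap_isPrime _ _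
  obtain ⟨h1, h2⟩ := h (p.comap (e : R →+* S))
  let e' : Localization.AtPrime (p.comap (e : R →+* S)) ≃+* Localization.AtPrime p :=
    Localization.localRingEquiv (p.comap (e : R →+* S)) p e rfl
  exact ⟨e'.toMulEquiv.symm.isDomain _, IsIntegrallyClosed.of_equiv e'⟩

end transport

section descent

variable (R S : Type u) [CommRing R] [CommRing S] [Algebra R S] [Module.FaithfullyFlat R S]

/-- Normality descends along faithfully flat ring maps. -/
theorem normal_of_faithfullyFlat [IsDomain S] [IsIntegrallyClosed S] :
    IsDomain R ∧ IsIntegrallyClosed R := by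
  have hinj : Function.Injective (algebraMap R S) := FaithfulSMul.algebraMap_injective R S
  haveI hdom : IsDomain R := hinj.isDomain (algebraMap R S)
  refine ⟨hdom, ?_⟩
  rw [isIntegrallyClosed_iff (FractionRing R)]
  intro x hx
  obtain ⟨a, b, hb, rfl⟩ := IsFractionRing.div_surjective (A := R) x
  have hb0 : b ≠ 0 := nonZeroDivisors.ne_zero hb
  -- the induced map on fraction fields
  have hinjL : Function.Injective (algebraMap R (FractionRing S)) := by
    rw [IsScalarTower.algebraMap_eq R S (FractionRing S)]
    exact (IsFractionRing.injective S (FractionRing S)).comp hinj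
  let φ : FractionRing R →+* FractionRing S := IsFractionRing.lift hinjL
  have hφ : ∀ r : R, φ (algebraMap R (FractionRing R) r) = algebraMap R (FractionRing S) r :=
    fun r => IsFractionRing.lift_algebraMap hinjL r
  -- the image of `x` is integral over `S`
  have hint : IsIntegral S (φ (algebraMap R (FractionRing R) a / algebraMap R (FractionRing R) b)) := by
    have h1 : IsIntegral R (φ (algebraMap R (FractionRing R) a / algebraMap R (FractionRing R) b)) := by
      obtain ⟨P, hP, hPx⟩ := hx
      refine ⟨P, hP, ?_⟩
      have h2 : (algebraMap R (FractionRing S)) = φ.comp (algebraMap R (FractionRing R)) := by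
        ext r; exact (hφ r).symm
      rw [h2, ← Polynomial.hom_eval₂, hPx, map_zero]
    exact h1.tower_top
  obtain ⟨s, hs⟩ := (isIntegrallyClosed_iff (FractionRing S)).mp inferInstance hint
  -- so `a = b s` in `S`
  have hbS : algebraMap R (FractionRing S) b ≠ 0 := by
    intro h0
    exact hb0 (hinjL (by rw [h0, map_zero]))
  have h3 : algebraMap R S a = algebraMap R S b * s := by
    apply IsFractionRing.injective S (FractionRing S)
    rw [map_mul, hs, map_div₀, hφ, hφ, ← IsScalarTower.algebraMap_apply,
      ← IsScalarTower.algebraMap_apply, mul_div_cancel₀ _ hbS]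
  -- hence `a ∈ bS ∩ R = bR`
  have h4 : a ∈ ((Ideal.span {b}).map (algebraMap R S)).comap (algebraMap R S) := by
    rw [Ideal.mem_comap, Ideal.map_span, Set.image_singleton, Ideal.mem_span_singleton']
    exact ⟨s, by rw [h3, mul_comm]⟩
  rw [Ideal.comap_map_eq_self_of_faithfullyFlat, Ideal.mem_span_singleton'] at h4
  obtain ⟨r, hr⟩ := h4
  refine ⟨r, ?_⟩
  have hbK : algebraMap R (FractionRing R) b ≠ 0 := by
    intro h0
    exact hb0 (IsFractionRing.injective R (FractionRing R) (by rw [h0, map_zero]))
  rw [eq_div_iff hbK, ← map_mul, hr]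

end descent

section fibres

variable (A B : Type u) [CommRing A] [CommRing B] [IsNoetherianRing A] [IsNoetherianRing B]
  [Algebra A B] [Module.Flat A B]

/-- A geometrically normal algebra over a field is a normal ring. -/
theorem isNormalRing_of_isGeomNormal (k : Type u) [Field k] (F : Type u) [CommRing F] [Algebra k F]
    (h : EGA4.IsGeomNormal k F) : EGA4.IsNormalRing F :=
  isNormalRing_of_ringEquiv (Algebra.TensorProduct.lid k F).toRingEquiv (h k inferInstance)

/-- Normal fibre rings give normal fibre local rings. -/
theorem normal_fibLocRing_of_fiber (q : Ideal B) [q.IsPrime]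
    (h : EGA4.IsNormalRing ((q.comap (algebraMap A B)).Fiber B)) :
    IsDomain (EGA4.FibLocRing A B q) ∧ IsIntegrallyClosed (EGA4.FibLocRing A B q) := by
  obtain ⟨Q', hQ'prime, hQ'⟩ := Groth.Agent.Helper8.Fib.exists_fiber_prime
    (q.comap (algebraMap A B)) q rfl
  obtain ⟨h1, h2⟩ := h Q'
  obtain ⟨e⟩ := Groth.Agent.Helper8.Fib.nonempty_ringEquiv_fibLocRing
    (q.comap (algebraMap A B)) Q' q hQ'
  let e' : Localization.AtPrime Q' ≃+* EGA4.FibLocRing A B q := e
  exact ⟨e'.toMulEquiv.symm.isDomain _,
    @IsIntegrallyClosed.of_equiv (Localization.AtPrime Q') (EGA4.FibLocRing A B q) _ _ e' h2⟩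

/-- Ascent of normality along flat maps with normal fibres. -/
theorem isNormalRing_of_flat_of_fibres (hA : EGA4.IsNormalRing A)
    (hfib : ∀ (p : Ideal A) [p.IsPrime], EGA4.IsNormalRing (p.Fiber B)) :
    EGA4.IsNormalRing B := by
  intro Q _
  obtain ⟨h1, h2⟩ := hA (Q.comap (algebraMap A B))
  exact Groth.Agent.Helper8.FlatReg.normal_atPrime_of_fibres A B
    (fun q _ => normal_fibLocRing_of_fiber A B q (hfib _)) Q

omit [IsNoetherianRing A] [IsNoetherianRing B] [Module.Flat A B] in
/-- Descent of normality along faithfully flat maps. -/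
theorem isNormalRing_of_faithfullyFlat [Module.FaithfullyFlat A B] (hB : EGA4.IsNormalRing B) :
    EGA4.IsNormalRing A := by
  intro P _
  obtain ⟨Q, hQprime, hQP⟩ := Ideal.exists_isPrime_liesOver_of_faithfullyFlat (B := B) P
  letI := Localization.AtPrime.algebraOfLiesOver P Q
  haveI : IsLocalHom (algebraMap (Localization.AtPrime P) (Localization.AtPrime Q)) := by
    rw [RingHom.algebraMap_toAlgebra]
    exact Localization.isLocalHom_localRingHom _ Q (algebraMap A B) Ideal.LiesOver.over
  haveI : Module.FaithfullyFlat (Localization.AtPrime P) (Localization.AtPrime Q) :=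
    Module.FaithfullyFlat.of_flat_of_isLocalHom
  obtain ⟨h1, h2⟩ := hB Q
  exact normal_of_faithfullyFlat (Localization.AtPrime P) (Localization.AtPrime Q)

end fibres

section completion

variable (A : Type u) [CommRing A] [IsNoetherianRing A] [IsLocalRing A]

/-- **S2644.** -/
theorem isNormalRing_iff_cpl_of_geomNormalFormalFibres (hA : EGA4.HasGeomNormalFormalFibres A) :
    EGA4.IsNormalRing A ↔ EGA4.IsNormalRing (EGA4.Cpl A) := by
  haveI : IsNoetherianRing (AdicCompletion (maximalIdeal A) A) :=
    Groth.Agent.Helper8.AdicReg.isNoetherianRing A (maximalIdeal A)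
  haveI : Module.FaithfullyFlat A (AdicCompletion (maximalIdeal A) A) :=
    Module.FaithfullyFlat.of_flat_of_isLocalHom
  constructor
  · intro h
    exact isNormalRing_of_flat_of_fibres A (AdicCompletion (maximalIdeal A) A) h
      (fun p _ => isNormalRing_of_isGeomNormal p.ResidueField _ (hA p))
  · intro h
    exact isNormalRing_of_faithfullyFlat A (AdicCompletion (maximalIdeal A) A) h

end completion

end Groth.Agent.Helper8.Cpl
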