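import Mathlib
import Groth.Prelude
import Groth.Agent.Lib.Helper8.CompFib1
import Groth.Agent.Lib.Helper8.Cpl2
import Groth.Agent.Lib.Helper8.FlatReg12
import Groth.Agent.Lib.Helper8.Fib5

/-!
# Composites of homomorphisms with geometrically normal / reduced / regular fibres
-/

set_option autoImplicit false
universe u

namespace Groth.Agent.Helper8.CompFib

open TensorProduct

section reducedChar

variable (k F : Type u) [Field k] [CommRing F] [Algebra k F]

/-- Geometric reducedness can be tested on finite extensions. -/
theorem isGeometricallyReduced_of_forall_finite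
    (h : ∀ (K : Type u) [Field K] [Algebra k K], Module.Finite k K → IsReduced (K ⊗[k] F)) :
    Algebra.IsGeometricallyReduced k F := by
  rw [Algebra.isGeometricallyReduced_field_iff]
  have h1 : IsReduced (F ⊗[k] AlgebraicClosure k) := by
    refine IsReduced.tensorProduct_of_flat_of_forall_fg fun B' hB' => ?_
    letI : Field B' := (Subalgebra.isField_of_algebraic B').toField
    haveI : Algebra.FiniteType k B' := (Subalgebra.fg_iff_finiteType B').mp hB'
    haveI : Algebra.IsAlgebraic k B' :=
      Algebra.IsAlgebraic.of_injective B'.val Subtype.val_injective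
    haveI : Algebra.IsIntegral k B' := Algebra.IsAlgebraic.isIntegral
    have hfin : Module.Finite k B' := Algebra.IsIntegral.finite
    have h2 := h B' hfin
    exact isReduced_of_injective (Algebra.TensorProduct.comm k F B').toRingEquiv
      (Algebra.TensorProduct.comm k F B').injective
  exact isReduced_of_injective (Algebra.TensorProduct.comm k (AlgebraicClosure k) F).toRingEquiv
    (Algebra.TensorProduct.comm k (AlgebraicClosure k) F).injective

theorem isReduced_tensor_of_isGeometricallyReduced [Algebra.IsGeometricallyReduced k F]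
    (K : Type u) [Field K] [Algebra k K] [Module.Finite k K] : IsReduced (K ⊗[k] F) := by
  haveI : Algebra.IsAlgebraic k K := Algebra.IsAlgebraic.of_finite k K
  infer_instance

end reducedChar

section regularAscent

variable (A B : Type u) [CommRing A] [CommRing B] [IsNoetherianRing A] [IsNoetherianRing B]
  [Algebra A B] [Module.Flat A B]

omit [IsNoetherianRing A] [IsNoetherianRing B] [Module.Flat A B] in
theorem isRegularLocalRing_fibLocRing_of_fiber (q : Ideal B) [q.IsPrime]
    (h : IsRegularRing ((q.comap (algebraMap A B)).Fiber B)) :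
    IsRegularLocalRing (EGA4.FibLocRing A B q) := by
  obtain ⟨Q', hQ'prime, hQ'⟩ := Groth.Agent.Helper8.Fib.exists_fiber_prime
    (q.comap (algebraMap A B)) q rfl
  obtain ⟨e⟩ := Groth.Agent.Helper8.Fib.nonempty_ringEquiv_fibLocRing
    (q.comap (algebraMap A B)) Q' q hQ'
  haveI : IsRegularLocalRing (Localization.AtPrime Q') := inferInstance
  exact IsRegularLocalRing.of_ringEquiv (R := Localization.AtPrime Q') e

theorem isRegularRing_of_flat_of_fibres (hA : IsRegularRing A)
    (hfib : ∀ (p : Ideal A) [p.IsPrime], IsRegularRing (p.Fiber B)) : IsRegularRing B := by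
  rw [isRegularRing_iff]
  intro Q _
  exact Groth.Agent.Helper8.FlatReg.isRegularLocalRing_atPrime_of_fibre A B Q inferInstance
    (isRegularLocalRing_fibLocRing_of_fiber A B Q (hfib _))

end regularAscent

section main

variable (A B C : Type u) [CommRing A] [CommRing B] [CommRing C] [Algebra A B] [Algebra B C]
  [Algebra A C] [IsScalarTower A B C]

theorem isNormalRing_fibre_comp [Module.Flat B C] (p : Ideal A) [p.IsPrime]
    [IsNoetherianRing (p.Fiber B)] [IsNoetherianRing (p.Fiber C)]
    (K : Type u) [Field K] [Algebra p.ResidueField K] [Module.Finite p.ResidueField K]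
    (hB : EGA4.IsNormalRing (K ⊗[p.ResidueField] p.Fiber B))
    (hC : ∀ (q : Ideal B) [q.IsPrime], EGA4.IsGeomNormal q.ResidueField (q.Fiber C)) :
    EGA4.IsNormalRing (K ⊗[p.ResidueField] p.Fiber C) :=
  comp_fibre B C A (fun R _ => EGA4.IsNormalRing R)
    (fun _ _ _ _ e h => Groth.Agent.Helper8.Cpl.isNormalRing_of_ringEquiv e h)
    (fun R S _ _ _ _ _ _ hR hfib =>
      Groth.Agent.Helper8.Cpl.isNormalRing_of_flat_of_fibres R S hR hfib) p K hB
    (fun q _ K' _ _ hfin => hC q K' hfin)

theorem isRegularRing_fibre_comp [Module.Flat B C] (p : Ideal A) [p.IsPrime]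
    [IsNoetherianRing (p.Fiber B)] [IsNoetherianRing (p.Fiber C)]
    (K : Type u) [Field K] [Algebra p.ResidueField K] [Module.Finite p.ResidueField K]
    (hB : IsRegularRing (K ⊗[p.ResidueField] p.Fiber B))
    (hC : ∀ (q : Ideal B) [q.IsPrime], CAlg.IsGeometricallyRegular q.ResidueField (q.Fiber C)) :
    IsRegularRing (K ⊗[p.ResidueField] p.Fiber C) :=
  comp_fibre B C A (fun R _ => IsRegularRing R)
    (fun R S _ _ e h => @IsRegularRing.of_ringEquiv R _ S _ e h)
    (fun R S _ _ _ _ _ _ hR hfib => isRegularRing_of_flat_of_fibres R S hR hfib) p K hB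
    (fun q _ K' _ _ hfin => hC q K' hfin)

theorem isReduced_fibre_comp [Module.Flat B C] (p : Ideal A) [p.IsPrime]
    [IsNoetherianRing (p.Fiber B)] [IsNoetherianRing (p.Fiber C)]
    (K : Type u) [Field K] [Algebra p.ResidueField K] [Module.Finite p.ResidueField K]
    (hB : IsReduced (K ⊗[p.ResidueField] p.Fiber B))
    (hC : ∀ (q : Ideal B) [q.IsPrime],
      Algebra.IsGeometricallyReduced q.ResidueField (q.Fiber C)) :
    IsReduced (K ⊗[p.ResidueField] p.Fiber C) :=
  comp_fibre B C A (fun R _ => IsReduced R)
    (fun R S _ _ e h => @isReduced_of_injective S R _ _ _ _ _ e.symm e.symm.injective h)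
    (fun R S _ _ _ _ _ _ hR hfib =>
      @Groth.Agent.Helper8.Cpl.isReduced_of_flat_of_fibres R S _ _ _ _ _ hR
        (fun p _ _ => hfib p)) p K hB
    (fun q _ K' _ _ hfin => by
      haveI := hC q
      haveI := hfin
      exact isReduced_tensor_of_isGeometricallyReduced q.ResidueField (q.Fiber C) K')

end main

end Groth.Agent.Helper8.CompFib
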