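import Mathlib
import Groth.Prelude
import Groth.Agent.Lib.Helper8.AdicReg1

/-!
# The map of completions induced by a local homomorphism of Noetherian local rings
-/

set_option autoImplicit false
universe u

namespace Groth.Agent.Helper8.CplMap

open IsLocalRing

variable (A B : Type u) [CommRing A] [CommRing B] [IsNoetherianRing A] [IsLocalRing A]
  [IsNoetherianRing B] [IsLocalRing B] [Algebra A B] [IsLocalHom (algebraMap A B)]

omit [IsNoetherianRing A] [IsNoetherianRing B] in
theorem map_maximalIdeal_le :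
    (maximalIdeal A).map (algebraMap A B) ≤ maximalIdeal B :=
  IsLocalRing.map_maximalIdeal_le (algebraMap A B)

omit [IsNoetherianRing A] [IsNoetherianRing B] in
theorem pow_le_comap (n : ℕ) :
    (maximalIdeal A) ^ n ≤ ((maximalIdeal B) ^ n).comap (Algebra.ofId A B) := by
  change _ ≤ ((maximalIdeal B) ^ n).comap (algebraMap A B)
  rw [← Ideal.map_le_iff_le_comap, Ideal.map_pow]
  exact Ideal.pow_right_mono (map_maximalIdeal_le A B) n

/-- The level maps `Â → B/𝔪ⁿ`. -/
noncomputable def lvl (n : ℕ) : EGA4.Cpl A →ₐ[A] B ⧸ (maximalIdeal B) ^ n :=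
  (Ideal.quotientMapₐ ((maximalIdeal B) ^ n) (Algebra.ofId A B)
    (pow_le_comap A B n)).comp (AdicCompletion.evalₐ (maximalIdeal A) n)

omit [IsNoetherianRing A] [IsNoetherianRing B] in
theorem lvl_mk (n : ℕ) (c : AdicCompletion.AdicCauchySequence (maximalIdeal A) A) :
    lvl A B n (AdicCompletion.mk (maximalIdeal A) A c) =
      Ideal.Quotient.mk _ (algebraMap A B (c.val n)) := by
  simp [lvl, AdicCompletion.evalₐ_mk]

omit [IsNoetherianRing A] [IsNoetherianRing B] in
theorem lvl_compat {m n : ℕ} (hle : m ≤ n) :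
    (Ideal.Quotient.factorₐ A (Ideal.pow_le_pow_right hle)).comp (lvl A B n) = lvl A B m := by
  ext x
  obtain ⟨c, rfl⟩ := AdicCompletion.mk_surjective (maximalIdeal A) A x
  rw [AlgHom.comp_apply, lvl_mk, lvl_mk]
  have h1 := AdicCompletion.Ideal.mk_eq_mk (maximalIdeal A) hle c
  rw [Ideal.Quotient.eq] at h1
  change Ideal.Quotient.mk _ (algebraMap A B (c.val n)) = _
  rw [Ideal.Quotient.eq, ← map_sub]
  have h2 := pow_le_comap A B m h1
  exact h2

/-- The canonical map `Â → B^`. -/
noncomputable def cplMap : EGA4.Cpl A →ₐ[A] EGA4.Cpl B :=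
  AdicCompletion.liftAlgHom (maximalIdeal B) (lvl A B) (fun hle => lvl_compat A B hle)

omit [IsNoetherianRing A] [IsNoetherianRing B] in
theorem evalₐ_cplMap (n : ℕ) (x : EGA4.Cpl A) :
    AdicCompletion.evalₐ (maximalIdeal B) n (cplMap A B x) = lvl A B n x :=
  AdicCompletion.evalₐ_liftAlgHom _ _ _ _ _

omit [IsNoetherianRing A] [IsNoetherianRing B] in
theorem cplMap_comp_algebraMap :
    (cplMap A B).toRingHom.comp (algebraMap A (EGA4.Cpl A)) =
      (algebraMap B (EGA4.Cpl B)).comp (algebraMap A B) := by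
  refine RingHom.ext fun a => ?_
  change (cplMap A B) (algebraMap A (EGA4.Cpl A) a) = _
  rw [AlgHom.commutes]
  exact IsScalarTower.algebraMap_apply A B (EGA4.Cpl B) a

theorem map_cplMap_maximalIdeal_le :
    (maximalIdeal (EGA4.Cpl A)).map (cplMap A B).toRingHom ≤ maximalIdeal (EGA4.Cpl B) := by
  rw [AdicCompletion.maximalIdeal_eq_map (R := A), Ideal.map_map, cplMap_comp_algebraMap,
    ← Ideal.map_map, AdicCompletion.maximalIdeal_eq_map (R := B)]
  exact Ideal.map_mono (map_maximalIdeal_le A B)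

/-- The `Â`-algebra structure on `B^`. -/
@[reducible] noncomputable def algebraCpl : Algebra (EGA4.Cpl A) (EGA4.Cpl B) :=
  (cplMap A B).toRingHom.toAlgebra

omit [IsNoetherianRing A] [IsNoetherianRing B] in
theorem isScalarTower_cpl :
    letI := algebraCpl A B
    IsScalarTower A (EGA4.Cpl A) (EGA4.Cpl B) := by
  letI := algebraCpl A B
  refine IsScalarTower.of_algebraMap_eq fun a => ?_
  change _ = (cplMap A B) (algebraMap A (EGA4.Cpl A) a)
  rw [AlgHom.commutes]

theorem isLocalHom_cpl :
    letI := algebraCpl A B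
    IsLocalHom (algebraMap (EGA4.Cpl A) (EGA4.Cpl B)) := by
  letI := algebraCpl A B
  exact ((local_hom_TFAE (algebraMap (EGA4.Cpl A) (EGA4.Cpl B))).out 0 2 rfl rfl).mpr
    (map_cplMap_maximalIdeal_le A B)

end Groth.Agent.Helper8.CplMap
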