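import Mathlib
import Groth.Prelude
import Groth.Agent.Lib.Helper8.CplMap1
import Groth.Agent.Lib.Helper1.LocalCrit

/-!
# Flatness of the map of completions induced by a flat local homomorphism
-/

set_option autoImplicit false
universe u

namespace Groth.Agent.Helper8.CplMap

open IsLocalRing TensorProduct

section lemmaT

variable (A R M : Type*) [CommRing A] [CommRing R] [Algebra A R]
  [AddCommGroup M] [Module A M] [Module R M] [IsScalarTower A R M] [Module.Flat A M]

open AlgebraTensorModule in
/-- If `R` and the `R`-module `M` are flat over `A`, then `IR ⊗_R M → M` is injective for every ideal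
`I` of `A`. -/
theorem rTensor_subtype_map_injective (I : Ideal A) :
    Function.Injective (LinearMap.rTensor M
      (Submodule.subtype (I.map (algebraMap A R)))) := by
  rw [← LinearMap.lTensor_inj_iff_rTensor_inj]
  let ι : I →ₗ[A] A := Submodule.subtype I
  have hι : Function.Injective ι := Subtype.val_injective
  let g₀ : R ⊗[A] I →ₗ[R] R :=
    (AlgebraTensorModule.rid A R R).toLinearMap ∘ₗ (AlgebraTensorModule.lTensor R R ι)
  have hg₀ : ∀ (a : R) (i : I), g₀ (a ⊗ₜ[A] i) = (i : A) • a := by
    intro a i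
    simp [g₀, ι]
  have hg₀mem : ∀ x, g₀ x ∈ I.map (algebraMap A R) := by
    intro x
    induction x using TensorProduct.induction_on with
    | zero => simp
    | tmul a i =>
      rw [hg₀, Algebra.smul_def]
      exact Ideal.mul_mem_right _ _ (Ideal.mem_map_of_mem _ i.2)
    | add x y hx hy => rw [map_add]; exact Ideal.add_mem _ hx hy
  let g : R ⊗[A] I →ₗ[R] (I.map (algebraMap A R)) := g₀.codRestrict _ hg₀mem
  have hg_surj : Function.Surjective g := by
    rintro ⟨y, hy⟩
    have : ∃ x, g₀ x = y := by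
      refine Submodule.span_induction (p := fun y _ => ∃ x, g₀ x = y) ?_ ?_ ?_ ?_ hy
      · rintro _ ⟨i, hi, rfl⟩
        refine ⟨(1 : R) ⊗ₜ[A] (⟨i, hi⟩ : I), ?_⟩
        rw [hg₀, Algebra.smul_def, mul_one]
      · exact ⟨0, map_zero _⟩
      · rintro _ _ _ _ ⟨x1, rfl⟩ ⟨x2, rfl⟩
        exact ⟨x1 + x2, map_add _ _ _⟩
      · rintro r _ _ ⟨x1, rfl⟩
        exact ⟨r • x1, map_smul _ _ _⟩
    obtain ⟨x, hx⟩ := this
    exact ⟨x, Subtype.ext hx⟩
  have hcomp : (Submodule.subtype (I.map (algebraMap A R))) ∘ₗ g = g₀ :=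
    LinearMap.subtype_comp_codRestrict _ _ _
  -- injectivity of `M ⊗ g₀`
  have h1 : Function.Injective (LinearMap.lTensor M (AlgebraTensorModule.lTensor R R ι)) := by
    have hA : Function.Injective (AlgebraTensorModule.lTensor R M ι) := by
      rw [coe_lTensor]
      exact Module.Flat.lTensor_preserves_injective_linearMap ι hι
    have key := lTensor_comp_cancelBaseChange (R := A) (A := R) (B := R) (M := M) ι
    have h2 : Function.Injective ((cancelBaseChange A R R M A).toLinearMap ∘ₗ
        AlgebraTensorModule.lTensor R M (AlgebraTensorModule.lTensor R R ι)) := by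
      rw [← key, LinearMap.coe_comp, LinearEquiv.coe_coe]
      exact hA.comp (cancelBaseChange A R R M I).injective
    rw [LinearMap.coe_comp] at h2
    exact h2.of_comp
  have h3 : Function.Injective (LinearMap.lTensor M g₀) := by
    have : LinearMap.lTensor M g₀ =
        LinearMap.lTensor M (AlgebraTensorModule.rid A R R).toLinearMap ∘ₗ
          LinearMap.lTensor M (AlgebraTensorModule.lTensor R R ι) := by
      rw [← LinearMap.lTensor_comp]
    rw [this, LinearMap.coe_comp]
    exact ((AlgebraTensorModule.rid A R R).lTensor M).injective.comp h1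
  rw [← hcomp, LinearMap.lTensor_comp, LinearMap.coe_comp] at h3
  have hs : Function.Surjective (LinearMap.lTensor M g) := LinearMap.lTensor_surjective M hg_surj
  intro x y hxy
  obtain ⟨x', rfl⟩ := hs x
  obtain ⟨y', rfl⟩ := hs y
  rw [h3 hxy]

end lemmaT

section flat

variable (A B : Type u) [CommRing A] [CommRing B] [IsNoetherianRing A] [IsLocalRing A]
  [IsNoetherianRing B] [IsLocalRing B] [Algebra A B] [IsLocalHom (algebraMap A B)]
  [Module.Flat A B]

theorem flat_cpl :
    letI := algebraCpl A B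
    Module.Flat (EGA4.Cpl A) (EGA4.Cpl B) := by
  letI := algebraCpl A B
  haveI := isScalarTower_cpl A B
  haveI := isLocalHom_cpl A B
  haveI : IsNoetherianRing (EGA4.Cpl A) := Groth.Agent.Helper8.AdicReg.isNoetherianRing A _
  haveI : IsNoetherianRing (EGA4.Cpl B) := Groth.Agent.Helper8.AdicReg.isNoetherianRing B _
  haveI : Module.Flat A (EGA4.Cpl B) := Module.Flat.trans A B (EGA4.Cpl B)
  have hImax : (maximalIdeal A).map (algebraMap A (EGA4.Cpl A)) = maximalIdeal (EGA4.Cpl A) :=
    (AdicCompletion.maximalIdeal_eq_map).symm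
  haveI : ((maximalIdeal A).map (algebraMap A (EGA4.Cpl A))).IsMaximal := by
    rw [hImax]; infer_instance
  have hI' : ((maximalIdeal A).map (algebraMap A (EGA4.Cpl A))).map
      (algebraMap (EGA4.Cpl A) (EGA4.Cpl B)) ≠ ⊤ := by
    rw [hImax]
    exact (IsLocalRing.map_maximalIdeal_lt_top _).ne
  have h1 := rTensor_subtype_map_injective A (EGA4.Cpl A) (EGA4.Cpl B) (maximalIdeal A)
  letI : Field (EGA4.Cpl A ⧸ (maximalIdeal A).map (algebraMap A (EGA4.Cpl A))) :=
    Ideal.Quotient.field _
  haveI h2 : Module.Flat (EGA4.Cpl A ⧸ (maximalIdeal A).map (algebraMap A (EGA4.Cpl A)))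
      ((EGA4.Cpl A ⧸ (maximalIdeal A).map (algebraMap A (EGA4.Cpl A))) ⊗[EGA4.Cpl A]
        EGA4.Cpl B) := by
    haveI := Module.Free.of_divisionRing
      (EGA4.Cpl A ⧸ (maximalIdeal A).map (algebraMap A (EGA4.Cpl A)))
      ((EGA4.Cpl A ⧸ (maximalIdeal A).map (algebraMap A (EGA4.Cpl A))) ⊗[EGA4.Cpl A]
        EGA4.Cpl B)
    exact Module.Flat.of_free
  exact Groth.Agent.Helper1.LocalCrit.flat_of_rTensor_injective_of_flat_quotient
    ((maximalIdeal A).map (algebraMap A (EGA4.Cpl A))) hI' h1

theorem faithfullyFlat_cpl :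
    letI := algebraCpl A B
    Module.FaithfullyFlat (EGA4.Cpl A) (EGA4.Cpl B) := by
  letI := algebraCpl A B
  haveI := isLocalHom_cpl A B
  haveI := flat_cpl A B
  haveI : IsNoetherianRing (EGA4.Cpl A) := Groth.Agent.Helper8.AdicReg.isNoetherianRing A _
  haveI : IsNoetherianRing (EGA4.Cpl B) := Groth.Agent.Helper8.AdicReg.isNoetherianRing B _
  exact Module.FaithfullyFlat.of_flat_of_isLocalHom

end flat

end Groth.Agent.Helper8.CplMap
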