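import Mathlib
import Groth.Prelude
import Groth.Agent.Lib.Helper8.CplMap2
import Groth.Agent.Lib.Helper8.Fib5
import Groth.Agent.Lib.Helper8.FlatReg5

/-!
# Formal fibres and flat local homomorphisms: the Cohen–Macaulay case
-/

set_option autoImplicit false
universe u

namespace Groth.Agent.Helper8.CplMap

open IsLocalRing TensorProduct LocCoh

theorem isCohenMacaulayRing_of_isRegularRing (R : Type u) [CommRing R] [IsRegularRing R] :
    IsCohenMacaulayRing R :=
  ⟨fun p _ =>
    Groth.Agent.Helper8.FlatReg.isCohenMacaulayLocalRing_of_isRegularLocalRing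
      (Localization.AtPrime p)⟩

/-- A geometrically regular algebra over a field is a regular ring. -/
theorem isRegularRing_of_isGeometricallyRegular (k : Type u) [Field k] (S : Type u) [CommRing S]
    [Algebra k S] (h : CAlg.IsGeometricallyRegular k S) : IsRegularRing S := by
  have h1 : IsRegularRing (TensorProduct k k S) := h k inferInstance
  exact IsRegularRing.of_ringEquiv (R := TensorProduct k k S)
    (Algebra.TensorProduct.lid k S).toRingEquiv

theorem cmFibres_of_isRegularHom (B C : Type u) [CommRing B] [CommRing C] [Algebra B C]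
    (h : CAlg.IsRegularHom B C) (q : Ideal B) [q.IsPrime] :
    IsCohenMacaulayRing (q.Fiber C) := by
  haveI := isRegularRing_of_isGeometricallyRegular _ _ (h.2 q).2
  exact isCohenMacaulayRing_of_isRegularRing _

/-- **S4744.** -/
theorem hasCMFormalFibres_of_CM_hom_to_local (A A' : Type u) [CommRing A] [CommRing A']
    [IsNoetherianRing A] [IsNoetherianRing A'] [IsLocalRing A] [IsLocalRing A'] [Algebra A A']
    [IsLocalHom (algebraMap A A')] [Module.Flat A A']
    (hf : ∀ (p : Ideal A) [p.IsPrime], IsCohenMacaulayRing (p.Fiber A'))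
    (hA' : CAlg.IsRegularHom A' (EGA4.Cpl A')) : EGA4.HasCMFormalFibres A := by
  haveI : IsNoetherianRing (EGA4.Cpl A) := Groth.Agent.Helper8.AdicReg.isNoetherianRing A _
  haveI : IsNoetherianRing (EGA4.Cpl A') := Groth.Agent.Helper8.AdicReg.isNoetherianRing A' _
  obtain ⟨hflat, hAC⟩ := Groth.Agent.Helper8.Fib.cmFibres_comp A A' (EGA4.Cpl A') hf
    (fun q _ => cmFibres_of_isRegularHom A' (EGA4.Cpl A') hA' q)
  letI := algebraCpl A A'
  haveI := isScalarTower_cpl A A'
  haveI := faithfullyFlat_cpl A A'
  exact (Groth.Agent.Helper8.Fib.cmFibres_descent A (EGA4.Cpl A) (EGA4.Cpl A') hAC).2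

end Groth.Agent.Helper8.CplMap
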