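import Mathlib
import Groth.Prelude
import Groth.Agent.Lib.Helper8.DescFib1
import Groth.Agent.Lib.Helper8.FlatReg9
import Groth.Agent.Lib.Helper8.Fib5

/-!
# Descent of regularity and reducedness of fibres along faithfully flat homomorphisms
-/

set_option autoImplicit false
universe u

namespace Groth.Agent.Helper8.DescFib

open TensorProduct

theorem isRegularRing_of_faithfullyFlat (R S : Type u) [CommRing R] [CommRing S] [Algebra R S]
    [Module.FaithfullyFlat R S] (h : IsRegularRing S) : IsRegularRing R := by
  haveI : IsNoetherianRing R := Groth.Agent.Helper8.FlatReg.isNoetherianRing_of_faithfullyFlat R S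
  rw [isRegularRing_iff]
  intro p _
  obtain ⟨⟨P, hP⟩, hPp⟩ := PrimeSpectrum.comap_surjective_of_faithfullyFlat (A := R) (B := S)
    ⟨p, inferInstance⟩
  have hPp' : P.comap (algebraMap R S) = p := congrArg PrimeSpectrum.asIdeal hPp
  haveI : P.LiesOver p := ⟨hPp'.symm⟩
  exact Groth.Agent.Helper8.FlatReg.isRegularLocalRing_of_flat_liesOver R S p P inferInstance

variable (A B C : Type u) [CommRing A] [CommRing B] [CommRing C] [Algebra A B] [Algebra B C]
  [Algebra A C] [IsScalarTower A B C] [Module.FaithfullyFlat B C]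

theorem isRegularRing_fibre_descent (p : Ideal A) [p.IsPrime] (K : Type u) [Field K]
    [Algebra p.ResidueField K] (h : IsRegularRing (K ⊗[p.ResidueField] p.Fiber C)) :
    IsRegularRing (K ⊗[p.ResidueField] p.Fiber B) :=
  descent_fibre A B C (fun R _ => IsRegularRing R)
    (fun R S _ _ e h => @IsRegularRing.of_ringEquiv R _ S _ e h)
    (fun R S _ _ _ _ h => isRegularRing_of_faithfullyFlat R S h) p K h

theorem isReduced_fibre_descent (p : Ideal A) [p.IsPrime] (K : Type u) [Field K]
    [Algebra p.ResidueField K] (h : IsReduced (K ⊗[p.ResidueField] p.Fiber C)) :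
    IsReduced (K ⊗[p.ResidueField] p.Fiber B) :=
  descent_fibre A B C (fun R _ => IsReduced R)
    (fun R S _ _ e h => @isReduced_of_injective S R _ _ _ _ _ e.symm e.symm.injective h)
    (fun R S _ _ _ _ h => @isReduced_of_injective R S _ _ _ _ _ (algebraMap R S)
      (FaithfulSMul.algebraMap_injective R S) h) p K h

theorem isNoetherianRing_fiber_descent (p : Ideal A) [p.IsPrime]
    (h : IsNoetherianRing (p.Fiber C)) : IsNoetherianRing (p.Fiber B) := by
  have h1 : IsNoetherianRing (p.ResidueField ⊗[p.ResidueField] p.Fiber C) :=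
    isNoetherianRing_of_ringEquiv _ (Algebra.TensorProduct.lid p.ResidueField (p.Fiber C)).symm.toRingEquiv
  have h2 := descent_fibre A B C (fun R _ => IsNoetherianRing R)
    (fun R S _ _ e h => @isNoetherianRing_of_ringEquiv R _ S _ e h)
    (fun R S _ _ _ _ h => @Groth.Agent.Helper8.FlatReg.isNoetherianRing_of_faithfullyFlat R S _ _ _ _ h)
    p p.ResidueField h1
  exact isNoetherianRing_of_ringEquiv _ (Algebra.TensorProduct.lid p.ResidueField (p.Fiber B)).toRingEquiv

end Groth.Agent.Helper8.DescFib
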