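import Mathlib
import Groth.Prelude
import Groth.Agent.Lib.Helper8.CompFib2
import Groth.Agent.Lib.Helper8.DescFib2
import Groth.Agent.Lib.Helper8.CplMap3
import Groth.Agent.Lib.Helper8.RegularLocal
import Groth.Agent.Lib.Helper8.RegPS1
import Groth.Agent.Lib.Helper8.Serre2

/-!
# Regular rings are normal and reduced; formal fibres along regular/normal/reduced local homs
-/

set_option autoImplicit false
universe u

namespace Groth.Agent.Helper8.CompFib

open TensorProduct LocCoh IsLocalRing

section regular

variable (T : Type u) [CommRing T] [IsRegularRing T]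

theorem isRegularRing_localization_atPrime (P : Ideal T) [P.IsPrime] :
    IsRegularRing (Localization.AtPrime P) := by
  haveI : IsNoetherianRing (Localization.AtPrime P) :=
    IsLocalization.isNoetherianRing P.primeCompl _ inferInstance
  rw [isRegularRing_iff]
  intro Q' _
  exact IsRegularLocalRing.of_ringEquiv
    (IsLocalization.localizationLocalizationAtPrimeIsoLocalization P.primeCompl Q').toRingEquiv

theorem isNormalRing_of_isRegularRing : EGA4.IsNormalRing T := by
  intro P _
  haveI hreg : IsRegularRing (Localization.AtPrime P) := isRegularRing_localization_atPrime T P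
  haveI : IsDomain (Localization.AtPrime P) := Groth.Agent.Helper8.RLR.isDomain _
  refine ⟨inferInstance, ?_⟩
  exact Groth.Agent.Helper8.Serre.isIntegrallyClosed_of_R1_S2 _
    (Groth.Agent.Helper8.RegPS.hasRk_of_isRegularRing _ 1)
    ((Groth.Agent.Helper8.Fib.isCohenMacaulayRing_iff_forall_hasSk _).mp
      (Groth.Agent.Helper8.CplMap.isCohenMacaulayRing_of_isRegularRing _) 2)

theorem isReduced_of_isRegularRing : IsReduced T :=
  isReduced_ofLocalizationMaximal T fun J hJ => by
    haveI : J.IsPrime := hJ.isPrime
    haveI : IsDomain (Localization.AtPrime J) := Groth.Agent.Helper8.RLR.isDomain _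
    infer_instance

end regular

section hom

variable (A B C : Type u) [CommRing A] [CommRing B] [CommRing C] [Algebra A B] [Algebra B C]
  [Algebra A C] [IsScalarTower A B C]

theorem isRegularHom_comp (hAB : CAlg.IsRegularHom A B) (hBC : CAlg.IsRegularHom B C)
    (hN : ∀ (p : Ideal A) [p.IsPrime], IsNoetherianRing (p.Fiber C)) :
    CAlg.IsRegularHom A C := by
  haveI : Module.Flat A B := hAB.1
  haveI : Module.Flat B C := hBC.1
  refine ⟨Module.Flat.trans A B C, fun p _ => ⟨hN p, ?_⟩⟩
  intro K _ _ hfin
  haveI := hfin
  haveI := (hAB.2 p).1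
  haveI := hN p
  exact isRegularRing_fibre_comp A B C p K ((hAB.2 p).2 K hfin) (fun q _ => (hBC.2 q).2)

theorem isRegularHom_descent (hAC : CAlg.IsRegularHom A C) [Module.FaithfullyFlat B C] :
    CAlg.IsRegularHom A B := by
  haveI : Module.Flat A C := hAC.1
  haveI : Module.Flat A B := Groth.Agent.Helper8.Fib.flat_of_faithfullyFlat_comp A B C
  refine ⟨inferInstance, fun p _ => ⟨?_, ?_⟩⟩
  · exact Groth.Agent.Helper8.DescFib.isNoetherianRing_fiber_descent A B C p (hAC.2 p).1
  · intro K _ _ hfin
    exact Groth.Agent.Helper8.DescFib.isRegularRing_fibre_descent A B C p K ((hAC.2 p).2 K hfin)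

theorem isGeomNormal_of_isGeometricallyRegular (k : Type u) [Field k] (S : Type u) [CommRing S]
    [Algebra k S] (h : CAlg.IsGeometricallyRegular k S) : EGA4.IsGeomNormal k S := by
  intro K _ _ hfin
  haveI := h K hfin
  exact isNormalRing_of_isRegularRing _

theorem isGeometricallyReduced_of_isGeometricallyRegular (k : Type u) [Field k] (S : Type u)
    [CommRing S] [Algebra k S] (h : CAlg.IsGeometricallyRegular k S) :
    Algebra.IsGeometricallyReduced k S := by
  apply isGeometricallyReduced_of_forall_finite
  intro K _ _ hfin
  haveI := h K hfin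
  exact isReduced_of_isRegularRing _

end hom

end Groth.Agent.Helper8.CompFib
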