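import Mathlib
import Groth.Prelude
import Groth.Agent.Lib.Helper8.CompFib3

/-!
# Formal fibres along regular / normal / reduced local homomorphisms
-/

set_option autoImplicit false
universe u

namespace Groth.Agent.Helper8.CompFib

open TensorProduct LocCoh IsLocalRing

theorem isNormalRing_fibre_descent (A B C : Type u) [CommRing A] [CommRing B] [CommRing C]
    [Algebra A B] [Algebra B C] [Algebra A C] [IsScalarTower A B C] [Module.FaithfullyFlat B C]
    (p : Ideal A) [p.IsPrime] (K : Type u) [Field K]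
    [Algebra p.ResidueField K] (h : EGA4.IsNormalRing (K ⊗[p.ResidueField] p.Fiber C)) :
    EGA4.IsNormalRing (K ⊗[p.ResidueField] p.Fiber B) :=
  Groth.Agent.Helper8.DescFib.descent_fibre A B C (fun R _ => EGA4.IsNormalRing R)
    (fun _ _ _ _ e h => Groth.Agent.Helper8.Cpl.isNormalRing_of_ringEquiv e h)
    (fun R S _ _ _ _ h => Groth.Agent.Helper8.Cpl.isNormalRing_of_faithfullyFlat R S h) p K h

variable (A A' : Type u) [CommRing A] [CommRing A'] [IsNoetherianRing A] [IsNoetherianRing A']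
  [IsLocalRing A] [IsLocalRing A'] [Algebra A A'] [IsLocalHom (algebraMap A A')]

/-- **S4704.** -/
theorem isRegularHom_cpl_of_isRegularHom_to_local (hf : CAlg.IsRegularHom A A')
    (hA' : CAlg.IsRegularHom A' (EGA4.Cpl A')) : CAlg.IsRegularHom A (EGA4.Cpl A) := by
  haveI : Module.Flat A A' := hf.1
  haveI : IsNoetherianRing (EGA4.Cpl A) := Groth.Agent.Helper8.AdicReg.isNoetherianRing A _
  haveI : IsNoetherianRing (EGA4.Cpl A') := Groth.Agent.Helper8.AdicReg.isNoetherianRing A' _
  have hAC : CAlg.IsRegularHom A (EGA4.Cpl A') :=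
    isRegularHom_comp A A' (EGA4.Cpl A') hf hA'
      (fun p _ => Groth.Agent.Helper8.Fib.isNoetherianRing_fiber (S := EGA4.Cpl A') p)
  letI := Groth.Agent.Helper8.CplMap.algebraCpl A A'
  haveI := Groth.Agent.Helper8.CplMap.isScalarTower_cpl A A'
  haveI := Groth.Agent.Helper8.CplMap.faithfullyFlat_cpl A A'
  exact isRegularHom_descent A (EGA4.Cpl A) (EGA4.Cpl A') hAC

/-- **S4706.** -/
theorem hasGeomNormalFormalFibres_of_isNormalHom_to_local (hf : EGA4.IsNormalHom A A')
    (hA' : CAlg.IsRegularHom A' (EGA4.Cpl A')) : EGA4.HasGeomNormalFormalFibres A := by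
  haveI : Module.Flat A A' := hf.1
  haveI : IsNoetherianRing (EGA4.Cpl A) := Groth.Agent.Helper8.AdicReg.isNoetherianRing A _
  haveI : IsNoetherianRing (EGA4.Cpl A') := Groth.Agent.Helper8.AdicReg.isNoetherianRing A' _
  intro p _ K _ _ hfin
  haveI := hfin
  haveI := Groth.Agent.Helper8.Fib.isNoetherianRing_fiber (S := A') p
  haveI := Groth.Agent.Helper8.Fib.isNoetherianRing_fiber (S := EGA4.Cpl A') p
  have h1 : EGA4.IsNormalRing (K ⊗[p.ResidueField] p.Fiber (EGA4.Cpl A')) :=
    isNormalRing_fibre_comp A A' (EGA4.Cpl A') p K (hf.2 p K hfin)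
      (fun q _ => isGeomNormal_of_isGeometricallyRegular _ _ (hA'.2 q).2)
  letI := Groth.Agent.Helper8.CplMap.algebraCpl A A'
  haveI := Groth.Agent.Helper8.CplMap.isScalarTower_cpl A A'
  haveI := Groth.Agent.Helper8.CplMap.faithfullyFlat_cpl A A'
  exact isNormalRing_fibre_descent A (EGA4.Cpl A) (EGA4.Cpl A') p K h1

/-- **S4705.** -/
theorem hasGeomReducedFormalFibres_of_reduced_hom_to_local [Module.Flat A A']
    (hf : ∀ (p : Ideal A) [p.IsPrime],
      Algebra.IsGeometricallyReduced p.ResidueField (p.Fiber A'))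
    (hA' : CAlg.IsRegularHom A' (EGA4.Cpl A')) : EGA4.HasGeomReducedFormalFibres A := by
  haveI : IsNoetherianRing (EGA4.Cpl A) := Groth.Agent.Helper8.AdicReg.isNoetherianRing A _
  haveI : IsNoetherianRing (EGA4.Cpl A') := Groth.Agent.Helper8.AdicReg.isNoetherianRing A' _
  intro p _
  apply isGeometricallyReduced_of_forall_finite
  intro K _ _ hfin
  haveI := hfin
  haveI := Groth.Agent.Helper8.Fib.isNoetherianRing_fiber (S := A') p
  haveI := Groth.Agent.Helper8.Fib.isNoetherianRing_fiber (S := EGA4.Cpl A') p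
  haveI := hf p
  have h1 : IsReduced (K ⊗[p.ResidueField] p.Fiber (EGA4.Cpl A')) :=
    isReduced_fibre_comp A A' (EGA4.Cpl A') p K
      (isReduced_tensor_of_isGeometricallyReduced _ _ K)
      (fun q _ => isGeometricallyReduced_of_isGeometricallyRegular _ _ (hA'.2 q).2)
  letI := Groth.Agent.Helper8.CplMap.algebraCpl A A'
  haveI := Groth.Agent.Helper8.CplMap.isScalarTower_cpl A A'
  haveI := Groth.Agent.Helper8.CplMap.faithfullyFlat_cpl A A'
  exact Groth.Agent.Helper8.DescFib.isReduced_fibre_descent A (EGA4.Cpl A) (EGA4.Cpl A') p K h1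

end Groth.Agent.Helper8.CompFib
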