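import Mathlib
import Groth.Prelude
import Groth.Agent.Lib.Helper8.AdicReg1

/-!
# The completion of a quotient of a Noetherian local ring
-/

set_option autoImplicit false
universe u

namespace Groth.Agent.Helper8.CplQuot

open IsLocalRing

variable (A : Type u) [CommRing A] [IsNoetherianRing A] [IsLocalRing A] (I : Ideal A)
  [Nontrivial (A ⧸ I)]

omit [IsNoetherianRing A] in
theorem map_maximalIdeal_mk :
    (maximalIdeal A).map (Ideal.Quotient.mk I) = maximalIdeal (A ⧸ I) :=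
  map_maximalIdeal_of_surjective _ Ideal.Quotient.mk_surjective

omit [IsNoetherianRing A] in
theorem pow_le_comap (n : ℕ) :
    (maximalIdeal A) ^ n ≤
      ((maximalIdeal (A ⧸ I)) ^ n).comap (Ideal.Quotient.mkₐ A I) := by
  change _ ≤ ((maximalIdeal (A ⧸ I)) ^ n).comap (Ideal.Quotient.mk I)
  rw [← Ideal.map_le_iff_le_comap, Ideal.map_pow, map_maximalIdeal_mk]

/-- The level maps `Â → (A/I)/𝔪ⁿ`. -/
noncomputable def lvl (n : ℕ) : EGA4.Cpl A →ₐ[A] (A ⧸ I) ⧸ (maximalIdeal (A ⧸ I)) ^ n :=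
  (Ideal.quotientMapₐ ((maximalIdeal (A ⧸ I)) ^ n) (Ideal.Quotient.mkₐ A I)
    (pow_le_comap A I n)).comp (AdicCompletion.evalₐ (maximalIdeal A) n)

omit [IsNoetherianRing A] in
theorem lvl_mk (n : ℕ) (c : AdicCompletion.AdicCauchySequence (maximalIdeal A) A) :
    lvl A I n (AdicCompletion.mk (maximalIdeal A) A c) =
      Ideal.Quotient.mk _ (Ideal.Quotient.mk I (c.val n)) := by
  simp [lvl, AdicCompletion.evalₐ_mk]

omit [IsNoetherianRing A] in
theorem lvl_compat {m n : ℕ} (hle : m ≤ n) :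
    (Ideal.Quotient.factorₐ A (Ideal.pow_le_pow_right hle)).comp (lvl A I n) = lvl A I m := by
  ext x
  obtain ⟨c, rfl⟩ := AdicCompletion.mk_surjective (maximalIdeal A) A x
  rw [AlgHom.comp_apply, lvl_mk, lvl_mk]
  have h1 := AdicCompletion.Ideal.mk_eq_mk (maximalIdeal A) hle c
  rw [Ideal.Quotient.eq] at h1
  change Ideal.Quotient.mk _ (Ideal.Quotient.mk I (c.val n)) = _
  rw [Ideal.Quotient.eq, ← map_sub]
  have h2 := pow_le_comap A I m h1
  exact h2

/-- The canonical map `Â → (A/I)^`. -/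
noncomputable def psi : EGA4.Cpl A →ₐ[A] EGA4.Cpl (A ⧸ I) :=
  AdicCompletion.liftAlgHom (maximalIdeal (A ⧸ I)) (lvl A I) (fun hle => lvl_compat A I hle)

omit [IsNoetherianRing A] in
theorem evalₐ_psi (n : ℕ) (x : EGA4.Cpl A) :
    AdicCompletion.evalₐ (maximalIdeal (A ⧸ I)) n (psi A I x) = lvl A I n x :=
  AdicCompletion.evalₐ_liftAlgHom _ _ _ _ _

omit [IsNoetherianRing A] in
theorem psi_comp_algebraMap :
    (psi A I).toRingHom.comp (algebraMap A (EGA4.Cpl A)) =
      (algebraMap (A ⧸ I) (EGA4.Cpl (A ⧸ I))).comp (Ideal.Quotient.mk I) := by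
  refine RingHom.ext fun a => ?_
  change (psi A I) (algebraMap A (EGA4.Cpl A) a) = _
  rw [AlgHom.commutes]
  exact IsScalarTower.algebraMap_apply A (A ⧸ I) (EGA4.Cpl (A ⧸ I)) a

theorem map_psi_maximalIdeal :
    (maximalIdeal (EGA4.Cpl A)).map (psi A I).toRingHom =
      maximalIdeal (EGA4.Cpl (A ⧸ I)) := by
  rw [AdicCompletion.maximalIdeal_eq_map (R := A), Ideal.map_map, psi_comp_algebraMap,
    ← Ideal.map_map, map_maximalIdeal_mk, ← AdicCompletion.maximalIdeal_eq_map]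

theorem psi_surjective : Function.Surjective (psi A I) := by
  haveI : IsNoetherianRing (EGA4.Cpl (A ⧸ I)) :=
    Groth.Agent.Helper8.AdicReg.isNoetherianRing (A ⧸ I) _
  haveI : IsHausdorff ((maximalIdeal (EGA4.Cpl A)).map (psi A I).toRingHom)
      (EGA4.Cpl (A ⧸ I)) := by
    rw [map_psi_maximalIdeal]; infer_instance
  refine _root_.surjective_of_mk_map_comp_surjective
    (I := maximalIdeal (EGA4.Cpl A)) (psi A I).toRingHom ?_
  intro y
  obtain ⟨y, rfl⟩ := Ideal.Quotient.mk_surjective y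
  obtain ⟨a', ha'⟩ := Ideal.Quotient.mk_surjective
    (AdicCompletion.evalOneₐ (maximalIdeal (A ⧸ I)) y)
  obtain ⟨a, rfl⟩ := Ideal.Quotient.mk_surjective a'
  refine ⟨algebraMap A (EGA4.Cpl A) a, ?_⟩
  change Ideal.Quotient.mk _ ((psi A I) (algebraMap A (EGA4.Cpl A) a)) = _
  rw [AlgHom.commutes, Ideal.Quotient.eq, map_psi_maximalIdeal,
    AdicCompletion.maximalIdeal_eq_map,
    ← AdicCompletion.ker_evalOneₐ_eq_map _ (maximalIdeal (A ⧸ I)).fg_of_isNoetherianRing,
    RingHom.mem_ker, map_sub, sub_eq_zero]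
  change AdicCompletion.evalOneₐ (maximalIdeal (A ⧸ I)) _ = AdicCompletion.evalOneₐ _ y
  rw [← ha', IsScalarTower.algebraMap_apply A (A ⧸ I) (EGA4.Cpl (A ⧸ I)) a]
  rfl

omit [Nontrivial (A ⧸ I)] in
theorem mem_map_pow_of_evalₐ_eq_zero (n : ℕ) (x : EGA4.Cpl A)
    (hx : AdicCompletion.evalₐ (maximalIdeal A) n x = 0) :
    x ∈ ((maximalIdeal A) ^ n).map (algebraMap A (EGA4.Cpl A)) := by
  have h1 : x ∈ (AdicCompletion.eval (maximalIdeal A) A n).ker := by
    rw [LinearMap.mem_ker, ← AdicCompletion.factor_evalₐ_eq_eval _ x (by simp), hx, map_zero]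
  rw [← AdicCompletion.pow_smul_top_eq_ker_eval (maximalIdeal A).fg_of_isNoetherianRing,
    Ideal.smul_top_eq_map] at h1
  exact h1

theorem ker_psi :
    RingHom.ker (psi A I).toRingHom = I.map (algebraMap A (EGA4.Cpl A)) := by
  apply le_antisymm
  · intro x hx
    have hx0 : psi A I x = 0 := hx
    have key : ∀ n, x ∈ I.map (algebraMap A (EGA4.Cpl A)) ⊔
        (maximalIdeal (EGA4.Cpl A)) ^ n := by
      intro n
      have h1 : lvl A I n x = 0 := by rw [← evalₐ_psi, hx0, map_zero]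
      obtain ⟨a, ha⟩ := Ideal.Quotient.mk_surjective
        (AdicCompletion.evalₐ (maximalIdeal A) n x)
      have h2 : Ideal.Quotient.mk I a ∈ (maximalIdeal (A ⧸ I)) ^ n := by
        rw [← Ideal.Quotient.eq_zero_iff_mem, ← h1]
        simp [lvl, ← ha]
      rw [← map_maximalIdeal_mk, ← Ideal.map_pow] at h2
      have h3 : a ∈ (maximalIdeal A) ^ n ⊔ I := by
        have h4 : a ∈ Ideal.comap (Ideal.Quotient.mk I)
            (Ideal.map (Ideal.Quotient.mk I) ((maximalIdeal A) ^ n)) := Ideal.mem_comap.mpr h2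
        rwa [Ideal.comap_map_of_surjective _ Ideal.Quotient.mk_surjective,
          ← RingHom.ker_eq_comap_bot, Ideal.mk_ker] at h4
      obtain ⟨b, hb, i, hi, rfl⟩ := Submodule.mem_sup.mp h3
      have h5 : AdicCompletion.evalₐ (maximalIdeal A) n
          (x - algebraMap A (EGA4.Cpl A) i) = 0 := by
        rw [map_sub, ← ha, AlgHom.commutes, Ideal.Quotient.algebraMap_eq, ← map_sub,
          add_sub_cancel_right, Ideal.Quotient.eq_zero_iff_mem]
        exact hb
      have h6 := mem_map_pow_of_evalₐ_eq_zero A n _ h5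
      rw [Ideal.map_pow, ← AdicCompletion.maximalIdeal_eq_map] at h6
      have h7 : x = algebraMap A (EGA4.Cpl A) i + (x - algebraMap A (EGA4.Cpl A) i) := by ring
      rw [h7]
      exact Submodule.add_mem_sup (Ideal.mem_map_of_mem _ hi) h6
    haveI : IsNoetherianRing (EGA4.Cpl A) := Groth.Agent.Helper8.AdicReg.isNoetherianRing A _
    have hH : IsHausdorff (maximalIdeal (EGA4.Cpl A))
        (EGA4.Cpl A ⧸ I.map (algebraMap A (EGA4.Cpl A))) := inferInstance
    have h0 : (Ideal.Quotient.mk (I.map (algebraMap A (EGA4.Cpl A))) x) = 0 := by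
      apply hH.haus'
      intro n
      rw [SModEq.zero]
      obtain ⟨j, hj, t, ht, hjt⟩ := Submodule.mem_sup.mp (key n)
      have h8 : Ideal.Quotient.mk (I.map (algebraMap A (EGA4.Cpl A))) x =
          t • (1 : EGA4.Cpl A ⧸ I.map (algebraMap A (EGA4.Cpl A))) := by
        rw [← hjt, map_add, Ideal.Quotient.eq_zero_iff_mem.mpr hj, zero_add,
          Algebra.smul_def, mul_one]
        rfl
      rw [h8]
      exact Submodule.smul_mem_smul ht Submodule.mem_top
    exact Ideal.Quotient.eq_zero_iff_mem.mp h0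
  · rw [Ideal.map_le_iff_le_comap]
    intro a ha
    rw [Ideal.mem_comap, RingHom.mem_ker]
    change (psi A I) (algebraMap A (EGA4.Cpl A) a) = 0
    rw [AlgHom.commutes, IsScalarTower.algebraMap_apply A (A ⧸ I) (EGA4.Cpl (A ⧸ I)) a,
      Ideal.Quotient.algebraMap_eq, Ideal.Quotient.eq_zero_iff_mem.mpr ha, map_zero]

/-- The `Â`-algebra structure on `(A/I)^`. -/
@[reducible] noncomputable def algebraCpl : Algebra (EGA4.Cpl A) (EGA4.Cpl (A ⧸ I)) :=
  (psi A I).toRingHom.toAlgebra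

omit [IsNoetherianRing A] in
theorem isScalarTower_cpl :
    letI := algebraCpl A I
    IsScalarTower A (EGA4.Cpl A) (EGA4.Cpl (A ⧸ I)) := by
  letI := algebraCpl A I
  refine IsScalarTower.of_algebraMap_eq fun a => ?_
  change _ = (psi A I) (algebraMap A (EGA4.Cpl A) a)
  rw [AlgHom.commutes]

open TensorProduct in
theorem isPushout_cpl :
    letI := algebraCpl A I
    haveI := isScalarTower_cpl A I
    Algebra.IsPushout A (A ⧸ I) (EGA4.Cpl A) (EGA4.Cpl (A ⧸ I)) := by
  letI := algebraCpl A I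
  haveI := isScalarTower_cpl A I
  constructor
  let e1 := (Algebra.TensorProduct.quotIdealMapEquivQuotTensor (EGA4.Cpl A) I).symm
  let σ1 : (EGA4.Cpl A ⧸ I.map (algebraMap A (EGA4.Cpl A))) ≃ₐ[A]
      (EGA4.Cpl A ⧸ RingHom.ker (psi A I)) :=
    Ideal.quotientEquivAlgOfEq A (ker_psi A I).symm
  let σ2 : (EGA4.Cpl A ⧸ RingHom.ker (psi A I)) ≃ₐ[A] EGA4.Cpl (A ⧸ I) :=
    Ideal.quotientKerAlgEquivOfSurjective (psi_surjective A I)
  let σ : (EGA4.Cpl A ⧸ I.map (algebraMap A (EGA4.Cpl A))) ≃ₐ[A ⧸ I] EGA4.Cpl (A ⧸ I) :=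
    AlgEquiv.extendScalarsOfSurjective Ideal.Quotient.mk_surjective (σ1.trans σ2)
  refine IsBaseChange.of_equiv (e1.toLinearEquiv ≪≫ₗ σ.toLinearEquiv) fun x => ?_
  have h1 : e1 (1 ⊗ₜ[A] x) = Ideal.Quotient.mk _ x := by
    rw [AlgEquiv.symm_apply_eq]
    exact (Algebra.TensorProduct.quotIdealMapEquivQuotTensor_mk (EGA4.Cpl A) I x).symm
  change σ (e1 (1 ⊗ₜ[A] x)) = _
  rw [h1]
  rfl

end Groth.Agent.Helper8.CplQuot
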