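import Mathlib
import Groth.Prelude

/-!
# Fibres of a base change along a homomorphism which is surjective on stalks, II
-/

set_option autoImplicit false
universe u

namespace Groth.Agent.Helper8.LocHom

open TensorProduct

variable (A B : Type u) [CommRing A] [CommRing B] [Algebra A B]
    (A' B' : Type u) [CommRing A'] [CommRing B'] [Algebra A A'] [Algebra B B'] [Algebra A' B']
    [Algebra A B'] [IsScalarTower A A' B'] [IsScalarTower A B B']

theorem nonempty_fibre_ringEquiv (hst : (algebraMap A A').SurjectiveOnStalks)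
    [hpo : Algebra.IsPushout A A' B B'] (p' : Ideal A') [p'.IsPrime] :
    Nonempty (p'.Fiber B' ≃+* (p'.under A).Fiber B) := by
  let φ : (p'.under A).ResidueField →ₐ[A] p'.ResidueField :=
    Ideal.ResidueField.mapₐ (p'.under A) p' (Algebra.ofId A A') rfl
  have hφ : Function.Bijective φ :=
    hst.residueFieldMap_bijective (p'.under A) p' rfl
  let e0 : A' ⊗[A] B ≃ₐ[A'] B' := Algebra.IsPushout.equiv A A' B B'
  let e3 : p'.ResidueField ⊗[A'] B' ≃ₐ[A'] p'.ResidueField ⊗[A'] (A' ⊗[A] B) :=
    Algebra.TensorProduct.congr AlgEquiv.refl e0.symm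
  let e4 : p'.ResidueField ⊗[A'] (A' ⊗[A] B) ≃ₐ[A'] p'.ResidueField ⊗[A] B :=
    Algebra.TensorProduct.cancelBaseChange A A' A' p'.ResidueField B
  let e6 : (p'.under A).ResidueField ⊗[A] B ≃ₐ[A] p'.ResidueField ⊗[A] B :=
    Algebra.TensorProduct.congr (AlgEquiv.ofBijective φ hφ) AlgEquiv.refl
  exact ⟨e3.toRingEquiv.trans (e4.toRingEquiv.trans e6.toRingEquiv.symm)⟩

end Groth.Agent.Helper8.LocHom
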