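import Mathlib
import Groth.Prelude
import Groth.Agent.Lib.Helper8.CplQuot1
import Groth.Agent.Lib.Helper8.LocHom2
import Groth.Agent.Lib.Helper8.LocHom3
import Groth.Agent.Lib.Helper8.Fib5
import Groth.Agent.Lib.Helper8.Cpl2

/-!
# Formal fibres of a quotient of a Noetherian local ring
-/

set_option autoImplicit false
universe u

namespace Groth.Agent.Helper8.CplQuot

open IsLocalRing TensorProduct LocCoh Groth.Agent.Helper8.FlatReg

theorem hasSk_of_ringEquiv {R S : Type u} [CommRing R] [CommRing S] (e : R ≃+* S) (k : ℕ)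
    (h : HasSk k R R) : HasSk k S S := by
  rw [hasSk_self_iff_skLocal] at h ⊢
  intro q _
  haveI : (q.comap (e : R →+* S)).IsPrime := Ideal.comap_isPrime _ _
  let e' : Localization.AtPrime (q.comap (e : R →+* S)) ≃+* Localization.AtPrime q :=
    Localization.localRingEquiv (q.comap (e : R →+* S)) q e rfl
  exact skLocal_of_ringEquiv k e' (h (q.comap (e : R →+* S)))

theorem isCohenMacaulayRing_of_ringEquiv {R S : Type u} [CommRing R] [CommRing S]
    (e : R ≃+* S) (h : IsCohenMacaulayRing R) : IsCohenMacaulayRing S := by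
  haveI : IsNoetherianRing R := inferInstance
  haveI : IsNoetherianRing S := isNoetherianRing_of_ringEquiv R e
  rw [Groth.Agent.Helper8.Fib.isCohenMacaulayRing_iff_forall_hasSk] at h ⊢
  exact fun k => hasSk_of_ringEquiv e k (h k)

variable (A : Type u) [CommRing A] [IsNoetherianRing A] [IsLocalRing A] (I : Ideal A)
  [Nontrivial (A ⧸ I)]

omit [IsNoetherianRing A] [IsLocalRing A] [Nontrivial (A ⧸ I)] in
theorem surjectiveOnStalks_mk : (algebraMap A (A ⧸ I)).SurjectiveOnStalks :=
  RingHom.surjectiveOnStalks_of_surjective Ideal.Quotient.mk_surjective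

/-- The formal fibres of `A/I` are formal fibres of `A`. -/
theorem nonempty_formalFibre_ringEquiv (q : Ideal (A ⧸ I)) [q.IsPrime] :
    Nonempty (EGA4.formalFibre (A ⧸ I) q ≃+* EGA4.formalFibre A (q.under A)) := by
  letI := algebraCpl A I
  haveI := isScalarTower_cpl A I
  haveI := isPushout_cpl A I
  exact Groth.Agent.Helper8.LocHom.nonempty_fibre_ringEquiv A (EGA4.Cpl A) (A ⧸ I)
    (EGA4.Cpl (A ⧸ I)) (surjectiveOnStalks_mk A I) q

theorem exists_formalFibre_equiv (q : Ideal (A ⧸ I)) [q.IsPrime] (K : Type u) [Field K]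
    [Algebra q.ResidueField K] :
    ∃ (_ : Algebra (q.under A).ResidueField K),
      (Module.Finite q.ResidueField K → Module.Finite (q.under A).ResidueField K) ∧
      (Algebra.IsAlgebraic q.ResidueField K →
        Algebra.IsAlgebraic (q.under A).ResidueField K) ∧
      Nonempty (K ⊗[q.ResidueField] EGA4.formalFibre (A ⧸ I) q ≃+*
        K ⊗[(q.under A).ResidueField] EGA4.formalFibre A (q.under A)) := by
  letI := algebraCpl A I
  haveI := isScalarTower_cpl A I
  haveI := isPushout_cpl A I
  exact Groth.Agent.Helper8.LocHom.exists_fibre_equiv' A (EGA4.Cpl A) (A ⧸ I)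
    (EGA4.Cpl (A ⧸ I)) (surjectiveOnStalks_mk A I) q K

end Groth.Agent.Helper8.CplQuot
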