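import Mathlib
import Groth.Prelude.Def_CAlgX
import Groth.Prelude.Def_Found
import Groth.Agent.Lib.Helper8.AdicFS16
import Groth.Agent.Lib.Helper8.CompFib1

/-!
# A formally smooth homomorphism of Noetherian rings is regular
-/

set_option autoImplicit false

namespace Groth.Agent.Helper8.AdicFS

open CAlgX IsLocalRing TensorProduct

universe u

/-- A Noetherian algebra formally smooth over a field is a regular ring. -/
theorem isRegularRing_of_formallySmooth_field (k R : Type u) [Field k] [CommRing R] [Algebra k R]
    [IsNoetherianRing R] [Algebra.FormallySmooth k R] : IsRegularRing R := by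
  refine isRegularRing_iff.2 (fun P hP => ?_)
  haveI := hP
  have h : IsAdicFormallySmooth k (Localization.AtPrime P)
      (maximalIdeal (Localization.AtPrime P)) := of_formallySmooth _
  exact (regular_and_ringEquiv h).1

/-- A Noetherian algebra formally smooth over a field is geometrically regular. -/
theorem isGeometricallyRegular_of_formallySmooth_field (k R : Type u) [Field k] [CommRing R]
    [Algebra k R] [IsNoetherianRing R] [Algebra.FormallySmooth k R] :
    CAlg.IsGeometricallyRegular k R := by
  intro k' _ _ hfin
  haveI := hfin
  haveI : IsNoetherianRing (k' ⊗[k] R) :=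
    Groth.Agent.Helper8.CompFib.isNoetherianRing_tensor_of_finite k R k'
  exact isRegularRing_of_formallySmooth_field k' (k' ⊗[k] R)

/-- The fibres of a Noetherian algebra are Noetherian. -/
theorem isNoetherianRing_fiber (A B : Type u) [CommRing A] [CommRing B] [Algebra A B]
    [IsNoetherianRing B] (p : Ideal A) [p.IsPrime] : IsNoetherianRing (p.Fiber B) := by
  haveI : IsNoetherianRing (Localization (Algebra.algebraMapSubmonoid B p.primeCompl)) :=
    IsLocalization.isNoetherianRing (Algebra.algebraMapSubmonoid B p.primeCompl) _ inferInstance
  letI : Algebra B (p.Fiber B) := Algebra.TensorProduct.rightAlgebra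
  exact isNoetherianRing_of_ringEquiv _ (Ideal.Fiber.algEquivQuotient p (S := B)).symm.toRingEquiv

/-- A formally smooth algebra over a Noetherian ring, itself Noetherian, is flat. -/
theorem flat_of_formallySmooth (A B : Type u) [CommRing A] [CommRing B] [Algebra A B]
    [IsNoetherianRing A] [IsNoetherianRing B] [Algebra.FormallySmooth A B] : Module.Flat A B := by
  refine Module.flat_of_isLocalized_maximal B B (fun P _ => Localization.AtPrime P)
    (fun P _ => Algebra.linearMap B (Localization.AtPrime P)) ?_
  intro P hP
  haveI : P.IsPrime := hP.isPrime
  let p : Ideal A := P.comap (algebraMap A B)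
  letI : Algebra (Localization.AtPrime p) (Localization.AtPrime P) :=
    (Localization.localRingHom p P (algebraMap A B) rfl).toAlgebra
  haveI : IsScalarTower A (Localization.AtPrime p) (Localization.AtPrime P) :=
    IsScalarTower.of_algebraMap_eq (fun a => by
      show algebraMap A (Localization.AtPrime P) a =
        Localization.localRingHom p P (algebraMap A B) rfl (algebraMap A _ a)
      rw [Localization.localRingHom_to_map, ← IsScalarTower.algebraMap_apply])
  haveI : IsLocalHom (algebraMap (Localization.AtPrime p) (Localization.AtPrime P)) :=
    Localization.isLocalHom_localRingHom p P (algebraMap A B) rfl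
  haveI : Algebra.FormallySmooth (Localization.AtPrime p) (Localization.AtPrime P) :=
    Algebra.FormallySmooth.localization_base p.primeCompl
  have h : IsAdicFormallySmooth (Localization.AtPrime p) (Localization.AtPrime P)
      (maximalIdeal (Localization.AtPrime P)) := of_formallySmooth _
  haveI : Module.Flat (Localization.AtPrime p) (Localization.AtPrime P) :=
    flat_of_isAdicFormallySmooth h
  exact Module.Flat.trans A (Localization.AtPrime p) (Localization.AtPrime P)

/-- A formally smooth homomorphism of Noetherian rings is regular. -/
theorem isRegularHom_of_formallySmooth (A B : Type u) [CommRing A] [CommRing B] [Algebra A B]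
    [IsNoetherianRing A] [IsNoetherianRing B] [Algebra.FormallySmooth A B] :
    CAlg.IsRegularHom A B := by
  refine ⟨flat_of_formallySmooth A B, fun p hp => ?_⟩
  haveI := hp
  haveI := isNoetherianRing_fiber A B p
  exact ⟨inferInstance, isGeometricallyRegular_of_formallySmooth_field p.ResidueField (p.Fiber B)⟩

end Groth.Agent.Helper8.AdicFS
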