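import Mathlib
import Groth.Prelude
import Groth.Agent.Lib.Helper8.AdicFS17
import Groth.Agent.Lib.Helper8.AdicReg1

/-!
# Regular homomorphisms: localizations, isomorphisms, complete local rings
-/

set_option autoImplicit false

universe u

namespace Groth.Agent.Helper8.GRing

open IsLocalRing

/-- A localization map of a Noetherian ring is regular. -/
theorem isRegularHom_of_isLocalization {A A' : Type u} [CommRing A] [CommRing A'] [Algebra A A']
    [IsNoetherianRing A] (M : Submonoid A) [IsLocalization M A'] : CAlg.IsRegularHom A A' := by
  haveI : IsNoetherianRing A' := IsLocalization.isNoetherianRing M A' inferInstance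
  haveI : Algebra.FormallySmooth A A' := Algebra.FormallySmooth.of_isLocalization M
  exact Groth.Agent.Helper8.AdicFS.isRegularHom_of_formallySmooth A A'

/-- A bijective ring map from a Noetherian ring is regular. -/
theorem isRegularHom_of_bijective {A B : Type u} [CommRing A] [CommRing B] [Algebra A B]
    [IsNoetherianRing A] (h : Function.Bijective (algebraMap A B)) : CAlg.IsRegularHom A B := by
  let e : A ≃ₐ[A] B := AlgEquiv.ofBijective (Algebra.ofId A B) h
  haveI : IsNoetherianRing B := isNoetherianRing_of_ringEquiv A e.toRingEquiv
  haveI : Algebra.FormallySmooth A B := Algebra.FormallySmooth.of_equiv e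
  exact Groth.Agent.Helper8.AdicFS.isRegularHom_of_formallySmooth A B

/-- The completion map of a complete Noetherian local ring is regular. -/
theorem isRegularHom_cpl_of_isAdicComplete (S : Type u) [CommRing S] [IsLocalRing S]
    [IsNoetherianRing S] [IsAdicComplete (maximalIdeal S) S] :
    CAlg.IsRegularHom S (EGA4.Cpl S) := by
  apply isRegularHom_of_bijective
  exact AdicCompletion.of_bijective (maximalIdeal S) S

end Groth.Agent.Helper8.GRing
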