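import Mathlib
import Groth.Prelude
import Groth.Agent.Lib.Helper8.LocHom2

/-!
# Fibres of a base change along a homomorphism which is surjective on stalks: the converse
transfer, and geometric regularity
-/

set_option autoImplicit false
universe u

namespace Groth.Agent.Helper8.LocHom

open TensorProduct

variable (A B : Type u) [CommRing A] [CommRing B] [Algebra A B]
    (A' B' : Type u) [CommRing A'] [CommRing B'] [Algebra A A'] [Algebra B B'] [Algebra A' B']
    [Algebra A B'] [IsScalarTower A A' B'] [IsScalarTower A B B']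

theorem exists_fibre_equiv_rev (hst : (algebraMap A A').SurjectiveOnStalks)
    [hpo : Algebra.IsPushout A A' B B'] (p' : Ideal A') [p'.IsPrime] (K : Type u) [Field K]
    [Algebra (p'.under A).ResidueField K] :
    ∃ (_ : Algebra p'.ResidueField K),
      (Module.Finite (p'.under A).ResidueField K → Module.Finite p'.ResidueField K) ∧
      Nonempty (K ⊗[p'.ResidueField] p'.Fiber B' ≃+*
        K ⊗[(p'.under A).ResidueField] (p'.under A).Fiber B) := by
  let φ : (p'.under A).ResidueField →+* p'.ResidueField :=
    Ideal.ResidueField.map (p'.under A) p' (algebraMap A A') rfl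
  have hφ : Function.Bijective φ :=
    hst.residueFieldMap_bijective (p'.under A) p' rfl
  let εφ : (p'.under A).ResidueField ≃+* p'.ResidueField := RingEquiv.ofBijective φ hφ
  let ψ : p'.ResidueField →+* (p'.under A).ResidueField := εφ.symm
  have hψφ : ∀ x, ψ (φ x) = x := fun x => εφ.symm_apply_apply x
  have hφψ : ∀ y, φ (ψ y) = y := fun y => εφ.apply_symm_apply y
  letI i2 : Algebra p'.ResidueField K :=
    ((algebraMap (p'.under A).ResidueField K).comp ψ).toAlgebra
  letI i1 : Algebra p'.ResidueField (p'.under A).ResidueField := ψ.toAlgebra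
  haveI t1 : IsScalarTower p'.ResidueField (p'.under A).ResidueField K :=
    .of_algebraMap_eq' rfl
  letI i3 : Algebra A' K :=
    ((algebraMap p'.ResidueField K).comp (algebraMap A' p'.ResidueField)).toAlgebra
  haveI t2 : IsScalarTower A' p'.ResidueField K := .of_algebraMap_eq' rfl
  letI i4 : Algebra A K := ((algebraMap A' K).comp (algebraMap A A')).toAlgebra
  haveI t3 : IsScalarTower A A' K := .of_algebraMap_eq' rfl
  haveI t4 : IsScalarTower A (p'.under A).ResidueField K := .of_algebraMap_eq fun a => by
    change algebraMap (p'.under A).ResidueField K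
        (ψ (algebraMap A' p'.ResidueField (algebraMap A A' a))) =
      algebraMap (p'.under A).ResidueField K (algebraMap A (p'.under A).ResidueField a)
    rw [← Ideal.ResidueField.map_algebraMap (p'.under A) p' (algebraMap A A') rfl a]
    exact congrArg _ (hψφ _)
  refine ⟨i2, ?_, ?_⟩
  · intro hfin
    haveI : Module.Finite p'.ResidueField (p'.under A).ResidueField :=
      Module.Finite.of_surjective (Algebra.linearMap _ _) εφ.symm.surjective
    exact Module.Finite.trans (p'.under A).ResidueField K
  · let e0 : A' ⊗[A] B ≃ₐ[A'] B' := Algebra.IsPushout.equiv A A' B B'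
    let e1 : K ⊗[p'.ResidueField] (p'.ResidueField ⊗[A'] B') ≃ₐ[p'.ResidueField] K ⊗[A'] B' :=
      Algebra.TensorProduct.cancelBaseChange A' p'.ResidueField p'.ResidueField K B'
    let e3 : K ⊗[A'] B' ≃ₐ[A'] K ⊗[A'] (A' ⊗[A] B) :=
      Algebra.TensorProduct.congr AlgEquiv.refl e0.symm
    let e4 : K ⊗[A'] (A' ⊗[A] B) ≃ₐ[A'] K ⊗[A] B :=
      Algebra.TensorProduct.cancelBaseChange A A' A' K B
    let e5 : K ⊗[(p'.under A).ResidueField] ((p'.under A).ResidueField ⊗[A] B)
        ≃ₐ[(p'.under A).ResidueField] K ⊗[A] B :=
      Algebra.TensorProduct.cancelBaseChange A (p'.under A).ResidueField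
        (p'.under A).ResidueField K B
    exact ⟨e1.toRingEquiv.trans (e3.toRingEquiv.trans
      (e4.toRingEquiv.trans e5.toRingEquiv.symm))⟩

/-- Geometric regularity of the fibres is the same on both sides. -/
theorem isGeometricallyRegular_fiber_iff (hst : (algebraMap A A').SurjectiveOnStalks)
    [hpo : Algebra.IsPushout A A' B B'] (p' : Ideal A') [p'.IsPrime] :
    CAlg.IsGeometricallyRegular p'.ResidueField (p'.Fiber B') ↔
      CAlg.IsGeometricallyRegular (p'.under A).ResidueField ((p'.under A).Fiber B) := by
  constructor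
  · intro h K _ _ hfin
    obtain ⟨i, hfin', ⟨e⟩⟩ := exists_fibre_equiv_rev A B A' B' hst p' K
    letI := i
    exact @IsRegularRing.of_ringEquiv _ _ _ _ e (h K (hfin' hfin))
  · intro h K _ _ hfin
    obtain ⟨i, hfin', -, ⟨e⟩⟩ := exists_fibre_equiv' A B A' B' hst p' K
    letI := i
    exact @IsRegularRing.of_ringEquiv _ _ _ _ e.symm (h K (hfin' hfin))

end Groth.Agent.Helper8.LocHom
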