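import Mathlib
import Groth.Prelude.Def_CAlgX
import Groth.Agent.Lib.Helper8.AdicFS1

/-!
# Formal smoothness for an adic topology implies the Jacobian condition
-/

set_option autoImplicit false

namespace Groth.Agent.Helper8.AdicFS

open CAlgX TensorProduct KaehlerDifferential

universe u

section jac

variable {R P S : Type u} [CommRing R] [CommRing P] [CommRing S] [Algebra R P] [Algebra P S]
  [Algebra R S] [IsScalarTower R P S]

/-- The key step: a derivation-valued retraction. If `S = P ⧸ I` is formally smooth over `R` for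
the `𝔫`-adic topology, where `𝔫 ^ n` is the image of `𝔑`, then any `x ∈ I` whose differential lies
in `𝔐 Ω_{P/R}` lies in `𝔐 I + 𝔑`. -/
theorem mem_of_D_mem_smul_top (𝔐 𝔑 : Ideal P) {𝔫 : Ideal S} (n : ℕ)
    (hsurj : Function.Surjective (algebraMap P S))
    (hker : RingHom.ker (algebraMap P S) ≤ 𝔐)
    (h𝔑 : 𝔑.map (algebraMap P S) = 𝔫 ^ n)
    (hfs : IsAdicFormallySmooth R S 𝔫) (x : P) (hx : algebraMap P S x = 0)
    (hDx : D R P x ∈ 𝔐 • (⊤ : Submodule P Ω[P⁄R])) :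
    x ∈ 𝔐 * RingHom.ker (algebraMap P S) ⊔ 𝔑 := by
  classical
  obtain ⟨I, hI⟩ : ∃ I : Ideal P, I = RingHom.ker (algebraMap P S) := ⟨_, rfl⟩
  have hmemI : ∀ t : P, t ∈ I ↔ algebraMap P S t = 0 := fun t => by rw [hI]; exact RingHom.mem_ker
  have hI𝔐 : I ≤ 𝔐 := hI ▸ hker
  rw [← hI]
  obtain ⟨𝔟, h𝔟⟩ : ∃ 𝔟 : Ideal P, 𝔟 = 𝔐 * I ⊔ 𝔑 := ⟨_, rfl⟩
  rw [← h𝔟]
  have h𝔟1 : 𝔐 * I ≤ 𝔟 := h𝔟 ▸ le_sup_left
  have h𝔟2 : 𝔑 ≤ 𝔟 := h𝔟 ▸ le_sup_right
  obtain ⟨𝔮, h𝔮⟩ : ∃ 𝔮 : Ideal S, 𝔮 = 𝔫 ^ n := ⟨_, rfl⟩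
  have h𝔑' : 𝔑.map (algebraMap P S) = 𝔮 := h𝔑.trans h𝔮.symm
  have hkill : ∀ t : P, t ∈ 𝔟 →
      ((Ideal.Quotient.mkₐ R 𝔮).comp (IsScalarTower.toAlgHom R P S)) t = 0 := by
    intro t ht
    show Ideal.Quotient.mk 𝔮 (algebraMap P S t) = 0
    rw [Ideal.Quotient.eq_zero_iff_mem]
    rw [h𝔟] at ht
    obtain ⟨a, ha, b, hb, rfl⟩ := Submodule.mem_sup.1 ht
    have h1 : algebraMap P S a = 0 := (hmemI a).1 ((Ideal.mul_le_right : 𝔐 * I ≤ I) ha)
    rw [map_add, h1, zero_add, ← h𝔑']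
    exact Ideal.mem_map_of_mem _ hb
  let p : (P ⧸ 𝔟) →ₐ[R] S ⧸ 𝔮 := Ideal.Quotient.liftₐ 𝔟 _ hkill
  have hpmk : ∀ t : P, p (Ideal.Quotient.mk 𝔟 t) =
      Ideal.Quotient.mk 𝔮 (algebraMap P S t) := fun t => rfl
  have hp : Function.Surjective p := by
    intro y
    obtain ⟨s, rfl⟩ := Ideal.Quotient.mk_surjective y
    obtain ⟨t, rfl⟩ := hsurj s
    exact ⟨Ideal.Quotient.mk 𝔟 t, hpmk t⟩
  have hkerp : RingHom.ker (p : (P ⧸ 𝔟) →+* S ⧸ 𝔮) = I.map (Ideal.Quotient.mk 𝔟) := by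
    apply le_antisymm
    · intro y hy
      obtain ⟨t, rfl⟩ := Ideal.Quotient.mk_surjective y
      have h1 : Ideal.Quotient.mk 𝔮 (algebraMap P S t) = 0 := hy
      rw [Ideal.Quotient.eq_zero_iff_mem, ← h𝔑'] at h1
      obtain ⟨b, hb, hbt⟩ := (Ideal.mem_map_iff_of_surjective _ hsurj).1 h1
      have h2 : t - b ∈ I := by
        rw [hmemI, map_sub, hbt, sub_self]
      have h3 : Ideal.Quotient.mk 𝔟 t = Ideal.Quotient.mk 𝔟 (t - b) := by
        rw [map_sub, Ideal.Quotient.eq_zero_iff_mem.2 (h𝔟2 hb), sub_zero]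
      rw [h3]
      exact Ideal.mem_map_of_mem _ h2
    · rw [Ideal.map_le_iff_le_comap]
      intro t ht
      rw [Ideal.mem_comap, RingHom.mem_ker]
      show p (Ideal.Quotient.mk 𝔟 t) = 0
      rw [hpmk, (hmemI t).1 ht, map_zero]
  have hsq : RingHom.ker (p : (P ⧸ 𝔟) →+* S ⧸ 𝔮) ^ 2 = ⊥ := by
    rw [hkerp, ← Ideal.map_pow, Ideal.map_eq_bot_iff_le_ker, Ideal.mk_ker, pow_two]
    exact (Ideal.mul_mono_left hI𝔐).trans h𝔟1
  obtain ⟨χ, hχ, -⟩ := exists_lift_surjective hfs p hp hsq (Ideal.Quotient.mkₐ R 𝔮)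
    ⟨n, fun x hx => Ideal.Quotient.eq_zero_iff_mem.2 (h𝔮 ▸ hx)⟩
  have hpχ : ∀ s : S, p (χ s) = Ideal.Quotient.mk 𝔮 s := fun s => AlgHom.congr_fun hχ s
  -- the derivation
  let can : P →ₐ[R] (P ⧸ 𝔟) := Ideal.Quotient.mkₐ R 𝔟
  let χ' : P →ₐ[R] (P ⧸ 𝔟) := χ.comp (IsScalarTower.toAlgHom R P S)
  have hχ' : ∀ y : P, χ' y = χ (algebraMap P S y) := fun y => rfl
  have hD : ∀ y : P, can y - χ' y ∈ RingHom.ker (p : (P ⧸ 𝔟) →+* S ⧸ 𝔮) := by
    intro y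
    rw [RingHom.mem_ker, map_sub]
    show p (Ideal.Quotient.mk 𝔟 y) - p (χ (algebraMap P S y)) = 0
    rw [hpmk, hpχ, sub_self]
  have hDD : ∀ a b : P, (can a - χ' a) * (can b - χ' b) = 0 := by
    intro a b
    have h1 : (can a - χ' a) * (can b - χ' b) ∈ RingHom.ker (p : (P ⧸ 𝔟) →+* S ⧸ 𝔮) ^ 2 := by
      rw [pow_two]; exact Ideal.mul_mem_mul (hD a) (hD b)
    rw [hsq] at h1
    exact h1
  let D₀ : Derivation R P (P ⧸ 𝔟) :=
    { toLinearMap := can.toLinearMap - χ'.toLinearMap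
      map_one_eq_zero' := by
        show can 1 - χ' 1 = 0
        rw [map_one, map_one, sub_self]
      leibniz' := by
        intro a b
        show can (a * b) - χ' (a * b) = a • (can b - χ' b) + b • (can a - χ' a)
        rw [Algebra.smul_def, Algebra.smul_def, map_mul, map_mul]
        show can a * can b - χ' a * χ' b = can a * (can b - χ' b) + can b * (can a - χ' a)
        linear_combination (-1 : P ⧸ 𝔟) * hDD a b }
  have hD₀ : ∀ y : P, D₀ y = can y - χ' y := fun y => rfl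
  let Dt : Ω[P⁄R] →ₗ[P] (P ⧸ 𝔟) := D₀.liftKaehlerDifferential
  have hDt : ∀ y : P, Dt (D R P y) = can y - χ' y := fun y =>
    (D₀.liftKaehlerDifferential_comp_D y).trans (hD₀ y)
  have hrange : ∀ ω : Ω[P⁄R], Dt ω ∈ RingHom.ker (p : (P ⧸ 𝔟) →+* S ⧸ 𝔮) := by
    intro ω
    have hω : ω ∈ Submodule.span P (Set.range (D R P)) := by
      rw [KaehlerDifferential.span_range_derivation]; trivial
    refine Submodule.span_induction ?_ ?_ ?_ ?_ hω
    · rintro _ ⟨y, rfl⟩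
      rw [hDt]
      exact hD y
    · rw [map_zero]
      exact Ideal.zero_mem _
    · intro x y _ _ hx hy
      rw [map_add]
      exact Ideal.add_mem _ hx hy
    · intro a x _ hx
      rw [map_smul, Algebra.smul_def]
      exact Ideal.mul_mem_left _ _ hx
  have h𝔐 : ∀ m ∈ 𝔐, ∀ t ∈ RingHom.ker (p : (P ⧸ 𝔟) →+* S ⧸ 𝔮),
      algebraMap P (P ⧸ 𝔟) m * t = 0 := by
    intro m hm t ht
    rw [hkerp] at ht
    obtain ⟨i, hi, rfl⟩ := (Ideal.mem_map_iff_of_surjective _ Ideal.Quotient.mk_surjective).1 ht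
    show Ideal.Quotient.mk 𝔟 m * Ideal.Quotient.mk 𝔟 i = 0
    rw [← map_mul, Ideal.Quotient.eq_zero_iff_mem]
    exact h𝔟1 (Ideal.mul_mem_mul hm hi)
  have hzero : ∀ ω ∈ 𝔐 • (⊤ : Submodule P Ω[P⁄R]), Dt ω = 0 := by
    intro ω hω
    refine Submodule.smul_induction_on hω ?_ ?_
    · intro m hm x _
      rw [map_smul, Algebra.smul_def]
      exact h𝔐 m hm _ (hrange x)
    · intro x y hx hy
      rw [map_add, hx, hy, add_zero]
  have h1 := hzero _ hDx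
  rw [hDt, hχ', hx, map_zero, sub_zero] at h1
  exact Ideal.Quotient.eq_zero_iff_mem.1 h1

variable [IsNoetherianRing P] (𝔐 : Ideal P)
  (hsurj : Function.Surjective (algebraMap P S))
  (hker : RingHom.ker (algebraMap P S) ≤ 𝔐)
  (hfs : IsAdicFormallySmooth R S (𝔐.map (algebraMap P S)))
  [Algebra S (P ⧸ 𝔐)] [IsScalarTower P S (P ⧸ 𝔐)]

include hsurj hker hfs in
/-- If `S = P ⧸ I` is formally smooth over `R` for the `𝔐 S`-adic topology (`I ≤ 𝔐`, `P`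
Noetherian), then `(P ⧸ 𝔐) ⊗ I → (P ⧸ 𝔐) ⊗ Ω_{P/R}` is injective. -/
theorem cotangentComplexBaseChange_injective :
    Function.Injective (cotangentComplexBaseChange R S P (P ⧸ 𝔐)) := by
  classical
  -- Artin–Rees
  obtain ⟨k, hk⟩ := Ideal.exists_pow_inf_eq_pow_smul 𝔐
    (RingHom.ker (algebraMap P S) : Submodule P P)
  have hAR : 𝔐 ^ (k + 1) ⊓ RingHom.ker (algebraMap P S) ≤ 𝔐 * RingHom.ker (algebraMap P S) := by
    have h1 := hk (k + 1) (Nat.le_succ k)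
    rw [Nat.add_sub_cancel_left] at h1
    simp only [smul_eq_mul, Ideal.mul_top, pow_one] at h1
    rw [h1]
    exact Ideal.mul_mono_right inf_le_right
  rw [injective_iff_map_eq_zero]
  intro z hz
  obtain ⟨x, rfl⟩ := TensorProduct.mk_surjective (R := P) (S := P ⧸ 𝔐)
    (M := ↥(RingHom.ker (algebraMap P S))) Ideal.Quotient.mk_surjective z
  have hz' : (1 : P ⧸ 𝔐) ⊗ₜ[P] (D R P (x : P)) = 0 := by
    have := hz
    rw [TensorProduct.mk_apply, cotangentComplexBaseChange_tmul, one_smul] at this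
    exact this
  rw [Groth.Agent.Helper8.CohenSm.one_tmul_eq_zero_iff] at hz'
  have h2 := mem_of_D_mem_smul_top (R := R) 𝔐 (𝔐 ^ (k + 1)) (k + 1) hsurj hker
    (Ideal.map_pow _ _ _) hfs (x : P) (RingHom.mem_ker.1 x.2) hz'
  obtain ⟨a, ha, b, hb, hab⟩ := Submodule.mem_sup.1 h2
  have hbI : b ∈ RingHom.ker (algebraMap P S) := by
    have : b = (x : P) - a := by rw [← hab]; ring
    rw [this]
    exact Ideal.sub_mem _ x.2 ((Ideal.mul_le_right : 𝔐 * RingHom.ker (algebraMap P S) ≤ _) ha)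
  have h3 : (x : P) ∈ 𝔐 * RingHom.ker (algebraMap P S) := by
    rw [← hab]
    exact Ideal.add_mem _ ha (hAR ⟨hb, hbI⟩)
  rw [TensorProduct.mk_apply, Groth.Agent.Helper8.CohenSm.one_tmul_eq_zero_iff,
    Submodule.mem_smul_top_iff]
  exact h3

end jac

end Groth.Agent.Helper8.AdicFS
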