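import Mathlib
import Groth.Prelude.Def_CAlgX
import Groth.Agent.Lib.Helper8.AdicFS7
import Groth.Agent.Lib.Helper8.AdicFS18

/-!
# Smoothness at a prime via formal smoothness of the local ring for the adic topology
-/

set_option autoImplicit false

namespace Groth.Agent.Helper8.AdicFS

open CAlgX IsLocalRing TensorProduct KaehlerDifferential

universe u

/-- Formal smoothness for an adic topology over a localization of the base descends to the
base. -/
theorem of_isLocalization_base {A A' S : Type u} [CommRing A] [CommRing A'] [CommRing S]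
    [Algebra A A'] [Algebra A' S] [Algebra A S] [IsScalarTower A A' S] (M : Submonoid A)
    [IsLocalization M A'] {𝔫 : Ideal S} (h : IsAdicFormallySmooth A' S 𝔫) :
    IsAdicFormallySmooth A S 𝔫 := by
  intro C _ _ J hJ ψ hψ
  have hunit : ∀ m : M, IsUnit (algebraMap A C m) := by
    intro m
    have h1 : IsUnit (Ideal.Quotient.mk J (algebraMap A C m)) := by
      have h2 : Ideal.Quotient.mk J (algebraMap A C m) = ψ (algebraMap A S m) := by
        rw [ψ.commutes]; rfl
      rw [h2, IsScalarTower.algebraMap_apply A A' S]
      exact ((IsLocalization.map_units A' m).map (algebraMap A' S)).map ψ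
    exact (IsNilpotent.isUnit_quotient_mk_iff ⟨2, hJ⟩).1 h1
  letI : Algebra A' C := (IsLocalization.lift hunit).toAlgebra
  haveI : IsScalarTower A A' C :=
    IsScalarTower.of_algebraMap_eq (fun a => (IsLocalization.lift_eq hunit a).symm)
  have hcomm : (ψ : S →+* C ⧸ J).comp (algebraMap A' S) = algebraMap A' (C ⧸ J) := by
    refine IsLocalization.ringHom_ext M ?_
    ext a
    show ψ (algebraMap A' S (algebraMap A A' a)) = algebraMap A' (C ⧸ J) (algebraMap A A' a)
    rw [← IsScalarTower.algebraMap_apply A A' S, ψ.commutes,
      ← IsScalarTower.algebraMap_apply A A' (C ⧸ J)]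
  let ψ' : S →ₐ[A'] C ⧸ J :=
    { (ψ : S →+* C ⧸ J) with
      commutes' := fun a => RingHom.congr_fun hcomm a }
  obtain ⟨χ, hχ⟩ := h C J hJ ψ' hψ
  refine ⟨χ.restrictScalars A, ?_⟩
  ext s
  exact AlgHom.congr_fun hχ s

/-- A finite type algebra over a Noetherian ring is smooth at a prime as soon as its local ring
there is formally smooth for the adic topology. -/
theorem isSmoothAt_of_isAdicFormallySmooth (A B : Type u) [CommRing A] [IsNoetherianRing A]
    [CommRing B] [Algebra A B] [Algebra.FiniteType A B] (q : Ideal B) [q.IsPrime]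
    (h : IsAdicFormallySmooth A (Localization.AtPrime q)
      (maximalIdeal (Localization.AtPrime q))) :
    Algebra.IsSmoothAt A q := by
  classical
  obtain ⟨n, f₀, hf₀⟩ := Algebra.FiniteType.iff_quotient_mvPolynomial''.mp
    (inferInstance : Algebra.FiniteType A B)
  let q₀ : Ideal (MvPolynomial (Fin n) A) := q.comap (f₀ : MvPolynomial (Fin n) A →+* B)
  haveI : q₀.IsPrime := Ideal.comap_isPrime _ _
  let fP : Localization.AtPrime q₀ →+* Localization.AtPrime q :=
    Localization.localRingHom q₀ q (f₀ : MvPolynomial (Fin n) A →+* B) rfl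
  have hfP : Function.Surjective fP :=
    RingHom.surjective_localRingHom_of_surjective _ hf₀ q
  letI : Algebra (Localization.AtPrime q₀) (Localization.AtPrime q) := fP.toAlgebra
  haveI : IsScalarTower A (Localization.AtPrime q₀) (Localization.AtPrime q) :=
    IsScalarTower.of_algebraMap_eq (fun a => by
      show algebraMap A (Localization.AtPrime q) a = fP (algebraMap A (Localization.AtPrime q₀) a)
      rw [IsScalarTower.algebraMap_apply A (MvPolynomial (Fin n) A) (Localization.AtPrime q₀)]
      show _ = Localization.localRingHom q₀ q (f₀ : MvPolynomial (Fin n) A →+* B) rfl _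
      rw [Localization.localRingHom_to_map, IsScalarTower.algebraMap_apply A B]
      congr 1
      exact (f₀.commutes a).symm)
  haveI : IsNoetherianRing (Localization.AtPrime q₀) :=
    IsLocalization.isNoetherianRing q₀.primeCompl _ inferInstance
  haveI : Algebra.FormallyEtale (MvPolynomial (Fin n) A) (Localization.AtPrime q₀) :=
    .of_isLocalization q₀.primeCompl
  haveI : Algebra.FormallySmooth A (Localization.AtPrime q₀) :=
    .comp _ (MvPolynomial (Fin n) A) _
  haveI : Module.Free (Localization.AtPrime q₀) Ω[Localization.AtPrime q₀⁄A] :=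
    .of_equiv (KaehlerDifferential.tensorKaehlerEquivOfFormallyEtale A (MvPolynomial (Fin n) A)
      (Localization.AtPrime q₀))
  haveI : Module.Finite (Localization.AtPrime q₀) Ω[Localization.AtPrime q₀⁄A] :=
    .equiv (KaehlerDifferential.tensorKaehlerEquivOfFormallyEtale A (MvPolynomial (Fin n) A)
      (Localization.AtPrime q₀))
  haveI : IsLocalHom fP := IsLocalHom.of_surjective fP hfP
  have hker : RingHom.ker fP ≤ maximalIdeal (Localization.AtPrime q₀) :=
    IsLocalRing.le_maximalIdeal (RingHom.ker_ne_top fP)
  let g : Localization.AtPrime q →+*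
      (Localization.AtPrime q₀ ⧸ maximalIdeal (Localization.AtPrime q₀)) :=
    (Ideal.Quotient.factor hker).comp
      (RingHom.quotientKerEquivOfSurjective hfP).symm.toRingHom
  letI : Algebra (Localization.AtPrime q)
      (Localization.AtPrime q₀ ⧸ maximalIdeal (Localization.AtPrime q₀)) :=
    @RingHom.toAlgebra (Localization.AtPrime q)
      (Localization.AtPrime q₀ ⧸ maximalIdeal (Localization.AtPrime q₀)) inferInstance
      inferInstance g
  have halg : ∀ x : Localization.AtPrime q₀,
      algebraMap (Localization.AtPrime q)
        (Localization.AtPrime q₀ ⧸ maximalIdeal (Localization.AtPrime q₀)) (fP x) =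
        Ideal.Quotient.mk _ x := by
    intro x
    show (Ideal.Quotient.factor hker) ((RingHom.quotientKerEquivOfSurjective hfP).symm (fP x)) = _
    rw [RingHom.quotientKerEquivOfSurjective_symm_apply]
    rfl
  haveI : IsScalarTower (Localization.AtPrime q₀) (Localization.AtPrime q)
      (Localization.AtPrime q₀ ⧸ maximalIdeal (Localization.AtPrime q₀)) :=
    IsScalarTower.of_algebraMap_eq (fun x => (halg x).symm)
  have hmap : (maximalIdeal (Localization.AtPrime q₀)).map
      (algebraMap (Localization.AtPrime q₀) (Localization.AtPrime q)) =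
      maximalIdeal (Localization.AtPrime q) :=
    map_maximalIdeal_of_surjective fP hfP
  have hinj := cotangentComplexBaseChange_injective (R := A)
    (maximalIdeal (Localization.AtPrime q₀)) (S := Localization.AtPrime q) hfP hker
    (hmap ▸ h)
  letI : Field (Localization.AtPrime q₀ ⧸ maximalIdeal (Localization.AtPrime q₀)) :=
    Ideal.Quotient.field _
  have h₃ : maximalIdeal (Localization.AtPrime q) ≤ RingHom.ker
      (algebraMap (Localization.AtPrime q)
        (Localization.AtPrime q₀ ⧸ maximalIdeal (Localization.AtPrime q₀))) := by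
    intro s hs
    obtain ⟨x, rfl⟩ := hfP s
    rw [RingHom.mem_ker, halg, Ideal.Quotient.eq_zero_iff_mem]
    rw [mem_maximalIdeal, mem_nonunits_iff] at hs ⊢
    exact fun hx => hs (hx.map fP)
  exact (Algebra.FormallySmooth.iff_injective_cotangentComplexBaseChange
    (Localization.AtPrime q₀)
    (Localization.AtPrime q₀ ⧸ maximalIdeal (Localization.AtPrime q₀)) hfP
    (IsNoetherian.noetherian _) h₃).2 hinj

end Groth.Agent.Helper8.AdicFS
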