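import Mathlib
import Groth.Prelude

/-!
# Fibres of a localized homomorphism
-/

set_option autoImplicit false
universe u

namespace Groth.Agent.Helper8.LocHom

open TensorProduct

variable (A B : Type u) [CommRing A] [CommRing B] [Algebra A B] (S : Submonoid A)
    (A' B' : Type u) [CommRing A'] [CommRing B'] [Algebra A A'] [Algebra B B'] [Algebra A' B']
    [Algebra A B'] [IsScalarTower A A' B'] [IsScalarTower A B B'] [IsLocalization S A']
    [IsLocalization (Algebra.algebraMapSubmonoid B S) B']

include S in
theorem exists_fibre_equiv (p' : Ideal A') [p'.IsPrime] (K : Type u) [Field K]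
    [Algebra p'.ResidueField K] :
    ∃ (_ : Algebra (p'.under A).ResidueField K),
      (Module.Finite p'.ResidueField K → Module.Finite (p'.under A).ResidueField K) ∧
      (Algebra.IsAlgebraic p'.ResidueField K →
        Algebra.IsAlgebraic (p'.under A).ResidueField K) ∧
      Nonempty (K ⊗[p'.ResidueField] p'.Fiber B' ≃+*
        K ⊗[(p'.under A).ResidueField] (p'.under A).Fiber B) := by
  let φ : (p'.under A).ResidueField →+* p'.ResidueField :=
    Ideal.ResidueField.map (p'.under A) p' (algebraMap A A') rfl
  have hφ : Function.Bijective φ :=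
    (RingHom.surjectiveOnStalks_of_isLocalization S A').residueFieldMap_bijective
      (p'.under A) p' rfl
  letI i1 : Algebra (p'.under A).ResidueField p'.ResidueField := φ.toAlgebra
  letI i2 : Algebra (p'.under A).ResidueField K :=
    ((algebraMap p'.ResidueField K).comp φ).toAlgebra
  haveI t1 : IsScalarTower (p'.under A).ResidueField p'.ResidueField K :=
    .of_algebraMap_eq' rfl
  letI i3 : Algebra A' K :=
    ((algebraMap p'.ResidueField K).comp (algebraMap A' p'.ResidueField)).toAlgebra
  haveI t2 : IsScalarTower A' p'.ResidueField K := .of_algebraMap_eq' rfl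
  letI i4 : Algebra A K := ((algebraMap A' K).comp (algebraMap A A')).toAlgebra
  haveI t3 : IsScalarTower A A' K := .of_algebraMap_eq' rfl
  haveI t4 : IsScalarTower A (p'.under A).ResidueField K := .of_algebraMap_eq fun a => by
    change algebraMap p'.ResidueField K (algebraMap A' p'.ResidueField (algebraMap A A' a)) =
      algebraMap p'.ResidueField K (φ (algebraMap A (p'.under A).ResidueField a))
    rw [Ideal.ResidueField.map_algebraMap]
  refine ⟨i2, ?_, ?_, ?_⟩
  · intro hfin
    haveI : Module.Finite (p'.under A).ResidueField p'.ResidueField :=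
      Module.Finite.of_surjective (Algebra.linearMap _ _) hφ.2
    exact Module.Finite.trans p'.ResidueField K
  · intro halg
    haveI : Module.Finite (p'.under A).ResidueField p'.ResidueField :=
      Module.Finite.of_surjective (Algebra.linearMap _ _) hφ.2
    haveI : Algebra.IsAlgebraic (p'.under A).ResidueField p'.ResidueField :=
      Algebra.IsAlgebraic.of_finite _ _
    exact Algebra.IsAlgebraic.trans (p'.under A).ResidueField p'.ResidueField K
  · haveI hpo : Algebra.IsPushout A A' B B' :=
      (Algebra.isPushout_of_isLocalization S A' B B').symm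
    let e0 : A' ⊗[A] B ≃ₐ[A'] B' := Algebra.IsPushout.equiv A A' B B'
    let e1 : K ⊗[p'.ResidueField] (p'.ResidueField ⊗[A'] B') ≃ₐ[p'.ResidueField] K ⊗[A'] B' :=
      Algebra.TensorProduct.cancelBaseChange A' p'.ResidueField p'.ResidueField K B'
    let e3 : K ⊗[A'] B' ≃ₐ[A'] K ⊗[A'] (A' ⊗[A] B) :=
      Algebra.TensorProduct.congr AlgEquiv.refl e0.symm
    let e4 : K ⊗[A'] (A' ⊗[A] B) ≃ₐ[A'] K ⊗[A] B :=
      Algebra.TensorProduct.cancelBaseChange A A' A' K B
    let e5 : K ⊗[(p'.under A).ResidueField] ((p'.under A).ResidueField ⊗[A] B) ≃ₐ[(p'.under A).ResidueField] K ⊗[A] B :=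
      Algebra.TensorProduct.cancelBaseChange A (p'.under A).ResidueField (p'.under A).ResidueField K B
    exact ⟨e1.toRingEquiv.trans (e3.toRingEquiv.trans (e4.toRingEquiv.trans e5.toRingEquiv.symm))⟩

end Groth.Agent.Helper8.LocHom
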