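import Mathlib

/-!
# The closed fibre of a local homomorphism, as `κ(𝔪) ⊗ B`
-/

set_option autoImplicit false

namespace Groth.Agent.Helper8.LocalFib

open IsLocalRing TensorProduct

universe u

variable (A B : Type u) [CommRing A] [CommRing B] [IsLocalRing A] [IsLocalRing B] [Algebra A B]
  [IsLocalHom (algebraMap A B)]

/-- `B → κ(𝔪) ⊗ B` is surjective. -/
theorem includeRight_surjective : Function.Surjective
    (Algebra.TensorProduct.includeRight : B →ₐ[A] (maximalIdeal A).Fiber B) := by
  intro z
  induction z using TensorProduct.induction_on with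
  | zero => exact ⟨0, map_zero _⟩
  | add x y hx hy =>
    obtain ⟨a, rfl⟩ := hx
    obtain ⟨b, rfl⟩ := hy
    exact ⟨a + b, map_add _ _ _⟩
  | tmul c b =>
    obtain ⟨a, rfl⟩ := Ideal.algebraMap_residueField_surjective (maximalIdeal A) c
    refine ⟨a • b, ?_⟩
    rw [Algebra.TensorProduct.includeRight_apply, Algebra.algebraMap_eq_smul_one, smul_tmul]

/-- The augmentation `κ(𝔪) ⊗ B → B/𝔫`. -/
noncomputable def aug : (maximalIdeal A).Fiber B →ₐ[A] ResidueField B :=
  Algebra.TensorProduct.lift
    (Ideal.ResidueField.liftₐ (maximalIdeal A) (Algebra.ofId A (ResidueField B))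
      (by
        intro a ha
        show algebraMap A (ResidueField B) a = 0
        rw [IsScalarTower.algebraMap_apply A B (ResidueField B)]
        apply (residue_eq_zero_iff _).2
        exact map_nonunit (algebraMap A B) a ha)
      (by
        intro a ha
        show IsUnit (algebraMap A (ResidueField B) a)
        rw [IsScalarTower.algebraMap_apply A B (ResidueField B)]
        have h1 : IsUnit a := by
          by_contra h
          exact ha ((mem_maximalIdeal a).2 h)
        exact (h1.map (algebraMap A B)).map (algebraMap B (ResidueField B))))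
    (IsScalarTower.toAlgHom A B (ResidueField B)) (fun _ _ => Commute.all _ _)

theorem aug_one_tmul (b : B) : aug A B ((1 : (maximalIdeal A).ResidueField) ⊗ₜ[A] b) =
    residue B b := by
  rw [aug, Algebra.TensorProduct.lift_tmul, map_one, one_mul]
  rfl

instance : Nontrivial ((maximalIdeal A).Fiber B) :=
  (aug A B).toRingHom.domain_nontrivial

instance : IsLocalRing ((maximalIdeal A).Fiber B) :=
  IsLocalRing.of_surjective'
    (Algebra.TensorProduct.includeRight : B →ₐ[A] (maximalIdeal A).Fiber B).toRingHom
    (includeRight_surjective A B)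

theorem one_tmul_mem_maximalIdeal_iff (b : B) :
    (1 : (maximalIdeal A).ResidueField) ⊗ₜ[A] b ∈ maximalIdeal ((maximalIdeal A).Fiber B) ↔
      b ∈ maximalIdeal B := by
  constructor
  · intro h
    by_contra hb
    have h1 : IsUnit b := by
      by_contra h2
      exact hb ((mem_maximalIdeal b).2 h2)
    have h2 : IsUnit ((1 : (maximalIdeal A).ResidueField) ⊗ₜ[A] b) :=
      h1.map (Algebra.TensorProduct.includeRight : B →ₐ[A] (maximalIdeal A).Fiber B)
    exact (mem_maximalIdeal _).1 h h2
  · intro h
    rw [mem_maximalIdeal, mem_nonunits_iff]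
    intro hu
    have h1 := hu.map (aug A B)
    rw [aug_one_tmul, (residue_eq_zero_iff b).2 h] at h1
    exact not_isUnit_zero h1

theorem map_maximalIdeal_le :
    (maximalIdeal B).map (Algebra.TensorProduct.includeRight :
      B →ₐ[A] (maximalIdeal A).Fiber B) ≤ maximalIdeal ((maximalIdeal A).Fiber B) := by
  rw [Ideal.map_le_iff_le_comap]
  intro b hb
  exact (one_tmul_mem_maximalIdeal_iff A B b).2 hb

end Groth.Agent.Helper8.LocalFib
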