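import Mathlib
import Groth.Prelude.Def_CAlgX

/-!
# Formal smoothness for the adic topology and extension of derivations to the residue field
-/

set_option autoImplicit false

namespace Groth.Agent.Helper8.Cartier

open IsLocalRing KaehlerDifferential TensorProduct CAlgX

universe u

section ext

variable {R A : Type u} [CommRing R] [CommRing A] [IsLocalRing A] [Algebra R A]

/-- If `A` is formally smooth over `R` for the adic topology of its maximal ideal, every
derivation of `R` into the residue field of `A` extends to `A`. -/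
theorem exists_derivation_extension (h : IsAdicFormallySmooth R A (maximalIdeal A))
    (d : Derivation ℤ R (ResidueField A)) :
    ∃ d' : Derivation ℤ A (ResidueField A), ∀ x : R, d' (algebraMap R A x) = d x := by
  classical
  have hsmulR : ∀ (x : R) (c : ResidueField A), x • c = residue A (algebraMap R A x) * c := by
    intro x c
    rw [Algebra.smul_def]
    rfl
  have hsmulA : ∀ (a : A) (c : ResidueField A), a • c = residue A a * c := fun a c =>
    Algebra.smul_def a c
  -- the twisted algebra structure on the dual numbers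
  let θ : R →+* TrivSqZeroExt (ResidueField A) (ResidueField A) :=
    { toFun := fun x => TrivSqZeroExt.inl (residue A (algebraMap R A x)) + TrivSqZeroExt.inr (d x)
      map_one' := by
        rw [map_one, map_one, Derivation.map_one_eq_zero, TrivSqZeroExt.inr_zero, add_zero]
        rfl
      map_zero' := by
        rw [map_zero, map_zero, map_zero, TrivSqZeroExt.inr_zero, add_zero,
          TrivSqZeroExt.inl_zero]
      map_add' := fun x y => by
        rw [map_add, map_add, map_add, TrivSqZeroExt.inl_add, TrivSqZeroExt.inr_add]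
        abel
      map_mul' := fun x y => by
        apply TrivSqZeroExt.ext
        · simp
        · simp only [TrivSqZeroExt.snd_add, TrivSqZeroExt.snd_inl, TrivSqZeroExt.snd_inr,
            zero_add, TrivSqZeroExt.snd_mul, TrivSqZeroExt.fst_add, TrivSqZeroExt.fst_inl,
            TrivSqZeroExt.fst_inr, add_zero, Derivation.leibniz, hsmulR,
            MulOpposite.smul_eq_mul_unop, MulOpposite.unop_op, smul_eq_mul]
          ring }
  have hθ : ∀ x, θ x = TrivSqZeroExt.inl (residue A (algebraMap R A x)) +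
      TrivSqZeroExt.inr (d x) := fun x => rfl
  letI : Algebra R (TrivSqZeroExt (ResidueField A) (ResidueField A)) := θ.toAlgebra
  have halg : ∀ x, algebraMap R (TrivSqZeroExt (ResidueField A) (ResidueField A)) x = θ x :=
    fun x => rfl
  obtain ⟨J, hJ⟩ : ∃ J : Ideal (TrivSqZeroExt (ResidueField A) (ResidueField A)),
      J = RingHom.ker (TrivSqZeroExt.fstHom (ResidueField A) (ResidueField A)
        (ResidueField A)).toRingHom := ⟨_, rfl⟩
  have hmemJ : ∀ z, z ∈ J ↔ z.fst = 0 := fun z => by rw [hJ]; exact RingHom.mem_ker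
  have hJ2 : J ^ 2 = ⊥ := by
    rw [eq_bot_iff, pow_two]
    intro z hz
    refine Submodule.mul_induction_on hz ?_ ?_
    · intro a ha b hb
      rw [hmemJ] at ha hb
      rw [Ideal.mem_bot]
      apply TrivSqZeroExt.ext
      · rw [TrivSqZeroExt.fst_mul, ha, zero_mul, TrivSqZeroExt.fst_zero]
      · simp [ha, hb]
    · intro a b ha hb
      exact Ideal.add_mem _ ha hb
  let ψ₀ : A →+* TrivSqZeroExt (ResidueField A) (ResidueField A) ⧸ J :=
    (Ideal.Quotient.mk J).comp ((TrivSqZeroExt.inlHom (ResidueField A) (ResidueField A)).comp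
      (residue A))
  have hψ₀ : ∀ a, ψ₀ a = Ideal.Quotient.mk J (TrivSqZeroExt.inl (residue A a)) := fun a => rfl
  let ψ : A →ₐ[R] TrivSqZeroExt (ResidueField A) (ResidueField A) ⧸ J :=
    { ψ₀ with
      commutes' := fun x => by
        show ψ₀ (algebraMap R A x) = Ideal.Quotient.mk J (θ x)
        rw [hψ₀, Ideal.Quotient.eq, hmemJ, hθ]
        simp }
  have hψ : ∀ a, ψ a = Ideal.Quotient.mk J (TrivSqZeroExt.inl (residue A a)) := fun a => rfl
  obtain ⟨χ, hχ⟩ := h _ J hJ2 ψ ⟨1, fun x hx => by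
    rw [pow_one] at hx
    rw [hψ, (IsLocalRing.residue_eq_zero_iff x).2 hx, TrivSqZeroExt.inl_zero, map_zero]⟩
  have hχfst : ∀ a, (χ a).fst = residue A a := by
    intro a
    have h1 : Ideal.Quotient.mk J (χ a) = ψ a := AlgHom.congr_fun hχ a
    rw [hψ, Ideal.Quotient.eq, hmemJ, TrivSqZeroExt.fst_sub, TrivSqZeroExt.fst_inl,
      sub_eq_zero] at h1
    exact h1
  let dl : A →ₗ[ℤ] ResidueField A :=
    { toFun := fun a => (χ a).snd
      map_add' := fun a b => by rw [map_add, TrivSqZeroExt.snd_add]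
      map_smul' := fun n a => by
        rw [map_zsmul, TrivSqZeroExt.snd_smul]
        rfl }
  refine ⟨Derivation.mk' dl (fun a b => ?_), fun x => ?_⟩
  · show (χ (a * b)).snd = a • (χ b).snd + b • (χ a).snd
    rw [map_mul, TrivSqZeroExt.snd_mul, hχfst, hχfst, hsmulA, hsmulA,
      MulOpposite.smul_eq_mul_unop, MulOpposite.unop_op, smul_eq_mul]
    ring
  · show (χ (algebraMap R A x)).snd = d x
    rw [χ.commutes, halg, hθ]
    simp

/-- Two linear maps on `K ⊗ (A ⊗ Ω_R)` agreeing on the elements `1 ⊗ (1 ⊗ dx)` are equal. -/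
theorem linearMap_ext_of_D {K N : Type*} [CommRing K] [Algebra A K] [AddCommGroup N] [Module K N]
    [Module A N] [IsScalarTower A K N]
    (l l' : K ⊗[A] (A ⊗[R] Ω[R⁄ℤ]) →ₗ[K] N)
    (hl : ∀ x : R, l ((1 : K) ⊗ₜ[A] ((1 : A) ⊗ₜ[R] D ℤ R x)) =
      l' ((1 : K) ⊗ₜ[A] ((1 : A) ⊗ₜ[R] D ℤ R x))) : l = l' := by
  have e1 : ∀ (a : A) (m : A ⊗[R] Ω[R⁄ℤ]),
      ((algebraMap A K a) ⊗ₜ[A] m : K ⊗[A] (A ⊗[R] Ω[R⁄ℤ])) = (1 : K) ⊗ₜ[A] (a • m) := by
    intro a m
    rw [Algebra.algebraMap_eq_smul_one, TensorProduct.smul_tmul]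
  have e2 : ∀ (a : A) (ω : Ω[R⁄ℤ]), a • ((1 : A) ⊗ₜ[R] ω) = a ⊗ₜ[R] ω := by
    intro a ω
    rw [TensorProduct.smul_tmul', smul_eq_mul, mul_one]
  have e3 : ∀ (c : K) (m : A ⊗[R] Ω[R⁄ℤ]),
      c • ((1 : K) ⊗ₜ[A] m : K ⊗[A] (A ⊗[R] Ω[R⁄ℤ])) = c ⊗ₜ[A] m := by
    intro c m
    rw [TensorProduct.smul_tmul', smul_eq_mul, mul_one]
  have h₂ : ∀ ω : Ω[R⁄ℤ], l ((1 : K) ⊗ₜ[A] ((1 : A) ⊗ₜ[R] ω)) =
      l' ((1 : K) ⊗ₜ[A] ((1 : A) ⊗ₜ[R] ω)) := by
    intro ω
    have hω : ω ∈ Submodule.span R (Set.range (D ℤ R)) := by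
      rw [KaehlerDifferential.span_range_derivation]; trivial
    induction hω using Submodule.span_induction with
    | mem ω hω =>
      obtain ⟨x, rfl⟩ := hω
      exact hl x
    | zero => rw [TensorProduct.tmul_zero, TensorProduct.tmul_zero, map_zero, map_zero]
    | add x y _ _ hx hy =>
      rw [TensorProduct.tmul_add, TensorProduct.tmul_add, map_add, map_add, hx, hy]
    | smul r x _ hx =>
      have h3 : ((1 : K) ⊗ₜ[A] ((1 : A) ⊗ₜ[R] (r • x)) : K ⊗[A] (A ⊗[R] Ω[R⁄ℤ])) =
          (algebraMap A K (algebraMap R A r)) • ((1 : K) ⊗ₜ[A] ((1 : A) ⊗ₜ[R] x)) := by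
        rw [e3, e1, e2, TensorProduct.tmul_smul, TensorProduct.smul_tmul', Algebra.smul_def,
          mul_one]
      rw [h3, map_smul, map_smul, hx]
  have h₁ : ∀ m : A ⊗[R] Ω[R⁄ℤ], l ((1 : K) ⊗ₜ[A] m) = l' ((1 : K) ⊗ₜ[A] m) := by
    intro m
    induction m using TensorProduct.induction_on with
    | zero => rw [TensorProduct.tmul_zero, map_zero, map_zero]
    | add x y hx hy => rw [TensorProduct.tmul_add, map_add, map_add, hx, hy]
    | tmul a ω =>
      have h3 : ((1 : K) ⊗ₜ[A] (a ⊗ₜ[R] ω) : K ⊗[A] (A ⊗[R] Ω[R⁄ℤ])) =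
          (algebraMap A K a) • ((1 : K) ⊗ₜ[A] ((1 : A) ⊗ₜ[R] ω)) := by
        rw [e3, e1, e2]
      rw [h3, map_smul, map_smul, h₂]
  apply LinearMap.ext
  intro y
  induction y using TensorProduct.induction_on with
  | zero => rw [map_zero, map_zero]
  | add x y hx hy => rw [map_add, map_add, hx, hy]
  | tmul c m =>
    have h3 : (c ⊗ₜ[A] m : K ⊗[A] (A ⊗[R] Ω[R⁄ℤ])) = c • ((1 : K) ⊗ₜ[A] m) := by
      rw [e3]
    rw [h3, map_smul, map_smul, h₁]

/-- If `A` is formally smooth over `R` for the adic topology of its maximal ideal, the map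
`K ⊗ Ω_R → K ⊗ Ω_A` is injective, `K` the residue field of `A`. -/
theorem injective_of_isAdicFormallySmooth (h : IsAdicFormallySmooth R A (maximalIdeal A)) :
    Function.Injective ((KaehlerDifferential.mapBaseChange ℤ R A).lTensor (ResidueField A)) := by
  rw [injective_iff_map_eq_zero]
  intro z hz
  rw [← Module.forall_dual_apply_eq_zero_iff (ResidueField A)]
  intro l
  let f₀ : Ω[R⁄ℤ] →ₗ[R] ResidueField A :=
    ((l.restrictScalars A) ∘ₗ
      (TensorProduct.mk A (ResidueField A) (A ⊗[R] Ω[R⁄ℤ]) 1)).restrictScalars R ∘ₗ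
      (TensorProduct.mk R A Ω[R⁄ℤ] 1)
  have hf₀ : ∀ ω, f₀ ω = l ((1 : ResidueField A) ⊗ₜ[A] ((1 : A) ⊗ₜ[R] ω)) := fun ω => rfl
  obtain ⟨d', hd'⟩ := exists_derivation_extension h (f₀.compDer (D ℤ R))
  let μ : ResidueField A ⊗[A] Ω[A⁄ℤ] →ₗ[ResidueField A] ResidueField A :=
    LinearMap.liftBaseChange (ResidueField A) d'.liftKaehlerDifferential
  have key : l = μ ∘ₗ (LinearMap.baseChange (ResidueField A)
      (KaehlerDifferential.mapBaseChange ℤ R A)) := by
    apply linearMap_ext_of_D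
    intro x
    rw [LinearMap.comp_apply, LinearMap.baseChange_tmul, KaehlerDifferential.mapBaseChange_tmul,
      one_smul, KaehlerDifferential.map_D]
    show _ = LinearMap.liftBaseChange (ResidueField A) d'.liftKaehlerDifferential _
    rw [LinearMap.liftBaseChange_tmul, one_smul, Derivation.liftKaehlerDifferential_comp_D, hd']
    rfl
  have hz' : LinearMap.baseChange (ResidueField A) (KaehlerDifferential.mapBaseChange ℤ R A) z =
      0 := hz
  rw [key, LinearMap.comp_apply, hz', map_zero]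

end ext

end Groth.Agent.Helper8.Cartier
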