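import Mathlib

/-!
# Preliminaries for lifting along small extensions

* extension of linear maps into a semisimple module,
* modules killed by a maximal ideal are semisimple,
* a ring surjecting onto a local ring with nilpotent kernel is local.
-/

set_option autoImplicit false

namespace Groth.Agent.Helper8.SmallExt

universe u

section ext

variable {R M N V : Type*} [Ring R] [AddCommGroup M] [AddCommGroup N] [AddCommGroup V]
  [Module R M] [Module R N] [Module R V]

/-- A linear map `f` whose kernel contains the kernel of `θ : M → N` factors through `θ` when `N`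
is semisimple. -/
theorem exists_factor_of_ker_le [IsSemisimpleModule R N] (θ : M →ₗ[R] N) (f : M →ₗ[R] V)
    (h : LinearMap.ker θ ≤ LinearMap.ker f) :
    ∃ g : N →ₗ[R] V, (∀ m, g (θ m) = f m) ∧ ∀ n, ∃ m, g n = f m := by
  obtain ⟨C, hC⟩ := exists_isCompl (LinearMap.range θ)
  let proj : N →ₗ[R] LinearMap.range θ := Submodule.projectionOnto (LinearMap.range θ) C hC
  let e : (M ⧸ LinearMap.ker θ) ≃ₗ[R] LinearMap.range θ := θ.quotKerEquivRange
  let fb : (M ⧸ LinearMap.ker θ) →ₗ[R] V := (LinearMap.ker θ).liftQ f h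
  refine ⟨fb ∘ₗ e.symm.toLinearMap ∘ₗ proj, fun m => ?_, fun n => ?_⟩
  · show fb (e.symm (proj (θ m))) = f m
    have h1 : proj (θ m) = ⟨θ m, LinearMap.mem_range_self θ m⟩ :=
      Submodule.projectionOnto_apply_left hC ⟨θ m, LinearMap.mem_range_self θ m⟩
    rw [h1]
    have h2 : e.symm ⟨θ m, LinearMap.mem_range_self θ m⟩ = Submodule.Quotient.mk m :=
      LinearMap.quotKerEquivRange_symm_apply_image θ m (LinearMap.mem_range_self θ m)
    rw [h2]
    exact Submodule.liftQ_apply _ _ _
  · show ∃ m, fb (e.symm (proj n)) = f m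
    obtain ⟨m, hm⟩ := Submodule.Quotient.mk_surjective _ (e.symm (proj n))
    exact ⟨m, by rw [← hm]; exact Submodule.liftQ_apply _ _ _⟩

end ext

section semisimple

variable {P : Type*} [CommRing P] (𝔐 : Ideal P) [𝔐.IsMaximal] (M : Type*) [AddCommGroup M]
  [Module P M]

/-- A module killed by a maximal ideal is semisimple. -/
theorem isSemisimpleModule_of_isTorsionBySet (h : Module.IsTorsionBySet P M (𝔐 : Set P)) :
    IsSemisimpleModule P M := by
  letI : Field (P ⧸ 𝔐) := Ideal.Quotient.field 𝔐
  letI := h.module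
  exact (Module.IsTorsionBySet.isSemisimpleModule_iff h).1 inferInstance

end semisimple

section local_

variable {E S : Type*} [CommRing E] [CommRing S]

/-- A ring hom with nilpotent kernel elements reflects units (surjective case). -/
theorem isUnit_of_isUnit_map_of_sq_zero (π : E →+* S) (hπ : Function.Surjective π)
    (hsq : ∀ a b : E, π a = 0 → π b = 0 → a * b = 0) (x : E) (hx : IsUnit (π x)) : IsUnit x := by
  obtain ⟨y, hy⟩ := hπ (↑hx.unit⁻¹ : S)
  have h1 : π (x * y - 1) = 0 := by
    rw [map_sub, map_mul, hy, map_one, IsUnit.mul_val_inv, sub_self]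
  have h2 : (x * y - 1) * (x * y - 1) = 0 := hsq _ _ h1 h1
  refine IsUnit.of_mul_eq_one (y * (2 - x * y)) ?_
  linear_combination (-1 : E) * h2

/-- A ring surjecting onto a local ring with square-zero kernel is local. -/
theorem isLocalRing_of_surjective_of_sq_zero [IsLocalRing S] (π : E →+* S)
    (hπ : Function.Surjective π)
    (hsq : ∀ a b : E, π a = 0 → π b = 0 → a * b = 0) : IsLocalRing E := by
  haveI : Nontrivial E := by
    refine ⟨⟨0, 1, fun h => ?_⟩⟩
    have h1 : π 0 = π 1 := by rw [h]
    rw [map_zero, map_one] at h1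
    exact zero_ne_one h1
  refine IsLocalRing.of_isUnit_or_isUnit_one_sub_self fun a => ?_
  rcases IsLocalRing.isUnit_or_isUnit_one_sub_self (π a) with h | h
  · exact Or.inl (isUnit_of_isUnit_map_of_sq_zero π hπ hsq a h)
  · refine Or.inr (isUnit_of_isUnit_map_of_sq_zero π hπ hsq (1 - a) ?_)
    rwa [map_sub, map_one]

/-- Such a surjection is a local homomorphism. -/
theorem isLocalHom_of_surjective_of_sq_zero (π : E →+* S)
    (hπ : Function.Surjective π)
    (hsq : ∀ a b : E, π a = 0 → π b = 0 → a * b = 0) : IsLocalHom π :=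
  ⟨fun x hx => isUnit_of_isUnit_map_of_sq_zero π hπ hsq x hx⟩

end local_

end Groth.Agent.Helper8.SmallExt
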