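import Mathlib
import Groth.Agent.Lib.Helper8.SmallExt1

/-!
# Lifting along small extensions: the key vanishing statement
-/

set_option autoImplicit false

namespace Groth.Agent.Helper8.SmallExt

open IsLocalRing KaehlerDifferential

universe u

/-- Lifting along small extensions (surjective form): every surjective `R`-algebra map from `S`
to the quotient of an Artinian local `R`-algebra `A` by a square-zero ideal of length one lifts
to `A`. -/
def SmallLift (R S : Type u) [CommRing R] [CommRing S] [Algebra R S] : Prop :=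
  ∀ (A : Type u) [CommRing A] [IsLocalRing A] [IsArtinianRing A] [Algebra R A] (J : Ideal A),
    J ^ 2 = ⊥ → Module.length A J = 1 → ∀ [IsLocalRing (A ⧸ J)] (ψ : S →ₐ[R] A ⧸ J),
      Function.Surjective ψ → ∃ χ : S →ₐ[R] A, (Ideal.Quotient.mkₐ R J).comp χ = ψ

section key

variable {R S : Type u} [CommRing R] [CommRing S] [IsLocalRing S] [IsNoetherianRing S]
  [Algebra R S]

/-- Quotient of a local ring by an ideal `𝔞`, with the image `J₁` of an ideal `V` killed by the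
maximal ideal and generated modulo `𝔞` by one element outside `𝔞`: `J₁` is simple. -/
theorem length_map_eq_one {E : Type u} [CommRing E] [IsLocalRing E] (V 𝔞 : Ideal E)
    (hV : ∀ a ∈ maximalIdeal E, ∀ v ∈ V, a * v = 0) (w₀ : E) (hw₀ : w₀ ∈ V) (hw₀𝔞 : w₀ ∉ 𝔞)
    (hgen : ∀ v ∈ V, ∃ c : E, v - c * w₀ ∈ 𝔞) :
    Module.length (E ⧸ 𝔞) (V.map (Ideal.Quotient.mk 𝔞)) = 1 := by
  rw [Module.length_eq_one_iff, isSimpleModule_iff_toSpanSingleton_surjective]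
  have hmk : ∀ j ∈ V.map (Ideal.Quotient.mk 𝔞), ∃ c : E, j = Ideal.Quotient.mk 𝔞 (c * w₀) := by
    intro j hj
    obtain ⟨v, hv, rfl⟩ := (Ideal.mem_map_iff_of_surjective _ Ideal.Quotient.mk_surjective).1 hj
    obtain ⟨c, hc⟩ := hgen v hv
    exact ⟨c, (Ideal.Quotient.eq).2 hc⟩
  have he₁ : Ideal.Quotient.mk 𝔞 w₀ ∈ V.map (Ideal.Quotient.mk 𝔞) := Ideal.mem_map_of_mem _ hw₀
  refine ⟨⟨⟨0, ⟨_, he₁⟩, fun h => hw₀𝔞 ?_⟩⟩, fun y hy z => ?_⟩
  · have h1 : (0 : E ⧸ 𝔞) = Ideal.Quotient.mk 𝔞 w₀ := congrArg Subtype.val h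
    exact Ideal.Quotient.eq_zero_iff_mem.1 h1.symm
  · obtain ⟨c, hc⟩ := hmk y.1 y.2
    obtain ⟨d, hd⟩ := hmk z.1 z.2
    have hcu : IsUnit c := by
      by_contra hcu
      have h1 : c * w₀ = 0 := hV c ((IsLocalRing.mem_maximalIdeal c).2 hcu) w₀ hw₀
      apply hy
      apply Subtype.ext
      rw [hc, h1, map_zero]
      rfl
    obtain ⟨c', hc'⟩ := hcu.exists_left_inv
    refine ⟨Ideal.Quotient.mk 𝔞 (d * c'), Subtype.ext ?_⟩
    show Ideal.Quotient.mk 𝔞 (d * c') • (y : E ⧸ 𝔞) = z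
    rw [hc, hd, smul_eq_mul, ← map_mul]
    congr 1
    linear_combination (d * w₀) * hc'

end key

/-- The quotient of a ring by an ideal, as a module over the ring, is Artinian when the
quotient ring is. -/
theorem isArtinian_quotient_of_isArtinianRing {A : Type*} [CommRing A] (J : Ideal A)
    [IsArtinianRing (A ⧸ J)] : IsArtinian A (A ⧸ J) := by
  let e : A ⧸ J →ₛₗ[Ideal.Quotient.mk J] A ⧸ J := ⟨.id _, fun _ _ ↦ rfl⟩
  exact (e.isArtinian_iff_of_bijective Function.bijective_id).2 ‹_›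

/-- A ring is Artinian if it is an extension of an Artinian ring by an ideal of length one. -/
theorem isArtinianRing_of_length_eq_one {A : Type*} [CommRing A] (J : Ideal A)
    [IsArtinianRing (A ⧸ J)] (hlen : Module.length A J = 1) : IsArtinianRing A := by
  haveI : IsArtinian A (A ⧸ J) := isArtinian_quotient_of_isArtinianRing J
  haveI : IsArtinian A J := by
    have h1 : Module.length A J ≠ ⊤ := by rw [hlen]; exact ENat.one_ne_top
    exact (isFiniteLength_iff_isNoetherian_isArtinian.1 (Module.length_ne_top_iff.1 h1)).2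
  exact isArtinian_of_range_eq_ker (Submodule.subtype J) (Submodule.mkQ J)
    (by rw [Submodule.range_subtype, Submodule.ker_mkQ])

section key2

variable {R S : Type u} [CommRing R] [CommRing S] [IsLocalRing S] [IsNoetherianRing S]
  [Algebra R S]

/-- The key vanishing statement: in a square-zero extension `E → S` whose kernel is killed by the
maximal ideal and meets a power of the maximal ideal trivially, an element of the kernel of a
presentation `P → S` whose differential is zero modulo the maximal ideal maps to zero in `E`. -/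
theorem map_eq_zero_of_D_mem (H : SmallLift R S)
    {E : Type u} [CommRing E] [Algebra R E] (π : E →ₐ[R] S) (hπ : Function.Surjective π)
    (h1 : ∀ a b : E, π a ∈ maximalIdeal S → π b = 0 → a * b = 0)
    (m : ℕ) (h2 : ∀ a : E, π a = 0 → a ∈ ((maximalIdeal S).comap (π : E →+* S)) ^ m → a = 0)
    {P : Type u} [CommRing P] [Algebra R P] (πP : P →ₐ[R] S) (φ : P →ₐ[R] E)
    (hφ : ∀ p, π (φ p) = πP p) (x : P) (hx : πP x = 0)
    (hDx : D R P x ∈ ((maximalIdeal S).comap (πP : P →+* S)) • (⊤ : Submodule P Ω[P⁄R])) :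
    φ x = 0 := by
  classical
  by_contra hw
  obtain ⟨𝔫E, h𝔫E⟩ : ∃ 𝔫E : Ideal E, 𝔫E = (maximalIdeal S).comap (π : E →+* S) := ⟨_, rfl⟩
  obtain ⟨V, hV⟩ : ∃ V : Ideal E, V = RingHom.ker (π : E →+* S) := ⟨_, rfl⟩
  rw [← h𝔫E] at h2
  have hmemV : ∀ a, a ∈ V ↔ π a = 0 := fun a => by rw [hV]; exact RingHom.mem_ker
  have hmem𝔫E : ∀ a, a ∈ 𝔫E ↔ π a ∈ maximalIdeal S := fun a => by rw [h𝔫E]; exact Ideal.mem_comap
  have hV𝔫 : V ≤ 𝔫E := fun a ha => (hmem𝔫E a).2 (by rw [(hmemV a).1 ha]; exact Ideal.zero_mem _)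
  have hkill : ∀ a ∈ 𝔫E, ∀ v ∈ V, a * v = 0 := fun a ha v hv =>
    h1 a v ((hmem𝔫E a).1 ha) ((hmemV v).1 hv)
  haveI h𝔫Emax : 𝔫E.IsMaximal := by
    rw [h𝔫E]; exact Ideal.comap_isMaximal_of_surjective (π : E →+* S) hπ
  have hsq : ∀ a b : E, (π : E →+* S) a = 0 → (π : E →+* S) b = 0 → a * b = 0 :=
    fun a b ha hb => h1 a b (by
      have : π a = 0 := ha
      rw [this]; exact Ideal.zero_mem _) hb
  haveI : IsLocalRing E := isLocalRing_of_surjective_of_sq_zero (π : E →+* S) hπ hsq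
  have hmaxE : maximalIdeal E = 𝔫E := (IsLocalRing.eq_maximalIdeal h𝔫Emax).symm
  -- the bad element
  have hw₀V : φ x ∈ V := (hmemV _).2 (by rw [hφ, hx])
  -- a complement
  have htorsV : Module.IsTorsionBySet E V (𝔫E : Set E) := by
    intro v a
    apply Subtype.ext
    show (a : E) * (v : E) = 0
    exact hkill a a.2 v v.2
  haveI : IsSemisimpleModule E V := isSemisimpleModule_of_isTorsionBySet 𝔫E V htorsV
  obtain ⟨W, hW⟩ := exists_isCompl (Submodule.span E {(⟨φ x, hw₀V⟩ : V)})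
  obtain ⟨W', hW'⟩ : ∃ W' : Ideal E, W' = W.map (Submodule.subtype V) := ⟨_, rfl⟩
  have hW'V : W' ≤ V := by
    rw [hW']
    rintro _ ⟨y, -, rfl⟩
    exact y.2
  have hw₀W' : φ x ∉ W' := by
    rw [hW']
    rintro ⟨y, hy, hyw⟩
    have h3 : y = ⟨φ x, hw₀V⟩ := Subtype.ext hyw
    have h4 : (⟨φ x, hw₀V⟩ : V) ∈ Submodule.span E {(⟨φ x, hw₀V⟩ : V)} ⊓ W :=
      ⟨Submodule.mem_span_singleton_self _, h3 ▸ hy⟩
    rw [hW.inf_eq_bot, Submodule.mem_bot] at h4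
    exact hw (congrArg Subtype.val h4)
  have hVgen : ∀ v ∈ V, ∃ c : E, v - c * φ x ∈ W' := by
    intro v hv
    have h3 : (⟨v, hv⟩ : V) ∈ Submodule.span E {(⟨φ x, hw₀V⟩ : V)} ⊔ W := by
      rw [hW.sup_eq_top]; trivial
    obtain ⟨y, hy, z, hz, hyz⟩ := Submodule.mem_sup.1 h3
    obtain ⟨c, rfl⟩ := Submodule.mem_span_singleton.1 hy
    refine ⟨c, ?_⟩
    have h4 : v - c * φ x = (z : E) := by
      have := congrArg Subtype.val hyz
      simp only [Submodule.coe_add, Submodule.coe_smul, smul_eq_mul] at this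
      rw [← this]; ring
    rw [h4, hW']
    exact ⟨z, hz, rfl⟩
  -- the ideal `𝔞`
  obtain ⟨𝔞, h𝔞⟩ : ∃ 𝔞 : Ideal E, 𝔞 = W' ⊔ 𝔫E ^ m := ⟨_, rfl⟩
  have hW'𝔞 : W' ≤ 𝔞 := h𝔞 ▸ le_sup_left
  have hpow𝔞 : 𝔫E ^ m ≤ 𝔞 := h𝔞 ▸ le_sup_right
  have hw₀𝔞 : φ x ∉ 𝔞 := by
    rw [h𝔞]
    intro h3
    obtain ⟨w, hw', n, hn, hsum⟩ := Submodule.mem_sup.1 h3
    have h4 : n = 0 := by
      refine h2 n ?_ hn
      have h5 : n = φ x - w := by rw [← hsum]; ring
      rw [h5, map_sub, (hmemV _).1 hw₀V, (hmemV _).1 (hW'V hw'), sub_zero]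
    rw [h4, add_zero] at hsum
    exact hw₀W' (hsum ▸ hw')
  have h𝔞top : 𝔞 ≠ ⊤ := fun h => hw₀𝔞 (h ▸ Submodule.mem_top)
  haveI : Nontrivial (E ⧸ 𝔞) := Ideal.Quotient.nontrivial_iff.2 h𝔞top
  haveI : IsLocalRing (E ⧸ 𝔞) :=
    IsLocalRing.of_surjective' (Ideal.Quotient.mk 𝔞) Ideal.Quotient.mk_surjective
  obtain ⟨J₁, hJ₁⟩ : ∃ J₁ : Ideal (E ⧸ 𝔞), J₁ = V.map (Ideal.Quotient.mk 𝔞) := ⟨_, rfl⟩
  have hlen : Module.length (E ⧸ 𝔞) J₁ = 1 := by
    rw [hJ₁]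
    refine length_map_eq_one V 𝔞 (fun a ha v hv => hkill a (hmaxE ▸ ha) v hv) (φ x) hw₀V hw₀𝔞 ?_
    intro v hv
    obtain ⟨c, hc⟩ := hVgen v hv
    exact ⟨c, hW'𝔞 hc⟩
  have hJ₁sq : J₁ ^ 2 = ⊥ := by
    rw [hJ₁, ← Ideal.map_pow, Ideal.map_eq_bot_iff_le_ker, Ideal.mk_ker, pow_two]
    intro y hy
    have h3 : y = 0 := by
      refine Submodule.mul_induction_on hy (fun a ha b hb => hkill a (hV𝔫 ha) b hb) ?_
      intro a b ha hb
      rw [ha, hb, add_zero]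
    rw [h3]; exact Ideal.zero_mem _
  have hmemJ₁ : ∀ j ∈ J₁, ∃ v ∈ V, Ideal.Quotient.mk 𝔞 v = j := fun j hj =>
    (Ideal.mem_map_iff_of_surjective _ Ideal.Quotient.mk_surjective).1 (hJ₁ ▸ hj)
  -- the quotient `A₁ ⧸ J₁`
  have hle : RingHom.ker π.toRingHom ≤
      RingHom.ker ((Ideal.Quotient.mkₐ R J₁).comp (Ideal.Quotient.mkₐ R 𝔞)).toRingHom := by
    intro a ha
    rw [RingHom.mem_ker]
    show Ideal.Quotient.mk J₁ (Ideal.Quotient.mk 𝔞 a) = 0
    rw [Ideal.Quotient.eq_zero_iff_mem, hJ₁]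
    exact Ideal.mem_map_of_mem _ ((hmemV a).2 ha)
  let ψ₁ : S →ₐ[R] (E ⧸ 𝔞) ⧸ J₁ := AlgHom.liftOfSurjective π hπ _ hle
  have hψ₁ : ∀ a : E, ψ₁ (π a) = Ideal.Quotient.mk J₁ (Ideal.Quotient.mk 𝔞 a) := fun a =>
    AlgHom.liftOfSurjective_apply π hπ _ hle a
  have hψ₁surj : Function.Surjective ψ₁ := by
    intro y
    obtain ⟨y', rfl⟩ := Ideal.Quotient.mk_surjective y
    obtain ⟨a, rfl⟩ := Ideal.Quotient.mk_surjective y'
    exact ⟨π a, hψ₁ a⟩
  have hJ₁top : J₁ ≠ ⊤ := by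
    intro h
    have h3 : (1 : E ⧸ 𝔞) ∈ J₁ := h ▸ Submodule.mem_top
    obtain ⟨v, hv, hv1⟩ := hmemJ₁ 1 h3
    have h4 : v - 1 ∈ 𝔞 := by
      rw [← Ideal.Quotient.eq, hv1, map_one]
    have h5 : 𝔞 ≤ 𝔫E := hmaxE ▸ IsLocalRing.le_maximalIdeal h𝔞top
    have h6 : (1 : E) ∈ 𝔫E := by
      have h7 : (1 : E) = v - (v - 1) := by ring
      rw [h7]
      exact Ideal.sub_mem _ (hV𝔫 hv) (h5 h4)
    exact h𝔫Emax.ne_top ((Ideal.eq_top_iff_one _).2 h6)
  haveI : Nontrivial ((E ⧸ 𝔞) ⧸ J₁) := Ideal.Quotient.nontrivial_iff.2 hJ₁top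
  haveI : IsLocalRing ((E ⧸ 𝔞) ⧸ J₁) :=
    IsLocalRing.of_surjective' (Ideal.Quotient.mk J₁) Ideal.Quotient.mk_surjective
  haveI : IsNoetherianRing ((E ⧸ 𝔞) ⧸ J₁) :=
    isNoetherianRing_of_surjective S _ (ψ₁ : S →+* (E ⧸ 𝔞) ⧸ J₁) hψ₁surj
  haveI : IsArtinianRing ((E ⧸ 𝔞) ⧸ J₁) := by
    rw [isArtinianRing_iff_isNilpotent_maximalIdeal]
    refine ⟨m, ?_⟩
    rw [← IsLocalRing.map_maximalIdeal_of_surjective (ψ₁ : S →+* (E ⧸ 𝔞) ⧸ J₁) hψ₁surj,
      ← Ideal.map_pow, Ideal.zero_eq_bot, Ideal.map_eq_bot_iff_le_ker]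
    intro s hs
    have h3 : maximalIdeal S ^ m = (𝔫E ^ m).map (π : E →+* S) := by
      rw [Ideal.map_pow, h𝔫E, Ideal.map_comap_of_surjective (π : E →+* S) hπ]
    rw [h3] at hs
    obtain ⟨a, ha, rfl⟩ := (Ideal.mem_map_iff_of_surjective _ hπ).1 hs
    rw [RingHom.mem_ker]
    show ψ₁ (π a) = 0
    rw [hψ₁, Ideal.Quotient.eq_zero_iff_mem.2 (hpow𝔞 ha), map_zero]
  haveI : IsArtinianRing (E ⧸ 𝔞) := isArtinianRing_of_length_eq_one J₁ hlen
  obtain ⟨χ₁, hχ₁⟩ := H (E ⧸ 𝔞) J₁ hJ₁sq hlen ψ₁ hψ₁surj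
  have hχ₁' : ∀ s : S, Ideal.Quotient.mk J₁ (χ₁ s) = ψ₁ s := fun s => AlgHom.congr_fun hχ₁ s
  -- the derivation
  let can : P →ₐ[R] (E ⧸ 𝔞) := (Ideal.Quotient.mkₐ R 𝔞).comp φ
  let χ' : P →ₐ[R] (E ⧸ 𝔞) := χ₁.comp πP
  have hcan : ∀ y : P, can y = Ideal.Quotient.mk 𝔞 (φ y) := fun y => rfl
  have hχ' : ∀ y : P, χ' y = χ₁ (πP y) := fun y => rfl
  letI : Algebra P (E ⧸ 𝔞) := can.toRingHom.toAlgebra
  haveI : IsScalarTower R P (E ⧸ 𝔞) := IsScalarTower.of_algebraMap_eq' can.comp_algebraMap.symm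
  have hsmul : ∀ (p : P) (a : E ⧸ 𝔞), p • a = can p * a := fun p a => rfl
  have hD : ∀ y : P, can y - χ' y ∈ J₁ := by
    intro y
    rw [← Ideal.Quotient.eq, hcan, hχ', hχ₁', ← hφ, hψ₁]
  have hDD : ∀ a b : P, (can a - χ' a) * (can b - χ' b) = 0 := by
    intro a b
    have h3 : (can a - χ' a) * (can b - χ' b) ∈ J₁ ^ 2 := by
      rw [pow_two]; exact Ideal.mul_mem_mul (hD a) (hD b)
    rw [hJ₁sq] at h3
    exact h3
  let D₀ : Derivation R P (E ⧸ 𝔞) :=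
    { toLinearMap := can.toLinearMap - χ'.toLinearMap
      map_one_eq_zero' := by
        show can 1 - χ' 1 = 0
        rw [map_one, map_one, sub_self]
      leibniz' := by
        intro a b
        show can (a * b) - χ' (a * b) = a • (can b - χ' b) + b • (can a - χ' a)
        rw [hsmul, hsmul, map_mul, map_mul]
        linear_combination (-1 : E ⧸ 𝔞) * hDD a b }
  have hD₀ : ∀ y : P, D₀ y = can y - χ' y := fun y => rfl
  let Dt : Ω[P⁄R] →ₗ[P] (E ⧸ 𝔞) := D₀.liftKaehlerDifferential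
  have hDt : ∀ y : P, Dt (D R P y) = can y - χ' y := fun y =>
    (D₀.liftKaehlerDifferential_comp_D y).trans (hD₀ y)
  have hrange : ∀ ω : Ω[P⁄R], Dt ω ∈ J₁ := by
    intro ω
    have hω : ω ∈ Submodule.span P (Set.range (D R P)) := by
      rw [KaehlerDifferential.span_range_derivation]; trivial
    refine Submodule.span_induction ?_ ?_ ?_ ?_ hω
    · rintro _ ⟨y, rfl⟩
      rw [hDt]
      exact hD y
    · rw [map_zero]
      exact Ideal.zero_mem _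
    · intro x y _ _ hx hy
      rw [map_add]
      exact Ideal.add_mem _ hx hy
    · intro a x _ hx
      rw [map_smul, hsmul]
      exact Ideal.mul_mem_left _ _ hx
  have hzero : Dt (D R P x) = 0 := by
    refine Submodule.smul_induction_on hDx ?_ ?_
    · intro r hr ω _
      rw [map_smul, hsmul, hcan]
      obtain ⟨v, hv, hv'⟩ := hmemJ₁ _ (hrange ω)
      rw [← hv', ← map_mul]
      have h3 : φ r ∈ 𝔫E := (hmem𝔫E _).2 (by rw [hφ]; exact hr)
      rw [hkill _ h3 v hv, map_zero]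
    · intro a b ha hb
      rw [map_add, ha, hb, add_zero]
  rw [hDt, hχ', hx, map_zero, sub_zero, hcan, Ideal.Quotient.eq_zero_iff_mem] at hzero
  exact hw₀𝔞 hzero

end key2

end Groth.Agent.Helper8.SmallExt
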