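import Mathlib
import Groth.Agent.Lib.Helper8.SmallExt2

/-!
# Lifting along small extensions: sections of extensions killed by the maximal ideal
-/

set_option autoImplicit false

namespace Groth.Agent.Helper8.SmallExt

open IsLocalRing KaehlerDifferential

universe u

section sect

variable {R S : Type u} [CommRing R] [CommRing S] [IsLocalRing S] [IsNoetherianRing S]
  [Algebra R S]

/-- A surjection `E → S` whose kernel is killed by the (preimage of the) maximal ideal and meets
a power of it trivially has a section, if lifts along small extensions exist. -/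
theorem exists_section (H : SmallLift R S)
    {E : Type u} [CommRing E] [Algebra R E] (π : E →ₐ[R] S) (hπ : Function.Surjective π)
    (h1 : ∀ a b : E, π a ∈ maximalIdeal S → π b = 0 → a * b = 0)
    (m : ℕ) (h2 : ∀ a : E, π a = 0 → a ∈ ((maximalIdeal S).comap (π : E →+* S)) ^ m → a = 0) :
    ∃ σ : S →ₐ[R] E, π.comp σ = AlgHom.id R S := by
  classical
  let πP : MvPolynomial S R →ₐ[R] S := MvPolynomial.aeval id
  have hπP : Function.Surjective πP := fun s => ⟨MvPolynomial.X s, by simp [πP]⟩
  let φ : MvPolynomial S R →ₐ[R] E := MvPolynomial.aeval (fun s => Function.surjInv hπ s)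
  have hφ : ∀ p, π (φ p) = πP p := by
    have h3 : π.comp φ = πP := MvPolynomial.algHom_ext (fun s => by
      simp [φ, πP, Function.surjInv_eq hπ])
    exact fun p => AlgHom.congr_fun h3 p
  obtain ⟨I, hI⟩ : ∃ I : Ideal (MvPolynomial S R), I = RingHom.ker (πP : MvPolynomial S R →+* S) :=
    ⟨_, rfl⟩
  obtain ⟨𝔐, h𝔐⟩ : ∃ 𝔐 : Ideal (MvPolynomial S R),
    𝔐 = (maximalIdeal S).comap (πP : MvPolynomial S R →+* S) := ⟨_, rfl⟩
  have hmemI : ∀ a, a ∈ I ↔ πP a = 0 := fun a => by rw [hI]; exact RingHom.mem_ker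
  have hmem𝔐 : ∀ a, a ∈ 𝔐 ↔ πP a ∈ maximalIdeal S := fun a => by rw [h𝔐]; exact Ideal.mem_comap
  haveI : 𝔐.IsMaximal := by
    rw [h𝔐]; exact Ideal.comap_isMaximal_of_surjective (πP : MvPolynomial S R →+* S) hπP
  have hI𝔐 : I ≤ 𝔐 := fun a ha => (hmem𝔐 a).2 (by rw [(hmemI a).1 ha]; exact Ideal.zero_mem _)
  have key : ∀ x ∈ I, D R (MvPolynomial S R) x ∈
      𝔐 • (⊤ : Submodule (MvPolynomial S R) Ω[MvPolynomial S R⁄R]) → φ x = 0 := by
    intro x hx hDx
    exact map_eq_zero_of_D_mem H π hπ h1 m h2 πP φ hφ x ((hmemI x).1 hx) (h𝔐 ▸ hDx)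
  have hVV : ∀ a b : E, π a = 0 → π b = 0 → a * b = 0 := fun a b ha hb =>
    h1 a b (by rw [ha]; exact Ideal.zero_mem _) hb
  letI : Algebra (MvPolynomial S R) E := φ.toRingHom.toAlgebra
  haveI : IsScalarTower R (MvPolynomial S R) E :=
    IsScalarTower.of_algebraMap_eq' φ.comp_algebraMap.symm
  have hsmul : ∀ (p : MvPolynomial S R) (e : E), p • e = φ p * e := fun p e => rfl
  -- the module of differentials modulo the maximal ideal
  have htors : Module.IsTorsionBySet (MvPolynomial S R)
      (Ω[MvPolynomial S R⁄R] ⧸ (𝔐 • (⊤ : Submodule (MvPolynomial S R) Ω[MvPolynomial S R⁄R])))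
      (𝔐 : Set (MvPolynomial S R)) := by
    intro y a
    obtain ⟨ω, rfl⟩ := Submodule.Quotient.mk_surjective _ y
    rw [← Submodule.Quotient.mk_smul, Submodule.Quotient.mk_eq_zero]
    exact Submodule.smul_mem_smul a.2 trivial
  haveI : IsSemisimpleModule (MvPolynomial S R)
      (Ω[MvPolynomial S R⁄R] ⧸ (𝔐 • (⊤ : Submodule (MvPolynomial S R) Ω[MvPolynomial S R⁄R]))) :=
    isSemisimpleModule_of_isTorsionBySet 𝔐 _ htors
  let θ : I →ₗ[MvPolynomial S R]
      (Ω[MvPolynomial S R⁄R] ⧸ (𝔐 • (⊤ : Submodule (MvPolynomial S R) Ω[MvPolynomial S R⁄R]))) :=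
    { toFun := fun x => Submodule.Quotient.mk (D R (MvPolynomial S R) (x : MvPolynomial S R))
      map_add' := fun x y => by
        show Submodule.Quotient.mk (D R (MvPolynomial S R) ((x : MvPolynomial S R) + y)) = _
        rw [map_add, Submodule.Quotient.mk_add]
      map_smul' := fun p x => by
        show Submodule.Quotient.mk (D R (MvPolynomial S R) (p * (x : MvPolynomial S R))) =
          p • Submodule.Quotient.mk (D R (MvPolynomial S R) (x : MvPolynomial S R))
        rw [Derivation.leibniz, Submodule.Quotient.mk_add, Submodule.Quotient.mk_smul]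
        have h3 : (Submodule.Quotient.mk ((x : MvPolynomial S R) • D R (MvPolynomial S R) p) :
            Ω[MvPolynomial S R⁄R] ⧸ (𝔐 • (⊤ : Submodule (MvPolynomial S R)
              Ω[MvPolynomial S R⁄R]))) = 0 := by
          rw [Submodule.Quotient.mk_eq_zero]
          exact Submodule.smul_mem_smul (hI𝔐 x.2) trivial
        rw [h3, add_zero] }
  have hθ : ∀ x : I, θ x = Submodule.Quotient.mk (D R (MvPolynomial S R) (x : MvPolynomial S R)) :=
    fun x => rfl
  let f : I →ₗ[MvPolynomial S R] E :=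
    { toFun := fun x => φ x
      map_add' := fun x y => map_add φ _ _
      map_smul' := fun p x => by
        show φ (p * (x : MvPolynomial S R)) = p • φ x
        rw [map_mul, hsmul] }
  have hf : ∀ x : I, f x = φ x := fun x => rfl
  have hker : LinearMap.ker θ ≤ LinearMap.ker f := by
    intro x hx
    rw [LinearMap.mem_ker, hθ, Submodule.Quotient.mk_eq_zero] at hx
    rw [LinearMap.mem_ker, hf]
    exact key x x.2 hx
  obtain ⟨gb, hgb, hgb'⟩ := exists_factor_of_ker_le θ f hker
  let g : Ω[MvPolynomial S R⁄R] →ₗ[MvPolynomial S R] E := gb ∘ₗ Submodule.mkQ _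
  have hg1 : ∀ x ∈ I, g (D R (MvPolynomial S R) x) = φ x := fun x hx => hgb ⟨x, hx⟩
  have hg2 : ∀ ω, π (g ω) = 0 := by
    intro ω
    obtain ⟨y, hy⟩ := hgb' (Submodule.Quotient.mk ω)
    have h3 : g ω = gb (Submodule.Quotient.mk ω) := rfl
    rw [h3, hy, hf, hφ]
    exact (hmemI _).1 y.2
  -- the corrected lift
  let φ' : MvPolynomial S R →ₐ[R] E :=
    AlgHom.ofLinearMap (φ.toLinearMap - (g.restrictScalars R) ∘ₗ
      (D R (MvPolynomial S R)).toLinearMap)
      (by
        show φ 1 - g (D R (MvPolynomial S R) 1) = 1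
        rw [map_one, Derivation.map_one_eq_zero, map_zero, sub_zero])
      (by
        intro a b
        show φ (a * b) - g (D R (MvPolynomial S R) (a * b)) =
          (φ a - g (D R (MvPolynomial S R) a)) * (φ b - g (D R (MvPolynomial S R) b))
        rw [Derivation.leibniz, map_add, map_smul, map_smul, hsmul, hsmul, map_mul]
        have h3 := hVV _ _ (hg2 (D R (MvPolynomial S R) a)) (hg2 (D R (MvPolynomial S R) b))
        linear_combination (-1 : E) * h3)
  have hφ' : ∀ p, φ' p = φ p - g (D R (MvPolynomial S R) p) := fun p => rfl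
  have hle : RingHom.ker πP.toRingHom ≤ RingHom.ker φ'.toRingHom := by
    intro a ha
    rw [RingHom.mem_ker]
    show φ' a = 0
    rw [hφ', hg1 a ((hmemI a).2 ha), sub_self]
  refine ⟨AlgHom.liftOfSurjective πP hπP φ' hle, ?_⟩
  apply AlgHom.ext
  intro s
  obtain ⟨p, rfl⟩ := hπP s
  show π (AlgHom.liftOfSurjective πP hπP φ' hle (πP p)) = πP p
  rw [AlgHom.liftOfSurjective_apply, hφ', map_sub, hg2, sub_zero, hφ]

end sect

end Groth.Agent.Helper8.SmallExt
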