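import Mathlib
import Groth.Prelude.Def_CAlgX
import Groth.Agent.Lib.Helper8.SmallExt3

/-!
# Lifting along small extensions implies adic formal smoothness
-/

set_option autoImplicit false

namespace Groth.Agent.Helper8.SmallExt

open IsLocalRing

universe u

section lift

variable {R S : Type u} [CommRing R] [CommRing S] [IsLocalRing S] [IsNoetherianRing S]
  [Algebra R S]

/-- Lifting along a surjection whose kernel is killed by the preimage of the ideal generated by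
the image of the maximal ideal. -/
theorem exists_lift_of_kill (H : SmallLift R S)
    {C' C'' : Type u} [CommRing C'] [CommRing C''] [Algebra R C'] [Algebra R C'']
    (p : C' →ₐ[R] C'') (hp : Function.Surjective p) (u : S →ₐ[R] C'') (k : ℕ)
    (hu : ∀ s ∈ maximalIdeal S ^ k, u s = 0)
    (hq : ∀ a b : C', p a ∈ (maximalIdeal S).map (u : S →+* C'') → p b = 0 → a * b = 0) :
    ∃ v : S →ₐ[R] C', p.comp v = u := by
  classical
  let E : Subalgebra R (C' × S) :=
    AlgHom.equalizer (p.comp (AlgHom.fst R C' S)) (u.comp (AlgHom.snd R C' S))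
  have hE : ∀ e : E, p (e : C' × S).1 = u (e : C' × S).2 := fun e => e.2
  let π : E →ₐ[R] S := (AlgHom.snd R C' S).comp E.val
  let F : E →ₐ[R] C' := (AlgHom.fst R C' S).comp E.val
  have hπ' : ∀ e : E, π e = (e : C' × S).2 := fun e => rfl
  have hF' : ∀ e : E, F e = (e : C' × S).1 := fun e => rfl
  have hpF : ∀ e : E, p (F e) = u (π e) := fun e => hE e
  have hext : ∀ e : E, F e = 0 → π e = 0 → e = 0 := by
    intro e h3 h4
    apply Subtype.ext
    exact Prod.ext h3 h4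
  have hπ : Function.Surjective π := by
    intro s
    obtain ⟨c, hc⟩ := hp (u s)
    exact ⟨⟨(c, s), hc⟩, rfl⟩
  have hFF : ∀ a b : E, π a ∈ maximalIdeal S → p (F b) = 0 → F a * F b = 0 := by
    intro a b ha hb
    refine hq (F a) (F b) ?_ hb
    rw [hpF]
    exact Ideal.mem_map_of_mem _ ha
  have h1 : ∀ a b : E, π a ∈ maximalIdeal S → π b = 0 → a * b = 0 := by
    intro a b ha hb
    apply hext
    · rw [map_mul]
      exact hFF a b ha (by rw [hpF, hb, map_zero])
    · rw [map_mul, hb, mul_zero]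
  have hpow : ∀ (j : ℕ) (a : E), a ∈ ((maximalIdeal S).comap (π : E →+* S)) ^ j →
      π a ∈ maximalIdeal S ^ j := by
    intro j a ha
    have h3 : (π : E →+* S) a ∈ (((maximalIdeal S).comap (π : E →+* S)) ^ j).map (π : E →+* S) :=
      Ideal.mem_map_of_mem _ ha
    rw [Ideal.map_pow] at h3
    exact Ideal.pow_right_mono Ideal.map_comap_le j h3
  have h2 : ∀ a : E, π a = 0 → a ∈ ((maximalIdeal S).comap (π : E →+* S)) ^ (k + 1) → a = 0 := by
    intro a ha ha'
    refine hext a ?_ ha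
    rw [pow_succ] at ha'
    refine Submodule.mul_induction_on ha' ?_ ?_
    · intro x hx y hy
      rw [map_mul, mul_comm]
      refine hFF y x hy ?_
      rw [hpF]
      exact hu _ (hpow k x hx)
    · intro x y hx hy
      rw [map_add, hx, hy, add_zero]
  obtain ⟨σ, hσ⟩ := exists_section H π hπ h1 (k + 1) h2
  refine ⟨F.comp σ, ?_⟩
  apply AlgHom.ext
  intro s
  show p (F (σ s)) = u s
  rw [hpF]
  exact congrArg u (AlgHom.congr_fun hσ s)

/-- Lifting through an ideal killed by a power of the preimage of the image of the maximal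
ideal. -/
theorem exists_lift_of_pow_kill (H : SmallLift R S) (n : ℕ) :
    ∀ (C : Type u) [CommRing C] [Algebra R C] (J : Ideal C) (ψ : S →ₐ[R] C ⧸ J) (k : ℕ),
      (∀ s ∈ maximalIdeal S ^ k, ψ s = 0) →
      (((maximalIdeal S).map (ψ : S →+* C ⧸ J)).comap (Ideal.Quotient.mk J)) ^ n * J = ⊥ →
      ∃ v : S →ₐ[R] C, (Ideal.Quotient.mkₐ R J).comp v = ψ := by
  induction n with
  | zero =>
    intro C _ _ J ψ k _ hJ
    rw [pow_zero, Ideal.one_eq_top, Ideal.top_mul] at hJ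
    subst hJ
    refine ⟨(AlgEquiv.quotientBot R C).toAlgHom.comp ψ, ?_⟩
    apply AlgHom.ext
    intro s
    obtain ⟨c, hc⟩ := Ideal.Quotient.mk_surjective (ψ s)
    show Ideal.Quotient.mk ⊥ (AlgEquiv.quotientBot R C (ψ s)) = ψ s
    rw [← hc]
    rfl
  | succ n ih =>
    intro C _ _ J ψ k hψ hJ
    obtain ⟨𝔮, h𝔮⟩ : ∃ 𝔮 : Ideal C,
      𝔮 = ((maximalIdeal S).map (ψ : S →+* C ⧸ J)).comap (Ideal.Quotient.mk J) := ⟨_, rfl⟩
    rw [← h𝔮] at hJ
    have hmem𝔮 : ∀ a, a ∈ 𝔮 ↔ Ideal.Quotient.mk J a ∈ (maximalIdeal S).map (ψ : S →+* C ⧸ J) :=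
      fun a => by rw [h𝔮]; exact Ideal.mem_comap
    obtain ⟨J₁, hJ₁⟩ : ∃ J₁ : Ideal C, J₁ = 𝔮 * J := ⟨_, rfl⟩
    have hJ₁J : J₁ ≤ J := hJ₁ ▸ Ideal.mul_le_right
    let p : C ⧸ J₁ →ₐ[R] C ⧸ J := Ideal.Quotient.factorₐ R hJ₁J
    have hpmk : ∀ c : C, p (Ideal.Quotient.mk J₁ c) = Ideal.Quotient.mk J c := fun c => rfl
    have hp : Function.Surjective p := by
      intro y
      obtain ⟨c, rfl⟩ := Ideal.Quotient.mk_surjective y
      exact ⟨Ideal.Quotient.mk J₁ c, rfl⟩
    have hq : ∀ a b : C ⧸ J₁, p a ∈ (maximalIdeal S).map (ψ : S →+* C ⧸ J) → p b = 0 →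
        a * b = 0 := by
      intro a b ha hb
      obtain ⟨a', rfl⟩ := Ideal.Quotient.mk_surjective a
      obtain ⟨b', rfl⟩ := Ideal.Quotient.mk_surjective b
      rw [hpmk] at ha hb
      rw [← map_mul, Ideal.Quotient.eq_zero_iff_mem, hJ₁]
      exact Ideal.mul_mem_mul ((hmem𝔮 a').2 ha) (Ideal.Quotient.eq_zero_iff_mem.1 hb)
    obtain ⟨v₁, hv₁⟩ := exists_lift_of_kill H p hp ψ k hψ hq
    have hpv₁ : ∀ s, p (v₁ s) = ψ s := fun s => AlgHom.congr_fun hv₁ s
    have hv₁k : ∀ s ∈ maximalIdeal S ^ (k + 1), v₁ s = 0 := by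
      intro s hs
      rw [pow_succ] at hs
      refine Submodule.mul_induction_on hs ?_ ?_
      · intro x hx y hy
        rw [map_mul, mul_comm]
        refine hq _ _ ?_ ?_
        · rw [hpv₁]
          exact Ideal.mem_map_of_mem _ hy
        · rw [hpv₁]
          exact hψ x hx
      · intro x y hx hy
        rw [map_add, hx, hy, add_zero]
    have h𝔮₁ : ((maximalIdeal S).map (v₁ : S →+* C ⧸ J₁)).comap (Ideal.Quotient.mk J₁) ≤ 𝔮 := by
      intro a ha
      rw [Ideal.mem_comap] at ha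
      rw [hmem𝔮]
      have h3 : (p : C ⧸ J₁ →+* C ⧸ J) (Ideal.Quotient.mk J₁ a) ∈
          ((maximalIdeal S).map (v₁ : S →+* C ⧸ J₁)).map (p : C ⧸ J₁ →+* C ⧸ J) :=
        Ideal.mem_map_of_mem _ ha
      rw [Ideal.map_map] at h3
      have h4 : (p : C ⧸ J₁ →+* C ⧸ J).comp (v₁ : S →+* C ⧸ J₁) = (ψ : S →+* C ⧸ J) := by
        ext s
        exact hpv₁ s
      rw [h4] at h3
      exact h3
    have hJ₁' : (((maximalIdeal S).map (v₁ : S →+* C ⧸ J₁)).comap (Ideal.Quotient.mk J₁)) ^ n *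
        J₁ = ⊥ := by
      rw [eq_bot_iff, ← hJ, pow_succ, mul_assoc]
      exact Ideal.mul_mono (Ideal.pow_right_mono h𝔮₁ n) hJ₁.le
    obtain ⟨v, hv⟩ := ih C J₁ v₁ (k + 1) hv₁k hJ₁'
    refine ⟨v, ?_⟩
    apply AlgHom.ext
    intro s
    show Ideal.Quotient.mk J (v s) = ψ s
    rw [← hpv₁, ← AlgHom.congr_fun hv s]
    rfl

/-- **Lifting along small extensions implies adic formal smoothness.** -/
theorem isAdicFormallySmooth_of_smallLift (H : SmallLift R S) :
    CAlgX.IsAdicFormallySmooth R S (maximalIdeal S) := by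
  intro A _ _ J hJ ψ ⟨k, hk⟩
  refine exists_lift_of_pow_kill H k A J ψ k hk ?_
  rw [eq_bot_iff, ← hJ, pow_two]
  refine Ideal.mul_mono ?_ le_rfl
  intro a ha
  have h3 : Ideal.Quotient.mk J a ∈ ((((maximalIdeal S).map (ψ : S →+* A ⧸ J)).comap
      (Ideal.Quotient.mk J)) ^ k).map (Ideal.Quotient.mk J) := Ideal.mem_map_of_mem _ ha
  rw [Ideal.map_pow] at h3
  have h4 := Ideal.pow_right_mono (Ideal.map_comap_le (f := Ideal.Quotient.mk J)
    (K := (maximalIdeal S).map (ψ : S →+* A ⧸ J))) k h3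
  rw [← Ideal.map_pow] at h4
  have h5 : (maximalIdeal S ^ k).map (ψ : S →+* A ⧸ J) = ⊥ := by
    rw [Ideal.map_eq_bot_iff_le_ker]
    intro s hs
    exact hk s hs
  rw [h5] at h4
  exact Ideal.Quotient.eq_zero_iff_mem.1 h4

end lift

end Groth.Agent.Helper8.SmallExt
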