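import Mathlib
import Groth.Prelude.Def_CAlgX
import Groth.Agent.Lib.Helper8.SmallExt4

/-!
# Lifting along small extensions: auxiliary statements for the applications
-/

set_option autoImplicit false

namespace Groth.Agent.Helper8.SmallExt

open IsLocalRing

universe u

/-- A local homomorphism to an Artinian local ring kills a power of the maximal ideal. -/
theorem exists_pow_map_eq_zero {S T : Type*} [CommRing S] [CommRing T] [IsLocalRing S]
    [IsLocalRing T] [IsArtinianRing T] (ψ : S →+* T) [IsLocalHom ψ] :
    ∃ k : ℕ, ∀ x ∈ maximalIdeal S ^ k, ψ x = 0 := by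
  obtain ⟨k, hk⟩ := IsArtinianRing.isNilpotent_jacobson_bot (R := T)
  rw [IsLocalRing.jacobson_eq_maximalIdeal _ bot_ne_top] at hk
  refine ⟨k, fun x hx => ?_⟩
  have h1 : ψ x ∈ (maximalIdeal S ^ k).map ψ := Ideal.mem_map_of_mem _ hx
  rw [Ideal.map_pow] at h1
  have h2 := Ideal.pow_right_mono (IsLocalRing.map_maximalIdeal_le ψ) k h1
  rw [hk] at h2
  exact h2

/-- A surjective homomorphism of local rings induces a bijection on residue fields. -/
theorem bijective_residueField_map_of_surjective {S T : Type*} [CommRing S] [CommRing T]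
    [IsLocalRing S] [IsLocalRing T] (ψ : S →+* T) [IsLocalHom ψ] (hψ : Function.Surjective ψ) :
    Function.Bijective (ResidueField.map ψ) := by
  refine ⟨RingHom.injective _, fun y => ?_⟩
  obtain ⟨t, rfl⟩ := IsLocalRing.residue_surjective y
  obtain ⟨s, rfl⟩ := hψ t
  exact ⟨IsLocalRing.residue S s, ResidueField.map_residue ψ s⟩

end Groth.Agent.Helper8.SmallExt
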