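import Mathlib
import Groth.Agent.Lib.Helper8.SmallExt5
import Groth.Agent.Lib.Helper8.AdicFS19

/-!
# Lifting along small extensions and smoothness at a prime
-/

set_option autoImplicit false

namespace Groth.Agent.Helper8.SmallExt

open IsLocalRing

universe u

/-- An ideal of length one in a local ring is principal and killed by the maximal ideal. -/
theorem exists_generator_of_length_eq_one {A : Type*} [CommRing A] [IsLocalRing A] (J : Ideal A)
    (hlen : Module.length A J = 1) :
    ∃ t : A, J = Ideal.span {t} ∧ ∀ a ∈ maximalIdeal A, a * t = 0 := by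
  have hs : IsSimpleModule A J := Module.length_eq_one_iff.1 hlen
  obtain ⟨hnt, hsurj⟩ := isSimpleModule_iff_toSpanSingleton_surjective.1 hs
  obtain ⟨t, ht⟩ := exists_ne (0 : J)
  refine ⟨t.1, le_antisymm ?_ ?_, ?_⟩
  · intro j hj
    obtain ⟨c, hc⟩ := hsurj t ht ⟨j, hj⟩
    have h1 : c * (t : A) = j := congrArg Subtype.val hc
    rw [← h1]
    exact Ideal.mul_mem_left _ _ (Ideal.subset_span rfl)
  · rw [Ideal.span_le, Set.singleton_subset_iff]
    exact t.2
  · intro a ha
    by_contra hne
    have hmem : a * (t : A) ∈ J := Ideal.mul_mem_left _ _ t.2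
    have hne' : (⟨a * (t : A), hmem⟩ : J) ≠ 0 := fun h => hne (congrArg Subtype.val h)
    obtain ⟨c, hc⟩ := hsurj ⟨a * (t : A), hmem⟩ hne' t
    have h1 : c * (a * (t : A)) = t := congrArg Subtype.val hc
    have h2 : IsUnit (1 - c * a) :=
      IsLocalRing.isUnit_one_sub_self_of_mem_nonunits _ (Ideal.mul_mem_left _ c ha)
    have h3 : (1 - c * a) * (t : A) = 0 := by linear_combination -h1
    apply ht
    apply Subtype.ext
    exact (h2.mul_right_eq_zero).1 h3

section smoothAt

variable {R S : Type u} [CommRing R] [IsNoetherianRing R] [CommRing S] [Algebra R S]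
  [Algebra.FiniteType R S] (q : Ideal S) [q.IsPrime]

/-- Lifting along small surjections of Artinian local algebras implies smoothness at a prime. -/
theorem isSmoothAt_of_forall_lift
    (h : ∀ (B' B : Type u) [CommRing B'] [CommRing B] [IsLocalRing B'] [IsLocalRing B]
        [IsArtinianRing B'] [IsArtinianRing B] [Algebra R B'] [Algebra R B] (π : B' →ₐ[R] B),
        Function.Surjective π →
        (∃ t : B', RingHom.ker π.toRingHom = Ideal.span {t} ∧
          ∀ a ∈ IsLocalRing.maximalIdeal B', a * t = 0) →
        ∀ g : S →ₐ[R] B, (IsLocalRing.maximalIdeal B).comap g = q →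
          ∃ g' : S →ₐ[R] B', π.comp g' = g) :
    Algebra.IsSmoothAt R q := by
  haveI : IsNoetherianRing S := Algebra.FiniteType.isNoetherianRing R S
  haveI : IsNoetherianRing (Localization.AtPrime q) :=
    IsLocalization.isNoetherianRing q.primeCompl _ inferInstance
  apply Groth.Agent.Helper8.AdicFS.isSmoothAt_of_isAdicFormallySmooth R S q
  apply isAdicFormallySmooth_of_smallLift
  intro A _ _ _ _ J hJ hlen _ ψ hψ
  haveI hloc : IsLocalHom ψ.toRingHom := IsLocalHom.of_surjective ψ.toRingHom hψ
  obtain ⟨t, ht, htk⟩ := exists_generator_of_length_eq_one J hlen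
  let g : S →ₐ[R] A ⧸ J := ψ.comp (IsScalarTower.toAlgHom R S (Localization.AtPrime q))
  have hg : ∀ s : S, g s = ψ (algebraMap S (Localization.AtPrime q) s) := fun s => rfl
  have hgq : (maximalIdeal (A ⧸ J)).comap g = q := by
    have h1 : (maximalIdeal (A ⧸ J)).comap g =
        ((maximalIdeal (A ⧸ J)).comap ψ.toRingHom).comap
          (algebraMap S (Localization.AtPrime q)) := rfl
    rw [h1, IsLocalRing.maximalIdeal_comap ψ.toRingHom]
    exact IsLocalization.AtPrime.under_maximalIdeal (Localization.AtPrime q) q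
  have hker : RingHom.ker (Ideal.Quotient.mkₐ R J).toRingHom = Ideal.span {t} := by
    rw [← ht]
    exact Ideal.mk_ker
  obtain ⟨g', hg'⟩ := h A (A ⧸ J) (Ideal.Quotient.mkₐ R J) Ideal.Quotient.mk_surjective
    ⟨t, hker, htk⟩ g hgq
  have hg'' : ∀ s : S, Ideal.Quotient.mk J (g' s) = g s := fun s => AlgHom.congr_fun hg' s
  haveI : IsLocalHom (Ideal.Quotient.mk J) :=
    IsLocalHom.of_surjective (Ideal.Quotient.mk J) Ideal.Quotient.mk_surjective
  have hunit : ∀ y : q.primeCompl, IsUnit (g' y) := by
    intro y
    apply isUnit_of_map_unit (Ideal.Quotient.mk J)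
    rw [hg'', hg]
    exact (IsLocalization.map_units (Localization.AtPrime q) y).map ψ
  refine ⟨IsLocalization.liftAlgHom (M := q.primeCompl) (S := Localization.AtPrime q) hunit, ?_⟩
  apply IsLocalization.algHom_ext q.primeCompl
  apply AlgHom.ext
  intro s
  show Ideal.Quotient.mk J (IsLocalization.lift hunit (algebraMap S (Localization.AtPrime q) s)) =
    ψ (algebraMap S (Localization.AtPrime q) s)
  rw [IsLocalization.lift_eq]
  exact hg'' s

/-- Smoothness at a prime implies lifting along nilpotent surjections of local algebras. -/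
theorem exists_lift_of_isSmoothAt (hsm : Algebra.IsSmoothAt R q)
    (B' B : Type u) [CommRing B'] [CommRing B] [IsLocalRing B'] [IsLocalRing B]
    [Algebra R B'] [Algebra R B] (π : B' →ₐ[R] B) (hπ : Function.Surjective π)
    (hnil : IsNilpotent (RingHom.ker (π : B' →+* B)))
    (g : S →ₐ[R] B) (hg : (IsLocalRing.maximalIdeal B).comap g = q) :
    ∃ g' : S →ₐ[R] B', π.comp g' = g := by
  haveI : Algebra.FormallySmooth R (Localization.AtPrime q) := hsm
  have hunit : ∀ y : q.primeCompl, IsUnit (g y) := by
    intro y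
    by_contra hy
    have h1 : (y : S) ∈ (IsLocalRing.maximalIdeal B).comap g := hy
    rw [hg] at h1
    exact y.2 h1
  let gq : Localization.AtPrime q →ₐ[R] B :=
    IsLocalization.liftAlgHom (M := q.primeCompl) (S := Localization.AtPrime q) hunit
  refine ⟨(Algebra.FormallySmooth.liftOfSurjective gq π hπ hnil).comp
    (IsScalarTower.toAlgHom R S (Localization.AtPrime q)), ?_⟩
  apply AlgHom.ext
  intro s
  show π (Algebra.FormallySmooth.liftOfSurjective gq π hπ hnil
    (algebraMap S (Localization.AtPrime q) s)) = g s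
  have h1 := AlgHom.congr_fun (Algebra.FormallySmooth.comp_liftOfSurjective gq π hπ hnil)
    (algebraMap S (Localization.AtPrime q) s)
  exact h1.trans (IsLocalization.lift_eq hunit s)

end smoothAt

end Groth.Agent.Helper8.SmallExt
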