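import Mathlib
import Groth.Prelude.Def_CAlgX
import Groth.Agent.Lib.Helper8.Cartier1
import Groth.Agent.Lib.Helper8.SmallExt7

/-!
# Formal smoothness for the adic topology from a smaller base and injectivity on differentials
-/

set_option autoImplicit false

namespace Groth.Agent.Helper8.Cartier

open IsLocalRing KaehlerDifferential TensorProduct CAlgX Groth.Agent.Helper8.SmallExt

universe u

section main

variable {k₀ R A : Type u} [CommRing k₀] [CommRing R] [CommRing A] [IsLocalRing A]
  [IsNoetherianRing A] [Algebra k₀ R] [Algebra R A] [Algebra k₀ A] [IsScalarTower k₀ R A]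

/-- If `A` is formally smooth over `k₀` for the adic topology and `K ⊗ Ω_R → K ⊗ Ω_A` is injective,
then lifts of `R`-algebra maps along small extensions exist. -/
theorem smallLift_of_injective (h₀ : IsAdicFormallySmooth k₀ A (maximalIdeal A))
    (hinj : Function.Injective
      ((KaehlerDifferential.mapBaseChange ℤ R A).lTensor (ResidueField A))) :
    SmallLift R A := by
  classical
  intro C _ _ _ _ J hJ hlen _ ψ hψ
  haveI hloc : IsLocalHom ψ.toRingHom := IsLocalHom.of_surjective ψ.toRingHom hψ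
  obtain ⟨t, ht, htk⟩ := exists_generator_of_length_eq_one J hlen
  have hkillJ : ∀ c ∈ maximalIdeal C, ∀ j ∈ J, c * j = 0 := by
    intro c hc j hj
    rw [ht] at hj
    obtain ⟨b, rfl⟩ := Ideal.mem_span_singleton'.1 hj
    rw [mul_left_comm, htk c hc, mul_zero]
  have hJJ : ∀ a ∈ J, ∀ b ∈ J, a * b = 0 := by
    intro a ha b hb
    have h1 : a * b ∈ J ^ 2 := by rw [pow_two]; exact Ideal.mul_mem_mul ha hb
    rw [hJ] at h1
    exact h1
  letI algk₀C : Algebra k₀ C := ((algebraMap R C).comp (algebraMap k₀ R)).toAlgebra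
  haveI : IsScalarTower k₀ R C := IsScalarTower.of_algebraMap_eq' rfl
  let ψ₀ : A →ₐ[k₀] C ⧸ J := ψ.restrictScalars k₀
  obtain ⟨n, hn⟩ := exists_pow_map_eq_zero ψ.toRingHom
  obtain ⟨χ₀, hχ₀⟩ := h₀ C J hJ ψ₀ ⟨n, hn⟩
  have hχ₀' : ∀ a, Ideal.Quotient.mk J (χ₀ a) = ψ a := fun a => AlgHom.congr_fun hχ₀ a
  haveI : IsLocalHom (Ideal.Quotient.mk J) :=
    IsLocalHom.of_surjective (Ideal.Quotient.mk J) Ideal.Quotient.mk_surjective
  have hχ₀m : ∀ a ∈ maximalIdeal A, χ₀ a ∈ maximalIdeal C := by
    intro a ha hu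
    have h1 : IsUnit (ψ.toRingHom a) := by
      show IsUnit (ψ a)
      rw [← hχ₀']
      exact hu.map _
    exact ha (isUnit_of_map_unit ψ.toRingHom a h1)
  -- the difference of the two structure maps
  have hδmem : ∀ x : R, algebraMap R C x - χ₀ (algebraMap R A x) ∈ J := by
    intro x
    rw [← Ideal.Quotient.eq, hχ₀', AlgHom.commutes]
    rfl
  -- module structures on `J`
  letI algAC : Algebra A C := χ₀.toRingHom.toAlgebra
  have hsmulA : ∀ (a : A) (j : J), ((a • j : J) : C) = χ₀ a * j := fun a j => rfl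
  have hsmulR : ∀ (x : R) (j : J), ((x • j : J) : C) = algebraMap R C x * j := fun x j =>
    Algebra.smul_def x (j : C)
  have hRJ : ∀ (x : R) (j : J), algebraMap R C x * j = χ₀ (algebraMap R A x) * j := by
    intro x j
    have h1 := hJJ _ (hδmem x) j j.2
    linear_combination h1
  haveI : IsScalarTower R A J := ⟨fun x a j => by
    apply Subtype.ext
    rw [hsmulA, hsmulR, hsmulA, Algebra.smul_def, map_mul, mul_assoc]
    exact (hRJ x ⟨χ₀ a * j, Ideal.mul_mem_left _ _ j.2⟩).symm⟩
  have htors : Module.IsTorsionBySet A J (maximalIdeal A : Set A) := by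
    intro j a
    apply Subtype.ext
    rw [hsmulA]
    exact hkillJ _ (hχ₀m a a.2) j j.2
  letI modK : Module (ResidueField A) J := htors.module
  haveI : IsScalarTower A (ResidueField A) J := htors.isScalarTower
  -- the derivation of `R`
  let δa : R →+ J :=
    { toFun := fun x => ⟨algebraMap R C x - χ₀ (algebraMap R A x), hδmem x⟩
      map_zero' := by
        apply Subtype.ext
        show algebraMap R C 0 - χ₀ (algebraMap R A 0) = 0
        rw [map_zero, map_zero, map_zero, sub_zero]
      map_add' := fun x y => by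
        apply Subtype.ext
        show algebraMap R C (x + y) - χ₀ (algebraMap R A (x + y)) =
          (algebraMap R C x - χ₀ (algebraMap R A x)) + (algebraMap R C y - χ₀ (algebraMap R A y))
        rw [map_add, map_add, map_add]
        ring }
  let δl : R →ₗ[ℤ] J := δa.toIntLinearMap
  have hδl : ∀ x, ((δl x : J) : C) = algebraMap R C x - χ₀ (algebraMap R A x) := fun x => rfl
  let δ : Derivation ℤ R J := Derivation.mk' δl (fun x y => by
    apply Subtype.ext
    rw [Submodule.coe_add, hsmulR, hsmulR, hδl, hδl, hδl, map_mul, map_mul, map_mul]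
    have h1 := hJJ _ (hδmem x) _ (hδmem y)
    linear_combination (-1 : C) * h1)
  have hδ : ∀ x, ((δ x : J) : C) = algebraMap R C x - χ₀ (algebraMap R A x) := fun x => rfl
  -- extension to `A`
  let f₁ : A ⊗[R] Ω[R⁄ℤ] →ₗ[A] J := LinearMap.liftBaseChange A δ.liftKaehlerDifferential
  let f₂ : ResidueField A ⊗[A] (A ⊗[R] Ω[R⁄ℤ]) →ₗ[ResidueField A] J :=
    LinearMap.liftBaseChange (ResidueField A) f₁
  have hinj' : Function.Injective (LinearMap.baseChange (ResidueField A)
      (KaehlerDifferential.mapBaseChange ℤ R A)) := hinj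
  obtain ⟨r, hr⟩ := LinearMap.exists_leftInverse_of_injective _ (LinearMap.ker_eq_bot.2 hinj')
  let g : ResidueField A ⊗[A] Ω[A⁄ℤ] →ₗ[ResidueField A] J := f₂ ∘ₗ r
  let δ' : Derivation ℤ A J :=
    ((g.restrictScalars A) ∘ₗ (TensorProduct.mk A (ResidueField A) Ω[A⁄ℤ] 1)).compDer (D ℤ A)
  have hδ'def : ∀ a, δ' a = g ((1 : ResidueField A) ⊗ₜ[A] D ℤ A a) := fun a => rfl
  have hδ' : ∀ x : R, δ' (algebraMap R A x) = δ x := by
    intro x
    have h1 : LinearMap.baseChange (ResidueField A) (KaehlerDifferential.mapBaseChange ℤ R A)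
        ((1 : ResidueField A) ⊗ₜ[A] ((1 : A) ⊗ₜ[R] D ℤ R x)) =
        (1 : ResidueField A) ⊗ₜ[A] D ℤ A (algebraMap R A x) := by
      rw [LinearMap.baseChange_tmul, KaehlerDifferential.mapBaseChange_tmul, one_smul,
        KaehlerDifferential.map_D]
    rw [hδ'def, ← h1]
    show f₂ (r (LinearMap.baseChange (ResidueField A) (KaehlerDifferential.mapBaseChange ℤ R A)
      ((1 : ResidueField A) ⊗ₜ[A] ((1 : A) ⊗ₜ[R] D ℤ R x)))) = δ x
    have h2 := LinearMap.congr_fun hr ((1 : ResidueField A) ⊗ₜ[A] ((1 : A) ⊗ₜ[R] D ℤ R x))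
    rw [LinearMap.comp_apply] at h2
    rw [h2, LinearMap.id_apply]
    show LinearMap.liftBaseChange (ResidueField A) f₁ _ = _
    rw [LinearMap.liftBaseChange_tmul, one_smul]
    show LinearMap.liftBaseChange A δ.liftKaehlerDifferential _ = _
    rw [LinearMap.liftBaseChange_tmul, one_smul, Derivation.liftKaehlerDifferential_comp_D]
  -- the corrected lift
  let χr : A →+* C :=
    { toFun := fun a => χ₀ a + (δ' a : C)
      map_one' := by
        rw [map_one, Derivation.map_one_eq_zero, Submodule.coe_zero, add_zero]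
      map_zero' := by
        rw [map_zero, map_zero, Submodule.coe_zero, add_zero]
      map_add' := fun a b => by
        rw [map_add, map_add, Submodule.coe_add]
        ring
      map_mul' := fun a b => by
        rw [map_mul, Derivation.leibniz, Submodule.coe_add, hsmulA, hsmulA]
        have h1 := hJJ _ (δ' a).2 _ (δ' b).2
        linear_combination -h1 }
  have hχr : ∀ a, χr a = χ₀ a + (δ' a : C) := fun a => rfl
  refine ⟨{ χr with
    commutes' := fun x => by
      show χr (algebraMap R A x) = algebraMap R C x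
      rw [hχr, hδ', hδ]
      ring }, ?_⟩
  apply AlgHom.ext
  intro a
  show Ideal.Quotient.mk J (χr a) = ψ a
  rw [hχr, map_add, hχ₀', Ideal.Quotient.eq_zero_iff_mem.2 (δ' a).2, add_zero]

end main

end Groth.Agent.Helper8.Cartier
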