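import Mathlib
import Groth.Prelude.Def_CAlgX
import Groth.Agent.Lib.Helper8.Cartier2
import Groth.Agent.Lib.Helper2.SepPerfect
import Groth.Agent.S2451
import Groth.Agent.S2453
import Groth.Agent.Lib.Helper8.AdicFS6

/-!
# EGA 0_IV 22.5: formal smoothness over a field, regularity and differentials
-/

set_option autoImplicit false

namespace Groth.Agent.Helper8.Cartier

open IsLocalRing KaehlerDifferential TensorProduct CAlgX Groth.Agent.Helper8.SmallExt

universe u

/-- Every field extension of the prime subfield is formally smooth. -/
theorem formallySmooth_bot_subfield (k K : Type u) [Field k] [Field K] [Algebra k K] :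
    Algebra.FormallySmooth (⊥ : Subfield k) K := by
  obtain ⟨p, hp⟩ := CharP.exists k
  rcases CharP.char_is_prime_or_zero k p with hp' | hp'
  · haveI : Fact p.Prime := ⟨hp'⟩
    letI := ZMod.algebra k p
    haveI : Finite (⊥ : Subfield k) := by
      rw [Subfield.bot_eq_of_zMod_algebra p]
      exact (Set.finite_range (algebraMap (ZMod p) k)).to_subtype
    haveI : CharP (⊥ : Subfield k) p := inferInstance
    haveI : PerfectRing (⊥ : Subfield k) p := PerfectRing.ofFiniteOfIsReduced _ _
    exact Groth.Agent.Helper2.Sep.formallySmooth_of_perfect p (⊥ : Subfield k) K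
  · subst hp'
    haveI : CharZero k := CharP.charP_to_charZero k
    exact Groth.Agent.Helper2.Sep.formallySmooth_of_charZero (⊥ : Subfield k) K

section field

variable {k A : Type u} [Field k] [CommRing A] [IsLocalRing A] [IsNoetherianRing A] [Algebra k A]

/-- A regular local ring containing a field is formally smooth over the prime field, for the
adic topology. -/
theorem isAdicFormallySmooth_bot_subfield (hreg : IsRegularLocalRing A) :
    IsAdicFormallySmooth (⊥ : Subfield k) A (maximalIdeal A) := by
  haveI : Algebra.FormallySmooth (⊥ : Subfield k) (ResidueField A) :=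
    formallySmooth_bot_subfield k (ResidueField A)
  haveI : Algebra.IsGeometricallyReduced (⊥ : Subfield k) (ResidueField A) :=
    (Groth.Agent.S2451.result (k := (⊥ : Subfield k)) (K := ResidueField A)).1 inferInstance
  exact ((Groth.Agent.S2453.result (k := (⊥ : Subfield k)) (A := A)).out 0 3).2 hreg

/-- **EGA 0_IV 22.5.x.** A Noetherian local algebra over a field is formally smooth for the adic
topology if and only if it is regular and `K ⊗ Ω_k → K ⊗ Ω_A` is injective. -/
theorem isAdicFormallySmooth_iff_regular_and_injective :
    IsAdicFormallySmooth k A (maximalIdeal A) ↔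
      (IsRegularLocalRing A ∧ Function.Injective
        ((KaehlerDifferential.mapBaseChange ℤ k A).lTensor (ResidueField A))) := by
  constructor
  · intro h
    exact ⟨(Groth.Agent.Helper8.AdicFS.regular_and_ringEquiv h).1,
      injective_of_isAdicFormallySmooth h⟩
  · rintro ⟨hreg, hinj⟩
    exact isAdicFormallySmooth_of_smallLift
      (smallLift_of_injective (k₀ := (⊥ : Subfield k)) (isAdicFormallySmooth_bot_subfield hreg) hinj)

end field

end Groth.Agent.Helper8.Cartier
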