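import Mathlib
import Groth.Agent.Lib.Helper2.Fredholm2
import Groth.Agent.Lib.Helper2.SepPerfect

/-!
# The cotangent sequence of a local ring of characteristic `p`

For a local ring `R` of characteristic `p` with residue field `K`, the sequence
`0 → 𝔪/𝔪² → K ⊗ Ω_{R/ℤ} → Ω_{K/ℤ} → 0` is exact.
-/

set_option autoImplicit false

namespace Groth.Agent.Helper8.PRad

open IsLocalRing KaehlerDifferential TensorProduct Module Groth.Agent.Helper2.Fredholm

universe u

section

variable (R : Type u) [CommRing R] [IsLocalRing R]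

/-- In characteristic `p` the residue map `R/𝔪² → K` has a ring-theoretic section. -/
theorem exists_section (p : ℕ) [Fact p.Prime] [CharP R p] :
    ∃ g : ResidueField R →ₐ[ℤ] R ⧸ (RingHom.ker (algebraMap R (ResidueField R)) ^ 2),
      (IsScalarTower.toAlgHom ℤ R (ResidueField R)).kerSquareLift.comp g = AlgHom.id ℤ _ := by
  let F := ULift.{u} (ZMod p)
  let φ : F →+* R := (ZMod.castHom (dvd_refl p) R).comp
    (ULift.ringEquiv : ULift.{u} (ZMod p) ≃+* ZMod p).toRingHom
  letI : Algebra F R := φ.toAlgebra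
  haveI : Algebra.FormallySmooth F (ResidueField R) :=
    Groth.Agent.Helper2.Sep.formallySmooth_of_perfect p F (ResidueField R)
  let f₀ : R →ₐ[F] ResidueField R := IsScalarTower.toAlgHom F R (ResidueField R)
  let π : R ⧸ RingHom.ker f₀.toRingHom ^ 2 →ₐ[F] ResidueField R := f₀.kerSquareLift
  have hπ : Function.Surjective π := by
    intro x
    obtain ⟨y, rfl⟩ := residue_surjective x
    exact ⟨Ideal.Quotient.mk _ y, rfl⟩
  have hnil : IsNilpotent (RingHom.ker (π : (R ⧸ RingHom.ker f₀.toRingHom ^ 2) →+*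
      ResidueField R)) := by
    refine ⟨2, ?_⟩
    have h1 := AlgHom.ker_kerSquareLift f₀
    show RingHom.ker f₀.kerSquareLift.toRingHom ^ 2 = ⊥
    rw [h1, Ideal.cotangentIdeal_square]
  let g₀ : ResidueField R →ₐ[F] R ⧸ RingHom.ker f₀.toRingHom ^ 2 :=
    Algebra.FormallySmooth.liftOfSurjective (AlgHom.id F (ResidueField R)) π hπ hnil
  have hg₀ : π.comp g₀ = AlgHom.id F (ResidueField R) :=
    Algebra.FormallySmooth.comp_liftOfSurjective _ _ hπ hnil
  let g₁ : ResidueField R →ₐ[ℤ] R ⧸ RingHom.ker f₀.toRingHom ^ 2 := g₀.restrictScalars ℤ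
  refine ⟨g₁, ?_⟩
  ext x
  exact AlgHom.congr_fun hg₀ x

/-- In characteristic `p` the map `𝔪/𝔪² → K ⊗ Ω_{R/ℤ}` is injective. -/
theorem kerCotangentToTensor_injective (p : ℕ) [Fact p.Prime] [CharP R p] :
    Function.Injective (kerCotangentToTensor ℤ R (ResidueField R)) := by
  obtain ⟨g, hg⟩ := exists_section R p
  have hsurj : Function.Surjective (algebraMap R (ResidueField R)) := residue_surjective
  obtain ⟨l, hl⟩ := (retractionKerCotangentToTensorEquivSection (R := ℤ) (P := R)
    (S := ResidueField R) hsurj).symm ⟨g, hg⟩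
  intro x y hxy
  have := congrArg l hxy
  rwa [← LinearMap.comp_apply, ← LinearMap.comp_apply, hl] at this

omit [IsLocalRing R] in
/-- Cotangent modules of equal ideals. -/
theorem nonempty_cotangent_equiv_of_eq {I J : Ideal R} (h : I = J) :
    Nonempty (I.Cotangent ≃ₗ[R] J.Cotangent) := by
  subst h
  exact ⟨LinearEquiv.refl _ _⟩

/-- The kernel of `K ⊗ Ω_{R/ℤ} → Ω_{K/ℤ}` is the cotangent space. -/
theorem nonempty_ker_mapBaseChange_equiv (p : ℕ) [Fact p.Prime] [CharP R p] :
    Nonempty (LinearMap.ker (mapBaseChange ℤ R (ResidueField R)) ≃ₗ[ResidueField R]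
      CotangentSpace R) := by
  have hsurj : Function.Surjective (algebraMap R (ResidueField R)) := residue_surjective
  have hI : RingHom.ker (algebraMap R (ResidueField R)) = maximalIdeal R := ker_residue
  obtain ⟨e₀⟩ := nonempty_cotangent_equiv_of_eq R hI
  let e₁ : (RingHom.ker (algebraMap R (ResidueField R))).Cotangent ≃ₗ[R]
      LinearMap.range (kerCotangentToTensor ℤ R (ResidueField R)) :=
    LinearEquiv.ofInjective _ (kerCotangentToTensor_injective R p)
  let e₂ : LinearMap.range (kerCotangentToTensor ℤ R (ResidueField R)) ≃ₗ[R]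
      (LinearMap.ker (mapBaseChange ℤ R (ResidueField R))).restrictScalars R :=
    LinearEquiv.ofEq _ _ (range_kerCotangentToTensor ℤ R (ResidueField R) hsurj)
  let e₃ : (LinearMap.ker (mapBaseChange ℤ R (ResidueField R))).restrictScalars R ≃ₗ[R]
      LinearMap.ker (mapBaseChange ℤ R (ResidueField R)) :=
    (Submodule.restrictScalarsEquiv R (ResidueField R) _ _).restrictScalars R
  let e : LinearMap.ker (mapBaseChange ℤ R (ResidueField R)) ≃ₗ[R] CotangentSpace R :=
    (e₀.symm.trans (e₁.trans (e₂.trans e₃))).symm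
  exact ⟨e.extendScalarsOfSurjective hsurj⟩

/-- The map `K ⊗ Ω_{R/ℤ} → Ω_{K/ℤ}` is Fredholm of index minus the embedding dimension. -/
theorem isFred_mapBaseChange_residueField [IsNoetherianRing R] (p : ℕ) [Fact p.Prime]
    [CharP R p] :
    IsFred (mapBaseChange ℤ R (ResidueField R)) ∧
      ind (mapBaseChange ℤ R (ResidueField R)) =
        -(finrank (ResidueField R) (CotangentSpace R) : ℤ) := by
  have hsurj : Function.Surjective (algebraMap R (ResidueField R)) := residue_surjective
  obtain ⟨e⟩ := nonempty_ker_mapBaseChange_equiv R p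
  have hr : LinearMap.range (mapBaseChange ℤ R (ResidueField R)) = ⊤ :=
    LinearMap.range_eq_top.2 (mapBaseChange_surjective ℤ R (ResidueField R) hsurj)
  haveI : Subsingleton (Ω[ResidueField R⁄ℤ] ⧸
      LinearMap.range (mapBaseChange ℤ R (ResidueField R))) :=
    Submodule.Quotient.subsingleton_iff.2 hr
  refine ⟨⟨Module.Finite.equiv e.symm, inferInstance⟩, ?_⟩
  rw [ind, e.finrank_eq, finrank_zero_of_subsingleton]
  simp

end

end Groth.Agent.Helper8.PRad
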