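import Mathlib

/-!
# Adjoining `p`-th roots to a local ring of characteristic `p`

`RootAlg p f = A[T_1, …, T_n]/(T_i^p - f_i)`.  If `A` is local of characteristic `p`, this is a
local ring, finite over `A`.
-/

set_option autoImplicit false

namespace Groth.Agent.Helper8.PRad

open MvPolynomial IsLocalRing

universe u

section general

variable {A : Type u} [CommRing A] (p : ℕ) {n : ℕ} (f : Fin n → A)

/-- `A[T_1, …, T_n]/(T_i^p - f_i)`. -/
abbrev RootAlg : Type u :=
  MvPolynomial (Fin n) A ⧸
    Ideal.span (Set.range fun i => (X i : MvPolynomial (Fin n) A) ^ p - C (f i))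

/-- We use the canonical `ℤ`-algebra structure on `RootAlg`. -/
noncomputable instance (priority := 10000) instAlgebraIntRootAlg : Algebra ℤ (RootAlg p f) :=
  Ring.toIntAlgebra _

/-- The quotient map. -/
noncomputable def mkRoot : MvPolynomial (Fin n) A →+* RootAlg p f :=
  Ideal.Quotient.mk
    (Ideal.span (Set.range fun i => (X i : MvPolynomial (Fin n) A) ^ p - C (f i)))

theorem mkRoot_surjective : Function.Surjective (mkRoot p f) := Ideal.Quotient.mk_surjective

theorem mkRoot_eq_zero_iff (x : MvPolynomial (Fin n) A) : mkRoot p f x = 0 ↔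
    x ∈ Ideal.span (Set.range fun i => (X i : MvPolynomial (Fin n) A) ^ p - C (f i)) :=
  Ideal.Quotient.eq_zero_iff_mem

/-- The class of `T_i`. -/
noncomputable def root (i : Fin n) : RootAlg p f := mkRoot p f (X i)

theorem algebraMap_eq_mk_C (a : A) :
    algebraMap A (RootAlg p f) a = mkRoot p f (C a) := rfl

theorem root_pow (i : Fin n) : root p f i ^ p = algebraMap A (RootAlg p f) (f i) := by
  have h : (X i : MvPolynomial (Fin n) A) ^ p - C (f i) ∈
      Ideal.span (Set.range fun i => (X i : MvPolynomial (Fin n) A) ^ p - C (f i)) :=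
    Ideal.subset_span ⟨i, rfl⟩
  have h2 := (mkRoot_eq_zero_iff p f _).2 h
  rw [map_sub, sub_eq_zero] at h2
  rw [root, ← map_pow, h2, algebraMap_eq_mk_C]

theorem eval₂Hom_eq_zero_of_mem {S : Type*} [CommRing S] (φ : A →+* S) (s : Fin n → S)
    (hs : ∀ i, s i ^ p = φ (f i)) (x : MvPolynomial (Fin n) A)
    (hx : x ∈ Ideal.span (Set.range fun i => (X i : MvPolynomial (Fin n) A) ^ p - C (f i))) :
    eval₂Hom φ s x = 0 := by
  have hle : Ideal.span (Set.range fun i => (X i : MvPolynomial (Fin n) A) ^ p - C (f i)) ≤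
      RingHom.ker (eval₂Hom φ s) := by
    rw [Ideal.span_le]
    rintro _ ⟨i, rfl⟩
    show eval₂Hom φ s (X i ^ p - C (f i)) = 0
    rw [map_sub, map_pow, eval₂Hom_X', eval₂Hom_C, hs, sub_self]
  exact hle hx

/-- The universal property of `RootAlg`. -/
noncomputable def liftRoot {S : Type*} [CommRing S] (φ : A →+* S) (s : Fin n → S)
    (hs : ∀ i, s i ^ p = φ (f i)) : RootAlg p f →+* S :=
  Ideal.Quotient.lift
    (Ideal.span (Set.range fun i => (X i : MvPolynomial (Fin n) A) ^ p - C (f i)))
    (eval₂Hom φ s) (eval₂Hom_eq_zero_of_mem p f φ s hs)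

theorem liftRoot_mkRoot {S : Type*} [CommRing S] (φ : A →+* S) (s : Fin n → S)
    (hs : ∀ i, s i ^ p = φ (f i)) (x : MvPolynomial (Fin n) A) :
    liftRoot p f φ s hs (mkRoot p f x) = eval₂Hom φ s x := rfl

@[simp]
theorem liftRoot_algebraMap {S : Type*} [CommRing S] (φ : A →+* S) (s : Fin n → S)
    (hs : ∀ i, s i ^ p = φ (f i)) (a : A) :
    liftRoot p f φ s hs (algebraMap A (RootAlg p f) a) = φ a := by
  rw [algebraMap_eq_mk_C, liftRoot_mkRoot, eval₂Hom_C]

@[simp]
theorem liftRoot_root {S : Type*} [CommRing S] (φ : A →+* S) (s : Fin n → S)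
    (hs : ∀ i, s i ^ p = φ (f i)) (i : Fin n) :
    liftRoot p f φ s hs (root p f i) = s i := by
  rw [root, liftRoot_mkRoot, eval₂Hom_X']

/-- Induction principle for `RootAlg`. -/
theorem rootAlg_induction {P : RootAlg p f → Prop}
    (h0 : ∀ a, P (algebraMap A _ a)) (hadd : ∀ x y, P x → P y → P (x + y))
    (hmul : ∀ x i, P x → P (x * root p f i)) (b : RootAlg p f) : P b := by
  obtain ⟨g, rfl⟩ := mkRoot_surjective p f b
  induction g using MvPolynomial.induction_on with
  | C a => exact h0 a
  | add x y hx hy => rw [map_add]; exact hadd _ _ hx hy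
  | mul_X x i hx => rw [map_mul]; exact hmul _ i hx

/-- Ring homomorphisms out of `RootAlg` are determined by their values on `A` and the roots. -/
theorem rootAlg_hom_ext {S : Type*} [CommRing S] {φ ψ : RootAlg p f →+* S}
    (h1 : ∀ a, φ (algebraMap A _ a) = ψ (algebraMap A _ a))
    (h2 : ∀ i, φ (root p f i) = ψ (root p f i)) : φ = ψ := by
  refine RingHom.ext fun b => ?_
  refine rootAlg_induction p f (P := fun b => φ b = ψ b) h1 (fun x y hx hy => ?_)
    (fun x i hx => ?_) b
  · rw [map_add, map_add, hx, hy]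
  · rw [map_mul, map_mul, hx, h2]

variable [hp : Fact p.Prime] [CharP A p]

omit hp in
theorem cast_p_eq_zero : ((p : ℕ) : RootAlg p f) = 0 := by
  have h : ((p : ℕ) : RootAlg p f) = algebraMap A (RootAlg p f) ((p : ℕ) : A) := by
    rw [map_natCast]
  rw [h, CharP.cast_eq_zero, map_zero]

theorem add_pow_p (x y : RootAlg p f) : (x + y) ^ p = x ^ p + y ^ p := by
  obtain ⟨r, hr⟩ := exists_add_pow_prime_eq hp.out x y
  rw [hr, cast_p_eq_zero, zero_mul, zero_mul, zero_mul, add_zero]

/-- Every `p`-th power in `RootAlg` comes from `A`. -/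
theorem exists_pow_eq_algebraMap (b : RootAlg p f) :
    ∃ a : A, b ^ p = algebraMap A (RootAlg p f) a := by
  refine rootAlg_induction p f (P := fun b => ∃ a : A, b ^ p = algebraMap A (RootAlg p f) a)
    (fun a => ⟨a ^ p, by rw [map_pow]⟩) (fun x y hx hy => ?_) (fun x i hx => ?_) b
  · obtain ⟨a, ha⟩ := hx
    obtain ⟨a', ha'⟩ := hy
    exact ⟨a + a', by rw [add_pow_p, ha, ha', map_add]⟩
  · obtain ⟨a, ha⟩ := hx
    exact ⟨a * f i, by rw [mul_pow, ha, root_pow, map_mul]⟩

instance : Algebra.IsIntegral A (RootAlg p f) := by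
  refine ⟨fun b => ?_⟩
  obtain ⟨a, ha⟩ := exists_pow_eq_algebraMap p f b
  refine ⟨Polynomial.X ^ p - Polynomial.C a, Polynomial.monic_X_pow_sub_C a hp.out.ne_zero, ?_⟩
  rw [Polynomial.eval₂_sub, Polynomial.eval₂_pow, Polynomial.eval₂_X, Polynomial.eval₂_C, ha,
    sub_self]

instance : Algebra.FiniteType A (RootAlg p f) :=
  Algebra.FiniteType.of_surjective
    (Ideal.Quotient.mkₐ A
      (Ideal.span (Set.range fun i => (X i : MvPolynomial (Fin n) A) ^ p - C (f i))))
    (Ideal.Quotient.mkₐ_surjective A _)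

instance : Module.Finite A (RootAlg p f) := Algebra.IsIntegral.finite



end general

section local_

variable {A : Type u} [CommRing A] [IsLocalRing A] (p : ℕ) [hp : Fact p.Prime] [CharP A p]
  {n : ℕ} (f : Fin n → A)

omit [CharP A p] in
/-- A point of `RootAlg` in the algebraic closure of the residue field. -/
theorem exists_point : ∃ ev : RootAlg p f →+* AlgebraicClosure (ResidueField A),
    ∀ a, ev (algebraMap A _ a) = algebraMap (ResidueField A) _ (residue A a) := by
  let φ : A →+* AlgebraicClosure (ResidueField A) :=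
    (algebraMap (ResidueField A) (AlgebraicClosure (ResidueField A))).comp (residue A)
  have h : ∀ i, ∃ z : AlgebraicClosure (ResidueField A), z ^ p = φ (f i) :=
    fun i => IsAlgClosed.exists_pow_nat_eq _ hp.out.pos
  choose s hs using h
  exact ⟨liftRoot p f φ s hs, fun a => liftRoot_algebraMap p f φ s hs a⟩

theorem isUnit_iff_of_point (ev : RootAlg p f →+* AlgebraicClosure (ResidueField A))
    (hev : ∀ a, ev (algebraMap A _ a) = algebraMap (ResidueField A) _ (residue A a))
    (b : RootAlg p f) : IsUnit b ↔ ev b ≠ 0 := by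
  constructor
  · intro h
    exact (h.map ev).ne_zero
  · intro h
    obtain ⟨a, ha⟩ := exists_pow_eq_algebraMap p f b
    have h1 : ev b ^ p ≠ 0 := pow_ne_zero _ h
    rw [← map_pow, ha, hev] at h1
    have h2 : residue A a ≠ 0 := fun h0 => h1 (by rw [h0, map_zero])
    have h3 : IsUnit a := by
      by_contra hna
      exact h2 ((residue_eq_zero_iff a).2 hna)
    have h4 : IsUnit (b ^ p) := by
      rw [ha]
      exact h3.map _
    exact (isUnit_pow_iff hp.out.ne_zero).1 h4

instance : Nontrivial (RootAlg p f) := by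
  obtain ⟨ev, -⟩ := exists_point p f
  exact ev.domain_nontrivial

instance : IsLocalRing (RootAlg p f) := by
  obtain ⟨ev, hev⟩ := exists_point p f
  refine IsLocalRing.of_nonunits_add (fun a b ha hb => ?_)
  have ha' : ev a = 0 := by
    by_contra h
    exact ha ((isUnit_iff_of_point p f ev hev a).2 h)
  have hb' : ev b = 0 := by
    by_contra h
    exact hb ((isUnit_iff_of_point p f ev hev b).2 h)
  intro hab
  exact (isUnit_iff_of_point p f ev hev _).1 hab (by rw [map_add, ha', hb', add_zero])

instance : IsLocalHom (algebraMap A (RootAlg p f)) := by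
  obtain ⟨ev, hev⟩ := exists_point p f
  refine ⟨fun a ha => ?_⟩
  have h1 := (isUnit_iff_of_point p f ev hev _).1 ha
  rw [hev] at h1
  by_contra hna
  exact h1 (by rw [(residue_eq_zero_iff a).2 hna, map_zero])

end local_

end Groth.Agent.Helper8.PRad
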