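import Mathlib
import Groth.Agent.Lib.Helper8.PRad2

/-!
# Derivations of `A[T_1, …, T_n]/(T_i^p - f_i)`
-/

set_option autoImplicit false

namespace Groth.Agent.Helper8.PRad

open MvPolynomial IsLocalRing

universe u

section tsz

variable {R₀ L : Type*} [CommRing R₀] [CommRing L] [Algebra R₀ L]

/-- The ring homomorphism to the dual numbers attached to a derivation. -/
noncomputable def tszHom (d : Derivation ℤ R₀ L) : R₀ →+* TrivSqZeroExt L L where
  toFun x := TrivSqZeroExt.inl (algebraMap R₀ L x) + TrivSqZeroExt.inr (d x)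
  map_one' := by
    rw [map_one, Derivation.map_one_eq_zero, TrivSqZeroExt.inr_zero, add_zero]
    rfl
  map_zero' := by
    rw [map_zero, map_zero, TrivSqZeroExt.inr_zero, add_zero, TrivSqZeroExt.inl_zero]
  map_add' := fun x y => by
    rw [map_add, map_add, TrivSqZeroExt.inl_add, TrivSqZeroExt.inr_add]
    abel
  map_mul' := fun x y => by
    have hsm : ∀ (x : R₀) (c : L), x • c = algebraMap R₀ L x * c := Algebra.smul_def
    apply TrivSqZeroExt.ext
    · simp
    · simp only [TrivSqZeroExt.snd_add, TrivSqZeroExt.snd_inl, TrivSqZeroExt.snd_inr,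
        zero_add, TrivSqZeroExt.snd_mul, TrivSqZeroExt.fst_add, TrivSqZeroExt.fst_inl,
        TrivSqZeroExt.fst_inr, add_zero, Derivation.leibniz, hsm,
        MulOpposite.smul_eq_mul_unop, MulOpposite.unop_op, smul_eq_mul]
      ring

theorem tszHom_apply (d : Derivation ℤ R₀ L) (x : R₀) :
    tszHom d x = TrivSqZeroExt.inl (algebraMap R₀ L x) + TrivSqZeroExt.inr (d x) := rfl

@[simp]
theorem fst_tszHom (d : Derivation ℤ R₀ L) (x : R₀) : (tszHom d x).fst = algebraMap R₀ L x := by
  simp [tszHom_apply]

@[simp]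
theorem snd_tszHom (d : Derivation ℤ R₀ L) (x : R₀) : (tszHom d x).snd = d x := by
  simp [tszHom_apply]

/-- The derivation attached to a ring homomorphism to the dual numbers. -/
noncomputable def derivOfTsz (χ : R₀ →+* TrivSqZeroExt L L)
    (hχ : ∀ b, (χ b).fst = algebraMap R₀ L b) : Derivation ℤ R₀ L :=
  Derivation.mk'
    { toFun := fun a => (χ a).snd
      map_add' := fun a b => by rw [map_add, TrivSqZeroExt.snd_add]
      map_smul' := fun m a => by
        rw [map_zsmul, TrivSqZeroExt.snd_smul]
        rfl }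
    (fun a b => by
      have hsm : ∀ (x : R₀) (c : L), x • c = algebraMap R₀ L x * c := Algebra.smul_def
      show (χ (a * b)).snd = a • (χ b).snd + b • (χ a).snd
      rw [map_mul, TrivSqZeroExt.snd_mul, hχ, hχ, hsm, hsm,
        MulOpposite.smul_eq_mul_unop, MulOpposite.unop_op, smul_eq_mul]
      ring)

@[simp]
theorem derivOfTsz_apply (χ : R₀ →+* TrivSqZeroExt L L)
    (hχ : ∀ b, (χ b).fst = algebraMap R₀ L b) (a : R₀) : derivOfTsz χ hχ a = (χ a).snd := rfl

end tsz

section ext

variable {A : Type u} [CommRing A] (p : ℕ) [hp : Fact p.Prime] [CharP A p] {n : ℕ}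
  (f : Fin n → A) {L : Type*} [CommRing L] [Algebra A L] [Algebra (RootAlg p f) L]
  [IsScalarTower A (RootAlg p f) L]

omit hp [Algebra (RootAlg p f) L] [IsScalarTower A (RootAlg p f) L] in
include f in
theorem cast_p_eq_zero' : ((p : ℕ) : L) = 0 := by
  have h : ((p : ℕ) : L) = algebraMap A L ((p : ℕ) : A) := by rw [map_natCast]
  rw [h, CharP.cast_eq_zero, map_zero]

/-- A derivation of `A` killing the `f_i` extends to `A[T]/(T_i^p - f_i)`. -/
theorem exists_derivation_extension (d : Derivation ℤ A L) (hd : ∀ i, d (f i) = 0) :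
    ∃ D : Derivation ℤ (RootAlg p f) L, ∀ a, D (algebraMap A _ a) = d a := by
  have hs : ∀ i, (TrivSqZeroExt.inl (algebraMap (RootAlg p f) L (root p f i)) :
      TrivSqZeroExt L L) ^ p = tszHom d (f i) := by
    intro i
    rw [TrivSqZeroExt.inl_pow, ← map_pow, root_pow, ← IsScalarTower.algebraMap_apply, tszHom_apply,
      hd, TrivSqZeroExt.inr_zero, add_zero]
  let χ : RootAlg p f →+* TrivSqZeroExt L L := liftRoot p f (tszHom d) _ hs
  have hχ : ∀ b, (χ b).fst = algebraMap (RootAlg p f) L b := by
    have h1 : ((TrivSqZeroExt.fstHom L L L).toRingHom.comp χ) = algebraMap (RootAlg p f) L := by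
      apply rootAlg_hom_ext
      · intro a
        show (χ (algebraMap A _ a)).fst = _
        rw [liftRoot_algebraMap, fst_tszHom, ← IsScalarTower.algebraMap_apply]
      · intro i
        show (χ (root p f i)).fst = _
        rw [liftRoot_root, TrivSqZeroExt.fst_inl]
    intro b
    exact RingHom.congr_fun h1 b
  refine ⟨derivOfTsz χ hχ, fun a => ?_⟩
  show (χ (algebraMap A _ a)).snd = d a
  rw [liftRoot_algebraMap, snd_tszHom]

/-- The partial derivatives on `A[T]/(T_i^p - f_i)`. -/
theorem exists_derivation_root (i : Fin n) :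
    ∃ D : Derivation ℤ (RootAlg p f) L, (∀ a, D (algebraMap A _ a) = 0) ∧
      ∀ j, D (root p f j) = if j = i then 1 else 0 := by
  classical
  let φ : A →+* TrivSqZeroExt L L := (TrivSqZeroExt.inlHom L L).comp (algebraMap A L)
  have hs : ∀ j, (TrivSqZeroExt.inl (algebraMap (RootAlg p f) L (root p f j)) +
      TrivSqZeroExt.inr (if j = i then 1 else 0) : TrivSqZeroExt L L) ^ p = φ (f j) := by
    intro j
    apply TrivSqZeroExt.ext
    · rw [TrivSqZeroExt.fst_pow, TrivSqZeroExt.fst_add, TrivSqZeroExt.fst_inl,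
        TrivSqZeroExt.fst_inr, add_zero, ← map_pow, root_pow, ← IsScalarTower.algebraMap_apply]
      rfl
    · rw [TrivSqZeroExt.snd_pow, nsmul_eq_mul, cast_p_eq_zero' p f, zero_mul]
      rfl
  let χ : RootAlg p f →+* TrivSqZeroExt L L := liftRoot p f φ _ hs
  have hχ : ∀ b, (χ b).fst = algebraMap (RootAlg p f) L b := by
    have h1 : ((TrivSqZeroExt.fstHom L L L).toRingHom.comp χ) = algebraMap (RootAlg p f) L := by
      apply rootAlg_hom_ext
      · intro a
        show (χ (algebraMap A _ a)).fst = _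
        rw [liftRoot_algebraMap, ← IsScalarTower.algebraMap_apply]
        rfl
      · intro j
        show (χ (root p f j)).fst = _
        rw [liftRoot_root, TrivSqZeroExt.fst_add, TrivSqZeroExt.fst_inl, TrivSqZeroExt.fst_inr,
          add_zero]
    intro b
    exact RingHom.congr_fun h1 b
  refine ⟨derivOfTsz χ hχ, fun a => ?_, fun j => ?_⟩
  · show (χ (algebraMap A _ a)).snd = 0
    rw [liftRoot_algebraMap]
    rfl
  · show (χ (root p f j)).snd = _
    rw [liftRoot_root, TrivSqZeroExt.snd_add, TrivSqZeroExt.snd_inl,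
      TrivSqZeroExt.snd_inr, zero_add]

end ext

end Groth.Agent.Helper8.PRad
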