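import Mathlib
import Groth.Agent.Lib.Helper2.Fredholm2
import Groth.Agent.Lib.Helper8.PRad3

/-!
# The map `L ⊗_A Ω_A → L ⊗_B Ω_B` for `B = A[T_1, …, T_n]/(T_i^p - f_i)`
-/

set_option autoImplicit false

namespace Groth.Agent.Helper8.PRad

open MvPolynomial IsLocalRing KaehlerDifferential TensorProduct Module
  Groth.Agent.Helper2.Fredholm

universe u

section extD

variable {A L N : Type*} [CommRing A] [CommRing L] [Algebra A L] [AddCommGroup N] [Module L N]
  [Module A N] [IsScalarTower A L N]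

/-- Linear maps on `L ⊗ Ω_A` are determined by their values on the `1 ⊗ da`. -/
theorem linearMap_ext_D {g₁ g₂ : L ⊗[A] Ω[A⁄ℤ] →ₗ[L] N}
    (h : ∀ a, g₁ (1 ⊗ₜ D ℤ A a) = g₂ (1 ⊗ₜ D ℤ A a)) : g₁ = g₂ := by
  apply (LinearMap.liftBaseChangeEquiv L).symm.injective
  apply LinearMap.ext_on (KaehlerDifferential.span_range_derivation ℤ A)
  rintro _ ⟨a, rfl⟩
  exact h a

theorem one_tmul_smul {M : Type*} [AddCommGroup M] [Module A M] (a : A) (m : M) :
    (1 : L) ⊗ₜ[A] (a • m) = algebraMap A L a • ((1 : L) ⊗ₜ[A] m) := by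
  rw [← smul_tmul, smul_tmul', Algebra.smul_def, mul_one, smul_eq_mul, mul_one]

/-- `L ⊗ Ω_A` is spanned by the `1 ⊗ da`. -/
theorem span_one_tmul_D :
    Submodule.span L (Set.range fun a : A => (1 : L) ⊗ₜ[A] D ℤ A a) = ⊤ := by
  have key : ∀ ω : Ω[A⁄ℤ], (1 : L) ⊗ₜ[A] ω ∈
      Submodule.span L (Set.range fun a : A => (1 : L) ⊗ₜ[A] D ℤ A a) := by
    intro ω
    have hω : ω ∈ Submodule.span A (Set.range (D ℤ A)) := by
      rw [KaehlerDifferential.span_range_derivation]
      trivial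
    induction hω using Submodule.span_induction with
    | mem ω hω =>
      obtain ⟨a, rfl⟩ := hω
      exact Submodule.subset_span ⟨a, rfl⟩
    | zero => rw [tmul_zero]; exact Submodule.zero_mem _
    | add x y _ _ hx hy => rw [tmul_add]; exact Submodule.add_mem _ hx hy
    | smul a x _ hx =>
      rw [one_tmul_smul]
      exact Submodule.smul_mem _ _ hx
  rw [eq_top_iff]
  rintro x -
  induction x using TensorProduct.induction_on with
  | zero => exact Submodule.zero_mem _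
  | add x y hx hy => exact Submodule.add_mem _ hx hy
  | tmul c ω =>
    have h1 : c ⊗ₜ[A] ω = c • ((1 : L) ⊗ₜ[A] ω) := by rw [smul_tmul', smul_eq_mul, mul_one]
    rw [h1]
    exact Submodule.smul_mem _ _ (key ω)

end extD

section phi

variable {A : Type u} [CommRing A] (p : ℕ) [hp : Fact p.Prime] [CharP A p] {n : ℕ}
  (f : Fin n → A) (L : Type u) [Field L] [Algebra A L] [Algebra (RootAlg p f) L]
  [IsScalarTower A (RootAlg p f) L]

/-- The map `L ⊗_A Ω_A → L ⊗_B Ω_B`. -/
noncomputable def phiMap :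
    L ⊗[A] Ω[A⁄ℤ] →ₗ[L] L ⊗[RootAlg p f] Ω[RootAlg p f⁄ℤ] :=
  LinearMap.liftBaseChange L
    (((TensorProduct.mk (RootAlg p f) L Ω[RootAlg p f⁄ℤ] 1).restrictScalars A) ∘ₗ
      (KaehlerDifferential.map ℤ ℤ A (RootAlg p f)))

omit hp [CharP A p] in
theorem phiMap_tmul_D (c : L) (a : A) :
    phiMap p f L (c ⊗ₜ D ℤ A a) = c ⊗ₜ D ℤ (RootAlg p f) (algebraMap A _ a) := by
  rw [phiMap, LinearMap.liftBaseChange_tmul]
  show c • ((1 : L) ⊗ₜ[RootAlg p f] (KaehlerDifferential.map ℤ ℤ A (RootAlg p f) (D ℤ A a))) = _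
  rw [KaehlerDifferential.map_D, smul_tmul', smul_eq_mul, mul_one]

omit hp in
theorem D_algebraMap_f (i : Fin n) : D ℤ (RootAlg p f) (algebraMap A _ (f i)) = 0 := by
  rw [← root_pow, Derivation.leibniz_pow, ← Nat.cast_smul_eq_nsmul (RootAlg p f),
    cast_p_eq_zero]
  exact zero_smul (RootAlg p f) (root p f i ^ (p - 1) • D ℤ (RootAlg p f) (root p f i))

/-- The kernel of `L ⊗_A Ω_A → L ⊗_B Ω_B` is spanned by the `1 ⊗ d f_i`. -/
theorem ker_phiMap : LinearMap.ker (phiMap p f L) =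
    Submodule.span L (Set.range fun i => (1 : L) ⊗ₜ[A] D ℤ A (f i)) := by
  apply le_antisymm
  · intro ω hω
    by_contra hnot
    obtain ⟨lam, hlω, hlS⟩ := Submodule.exists_le_ker_of_notMem hnot
    let d : Derivation ℤ A L :=
      (lam.restrictScalars A ∘ₗ (TensorProduct.mk A L Ω[A⁄ℤ] 1)).compDer (D ℤ A)
    have hd : ∀ a, d a = lam (1 ⊗ₜ D ℤ A a) := fun a => rfl
    have hdf : ∀ i, d (f i) = 0 := fun i => by
      rw [hd]
      exact hlS (Submodule.subset_span ⟨i, rfl⟩)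
    obtain ⟨D', hD'⟩ := exists_derivation_extension p f d hdf
    let Lam : L ⊗[RootAlg p f] Ω[RootAlg p f⁄ℤ] →ₗ[L] L :=
      LinearMap.liftBaseChange L D'.liftKaehlerDifferential
    have hcomp : Lam ∘ₗ phiMap p f L = lam := by
      apply linearMap_ext_D
      intro a
      rw [LinearMap.comp_apply, phiMap_tmul_D, LinearMap.liftBaseChange_tmul,
        Derivation.liftKaehlerDifferential_comp_D, hD', hd, one_smul]
    apply hlω
    rw [← hcomp, LinearMap.comp_apply, LinearMap.mem_ker.1 hω, map_zero]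
  · rw [Submodule.span_le]
    rintro _ ⟨i, rfl⟩
    rw [SetLike.mem_coe, LinearMap.mem_ker, phiMap_tmul_D, D_algebraMap_f, tmul_zero]

omit hp [CharP A p] in
/-- `L ⊗_B Ω_B` is spanned by the image of `L ⊗_A Ω_A` and the `1 ⊗ dT_i`. -/
theorem range_phiMap_sup_span : LinearMap.range (phiMap p f L) ⊔
    Submodule.span L (Set.range fun j => (1 : L) ⊗ₜ[RootAlg p f] D ℤ (RootAlg p f) (root p f j))
      = ⊤ := by
  have hspan := span_one_tmul_D (A := RootAlg p f) (L := L)
  rw [eq_top_iff, ← hspan, Submodule.span_le]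
  rintro _ ⟨b, rfl⟩
  rw [SetLike.mem_coe]
  refine rootAlg_induction p f (P := fun b => (1 : L) ⊗ₜ[RootAlg p f] D ℤ (RootAlg p f) b ∈
    LinearMap.range (phiMap p f L) ⊔ Submodule.span L
      (Set.range fun j => (1 : L) ⊗ₜ[RootAlg p f] D ℤ (RootAlg p f) (root p f j)))
    (fun a => ?_) (fun x y hx hy => ?_) (fun x i hx => ?_) b
  · refine Submodule.mem_sup_left ⟨(1 : L) ⊗ₜ D ℤ A a, ?_⟩
    rw [phiMap_tmul_D]
  · rw [map_add, tmul_add]
    exact Submodule.add_mem _ hx hy
  · rw [Derivation.leibniz, tmul_add]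
    rw [one_tmul_smul, one_tmul_smul]
    refine Submodule.add_mem _ (Submodule.smul_mem _ _ ?_) (Submodule.smul_mem _ _ hx)
    exact Submodule.mem_sup_right (Submodule.subset_span ⟨i, rfl⟩)

/-- The cokernel of `L ⊗_A Ω_A → L ⊗_B Ω_B` is free of rank `n`. -/
theorem nonempty_coker_phiMap_equiv :
    Nonempty ((L ⊗[RootAlg p f] Ω[RootAlg p f⁄ℤ] ⧸ LinearMap.range (phiMap p f L)) ≃ₗ[L]
      (Fin n → L)) := by
  classical
  have hex := fun i => exists_derivation_root p f (L := L) i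
  choose Di hDi0 hDi using hex
  let Psi : L ⊗[RootAlg p f] Ω[RootAlg p f⁄ℤ] →ₗ[L] (Fin n → L) :=
    LinearMap.pi (fun i => LinearMap.liftBaseChange L (Di i).liftKaehlerDifferential)
  have hPsi : ∀ (c : L) (b : RootAlg p f) (i : Fin n),
      Psi (c ⊗ₜ D ℤ (RootAlg p f) b) i = c * Di i b := by
    intro c b i
    show LinearMap.liftBaseChange L (Di i).liftKaehlerDifferential (c ⊗ₜ D ℤ (RootAlg p f) b) = _
    rw [LinearMap.liftBaseChange_tmul, Derivation.liftKaehlerDifferential_comp_D, smul_eq_mul]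
  have hPsiroot : ∀ j, Psi ((1 : L) ⊗ₜ D ℤ (RootAlg p f) (root p f j)) = Pi.single j 1 := by
    intro j
    ext i
    rw [hPsi, hDi, one_mul, Pi.single_apply]
    by_cases h : j = i
    · rw [if_pos h, if_pos h.symm]
    · rw [if_neg h, if_neg (Ne.symm h)]
  have hcomp : Psi ∘ₗ phiMap p f L = 0 := by
    apply linearMap_ext_D
    intro a
    ext i
    rw [LinearMap.comp_apply, phiMap_tmul_D, hPsi, hDi0, mul_zero]
    rfl
  have hPsisum : ∀ c : Fin n → L,
      Psi (∑ j, c j • ((1 : L) ⊗ₜ D ℤ (RootAlg p f) (root p f j))) = c := by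
    intro c
    rw [map_sum]
    simp_rw [map_smul, hPsiroot]
    ext i
    rw [Finset.sum_apply]
    simp [Pi.single_apply]
  have hsurj : Function.Surjective Psi := fun c => ⟨_, hPsisum c⟩
  have hker : LinearMap.range (phiMap p f L) = LinearMap.ker Psi := by
    apply le_antisymm
    · rintro _ ⟨y, rfl⟩
      rw [LinearMap.mem_ker, ← LinearMap.comp_apply, hcomp]
      rfl
    · intro x hx
      have hx' : x ∈ LinearMap.range (phiMap p f L) ⊔ Submodule.span L
          (Set.range fun j => (1 : L) ⊗ₜ[RootAlg p f] D ℤ (RootAlg p f) (root p f j)) := by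
        rw [range_phiMap_sup_span]
        trivial
      obtain ⟨y, ⟨y', rfl⟩, z, hz, rfl⟩ := Submodule.mem_sup.1 hx'
      obtain ⟨c, rfl⟩ := (Submodule.mem_span_range_iff_exists_fun L).1 hz
      rw [LinearMap.mem_ker, map_add, ← LinearMap.comp_apply, hcomp, LinearMap.zero_apply,
        zero_add, hPsisum] at hx
      rw [hx]
      simp only [Pi.zero_apply, zero_smul, Finset.sum_const_zero, add_zero]
      exact ⟨y', rfl⟩
  exact ⟨(Submodule.quotEquivOfEq _ _ hker).trans (Psi.quotKerEquivOfSurjective hsurj)⟩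

/-- `L ⊗_A Ω_A → L ⊗_B Ω_B` is Fredholm of index `n - s`, where `s` is the rank of the span of the
`1 ⊗ d f_i`. -/
theorem isFred_phiMap : IsFred (phiMap p f L) ∧
    ind (phiMap p f L) = (n : ℤ) - finrank L
      (Submodule.span L (Set.range fun i => (1 : L) ⊗ₜ[A] D ℤ A (f i))) := by
  obtain ⟨e2⟩ := nonempty_coker_phiMap_equiv p f L
  have e1 : LinearMap.ker (phiMap p f L) ≃ₗ[L]
      Submodule.span L (Set.range fun i => (1 : L) ⊗ₜ[A] D ℤ A (f i)) :=
    LinearEquiv.ofEq _ _ (ker_phiMap p f L)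
  haveI : Module.Finite L (Submodule.span L (Set.range fun i => (1 : L) ⊗ₜ[A] D ℤ A (f i))) :=
    FiniteDimensional.span_of_finite L (Set.finite_range _)
  refine ⟨⟨Module.Finite.equiv e1.symm, Module.Finite.equiv e2.symm⟩, ?_⟩
  rw [ind, e1.finrank_eq, e2.finrank_eq, Module.finrank_fin_fun]

end phi

end Groth.Agent.Helper8.PRad
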