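import Mathlib
import Groth.Agent.Lib.Helper2.Fredholm2
import Groth.Agent.Lib.Helper8.PRad4

/-!
# Index bookkeeping for the cotangent sequences of `A → B`
-/

set_option autoImplicit false

namespace Groth.Agent.Helper8.PRad

open IsLocalRing KaehlerDifferential TensorProduct Module Groth.Agent.Helper2.Fredholm

universe u

section assembly

variable {A B K K' : Type u} [CommRing A] [CommRing B] [Field K] [Field K'] [Algebra A B]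
  [Algebra A K] [Algebra B K'] [Algebra K K'] [Algebra A K'] [IsScalarTower A B K']
  [IsScalarTower A K K']

/-- The abstract index computation. -/
theorem index_assembly (eA eB m : ℤ)
    (hA : IsFred (mapBaseChange ℤ A K) ∧ ind (mapBaseChange ℤ A K) = -eA)
    (hB : IsFred (mapBaseChange ℤ B K') ∧ ind (mapBaseChange ℤ B K') = -eB)
    (hβ : IsFred (mapBaseChange ℤ K K') ∧ ind (mapBaseChange ℤ K K') = 0)
    (φ : K' ⊗[A] Ω[A⁄ℤ] →ₗ[K'] K' ⊗[B] Ω[B⁄ℤ])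
    (hφ : ∀ a, φ (1 ⊗ₜ D ℤ A a) = 1 ⊗ₜ D ℤ B (algebraMap A B a))
    (hφ' : IsFred φ ∧ ind φ = m) : eB = eA + m := by
  let ι : K' ⊗[A] Ω[A⁄ℤ] ≃ₗ[K'] K' ⊗[K] (K ⊗[A] Ω[A⁄ℤ]) :=
    (TensorProduct.AlgebraTensorModule.cancelBaseChange A K K' K' Ω[A⁄ℤ]).symm
  let γA' : K' ⊗[K] (K ⊗[A] Ω[A⁄ℤ]) →ₗ[K'] K' ⊗[K] Ω[K⁄ℤ] :=
    (mapBaseChange ℤ A K).baseChange K'
  have hcomm : mapBaseChange ℤ B K' ∘ₗ φ =
      mapBaseChange ℤ K K' ∘ₗ (γA' ∘ₗ (ι : K' ⊗[A] Ω[A⁄ℤ] →ₗ[K'] K' ⊗[K] (K ⊗[A] Ω[A⁄ℤ]))) := by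
    apply linearMap_ext_D
    intro a
    rw [LinearMap.comp_apply, hφ, mapBaseChange_tmul, KaehlerDifferential.map_D, one_smul]
    rw [LinearMap.comp_apply, LinearMap.comp_apply]
    show _ = mapBaseChange ℤ K K' (γA' (ι (1 ⊗ₜ D ℤ A a)))
    have h1 : ι ((1 : K') ⊗ₜ D ℤ A a) = (1 : K') ⊗ₜ ((1 : K) ⊗ₜ D ℤ A a) := rfl
    rw [h1]
    have h2 : γA' ((1 : K') ⊗ₜ ((1 : K) ⊗ₜ D ℤ A a)) =
        (1 : K') ⊗ₜ (mapBaseChange ℤ A K ((1 : K) ⊗ₜ D ℤ A a)) := rfl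
    have h3 : mapBaseChange ℤ A K ((1 : K) ⊗ₜ D ℤ A a) = D ℤ K (algebraMap A K a) := by
      rw [mapBaseChange_tmul, KaehlerDifferential.map_D, one_smul]
    rw [h2, h3, mapBaseChange_tmul, KaehlerDifferential.map_D, one_smul,
      ← IsScalarTower.algebraMap_apply, ← IsScalarTower.algebraMap_apply]
  obtain ⟨hγ1, hγ2⟩ := IsFred.baseChange K' hA.1
  obtain ⟨h11, h12⟩ := IsFred.comp_equiv hγ1 ι
  obtain ⟨h21, h22⟩ := h11.comp hβ.1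
  obtain ⟨h31, h32⟩ := hφ'.1.comp hB.1
  rw [hcomm, h22, h12, hγ2, hA.2, hβ.2, hφ'.2, hB.2] at h32
  linarith

end assembly

end Groth.Agent.Helper8.PRad
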