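import Mathlib
import Groth.Agent.Lib.Helper2.CartierFinal
import Groth.Agent.Lib.Helper8.PRad1
import Groth.Agent.Lib.Helper8.PRad5

/-!
# The embedding dimension of `A[T_1, …, T_n]/(T_i^p - f_i)`
-/

set_option autoImplicit false

namespace Groth.Agent.Helper8.PRad

open IsLocalRing KaehlerDifferential TensorProduct Module Groth.Agent.Helper2.Fredholm

universe u

/-- Cartier's equality for a finite extension: `K' ⊗ Ω_K → Ω_{K'}` has index zero. -/
theorem isFred_mapBaseChange_of_finite (K K' : Type u) [Field K] [Field K'] [Algebra K K']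
    [Module.Finite K K'] :
    IsFred (mapBaseChange ℤ K K') ∧ ind (mapBaseChange ℤ K K') = 0 := by
  obtain ⟨g, -, he⟩ := Groth.Agent.Helper2.Cartier.Q_of_essFiniteType ℤ K K'
  refine ⟨g, ?_⟩
  have h1 := he Groth.Agent.Helper2.Cartier.nonDeg_int
  have ht : Algebra.trdeg K K' = 0 := _root_.trdeg_eq_zero
  rw [ht] at h1
  unfold Groth.Agent.Helper2.Cartier.idx at h1
  simpa using h1

section main

variable {A : Type u} [CommRing A] [IsLocalRing A] (p : ℕ) [hp : Fact p.Prime]
  [CharP A p] {n : ℕ} (f : Fin n → A)

instance : CharP (RootAlg p f) p :=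
  (CharP.charP_iff_prime_eq_zero hp.out).2 (cast_p_eq_zero p f)

instance : IsScalarTower A (RootAlg p f) (ResidueField (RootAlg p f)) :=
  inferInstanceAs (IsScalarTower A (RootAlg p f) (RootAlg p f ⧸ maximalIdeal (RootAlg p f)))

/-- The embedding dimension of `B = A[T_1, …, T_n]/(T_i^p - f_i)`: it is that of `A`, plus `n`,
minus the rank of the span of the `d f_i` in `K' ⊗ Ω_A`. -/
theorem finrank_cotangentSpace_rootAlg [IsNoetherianRing A] :
    (finrank (ResidueField (RootAlg p f)) (CotangentSpace (RootAlg p f)) : ℤ) =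
      finrank (ResidueField A) (CotangentSpace A) + ((n : ℤ) -
        finrank (ResidueField (RootAlg p f)) (Submodule.span (ResidueField (RootAlg p f))
          (Set.range fun i => (1 : ResidueField (RootAlg p f)) ⊗ₜ[A] D ℤ A (f i)))) := by
  have hA := isFred_mapBaseChange_residueField A p
  have hB := isFred_mapBaseChange_residueField (RootAlg p f) p
  have hβ := isFred_mapBaseChange_of_finite (ResidueField A) (ResidueField (RootAlg p f))
  have hφ' := isFred_phiMap p f (ResidueField (RootAlg p f))
  exact index_assembly (A := A) (B := RootAlg p f) (K := ResidueField A)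
    (K' := ResidueField (RootAlg p f)) _ _ _ hA hB hβ
    (phiMap p f (ResidueField (RootAlg p f)))
    (fun a => phiMap_tmul_D p f _ 1 a) hφ'

end main

end Groth.Agent.Helper8.PRad
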