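import Mathlib
import Groth.Agent.Lib.Helper8.PRad6

/-!
# Linear independence of the `d f_i` and the embedding dimension of `A[T]/(T_i^p - f_i)`
-/

set_option autoImplicit false

namespace Groth.Agent.Helper8.PRad

open IsLocalRing KaehlerDifferential TensorProduct Module

universe u

section li

variable {K K' V ι : Type*} [Field K] [Field K'] [Algebra K K'] [AddCommGroup V] [Module K V]

/-- Linear independence is insensitive to extension of the base field. -/
theorem linearIndependent_one_tmul_iff (w : ι → V) :
    LinearIndependent K' (fun i => (1 : K') ⊗ₜ[K] w i) ↔ LinearIndependent K w := by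
  constructor
  · intro h
    have h1 : LinearIndependent K (fun i => (1 : K') ⊗ₜ[K] w i) := h.restrict_scalars' K
    exact LinearIndependent.of_comp (TensorProduct.mk K K' V 1) h1
  · intro h
    exact Module.Flat.linearIndependent_one_tmul h

end li

section li2

variable {A K K' M ι : Type*} [CommRing A] [Field K] [Field K'] [Algebra A K] [Algebra K K']
  [Algebra A K'] [IsScalarTower A K K'] [AddCommGroup M] [Module A M]

/-- Linear independence of the `1 ⊗ m_i` in `K ⊗_A M` can be tested in `K' ⊗_A M`. -/
theorem linearIndependent_one_tmul_iff' (w : ι → M) :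
    LinearIndependent K' (fun i => (1 : K') ⊗ₜ[A] w i) ↔
      LinearIndependent K (fun i => (1 : K) ⊗ₜ[A] w i) := by
  rw [← linearIndependent_one_tmul_iff (K := K) (K' := K')]
  let e : K' ⊗[K] (K ⊗[A] M) ≃ₗ[K'] K' ⊗[A] M :=
    TensorProduct.AlgebraTensorModule.cancelBaseChange A K K' K' M
  have h : (fun i => (1 : K') ⊗ₜ[A] w i) =
      (e : K' ⊗[K] (K ⊗[A] M) →ₗ[K'] K' ⊗[A] M) ∘ fun i => (1 : K') ⊗ₜ[K] ((1 : K) ⊗ₜ[A] w i) := by
    funext i
    show _ = e ((1 : K') ⊗ₜ[K] ((1 : K) ⊗ₜ[A] w i))
    rw [TensorProduct.AlgebraTensorModule.cancelBaseChange_tmul, one_smul]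
  rw [h]
  exact LinearMap.linearIndependent_iff _ (LinearMap.ker_eq_bot.2 e.injective)

end li2

section main

variable {A : Type u} [CommRing A] [IsLocalRing A] [IsNoetherianRing A] (p : ℕ)
  [hp : Fact p.Prime] [CharP A p] {n : ℕ} (f : Fin n → A)

/-- The embedding dimensions of `A` and `A[T]/(T_i^p - f_i)` agree if and only if the `d f_i` are
linearly independent in `K ⊗ Ω_A`. -/
theorem finrank_cotangentSpace_eq_iff :
    finrank (ResidueField A) (CotangentSpace A) =
        finrank (ResidueField (RootAlg p f)) (CotangentSpace (RootAlg p f)) ↔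
      LinearIndependent (ResidueField A)
        (fun i => (1 : ResidueField A) ⊗ₜ[A] D ℤ A (f i)) := by
  rw [← linearIndependent_one_tmul_iff' (K := ResidueField A)
    (K' := ResidueField (RootAlg p f)), linearIndependent_iff_card_eq_finrank_span,
    Fintype.card_fin]
  have h := finrank_cotangentSpace_rootAlg p f
  have hle : finrank (ResidueField (RootAlg p f)) (Submodule.span (ResidueField (RootAlg p f))
      (Set.range fun i => (1 : ResidueField (RootAlg p f)) ⊗ₜ[A] D ℤ A (f i))) ≤ n := by
    have := finrank_range_le_card (R := ResidueField (RootAlg p f))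
      (fun i => (1 : ResidueField (RootAlg p f)) ⊗ₜ[A] D ℤ A (f i))
    rwa [Fintype.card_fin] at this
  rw [Set.finrank]
  constructor
  · intro h1
    omega
  · intro h1
    omega

/-- The embedding dimension of `A[T]/(T_i^p - f_i)` is at least that of `A`. -/
theorem finrank_cotangentSpace_le :
    finrank (ResidueField A) (CotangentSpace A) ≤
        finrank (ResidueField (RootAlg p f)) (CotangentSpace (RootAlg p f)) := by
  have h := finrank_cotangentSpace_rootAlg p f
  have hle : finrank (ResidueField (RootAlg p f)) (Submodule.span (ResidueField (RootAlg p f))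
      (Set.range fun i => (1 : ResidueField (RootAlg p f)) ⊗ₜ[A] D ℤ A (f i))) ≤ n := by
    have := finrank_range_le_card (R := ResidueField (RootAlg p f))
      (fun i => (1 : ResidueField (RootAlg p f)) ⊗ₜ[A] D ℤ A (f i))
    rwa [Fintype.card_fin] at this
  omega

end main

end Groth.Agent.Helper8.PRad
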