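import Mathlib
import Groth.Agent.Lib.Helper8.PRad7
import Groth.Agent.Lib.Helper8.Depth36

/-!
# Regularity of `A[T]/(T_i^p - f_i)` forces the `d f_i` to be linearly independent
-/

set_option autoImplicit false

namespace Groth.Agent.Helper8.PRad

open IsLocalRing KaehlerDifferential TensorProduct Module

universe u

section main

variable {A : Type u} [CommRing A] [IsLocalRing A] [IsNoetherianRing A] (p : ℕ)
  [hp : Fact p.Prime] [CharP A p] {n : ℕ} (f : Fin n → A)

/-- If `A[T]/(T_i^p - f_i)` is regular, the `d f_i` are linearly independent in `K ⊗ Ω_A`. -/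
theorem linearIndependent_of_isRegularLocalRing (hB : IsRegularLocalRing (RootAlg p f)) :
    LinearIndependent (ResidueField A) (fun i => (1 : ResidueField A) ⊗ₜ[A] D ℤ A (f i)) := by
  rw [← finrank_cotangentSpace_eq_iff p f]
  have h1 : (finrank (ResidueField (RootAlg p f)) (CotangentSpace (RootAlg p f)) : WithBot ℕ∞) =
      ringKrullDim (RootAlg p f) := (IsRegularLocalRing.iff_finrank_cotangentSpace _).1 hB
  have h2 : ringKrullDim (RootAlg p f) ≤ ringKrullDim A :=
    Groth.Agent.Helper8.Depth.ringKrullDim_le_of_isIntegral A (RootAlg p f)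
  have h3 : ringKrullDim A ≤ (finrank (ResidueField A) (CotangentSpace A) : WithBot ℕ∞) := by
    have := ringKrullDim_le_spanFinrank_maximalIdeal A
    rwa [spanFinrank_maximalIdeal_eq_finrank_cotangentSpace] at this
  have h4 : (finrank (ResidueField (RootAlg p f)) (CotangentSpace (RootAlg p f)) : WithBot ℕ∞) ≤
      (finrank (ResidueField A) (CotangentSpace A) : WithBot ℕ∞) := by
    rw [h1]
    exact h2.trans h3
  have h5 : finrank (ResidueField (RootAlg p f)) (CotangentSpace (RootAlg p f)) ≤
      finrank (ResidueField A) (CotangentSpace A) := by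
    exact_mod_cast h4
  exact le_antisymm (finrank_cotangentSpace_le p f) h5

end main

section field

variable {k : Type u} [Field k] (p : ℕ) [hp : Fact p.Prime] [CharP k p] {n : ℕ} (x : Fin n → k)

/-- If the `d x_i` are linearly independent in `Ω_k`, then `k[T]/(T_i^p - x_i)` is a field. -/
theorem isField_rootAlg (h : LinearIndependent k (fun i => D ℤ k (x i))) :
    IsField (RootAlg p x) := by
  rw [← finrank_cotangentSpace_eq_zero_iff, ← (finrank_cotangentSpace_eq_iff p x).2,
    finrank_cotangentSpace_eq_zero]
  exact (linearIndependent_one_tmul_iff (K := k) (K' := ResidueField k) _).2 h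

end field

end Groth.Agent.Helper8.PRad
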