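import Mathlib
import Groth.Agent.Lib.Helper8.PRad2

/-!
# Base change of `k[T]/(T_i^p - x_i)`
-/

set_option autoImplicit false

namespace Groth.Agent.Helper8.PRad

open MvPolynomial TensorProduct

universe u

section bc

variable {k A : Type u} [CommRing k] [CommRing A] [Algebra k A] (p : ℕ) {n : ℕ} (x : Fin n → k)

theorem root_pow_bc (i : Fin n) : root p (fun i => algebraMap k A (x i)) i ^ p =
    algebraMap k (RootAlg p (fun i => algebraMap k A (x i))) (x i) := by
  rw [root_pow]
  exact (IsScalarTower.algebraMap_apply k A _ (x i)).symm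

theorem tmul_pow_bc (i : Fin n) : (root p x i ⊗ₜ[k] (1 : A)) ^ p =
    (Algebra.TensorProduct.includeRight : A →ₐ[k] RootAlg p x ⊗[k] A).toRingHom
      (algebraMap k A (x i)) := by
  rw [Algebra.TensorProduct.tmul_pow, one_pow, root_pow]
  show _ = (1 : RootAlg p x) ⊗ₜ[k] (algebraMap k A (x i))
  rw [← Algebra.TensorProduct.algebraMap_apply, Algebra.TensorProduct.algebraMap_apply']

/-- `k[T]/(T_i^p - x_i) → A[T]/(T_i^p - x_i)`. -/
noncomputable def bcLeft : RootAlg p x →ₐ[k] RootAlg p (fun i => algebraMap k A (x i)) :=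
  { liftRoot p x (algebraMap k (RootAlg p (fun i => algebraMap k A (x i))))
      (fun i => root p (fun i => algebraMap k A (x i)) i) (root_pow_bc p x) with
    commutes' := fun c => liftRoot_algebraMap p x _ _ (root_pow_bc p x) c }

theorem bcLeft_root (i : Fin n) :
    bcLeft (A := A) p x (root p x i) = root p (fun i => algebraMap k A (x i)) i :=
  liftRoot_root p x _ _ (root_pow_bc p x) i

/-- `k[T]/(T_i^p - x_i) ⊗ A → A[T]/(T_i^p - x_i)`. -/
noncomputable def bcHom : RootAlg p x ⊗[k] A →ₐ[k] RootAlg p (fun i => algebraMap k A (x i)) :=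
  Algebra.TensorProduct.lift (bcLeft p x)
    (IsScalarTower.toAlgHom k A (RootAlg p (fun i => algebraMap k A (x i))))
    (fun _ _ => Commute.all _ _)

theorem bcHom_tmul (b : RootAlg p x) (a : A) :
    bcHom p x (b ⊗ₜ a) = bcLeft p x b * algebraMap A _ a := by
  rw [bcHom, Algebra.TensorProduct.lift_tmul]
  rfl

/-- `A[T]/(T_i^p - x_i) → k[T]/(T_i^p - x_i) ⊗ A`. -/
noncomputable def bcInv : RootAlg p (fun i => algebraMap k A (x i)) →+* RootAlg p x ⊗[k] A :=
  liftRoot p (fun i => algebraMap k A (x i))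
    (Algebra.TensorProduct.includeRight : A →ₐ[k] RootAlg p x ⊗[k] A).toRingHom
    (fun i => root p x i ⊗ₜ[k] (1 : A)) (tmul_pow_bc p x)

theorem bcInv_algebraMap (a : A) :
    bcInv p x (algebraMap A (RootAlg p (fun i => algebraMap k A (x i))) a) =
      (1 : RootAlg p x) ⊗ₜ[k] a :=
  liftRoot_algebraMap p (fun i => algebraMap k A (x i)) _ _ (tmul_pow_bc p x) a

theorem bcInv_root (i : Fin n) :
    bcInv (A := A) p x (root p (fun i => algebraMap k A (x i)) i) =
      root p x i ⊗ₜ[k] (1 : A) :=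
  liftRoot_root p (fun i => algebraMap k A (x i)) _ _ (tmul_pow_bc p x) i

theorem bcInv_bcLeft (b : RootAlg p x) :
    bcInv (A := A) p x (bcLeft p x b) = b ⊗ₜ[k] (1 : A) := by
  refine rootAlg_induction p x
    (P := fun b => bcInv (A := A) p x (bcLeft p x b) = b ⊗ₜ[k] (1 : A))
    (fun c => ?_) (fun y z hy hz => ?_) (fun y i hy => ?_) b
  · rw [AlgHom.commutes, IsScalarTower.algebraMap_apply k A, bcInv_algebraMap,
      ← Algebra.TensorProduct.algebraMap_apply, Algebra.TensorProduct.algebraMap_apply']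
  · rw [map_add, map_add, hy, hz, add_tmul]
  · rw [map_mul, map_mul, hy, bcLeft_root, bcInv_root, Algebra.TensorProduct.tmul_mul_tmul,
      mul_one]

theorem bcHom_bcInv (z : RootAlg p (fun i => algebraMap k A (x i))) :
    bcHom p x (bcInv p x z) = z := by
  refine rootAlg_induction p (fun i => algebraMap k A (x i))
    (P := fun z => bcHom p x (bcInv p x z) = z)
    (fun a => ?_) (fun y z hy hz => ?_) (fun y i hy => ?_) z
  · rw [bcInv_algebraMap, bcHom_tmul, map_one, one_mul]
  · rw [map_add, map_add, hy, hz]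
  · rw [map_mul, map_mul, hy, bcInv_root, bcHom_tmul, map_one, mul_one, bcLeft_root]

theorem bcInv_bcHom (z : RootAlg p x ⊗[k] A) : bcInv p x (bcHom p x z) = z := by
  induction z using TensorProduct.induction_on with
  | zero => rw [map_zero, map_zero]
  | add z w hz hw => rw [map_add, map_add, hz, hw]
  | tmul b a =>
    rw [bcHom_tmul, map_mul, bcInv_bcLeft, bcInv_algebraMap,
      Algebra.TensorProduct.tmul_mul_tmul, mul_one, one_mul]

/-- `k[T]/(T_i^p - x_i) ⊗ A ≃ A[T]/(T_i^p - x_i)`. -/
noncomputable def bcEquiv : RootAlg p x ⊗[k] A ≃+* RootAlg p (fun i => algebraMap k A (x i)) :=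
  { (bcHom p x).toRingHom with
    invFun := bcInv p x
    left_inv := bcInv_bcHom p x
    right_inv := bcHom_bcInv p x }

end bc

end Groth.Agent.Helper8.PRad
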