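import Mathlib
import Groth.Agent.Lib.Helper8.PRad8
import Groth.Agent.Lib.Helper8.PRad9

/-!
# Regularity after adjoining `p`-th roots of elements of the base field forces
`K ⊗ Ω_k → K ⊗ Ω_A` to be injective
-/

set_option autoImplicit false

namespace Groth.Agent.Helper8.PRad

open IsLocalRing KaehlerDifferential TensorProduct Module

universe u

section main

variable {k A : Type u} [Field k] (p : ℕ) [hp : Fact p.Prime] [CharP k p] [CommRing A]
  [IsLocalRing A] [IsNoetherianRing A] [Algebra k A]

/-- If `k[T]/(T_i^p - x_i)` is a field, it is isomorphic to its residue field. -/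
theorem bijective_residue_of_isField {R : Type*} [CommRing R] [IsLocalRing R] (h : IsField R) :
    Function.Bijective (algebraMap R (ResidueField R)) := by
  refine ⟨?_, residue_surjective⟩
  rw [injective_iff_map_eq_zero]
  intro a ha
  have h1 : a ∈ maximalIdeal R := (residue_eq_zero_iff a).1 ha
  rw [isField_iff_maximalIdeal_eq.1 h] at h1
  exact h1

/-- The key step: under the regularity hypothesis, linearly independent differentials of elements
of `k` stay linearly independent in `K ⊗ Ω_A`. -/
theorem linearIndependent_of_hyp
    (H : ∀ (k' : Type u) [Field k'] [Algebra k k'], Module.Finite k k' →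
      (∀ y : k', y ^ p ∈ (algebraMap k k').range) → IsRegularRing (k' ⊗[k] A))
    {n : ℕ} (x : Fin n → k) (hx : LinearIndependent k (fun i => D ℤ k (x i))) :
    LinearIndependent (ResidueField A)
      (fun i => (1 : ResidueField A) ⊗ₜ[A] D ℤ A (algebraMap k A (x i))) := by
  haveI : CharP A p := charP_of_injective_algebraMap (algebraMap k A).injective p
  have hfield : IsField (RootAlg p x) := isField_rootAlg p x hx
  have hreg : IsRegularRing (ResidueField (RootAlg p x) ⊗[k] A) := by
    refine H (ResidueField (RootAlg p x)) inferInstance (fun y => ?_)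
    obtain ⟨b, rfl⟩ := residue_surjective y
    obtain ⟨c, hc⟩ := exists_pow_eq_algebraMap p x b
    refine ⟨c, ?_⟩
    rw [← map_pow, hc]
    rfl
  let e₁ : RootAlg p x ≃ₐ[k] ResidueField (RootAlg p x) :=
    AlgEquiv.ofBijective (IsScalarTower.toAlgHom k (RootAlg p x) (ResidueField (RootAlg p x)))
      (bijective_residue_of_isField hfield)
  let e₂ : RootAlg p x ⊗[k] A ≃ₐ[k] ResidueField (RootAlg p x) ⊗[k] A :=
    Algebra.TensorProduct.congr e₁ AlgEquiv.refl
  let e : ResidueField (RootAlg p x) ⊗[k] A ≃+* RootAlg p (fun i => algebraMap k A (x i)) :=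
    e₂.symm.toRingEquiv.trans (bcEquiv p x)
  haveI : IsRegularRing (RootAlg p (fun i => algebraMap k A (x i))) :=
    IsRegularRing.of_ringEquiv e
  have hB : IsRegularLocalRing (RootAlg p (fun i => algebraMap k A (x i))) :=
    IsRegularLocalRing.of_isRegularRing_of_isLocalRing _
  exact linearIndependent_of_isRegularLocalRing p (fun i => algebraMap k A (x i)) hB

end main

end Groth.Agent.Helper8.PRad
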