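import Mathlib
import Groth.Agent.Lib.Helper8.PRad10

/-!
# Injectivity of `K ⊗ Ω_k → K ⊗ Ω_A` from regularity of the radicial base changes
-/

set_option autoImplicit false

namespace Groth.Agent.Helper8.PRad

open IsLocalRing KaehlerDifferential TensorProduct Module

universe u

section main

variable {k A : Type u} [Field k] (p : ℕ) [hp : Fact p.Prime] [CharP k p] [CommRing A]
  [IsLocalRing A] [IsNoetherianRing A] [Algebra k A]

/-- A linear map carrying a basis to a linearly independent family is injective. -/
theorem injective_of_linearIndependent_comp_basis {K V W ι : Type*} [Field K] [AddCommGroup V]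
    [Module K V] [AddCommGroup W] [Module K W] (b : Basis ι K V) (g : V →ₗ[K] W)
    (h : LinearIndependent K (g ∘ b)) : Function.Injective g := by
  rw [injective_iff_map_eq_zero]
  intro v hv
  have h1 : g v = Finsupp.linearCombination K (g ∘ b) (b.repr v) := by
    conv_lhs => rw [← b.linearCombination_repr v]
    rw [Finsupp.apply_linearCombination]
  rw [h1] at hv
  have h2 : b.repr v = 0 := by
    apply h
    rw [hv, map_zero]
  exact b.repr.map_eq_zero_iff.1 h2

/-- Under the regularity hypothesis, `K ⊗ Ω_k → K ⊗ Ω_A` is injective. -/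
theorem injective_of_hyp
    (H : ∀ (k' : Type u) [Field k'] [Algebra k k'], Module.Finite k k' →
      (∀ y : k', y ^ p ∈ (algebraMap k k').range) → IsRegularRing (k' ⊗[k] A)) :
    Function.Injective ((mapBaseChange ℤ k A).lTensor (ResidueField A)) := by
  classical
  obtain ⟨bset, hsub, hspan, hli⟩ := exists_linearIndependent k (Set.range (D ℤ k))
  have hspan' : ⊤ ≤ Submodule.span k (Set.range ((↑) : bset → Ω[k⁄ℤ])) := by
    rw [Subtype.range_coe, hspan, KaehlerDifferential.span_range_derivation]
  let b₀ : Basis bset k Ω[k⁄ℤ] := Basis.mk hli hspan'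
  have hb₀ : ∀ j : bset, b₀ j = (j : Ω[k⁄ℤ]) := fun j => Basis.mk_apply hli hspan' j
  have hx : ∀ j : bset, ∃ x : k, D ℤ k x = (j : Ω[k⁄ℤ]) := fun j => hsub j.2
  choose x hx using hx
  let b₂ : Basis bset (ResidueField A) (ResidueField A ⊗[A] (A ⊗[k] Ω[k⁄ℤ])) :=
    (b₀.baseChange A).baseChange (ResidueField A)
  let g : ResidueField A ⊗[A] (A ⊗[k] Ω[k⁄ℤ]) →ₗ[ResidueField A] ResidueField A ⊗[A] Ω[A⁄ℤ] :=
    (mapBaseChange ℤ k A).baseChange (ResidueField A)
  have hg : ∀ j : bset, g (b₂ j) = (1 : ResidueField A) ⊗ₜ[A] D ℤ A (algebraMap k A (x j)) := by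
    intro j
    show g ((b₀.baseChange A).baseChange (ResidueField A) j) = _
    rw [Basis.baseChange_apply, Basis.baseChange_apply, hb₀, ← hx]
    show (1 : ResidueField A) ⊗ₜ[A] (mapBaseChange ℤ k A ((1 : A) ⊗ₜ[k] D ℤ k (x j))) = _
    rw [mapBaseChange_tmul, KaehlerDifferential.map_D, one_smul]
  have hli' : LinearIndependent (ResidueField A) (g ∘ b₂) := by
    rw [linearIndependent_iff_finset_linearIndependent]
    intro s
    let e : Fin s.card ≃ s := s.equivFin.symm
    rw [← linearIndependent_equiv e]
    have h1 : LinearIndependent k (fun i : Fin s.card => D ℤ k (x (e i : bset))) := by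
      have h2 : (fun i : Fin s.card => D ℤ k (x (e i : bset))) =
          ((↑) : bset → Ω[k⁄ℤ]) ∘ (fun i : Fin s.card => (e i : bset)) := by
        funext i
        exact hx _
      rw [h2]
      exact hli.comp _ (Subtype.val_injective.comp e.injective)
    have h3 := linearIndependent_of_hyp p H (fun i : Fin s.card => x (e i : bset)) h1
    convert h3 using 1
    funext i
    exact hg _
  have hinj : Function.Injective g := injective_of_linearIndependent_comp_basis b₂ g hli'
  exact hinj

end main

end Groth.Agent.Helper8.PRad
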