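import Mathlib
import Groth.Prelude.Def_CAlgX
import Groth.Prelude.Def_Found
import Groth.Agent.Lib.Helper8.PRad11
import Groth.Agent.Lib.Helper8.Cartier3
import Groth.Agent.Lib.Helper8.AdicFS6

/-!
# EGA 0_IV 22.5.8: formal smoothness over a field and geometric regularity
-/

set_option autoImplicit false

namespace Groth.Agent.Helper8.PRad

open IsLocalRing KaehlerDifferential TensorProduct Module CAlgX

universe u

section main

variable {k A : Type u} [Field k] [CommRing A] [IsLocalRing A] [IsNoetherianRing A] [Algebra k A]

/-- Regularity of `k ⊗ A` gives regularity of `A`. -/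
theorem isRegularLocalRing_of_tensor_self (h : IsRegularRing (k ⊗[k] A)) :
    IsRegularLocalRing A := by
  haveI := h
  haveI : IsRegularRing A :=
    IsRegularRing.of_ringEquiv (Algebra.TensorProduct.lid k A).toRingEquiv
  exact IsRegularLocalRing.of_isRegularRing_of_isLocalRing A

/-- **EGA 0_IV 22.5.8 (hard direction).** If `k' ⊗ A` is regular for every finite extension `k'`
of `k` with `k'^p ⊆ k` (`p` the characteristic exponent), then `A` is formally smooth over `k` for
the adic topology. -/
theorem isAdicFormallySmooth_of_hyp (p : ℕ) [ExpChar k p]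
    (H : ∀ (k' : Type u) [Field k'] [Algebra k k'], Module.Finite k k' →
      (∀ y : k', y ^ p ∈ (algebraMap k k').range) → IsRegularRing (k' ⊗[k] A)) :
    IsAdicFormallySmooth k A (maximalIdeal A) := by
  have hreg : IsRegularLocalRing A := by
    apply isRegularLocalRing_of_tensor_self (k := k)
    refine H k inferInstance (fun y => ⟨y ^ p, rfl⟩)
  rcases ‹ExpChar k p› with _ | ⟨hprime⟩
  · -- characteristic zero
    haveI : Algebra.FormallySmooth k (ResidueField A) :=
      Groth.Agent.Helper2.Sep.formallySmooth_of_charZero k (ResidueField A)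
    haveI : Algebra.IsGeometricallyReduced k (ResidueField A) :=
      (Groth.Agent.S2451.result (k := k) (K := ResidueField A)).1 inferInstance
    exact ((Groth.Agent.S2453.result (k := k) (A := A)).out 0 3).2 hreg
  · haveI : Fact p.Prime := ⟨hprime⟩
    exact Groth.Agent.Helper8.Cartier.isAdicFormallySmooth_iff_regular_and_injective.2
      ⟨hreg, injective_of_hyp p H⟩

/-- **EGA 0_IV 22.5.8.** -/
theorem isAdicFormallySmooth_iff_hyp (p : ℕ) [ExpChar k p] :
    IsAdicFormallySmooth k A (maximalIdeal A) ↔
      ∀ (k' : Type u) [Field k'] [Algebra k k'], Module.Finite k k' →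
        (∀ y : k', y ^ p ∈ (algebraMap k k').range) → IsRegularRing (k' ⊗[k] A) := by
  constructor
  · intro h k' _ _ hfin _
    exact Groth.Agent.Helper8.AdicFS.isGeometricallyRegular h k' hfin
  · intro H
    exact isAdicFormallySmooth_of_hyp p H

/-- Geometric regularity is equivalent to adic formal smoothness. -/
theorem isGeometricallyRegular_iff_isAdicFormallySmooth :
    CAlg.IsGeometricallyRegular k A ↔ IsAdicFormallySmooth k A (maximalIdeal A) := by
  constructor
  · intro h
    obtain ⟨q, hq⟩ := ExpChar.exists k
    exact isAdicFormallySmooth_of_hyp q (fun k' _ _ hfin _ => h k' hfin)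
  · intro h
    exact Groth.Agent.Helper8.AdicFS.isGeometricallyRegular h

end main

end Groth.Agent.Helper8.PRad
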