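import Mathlib
import Groth.Prelude.Def_CAlgX
import Groth.Prelude.Def_Found
import Groth.Agent.Lib.Helper8.PRad12
import Groth.Agent.Lib.Helper8.LocalFib
import Groth.Agent.Lib.Helper8.AdicFS17

/-!
# EGA 0_IV 22.5.8 / 19.7.1: a local homomorphism is formally smooth for the adic topology iff it
is flat with geometrically regular closed fibre
-/

set_option autoImplicit false

namespace Groth.Agent.Helper8.PRad

open IsLocalRing TensorProduct CAlgX Groth.Agent.Helper8.LocalFib

universe u

/-- Formal smoothness for an adic topology passes to larger ideals. -/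
theorem isAdicFormallySmooth_of_le {R S : Type u} [CommRing R] [CommRing S] [Algebra R S]
    {𝔫 𝔫' : Ideal S} (hle : 𝔫 ≤ 𝔫') (h : IsAdicFormallySmooth R S 𝔫) :
    IsAdicFormallySmooth R S 𝔫' := by
  intro C _ _ J hJ ψ ⟨t, ht⟩
  exact h C J hJ ψ ⟨t, fun x hx => ht x (Ideal.pow_right_mono hle t hx)⟩

section main

variable {A B : Type u} [CommRing A] [CommRing B] [IsLocalRing A] [IsLocalRing B]
  [IsNoetherianRing A] [IsNoetherianRing B] [Algebra A B] [IsLocalHom (algebraMap A B)]

theorem isGeometricallyRegular_fiber_of_isAdicFormallySmooth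
    (h : IsAdicFormallySmooth A B (maximalIdeal B)) :
    CAlg.IsGeometricallyRegular (maximalIdeal A).ResidueField ((maximalIdeal A).Fiber B) := by
  have hbc := Groth.Agent.Helper8.AdicFS.baseChange h (maximalIdeal A).ResidueField
  have hF : IsAdicFormallySmooth (maximalIdeal A).ResidueField ((maximalIdeal A).Fiber B)
      (maximalIdeal ((maximalIdeal A).Fiber B)) :=
    isAdicFormallySmooth_of_le (map_maximalIdeal_le A B) hbc
  haveI : IsNoetherianRing ((maximalIdeal A).Fiber B) :=
    Groth.Agent.Helper8.AdicFS.isNoetherianRing_fiber A B (maximalIdeal A)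
  exact Groth.Agent.Helper8.AdicFS.isGeometricallyRegular hF

theorem isAdicFormallySmooth_of_flat_of_fiber [Module.Flat A B]
    (hgr : CAlg.IsGeometricallyRegular (maximalIdeal A).ResidueField
      ((maximalIdeal A).Fiber B)) :
    IsAdicFormallySmooth A B (maximalIdeal B) := by
  haveI : IsNoetherianRing ((maximalIdeal A).Fiber B) :=
    Groth.Agent.Helper8.AdicFS.isNoetherianRing_fiber A B (maximalIdeal A)
  have hF : IsAdicFormallySmooth (maximalIdeal A).ResidueField ((maximalIdeal A).Fiber B)
      (maximalIdeal ((maximalIdeal A).Fiber B)) :=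
    isGeometricallyRegular_iff_isAdicFormallySmooth.1 hgr
  have hbij := Ideal.bijective_algebraMap_quotient_residueField (maximalIdeal A)
  let e₀ : (A ⧸ maximalIdeal A) ≃+* (maximalIdeal A).ResidueField :=
    RingEquiv.ofBijective (algebraMap (A ⧸ maximalIdeal A) (maximalIdeal A).ResidueField) hbij
  have hF' : IsAdicFormallySmooth (A ⧸ maximalIdeal A) ((maximalIdeal A).Fiber B)
      (maximalIdeal ((maximalIdeal A).Fiber B)) := by
    refine Groth.Agent.Helper8.AdicFS.of_ringEquiv_base e₀ (fun r => ?_) hF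
    rfl
  let f : (A ⧸ maximalIdeal A) ≃ₐ[A ⧸ maximalIdeal A] (maximalIdeal A).ResidueField :=
    AlgEquiv.ofBijective (Algebra.ofId (A ⧸ maximalIdeal A) (maximalIdeal A).ResidueField) hbij
  let e : (A ⧸ maximalIdeal A) ⊗[A] B ≃ₐ[A ⧸ maximalIdeal A] (maximalIdeal A).Fiber B :=
    Algebra.TensorProduct.congr f AlgEquiv.refl
  refine Groth.Agent.Helper8.AdicFS.of_flat_of_tensor_fibre (maximalIdeal A) (maximalIdeal B)
    (Groth.Agent.Helper8.AdicFS.map_maximalIdeal_le_of_isLocalHom (algebraMap A B)) hF' e ?_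
  intro x hx
  obtain ⟨c, rfl⟩ := includeRight_surjective A B x
  refine ⟨c, (one_tmul_mem_maximalIdeal_iff A B c).1 hx, ?_⟩
  rw [AlgEquiv.symm_apply_eq]
  show _ = f 1 ⊗ₜ[A] c
  rw [map_one]
  rfl

/-- **EGA 0_IV 19.7.1 + 22.5.8.** -/
theorem flat_and_fiber_iff_isAdicFormallySmooth :
    (Module.Flat A B ∧ CAlg.IsGeometricallyRegular (maximalIdeal A).ResidueField
      ((maximalIdeal A).Fiber B)) ↔ IsAdicFormallySmooth A B (maximalIdeal B) := by
  constructor
  · rintro ⟨hflat, hgr⟩
    haveI := hflat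
    exact isAdicFormallySmooth_of_flat_of_fiber hgr
  · intro h
    exact ⟨Groth.Agent.Helper8.AdicFS.flat_of_isAdicFormallySmooth h,
      isGeometricallyRegular_fiber_of_isAdicFormallySmooth h⟩

end main

end Groth.Agent.Helper8.PRad
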