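import Mathlib
import Groth.Prelude.Def_CAlgX
import Groth.Prelude.Def_Found
import Groth.Agent.Lib.Helper8.PRad12
import Groth.Agent.Lib.Helper9.Reg5807

/-!
# Geometric regularity localizes; EGA 0_IV 22.5.8 consequences
-/

set_option autoImplicit false

namespace Groth.Agent.Helper8.PRad

open IsLocalRing TensorProduct CAlgX

universe u

/-- Geometric regularity passes to localizations. -/
theorem isGeometricallyRegular_localization {k A : Type u} [Field k] [CommRing A] [Algebra k A]
    (h : CAlg.IsGeometricallyRegular k A) (M : Submonoid A) :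
    CAlg.IsGeometricallyRegular k (Localization M) := by
  intro k' _ _ hfin
  haveI : IsRegularRing (k' ⊗[k] A) := h k' hfin
  haveI : IsRegularRing (A ⊗[k] k') :=
    IsRegularRing.of_ringEquiv (Algebra.TensorProduct.comm k k' A).toRingEquiv
  haveI : IsRegularRing (Localization (Algebra.algebraMapSubmonoid (A ⊗[k] k') M)) :=
    Groth.Agent.Helper9.Reg5807.isRegularRing_localization
      (Algebra.algebraMapSubmonoid (A ⊗[k] k') M) _
  let e₁ : k' ⊗[k] Localization M ≃+* Localization M ⊗[k] k' :=
    (Algebra.TensorProduct.comm k k' (Localization M)).toRingEquiv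
  let e₂ : Localization M ⊗[k] k' ≃+* Localization M ⊗[A] (A ⊗[k] k') :=
    (Algebra.TensorProduct.cancelBaseChange k A (Localization M) (Localization M)
      k').symm.toRingEquiv
  let e₃ : Localization M ⊗[A] (A ⊗[k] k') ≃+* (A ⊗[k] k') ⊗[A] Localization M :=
    (Algebra.TensorProduct.comm A (Localization M) (A ⊗[k] k')).toRingEquiv
  let e₄ : (A ⊗[k] k') ⊗[A] Localization M ≃+*
      Localization (Algebra.algebraMapSubmonoid (A ⊗[k] k') M) :=
    (Localization.tensorLeftAlgEquiv M (A ⊗[k] k')).toRingEquiv
  exact IsRegularRing.of_ringEquiv (((e₁.trans e₂).trans e₃).trans e₄).symm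

/-- **EGA 0_IV 22.5.8 consequence**: adic formal smoothness over a field localizes. -/
theorem isAdicFormallySmooth_localization_atPrime {k A : Type u} [Field k] [CommRing A]
    [IsLocalRing A] [IsNoetherianRing A] [Algebra k A]
    (h : IsAdicFormallySmooth k A (maximalIdeal A)) (p : Ideal A) [p.IsPrime] :
    IsAdicFormallySmooth k (Localization.AtPrime p)
      (maximalIdeal (Localization.AtPrime p)) := by
  have h1 : CAlg.IsGeometricallyRegular k A :=
    isGeometricallyRegular_iff_isAdicFormallySmooth.2 h
  have h2 : CAlg.IsGeometricallyRegular k (Localization.AtPrime p) :=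
    isGeometricallyRegular_localization h1 p.primeCompl
  exact isGeometricallyRegular_iff_isAdicFormallySmooth.1 h2

end Groth.Agent.Helper8.PRad
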