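import Mathlib
import Groth.Prelude.Def_CAlgX
import Groth.Prelude.Def_Found
import Groth.Agent.Lib.Helper8.PRad14
import Groth.Agent.Lib.Helper8.CompFib1

/-!
# Geometric regularity is a local property
-/

set_option autoImplicit false

namespace Groth.Agent.Helper8.PRad

open IsLocalRing TensorProduct CAlgX

universe u

/-- If a localization `L` of `T` is regular, then `T_Q` is regular for every prime `Q` of `T` not
meeting the multiplicative set. -/
theorem isRegularLocalRing_atPrime_of_isLocalization {T L : Type u} [CommRing T] [CommRing L]
    [Algebra T L] (N : Submonoid T) [IsLocalization N L] [IsRegularRing L] (Q : Ideal T)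
    [hQ : Q.IsPrime] (hd : Disjoint (N : Set T) (Q : Set T)) :
    IsRegularLocalRing (Localization.AtPrime Q) := by
  let Q' : Ideal L := Q.map (algebraMap T L)
  haveI : Q'.IsPrime := IsLocalization.isPrime_of_isPrime_disjoint N L Q hQ hd
  have hcomap : Q'.comap (algebraMap T L) = Q :=
    IsLocalization.under_map_of_isPrime_disjoint N L hQ hd
  have h1 : IsLocalization.AtPrime (Localization.AtPrime Q') (Q'.comap (algebraMap T L)) :=
    IsLocalization.isLocalization_isLocalization_atPrime_isLocalization N
      (Localization.AtPrime Q') Q'
  have h2 : IsLocalization.AtPrime (Localization.AtPrime Q') Q := by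
    have : ∀ (I : Ideal T) (hI : I.IsPrime), I = Q →
        IsLocalization.AtPrime (Localization.AtPrime Q') I → 
        IsLocalization.AtPrime (Localization.AtPrime Q') Q := by
      intro I hI hIQ hloc
      subst hIQ
      exact hloc
    exact this _ (Ideal.comap_isPrime _ _) hcomap h1
  haveI := h2
  exact IsRegularLocalRing.of_ringEquiv (IsLocalization.algEquiv Q.primeCompl
    (Localization.AtPrime Q') (Localization.AtPrime Q)).toRingEquiv

/-- Geometric regularity can be tested on the local rings at the maximal ideals. -/
theorem isGeometricallyRegular_of_localizations {k A : Type u} [Field k] [CommRing A]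
    [Algebra k A] [IsNoetherianRing A]
    (h : ∀ (m : Ideal A) [m.IsMaximal],
      CAlg.IsGeometricallyRegular k (Localization.AtPrime m)) :
    CAlg.IsGeometricallyRegular k A := by
  intro k' _ _ hfin
  haveI := hfin
  haveI : IsNoetherianRing (k' ⊗[k] A) :=
    Groth.Agent.Helper8.CompFib.isNoetherianRing_tensor_of_finite k A k'
  haveI : IsNoetherianRing (A ⊗[k] k') :=
    isNoetherianRing_of_ringEquiv _ (Algebra.TensorProduct.comm k k' A).toRingEquiv
  suffices hreg : IsRegularRing (A ⊗[k] k') by
    haveI := hreg
    exact IsRegularRing.of_ringEquiv (Algebra.TensorProduct.comm k A k').toRingEquiv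
  refine isRegularRing_iff.2 (fun Q hQ => ?_)
  haveI := hQ
  let p : Ideal A := Q.comap (algebraMap A (A ⊗[k] k'))
  haveI : p.IsPrime := Ideal.comap_isPrime _ _
  obtain ⟨m, hm, hpm⟩ := Ideal.exists_le_maximal p (Ideal.IsPrime.ne_top inferInstance)
  haveI := hm
  haveI : m.IsPrime := hm.isPrime
  -- the localization
  let L := (A ⊗[k] k') ⊗[A] Localization.AtPrime m
  haveI : IsLocalization (Algebra.algebraMapSubmonoid (A ⊗[k] k') m.primeCompl) L :=
    IsLocalization.tensor (Localization.AtPrime m) m.primeCompl
  haveI : IsRegularRing (k' ⊗[k] Localization.AtPrime m) := h m k' hfin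
  let e₁ : L ≃+* Localization.AtPrime m ⊗[A] (A ⊗[k] k') :=
    (Algebra.TensorProduct.comm A (A ⊗[k] k') (Localization.AtPrime m)).toRingEquiv
  let e₂ : Localization.AtPrime m ⊗[A] (A ⊗[k] k') ≃+* Localization.AtPrime m ⊗[k] k' :=
    (Algebra.TensorProduct.cancelBaseChange k A (Localization.AtPrime m) (Localization.AtPrime m)
      k').toRingEquiv
  let e₃ : Localization.AtPrime m ⊗[k] k' ≃+* k' ⊗[k] Localization.AtPrime m :=
    (Algebra.TensorProduct.comm k (Localization.AtPrime m) k').toRingEquiv
  haveI : IsRegularRing L := IsRegularRing.of_ringEquiv ((e₁.trans e₂).trans e₃).symm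
  refine isRegularLocalRing_atPrime_of_isLocalization
    (Algebra.algebraMapSubmonoid (A ⊗[k] k') m.primeCompl) (L := L) Q ?_
  rw [Set.disjoint_left]
  rintro _ ⟨a, ha, rfl⟩ haQ
  exact ha (hpm haQ)

/-- Geometric regularity is a local property. -/
theorem isGeometricallyRegular_iff_localizations {k A : Type u} [Field k] [CommRing A]
    [Algebra k A] [IsNoetherianRing A] :
    CAlg.IsGeometricallyRegular k A ↔ ∀ (p : Ideal A) [p.IsPrime],
      CAlg.IsGeometricallyRegular k (Localization.AtPrime p) := by
  constructor
  · intro h p _
    exact isGeometricallyRegular_localization h p.primeCompl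
  · intro h
    exact isGeometricallyRegular_of_localizations (fun m hm => by
      haveI := hm
      haveI : m.IsPrime := hm.isPrime
      exact h m)

/-- Geometric regularity over a field is formal smoothness of the local rings. -/
theorem isGeometricallyRegular_iff_forall_isAdicFormallySmooth {k A : Type u} [Field k]
    [CommRing A] [Algebra k A] [IsNoetherianRing A] :
    CAlg.IsGeometricallyRegular k A ↔ ∀ (p : Ideal A) [p.IsPrime],
      IsAdicFormallySmooth k (Localization.AtPrime p) (maximalIdeal (Localization.AtPrime p)) := by
  rw [isGeometricallyRegular_iff_localizations]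
  refine forall_congr' (fun p => forall_congr' (fun _ => ?_))
  exact isGeometricallyRegular_iff_isAdicFormallySmooth

end Groth.Agent.Helper8.PRad
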