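import Mathlib
import Groth.Prelude
import Groth.Agent.Lib.Helper8.AdicFS5

/-!
# Formal smoothness of the local rings of a fibre from formal smoothness of the local rings
-/

set_option autoImplicit false

namespace Groth.Agent.Helper8.RegFS

open IsLocalRing TensorProduct CAlgX

universe u

section fibre

variable {A B k : Type u} [CommRing A] [CommRing B] [CommRing k] [Algebra A B] [Algebra A k]

/-- If `A → B_r` is formally smooth for the `𝔪_r`-adic topology, then for a prime `q'` of
`k ⊗_A B` above `r`, `k → (k ⊗_A B)_{q'}` is formally smooth for the adic topology of the maximal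
ideal. -/
theorem isAdicFormallySmooth_fibre_localization (q' : Ideal (k ⊗[A] B)) [q'.IsPrime]
    (r : Ideal B) [r.IsPrime]
    (hr : r = q'.comap (Algebra.TensorProduct.includeRight : B →ₐ[A] k ⊗[A] B))
    (h : IsAdicFormallySmooth A (Localization.AtPrime r)
      (maximalIdeal (Localization.AtPrime r))) :
    IsAdicFormallySmooth k (Localization.AtPrime q')
      (maximalIdeal (Localization.AtPrime q')) := by
  intro C _ _ J hJ ψ ⟨t, ht⟩
  letI : Algebra A C := Algebra.compHom C (algebraMap A k)
  haveI : IsScalarTower A k C := IsScalarTower.of_algebraMap_eq (fun _ => rfl)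
  let ι : B →ₐ[A] k ⊗[A] B := Algebra.TensorProduct.includeRight
  let φ : Localization.AtPrime r →ₐ[A] Localization.AtPrime q' :=
    Localization.localAlgHom r q' ι hr
  have hφ_map : ∀ b : B, φ (algebraMap B (Localization.AtPrime r) b) =
      algebraMap (k ⊗[A] B) (Localization.AtPrime q') (ι b) := fun b =>
    Localization.localRingHom_to_map r q' ι.toRingHom hr b
  haveI hloc : IsLocalHom (Localization.localRingHom r q' ι.toRingHom hr) :=
    Localization.isLocalHom_localRingHom r q' ι.toRingHom hr
  have hφ𝔪 : ∀ x ∈ maximalIdeal (Localization.AtPrime r),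
      (φ : Localization.AtPrime r →+* Localization.AtPrime q') x ∈
        maximalIdeal (Localization.AtPrime q') := by
    intro x hx
    rw [mem_maximalIdeal, mem_nonunits_iff] at hx ⊢
    intro hu
    exact hx (isUnit_of_map_unit (Localization.localRingHom r q' ι.toRingHom hr) x hu)
  let ψ₀ : Localization.AtPrime r →ₐ[A] C ⧸ J := (ψ.restrictScalars A).comp φ
  obtain ⟨χ₀, hχ₀⟩ := h C J hJ ψ₀ ⟨t, fun x hx => by
    show ψ (φ x) = 0
    exact ht _ (Groth.Agent.Helper8.AdicFS.map_pow_mem
      (φ : Localization.AtPrime r →+* Localization.AtPrime q') hφ𝔪 t x hx)⟩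
  have hχ₀' : ∀ s, Ideal.Quotient.mk J (χ₀ s) = ψ (φ s) := fun s => AlgHom.congr_fun hχ₀ s
  let χ₁ : k ⊗[A] B →ₐ[k] C :=
    Algebra.TensorProduct.lift (Algebra.ofId k C)
      (χ₀.comp (IsScalarTower.toAlgHom A B (Localization.AtPrime r)))
      (fun _ _ => Commute.all _ _)
  have hχ₁ : (Ideal.Quotient.mkₐ k J).comp χ₁ =
      ψ.comp (IsScalarTower.toAlgHom k (k ⊗[A] B) (Localization.AtPrime q')) := by
    apply Algebra.TensorProduct.ext
    · ext
    · ext b
      show Ideal.Quotient.mk J (χ₁ ((1 : k) ⊗ₜ[A] b)) =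
        ψ (algebraMap (k ⊗[A] B) (Localization.AtPrime q') ((1 : k) ⊗ₜ[A] b))
      rw [Algebra.TensorProduct.lift_tmul, map_one, one_mul]
      show Ideal.Quotient.mk J (χ₀ (algebraMap B (Localization.AtPrime r) b)) = _
      rw [hχ₀', hφ_map]
      rfl
  have hχ₁' : ∀ x, Ideal.Quotient.mk J (χ₁ x) =
      ψ (algebraMap (k ⊗[A] B) (Localization.AtPrime q') x) := fun x => AlgHom.congr_fun hχ₁ x
  haveI : IsLocalHom (Ideal.Quotient.mk J) := by
    apply isLocalHom_of_le_jacobson_bot
    refine le_trans ?_ (Ideal.radical_le_jacobson)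
    intro x hx
    refine ⟨2, ?_⟩
    have : x ^ 2 ∈ J ^ 2 := Ideal.pow_mem_pow hx 2
    rw [hJ] at this
    exact this
  have hunit : ∀ s : q'.primeCompl, IsUnit (χ₁.toRingHom s) := by
    intro s
    apply isUnit_of_map_unit (Ideal.Quotient.mk J)
    show IsUnit (Ideal.Quotient.mk J (χ₁ s))
    rw [hχ₁']
    exact (IsLocalization.map_units (Localization.AtPrime q') s).map ψ
  let χr : Localization.AtPrime q' →+* C := IsLocalization.lift (M := q'.primeCompl) hunit
  have hχr : ∀ s, χr (algebraMap (k ⊗[A] B) (Localization.AtPrime q') s) = χ₁ s :=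
    fun s => IsLocalization.lift_eq hunit s
  let χ : Localization.AtPrime q' →ₐ[k] C :=
    { χr with
      commutes' := fun c => by
        show χr (algebraMap k (Localization.AtPrime q') c) = _
        rw [IsScalarTower.algebraMap_apply k (k ⊗[A] B) (Localization.AtPrime q'), hχr,
          AlgHom.commutes] }
  refine ⟨χ, ?_⟩
  have hring : ((Ideal.Quotient.mkₐ k J).comp χ :
      Localization.AtPrime q' →ₐ[k] C ⧸ J).toRingHom = ψ.toRingHom := by
    apply IsLocalization.ringHom_ext q'.primeCompl
    ext s
    · show Ideal.Quotient.mk J (χr (algebraMap (k ⊗[A] B) (Localization.AtPrime q') _)) =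
        ψ (algebraMap (k ⊗[A] B) (Localization.AtPrime q') _)
      rw [hχr, hχ₁']
    · show Ideal.Quotient.mk J (χr (algebraMap (k ⊗[A] B) (Localization.AtPrime q') _)) =
        ψ (algebraMap (k ⊗[A] B) (Localization.AtPrime q') _)
      rw [hχr, hχ₁']
  exact AlgHom.ext fun x => RingHom.congr_fun hring x

end fibre

end Groth.Agent.Helper8.RegFS
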