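import Mathlib
import Groth.Prelude
import Groth.Agent.Lib.Helper8.RegFS1
import Groth.Agent.Lib.Helper8.PRad13
import Groth.Agent.Lib.Helper8.PRad16
import Groth.Agent.Lib.Helper8.AdicFS19
import Groth.Agent.Lib.Helper8.LocHom1
import Groth.Agent.Lib.Helper8.CompFib3
import Groth.Agent.Lib.Helper8.AdicFS17
import Groth.Agent.Lib.Helper8.Fib5

/-!
# Regular homomorphisms are those whose local homomorphisms are formally smooth
-/

set_option autoImplicit false

namespace Groth.Agent.Helper8.RegFS

open IsLocalRing TensorProduct CAlgX

universe u

variable (A B : Type u) [CommRing A] [CommRing B] [Algebra A B] [IsNoetherianRing A]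
  [IsNoetherianRing B]

/-- A regular homomorphism induces formally smooth local homomorphisms. -/
theorem isAdicFormallySmooth_of_isRegularHom (h : CAlg.IsRegularHom A B) (q : Ideal B)
    [q.IsPrime] :
    letI := (Localization.localRingHom (Ideal.comap (algebraMap A B) q) q
      (algebraMap A B) rfl).toAlgebra
    IsAdicFormallySmooth (Localization.AtPrime (Ideal.comap (algebraMap A B) q))
      (Localization.AtPrime q) (maximalIdeal (Localization.AtPrime q)) := by
  let p : Ideal A := Ideal.comap (algebraMap A B) q
  letI : Algebra (Localization.AtPrime p) (Localization.AtPrime q) :=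
    (Localization.localRingHom p q (algebraMap A B) rfl).toAlgebra
  haveI : IsScalarTower A (Localization.AtPrime p) (Localization.AtPrime q) :=
    IsScalarTower.of_algebraMap_eq (fun a => by
      show algebraMap A (Localization.AtPrime q) a =
        Localization.localRingHom p q (algebraMap A B) rfl (algebraMap A _ a)
      rw [Localization.localRingHom_to_map, ← IsScalarTower.algebraMap_apply])
  haveI : IsLocalHom (algebraMap (Localization.AtPrime p) (Localization.AtPrime q)) :=
    Localization.isLocalHom_localRingHom p q (algebraMap A B) rfl
  haveI : Algebra.FormallySmooth B (Localization.AtPrime q) :=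
    Algebra.FormallySmooth.of_isLocalization q.primeCompl
  have hBC : CAlg.IsRegularHom B (Localization.AtPrime q) :=
    Groth.Agent.Helper8.AdicFS.isRegularHom_of_formallySmooth B _
  have hAC : CAlg.IsRegularHom A (Localization.AtPrime q) :=
    Groth.Agent.Helper8.CompFib.isRegularHom_comp A B _ h hBC
      (fun p' _ => Groth.Agent.Helper8.Fib.isNoetherianRing_fiber p')
  haveI : Module.Flat A (Localization.AtPrime q) := hAC.1
  haveI : Module.Flat (Localization.AtPrime p) (Localization.AtPrime q) :=
    (Module.flat_iff_of_isLocalization (Localization.AtPrime p) p.primeCompl _).mpr inferInstance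
  haveI : IsLocalization (Algebra.algebraMapSubmonoid (Localization.AtPrime q) p.primeCompl)
      (Localization.AtPrime q) := by
    apply IsLocalization.self
    rintro _ ⟨a, ha, rfl⟩
    rw [IsUnit.mem_submonoid_iff, IsScalarTower.algebraMap_apply A (Localization.AtPrime p)]
    exact (IsLocalization.map_units (Localization.AtPrime p) ⟨a, ha⟩).map _
  have hfib : CAlg.IsGeometricallyRegular (maximalIdeal (Localization.AtPrime p)).ResidueField
      ((maximalIdeal (Localization.AtPrime p)).Fiber (Localization.AtPrime q)) := by
    intro K _ _ hfin
    obtain ⟨i, hfin', -, ⟨e⟩⟩ := Groth.Agent.Helper8.LocHom.exists_fibre_equiv A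
      (Localization.AtPrime q) p.primeCompl (Localization.AtPrime p) (Localization.AtPrime q)
      (maximalIdeal (Localization.AtPrime p)) K
    letI := i
    exact @IsRegularRing.of_ringEquiv _ _ _ _ e.symm ((hAC.2 _).2 K (hfin' hfin))
  exact Groth.Agent.Helper8.PRad.flat_and_fiber_iff_isAdicFormallySmooth.1 ⟨inferInstance, hfib⟩

end Groth.Agent.Helper8.RegFS
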