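import Mathlib
import Groth.Prelude
import Groth.Agent.Lib.Helper8.RegFS2

/-!
# Regular homomorphisms are those whose local homomorphisms are formally smooth: the converse
-/

set_option autoImplicit false

namespace Groth.Agent.Helper8.RegFS

open IsLocalRing TensorProduct CAlgX

universe u

variable (A B : Type u) [CommRing A] [CommRing B] [Algebra A B] [IsNoetherianRing A]
  [IsNoetherianRing B]

/-- If all the local homomorphisms are formally smooth, the homomorphism is regular. -/
theorem isRegularHom_of_forall_isAdicFormallySmooth
    (H : ∀ (q : Ideal B) [q.IsPrime],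
      letI := (Localization.localRingHom (Ideal.comap (algebraMap A B) q) q
        (algebraMap A B) rfl).toAlgebra
      IsAdicFormallySmooth (Localization.AtPrime (Ideal.comap (algebraMap A B) q))
        (Localization.AtPrime q) (maximalIdeal (Localization.AtPrime q))) :
    CAlg.IsRegularHom A B := by
  have key : ∀ (q : Ideal B) [q.IsPrime], Module.Flat A (Localization.AtPrime q) ∧
      IsAdicFormallySmooth A (Localization.AtPrime q) (maximalIdeal (Localization.AtPrime q)) := by
    intro q _
    let p : Ideal A := Ideal.comap (algebraMap A B) q
    letI : Algebra (Localization.AtPrime p) (Localization.AtPrime q) :=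
      (Localization.localRingHom p q (algebraMap A B) rfl).toAlgebra
    haveI : IsScalarTower A (Localization.AtPrime p) (Localization.AtPrime q) :=
      IsScalarTower.of_algebraMap_eq (fun a => by
        show algebraMap A (Localization.AtPrime q) a =
          Localization.localRingHom p q (algebraMap A B) rfl (algebraMap A _ a)
        rw [Localization.localRingHom_to_map, ← IsScalarTower.algebraMap_apply])
    haveI : IsLocalHom (algebraMap (Localization.AtPrime p) (Localization.AtPrime q)) :=
      Localization.isLocalHom_localRingHom p q (algebraMap A B) rfl
    have h : IsAdicFormallySmooth (Localization.AtPrime p) (Localization.AtPrime q)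
        (maximalIdeal (Localization.AtPrime q)) := H q
    haveI : Module.Flat (Localization.AtPrime p) (Localization.AtPrime q) :=
      Groth.Agent.Helper8.AdicFS.flat_of_isAdicFormallySmooth h
    exact ⟨Module.Flat.trans A (Localization.AtPrime p) (Localization.AtPrime q),
      Groth.Agent.Helper8.AdicFS.of_isLocalization_base p.primeCompl h⟩
  refine ⟨?_, fun p _ => ⟨Groth.Agent.Helper8.Fib.isNoetherianRing_fiber p, ?_⟩⟩
  · refine Module.flat_of_isLocalized_maximal B B (fun P _ => Localization.AtPrime P)
      (fun P _ => Algebra.linearMap B (Localization.AtPrime P)) ?_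
    intro P hP
    haveI : P.IsPrime := hP.isPrime
    exact (key P).1
  · haveI : IsNoetherianRing (p.Fiber B) := Groth.Agent.Helper8.Fib.isNoetherianRing_fiber p
    rw [Groth.Agent.Helper8.PRad.isGeometricallyRegular_iff_forall_isAdicFormallySmooth]
    intro q' _
    exact isAdicFormallySmooth_fibre_localization q'
      (q'.comap (Algebra.TensorProduct.includeRight : B →ₐ[A] p.ResidueField ⊗[A] B)) rfl
      (key _).2

/-- **S19864.** -/
theorem isRegularHom_iff_forall_isAdicFormallySmooth :
    CAlg.IsRegularHom A B ↔
      ∀ (q : Ideal B) [q.IsPrime],
        letI := (Localization.localRingHom (Ideal.comap (algebraMap A B) q) q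
          (algebraMap A B) rfl).toAlgebra
        IsAdicFormallySmooth (Localization.AtPrime (Ideal.comap (algebraMap A B) q))
          (Localization.AtPrime q) (maximalIdeal (Localization.AtPrime q)) :=
  ⟨fun h q _ => isAdicFormallySmooth_of_isRegularHom A B h q,
    isRegularHom_of_forall_isAdicFormallySmooth A B⟩

end Groth.Agent.Helper8.RegFS
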