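import Mathlib
import Groth.Prelude
import Groth.Agent.Lib.Helper8.GRing1
import Groth.Agent.Lib.Helper8.CompFib4
import Groth.Agent.Lib.Helper8.CplQuot2
import Groth.Agent.Lib.Helper8.LocHom4
import Groth.Agent.Lib.Helper8.RegFS3

/-!
# Regularity of completion maps: transfer along isomorphisms, fibres through quotients,
the generic fibre via formal smoothness
-/

set_option autoImplicit false

universe u

namespace Groth.Agent.Helper8.GRing

open IsLocalRing TensorProduct CAlgX

/-- Regularity of the completion map transfers along ring isomorphisms. -/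
theorem isRegularHom_cpl_of_ringEquiv {A A' : Type u} [CommRing A] [CommRing A']
    [IsNoetherianRing A] [IsLocalRing A] [IsLocalRing A'] (e : A ≃+* A')
    (h : CAlg.IsRegularHom A' (EGA4.Cpl A')) : CAlg.IsRegularHom A (EGA4.Cpl A) := by
  haveI : IsNoetherianRing A' := isNoetherianRing_of_ringEquiv A e
  letI : Algebra A A' := (e : A →+* A').toAlgebra
  haveI : IsLocalHom (algebraMap A A') := by
    constructor
    intro a ha
    have h1 : IsUnit (e a) := ha
    exact (MulEquiv.isUnit_map e).1 h1
  have hAA' : CAlg.IsRegularHom A A' := isRegularHom_of_bijective e.bijective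
  exact Groth.Agent.Helper8.CompFib.isRegularHom_cpl_of_isRegularHom_to_local A A' hAA' h

/-- Transport of geometric regularity of a fibre along an equality of primes. -/
theorem isGeometricallyRegular_fiber_congr {A B : Type u} [CommRing A] [CommRing B] [Algebra A B]
    (q s : Ideal A) [q.IsPrime] [s.IsPrime] (h : q = s)
    (H : CAlg.IsGeometricallyRegular q.ResidueField (q.Fiber B)) :
    CAlg.IsGeometricallyRegular s.ResidueField (s.Fiber B) := by
  subst h
  exact H

/-- **Fibres through quotients.** The formal fibre of `A` at `s` is geometrically regular as soon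
as the generic formal fibre of `A/s` is. -/
theorem isGeometricallyRegular_fiber_of_quotient (A : Type u) [CommRing A] [IsNoetherianRing A]
    [IsLocalRing A] (s : Ideal A) [s.IsPrime]
    (H : CAlg.IsGeometricallyRegular (⊥ : Ideal (A ⧸ s)).ResidueField
      ((⊥ : Ideal (A ⧸ s)).Fiber (EGA4.Cpl (A ⧸ s)))) :
    CAlg.IsGeometricallyRegular s.ResidueField (s.Fiber (EGA4.Cpl A)) := by
  letI := Groth.Agent.Helper8.CplQuot.algebraCpl A s
  haveI := Groth.Agent.Helper8.CplQuot.isScalarTower_cpl A s
  haveI := Groth.Agent.Helper8.CplQuot.isPushout_cpl A s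
  have h1 := (Groth.Agent.Helper8.LocHom.isGeometricallyRegular_fiber_iff A (EGA4.Cpl A) (A ⧸ s)
    (EGA4.Cpl (A ⧸ s)) (Groth.Agent.Helper8.CplQuot.surjectiveOnStalks_mk A s) ⊥).1 H
  refine isGeometricallyRegular_fiber_congr ((⊥ : Ideal (A ⧸ s)).under A) s ?_ h1
  show Ideal.comap (algebraMap A (A ⧸ s)) ⊥ = s
  rw [Ideal.Quotient.algebraMap_eq, ← RingHom.ker_eq_comap_bot, Ideal.mk_ker]

/-- **The generic fibre via formal smoothness.** -/
theorem isGeometricallyRegular_bot_fiber {A B : Type u} [CommRing A] [IsDomain A] [CommRing B]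
    [Algebra A B] [IsNoetherianRing A] [IsNoetherianRing B]
    (H : ∀ (r : Ideal B) [r.IsPrime], r.comap (algebraMap A B) = ⊥ →
      IsAdicFormallySmooth A (Localization.AtPrime r) (maximalIdeal (Localization.AtPrime r))) :
    CAlg.IsGeometricallyRegular (⊥ : Ideal A).ResidueField ((⊥ : Ideal A).Fiber B) := by
  haveI : IsNoetherianRing ((⊥ : Ideal A).Fiber B) :=
    Groth.Agent.Helper8.Fib.isNoetherianRing_fiber (⊥ : Ideal A)
  rw [Groth.Agent.Helper8.PRad.isGeometricallyRegular_iff_forall_isAdicFormallySmooth]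
  intro q' _
  refine Groth.Agent.Helper8.RegFS.isAdicFormallySmooth_fibre_localization q'
    (q'.comap (Algebra.TensorProduct.includeRight :
      B →ₐ[A] (⊥ : Ideal A).ResidueField ⊗[A] B)) rfl (H _ ?_)
  rw [eq_bot_iff]
  intro a ha
  rw [Ideal.mem_bot]
  by_contra hne
  have h1 : ((1 : (⊥ : Ideal A).ResidueField) ⊗ₜ[A] (algebraMap A B a)) ∈ q' := ha
  have h2 : ((1 : (⊥ : Ideal A).ResidueField) ⊗ₜ[A] (algebraMap A B a)) =
      (algebraMap A (⊥ : Ideal A).ResidueField a) ⊗ₜ[A] (1 : B) := by
    rw [Algebra.algebraMap_eq_smul_one, Algebra.algebraMap_eq_smul_one, TensorProduct.smul_tmul]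
  have h3 : algebraMap A (⊥ : Ideal A).ResidueField a ≠ 0 := by
    rw [Ne, Ideal.algebraMap_residueField_eq_zero, Ideal.mem_bot]
    exact hne
  have h4 : IsUnit ((algebraMap A (⊥ : Ideal A).ResidueField a) ⊗ₜ[A] (1 : B)) :=
    (IsUnit.mk0 _ h3).map (Algebra.TensorProduct.includeLeftRingHom :
      (⊥ : Ideal A).ResidueField →+* (⊥ : Ideal A).ResidueField ⊗[A] B)
  rw [h2] at h1
  exact (Ideal.IsPrime.ne_top inferInstance) (Ideal.eq_top_of_isUnit_mem q' h1 h4)

end Groth.Agent.Helper8.GRing
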