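import Mathlib
import Groth.Prelude
import Groth.Agent.Lib.Helper8.PRad12

/-!
# Formal smoothness for adic topologies: passing to a localization of the base; characteristic
zero
-/

set_option autoImplicit false

namespace Groth.Agent.Helper8.AdicFS

open IsLocalRing CAlgX

universe u

/-- Formal smoothness for an adic topology over `A` gives the same over a localization `A'` of
`A`, when the algebra is an `A'`-algebra. -/
theorem to_isLocalization_base {A A' S : Type u} [CommRing A] [CommRing A'] [CommRing S]
    [Algebra A A'] [Algebra A' S] [Algebra A S] [IsScalarTower A A' S] (M : Submonoid A)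
    [IsLocalization M A'] {𝔫 : Ideal S} (h : IsAdicFormallySmooth A S 𝔫) :
    IsAdicFormallySmooth A' S 𝔫 := by
  intro C _ _ J hJ ψ hψ
  letI : Algebra A C := Algebra.compHom C (algebraMap A A')
  haveI : IsScalarTower A A' C := IsScalarTower.of_algebraMap_eq (fun _ => rfl)
  obtain ⟨χ, hχ⟩ := h C J hJ (ψ.restrictScalars A) hψ
  have hcomm : (χ : S →+* C).comp (algebraMap A' S) = algebraMap A' C := by
    refine IsLocalization.ringHom_ext M ?_
    ext a
    show χ (algebraMap A' S (algebraMap A A' a)) = algebraMap A' C (algebraMap A A' a)
    rw [← IsScalarTower.algebraMap_apply A A' S, χ.commutes,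
      ← IsScalarTower.algebraMap_apply A A' C]
  let χ' : S →ₐ[A'] C :=
    { (χ : S →+* C) with
      commutes' := fun a => RingHom.congr_fun hcomm a }
  refine ⟨χ', ?_⟩
  ext s
  exact AlgHom.congr_fun hχ s

/-- A regular local algebra over a field of characteristic zero is formally smooth for the adic
topology. -/
theorem of_charZero_of_isRegularLocalRing {k A : Type u} [Field k] [CharZero k] [CommRing A]
    [IsLocalRing A] [IsNoetherianRing A] [Algebra k A] (hreg : IsRegularLocalRing A) :
    IsAdicFormallySmooth k A (maximalIdeal A) := by
  haveI : Algebra.FormallySmooth k (ResidueField A) :=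
    Groth.Agent.Helper2.Sep.formallySmooth_of_charZero k (ResidueField A)
  haveI : Algebra.IsGeometricallyReduced k (ResidueField A) :=
    (Groth.Agent.S2451.result (k := k) (K := ResidueField A)).1 inferInstance
  exact ((Groth.Agent.S2453.result (k := k) (A := A)).out 0 3).2 hreg

end Groth.Agent.Helper8.AdicFS
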