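import Mathlib
import Groth.Agent.Lib.Helper2.PBasis5
import Groth.Agent.Lib.Helper8.PSDer1

/-!
# Decomposition of a power series along reduced monomials
-/

set_option autoImplicit false

namespace Groth.Agent.Helper8.PSDer

open MvPowerSeries Groth.Agent.Helper2.PBasis

section decomp

variable {σ τ : Type*} {k : Type*} [Field k] (p : ℕ) [hp : Fact p.Prime] [CharP k p]
  [Fintype (Red σ p)] [Fintype (Red τ p)]

/-- The component of `g` along `x^j b^e`. -/
noncomputable def comp (r : k → Red τ p → k) (g : MvPowerSeries σ k) (j : σ →₀ ℕ) (e : Red τ p) :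
    MvPowerSeries σ k :=
  open Classical in fun γ => if ∀ i, p ∣ γ i then r (coeff (γ + j) g) e else 0

omit hp [CharP k p] [Fintype (Red σ p)] [Fintype (Red τ p)] in
theorem coeff_comp (r : k → Red τ p → k) (g : MvPowerSeries σ k) (j : σ →₀ ℕ) (e : Red τ p)
    (γ : σ →₀ ℕ) :
    coeff γ (comp p r g j e) = open Classical in if ∀ i, p ∣ γ i then r (coeff (γ + j) g) e else 0 :=
  rfl

theorem pderiv_comp (r : k → Red τ p → k) (g : MvPowerSeries σ k) (j : σ →₀ ℕ) (e : Red τ p)
    (l : σ) : pderiv k l (comp p r g j e) = 0 := by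
  classical
  ext n
  rw [coeff_pderiv, map_zero, coeff_comp]
  split_ifs with h
  · have h1 : p ∣ n l + 1 := by
      have := h l
      simpa using this
    have h2 : ((n l : ℕ) : k) + 1 = 0 := by
      have : (((n l + 1 : ℕ)) : k) = 0 := (CharP.cast_eq_zero_iff k p _).2 h1
      rw [← this]
      push_cast
      rfl
    rw [h2, mul_zero]
  · rw [zero_mul]

theorem exists_decomp (C : Subring k) (b : τ → k)
    (hb : ∀ c : k, ∃ r : Red τ p → k, (∀ e, r e ∈ C) ∧ c = ∑ e, r e * mon b e.1)
    (g : MvPowerSeries σ k) :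
    ∃ G : Red σ p × Red τ p → MvPowerSeries σ k,
      (∀ je l, pderiv k l (G je) = 0) ∧ (∀ je γ, coeff γ (G je) ∈ C) ∧
      g = ∑ je, G je * monomial je.1.1 (mon b je.2.1) := by
  classical
  have hp0 : 0 < p := hp.out.pos
  choose r hrC hr using hb
  refine ⟨fun je => comp p r g je.1.1 je.2, fun je l => pderiv_comp p r g _ _ l, fun je γ => ?_, ?_⟩
  · rw [coeff_comp]
    split_ifs
    · exact hrC _ _
    · exact C.zero_mem
  · ext α
    rw [map_sum, Fintype.sum_prod_type]
    let j₀ : Red σ p := ⟨rem p α, rem_lt p hp0 α⟩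
    rw [Finset.sum_eq_single j₀]
    · have hle : (j₀ : σ →₀ ℕ) ≤ α := by
        intro i
        show rem p α i ≤ α i
        rw [rem_apply]
        exact Nat.mod_le _ _
      have hdvd : ∀ i, p ∣ (α - (j₀ : σ →₀ ℕ)) i := by
        intro i
        show p ∣ (α - rem p α) i
        rw [Finsupp.tsub_apply, rem_apply]
        exact Nat.dvd_sub_mod _
      have hadd : α - (j₀ : σ →₀ ℕ) + (j₀ : σ →₀ ℕ) = α := tsub_add_cancel_of_le hle
      conv_lhs => rw [hr (coeff α g)]
      refine Finset.sum_congr rfl fun e _ => ?_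
      rw [coeff_mul_monomial, if_pos hle, coeff_comp, if_pos hdvd, hadd]
    · intro j _ hj
      refine Finset.sum_eq_zero fun e _ => ?_
      rw [coeff_mul_monomial]
      split_ifs with hle
      · rw [coeff_comp, if_neg, zero_mul]
        intro hdvd
        apply hj
        apply Subtype.ext
        ext i
        show (j : σ →₀ ℕ) i = rem p α i
        rw [rem_apply]
        have h1 : p ∣ α i - (j : σ →₀ ℕ) i := by
          have := hdvd i
          rw [Finsupp.tsub_apply] at this
          exact this
        have h2 : (j : σ →₀ ℕ) i ≤ α i := hle i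
        have h3 : (j : σ →₀ ℕ) i < p := j.2 i
        obtain ⟨q, hq⟩ := h1
        have h4 : α i = (j : σ →₀ ℕ) i + p * q := by omega
        rw [h4, Nat.add_mul_mod_self_left, Nat.mod_eq_of_lt h3]
      · rfl
    · intro h
      exact absurd (Finset.mem_univ _) h

end decomp

end Groth.Agent.Helper8.PSDer
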