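import Mathlib
import Groth.Prelude.Def_EGA41
import Groth.Agent.Lib.Helper2.PBasis5
import Groth.Agent.Lib.Helper2.PBasisField3
import Groth.Agent.Lib.Helper2.AdmSub3

/-!
# Partial derivatives along a `p`-basis of a field: constants and representations
-/

set_option autoImplicit false

universe u

namespace Groth.Agent.Helper8.PSDer

open EGA41 Groth.Agent.Helper2.PBasis Groth.Agent.Helper2.AdmSub

section pbasis

variable (p : ℕ) [hp : Fact p.Prime] {F k : Type u} [Field F] [Field k] [Algebra F k] [CharP k p]

/-- The subring of common constants of a family of derivations. -/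
def constSubring {ι : Type*} (δ : ι → Derivation F k k) (S : Set ι) : Subring k where
  carrier := {c | ∀ s ∈ S, δ s c = 0}
  mul_mem' := by
    intro a b ha hb s hs
    rw [Derivation.leibniz, ha s hs, hb s hs, smul_zero, smul_zero, add_zero]
  one_mem' := fun s _ => Derivation.map_one_eq_zero _
  add_mem' := by
    intro a b ha hb s hs
    rw [map_add, ha s hs, hb s hs, add_zero]
  zero_mem' := fun s _ => map_zero _
  neg_mem' := by
    intro a ha s hs
    rw [map_neg, ha s hs, neg_zero]

theorem mem_constSubring {ι : Type*} (δ : ι → Derivation F k k) (S : Set ι) (c : k) :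
    c ∈ constSubring δ S ↔ ∀ s ∈ S, δ s c = 0 := Iff.rfl

variable {ι : Type u} {β : ι → k}

include hp in
theorem pPower_le_constSubring (δ : ι → Derivation F k k) (S : Set ι) {c : k}
    (hc : c ∈ pPowerSubalgebra p F k) : c ∈ constSubring δ S :=
  fun s _ => derivation_eq_zero_of_mem p (δ s) hc

/-- Every element of `k` is a combination of reduced monomials in `β_s`, `s ∈ S`, with
coefficients killed by the partial derivatives `δ_s`, `s ∈ S`. -/
theorem exists_repr [DecidableEq ι] (hβ : IsPBasis p F β) (δ : ι → Derivation F k k)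
    (hδ : ∀ i j, δ i (β j) = if j = i then 1 else 0) (S : Finset ι)
    [Fintype (Red ↥S p)] (c : k) :
    ∃ r : Red ↥S p → k, (∀ e, r e ∈ constSubring δ (S : Set ι)) ∧
      c = ∑ e, r e * mon (fun s : ↥S => β s) e.1 := by
  classical
  have hp1 : 1 < p := hp.out.one_lt
  set C := constSubring δ (S : Set ι) with hC
  let x : ↥S → k := fun s => β s
  let cc : ↥S → C := fun s => ⟨β s ^ p, pPower_le_constSubring p δ _
    (pow_mem_pPowerSubalgebra p (β s))⟩
  have hcc : ∀ s, x s ^ p = algebraMap C k (cc s) := fun s => rfl
  have htop : redSpan C p x = ⊤ := by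
    rw [redSpan_eq_top_iff hp1 cc hcc, eq_top_iff]
    intro y hy0
    clear hy0
    have hy : y ∈ redSpan (pPowerSubalgebra p F k) p β := by
      rw [(isPGenerating_iff' p β).mp hβ.2]; trivial
    have hβmem : ∀ i, β i ∈ Algebra.adjoin C (Set.range x) := by
      intro i
      by_cases hi : i ∈ S
      · exact Algebra.subset_adjoin ⟨⟨i, hi⟩, rfl⟩
      · have : β i ∈ C := by
          intro s hs
          rw [hδ, if_neg]
          rintro rfl
          exact hi hs
        exact Subalgebra.algebraMap_mem _ (⟨β i, this⟩ : C)
    unfold redSpan at hy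
    induction hy using Submodule.span_induction with
    | mem z hz =>
      obtain ⟨e, rfl⟩ := hz
      change mon β e.1 ∈ _
      unfold mon
      exact Subalgebra.prod_mem _ fun t _ => Subalgebra.pow_mem _ (hβmem t) _
    | zero => exact Subalgebra.zero_mem _
    | add a b _ _ ha hb => exact Subalgebra.add_mem _ ha hb
    | smul a b _ hb =>
      rw [Algebra.smul_def]
      refine Subalgebra.mul_mem _ ?_ hb
      exact Subalgebra.algebraMap_mem _ (⟨(a : k), pPower_le_constSubring p δ _ a.2⟩ : C)
  have hc : c ∈ redSpan C p x := by rw [htop]; trivial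
  unfold redSpan at hc
  rw [Submodule.mem_span_range_iff_exists_fun] at hc
  obtain ⟨r, hr⟩ := hc
  refine ⟨fun e => (r e : k), fun e => (r e).2, ?_⟩
  rw [← hr]
  refine Finset.sum_congr rfl fun e _ => ?_
  rfl

/-- Elements of the intermediate field generated by the `p`-th powers over a perfect field are
`p`-th powers. -/
theorem exists_pow_eq_of_mem_PP [CharP F p] [PerfectRing F p] {c : k}
    (hc : c ∈ PP (k₀ := F) (K := k) p) : ∃ d : k, d ^ p = c := by
  let E : IntermediateField F k :=
    Subfield.toIntermediateField (frobenius k p).fieldRange (by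
      intro x
      obtain ⟨y, hy⟩ := surjective_frobenius F p x
      refine ⟨algebraMap F k y, ?_⟩
      rw [frobenius_def, ← map_pow, ← frobenius_def, hy])
  have hle : PP (k₀ := F) (K := k) p ≤ E := by
    rw [IntermediateField.adjoin_le_iff]
    rintro _ ⟨y, rfl⟩
    exact ⟨y, rfl⟩
  obtain ⟨d, hd⟩ := hle hc
  exact ⟨d, hd⟩

/-- An element killed by all the partial derivatives along a `p`-basis is a `p`-th power. -/
theorem exists_pow_eq_of_forall_eq_zero [CharP F p] [PerfectRing F p] [DecidableEq ι]
    (hβ : IsPBasis p F β) (δ : ι → Derivation F k k)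
    (hδ : ∀ i j, δ i (β j) = if j = i then 1 else 0) (c : k) (hc : ∀ i, δ i c = 0) :
    ∃ d : k, d ^ p = c := by
  obtain ⟨b, hb⟩ := exists_basis_D_of_isPBasis p hβ
  have hcoord : ∀ i, (δ i).liftKaehlerDifferential = b.coord i := by
    intro i
    refine b.ext fun j => ?_
    rw [hb, Derivation.liftKaehlerDifferential_comp_D, hδ, Module.Basis.coord_apply, ← hb,
      Module.Basis.repr_self, Finsupp.single_apply]
  have hD : KaehlerDifferential.D F k c = 0 := by
    apply b.repr.map_eq_zero_iff.1
    ext i
    rw [Finsupp.zero_apply, ← Module.Basis.coord_apply, ← hcoord,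
      Derivation.liftKaehlerDifferential_comp_D, hc]
  exact exists_pow_eq_of_mem_PP p (mem_PP_of_D_eq_zero p hD)

end pbasis

end Groth.Agent.Helper8.PSDer
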