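import Mathlib
import Groth.Prelude.Def_EGA41
import Groth.Agent.Lib.Helper2.PBasisField3
import Groth.Agent.Lib.Helper2.AdmSub
import Groth.Agent.Lib.Helper2.AdmSub3
import Groth.Agent.Lib.Helper2.SepMain

/-!
# Fields of constants of derivations and partial derivatives
-/

set_option autoImplicit false

universe u

namespace Groth.Agent.Helper8.PSDer

open EGA41 Groth.Agent.Helper2.PBasis Groth.Agent.Helper2.AdmSub KaehlerDifferential

section constField

variable (p : ℕ) [hp : Fact p.Prime] {F K : Type u} [Field F] [Field K] [Algebra F K] [CharP K p]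
  [CharP F p] [PerfectRing F p]

include hp in
theorem derivation_algebraMap_eq_zero {M : Type*} [AddCommGroup M] [Module K M]
    (D : Derivation ℤ K M) (c : F) : D (algebraMap F K c) = 0 := by
  obtain ⟨d, hd⟩ := surjective_frobenius F p c
  rw [← hd, frobenius_def, map_pow, Derivation.leibniz_pow, ← Nat.cast_smul_eq_nsmul K,
    CharP.cast_eq_zero K p, zero_smul]

/-- The intermediate field of common constants of a set of derivations. -/
def constField (𝒟 : Set (Derivation ℤ K K)) : IntermediateField F K :=
  Subfield.toIntermediateField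
    { carrier := {y | ∀ D ∈ 𝒟, D y = 0}
      mul_mem' := by
        intro a b ha hb D hD
        rw [Derivation.leibniz, ha D hD, hb D hD, smul_zero, smul_zero, add_zero]
      one_mem' := fun D _ => Derivation.map_one_eq_zero _
      add_mem' := by
        intro a b ha hb D hD
        rw [map_add, ha D hD, hb D hD, add_zero]
      zero_mem' := fun D _ => map_zero _
      neg_mem' := by
        intro a ha D hD
        rw [map_neg, ha D hD, neg_zero]
      inv_mem' := by
        intro a ha D hD
        rw [Derivation.leibniz_inv, ha D hD, smul_zero] }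
    (fun c D _ => derivation_algebraMap_eq_zero p D c)

theorem mem_constField (𝒟 : Set (Derivation ℤ K K)) (y : K) :
    y ∈ constField (F := F) p 𝒟 ↔ ∀ D ∈ 𝒟, D y = 0 := Iff.rfl

theorem PP_le_constField (𝒟 : Set (Derivation ℤ K K)) :
    PP (k₀ := F) (K := K) p ≤ constField (F := F) p 𝒟 := by
  rw [IntermediateField.adjoin_le_iff]
  rintro _ ⟨y, rfl⟩ D _
  rw [Derivation.leibniz_pow, ← Nat.cast_smul_eq_nsmul K, CharP.cast_eq_zero K p, zero_smul]

/-- The comparison map `Ω[K/F] → Ω[K/ℤ]` for a perfect field `F`. -/
noncomputable def toInt : Ω[K⁄F] →ₗ[K] Ω[K⁄ℤ] :=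
  (toDerivationA (D ℤ K) (fun c => derivation_algebraMap_eq_zero p (D ℤ K) c) :
    Derivation F K (Ω[K⁄ℤ])).liftKaehlerDifferential

theorem toInt_D (y : K) : toInt (F := F) p (D F K y) = D ℤ K y := by
  unfold toInt
  rw [Derivation.liftKaehlerDifferential_comp_D]
  rfl

end constField

section partials

variable (p : ℕ) [hp : Fact p.Prime] {K : Type u} [Field K] [CharP K p]

/-- **Partial derivatives bounded by a finite set of basic derivations.**
If the common constants of the derivations `𝒟₀ ∪ {Δ i}` are the `p`-th powers, then any finite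
family with linearly independent absolute differentials admits dual derivations which kill the
common constants of `𝒟₀ ∪ {Δ s : s ∈ S}` for a suitable finite set `S`. -/
theorem exists_partials {ι : Type u} (𝒟₀ : Set (Derivation ℤ K K)) (Δ : ι → Derivation ℤ K K)
    (hconst : ∀ y : K, (∀ D ∈ 𝒟₀, D y = 0) → (∀ i, Δ i y = 0) → ∃ z : K, z ^ p = y)
    {m : ℕ} (x : Fin m → K) (hx : LinearIndependent K (fun i => D ℤ K (x i))) :
    ∃ (S : Finset ι) (E : Fin m → Derivation ℤ K K),
      (∀ i y, (∀ D ∈ 𝒟₀, D y = 0) → (∀ s ∈ S, Δ s y = 0) → E i y = 0) ∧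
      ∀ i j, E i (x j) = if j = i then 1 else 0 := by
  classical
  obtain ⟨F, _, _, _, _, _, -⟩ := Groth.Agent.Helper2.Sep.exists_perfect_subfield K K p
  let x' : ULift.{u} (Fin m) → K := fun i => x i.down
  have hx' : LinearIndependent K (fun i => D F K (x' i)) := by
    have h1 : LinearIndependent K (fun i : ULift.{u} (Fin m) => D ℤ K (x' i)) :=
      hx.comp (fun i : ULift.{u} (Fin m) => i.down) ULift.down_injective
    refine LinearIndependent.of_comp (toInt (F := F) p) ?_
    convert h1 using 1
    funext i
    exact toInt_D p _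
  have hind : IsPIndependent p F x' := isPIndependent_of_linearIndependent_D p x' hx'
  let KS : Finset ι → IntermediateField F K := fun S => constField p (𝒟₀ ∪ Δ '' (S : Set ι))
  have hanti : Antitone KS := by
    intro S S' hSS' y hy D hD
    apply hy
    rcases hD with hD | ⟨s, hs, rfl⟩
    · exact Or.inl hD
    · exact Or.inr ⟨s, hSS' hs, rfl⟩
  have hI : (⨅ S, KS S ⊔ PP p) = PP (k₀ := F) (K := K) p := by
    apply le_antisymm
    · intro y hy
      rw [← SetLike.mem_coe, IntermediateField.coe_iInf, Set.mem_iInter] at hy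
      have hy' : ∀ S, y ∈ KS S := by
        intro S
        have := hy S
        rw [SetLike.mem_coe] at this
        rwa [sup_eq_left.2 (PP_le_constField p _)] at this
      obtain ⟨z, hz⟩ := hconst y (fun D hD => hy' ∅ D (Or.inl hD))
        (fun i => hy' {i} (Δ i) (Or.inr ⟨i, by simp, rfl⟩))
      rw [← hz]
      exact IntermediateField.subset_adjoin _ _ ⟨z, rfl⟩
    · exact le_iInf fun S => le_sup_right
  obtain ⟨S, hS⟩ := exists_isPIndependent p KS hanti hI x' hind
  obtain ⟨κ, X, f, hf, hXf, hX⟩ := exists_isPBasis_extension p x' hS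
  have hE : ∀ i : Fin m, ∃ E : Derivation (KS S) K K, ∀ j, E (X j) = if j = f ⟨i⟩ then 1 else 0 :=
    fun i => exists_partial p hX (f ⟨i⟩)
  choose E hE using hE
  refine ⟨S, fun i => (E i).restrictScalars ℤ, fun i y h1 h2 => ?_, fun i j => ?_⟩
  · have hy : y ∈ KS S := by
      rintro D (hD | ⟨s, hs, rfl⟩)
      · exact h1 D hD
      · exact h2 s hs
    have := (E i).map_algebraMap (⟨y, hy⟩ : KS S)
    exact this
  · have h3 : x j = X (f ⟨j⟩) := (hXf ⟨j⟩).symm
    show E i (x j) = _
    rw [h3, hE]
    by_cases hji : j = i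
    · subst hji
      rw [if_pos rfl, if_pos rfl]
    · rw [if_neg hji, if_neg]
      intro h
      exact hji (congrArg ULift.down (hf h))

end partials

end Groth.Agent.Helper8.PSDer
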