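import Mathlib

/-!
# Extending derivations to localizations and restricting them to subrings
-/

set_option autoImplicit false

namespace Groth.Agent.Helper8.PSDer

open KaehlerDifferential

/-- A derivation extends to any localization. -/
theorem exists_derivation_extension {R S : Type*} [CommRing R] [CommRing S] [Algebra R S]
    (M : Submonoid R) [IsLocalization M S] (D : Derivation ℤ R R) :
    ∃ D' : Derivation ℤ S S, ∀ r, D' (algebraMap R S r) = algebraMap R S (D r) := by
  let ℓ : Ω[R⁄ℤ] →ₗ[R] R := D.liftKaehlerDifferential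
  let g : Ω[R⁄ℤ] →ₗ[R] S := (Algebra.linearMap R S) ∘ₗ ℓ
  let f : Ω[R⁄ℤ] →ₗ[R] Ω[S⁄ℤ] := KaehlerDifferential.map ℤ ℤ R S
  have hloc : IsLocalizedModule M f := KaehlerDifferential.isLocalizedModule_map ℤ R S M
  have h : ∀ x : M, IsUnit ((algebraMap R (Module.End R S)) x) := by
    intro x
    rw [Module.End.isUnit_iff]
    have hu : IsUnit (algebraMap R S x) := IsLocalization.map_units S x
    obtain ⟨u, hu⟩ := hu
    constructor
    · intro a b hab
      simp only [Module.algebraMap_end_apply, Algebra.smul_def, ← hu] at hab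
      exact (Units.mul_right_inj u).mp hab
    · intro b
      refine ⟨(↑u⁻¹ : S) * b, ?_⟩
      simp only [Module.algebraMap_end_apply, Algebra.smul_def, ← hu]
      rw [← mul_assoc, Units.mul_inv, one_mul]
  let ℓ' : Ω[S⁄ℤ] →ₗ[R] S := IsLocalizedModule.lift M f g h
  let ℓ'' : Ω[S⁄ℤ] →ₗ[S] S := ℓ'.extendScalarsOfIsLocalization M S
  refine ⟨ℓ''.compDer (KaehlerDifferential.D ℤ S), ?_⟩
  intro r
  show ℓ' (KaehlerDifferential.D ℤ S (algebraMap R S r)) = _
  rw [← KaehlerDifferential.map_D ℤ ℤ R S]
  show ℓ' (f (KaehlerDifferential.D ℤ R r)) = _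
  rw [IsLocalizedModule.lift_apply]
  show algebraMap R S (D.liftKaehlerDifferential (KaehlerDifferential.D ℤ R r)) = _
  rw [Derivation.liftKaehlerDifferential_comp_D]

/-- Two derivations of a localization agreeing on the base ring are equal. -/
theorem derivation_ext_of_isLocalization {R S N : Type*} [CommRing R] [CommRing S] [Algebra R S]
    (M : Submonoid R) [IsLocalization M S] [AddCommGroup N] [Module S N]
    (D₁ D₂ : Derivation ℤ S N) (h : ∀ r, D₁ (algebraMap R S r) = D₂ (algebraMap R S r)) :
    D₁ = D₂ := by
  ext y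
  obtain ⟨⟨r, s⟩, hrs⟩ := IsLocalization.surj M y
  have hu : IsUnit (algebraMap R S s) := IsLocalization.map_units S s
  have h1 : ∀ D : Derivation ℤ S N, algebraMap R S s • D y =
      D (algebraMap R S r) - y • D (algebraMap R S s) := by
    intro D
    have := congrArg D hrs
    rw [Derivation.leibniz] at this
    rw [← this]
    abel
  have h2 : algebraMap R S s • D₁ y = algebraMap R S s • D₂ y := by
    rw [h1, h1, h, h]
  obtain ⟨u, hu⟩ := hu
  rw [← hu] at h2
  have := congrArg (fun z => (↑u⁻¹ : S) • z) h2
  simpa only [smul_smul, Units.inv_mul, one_smul] using this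

/-- A derivation of an overring mapping a subring into itself restricts to it. -/
theorem exists_derivation_restrict {R K : Type*} [CommRing R] [CommRing K] [Algebra R K]
    (hinj : Function.Injective (algebraMap R K)) (D : Derivation ℤ K K)
    (h : ∀ r, ∃ r', algebraMap R K r' = D (algebraMap R K r)) :
    ∃ E : Derivation ℤ R R, ∀ r, algebraMap R K (E r) = D (algebraMap R K r) := by
  choose e he using h
  have hadd : ∀ a b, e (a + b) = e a + e b := by
    intro a b
    apply hinj
    rw [he, map_add, map_add, map_add, he, he]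
  have hmul : ∀ a b, e (a * b) = a * e b + b * e a := by
    intro a b
    apply hinj
    rw [he, map_mul, Derivation.leibniz, map_add, map_mul, map_mul, he, he, smul_eq_mul,
      smul_eq_mul]
  let L : R →ₗ[ℤ] R :=
    { toFun := e
      map_add' := hadd
      map_smul' := by
        intro c a
        exact map_zsmul (AddMonoidHom.mk' e hadd) c a }
  exact ⟨Derivation.mk' L (fun a b => hmul a b), he⟩

end Groth.Agent.Helper8.PSDer
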