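import Mathlib
import Groth.Prelude.Def_EGA41
import Groth.Agent.Lib.Helper8.PSDer1
import Groth.Agent.Lib.Helper8.PSDer2
import Groth.Agent.Lib.Helper8.PSDer3
import Groth.Agent.Lib.Helper8.PSDer4
import Groth.Agent.Lib.Helper8.PSDer5

/-!
# Derivations of the fraction field of a power series ring in characteristic `p`
(the core of Nagata's Jacobian criterion)
-/

set_option autoImplicit false

universe u

namespace Groth.Agent.Helper8.PSDer

open MvPowerSeries EGA41 Groth.Agent.Helper2.PBasis KaehlerDifferential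

section core

variable (p : ℕ) [hp : Fact p.Prime] {k : Type u} [Field k] [CharP k p] {σ : Type} [Finite σ]

include hp in
/-- **Core.** Finitely many elements of the fraction field of `k[[σ]]` (char. `p`) with linearly
independent absolute differentials admit "dual" derivations which, up to a common denominator,
preserve `k[[σ]]`. -/
theorem core (K₀ : Type u) [Field K₀] [Algebra (MvPowerSeries σ k) K₀]
    [IsFractionRing (MvPowerSeries σ k) K₀] {m : ℕ} (x : Fin m → K₀)
    (hx : LinearIndependent K₀ (fun i => D ℤ K₀ (x i))) :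
    ∃ (a : MvPowerSeries σ k) (_ : a ≠ 0) (E : Fin m → Der (MvPowerSeries σ k))
      (D' : Fin m → Der K₀),
      (∀ i g, D' i (algebraMap (MvPowerSeries σ k) K₀ g) =
        algebraMap (MvPowerSeries σ k) K₀ (E i g)) ∧
      ∀ i j, D' i (x j) = if j = i then algebraMap (MvPowerSeries σ k) K₀ a else 0 := by
  classical
  set A₀ := MvPowerSeries σ k with hA₀
  have hp0 : 0 < p := hp.out.pos
  obtain ⟨F, _, _, _, _, _, -⟩ := Groth.Agent.Helper2.Sep.exists_perfect_subfield k k p
  obtain ⟨ι, β, -, -, -, hβ⟩ := exists_isPBasis_extension (k := F) p (fun e : PEmpty.{u+1} => (e.elim : k))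
    ((isPIndependent_iff p _).2 (pInd_of_isEmpty p _))
  have hδ' : ∀ i, ∃ d : Derivation F k k, ∀ j, d (β j) = if j = i then 1 else 0 :=
    fun i => exists_partial p hβ i
  choose δ hδ using hδ'
  let dA : ι → Der A₀ := fun i => coeffDer ((δ i).restrictScalars ℤ)
  let pA : σ → Der A₀ := fun l => pd l
  have hdK' : ∀ i, ∃ d : Der K₀, ∀ g, d (algebraMap A₀ K₀ g) = algebraMap A₀ K₀ (dA i g) :=
    fun i => exists_derivation_extension (nonZeroDivisors A₀) (dA i)
  choose dK hdK using hdK'
  have hpK' : ∀ l, ∃ d : Der K₀, ∀ g, d (algebraMap A₀ K₀ g) = algebraMap A₀ K₀ (pA l g) :=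
    fun l => exists_derivation_extension (nonZeroDivisors A₀) (pA l)
  choose pK hpK using hpK'
  have hinj : Function.Injective (algebraMap A₀ K₀) := IsFractionRing.injective A₀ K₀
  haveI : CharP A₀ p := charP_of_injective_algebraMap (algebraMap k A₀).injective p
  haveI : CharP K₀ p := charP_of_injective_algebraMap hinj p
  -- constants are `p`-th powers
  have hconst : ∀ y : K₀, (∀ D ∈ Set.range pK, D y = 0) → (∀ i, dK i y = 0) → ∃ z : K₀, z ^ p = y := by
    intro y hy1 hy2
    obtain ⟨u, v, hv, rfl⟩ := IsFractionRing.div_surjective (A := A₀) y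
    have hv0 : algebraMap A₀ K₀ v ≠ 0 := by
      intro h
      exact nonZeroDivisors.ne_zero hv (hinj (h.trans (map_zero _).symm))
    set y := algebraMap A₀ K₀ u / algebraMap A₀ K₀ v with hy
    set w : A₀ := u * v ^ (p - 1) with hw
    have hwy : algebraMap A₀ K₀ w = y * (algebraMap A₀ K₀ v) ^ p := by
      rw [hw, map_mul, map_pow, hy, div_mul_eq_mul_div, eq_div_iff hv0, mul_assoc, ← pow_succ,
        Nat.sub_add_cancel hp.out.one_le]
    have hkill : ∀ (d : Der K₀), d y = 0 → d (algebraMap A₀ K₀ w) = 0 := by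
      intro d hd
      rw [hwy, Derivation.leibniz, hd, smul_zero, Derivation.leibniz_pow,
        ← Nat.cast_smul_eq_nsmul K₀, CharP.cast_eq_zero K₀ p, zero_smul, smul_zero, add_zero]
    have hw1 : ∀ l, pderiv k l w = 0 := by
      intro l
      apply hinj
      rw [map_zero]
      have := hkill (pK l) (hy1 _ ⟨l, rfl⟩)
      rw [hpK] at this
      exact this
    have hw2 : ∀ α, ∃ c : k, c ^ p = coeff α w := by
      intro α
      apply exists_pow_eq_of_forall_eq_zero p hβ δ hδ
      intro i
      have h1 := hkill (dK i) (hy2 i)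
      rw [hdK] at h1
      have h2 : dA i w = 0 := hinj (h1.trans (map_zero _).symm)
      have h3 := congrArg (coeff α) h2
      rw [coeff_coeffDer, map_zero] at h3
      exact h3
    obtain ⟨h, hh⟩ := exists_pow_eq p w hw1 hw2
    refine ⟨algebraMap A₀ K₀ h / algebraMap A₀ K₀ v, ?_⟩
    rw [div_pow, ← map_pow, hh, hwy, mul_div_assoc, div_self (pow_ne_zero _ hv0), mul_one]
  obtain ⟨S, E, hE1, hE2⟩ := exists_partials p (Set.range pK) dK hconst x hx
  haveI : Fintype (Red σ p) := Fintype.ofFinite _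
  haveI : Fintype (Red ↥S p) := Fintype.ofFinite _
  let b : ↥S → k := fun s => β s
  let N := Red σ p × Red ↥S p
  let mono : N → A₀ := fun je => monomial je.1.1 (mon b je.2.1)
  have hdec : ∀ g : A₀, ∃ G : N → A₀, (∀ je l, pderiv k l (G je) = 0) ∧
      (∀ je γ, coeff γ (G je) ∈ constSubring δ (S : Set ι)) ∧ g = ∑ je, G je * mono je :=
    fun g => exists_decomp p (constSubring δ (S : Set ι)) b (fun c => exists_repr p hβ δ hδ S c) g
  have hcst : ∀ G : A₀, (∀ l, pderiv k l G = 0) →
      (∀ γ, coeff γ G ∈ constSubring δ (S : Set ι)) → ∀ i, E i (algebraMap A₀ K₀ G) = 0 := by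
    intro G hG1 hG2 i
    apply hE1
    · rintro _ ⟨l, rfl⟩
      rw [hpK]
      show algebraMap A₀ K₀ (pderiv k l G) = 0
      rw [hG1, map_zero]
    · intro s hs
      rw [hdK]
      have : dA s G = 0 := by
        ext γ
        rw [coeff_coeffDer, map_zero]
        exact hG2 γ s hs
      rw [this, map_zero]
  obtain ⟨a, ha⟩ := IsLocalization.exist_integer_multiples_of_finite (nonZeroDivisors A₀)
    (fun ije : Fin m × N => E ije.1 (algebraMap A₀ K₀ (mono ije.2)))
  choose n hn using ha
  have hn' : ∀ i je, algebraMap A₀ K₀ (n (i, je)) =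
      algebraMap A₀ K₀ (a : A₀) * E i (algebraMap A₀ K₀ (mono je)) := by
    intro i je
    rw [hn (i, je), Algebra.smul_def]
  let D' : Fin m → Der K₀ := fun i => algebraMap A₀ K₀ (a : A₀) • E i
  have hD' : ∀ i g, ∃ g', algebraMap A₀ K₀ g' = D' i (algebraMap A₀ K₀ g) := by
    intro i g
    obtain ⟨G, hG1, hG2, hg⟩ := hdec g
    refine ⟨∑ je, G je * n (i, je), ?_⟩
    show _ = algebraMap A₀ K₀ (a : A₀) • E i (algebraMap A₀ K₀ g)
    conv_rhs => rw [hg]
    rw [map_sum, map_sum, map_sum, Finset.smul_sum]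
    refine Finset.sum_congr rfl fun je _ => ?_
    rw [map_mul, map_mul, Derivation.leibniz, hcst (G je) (hG1 je) (hG2 je) i, smul_zero, add_zero,
      hn', smul_eq_mul, smul_eq_mul]
    ring
  have hres : ∀ i, ∃ Ei : Der A₀, ∀ g, algebraMap A₀ K₀ (Ei g) =
      D' i (algebraMap A₀ K₀ g) := fun i => exists_derivation_restrict hinj (D' i) (hD' i)
  choose Ebar hEbar using hres
  refine ⟨(a : A₀), nonZeroDivisors.ne_zero a.2, Ebar, D', fun i g => (hEbar i g).symm, fun i j => ?_⟩
  show algebraMap A₀ K₀ (a : A₀) • E i (x j) = _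
  rw [hE2]
  split_ifs
  · rw [smul_eq_mul, mul_one]
  · rw [smul_zero]

end core

end Groth.Agent.Helper8.PSDer
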