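import Mathlib
import Groth.Agent.Lib.Helper8.PRad11
import Groth.Agent.Lib.Helper8.PSDer1

/-!
# A derivation criterion for the injectivity of `K ⊗ Ω_k → K ⊗ Ω_A`
-/

set_option autoImplicit false

namespace Groth.Agent.Helper8.PSDer

open IsLocalRing KaehlerDifferential TensorProduct Module

universe u

section crit

variable {k A : Type u} [Field k] [CommRing A] [IsLocalRing A] [Algebra k A]

/-- The linear form on `K ⊗ Ω_A` induced by a derivation of `A`. -/
noncomputable def derForm (Δ : Der A) : ResidueField A ⊗[A] Ω[A⁄ℤ] →ₗ[ResidueField A] ResidueField A :=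
  (AlgebraTensorModule.rid A (ResidueField A) (ResidueField A)).toLinearMap ∘ₗ
    (Δ.liftKaehlerDifferential).baseChange (ResidueField A)

theorem derForm_tmul (Δ : Der A) (c : ResidueField A) (y : A) :
    derForm Δ (c ⊗ₜ[A] D ℤ A y) = c * residue A (Δ y) := by
  unfold derForm
  rw [LinearMap.comp_apply, LinearMap.baseChange_tmul, Derivation.liftKaehlerDifferential_comp_D]
  show (AlgebraTensorModule.rid A (ResidueField A) (ResidueField A)) (c ⊗ₜ[A] Δ y) = _
  rw [AlgebraTensorModule.rid_tmul, Algebra.smul_def, mul_comm]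
  rfl

/-- Dual derivations give linear independence of differentials in `K ⊗ Ω_A`. -/
theorem linearIndependent_of_dual {n : ℕ} (y : Fin n → A) (Δ : Fin n → Der A)
    (hΔ : ∀ i j, Δ i (y j) = if j = i then 1 else 0) :
    LinearIndependent (ResidueField A) (fun i => (1 : ResidueField A) ⊗ₜ[A] D ℤ A (y i)) := by
  classical
  rw [linearIndependent_iff']
  intro s c hc j hj
  have := congrArg (derForm (Δ j)) hc
  rw [map_sum, map_zero] at this
  simp only [map_smul, derForm_tmul, hΔ, smul_eq_mul, one_mul] at this
  rw [Finset.sum_eq_single j] at this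
  · simpa using this
  · intro i _ hij
    rw [if_neg hij, map_zero, mul_zero]
  · intro h; exact absurd hj h

/-- **Derivation criterion.** If every finite family of elements of `k` with linearly independent
differentials admits dual derivations of `A`, then `K ⊗ Ω_k → K ⊗ Ω_A` is injective. -/
theorem injective_of_dual
    (H : ∀ {n : ℕ} (x : Fin n → k), LinearIndependent k (fun i => D ℤ k (x i)) →
      ∃ Δ : Fin n → Der A, ∀ i j, Δ i (algebraMap k A (x j)) = if j = i then 1 else 0) :
    Function.Injective ((mapBaseChange ℤ k A).lTensor (ResidueField A)) := by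
  classical
  obtain ⟨bset, hsub, hspan, hli⟩ := exists_linearIndependent k (Set.range (D ℤ k))
  have hspan' : ⊤ ≤ Submodule.span k (Set.range ((↑) : bset → Ω[k⁄ℤ])) := by
    rw [Subtype.range_coe, hspan, KaehlerDifferential.span_range_derivation]
  let b₀ : Basis bset k Ω[k⁄ℤ] := Basis.mk hli hspan'
  have hb₀ : ∀ j : bset, b₀ j = (j : Ω[k⁄ℤ]) := fun j => Basis.mk_apply hli hspan' j
  have hx : ∀ j : bset, ∃ x : k, D ℤ k x = (j : Ω[k⁄ℤ]) := fun j => hsub j.2
  choose x hx using hx
  let b₂ : Basis bset (ResidueField A) (ResidueField A ⊗[A] (A ⊗[k] Ω[k⁄ℤ])) :=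
    (b₀.baseChange A).baseChange (ResidueField A)
  let g : ResidueField A ⊗[A] (A ⊗[k] Ω[k⁄ℤ]) →ₗ[ResidueField A] ResidueField A ⊗[A] Ω[A⁄ℤ] :=
    (mapBaseChange ℤ k A).baseChange (ResidueField A)
  have hg : ∀ j : bset, g (b₂ j) = (1 : ResidueField A) ⊗ₜ[A] D ℤ A (algebraMap k A (x j)) := by
    intro j
    show g ((b₀.baseChange A).baseChange (ResidueField A) j) = _
    rw [Basis.baseChange_apply, Basis.baseChange_apply, hb₀, ← hx]
    show (1 : ResidueField A) ⊗ₜ[A] (mapBaseChange ℤ k A ((1 : A) ⊗ₜ[k] D ℤ k (x j))) = _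
    rw [mapBaseChange_tmul, KaehlerDifferential.map_D, one_smul]
  have hli' : LinearIndependent (ResidueField A) (g ∘ b₂) := by
    rw [linearIndependent_iff_finset_linearIndependent]
    intro s
    let e : Fin s.card ≃ s := s.equivFin.symm
    rw [← linearIndependent_equiv e]
    have h1 : LinearIndependent k (fun i : Fin s.card => D ℤ k (x (e i : bset))) := by
      have h2 : (fun i : Fin s.card => D ℤ k (x (e i : bset))) =
          ((↑) : bset → Ω[k⁄ℤ]) ∘ (fun i : Fin s.card => (e i : bset)) := by
        funext i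
        exact hx _
      rw [h2]
      exact hli.comp _ (Subtype.val_injective.comp e.injective)
    obtain ⟨Δ, hΔ⟩ := H (fun i : Fin s.card => x (e i : bset)) h1
    have h3 := linearIndependent_of_dual (fun i : Fin s.card => algebraMap k A (x (e i : bset))) Δ hΔ
    convert h3 using 1
    funext i
    exact hg _
  have hinj : Function.Injective g :=
    Groth.Agent.Helper8.PRad.injective_of_linearIndependent_comp_basis b₂ g hli'
  exact hinj

end crit

end Groth.Agent.Helper8.PSDer
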