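import Mathlib
import Groth.Prelude.Def_CAlgX
import Groth.Agent.Lib.Helper8.Cartier3
import Groth.Agent.Lib.Helper8.PSDer6
import Groth.Agent.Lib.Helper8.PSDer7

/-!
# Nagata's criterion: regular local algebras over the fraction field of a power series ring
to which the derivations of the power series ring extend are formally smooth
-/

set_option autoImplicit false

universe u

namespace Groth.Agent.Helper8.PSDer

open IsLocalRing KaehlerDifferential MvPowerSeries CAlgX

section nagata

variable (p : ℕ) [hp : Fact p.Prime] {k : Type u} [Field k] [CharP k p] {σ : Type} [Finite σ]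
  (K₀ : Type u) [Field K₀] [Algebra (MvPowerSeries σ k) K₀] [IsFractionRing (MvPowerSeries σ k) K₀]
  (T : Type u) [CommRing T] [IsLocalRing T] [IsNoetherianRing T] [Algebra K₀ T]
  [Algebra (MvPowerSeries σ k) T] [IsScalarTower (MvPowerSeries σ k) K₀ T]

include hp in
theorem isAdicFormallySmooth_of_extension (hreg : IsRegularLocalRing T)
    (hext : ∀ E : Der (MvPowerSeries σ k), ∃ E' : Der T,
      ∀ g, E' (algebraMap (MvPowerSeries σ k) T g) = algebraMap (MvPowerSeries σ k) T (E g)) :
    IsAdicFormallySmooth K₀ T (maximalIdeal T) := by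
  classical
  rw [Groth.Agent.Helper8.Cartier.isAdicFormallySmooth_iff_regular_and_injective]
  refine ⟨hreg, injective_of_dual fun {n} x hx => ?_⟩
  obtain ⟨a, ha, E, D', hED, hD'⟩ := core (k := k) (σ := σ) p K₀ x hx
  have hE' : ∀ i, ∃ E' : Der T, ∀ g, E' (algebraMap (MvPowerSeries σ k) T g) =
      algebraMap (MvPowerSeries σ k) T (E i g) := fun i => hext (E i)
  choose E' hE' using hE'
  have hcomp : ∀ i (y : K₀), E' i (algebraMap K₀ T y) = algebraMap K₀ T (D' i y) := by
    intro i y
    let d₁ : Derivation ℤ K₀ T := (E' i).compAlgebraMap K₀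
    let d₂ : Derivation ℤ K₀ T := (Algebra.linearMap K₀ T).compDer (D' i)
    have h12 : d₁ = d₂ := by
      apply derivation_ext_of_isLocalization (nonZeroDivisors (MvPowerSeries σ k))
      intro g
      show E' i (algebraMap K₀ T (algebraMap (MvPowerSeries σ k) K₀ g)) =
        algebraMap K₀ T (D' i (algebraMap (MvPowerSeries σ k) K₀ g))
      rw [hED, ← IsScalarTower.algebraMap_apply, ← IsScalarTower.algebraMap_apply, hE']
    exact congrArg (fun d : Derivation ℤ K₀ T => d y) h12
  have ha' : algebraMap (MvPowerSeries σ k) K₀ a ≠ 0 := by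
    intro h
    exact ha (IsFractionRing.injective (MvPowerSeries σ k) K₀ (h.trans (map_zero _).symm))
  refine ⟨fun i => algebraMap K₀ T (algebraMap (MvPowerSeries σ k) K₀ a)⁻¹ • E' i, fun i j => ?_⟩
  show algebraMap K₀ T (algebraMap (MvPowerSeries σ k) K₀ a)⁻¹ • E' i (algebraMap K₀ T (x j)) = _
  rw [hcomp, hD', smul_eq_mul, ← map_mul]
  split_ifs
  · rw [inv_mul_cancel₀ ha', map_one]
  · rw [mul_zero, map_zero]

end nagata

end Groth.Agent.Helper8.PSDer
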