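import Mathlib
import Groth.Agent.S18156
import Groth.Agent.Lib.Helper8.PSDer1
import Groth.Agent.Lib.Helper8.PSDer5

/-!
# Extending derivations to localizations of completions of localizations
-/

set_option autoImplicit false

universe u

namespace Groth.Agent.Helper8.PSDer

open IsLocalRing

/-- A derivation extends to the adic completion (canonical `ℤ`-algebra structures). -/
theorem exists_derivation_adicCompletion {B : Type*} [CommRing B] (I : Ideal B) (E : Der B) :
    ∃ E' : Der (AdicCompletion I B), ∀ b, E' (algebraMap B (AdicCompletion I B) b) =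
      algebraMap B (AdicCompletion I B) (E b) := by
  obtain ⟨Dh, hDh⟩ := Groth.Agent.S18156.exists_Dhat (k := ℤ) I E
  refine ⟨mkDer (Dh : AdicCompletion I B →+ AdicCompletion I B) (fun a b => ?_), fun b => ?_⟩
  · show Dh (a * b) = a * Dh b + b * Dh a
    rw [Derivation.leibniz, smul_eq_mul, smul_eq_mul]
  · exact hDh b

/-- A derivation of `R` extends to `((R_P)^)_r`. -/
theorem exists_derivation_loc_cpl_loc {R : Type*} [CommRing R] (P : Ideal R) [P.IsPrime]
    (r : Ideal (AdicCompletion (maximalIdeal (Localization.AtPrime P)) (Localization.AtPrime P)))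
    [r.IsPrime] (E : Der R) :
    ∃ E' : Der (Localization.AtPrime r), ∀ g,
      E' (algebraMap _ (Localization.AtPrime r)
        (algebraMap (Localization.AtPrime P)
          (AdicCompletion (maximalIdeal (Localization.AtPrime P)) (Localization.AtPrime P))
          (algebraMap R (Localization.AtPrime P) g))) =
      algebraMap _ (Localization.AtPrime r)
        (algebraMap (Localization.AtPrime P)
          (AdicCompletion (maximalIdeal (Localization.AtPrime P)) (Localization.AtPrime P))
          (algebraMap R (Localization.AtPrime P) (E g))) := by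
  obtain ⟨E₁, hE₁⟩ := exists_derivation_extension (S := Localization.AtPrime P) P.primeCompl E
  obtain ⟨E₂, hE₂⟩ := exists_derivation_adicCompletion (maximalIdeal (Localization.AtPrime P)) E₁
  obtain ⟨E₃, hE₃⟩ := exists_derivation_extension (S := Localization.AtPrime r) r.primeCompl E₂
  refine ⟨E₃, fun g => ?_⟩
  rw [hE₃, hE₂, hE₁]

end Groth.Agent.Helper8.PSDer
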