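import Mathlib
import Groth.Prelude
import Groth.Agent.Lib.Helper8.AdicFS22
import Groth.Agent.Lib.Helper8.AdicReg1
import Groth.Agent.Lib.Helper8.ABS11
import Groth.Agent.Lib.Helper8.MvPSDim
import Groth.Agent.Lib.Helper8.PSDer8
import Groth.Agent.Lib.Helper8.PSDer9

/-!
# The generic formal fibres of the local rings of a regular local ring
-/

set_option autoImplicit false

universe u

namespace Groth.Agent.Helper8.PSDer

open IsLocalRing CAlgX

section skeleton

variable {A₀ : Type u} [CommRing A₀] [IsDomain A₀] (P : Ideal A₀) [P.IsPrime]
  (r : Ideal (AdicCompletion (maximalIdeal (Localization.AtPrime P)) (Localization.AtPrime P)))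
  [r.IsPrime]

omit [IsDomain A₀] in
theorem algebraMap_loc_cpl_loc (g : A₀) :
    algebraMap A₀ (Localization.AtPrime r) g =
      algebraMap _ (Localization.AtPrime r)
        (algebraMap (Localization.AtPrime P)
          (AdicCompletion (maximalIdeal (Localization.AtPrime P)) (Localization.AtPrime P))
          (algebraMap A₀ (Localization.AtPrime P) g)) := by
  rw [← IsScalarTower.algebraMap_apply, ← IsScalarTower.algebraMap_apply]

theorem isUnit_algebraMap_of_comap_eq_bot
    (hr : r.comap (algebraMap (Localization.AtPrime P)
      (AdicCompletion (maximalIdeal (Localization.AtPrime P)) (Localization.AtPrime P))) = ⊥)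
    (g : nonZeroDivisors A₀) : IsUnit (algebraMap A₀ (Localization.AtPrime r) g) := by
  rw [algebraMap_loc_cpl_loc, IsLocalization.AtPrime.isUnit_to_map_iff (Localization.AtPrime r) r]
  intro hmem
  have h1 : algebraMap A₀ (Localization.AtPrime P) g ∈ r.comap (algebraMap (Localization.AtPrime P)
      (AdicCompletion (maximalIdeal (Localization.AtPrime P)) (Localization.AtPrime P))) := hmem
  rw [hr, Ideal.mem_bot] at h1
  have hinj : Function.Injective (algebraMap A₀ (Localization.AtPrime P)) :=
    IsLocalization.injective _ P.primeCompl_le_nonZeroDivisors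
  exact nonZeroDivisors.ne_zero g.2 (hinj (h1.trans (map_zero _).symm))

/-- Skeleton: formal smoothness over the fraction field (for any model of it) gives formal
smoothness over the local ring. -/
theorem isAdicFormallySmooth_of_fractionRing
    (hr : r.comap (algebraMap (Localization.AtPrime P)
      (AdicCompletion (maximalIdeal (Localization.AtPrime P)) (Localization.AtPrime P))) = ⊥)
    (H : ∀ [Algebra (FractionRing A₀) (Localization.AtPrime r)]
      [IsScalarTower A₀ (FractionRing A₀) (Localization.AtPrime r)],
      IsAdicFormallySmooth (FractionRing A₀) (Localization.AtPrime r)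
        (maximalIdeal (Localization.AtPrime r))) :
    IsAdicFormallySmooth (Localization.AtPrime P) (Localization.AtPrime r)
      (maximalIdeal (Localization.AtPrime r)) := by
  have hunit := isUnit_algebraMap_of_comap_eq_bot P r hr
  letI : Algebra (FractionRing A₀) (Localization.AtPrime r) :=
    (IsLocalization.lift (M := nonZeroDivisors A₀) (g := algebraMap A₀ (Localization.AtPrime r))
      hunit).toAlgebra
  haveI : IsScalarTower A₀ (FractionRing A₀) (Localization.AtPrime r) :=
    IsScalarTower.of_algebraMap_eq (fun a => (IsLocalization.lift_eq hunit a).symm)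
  have h1 := H
  have h2 : IsAdicFormallySmooth A₀ (Localization.AtPrime r)
      (maximalIdeal (Localization.AtPrime r)) :=
    Groth.Agent.Helper8.AdicFS.of_isLocalization_base (nonZeroDivisors A₀) h1
  exact Groth.Agent.Helper8.AdicFS.to_isLocalization_base P.primeCompl h2

end skeleton

section regular

variable {A₀ : Type u} [CommRing A₀] [IsRegularLocalRing A₀] (P : Ideal A₀) [P.IsPrime]
  (r : Ideal (AdicCompletion (maximalIdeal (Localization.AtPrime P)) (Localization.AtPrime P)))
  [r.IsPrime]

theorem isRegularLocalRing_loc_cpl_loc : IsRegularLocalRing (Localization.AtPrime r) := by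
  haveI : IsRegularLocalRing (Localization.AtPrime P) :=
    Groth.Agent.Helper8.ABS.isRegularLocalRing_localization A₀ P
  have hI : maximalIdeal (Localization.AtPrime P) ≠ ⊤ := Ideal.IsPrime.ne_top'
  haveI : IsRegularLocalRing
      (AdicCompletion (maximalIdeal (Localization.AtPrime P)) (Localization.AtPrime P)) :=
    (Groth.Agent.Helper8.AdicReg.isRegularLocalRing_iff (Localization.AtPrime P)
      (maximalIdeal (Localization.AtPrime P)) hI).1 inferInstance
  exact Groth.Agent.Helper8.ABS.isRegularLocalRing_localization _ r

/-- Characteristic zero: the generic formal fibres of the local rings of a regular local domain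
with fraction field of characteristic zero. -/
theorem isAdicFormallySmooth_loc_cpl_loc_of_charZero [IsDomain A₀] [CharZero A₀]
    (hr : r.comap (algebraMap (Localization.AtPrime P)
      (AdicCompletion (maximalIdeal (Localization.AtPrime P)) (Localization.AtPrime P))) = ⊥) :
    IsAdicFormallySmooth (Localization.AtPrime P) (Localization.AtPrime r)
      (maximalIdeal (Localization.AtPrime r)) := by
  refine isAdicFormallySmooth_of_fractionRing P r hr ?_
  intro _ _
  haveI : CharZero (FractionRing A₀) :=
    charZero_of_injective_algebraMap (IsFractionRing.injective A₀ (FractionRing A₀))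
  haveI : IsNoetherianRing (Localization.AtPrime r) := by
    haveI := isRegularLocalRing_loc_cpl_loc P r
    infer_instance
  exact Groth.Agent.Helper8.AdicFS.of_charZero_of_isRegularLocalRing
    (isRegularLocalRing_loc_cpl_loc P r)

end regular

section charp

variable (p : ℕ) [hp : Fact p.Prime] {k : Type u} [Field k] [CharP k p] (n : ℕ)
  (P : Ideal (MvPowerSeries (Fin n) k)) [P.IsPrime]
  (r : Ideal (AdicCompletion (maximalIdeal (Localization.AtPrime P)) (Localization.AtPrime P)))
  [r.IsPrime]

include hp in
/-- Characteristic `p` (**Nagata**): the generic formal fibres of the local rings of a power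
series ring over a field. -/
theorem isAdicFormallySmooth_loc_cpl_loc_of_charP
    (hr : r.comap (algebraMap (Localization.AtPrime P)
      (AdicCompletion (maximalIdeal (Localization.AtPrime P)) (Localization.AtPrime P))) = ⊥) :
    IsAdicFormallySmooth (Localization.AtPrime P) (Localization.AtPrime r)
      (maximalIdeal (Localization.AtPrime r)) := by
  haveI : IsDomain (MvPowerSeries (Fin n) k) := NoZeroDivisors.to_isDomain _
  refine isAdicFormallySmooth_of_fractionRing P r hr ?_
  intro _ _
  haveI : IsNoetherianRing (Localization.AtPrime r) := by
    haveI := isRegularLocalRing_loc_cpl_loc P r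
    infer_instance
  refine isAdicFormallySmooth_of_extension (k := k) (σ := Fin n) p
    (FractionRing (MvPowerSeries (Fin n) k))
    (Localization.AtPrime r) (isRegularLocalRing_loc_cpl_loc P r) ?_
  intro E
  obtain ⟨E', hE'⟩ := exists_derivation_loc_cpl_loc P r E
  refine ⟨E', fun g => ?_⟩
  rw [algebraMap_loc_cpl_loc, algebraMap_loc_cpl_loc, hE']

end charp

end Groth.Agent.Helper8.PSDer
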