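import Mathlib
import Groth.Prelude
import Groth.Agent.Lib.Helper8.PSDer10
import Groth.Agent.Lib.Helper8.DerExt
import Groth.Agent.Lib.Helper8.GRing6

/-!
# Formal smoothness of the local rings of the generic fibre of an algebra over a regular
power series ring
-/

set_option autoImplicit false

universe u

namespace Groth.Agent.Helper8.Andre

open IsLocalRing CAlgX Groth.Agent.Helper8.PSDer

section skeleton

variable {A₀ C : Type u} [CommRing A₀] [IsDomain A₀] [CommRing C] [Algebra A₀ C]
  (Q : Ideal C) [Q.IsPrime]

omit [IsDomain A₀] in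
theorem algebraMap_localization (g : A₀) :
    algebraMap A₀ (Localization.AtPrime Q) g =
      algebraMap C (Localization.AtPrime Q) (algebraMap A₀ C g) := by
  rw [← IsScalarTower.algebraMap_apply]

theorem isUnit_algebraMap_of_comap_eq_bot (hQ : Q.comap (algebraMap A₀ C) = ⊥)
    (g : nonZeroDivisors A₀) : IsUnit (algebraMap A₀ (Localization.AtPrime Q) g) := by
  rw [algebraMap_localization, IsLocalization.AtPrime.isUnit_to_map_iff (Localization.AtPrime Q) Q]
  intro hmem
  have h1 : (g : A₀) ∈ Q.comap (algebraMap A₀ C) := hmem
  rw [hQ, Ideal.mem_bot] at h1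
  exact nonZeroDivisors.ne_zero g.2 h1

/-- Skeleton: formal smoothness over the fraction field gives formal smoothness over the
domain. -/
theorem isAdicFormallySmooth_of_fractionRing (hQ : Q.comap (algebraMap A₀ C) = ⊥)
    (H : ∀ [Algebra (FractionRing A₀) (Localization.AtPrime Q)]
      [IsScalarTower A₀ (FractionRing A₀) (Localization.AtPrime Q)],
      IsAdicFormallySmooth (FractionRing A₀) (Localization.AtPrime Q)
        (maximalIdeal (Localization.AtPrime Q))) :
    IsAdicFormallySmooth A₀ (Localization.AtPrime Q)
      (maximalIdeal (Localization.AtPrime Q)) := by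
  have hunit := isUnit_algebraMap_of_comap_eq_bot Q hQ
  letI : Algebra (FractionRing A₀) (Localization.AtPrime Q) :=
    (IsLocalization.lift (M := nonZeroDivisors A₀) (g := algebraMap A₀ (Localization.AtPrime Q))
      hunit).toAlgebra
  haveI : IsScalarTower A₀ (FractionRing A₀) (Localization.AtPrime Q) :=
    IsScalarTower.of_algebraMap_eq (fun a => (IsLocalization.lift_eq hunit a).symm)
  have h1 := H
  exact Groth.Agent.Helper8.AdicFS.of_isLocalization_base (nonZeroDivisors A₀) h1

/-- Characteristic zero. -/
theorem isAdicFormallySmooth_localization_of_charZero [CharZero A₀]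
    (hQ : Q.comap (algebraMap A₀ C) = ⊥)
    (hreg : IsRegularLocalRing (Localization.AtPrime Q)) :
    IsAdicFormallySmooth A₀ (Localization.AtPrime Q)
      (maximalIdeal (Localization.AtPrime Q)) := by
  refine isAdicFormallySmooth_of_fractionRing Q hQ ?_
  intro _ _
  haveI : CharZero (FractionRing A₀) :=
    charZero_of_injective_algebraMap (IsFractionRing.injective A₀ (FractionRing A₀))
  haveI : IsNoetherianRing (Localization.AtPrime Q) := by
    haveI := hreg
    infer_instance
  exact Groth.Agent.Helper8.AdicFS.of_charZero_of_isRegularLocalRing hreg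

end skeleton

section charp

variable (p : ℕ) [hp : Fact p.Prime] {k : Type u} [Field k] [CharP k p] (n : ℕ)
  {C : Type u} [CommRing C] [Algebra (MvPowerSeries (Fin n) k) C] (Q : Ideal C) [Q.IsPrime]

include hp in
/-- Characteristic `p` (**Nagata**). -/
theorem isAdicFormallySmooth_localization_of_charP
    (hQ : Q.comap (algebraMap (MvPowerSeries (Fin n) k) C) = ⊥)
    (hreg : IsRegularLocalRing (Localization.AtPrime Q))
    (hext : ∀ E : Der (MvPowerSeries (Fin n) k), ∃ E' : Der C,
      ∀ g, E' (algebraMap (MvPowerSeries (Fin n) k) C g) =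
        algebraMap (MvPowerSeries (Fin n) k) C (E g)) :
    IsAdicFormallySmooth (MvPowerSeries (Fin n) k) (Localization.AtPrime Q)
      (maximalIdeal (Localization.AtPrime Q)) := by
  haveI : IsDomain (MvPowerSeries (Fin n) k) := NoZeroDivisors.to_isDomain _
  refine isAdicFormallySmooth_of_fractionRing Q hQ ?_
  intro _ _
  haveI : IsNoetherianRing (Localization.AtPrime Q) := by
    haveI := hreg
    infer_instance
  refine isAdicFormallySmooth_of_extension (k := k) (σ := Fin n) p
    (FractionRing (MvPowerSeries (Fin n) k)) (Localization.AtPrime Q) hreg ?_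
  intro E
  obtain ⟨E₁, hE₁⟩ := hext E
  obtain ⟨E', hE'⟩ := Groth.Agent.Helper8.PSDer.exists_derivation_extension
    (S := Localization.AtPrime Q) Q.primeCompl E₁
  refine ⟨E', fun g => ?_⟩
  rw [algebraMap_localization Q g, algebraMap_localization Q (E g), hE', hE₁]

end charp

end Groth.Agent.Helper8.Andre
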