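import Mathlib
import Groth.Agent.Lib.Helper8.FinPS2
import Groth.Agent.Lib.Helper8.Cohen2
import Groth.Agent.Lib.Helper8.CohenLift2

/-!
# Complete Noetherian local domains are finite over power series rings
-/

set_option autoImplicit false

namespace Groth.Agent.Helper8.FinPS

open IsLocalRing MvPowerSeries

universe u

section sop

variable {R : Type u} [CommRing R] [IsNoetherianRing R] [IsLocalRing R]

/-- A system of parameters. -/
theorem exists_sop :
    ∃ (n : ℕ) (x : Fin n → R), (∀ i, x i ∈ maximalIdeal R) ∧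
      maximalIdeal R ∈ (Ideal.span (Set.range x)).minimalPrimes ∧
      (n : WithBot ℕ∞) ≤ ringKrullDim R := by
  classical
  obtain ⟨s, hs, hcard⟩ :=
    Ideal.exists_finset_card_eq_height_of_isNoetherianRing (maximalIdeal R)
  let x : Fin s.card → R := fun i => (s.equivFin.symm i : R)
  have hrange : Set.range x = (s : Set R) := by
    ext a
    constructor
    · rintro ⟨i, rfl⟩
      exact (s.equivFin.symm i).2
    · intro ha
      refine ⟨s.equivFin ⟨a, ha⟩, ?_⟩
      show ((s.equivFin.symm (s.equivFin ⟨a, ha⟩) : s) : R) = a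
      rw [Equiv.symm_apply_apply]
  have hsm : Ideal.span (s : Set R) ≤ maximalIdeal R := hs.1.2
  refine ⟨s.card, x, fun i => hsm (Ideal.subset_span (s.equivFin.symm i).2), ?_, ?_⟩
  · rw [hrange]; exact hs
  · rw [← IsLocalRing.maximalIdeal_height_eq_ringKrullDim, ← hcard]
    exact le_rfl

/-- A system of parameters extending a regular element of the maximal ideal. -/
theorem exists_sop_of_mem (π : R) (hπ : π ∈ maximalIdeal R) (hreg : π ∈ nonZeroDivisors R) :
    ∃ (n : ℕ) (x : Fin n → R), (∀ i, x i ∈ maximalIdeal R) ∧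
      maximalIdeal R ∈ (Ideal.span {π} ⊔ Ideal.span (Set.range x)).minimalPrimes ∧
      ((n + 1 : ℕ) : WithBot ℕ∞) ≤ ringKrullDim R := by
  classical
  have hle : Ideal.span {π} ≤ maximalIdeal R := (Ideal.span_singleton_le_iff_mem _).2 hπ
  haveI hp' : ((maximalIdeal R).map (Ideal.Quotient.mk (Ideal.span {π}))).IsPrime :=
    Ideal.isPrime_map_quotientMk_of_isPrime hle
  obtain ⟨s, hps, hs⟩ := Ideal.exists_finset_card_eq_height_of_isNoetherianRing
    ((maximalIdeal R).map (Ideal.Quotient.mk (Ideal.span {π})))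
  have hsp' : (s : Set (R ⧸ Ideal.span {π})) ⊆
      ((maximalIdeal R).map (Ideal.Quotient.mk (Ideal.span {π})) : Set _) :=
    fun _ hx => hps.1.2 (Ideal.subset_span hx)
  have hsurjOn : Set.SurjOn (Ideal.Quotient.mk (Ideal.span {π})) (maximalIdeal R) s := by
    refine Set.SurjOn.mono subset_rfl hsp' fun y hy => ?_
    obtain ⟨y, rfl⟩ := Ideal.Quotient.mk_surjective y
    refine ⟨y, ?_, rfl⟩
    have h1 : y ∈ ((maximalIdeal R).map (Ideal.Quotient.mk (Ideal.span {π}))).comap
        (Ideal.Quotient.mk (Ideal.span {π})) := hy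
    rw [Ideal.comap_map_of_surjective _ Ideal.Quotient.mk_surjective, ← RingHom.ker_eq_comap_bot,
      Ideal.mk_ker, sup_of_le_left hle] at h1
    exact h1
  obtain ⟨o, hsubset, ho, himgo⟩ :=
    s.exists_subset_injOn_image_eq_of_surjOn (maximalIdeal R : Set R) hsurjOn
  let x : Fin o.card → R := fun i => (o.equivFin.symm i : R)
  have hrange : Set.range x = (o : Set R) := by
    ext a
    constructor
    · rintro ⟨i, rfl⟩
      exact (o.equivFin.symm i).2
    · intro ha
      refine ⟨o.equivFin ⟨a, ha⟩, ?_⟩
      show ((o.equivFin.symm (o.equivFin ⟨a, ha⟩) : o) : R) = a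
      rw [Equiv.symm_apply_apply]
  refine ⟨o.card, x, fun i => hsubset (o.equivFin.symm i).2, ?_, ?_⟩
  · rw [hrange]
    refine Ideal.mem_minimalPrimes_sup hle ?_
    have h2 : (Ideal.span (o : Set R)).map (Ideal.Quotient.mk (Ideal.span {π})) =
        Ideal.span (s : Set (R ⧸ Ideal.span {π})) := by
      rw [Ideal.map_span, ← himgo, Finset.coe_image]
    rw [h2]
    exact hps
  · have h3 : o.card = s.card := by
      rw [← himgo, Finset.card_image_of_injOn ho]
    have h4 : ((maximalIdeal R).map (Ideal.Quotient.mk (Ideal.span {π}))).height ≤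
        ringKrullDim (R ⧸ Ideal.span {π}) :=
      Ideal.height_le_ringKrullDim_of_ne_top hp'.ne_top
    have h5 := ringKrullDim_quotient_succ_le_of_nonZeroDivisor hreg
    have h6 : ((o.card : ℕ) : WithBot ℕ∞) ≤ ringKrullDim (R ⧸ Ideal.span {π}) := by
      rw [h3]
      refine le_trans ?_ h4
      rw [← hs]
      exact le_rfl
    calc ((o.card + 1 : ℕ) : WithBot ℕ∞) = (o.card : WithBot ℕ∞) + 1 := by norm_cast
      _ ≤ ringKrullDim (R ⧸ Ideal.span {π}) + 1 := by gcongr
      _ ≤ ringKrullDim R := h5

end sop

/-- **Cohen structure theorem for domains**: a complete Noetherian local domain is finite over a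
power series ring over a field or a Cohen ring, with the same residue field. -/
theorem exists_finite_injective_of_domain (R : Type u) [CommRing R] [IsDomain R] [IsLocalRing R]
    [IsNoetherianRing R] [IsAdicComplete (maximalIdeal R) R] :
    ∃ (Λ : Type u) (_ : CommRing Λ) (n : ℕ) (f : MvPowerSeries (Fin n) Λ →+* R),
      (IsField Λ ∨ CAlg.IsCohenRing Λ) ∧ Function.Injective f ∧ f.Finite ∧
      Function.Surjective ((residue R).comp f) := by
  classical
  obtain ⟨q, hq⟩ := CharP.exists (ResidueField R)
  by_cases hqR : (q : R) = 0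
  · -- equal characteristic: a coefficient field
    obtain ⟨s, hs⟩ := Groth.Agent.Helper8.CoeffField.exists_coeffField R q hqR
    obtain ⟨n, x, hx, hmin, hdim⟩ := exists_sop (R := R)
    haveI : IsAdicComplete (maximalIdeal (ResidueField R)) (ResidueField R) := by
      rw [IsLocalRing.maximalIdeal_eq_bot]
      infer_instance
    have hres : Function.Surjective ((residue R).comp s) := by
      rw [hs]; exact Function.surjective_id
    obtain ⟨f, hinj, hfin, hsurj⟩ := exists_finite_injective (ResidueField R) R s hres n x hx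
      (by rw [IsLocalRing.maximalIdeal_eq_bot, Ideal.map_bot, bot_sup_eq]; exact hmin) n
      (Groth.Agent.Helper8.CoeffField.ringKrullDim_mvPowerSeries_le n _) hdim
    exact ⟨ResidueField R, inferInstance, n, f, Or.inl (Field.toIsField _), hinj, hfin, hsurj⟩
  · -- mixed characteristic: a Cohen ring
    have hq0 : q ≠ 0 := by
      rintro rfl
      exact hqR (by simp)
    have hqp : q.Prime := (CharP.char_is_prime_or_zero (ResidueField R) q).resolve_right hq0
    haveI : Fact q.Prime := ⟨hqp⟩
    obtain ⟨Λ, hΛ, hL, ⟨hd, hv, hc, p, hp, hm⟩, ⟨e⟩⟩ :=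
      Groth.Agent.Helper8.Cohen.exists_cohenRing q (ResidueField R)
    have hpΛ : (p : ResidueField Λ) = 0 := by
      rw [← map_natCast (residue Λ), residue_eq_zero_iff, hm]
      exact Ideal.mem_span_singleton_self _
    have hpk : (p : ResidueField R) = 0 := by
      rw [← map_natCast e, hpΛ, map_zero]
    have hpq : q = p := by
      have hdvd : q ∣ p := (CharP.cast_eq_zero_iff (ResidueField R) q p).1 hpk
      exact (Nat.prime_dvd_prime_iff_eq hqp hp).1 hdvd
    subst hpq
    have hpR : (q : R) ∈ maximalIdeal R := by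
      rw [← residue_eq_zero_iff, map_natCast]
      exact hpk
    let g : Λ →+* R ⧸ maximalIdeal R := e.toRingHom.comp (residue Λ)
    obtain ⟨φ, hφ⟩ := Groth.Agent.Helper8.CohenLift.exists_lift_complete Λ q hp hm
      (maximalIdeal R) hpR g
    have hres : Function.Surjective ((residue R).comp φ) := by
      have : (residue R).comp φ = g := hφ
      rw [this]
      exact e.surjective.comp residue_surjective
    obtain ⟨n, x, hx, hmin, hdim⟩ := exists_sop_of_mem (R := R) (q : R) hpR
      (mem_nonZeroDivisors_of_ne_zero hqR)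
    have hmapφ : (maximalIdeal Λ).map φ = Ideal.span {(q : R)} := by
      rw [hm, Ideal.map_span, Set.image_singleton, map_natCast]
    obtain ⟨f, hinj, hfin, hsurj⟩ := exists_finite_injective Λ R φ hres n x hx
      (by rw [hmapφ]; exact hmin) (n + 1)
      (ringKrullDim_mvPowerSeries_le_succ n Λ (q : Λ) hm) hdim
    exact ⟨Λ, hΛ, n, f, Or.inr ⟨hd, hv, hc, q, hp, hm⟩, hinj, hfin, hsurj⟩

end Groth.Agent.Helper8.FinPS
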