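import Mathlib
import Groth.Prelude
import Groth.Agent.Lib.Helper8.LocHom3
import Groth.Agent.Lib.Helper8.LocHom4

/-!
# Regular homomorphisms and localization of the source
-/

set_option autoImplicit false

universe u

namespace Groth.Agent.Helper8.GRing

open IsLocalRing

section source

variable {A A' B : Type u} [CommRing A] [CommRing A'] [CommRing B] [Algebra A A'] [Algebra A' B]
  [Algebra A B] [IsScalarTower A A' B] (M : Submonoid A) [IsLocalization M A']

include M in
theorem isPushout_of_isLocalization : Algebra.IsPushout A A' B B := by
  constructor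
  haveI : IsLocalizedModule M (LinearMap.id : B →ₗ[A] B) := isLocalizedModule_id M B A'
  have h : (IsScalarTower.toAlgHom A B B).toLinearMap = (LinearMap.id : B →ₗ[A] B) := by
    ext x
    rfl
  rw [h]
  exact IsLocalizedModule.isBaseChange M A' LinearMap.id

include M in
/-- If `A → B` is regular and factors through a localization `A'` of `A`, then `A' → B` is
regular. -/
theorem isRegularHom_of_isLocalization_source (h : CAlg.IsRegularHom A B) :
    CAlg.IsRegularHom A' B := by
  haveI : Module.Flat A B := h.1
  haveI := isPushout_of_isLocalization (A := A) (A' := A') (B := B) M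
  have hst : (algebraMap A A').SurjectiveOnStalks :=
    RingHom.surjectiveOnStalks_of_isLocalization M A'
  refine ⟨(Module.flat_iff_of_isLocalization A' M B).2 inferInstance, fun p' _ => ?_⟩
  obtain ⟨hN, hG⟩ := h.2 (p'.under A)
  obtain ⟨e⟩ := Groth.Agent.Helper8.LocHom.nonempty_fibre_ringEquiv A B A' B hst p'
  refine ⟨isNoetherianRing_of_ringEquiv _ e.symm, ?_⟩
  exact (Groth.Agent.Helper8.LocHom.isGeometricallyRegular_fiber_iff A B A' B hst p').2 hG

end source

end Groth.Agent.Helper8.GRing
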