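import Mathlib
import Groth.Prelude.Def_CAlgX
import Groth.Prelude.Def_Found
import Groth.Agent.Lib.Helper8.PRad16

/-!
# Base change of geometric regularity along field extensions
-/

set_option autoImplicit false

namespace Groth.Agent.Helper8.GRBase

open IsLocalRing TensorProduct CAlgX

universe u

section local_

variable {k S : Type u} [CommRing k] [CommRing S] [Algebra k S]
  (K : Type u) [CommRing K] [Algebra k K]

/-- Adic formal smoothness of the local ring of `S` at the contraction of a prime `Q` of
`K ⊗ S` gives adic formal smoothness of `(K ⊗ S)_Q` over `K`. -/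
theorem isAdicFormallySmooth_tensor_atPrime (Q : Ideal (K ⊗[k] S)) [Q.IsPrime]
    (h : IsAdicFormallySmooth k
      (Localization.AtPrime (Q.comap (Algebra.TensorProduct.includeRight : S →ₐ[k] K ⊗[k] S)))
      (maximalIdeal (Localization.AtPrime
        (Q.comap (Algebra.TensorProduct.includeRight : S →ₐ[k] K ⊗[k] S))))) :
    IsAdicFormallySmooth K (Localization.AtPrime Q) (maximalIdeal (Localization.AtPrime Q)) := by
  intro C _ _ J hJ ψ ⟨t, ht⟩
  let incl : S →ₐ[k] K ⊗[k] S := Algebra.TensorProduct.includeRight
  let p : Ideal S := Q.comap incl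
  letI : Algebra k C := Algebra.compHom C (algebraMap k K)
  haveI : IsScalarTower k K C := IsScalarTower.of_algebraMap_eq (fun _ => rfl)
  -- the map `S_p → (K ⊗ S)_Q`
  have hunit0 : ∀ s : p.primeCompl,
      IsUnit (((algebraMap (K ⊗[k] S) (Localization.AtPrime Q)).comp incl.toRingHom) s) := by
    intro s
    exact IsLocalization.map_units (Localization.AtPrime Q)
      (⟨incl s, fun hs => s.2 hs⟩ : Q.primeCompl)
  let g₀ : Localization.AtPrime p →+* Localization.AtPrime Q := IsLocalization.lift hunit0
  have hg₀ : ∀ s : S, g₀ (algebraMap S (Localization.AtPrime p) s) =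
      algebraMap (K ⊗[k] S) (Localization.AtPrime Q) (incl s) := fun s =>
    IsLocalization.lift_eq hunit0 s
  let g : Localization.AtPrime p →ₐ[k] Localization.AtPrime Q :=
    { g₀ with
      commutes' := fun c => by
        show g₀ (algebraMap k (Localization.AtPrime p) c) = _
        rw [IsScalarTower.algebraMap_apply k S (Localization.AtPrime p), hg₀, AlgHom.commutes,
          ← IsScalarTower.algebraMap_apply] }
  have hg : ∀ x, g x = g₀ x := fun _ => rfl
  have hgmax : (maximalIdeal (Localization.AtPrime p)).map g₀ ≤
      maximalIdeal (Localization.AtPrime Q) := by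
    rw [← Localization.AtPrime.map_eq_maximalIdeal, Ideal.map_map, Ideal.map_le_iff_le_comap]
    intro a ha
    rw [Ideal.mem_comap, RingHom.comp_apply, hg₀]
    exact (IsLocalization.AtPrime.to_map_mem_maximal_iff (Localization.AtPrime Q) Q (incl a)).2 ha
  let ψ₀ : Localization.AtPrime p →ₐ[k] C ⧸ J := (ψ.restrictScalars k).comp g
  obtain ⟨χ₀, hχ₀⟩ := h C J hJ ψ₀ ⟨t, fun x hx => by
    show ψ (g₀ x) = 0
    apply ht
    refine Ideal.pow_right_mono hgmax t ?_
    rw [← Ideal.map_pow]
    exact Ideal.mem_map_of_mem _ hx⟩
  have hχ₀' : ∀ x, Ideal.Quotient.mk J (χ₀ x) = ψ (g₀ x) := fun x => AlgHom.congr_fun hχ₀ x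
  let χ₁ : K ⊗[k] S →ₐ[K] C :=
    Algebra.TensorProduct.lift (Algebra.ofId K C)
      (χ₀.comp (IsScalarTower.toAlgHom k S (Localization.AtPrime p)))
      (fun _ _ => Commute.all _ _)
  have hχ₁ : ∀ z : K ⊗[k] S, Ideal.Quotient.mk J (χ₁ z) =
      ψ (algebraMap (K ⊗[k] S) (Localization.AtPrime Q) z) := by
    intro z
    induction z using TensorProduct.induction_on with
    | zero => simp only [map_zero]
    | add a b ha hb => simp only [map_add, ha, hb]
    | tmul c s =>
      rw [Algebra.TensorProduct.lift_tmul, map_mul]
      have h1 : c ⊗ₜ[k] s = (c ⊗ₜ[k] (1 : S)) * ((1 : K) ⊗ₜ[k] s) := by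
        rw [Algebra.TensorProduct.tmul_mul_tmul, mul_one, one_mul]
      rw [h1, map_mul, map_mul]
      congr 1
      · show Ideal.Quotient.mk J (algebraMap K C c) = _
        have h2 : c ⊗ₜ[k] (1 : S) = algebraMap K (K ⊗[k] S) c := rfl
        rw [h2, ← IsScalarTower.algebraMap_apply, AlgHom.commutes]
        rfl
      · show Ideal.Quotient.mk J (χ₀ (algebraMap S (Localization.AtPrime p) s)) = _
        rw [hχ₀', hg₀]
        rfl
  haveI : IsLocalHom (Ideal.Quotient.mk J) := by
    apply isLocalHom_of_le_jacobson_bot
    refine le_trans ?_ (Ideal.radical_le_jacobson)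
    intro x hx
    refine ⟨2, ?_⟩
    have : x ^ 2 ∈ J ^ 2 := Ideal.pow_mem_pow hx 2
    rw [hJ] at this
    exact this
  have hunit : ∀ s : Q.primeCompl, IsUnit (χ₁.toRingHom s) := by
    intro s
    apply isUnit_of_map_unit (Ideal.Quotient.mk J)
    show IsUnit (Ideal.Quotient.mk J (χ₁ s))
    rw [hχ₁]
    exact (IsLocalization.map_units (Localization.AtPrime Q) s).map ψ
  let χr : Localization.AtPrime Q →+* C := IsLocalization.lift (M := Q.primeCompl) hunit
  have hχr : ∀ z, χr (algebraMap (K ⊗[k] S) (Localization.AtPrime Q) z) = χ₁ z :=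
    fun z => IsLocalization.lift_eq hunit z
  let χ : Localization.AtPrime Q →ₐ[K] C :=
    { χr with
      commutes' := fun r => by
        show χr (algebraMap K (Localization.AtPrime Q) r) = _
        rw [IsScalarTower.algebraMap_apply K (K ⊗[k] S) (Localization.AtPrime Q), hχr,
          AlgHom.commutes] }
  refine ⟨χ, ?_⟩
  have hring : ((Ideal.Quotient.mkₐ K J).comp χ :
      Localization.AtPrime Q →ₐ[K] C ⧸ J).toRingHom = ψ.toRingHom := by
    apply IsLocalization.ringHom_ext Q.primeCompl
    refine RingHom.ext fun z => ?_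
    show Ideal.Quotient.mk J (χr (algebraMap (K ⊗[k] S) (Localization.AtPrime Q) z)) =
      ψ (algebraMap (K ⊗[k] S) (Localization.AtPrime Q) z)
    rw [hχr, hχ₁]
  refine AlgHom.ext fun x => ?_
  exact RingHom.congr_fun hring x

end local_

section noeth

/-- An algebra essentially of finite type over a Noetherian ring is Noetherian. -/
theorem isNoetherianRing_of_essFiniteType (R A : Type*) [CommRing R] [CommRing A] [Algebra R A]
    [IsNoetherianRing R] [Algebra.EssFiniteType R A] : IsNoetherianRing A := by
  haveI : IsNoetherianRing (Algebra.EssFiniteType.subalgebra R A) :=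
    Algebra.FiniteType.isNoetherianRing R _
  exact IsLocalization.isNoetherianRing (Algebra.EssFiniteType.submonoid R A) A inferInstance

/-- The base change of a Noetherian algebra to a finitely generated field extension is
Noetherian. -/
theorem isNoetherianRing_tensor_of_essFiniteType (k S K : Type*) [Field k] [CommRing S]
    [Algebra k S] [IsNoetherianRing S] [Field K] [Algebra k K] [Algebra.EssFiniteType k K] :
    IsNoetherianRing (K ⊗[k] S) := by
  haveI : IsNoetherianRing (S ⊗[k] K) := isNoetherianRing_of_essFiniteType S (S ⊗[k] K)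
  exact isNoetherianRing_of_ringEquiv _ (Algebra.TensorProduct.comm k S K).toRingEquiv

end noeth

section field

variable {k S : Type u} [Field k] [CommRing S] [Algebra k S] [IsNoetherianRing S]

/-- Geometric regularity is stable under extension of the base field, as long as the base change
is Noetherian. -/
theorem isGeometricallyRegular_tensor (K : Type u) [Field K] [Algebra k K]
    [IsNoetherianRing (K ⊗[k] S)] (h : CAlg.IsGeometricallyRegular k S) :
    CAlg.IsGeometricallyRegular K (K ⊗[k] S) := by
  rw [Groth.Agent.Helper8.PRad.isGeometricallyRegular_iff_forall_isAdicFormallySmooth]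
  intro Q _
  exact isAdicFormallySmooth_tensor_atPrime K Q
    ((Groth.Agent.Helper8.PRad.isGeometricallyRegular_iff_forall_isAdicFormallySmooth.1 h) _)

/-- If `S` is geometrically regular over `k` then `K ⊗ S` is regular for every extension field
`K` for which it is Noetherian. -/
theorem isRegularRing_tensor (K : Type u) [Field K] [Algebra k K]
    [IsNoetherianRing (K ⊗[k] S)] (h : CAlg.IsGeometricallyRegular k S) :
    IsRegularRing (K ⊗[k] S) := by
  haveI := isGeometricallyRegular_tensor K h K (Module.Finite.self K)
  exact IsRegularRing.of_ringEquiv (Algebra.TensorProduct.lid K (K ⊗[k] S)).toRingEquiv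

end field

end Groth.Agent.Helper8.GRBase
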