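import Mathlib
import Groth.Prelude.Def_CAlgX
import Groth.Prelude.Def_Found
import Groth.Agent.Lib.Helper8.GRBase1
import Groth.Agent.Lib.Helper8.FlatReg9

/-!
# Geometric regularity: purely inseparable extensions, descent
-/

set_option autoImplicit false

namespace Groth.Agent.Helper8.GRBase

open IsLocalRing TensorProduct CAlgX

universe u

/-- Regularity descends along faithfully flat ring maps. -/
theorem isRegularRing_of_faithfullyFlat (A B : Type u) [CommRing A] [CommRing B] [Algebra A B]
    [Module.FaithfullyFlat A B] [IsNoetherianRing A] [IsRegularRing B] : IsRegularRing A := by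
  refine isRegularRing_iff.2 (fun p hp => ?_)
  haveI := hp
  obtain ⟨⟨P, hP⟩, hPp⟩ := PrimeSpectrum.comap_surjective_of_faithfullyFlat (A := A) (B := B)
    ⟨p, hp⟩
  haveI := hP
  haveI : P.LiesOver p := ⟨by
    have := congrArg PrimeSpectrum.asIdeal hPp
    exact this.symm⟩
  exact Groth.Agent.Helper8.FlatReg.isRegularLocalRing_of_flat_liesOver A B p P inferInstance

/-- Regularity of `k' ⊗ A` passes to `k' ⊗ M⁻¹A`. -/
theorem isRegularRing_tensor_localization {k A : Type u} [Field k] [CommRing A] [Algebra k A]
    (k' : Type u) [Field k'] [Algebra k k'] (h : IsRegularRing (k' ⊗[k] A)) (M : Submonoid A) :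
    IsRegularRing (k' ⊗[k] Localization M) := by
  haveI := h
  haveI : IsRegularRing (A ⊗[k] k') :=
    IsRegularRing.of_ringEquiv (Algebra.TensorProduct.comm k k' A).toRingEquiv
  haveI : IsRegularRing (Localization (Algebra.algebraMapSubmonoid (A ⊗[k] k') M)) :=
    Groth.Agent.Helper9.Reg5807.isRegularRing_localization
      (Algebra.algebraMapSubmonoid (A ⊗[k] k') M) _
  let e₁ : k' ⊗[k] Localization M ≃+* Localization M ⊗[k] k' :=
    (Algebra.TensorProduct.comm k k' (Localization M)).toRingEquiv
  let e₂ : Localization M ⊗[k] k' ≃+* Localization M ⊗[A] (A ⊗[k] k') :=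
    (Algebra.TensorProduct.cancelBaseChange k A (Localization M) (Localization M)
      k').symm.toRingEquiv
  let e₃ : Localization M ⊗[A] (A ⊗[k] k') ≃+* (A ⊗[k] k') ⊗[A] Localization M :=
    (Algebra.TensorProduct.comm A (Localization M) (A ⊗[k] k')).toRingEquiv
  let e₄ : (A ⊗[k] k') ⊗[A] Localization M ≃+*
      Localization (Algebra.algebraMapSubmonoid (A ⊗[k] k') M) :=
    (Localization.tensorLeftAlgEquiv M (A ⊗[k] k')).toRingEquiv
  exact IsRegularRing.of_ringEquiv (((e₁.trans e₂).trans e₃).trans e₄).symm

/-- Geometric regularity can be tested on finite purely inseparable extensions. -/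
theorem isGeometricallyRegular_of_purelyInseparable {k S : Type u} [Field k] [CommRing S]
    [Algebra k S] [IsNoetherianRing S]
    (h : ∀ (k' : Type u) [Field k'] [Algebra k k'], Module.Finite k k' →
      IsPurelyInseparable k k' → IsRegularRing (k' ⊗[k] S)) :
    CAlg.IsGeometricallyRegular k S := by
  obtain ⟨q, hq⟩ := ExpChar.exists k
  refine Groth.Agent.Helper8.PRad.isGeometricallyRegular_of_localizations (fun m hm => ?_)
  haveI := hm
  haveI : m.IsPrime := hm.isPrime
  refine Groth.Agent.Helper8.PRad.isGeometricallyRegular_iff_isAdicFormallySmooth.2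
    (Groth.Agent.Helper8.PRad.isAdicFormallySmooth_of_hyp q (fun k' _ _ hfin hpow => ?_))
  have hpi : IsPurelyInseparable k k' := by
    rw [isPurelyInseparable_iff_pow_mem k q]
    intro x
    exact ⟨1, by rw [pow_one]; exact hpow x⟩
  exact isRegularRing_tensor_localization k' (h k' hfin hpi) m.primeCompl

end Groth.Agent.Helper8.GRBase
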