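import Mathlib
import Groth.Prelude.Def_CAlgX
import Groth.Prelude.Def_Found
import Groth.Agent.Lib.Helper8.GRBase2
import Groth.Agent.Lib.Helper8.CompFib1

/-!
# Geometric regularity: descent along field extensions
-/

set_option autoImplicit false

namespace Groth.Agent.Helper8.GRBase

open IsLocalRing TensorProduct CAlgX

universe u

/-- Regularity of `K' ⊗ S` descends to `k' ⊗ S` for a subextension `k' ⊆ K'`. -/
theorem isRegularRing_tensor_of_tower {k S : Type u} [Field k] [CommRing S] [Algebra k S]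
    (k' K' : Type u) [Field k'] [Field K'] [Algebra k k'] [Algebra k K'] [Algebra k' K']
    [IsScalarTower k k' K'] [IsNoetherianRing (k' ⊗[k] S)] (h : IsRegularRing (K' ⊗[k] S)) :
    IsRegularRing (k' ⊗[k] S) := by
  haveI := h
  let e₁ : K' ⊗[k'] (k' ⊗[k] S) ≃+* K' ⊗[k] S :=
    (Algebra.TensorProduct.cancelBaseChange k k' K' K' S).toRingEquiv
  let e₂ : (k' ⊗[k] S) ⊗[k'] K' ≃+* K' ⊗[k'] (k' ⊗[k] S) :=
    (Algebra.TensorProduct.comm k' (k' ⊗[k] S) K').toRingEquiv
  haveI : IsRegularRing ((k' ⊗[k] S) ⊗[k'] K') :=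
    IsRegularRing.of_ringEquiv (e₂.trans e₁).symm
  exact isRegularRing_of_faithfullyFlat (k' ⊗[k] S) ((k' ⊗[k] S) ⊗[k'] K')

/-- A common finite overfield. -/
theorem exists_compositum (k K k' : Type u) [Field k] [Field K] [Field k'] [Algebra k K]
    [Algebra k k'] [Module.Finite k k'] :
    ∃ (K' : Type u) (_ : Field K') (_ : Algebra K K') (_ : Algebra k' K') (_ : Algebra k K'),
      IsScalarTower k K K' ∧ IsScalarTower k k' K' ∧ Module.Finite K K' := by
  obtain ⟨M, hM⟩ := Ideal.exists_maximal (K ⊗[k] k')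
  haveI := hM
  letI : Field ((K ⊗[k] k') ⧸ M) := Ideal.Quotient.field M
  let φ : k' →ₐ[k] (K ⊗[k] k') ⧸ M :=
    (Ideal.Quotient.mkₐ k M).comp (Algebra.TensorProduct.includeRight : k' →ₐ[k] K ⊗[k] k')
  letI : Algebra k' ((K ⊗[k] k') ⧸ M) := φ.toRingHom.toAlgebra
  refine ⟨(K ⊗[k] k') ⧸ M, inferInstance, inferInstance, inferInstance, inferInstance,
    inferInstance, IsScalarTower.of_algebraMap_eq (fun c => (φ.commutes c).symm), ?_⟩
  exact Module.Finite.of_surjective (Ideal.Quotient.mkₐ K M).toLinearMap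
    (Ideal.Quotient.mkₐ_surjective K M)

/-- Geometric regularity descends along extensions of the base field. -/
theorem isGeometricallyRegular_of_tensor {k S : Type u} [Field k] [CommRing S] [Algebra k S]
    [IsNoetherianRing S] (K : Type u) [Field K] [Algebra k K]
    (h : CAlg.IsGeometricallyRegular K (K ⊗[k] S)) : CAlg.IsGeometricallyRegular k S := by
  intro k' _ _ hfin
  haveI := hfin
  obtain ⟨K', _, _, _, _, _, _, hK'⟩ := exists_compositum k K k'
  haveI : IsRegularRing (K' ⊗[K] (K ⊗[k] S)) := h K' hK'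
  have h1 : IsRegularRing (K' ⊗[k] S) :=
    IsRegularRing.of_ringEquiv (Algebra.TensorProduct.cancelBaseChange k K K' K' S).toRingEquiv
  haveI : IsNoetherianRing (k' ⊗[k] S) :=
    Groth.Agent.Helper8.CompFib.isNoetherianRing_tensor_of_finite k S k'
  exact isRegularRing_tensor_of_tower k' K' h1

end Groth.Agent.Helper8.GRBase
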