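import Mathlib
import Groth.Prelude.Def_CAlgX
import Groth.Prelude.Def_Found
import Groth.Agent.Lib.Helper8.GRBase3
import Groth.Agent.Lib.Helper8.AdicFS17

/-!
# Base change of regular homomorphisms
-/

set_option autoImplicit false

namespace Groth.Agent.Helper8.GRBase

open IsLocalRing TensorProduct CAlgX

universe u

/-- Geometric regularity is invariant under isomorphisms of algebras. -/
theorem isGeometricallyRegular_of_algEquiv {K A B : Type u} [Field K] [CommRing A] [CommRing B]
    [Algebra K A] [Algebra K B] (e : A ≃ₐ[K] B) (h : CAlg.IsGeometricallyRegular K A) :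
    CAlg.IsGeometricallyRegular K B := by
  intro k' _ _ hfin
  haveI := h k' hfin
  exact IsRegularRing.of_ringEquiv
    (Algebra.TensorProduct.congr (AlgEquiv.refl : k' ≃ₐ[K] k') e).toRingEquiv

section fibre

variable (A B A' : Type u) [CommRing A] [CommRing B] [CommRing A'] [Algebra A B] [Algebra A A']
  (p' : Ideal A') [p'.IsPrime]

/-- The residue field extension attached to a prime of `A'` and its contraction to `A`. -/
noncomputable abbrev resAlgebra :
    Algebra (p'.comap (algebraMap A A')).ResidueField p'.ResidueField :=
  (Ideal.ResidueField.map (p'.comap (algebraMap A A')) p' (algebraMap A A') rfl).toAlgebra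

theorem resAlgebra_isScalarTower :
    letI := resAlgebra A A' p'
    IsScalarTower A (p'.comap (algebraMap A A')).ResidueField p'.ResidueField := by
  letI := resAlgebra A A' p'
  refine IsScalarTower.of_algebraMap_eq (fun a => ?_)
  rw [RingHom.algebraMap_toAlgebra, Ideal.ResidueField.map_algebraMap,
    ← IsScalarTower.algebraMap_apply]

/-- The fibre of the base change over `p'` is the base change of the fibre over the
contraction. -/
noncomputable def fibreEquiv :
    letI := resAlgebra A A' p'
    p'.Fiber (A' ⊗[A] B) ≃ₐ[p'.ResidueField]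
      p'.ResidueField ⊗[(p'.comap (algebraMap A A')).ResidueField]
        ((p'.comap (algebraMap A A')).Fiber B) := by
  letI := resAlgebra A A' p'
  haveI := resAlgebra_isScalarTower A A' p'
  exact (Algebra.TensorProduct.cancelBaseChange A A' p'.ResidueField p'.ResidueField B).trans
    (Algebra.TensorProduct.cancelBaseChange A (p'.comap (algebraMap A A')).ResidueField
      p'.ResidueField p'.ResidueField B).symm

end fibre

section main

variable (A B A' : Type u) [CommRing A] [CommRing B] [CommRing A'] [Algebra A B] [Algebra A A']

/-- Base change of a regular homomorphism, assuming that the fibres of the base change are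
Noetherian. -/
theorem isRegularHom_baseChange (h : CAlg.IsRegularHom A B)
    (hN : ∀ (p' : Ideal A') [p'.IsPrime], IsNoetherianRing (p'.Fiber (A' ⊗[A] B))) :
    CAlg.IsRegularHom A' (A' ⊗[A] B) := by
  haveI : Module.Flat A B := h.1
  refine ⟨inferInstance, fun p' hp' => ?_⟩
  haveI := hp'
  refine ⟨hN p', ?_⟩
  letI := resAlgebra A A' p'
  haveI := resAlgebra_isScalarTower A A' p'
  obtain ⟨hNp, hGR⟩ := h.2 (p'.comap (algebraMap A A'))
  haveI := hNp
  haveI := hN p'
  haveI : IsNoetherianRing (p'.ResidueField ⊗[(p'.comap (algebraMap A A')).ResidueField]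
      ((p'.comap (algebraMap A A')).Fiber B)) :=
    isNoetherianRing_of_ringEquiv _ (fibreEquiv A B A' p').toRingEquiv
  exact isGeometricallyRegular_of_algEquiv (fibreEquiv A B A' p').symm
    (isGeometricallyRegular_tensor p'.ResidueField hGR)

/-- The fibres of the base change are Noetherian when `A'` is of finite type. -/
theorem isNoetherianRing_fiber_baseChange_of_finiteType [Algebra.FiniteType A A']
    (h : CAlg.IsRegularHom A B) (p' : Ideal A') [p'.IsPrime] :
    IsNoetherianRing (p'.Fiber (A' ⊗[A] B)) := by
  letI := resAlgebra A A' p'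
  haveI := resAlgebra_isScalarTower A A' p'
  obtain ⟨hNp, -⟩ := h.2 (p'.comap (algebraMap A A'))
  haveI := hNp
  haveI : Algebra.EssFiniteType A p'.ResidueField := Algebra.EssFiniteType.comp A A' _
  haveI : Algebra.EssFiniteType (p'.comap (algebraMap A A')).ResidueField p'.ResidueField :=
    Algebra.EssFiniteType.of_comp A _ _
  haveI := isNoetherianRing_tensor_of_essFiniteType (p'.comap (algebraMap A A')).ResidueField
    ((p'.comap (algebraMap A A')).Fiber B) p'.ResidueField
  exact isNoetherianRing_of_ringEquiv _ (fibreEquiv A B A' p').symm.toRingEquiv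

/-- Descent of regular homomorphisms along faithfully flat base change. -/
theorem isRegularHom_of_baseChange [Module.FaithfullyFlat A A'] [IsNoetherianRing B]
    (h : CAlg.IsRegularHom A' (A' ⊗[A] B)) : CAlg.IsRegularHom A B := by
  haveI : Module.Flat A' (A' ⊗[A] B) := h.1
  refine ⟨Module.Flat.of_flat_tensorProduct A B A', fun p hp => ?_⟩
  haveI := hp
  haveI := Groth.Agent.Helper8.AdicFS.isNoetherianRing_fiber A B p
  refine ⟨inferInstance, ?_⟩
  obtain ⟨⟨p', hp'⟩, hpp⟩ := PrimeSpectrum.comap_surjective_of_faithfullyFlat (A := A) (B := A')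
    ⟨p, hp⟩
  haveI := hp'
  have hcomap : p'.comap (algebraMap A A') = p := congrArg PrimeSpectrum.asIdeal hpp
  subst hcomap
  letI := resAlgebra A A' p'
  haveI := resAlgebra_isScalarTower A A' p'
  obtain ⟨-, hGR'⟩ := h.2 p'
  have h1 : CAlg.IsGeometricallyRegular p'.ResidueField
      (p'.ResidueField ⊗[(p'.comap (algebraMap A A')).ResidueField]
        ((p'.comap (algebraMap A A')).Fiber B)) :=
    isGeometricallyRegular_of_algEquiv (fibreEquiv A B A' p') hGR'
  exact isGeometricallyRegular_of_tensor p'.ResidueField h1

end main

end Groth.Agent.Helper8.GRBase
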