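import Mathlib
import Groth.Prelude
import Groth.Agent.S9293
import Groth.Agent.Lib.Helper8.GRing1
import Groth.Agent.Lib.Helper8.GRing2
import Groth.Agent.Lib.Helper8.GRing4
import Groth.Agent.Lib.Helper8.CompFib4
import Groth.Agent.Lib.Helper8.Fib5
import Groth.Agent.Lib.Helper7.Hensel.FiniteDecompMain

/-!
# Finite transfer of the regularity of the completion map (EGA IV 7.4.4 / Matsumura 32.?)
-/

set_option autoImplicit false

universe u

namespace Groth.Agent.Helper8.GRing

open IsLocalRing TensorProduct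

section finite

variable (A₁ D : Type u) [CommRing A₁] [CommRing D] [IsNoetherianRing A₁] [Algebra A₁ D]
  [Module.Finite A₁ D] (p' : Ideal D) [p'.IsPrime]

/-- The homomorphism `(A₁_q)^ → κ(p')`, `q = p' ∩ A₁`. -/
noncomputable def toResidue :
    EGA4.Cpl (Localization.AtPrime (p'.under A₁)) →ₐ[A₁] p'.ResidueField :=
  { ((Ideal.ResidueField.map (p'.under A₁) p' (algebraMap A₁ D) rfl).comp
      ((AdicCompletion.evalOneₐ (maximalIdeal (Localization.AtPrime (p'.under A₁)))).toRingHom :
        EGA4.Cpl (Localization.AtPrime (p'.under A₁)) →+* (p'.under A₁).ResidueField)) with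
    commutes' := by
      intro a
      show (Ideal.ResidueField.map (p'.under A₁) p' (algebraMap A₁ D) rfl)
        ((AdicCompletion.evalOneₐ (maximalIdeal (Localization.AtPrime (p'.under A₁))))
          (algebraMap A₁ (EGA4.Cpl (Localization.AtPrime (p'.under A₁))) a)) = _
      rw [IsScalarTower.algebraMap_apply A₁ (Localization.AtPrime (p'.under A₁))
        (EGA4.Cpl (Localization.AtPrime (p'.under A₁))), AlgHom.commutes]
      have h1 : algebraMap (Localization.AtPrime (p'.under A₁))
          (Localization.AtPrime (p'.under A₁) ⧸ maximalIdeal (Localization.AtPrime (p'.under A₁)))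
          (algebraMap A₁ (Localization.AtPrime (p'.under A₁)) a) =
          algebraMap A₁ (p'.under A₁).ResidueField a := rfl
      rw [h1, Ideal.ResidueField.map_algebraMap, ← IsScalarTower.algebraMap_apply] }

omit [Module.Finite A₁ D] in
theorem toResidue_mem (c : EGA4.Cpl (Localization.AtPrime (p'.under A₁)))
    (hc : c ∈ maximalIdeal (EGA4.Cpl (Localization.AtPrime (p'.under A₁)))) :
    toResidue A₁ D p' c = 0 := by
  have h1 : c ∈ RingHom.ker
      (AdicCompletion.evalOneₐ (maximalIdeal (Localization.AtPrime (p'.under A₁)))).toRingHom := by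
    rw [AdicCompletion.ker_evalOneₐ_eq_map _ (IsNoetherian.noetherian _),
      ← AdicCompletion.maximalIdeal_eq_map]
    exact hc
  show (Ideal.ResidueField.map (p'.under A₁) p' (algebraMap A₁ D) rfl)
    ((AdicCompletion.evalOneₐ (maximalIdeal (Localization.AtPrime (p'.under A₁)))) c) = 0
  have h2 : (AdicCompletion.evalOneₐ (maximalIdeal (Localization.AtPrime (p'.under A₁)))) c = 0 :=
    h1
  rw [h2]
  exact map_zero (Ideal.ResidueField.map (p'.under A₁) p' (algebraMap A₁ D) rfl)

/-- The homomorphism `D ⊗ (A₁_q)^ → κ(p')`. -/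
noncomputable def chi :
    D ⊗[A₁] EGA4.Cpl (Localization.AtPrime (p'.under A₁)) →ₐ[A₁] p'.ResidueField :=
  Algebra.TensorProduct.lift (IsScalarTower.toAlgHom A₁ D p'.ResidueField) (toResidue A₁ D p')
    (fun _ _ => Commute.all _ _)

omit [IsNoetherianRing A₁] [Module.Finite A₁ D] in
theorem chi_tmul (d : D) (c : EGA4.Cpl (Localization.AtPrime (p'.under A₁))) :
    chi A₁ D p' (d ⊗ₜ c) = algebraMap D p'.ResidueField d * toResidue A₁ D p' c := by
  unfold chi
  rw [Algebra.TensorProduct.lift_tmul]
  rfl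

attribute [local instance] Algebra.TensorProduct.rightAlgebra in
/-- **Finite transfer.** If `D` is a finite algebra over the Noetherian ring `A₁`, `p'` a prime of
`D` and the completion map of `(A₁)_{p' ∩ A₁}` is regular, so is the completion map of `D_{p'}`. -/
theorem isRegularHom_cpl_of_finite
    (hReg : CAlg.IsRegularHom (Localization.AtPrime (p'.under A₁))
      (EGA4.Cpl (Localization.AtPrime (p'.under A₁)))) :
    CAlg.IsRegularHom (Localization.AtPrime p') (EGA4.Cpl (Localization.AtPrime p')) := by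
  classical
  set q := p'.under A₁ with hq
  set B₀ := Localization.AtPrime q with hB₀
  set C := EGA4.Cpl B₀ with hC
  haveI : IsNoetherianRing D :=
    isNoetherian_of_tower A₁ (isNoetherian_of_isNoetherianRing_of_finite A₁ D)
  haveI : IsNoetherianRing C := Groth.Agent.Helper8.AdicReg.isNoetherianRing B₀ _
  -- `A₁ → C` is regular
  have hA₁B₀ : CAlg.IsRegularHom A₁ B₀ := isRegularHom_of_isLocalization q.primeCompl
  have hA₁C : CAlg.IsRegularHom A₁ C :=
    Groth.Agent.Helper8.CompFib.isRegularHom_comp A₁ B₀ C hA₁B₀ hReg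
      (fun P _ => Groth.Agent.Helper8.Fib.isNoetherianRing_fiber (S := C) P)
  -- base change
  have hDR : CAlg.IsRegularHom D (D ⊗[A₁] C) := Groth.Agent.S9293.result A₁ C D hA₁C
  haveI : Module.Finite C (D ⊗[A₁] C) :=
    Module.Finite.equiv (Algebra.TensorProduct.commRight A₁ C D).toLinearEquiv
  haveI : IsNoetherianRing (D ⊗[A₁] C) :=
    isNoetherian_of_tower C (isNoetherian_of_isNoetherianRing_of_finite C (D ⊗[A₁] C))
  -- the maximal ideal above `p'`
  let M : Ideal (D ⊗[A₁] C) := RingHom.ker (chi A₁ D p').toRingHom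
  haveI hMprime : M.IsPrime := RingHom.ker_isPrime _
  have hMD : ∀ d : D, (d ⊗ₜ[A₁] (1 : C)) ∈ M ↔ d ∈ p' := by
    intro d
    show chi A₁ D p' (d ⊗ₜ 1) = 0 ↔ _
    rw [chi_tmul, map_one, mul_one, Ideal.algebraMap_residueField_eq_zero]
  have hMC : ∀ c : C, c ∈ maximalIdeal C → ((1 : D) ⊗ₜ[A₁] c) ∈ M := by
    intro c hc
    show chi A₁ D p' (1 ⊗ₜ c) = 0
    rw [chi_tmul, toResidue_mem A₁ D p' c hc, mul_zero]
  have hMmax : M.IsMaximal := by
    apply Ideal.isMaximal_of_isIntegral_of_isMaximal_comap (R := C) M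
    have h1 : maximalIdeal C ≤ M.comap (algebraMap C (D ⊗[A₁] C)) := fun c hc => hMC c hc
    have h2 : M.comap (algebraMap C (D ⊗[A₁] C)) ≤ maximalIdeal C :=
      IsLocalRing.le_maximalIdeal (Ideal.IsPrime.ne_top (Ideal.comap_isPrime _ M))
    rw [le_antisymm h2 h1]
    exact maximalIdeal.isMaximal C
  -- the idempotent decomposition
  haveI : HenselianLocalRing C := henselianLocalRing_of_isAdicComplete C
  haveI := Groth.Agent.Helper7.Hensel.finite_maximalSpectrum C (D ⊗[A₁] C)
  haveI : Fintype (MaximalSpectrum (D ⊗[A₁] C)) := Fintype.ofFinite _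
  obtain ⟨e, he, h1e, h2e, hloc⟩ :=
    Groth.Agent.Helper7.Hensel.exists_idempotents_local C (D ⊗[A₁] C)
  let Mx : MaximalSpectrum (D ⊗[A₁] C) := ⟨M, hMmax⟩
  set S := (D ⊗[A₁] C) ⧸ Ideal.span {1 - e Mx} with hS
  haveI : IsLocalRing S := hloc Mx
  haveI : IsNoetherianRing S := inferInstance
  -- `D ⊗ C → S` is a localization
  haveI : IsLocalization.Away (e Mx) S :=
    IsLocalization.Away.quotient_of_isIdempotentElem (he.idem Mx)
  have hRS : CAlg.IsRegularHom (D ⊗[A₁] C) S :=
    isRegularHom_of_isLocalization (Submonoid.powers (e Mx))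
  have hDS : CAlg.IsRegularHom D S :=
    Groth.Agent.Helper8.CompFib.isRegularHom_comp D (D ⊗[A₁] C) S hDR hRS
      (fun P _ => Groth.Agent.Helper8.Fib.isNoetherianRing_fiber (S := S) P)
  -- the maximal ideal of `S` pulls back to `M`
  have hcomap : (maximalIdeal S).comap (Ideal.Quotient.mk (Ideal.span {1 - e Mx})) = M := by
    haveI hNmax : ((maximalIdeal S).comap (Ideal.Quotient.mk (Ideal.span {1 - e Mx}))).IsMaximal :=
      Ideal.comap_isMaximal_of_surjective _ Ideal.Quotient.mk_surjective
    by_contra hne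
    let Nx : MaximalSpectrum (D ⊗[A₁] C) := ⟨_, hNmax⟩
    have hNe : Nx ≠ Mx := fun h => hne (congrArg MaximalSpectrum.asIdeal h)
    have h3 : e Mx ∈ Nx.asIdeal := h2e Mx Nx hNe
    have h4 : (1 - e Mx) ∈ Nx.asIdeal := by
      show Ideal.Quotient.mk (Ideal.span {1 - e Mx}) (1 - e Mx) ∈ maximalIdeal S
      have h0 : Ideal.Quotient.mk (Ideal.span {1 - e Mx}) (1 - e Mx) = 0 :=
        Ideal.Quotient.eq_zero_iff_mem.2 (Ideal.subset_span (Set.mem_singleton _))
      rw [h0]
      exact zero_mem _
    have h5 : (1 : D ⊗[A₁] C) ∈ Nx.asIdeal := by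
      have := Nx.asIdeal.add_mem h3 h4
      simpa using this
    exact hNmax.ne_top ((Ideal.eq_top_iff_one _).2 h5)
  let ιDS : D →+* S := algebraMap D S
  have hDSmem : ∀ d : D, ιDS d ∈ (maximalIdeal S : Ideal S) ↔ d ∈ p' := by
    intro d
    rw [← hMD d, ← hcomap]
    rfl
  -- `S` is an algebra over the local ring of `D` at `p'`
  have hunit : ∀ d : p'.primeCompl, IsUnit (ιDS (d : D)) := by
    intro d
    by_contra hnu
    exact d.2 ((hDSmem d).1 ((mem_maximalIdeal _).2 hnu))
  let φ : Localization.AtPrime p' →+* S :=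
    IsLocalization.lift (M := p'.primeCompl) (S := Localization.AtPrime p') (P := S) (g := ιDS)
      hunit
  letI algLS : Algebra (Localization.AtPrime p') S :=
    @RingHom.toAlgebra (Localization.AtPrime p') S _ _ φ
  haveI : IsScalarTower D (Localization.AtPrime p') S :=
    IsScalarTower.of_algebraMap_eq (fun a =>
      (IsLocalization.lift_eq (M := p'.primeCompl) (S := Localization.AtPrime p') (P := S)
        (g := ιDS) hunit a).symm)
  have hAS : CAlg.IsRegularHom (Localization.AtPrime p') S :=
    isRegularHom_of_isLocalization_source p'.primeCompl hDS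
  haveI : IsLocalHom (algebraMap (Localization.AtPrime p') S) := by
    have htfae := IsLocalRing.local_hom_TFAE (algebraMap (Localization.AtPrime p') S)
    apply (htfae.out 0 2).mpr
    have hmax : maximalIdeal (Localization.AtPrime p') =
        p'.map (algebraMap D (Localization.AtPrime p')) :=
      Localization.AtPrime.map_eq_maximalIdeal.symm
    rw [hmax, Ideal.map_map, ← IsScalarTower.algebraMap_eq, Ideal.map_le_iff_le_comap]
    intro d hd
    exact (hDSmem d).2 hd
  -- `S` is complete
  haveI : Module.Finite C S := Module.Finite.quotient C _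
  haveI hcomp := isAdicComplete_of_finite_local C S
  have hS' : CAlg.IsRegularHom S (EGA4.Cpl S) := isRegularHom_cpl_of_isAdicComplete S
  exact Groth.Agent.Helper8.CompFib.isRegularHom_cpl_of_isRegularHom_to_local
    (Localization.AtPrime p') S hAS hS'

end finite

end Groth.Agent.Helper8.GRing
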