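import Mathlib
import Groth.Prelude
import Groth.Agent.Lib.Helper8.GRing6

/-!
# Formal fibres of a local ring of `R` through the local rings of the quotient domains of `R`
-/

set_option autoImplicit false

universe u

namespace Groth.Agent.Helper8.GRing

open IsLocalRing TensorProduct CAlgX

section quotloc

variable (R : Type u) [CommRing R] (p : Ideal R) [p.IsPrime]
  (s : Ideal (Localization.AtPrime p)) [s.IsPrime]

theorem under_le : s.under R ≤ p := by
  intro x hx
  have h1 : x ∈ (maximalIdeal (Localization.AtPrime p)).under R :=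
    IsLocalRing.le_maximalIdeal (Ideal.IsPrime.ne_top inferInstance) hx
  rw [IsLocalization.AtPrime.under_maximalIdeal (Localization.AtPrime p) p] at h1
  exact h1

/-- The prime of `R/𝔰` corresponding to `p`. -/
theorem exists_prime_quotient :
    ∃ p' : Ideal (R ⧸ s.under R), p'.IsPrime ∧
      p'.comap (Ideal.Quotient.mk (s.under R)) = p := by
  refine ⟨p.map (Ideal.Quotient.mk (s.under R)),
    Ideal.map_isPrime_of_surjective Ideal.Quotient.mk_surjective ?_, ?_⟩
  · rw [Ideal.mk_ker]; exact under_le R p s
  · rw [Ideal.comap_map_of_surjective _ Ideal.Quotient.mk_surjective, ← RingHom.ker_eq_comap_bot,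
      Ideal.mk_ker, sup_eq_left]
    exact under_le R p s

variable (p' : Ideal (R ⧸ s.under R)) [p'.IsPrime]
  (hp' : p'.comap (Ideal.Quotient.mk (s.under R)) = p)

omit [s.IsPrime] in
include hp' in
theorem map_primeCompl_eq :
    p.primeCompl.map (Ideal.Quotient.mk (s.under R)) = p'.primeCompl := by
  ext x
  constructor
  · rintro ⟨r, hr, rfl⟩
    intro hmem
    apply hr
    rw [← hp']
    exact hmem
  · intro hx
    obtain ⟨r, rfl⟩ := Ideal.Quotient.mk_surjective x
    refine ⟨r, ?_, rfl⟩
    intro hr
    apply hx
    rw [← hp'] at hr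
    exact hr

omit [s.IsPrime] in
include hp' in
theorem isLocalization_quotient :
    IsLocalization.AtPrime (Localization.AtPrime p ⧸ s) p' := by
  have h1 : IsLocalization (p.primeCompl.map (Ideal.Quotient.mk (s.under R)))
      (Localization.AtPrime p ⧸ s) := by
    refine IsLocalization.of_surjective p.primeCompl (Localization.AtPrime p)
      (Ideal.Quotient.mk (s.under R)) Ideal.Quotient.mk_surjective
      (Ideal.Quotient.mk s) Ideal.Quotient.mk_surjective rfl ?_
    rw [Ideal.mk_ker, Ideal.mk_ker]
    exact (IsLocalization.map_under p.primeCompl (Localization.AtPrime p) s).ge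
  rw [map_primeCompl_eq R p s p' hp'] at h1
  exact h1

end quotloc

/-- **Formal fibres through quotient domains.** -/
theorem isGeometricallyRegular_fiber_of_quotient_localization (R : Type u) [CommRing R]
    [IsNoetherianRing R] (p : Ideal R) [p.IsPrime]
    (s : Ideal (Localization.AtPrime p)) [s.IsPrime]
    (p' : Ideal (R ⧸ s.under R)) [p'.IsPrime]
    (hp' : p'.comap (Ideal.Quotient.mk (s.under R)) = p)
    (H : CAlg.IsRegularHom (Localization.AtPrime p') (EGA4.Cpl (Localization.AtPrime p'))) :
    CAlg.IsGeometricallyRegular s.ResidueField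
      (s.Fiber (EGA4.Cpl (Localization.AtPrime p))) := by
  haveI := isLocalization_quotient R p s p' hp'
  let e : Localization.AtPrime p' ≃ₐ[R ⧸ s.under R] (Localization.AtPrime p ⧸ s) :=
    IsLocalization.algEquiv p'.primeCompl _ _
  have h1 : CAlg.IsRegularHom (Localization.AtPrime p ⧸ s)
      (EGA4.Cpl (Localization.AtPrime p ⧸ s)) :=
    isRegularHom_cpl_of_ringEquiv e.symm.toRingEquiv H
  exact isGeometricallyRegular_fiber_of_quotient (Localization.AtPrime p) s (h1.2 ⊥).2

end Groth.Agent.Helper8.GRing
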