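import Mathlib
import Groth.Prelude
import Groth.Agent.Lib.Helper8.GRing5
import Groth.Agent.Lib.Helper8.GRing7

/-!
# G-rings: finite algebras, reduction to the quotient domains, the regular case
-/

set_option autoImplicit false

universe u

namespace Groth.Agent.Helper8.GRing

open IsLocalRing TensorProduct CAlgX

/-- A finite algebra over a G-ring is a G-ring. -/
theorem isGRing_of_finite (A₁ D : Type u) [CommRing A₁] [CommRing D] [Algebra A₁ D]
    [Module.Finite A₁ D] (h : CAlg.IsGRing A₁) : CAlg.IsGRing D := by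
  haveI : IsNoetherianRing A₁ := h.1
  haveI : IsNoetherianRing D :=
    isNoetherian_of_tower A₁ (isNoetherian_of_isNoetherianRing_of_finite A₁ D)
  refine ⟨inferInstance, fun p' _ => ?_⟩
  exact isRegularHom_cpl_of_finite A₁ D p' (h.2 (p'.under A₁))

/-- The completion map of a Noetherian local ring is regular as soon as its fibres are
geometrically regular. -/
theorem isRegularHom_cpl_of_fibres (A : Type u) [CommRing A] [IsNoetherianRing A] [IsLocalRing A]
    (H : ∀ (s : Ideal A) [s.IsPrime],
      CAlg.IsGeometricallyRegular s.ResidueField (s.Fiber (EGA4.Cpl A))) :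
    CAlg.IsRegularHom A (EGA4.Cpl A) := by
  haveI : IsNoetherianRing (EGA4.Cpl A) := Groth.Agent.Helper8.AdicReg.isNoetherianRing A _
  refine ⟨inferInstance, fun s _ => ⟨?_, H s⟩⟩
  exact Groth.Agent.Helper8.Fib.isNoetherianRing_fiber (S := EGA4.Cpl A) s

/-- A Noetherian ring all of whose quotient domains are G-rings is a G-ring. -/
theorem isGRing_of_quotients (R : Type u) [CommRing R] [IsNoetherianRing R]
    (H : ∀ (𝔰 : Ideal R) [𝔰.IsPrime], CAlg.IsGRing (R ⧸ 𝔰)) : CAlg.IsGRing R := by
  refine ⟨inferInstance, fun p _ => ?_⟩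
  refine isRegularHom_cpl_of_fibres (Localization.AtPrime p) (fun s _ => ?_)
  obtain ⟨p', hp'prime, hp'⟩ := exists_prime_quotient R p s
  haveI := hp'prime
  exact isGeometricallyRegular_fiber_of_quotient_localization R p s p' hp'
    ((H (s.under R)).2 p')

/-- A Noetherian domain whose proper quotient domains are G-rings and whose local rings have
formally smooth generic formal fibres is a G-ring. -/
theorem isGRing_of_domain (R : Type u) [CommRing R] [IsDomain R] [IsNoetherianRing R]
    (H : ∀ (𝔰 : Ideal R) [𝔰.IsPrime], 𝔰 ≠ ⊥ → CAlg.IsGRing (R ⧸ 𝔰))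
    (H0 : ∀ (P : Ideal R) [P.IsPrime] (r : Ideal (EGA4.Cpl (Localization.AtPrime P))) [r.IsPrime],
      r.comap (algebraMap (Localization.AtPrime P) (EGA4.Cpl (Localization.AtPrime P))) = ⊥ →
      IsAdicFormallySmooth (Localization.AtPrime P) (Localization.AtPrime r)
        (maximalIdeal (Localization.AtPrime r))) : CAlg.IsGRing R := by
  refine ⟨inferInstance, fun p _ => ?_⟩
  refine isRegularHom_cpl_of_fibres (Localization.AtPrime p) (fun s _ => ?_)
  by_cases hs : s.under R = ⊥
  · have hs' : (⊥ : Ideal (Localization.AtPrime p)) = s := by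
      rw [← IsLocalization.map_under p.primeCompl (Localization.AtPrime p) s, hs, Ideal.map_bot]
    haveI : IsNoetherianRing (EGA4.Cpl (Localization.AtPrime p)) :=
      Groth.Agent.Helper8.AdicReg.isNoetherianRing (Localization.AtPrime p) _
    exact isGeometricallyRegular_fiber_congr ⊥ s hs'
      (isGeometricallyRegular_bot_fiber (fun r _ hr => H0 p r hr))
  · obtain ⟨p', hp'prime, hp'⟩ := exists_prime_quotient R p s
    haveI := hp'prime
    exact isGeometricallyRegular_fiber_of_quotient_localization R p s p' hp'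
      ((H (s.under R) hs).2 p')

/-- A Cohen ring has characteristic zero. -/
theorem charZero_of_isCohenRing (Λ : Type u) [CommRing Λ] (h : CAlg.IsCohenRing Λ) :
    CharZero Λ := by
  obtain ⟨hdom, hdvr, -, p, hp, hmax⟩ := h
  haveI := hdom
  haveI := hdvr
  have hp0 : (p : Λ) ≠ 0 := by
    intro h0
    rw [h0, Ideal.span_singleton_eq_bot.2 rfl] at hmax
    exact IsDiscreteValuationRing.not_isField Λ (IsLocalRing.isField_iff_maximalIdeal_eq.2 hmax)
  obtain ⟨q, hq⟩ := CharP.exists Λ
  rcases CharP.char_is_prime_or_zero Λ q with hq' | hq'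
  · exfalso
    have h1 : (q : Λ) = 0 := CharP.cast_eq_zero Λ q
    have h2 : (q : Λ) ∈ maximalIdeal Λ := by rw [h1]; exact zero_mem _
    have hpm : (p : Λ) ∈ maximalIdeal Λ := by
      rw [hmax]; exact Ideal.subset_span (Set.mem_singleton _)
    by_cases hpq : p = q
    · exact hp0 (hpq ▸ h1)
    · have hcop : Nat.Coprime p q := (Nat.coprime_primes hp hq').2 hpq
      obtain ⟨a, b, hab⟩ : ∃ a b : ℤ, a * p + b * q = 1 := by
        have := Nat.Coprime.isCoprime hcop
        obtain ⟨a, b, hab⟩ := this
        exact ⟨a, b, hab⟩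
      have h3 : ((a : Λ) * (p : Λ) + (b : Λ) * (q : Λ)) = 1 := by
        have := congrArg (Int.cast : ℤ → Λ) hab
        push_cast at this
        exact this
      have h4 : (1 : Λ) ∈ maximalIdeal Λ := by
        rw [← h3]
        exact Ideal.add_mem _ (Ideal.mul_mem_left _ _ hpm) (Ideal.mul_mem_left _ _ h2)
      exact (Ideal.ne_top_iff_one _).1 (Ideal.IsPrime.ne_top inferInstance) h4
  · subst hq'
    exact CharP.charP_to_charZero Λ

end Groth.Agent.Helper8.GRing
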