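import Mathlib
import Groth.Prelude
import Groth.Agent.Lib.Helper8.GRing8
import Groth.Agent.Lib.Helper8.PSDer10
import Groth.Agent.Lib.Helper8.FinPS3
import Groth.Agent.Lib.Helper8.CohenFact6
import Groth.Agent.Lib.Helper8.IntegralDim

/-!
# A complete Noetherian local ring is a G-ring
-/

set_option autoImplicit false

universe u

namespace Groth.Agent.Helper8.GRing

open IsLocalRing TensorProduct CAlgX

theorem exists_lt_of_add_one_le {x : WithBot ℕ∞} (hx : 0 ≤ x) {d : ℕ} (h : x + 1 ≤ (d : WithBot ℕ∞)) :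
    ∃ d' : ℕ, d' < d ∧ x ≤ (d' : WithBot ℕ∞) := by
  induction x using WithBot.recBotCoe with
  | bot => exact absurd hx (by simp)
  | coe y =>
    induction y using ENat.recTopCoe with
    | top =>
      exfalso
      have h1 : ((⊤ : ℕ∞) : WithBot ℕ∞) + 1 = ((⊤ : ℕ∞) : WithBot ℕ∞) := by
        rw [← WithBot.coe_one, ← WithBot.coe_add, top_add]
      rw [h1] at h
      have h2 : ((⊤ : ℕ∞) : WithBot ℕ∞) ≤ ((d : ℕ∞) : WithBot ℕ∞) := h
      rw [WithBot.coe_le_coe, top_le_iff] at h2
      exact ENat.natCast_ne_top d h2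
    | coe m =>
      refine ⟨m, ?_, le_rfl⟩
      have h2 : (((m + 1 : ℕ) : ℕ∞) : WithBot ℕ∞) ≤ ((d : ℕ∞) : WithBot ℕ∞) := by
        push_cast
        exact h
      rw [WithBot.coe_le_coe, Nat.cast_le] at h2
      omega

/-- The induction hypothesis. -/
def IHyp (d : ℕ) : Prop :=
  ∀ d' < d, ∀ (R : Type u) [CommRing R] [IsLocalRing R] [IsNoetherianRing R]
    [IsAdicComplete (maximalIdeal R) R], ringKrullDim R ≤ (d' : WithBot ℕ∞) → CAlg.IsGRing R

section regular

variable (Λ : Type u) [CommRing Λ] [IsDomain Λ] [IsRegularLocalRing Λ]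
  [IsAdicComplete (maximalIdeal Λ) Λ] (n : ℕ)

/-- The power series case, given the generic formal fibres. -/
theorem isGRing_mvPowerSeries_aux (d : ℕ) (IH : IHyp.{u} d)
    (hd : ringKrullDim (MvPowerSeries (Fin n) Λ) ≤ (d : WithBot ℕ∞))
    (H0 : ∀ (P : Ideal (MvPowerSeries (Fin n) Λ)) [P.IsPrime]
      (r : Ideal (EGA4.Cpl (Localization.AtPrime P))) [r.IsPrime],
      r.comap (algebraMap (Localization.AtPrime P) (EGA4.Cpl (Localization.AtPrime P))) = ⊥ →
      IsAdicFormallySmooth (Localization.AtPrime P) (Localization.AtPrime r)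
        (maximalIdeal (Localization.AtPrime r))) :
    CAlg.IsGRing (MvPowerSeries (Fin n) Λ) := by
  haveI : IsNoetherianRing Λ := inferInstance
  haveI : IsDomain (MvPowerSeries (Fin n) Λ) := NoZeroDivisors.to_isDomain _
  haveI : IsNoetherianRing (MvPowerSeries (Fin n) Λ) := inferInstance
  haveI : IsAdicComplete (maximalIdeal (MvPowerSeries (Fin n) Λ)) (MvPowerSeries (Fin n) Λ) :=
    Groth.Agent.Helper3.ArtFunLib.isAdicComplete_ps_local
  refine isGRing_of_domain (MvPowerSeries (Fin n) Λ) (fun 𝔰 _ h𝔰 => ?_) H0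
  haveI : IsAdicComplete (maximalIdeal (MvPowerSeries (Fin n) Λ ⧸ 𝔰))
      (MvPowerSeries (Fin n) Λ ⧸ 𝔰) :=
    Groth.Agent.Helper8.CohenFact.isAdicComplete_of_surjective (Ideal.Quotient.mk 𝔰)
      Ideal.Quotient.mk_surjective
  obtain ⟨g, hg𝔰, hg0⟩ : ∃ g ∈ 𝔰, g ≠ 0 := by
    by_contra hcon
    refine h𝔰 ((Submodule.eq_bot_iff _).2 (fun x hx => ?_))
    by_contra hx0
    exact hcon ⟨x, hx, hx0⟩
  have h1 : ringKrullDim (MvPowerSeries (Fin n) Λ ⧸ 𝔰) ≤
      ringKrullDim (MvPowerSeries (Fin n) Λ ⧸ Ideal.span {g}) :=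
    ringKrullDim_le_of_surjective
      (Ideal.Quotient.factor ((Ideal.span_singleton_le_iff_mem _).2 hg𝔰))
      (Ideal.Quotient.factor_surjective _)
  have h2 := ringKrullDim_quotient_succ_le_of_nonZeroDivisor
    (mem_nonZeroDivisors_of_ne_zero hg0)
  have h3 : ringKrullDim (MvPowerSeries (Fin n) Λ ⧸ 𝔰) + 1 ≤ (d : WithBot ℕ∞) := by
    refine le_trans ?_ (h2.trans hd)
    gcongr
  obtain ⟨d', hd', hle⟩ := exists_lt_of_add_one_le ringKrullDim_nonneg_of_nontrivial h3
  exact IH d' hd' _ hle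

end regular

/-- Power series over a field. -/
theorem isGRing_mvPowerSeries_field (k : Type u) [Field k] (n : ℕ) (d : ℕ) (IH : IHyp.{u} d)
    (hd : ringKrullDim (MvPowerSeries (Fin n) k) ≤ (d : WithBot ℕ∞)) :
    CAlg.IsGRing (MvPowerSeries (Fin n) k) := by
  haveI : IsAdicComplete (maximalIdeal k) k := by
    rw [IsLocalRing.maximalIdeal_eq_bot]
    infer_instance
  refine isGRing_mvPowerSeries_aux k n d IH hd ?_
  intro P _ r _ hr
  obtain ⟨q, hq⟩ := CharP.exists k
  rcases CharP.char_is_prime_or_zero k q with hq' | hq'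
  · haveI : Fact q.Prime := ⟨hq'⟩
    exact Groth.Agent.Helper8.PSDer.isAdicFormallySmooth_loc_cpl_loc_of_charP q n P r hr
  · subst hq'
    haveI : CharZero k := CharP.charP_to_charZero k
    haveI : IsDomain (MvPowerSeries (Fin n) k) := NoZeroDivisors.to_isDomain _
    haveI : CharZero (MvPowerSeries (Fin n) k) :=
      charZero_of_injective_ringHom (MvPowerSeries.C_injective (σ := Fin n) (R := k))
    exact Groth.Agent.Helper8.PSDer.isAdicFormallySmooth_loc_cpl_loc_of_charZero P r hr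

/-- Power series over a Cohen ring. -/
theorem isGRing_mvPowerSeries_cohen (Λ : Type u) [CommRing Λ] (hΛ : CAlg.IsCohenRing Λ) (n : ℕ)
    (d : ℕ) (IH : IHyp.{u} d)
    (hd : ringKrullDim (MvPowerSeries (Fin n) Λ) ≤ (d : WithBot ℕ∞)) :
    CAlg.IsGRing (MvPowerSeries (Fin n) Λ) := by
  haveI : CharZero Λ := charZero_of_isCohenRing Λ hΛ
  obtain ⟨hdom, hdvr, hcompl, -⟩ := hΛ
  haveI := hdom
  haveI := hdvr
  haveI := hcompl
  refine isGRing_mvPowerSeries_aux Λ n d IH hd ?_
  intro P _ r _ hr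
  haveI : IsDomain (MvPowerSeries (Fin n) Λ) := NoZeroDivisors.to_isDomain _
  haveI : CharZero (MvPowerSeries (Fin n) Λ) :=
    charZero_of_injective_ringHom (MvPowerSeries.C_injective (σ := Fin n) (R := Λ))
  exact Groth.Agent.Helper8.PSDer.isAdicFormallySmooth_loc_cpl_loc_of_charZero P r hr

/-- A field structure on a commutative ring which is a field, extending the given ring
structure. -/
@[reducible] noncomputable def fieldOfIsField (k : Type u) [inst : CommRing k] (h : IsField k) :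
    Field k :=
  { inst, h.toField with }

/-- **A complete Noetherian local ring is a G-ring** (bounded dimension form). -/
theorem isGRing_of_isAdicComplete_aux (d : ℕ) :
    ∀ (R : Type u) [CommRing R] [IsLocalRing R] [IsNoetherianRing R]
      [IsAdicComplete (maximalIdeal R) R], ringKrullDim R ≤ (d : WithBot ℕ∞) →
      CAlg.IsGRing R := by
  induction d using Nat.strong_induction_on with
  | _ d IH =>
    intro R _ _ _ _ hd
    refine isGRing_of_quotients R (fun 𝔰 _ => ?_)
    haveI : IsAdicComplete (maximalIdeal (R ⧸ 𝔰)) (R ⧸ 𝔰) :=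
      Groth.Agent.Helper8.CohenFact.isAdicComplete_of_surjective (Ideal.Quotient.mk 𝔰)
        Ideal.Quotient.mk_surjective
    have hdD : ringKrullDim (R ⧸ 𝔰) ≤ (d : WithBot ℕ∞) := (ringKrullDim_quotient_le 𝔰).trans hd
    obtain ⟨Λ, instΛ, n, f, hΛ, hinj, hfin, -⟩ :=
      Groth.Agent.Helper8.FinPS.exists_finite_injective_of_domain (R ⧸ 𝔰)
    letI := f.toAlgebra
    haveI : Module.Finite (MvPowerSeries (Fin n) Λ) (R ⧸ 𝔰) := hfin
    haveI : Algebra.IsIntegral (MvPowerSeries (Fin n) Λ) (R ⧸ 𝔰) := inferInstance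
    have hdA : ringKrullDim (MvPowerSeries (Fin n) Λ) ≤ (d : WithBot ℕ∞) := by
      have h1 := Groth.Agent.Helper8.Depth.ringKrullDim_eq_quotient_ker_of_isIntegral
        (MvPowerSeries (Fin n) Λ) (R ⧸ 𝔰)
      have hker : RingHom.ker (algebraMap (MvPowerSeries (Fin n) Λ) (R ⧸ 𝔰)) = ⊥ :=
        (RingHom.injective_iff_ker_eq_bot _).1 hinj
      have h2 : ringKrullDim
          (MvPowerSeries (Fin n) Λ ⧸ (⊥ : Ideal (MvPowerSeries (Fin n) Λ))) =
          ringKrullDim (MvPowerSeries (Fin n) Λ) :=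
        ringKrullDim_eq_of_ringEquiv (RingEquiv.quotientBot (MvPowerSeries (Fin n) Λ))
      rw [hker, h2] at h1
      rw [← h1]
      exact hdD
    refine isGRing_of_finite (MvPowerSeries (Fin n) Λ) (R ⧸ 𝔰) ?_
    rcases hΛ with hΛ | hΛ
    · letI := fieldOfIsField Λ hΛ
      exact isGRing_mvPowerSeries_field Λ n d IH hdA
    · exact isGRing_mvPowerSeries_cohen Λ hΛ n d IH hdA

/-- **A complete Noetherian local ring is a G-ring.** -/
theorem isGRing_of_isAdicComplete (R : Type u) [CommRing R] [IsLocalRing R] [IsNoetherianRing R]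
    [IsAdicComplete (maximalIdeal R) R] : CAlg.IsGRing R := by
  obtain ⟨d, hd⟩ : ∃ d : ℕ, ringKrullDim R ≤ (d : WithBot ℕ∞) := by
    have h := ringKrullDim_lt_top (R := R)
    generalize ringKrullDim R = x at h
    induction x using WithBot.recBotCoe with
    | bot => exact ⟨0, bot_le⟩
    | coe y =>
      induction y using ENat.recTopCoe with
      | top => exact absurd h (by simp)
      | coe m => exact ⟨m, le_rfl⟩
  exact isGRing_of_isAdicComplete_aux d R hd

end Groth.Agent.Helper8.GRing
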