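import Mathlib
import Groth.Prelude
import Groth.Agent.Lib.Helper8.Andre1
import Groth.Agent.Lib.Helper8.FlatReg11
import Groth.Agent.Lib.Helper8.AdicFS16
import Groth.Agent.Lib.Helper8.AdicFS7
import Groth.Agent.Lib.Helper8.AdicFS6
import Groth.Agent.Lib.Helper8.GRing9

/-!
# The generic fibre of a formally smooth complete local algebra over a regular power series ring
-/

set_option autoImplicit false

universe u

namespace Groth.Agent.Helper8.Andre

open IsLocalRing CAlgX Groth.Agent.Helper8.PSDer

section regular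

variable {A₁ C₁ : Type u} [CommRing A₁] [IsRegularLocalRing A₁] [CommRing C₁] [IsLocalRing C₁]
  [IsNoetherianRing C₁] [Algebra A₁ C₁] [IsLocalHom (algebraMap A₁ C₁)]

/-- A Noetherian local ring formally smooth over a regular local ring is regular. -/
theorem isRegularLocalRing_of_isAdicFormallySmooth
    (hfs : IsAdicFormallySmooth A₁ C₁ (maximalIdeal C₁)) : IsRegularLocalRing C₁ := by
  haveI : IsNoetherianRing A₁ := inferInstance
  haveI : Module.Flat A₁ C₁ := Groth.Agent.Helper8.AdicFS.flat_of_isAdicFormallySmooth hfs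
  set K := (maximalIdeal A₁).map (algebraMap A₁ C₁) with hK
  have hKle : K ≤ maximalIdeal C₁ :=
    Groth.Agent.Helper8.AdicFS.map_maximalIdeal_le_of_isLocalHom _
  haveI : Nontrivial (C₁ ⧸ K) := Ideal.Quotient.nontrivial_iff.2
    (ne_top_of_le_ne_top (maximalIdeal.isMaximal C₁).ne_top hKle)
  haveI : IsLocalRing (C₁ ⧸ K) :=
    IsLocalRing.of_surjective' (Ideal.Quotient.mk K) Ideal.Quotient.mk_surjective
  letI : Field (A₁ ⧸ maximalIdeal A₁) := Ideal.Quotient.field _
  have h1 := Groth.Agent.Helper8.AdicFS.quotient_base hfs (maximalIdeal A₁)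
  rw [IsLocalRing.map_maximalIdeal_of_surjective _ Ideal.Quotient.mk_surjective] at h1
  haveI : IsRegularLocalRing (C₁ ⧸ K) :=
    (Groth.Agent.Helper8.AdicFS.regular_and_ringEquiv h1).1
  exact Groth.Agent.Helper8.FlatReg.isRegularLocalRing_of_flat_of_fibre A₁ C₁

end regular

section generic

variable {C₁ : Type u} [CommRing C₁] [IsLocalRing C₁] [IsNoetherianRing C₁]
  [IsAdicComplete (maximalIdeal C₁) C₁]

/-- Power series over a field. -/
theorem isGeometricallyRegular_bot_fiber_field (k : Type u) [Field k] (n : ℕ)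
    [Algebra (MvPowerSeries (Fin n) k) C₁] [IsLocalHom (algebraMap (MvPowerSeries (Fin n) k) C₁)]
    (hfs : IsAdicFormallySmooth (MvPowerSeries (Fin n) k) C₁ (maximalIdeal C₁)) :
    CAlg.IsGeometricallyRegular (⊥ : Ideal (MvPowerSeries (Fin n) k)).ResidueField
      ((⊥ : Ideal (MvPowerSeries (Fin n) k)).Fiber C₁) := by
  haveI : IsDomain (MvPowerSeries (Fin n) k) := NoZeroDivisors.to_isDomain _
  haveI : IsNoetherianRing (MvPowerSeries (Fin n) k) := inferInstance
  have hreg : IsRegularLocalRing C₁ := isRegularLocalRing_of_isAdicFormallySmooth hfs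
  refine Groth.Agent.Helper8.GRing.isGeometricallyRegular_bot_fiber (fun Q _ hQ => ?_)
  have hregQ : IsRegularLocalRing (Localization.AtPrime Q) :=
    Groth.Agent.Helper8.ABS.isRegularLocalRing_localization C₁ Q
  obtain ⟨q, hq⟩ := CharP.exists k
  rcases CharP.char_is_prime_or_zero k q with hq' | hq'
  · haveI : Fact q.Prime := ⟨hq'⟩
    exact isAdicFormallySmooth_localization_of_charP q n Q hQ hregQ
      (fun E => Groth.Agent.Helper8.DerExt.exists_derivation_extension _ C₁ hfs E)
  · subst hq'
    haveI : CharZero k := CharP.charP_to_charZero k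
    haveI : CharZero (MvPowerSeries (Fin n) k) :=
      charZero_of_injective_ringHom (MvPowerSeries.C_injective (σ := Fin n) (R := k))
    exact isAdicFormallySmooth_localization_of_charZero Q hQ hregQ

omit [IsAdicComplete (maximalIdeal C₁) C₁] in
/-- Characteristic zero. -/
theorem isGeometricallyRegular_bot_fiber_charZero (A₁ : Type u) [CommRing A₁] [IsDomain A₁]
    [IsRegularLocalRing A₁] [CharZero A₁]
    [Algebra A₁ C₁] [IsLocalHom (algebraMap A₁ C₁)]
    (hfs : IsAdicFormallySmooth A₁ C₁ (maximalIdeal C₁)) :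
    CAlg.IsGeometricallyRegular (⊥ : Ideal A₁).ResidueField ((⊥ : Ideal A₁).Fiber C₁) := by
  haveI : IsNoetherianRing A₁ := inferInstance
  have hreg : IsRegularLocalRing C₁ := isRegularLocalRing_of_isAdicFormallySmooth hfs
  refine Groth.Agent.Helper8.GRing.isGeometricallyRegular_bot_fiber (fun Q _ hQ => ?_)
  have hregQ : IsRegularLocalRing (Localization.AtPrime Q) :=
    Groth.Agent.Helper8.ABS.isRegularLocalRing_localization C₁ Q
  exact isAdicFormallySmooth_localization_of_charZero Q hQ hregQ

end generic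

end Groth.Agent.Helper8.Andre
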