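import Mathlib
import Groth.Agent.Lib.Helper8.ABS6

/-!
# Projective dimension is detected by `Ext` into the ring (for modules of finite projective
dimension)
-/

set_option autoImplicit false
universe u

namespace Groth.Agent.Helper8.ABS

open CategoryTheory Abelian Limits

variable {A : Type u} [CommRing A]

theorem ext_subsingleton_of_retract_right (X : ModuleCat.{u} A) {Y Y' : ModuleCat.{u} A}
    (i : Y ⟶ Y') (r : Y' ⟶ Y) (hir : i ≫ r = 𝟙 Y)
    (m : ℕ) (h : Subsingleton (Ext X Y' m)) : Subsingleton (Ext X Y m) := by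
  refine subsingleton_of_forall_eq 0 fun x => ?_
  have h1 : (x.comp (Ext.mk₀ i) (add_zero m)).comp (Ext.mk₀ r) (add_zero m) = x := by
    rw [Ext.comp_assoc_of_third_deg_zero, Ext.mk₀_comp_mk₀, hir, Ext.comp_mk₀_id]
  have h2 : x.comp (Ext.mk₀ i) (add_zero m) = 0 := Subsingleton.elim _ _
  rw [← h1, h2, Ext.zero_comp]

theorem ext_pi_subsingleton (X : ModuleCat.{u} A) (m : ℕ)
    (h : Subsingleton (Ext X (ModuleCat.of A A) m)) (r : ℕ) :
    Subsingleton (Ext X (ModuleCat.of A (Fin r → A)) m) := by
  induction r with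
  | zero => exact ext_subsingleton_of_subsingleton_right X (Fin 0 → A) m
  | succ r ih =>
    let S : ShortComplex (ModuleCat.{u} A) :=
      ModuleCat.shortComplexOfCompEqZero (LinearMap.inl A A (Fin r → A))
        (LinearMap.snd A A (Fin r → A)) (by ext; simp)
    have hS : S.ShortExact := ModuleCat.shortComplex_shortExact S
      Function.Exact.inl_snd LinearMap.inl_injective LinearMap.snd_surjective
    have h1 : Subsingleton (Ext X S.X₁ m) := h
    have h3 : Subsingleton (Ext X S.X₃ m) := ih
    have h2 : Subsingleton (Ext X S.X₂ m) := by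
      refine subsingleton_of_forall_eq 0 fun x₂ => ?_
      obtain ⟨x₁, rfl⟩ := Ext.covariant_sequence_exact₂ X hS x₂ (Subsingleton.elim _ _)
      rw [Subsingleton.elim x₁ 0, Ext.zero_comp]
    exact ext_subsingleton_of_iso_right X
      (Fin.consLinearEquiv A (fun _ : Fin (r + 1) => A)).toModuleIso m h2

variable [IsNoetherianRing A]

theorem projective_of_ext_one_self_subsingleton (M : Type u) [AddCommGroup M] [Module A M]
    [Module.Finite A M] (h2 : HasProjectiveDimensionLT (ModuleCat.of A M) 2)
    (h : Subsingleton (Ext (ModuleCat.of A M) (ModuleCat.of A A) 1)) :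
    HasProjectiveDimensionLT (ModuleCat.of A M) 1 := by
  obtain ⟨k, π, hπ⟩ := Module.Finite.exists_fin' A M
  set K := LinearMap.ker π with hK
  have hS := LinearMap.shortExact_shortComplexKer hπ
  have hK1 : HasProjectiveDimensionLT (ModuleCat.of A K) 1 :=
    hS.hasProjectiveDimensionLT_X₁ 1 inferInstance h2
  have hKp : Module.Projective A K :=
    (IsProjective.iff_projective _).mpr (projective_iff_hasProjectiveDimensionLT_one.mpr hK1)
  -- `K` is a retract of a finite free module
  obtain ⟨r, ρ, hρ⟩ := Module.Finite.exists_fin' A K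
  obtain ⟨σ, hσ⟩ := Module.projective_lifting_property ρ LinearMap.id hρ
  have hExtK : Subsingleton (Ext (ModuleCat.of A M) (ModuleCat.of A K) 1) := by
    refine ext_subsingleton_of_retract_right _ (ModuleCat.ofHom σ) (ModuleCat.ofHom ρ) ?_ 1
      (ext_pi_subsingleton _ 1 h r)
    rw [← ModuleCat.ofHom_comp, hσ]
    rfl
  have hExtK' : Subsingleton (Ext (ModuleCat.of A M) (π.shortComplexKer).X₁ 1) := hExtK
  rw [← projective_iff_hasProjectiveDimensionLT_one]
  rcases Ext.covariant_sequence_exact₃ (ModuleCat.of A M) hS (Ext.mk₀ (𝟙 (ModuleCat.of A M)))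
    (zero_add 1) (Subsingleton.elim _ _) with ⟨f', hf'⟩
  rcases (Ext.mk₀_bijective (ModuleCat.of A M) (π.shortComplexKer).X₂).2 f' with ⟨f, hf⟩
  rw [← hf, Ext.mk₀_comp_mk₀, (Ext.mk₀_bijective _ _).1.eq_iff] at hf'
  exact (Retract.mk f (π.shortComplexKer).g hf').projective

theorem hasProjectiveDimensionLT_of_ext_self_subsingleton (n : ℕ) :
    ∀ (M : Type u) [AddCommGroup M] [Module A M] [Module.Finite A M],
      HasProjectiveDimensionLT (ModuleCat.of A M) (n + 2) →
      Subsingleton (Ext (ModuleCat.of A M) (ModuleCat.of A A) (n + 1)) →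
      HasProjectiveDimensionLT (ModuleCat.of A M) (n + 1) := by
  induction n with
  | zero =>
    intro M _ _ _ h2 h
    exact projective_of_ext_one_self_subsingleton M h2 h
  | succ n ih =>
    intro M _ _ _ h2 h
    obtain ⟨k, π, hπ⟩ := Module.Finite.exists_fin' A M
    set K := LinearMap.ker π with hK
    have hS := LinearMap.shortExact_shortComplexKer hπ
    have hK1 : HasProjectiveDimensionLT (ModuleCat.of A K) (n + 2) :=
      hS.hasProjectiveDimensionLT_X₁ (n + 2) inferInstance h2
    have hExtK : Subsingleton (Ext (ModuleCat.of A K) (ModuleCat.of A A) (n + 1)) := by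
      refine subsingleton_of_forall_eq 0 fun x₁ => ?_
      have h' : Subsingleton (Ext (π.shortComplexKer).X₃ (ModuleCat.of A A) (n + 1 + 1)) := h
      obtain ⟨x₂, rfl⟩ := Ext.contravariant_sequence_exact₁ hS (ModuleCat.of A A) x₁
        (by omega : 1 + (n + 1) = n + 1 + 1) (Subsingleton.elim _ _)
      have : x₂ = 0 := Ext.eq_zero_of_projective x₂
      rw [this, Ext.comp_zero]
    have h1 := ih K hK1 hExtK
    exact hS.hasProjectiveDimensionLT_X₃ (n + 1) h1 inferInstance

theorem hasProjectiveDimensionLT_of_forall_ext_self (M : Type u) [AddCommGroup M] [Module A M]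
    [Module.Finite A M] (N q : ℕ) (hN : HasProjectiveDimensionLT (ModuleCat.of A M) N)
    (h : ∀ i : ℕ, q < i → Subsingleton (Ext (ModuleCat.of A M) (ModuleCat.of A A) i)) :
    HasProjectiveDimensionLT (ModuleCat.of A M) (q + 1) := by
  induction N with
  | zero => exact hasProjectiveDimensionLT_of_ge _ 0 (q + 1) (by omega)
  | succ N ih =>
    by_cases hle : N + 1 ≤ q + 1
    · exact hasProjectiveDimensionLT_of_ge _ (N + 1) (q + 1) hle
    · push Not at hle
      obtain ⟨N', rfl⟩ : ∃ N', N = N' + 1 := ⟨N - 1, by omega⟩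
      exact ih (hasProjectiveDimensionLT_of_ext_self_subsingleton N' M hN (h (N' + 1) (by omega)))

end Groth.Agent.Helper8.ABS
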