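import Mathlib
import Groth.Agent.Lib.Helper8.ABS14
import Groth.Agent.Lib.Helper8.ABS13

/-!
# `Ext` into a regular local ring and projective dimension
-/

set_option autoImplicit false
universe u

namespace Groth.Agent.Helper8.ABS

open CategoryTheory Abelian IsLocalRing

section regular

variable (A : Type u) [CommRing A] [IsRegularLocalRing A]
  (M : Type u) [AddCommGroup M] [Module A M] [Module.Finite A M]

theorem exists_hasProjectiveDimensionLT_of_regular :
    ∃ N : ℕ, ringKrullDim A = N ∧ HasProjectiveDimensionLT (ModuleCat.of A M) (N + 1) := by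
  set d := (maximalIdeal A).spanFinrank with hd'
  have hd : ringKrullDim A = (d : WithBot ℕ∞) :=
    (IsRegularLocalRing.spanFinrank_maximalIdeal (R := A)).symm
  exact ⟨d, hd, hasProjectiveDimensionLT_of_regular_finite d A hd M⟩

theorem hasProjectiveDimensionLT_iff_ext_self (q : ℕ) :
    HasProjectiveDimensionLT (ModuleCat.of A M) (q + 1) ↔
      ∀ i : ℕ, q < i → Subsingleton (Ext (ModuleCat.of A M) (ModuleCat.of A A) i) := by
  constructor
  · intro h i hi
    exact HasProjectiveDimensionLT.subsingleton (ModuleCat.of A M) (q + 1) i (by omega) _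
  · intro h
    obtain ⟨N, -, hN⟩ := exists_hasProjectiveDimensionLT_of_regular A M
    exact hasProjectiveDimensionLT_of_forall_ext_self M (N + 1) q hN h

theorem free_of_ext_self_subsingleton (n : ℕ) (hn : ringKrullDim A = n)
    (h : ∀ j : ℕ, 1 ≤ j → j ≤ n →
      Subsingleton (Ext (ModuleCat.of A M) (ModuleCat.of A A) j)) :
    Module.Free A M := by
  have h1 := hasProjectiveDimensionLT_of_regular_finite n A hn M
  have h2 : HasProjectiveDimensionLT (ModuleCat.of A M) (0 + 1) := by
    refine hasProjectiveDimensionLT_of_forall_ext_self M (n + 1) 0 h1 fun i hi => ?_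
    by_cases hin : i ≤ n
    · exact h i hi hin
    · exact HasProjectiveDimensionLT.subsingleton (ModuleCat.of A M) (n + 1) i (by omega) _
  have h3 : Projective (ModuleCat.of A M) := projective_iff_hasProjectiveDimensionLT_one.mpr h2
  have h4 : Module.Projective A M := (IsProjective.iff_projective _).mpr h3
  exact Module.free_of_flat_of_isLocalRing

end regular

end Groth.Agent.Helper8.ABS
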