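import Mathlib
import Groth.Agent.Lib.Helper8.ABS15
import Groth.Agent.Lib.Helper8.FlatReg5

/-!
# Associated primes of a module of finite projective dimension over a regular local ring
-/

set_option autoImplicit false
universe u

namespace Groth.Agent.Helper8.ABS

open CategoryTheory Abelian IsLocalRing LocCoh Depth

theorem depth_eq_dim_of_regular (A : Type u) [CommRing A] [IsRegularLocalRing A] :
    ((depth A A : ℕ∞) : WithBot ℕ∞) = ringKrullDim A := by
  have := FlatReg.isCohenMacaulayLocalRing_of_isRegularLocalRing A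
  rw [← Module.supportDim_self_eq_ringKrullDim]
  exact (IsCohenMacaulayLocalRing.supportDim_eq_depth (R := A)).symm

theorem exists_projectiveDimension_eq {A : Type u} [CommRing A] (M : Type u) [AddCommGroup M]
    [Module A M] [Nontrivial M] (n : ℕ)
    (h : HasProjectiveDimensionLT (ModuleCat.of A M) (n + 1)) :
    ∃ e : ℕ, e ≤ n ∧ projectiveDimension (ModuleCat.of A M) = e := by
  have hle : projectiveDimension (ModuleCat.of A M) ≤ n := (projectiveDimension_le_iff _ n).mpr h
  generalize hd : projectiveDimension (ModuleCat.of A M) = d at hle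
  induction d with
  | bot =>
    exfalso
    rw [projectiveDimension_eq_bot_iff, ModuleCat.isZero_iff_subsingleton] at hd
    exact not_subsingleton M hd
  | coe d =>
    induction d with
    | top =>
      exfalso
      have h1 : ((⊤ : ℕ∞) : WithBot ℕ∞) ≤ ((n : ℕ∞) : WithBot ℕ∞) := hle
      rw [WithBot.coe_le_coe] at h1
      exact absurd (top_le_iff.mp h1) (ENat.natCast_ne_top n)
    | coe e =>
      refine ⟨e, ?_, rfl⟩
      have h1 : ((e : ℕ∞) : WithBot ℕ∞) ≤ ((n : ℕ∞) : WithBot ℕ∞) := hle
      rw [WithBot.coe_le_coe] at h1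
      exact_mod_cast h1

theorem height_le_of_mem_associatedPrimes (B : Type u) [CommRing B] [IsRegularLocalRing B]
    (M : Type u) [AddCommGroup M] [Module B M] [Module.Finite B M] (p : Ideal B)
    (hp : p ∈ associatedPrimes B M) (n : ℕ)
    (hn : HasProjectiveDimensionLE (ModuleCat.of B M) n) : p.height ≤ n := by
  have hpp : p.IsPrime := hp.isPrime
  have hreg := isRegularLocalRing_localization B p
  set Bp := Localization.AtPrime p
  set Mp := LocalizedModule p.primeCompl M
  have hass : maximalIdeal Bp ∈ associatedPrimes Bp Mp :=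
    Module.associatedPrimes.mem_associatedPrimes_atPrime_of_mem_associatedPrimes hp
  have hnt : Nontrivial Mp := nontrivial_of_mem_associatedPrimes hass
  have hd0 : depth Bp Mp = 0 := (depth_eq_zero_iff (A := Bp) (M := Mp)).mpr hass
  have hlt : HasProjectiveDimensionLT (ModuleCat.of Bp Mp) (n + 1) :=
    (hasProjectiveDimensionLT_iff_forall_localization M n).mp hn ⟨p, hpp⟩
  obtain ⟨e, hen, he⟩ := exists_projectiveDimension_eq Mp n hlt
  have hab := auslander_buchsbaum Bp Mp e he
  rw [hd0, add_zero] at hab
  have h1 := depth_eq_dim_of_regular Bp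
  rw [hab, IsLocalization.AtPrime.ringKrullDim_eq_height p Bp] at h1
  have h2 : p.height = (e : ℕ∞) := by
    have : ((p.height : ℕ∞) : WithBot ℕ∞) = ((e : ℕ∞) : WithBot ℕ∞) := h1.symm
    exact WithBot.coe_injective this
  rw [h2]
  exact_mod_cast hen

end Groth.Agent.Helper8.ABS
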