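import Mathlib
import Groth.Prelude
import Groth.Agent.Lib.Helper8.FlatMod7
import Groth.Agent.Lib.Helper8.IntegralDim
import Groth.Agent.Lib.Helper8.Depth20
import Groth.Agent.Lib.Helper8.Depth7

/-!
# Cohen–Macaulayness of a tensor product over a flat local homomorphism
-/

set_option autoImplicit false
universe u

namespace Groth.Agent.Helper8.FlatMod

open IsLocalRing TensorProduct Pointwise LocCoh Depth

variable {R S : Type u} [CommRing R] [CommRing S] [IsLocalRing R] [IsLocalRing S]
  [IsNoetherianRing R] [IsNoetherianRing S] [Algebra R S] [IsLocalHom (algebraMap R S)]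
variable (N : Type u) [AddCommGroup N] [Module S N] [Module R N] [IsScalarTower R S N]
  [Module.Finite S N]

omit [IsNoetherianRing R] [Module R N] [IsScalarTower R S N] in
theorem depth_fibRing_eq :
    depth (EGA4.FibRing R S) (EGA4.FibMod R S N) = depth S (EGA4.FibMod R S N) := by
  unfold LocCoh.depth
  rw [idealDepth_tower S (EGA4.FibRing R S) (maximalIdeal S) (EGA4.FibMod R S N)]
  congr 1
  exact (IsLocalRing.map_maximalIdeal_of_surjective (algebraMap S (EGA4.FibRing R S))
    Ideal.Quotient.mk_surjective).symm

omit [IsLocalRing S] [IsNoetherianRing R] [IsNoetherianRing S] [IsLocalHom (algebraMap R S)]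
  [Module R N] [IsScalarTower R S N] in
theorem supportDim_fibRing_eq :
    Module.supportDim (EGA4.FibRing R S) (EGA4.FibMod R S N) =
      Module.supportDim S (EGA4.FibMod R S N) :=
  (supportDim_restrictScalars_eq S (EGA4.FibRing R S) (EGA4.FibMod R S N)).symm

omit [IsNoetherianRing R] [Module R N] [IsScalarTower R S N] in
theorem cm_fibRing_iff :
    IsCohenMacaulayModule (EGA4.FibRing R S) (EGA4.FibMod R S N) ↔
      IsCohenMacaulayModule S (EGA4.FibMod R S N) := by
  unfold IsCohenMacaulayModule
  rw [depth_fibRing_eq, supportDim_fibRing_eq]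

variable [Module.Flat R N] [Nontrivial N]

/-- **S2604.** -/
theorem cm_tensor_iff (M : Type u) [AddCommGroup M] [Module R M] [Module.Finite R M]
    [Nontrivial M] :
    IsCohenMacaulayModule S (N ⊗[R] M) ↔
      (IsCohenMacaulayModule R M ∧ IsCohenMacaulayModule S (Fib R S N)) := by
  haveI := nontrivial_fib (R := R) (S := S) N
  have h1 := depth_formula (R := R) (S := S) N M
  have h2 := supportDim_tensor_eq (R := R) (S := S) N M
  have h3 := depth_le_supportDim (A := R) (M := M)
  have h4 := depth_le_supportDim (A := S) (M := Fib R S N)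
  obtain ⟨n, hn⟩ := exists_nat_supportDim (A := R) M
  obtain ⟨e, he⟩ := exists_nat_supportDim (A := S) (Fib R S N)
  have htopM : maximalIdeal R • (⊤ : Submodule R M) ≠ ⊤ := smul_top_ne_top_of_local R M
  obtain ⟨r, hr⟩ := ENat.ne_top_iff_exists.mp (idealDepth_ne_top htopM)
  have hr' : depth R M = r := hr.symm
  have htopF : maximalIdeal S • (⊤ : Submodule S (Fib R S N)) ≠ ⊤ := smul_top_ne_top_of_local S _
  obtain ⟨d, hd⟩ := ENat.ne_top_iff_exists.mp (idealDepth_ne_top htopF)
  have hd' : depth S (Fib R S N) = d := hd.symm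
  unfold IsCohenMacaulayModule
  rw [h1, h2, hn, he, hr', hd']
  rw [hn, hr'] at h3
  rw [he, hd'] at h4
  have h3' : r ≤ n := by exact_mod_cast h3
  have h4' : d ≤ e := by exact_mod_cast h4
  constructor
  · intro h
    have : n + e = r + d := by exact_mod_cast h
    refine ⟨?_, ?_⟩
    · have : n = r := by omega
      rw [this]; rfl
    · have : e = d := by omega
      rw [this]; rfl
  · rintro ⟨ha, hb⟩
    have ha' : n = r := by exact_mod_cast ha
    have hb' : e = d := by exact_mod_cast hb
    rw [ha', hb']
    push_cast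
    rfl

end Groth.Agent.Helper8.FlatMod
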