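import Mathlib
import Groth.Prelude
import Groth.Agent.Lib.Helper8.FlatMod8
import Groth.Agent.Lib.Helper8.Depth18
import Groth.Agent.Lib.Helper8.Depth28

/-!
# Stalks of a module flat over a base ring: flatness over the base local ring and the fibre module
-/

set_option autoImplicit false
universe u

namespace Groth.Agent.Helper8.FibMod

open IsLocalRing TensorProduct Pointwise LocCoh

section flat

variable {A B : Type u} [CommRing A] [CommRing B] [Algebra A B] (S : Submonoid B)
  {E N : Type u} [AddCommGroup E] [Module B E] [Module A E] [IsScalarTower A B E]
  [AddCommGroup N] [Module B N] [Module A N] [IsScalarTower A B N]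
  (ℓ : E →ₗ[B] N) [IsLocalizedModule S ℓ]

include S ℓ in
/-- A localization (over the algebra) of a module flat over the base ring is flat over the base
ring. -/
theorem flat_of_isLocalizedModule [hE : Module.Flat A E] : Module.Flat A N := by
  rw [Module.Flat.iff_lTensor_injectiveₛ] at hE ⊢
  intro P _ _ N'
  have h1 : Function.Injective (AlgebraTensorModule.lTensor B E N'.subtype) := by
    rw [AlgebraTensorModule.coe_lTensor]
    exact hE N'
  have h2 := IsLocalizedModule.map_injective S (AlgebraTensorModule.rTensor A N' ℓ)
    (AlgebraTensorModule.rTensor A P ℓ) (AlgebraTensorModule.lTensor B E N'.subtype) h1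
  rw [IsLocalizedModule.map_lTensor] at h2
  rw [← AlgebraTensorModule.coe_lTensor (A := B)]
  exact h2

end flat

section stalk

variable (A B : Type u) [CommRing A] [CommRing B] [IsNoetherianRing A] [IsNoetherianRing B]
  [Algebra A B] (q : Ideal B) [q.IsPrime]
  (E : Type u) [AddCommGroup E] [Module B E] [Module A E] [IsScalarTower A B E]
  [Module.Finite B E] [Module.Flat A E]

/-- The depth of the stalk of a module flat over the base is the depth of the base local ring plus
the depth of the fibre module. -/
theorem depth_atPrime_eq :
    depth (Localization.AtPrime q) (LocalizedModule q.primeCompl E) =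
      depth (Localization.AtPrime (q.comap (algebraMap A B)))
          (Localization.AtPrime (q.comap (algebraMap A B))) +
        idealDepth (q.map (algebraMap B (EGA4.FibLocRing A B q))) (EGA4.FibLocMod A B q E) := by
  set p := q.comap (algebraMap A B) with hp
  haveI : q.LiesOver p := ⟨rfl⟩
  letI := Localization.AtPrime.algebraOfLiesOver p q
  haveI : IsLocalHom (algebraMap (Localization.AtPrime p) (Localization.AtPrime q)) := by
    rw [RingHom.algebraMap_toAlgebra]
    exact Localization.isLocalHom_localRingHom _ q (algebraMap A B) Ideal.LiesOver.over
  letI mAp : Module (Localization.AtPrime p) (LocalizedModule q.primeCompl E) :=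
    Module.compHom (LocalizedModule q.primeCompl E)
      (algebraMap (Localization.AtPrime p) (Localization.AtPrime q))
  haveI : IsScalarTower (Localization.AtPrime p) (Localization.AtPrime q)
      (LocalizedModule q.primeCompl E) := ⟨fun a b x => by
    change (a • b) • x = algebraMap (Localization.AtPrime p) (Localization.AtPrime q) a • (b • x)
    rw [Algebra.smul_def, mul_smul]⟩
  haveI : IsScalarTower A (Localization.AtPrime p) (LocalizedModule q.primeCompl E) :=
    ⟨fun a b x => by
      change algebraMap (Localization.AtPrime p) (Localization.AtPrime q) (a • b) • x =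
        a • (algebraMap (Localization.AtPrime p) (Localization.AtPrime q) b • x)
      rw [Algebra.smul_def, map_mul, mul_smul,
        ← IsScalarTower.algebraMap_apply A (Localization.AtPrime p) (Localization.AtPrime q),
        algebraMap_smul]⟩
  haveI : Module.Flat A (LocalizedModule q.primeCompl E) :=
    flat_of_isLocalizedModule q.primeCompl (LocalizedModule.mkLinearMap q.primeCompl E)
  haveI : Module.Flat (Localization.AtPrime p) (LocalizedModule q.primeCompl E) :=
    (Module.flat_iff_of_isLocalization (Localization.AtPrime p) p.primeCompl
      (LocalizedModule q.primeCompl E)).mpr inferInstance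
  have hformula := Groth.Agent.Helper8.FlatMod.depth_formula (R := Localization.AtPrime p)
    (S := Localization.AtPrime q) (LocalizedModule q.primeCompl E) (Localization.AtPrime p)
  have h1 : depth (Localization.AtPrime q)
      ((LocalizedModule q.primeCompl E) ⊗[Localization.AtPrime p] (Localization.AtPrime p)) =
      depth (Localization.AtPrime q) (LocalizedModule q.primeCompl E) :=
    Groth.Agent.Helper8.Depth.idealDepth_congr
      (AlgebraTensorModule.rid (Localization.AtPrime p) (Localization.AtPrime q)
        (LocalizedModule q.primeCompl E))
  have hideal : (maximalIdeal (Localization.AtPrime p)).map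
      (algebraMap (Localization.AtPrime p) (Localization.AtPrime q)) =
      p.map (algebraMap A (Localization.AtPrime q)) := by
    rw [← Localization.AtPrime.map_eq_maximalIdeal, Ideal.map_map,
      ← IsScalarTower.algebraMap_eq]
  have h2 : depth (Localization.AtPrime q)
      (Groth.Agent.Helper8.FlatMod.Fib (Localization.AtPrime p) (Localization.AtPrime q)
        (LocalizedModule q.primeCompl E)) =
      depth (Localization.AtPrime q) (EGA4.FibLocMod A B q E) :=
    Groth.Agent.Helper8.Depth.idealDepth_congr
      (Submodule.quotEquivOfEq _ _ (by rw [hideal]))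
  have h3 : depth (Localization.AtPrime q) (EGA4.FibLocMod A B q E) =
      idealDepth (q.map (algebraMap B (EGA4.FibLocRing A B q))) (EGA4.FibLocMod A B q E) := by
    unfold LocCoh.depth
    rw [Groth.Agent.Helper8.Depth.idealDepth_tower (Localization.AtPrime q)
      (EGA4.FibLocRing A B q) (maximalIdeal (Localization.AtPrime q)) (EGA4.FibLocMod A B q E)]
    congr 1
    rw [← Localization.AtPrime.map_eq_maximalIdeal, Ideal.map_map,
      ← IsScalarTower.algebraMap_eq]
  rw [← h1, hformula, h2, h3]

/-- A lower bound for the `J`-depth from the depths of the fibre modules at the primes of `V(J)`. -/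
theorem le_idealDepth_of_fibres (J : Ideal B) (k : ℕ∞)
    (h : ∀ q : PrimeSpectrum B, J ≤ q.asIdeal →
      k ≤ idealDepth (q.asIdeal.map (algebraMap B (EGA4.FibLocRing A B q.asIdeal)))
        (EGA4.FibLocMod A B q.asIdeal E)) :
    k ≤ idealDepth J E := by
  rw [Groth.Agent.Helper8.Depth.idealDepth_eq_iInf_depth_localization J E]
  refine le_iInf₂ (fun q hq => ?_)
  rw [depth_atPrime_eq A B q.asIdeal E]
  exact le_trans (h q hq) le_add_self

end stalk

end Groth.Agent.Helper8.FibMod
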