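import Groth.Agent.Lib.Helper8.FD10

/-!
# `f_a^b(M) ≤ λ_a^b(M)` (B-S 9.3.5)
-/

set_option autoImplicit false
universe u

namespace Groth.Agent.Helper8.FD

open LocCoh IsLocalRing Groth.Agent.Helper8.Depth

variable {R : Type u} [CommRing R] [IsNoetherianRing R]

lemma map_le_maximalIdeal_of_le (q : Ideal R) [q.IsPrime] (c : Ideal R) (h : c ≤ q) :
    c.map (algebraMap R (Localization.AtPrime q)) ≤ maximalIdeal (Localization.AtPrime q) := by
  rw [Ideal.map_le_iff_le_comap]
  have h1 := IsLocalization.AtPrime.under_maximalIdeal (Localization.AtPrime q) q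
  rw [Ideal.under_def] at h1
  rw [h1]
  exact h

theorem finDimRel_le_adjDepth (a b : Ideal R) (M : Type u) [AddCommGroup M] [Module R M]
    [Module.Finite R M] (p : PrimeSpectrum R) (hbp : ¬ b ≤ p.asIdeal) :
    finDimRel a b M ≤ adjDepth a M p := by
  by_cases htop : adjDepth a M p = ⊤
  · rw [htop]
    exact le_top
  have hht : ((a ⊔ p.asIdeal).map (Ideal.Quotient.mk p.asIdeal)).height ≠ ⊤ := by
    intro h
    apply htop
    unfold adjDepth
    rw [h, add_top]
  obtain ⟨q, hqmin, hqh⟩ := exists_minimalPrimes_height_eq a p.asIdeal hht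
  haveI hqprime : q.IsPrime := hqmin.1.1
  have haq : a ≤ q := le_sup_left.trans hqmin.1.2
  have hpq : p.asIdeal ≤ q := le_sup_right.trans hqmin.1.2
  by_cases hbq : b ≤ q
  · have hqh' : (q.map (Ideal.Quotient.mk p.asIdeal)).height ≠ ⊤ := by
      rw [hqh]
      exact hht
    obtain ⟨n, hn⟩ := ENat.ne_top_iff_exists.mp hqh'
    obtain ⟨s, hs, hps, hsq, hbs, hh1⟩ :=
      exists_prime_height_one b q hbq n p.asIdeal hpq hbp hn.symm
    haveI := hs
    have h1 : adjDepth a M ⟨s, hs⟩ ≤ adjDepth a M p :=
      adjDepth_le_of_between_minimal_prime a M p ⟨q, hqprime⟩ hqmin hqh ⟨s, hs⟩ hps hsq.le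
    refine le_trans ?_ h1
    have has : ¬ a ≤ s := by
      intro h
      have h2 : q ≤ s := hqmin.2 ⟨hs, sup_le h hps⟩ hsq.le
      exact absurd (lt_of_lt_of_le hsq h2) (lt_irrefl _)
    have hhs : 1 ≤ ((a ⊔ s).map (Ideal.Quotient.mk s)).height := by
      rw [Order.one_le_iff_ne_zero]
      intro h0
      rw [Ideal.height_eq_zero_iff_eq_bot] at h0
      apply has
      intro x hx
      have h3 : Ideal.Quotient.mk s x ∈ (a ⊔ s).map (Ideal.Quotient.mk s) :=
        Ideal.mem_map_of_mem _ (Ideal.mem_sup_left hx)
      rw [h0, Ideal.mem_bot] at h3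
      exact Ideal.Quotient.eq_zero_iff_mem.mp h3
    unfold adjDepth
    refine le_trans ?_ (add_le_add le_rfl hhs)
    change finDimRel a b M ≤
      depth (Localization.AtPrime s) (LocalizedModule s.primeCompl M) + 1
    by_cases hds : depth (Localization.AtPrime s) (LocalizedModule s.primeCompl M) = ⊤
    · rw [hds, top_add]
      exact le_top
    obtain ⟨t, ht⟩ := ENat.ne_top_iff_exists.mp hds
    -- localize at `q`
    set P := s.map (algebraMap R (Localization.AtPrime q)) with hPdef
    haveI hP : P.IsPrime := isPrime_map_localization s q hsq.le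
    have hPs : P.comap (algebraMap R (Localization.AtPrime q)) = s :=
      comap_map_localization s q hsq.le
    have hdimP : ringKrullDim (Localization.AtPrime q ⧸ P) ≤ 1 := by
      have h4 := ringKrullDim_localization_quotient_le s q hsq.le P hPs
      rw [hh1] at h4
      exact h4
    have hdepth := depth_localizedModule_localizedModule M s q hsq.le P hPs
    have hIP : ¬ a.map (algebraMap R (Localization.AtPrime q)) ≤ P := by
      intro h
      rw [Ideal.map_le_iff_le_comap, hPs] at h
      exact has h
    have hBP : ¬ b.map (algebraMap R (Localization.AtPrime q)) ≤ P := by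
      intro h
      rw [Ideal.map_le_iff_le_comap, hPs] at h
      exact hbs h
    have hL := finDimRel_le_succ_of_local P hdimP
      (a.map (algebraMap R (Localization.AtPrime q)))
      (b.map (algebraMap R (Localization.AtPrime q))) hIP (map_le_maximalIdeal_of_le q a haq)
      hBP (map_le_maximalIdeal_of_le q b hbq) t (LocalizedModule q.primeCompl M)
      (hdepth.trans ht.symm)
    have hloc := finDimRel_le_localization a b M q.primeCompl
    refine hloc.trans (hL.trans ?_)
    rw [← ht]
    push_cast
    rfl
  · have h1 := finDimRel_le_depth_of_le a b M ⟨q, hqprime⟩ haq hbq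
    have h2 := depth_localization_le_depth_add_height M p.asIdeal q hpq
    unfold adjDepth
    rw [← hqh]
    exact h1.trans h2

theorem finDimRel_le_minAdjDepth (a b : Ideal R) (M : Type u) [AddCommGroup M] [Module R M]
    [Module.Finite R M] : finDimRel a b M ≤ minAdjDepth a b M := by
  unfold minAdjDepth
  exact le_iInf₂ fun p hp => finDimRel_le_adjDepth a b M p hp

end Groth.Agent.Helper8.FD
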