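import Groth.Agent.Lib.Helper8.LD2
import Groth.Agent.Lib.Helper8.FD11
import Groth.Agent.Lib.Helper1.MatlisL2

/-!
# `Ext(X, H^t_m(M))` versus `Ext(X, M)` for a Cohen–Macaulay module `M` of dimension `t`
-/

set_option autoImplicit false
universe u

namespace Groth.Agent.Helper8.LD

open CategoryTheory Abelian IsLocalRing LocCoh localCohomology RingTheory.Sequence
open Groth.Agent.Helper8.LC Groth.Agent.Helper8.Depth

variable {R : Type u} [CommRing R] [IsLocalRing R] [IsNoetherianRing R]

/-- the residue field as an object of `ModuleCat`. -/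
abbrev kk (R : Type u) [CommRing R] [IsLocalRing R] : ModuleCat.{u} R :=
  ModuleCat.of R (R ⧸ maximalIdeal R)

omit [IsNoetherianRing R] in
lemma smul_kk {x : R} (hx : x ∈ maximalIdeal R) (n : kk R) : x • n = 0 := by
  obtain ⟨r, rfl⟩ := Submodule.Quotient.mk_surjective _ n
  change x • (Submodule.Quotient.mk r : R ⧸ maximalIdeal R) = 0
  rw [← Submodule.Quotient.mk_smul, Submodule.Quotient.mk_eq_zero, smul_eq_mul]
  exact Ideal.mul_mem_right _ _ hx

/-- a finite module killed by a power of the maximal ideal has finite length. -/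
lemma isFiniteLength_of_pow_smul_eq_zero (N : Type*) [AddCommGroup N] [Module R N]
    [Module.Finite R N] (k : ℕ) (h : ∀ a ∈ maximalIdeal R ^ k, ∀ n : N, a • n = 0) :
    IsFiniteLength R N := by
  have hnoe : IsNoetherian R N := inferInstance
  have hpt : IsPowerTorsion (maximalIdeal R) N := fun n => ⟨k, fun a ha => h a ha n⟩
  have hfin : Module.Finite R ↥(LocCoh.torsionBy (maximalIdeal R) N) := inferInstance
  have hfin' : Module.Finite (R ⧸ maximalIdeal R) ↥(LocCoh.torsionBy (maximalIdeal R) N) :=
    Module.Finite.of_restrictScalars_finite R _ _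
  have hart : IsArtinian R N :=
    (Groth.Agent.Helper1.MatlisL.isArtinian_iff N).mpr ⟨hpt, hfin'⟩
  exact isFiniteLength_iff_isNoetherian_isArtinian.mpr ⟨hnoe, hart⟩

lemma mu_ne_top_of_pow_smul_eq_zero (X : ModuleCat.{u} R) [Module.Finite R X] (k : ℕ)
    (hX : ∀ a ∈ maximalIdeal R ^ k, ∀ n : X, a • n = 0)
    (M : ModuleCat.{u} R) [Module.Finite R M] (i : ℕ) :
    mu X M i ≠ ⊤ := by
  unfold mu
  rw [Module.length_ne_top_iff]
  apply isFiniteLength_of_pow_smul_eq_zero _ k
  intro a ha α
  exact smul_ext_eq_zero_of_left a (fun n => hX a ha n) i α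

lemma mu_kk_ne_top (M : ModuleCat.{u} R) [Module.Finite R M] (i : ℕ) :
    mu (kk R) M i ≠ ⊤ :=
  mu_ne_top_of_pow_smul_eq_zero (kk R) 1 (fun a ha n => smul_kk (by rwa [pow_one] at ha) n) M i

omit [IsLocalRing R] [IsNoetherianRing R] in
lemma exists_isSMulRegular_of_one_le_idealDepth (I : Ideal R) (M : Type u) [AddCommGroup M]
    [Module R M] (hIM : I • (⊤ : Submodule R M) ≠ ⊤) (h : (1 : ℕ∞) ≤ idealDepth I M) :
    ∃ x ∈ I, IsSMulRegular M x := by
  obtain ⟨rs, hlen, hreg, hmem⟩ := (le_idealDepth_iff hIM 1).mp (by exact_mod_cast h)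
  match rs, hlen with
  | [x], _ =>
    refine ⟨x, hmem x (by simp), ?_⟩
    exact ((isWeaklyRegular_cons_iff M x []).mp hreg).1

section Step

variable {A : Type u} [CommRing A]

/-- if `H^t_J(M) = 0` and `x` is `M`-regular then `H^t_J(M/xM) ≃ H^{t+1}_J(M)[x]`. -/
lemma exists_equiv_torsionBy (J : Ideal A) (t : ℕ) (M : ModuleCat.{u} A) (x : A)
    (hreg : IsSMulRegular M x) (h1 : Subsingleton ((localCohomology J t).obj M)) :
    Nonempty ((localCohomology J t).obj (ModuleCat.of A (QuotSMulTop x M)) ≃ₗ[A]
      Submodule.torsionBy A ((localCohomology J (t + 1)).obj M) x) := by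
  have hS := hreg.smulShortComplex_shortExact
  let d : (localCohomology J t).obj (ModuleCat.of A (QuotSMulTop x M)) →ₗ[A]
      (localCohomology J (t + 1)).obj M := δ J t hS
  have hinj : Function.Injective d := by
    rw [← LinearMap.ker_eq_bot, LinearMap.ker_eq_bot']
    intro y hy
    obtain ⟨z, rfl⟩ := (exact_g_δ J t hS y).mp hy
    have hz : z = 0 := h1.elim _ _
    rw [hz]
    exact map_zero _
  have hrange : LinearMap.range d = Submodule.torsionBy A ((localCohomology J (t + 1)).obj M) x := by
    ext y
    rw [Submodule.mem_torsionBy_iff]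
    have h := exact_δ_f J t hS y
    have h2 : ((localCohomology J (t + 1)).map (ModuleCat.smulShortComplex M x).f) y = x • y :=
      map_smul_id J (t + 1) M x y
    rw [h2] at h
    exact h.symm
  exact ⟨(LinearEquiv.ofInjective d hinj).trans (LinearEquiv.ofEq _ _ hrange)⟩

end Step

/-- **Main comparison.** Let `M` be a Cohen–Macaulay module of dimension `t` over a Noetherian local
ring, `xs` an `M`-regular sequence of length `t` in the maximal ideal and `X` a finite module killed
by `xs` and by a power of the maximal ideal.  Then `ℓ Ext^i(X, H^t_m(M)) = ℓ Ext^{i+t}(X, M)`. -/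
theorem mu_H_eq_of_regular (X : ModuleCat.{u} R) [Module.Finite R X] (k : ℕ)
    (hX : ∀ a ∈ maximalIdeal R ^ k, ∀ n : X, a • n = 0) :
    ∀ (xs : List R) (M : Type u) [AddCommGroup M] [Module R M] [Module.Finite R M],
    IsCohenMacaulayModule R M → Module.supportDim R M = xs.length → IsWeaklyRegular M xs →
    (∀ x ∈ xs, x ∈ maximalIdeal R) → (∀ x ∈ xs, ∀ n : X, x • n = 0) → ∀ i : ℕ,
      mu X ((localCohomology (maximalIdeal R) xs.length).obj (ModuleCat.of R M)) i =
        mu X (ModuleCat.of R M) (i + xs.length) := by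
  intro xs
  induction xs with
  | nil =>
    intro M _ _ _ hM hdim _ _ _ i
    have hsupp := support_of_supportDim_eq_zero (R := R) (N := M) (by exact_mod_cast hdim)
    have hpt : IsPowerTorsion (maximalIdeal R) M :=
      isPowerTorsion_of_support_subset (maximalIdeal R) M hsupp.le
    obtain ⟨⟨e⟩, -⟩ := torsion_h0_and_vanishing (maximalIdeal R) M hpt
    exact mu_congr_linearEquiv X e i
  | cons x xs ih =>
    intro M _ _ _ hM hdim hregs hmem hkill i
    set t := xs.length with ht
    have hlen : (x :: xs).length = t + 1 := List.length_cons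
    rw [hlen] at hdim ⊢
    haveI := cm_nontrivial hM
    have hmM : maximalIdeal R • (⊤ : Submodule R M) ≠ ⊤ := smul_top_ne_top_of_local R M
    obtain ⟨n, hn, hdepth⟩ := cm_exists_nat hM
    have hnt : n = t + 1 := by
      rw [hdim] at hn
      exact_mod_cast hn.symm
    subst hnt
    have hdepth' : idealDepth (maximalIdeal R) M = ((t + 1 : ℕ) : ℕ∞) := hdepth
    obtain ⟨hreg, hregs'⟩ := (isWeaklyRegular_cons_iff M x xs).mp hregs
    have hxm : x ∈ maximalIdeal R := hmem x (by simp)
    -- the quotient
    have hM' : IsCohenMacaulayModule R (QuotSMulTop x M) := cm_quotSMulTop hM hxm hreg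
    have hdim' : Module.supportDim R (QuotSMulTop x M) = t := by
      have h2 := Module.supportDim_quotSMulTop_succ_eq_supportDim hreg hxm
      rw [hdim] at h2
      obtain ⟨k, hk, -⟩ := cm_exists_nat hM'
      rw [hk] at h2 ⊢
      have : k + 1 = t + 1 := by exact_mod_cast h2
      have : k = t := by omega
      rw [this]
    have IH := ih (QuotSMulTop x M) hM' hdim' hregs' (fun y hy => hmem y (by simp [hy]))
      (fun y hy => hkill y (by simp [hy]))
    -- vanishing
    have hv1 : Subsingleton ((localCohomology (maximalIdeal R) t).obj (ModuleCat.of R M)) :=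
      subsingleton_of_lt_idealDepth (maximalIdeal R) hmM t (by
        rw [hdepth']; exact_mod_cast Nat.lt_succ_self t)
    have hv2 : Subsingleton ((localCohomology (maximalIdeal R) (t + 1)).obj
        (ModuleCat.of R (QuotSMulTop x (ModuleCat.of R M)))) := by
      apply subsingleton_of_supportDim_lt (maximalIdeal R)
      change Module.supportDim R (QuotSMulTop x M) < _
      rw [hdim']
      exact_mod_cast Nat.lt_succ_self t
    have hregC : IsSMulRegular (ModuleCat.of R M) x := hreg
    obtain ⟨e⟩ := exists_equiv_torsionBy (maximalIdeal R) t (ModuleCat.of R M) x hregC hv1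
    have hsurj : Function.Surjective
        (fun b : (localCohomology (maximalIdeal R) (t + 1)).obj (ModuleCat.of R M) => x • b) := by
      intro y
      exact Groth.Agent.Helper8.FD.smul_surjective_H_of_regular (maximalIdeal R) (t + 1)
        (ModuleCat.of R M) x hregC hv2 y
    have hk : ∀ n : X, x • n = 0 := hkill x (by simp)
    -- abbreviations
    set B := (localCohomology (maximalIdeal R) (t + 1)).obj (ModuleCat.of R M) with hB
    have key0 : mu X B 0 = mu X (ModuleCat.of R M) (t + 1) := by
      have e1 := mu_torsionBy_zero B x X hk hsurj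
      have e2 := mu_congr_linearEquiv X e 0
      have e3 := IH 0
      rw [zero_add] at e3
      have e4 := mu_quotSMulTop X (ModuleCat.of R M) x hk hregC t
      have e5 : mu X (ModuleCat.of R M) t = 0 := by
        unfold mu
        have : Subsingleton (Ext X (ModuleCat.of R M) t) :=
          subsingleton_ext_of_lt_idealDepth (maximalIdeal R) X
            ⟨k, fun a ha => Module.mem_annihilator.mpr (hX a ha)⟩
            hmM t (by rw [hdepth']; exact_mod_cast Nat.lt_succ_self t)
        exact Module.length_eq_zero
      rw [e5, zero_add] at e4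
      change mu X (ModuleCat.of R B) 0 = _
      rw [← e1, ← e2, ← e4]
      exact e3
    induction i with
    | zero => rw [zero_add]; exact key0
    | succ i ihi =>
      have e1 := mu_torsionBy_succ B x X hk hsurj i
      have e2 := mu_congr_linearEquiv X e (i + 1)
      have e3 := IH (i + 1)
      have e4 := mu_quotSMulTop X (ModuleCat.of R M) x hk hregC (i + 1 + t)
      have e6 : mu X (ModuleCat.of R B) i + mu X (ModuleCat.of R B) (i + 1) =
          mu X (ModuleCat.of R M) (i + 1 + t) +
            mu X (ModuleCat.of R M) (i + 1 + t + 1) := by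
        rw [← e1, ← e2, ← e4]
        exact e3
      have e7 : mu X (ModuleCat.of R B) i = mu X (ModuleCat.of R M) (i + 1 + t) := by
        have := ihi
        rw [show i + (t + 1) = i + 1 + t by omega] at this
        exact this
      rw [e7] at e6
      have hfin := mu_ne_top_of_pow_smul_eq_zero X k hX (ModuleCat.of R M) (i + 1 + t)
      have := (ENat.add_right_injective_of_ne_top hfin) e6
      rw [show i + 1 + (t + 1) = i + 1 + t + 1 by omega]
      exact this

end Groth.Agent.Helper8.LD
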