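import Mathlib
import Groth.Prelude
import Groth.Agent.Lib.Helper8.LD3
import Groth.Agent.Lib.Helper8.Depth2
import Groth.Agent.Lib.Helper8.Depth28

/-!
# Torsion off `V(J)` and depth: elementary lemmas
-/

set_option autoImplicit false
universe u

namespace Groth.Agent.Helper8.FourTerm

open Pointwise LocCoh

variable {B : Type u} [CommRing B]

/-- An ideal not contained in any prime not containing `J` has radical containing `J`. -/
theorem le_radical_of_forall_prime (J 𝔞 : Ideal B)
    (h : ∀ q : PrimeSpectrum B, ¬ J ≤ q.asIdeal → ¬ 𝔞 ≤ q.asIdeal) : J ≤ 𝔞.radical := by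
  rw [Ideal.radical_eq_sInf]
  refine le_sInf ?_
  rintro q ⟨hq, hqp⟩
  by_contra hJ
  exact h ⟨q, hqp⟩ hJ hq

variable [IsNoetherianRing B]

/-- In a finite module of positive `J`-depth, an element killed by powers of all elements of `J`
is zero. -/
theorem eq_zero_of_forall_pow_smul (J : Ideal B) (M : Type u) [AddCommGroup M] [Module B M]
    [Module.Finite B M] (h : 1 ≤ idealDepth J M) (c : M)
    (hc : ∀ j ∈ J, ∃ n : ℕ, j ^ n • c = 0) : c = 0 := by
  by_cases hJM : J • (⊤ : Submodule B M) = ⊤
  · obtain ⟨r, hr, hr0⟩ := Submodule.exists_sub_one_mem_and_smul_eq_zero_of_fg_of_le_smul J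
      (⊤ : Submodule B M) Module.Finite.fg_top (by rw [hJM])
    have hj : (1 - r) ∈ J := by
      have := J.neg_mem hr
      rwa [neg_sub] at this
    have hfix : ∀ m : M, (1 - r) • m = m := by
      intro m
      rw [sub_smul, one_smul, hr0 m Submodule.mem_top, sub_zero]
    obtain ⟨n, hn⟩ := hc (1 - r) hj
    have hpow : ∀ n : ℕ, (1 - r) ^ n • c = c := by
      intro n
      induction n with
      | zero => simp
      | succ n ih => rw [pow_succ, mul_smul, hfix, ih]
    rw [← hpow n, hn]
  · obtain ⟨x, hxJ, hx⟩ := Groth.Agent.Helper8.LD.exists_isSMulRegular_of_one_le_idealDepth J M hJM h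
    obtain ⟨n, hn⟩ := hc x hxJ
    exact (hx.pow n) (by change x ^ n • c = x ^ n • 0; rw [hn, smul_zero])

/-- The torsion form of the previous lemma. -/
theorem eq_zero_of_forall_prime (J : Ideal B) (M : Type u) [AddCommGroup M] [Module B M]
    [Module.Finite B M] (h : 1 ≤ idealDepth J M) (c : M)
    (hc : ∀ q : PrimeSpectrum B, ¬ J ≤ q.asIdeal → ∃ s : B, s ∉ q.asIdeal ∧ s • c = 0) :
    c = 0 := by
  apply eq_zero_of_forall_pow_smul J M h c
  have hrad : J ≤ (Submodule.span B {c}).annihilator.radical := by
    apply le_radical_of_forall_prime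
    intro q hq hle
    obtain ⟨s, hs, hsc⟩ := hc q hq
    apply hs
    apply hle
    rw [Submodule.mem_annihilator_span_singleton]
    exact hsc
  intro j hj
  obtain ⟨n, hn⟩ := hrad hj
  exact ⟨n, (Submodule.mem_annihilator_span_singleton _ _).mp hn⟩

/-- `a + 1 ≥ 2` forces `a ≥ 1`. -/
theorem one_le_of_two_le_add_one {a : ℕ∞} (h : 2 ≤ a + 1) : 1 ≤ a := by
  cases a with
  | top => exact le_top
  | coe a =>
    have h' : (2 : ℕ) ≤ a + 1 := by exact_mod_cast h
    have : 1 ≤ a := by omega
    exact_mod_cast this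

/-- A submodule `P` of `Y` which agrees with `X` off `V(J)` is contained in `X` when `X` has
`J`-depth at least two and `Y` has `J`-depth at least one. -/
theorem le_of_torsion_quotient (J : Ideal B) (Y : Type u) [AddCommGroup Y] [Module B Y]
    [Module.Finite B Y] (X P : Submodule B Y) (hX : 2 ≤ idealDepth J X) (hY : 1 ≤ idealDepth J Y)
    (htors : ∀ p ∈ P, ∀ q : PrimeSpectrum B, ¬ J ≤ q.asIdeal →
      ∃ s : B, s ∉ q.asIdeal ∧ s • p ∈ X) : P ≤ X := by
  have hpow : ∀ p ∈ P, ∀ j ∈ J, ∃ n : ℕ, j ^ n • p ∈ X := by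
    intro p hp
    have hrad : J ≤ Ideal.radical (X.comap (LinearMap.toSpanSingleton B Y p) : Ideal B) := by
      apply le_radical_of_forall_prime
      intro q hq hle
      obtain ⟨s, hs, hsp⟩ := htors p hp q hq
      apply hs
      apply hle
      rw [Submodule.mem_comap, LinearMap.toSpanSingleton_apply]
      exact hsp
    intro j hj
    obtain ⟨n, hn⟩ := hrad hj
    refine ⟨n, ?_⟩
    rw [Submodule.mem_comap, LinearMap.toSpanSingleton_apply] at hn
    exact hn
  by_cases hJY : J • (⊤ : Submodule B Y) = ⊤
  · obtain ⟨r, hr, hr0⟩ := Submodule.exists_sub_one_mem_and_smul_eq_zero_of_fg_of_le_smul J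
      (⊤ : Submodule B Y) Module.Finite.fg_top (by rw [hJY])
    have hj : (1 - r) ∈ J := by
      have := J.neg_mem hr
      rwa [neg_sub] at this
    have hfix : ∀ m : Y, (1 - r) • m = m := by
      intro m
      rw [sub_smul, one_smul, hr0 m Submodule.mem_top, sub_zero]
    have hpow' : ∀ (n : ℕ) (m : Y), (1 - r) ^ n • m = m := by
      intro n m
      induction n with
      | zero => simp
      | succ n ih => rw [pow_succ, mul_smul, hfix, ih]
    intro p hp
    obtain ⟨n, hn⟩ := hpow p hp (1 - r) hj
    rwa [hpow'] at hn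
  · obtain ⟨r, hrJ, hr⟩ :=
      Groth.Agent.Helper8.LD.exists_isSMulRegular_of_one_le_idealDepth J Y hJY hY
    have hrX : IsSMulRegular X r := by
      intro a b hab
      apply Subtype.ext
      apply hr
      exact congrArg Subtype.val hab
    have hXr : 1 ≤ idealDepth J (QuotSMulTop r X) := by
      by_cases hJX : J • (⊤ : Submodule B X) = ⊤
      · have : J • (⊤ : Submodule B (QuotSMulTop r X)) = ⊤ := by
          have h1 : Submodule.map (Submodule.mkQ (r • (⊤ : Submodule B X))) ⊤ = ⊤ := by
            rw [Submodule.map_top, Submodule.range_mkQ]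
          rw [← h1, ← Submodule.map_smul'', hJX]
        rw [Groth.Agent.Helper8.Depth.idealDepth_of_smul_top_eq J _ this]
        exact le_top
      · have := Groth.Agent.Helper8.Depth.idealDepth_quotSMulTop_add_one hJX hrJ hrX
        rw [← this] at hX
        exact one_le_of_two_le_add_one hX
    have key : ∀ p' ∈ P, r • p' ∈ X → p' ∈ X := by
      intro p' hp' h
      set c : QuotSMulTop r X := Submodule.Quotient.mk ⟨r • p', h⟩ with hc
      have hc0 : c = 0 := by
        apply eq_zero_of_forall_pow_smul J _ hXr c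
        intro j hj
        obtain ⟨n, hn⟩ := hpow p' hp' j hj
        refine ⟨n, ?_⟩
        rw [hc, ← Submodule.Quotient.mk_smul, Submodule.Quotient.mk_eq_zero,
          Submodule.mem_smul_pointwise_iff_exists]
        refine ⟨⟨j ^ n • p', hn⟩, Submodule.mem_top, ?_⟩
        apply Subtype.ext
        change r • j ^ n • p' = j ^ n • r • p'
        rw [smul_comm]
      rw [hc, Submodule.Quotient.mk_eq_zero, Submodule.mem_smul_pointwise_iff_exists] at hc0
      obtain ⟨x', -, hx'⟩ := hc0
      have h2 : r • (x' : Y) = r • p' := congrArg Subtype.val hx'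
      have h3 : (x' : Y) = p' := hr h2
      rw [← h3]
      exact x'.2
    intro p hp
    obtain ⟨n, hn⟩ := hpow p hp r hrJ
    induction n with
    | zero => simpa using hn
    | succ n ih =>
      apply ih
      apply key _ (P.smul_mem _ hp)
      rw [← mul_smul, ← pow_succ']
      exact hn

end Groth.Agent.Helper8.FourTerm
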