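import Mathlib
import Groth.Prelude
import Groth.Agent.Lib.Helper1.LocalCrit

/-!
# Flat kernels and torsion of the relative `Tor`-obstruction off the non-flat locus
-/

set_option autoImplicit false
universe u

namespace Groth.Agent.Helper8.FourTerm

open Pointwise TensorProduct

section base

variable {A : Type u} [CommRing A] {X Y Z : Type u} [AddCommGroup X] [Module A X]
  [AddCommGroup Y] [Module A Y] [AddCommGroup Z] [Module A Z]

/-- The kernel of a surjection of flat modules is flat. -/
theorem flat_of_exact_flat_flat [Module.Flat A Y] [Module.Flat A Z] (g : X →ₗ[A] Y)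
    (f : Y →ₗ[A] Z) (hg : Function.Injective g) (hf : Function.Surjective f)
    (H : Function.Exact g f) : Module.Flat A X := by
  rw [Module.Flat.iff_rTensor_injective']
  intro I
  have h1 : Function.Injective (g.lTensor I) :=
    LinearMap.lTensor_injective_of_exact_of_flat f hf g hg H I
  have h2 : Function.Injective (I.subtype.rTensor Y) :=
    Module.Flat.rTensor_preserves_injective_linearMap _ Subtype.val_injective
  have h3 : (g.lTensor A) ∘ₗ (I.subtype.rTensor X) = (I.subtype.rTensor Y) ∘ₗ (g.lTensor I) := by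
    rw [LinearMap.lTensor_comp_rTensor, LinearMap.rTensor_comp_lTensor]
  have h4 : Function.Injective ((g.lTensor A) ∘ₗ (I.subtype.rTensor X)) := by
    rw [h3]
    exact h2.comp h1
  exact Function.Injective.of_comp h4

/-- With a flat cokernel, membership in `I • ⊤` is reflected. -/
theorem mem_smul_top_of_flat_coker [Module.Flat A Z] (g : X →ₗ[A] Y)
    (f : Y →ₗ[A] Z) (hg : Function.Injective g) (hf : Function.Surjective f)
    (H : Function.Exact g f) (I : Ideal A) (x : X) (hx : g x ∈ I • (⊤ : Submodule A Y)) :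
    x ∈ I • (⊤ : Submodule A X) :=
  Groth.Agent.Helper1.LocalCrit.mem_smul_top_of_map_mem g I
    (LinearMap.lTensor_injective_of_exact_of_flat f hf g hg H (A ⧸ I)) x hx

end base

section loc

variable {A B : Type u} [CommRing A] [CommRing B] [Algebra A B] (S : Submonoid B)
  {X Y Z X' Y' Z' : Type u}
  [AddCommGroup X] [Module B X] [Module A X] [IsScalarTower A B X]
  [AddCommGroup Y] [Module B Y] [Module A Y] [IsScalarTower A B Y]
  [AddCommGroup Z] [Module B Z] [Module A Z] [IsScalarTower A B Z]
  [AddCommGroup X'] [Module B X'] [Module A X'] [IsScalarTower A B X']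
  [AddCommGroup Y'] [Module B Y'] [Module A Y'] [IsScalarTower A B Y']
  [AddCommGroup Z'] [Module B Z'] [Module A Z'] [IsScalarTower A B Z']

/-- `I • ⊤` is stable under the action of the algebra. -/
theorem smul_mem_smul_top (I : Ideal A) (b : B) (y : X)
    (hy : y ∈ I • (⊤ : Submodule A X)) : b • y ∈ I • (⊤ : Submodule A X) := by
  refine Submodule.smul_induction_on hy ?_ ?_
  · intro a ha z _
    rw [smul_comm]
    exact Submodule.smul_mem_smul ha Submodule.mem_top
  · intro y z hy hz
    rw [smul_add]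
    exact add_mem hy hz

variable (ℓX : X →ₗ[B] X') (ℓY : Y →ₗ[B] Y') (ℓZ : Z →ₗ[B] Z')
  [IsLocalizedModule S ℓX] [IsLocalizedModule S ℓY] [IsLocalizedModule S ℓZ]

include S in
/-- Elements of `I • X'` come from `I • X` up to a denominator. -/
theorem exists_of_mem_smul_top_localized (I : Ideal A) (x' : X')
    (hx' : x' ∈ I • (⊤ : Submodule A X')) :
    ∃ s ∈ S, ∃ y ∈ I • (⊤ : Submodule A X), s • x' = ℓX y := by
  refine Submodule.smul_induction_on hx' ?_ ?_
  · intro a ha z _
    obtain ⟨⟨w, s⟩, hw⟩ := IsLocalizedModule.surj S ℓX z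
    refine ⟨s.1, s.2, a • w, Submodule.smul_mem_smul ha Submodule.mem_top, ?_⟩
    have hw' : (s : B) • z = ℓX w := hw
    rw [smul_comm, hw', ← LinearMap.map_smul_of_tower]
  · intro y z hy hz
    obtain ⟨s, hs, y₁, hy₁, e₁⟩ := hy
    obtain ⟨t, ht, z₁, hz₁, e₂⟩ := hz
    refine ⟨s * t, S.mul_mem hs ht, t • y₁ + s • z₁,
      add_mem (smul_mem_smul_top I t y₁ hy₁) (smul_mem_smul_top I s z₁ hz₁), ?_⟩
    rw [smul_add, map_add, map_smul, map_smul, ← e₁, ← e₂, mul_smul, mul_smul]
    congr 1
    rw [smul_comm]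

include S ℓX ℓY ℓZ in
/-- If the cokernel is flat over `A` after localizing, the obstruction to reflecting membership
in `I • ⊤` is killed by a denominator. -/
theorem exists_smul_mem_smul_top_of_localized_flat [Module.Flat A Z']
    (g : X →ₗ[B] Y) (f : Y →ₗ[B] Z) (hg : Function.Injective g) (hf : Function.Surjective f)
    (H : Function.Exact g f) (I : Ideal A) (x : X) (hx : g x ∈ I • (⊤ : Submodule A Y)) :
    ∃ s ∈ S, s • x ∈ I • (⊤ : Submodule A X) := by
  have hg' := IsLocalizedModule.map_injective S ℓX ℓY g hg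
  have hf' := IsLocalizedModule.map_surjective S ℓY ℓZ f hf
  have H' := IsLocalizedModule.map_exact S ℓX ℓY ℓZ g f H
  have h1 : IsLocalizedModule.map S ℓX ℓY g (ℓX x) = ℓY (g x) :=
    IsLocalizedModule.map_apply S ℓX ℓY g x
  have h2 : ℓY (g x) ∈ I • (⊤ : Submodule A Y') := by
    have : (ℓY.restrictScalars A) (g x) ∈ Submodule.map (ℓY.restrictScalars A)
        (I • (⊤ : Submodule A Y)) := Submodule.mem_map_of_mem hx
    rw [Submodule.map_smul''] at this
    exact Submodule.smul_mono le_rfl le_top this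
  have h3 : ℓX x ∈ I • (⊤ : Submodule A X') :=
    mem_smul_top_of_flat_coker ((IsLocalizedModule.map S ℓX ℓY g).restrictScalars A)
      ((IsLocalizedModule.map S ℓY ℓZ f).restrictScalars A) hg' hf' H' I (ℓX x)
      (by rw [LinearMap.restrictScalars_apply, h1]; exact h2)
  obtain ⟨s, hs, y, hy, e⟩ := exists_of_mem_smul_top_localized S ℓX I (ℓX x) h3
  have h4 : ℓX (s • x - y) = 0 := by
    rw [map_sub, map_smul, e, sub_self]
  obtain ⟨t, ht⟩ := (IsLocalizedModule.eq_zero_iff S ℓX).mp h4
  refine ⟨t.1 * s, S.mul_mem t.2 hs, ?_⟩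
  have h5 : (t : B) • (s • x - y) = 0 := ht
  rw [smul_sub, sub_eq_zero] at h5
  rw [mul_smul, h5]
  exact smul_mem_smul_top I t.1 y hy

end loc

end Groth.Agent.Helper8.FourTerm
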