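import Mathlib
import Groth.Prelude
import Groth.Agent.Lib.Helper8.FourTerm1
import Groth.Agent.Lib.Helper8.FourTerm2
import Groth.Agent.Lib.Helper8.FibMod1
import Groth.Agent.Lib.Helper8.FlatMod1
import Groth.Agent.Lib.Helper8.Depth6
import Groth.Agent.Lib.Helper8.Depth28

/-!
# Four-term exact sequences: the closed fibre of the kernel and flatness of the cokernel
-/

set_option autoImplicit false
universe u

namespace Groth.Agent.Helper8.FourTerm

open Pointwise LocCoh

section bar

variable {B : Type u} [CommRing B] (I : Ideal B)
  {X Y W : Type u} [AddCommGroup X] [Module B X] [AddCommGroup Y] [Module B Y]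
  [AddCommGroup W] [Module B W]

/-- The map induced on `X / I X`. -/
noncomputable def barMap (g : X →ₗ[B] Y) :
    (X ⧸ I • (⊤ : Submodule B X)) →ₗ[B] (Y ⧸ I • (⊤ : Submodule B Y)) :=
  Submodule.mapQ _ _ g (by
    rw [← Submodule.map_le_iff_le_comap, Submodule.map_smul'']
    exact Submodule.smul_mono le_rfl le_top)

@[simp] theorem barMap_mk (g : X →ₗ[B] Y) (x : X) :
    barMap I g (Submodule.Quotient.mk x) = Submodule.Quotient.mk (g x) := rfl

theorem map_smul_top_of_surjective (g : X →ₗ[B] Y) (hg : Function.Surjective g) :
    Submodule.map g (I • (⊤ : Submodule B X)) = I • (⊤ : Submodule B Y) := by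
  rw [Submodule.map_smul'', Submodule.map_top, LinearMap.range_eq_top.mpr hg]

variable (f : X →ₗ[B] Y) (u : Y →ₗ[B] W) (H : Function.Exact f u)

include H in
/-- An element of the kernel of `ū` whose image in the range of `u` lies in `I • ⊤` up to `s`
comes from `X / I X` up to `s`. -/
theorem smul_mk_mem_range_barMap (s : B) (y : Y)
    (h : s • u.rangeRestrict y ∈ I • (⊤ : Submodule B (LinearMap.range u))) :
    s • (Submodule.Quotient.mk y : Y ⧸ I • (⊤ : Submodule B Y)) ∈
      LinearMap.range (barMap I f) := by
  rw [← map_smul_top_of_surjective I u.rangeRestrict u.surjective_rangeRestrict] at h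
  obtain ⟨y', hy', e⟩ := h
  have h0 : u (s • y - y') = 0 := by
    have e' := congrArg Subtype.val e
    rw [map_sub, map_smul, sub_eq_zero]
    exact e'.symm
  obtain ⟨x, hx⟩ := (H _).mp h0
  refine ⟨Submodule.Quotient.mk x, ?_⟩
  rw [barMap_mk, hx, Submodule.Quotient.mk_sub, Submodule.Quotient.mk_smul,
    (Submodule.Quotient.mk_eq_zero _).mpr hy', sub_zero]

include H in
/-- If membership in `I • ⊤` is reflected by the inclusion of the range of `u`, the complex of
closed fibres is exact in the middle. -/
theorem ker_barMap_le_of_reflects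
    (hP : ∀ y : LinearMap.range u, (y : W) ∈ I • (⊤ : Submodule B W) →
      y ∈ I • (⊤ : Submodule B (LinearMap.range u))) :
    LinearMap.ker (barMap I u) ≤ LinearMap.range (barMap I f) := by
  intro x hx
  obtain ⟨y, rfl⟩ := Submodule.Quotient.mk_surjective _ x
  rw [LinearMap.mem_ker, barMap_mk, Submodule.Quotient.mk_eq_zero] at hx
  have := smul_mk_mem_range_barMap I f u H 1 y (by
    rw [one_smul]
    exact hP (u.rangeRestrict y) hx)
  rwa [one_smul] at this

include H in
/-- Conversely, exactness in the middle of the complex of closed fibres gives that membership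
in `I • ⊤` is reflected by the inclusion of the range of `u`. -/
theorem reflects_of_ker_barMap_le
    (hle : LinearMap.ker (barMap I u) ≤ LinearMap.range (barMap I f))
    (y : LinearMap.range u) (hy : (y : W) ∈ I • (⊤ : Submodule B W)) :
    y ∈ I • (⊤ : Submodule B (LinearMap.range u)) := by
  obtain ⟨x, hx⟩ := u.surjective_rangeRestrict y
  have hx' : u x = (y : W) := congrArg Subtype.val hx
  have h1 : (Submodule.Quotient.mk x : Y ⧸ I • (⊤ : Submodule B Y)) ∈
      LinearMap.ker (barMap I u) := by
    rw [LinearMap.mem_ker, barMap_mk, Submodule.Quotient.mk_eq_zero, hx']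
    exact hy
  obtain ⟨z, hz⟩ := hle h1
  obtain ⟨z, rfl⟩ := Submodule.Quotient.mk_surjective _ z
  rw [barMap_mk, Submodule.Quotient.eq] at hz
  have h2 : u.rangeRestrict (f z - x) ∈ Submodule.map u.rangeRestrict
      (I • (⊤ : Submodule B Y)) := Submodule.mem_map_of_mem hz
  rw [map_smul_top_of_surjective I u.rangeRestrict u.surjective_rangeRestrict] at h2
  have h3 : u.rangeRestrict (f z - x) = - y := by
    apply Subtype.ext
    change u (f z - x) = - (y : W)
    rw [map_sub, H.apply_apply_eq_zero, zero_sub, hx']
  rw [h3] at h2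
  simpa using neg_mem h2

include H in
/-- The composite of the maps of closed fibres vanishes. -/
theorem range_barMap_le_ker : LinearMap.range (barMap I f) ≤ LinearMap.ker (barMap I u) := by
  rintro _ ⟨z, rfl⟩
  obtain ⟨z, rfl⟩ := Submodule.Quotient.mk_surjective _ z
  rw [LinearMap.mem_ker, barMap_mk, barMap_mk, H.apply_apply_eq_zero]
  rfl

end bar

section flat

open IsLocalRing

variable {A B : Type u} [CommRing A] [CommRing B] [Algebra A B]
  {F E0 E1 G : Type u}
  [AddCommGroup F] [Module B F] [Module A F] [IsScalarTower A B F]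
  [AddCommGroup E0] [Module B E0] [Module A E0] [IsScalarTower A B E0]
  [AddCommGroup E1] [Module B E1] [Module A E1] [IsScalarTower A B E1]
  [AddCommGroup G] [Module B G] [Module A G] [IsScalarTower A B G]
  (f : F →ₗ[B] E0) (u : E0 →ₗ[B] E1) (v : E1 →ₗ[B] G)
  (hf : Function.Injective f) (hfu : Function.Exact f u) (huv : Function.Exact u v)
  (hv : Function.Surjective v)

include huv in
theorem exact_subtype_range : Function.Exact (LinearMap.range u).subtype v := by
  intro y
  rw [huv y]
  constructor
  · rintro ⟨x, rfl⟩
    exact ⟨⟨u x, x, rfl⟩, rfl⟩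
  · rintro ⟨⟨_, x, rfl⟩, rfl⟩
    exact ⟨x, rfl⟩

include hfu in
theorem exact_rangeRestrict : Function.Exact f u.rangeRestrict := by
  intro y
  rw [← hfu y]
  constructor
  · intro h
    exact congrArg Subtype.val h
  · intro h
    exact Subtype.ext h

include huv hv in
/-- With `E¹` and `G` flat, the image of `u` is flat. -/
theorem flat_range_of_flat [Module.Flat A E1] [Module.Flat A G] :
    Module.Flat A (LinearMap.range u) :=
  flat_of_exact_flat_flat ((LinearMap.range u).subtype.restrictScalars A) (v.restrictScalars A)
    Subtype.val_injective hv (exact_subtype_range u v huv)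

include hf hfu huv hv in
/-- With `E⁰`, `E¹` and `G` flat, `F` is flat. -/
theorem flat_ker_of_flat [Module.Flat A E0] [Module.Flat A E1] [Module.Flat A G] :
    Module.Flat A F := by
  haveI := flat_range_of_flat (A := A) u v huv hv
  exact flat_of_exact_flat_flat (f.restrictScalars A) (u.rangeRestrict.restrictScalars A) hf
    u.surjective_rangeRestrict (exact_rangeRestrict f u hfu)

include huv hv in
/-- With `G` flat, membership in `m • ⊤` is reflected by the inclusion of the image of `u`. -/
theorem reflects_of_flat [IsLocalRing A] [Module.Flat A G] (y : LinearMap.range u)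
    (hy : (y : E1) ∈ (maximalIdeal A).map (algebraMap A B) • (⊤ : Submodule B E1)) :
    y ∈ (maximalIdeal A).map (algebraMap A B) • (⊤ : Submodule B (LinearMap.range u)) := by
  rw [← FlatMod.mem_smul_top_iff] at hy ⊢
  exact mem_smul_top_of_flat_coker ((LinearMap.range u).subtype.restrictScalars A)
    (v.restrictScalars A) Subtype.val_injective hv (exact_subtype_range u v huv) _ y hy

include hf hfu huv hv in
/-- With `E¹` and `G` flat, the map of closed fibres `F̄ → Ē⁰` is injective. -/
theorem barMap_injective_of_flat [IsLocalRing A] [Module.Flat A E1] [Module.Flat A G] :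
    Function.Injective (barMap ((maximalIdeal A).map (algebraMap A B)) f) := by
  haveI := flat_range_of_flat (A := A) u v huv hv
  rw [injective_iff_map_eq_zero]
  intro c hc
  obtain ⟨z, rfl⟩ := Submodule.Quotient.mk_surjective _ c
  rw [barMap_mk, Submodule.Quotient.mk_eq_zero] at hc
  rw [Submodule.Quotient.mk_eq_zero]
  rw [← FlatMod.mem_smul_top_iff] at hc ⊢
  exact mem_smul_top_of_flat_coker (f.restrictScalars A) (u.rangeRestrict.restrictScalars A) hf
    u.surjective_rangeRestrict (exact_rangeRestrict f u hfu) _ z hc

include huv hv in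
/-- If membership in `m • ⊤` is reflected by the inclusion of the image of `u`, then `G` is
flat. -/
theorem flat_of_reflects [IsLocalRing A] [IsNoetherianRing B] [IsLocalRing B]
    [IsLocalHom (algebraMap A B)] [Module.Finite B E1] [Module.Flat A E1]
    (hP : ∀ y : LinearMap.range u,
      (y : E1) ∈ (maximalIdeal A).map (algebraMap A B) • (⊤ : Submodule B E1) →
      y ∈ (maximalIdeal A).map (algebraMap A B) • (⊤ : Submodule B (LinearMap.range u))) :
    Module.Flat A G := by
  set ι : LinearMap.range u →ₗ[A] E1 := (LinearMap.range u).subtype.restrictScalars A with hι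
  have h1 : Function.Injective (ι.lTensor (IsLocalRing.ResidueField A)) := by
    rw [Groth.Agent.Helper1.LocalCrit.lTensor_residueField_injective_iff]
    intro y hy
    rw [FlatMod.mem_smul_top_iff (S := B)] at hy ⊢
    exact hP y hy
  have h2 : Module.Flat A (E1 ⧸ LinearMap.range ι) :=
    Groth.Agent.Helper1.LocalCrit.flat_quotient_range_of_lTensor_residueField_injective
      (S := B) ι h1
  have h3 : LinearMap.range ι = LinearMap.ker (v.restrictScalars A) := by
    ext x
    rw [LinearMap.mem_ker, LinearMap.restrictScalars_apply, exact_subtype_range u v huv x]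
    rfl
  exact Module.Flat.of_linearEquiv ((Submodule.quotEquivOfEq _ _ h3).trans
    ((v.restrictScalars A).quotKerEquivOfSurjective hv)).symm

include huv hv in
/-- Off the non-flat locus of `G`, the image of `u` is flat. -/
theorem flat_localizedModule_range (q : Ideal B) [q.IsPrime] [Module.Flat A E1]
    (hG : Module.Flat A (LocalizedModule q.primeCompl G)) :
    Module.Flat A (LocalizedModule q.primeCompl (LinearMap.range u)) := by
  haveI : Module.Flat A (LocalizedModule q.primeCompl E1) :=
    FibMod.flat_of_isLocalizedModule q.primeCompl (LocalizedModule.mkLinearMap q.primeCompl E1)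
  exact flat_of_exact_flat_flat
    ((IsLocalizedModule.map q.primeCompl
      (LocalizedModule.mkLinearMap q.primeCompl (LinearMap.range u))
      (LocalizedModule.mkLinearMap q.primeCompl E1) (LinearMap.range u).subtype).restrictScalars A)
    ((IsLocalizedModule.map q.primeCompl (LocalizedModule.mkLinearMap q.primeCompl E1)
      (LocalizedModule.mkLinearMap q.primeCompl G) v).restrictScalars A)
    (IsLocalizedModule.map_injective _ _ _ _ Subtype.val_injective)
    (IsLocalizedModule.map_surjective _ _ _ _ hv)
    (IsLocalizedModule.map_exact _ _ _ _ _ _ (exact_subtype_range u v huv))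

variable [IsLocalRing A] [IsNoetherianRing B] (J : Ideal B)

include hf hfu huv hv in
/-- If the closed fibre of `F` has positive `J`-depth and `G` is flat off `V(J)`, the map of
closed fibres `F̄ → Ē⁰` is injective. -/
theorem barMap_injective_of_one_le [Module.Finite B F] [Module.Flat A E1]
    (hGU : ∀ q : PrimeSpectrum B, ¬ J ≤ q.asIdeal →
      Module.Flat A (LocalizedModule q.asIdeal.primeCompl G))
    (h : 1 ≤ idealDepth J (F ⧸ (maximalIdeal A).map (algebraMap A B) • (⊤ : Submodule B F))) :
    Function.Injective (barMap ((maximalIdeal A).map (algebraMap A B)) f) := by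
  rw [injective_iff_map_eq_zero]
  intro c hc
  obtain ⟨z, rfl⟩ := Submodule.Quotient.mk_surjective _ c
  rw [barMap_mk, Submodule.Quotient.mk_eq_zero] at hc
  apply eq_zero_of_forall_prime J _ h
  intro q hq
  haveI := flat_localizedModule_range (A := A) u v huv hv q.asIdeal (hGU q hq)
  obtain ⟨s, hs, hsz⟩ := exists_smul_mem_smul_top_of_localized_flat q.asIdeal.primeCompl
    (LocalizedModule.mkLinearMap q.asIdeal.primeCompl F)
    (LocalizedModule.mkLinearMap q.asIdeal.primeCompl E0)
    (LocalizedModule.mkLinearMap q.asIdeal.primeCompl (LinearMap.range u))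
    f u.rangeRestrict hf u.surjective_rangeRestrict (exact_rangeRestrict f u hfu)
    (maximalIdeal A) z (by rw [FlatMod.mem_smul_top_iff (S := B)]; exact hc)
  refine ⟨s, hs, ?_⟩
  rw [← Submodule.Quotient.mk_smul, Submodule.Quotient.mk_eq_zero, ← FlatMod.mem_smul_top_iff]
  exact hsz

include hf hfu huv hv in
/-- If the closed fibre of `F` has `J`-depth at least two and `G` is flat off `V(J)`, the complex
of closed fibres is exact in the middle. -/
theorem ker_barMap_le_of_two_le [Module.Finite B F] [Module.Finite B E0] [Module.Flat A E1]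
    (hGU : ∀ q : PrimeSpectrum B, ¬ J ≤ q.asIdeal →
      Module.Flat A (LocalizedModule q.asIdeal.primeCompl G))
    (h0 : 1 ≤ idealDepth J (E0 ⧸ (maximalIdeal A).map (algebraMap A B) • (⊤ : Submodule B E0)))
    (h : 2 ≤ idealDepth J (F ⧸ (maximalIdeal A).map (algebraMap A B) • (⊤ : Submodule B F))) :
    LinearMap.ker (barMap ((maximalIdeal A).map (algebraMap A B)) u) ≤
      LinearMap.range (barMap ((maximalIdeal A).map (algebraMap A B)) f) := by
  have hinj := barMap_injective_of_one_le f u v hf hfu huv hv J hGU (le_trans one_le_two h)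
  have hX : 2 ≤ idealDepth J (LinearMap.range (barMap ((maximalIdeal A).map (algebraMap A B)) f)) := by
    rw [← Depth.idealDepth_congr (LinearEquiv.ofInjective _ hinj)]
    exact h
  apply le_of_torsion_quotient J _ _ _ hX h0
  intro p hp q hq
  obtain ⟨x, rfl⟩ := Submodule.Quotient.mk_surjective _ p
  rw [LinearMap.mem_ker, barMap_mk, Submodule.Quotient.mk_eq_zero] at hp
  haveI : Module.Flat A (LocalizedModule q.asIdeal.primeCompl G) := hGU q hq
  obtain ⟨s, hs, hsy⟩ := exists_smul_mem_smul_top_of_localized_flat q.asIdeal.primeCompl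
    (LocalizedModule.mkLinearMap q.asIdeal.primeCompl (LinearMap.range u))
    (LocalizedModule.mkLinearMap q.asIdeal.primeCompl E1)
    (LocalizedModule.mkLinearMap q.asIdeal.primeCompl G)
    (LinearMap.range u).subtype v Subtype.val_injective hv (exact_subtype_range u v huv)
    (maximalIdeal A) (u.rangeRestrict x) (by rw [FlatMod.mem_smul_top_iff (S := B)]; exact hp)
  refine ⟨s, hs, smul_mk_mem_range_barMap _ f u hfu s x ?_⟩
  rw [← FlatMod.mem_smul_top_iff]
  exact hsy

include hfu in
/-- If the complex of closed fibres is left exact, the closed fibre of `F` has `J`-depth at least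
two. -/
theorem two_le_of_barMap [Module.Finite B F] [Module.Finite B E0] [Module.Finite B E1]
    (hinj : Function.Injective (barMap ((maximalIdeal A).map (algebraMap A B)) f))
    (hle : LinearMap.ker (barMap ((maximalIdeal A).map (algebraMap A B)) u) ≤
      LinearMap.range (barMap ((maximalIdeal A).map (algebraMap A B)) f))
    (h0 : 2 ≤ idealDepth J (E0 ⧸ (maximalIdeal A).map (algebraMap A B) • (⊤ : Submodule B E0)))
    (h1 : 1 ≤ idealDepth J (E1 ⧸ (maximalIdeal A).map (algebraMap A B) • (⊤ : Submodule B E1))) :
    2 ≤ idealDepth J (F ⧸ (maximalIdeal A).map (algebraMap A B) • (⊤ : Submodule B F)) := by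
  have heq : LinearMap.range (barMap ((maximalIdeal A).map (algebraMap A B)) f) =
      LinearMap.ker (barMap ((maximalIdeal A).map (algebraMap A B)) u) :=
    le_antisymm (range_barMap_le_ker _ f u hfu) hle
  rw [Depth.idealDepth_congr (LinearEquiv.ofInjective _ hinj), heq]
  exact (Depth.idealDepth_ker J _).2 h0 h1

end flat

end Groth.Agent.Helper8.FourTerm
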