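import Mathlib
import Groth.Prelude
import Groth.Agent.Lib.Helper8.ABS1
import Groth.Agent.Lib.Helper8.FourTerm3

/-!
# Projective dimension of a flat module and of its closed fibre
-/

set_option autoImplicit false
universe u

namespace Groth.Agent.Helper8.PdFib

open IsLocalRing CategoryTheory LocCoh TensorProduct Groth.Agent.Helper8.ABS
  Groth.Agent.Helper8.FourTerm

section fmap

variable (A B : Type u) [CommRing A] [CommRing B] [IsLocalRing A] [Algebra A B]
  {X Y W : Type u} [AddCommGroup X] [Module B X] [AddCommGroup Y] [Module B Y]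
  [AddCommGroup W] [Module B W]

/-- The map induced on closed fibres. -/
noncomputable def fmap (g : X →ₗ[B] Y) :
    EGA4.FibMod A B X →ₗ[EGA4.FibRing A B] EGA4.FibMod A B Y :=
  (barMap (EGA4.mB A B) g).extendScalarsOfSurjective Ideal.Quotient.mk_surjective

@[simp] theorem fmap_mk (g : X →ₗ[B] Y) (x : X) :
    fmap A B g (Submodule.Quotient.mk x) = Submodule.Quotient.mk (g x) := rfl

theorem fmap_surjective {g : X →ₗ[B] Y} (hg : Function.Surjective g) :
    Function.Surjective (fmap A B g) := by
  intro y
  obtain ⟨y, rfl⟩ := Submodule.Quotient.mk_surjective _ y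
  obtain ⟨x, rfl⟩ := hg y
  exact ⟨Submodule.Quotient.mk x, rfl⟩

theorem fmap_exact {f : X →ₗ[B] Y} {u : Y →ₗ[B] W} (H : Function.Exact f u)
    (hu : Function.Surjective u) : Function.Exact (fmap A B f) (fmap A B u) := by
  intro y
  constructor
  · intro hy
    obtain ⟨y, rfl⟩ := Submodule.Quotient.mk_surjective _ y
    rw [fmap_mk, Submodule.Quotient.mk_eq_zero,
      ← map_smul_top_of_surjective (EGA4.mB A B) u hu] at hy
    obtain ⟨y', hy', e⟩ := hy
    have h0 : u (y - y') = 0 := by rw [map_sub, e, sub_self]
    obtain ⟨x, hx⟩ := (H _).mp h0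
    refine ⟨Submodule.Quotient.mk x, ?_⟩
    rw [fmap_mk, hx, Submodule.Quotient.mk_sub,
      (Submodule.Quotient.mk_eq_zero _).mpr hy', sub_zero]
  · rintro ⟨x, rfl⟩
    obtain ⟨x, rfl⟩ := Submodule.Quotient.mk_surjective _ x
    rw [fmap_mk, fmap_mk, H.apply_apply_eq_zero]
    rfl

end fmap

section inj

variable (A B : Type u) [CommRing A] [CommRing B] [IsLocalRing A] [Algebra A B]
  {X Y W : Type u}
  [AddCommGroup X] [Module B X] [Module A X] [IsScalarTower A B X]
  [AddCommGroup Y] [Module B Y] [Module A Y] [IsScalarTower A B Y]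
  [AddCommGroup W] [Module B W] [Module A W] [IsScalarTower A B W]

/-- With an `A`-flat cokernel, the map of closed fibres of an injection is injective. -/
theorem fmap_injective_of_flat [Module.Flat A W] {f : X →ₗ[B] Y} {u : Y →ₗ[B] W}
    (hf : Function.Injective f) (H : Function.Exact f u) (hu : Function.Surjective u) :
    Function.Injective (fmap A B f) := by
  rw [injective_iff_map_eq_zero]
  intro c hc
  obtain ⟨z, rfl⟩ := Submodule.Quotient.mk_surjective _ c
  rw [fmap_mk, Submodule.Quotient.mk_eq_zero] at hc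
  rw [Submodule.Quotient.mk_eq_zero]
  change _ ∈ (maximalIdeal A).map (algebraMap A B) • (⊤ : Submodule B _) at hc ⊢
  rw [← FlatMod.mem_smul_top_iff] at hc ⊢
  exact mem_smul_top_of_flat_coker (f.restrictScalars A) (u.restrictScalars A) hf hu H _ z hc

end inj

section main

variable (A B : Type u) [CommRing A] [CommRing B] [IsNoetherianRing A] [IsNoetherianRing B]
  [IsLocalRing A] [IsLocalRing B] [Algebra A B] [IsLocalHom (algebraMap A B)]

omit [IsNoetherianRing A] [IsNoetherianRing B] in
theorem mB_le : EGA4.mB A B ≤ maximalIdeal B :=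
  IsLocalRing.map_maximalIdeal_le (algebraMap A B)

omit [IsNoetherianRing A] [IsNoetherianRing B] in
theorem mk_mem_maximalIdeal {b : B} (hb : b ∈ maximalIdeal B) :
    Ideal.Quotient.mk (EGA4.mB A B) b ∈ maximalIdeal (EGA4.FibRing A B) := by
  have h := IsLocalRing.map_maximalIdeal_of_surjective (Ideal.Quotient.mk (EGA4.mB A B))
    Ideal.Quotient.mk_surjective
  rw [← h]
  exact Ideal.mem_map_of_mem _ hb

omit [IsNoetherianRing A] [IsNoetherianRing B] [IsLocalRing B] [IsLocalHom (algebraMap A B)] in
theorem projective_fib_of_projective (N : Type u) [AddCommGroup N] [Module B N]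
    [Module.Projective B N] :
    Module.Projective (EGA4.FibRing A B) (EGA4.FibMod A B N) := by
  let e : (B ⧸ EGA4.mB A B) ⊗[B] N ≃ₗ[B ⧸ EGA4.mB A B] N ⧸ EGA4.mB A B • (⊤ : Submodule B N) :=
    (TensorProduct.quotTensorEquivQuotSMul N (EGA4.mB A B)).extendScalarsOfSurjective
      Ideal.Quotient.mk_surjective
  exact Module.Projective.of_equiv e

variable [Module.Flat A B]

omit [IsNoetherianRing A] in
/-- If the closed fibre of an `A`-flat finite `B`-module is projective, the module is free. -/
theorem free_of_projective_fib (N : Type u) [AddCommGroup N] [Module B N] [Module A N]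
    [IsScalarTower A B N] [Module.Finite B N] [Module.Flat A N]
    [Module.Projective (EGA4.FibRing A B) (EGA4.FibMod A B N)] : Module.Free B N := by
  obtain ⟨r, π, hπ, hker⟩ := exists_minimal_cover (R := B) N
  set K := LinearMap.ker π with hK
  haveI : Module.Flat A (Fin r → B) := Module.Flat.trans A B (Fin r → B)
  have hinj : Function.Injective (fmap A B K.subtype) :=
    fmap_injective_of_flat A B K.injective_subtype (LinearMap.exact_subtype_ker_map π) hπ
  have hex : Function.Exact (fmap A B K.subtype) (fmap A B π) :=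
    fmap_exact A B (LinearMap.exact_subtype_ker_map π) hπ
  obtain ⟨s, hs⟩ := Module.projective_lifting_property (fmap A B π) LinearMap.id
    (fmap_surjective A B hπ)
  set D := LinearMap.ker (fmap A B π) with hD
  have hDle : D ≤ maximalIdeal (EGA4.FibRing A B) • D := by
    intro d hd
    obtain ⟨c, rfl⟩ := (hex d).mp hd
    obtain ⟨k, rfl⟩ := Submodule.Quotient.mk_surjective _ c
    rw [fmap_mk]
    have hk : (K.subtype k) ∈ maximalIdeal B • (⊤ : Submodule B (Fin r → B)) := hker k.2
    have h1 : (Submodule.Quotient.mk (K.subtype k) : EGA4.FibMod A B (Fin r → B)) ∈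
        maximalIdeal (EGA4.FibRing A B) •
          (⊤ : Submodule (EGA4.FibRing A B) (EGA4.FibMod A B (Fin r → B))) := by
      refine Submodule.smul_induction_on hk ?_ ?_
      · intro b hb f _
        have : (Submodule.Quotient.mk (b • f) : EGA4.FibMod A B (Fin r → B)) =
            (Ideal.Quotient.mk (EGA4.mB A B) b) • Submodule.Quotient.mk f := rfl
        rw [this]
        exact Submodule.smul_mem_smul (mk_mem_maximalIdeal A B hb) Submodule.mem_top
      · intro x y hx hy
        rw [Submodule.Quotient.mk_add]
        exact add_mem hx hy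
    let φ : EGA4.FibMod A B (Fin r → B) →ₗ[EGA4.FibRing A B] EGA4.FibMod A B (Fin r → B) :=
      LinearMap.id - s ∘ₗ fmap A B π
    have hφ : φ (Submodule.Quotient.mk (K.subtype k)) = Submodule.Quotient.mk (K.subtype k) := by
      have h0 : fmap A B π (Submodule.Quotient.mk (K.subtype k)) = 0 := by
        rw [fmap_mk]
        have : π (K.subtype k) = 0 := k.2
        rw [this]
        rfl
      simp only [φ, LinearMap.sub_apply, LinearMap.id_apply, LinearMap.comp_apply, h0, map_zero,
        sub_zero]
    have h2 : φ (Submodule.Quotient.mk (K.subtype k)) ∈ Submodule.map φ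
        (maximalIdeal (EGA4.FibRing A B) •
          (⊤ : Submodule (EGA4.FibRing A B) (EGA4.FibMod A B (Fin r → B)))) :=
      Submodule.mem_map_of_mem h1
    rw [Submodule.map_smul'', hφ] at h2
    refine Submodule.smul_mono le_rfl ?_ h2
    rintro _ ⟨x, -, rfl⟩
    rw [hD, LinearMap.mem_ker]
    have h3 : fmap A B π (s (fmap A B π x)) = fmap A B π x := by
      have := LinearMap.congr_fun hs (fmap A B π x)
      simpa using this
    simp only [φ, LinearMap.sub_apply, LinearMap.id_apply, LinearMap.comp_apply, map_sub, h3,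
      sub_self]
  have hD0 : D = ⊥ :=
    Submodule.eq_bot_of_le_smul_of_le_jacobson_bot _ D (IsNoetherian.noetherian D) hDle
      (IsLocalRing.maximalIdeal_le_jacobson _)
  have hKtop : (⊤ : Submodule B K) ≤ EGA4.mB A B • (⊤ : Submodule B K) := by
    intro k _
    have h1 : fmap A B K.subtype (Submodule.Quotient.mk k) ∈ D := by
      rw [hD, LinearMap.mem_ker]
      exact hex.apply_apply_eq_zero _
    rw [hD0, Submodule.mem_bot] at h1
    have h2 := hinj (h1.trans (map_zero _).symm)
    exact (Submodule.Quotient.mk_eq_zero _).mp h2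
  have hK0 : (⊤ : Submodule B K) = ⊥ :=
    Submodule.eq_bot_of_le_smul_of_le_jacobson_bot (EGA4.mB A B) ⊤ (IsNoetherian.noetherian _)
      hKtop ((mB_le A B).trans (IsLocalRing.maximalIdeal_le_jacobson _))
  have hKbot : K = ⊥ := by
    rw [Submodule.eq_bot_iff]
    intro x hx
    have h1 : (⟨x, hx⟩ : K) ∈ (⊤ : Submodule B K) := Submodule.mem_top
    rw [hK0, Submodule.mem_bot] at h1
    exact congrArg Subtype.val h1
  exact Module.Free.of_equiv (LinearEquiv.ofBijective π ⟨LinearMap.ker_eq_bot.mp hKbot, hπ⟩)

end main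

end Groth.Agent.Helper8.PdFib
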