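import Mathlib
import Groth.Prelude
import Groth.Agent.Lib.Helper8.PdFib1
import Groth.Agent.Lib.Helper8.Depth3

/-!
# Projective dimension of a flat module equals that of its closed fibre
-/

set_option autoImplicit false
universe u

namespace Groth.Agent.Helper8.PdFib

open IsLocalRing CategoryTheory LocCoh TensorProduct Groth.Agent.Helper8.ABS
  Groth.Agent.Helper8.FourTerm

variable (A B : Type u) [CommRing A] [CommRing B] [IsNoetherianRing A] [IsNoetherianRing B]
  [IsLocalRing A] [IsLocalRing B] [Algebra A B] [IsLocalHom (algebraMap A B)] [Module.Flat A B]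

omit [IsNoetherianRing A] in
theorem hasPDLT_iff (n : ℕ) : ∀ (N : Type u) [AddCommGroup N] [Module B N] [Module A N]
    [IsScalarTower A B N] [Module.Finite B N] [Module.Flat A N],
    HasProjectiveDimensionLT (ModuleCat.of (EGA4.FibRing A B) (EGA4.FibMod A B N)) (n + 1) ↔
      HasProjectiveDimensionLT (ModuleCat.of B N) (n + 1) := by
  induction n with
  | zero =>
    intro N _ _ _ _ _ _
    constructor
    · intro h
      have h1 : Projective (ModuleCat.of (EGA4.FibRing A B) (EGA4.FibMod A B N)) :=
        projective_iff_hasProjectiveDimensionLT_one.mpr h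
      haveI h2 : Module.Projective (EGA4.FibRing A B) (EGA4.FibMod A B N) :=
        (IsProjective.iff_projective _).mpr h1
      haveI := free_of_projective_fib A B N
      infer_instance
    · intro h
      have h1 : Projective (ModuleCat.of B N) :=
        projective_iff_hasProjectiveDimensionLT_one.mpr h
      haveI h2 : Module.Projective B N := (IsProjective.iff_projective _).mpr h1
      haveI := projective_fib_of_projective A B N
      have : Projective (ModuleCat.of (EGA4.FibRing A B) (EGA4.FibMod A B N)) :=
        (IsProjective.iff_projective _).mp inferInstance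
      infer_instance
  | succ n ih =>
    intro N _ _ _ _ _ _
    obtain ⟨r, π, hπ, -⟩ := exists_minimal_cover (R := B) N
    set K := LinearMap.ker π with hK
    haveI : Module.Flat A (Fin r → B) := Module.Flat.trans A B (Fin r → B)
    haveI : Module.Flat A K :=
      flat_of_exact_flat_flat (K.subtype.restrictScalars A) (π.restrictScalars A)
        K.injective_subtype hπ (LinearMap.exact_subtype_ker_map π)
    have hcomp : (fmap A B π).comp (fmap A B K.subtype) = 0 := by
      apply LinearMap.ext
      intro q
      obtain ⟨k, rfl⟩ := Submodule.Quotient.mk_surjective _ q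
      rw [LinearMap.comp_apply, fmap_mk, fmap_mk]
      have : π (K.subtype k) = 0 := k.2
      rw [this]
      rfl
    let Sbar : ShortComplex (ModuleCat.{u} (EGA4.FibRing A B)) :=
      ModuleCat.shortComplexOfCompEqZero (fmap A B K.subtype) (fmap A B π) hcomp
    have hSbar : Sbar.ShortExact := ModuleCat.shortComplex_shortExact Sbar
      (fmap_exact A B (LinearMap.exact_subtype_ker_map π) hπ)
      (fmap_injective_of_flat A B K.injective_subtype (LinearMap.exact_subtype_ker_map π) hπ)
      (fmap_surjective A B hπ)
    have hS := LinearMap.shortExact_shortComplexKer hπ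
    have hP2 : Projective Sbar.X₂ := by
      change Projective (ModuleCat.of (EGA4.FibRing A B) (EGA4.FibMod A B (Fin r → B)))
      haveI := projective_fib_of_projective A B (Fin r → B)
      exact (IsProjective.iff_projective _).mp inferInstance
    exact (hSbar.hasProjectiveDimensionLT_X₃_iff n hP2).trans
      ((ih K).trans (hS.hasProjectiveDimensionLT_X₃_iff n inferInstance).symm)

omit [IsNoetherianRing A] [IsNoetherianRing B] [Module.Flat A B] in
theorem subsingleton_fib_iff (N : Type u) [AddCommGroup N] [Module B N] [Module.Finite B N] :
    Subsingleton (EGA4.FibMod A B N) ↔ Subsingleton N := by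
  constructor
  · intro h
    by_contra hN
    rw [not_subsingleton_iff_nontrivial] at hN
    have h1 : EGA4.mB A B • (⊤ : Submodule B N) = ⊤ := by
      by_contra hne
      have := Submodule.Quotient.nontrivial_iff.mpr hne
      exact not_subsingleton _ h
    apply Groth.Agent.Helper8.Depth.smul_top_ne_top_of_local B N
    exact top_le_iff.mp (h1.symm.le.trans (Submodule.smul_mono_left (mB_le A B)))
  · intro h
    infer_instance

omit [IsNoetherianRing A] [IsNoetherianRing B] [IsLocalRing A] [IsLocalRing B] [Algebra A B]
  [IsLocalHom (algebraMap A B)] [Module.Flat A B] in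
theorem le_of_forall_lt (a b : WithBot ℕ∞) (h : ∀ n : ℕ, b < n → a < n) : a ≤ b := by
  induction b with
  | bot =>
    have h1 := h 0 (by simp)
    have h2 : a = ⊥ := by rwa [Nat.cast_zero, WithBot.lt_zero_iff_eq_bot] at h1
    rw [h2]
  | coe b =>
    induction b with
    | top => exact le_top
    | coe m =>
      have h1 : (((m : ℕ∞)) : WithBot ℕ∞) < ((m + 1 : ℕ) : WithBot ℕ∞) := by
        exact_mod_cast Nat.lt_succ_self m
      have h2 := h (m + 1) h1
      rw [Nat.cast_add, Nat.cast_one, ENat.WithBot.lt_add_one_iff] at h2
      exact_mod_cast h2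

omit [IsNoetherianRing A] in
/-- **S2602.** -/
theorem projectiveDimension_eq (N : Type u) [AddCommGroup N] [Module B N] [Module A N]
    [IsScalarTower A B N] [Module.Finite B N] [Module.Flat A N] :
    projectiveDimension (ModuleCat.of B N) =
      projectiveDimension (ModuleCat.of (EGA4.FibRing A B) (EGA4.FibMod A B N)) := by
  have key : ∀ n : ℕ, projectiveDimension (ModuleCat.of B N) < n ↔
      projectiveDimension (ModuleCat.of (EGA4.FibRing A B) (EGA4.FibMod A B N)) < n := by
    intro n
    rw [projectiveDimension_lt_iff, projectiveDimension_lt_iff]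
    cases n with
    | zero =>
      rw [hasProjectiveDimensionLT_zero_iff_isZero, hasProjectiveDimensionLT_zero_iff_isZero,
        ModuleCat.isZero_of_iff_subsingleton, ModuleCat.isZero_of_iff_subsingleton,
        subsingleton_fib_iff]
    | succ n => exact (hasPDLT_iff A B n N).symm
  exact le_antisymm (le_of_forall_lt _ _ fun n hn => (key n).mpr hn)
    (le_of_forall_lt _ _ fun n hn => (key n).mp hn)

end Groth.Agent.Helper8.PdFib
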