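import Mathlib
import Groth.Prelude
import Groth.Agent.Lib.Helper8.PdFib2
import Groth.Agent.Lib.Helper8.ABS19
import Groth.Agent.Lib.Helper8.FlatReg11
import Groth.Agent.Lib.Helper8.IntegralDim
import Groth.Agent.Lib.Helper8.Depth17

/-!
# Perfect modules along a flat local homomorphism have Cohen–Macaulay fibres

Let `A → B` be a flat local homomorphism of Noetherian local rings whose closed fibre `F` is
Cohen–Macaulay, and `N` a finite `B`-module, flat over `A`, of projective dimension at most `n`
whose annihilator contains a `B`-regular sequence of length `n`.  Then `N / m_A N` is a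
Cohen–Macaulay `F`-module.
-/

set_option autoImplicit false
universe u

namespace Groth.Agent.Helper8.CMF

open CategoryTheory IsLocalRing LocCoh RingTheory.Sequence

section

variable (A B : Type u) [CommRing A] [CommRing B] [IsNoetherianRing A] [IsNoetherianRing B]
  [IsLocalRing A] [IsLocalRing B] [Algebra A B] [IsLocalHom (algebraMap A B)] [Module.Flat A B]

theorem supportDim_add_le_of_regular_annihilator (N : Type u) [AddCommGroup N] [Module B N]
    [Nontrivial N] (xs : List B) (hreg : IsWeaklyRegular B xs)
    (hann : ∀ x ∈ xs, x ∈ Module.annihilator B N) :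
    Module.supportDim B N + xs.length ≤ ringKrullDim B := by
  have hmem : ∀ x ∈ xs, x ∈ maximalIdeal B := by
    intro x hx
    rw [mem_maximalIdeal, mem_nonunits_iff]
    intro hu
    have h1 : (1 : B) ∈ Module.annihilator B N := by
      have := (Module.annihilator B N).mul_mem_left (↑hu.unit⁻¹ : B) (hann x hx)
      rwa [IsUnit.val_inv_mul] at this
    obtain ⟨m, hm⟩ := exists_ne (0 : N)
    apply hm
    have := Module.mem_annihilator.mp h1 m
    rwa [one_smul] at this
  have hreg' : IsRegular B xs :=
    Depth.isRegular_of_isWeaklyRegular_of_mem (I := maximalIdeal B)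
      (Depth.smul_top_ne_top_of_local B B) hreg hmem
  have h1 := Module.supportDim_add_length_eq_supportDim_of_isRegular (R := B) (M := B) xs hreg'
  rw [Module.supportDim_self_eq_ringKrullDim] at h1
  rw [← h1]
  gcongr
  apply FlatMod.supportDim_le_of_support_subset
  intro p hp
  have h2 := Module.annihilator_le_of_mem_support hp
  rw [Module.mem_support_iff_of_finite]
  refine le_trans ?_ h2
  intro b hb
  rw [Module.mem_annihilator] at hb
  have hb1 := hb (Submodule.Quotient.mk 1)
  rw [← Submodule.Quotient.mk_smul, Submodule.Quotient.mk_eq_zero] at hb1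
  have hb2 : b ∈ Ideal.ofList xs := by
    have : Ideal.ofList xs • (⊤ : Submodule B B) = Ideal.ofList xs := by simp
    rw [← this]
    have h3 : b • (1 : B) = b := by rw [smul_eq_mul, mul_one]
    rw [← h3]
    exact hb1
  have hle : Ideal.ofList xs ≤ Module.annihilator B N := by
    rw [Ideal.ofList, Ideal.span_le]
    intro x hx
    exact hann x hx
  exact hle hb2

/-- **Perfect modules have Cohen–Macaulay fibres.** -/
theorem isCohenMacaulayModule_fibMod (N : Type u) [AddCommGroup N] [Module B N] [Module A N]
    [IsScalarTower A B N] [Module.Finite B N] [Module.Flat A N] [Nontrivial N]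
    (hF : IsCohenMacaulayLocalRing (EGA4.FibRing A B)) (n : ℕ)
    (hpd : HasProjectiveDimensionLT (ModuleCat.of B N) (n + 1))
    (xs : List B) (hlen : xs.length = n) (hreg : IsWeaklyRegular B xs)
    (hann : ∀ x ∈ xs, x ∈ Module.annihilator B N) :
    IsCohenMacaulayModule (EGA4.FibRing A B) (EGA4.FibMod A B N) := by
  haveI : Nontrivial (EGA4.FibMod A B N) := by
    rw [← not_subsingleton_iff_nontrivial, PdFib.subsingleton_fib_iff A B N,
      not_subsingleton_iff_nontrivial]
    infer_instance
  have hpdF := (PdFib.hasPDLT_iff A B n N).mpr hpd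
  obtain ⟨e, hen, he⟩ := ABS.exists_projectiveDimension_eq (A := EGA4.FibRing A B)
    (EGA4.FibMod A B N) n hpdF
  have hAB := ABS.auslander_buchsbaum (EGA4.FibRing A B) (EGA4.FibMod A B N) e he
  have hFcm := hF.supportDim_eq_depth
  rw [Module.supportDim_self_eq_ringKrullDim] at hFcm
  have hdimB := FlatReg.ringKrullDim_eq_add_of_flat A B
  have hdimN := FlatMod.supportDim_tensor_eq (R := A) (S := B) N A
  rw [Module.supportDim_eq_of_equiv (TensorProduct.AlgebraTensorModule.rid A B N),
    Module.supportDim_self_eq_ringKrullDim] at hdimN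
  have hres := Depth.supportDim_restrictScalars_eq B (EGA4.FibRing A B) (EGA4.FibMod A B N)
  have hxs := supportDim_add_le_of_regular_annihilator B N xs hreg hann
  rw [hlen] at hxs
  have hle : ((depth (EGA4.FibRing A B) (EGA4.FibMod A B N) : ℕ∞) : WithBot ℕ∞) ≤
      Module.supportDim (EGA4.FibRing A B) (EGA4.FibMod A B N) := Depth.depth_le_supportDim
  unfold IsCohenMacaulayModule
  refine le_antisymm ?_ hle
  obtain ⟨a, ha⟩ := Depth.exists_nat_supportDim (A := A) A
  rw [Module.supportDim_self_eq_ringKrullDim] at ha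
  obtain ⟨f, hf⟩ := Depth.exists_nat_supportDim (A := EGA4.FibRing A B) (EGA4.FibRing A B)
  rw [Module.supportDim_self_eq_ringKrullDim] at hf
  obtain ⟨s, hs⟩ := Depth.exists_nat_supportDim (A := EGA4.FibRing A B) (EGA4.FibMod A B N)
  obtain ⟨t, ht⟩ := ENat.ne_top_iff_exists.mp
    (Depth.idealDepth_ne_top (Depth.smul_top_ne_top_of_local (EGA4.FibRing A B)
      (EGA4.FibMod A B N)))
  have ht' : depth (EGA4.FibRing A B) (EGA4.FibMod A B N) = (t : ℕ∞) := ht.symm
  rw [ht'] at hAB ⊢
  rw [hs]
  rw [hAB, hf] at hFcm
  have h1 : f = e + t := by exact_mod_cast hFcm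
  have hs' : Module.supportDim B (FlatMod.Fib A B N) = (s : WithBot ℕ∞) := by
    rw [← hs]; exact hres
  rw [hs', ha] at hdimN
  rw [ha] at hdimB
  change ringKrullDim B = (a : WithBot ℕ∞) + ringKrullDim (EGA4.FibRing A B) at hdimB
  rw [hf] at hdimB
  rw [hdimN, hdimB] at hxs
  have h2 : a + s + n ≤ a + f := by exact_mod_cast hxs
  have h3 : s ≤ t := by omega
  exact_mod_cast h3

end

end Groth.Agent.Helper8.CMF
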