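import Mathlib
import Groth.Prelude
import Groth.Agent.Lib.Helper8.CMF1

/-!
# Perfect quotient algebras along a flat local homomorphism have Cohen–Macaulay closed fibre
-/

set_option autoImplicit false
universe u

namespace Groth.Agent.Helper8.CMF

open CategoryTheory IsLocalRing LocCoh RingTheory.Sequence

section

variable (A B C : Type u) [CommRing A] [CommRing B] [CommRing C]
  [IsNoetherianRing A] [IsNoetherianRing B] [IsNoetherianRing C]
  [IsLocalRing A] [IsLocalRing B] [IsLocalRing C] [Algebra A B] [Algebra B C] [Algebra A C]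
  [IsScalarTower A B C] [IsLocalHom (algebraMap A B)]

omit [IsNoetherianRing A] [IsNoetherianRing B] [IsNoetherianRing C] [IsLocalRing B]
  [IsLocalRing C] [IsLocalHom (algebraMap A B)] in
theorem mB_smul_top_eq (hsurj : Function.Surjective (algebraMap B C)) :
    (EGA4.mB A B • (⊤ : Submodule B C)) = (EGA4.mB A C).restrictScalars B := by
  have hJ : EGA4.mB A C = (EGA4.mB A B).map (algebraMap B C) := by
    unfold EGA4.mB
    rw [Ideal.map_map, ← IsScalarTower.algebraMap_eq]
  apply le_antisymm
  · rw [Submodule.smul_le]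
    intro b hb c _
    rw [Submodule.restrictScalars_mem, hJ, Algebra.smul_def]
    exact Ideal.mul_mem_right _ _ (Ideal.mem_map_of_mem _ hb)
  · intro x hx
    rw [Submodule.restrictScalars_mem, hJ, Ideal.mem_map_iff_of_surjective _ hsurj] at hx
    obtain ⟨b, hb, rfl⟩ := hx
    have : algebraMap B C b = b • (1 : C) := by rw [Algebra.smul_def, mul_one]
    rw [this]
    exact Submodule.smul_mem_smul hb Submodule.mem_top

/-- The `B`-linear identification of the closed fibre module of `C` with the closed fibre ring. -/
noncomputable def fibEquiv (hsurj : Function.Surjective (algebraMap B C)) :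
    EGA4.FibMod A B C ≃ₗ[B] EGA4.FibRing A C :=
  Submodule.quotEquivOfEq _ _ (mB_smul_top_eq A B C hsurj) ≪≫ₗ
    Submodule.Quotient.restrictScalarsEquiv B (EGA4.mB A C)

/-- **Perfect quotients have Cohen–Macaulay fibres** (closed fibre version). -/
theorem isCohenMacaulayLocalRing_fibRing_of_perfect [Module.Flat A B] [Module.Flat A C]
    [IsLocalHom (algebraMap A C)] (hsurj : Function.Surjective (algebraMap B C))
    (hF : IsCohenMacaulayLocalRing (EGA4.FibRing A B)) (n : ℕ)
    (hpd : HasProjectiveDimensionLT (ModuleCat.of B C) (n + 1))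
    (xs : List B) (hlen : xs.length = n) (hreg : IsWeaklyRegular B xs)
    (hker : ∀ x ∈ xs, algebraMap B C x = 0) :
    IsCohenMacaulayLocalRing (EGA4.FibRing A C) := by
  haveI : Module.Finite B C := Module.Finite.of_surjective (Algebra.linearMap B C) hsurj
  have hann : ∀ x ∈ xs, x ∈ Module.annihilator B C := by
    intro x hx
    rw [Module.mem_annihilator]
    intro c
    rw [Algebra.smul_def, hker x hx, zero_mul]
  have h := isCohenMacaulayModule_fibMod A B C hF n hpd xs hlen hreg hann
  unfold IsCohenMacaulayModule at h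
  haveI : IsLocalHom (algebraMap B (EGA4.FibRing A B)) :=
    IsLocalHom.of_surjective _ Ideal.Quotient.mk_surjective
  have hBG : Function.Surjective (algebraMap B (EGA4.FibRing A C)) := by
    rw [IsScalarTower.algebraMap_eq B C (EGA4.FibRing A C)]
    exact Ideal.Quotient.mk_surjective.comp hsurj
  haveI : IsLocalHom (algebraMap B (EGA4.FibRing A C)) := IsLocalHom.of_surjective _ hBG
  haveI : Module.Finite B (EGA4.FibRing A C) :=
    Module.Finite.of_surjective (Algebra.linearMap B (EGA4.FibRing A C)) hBG
  have hd1 : depth B (EGA4.FibMod A B C) = depth (EGA4.FibRing A B) (EGA4.FibMod A B C) :=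
    Depth.depth_eq_of_tower B (EGA4.FibRing A B) (EGA4.FibMod A B C)
  have hd2 : depth B (EGA4.FibMod A B C) = depth B (EGA4.FibRing A C) :=
    Depth.idealDepth_congr (fibEquiv A B C hsurj)
  have hd3 : depth B (EGA4.FibRing A C) = depth (EGA4.FibRing A C) (EGA4.FibRing A C) :=
    Depth.depth_eq_of_tower B (EGA4.FibRing A C) (EGA4.FibRing A C)
  have hs1 := Depth.supportDim_restrictScalars_eq B (EGA4.FibRing A B) (EGA4.FibMod A B C)
  have hs2 := Module.supportDim_eq_of_equiv (fibEquiv A B C hsurj)
  have hs3 := Depth.supportDim_restrictScalars_eq B (EGA4.FibRing A C) (EGA4.FibRing A C)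
  refine ⟨?_⟩
  rw [← hs3, ← hs2, hs1, h, ← hd1, hd2, hd3]

end

end Groth.Agent.Helper8.CMF
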