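import Mathlib
import Groth.Prelude
import Groth.Agent.Lib.Helper8.CMF2
import Groth.Agent.Lib.Helper8.Fib5
import Groth.Agent.Lib.Helper8.ABS6

/-!
# Perfect quotient algebras of a flat algebra with Cohen–Macaulay fibres
-/

set_option autoImplicit false
universe u

namespace Groth.Agent.Helper8.CMF

open CategoryTheory IsLocalRing LocCoh RingTheory.Sequence

section transfer

theorem isCohenMacaulayLocalRing_of_ringEquiv {C C' : Type u} [CommRing C] [CommRing C']
    (e : C ≃+* C') (h : IsCohenMacaulayLocalRing C) : IsCohenMacaulayLocalRing C' := by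
  haveI : IsNoetherianRing C' := isNoetherianRing_of_ringEquiv C e
  haveI : IsLocalRing C' := e.isLocalRing
  refine ⟨?_⟩
  have h1 := h.supportDim_eq_depth
  rw [Module.supportDim_self_eq_ringKrullDim] at h1 ⊢
  rw [← ringKrullDim_eq_of_ringEquiv e, h1, Serre.depth_self_eq_of_ringEquiv e]

variable {R S : Type u} [CommRing R] [CommRing S] [Algebra R S] [IsNoetherianRing S]

/-- The fibre ring over `p` is Cohen–Macaulay as soon as all the fibre local rings at the primes
over `p` are. -/
theorem isCohenMacaulayRing_fiber_of_fibLocRing (p : Ideal R) [p.IsPrime]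
    (h : ∀ (Q : Ideal S) [Q.IsPrime], Q.comap (algebraMap R S) = p →
      IsCohenMacaulayLocalRing (EGA4.FibLocRing R S Q)) :
    IsCohenMacaulayRing (p.Fiber S) := by
  haveI := Fib.isNoetherianRing_fiber (S := S) p
  refine ⟨fun Q' _ => ?_⟩
  set Q := Q'.comap (Algebra.TensorProduct.includeRight : S →ₐ[R] p.Fiber S) with hQdef
  haveI : Q.IsPrime := Ideal.comap_isPrime _ _
  obtain ⟨e⟩ := Fib.nonempty_ringEquiv_fibLocRing p Q' Q rfl
  have hover : Q.comap (algebraMap R S) = p := by
    have h1 : Q'.comap (algebraMap R (p.Fiber S)) = p :=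
      (Ideal.LiesOver.over (p := p) (P := Q')).symm
    refine Eq.trans ?_ h1
    ext x
    simp only [hQdef, Ideal.mem_comap]
    rw [AlgHom.commutes (Algebra.TensorProduct.includeRight : S →ₐ[R] p.Fiber S)]
  exact isCohenMacaulayLocalRing_of_ringEquiv e.symm (h Q hover)

/-- Conversely, the fibre local rings of a Cohen–Macaulay fibre are Cohen–Macaulay. -/
theorem isCohenMacaulayLocalRing_fibLocRing_of_fiber (p : Ideal R) [p.IsPrime]
    (hfib : IsCohenMacaulayRing (p.Fiber S)) (Q : Ideal S) [Q.IsPrime]
    (h : Q.comap (algebraMap R S) = p) :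
    IsCohenMacaulayLocalRing (EGA4.FibLocRing R S Q) := by
  obtain ⟨Q', hQ'prime, hQ'⟩ := Fib.exists_fiber_prime p Q h
  obtain ⟨e⟩ := Fib.nonempty_ringEquiv_fibLocRing p Q' Q hQ'
  exact isCohenMacaulayLocalRing_of_ringEquiv e (hfib.isCohenMacaulayLocalRing_localization Q')

end transfer

section main

variable (R R' S : Type u) [CommRing R] [CommRing R'] [CommRing S]
  [IsNoetherianRing R] [IsNoetherianRing R'] [IsNoetherianRing S]
  [Algebra R R'] [Algebra R' S] [Algebra R S] [IsScalarTower R R' S]
  [Module.Flat R R'] [Module.Flat R S]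

theorem isCohenMacaulayLocalRing_fibLocRing_of_perfect
    (hsurj : Function.Surjective (algebraMap R' S)) (n : ℕ)
    (hpd : HasProjectiveDimensionLT (ModuleCat.of R' S) (n + 1))
    (xs : List R') (hlen : xs.length = n) (hreg : IsWeaklyRegular R' xs)
    (hker : ∀ x ∈ xs, algebraMap R' S x = 0)
    (Q : Ideal S) [Q.IsPrime]
    (hfib : IsCohenMacaulayLocalRing (EGA4.FibLocRing R R' (Q.comap (algebraMap R' S)))) :
    IsCohenMacaulayLocalRing (EGA4.FibLocRing R S Q) := by
  set Q' : Ideal R' := Q.comap (algebraMap R' S) with hQ'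
  set p : Ideal R := Q.comap (algebraMap R S) with hp
  have hpQ' : Q'.comap (algebraMap R R') = p := Fib.comap_comap_eq R R' S Q
  haveI : Q.LiesOver Q' := ⟨rfl⟩
  haveI : Q.LiesOver p := ⟨rfl⟩
  haveI : Q'.LiesOver p := ⟨hpQ'.symm⟩
  letI := Localization.AtPrime.algebraOfLiesOver p Q'
  letI := Localization.AtPrime.algebraOfLiesOver Q' Q
  letI := Localization.AtPrime.algebraOfLiesOver p Q
  haveI : IsScalarTower (Localization.AtPrime p) (Localization.AtPrime Q')
    (Localization.AtPrime Q) := inferInstance
  haveI : IsLocalHom (algebraMap (Localization.AtPrime p) (Localization.AtPrime Q')) := by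
    rw [RingHom.algebraMap_toAlgebra]
    exact Localization.isLocalHom_localRingHom _ Q' (algebraMap R R') Ideal.LiesOver.over
  haveI : IsLocalHom (algebraMap (Localization.AtPrime p) (Localization.AtPrime Q)) := by
    rw [RingHom.algebraMap_toAlgebra]
    exact Localization.isLocalHom_localRingHom _ Q (algebraMap R S) Ideal.LiesOver.over
  haveI : Module.Flat (Localization.AtPrime p) (Localization.AtPrime Q') := inferInstance
  haveI : Module.Flat (Localization.AtPrime p) (Localization.AtPrime Q) := inferInstance
  have hsurj' : Function.Surjective (algebraMap (Localization.AtPrime Q')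
      (Localization.AtPrime Q)) := by
    rw [RingHom.algebraMap_toAlgebra]
    exact RingHom.surjective_localRingHom_of_surjective (algebraMap R' S) hsurj Q
  -- the closed fibre of `R_p → R'_{Q'}`
  have hideal1 : (maximalIdeal (Localization.AtPrime p)).map
      (algebraMap (Localization.AtPrime p) (Localization.AtPrime Q')) =
      (Q'.comap (algebraMap R R')).map (algebraMap R (Localization.AtPrime Q')) := by
    rw [← Localization.AtPrime.map_eq_maximalIdeal, Ideal.map_map,
      ← IsScalarTower.algebraMap_eq, hpQ']
  have hF : IsCohenMacaulayLocalRing (EGA4.FibRing (Localization.AtPrime p)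
      (Localization.AtPrime Q')) :=
    isCohenMacaulayLocalRing_of_ringEquiv (Ideal.quotEquivOfEq hideal1.symm) hfib
  -- the closed fibre of `R_p → S_Q`
  have hideal2 : (maximalIdeal (Localization.AtPrime p)).map
      (algebraMap (Localization.AtPrime p) (Localization.AtPrime Q)) =
      (Q.comap (algebraMap R S)).map (algebraMap R (Localization.AtPrime Q)) := by
    rw [← Localization.AtPrime.map_eq_maximalIdeal, Ideal.map_map,
      ← IsScalarTower.algebraMap_eq]
  -- the regular sequence
  have hreg' : IsWeaklyRegular (Localization.AtPrime Q')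
      (xs.map (algebraMap R' (Localization.AtPrime Q'))) :=
    hreg.of_isLocalization (Localization.AtPrime Q') Q'.primeCompl
  have hker' : ∀ x ∈ xs.map (algebraMap R' (Localization.AtPrime Q')),
      algebraMap (Localization.AtPrime Q') (Localization.AtPrime Q) x = 0 := by
    intro x hx
    obtain ⟨y, hy, rfl⟩ := List.mem_map.mp hx
    rw [← IsScalarTower.algebraMap_apply R' (Localization.AtPrime Q') (Localization.AtPrime Q),
      IsScalarTower.algebraMap_apply R' S (Localization.AtPrime Q), hker y hy, map_zero]
  -- the projective dimension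
  have hpd' : HasProjectiveDimensionLT (ModuleCat.of (Localization.AtPrime Q')
      (Localization.AtPrime Q)) (n + 1) := by
    haveI : Module.Finite R' S := Module.Finite.of_surjective (Algebra.linearMap R' S) hsurj
    have h1 := (ABS.hasProjectiveDimensionLT_iff_forall_localization (A := R') S n).mp hpd
      ⟨Q', inferInstance⟩
    have hsub : Algebra.algebraMapSubmonoid S Q'.primeCompl = Q.primeCompl :=
      Submonoid.map_comap_eq_of_surjective hsurj Q.primeCompl
    haveI : IsLocalization (Algebra.algebraMapSubmonoid S Q'.primeCompl)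
        (Localization.AtPrime Q) := by
      rw [hsub]; infer_instance
    let e0 : LocalizedModule Q'.primeCompl S ≃ₗ[R'] Localization.AtPrime Q :=
      IsLocalizedModule.iso Q'.primeCompl
        (IsScalarTower.toAlgHom R' S (Localization.AtPrime Q)).toLinearMap
    let e : LocalizedModule Q'.primeCompl S ≃ₗ[Localization.AtPrime Q'] Localization.AtPrime Q :=
      e0.extendScalarsOfIsLocalization Q'.primeCompl (Localization.AtPrime Q')
    exact hasProjectiveDimensionLT_of_iso e.toModuleIso (n + 1)
  have key := isCohenMacaulayLocalRing_fibRing_of_perfect (Localization.AtPrime p)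
    (Localization.AtPrime Q') (Localization.AtPrime Q) hsurj' hF n hpd'
    (xs.map (algebraMap R' (Localization.AtPrime Q'))) (by rw [List.length_map, hlen])
    hreg' hker'
  exact isCohenMacaulayLocalRing_of_ringEquiv (Ideal.quotEquivOfEq hideal2) key

/-- **Perfect quotients of a flat algebra with Cohen–Macaulay fibres have Cohen–Macaulay
fibres.** -/
theorem cmFibres_of_perfect
    (hsurj : Function.Surjective (algebraMap R' S)) (n : ℕ)
    (hpd : HasProjectiveDimensionLT (ModuleCat.of R' S) (n + 1))
    (xs : List R') (hlen : xs.length = n) (hreg : IsWeaklyRegular R' xs)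
    (hker : ∀ x ∈ xs, algebraMap R' S x = 0)
    (hfib : ∀ (p : Ideal R) [p.IsPrime], IsCohenMacaulayRing (p.Fiber R')) :
    ∀ (p : Ideal R) [p.IsPrime], IsCohenMacaulayRing (p.Fiber S) := by
  intro p _
  apply isCohenMacaulayRing_fiber_of_fibLocRing p
  intro Q _ _
  haveI : (Q.comap (algebraMap R' S)).IsPrime := Ideal.comap_isPrime _ _
  haveI : ((Q.comap (algebraMap R' S)).comap (algebraMap R R')).IsPrime :=
    Ideal.comap_isPrime _ _
  exact isCohenMacaulayLocalRing_fibLocRing_of_perfect R R' S hsurj n hpd xs hlen hreg hker Q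
    (isCohenMacaulayLocalRing_fibLocRing_of_fiber _ (hfib _) (Q.comap (algebraMap R' S)) rfl)

end main

end Groth.Agent.Helper8.CMF
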