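import Mathlib
import Groth.Agent.Lib.Helper8.Depth24

/-!
# Monotonicity of the dimension of localizations
-/

set_option autoImplicit false
universe u v

namespace Groth.Agent.Helper8.Depth

open RingTheory.Sequence LocCoh Pointwise IsLocalRing

theorem supportDim_localization_mono (A : Type u) [CommRing A] (M : Type u) [AddCommGroup M]
    [Module A M] (p q : Ideal A) [hp : p.IsPrime] [hq : q.IsPrime] (hpq : p ≤ q) :
    Module.supportDim (Localization.AtPrime p) (LocalizedModule p.primeCompl M) ≤
      Module.supportDim (Localization.AtPrime q) (LocalizedModule q.primeCompl M) := by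
  let f : Module.support (Localization.AtPrime p) (LocalizedModule p.primeCompl M) →
      Module.support (Localization.AtPrime q) (LocalizedModule q.primeCompl M) := fun P' =>
    let P : PrimeSpectrum A := PrimeSpectrum.comap (algebraMap A (Localization.AtPrime p)) P'.1
    have hPq : P.asIdeal ≤ q := (show P.asIdeal ≤ p from comap_localization_le p P'.1).trans hpq
    have : P.asIdeal.IsPrime := P.isPrime
    ⟨⟨P.asIdeal.map (algebraMap A (Localization.AtPrime q)),
        isPrime_map_localization P.asIdeal q hPq⟩, by
      rw [mem_support_localizedModule_iff]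
      have h1 : PrimeSpectrum.comap (algebraMap A (Localization.AtPrime q))
          ⟨P.asIdeal.map (algebraMap A (Localization.AtPrime q)),
            isPrime_map_localization P.asIdeal q hPq⟩ = P := by
        apply PrimeSpectrum.ext
        exact comap_map_localization P.asIdeal q hPq
      rw [h1]
      exact (mem_support_localizedModule_iff p M P'.1).mp P'.2⟩
  refine Order.krullDim_le_of_strictMono f ?_
  intro a b hab
  have hinj := PrimeSpectrum.localization_comap_injective (Localization.AtPrime p) p.primeCompl
  have hle : PrimeSpectrum.comap (algebraMap A (Localization.AtPrime p)) a.1 ≤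
      PrimeSpectrum.comap (algebraMap A (Localization.AtPrime p)) b.1 :=
    Ideal.comap_mono (show a.1.asIdeal ≤ b.1.asIdeal from hab.le)
  have hle' : (f a).1.asIdeal ≤ (f b).1.asIdeal := Ideal.map_mono hle
  refine lt_of_le_of_ne hle' fun heq => ?_
  have h5 : (f a).1.asIdeal = (f b).1.asIdeal := congrArg (fun z => z.1.asIdeal) heq
  have hPa : (PrimeSpectrum.comap (algebraMap A (Localization.AtPrime p)) a.1).asIdeal ≤ q :=
    (show (PrimeSpectrum.comap (algebraMap A (Localization.AtPrime p)) a.1).asIdeal ≤ p from
      comap_localization_le p a.1).trans hpq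
  have hPb : (PrimeSpectrum.comap (algebraMap A (Localization.AtPrime p)) b.1).asIdeal ≤ q :=
    (show (PrimeSpectrum.comap (algebraMap A (Localization.AtPrime p)) b.1).asIdeal ≤ p from
      comap_localization_le p b.1).trans hpq
  have h6 := congrArg (Ideal.comap (algebraMap A (Localization.AtPrime q))) h5
  have h7 : (PrimeSpectrum.comap (algebraMap A (Localization.AtPrime p)) a.1).asIdeal =
      (PrimeSpectrum.comap (algebraMap A (Localization.AtPrime p)) b.1).asIdeal := by
    have ha := comap_map_localization
      (PrimeSpectrum.comap (algebraMap A (Localization.AtPrime p)) a.1).asIdeal q hPa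
    have hb := comap_map_localization
      (PrimeSpectrum.comap (algebraMap A (Localization.AtPrime p)) b.1).asIdeal q hPb
    rw [← ha, ← hb]
    exact h6
  exact hab.ne (Subtype.ext (hinj (PrimeSpectrum.ext h7)))

end Groth.Agent.Helper8.Depth
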