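import Mathlib
import Groth.Prelude
import Groth.Agent.Lib.Helper8.Depth38
import Groth.Agent.Lib.Helper8.Depth18
import Groth.Agent.Lib.Helper8.Depth20
import Groth.Agent.Lib.Helper8.IntegralDim

/-!
# Modules over an algebra that are finite over the base: the local case
-/

set_option autoImplicit false
universe u

namespace Groth.Agent.Helper8.FinRes

open LocCoh IsLocalRing Groth.Agent.Helper8.Depth

section height

variable {B : Type u} [CommRing B] (N : Type u) [AddCommGroup N] [Module B N]

/-- The height of a point `q` of the support of `N` is at most the dimension of `N_q`. -/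
theorem height_le_supportDim_localizedModule (x : Module.support B N) :
    (Order.height x : WithBot ℕ∞) ≤
      Module.supportDim (Localization.AtPrime x.1.asIdeal)
        (LocalizedModule x.1.asIdeal.primeCompl N) := by
  rw [Order.height_eq_krullDim_Iic]
  set q := x.1.asIdeal with hq
  let f : Set.Iic x → Module.support (Localization.AtPrime q) (LocalizedModule q.primeCompl N) :=
    fun y =>
      have hle : y.1.1.asIdeal ≤ q := y.2
      ⟨⟨y.1.1.asIdeal.map (algebraMap B (Localization.AtPrime q)),
          isPrime_map_localization y.1.1.asIdeal q hle⟩, by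
        rw [mem_support_localizedModule_iff]
        have h1 : PrimeSpectrum.comap (algebraMap B (Localization.AtPrime q))
            ⟨y.1.1.asIdeal.map (algebraMap B (Localization.AtPrime q)),
              isPrime_map_localization y.1.1.asIdeal q hle⟩ = y.1.1 := by
          apply PrimeSpectrum.ext
          exact comap_map_localization y.1.1.asIdeal q hle
        rw [h1]
        exact y.1.2⟩
  refine Order.krullDim_le_of_strictMono f ?_
  intro a b hab
  have hab' : a.1.1.asIdeal < b.1.1.asIdeal := hab
  have hle : (f a).1.asIdeal ≤ (f b).1.asIdeal := Ideal.map_mono hab'.le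
  refine lt_of_le_of_ne hle fun heq => ?_
  have h2 : (f a).1.asIdeal = (f b).1.asIdeal := congrArg (fun z => z.1.asIdeal) heq
  have h3 := congrArg (Ideal.comap (algebraMap B (Localization.AtPrime q))) h2
  change (a.1.1.asIdeal.map (algebraMap B (Localization.AtPrime q))).comap _ =
    (b.1.1.asIdeal.map (algebraMap B (Localization.AtPrime q))).comap _ at h3
  rw [comap_map_localization a.1.1.asIdeal q a.2, comap_map_localization b.1.1.asIdeal q b.2] at h3
  exact hab'.ne h3

end height

section integral

variable (A B : Type u) [CommRing A] [CommRing B] [Algebra A B]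
  (N : Type u) [AddCommGroup N] [Module B N] [Module A N] [IsScalarTower A B N]
  [Module.Finite A N]

/-- `B / Ann_B N` is integral over `A` when `N` is finite over `A`. -/
theorem isIntegral_quotient_annihilator :
    Algebra.IsIntegral A (B ⧸ Module.annihilator B N) := by
  set J := Module.annihilator B N with hJ
  constructor
  intro z
  obtain ⟨b, rfl⟩ := Ideal.Quotient.mk_surjective z
  obtain ⟨p, hp, hpb⟩ := LinearMap.exists_monic_and_aeval_eq_zero A (Algebra.lsmul A A N b)
  refine ⟨p, hp, ?_⟩
  rw [← Polynomial.aeval_def]
  have h1 : Polynomial.aeval (Ideal.Quotient.mk J b) p =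
      Ideal.Quotient.mk J (Polynomial.aeval b p) := by
    have := Polynomial.aeval_algHom_apply (Ideal.Quotient.mkₐ A J) b p
    simpa using this
  rw [h1, Ideal.Quotient.eq_zero_iff_mem, hJ, Module.mem_annihilator]
  intro m
  have h2 : Algebra.lsmul A A N (Polynomial.aeval b p) = 0 := by
    rw [← Polynomial.aeval_algHom_apply]; exact hpb
  have := LinearMap.congr_fun h2 m
  simpa using this

/-- A maximal ideal of `B` in the support of `N` contracts to a maximal ideal of `A`. -/
theorem isMaximal_comap_of_mem_support (q : PrimeSpectrum B) (hq : q ∈ Module.support B N)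
    (hmax : q.asIdeal.IsMaximal) : (q.asIdeal.comap (algebraMap A B)).IsMaximal := by
  haveI : Module.Finite B N := Module.Finite.of_restrictScalars_finite A B N
  set J := Module.annihilator B N with hJ
  have hJq : J ≤ q.asIdeal := by
    rw [Module.support_eq_zeroLocus, PrimeSpectrum.mem_zeroLocus, SetLike.coe_subset_coe] at hq
    exact hq
  haveI := isIntegral_quotient_annihilator A B N
  have hker : RingHom.ker (Ideal.Quotient.mk J) ≤ q.asIdeal := by
    rw [Ideal.mk_ker]; exact hJq
  haveI hQmax : (q.asIdeal.map (Ideal.Quotient.mk J)).IsMaximal :=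
    Ideal.IsMaximal.map_of_surjective_of_ker_le Ideal.Quotient.mk_surjective hker
  have h1 := Ideal.isMaximal_comap_of_isIntegral_of_isMaximal (R := A)
    (q.asIdeal.map (Ideal.Quotient.mk J))
  have h2 : (q.asIdeal.map (Ideal.Quotient.mk J)).comap (algebraMap A (B ⧸ J)) =
      q.asIdeal.comap (algebraMap A B) := by
    have h3 : algebraMap A (B ⧸ J) = (Ideal.Quotient.mk J).comp (algebraMap A B) := rfl
    rw [h3, ← Ideal.comap_comap,
      Ideal.comap_map_of_surjective _ Ideal.Quotient.mk_surjective, ← RingHom.ker_eq_comap_bot,
      sup_eq_left.mpr hker]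
  rwa [h2] at h1

end integral

section local_case

variable (A B : Type u) [CommRing A] [CommRing B] [IsNoetherianRing A] [IsLocalRing A]
  [IsNoetherianRing B] [Algebra A B]
  (N : Type u) [AddCommGroup N] [Module B N] [Module A N] [IsScalarTower A B N]
  [Module.Finite A N]

/-- The primes of `B` over the maximal ideal of `A` in the support of `N`. -/
def closedPts : Set (PrimeSpectrum B) :=
  {q | q.asIdeal.comap (algebraMap A B) = maximalIdeal A ∧ q ∈ Module.support B N}

omit [IsNoetherianRing A] [IsNoetherianRing B] in
/-- Every point of the support of `N` specializes to a point over the closed point of `A`. -/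
theorem exists_closedPt_ge (q : PrimeSpectrum B) (hq : q ∈ Module.support B N) :
    ∃ q' ∈ closedPts A B N, q ≤ q' := by
  obtain ⟨Q, hQmax, hQ⟩ := Ideal.exists_le_maximal q.asIdeal q.isPrime.ne_top
  let q' : PrimeSpectrum B := ⟨Q, hQmax.isPrime⟩
  have hq' : q' ∈ Module.support B N := Module.mem_support_mono (show q ≤ q' from hQ) hq
  refine ⟨q', ⟨?_, hq'⟩, hQ⟩
  have := isMaximal_comap_of_mem_support A B N q' hq' hQmax
  exact IsLocalRing.eq_maximalIdeal this

/-- The depth over `A` is the infimum of the depths at the points over the closed point. -/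
theorem depth_eq_iInf :
    depth A N = ⨅ q ∈ closedPts A B N,
      depth (Localization.AtPrime q.asIdeal) (LocalizedModule q.asIdeal.primeCompl N) := by
  haveI : Module.Finite B N := Module.Finite.of_restrictScalars_finite A B N
  unfold depth
  rw [idealDepth_tower A B (maximalIdeal A) N,
    idealDepth_eq_iInf_depth_localization ((maximalIdeal A).map (algebraMap A B)) N]
  apply le_antisymm
  · refine le_iInf₂ fun q hq => ?_
    have hle : (maximalIdeal A).map (algebraMap A B) ≤ q.asIdeal := by
      rw [Ideal.map_le_iff_le_comap, hq.1]
    exact iInf₂_le q hle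
  · refine le_iInf₂ fun q hle => ?_
    by_cases hq : q ∈ Module.support B N
    · have hmem : q ∈ closedPts A B N := by
        refine ⟨?_, hq⟩
        have h1 : maximalIdeal A ≤ q.asIdeal.comap (algebraMap A B) :=
          Ideal.map_le_iff_le_comap.mp hle
        have hne : q.asIdeal.comap (algebraMap A B) ≠ ⊤ :=
          (Ideal.comap_isPrime (algebraMap A B) q.asIdeal).ne_top
        exact ((maximalIdeal.isMaximal A).eq_of_le hne h1).symm
      exact iInf₂_le q hmem
    · rw [Module.notMem_support_iff] at hq
      have : depth (Localization.AtPrime q.asIdeal) (LocalizedModule q.asIdeal.primeCompl N) = ⊤ :=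
        depth_eq_top_of_subsingleton _ _
      rw [this]
      exact le_top

/-- The dimension over `A` is the supremum of the dimensions at the points over the closed
point. -/
theorem supportDim_eq_iSup :
    Module.supportDim A N = ⨆ q ∈ closedPts A B N,
      Module.supportDim (Localization.AtPrime q.asIdeal)
        (LocalizedModule q.asIdeal.primeCompl N) := by
  rw [supportDim_restrictScalars_eq A B N]
  apply le_antisymm
  · rcases isEmpty_or_nonempty (Module.support B N) with hemp | hne
    · unfold Module.supportDim
      rw [Order.krullDim_eq_bot]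
      exact bot_le
    · unfold Module.supportDim
      rw [Order.krullDim_eq_iSup_height]
      refine iSup_le fun x => ?_
      obtain ⟨q', hq', hle⟩ := exists_closedPt_ge A B N x.1 x.2
      let x' : Module.support B N := ⟨q', hq'.2⟩
      have h1 : Order.height x ≤ Order.height x' := Order.height_mono (show x ≤ x' from hle)
      have h2 := height_le_supportDim_localizedModule N x'
      have h3 : (Order.height x : WithBot ℕ∞) ≤ (Order.height x' : WithBot ℕ∞) := by
        exact_mod_cast h1
      exact (h3.trans h2).trans (le_iSup₂ (f := fun q (_ : q ∈ closedPts A B N) =>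
        Module.supportDim (Localization.AtPrime q.asIdeal)
          (LocalizedModule q.asIdeal.primeCompl N)) q' hq')
  · refine iSup₂_le fun q hq => ?_
    have h1 := supportDim_localizedModule_add_dim_quotient_le (p := q.asIdeal) (M := N) hq.2
    haveI : Nontrivial (B ⧸ q.asIdeal) := Ideal.Quotient.nontrivial_iff.mpr q.isPrime.ne_top
    have h2 : (0 : WithBot ℕ∞) ≤ ringKrullDim (B ⧸ q.asIdeal) := ringKrullDim_nonneg_of_nontrivial
    exact (le_add_of_nonneg_right h2).trans h1

end local_case

end Groth.Agent.Helper8.FinRes
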