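import Mathlib
import Groth.Prelude
import Groth.Agent.Lib.Helper8.FinRes1
import Groth.Agent.Lib.Helper8.Depth7

/-!
# Cohen–Macaulayness of a module over an algebra, finite over the (local) base
-/

set_option autoImplicit false
universe u

namespace Groth.Agent.Helper8.FinRes

open LocCoh IsLocalRing Groth.Agent.Helper8.Depth

variable (A B : Type u) [CommRing A] [CommRing B] [IsNoetherianRing A] [IsLocalRing A]
  [IsNoetherianRing B] [Algebra A B]
  (N : Type u) [AddCommGroup N] [Module B N] [Module A N] [IsScalarTower A B N]
  [Module.Finite A N]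

omit [IsNoetherianRing A] [IsNoetherianRing B] in
theorem closedPts_nonempty [Nontrivial N] : (closedPts A B N).Nonempty := by
  have hne : (Module.support B N).Nonempty := by
    rw [Set.nonempty_iff_ne_empty, Ne, Module.support_eq_empty_iff]
    exact not_subsingleton N
  obtain ⟨q, hq⟩ := hne
  obtain ⟨q', hq', -⟩ := exists_closedPt_ge A B N q hq
  exact ⟨q', hq'⟩

omit [IsNoetherianRing A] [IsLocalRing A] [Algebra A B] [Module A N] [IsScalarTower A B N]
  [Module.Finite A N] in
theorem depth_le_supportDim_localizedModule [Module.Finite B N] (q : PrimeSpectrum B)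
    (hq : q ∈ Module.support B N) :
    ((depth (Localization.AtPrime q.asIdeal) (LocalizedModule q.asIdeal.primeCompl N) : ℕ∞) :
      WithBot ℕ∞) ≤ Module.supportDim (Localization.AtPrime q.asIdeal)
        (LocalizedModule q.asIdeal.primeCompl N) := by
  haveI : Nontrivial (LocalizedModule q.asIdeal.primeCompl N) :=
    (Module.mem_support_iff (p := q)).mp hq
  exact depth_le_supportDim

/-- **S4718.** -/
theorem cm_iff [Nontrivial N] :
    IsCohenMacaulayModule A N ↔
      (∀ q ∈ closedPts A B N,
        IsCohenMacaulayModule (Localization.AtPrime q.asIdeal)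
          (LocalizedModule q.asIdeal.primeCompl N)) ∧
      (∀ q ∈ closedPts A B N, ∀ q' ∈ closedPts A B N,
        Module.supportDim (Localization.AtPrime q.asIdeal)
            (LocalizedModule q.asIdeal.primeCompl N) =
          Module.supportDim (Localization.AtPrime q'.asIdeal)
            (LocalizedModule q'.asIdeal.primeCompl N)) := by
  unfold IsCohenMacaulayModule
  haveI : Module.Finite B N := Module.Finite.of_restrictScalars_finite A B N
  have hsup : ∀ q ∈ closedPts A B N, Module.supportDim (Localization.AtPrime q.asIdeal)
      (LocalizedModule q.asIdeal.primeCompl N) ≤ Module.supportDim A N := by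
    intro q hq
    rw [supportDim_eq_iSup A B N]
    exact le_iSup₂ (f := fun q (_ : q ∈ closedPts A B N) =>
      Module.supportDim (Localization.AtPrime q.asIdeal)
        (LocalizedModule q.asIdeal.primeCompl N)) q hq
  have hinf : ∀ q ∈ closedPts A B N, depth A N ≤ depth (Localization.AtPrime q.asIdeal)
      (LocalizedModule q.asIdeal.primeCompl N) := by
    intro q hq
    rw [depth_eq_iInf A B N]
    exact iInf₂_le q hq
  constructor
  · intro hCM
    have key : ∀ q ∈ closedPts A B N,
        Module.supportDim (Localization.AtPrime q.asIdeal)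
          (LocalizedModule q.asIdeal.primeCompl N) = Module.supportDim A N ∧
        Module.supportDim (Localization.AtPrime q.asIdeal)
          (LocalizedModule q.asIdeal.primeCompl N) =
          ((depth (Localization.AtPrime q.asIdeal)
            (LocalizedModule q.asIdeal.primeCompl N) : ℕ∞) : WithBot ℕ∞) := by
      intro q hq
      have h1 := hsup q hq
      have h2 : ((depth A N : ℕ∞) : WithBot ℕ∞) ≤
          ((depth (Localization.AtPrime q.asIdeal)
            (LocalizedModule q.asIdeal.primeCompl N) : ℕ∞) : WithBot ℕ∞) := by
        exact_mod_cast hinf q hq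
      have h3 := depth_le_supportDim_localizedModule B N q hq.2
      rw [hCM] at h1
      exact ⟨le_antisymm (hCM ▸ h1) ((hCM ▸ h2).trans h3),
        le_antisymm (h1.trans h2) h3⟩
    exact ⟨fun q hq => (key q hq).2, fun q hq q' hq' => by rw [(key q hq).1, (key q' hq').1]⟩
  · rintro ⟨hcm, heq⟩
    obtain ⟨q0, hq0⟩ := closedPts_nonempty A B N
    have hdim : Module.supportDim A N = Module.supportDim (Localization.AtPrime q0.asIdeal)
        (LocalizedModule q0.asIdeal.primeCompl N) := by
      apply le_antisymm _ (hsup q0 hq0)
      rw [supportDim_eq_iSup A B N]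
      exact iSup₂_le fun q hq => (heq q hq q0 hq0).le
    have hdepth : depth A N = depth (Localization.AtPrime q0.asIdeal)
        (LocalizedModule q0.asIdeal.primeCompl N) := by
      apply le_antisymm (hinf q0 hq0)
      rw [depth_eq_iInf A B N]
      refine le_iInf₂ fun q hq => ?_
      have h1 : ((depth (Localization.AtPrime q0.asIdeal)
          (LocalizedModule q0.asIdeal.primeCompl N) : ℕ∞) : WithBot ℕ∞) =
          ((depth (Localization.AtPrime q.asIdeal)
            (LocalizedModule q.asIdeal.primeCompl N) : ℕ∞) : WithBot ℕ∞) := by
        rw [← hcm q hq, ← hcm q0 hq0, heq q0 hq0 q hq]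
      have h2 : depth (Localization.AtPrime q0.asIdeal)
          (LocalizedModule q0.asIdeal.primeCompl N) =
          depth (Localization.AtPrime q.asIdeal)
            (LocalizedModule q.asIdeal.primeCompl N) := by exact_mod_cast h1
      exact h2.le
    rw [hdim, hdepth]
    exact hcm q0 hq0

end Groth.Agent.Helper8.FinRes
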