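import Mathlib
import Groth.Prelude
import Groth.Agent.Lib.Helper8.Depth24

/-!
# Transport of depth and dimension between models of a localization
-/

set_option autoImplicit false
universe u v

namespace Groth.Agent.Helper8.Loc

open LocCoh IsLocalRing Groth.Agent.Helper8.Depth

section semilinear

variable {R₁ R₂ : Type*} [CommRing R₁] [CommRing R₂] (σ : R₁ ≃+* R₂)
  {M₁ M₂ : Type*} [AddCommGroup M₁] [Module R₁ M₁] [AddCommGroup M₂] [Module R₂ M₂]
  (e : M₁ ≃+ M₂) (he : ∀ (r : R₁) (x : M₁), e (r • x) = σ r • e x)

include he in
theorem supportDim_le_of_semilinear :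
    Module.supportDim R₁ M₁ ≤ Module.supportDim R₂ M₂ := by
  refine Order.krullDim_le_of_strictMono
    (fun a : Module.support R₁ M₁ =>
      (⟨PrimeSpectrum.comap (σ.symm : R₂ →+* R₁) a.1, ?_⟩ : Module.support R₂ M₂)) ?_
  · obtain ⟨m, hm⟩ := Module.mem_support_iff_exists_annihilator.mp a.2
    rw [Module.mem_support_iff_exists_annihilator]
    refine ⟨e m, ?_⟩
    intro b hb
    rw [Submodule.mem_annihilator_span_singleton] at hb
    show σ.symm b ∈ a.1.asIdeal
    apply hm
    rw [Submodule.mem_annihilator_span_singleton]
    apply e.injective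
    rw [he, map_zero, RingEquiv.apply_symm_apply, hb]
  · intro a b hab
    have h1 : a.1 < b.1 := hab
    show PrimeSpectrum.comap (σ.symm : R₂ →+* R₁) a.1 < PrimeSpectrum.comap (σ.symm : R₂ →+* R₁) b.1
    rw [← PrimeSpectrum.asIdeal_lt_asIdeal] at h1 ⊢
    have hsurj : Function.Surjective (σ.symm : R₂ →+* R₁) := σ.symm.surjective
    refine lt_of_le_of_ne (Ideal.comap_mono h1.le) ?_
    intro heq
    have := (Ideal.comap_injective_of_surjective (σ.symm : R₂ →+* R₁) hsurj) heq
    exact h1.ne this

include he in
theorem supportDim_eq_of_semilinear :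
    Module.supportDim R₂ M₂ = Module.supportDim R₁ M₁ := by
  apply le_antisymm
  · refine supportDim_le_of_semilinear σ.symm e.symm ?_
    intro r y
    apply e.injective
    rw [he, AddEquiv.apply_symm_apply, AddEquiv.apply_symm_apply, RingEquiv.apply_symm_apply]
  · exact supportDim_le_of_semilinear σ e he

end semilinear

section master

variable {R : Type u} [CommRing R] (p : Ideal R) [p.IsPrime] (M : Type u) [AddCommGroup M]
  [Module R M]
  (T : Type u) [CommRing T] [Algebra R T] [IsLocalization.AtPrime T p]
  (N : Type u) [AddCommGroup N] [Module R N] [Module T N] [IsScalarTower R T N]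
  (f : M →ₗ[R] N) [IsLocalizedModule p.primeCompl f]

include f in
/-- Any model `(T, N)` of the localization of `(R, M)` at `p` is semilinearly isomorphic to the
standard model. -/
theorem exists_semilinear_equiv :
    ∃ (σ : Localization.AtPrime p ≃+* T) (e : LocalizedModule p.primeCompl M ≃+ N),
      ∀ (a : Localization.AtPrime p) (x : LocalizedModule p.primeCompl M),
        e (a • x) = σ a • e x := by
  let e₀ : LocalizedModule p.primeCompl M ≃ₗ[R] N :=
    IsLocalizedModule.linearEquiv p.primeCompl (LocalizedModule.mkLinearMap p.primeCompl M) f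
  let σ : Localization.AtPrime p ≃ₐ[R] T :=
    IsLocalization.algEquiv p.primeCompl (Localization.AtPrime p) T
  refine ⟨σ.toRingEquiv, e₀.toAddEquiv, ?_⟩
  intro a x
  obtain ⟨⟨r, t⟩, rfl⟩ := IsLocalization.mk'_surjective p.primeCompl a
  have hunit : IsUnit (algebraMap R T (t : R)) := IsLocalization.map_units T t
  have hinj : Function.Injective fun y : N => (algebraMap R T (t : R)) • y := by
    intro y1 y2 h
    exact hunit.smul_left_cancel.mp h
  apply hinj
  change (algebraMap R T (t : R)) • e₀ (IsLocalization.mk' (Localization.AtPrime p) r t • x) =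
    (algebraMap R T (t : R)) • (σ (IsLocalization.mk' (Localization.AtPrime p) r t) • e₀ x)
  have h2 : (t : R) • (IsLocalization.mk' (Localization.AtPrime p) r t • x) = r • x := by
    rw [← algebraMap_smul (Localization.AtPrime p) (t : R), smul_smul,
      IsLocalization.mk'_spec', algebraMap_smul]
  have h1 : (algebraMap R T (t : R)) •
      e₀ (IsLocalization.mk' (Localization.AtPrime p) r t • x) = r • e₀ x := by
    rw [algebraMap_smul, ← e₀.map_smul, h2, e₀.map_smul]
  have h3 : (algebraMap R T (t : R)) •
      (σ (IsLocalization.mk' (Localization.AtPrime p) r t) • e₀ x) = r • e₀ x := by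
    rw [smul_smul]
    have h4 : algebraMap R T (t : R) * σ (IsLocalization.mk' (Localization.AtPrime p) r t) =
        algebraMap R T r := by
      have h5 : algebraMap R T (t : R) = σ (algebraMap R (Localization.AtPrime p) (t : R)) :=
        (σ.commutes _).symm
      rw [h5, ← map_mul, IsLocalization.mk'_spec', σ.commutes]
    rw [h4, algebraMap_smul]
  rw [h1, h3]

include f in
theorem depth_eq [IsLocalRing T] :
    depth T N = depth (Localization.AtPrime p) (LocalizedModule p.primeCompl M) := by
  obtain ⟨σ, e, he⟩ := exists_semilinear_equiv p M T N f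
  exact depth_eq_of_semilinear σ e he

include f in
theorem supportDim_eq :
    Module.supportDim T N =
      Module.supportDim (Localization.AtPrime p) (LocalizedModule p.primeCompl M) := by
  obtain ⟨σ, e, he⟩ := exists_semilinear_equiv p M T N f
  exact supportDim_eq_of_semilinear σ e he

end master

section iterated

variable {R : Type u} [CommRing R] (M : Type u) [AddCommGroup M] [Module R M]
  (p s : Ideal R) [hp : p.IsPrime] [hs : s.IsPrime]

/-- The dimension of `(M_s)_{P}` over `(R_s)_{P}` is the dimension of `M_p` over `R_p`, where
`p` is the contraction of `P`. -/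
theorem supportDim_localizedModule_localizedModule
    (P : Ideal (Localization.AtPrime s)) [hP : P.IsPrime]
    (hPp : P.comap (algebraMap R (Localization.AtPrime s)) = p) :
    Module.supportDim (Localization.AtPrime P)
        (LocalizedModule P.primeCompl (LocalizedModule s.primeCompl M)) =
      Module.supportDim (Localization.AtPrime p) (LocalizedModule p.primeCompl M) := by
  set S := Localization.AtPrime s
  set T := Localization.AtPrime P
  set Ms := LocalizedModule s.primeCompl M
  set MsP := LocalizedModule P.primeCompl Ms
  have hsub : (P.comap (algebraMap R S)).primeCompl = p.primeCompl := by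
    ext x
    simp only [Ideal.mem_primeCompl_iff]
    rw [hPp]
  have hloc : IsLocalization p.primeCompl T := by
    have : IsLocalization (P.comap (algebraMap R S)).primeCompl T := inferInstance
    rwa [hsub] at this
  let f : M →ₗ[R] Ms := LocalizedModule.mkLinearMap s.primeCompl M
  let g : Ms →ₗ[S] MsP := LocalizedModule.mkLinearMap P.primeCompl Ms
  have hf : IsBaseChange S f := IsLocalizedModule.isBaseChange s.primeCompl S f
  have hg : IsBaseChange T g := IsLocalizedModule.isBaseChange P.primeCompl T g
  have hgf : IsBaseChange T ((g.restrictScalars R).comp f) := IsBaseChange.comp hf hg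
  have hlm : IsLocalizedModule p.primeCompl ((g.restrictScalars R).comp f) :=
    (isLocalizedModule_iff_isBaseChange p.primeCompl T _).mpr hgf
  exact supportDim_eq p M T MsP ((g.restrictScalars R).comp f)

end iterated

end Groth.Agent.Helper8.Loc
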