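import Mathlib
import Groth.Prelude
import Groth.Agent.Lib.Helper8.FinRes2
import Groth.Agent.Lib.Helper8.Loc1

/-!
# Iterated localization at a submonoid and then at a prime
-/

set_option autoImplicit false
universe u

namespace Groth.Agent.Helper8.FinRes

open LocCoh IsLocalRing Groth.Agent.Helper8.Depth Groth.Agent.Helper8.Loc

section iterated

variable {R : Type u} [CommRing R] (M : Type u) [AddCommGroup M] [Module R M]
  (T : Submonoid R)

/-- `((M_T)_P, (R_T)_P)` is a model of the localization of `(M, R)` at the contraction of `P`. -/
theorem exists_model (P : Ideal (Localization T)) [hP : P.IsPrime]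
    (p : Ideal R) [hp : p.IsPrime] (hPp : P.comap (algebraMap R (Localization T)) = p) :
    ∃ (_ : IsLocalization.AtPrime (Localization.AtPrime P) p)
      (f : M →ₗ[R] LocalizedModule P.primeCompl (LocalizedModule T M)),
      IsLocalizedModule p.primeCompl f := by
  set S := Localization T
  set T' := Localization.AtPrime P
  set Ms := LocalizedModule T M
  set MsP := LocalizedModule P.primeCompl Ms
  have hsub : (P.comap (algebraMap R S)).primeCompl = p.primeCompl := by
    ext x
    simp only [Ideal.mem_primeCompl_iff]
    rw [hPp]
  have hloc : IsLocalization p.primeCompl T' := by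
    have : IsLocalization (P.comap (algebraMap R S)).primeCompl T' := inferInstance
    rwa [hsub] at this
  let f : M →ₗ[R] Ms := LocalizedModule.mkLinearMap T M
  let g : Ms →ₗ[S] MsP := LocalizedModule.mkLinearMap P.primeCompl Ms
  have hf : IsBaseChange S f := IsLocalizedModule.isBaseChange T S f
  have hg : IsBaseChange T' g := IsLocalizedModule.isBaseChange P.primeCompl T' g
  have hgf : IsBaseChange T' ((g.restrictScalars R).comp f) := IsBaseChange.comp hf hg
  have hlm : IsLocalizedModule p.primeCompl ((g.restrictScalars R).comp f) :=
    (isLocalizedModule_iff_isBaseChange p.primeCompl T' _).mpr hgf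
  exact ⟨hloc, (g.restrictScalars R).comp f, hlm⟩

theorem supportDim_localizedModule_localizedModule' (P : Ideal (Localization T)) [hP : P.IsPrime]
    (p : Ideal R) [hp : p.IsPrime] (hPp : P.comap (algebraMap R (Localization T)) = p) :
    Module.supportDim (Localization.AtPrime P)
        (LocalizedModule P.primeCompl (LocalizedModule T M)) =
      Module.supportDim (Localization.AtPrime p) (LocalizedModule p.primeCompl M) := by
  obtain ⟨hloc, f, hf⟩ := exists_model M T P p hPp
  exact supportDim_eq p M (Localization.AtPrime P) _ f

theorem depth_localizedModule_localizedModule' (P : Ideal (Localization T)) [hP : P.IsPrime]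
    (p : Ideal R) [hp : p.IsPrime] (hPp : P.comap (algebraMap R (Localization T)) = p) :
    depth (Localization.AtPrime P)
        (LocalizedModule P.primeCompl (LocalizedModule T M)) =
      depth (Localization.AtPrime p) (LocalizedModule p.primeCompl M) := by
  obtain ⟨hloc, f, hf⟩ := exists_model M T P p hPp
  exact depth_eq p M (Localization.AtPrime P) _ f

end iterated

end Groth.Agent.Helper8.FinRes
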