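import Mathlib
import Groth.Prelude
import Groth.Agent.Lib.Helper8.FinRes3

/-!
# Modules over an algebra that are finite over the base: the general case
-/

set_option autoImplicit false
universe u

namespace Groth.Agent.Helper8.FinRes

open LocCoh IsLocalRing Groth.Agent.Helper8.Depth Groth.Agent.Helper8.Loc

variable (A B : Type u) [CommRing A] [CommRing B] [IsNoetherianRing A] [IsNoetherianRing B]
  [Algebra A B]
  (M : Type u) [AddCommGroup M] [Module B M] [Module A M] [IsScalarTower A B M]
  [Module.Finite A M] (p : Ideal A) [p.IsPrime]

/-- The primes of `B` over `p` in the support of `M`. -/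
def ptsOver : Set (PrimeSpectrum B) :=
  {q | q.asIdeal.comap (algebraMap A B) = p ∧ q ∈ Module.support B M}

omit [IsNoetherianRing A] [IsNoetherianRing B] [Algebra A B] [Module A M] [IsScalarTower A B M]
  [Module.Finite A M] in
theorem mem_support_iff_supportDim_ne_bot (q : PrimeSpectrum B) :
    q ∈ Module.support B M ↔ Module.supportDim (Localization.AtPrime q.asIdeal)
      (LocalizedModule q.asIdeal.primeCompl M) ≠ ⊥ := by
  rw [Module.mem_support_iff, Module.supportDim_ne_bot_iff_nontrivial]

/-- **S2669.** -/
theorem supportDim_depth_restrictScalars_finite :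
    Module.supportDim (Localization.AtPrime p) (LocalizedModule p.primeCompl M) =
        ⨆ q ∈ ptsOver A B M p,
          Module.supportDim (Localization.AtPrime q.asIdeal)
            (LocalizedModule q.asIdeal.primeCompl M) ∧
      depth (Localization.AtPrime p) (LocalizedModule p.primeCompl M) =
        ⨅ q ∈ ptsOver A B M p,
          depth (Localization.AtPrime q.asIdeal) (LocalizedModule q.asIdeal.primeCompl M) := by
  let T := Algebra.algebraMapSubmonoid B p.primeCompl
  let B' := Localization T
  let M' := LocalizedModule T M
  letI : Module (Localization.AtPrime p) M' :=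
    Module.compHom M' (algebraMap (Localization.AtPrime p) B')
  haveI : IsScalarTower (Localization.AtPrime p) B' M' :=
    IsScalarTower.of_algebraMap_smul fun r x => rfl
  haveI : IsScalarTower A (Localization.AtPrime p) M' := by
    refine IsScalarTower.of_algebraMap_smul fun a x => ?_
    change (algebraMap (Localization.AtPrime p) B' (algebraMap A (Localization.AtPrime p) a)) • x
      = a • x
    rw [← IsScalarTower.algebraMap_apply A (Localization.AtPrime p) B', algebraMap_smul]
  let f : M →ₗ[A] M' := (LocalizedModule.mkLinearMap T M).restrictScalars A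
  haveI : IsLocalizedModule p.primeCompl f :=
    IsLocalizedModule.restrictScalars p.primeCompl (LocalizedModule.mkLinearMap T M)
  haveI : Module.Finite (Localization.AtPrime p) M' :=
    Module.Finite.of_isLocalizedModule p.primeCompl f
  have hL1 := depth_eq_iInf (Localization.AtPrime p) B' M'
  have hL2 := supportDim_eq_iSup (Localization.AtPrime p) B' M'
  have hd : depth (Localization.AtPrime p) M' =
      depth (Localization.AtPrime p) (LocalizedModule p.primeCompl M) :=
    Loc.depth_eq p M (Localization.AtPrime p) M' f
  have hs : Module.supportDim (Localization.AtPrime p) M' =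
      Module.supportDim (Localization.AtPrime p) (LocalizedModule p.primeCompl M) :=
    Loc.supportDim_eq p M (Localization.AtPrime p) M' f
  -- values agree
  have valD : ∀ Q' : PrimeSpectrum B',
      Module.supportDim (Localization.AtPrime Q'.asIdeal)
        (LocalizedModule Q'.asIdeal.primeCompl M') =
      Module.supportDim
        (Localization.AtPrime (PrimeSpectrum.comap (algebraMap B B') Q').asIdeal)
        (LocalizedModule (PrimeSpectrum.comap (algebraMap B B') Q').asIdeal.primeCompl M) :=
    fun Q' => supportDim_localizedModule_localizedModule' M T Q'.asIdeal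
      (PrimeSpectrum.comap (algebraMap B B') Q').asIdeal rfl
  have vald : ∀ Q' : PrimeSpectrum B',
      depth (Localization.AtPrime Q'.asIdeal)
        (LocalizedModule Q'.asIdeal.primeCompl M') =
      depth
        (Localization.AtPrime (PrimeSpectrum.comap (algebraMap B B') Q').asIdeal)
        (LocalizedModule (PrimeSpectrum.comap (algebraMap B B') Q').asIdeal.primeCompl M) :=
    fun Q' => depth_localizedModule_localizedModule' M T Q'.asIdeal
      (PrimeSpectrum.comap (algebraMap B B') Q').asIdeal rfl
  -- contraction to `A`
  have hcontr : ∀ Q' : PrimeSpectrum B',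
      ((PrimeSpectrum.comap (algebraMap B B') Q').asIdeal.comap (algebraMap A B)) =
      (Q'.asIdeal.comap (algebraMap (Localization.AtPrime p) B')).comap
        (algebraMap A (Localization.AtPrime p)) := by
    intro Q'
    change (Q'.asIdeal.comap (algebraMap B B')).comap (algebraMap A B) = _
    rw [Ideal.comap_comap, Ideal.comap_comap, ← IsScalarTower.algebraMap_eq,
      ← IsScalarTower.algebraMap_eq]
  have hsupp : ∀ Q' : PrimeSpectrum B',
      Q' ∈ Module.support B' M' ↔ PrimeSpectrum.comap (algebraMap B B') Q' ∈ Module.support B M := by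
    intro Q'
    rw [mem_support_iff_supportDim_ne_bot, mem_support_iff_supportDim_ne_bot, valD Q']
  have key1 : ∀ Q' ∈ closedPts (Localization.AtPrime p) B' M',
      PrimeSpectrum.comap (algebraMap B B') Q' ∈ ptsOver A B M p := by
    intro Q' hQ'
    refine ⟨?_, (hsupp Q').mp hQ'.2⟩
    rw [hcontr Q', hQ'.1]
    exact IsLocalization.AtPrime.under_maximalIdeal (Localization.AtPrime p) p
  have key2 : ∀ q ∈ ptsOver A B M p, ∃ Q' ∈ closedPts (Localization.AtPrime p) B' M',
      PrimeSpectrum.comap (algebraMap B B') Q' = q := by
    intro q hq
    have hdisj : Disjoint (T : Set B) (q.asIdeal : Set B) := by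
      rw [Set.disjoint_left]
      rintro _ ⟨a, ha, rfl⟩ hmem
      apply ha
      rw [← hq.1]
      exact hmem
    have hprime : (q.asIdeal.map (algebraMap B B')).IsPrime :=
      IsLocalization.isPrime_of_isPrime_disjoint T B' q.asIdeal q.isPrime hdisj
    have hcomap : (q.asIdeal.map (algebraMap B B')).comap (algebraMap B B') = q.asIdeal :=
      IsLocalization.under_map_of_isPrime_disjoint T B' q.isPrime hdisj
    let Q' : PrimeSpectrum B' := ⟨q.asIdeal.map (algebraMap B B'), hprime⟩
    have hQq : PrimeSpectrum.comap (algebraMap B B') Q' = q := PrimeSpectrum.ext hcomap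
    refine ⟨Q', ⟨?_, ?_⟩, hQq⟩
    · have h1 := hcontr Q'
      rw [hQq, hq.1] at h1
      have h2 := IsLocalization.map_under p.primeCompl (Localization.AtPrime p)
        (Q'.asIdeal.comap (algebraMap (Localization.AtPrime p) B'))
      have h1' : Ideal.under A (Q'.asIdeal.comap (algebraMap (Localization.AtPrime p) B')) = p :=
        h1.symm
      rw [← h2, h1']
      exact Localization.AtPrime.map_eq_maximalIdeal
    · rw [hsupp Q', hQq]
      exact hq.2
  constructor
  · rw [← hs, hL2]
    apply le_antisymm
    · refine iSup₂_le fun Q' hQ' => ?_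
      rw [valD Q']
      exact le_iSup₂ (f := fun q (_ : q ∈ ptsOver A B M p) =>
        Module.supportDim (Localization.AtPrime q.asIdeal)
          (LocalizedModule q.asIdeal.primeCompl M)) _ (key1 Q' hQ')
    · refine iSup₂_le fun q hq => ?_
      obtain ⟨Q', hQ', hQq⟩ := key2 q hq
      subst hQq
      rw [← valD Q']
      exact le_iSup₂ (f := fun Q' (_ : Q' ∈ closedPts (Localization.AtPrime p) B' M') =>
        Module.supportDim (Localization.AtPrime Q'.asIdeal)
          (LocalizedModule Q'.asIdeal.primeCompl M')) Q' hQ'
  · rw [← hd, hL1]
    apply le_antisymm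
    · refine le_iInf₂ fun q hq => ?_
      obtain ⟨Q', hQ', hQq⟩ := key2 q hq
      subst hQq
      rw [← vald Q']
      exact iInf₂_le Q' hQ'
    · refine le_iInf₂ fun Q' hQ' => ?_
      rw [vald Q']
      exact iInf₂_le _ (key1 Q' hQ')

end Groth.Agent.Helper8.FinRes
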