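import Groth.Agent.Lib.Helper8.LC27

set_option autoImplicit false
universe u
open CategoryTheory CategoryTheory.Limits Opposite

namespace Groth.Agent.Helper8.LC

open Abelian localCohomology LocCoh

variable {R : Type u} [CommRing R] [IsNoetherianRing R]

lemma subsingleton_h0_of_torsionSub_eq_bot (J : Ideal R) (G : Type u) [AddCommGroup G]
    [Module R G] (hG : DRing.torsionSub J G = ⊥) : Subsingleton (H J 0 G) := by
  apply subsingleton_of_forall_eq_zero
  intro y
  have h2 : ∀ w ∈ DRing.torsionSub J G, w = 0 := by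
    intro w hw
    rw [hG] at hw
    exact hw
  have h0 : (h0Equiv J (ModuleCat.of R G)) y = 0 :=
    Subtype.ext (h2 _ ((h0Equiv J (ModuleCat.of R G)) y).2)
  rw [← (h0Equiv J (ModuleCat.of R G)).symm_apply_apply y, h0, map_zero]

lemma torsionSub_eq_bot_of_subsingleton_h0 (J : Ideal R) (G : Type u) [AddCommGroup G]
    [Module R G] (h : Subsingleton (H J 0 G)) : DRing.torsionSub J G = ⊥ := by
  rw [eq_bot_iff]
  intro g hg
  have : (h0Equiv J (ModuleCat.of R G)).symm ⟨g, hg⟩ = 0 := h.elim _ _
  have h2 : (⟨g, hg⟩ : DRing.torsionSub J G) = 0 := by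
    rw [← (h0Equiv J (ModuleCat.of R G)).apply_symm_apply ⟨g, hg⟩, this, map_zero]
  exact congrArg Subtype.val h2

/-- a module without `J`-torsion embeds in an acyclic module without `J`-torsion. -/
lemma exists_good_embedding (J : Ideal R) (G : Type u) [AddCommGroup G] [Module R G]
    (hG : DRing.torsionSub J G = ⊥) :
    ∃ (E : Type u) (_ : AddCommGroup E) (_ : Module R E) (f : G →ₗ[R] E),
      Function.Injective f ∧ DRing.torsionSub J E = ⊥ ∧
      (∀ i, 0 < i → Subsingleton (H J i E)) ∧
      (∀ (F : ModuleCat.{u} R) (i : ℕ), 0 < i →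
        Subsingleton (Abelian.Ext F (ModuleCat.of R E) i)) := by
  let E₀ : ModuleCat.{u} R := Injective.under (ModuleCat.of R G)
  let ι₀ : ModuleCat.of R G ⟶ E₀ := Injective.ι (ModuleCat.of R G)
  have hι₀ : Function.Injective ι₀ := (ModuleCat.mono_iff_injective _).mp inferInstance
  haveI hinj : Injective (ModuleCat.of R E₀) :=
    (inferInstance : Injective (Injective.under (ModuleCat.of R G)))
  haveI : Module.Injective R E₀ := Module.injective_module_of_injective_object R E₀
  let T := DRing.torsionSub J E₀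
  haveI : Module.Injective R T := torsionSub_injective J E₀
  haveI : Injective (ModuleCat.of R T) := Module.injective_object_of_injective_module R T
  have hS := sesSub_shortExact T
  refine ⟨E₀ ⧸ T, inferInstance, inferInstance, T.mkQ ∘ₗ ι₀.hom, ?_, ?_, ?_, ?_⟩
  · rw [← LinearMap.ker_eq_bot, eq_bot_iff]
    intro g hg
    rw [LinearMap.mem_ker, LinearMap.comp_apply, Submodule.mkQ_apply,
      Submodule.Quotient.mk_eq_zero] at hg
    obtain ⟨k, hk⟩ := hg
    have : g ∈ DRing.torsionSub J G := by
      refine ⟨k, fun a ha => ?_⟩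
      apply hι₀
      rw [map_zero]
      have := hk a ha
      rw [← map_smul] at this
      exact this
    rw [hG] at this
    exact this
  · exact torsionSub_quotient_torsionSub_eq_bot J E₀
  · intro i hi
    apply subsingleton_of_forall_eq_zero
    intro z
    have h1 : δ J i hS z = 0 := (subsingleton_of_injective J (i + 1) (ModuleCat.of R T)
      (Nat.succ_pos i)).elim _ _
    obtain ⟨y, rfl⟩ := (exact_g_δ J i hS z).mp h1
    have hy : y = 0 := (subsingleton_of_injective J i (ModuleCat.of R E₀) hi).elim _ _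
    rw [hy, map_zero]
  · intro F i hi
    apply subsingleton_of_forall_eq 0
    intro x₃
    obtain ⟨j, rfl⟩ : ∃ j, i = j + 1 := ⟨i - 1, by omega⟩
    have h1 : (x₃ : Abelian.Ext F (sesSub T).X₃ (j + 1)).comp hS.extClass rfl = 0 :=
      Ext.eq_zero_of_injective _
    obtain ⟨x₂, hx₂⟩ := Ext.covariant_sequence_exact₃ F hS x₃ rfl h1
    have h2 : x₂ = 0 := Ext.eq_zero_of_injective _
    rw [← hx₂, h2, Ext.zero_comp]

end Groth.Agent.Helper8.LC

namespace Groth.Agent.Helper8.LC

open Abelian localCohomology LocCoh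

variable {R : Type u} [CommRing R] [IsNoetherianRing R]

lemma linearMap_eq_zero_of_isPowerTorsion (J : Ideal R) {F G : Type u} [AddCommGroup F]
    [Module R F] [AddCommGroup G] [Module R G] (hF : IsPowerTorsion J F)
    (hG : DRing.torsionSub J G = ⊥) (φ : F →ₗ[R] G) : φ = 0 := by
  apply LinearMap.ext
  intro x
  obtain ⟨k, hk⟩ := hF x
  have : φ x ∈ DRing.torsionSub J G :=
    ⟨k, fun a ha => by rw [← map_smul, hk a ha, map_zero]⟩
  rw [hG] at this
  exact this

lemma ext_zero_eq_zero_of_isPowerTorsion (J : Ideal R) {F G : Type u} [AddCommGroup F]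
    [Module R F] [AddCommGroup G] [Module R G] (hF : IsPowerTorsion J F)
    (hG : DRing.torsionSub J G = ⊥) (e : Abelian.Ext (ModuleCat.of R F) (ModuleCat.of R G) 0) :
    e = 0 := by
  obtain ⟨f, rfl⟩ : ∃ f, Ext.mk₀ f = e := ⟨_, Ext.mk₀_linearEquiv₀_apply (R := R) e⟩
  have : f = 0 := by
    apply ModuleCat.hom_ext
    exact linearMap_eq_zero_of_isPowerTorsion J hF hG f.hom
  rw [this, Ext.mk₀_zero]

/-- Lemma A: vanishing of local cohomology below `n` gives vanishing of `Ext` from torsion
modules below `n`. -/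
theorem ext_subsingleton_of_H (J : Ideal R) (F : Type u) [AddCommGroup F] [Module R F]
    (hF : IsPowerTorsion J F) : ∀ (n : ℕ) (G : Type u) [AddCommGroup G] [Module R G],
    (∀ i < n, Subsingleton (H J i G)) →
    ∀ i < n, Subsingleton (Abelian.Ext (ModuleCat.of R F) (ModuleCat.of R G) i) := by
  intro n
  induction n with
  | zero => intro G _ _ _ i hi; omega
  | succ n ih =>
    intro G _ _ hH i hi
    have hG : DRing.torsionSub J G = ⊥ :=
      torsionSub_eq_bot_of_subsingleton_h0 J G (hH 0 (Nat.succ_pos n))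
    obtain ⟨E, _, _, f, hf, hE0, hEH, hEE⟩ := exists_good_embedding J G hG
    have hS := sesQuot_shortExact f hf
    have hQ : ∀ j < n, Subsingleton (H J j (E ⧸ LinearMap.range f)) := by
      intro j hj
      apply subsingleton_of_forall_eq_zero
      intro z
      have h1 : δ J j hS z = 0 := (hH (j + 1) (by omega)).elim _ _
      obtain ⟨y, rfl⟩ := (exact_g_δ J j hS z).mp h1
      have hy : y = 0 := by
        rcases Nat.eq_zero_or_pos j with rfl | hjpos
        · exact (subsingleton_h0_of_torsionSub_eq_bot J E hE0).elim _ _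
        · exact (hEH j hjpos).elim _ _
      rw [hy, map_zero]
    have ihQ := ih (E ⧸ LinearMap.range f) hQ
    apply subsingleton_of_forall_eq 0
    intro x₁
    rcases Nat.eq_zero_or_pos i with rfl | hipos
    · exact ext_zero_eq_zero_of_isPowerTorsion J hF hG x₁
    · obtain ⟨j, rfl⟩ : ∃ j, i = j + 1 := ⟨i - 1, by omega⟩
      have h1 : (x₁ : Abelian.Ext (ModuleCat.of R F) (sesQuot f).X₁ (j + 1)).comp
          (Ext.mk₀ (sesQuot f).f) (add_zero _) = 0 :=
        (hEE (ModuleCat.of R F) (j + 1) (Nat.succ_pos j)).elim _ _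
      obtain ⟨x₃, hx₃⟩ := Ext.covariant_sequence_exact₁ (ModuleCat.of R F) hS x₁ h1 rfl
      have h3 : x₃ = 0 := (ihQ j (by omega)).elim _ _
      rw [← hx₃, h3, Ext.zero_comp]

/-- Lemma C. -/
lemma torsionSub_eq_bot_of_subsingleton_hom (J : Ideal R) (F : Type u) [AddCommGroup F]
    [Module R F] [Module.Finite R F]
    (hF : PrimeSpectrum.zeroLocus (J : Set R) ⊆ Module.support R F)
    (G : Type u) [AddCommGroup G] [Module R G] (h : ∀ φ : F →ₗ[R] G, φ = 0) :
    DRing.torsionSub J G = ⊥ := by
  rw [eq_bot_iff]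
  intro g hg
  rw [Submodule.mem_bot]
  by_contra hne
  obtain ⟨k, hk⟩ := hg
  let N : Submodule R G := Submodule.span R {g}
  haveI : Nontrivial N := by
    refine ⟨⟨⟨g, Submodule.mem_span_singleton_self g⟩, 0, ?_⟩⟩
    intro h0
    exact hne (congrArg Subtype.val h0)
  haveI : Module.Finite R N := Module.Finite.iff_fg.mpr (Submodule.fg_span_singleton g)
  obtain ⟨p, hp⟩ := associatedPrimes.nonempty R N
  obtain ⟨hprime, φ, hφ⟩ := (isAssociatedPrime_iff_exists_injective_linearMap p N).mp hp
  have hJp : J ≤ p := by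
    apply hprime.le_of_pow_le (n := k)
    intro a ha
    have h1 : a • φ (Ideal.Quotient.mk p 1) = 0 := by
      obtain ⟨y, hy⟩ := φ (Ideal.Quotient.mk p 1)
      apply Subtype.ext
      obtain ⟨c, rfl⟩ := Submodule.mem_span_singleton.mp hy
      change a • c • g = 0
      rw [smul_comm, hk a ha, smul_zero]
    rw [← map_smul] at h1
    have h2 := hφ (h1.trans (map_zero φ).symm)
    have h3 : Ideal.Quotient.mk p (a * 1) = 0 := h2
    rw [mul_one] at h3
    exact Ideal.Quotient.eq_zero_iff_mem.mp h3
  have hmem : (⟨p, hprime⟩ : PrimeSpectrum R) ∈ Module.support R F := hF hJp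
  haveI : Module.FinitePresentation R F := Module.finitePresentation_of_finite R F
  obtain ⟨ψ, hψ⟩ := exists_linearMap_quotient_ne_zero ⟨p, hprime⟩ F hmem
  apply hψ
  have h4 := h (N.subtype ∘ₗ φ ∘ₗ ψ)
  apply LinearMap.ext
  intro x
  have h5 := LinearMap.congr_fun h4 x
  simp only [LinearMap.comp_apply, LinearMap.zero_apply] at h5
  have h6 : φ (ψ x) = 0 := Subtype.ext h5
  exact hφ (h6.trans (map_zero φ).symm)

lemma isPowerTorsion_of_support_subset (J : Ideal R) (F : Type u) [AddCommGroup F]
    [Module R F] [Module.Finite R F]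
    (hF : Module.support R F ⊆ PrimeSpectrum.zeroLocus (J : Set R)) : IsPowerTorsion J F := by
  rw [Module.support_eq_zeroLocus, PrimeSpectrum.zeroLocus_subset_zeroLocus_iff] at hF
  obtain ⟨k, hk⟩ := Ideal.exists_pow_le_of_le_radical_of_fg hF (IsNoetherian.noetherian _)
  intro x
  exact ⟨k, fun a ha => Module.mem_annihilator.mp (hk ha) x⟩

/-- Lemma B. -/
theorem H_subsingleton_of_ext (J : Ideal R) (F : Type u) [AddCommGroup F] [Module R F]
    [Module.Finite R F] (hF : Module.support R F = PrimeSpectrum.zeroLocus (J : Set R)) :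
    ∀ (n : ℕ) (G : Type u) [AddCommGroup G] [Module R G],
    (∀ i < n, Subsingleton (Abelian.Ext (ModuleCat.of R F) (ModuleCat.of R G) i)) →
    ∀ i < n, Subsingleton (H J i G) := by
  have hFt : IsPowerTorsion J F := isPowerTorsion_of_support_subset J F hF.le
  intro n
  induction n with
  | zero => intro G _ _ _ i hi; omega
  | succ n ih =>
    intro G _ _ hE i hi
    have hG : DRing.torsionSub J G = ⊥ := by
      apply torsionSub_eq_bot_of_subsingleton_hom J F hF.ge G
      intro φ
      have h0 := (hE 0 (Nat.succ_pos n)).elim (Ext.mk₀ (ModuleCat.ofHom φ)) 0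
      have h1 := (Ext.mk₀_eq_zero_iff _).mp h0
      have h2 := congrArg ModuleCat.Hom.hom h1
      exact h2
    obtain ⟨E, _, _, f, hf, hE0, hEH, hEE⟩ := exists_good_embedding J G hG
    have hS := sesQuot_shortExact f hf
    have hQ : ∀ j < n, Subsingleton
        (Abelian.Ext (ModuleCat.of R F) (ModuleCat.of R (E ⧸ LinearMap.range f)) j) := by
      intro j hj
      apply subsingleton_of_forall_eq 0
      intro x₃
      have h1 : (x₃ : Abelian.Ext (ModuleCat.of R F) (sesQuot f).X₃ j).comp hS.extClass rfl = 0 :=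
        (hE (j + 1) (by omega)).elim _ _
      obtain ⟨x₂, hx₂⟩ := Ext.covariant_sequence_exact₃ (ModuleCat.of R F) hS x₃ rfl h1
      have h2 : x₂ = 0 := by
        rcases Nat.eq_zero_or_pos j with rfl | hjpos
        · exact ext_zero_eq_zero_of_isPowerTorsion J hFt hE0 x₂
        · exact (hEE (ModuleCat.of R F) j hjpos).elim _ _
      rw [← hx₂, h2, Ext.zero_comp]
    have ihQ := ih (E ⧸ LinearMap.range f) hQ
    rcases Nat.eq_zero_or_pos i with rfl | hipos
    · exact subsingleton_h0_of_torsionSub_eq_bot J G hG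
    · obtain ⟨j, rfl⟩ : ∃ j, i = j + 1 := ⟨i - 1, by omega⟩
      apply subsingleton_of_forall_eq_zero
      intro z
      have h1 : ((localCohomology J (j + 1)).map (sesQuot f).f) z = 0 :=
        (hEH (j + 1) (Nat.succ_pos j)).elim _ _
      obtain ⟨y, rfl⟩ := (exact_δ_f J j hS z).mp h1
      have hy : y = 0 := (ihQ j (by omega)).elim _ _
      rw [hy, map_zero]

end Groth.Agent.Helper8.LC

namespace Groth.Agent.Helper8.LC

open Abelian localCohomology LocCoh

variable {A : Type u} [CommRing A] [IsNoetherianRing A]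

lemma support_quotient_eq_zeroLocus (J : Ideal A) :
    Module.support A (A ⧸ J) = PrimeSpectrum.zeroLocus (J : Set A) := by
  rw [Module.support_eq_zeroLocus, Ideal.annihilator_quotient]

theorem H_vanishing_iff_ext_vanishing (J : Ideal A) (G : Type u) [AddCommGroup G] [Module A G]
    (n : ℕ) :
    ((∀ i : ℕ, i < n → Subsingleton (LocCoh.H J i G)) ↔
      ∀ (F : Type u) [AddCommGroup F] [Module A F], Module.Finite A F →
        Module.support A F ⊆ PrimeSpectrum.zeroLocus (J : Set A) → ∀ i : ℕ, i < n →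
        Subsingleton (Abelian.Ext (ModuleCat.of A F) (ModuleCat.of A G) i)) ∧
    ((∀ i : ℕ, i < n → Subsingleton (LocCoh.H J i G)) ↔
      ∃ (F : Type u) (_ : AddCommGroup F) (_ : Module A F), Module.Finite A F ∧
        Module.support A F = PrimeSpectrum.zeroLocus (J : Set A) ∧ ∀ i : ℕ, i < n →
        Subsingleton (Abelian.Ext (ModuleCat.of A F) (ModuleCat.of A G) i)) := by
  refine ⟨⟨?_, ?_⟩, ⟨?_, ?_⟩⟩
  · intro hH F _ _ hFfin hFsupp i hi
    exact ext_subsingleton_of_H J F (isPowerTorsion_of_support_subset J F hFsupp) n G hH i hi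
  · intro hE i hi
    apply subsingleton_of_forall_eq_zero
    intro z
    obtain ⟨k, e, rfl⟩ := ι_rep J i (ModuleCat.of A G) z
    have h1 : Subsingleton (Abelian.Ext (ModuleCat.of A (A ⧸ J ^ k)) (ModuleCat.of A G) i) :=
      hE (A ⧸ J ^ k) (Module.Finite.quotient A _)
        (support_subset_of_pow_le_annihilator J (A ⧸ J ^ k) ⟨k, pow_le_annihilator_quotient J k⟩)
        i hi
    have he : e = 0 := h1.elim _ _
    rw [he, map_zero]
  · intro hH
    refine ⟨A ⧸ J, inferInstance, inferInstance, Module.Finite.quotient A _,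
      support_quotient_eq_zeroLocus J, ?_⟩
    haveI : Module.Finite A (A ⧸ J) := Module.Finite.quotient A _
    exact ext_subsingleton_of_H J (A ⧸ J)
      (isPowerTorsion_of_support_subset J (A ⧸ J) (support_quotient_eq_zeroLocus J).le) n G hH
  · rintro ⟨F, _, _, hFfin, hFsupp, hE⟩
    exact H_subsingleton_of_ext J F hFsupp n G hE

end Groth.Agent.Helper8.LC
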