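import Mathlib
import Groth.Agent.Lib.Helper8.ABS15

/-!
# The projective dimension over a regular local ring is the top nonvanishing `Ext` into the ring
-/

set_option autoImplicit false
universe u

namespace Groth.Agent.Helper8.ABS

open CategoryTheory Abelian IsLocalRing

section local_

variable (A : Type u) [CommRing A] [IsLocalRing A] [IsNoetherianRing A]
  (M : Type u) [AddCommGroup M] [Module A M] [Module.Finite A M]

/-- If `M` has projective dimension exactly `d` (finite), then `Ext^d(M, A) ≠ 0`. -/
theorem ext_self_nontrivial_of_pd_eq (d : ℕ)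
    (h1 : HasProjectiveDimensionLT (ModuleCat.of A M) (d + 1))
    (h2 : ¬ HasProjectiveDimensionLT (ModuleCat.of A M) d) :
    Nontrivial (Ext (ModuleCat.of A M) (ModuleCat.of A A) d) := by
  by_contra hcon
  rw [not_nontrivial_iff_subsingleton] at hcon
  cases d with
  | zero =>
    have h3 : Projective (ModuleCat.of A M) := projective_iff_hasProjectiveDimensionLT_one.mpr h1
    have h4 : Module.Projective A M := (IsProjective.iff_projective _).mpr h3
    have h5 : Module.Free A M := Module.free_of_flat_of_isLocalRing
    have hnt : Nontrivial M := by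
      by_contra hM
      rw [not_nontrivial_iff_subsingleton] at hM
      apply h2
      rw [hasProjectiveDimensionLT_zero_iff_isZero]
      exact ModuleCat.isZero_of_subsingleton _
    let b := Module.Free.chooseBasis A M
    have hnon : Nonempty (Module.Free.ChooseBasisIndex A M) := by
      by_contra hemp
      rw [not_nonempty_iff] at hemp
      exact not_subsingleton M b.repr.toEquiv.subsingleton
    obtain ⟨i⟩ := hnon
    have h6 : Ext.mk₀ (ModuleCat.ofHom (b.coord i)) =
        (Ext.mk₀ (0 : ModuleCat.of A M ⟶ ModuleCat.of A A)) := Subsingleton.elim _ _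
    rw [(Ext.mk₀_bijective _ _).1.eq_iff] at h6
    have h7 := congrArg (fun f => f.hom (b i)) h6
    simp at h7
  | succ d' =>
    exact h2 (hasProjectiveDimensionLT_of_ext_self_subsingleton d' M h1 hcon)

end local_

theorem projectiveDimension_eq_iff_ext_self (A : Type u) [CommRing A] [IsRegularLocalRing A]
    (M : Type u) [AddCommGroup M] [Module A M] [Module.Finite A M] (d : ℕ) :
    projectiveDimension (ModuleCat.of A M) = (d : WithBot ℕ∞) ↔
      ((∀ j : ℕ, d < j → Subsingleton (Ext (ModuleCat.of A M) (ModuleCat.of A A) j)) ∧
        Nontrivial (Ext (ModuleCat.of A M) (ModuleCat.of A A) d)) := by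
  constructor
  · intro h
    have h1 : HasProjectiveDimensionLT (ModuleCat.of A M) (d + 1) :=
      (projectiveDimension_le_iff _ d).mp h.le
    have h2 : ¬ HasProjectiveDimensionLT (ModuleCat.of A M) d :=
      (projectiveDimension_ge_iff _ d).mp h.ge
    exact ⟨(hasProjectiveDimensionLT_iff_ext_self A M d).mp h1,
      ext_self_nontrivial_of_pd_eq A M d h1 h2⟩
  · rintro ⟨h1, h2⟩
    apply le_antisymm
    · exact (projectiveDimension_le_iff _ d).mpr ((hasProjectiveDimensionLT_iff_ext_self A M d).mpr h1)
    · rw [projectiveDimension_ge_iff]
      intro hlt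
      have := HasProjectiveDimensionLT.subsingleton (ModuleCat.of A M) d d le_rfl (ModuleCat.of A A)
      exact not_subsingleton _ this

end Groth.Agent.Helper8.ABS
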