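import Mathlib
import Groth.Agent.Lib.Helper8.ABS19
import Groth.Agent.Lib.Helper8.ABS16

/-!
# Depth of a module over a regular local ring read off from `Ext` into the ring
-/

set_option autoImplicit false
universe u

namespace Groth.Agent.Helper8.ABS

open CategoryTheory Abelian IsLocalRing LocCoh Depth

theorem min_le_depth_iff_ext_self_vanishing (A : Type u) [CommRing A] [IsRegularLocalRing A]
    (n : ℕ) (hn : ringKrullDim A = n) (M : Type u) [AddCommGroup M] [Module A M]
    [Module.Finite A M] (k c : ℕ) :
    ((min k (n - c) : ℕ) : ℕ∞) ≤ depth A M ↔
      ∀ q : ℕ, c < q → Nontrivial (Ext (ModuleCat.of A M) (ModuleCat.of A A) q) →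
        q + k ≤ n := by
  rcases subsingleton_or_nontrivial M with hM | hM
  · constructor
    · intro _ q _ hq
      exfalso
      have hz : Limits.IsZero (ModuleCat.of A M) := ModuleCat.isZero_of_subsingleton _
      have := hz.hasProjectiveDimensionLT_zero
      have := HasProjectiveDimensionLT.subsingleton (ModuleCat.of A M) 0 q (by omega)
        (ModuleCat.of A A)
      exact not_subsingleton _ this
    · intro _
      rw [depth_eq_top_of_subsingleton]
      exact le_top
  · have hlt := hasProjectiveDimensionLT_of_regular_finite n A hn M
    obtain ⟨e, hen, he⟩ := exists_projectiveDimension_eq M n hlt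
    have hab := auslander_buchsbaum A M e he
    have hdA : depth A A = (n : ℕ∞) := by
      have h1 := depth_eq_dim_of_regular A
      rw [hn] at h1
      exact WithBot.coe_injective h1
    obtain ⟨dM, hdM⟩ := ENat.ne_top_iff_exists.mp
      (idealDepth_ne_top (smul_top_ne_top_of_local A M))
    have hdM' : depth A M = (dM : ℕ∞) := hdM.symm
    rw [hdA, hdM'] at hab
    have hsum : n = e + dM := by exact_mod_cast hab
    have h1 : HasProjectiveDimensionLT (ModuleCat.of A M) (e + 1) :=
      (projectiveDimension_le_iff _ e).mp he.le
    have h2 : ¬ HasProjectiveDimensionLT (ModuleCat.of A M) e :=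
      (projectiveDimension_ge_iff _ e).mp he.ge
    have hnt := ext_self_nontrivial_of_pd_eq A M e h1 h2
    rw [hdM']
    constructor
    · intro hmin q hcq hq
      have hmin' : min k (n - c) ≤ dM := by exact_mod_cast hmin
      have hqe : q ≤ e := by
        by_contra hcon
        push Not at hcon
        have := HasProjectiveDimensionLT.subsingleton (ModuleCat.of A M) (e + 1) q (by omega)
          (ModuleCat.of A A)
        exact not_subsingleton _ this
      rcases min_le_iff.mp hmin' with h | h
      · omega
      · omega
    · intro hq
      have : min k (n - c) ≤ dM := by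
        by_cases hce : c < e
        · have := hq e hce hnt
          exact (min_le_left _ _).trans (by omega)
        · exact (min_le_right _ _).trans (by omega)
      exact_mod_cast this

end Groth.Agent.Helper8.ABS
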