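import Groth.Agent.Lib.Helper8.ExtLoc2

/-!
# Localization of `Ext`: the comparison map is a localization
-/

set_option autoImplicit false
universe u

namespace Groth.Agent.Helper8.ExtLoc

open CategoryTheory Abelian

variable {R : Type u} [CommRing R] [IsNoetherianRing R] (S : Submonoid R)
  (N : Type u) [AddCommGroup N] [Module R N]

/-- **Localization of `Ext`.** For a finite module `M` over a Noetherian ring, the comparison map
`Ext^j_R(M, N) → Ext^j_{R_S}(M_S, N_S)` is surjective up to denominators and its kernel is the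
`S`-torsion. -/
theorem Φ_loc : ∀ (j : ℕ) (M : Type u) [AddCommGroup M] [Module R M] [Module.Finite R M],
    (∀ y : Ext ((locF S).obj (ModuleCat.of R M)) ((locF S).obj (ModuleCat.of R N)) j,
      ∃ (s : S) (x : Ext (ModuleCat.of R M) (ModuleCat.of R N) j),
        Φ S _ _ j x = (algebraMap R (Localization S) s) • y) ∧
    (∀ x : Ext (ModuleCat.of R M) (ModuleCat.of R N) j, Φ S _ _ j x = 0 →
      ∃ s : S, (s : R) • x = 0) := by
  intro j
  induction j with
  | zero =>
    intro M _ _ _
    haveI := Module.finitePresentation_of_finite R M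
    exact ⟨fun y => Φ_zero_surj S y, fun x hx => Φ_zero_inj S x hx⟩
  | succ j ih =>
    intro M _ _ _
    obtain ⟨a, p, hp⟩ := Module.Finite.exists_fin' R M
    have hT := LinearMap.shortExact_shortComplexKer hp
    have hT' := hT.map_of_exact (locF S)
    set T := p.shortComplexKer with hTdef
    have hprojF : ∀ (Y : ModuleCat.{u} R) (k : ℕ), Subsingleton (Ext T.X₂ Y (k + 1)) :=
      fun Y k => Ext.subsingleton_of_projective _ _ k
    have hprojF' : ∀ (Y : ModuleCat.{u} (Localization S)) (k : ℕ),
        Subsingleton (Ext (T.map (locF S)).X₂ Y (k + 1)) := by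
      intro Y k
      haveI : Projective (T.map (locF S)).X₂ := by
        change Projective (ModuleCat.of (Localization S) (LocalizedModule S (Fin a → R)))
        infer_instance
      exact Ext.subsingleton_of_projective _ _ k
    have key : ∀ (x : Ext T.X₁ (ModuleCat.of R N) j),
        Φ S T.X₃ (ModuleCat.of R N) (j + 1) (hT.extClass.comp x (add_comm 1 j)) =
          hT'.extClass.comp (Φ S T.X₁ (ModuleCat.of R N) j x) (add_comm 1 j) := by
      intro x
      rw [Φ_comp]
      exact congrArg (fun e => Ext.comp e (Φ S T.X₁ (ModuleCat.of R N) j x) (add_comm 1 j))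
        (Φ_extClass S hT)
    obtain ⟨ihKs, ihKi⟩ := ih (LinearMap.ker p)
    obtain ⟨ihFs, ihFi⟩ := ih (Fin a → R)
    constructor
    · intro y
      obtain ⟨z, hz⟩ := Ext.contravariant_sequence_exact₃ hT' ((locF S).obj (ModuleCat.of R N)) y
        ((hprojF' _ j).elim _ _) (add_comm 1 j)
      obtain ⟨s, x, hx⟩ := ihKs z
      refine ⟨s, hT.extClass.comp x (add_comm 1 j), ?_⟩
      have hx' : Φ S T.X₁ (ModuleCat.of R N) j x = (algebraMap R (Localization S) s) • z := hx
      rw [← hz]
      refine (key x).trans ?_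
      rw [hx', Ext.comp_smul]
      rfl
    · intro x hx
      obtain ⟨x₁, rfl⟩ := Ext.contravariant_sequence_exact₃ hT (ModuleCat.of R N) x
        ((hprojF _ j).elim _ _) (add_comm 1 j)
      have hx' := (key x₁).symm.trans hx
      obtain ⟨w, hw⟩ := Ext.contravariant_sequence_exact₁ hT' ((locF S).obj (ModuleCat.of R N))
        (Φ S T.X₁ (ModuleCat.of R N) j x₁) (add_comm 1 j) hx'
      obtain ⟨s, v, hv⟩ := ihFs w
      let w' : Ext ((locF S).obj T.X₂) ((locF S).obj (ModuleCat.of R N)) j := w
      have hw' : (Ext.mk₀ ((locF S).map T.f)).comp w' (zero_add j) =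
          Φ S T.X₁ (ModuleCat.of R N) j x₁ := hw
      have hv' : Φ S T.X₂ (ModuleCat.of R N) j v = (algebraMap R (Localization S) s) • w' := hv
      have h1 : Φ S T.X₁ (ModuleCat.of R N) j
          ((s : R) • x₁ - (Ext.mk₀ T.f).comp v (zero_add j)) = 0 := by
        rw [map_sub, Φ_smul, Φ_comp, Φ_mk₀, hv', Ext.comp_smul, ← smul_sub, hw', sub_self,
          smul_zero]
      obtain ⟨t, ht⟩ := ihKi _ h1
      refine ⟨t * s, ?_⟩
      rw [smul_sub, sub_eq_zero] at ht
      rw [← Ext.comp_smul, Submonoid.coe_mul, mul_smul, ht, Ext.comp_smul,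
        ← Ext.comp_assoc hT.extClass (Ext.mk₀ T.f) v (add_zero 1) (zero_add j) (by omega),
        ShortComplex.ShortExact.extClass_comp, Ext.zero_comp, smul_zero]

end Groth.Agent.Helper8.ExtLoc
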