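import Mathlib
import Groth.Prelude.Def_ega3
import Groth.Prelude.Def_Koszul
import Groth.Prelude.Def_DRing2
import Groth.Agent.Lib.Helper8.Koszul6

/-!
# Koszul Euler characteristic, part 1: the bridge `K(l) ⊗ M ≅ K(l; M)`
-/

namespace Groth.Agent.Helper8.KoszulLib

open CategoryTheory CategoryTheory.Limits CochainComplex CohIII MonoidalCategory

universe u

variable {A : Type u} [CommRing A]

/-- Cone functoriality for isomorphisms. -/
noncomputable def coneSmulIso {K L : CochainComplex (ModuleCat.{u} A) ℤ} (e : K ≅ L) (a : A) :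
    mappingCone (a • 𝟙 K) ≅ mappingCone (a • 𝟙 L) where
  hom := mappingCone.map _ _ e.hom e.hom
    (by rw [Linear.smul_comp, Linear.comp_smul, Category.id_comp, Category.comp_id])
  inv := mappingCone.map _ _ e.inv e.inv
    (by rw [Linear.smul_comp, Linear.comp_smul, Category.id_comp, Category.comp_id])
  hom_inv_id := by
    rw [← mappingCone.map_comp]
    simp only [Iso.hom_inv_id]
    exact mappingCone.map_id _
  inv_hom_id := by
    rw [← mappingCone.map_comp]
    simp only [Iso.inv_hom_id]
    exact mappingCone.map_id _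

/-- Cone of equal morphisms. -/
noncomputable def coneCongrIso {K L : CochainComplex (ModuleCat.{u} A) ℤ} {φ ψ : K ⟶ L}
    (h : φ = ψ) : mappingCone φ ≅ mappingCone ψ := eqToIso (by rw [h])

/-- The bridge `K(l; A) ⊗ M ≅ K(l; M)`. -/
noncomputable def tensorKoszulCxIso (M : ModuleCat.{u} A) : ∀ l : List A,
    DRing.tensorCx (koszulCx (ModuleCat.of A A) l) M ≅ koszulCx M l
  | [] => ((HomologicalComplex.singleMapHomologicalComplex (tensorRight M)
        (ComplexShape.up ℤ) 0).app (ModuleCat.of A A)) ≪≫
      (HomologicalComplex.single _ _ 0).mapIso (λ_ M)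
  | f :: l =>
      mappingCone.mapHomologicalComplexIso (f • 𝟙 (koszulCx (ModuleCat.of A A) l)) (tensorRight M) ≪≫
      coneCongrIso (ψ := f • 𝟙 (DRing.tensorCx (koszulCx (ModuleCat.of A A) l) M))
        (by rw [CategoryTheory.Functor.map_smul, CategoryTheory.Functor.map_id]; rfl) ≪≫
      coneSmulIso (tensorKoszulCxIso M l) f

/-- The bridge for the prelude's `Koszul.koszul`. -/
noncomputable def tensorKoszulIso (M : ModuleCat.{u} A) (l : List A) :
    DRing.tensorCx (Koszul.koszul A l) M ≅ koszulCx M l :=
  eqToIso (by rw [koszul_eq_koszulCx]) ≪≫ tensorKoszulCxIso M l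

/-- Homology of the tensored Koszul complex, as a linear equivalence. -/
theorem nonempty_tensor_homology_equiv (M : ModuleCat.{u} A) (l : List A) (n : ℤ) :
    Nonempty ((DRing.tensorCx (Koszul.koszul A l) M).homology n ≃ₗ[A] (koszulCx M l).homology n) :=
  ⟨((HomologicalComplex.homologyFunctor _ _ n).mapIso (tensorKoszulIso M l)).toLinearEquiv⟩

theorem length_tensor_homology (M : ModuleCat.{u} A) (l : List A) (n : ℤ) :
    Module.length A ((DRing.tensorCx (Koszul.koszul A l) M).homology n) =
      Module.length A ((koszulCx M l).homology n) := by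
  obtain ⟨e⟩ := nonempty_tensor_homology_equiv M l n
  exact e.length_eq

end Groth.Agent.Helper8.KoszulLib
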