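import Mathlib
import Groth.Agent.Lib.Helper8.ABS20

/-!
# Regular local rings are Gorenstein; the embedding dimension is at most `pd k`
-/

set_option autoImplicit false
universe u

namespace Groth.Agent.Helper8.ABS

open CategoryTheory Abelian IsLocalRing LocCoh Depth

theorem isGorensteinLocalRing_of_isRegularLocalRing (A : Type u) [CommRing A]
    [IsRegularLocalRing A] : IsGorensteinLocalRing A := by
  refine ⟨?_⟩
  obtain ⟨d, hd, -⟩ := exists_hasProjectiveDimensionLT_of_regular A A
  refine ⟨d + 1, hasInjectiveDimensionLT_of_forall_ideal A d A fun I => ?_⟩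
  have := hasProjectiveDimensionLT_of_regular_finite d A hd (A ⧸ I)
  exact HasProjectiveDimensionLT.subsingleton (ModuleCat.of A (A ⧸ I)) (d + 1) (d + 1) le_rfl _

theorem finrank_cotangent_lt_of_hasProjectiveDimensionLT {R : Type u} [CommRing R]
    [IsLocalRing R] [IsNoetherianRing R] (d : ℕ)
    (hd : HasProjectiveDimensionLT (ModuleCat.of R (ResidueField R)) d) :
    Module.finrank (ResidueField R) (CotangentSpace R) < d := by
  have hreg := isRegularLocalRing_of_residueField R d hd
  cases d with
  | zero =>
    exfalso
    have hz := (hasProjectiveDimensionLT_zero_iff_isZero _).mp hd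
    have : Subsingleton (ResidueField R) := ModuleCat.isZero_iff_subsingleton.mp hz
    exact not_subsingleton _ this
  | succ d =>
    obtain ⟨e, hed, he⟩ := exists_projectiveDimension_eq (ResidueField R) d hd
    have hab := auslander_buchsbaum R (ResidueField R) e he
    have hk0 : depth R (ResidueField R) = 0 := by
      rw [depth_eq_zero_iff]
      refine (isAssociatedPrime_iff (R := R) (M := ResidueField R)).mpr ⟨inferInstance, 1, ?_⟩
      ext a
      rw [Submodule.mem_colon_singleton, Submodule.mem_bot, Algebra.smul_def, mul_one]
      exact (residue_eq_zero_iff a).symm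
    rw [hk0, add_zero] at hab
    have h1 := depth_eq_dim_of_regular R
    rw [hab, ← (IsRegularLocalRing.iff_finrank_cotangentSpace R).mp hreg] at h1
    have h2 : e = Module.finrank (ResidueField R) (CotangentSpace R) := by exact_mod_cast h1
    omega

end Groth.Agent.Helper8.ABS
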