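import Mathlib

/-!
# Socles and lengths of duals over a local ring
-/

set_option autoImplicit false
universe u v

namespace Groth.Agent.Helper8.GorArt

open IsLocalRing

section Soc

variable (R : Type u) [CommRing R] [IsLocalRing R]

/-- The socle of a module over a local ring: the elements killed by the maximal ideal. -/
def Soc (M : Type v) [AddCommGroup M] [Module R M] : Submodule R M where
  carrier := {x | ∀ r ∈ maximalIdeal R, r • x = 0}
  add_mem' := by
    intro x y hx hy r hr
    rw [smul_add, hx r hr, hy r hr, add_zero]
  zero_mem' := by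
    intro r _
    exact smul_zero r
  smul_mem' := by
    intro c x hx r hr
    rw [smul_comm, hx r hr, smul_zero]

variable {R}

theorem mem_soc_iff {M : Type v} [AddCommGroup M] [Module R M] (x : M) :
    x ∈ Soc R M ↔ ∀ r ∈ maximalIdeal R, r • x = 0 := Iff.rfl

/-- Maps out of the residue field are the socle elements. -/
noncomputable def homEquivSoc (E : Type v) [AddCommGroup E] [Module R E] :
    ((R ⧸ maximalIdeal R) →ₗ[R] E) ≃ₗ[R] Soc R E where
  toFun f := ⟨f (Submodule.Quotient.mk 1), by
    intro r hr
    rw [← map_smul, ← Submodule.Quotient.mk_smul, smul_eq_mul, mul_one,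
      (Submodule.Quotient.mk_eq_zero _).mpr hr, map_zero]⟩
  map_add' f g := by
    ext
    rfl
  map_smul' c f := by
    ext
    rfl
  invFun x := Submodule.liftQ (maximalIdeal R) (LinearMap.toSpanSingleton R E x.1) (by
    intro r hr
    rw [LinearMap.mem_ker, LinearMap.toSpanSingleton_apply]
    exact x.2 r hr)
  left_inv f := by
    refine LinearMap.ext fun y => ?_
    obtain ⟨y, rfl⟩ := Submodule.Quotient.mk_surjective _ y
    rw [Submodule.liftQ_apply, LinearMap.toSpanSingleton_apply]
    change y • f (Submodule.Quotient.mk 1) = _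
    rw [← map_smul, ← Submodule.Quotient.mk_smul, smul_eq_mul, mul_one]
  right_inv x := by
    ext
    change Submodule.liftQ (maximalIdeal R) (LinearMap.toSpanSingleton R E x.1) _
      (Submodule.Quotient.mk 1) = _
    rw [Submodule.liftQ_apply, LinearMap.toSpanSingleton_apply, one_smul]

/-- Socles are functorial for linear equivalences. -/
noncomputable def socCongr {M N : Type v} [AddCommGroup M] [Module R M] [AddCommGroup N]
    [Module R N] (e : M ≃ₗ[R] N) : Soc R M ≃ₗ[R] Soc R N where
  toFun x := ⟨e x.1, by
    intro r hr
    rw [← map_smul, x.2 r hr, map_zero]⟩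
  map_add' x y := by
    ext
    exact map_add e _ _
  map_smul' c x := by
    ext
    exact map_smul e _ _
  invFun y := ⟨e.symm y.1, by
    intro r hr
    rw [← map_smul, y.2 r hr, map_zero]⟩
  left_inv x := by
    ext
    exact e.symm_apply_apply _
  right_inv y := by
    ext
    exact e.apply_symm_apply _

end Soc

section Induction

variable (R : Type u) [CommRing R] [IsLocalRing R]

/-- Induction on finite length modules over a local ring, peeling off a simple submodule. -/
theorem finiteLength_induction
    (P : ∀ (M : Type u) [AddCommGroup M] [Module R M], Prop)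
    (h0 : ∀ (M : Type u) [AddCommGroup M] [Module R M], Subsingleton M → P M)
    (hstep : ∀ (M : Type u) [AddCommGroup M] [Module R M] (S : Submodule R M),
      Nonempty (S ≃ₗ[R] (R ⧸ maximalIdeal R)) → P (M ⧸ S) → P M)
    (M : Type u) [AddCommGroup M] [Module R M] (hM : IsFiniteLength R M) : P M := by
  have hne : Module.length R M ≠ ⊤ := Module.length_ne_top_iff.mpr hM
  obtain ⟨n, hn⟩ := ENat.ne_top_iff_exists.mp hne
  clear hne hM
  induction n generalizing M with
  | zero =>
    exact h0 M (Module.length_eq_zero_iff.mp hn.symm)
  | succ n ih =>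
    have hfl : IsFiniteLength R M := by
      rw [← Module.length_ne_top_iff, ← hn]
      exact ENat.natCast_ne_top _
    obtain ⟨_, hart⟩ := isFiniteLength_iff_isNoetherian_isArtinian.mp hfl
    have hnt : Nontrivial M := by
      rw [← Module.length_pos_iff (R := R), ← hn]
      exact_mod_cast Nat.succ_pos n
    obtain ⟨S, hS⟩ := IsAtomic.exists_atom (Submodule R M)
    have hsimple : IsSimpleModule R S := isSimpleModule_iff_isAtom.mpr hS
    obtain ⟨I, hI, ⟨e⟩⟩ := isSimpleModule_iff_quot_maximal.mp hsimple
    obtain rfl := eq_maximalIdeal hI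
    refine hstep M S ⟨e⟩ (ih (M ⧸ S) ?_)
    have hadd := Module.length_eq_add_of_exact S.subtype S.mkQ S.subtype_injective
      S.mkQ_surjective (LinearMap.exact_subtype_mkQ S)
    rw [Module.length_eq_one R S, ← hn] at hadd
    have h1 : ((n + 1 : ℕ) : ℕ∞) = 1 + (n : ℕ∞) := by push_cast; rw [add_comm]
    rw [h1] at hadd
    exact ((ENat.add_right_injective_of_ne_top ENat.one_ne_top) hadd).symm ▸ rfl

end Induction

end Groth.Agent.Helper8.GorArt
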