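import Mathlib
import Groth.Agent.Lib.Helper8.GorArt1

/-!
# Lengths of duals: `ℓ(Hom(M, E)) ≤ ℓ(Soc E) · ℓ(M)`, with equality for injective `E`
-/

set_option autoImplicit false
universe u

namespace Groth.Agent.Helper8.GorArt

open IsLocalRing

variable {R : Type u} [CommRing R] [IsLocalRing R] (E : Type u) [AddCommGroup E] [Module R E]

section exactness

variable {M : Type u} [AddCommGroup M] [Module R M] (S : Submodule R M)

omit [IsLocalRing R] in
theorem lcomp_mkQ_injective :
    Function.Injective (LinearMap.lcomp R E S.mkQ) := by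
  intro f g hfg
  refine LinearMap.ext fun y => ?_
  obtain ⟨y, rfl⟩ := S.mkQ_surjective y
  exact LinearMap.congr_fun hfg y

theorem exact_lcomp :
    Function.Exact (LinearMap.lcomp R E S.mkQ) (LinearMap.lcomp R E S.subtype) := by
  intro f
  constructor
  · intro hf
    have hle : S ≤ LinearMap.ker f := by
      intro x hx
      rw [LinearMap.mem_ker]
      exact LinearMap.congr_fun hf ⟨x, hx⟩
    refine ⟨S.liftQ f hle, ?_⟩
    refine LinearMap.ext fun y => ?_
    simp
  · rintro ⟨g, rfl⟩
    refine LinearMap.ext fun y => ?_
    have h0 : (Submodule.Quotient.mk (y : M) : M ⧸ S) = 0 :=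
      (Submodule.Quotient.mk_eq_zero S).mpr y.2
    simp [h0]

theorem length_hom_subtype_eq (e : S ≃ₗ[R] (R ⧸ maximalIdeal R)) :
    Module.length R (S →ₗ[R] E) = Module.length R (Soc R E) :=
  ((LinearEquiv.congrLeft E R e).trans (homEquivSoc E)).length_eq

end exactness

/-- `ℓ(Hom(M, E)) ≤ ℓ(Soc E) · ℓ(M)`. -/
theorem length_hom_le (M : Type u) [AddCommGroup M] [Module R M] (hM : IsFiniteLength R M) :
    Module.length R (M →ₗ[R] E) ≤ Module.length R (Soc R E) * Module.length R M := by
  refine finiteLength_induction R
    (fun M _ _ => Module.length R (M →ₗ[R] E) ≤ Module.length R (Soc R E) * Module.length R M)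
    ?_ ?_ M hM
  · intro M _ _ hM
    have : Subsingleton (M →ₗ[R] E) := ⟨fun f g => LinearMap.ext fun x => by
      rw [Subsingleton.elim x 0, map_zero, map_zero]⟩
    rw [Module.length_eq_zero_iff.mpr this]
    exact zero_le
  · intro M _ _ S ⟨e⟩ ih
    have hadd := Module.length_eq_add_of_exact S.subtype S.mkQ S.subtype_injective
      S.mkQ_surjective (LinearMap.exact_subtype_mkQ S)
    rw [e.length_eq] at hadd
    have h1 : Module.length R (R ⧸ maximalIdeal R) = 1 := by
      haveI : IsSimpleModule R (R ⧸ maximalIdeal R) :=
        isSimpleModule_iff_quot_maximal.mpr ⟨maximalIdeal R, inferInstance, ⟨LinearEquiv.refl _ _⟩⟩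
      exact Module.length_eq_one _ _
    rw [h1] at hadd
    let g := LinearMap.lcomp R E S.subtype
    have hex : Function.Exact (LinearMap.lcomp R E S.mkQ) g.rangeRestrict := by
      intro f
      rw [← exact_lcomp E S f]
      constructor
      · intro h
        exact congrArg Subtype.val h
      · intro h
        exact Subtype.ext h
    have h2 := Module.length_eq_add_of_exact _ _ (lcomp_mkQ_injective E S)
      g.surjective_rangeRestrict hex
    have h3 : Module.length R (LinearMap.range g) ≤ Module.length R (Soc R E) := by
      rw [← length_hom_subtype_eq E S e]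
      exact Module.length_le_of_injective (LinearMap.range g).subtype
        (Submodule.subtype_injective _)
    rw [h2, hadd, mul_add, mul_one, add_comm (Module.length R (Soc R E))]
    exact add_le_add ih h3

/-- For injective `E`, `ℓ(Hom(M, E)) = ℓ(Soc E) · ℓ(M)`. -/
theorem length_hom_eq [Module.Injective R E] (M : Type u) [AddCommGroup M] [Module R M]
    (hM : IsFiniteLength R M) :
    Module.length R (M →ₗ[R] E) = Module.length R (Soc R E) * Module.length R M := by
  refine finiteLength_induction R
    (fun M _ _ => Module.length R (M →ₗ[R] E) = Module.length R (Soc R E) * Module.length R M)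
    ?_ ?_ M hM
  · intro M _ _ hM
    have : Subsingleton (M →ₗ[R] E) := ⟨fun f g => LinearMap.ext fun x => by
      rw [Subsingleton.elim x 0, map_zero, map_zero]⟩
    rw [Module.length_eq_zero_iff.mpr this, Module.length_eq_zero_iff.mpr hM, mul_zero]
  · intro M _ _ S ⟨e⟩ ih
    have hadd := Module.length_eq_add_of_exact S.subtype S.mkQ S.subtype_injective
      S.mkQ_surjective (LinearMap.exact_subtype_mkQ S)
    rw [e.length_eq] at hadd
    have h1 : Module.length R (R ⧸ maximalIdeal R) = 1 := by
      haveI : IsSimpleModule R (R ⧸ maximalIdeal R) :=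
        isSimpleModule_iff_quot_maximal.mpr ⟨maximalIdeal R, inferInstance, ⟨LinearEquiv.refl _ _⟩⟩
      exact Module.length_eq_one _ _
    rw [h1] at hadd
    have hsurj : Function.Surjective (LinearMap.lcomp R E S.subtype) := by
      intro f
      obtain ⟨h, hh⟩ := Module.Injective.extension_property R E S M S.subtype
        S.subtype_injective f
      exact ⟨h, hh⟩
    have h2 := Module.length_eq_add_of_exact _ _ (lcomp_mkQ_injective E S) hsurj
      (exact_lcomp E S)
    rw [h2, hadd, mul_add, mul_one, add_comm (Module.length R (Soc R E)), ih,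
      length_hom_subtype_eq E S e]

end Groth.Agent.Helper8.GorArt
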