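import Mathlib
import Groth.Agent.Lib.Helper8.ABS4
import Groth.Agent.Lib.Helper8.Depth26

/-!
# Bass' criterion: finite injective dimension is detected by `Ext(κ, M)`
-/

set_option autoImplicit false
universe u

namespace Groth.Agent.Helper8.Goren

open CategoryTheory Abelian IsLocalRing Limits

section General

variable {A : Type u} [CommRing A]

/-- `Ext` only depends on the isomorphism class of the first argument. -/
theorem ext_subsingleton_of_iso_left {N N' M : ModuleCat.{u} A} (e : N ≅ N') (i : ℕ)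
    (h : Subsingleton (Ext N M i)) : Subsingleton (Ext N' M i) := by
  refine ⟨fun x y => ?_⟩
  have key : ∀ z : Ext N' M i, z = 0 := by
    intro z
    have h1 : (Ext.mk₀ e.hom).comp z (zero_add i) = 0 := Subsingleton.elim _ _
    have h2 : (Ext.mk₀ e.inv).comp ((Ext.mk₀ e.hom).comp z (zero_add i)) (zero_add i) = z := by
      rw [← Ext.comp_assoc (Ext.mk₀ e.inv) (Ext.mk₀ e.hom) z (zero_add 0) (zero_add i)
        (by omega), Ext.mk₀_comp_mk₀, e.inv_hom_id, Ext.mk₀_id_comp]
    rw [← h2, h1, Ext.comp_zero]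
  rw [key x, key y]

theorem ext_subsingleton_of_linearEquiv_left {N N' : Type u} [AddCommGroup N] [Module A N]
    [AddCommGroup N'] [Module A N'] (M : ModuleCat.{u} A) (e : N ≃ₗ[A] N') (i : ℕ)
    (h : Subsingleton (Ext (ModuleCat.of A N) M i)) : Subsingleton (Ext (ModuleCat.of A N') M i) :=
  ext_subsingleton_of_iso_left e.toModuleIso i h

/-- Middle term of a short exact sequence. -/
theorem ext_subsingleton_of_exact_left {N₁ N₂ N₃ : Type u} [AddCommGroup N₁] [Module A N₁]
    [AddCommGroup N₂] [Module A N₂] [AddCommGroup N₃] [Module A N₃] (M : ModuleCat.{u} A)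
    (f : N₁ →ₗ[A] N₂) (g : N₂ →ₗ[A] N₃) (hf : Function.Injective f) (hg : Function.Surjective g)
    (hfg : Function.Exact f g) (i : ℕ)
    (h1 : Subsingleton (Ext (ModuleCat.of A N₁) M i))
    (h3 : Subsingleton (Ext (ModuleCat.of A N₃) M i)) :
    Subsingleton (Ext (ModuleCat.of A N₂) M i) := by
  let S := ModuleCat.shortComplexOfCompEqZero f g hfg.linearMap_comp_eq_zero
  have hS : S.ShortExact := ModuleCat.shortComplex_shortExact S hfg hf hg
  refine ⟨fun x y => ?_⟩
  have key : ∀ z : Ext (ModuleCat.of A N₂) M i, z = 0 := by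
    intro z
    have hz : (Ext.mk₀ S.f).comp z (zero_add i) = 0 := by
      have : Subsingleton (Ext S.X₁ M i) := h1
      exact Subsingleton.elim _ _
    obtain ⟨x₁, hx₁⟩ := Ext.contravariant_sequence_exact₂ hS M z hz
    have : Subsingleton (Ext S.X₃ M i) := h3
    rw [← hx₁, Subsingleton.elim x₁ 0, Ext.comp_zero]
  rw [key x, key y]

end General

variable {A : Type u} [CommRing A] [IsLocalRing A] [IsNoetherianRing A]

/-- Nakayama for `Ext`. -/
theorem ext_subsingleton_of_smul_surjective (N M : ModuleCat.{u} A) [Module.Finite A N]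
    [Module.Finite A M] (i : ℕ) (x : A) (hx : x ∈ maximalIdeal A)
    (h : ∀ z : Ext N M i, ∃ w : Ext N M i, x • w = z) : Subsingleton (Ext N M i) := by
  have hfin : Module.Finite A (Ext N M i) := inferInstance
  have htop : (⊤ : Submodule A (Ext N M i)) = ⊥ := by
    refine Submodule.eq_bot_of_le_smul_of_le_jacobson_bot (maximalIdeal A) ⊤ Module.Finite.fg_top ?_
      (IsLocalRing.maximalIdeal_le_jacobson ⊥)
    intro z _
    obtain ⟨w, hw⟩ := h z
    rw [← hw]
    exact Submodule.smul_mem_smul hx Submodule.mem_top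
  refine ⟨fun a b => ?_⟩
  have ha : a ∈ (⊤ : Submodule A (Ext N M i)) := Submodule.mem_top
  have hb : b ∈ (⊤ : Submodule A (Ext N M i)) := Submodule.mem_top
  rw [htop, Submodule.mem_bot] at ha hb
  rw [ha, hb]

omit [IsLocalRing A] in
/-- If `J` annihilates `N` and `Ext^j(A/q, M) = 0` for all primes `q ⊇ J`, then
`Ext^j(N, M) = 0`. -/
theorem ext_subsingleton_of_forall_prime_ge (M : ModuleCat.{u} A) (J : Ideal A) (j : ℕ)
    (h : ∀ q : Ideal A, q.IsPrime → J ≤ q → Subsingleton (Ext (ModuleCat.of A (A ⧸ q)) M j))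
    (N : Type u) [AddCommGroup N] [Module A N] [hN : Module.Finite A N]
    (hJ : J ≤ Module.annihilator A N) : Subsingleton (Ext (ModuleCat.of A N) M j) := by
  induction hN using IsNoetherianRing.induction_on_isQuotientEquivQuotientPrime A with
  | subsingleton N =>
    have hz : IsZero (ModuleCat.of A N) := ModuleCat.isZero_of_subsingleton _
    have h0 : 𝟙 (ModuleCat.of A N) = 0 := hz.eq_of_src _ _
    have key : ∀ z : Ext (ModuleCat.of A N) M j, z = 0 := by
      intro z
      rw [← Ext.mk₀_id_comp z, h0, Ext.mk₀_zero, Ext.zero_comp]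
    exact ⟨fun x y => by rw [key x, key y]⟩
  | quotient N p e =>
    have hp : J ≤ p.asIdeal := by
      have h1 : Module.annihilator A N = Module.annihilator A (A ⧸ p.asIdeal) :=
        e.annihilator_eq
      rw [h1, Ideal.annihilator_quotient] at hJ
      exact hJ
    exact ext_subsingleton_of_linearEquiv_left M e.symm j (h p.asIdeal p.2 hp)
  | exact N₁ N₂ N₃ f g hf hg hfg h₁ h₃ =>
    have hJ1 : J ≤ Module.annihilator A N₁ := by
      intro r hr
      rw [Module.mem_annihilator]
      intro n
      apply hf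
      rw [map_smul, map_zero]
      exact Module.mem_annihilator.mp (hJ hr) (f n)
    have hJ3 : J ≤ Module.annihilator A N₃ := by
      intro r hr
      rw [Module.mem_annihilator]
      intro n
      obtain ⟨m, rfl⟩ := hg n
      rw [← map_smul, Module.mem_annihilator.mp (hJ hr) m, map_zero]
    exact ext_subsingleton_of_exact_left M f g hf hg hfg j (h₁ hJ1) (h₃ hJ3)

/-- The key step: vanishing of `Ext^{i+1}` on all strictly larger primes gives vanishing of
`Ext^i` at a non-maximal prime. -/
theorem ext_subsingleton_of_forall_prime_gt (M : ModuleCat.{u} A) [Module.Finite A M]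
    (p : Ideal A) [p.IsPrime] (hp : p ≠ maximalIdeal A) (i : ℕ)
    (h : ∀ q : Ideal A, q.IsPrime → p < q →
      Subsingleton (Ext (ModuleCat.of A (A ⧸ q)) M (i + 1))) :
    Subsingleton (Ext (ModuleCat.of A (A ⧸ p)) M i) := by
  obtain ⟨x, hxm, hxp⟩ : ∃ x ∈ maximalIdeal A, x ∉ p := by
    by_contra hcon
    push Not at hcon
    exact hp (le_antisymm (le_maximalIdeal (Ideal.IsPrime.ne_top inferInstance)) hcon)
  have hreg : IsSMulRegular (A ⧸ p) x := by
    intro a b hab
    obtain ⟨a, rfl⟩ := Ideal.Quotient.mk_surjective a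
    obtain ⟨b, rfl⟩ := Ideal.Quotient.mk_surjective b
    have h1 : Ideal.Quotient.mk p (x * (a - b)) = 0 := by
      have h2 : Ideal.Quotient.mk p (x * a) = Ideal.Quotient.mk p (x * b) := by
        simpa [Algebra.smul_def] using hab
      rw [mul_sub, map_sub, h2, sub_self]
    rw [Ideal.Quotient.eq_zero_iff_mem] at h1
    rcases Ideal.IsPrime.mem_or_mem inferInstance h1 with h3 | h3
    · exact absurd h3 hxp
    · exact (Ideal.Quotient.eq).mpr h3
  have hS := IsSMulRegular.smulShortComplex_shortExact (M := ModuleCat.of A (A ⧸ p)) hreg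
  set S := ModuleCat.smulShortComplex (ModuleCat.of A (A ⧸ p)) x with hSdef
  -- `Ext^{i+1}(X₃, M) = 0`
  have h3 : Subsingleton (Ext S.X₃ M (i + 1)) := by
    refine ext_subsingleton_of_forall_prime_ge M (p ⊔ Ideal.span {x}) (i + 1) ?_
      (QuotSMulTop x (A ⧸ p)) ?_
    · intro q hq hle
      refine h q hq (lt_of_le_of_ne (le_sup_left.trans hle) ?_)
      rintro rfl
      exact hxp (hle (Ideal.mem_sup_right (Ideal.mem_span_singleton_self x)))
    · rw [sup_le_iff]
      constructor
      · intro r hr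
        rw [Module.mem_annihilator]
        intro n
        obtain ⟨n, rfl⟩ := Submodule.Quotient.mk_surjective _ n
        obtain ⟨n, rfl⟩ := Ideal.Quotient.mk_surjective n
        rw [← Submodule.Quotient.mk_smul]
        have : r • (Ideal.Quotient.mk p n) = 0 := by
          rw [Algebra.smul_def, Ideal.Quotient.algebraMap_eq, ← map_mul,
            Ideal.Quotient.eq_zero_iff_mem]
          exact p.mul_mem_right _ hr
        rw [this, Submodule.Quotient.mk_zero]
      · rw [Ideal.span_le, Set.singleton_subset_iff]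
        exact QuotSMulTop.mem_annihilator (A ⧸ p) x
  refine ext_subsingleton_of_smul_surjective _ M i x hxm fun z => ?_
  obtain ⟨w, hw⟩ := Ext.contravariant_sequence_exact₁ hS M z (by omega : 1 + i = i + 1)
    (Subsingleton.elim _ _)
  let w' : Ext (ModuleCat.of A (A ⧸ p)) M i := w
  refine ⟨w', ?_⟩
  rw [← hw]
  have h1 : x • w' = (Ext.mk₀ (x • 𝟙 (ModuleCat.of A (A ⧸ p)))).comp w' (zero_add i) := by
    simp [Ext.mk₀_smul]
  rw [h1]
  rfl

/-- Noetherian induction over primes. -/
theorem ext_quotient_prime_subsingleton (M : ModuleCat.{u} A) [Module.Finite A M] (N₀ : ℕ)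
    (h : ∀ i : ℕ, N₀ ≤ i →
      Subsingleton (Ext (ModuleCat.of A (A ⧸ maximalIdeal A)) M i)) :
    ∀ (p : Ideal A), p.IsPrime → ∀ i : ℕ, N₀ ≤ i →
      Subsingleton (Ext (ModuleCat.of A (A ⧸ p)) M i) := by
  intro p
  induction p using WellFoundedGT.induction with
  | ind p ih =>
    intro hp i hi
    by_cases hpm : p = maximalIdeal A
    · subst hpm; exact h i hi
    · exact ext_subsingleton_of_forall_prime_gt M p hpm i
        (fun q hq hpq => ih q hpq hq (i + 1) (by omega))

theorem hasInjectiveDimensionLT_of_ext_residueField (M : Type u) [AddCommGroup M] [Module A M]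
    [Module.Finite A M] (N₀ : ℕ)
    (h : ∀ i : ℕ, N₀ ≤ i →
      Subsingleton (Ext (ModuleCat.of A (ResidueField A)) (ModuleCat.of A M) i)) :
    HasInjectiveDimensionLT (ModuleCat.of A M) (N₀ + 1) := by
  have h' := ext_quotient_prime_subsingleton (ModuleCat.of A M) N₀ h
  refine ABS.hasInjectiveDimensionLT_of_forall_ideal A N₀ M fun I => ?_
  exact ext_subsingleton_of_forall_prime_ge (ModuleCat.of A M) ⊥ (N₀ + 1)
    (fun q hq _ => h' q hq (N₀ + 1) (by omega)) (A ⧸ I) bot_le

theorem bass_criterion (M : Type u) [AddCommGroup M] [Module A M] [Module.Finite A M] :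
    (∃ n : ℕ, HasInjectiveDimensionLT (ModuleCat.of A M) n) ↔
      ∃ N : ℕ, ∀ i : ℕ, N ≤ i →
        Subsingleton (Ext (ModuleCat.of A (ResidueField A)) (ModuleCat.of A M) i) := by
  constructor
  · rintro ⟨n, hn⟩
    exact ⟨n, fun i hi => HasInjectiveDimensionLT.subsingleton (ModuleCat.of A M) n i hi _⟩
  · rintro ⟨N, hN⟩
    exact ⟨N + 1, hasInjectiveDimensionLT_of_ext_residueField M N hN⟩

end Groth.Agent.Helper8.Goren
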