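import Mathlib
import Groth.Agent.Lib.Helper8.Goren1

/-!
# Bass numbers propagate along coverings of primes; `dim A ≤ id A`
-/

set_option autoImplicit false
universe u

namespace Groth.Agent.Helper8.Goren

open CategoryTheory Abelian IsLocalRing Limits

variable {A : Type u} [CommRing A]

/-- Some element outside `q` kills the module `E`. -/
def KilledOff (q : Ideal A) (E : Type*) [AddCommGroup E] [Module A E] : Prop :=
  ∃ t : A, t ∉ q ∧ ∀ z : E, t • z = 0

theorem killedOff_of_subsingleton (q : Ideal A) [q.IsPrime] (E : Type*) [AddCommGroup E]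
    [Module A E] [Subsingleton E] : KilledOff q E :=
  ⟨1, fun h => (Ideal.IsPrime.ne_top inferInstance) ((Ideal.eq_top_iff_one q).mpr h),
    fun _ => Subsingleton.elim _ _⟩

theorem killedOff_ext_of_iso_left (q : Ideal A) {N N' M : ModuleCat.{u} A} (e : N ≅ N') (i : ℕ)
    (h : KilledOff q (Ext N M i)) : KilledOff q (Ext N' M i) := by
  obtain ⟨t, ht, hk⟩ := h
  refine ⟨t, ht, fun z => ?_⟩
  have h1 : t • ((Ext.mk₀ e.hom).comp z (zero_add i)) = 0 := hk _
  have h2 : (Ext.mk₀ e.inv).comp ((Ext.mk₀ e.hom).comp z (zero_add i)) (zero_add i) = z := by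
    rw [← Ext.comp_assoc (Ext.mk₀ e.inv) (Ext.mk₀ e.hom) z (zero_add 0) (zero_add i)
      (by omega), Ext.mk₀_comp_mk₀, e.inv_hom_id, Ext.mk₀_id_comp]
  rw [← h2, ← Ext.comp_smul, h1, Ext.comp_zero]

theorem killedOff_ext_of_exact_left (q : Ideal A) [q.IsPrime] {N₁ N₂ N₃ : Type u}
    [AddCommGroup N₁] [Module A N₁]
    [AddCommGroup N₂] [Module A N₂] [AddCommGroup N₃] [Module A N₃] (M : ModuleCat.{u} A)
    (f : N₁ →ₗ[A] N₂) (g : N₂ →ₗ[A] N₃) (hf : Function.Injective f) (hg : Function.Surjective g)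
    (hfg : Function.Exact f g) (i : ℕ)
    (h1 : KilledOff q (Ext (ModuleCat.of A N₁) M i))
    (h3 : KilledOff q (Ext (ModuleCat.of A N₃) M i)) :
    KilledOff q (Ext (ModuleCat.of A N₂) M i) := by
  let S := ModuleCat.shortComplexOfCompEqZero f g hfg.linearMap_comp_eq_zero
  have hS : S.ShortExact := ModuleCat.shortComplex_shortExact S hfg hf hg
  obtain ⟨t₁, ht₁, hk₁⟩ := h1
  obtain ⟨t₃, ht₃, hk₃⟩ := h3
  refine ⟨t₃ * t₁, fun h => ?_, fun z => ?_⟩
  · rcases Ideal.IsPrime.mem_or_mem inferInstance h with h | h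
    · exact ht₃ h
    · exact ht₁ h
  · have hz : (Ext.mk₀ S.f).comp (t₁ • z) (zero_add i) = 0 := by
      rw [Ext.comp_smul]
      exact hk₁ _
    obtain ⟨x₁, hx₁⟩ := Ext.contravariant_sequence_exact₂ hS M (t₁ • z) hz
    have h3' : t₃ • x₁ = 0 := hk₃ x₁
    rw [mul_smul, ← hx₁, ← Ext.comp_smul, h3', Ext.comp_zero]

theorem killedOff_ext_of_forall_prime_ge [IsNoetherianRing A] (q : Ideal A) [q.IsPrime]
    (M : ModuleCat.{u} A) (J : Ideal A) (j : ℕ)
    (h : ∀ q' : Ideal A, q'.IsPrime → J ≤ q' →
      KilledOff q (Ext (ModuleCat.of A (A ⧸ q')) M j))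
    (N : Type u) [AddCommGroup N] [Module A N] [hN : Module.Finite A N]
    (hJ : J ≤ Module.annihilator A N) : KilledOff q (Ext (ModuleCat.of A N) M j) := by
  induction hN using IsNoetherianRing.induction_on_isQuotientEquivQuotientPrime A with
  | subsingleton N =>
    have hz : IsZero (ModuleCat.of A N) := ModuleCat.isZero_of_subsingleton _
    have h0 : 𝟙 (ModuleCat.of A N) = 0 := hz.eq_of_src _ _
    have key : ∀ z : Ext (ModuleCat.of A N) M j, z = 0 := by
      intro z
      rw [← Ext.mk₀_id_comp z, h0, Ext.mk₀_zero, Ext.zero_comp]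
    have : Subsingleton (Ext (ModuleCat.of A N) M j) := ⟨fun x y => by rw [key x, key y]⟩
    exact killedOff_of_subsingleton q _
  | quotient N p e =>
    have hp : J ≤ p.asIdeal := by
      have h1 : Module.annihilator A N = Module.annihilator A (A ⧸ p.asIdeal) :=
        e.annihilator_eq
      rw [h1, Ideal.annihilator_quotient] at hJ
      exact hJ
    exact killedOff_ext_of_iso_left q e.symm.toModuleIso j (h p.asIdeal p.2 hp)
  | exact N₁ N₂ N₃ f g hf hg hfg h₁ h₃ =>
    have hJ1 : J ≤ Module.annihilator A N₁ := by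
      intro r hr
      rw [Module.mem_annihilator]
      intro n
      apply hf
      rw [map_smul, map_zero]
      exact Module.mem_annihilator.mp (hJ hr) (f n)
    have hJ3 : J ≤ Module.annihilator A N₃ := by
      intro r hr
      rw [Module.mem_annihilator]
      intro n
      obtain ⟨m, rfl⟩ := hg n
      rw [← map_smul, Module.mem_annihilator.mp (hJ hr) m, map_zero]
    exact killedOff_ext_of_exact_left q M f g hf hg hfg j (h₁ hJ1) (h₃ hJ3)

/-- A Cayley–Hamilton form of Nakayama's lemma. -/
theorem exists_notMem_smul_eq_zero (E : Type*) [AddCommGroup E] [Module A E] [Module.Finite A E]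
    (q : Ideal A) [q.IsPrime] (x t : A) (hx : x ∈ q) (ht : t ∉ q)
    (h : ∀ z : E, ∃ w : E, t • z = x • w) : ∃ s : A, s ∉ q ∧ ∀ z : E, s • z = 0 := by
  let f : Module.End A E := algebraMap A (Module.End A E) t
  have hf : LinearMap.range f ≤ (Ideal.span {x}) • (⊤ : Submodule A E) := by
    rintro _ ⟨z, rfl⟩
    obtain ⟨w, hw⟩ := h z
    have : f z = x • w := by
      show t • z = x • w
      exact hw
    rw [this]
    exact Submodule.smul_mem_smul (Ideal.mem_span_singleton_self x) Submodule.mem_top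
  obtain ⟨p, hmonic, -, hcoeff, hp⟩ :=
    LinearMap.exists_monic_and_natDegree_eq_and_coeff_mem_pow_and_aeval_eq_zero A f
      (Ideal.span {x}) hf
  refine ⟨p.eval t, ?_, ?_⟩
  · intro hmem
    -- reduce modulo `q`
    have hmap : p.map (Ideal.Quotient.mk q) = Polynomial.X ^ p.natDegree := by
      ext k
      rw [Polynomial.coeff_map, Polynomial.coeff_X_pow]
      split_ifs with hk
      · rw [hk, hmonic.coeff_natDegree, map_one]
      · rcases lt_or_gt_of_ne hk with hlt | hgt
        · rw [Ideal.Quotient.eq_zero_iff_mem]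
          have h1 := hcoeff k
          have h2 : Ideal.span {x} ^ (p.natDegree - k) ≤ Ideal.span {x} :=
            Ideal.pow_le_self (by omega)
          have h3 : Ideal.span {x} ≤ q := by
            rw [Ideal.span_le, Set.singleton_subset_iff]; exact hx
          exact h3 (h2 h1)
        · rw [Polynomial.coeff_eq_zero_of_natDegree_lt hgt, map_zero]
    have h1 : Ideal.Quotient.mk q (p.eval t) = (Ideal.Quotient.mk q t) ^ p.natDegree := by
      rw [← Polynomial.eval_map_apply, hmap, Polynomial.eval_pow, Polynomial.eval_X]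
    rw [Ideal.Quotient.eq_zero_iff_mem.mpr hmem] at h1
    have h2 : Ideal.Quotient.mk q t = 0 := eq_zero_of_pow_eq_zero h1.symm
    exact ht (Ideal.Quotient.eq_zero_iff_mem.mp h2)
  · intro z
    have h1 : Polynomial.aeval f p = algebraMap A (Module.End A E) (p.eval t) := by
      rw [Polynomial.aeval_algebraMap_apply, Polynomial.coe_aeval_eq_eval]
    have h2 := congrArg (fun g => g z) hp
    rw [h1] at h2
    exact h2

variable [IsLocalRing A] [IsNoetherianRing A]

omit [IsLocalRing A] in
/-- Propagation of nonvanishing along a covering `p ⋖ q` of primes. -/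
theorem killedOff_ext_of_covBy (M : ModuleCat.{u} A) [Module.Finite A M]
    (p q : Ideal A) [p.IsPrime] [q.IsPrime] (hpq : p < q)
    (hcov : ∀ q' : Ideal A, q'.IsPrime → p < q' → q' ≤ q → q' = q) (i : ℕ)
    (h : KilledOff q (Ext (ModuleCat.of A (A ⧸ q)) M (i + 1))) :
    KilledOff p (Ext (ModuleCat.of A (A ⧸ p)) M i) := by
  obtain ⟨x, hxq, hxp⟩ : ∃ x ∈ q, x ∉ p := by
    by_contra hcon
    push Not at hcon
    exact absurd (le_antisymm hpq.le hcon) hpq.ne
  have hreg : IsSMulRegular (A ⧸ p) x := by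
    intro a b hab
    obtain ⟨a, rfl⟩ := Ideal.Quotient.mk_surjective a
    obtain ⟨b, rfl⟩ := Ideal.Quotient.mk_surjective b
    have h1 : Ideal.Quotient.mk p (x * (a - b)) = 0 := by
      have h2 : Ideal.Quotient.mk p (x * a) = Ideal.Quotient.mk p (x * b) := by
        simpa [Algebra.smul_def] using hab
      rw [mul_sub, map_sub, h2, sub_self]
    rw [Ideal.Quotient.eq_zero_iff_mem] at h1
    rcases Ideal.IsPrime.mem_or_mem inferInstance h1 with h3 | h3
    · exact absurd h3 hxp
    · exact (Ideal.Quotient.eq).mpr h3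
  have hS := IsSMulRegular.smulShortComplex_shortExact (M := ModuleCat.of A (A ⧸ p)) hreg
  set S := ModuleCat.smulShortComplex (ModuleCat.of A (A ⧸ p)) x with hSdef
  have h3 : KilledOff q (Ext S.X₃ M (i + 1)) := by
    refine killedOff_ext_of_forall_prime_ge q M (p ⊔ Ideal.span {x}) (i + 1) ?_
      (QuotSMulTop x (A ⧸ p)) ?_
    · intro q' hq' hle
      have hpq' : p < q' := by
        refine lt_of_le_of_ne (le_sup_left.trans hle) ?_
        rintro rfl
        exact hxp (hle (Ideal.mem_sup_right (Ideal.mem_span_singleton_self x)))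
      by_cases hq'q : q' ≤ q
      · have := hcov q' hq' hpq' hq'q
        subst this
        exact h
      · obtain ⟨t, htq', htq⟩ : ∃ t ∈ q', t ∉ q := by
          by_contra hcon
          push Not at hcon
          exact hq'q hcon
        refine ⟨t, htq, fun z => ?_⟩
        refine Depth.ext_smul_eq_zero_of_mem_annihilator_left ?_ (i + 1) z
        change t ∈ Module.annihilator A (A ⧸ q')
        rw [Ideal.annihilator_quotient]; exact htq'
    · rw [sup_le_iff]
      constructor
      · intro r hr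
        rw [Module.mem_annihilator]
        intro n
        obtain ⟨n, rfl⟩ := Submodule.Quotient.mk_surjective _ n
        obtain ⟨n, rfl⟩ := Ideal.Quotient.mk_surjective n
        rw [← Submodule.Quotient.mk_smul]
        have : r • (Ideal.Quotient.mk p n) = 0 := by
          rw [Algebra.smul_def, Ideal.Quotient.algebraMap_eq, ← map_mul,
            Ideal.Quotient.eq_zero_iff_mem]
          exact p.mul_mem_right _ hr
        rw [this, Submodule.Quotient.mk_zero]
      · rw [Ideal.span_le, Set.singleton_subset_iff]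
        exact QuotSMulTop.mem_annihilator (A ⧸ p) x
  obtain ⟨t, htq, hk⟩ := h3
  have key : ∀ z : Ext (ModuleCat.of A (A ⧸ p)) M i,
      ∃ w : Ext (ModuleCat.of A (A ⧸ p)) M i, t • z = x • w := by
    intro z
    let z' : Ext S.X₁ M i := z
    have hz : hS.extClass.comp (t • z') (by omega : 1 + i = i + 1) = 0 := by
      rw [Ext.comp_smul]
      exact hk _
    obtain ⟨w, hw⟩ := Ext.contravariant_sequence_exact₁ hS M (t • z') (by omega : 1 + i = i + 1) hz
    let w' : Ext (ModuleCat.of A (A ⧸ p)) M i := w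
    refine ⟨w', ?_⟩
    show t • z' = x • w'
    rw [← hw]
    have h1 : x • w' = (Ext.mk₀ (x • 𝟙 (ModuleCat.of A (A ⧸ p)))).comp w' (zero_add i) := by
      simp [Ext.mk₀_smul]
    rw [h1]
    rfl
  obtain ⟨s, hsq, hs⟩ := exists_notMem_smul_eq_zero (Ext (ModuleCat.of A (A ⧸ p)) M i) q x t
    hxq htq key
  exact ⟨s, fun hsp => hsq (hpq.le hsp), hs⟩

end Groth.Agent.Helper8.Goren
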