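import Mathlib
import Groth.Agent.Lib.Helper8.Goren2

/-!
# `dim A ≤ id A` for a Noetherian local ring
-/

set_option autoImplicit false
universe u

namespace Groth.Agent.Helper8.Goren

open CategoryTheory Abelian IsLocalRing Limits

variable {A : Type u} [CommRing A] [IsLocalRing A] [IsNoetherianRing A]

theorem ext_residueField_not_subsingleton_of_not_killedOff (M : ModuleCat.{u} A)
    [Module.Finite A M] (n : ℕ) :
    ∀ (p : PrimeSpectrum A), Order.coheight p = n → ∀ i : ℕ,
      ¬ KilledOff p.asIdeal (Ext (ModuleCat.of A (A ⧸ p.asIdeal)) M i) →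
      ¬ Subsingleton (Ext (ModuleCat.of A (A ⧸ maximalIdeal A)) M (i + n)) := by
  induction n with
  | zero =>
    intro p hp i h hsub
    apply h
    have hmax : IsMax p := Order.coheight_eq_zero.mp (by simpa using hp)
    have hle : p ≤ closedPoint A := le_maximalIdeal p.2.ne_top
    have hge : closedPoint A ≤ p := hmax hle
    have hpm : p.asIdeal = maximalIdeal A := le_antisymm hle hge
    rcases p with ⟨P, hP⟩
    dsimp only at hpm ⊢
    subst hpm
    exact killedOff_of_subsingleton _ _
  | succ n ih =>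
    intro p hp i h
    have hp' : Order.coheight p = (n : ℕ∞) + 1 := by rw [hp]; push_cast; rfl
    obtain ⟨-, ⟨y, hy, hyn⟩, hall⟩ := Order.coheight_eq_coe_add_one_iff.mp hp'
    have hlt : p.asIdeal < y.asIdeal := hy
    have hcov : ∀ q' : Ideal A, q'.IsPrime → p.asIdeal < q' → q' ≤ y.asIdeal → q' = y.asIdeal := by
      intro q' hq' hpq' hq'y
      by_contra hne
      let Q' : PrimeSpectrum A := ⟨q', hq'⟩
      have h1 : Q' < y := lt_of_le_of_ne hq'y (fun h => hne (congrArg PrimeSpectrum.asIdeal h))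
      have h2 : Order.coheight y + 1 ≤ Order.coheight Q' := Order.coheight_add_one_le h1
      have h3 : Order.coheight Q' ≤ n := hall Q' hpq'
      rw [hyn] at h2
      have h4 : ((n + 1 : ℕ) : ℕ∞) ≤ (n : ℕ∞) := by
        push_cast
        exact h2.trans h3
      have := Nat.cast_le.mp h4
      omega
    have hy' : ¬ KilledOff y.asIdeal (Ext (ModuleCat.of A (A ⧸ y.asIdeal)) M (i + 1)) :=
      fun hk => h (killedOff_ext_of_covBy M p.asIdeal y.asIdeal hlt hcov i hk)
    have := ih y hyn (i + 1) hy'
    have hidx : i + (n + 1) = i + 1 + n := by omega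
    rw [hidx]
    exact this

theorem exists_coheight_eq_ringKrullDim :
    ∃ (p : PrimeSpectrum A) (n : ℕ), Order.coheight p = n ∧ ringKrullDim A = n ∧
      p.asIdeal ∈ minimalPrimes A := by
  have hlt : ringKrullDim A < ⊤ := ringKrullDim_lt_top
  have heq : ringKrullDim A = ((⨆ a : PrimeSpectrum A, Order.coheight a : ℕ∞) : WithBot ℕ∞) :=
    Order.krullDim_eq_iSup_coheight_of_nonempty
  have hlt' : (⨆ a : PrimeSpectrum A, Order.coheight a) < ⊤ := by
    rw [heq] at hlt
    exact WithBot.coe_lt_coe.mp hlt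
  obtain ⟨p, hp⟩ := ENat.exists_eq_iSup_of_lt_top hlt'
  obtain ⟨n, hn⟩ := ENat.ne_top_iff_exists.mp (hp ▸ hlt'.ne)
  refine ⟨p, n, hn.symm, ?_, ?_⟩
  · rw [heq, ← hp, ← hn]; rfl
  · refine ⟨⟨p.2, bot_le⟩, ?_⟩
    rintro q ⟨hq, -⟩ hqp
    by_contra hcon
    let Q : PrimeSpectrum A := ⟨q, hq⟩
    have h1 : Q < p := lt_of_le_of_ne hqp (fun h => hcon (by rw [← h]))
    have h2 : Order.coheight p + 1 ≤ Order.coheight Q := Order.coheight_add_one_le h1
    have h3 : Order.coheight Q ≤ Order.coheight p := by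
      rw [hp]; exact le_iSup (fun a : PrimeSpectrum A => Order.coheight a) Q
    rw [← hn] at h2 h3
    have h4 : ((n + 1 : ℕ) : ℕ∞) ≤ (n : ℕ∞) := by
      push_cast
      exact h2.trans h3
    have := Nat.cast_le.mp h4
    omega

omit [IsLocalRing A] in
theorem not_killedOff_hom_of_mem_associatedPrimes (p : Ideal A) (hp : p ∈ associatedPrimes A A) :
    ¬ KilledOff p (Ext (ModuleCat.of A (A ⧸ p)) (ModuleCat.of A A) 0) := by
  rintro ⟨t, htp, hk⟩
  obtain ⟨hprime, a, ha⟩ := (isAssociatedPrime_iff (R := A) (M := A)).mp hp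
  have hle : p ≤ LinearMap.ker (LinearMap.toSpanSingleton A A a) := by
    intro r hr
    rw [ha, Submodule.mem_colon_singleton, Submodule.mem_bot] at hr
    rw [LinearMap.mem_ker, LinearMap.toSpanSingleton_apply]
    exact hr
  let φ : A ⧸ p →ₗ[A] A := Submodule.liftQ p (LinearMap.toSpanSingleton A A a) hle
  have h1 := hk (Ext.mk₀ (ModuleCat.ofHom φ))
  rw [← Ext.mk₀_smul, ← Ext.mk₀_zero] at h1
  have h2 := (Ext.mk₀_bijective _ _).1 h1
  have h3 := congrArg (fun f => f.hom (Submodule.Quotient.mk 1)) h2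
  have h4 : t • a = 0 := by
    have h5 : φ (Submodule.Quotient.mk 1) = a := by
      show (Submodule.liftQ p (LinearMap.toSpanSingleton A A a) hle) (Submodule.Quotient.mk 1) = a
      rw [Submodule.liftQ_apply, LinearMap.toSpanSingleton_apply, one_smul]
    have h6 : t • φ (Submodule.Quotient.mk 1) = 0 := h3
    rw [h5] at h6
    exact h6
  apply htp
  rw [ha, Submodule.mem_colon_singleton, Submodule.mem_bot]
  exact h4

theorem ringKrullDim_le_of_hasInjectiveDimensionLT (r : ℕ)
    (h : HasInjectiveDimensionLT (ModuleCat.of A A) (r + 1)) : ringKrullDim A ≤ r := by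
  obtain ⟨p, n, hpn, hdim, hmin⟩ := exists_coheight_eq_ringKrullDim (A := A)
  have hass : p.asIdeal ∈ associatedPrimes A A := by
    apply Module.associatedPrimes.minimalPrimes_annihilator_subset_associatedPrimes A A
    have : Module.annihilator A A = ⊥ := by
      rw [eq_bot_iff]
      intro x hx
      rw [Module.mem_annihilator] at hx
      have := hx 1
      rw [Submodule.mem_bot]
      simpa using this
    rw [this]
    exact hmin
  have h1 := ext_residueField_not_subsingleton_of_not_killedOff (ModuleCat.of A A) n p hpn 0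
    (not_killedOff_hom_of_mem_associatedPrimes p.asIdeal hass)
  rw [hdim]
  by_contra hcon
  push Not at hcon
  have hrn : r + 1 ≤ 0 + n := by
    have : (r : WithBot ℕ∞) < (n : WithBot ℕ∞) := hcon
    have h2 : r < n := by exact_mod_cast this
    omega
  exact h1 (HasInjectiveDimensionLT.subsingleton (ModuleCat.of A A) (r + 1) (0 + n) hrn _)

end Groth.Agent.Helper8.Goren
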