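import Mathlib
import Groth.Agent.Lib.Helper8.Goren3
import Groth.Agent.Lib.Helper8.Depth14
import Groth.Agent.Lib.Helper8.Depth7

/-!
# A Gorenstein local ring is Cohen–Macaulay
-/

set_option autoImplicit false
universe u

namespace Groth.Agent.Helper8.Goren

open CategoryTheory Abelian IsLocalRing Limits LocCoh Depth RingTheory.Sequence

variable {A : Type u} [CommRing A] [IsLocalRing A] [IsNoetherianRing A]

/-- Sharp form of Bass' criterion. -/
theorem hasInjectiveDimensionLT_of_ext_residueField' (M : Type u) [AddCommGroup M] [Module A M]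
    [Module.Finite A M] (N₀ : ℕ)
    (h : ∀ i : ℕ, N₀ ≤ i →
      Subsingleton (Ext (ModuleCat.of A (A ⧸ maximalIdeal A)) (ModuleCat.of A M) i)) :
    HasInjectiveDimensionLT (ModuleCat.of A M) N₀ := by
  have h' := ext_quotient_prime_subsingleton (ModuleCat.of A M) N₀ h
  have hall : ∀ (N : Type u) [AddCommGroup N] [Module A N] [Module.Finite A N] (i : ℕ), N₀ ≤ i →
      Subsingleton (Ext (ModuleCat.of A N) (ModuleCat.of A M) i) := by
    intro N _ _ _ i hi
    exact ext_subsingleton_of_forall_prime_ge (ModuleCat.of A M) ⊥ i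
      (fun q hq _ => h' q hq i hi) N bot_le
  rcases Nat.eq_zero_or_pos N₀ with rfl | hpos
  · have h0 := hall M 0 le_rfl
    rw [hasInjectiveDimensionLT_zero_iff_isZero, IsZero.iff_id_eq_zero]
    have h1 : Ext.mk₀ (𝟙 (ModuleCat.of A M)) = Ext.mk₀ 0 := Subsingleton.elim _ _
    exact (Ext.mk₀_bijective _ _).1 h1
  · obtain ⟨n, rfl⟩ : ∃ n, N₀ = n + 1 := ⟨N₀ - 1, by omega⟩
    exact ABS.hasInjectiveDimensionLT_of_forall_ideal A n M fun I => hall (A ⧸ I) (n + 1) le_rfl

/-- If `id M = r` exactly then `Ext^r(κ, M) ≠ 0`. -/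
theorem ext_residueField_not_subsingleton (M : Type u) [AddCommGroup M] [Module A M]
    [Module.Finite A M] (r : ℕ) (h1 : HasInjectiveDimensionLT (ModuleCat.of A M) (r + 1))
    (h2 : ¬ HasInjectiveDimensionLT (ModuleCat.of A M) r) :
    ¬ Subsingleton (Ext (ModuleCat.of A (A ⧸ maximalIdeal A)) (ModuleCat.of A M) r) := by
  intro hsub
  apply h2
  refine hasInjectiveDimensionLT_of_ext_residueField' M r fun i hi => ?_
  rcases Nat.eq_or_lt_of_le hi with rfl | hlt
  · exact hsub
  · exact HasInjectiveDimensionLT.subsingleton (ModuleCat.of A M) (r + 1) i hlt _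

/-- `id A ≤ depth A`. -/
theorem le_depth_of_injectiveDimension_eq (r : ℕ)
    (h1 : HasInjectiveDimensionLT (ModuleCat.of A A) (r + 1))
    (h2 : ¬ HasInjectiveDimensionLT (ModuleCat.of A A) r) : (r : ℕ∞) ≤ depth A A := by
  have hne := ext_residueField_not_subsingleton A r h1 h2
  have htop : maximalIdeal A • (⊤ : Submodule A A) ≠ ⊤ := smul_top_ne_top_of_local A A
  obtain ⟨rs, hreg, hmem, hmax, hlen⟩ := exists_maximal_isWeaklyRegular htop
  change (rs.length : ℕ∞) = depth A A at hlen
  rw [← hlen]
  set B := A ⧸ (Ideal.ofList rs • (⊤ : Submodule A A)) with hB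
  have hnoreg : ∀ x ∈ maximalIdeal A, ¬ IsSMulRegular B x := by
    intro x hx hcon
    refine hmax x hx ?_
    rw [isWeaklyRegular_append_iff, isWeaklyRegular_singleton_iff]
    exact ⟨hreg, hcon⟩
  obtain ⟨p, hp, hmp⟩ := exists_le_associatedPrime_of_forall_not_isSMulRegular (maximalIdeal A)
    hnoreg
  have hpp : p.IsPrime := hp.isPrime
  have hpm : p = maximalIdeal A := le_antisymm (le_maximalIdeal hpp.ne_top) hmp
  subst hpm
  obtain ⟨-, f, hf⟩ := (isAssociatedPrime_iff_exists_injective_linearMap (maximalIdeal A) B).mp hp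
  -- `Ext^r(B, A) ≠ 0`
  have hExtB : ¬ Subsingleton (Ext (ModuleCat.of A B) (ModuleCat.of A A) r) := by
    intro hsub
    apply hne
    let S := ModuleCat.shortComplexOfCompEqZero f (LinearMap.range f).mkQ
      (LinearMap.exact_map_mkQ_range f).linearMap_comp_eq_zero
    have hS : S.ShortExact := ModuleCat.shortComplex_shortExact S
      (LinearMap.exact_map_mkQ_range f) hf (Submodule.mkQ_surjective _)
    refine ⟨fun x y => ?_⟩
    have key : ∀ z : Ext (ModuleCat.of A (A ⧸ maximalIdeal A)) (ModuleCat.of A A) r, z = 0 := by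
      intro z
      let z' : Ext S.X₁ (ModuleCat.of A A) r := z
      have hz : hS.extClass.comp z' (by omega : 1 + r = r + 1) = 0 :=
        Ext.eq_zero_of_hasInjectiveDimensionLT _ (r + 1) le_rfl
      obtain ⟨w, hw⟩ := Ext.contravariant_sequence_exact₁ hS (ModuleCat.of A A) z'
        (by omega : 1 + r = r + 1) hz
      have hw0 : w = 0 := by
        have : Subsingleton (Ext S.X₂ (ModuleCat.of A A) r) := hsub
        exact Subsingleton.elim _ _
      show z' = 0
      rw [← hw, hw0, Ext.comp_zero]
    rw [key x, key y]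
  -- `pd B ≤ length rs`
  have hpd : HasProjectiveDimensionLT (ModuleCat.of A B) (rs.length + 1) := by
    have h3 := ModuleCat.projectiveDimension_quotient_eq_add_length_of_isWeaklyRegular
      (ModuleCat.of A A) rs hreg hmem
    have h4 : projectiveDimension (ModuleCat.of A A) ≤ (0 : ℕ) := by
      rw [projectiveDimension_le_iff]
      have : Projective (ModuleCat.of A A) :=
        (IsProjective.iff_projective _).mp (inferInstance : Module.Projective A A)
      exact projective_iff_hasProjectiveDimensionLT_one.mp this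
    have h5 : projectiveDimension (ModuleCat.of A B) ≤ (rs.length : ℕ) := by
      have : projectiveDimension (ModuleCat.of A B) =
          projectiveDimension (ModuleCat.of A A) + rs.length := h3
      rw [this]
      calc projectiveDimension (ModuleCat.of A A) + (rs.length : WithBot ℕ∞)
          ≤ ((0 : ℕ) : WithBot ℕ∞) + (rs.length : WithBot ℕ∞) := add_le_add_left h4 _
        _ = (rs.length : WithBot ℕ∞) := by simp
    exact (projectiveDimension_le_iff _ _).mp h5
  by_contra hcon
  push Not at hcon
  have hlt : rs.length + 1 ≤ r := by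
    have : rs.length < r := by exact_mod_cast hcon
    omega
  exact hExtB (HasProjectiveDimensionLT.subsingleton (ModuleCat.of A B) (rs.length + 1) r hlt _)

theorem isCohenMacaulayLocalRing_of_isGorensteinLocalRing (A : Type u) [CommRing A]
    [IsGorensteinLocalRing A] : IsCohenMacaulayLocalRing A := by
  classical
  have hex := IsGorensteinLocalRing.exists_hasInjectiveDimensionLT (A := A)
  have hspec := Nat.find_spec hex
  have hmin := fun m (hm : m < Nat.find hex) => Nat.find_min hex hm
  have hpos : Nat.find hex ≠ 0 := by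
    intro h0
    rw [h0, hasInjectiveDimensionLT_zero_iff_isZero] at hspec
    have : Subsingleton A := ModuleCat.isZero_iff_subsingleton.mp hspec
    exact not_subsingleton A this
  obtain ⟨r, hr⟩ : ∃ r, Nat.find hex = r + 1 := ⟨Nat.find hex - 1, by omega⟩
  rw [hr] at hspec
  have hnot : ¬ HasInjectiveDimensionLT (ModuleCat.of A A) r := hmin r (by omega)
  have hdim := ringKrullDim_le_of_hasInjectiveDimensionLT r hspec
  have hdepth := le_depth_of_injectiveDimension_eq r hspec hnot
  refine { supportDim_eq_depth := ?_ }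
  apply le_antisymm
  · rw [Module.supportDim_self_eq_ringKrullDim]
    refine hdim.trans ?_
    exact_mod_cast hdepth
  · exact depth_le_supportDim

end Groth.Agent.Helper8.Goren
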