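import Mathlib
import Groth.Agent.Lib.Helper8.Goren4
import Groth.Agent.Lib.Helper8.Depth1

/-!
# Depth and the top `Ext` into a Gorenstein local ring
-/

set_option autoImplicit false
universe u

namespace Groth.Agent.Helper8.Goren

open CategoryTheory Abelian IsLocalRing Limits LocCoh Depth RingTheory.Sequence

/-- For a Gorenstein local ring the injective dimension is the Krull dimension. -/
theorem exists_injectiveDimension_eq_dim (R : Type u) [CommRing R] [IsGorensteinLocalRing R]
    (n : ℕ) (hn : ringKrullDim R = n) :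
    HasInjectiveDimensionLT (ModuleCat.of R R) (n + 1) ∧
      ¬ HasInjectiveDimensionLT (ModuleCat.of R R) n := by
  classical
  have hex := IsGorensteinLocalRing.exists_hasInjectiveDimensionLT (A := R)
  have hspec := Nat.find_spec hex
  have hmin := fun m (hm : m < Nat.find hex) => Nat.find_min hex hm
  have hpos : Nat.find hex ≠ 0 := by
    intro h0
    rw [h0, hasInjectiveDimensionLT_zero_iff_isZero] at hspec
    have : Subsingleton R := ModuleCat.isZero_iff_subsingleton.mp hspec
    exact not_subsingleton R this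
  obtain ⟨r, hr⟩ : ∃ r, Nat.find hex = r + 1 := ⟨Nat.find hex - 1, by omega⟩
  rw [hr] at hspec
  have hnot : ¬ HasInjectiveDimensionLT (ModuleCat.of R R) r := hmin r (by omega)
  have hdim := ringKrullDim_le_of_hasInjectiveDimensionLT r hspec
  have hdepth := le_depth_of_injectiveDimension_eq r hspec hnot
  have h1 : ((depth R R : ℕ∞) : WithBot ℕ∞) ≤ Module.supportDim R R := depth_le_supportDim
  rw [Module.supportDim_self_eq_ringKrullDim, hn] at h1
  rw [hn] at hdim
  have hnr : n ≤ r := by exact_mod_cast hdim
  have hrn : r ≤ n := by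
    have h2 : ((r : ℕ∞) : WithBot ℕ∞) ≤ ((n : ℕ∞) : WithBot ℕ∞) :=
      (WithBot.coe_le_coe.mpr hdepth).trans h1
    exact_mod_cast h2
  have : r = n := le_antisymm hrn hnr
  subst this
  exact ⟨hspec, hnot⟩

theorem depth_pos_iff_ext_top_subsingleton (R : Type u) [CommRing R] [IsGorensteinLocalRing R]
    (n : ℕ) (hn : ringKrullDim R = n) (M : Type u) [AddCommGroup M] [Module R M]
    [Module.Finite R M] [Nontrivial M] :
    0 < depth R M ↔ Subsingleton (Ext (ModuleCat.of R M) (ModuleCat.of R R) n) := by
  obtain ⟨hlt, hnot⟩ := exists_injectiveDimension_eq_dim R n hn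
  have htop : maximalIdeal R • (⊤ : Submodule R M) ≠ ⊤ := smul_top_ne_top_of_local R M
  constructor
  · intro hpos
    have h1 : ((1 : ℕ) : ℕ∞) ≤ depth R M := by
      have : (1 : ℕ∞) ≤ depth R M := Order.one_le_iff_pos.mpr hpos
      exact_mod_cast this
    obtain ⟨rs, hlen, hreg, hmem⟩ := (le_idealDepth_iff htop 1).mp h1
    obtain ⟨x, rfl⟩ : ∃ x, rs = [x] := List.length_eq_one_iff.mp hlen
    have hxreg : IsSMulRegular M x := by
      rw [isWeaklyRegular_singleton_iff] at hreg
      exact hreg
    have hxm : x ∈ maximalIdeal R := hmem x (by simp)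
    have hS := IsSMulRegular.smulShortComplex_shortExact (M := ModuleCat.of R M) hxreg
    refine ext_subsingleton_of_smul_surjective _ _ n x hxm fun z => ?_
    let z' : Ext (ModuleCat.smulShortComplex (ModuleCat.of R M) x).X₁ (ModuleCat.of R R) n := z
    have hz : hS.extClass.comp z' (by omega : 1 + n = n + 1) = 0 :=
      Ext.eq_zero_of_hasInjectiveDimensionLT _ (n + 1) le_rfl
    obtain ⟨w, hw⟩ := Ext.contravariant_sequence_exact₁ hS (ModuleCat.of R R) z'
      (by omega : 1 + n = n + 1) hz
    let w' : Ext (ModuleCat.of R M) (ModuleCat.of R R) n := w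
    refine ⟨w', ?_⟩
    show x • w' = z'
    rw [← hw]
    have h1 : x • w' = (Ext.mk₀ (x • 𝟙 (ModuleCat.of R M))).comp w' (zero_add n) := by
      simp [Ext.mk₀_smul]
    rw [h1]
    rfl
  · intro hsub
    by_contra hcon
    have h0 : depth R M = 0 := by
      rcases eq_or_ne (depth R M) 0 with h | h
      · exact h
      · exact absurd (pos_iff_ne_zero.mpr h) hcon
    rw [depth_eq_zero_iff] at h0
    obtain ⟨-, f, hf⟩ := (isAssociatedPrime_iff_exists_injective_linearMap (maximalIdeal R) M).mp h0
    apply ext_residueField_not_subsingleton R n hlt hnot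
    let S := ModuleCat.shortComplexOfCompEqZero f (LinearMap.range f).mkQ
      (LinearMap.exact_map_mkQ_range f).linearMap_comp_eq_zero
    have hS : S.ShortExact := ModuleCat.shortComplex_shortExact S
      (LinearMap.exact_map_mkQ_range f) hf (Submodule.mkQ_surjective _)
    refine ⟨fun x y => ?_⟩
    have key : ∀ z : Ext (ModuleCat.of R (R ⧸ maximalIdeal R)) (ModuleCat.of R R) n, z = 0 := by
      intro z
      let z' : Ext S.X₁ (ModuleCat.of R R) n := z
      have hz : hS.extClass.comp z' (by omega : 1 + n = n + 1) = 0 :=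
        Ext.eq_zero_of_hasInjectiveDimensionLT _ (n + 1) le_rfl
      obtain ⟨w, hw⟩ := Ext.contravariant_sequence_exact₁ hS (ModuleCat.of R R) z'
        (by omega : 1 + n = n + 1) hz
      have hw0 : w = 0 := by
        have : Subsingleton (Ext S.X₂ (ModuleCat.of R R) n) := hsub
        exact Subsingleton.elim _ _
      show z' = 0
      rw [← hw, hw0, Ext.comp_zero]
    rw [key x, key y]

end Groth.Agent.Helper8.Goren
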