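import Mathlib
import Groth.Prelude
import Groth.Agent.Lib.Helper8.GorArt2
import Groth.Agent.Lib.Helper8.Goren5

/-!
# Artinian local rings: Gorenstein iff the socle has length at most one
-/

set_option autoImplicit false
universe u

namespace Groth.Agent.Helper8.GorArt

open IsLocalRing CategoryTheory LocCoh

variable (R : Type u) [CommRing R] [IsLocalRing R] [IsArtinianRing R]

omit [IsLocalRing R] in
theorem isFiniteLength_of_finite (M : Type u) [AddCommGroup M] [Module R M] [Module.Finite R M] :
    IsFiniteLength R M :=
  isFiniteLength_iff_isNoetherian_isArtinian.mpr ⟨inferInstance, inferInstance⟩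

omit [IsLocalRing R] in
theorem length_self_ne_top : Module.length R R ≠ ⊤ :=
  Module.length_ne_top_iff.mpr (isFiniteLength_of_finite R R)

omit [IsArtinianRing R] in
theorem length_self_ne_zero : Module.length R R ≠ 0 := by
  rw [Ne, Module.length_eq_zero_iff]
  exact not_subsingleton R

/-- If `R` is self-injective then its socle is simple. -/
theorem length_soc_eq_one_of_injective [Module.Injective R R] :
    Module.length R (Soc R R) = 1 := by
  have h := length_hom_eq R R (isFiniteLength_of_finite R R)
  rw [(LinearMap.ringLmapEquivSelf R R R).length_eq] at h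
  obtain ⟨n, hn⟩ := ENat.ne_top_iff_exists.mp (length_self_ne_top R)
  have hn0 : n ≠ 0 := by
    rintro rfl
    exact length_self_ne_zero R hn.symm
  rw [← hn] at h
  cases ht : Module.length R (Soc R R) with
  | top =>
    rw [ht, ENat.top_mul (by exact_mod_cast hn0)] at h
    exact absurd h (ENat.natCast_ne_top n)
  | coe t =>
    rw [ht] at h
    have h' : n = t * n := by exact_mod_cast h
    have : t = 1 := by
      have h2 : 1 * n = t * n := by rw [one_mul]; exact h'
      exact (Nat.eq_of_mul_eq_mul_right (Nat.pos_of_ne_zero hn0) h2).symm
    rw [this]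
    rfl

/-- If the socle of `R` has length at most one, then `R` is self-injective (Baer's criterion by
counting lengths). -/
theorem baer_of_length_soc_le_one (h : Module.length R (Soc R R) ≤ 1) : Module.Baer R R := by
  rw [Module.Baer.iff_surjective]
  intro I
  let ρ := LinearMap.lcomp R R I.subtype
  have hle : ∀ (M : Type u) [AddCommGroup M] [Module R M], IsFiniteLength R M →
      Module.length R (M →ₗ[R] R) ≤ Module.length R M := by
    intro M _ _ hM
    refine (length_hom_le R M hM).trans ?_
    calc Module.length R (Soc R R) * Module.length R M ≤ 1 * Module.length R M :=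
          mul_le_mul_left h _
      _ = Module.length R M := one_mul _
  have hI : IsFiniteLength R I := isFiniteLength_of_finite R I
  have hQ : IsFiniteLength R (R ⧸ I) := isFiniteLength_of_finite R (R ⧸ I)
  have hex : Function.Exact (LinearMap.lcomp R R I.mkQ) ρ.rangeRestrict := by
    intro f
    rw [← exact_lcomp R I f]
    constructor
    · intro h
      exact congrArg Subtype.val h
    · intro h
      exact Subtype.ext h
  have h2 : Module.length R (R →ₗ[R] R) = Module.length R ((R ⧸ I) →ₗ[R] R) +
      Module.length R (LinearMap.range ρ) :=
    Module.length_eq_add_of_exact (LinearMap.lcomp R R I.mkQ) ρ.rangeRestrict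
    (lcomp_mkQ_injective R I) ρ.surjective_rangeRestrict hex
  rw [(LinearMap.ringLmapEquivSelf R R R).length_eq] at h2
  have h3 := Module.length_eq_add_of_exact I.subtype I.mkQ I.subtype_injective
    I.mkQ_surjective (LinearMap.exact_subtype_mkQ I)
  have h4 : Module.length R (LinearMap.range ρ) ≤ Module.length R (I →ₗ[R] R) :=
    Module.length_le_of_injective (LinearMap.range ρ).subtype (Submodule.subtype_injective _)
  have h5 := hle I hI
  have h6 := hle (R ⧸ I) hQ
  have hQne : Module.length R (R ⧸ I) ≠ ⊤ := Module.length_ne_top_iff.mpr hQ
  have hIne : Module.length R I ≠ ⊤ := Module.length_ne_top_iff.mpr hI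
  -- `ℓ(I) ≤ ℓ(range ρ)`
  have h7 : Module.length R I ≤ Module.length R (LinearMap.range ρ) := by
    have : Module.length R I + Module.length R (R ⧸ I) ≤
        Module.length R (LinearMap.range ρ) + Module.length R (R ⧸ I) := by
      rw [← h3, h2, add_comm]
      exact add_le_add_right h6 _
    exact (ENat.add_le_add_iff_right hQne).mp this
  have h8 : Module.length R (LinearMap.range ρ) = Module.length R (I →ₗ[R] R) :=
    le_antisymm h4 (h5.trans h7)
  have hfl : IsFiniteLength R (I →ₗ[R] R) := by
    rw [← Module.length_ne_top_iff]
    exact ne_top_of_le_ne_top hIne h5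
  obtain ⟨_, _⟩ := isFiniteLength_iff_isNoetherian_isArtinian.mp hfl
  have htop : LinearMap.range ρ = ⊤ := by
    by_contra hne
    exact absurd h8 (Submodule.length_lt hne).ne
  exact LinearMap.range_eq_top.mp htop

theorem ringKrullDim_eq_zero : ringKrullDim R = 0 := by
  haveI : Ring.KrullDimLE 0 R := isArtinianRing_iff_krullDimLE_zero.mp inferInstance
  exact ringKrullDimZero_iff_ringKrullDim_eq_zero.mp inferInstance

/-- An Artinian local ring is Gorenstein iff its socle has length at most one. -/
theorem isGorensteinLocalRing_iff_length_soc_le_one :
    IsGorensteinLocalRing R ↔ Module.length R (Soc R R) ≤ 1 := by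
  constructor
  · intro hG
    have h1 := (Goren.exists_injectiveDimension_eq_dim R 0
      (by rw [ringKrullDim_eq_zero R]; rfl)).1
    rw [zero_add, ← injective_iff_hasInjectiveDimensionLT_one] at h1
    haveI : Module.Injective R R := (Module.injective_iff_injective_object R R).mpr h1
    exact (length_soc_eq_one_of_injective R).le
  · intro h
    have hB := baer_of_length_soc_le_one R h
    have hinj : Module.Injective R R := hB.injective
    have h1 : Injective (ModuleCat.of R R) := (Module.injective_iff_injective_object R R).mp hinj
    exact { exists_hasInjectiveDimensionLT :=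
      ⟨1, injective_iff_hasInjectiveDimensionLT_one.mp h1⟩ }

end Groth.Agent.Helper8.GorArt
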