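import Mathlib
import Groth.Agent.Lib.Helper8.GorArt1

/-!
# Socles under a flat local homomorphism: `ℓ(Soc B) = ℓ(Soc A) · ℓ(Soc F)`
-/

set_option autoImplicit false
universe u

namespace Groth.Agent.Helper8.GorArt

open IsLocalRing TensorProduct

section PiKilled

variable {A : Type u} [CommRing A] [IsLocalRing A]

/-- A finite module killed by the maximal ideal is a finite power of the residue field. -/
theorem exists_equiv_pi_of_killed (M : Type u) [AddCommGroup M] [Module A M] [Module.Finite A M]
    (hM : ∀ r ∈ maximalIdeal A, ∀ x : M, r • x = 0) :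
    ∃ t : ℕ, Nonempty (M ≃ₗ[A] (Fin t → A ⧸ maximalIdeal A)) := by
  have htors : Module.IsTorsionBySet A M (maximalIdeal A : Set A) := by
    intro x a
    exact hM a.1 a.2 x
  letI : Module (A ⧸ maximalIdeal A) M := htors.module
  haveI : IsScalarTower A (A ⧸ maximalIdeal A) M := htors.isScalarTower
  letI : Field (A ⧸ maximalIdeal A) := Ideal.Quotient.field _
  haveI : Module.Finite (A ⧸ maximalIdeal A) M := Module.Finite.of_restrictScalars_finite A _ M
  let b := Module.finBasis (A ⧸ maximalIdeal A) M
  exact ⟨_, ⟨b.equivFun.restrictScalars A⟩⟩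

theorem soc_killed (M : Type u) [AddCommGroup M] [Module A M] :
    ∀ r ∈ maximalIdeal A, ∀ x : Soc A M, r • x = 0 := by
  intro r hr x
  ext
  exact x.2 r hr

theorem length_pi_residue (t : ℕ) :
    Module.length A (Fin t → A ⧸ maximalIdeal A) = t := by
  haveI : IsSimpleModule A (A ⧸ maximalIdeal A) :=
    isSimpleModule_iff_quot_maximal.mpr ⟨maximalIdeal A, inferInstance, ⟨LinearEquiv.refl _ _⟩⟩
  rw [Module.length_pi, Module.length_eq_one, mul_one]
  simp

end PiKilled

section SocPi

variable {B : Type u} [CommRing B] [IsLocalRing B]

/-- The socle of a finite power. -/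
noncomputable def socPi (t : ℕ) (X : Type u) [AddCommGroup X] [Module B X] :
    Soc B (Fin t → X) ≃ₗ[B] (Fin t → Soc B X) where
  toFun x i := ⟨x.1 i, by
    intro r hr
    have := congrFun (x.2 r hr) i
    simpa using this⟩
  map_add' x y := by
    ext i
    rfl
  map_smul' c x := by
    ext i
    rfl
  invFun y := ⟨fun i => (y i).1, by
    intro r hr
    ext i
    exact (y i).2 r hr⟩
  left_inv x := by
    ext i
    rfl
  right_inv y := by
    ext i
    rfl

theorem length_soc_pi (t : ℕ) (X : Type u) [AddCommGroup X] [Module B X] :
    Module.length B (Soc B (Fin t → X)) = t * Module.length B (Soc B X) := by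
  rw [(socPi t X).length_eq, Module.length_pi]
  simp

/-- The socle of a submodule containing the socle. -/
noncomputable def socSubmodule {M : Type u} [AddCommGroup M] [Module B M] (N : Submodule B M)
    (hN : Soc B M ≤ N) : Soc B N ≃ₗ[B] Soc B M where
  toFun x := ⟨x.1.1, by
    intro r hr
    have := congrArg Subtype.val (x.2 r hr)
    simpa using this⟩
  map_add' x y := by
    ext
    rfl
  map_smul' c x := by
    ext
    rfl
  invFun y := ⟨⟨y.1, hN y.2⟩, by
    intro r hr
    ext
    exact y.2 r hr⟩
  left_inv x := by
    ext
    rfl
  right_inv y := by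
    ext
    rfl

end SocPi

section Quot

variable {B F : Type u} [CommRing B] [IsLocalRing B] [CommRing F] [IsLocalRing F] [Algebra B F]

/-- For a quotient `F` of `B`, socles over `B` and over `F` have the same length. -/
theorem length_soc_of_surjective (hsurj : Function.Surjective (algebraMap B F))
    (X : Type u) [AddCommGroup X] [Module B X] [Module F X] [IsScalarTower B F X] :
    Module.length B (Soc B X) = Module.length F (Soc F X) := by
  have heq : Soc B X = (Soc F X).restrictScalars B := by
    ext x
    rw [Submodule.restrictScalars_mem, mem_soc_iff, mem_soc_iff]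
    constructor
    · intro h f hf
      obtain ⟨b, rfl⟩ := hsurj f
      have hb : b ∈ maximalIdeal B := by
        rw [mem_maximalIdeal, mem_nonunits_iff] at hf ⊢
        intro hu
        exact hf (hu.map (algebraMap B F))
      rw [algebraMap_smul]
      exact h b hb
    · intro h b hb
      have hf : algebraMap B F b ∈ maximalIdeal F := by
        rw [mem_maximalIdeal, mem_nonunits_iff] at hb ⊢
        intro hu
        haveI : IsLocalHom (algebraMap B F) := IsLocalHom.of_surjective _ hsurj
        exact hb (isUnit_of_map_unit (algebraMap B F) b hu)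
      rw [← algebraMap_smul F b x]
      exact h _ hf
  let e : ((Soc F X).restrictScalars B) ≃ₗ[B] (Soc F X) :=
    { AddEquiv.refl (Soc F X) with map_smul' := fun _ _ => rfl }
  rw [heq, e.length_eq]
  exact Module.length_eq_of_surjective hsurj

end Quot

end Groth.Agent.Helper8.GorArt
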