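import Mathlib
import Groth.Agent.Lib.Helper8.GorArt4

/-!
# Socles under a flat local homomorphism, II: the annihilator of `m_A B`
-/

set_option autoImplicit false
universe u

namespace Groth.Agent.Helper8.GorArt

open IsLocalRing TensorProduct

variable (A B : Type u) [CommRing A] [CommRing B] [IsLocalRing A] [Algebra A B]

/-- The elements of `B` killed by `m_A`. -/
def annMax : Submodule B B where
  carrier := {b | ∀ a ∈ maximalIdeal A, a • b = 0}
  add_mem' := by
    intro x y hx hy a ha
    rw [smul_add, hx a ha, hy a ha, add_zero]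
  zero_mem' := by
    intro a _
    exact smul_zero a
  smul_mem' := by
    intro c x hx a ha
    rw [smul_comm, hx a ha, smul_zero]

/-- The multiplication map `B ⊗ Soc A → B`. -/
noncomputable def socMul : B ⊗[A] (Soc A A) →ₗ[B] B :=
  (AlgebraTensorModule.rid A B B).toLinearMap ∘ₗ
    AlgebraTensorModule.lTensor B B (Soc A A).subtype

@[simp]
theorem socMul_tmul (b : B) (s : Soc A A) : socMul A B (b ⊗ₜ s) = (s : A) • b := by
  simp [socMul]

theorem socMul_injective [Module.Flat A B] : Function.Injective (socMul A B) := by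
  unfold socMul
  rw [LinearMap.coe_comp, LinearEquiv.coe_coe, EquivLike.comp_injective]
  exact Module.Flat.lTensor_preserves_injective_linearMap (M := B) (Soc A A).subtype
    (Soc A A).subtype_injective

theorem range_socMul_le : LinearMap.range (socMul A B) ≤ annMax A B := by
  rintro _ ⟨y, rfl⟩
  induction y using TensorProduct.induction_on with
  | zero => rw [map_zero]; exact (annMax A B).zero_mem
  | tmul b s =>
    intro a ha
    rw [socMul_tmul, smul_smul]
    have : a * (s : A) = 0 := s.2 a ha
    rw [this, zero_smul]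
  | add x y hx hy => rw [map_add]; exact (annMax A B).add_mem hx hy

theorem annMax_le_range [IsNoetherianRing A] [Module.Flat A B] :
    annMax A B ≤ LinearMap.range (socMul A B) := by
  intro b hb
  obtain ⟨n, g, hg⟩ := Submodule.fg_iff_exists_fin_generating_family.mp
    (IsNoetherian.noetherian (maximalIdeal A))
  let φ : A →ₗ[A] (Fin n → A) := LinearMap.pi fun i => LinearMap.lsmul A A (g i)
  have hφ : ∀ a i, φ a i = g i * a := fun a i => rfl
  have hgm : ∀ i, g i ∈ maximalIdeal A := fun i => by
    rw [← hg]
    exact Submodule.subset_span ⟨i, rfl⟩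
  have hex : Function.Exact (Soc A A).subtype φ := by
    intro a
    constructor
    · intro ha
      refine ⟨⟨a, ?_⟩, rfl⟩
      intro r hr
      rw [← hg] at hr
      refine Submodule.span_induction (p := fun r _ => r • a = 0) ?_ ?_ ?_ ?_ hr
      · rintro _ ⟨i, rfl⟩
        have := congrFun ha i
        rw [hφ] at this
        exact this
      · exact zero_smul _ _
      · intro x y _ _ hx hy
        rw [add_smul, hx, hy, add_zero]
      · intro c x _ hx
        rw [smul_assoc, hx, smul_zero]
    · rintro ⟨s, rfl⟩
      ext i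
      rw [hφ]
      exact s.2 (g i) (hgm i)
  have hex' := Module.Flat.lTensor_exact B hex
  have hz : (φ.lTensor B) (b ⊗ₜ[A] (1 : A)) = 0 := by
    rw [LinearMap.lTensor_tmul]
    have h1 : φ 1 = ∑ i, g i • (Pi.single i (1 : A) : Fin n → A) := by
      ext j
      rw [hφ, mul_one, Finset.sum_apply]
      simp [Pi.single_apply]
    rw [h1, TensorProduct.tmul_sum]
    refine Finset.sum_eq_zero fun i _ => ?_
    rw [TensorProduct.tmul_smul, TensorProduct.smul_tmul', hb (g i) (hgm i),
      TensorProduct.zero_tmul]
  have h2 : ∀ y, socMul A B y =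
      (AlgebraTensorModule.rid A B B) (((Soc A A).subtype.lTensor B) y) := by
    intro y
    induction y using TensorProduct.induction_on with
    | zero => simp
    | tmul b s => simp
    | add x y hx hy => simp only [map_add, hx, hy]
  obtain ⟨y, hy⟩ := (hex' (b ⊗ₜ[A] (1 : A))).mp hz
  refine ⟨y, ?_⟩
  rw [h2, hy]
  simp

/-- `B ⊗ Soc A ≃ ann_B(m_A B)`. -/
noncomputable def tensorSocEquiv [IsNoetherianRing A] [Module.Flat A B] :
    B ⊗[A] (Soc A A) ≃ₗ[B] annMax A B :=
  (LinearEquiv.ofInjective (socMul A B) (socMul_injective A B)).trans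
    (LinearEquiv.ofEq _ _ (le_antisymm (range_socMul_le A B) (annMax_le_range A B)))

variable [IsLocalRing B] [IsLocalHom (algebraMap A B)]

theorem soc_le_annMax : Soc B B ≤ annMax A B := by
  intro b hb a ha
  rw [Algebra.smul_def]
  refine hb _ ?_
  rw [mem_maximalIdeal, mem_nonunits_iff] at ha ⊢
  intro hu
  exact ha (isUnit_of_map_unit (algebraMap A B) a hu)

/-- The socle of `B` has length `ℓ(Soc A) · ℓ(Soc F)`, `F` the closed fibre. -/
theorem length_soc_eq_mul [IsNoetherianRing A] [Module.Flat A B] (F : Type u) [CommRing F]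
    [IsLocalRing F] [Algebra B F] (hsurj : Function.Surjective (algebraMap B F))
    (hker : RingHom.ker (algebraMap B F) = (maximalIdeal A).map (algebraMap A B)) :
    Module.length B (Soc B B) = Module.length A (Soc A A) * Module.length F (Soc F F) := by
  obtain ⟨t, ⟨e⟩⟩ := exists_equiv_pi_of_killed (Soc A A) (soc_killed A)
  have hA : Module.length A (Soc A A) = t := by
    rw [e.length_eq, length_pi_residue]
  -- `B ⊗ (A/m) ≃ F`
  let eF : B ⊗[A] (A ⧸ maximalIdeal A) ≃ₗ[B] F :=
    (Algebra.TensorProduct.quotIdealMapEquivTensorQuot B (maximalIdeal A)).symm.toLinearEquiv.trans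
      ((Ideal.quotientEquivAlgOfEq B hker.symm).toLinearEquiv.trans
        (Ideal.quotientKerAlgEquivOfSurjective (f := Algebra.ofId B F) hsurj).toLinearEquiv)
  let e1 : annMax A B ≃ₗ[B] (Fin t → F) :=
    (tensorSocEquiv A B).symm.trans
      ((AlgebraTensorModule.congr (LinearEquiv.refl B B) e).trans
        ((TensorProduct.piRight A B B (fun _ : Fin t => A ⧸ maximalIdeal A)).trans
          (LinearEquiv.piCongrRight fun _ => eF)))
  rw [← (socSubmodule (annMax A B) (soc_le_annMax A B)).length_eq, (socCongr e1).length_eq,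
    length_soc_pi, length_soc_of_surjective hsurj F, hA]

end Groth.Agent.Helper8.GorArt
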