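import Mathlib
import Groth.Prelude
import Groth.Agent.Lib.Helper8.GorArt3
import Groth.Agent.Lib.Helper8.GorArt5

/-!
# Flat local homomorphisms of Artinian local rings and the Gorenstein property
-/

set_option autoImplicit false
universe u

namespace Groth.Agent.Helper8.GorArt

open IsLocalRing LocCoh

/-- The socle of an Artinian local ring is nonzero. -/
theorem one_le_length_soc (R : Type u) [CommRing R] [IsLocalRing R] [IsArtinianRing R] :
    1 ≤ Module.length R (Soc R R) := by
  rw [Order.one_le_iff_pos, Module.length_pos_iff]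
  obtain ⟨S, hS⟩ := IsAtomic.exists_atom (Submodule R R)
  have hsimple : IsSimpleModule R S := isSimpleModule_iff_isAtom.mpr hS
  obtain ⟨I, hI, ⟨e⟩⟩ := isSimpleModule_iff_quot_maximal.mp hsimple
  obtain rfl := eq_maximalIdeal hI
  have hle : S ≤ Soc R R := by
    intro x hx r hr
    have h1 : e (r • (⟨x, hx⟩ : S)) = 0 := by
      rw [map_smul]
      obtain ⟨y, hy⟩ := Submodule.Quotient.mk_surjective _ (e ⟨x, hx⟩)
      rw [← hy, ← Submodule.Quotient.mk_smul, Submodule.Quotient.mk_eq_zero]
      exact Ideal.mul_mem_right _ _ hr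
    have h2 : r • (⟨x, hx⟩ : S) = 0 := e.injective (by rw [h1, map_zero])
    exact congrArg Subtype.val h2
  obtain ⟨x, hx, hx0⟩ := S.exists_mem_ne_zero_of_ne_bot hS.1
  exact ⟨⟨⟨x, hle hx⟩, 0, fun h => hx0 (congrArg Subtype.val h)⟩⟩

theorem mul_le_one_iff {a b : ℕ∞} (ha : 1 ≤ a) (hb : 1 ≤ b) : a * b ≤ 1 ↔ a ≤ 1 ∧ b ≤ 1 := by
  constructor
  · intro h
    constructor
    · calc a = a * 1 := (mul_one a).symm
        _ ≤ a * b := mul_le_mul_right hb a
        _ ≤ 1 := h
    · calc b = 1 * b := (one_mul b).symm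
        _ ≤ a * b := mul_le_mul_left ha b
        _ ≤ 1 := h
  · rintro ⟨h1, h2⟩
    calc a * b ≤ 1 * 1 := mul_le_mul' h1 h2
      _ = 1 := one_mul 1

/-- The Artinian case of the theorem on flat local homomorphisms. -/
theorem isGorensteinLocalRing_iff_of_isArtinianRing (A B F : Type u) [CommRing A] [CommRing B]
    [CommRing F] [IsLocalRing A] [IsLocalRing B] [IsLocalRing F] [IsArtinianRing A]
    [IsArtinianRing B] [IsArtinianRing F] [Algebra A B] [IsLocalHom (algebraMap A B)]
    [Module.Flat A B] [Algebra B F] (hsurj : Function.Surjective (algebraMap B F))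
    (hker : RingHom.ker (algebraMap B F) = (maximalIdeal A).map (algebraMap A B)) :
    IsGorensteinLocalRing B ↔ IsGorensteinLocalRing A ∧ IsGorensteinLocalRing F := by
  rw [isGorensteinLocalRing_iff_length_soc_le_one, isGorensteinLocalRing_iff_length_soc_le_one,
    isGorensteinLocalRing_iff_length_soc_le_one, length_soc_eq_mul A B F hsurj hker]
  exact mul_le_one_iff (one_le_length_soc A) (one_le_length_soc F)

end Groth.Agent.Helper8.GorArt
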