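import Mathlib
import Groth.Agent.Lib.Helper1.LocalCrit
import Groth.Agent.Lib.Helper8.FlatReg1

/-!
# Flatness and regular sequences, II: regularity on the fibre
-/

set_option autoImplicit false
universe u v

namespace Groth.Agent.Helper8.FlatReg

open RingTheory.Sequence Pointwise IsLocalRing

section Swap
variable {B : Type*} [CommRing B] (M : Type*) [AddCommGroup M] [Module B M]

/-- `(M/fM)/I(M/fM) ≃ (M/IM)/f(M/IM)`. -/
noncomputable def quotSwap (f : B) (I : Ideal B) :
    (QuotSMulTop f M ⧸ (I • (⊤ : Submodule B (QuotSMulTop f M)))) ≃ₗ[B]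
      QuotSMulTop f (M ⧸ (I • (⊤ : Submodule B M))) :=
  Submodule.quotEquivOfEq _ ((I • (⊤ : Submodule B M)).map (f • (⊤ : Submodule B M)).mkQ)
      (by rw [Submodule.map_smul'', Submodule.map_top, Submodule.range_mkQ]) ≪≫ₗ
    Submodule.quotientQuotientEquivQuotientSup (f • (⊤ : Submodule B M)) (I • ⊤) ≪≫ₗ
    Submodule.quotEquivOfEq _ _ (sup_comm _ _) ≪≫ₗ
    (Submodule.quotientQuotientEquivQuotientSup (I • (⊤ : Submodule B M)) (f • ⊤)).symm ≪≫ₗ
    Submodule.quotEquivOfEq ((f • (⊤ : Submodule B M)).map (I • (⊤ : Submodule B M)).mkQ) _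
      (by rw [Submodule.map_pointwise_smul, Submodule.map_top, Submodule.range_mkQ])

end Swap

section Step
variable {A : Type*} {B : Type*} [CommRing A] [CommRing B] [Algebra A B] [IsLocalRing A]
  [IsNoetherianRing B] [IsLocalRing B] [IsLocalHom (algebraMap A B)]
  (M : Type*) [AddCommGroup M] [Module B M] [Module A M] [IsScalarTower A B M]
  [Module.Finite B M] [Module.Flat A M]

theorem isSMulRegular_and_flat_of_fibre (f : B)
    (hf : IsSMulRegular
      (M ⧸ ((maximalIdeal A).map (algebraMap A B) • (⊤ : Submodule B M))) f) :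
    IsSMulRegular M f ∧ Module.Flat A (QuotSMulTop f M) := by
  let u : M →ₗ[A] M := (LinearMap.lsmul B M f).restrictScalars A
  have hu : ∀ x, u x = f • x := fun x => rfl
  let N' : Submodule B M := (maximalIdeal A).map (algebraMap A B) • ⊤
  have hN' : N'.restrictScalars A = maximalIdeal A • (⊤ : Submodule A M) := by
    rw [Ideal.smul_restrictScalars, Submodule.restrictScalars_top]
  have h : Function.Injective (u.lTensor (ResidueField A)) := by
    rw [Groth.Agent.Helper1.LocalCrit.lTensor_residueField_injective_iff]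
    intro x hx
    rw [← hN'] at hx ⊢
    have hx' : f • x ∈ N' := hx
    have h0 : f • (Submodule.Quotient.mk x : M ⧸ N') = f • (0 : M ⧸ N') := by
      rw [smul_zero, ← Submodule.Quotient.mk_smul, Submodule.Quotient.mk_eq_zero]
      exact hx'
    have h1 := hf h0
    exact (Submodule.Quotient.mk_eq_zero N').mp h1
  have hinj := Groth.Agent.Helper1.LocalCrit.injective_of_lTensor_residueField_injective
    (S := B) u h
  refine ⟨fun a b hab => hinj hab, ?_⟩
  have hflat := Groth.Agent.Helper1.LocalCrit.flat_quotient_range_of_lTensor_residueField_injective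
    (S := B) u h
  have hrange : LinearMap.range u = (f • (⊤ : Submodule B M)).restrictScalars A := by
    ext y
    rw [LinearMap.mem_range, Submodule.restrictScalars_mem,
      Submodule.mem_smul_pointwise_iff_exists]
    constructor
    · rintro ⟨x, rfl⟩
      exact ⟨x, Submodule.mem_top, rfl⟩
    · rintro ⟨x, -, rfl⟩
      exact ⟨x, rfl⟩
  exact Module.Flat.of_linearEquiv
    ((Submodule.Quotient.restrictScalarsEquiv A (f • (⊤ : Submodule B M))).symm ≪≫ₗ
      (Submodule.quotEquivOfEq _ _ hrange).symm)

end Step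

section Main
variable {A : Type*} {B : Type u} [CommRing A] [CommRing B] [Algebra A B] [IsLocalRing A]
  [IsNoetherianRing B] [IsLocalRing B] [IsLocalHom (algebraMap A B)]

theorem isWeaklyRegular_and_flat_of_fibre (fs : List B) :
    ∀ (M : Type v) [AddCommGroup M] [Module B M] [Module A M] [IsScalarTower A B M]
      [Module.Finite B M] [Module.Flat A M]
      (_ : IsWeaklyRegular
        (M ⧸ ((maximalIdeal A).map (algebraMap A B) • (⊤ : Submodule B M))) fs),
      IsWeaklyRegular M fs ∧
        ∀ i ≤ fs.length, Module.Flat A (M ⧸ (Ideal.ofList (fs.take i) • (⊤ : Submodule B M))) := by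
  induction fs with
  | nil =>
    intro M _ _ _ _ _ _ _
    refine ⟨IsWeaklyRegular.nil B M, fun i _ => ?_⟩
    have h0 : (Ideal.ofList (([] : List B).take i) • (⊤ : Submodule B M)) = ⊥ := by
      rw [List.take_nil, Ideal.ofList_nil, Submodule.bot_smul]
    exact flat_of_linearEquiv (A := A) (Submodule.quotEquivOfEqBot _ h0)
  | cons f rs ih =>
    intro M _ _ _ _ _ _ hreg
    rw [isWeaklyRegular_cons_iff] at hreg
    obtain ⟨hfM, hflat⟩ := isSMulRegular_and_flat_of_fibre (A := A) M f hreg.1
    have hreg' : IsWeaklyRegular (QuotSMulTop f M ⧸ ((maximalIdeal A).map (algebraMap A B) •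
        (⊤ : Submodule B (QuotSMulTop f M)))) rs :=
      (LinearEquiv.isWeaklyRegular_congr (quotSwap M f _) rs).mpr hreg.2
    obtain ⟨h1, h2⟩ := ih (QuotSMulTop f M) hreg'
    refine ⟨(isWeaklyRegular_cons_iff M f rs).mpr ⟨hfM, h1⟩, fun i hi => ?_⟩
    cases i with
    | zero =>
      have h0 : (Ideal.ofList ((f :: rs).take 0) • (⊤ : Submodule B M)) = ⊥ := by
        rw [List.take_zero, Ideal.ofList_nil, Submodule.bot_smul]
      exact flat_of_linearEquiv (A := A) (Submodule.quotEquivOfEqBot _ h0)
    | succ j =>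
      rw [List.take_succ_cons]
      have hj : j ≤ rs.length := by simpa using hi
      have := h2 j hj
      exact flat_of_linearEquiv (A := A)
        (Submodule.quotOfListConsSMulTopEquivQuotSMulTopInner M f (rs.take j))

end Main

end Groth.Agent.Helper8.FlatReg
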