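import Groth.Agent.Lib.Helper8.LD18

/-!
# The annihilator theorem for local cohomology over a quotient of a Gorenstein local ring
-/

set_option autoImplicit false
universe u

namespace Groth.Agent.Helper8.LD

open CategoryTheory Abelian IsLocalRing LocCoh localCohomology InjHull
open Groth.Agent.Helper8.LC

section Transfer

variable {R' R : Type u} [CommRing R'] [CommRing R] [Algebra R' R]
  (hg : Function.Surjective (algebraMap R' R))

include hg in
lemma ringKrullDim_quotient_comap (p : Ideal R) :
    ringKrullDim (R' ⧸ p.comap (algebraMap R' R)) = ringKrullDim (R ⧸ p) := by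
  let f : R' →+* R ⧸ p := (Ideal.Quotient.mk p).comp (algebraMap R' R)
  have hf : Function.Surjective f := Ideal.Quotient.mk_surjective.comp hg
  have hker : RingHom.ker f = p.comap (algebraMap R' R) := by
    ext x
    rw [RingHom.mem_ker, Ideal.mem_comap]
    exact Ideal.Quotient.eq_zero_iff_mem
  rw [← hker]
  exact ringKrullDim_eq_of_ringEquiv (RingHom.quotientKerEquivOfSurjective hf)

include hg in
lemma map_maximalIdeal_of_surjective [IsLocalRing R'] [IsLocalRing R] :
    (maximalIdeal R').map (algebraMap R' R) = maximalIdeal R := by
  haveI : IsLocalHom (algebraMap R' R) := IsLocalHom.of_surjective _ hg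
  apply le_antisymm
  · rw [Ideal.map_le_iff_le_comap]
    intro x hx
    rw [Ideal.mem_comap, mem_maximalIdeal, mem_nonunits_iff]
    intro hu
    exact (mem_nonunits_iff.mp ((mem_maximalIdeal x).mp hx)) (isUnit_of_map_unit _ x hu)
  · intro y hy
    obtain ⟨x, rfl⟩ := hg y
    apply Ideal.mem_map_of_mem
    rw [mem_maximalIdeal, mem_nonunits_iff]
    intro hu
    exact (mem_nonunits_iff.mp ((mem_maximalIdeal _).mp hy)) (hu.map _)

variable [IsNoetherianRing R'] [IsNoetherianRing R] [IsLocalRing R'] [IsLocalRing R]
  (M : Type u) [AddCommGroup M] [Module R M] [Module R' M] [IsScalarTower R' R M]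

include hg in
/-- the annihilator over `R'` is the preimage of the annihilator over `R`. -/
lemma annihilator_H_comap (i : ℕ) :
    Module.annihilator R' (H (maximalIdeal R') i M) =
      (Module.annihilator R (H (maximalIdeal R) i M)).comap (algebraMap R' R) := by
  have key := exists_semilinear_equiv (R := R') (R' := R) (maximalIdeal R') i M
  rw [map_maximalIdeal_of_surjective hg] at key
  obtain ⟨φ, hφ⟩ := key
  ext r
  rw [Ideal.mem_comap, Module.mem_annihilator, Module.mem_annihilator]
  constructor
  · intro h x
    apply φ.injective
    rw [hφ, h, map_zero]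
  · intro h y
    obtain ⟨x, rfl⟩ := φ.surjective y
    rw [← hφ, h, map_zero]

end Transfer

section Congr

lemma subsingleton_H_congr {A : Type u} [CommRing A] (M : Type u) [AddCommGroup M] [Module A M]
    (q q' : Ideal A) [hq : q.IsPrime] [hq' : q'.IsPrime] (h : q = q') (j : ℕ) :
    Subsingleton (H (maximalIdeal (Localization.AtPrime q)) j (LocalizedModule q.primeCompl M)) ↔
      Subsingleton (H (maximalIdeal (Localization.AtPrime q')) j
        (LocalizedModule q'.primeCompl M)) := by
  subst h
  exact Iff.rfl

lemma subsingleton_H_of_subsingleton {A : Type u} [CommRing A] [IsNoetherianRing A] (I : Ideal A) (j : ℕ)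
    (N : Type u) [AddCommGroup N] [Module A N] [Subsingleton N] : Subsingleton (H I j N) := by
  apply subsingleton_of_supportDim_lt
  rw [Module.supportDim_eq_bot_of_subsingleton]
  exact WithBot.bot_lt_coe _

end Congr

section Main

variable {R' R : Type u} [CommRing R'] [CommRing R] [Algebra R' R]
  (hg : Function.Surjective (algebraMap R' R)) [IsGorensteinLocalRing R'] [IsNoetherianRing R]
  [IsLocalRing R] (M : Type u) [AddCommGroup M] [Module R M] [Module R' M]
  [IsScalarTower R' R M] [Module.Finite R M]

include hg in
/-- **Annihilator theorem** for a quotient of a Gorenstein local ring (algebra form). -/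
theorem le_radical_annihilator_H_iff_algebra (J : Ideal R) (i : ℕ) :
    J ≤ (Module.annihilator R (H (maximalIdeal R) i M)).radical ↔
      ∀ (p : Ideal R) [p.IsPrime], ¬ J ≤ p →
        ∀ j : ℕ, (j : WithBot ℕ∞) + ringKrullDim (R ⧸ p) = i →
          Subsingleton (H (maximalIdeal (Localization.AtPrime p)) j
            (LocalizedModule p.primeCompl M)) := by
  haveI : Module.Finite R' R := Module.Finite.of_surjective (Algebra.linearMap R' R) hg
  haveI : Module.Finite R' M := Module.Finite.trans R M
  have hA := annihilator_H_comap hg M i
  have h1 : J ≤ (Module.annihilator R (H (maximalIdeal R) i M)).radical ↔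
      J.comap (algebraMap R' R) ≤
        (Module.annihilator R' (H (maximalIdeal R') i M)).radical := by
    rw [hA, ← Ideal.comap_radical, Ideal.comap_le_comap_iff_of_surjective _ hg]
  rw [h1, le_radical_annihilator_H_iff_of_gorenstein R' M]
  constructor
  · intro h p hp hJp j hj
    rw [subsingleton_H_localizedModule_iff hg p M j]
    apply h (p.comap (algebraMap R' R))
    · intro hle
      exact hJp ((Ideal.comap_le_comap_iff_of_surjective _ hg _ _).mp hle)
    · rw [ringKrullDim_quotient_comap hg p]
      exact hj
  · intro h p' hp' hJp' j hj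
    by_cases hker : RingHom.ker (algebraMap R' R) ≤ p'
    · haveI : (p'.map (algebraMap R' R)).IsPrime := Ideal.map_isPrime_of_surjective hg hker
      have hcm : (p'.map (algebraMap R' R)).comap (algebraMap R' R) = p' := by
        rw [Ideal.comap_map_of_surjective _ hg]
        exact sup_eq_left.mpr hker
      have h2 := h (p'.map (algebraMap R' R)) (by
        intro hle
        apply hJp'
        rw [← hcm]
        exact Ideal.comap_mono hle) j (by
        rw [← ringKrullDim_quotient_comap hg, hcm]
        exact hj)
      rw [subsingleton_H_localizedModule_iff hg _ M j] at h2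
      exact (subsingleton_H_congr M _ p' hcm j).mp h2
    · obtain ⟨a, hak, hap⟩ := SetLike.not_le_iff_exists.mp hker
      haveI : Subsingleton (LocalizedModule p'.primeCompl M) := by
        rw [LocalizedModule.subsingleton_iff]
        intro m
        refine ⟨a, hap, ?_⟩
        rw [← algebraMap_smul R a m, (RingHom.mem_ker).mp hak, zero_smul]
      exact subsingleton_H_of_subsingleton _ j _

end Main

/-- **Annihilator theorem** for a quotient of a Gorenstein local ring. -/
theorem le_radical_annihilator_H_iff (R : Type u) [CommRing R] [IsNoetherianRing R]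
    [IsLocalRing R] (R' : Type u) [CommRing R'] [IsGorensteinLocalRing R'] (g : R' →+* R)
    (hg : Function.Surjective g) (M : Type u) [AddCommGroup M] [Module R M] [Module.Finite R M]
    (J : Ideal R) (i : ℕ) :
    J ≤ (Module.annihilator R (H (maximalIdeal R) i M)).radical ↔
      ∀ (p : Ideal R) [p.IsPrime], ¬ J ≤ p →
        ∀ j : ℕ, (j : WithBot ℕ∞) + ringKrullDim (R ⧸ p) = i →
          Subsingleton (H (maximalIdeal (Localization.AtPrime p)) j
            (LocalizedModule p.primeCompl M)) := by
  letI : Algebra R' R := g.toAlgebra
  letI : Module R' M := Module.compHom M g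
  haveI : IsScalarTower R' R M := IsScalarTower.of_algebraMap_smul (fun r x => rfl)
  exact le_radical_annihilator_H_iff_algebra (R' := R') hg M J i

end Groth.Agent.Helper8.LD
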