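import Mathlib
import Groth.Prelude
import Groth.Agent.Lib.Helper8.FlatReg2
import Groth.Agent.Lib.Helper8.LD19

/-!
# Flat local homomorphisms with a chosen closed fibre: cutting down by regular elements
-/

set_option autoImplicit false
universe u

namespace Groth.Agent.Helper8.GorFlat

open IsLocalRing

/-- A flat local homomorphism `φ : A → B` together with a presentation `γ : B → F` of its closed
fibre. -/
structure FLData {A B F : Type u} [CommRing A] [CommRing B] [CommRing F] [IsLocalRing A]
    (φ : A →+* B) (γ : B →+* F) : Prop where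
  flat : φ.Flat
  isLocalHom : IsLocalHom φ
  surj : Function.Surjective γ
  ker : RingHom.ker γ = (maximalIdeal A).map φ

theorem isLocalRing_quot {R : Type u} [CommRing R] [IsLocalRing R] (I : Ideal R)
    (hI : I ≤ maximalIdeal R) : IsLocalRing (R ⧸ I) := by
  haveI : Nontrivial (R ⧸ I) := Ideal.Quotient.nontrivial_iff.mpr (by
    rintro rfl
    exact (maximalIdeal.isMaximal R).ne_top (top_le_iff.mp hI))
  exact IsLocalRing.of_surjective' (Ideal.Quotient.mk I) Ideal.Quotient.mk_surjective

theorem span_singleton_le_maximalIdeal {R : Type u} [CommRing R] [IsLocalRing R] {x : R}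
    (hx : x ∈ maximalIdeal R) : Ideal.span {x} ≤ maximalIdeal R :=
  (Ideal.span_singleton_le_iff_mem _).mpr hx

theorem isLocalHom_mk {R : Type u} [CommRing R] [IsLocalRing R] (I : Ideal R)
    (hI : I ≤ maximalIdeal R) : IsLocalHom (Ideal.Quotient.mk I) := by
  haveI := isLocalRing_quot I hI
  exact IsLocalHom.of_surjective _ Ideal.Quotient.mk_surjective

theorem maximalIdeal_quot {R : Type u} [CommRing R] [IsLocalRing R] (I : Ideal R)
    [IsLocalRing (R ⧸ I)] : (maximalIdeal R).map (Ideal.Quotient.mk I) = maximalIdeal (R ⧸ I) :=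
  Groth.Agent.Helper8.LD.map_maximalIdeal_of_surjective (R' := R) (R := R ⧸ I)
    Ideal.Quotient.mk_surjective

variable {A B F : Type u} [CommRing A] [CommRing B] [CommRing F] [IsLocalRing A] [IsLocalRing B]
  [IsLocalRing F] {φ : A →+* B} {γ : B →+* F}

namespace FLData

theorem map_le (D : FLData φ γ) : (maximalIdeal A).map φ ≤ maximalIdeal B := by
  haveI := D.isLocalHom
  rw [Ideal.map_le_iff_le_comap]
  intro x hx
  rw [Ideal.mem_comap, mem_maximalIdeal, mem_nonunits_iff]
  intro hu
  exact (mem_nonunits_iff.mp ((mem_maximalIdeal x).mp hx)) (isUnit_of_map_unit φ x hu)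

theorem mem_maximalIdeal_of_map (D : FLData φ γ) {y : B} (h : γ y ∈ maximalIdeal F) :
    y ∈ maximalIdeal B := by
  rw [mem_maximalIdeal, mem_nonunits_iff] at h ⊢
  intro hu
  exact h (hu.map γ)

theorem map_mem_maximalIdeal (D : FLData φ γ) {y : B} (h : y ∈ maximalIdeal B) :
    γ y ∈ maximalIdeal F := by
  haveI : IsLocalHom γ := IsLocalHom.of_surjective γ D.surj
  rw [mem_maximalIdeal, mem_nonunits_iff] at h ⊢
  intro hu
  exact h (isUnit_of_map_unit γ y hu)

end FLData

section StepBase

/-- The quotient maps in the step along the base. -/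
noncomputable def baseMap (φ : A →+* B) (x : A) :
    A ⧸ Ideal.span {x} →+* B ⧸ (Ideal.span {x}).map φ :=
  Ideal.quotientMap _ φ Ideal.le_comap_map

theorem baseFibre_aux (D : FLData φ γ) (x : A) (hx : x ∈ maximalIdeal A) :
    ∀ b ∈ (Ideal.span {x}).map φ, γ b = 0 := by
  intro b hb
  rw [← RingHom.mem_ker, D.ker]
  exact Ideal.map_mono (span_singleton_le_maximalIdeal hx) hb

noncomputable def baseFibre (D : FLData φ γ) (x : A) (hx : x ∈ maximalIdeal A) :
    B ⧸ (Ideal.span {x}).map φ →+* F :=
  Ideal.Quotient.lift _ γ (baseFibre_aux D x hx)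

theorem map_span_le (D : FLData φ γ) (x : A) (hx : x ∈ maximalIdeal A) :
    (Ideal.span {x}).map φ ≤ maximalIdeal B :=
  (Ideal.map_mono (span_singleton_le_maximalIdeal hx)).trans D.map_le

theorem flData_base (D : FLData φ γ) (x : A) (hx : x ∈ maximalIdeal A)
    [IsLocalRing (A ⧸ Ideal.span {x})] :
    FLData (baseMap φ x) (baseFibre D x hx) := by
  haveI := isLocalRing_quot _ (map_span_le D x hx)
  refine ⟨?_, ?_, ?_, ?_⟩
  · letI : Algebra A B := φ.toAlgebra
    haveI : Module.Flat A B := D.flat
    have h1 : Module.Flat (A ⧸ Ideal.span {x}) (B ⧸ (Ideal.span {x}).map (algebraMap A B)) :=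
      Module.Flat.of_linearEquiv
        (Algebra.TensorProduct.quotIdealMapEquivQuotTensor B (Ideal.span {x})).toLinearEquiv
    have h2 : (algebraMap (A ⧸ Ideal.span {x})
        (B ⧸ (Ideal.span {x}).map (algebraMap A B))).Flat := RingHom.flat_algebraMap_iff.mpr h1
    exact h2
  · haveI := D.isLocalHom
    haveI := isLocalHom_mk _ (map_span_le D x hx)
    constructor
    intro a ha
    obtain ⟨a, rfl⟩ := Ideal.Quotient.mk_surjective a
    have h1 : IsUnit (Ideal.Quotient.mk ((Ideal.span {x}).map φ) (φ a)) := ha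
    have h2 : IsUnit (φ a) := isUnit_of_map_unit _ _ h1
    exact (isUnit_of_map_unit φ a h2).map _
  · exact Ideal.Quotient.lift_surjective_of_surjective _ _ D.surj
  · have h1 : RingHom.ker (baseFibre D x hx) =
        (RingHom.ker γ).map (Ideal.Quotient.mk ((Ideal.span {x}).map φ)) :=
      Ideal.ker_quotient_lift γ (fun b hb => RingHom.mem_ker.mpr (baseFibre_aux D x hx b hb))
    rw [h1, D.ker, Ideal.map_map, ← maximalIdeal_quot (Ideal.span {x}), Ideal.map_map]
    congr 1

theorem map_mem_maximalIdeal_base (D : FLData φ γ) {x : A} (hx : x ∈ maximalIdeal A) :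
    φ x ∈ maximalIdeal B :=
  D.map_le (Ideal.mem_map_of_mem φ hx)

theorem isSMulRegular_map (D : FLData φ γ) {x : A} (hx : IsSMulRegular A x) :
    IsSMulRegular B (φ x) := by
  letI : Algebra A B := φ.toAlgebra
  haveI : Module.Flat A B := D.flat
  exact hx.of_flat (S := B)

end StepBase

end Groth.Agent.Helper8.GorFlat
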