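import Mathlib
import Groth.Prelude
import Groth.Agent.Lib.Helper8.GorFlat1

/-!
# Cutting down the closed fibre by a regular element
-/

set_option autoImplicit false
universe u

namespace Groth.Agent.Helper8.GorFlat

open IsLocalRing Pointwise

variable {A B F : Type u} [CommRing A] [CommRing B] [CommRing F] [IsLocalRing A] [IsLocalRing B]
  [IsLocalRing F] {φ : A →+* B} {γ : B →+* F}

/-- The structure map to the quotient of `B`. -/
noncomputable def fibreBase (φ : A →+* B) (y : B) : A →+* B ⧸ Ideal.span {y} :=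
  (Ideal.Quotient.mk (Ideal.span {y})).comp φ

/-- The presentation of the new closed fibre. -/
noncomputable def fibreMap (γ : B →+* F) (y : B) :
    B ⧸ Ideal.span {y} →+* F ⧸ Ideal.span {γ y} :=
  Ideal.quotientMap _ γ (by
    rw [Ideal.span_singleton_le_iff_mem, Ideal.mem_comap]
    exact Ideal.mem_span_singleton_self _)

theorem ker_fibreMap (D : FLData φ γ) (y : B) :
    RingHom.ker (fibreMap γ y) = (RingHom.ker γ).map (Ideal.Quotient.mk (Ideal.span {y})) := by
  apply le_antisymm
  · intro z hz
    obtain ⟨b, rfl⟩ := Ideal.Quotient.mk_surjective z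
    rw [RingHom.mem_ker] at hz
    have h1 : Ideal.Quotient.mk (Ideal.span {γ y}) (γ b) = 0 := hz
    rw [Ideal.Quotient.eq_zero_iff_mem, Ideal.mem_span_singleton'] at h1
    obtain ⟨c', hc'⟩ := h1
    obtain ⟨c, rfl⟩ := D.surj c'
    have h2 : b - c * y ∈ RingHom.ker γ := by
      rw [RingHom.mem_ker, map_sub, map_mul, hc', sub_self]
    have h3 : Ideal.Quotient.mk (Ideal.span {y}) b = Ideal.Quotient.mk (Ideal.span {y}) (b - c * y) := by
      rw [map_sub, map_mul]
      have : Ideal.Quotient.mk (Ideal.span {y}) y = 0 :=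
        Ideal.Quotient.eq_zero_iff_mem.mpr (Ideal.mem_span_singleton_self y)
      rw [this, mul_zero, sub_zero]
    rw [h3]
    exact Ideal.mem_map_of_mem _ h2
  · rw [Ideal.map_le_iff_le_comap]
    intro b hb
    rw [Ideal.mem_comap, RingHom.mem_ker]
    have h1 : fibreMap γ y (Ideal.Quotient.mk _ b) = Ideal.Quotient.mk _ (γ b) := rfl
    rw [h1, RingHom.mem_ker.mp hb, map_zero]

section Regular

variable [IsNoetherianRing B]

/-- A lift of a fibre-regular element is regular, and the quotient stays flat. -/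
theorem isSMulRegular_and_flat (D : FLData φ γ) (y : B) (hy : IsSMulRegular F (γ y)) :
    IsSMulRegular B y ∧ (fibreBase φ y).Flat := by
  letI : Algebra A B := φ.toAlgebra
  haveI : Module.Flat A B := D.flat
  haveI : IsLocalHom (algebraMap A B) := D.isLocalHom
  have hker : RingHom.ker γ = (maximalIdeal A).map (algebraMap A B) := D.ker
  have hreg : IsSMulRegular
      (B ⧸ ((maximalIdeal A).map (algebraMap A B) • (⊤ : Submodule B B))) y := by
    rw [isSMulRegular_iff_right_eq_zero_of_smul]
    intro z hz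
    obtain ⟨b, rfl⟩ := Submodule.Quotient.mk_surjective _ z
    rw [← Submodule.Quotient.mk_smul, Submodule.Quotient.mk_eq_zero, smul_eq_mul,
      Ideal.mul_top, ← hker, RingHom.mem_ker, smul_eq_mul, map_mul] at hz
    rw [Submodule.Quotient.mk_eq_zero, smul_eq_mul, Ideal.mul_top, ← hker, RingHom.mem_ker]
    exact (isSMulRegular_iff_right_eq_zero_of_smul.mp hy) _ hz
  obtain ⟨h1, h2⟩ := FlatReg.isSMulRegular_and_flat_of_fibre (A := A) (B := B) B y hreg
  refine ⟨h1, ?_⟩
  -- transfer flatness to `B ⧸ span {y}`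
  have h3 : Module.Flat A (B ⧸ Ideal.span {y}) := by
    have hle : (y • (⊤ : Submodule B B)) = (Ideal.span {y} : Submodule B B) := by
      rw [← Submodule.ideal_span_singleton_smul, smul_eq_mul, Ideal.mul_top]
    exact Module.Flat.of_linearEquiv
      ((Submodule.quotEquivOfEq _ _ hle).restrictScalars A).symm
  have h4 : (algebraMap A (B ⧸ Ideal.span {y})).Flat := RingHom.flat_algebraMap_iff.mpr h3
  exact h4

end Regular

theorem flData_fibre [IsNoetherianRing B] (D : FLData φ γ) (y : B)
    (hyF : γ y ∈ maximalIdeal F) (hy : IsSMulRegular F (γ y)) :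
    FLData (fibreBase φ y) (fibreMap γ y) := by
  have hyB : y ∈ maximalIdeal B := D.mem_maximalIdeal_of_map hyF
  refine ⟨(isSMulRegular_and_flat D y hy).2, ?_, ?_, ?_⟩
  · haveI := D.isLocalHom
    haveI := isLocalHom_mk _ (span_singleton_le_maximalIdeal hyB)
    unfold fibreBase
    infer_instance
  · exact Ideal.quotientMap_surjective D.surj
  · rw [ker_fibreMap D y, D.ker, Ideal.map_map]
    rfl

end Groth.Agent.Helper8.GorFlat
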