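import Groth.Agent.Lib.Helper8.LD14
import Groth.Agent.Lib.Helper8.Depth31

/-!
# A Noetherian local ring is Gorenstein iff its quotient by a regular element is
-/

set_option autoImplicit false
universe u

namespace Groth.Agent.Helper8.LD

open CategoryTheory Abelian IsLocalRing LocCoh localCohomology InjHull
open Groth.Agent.Helper8.LC Groth.Agent.Helper1.InjHullL Groth.Agent.Helper1.MatlisL2

variable (A : Type u) [CommRing A] [IsLocalRing A] [IsNoetherianRing A] (f : A)

/-- `H^0_m(A) = 0` when the maximal ideal contains a regular element. -/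
lemma subsingleton_H_zero_of_regular (hf : f ∈ maximalIdeal A) (hreg : IsSMulRegular A f) :
    Subsingleton (H (maximalIdeal A) 0 A) := by
  apply subsingleton_h0_of_torsionSub_eq_bot
  rw [eq_bot_iff]
  rintro x ⟨n, hn⟩
  rw [Submodule.mem_bot]
  have h1 : f ^ n • x = 0 := hn _ (Ideal.pow_mem_pow hf n)
  clear hn
  induction n with
  | zero => simpa using h1
  | succ n ih =>
    apply ih
    apply hreg
    change f • (f ^ n • x) = f • 0
    rw [← mul_smul, ← pow_succ', smul_zero]
    exact h1

section Bridge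

variable [IsLocalRing (A ⧸ Ideal.span {f})]

/-- comparison of the local cohomology of `A/f` over `A/f` and of `A/fA` over `A`. -/
lemma exists_bridge (i : ℕ) :
    ∃ φ : H (maximalIdeal (A ⧸ Ideal.span {f})) i (A ⧸ Ideal.span {f}) ≃+
        H (maximalIdeal A) i (QuotSMulTop f A),
      ∀ (a : A) (x : H (maximalIdeal (A ⧸ Ideal.span {f})) i (A ⧸ Ideal.span {f})),
        φ (algebraMap A (A ⧸ Ideal.span {f}) a • x) = a • φ x := by
  have key := exists_semilinear_equiv (R := A) (R' := A ⧸ Ideal.span {f})
    (maximalIdeal A) i (A ⧸ Ideal.span {f})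
  have hmax : (maximalIdeal A).map (algebraMap A (A ⧸ Ideal.span {f})) =
      maximalIdeal (A ⧸ Ideal.span {f}) := map_mk_maximalIdeal (Ideal.span {f})
  rw [hmax] at key
  obtain ⟨φ, hφ⟩ := key
  let e := hEquiv (maximalIdeal A) i (Groth.Agent.Helper8.Depth.quotSpanSingletonSelfEquiv A f)
  refine ⟨φ.trans e.toAddEquiv, fun a x => ?_⟩
  change e (φ _) = a • e (φ x)
  rw [hφ, map_smul]

/-- the `A/f`-linear identification of `H^t_{m/f}(A/f)` with the `f`-torsion of `H^{t+1}_m(A)`. -/
lemma nonempty_equiv_torsionBySet (hreg : IsSMulRegular A f) (t : ℕ)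
    (hvan : Subsingleton (H (maximalIdeal A) t A)) :
    Nonempty (H (maximalIdeal (A ⧸ Ideal.span {f})) t (A ⧸ Ideal.span {f}) ≃ₗ[A ⧸ Ideal.span {f}]
      Submodule.torsionBySet A (H (maximalIdeal A) (t + 1) A) (Ideal.span {f} : Set A)) := by
  obtain ⟨φ, hφ⟩ := exists_bridge A f t
  obtain ⟨e₃⟩ := exists_equiv_torsionBy (maximalIdeal A) t (ModuleCat.of A A) f hreg hvan
  let E := H (maximalIdeal A) (t + 1) A
  let e₄ : Submodule.torsionBy A E f ≃ₗ[A]
      Submodule.torsionBySet A E (Ideal.span {f} : Set A) :=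
    LinearEquiv.ofEq _ _ (Submodule.torsionBySet_span_singleton_eq f).symm
  let e := e₃.trans e₄
  exact ⟨linearEquivOfSemilinear (Ideal.span {f}) (φ.trans e.toAddEquiv) (fun a x => by
    change e (φ _) = a • e (φ x)
    rw [hφ, map_smul])⟩

end Bridge

theorem isGorensteinLocalRing_quotient (hf : f ∈ maximalIdeal A) (hreg : IsSMulRegular A f)
    (hG : IsGorensteinLocalRing A) : IsGorensteinLocalRing (A ⧸ Ideal.span {f}) := by
  have hne : Ideal.span {f} ≠ ⊤ := by
    intro h
    have hle : Ideal.span {f} ≤ maximalIdeal A := by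
      rw [Ideal.span_le, Set.singleton_subset_iff]; exact hf
    rw [h, top_le_iff] at hle
    exact (maximalIdeal.isMaximal A).ne_top hle
  haveI : Nontrivial (A ⧸ Ideal.span {f}) := Ideal.Quotient.nontrivial_iff.mpr hne
  haveI : IsLocalRing (A ⧸ Ideal.span {f}) :=
    IsLocalRing.of_surjective' (Ideal.Quotient.mk _) Ideal.Quotient.mk_surjective
  obtain ⟨d, hvan, hinj⟩ := (isGorensteinLocalRing_iff_H A).mp hG
  have h0 := subsingleton_H_zero_of_regular A f hf hreg
  obtain ⟨n, hn⟩ := Groth.Agent.Helper8.Depth.exists_nat_supportDim (A := A) A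
  have hdimA : ringKrullDim A = n := by rw [← Module.supportDim_self_eq_ringKrullDim, hn]
  have hnt := Groth.Agent.Helper8.NV.nontrivial_H_dim n hdimA
  have hnd : n = d := by
    by_contra hne
    exact not_subsingleton _ (hvan n hne)
  subst hnd
  have hn0 : n ≠ 0 := by
    rintro rfl
    exact not_subsingleton _ h0
  obtain ⟨t, rfl⟩ := Nat.exists_eq_succ_of_ne_zero hn0
  rw [isGorensteinLocalRing_iff_H]
  have hreg' : IsSMulRegular (ModuleCat.of A A) f := hreg
  refine ⟨t, fun i hi => ?_, ?_⟩
  · obtain ⟨φ, -⟩ := exists_bridge A f i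
    have : Subsingleton (H (maximalIdeal A) i (QuotSMulTop f A)) := by
      apply subsingleton_H_quot (maximalIdeal A) hreg' i
      · intro x
        by_cases hit : i = t + 1
        · subst hit
          haveI := hinj
          exact exists_smul_eq_of_injective _ f hreg x
        · haveI := hvan i hit
          exact ⟨0, Subsingleton.elim _ _⟩
      · intro x _
        haveI := hvan (i + 1) (by omega)
        exact Subsingleton.elim _ _
    exact φ.toEquiv.subsingleton
  · obtain ⟨ψ⟩ := nonempty_equiv_torsionBySet A f hreg t (hvan t (by omega))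
    haveI : Module.Injective A (H (maximalIdeal A) (t + 1) A) := hinj
    have hT : Module.Injective (A ⧸ Ideal.span {f})
        (Submodule.torsionBySet A (H (maximalIdeal A) (t + 1) A) (Ideal.span {f} : Set A)) :=
      injective_torsionBySet _ _
    exact injective_of_linearEquiv ψ.symm hT

theorem isGorensteinLocalRing_of_quotient (hf : f ∈ maximalIdeal A) (hreg : IsSMulRegular A f)
    (hG : IsGorensteinLocalRing (A ⧸ Ideal.span {f})) : IsGorensteinLocalRing A := by
  haveI : IsLocalRing (A ⧸ Ideal.span {f}) := hG.toIsLocalRing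
  obtain ⟨t, hvan, hinj⟩ := (isGorensteinLocalRing_iff_H (A ⧸ Ideal.span {f})).mp hG
  have hvan' : ∀ i, i ≠ t → Subsingleton (H (maximalIdeal A) i (QuotSMulTop f A)) := by
    intro i hi
    obtain ⟨φ, -⟩ := exists_bridge A f i
    haveI := hvan i hi
    exact φ.symm.toEquiv.subsingleton
  have hreg' : IsSMulRegular (ModuleCat.of A A) f := hreg
  have hvanA : ∀ i, i ≠ t + 1 → Subsingleton (H (maximalIdeal A) i A) := by
    intro i hi
    rcases Nat.eq_zero_or_pos i with rfl | hpos
    · exact subsingleton_H_zero_of_regular A f hf hreg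
    · obtain ⟨j, rfl⟩ := Nat.exists_eq_succ_of_ne_zero hpos.ne'
      apply subsingleton_of_smul_injective (maximalIdeal A) hf (j + 1)
      intro x hx
      exact smul_injective_of_subsingleton_H_quot (maximalIdeal A) hreg' j
        (hvan' j (by omega)) x hx
  rw [isGorensteinLocalRing_iff_H]
  refine ⟨t + 1, hvanA, ?_⟩
  apply injective_of_torsionBy_injective (maximalIdeal A) f hf
  · exact fun x => isPowerTorsion (maximalIdeal A) (t + 1) _ x
  · intro x
    exact smul_surjective_of_subsingleton_H_quot (maximalIdeal A) hreg' (t + 1)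
      (hvan' (t + 1) (by omega)) x
  · obtain ⟨ψ⟩ := nonempty_equiv_torsionBySet A f hreg t (hvanA t (by omega))
    exact injective_of_linearEquiv ψ hinj

theorem isGorensteinLocalRing_iff_quotient (hf : f ∈ maximalIdeal A) (hreg : IsSMulRegular A f) :
    IsGorensteinLocalRing A ↔ IsGorensteinLocalRing (A ⧸ Ideal.span {f}) :=
  ⟨isGorensteinLocalRing_quotient A f hf hreg, isGorensteinLocalRing_of_quotient A f hf hreg⟩

end Groth.Agent.Helper8.LD
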