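import Mathlib
import Groth.Prelude
import Groth.Agent.Lib.Helper8.GorFlat2
import Groth.Agent.Lib.Helper8.GorArt6
import Groth.Agent.Lib.Helper8.LD15
import Groth.Agent.Lib.Helper8.Sk1
import Groth.Agent.Lib.Helper8.FlatReg11

/-!
# Gorenstein property along a flat local homomorphism: the induction
-/

set_option autoImplicit false
universe u

namespace Groth.Agent.Helper8.GorFlat

open IsLocalRing LocCoh RingTheory.Sequence

/-- `R` is Cohen–Macaulay of dimension `n`, numerically. -/
def NumCM (R : Type u) [CommRing R] [IsLocalRing R] (n : ℕ) : Prop :=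
  ringKrullDim R = n ∧ depth R R = n

section NumCM

variable (R : Type u) [CommRing R] [IsLocalRing R] [IsNoetherianRing R]

theorem exists_regular_of_numCM {n : ℕ} (h : NumCM R (n + 1)) :
    ∃ x ∈ maximalIdeal R, IsSMulRegular R x := by
  have htop : maximalIdeal R • (⊤ : Submodule R R) ≠ ⊤ := Depth.smul_top_ne_top_of_local R R
  have h1 : ((1 : ℕ) : ℕ∞) ≤ depth R R := by
    rw [h.2]
    exact_mod_cast Nat.succ_pos n
  obtain ⟨rs, hlen, hreg, hmem⟩ := (Depth.le_idealDepth_iff htop 1).mp h1
  obtain ⟨x, rfl⟩ : ∃ x, rs = [x] := List.length_eq_one_iff.mp hlen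
  refine ⟨x, hmem x (by simp), ?_⟩
  rw [isWeaklyRegular_singleton_iff] at hreg
  exact hreg

theorem numCM_quot {n : ℕ} (h : NumCM R (n + 1)) (x : R) (hx : x ∈ maximalIdeal R)
    (hreg : IsSMulRegular R x) [IsLocalRing (R ⧸ Ideal.span {x})] :
    NumCM (R ⧸ Ideal.span {x}) n := by
  constructor
  · have h1 := ringKrullDim_quotient_span_singleton_succ_eq_ringKrullDim hreg hx
    rw [h.1] at h1
    have h2 : ringKrullDim (R ⧸ Ideal.span {x}) + 1 = ((n : ℕ) : WithBot ℕ∞) + 1 := by
      rw [h1]; push_cast; rfl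
    have hne : ringKrullDim (R ⧸ Ideal.span {x}) ≠ ⊥ := ringKrullDim_ne_bot
    obtain ⟨d, hd⟩ := WithBot.ne_bot_iff_exists.mp hne
    rw [← hd] at h2 ⊢
    have h3 : d + 1 = (n : ℕ∞) + 1 := by exact_mod_cast h2
    have h4 : d = (n : ℕ∞) := (ENat.add_left_injective_of_ne_top ENat.one_ne_top) h3
    rw [h4]
    rfl
  · have h1 := Sk.depth_quotient_add_one R x hx hreg
    rw [h.2] at h1
    have h2 : depth (R ⧸ Ideal.span {x}) (R ⧸ Ideal.span {x}) + 1 = (n : ℕ∞) + 1 := by
      rw [h1]; push_cast; rfl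
    exact (ENat.add_left_injective_of_ne_top ENat.one_ne_top) h2

theorem isArtinianRing_of_numCM_zero (h : NumCM R 0) : IsArtinianRing R := by
  rw [isArtinianRing_iff_krullDimLE_zero]
  haveI : Nontrivial R := inferInstance
  rw [ringKrullDimZero_iff_ringKrullDim_eq_zero]
  rw [h.1]
  rfl

end NumCM

section Induction

theorem iff_of_numCM_zero_zero {A B F : Type u} [CommRing A] [CommRing B] [CommRing F]
    [IsLocalRing A] [IsLocalRing B] [IsLocalRing F] [IsNoetherianRing A] [IsNoetherianRing B]
    [IsNoetherianRing F] {φ : A →+* B} {γ : B →+* F} (D : FLData φ γ)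
    (hA : NumCM A 0) (hF : NumCM F 0) :
    IsGorensteinLocalRing B ↔ IsGorensteinLocalRing A ∧ IsGorensteinLocalRing F := by
  haveI := isArtinianRing_of_numCM_zero A hA
  haveI := isArtinianRing_of_numCM_zero F hF
  letI : Algebra A B := φ.toAlgebra
  letI : Algebra B F := γ.toAlgebra
  haveI : Module.Flat A B := D.flat
  haveI : IsLocalHom (algebraMap A B) := D.isLocalHom
  have hker : RingHom.ker (algebraMap B F) = (maximalIdeal A).map (algebraMap A B) := D.ker
  have hsurj : Function.Surjective (algebraMap B F) := D.surj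
  haveI : IsArtinianRing B := by
    have h1 := FlatReg.ringKrullDim_eq_add_of_flat A B
    have h2 : ringKrullDim (B ⧸ (maximalIdeal A).map (algebraMap A B)) = ringKrullDim F :=
      ringKrullDim_eq_of_ringEquiv
        ((Ideal.quotEquivOfEq hker.symm).trans (RingHom.quotientKerEquivOfSurjective hsurj))
    rw [h2, hA.1, hF.1] at h1
    rw [isArtinianRing_iff_krullDimLE_zero, ringKrullDimZero_iff_ringKrullDim_eq_zero, h1]
    rfl
  exact GorArt.isGorensteinLocalRing_iff_of_isArtinianRing A B F hsurj hker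

theorem iff_of_numCM_zero {A : Type u} [CommRing A] [IsLocalRing A] [IsNoetherianRing A]
    (hA : NumCM A 0) (f : ℕ) :
    ∀ (B F : Type u) [CommRing B] [CommRing F] [IsLocalRing B] [IsLocalRing F]
      [IsNoetherianRing B] [IsNoetherianRing F] (φ : A →+* B) (γ : B →+* F) (_ : FLData φ γ)
      (_ : NumCM F f),
      IsGorensteinLocalRing B ↔ IsGorensteinLocalRing A ∧ IsGorensteinLocalRing F := by
  induction f with
  | zero =>
    intro B F _ _ _ _ _ _ φ γ D hF
    exact iff_of_numCM_zero_zero D hA hF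
  | succ f ih =>
    intro B F _ _ _ _ _ _ φ γ D hF
    obtain ⟨y', hym, hyreg⟩ := exists_regular_of_numCM F hF
    obtain ⟨y, rfl⟩ := D.surj y'
    have hyB : y ∈ maximalIdeal B := D.mem_maximalIdeal_of_map hym
    haveI := isLocalRing_quot _ (span_singleton_le_maximalIdeal hyB)
    haveI := isLocalRing_quot _ (span_singleton_le_maximalIdeal hym)
    have D' := flData_fibre D y hym hyreg
    have hB := LD.isGorensteinLocalRing_iff_quotient B y hyB (isSMulRegular_and_flat D y hyreg).1
    have hF' := LD.isGorensteinLocalRing_iff_quotient F (γ y) hym hyreg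
    rw [hB, hF']
    exact ih (B ⧸ Ideal.span {y}) (F ⧸ Ideal.span {γ y}) _ _ D' (numCM_quot F hF (γ y) hym hyreg)

theorem iff_of_numCM {F : Type u} [CommRing F] [IsLocalRing F] [IsNoetherianRing F] {f : ℕ}
    (hF : NumCM F f) (a : ℕ) :
    ∀ (A B : Type u) [CommRing A] [CommRing B] [IsLocalRing A] [IsLocalRing B]
      [IsNoetherianRing A] [IsNoetherianRing B] (φ : A →+* B) (γ : B →+* F) (_ : FLData φ γ)
      (_ : NumCM A a),
      IsGorensteinLocalRing B ↔ IsGorensteinLocalRing A ∧ IsGorensteinLocalRing F := by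
  induction a with
  | zero =>
    intro A B _ _ _ _ _ _ φ γ D hA
    exact iff_of_numCM_zero hA f B F φ γ D hF
  | succ a ih =>
    intro A B _ _ _ _ _ _ φ γ D hA
    obtain ⟨x, hx, hreg⟩ := exists_regular_of_numCM A hA
    haveI := isLocalRing_quot _ (span_singleton_le_maximalIdeal hx)
    haveI := isLocalRing_quot _ (map_span_le D x hx)
    have D' := flData_base D x hx
    have hA' := LD.isGorensteinLocalRing_iff_quotient A x hx hreg
    have hB := LD.isGorensteinLocalRing_iff_quotient B (φ x) (map_mem_maximalIdeal_base D hx)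
      (isSMulRegular_map D hreg)
    have hspan : Ideal.span {φ x} = (Ideal.span {x}).map φ := by
      rw [Ideal.map_span, Set.image_singleton]
    rw [hspan] at hB
    rw [hB, hA']
    exact ih (A ⧸ Ideal.span {x}) (B ⧸ (Ideal.span {x}).map φ) _ _ D' (numCM_quot A hA x hx hreg)

end Induction

end Groth.Agent.Helper8.GorFlat
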