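import Mathlib
import Groth.Prelude
import Groth.Agent.Lib.Helper8.GorFlat3
import Groth.Agent.Lib.Helper8.FlatReg13
import Groth.Agent.Lib.Helper8.Goren4
import Groth.Agent.Lib.Helper8.Depth7

/-!
# The Gorenstein property along a flat local homomorphism
-/

set_option autoImplicit false
universe u

namespace Groth.Agent.Helper8.GorFlat

open IsLocalRing LocCoh

section Numerics

variable (R : Type u) [CommRing R] [IsLocalRing R] [IsNoetherianRing R]

theorem depth_ne_top : depth R R ≠ ⊤ :=
  Depth.idealDepth_ne_top (Depth.smul_top_ne_top_of_local R R)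

theorem exists_dim_eq : ∃ d : ℕ, ringKrullDim R = d := by
  have h1 : ringKrullDim R ≠ ⊥ := ringKrullDim_ne_bot
  have h2 : ringKrullDim R ≠ ⊤ := ringKrullDim_ne_top
  obtain ⟨d, hd⟩ := WithBot.ne_bot_iff_exists.mp h1
  have h3 : d ≠ ⊤ := by
    rintro rfl
    exact h2 hd.symm
  obtain ⟨n, hn⟩ := ENat.ne_top_iff_exists.mp h3
  exact ⟨n, by rw [← hd, ← hn]; rfl⟩

theorem depth_le_dim {d e : ℕ} (hd : ringKrullDim R = d) (he : depth R R = e) : e ≤ d := by
  have h := Depth.depth_le_supportDim (A := R) (M := R)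
  rw [Module.supportDim_self_eq_ringKrullDim, hd, he] at h
  exact_mod_cast h

theorem exists_numCM_of_cm (h : IsCohenMacaulayLocalRing R) : ∃ n, NumCM R n := by
  obtain ⟨d, hd⟩ := exists_dim_eq R
  obtain ⟨e, he⟩ := ENat.ne_top_iff_exists.mp (depth_ne_top R)
  have h1 := h.supportDim_eq_depth
  rw [Module.supportDim_self_eq_ringKrullDim, hd, ← he] at h1
  have h2 : d = e := by exact_mod_cast h1
  exact ⟨d, hd, by rw [← he, h2]⟩

end Numerics

variable (A B : Type u) [CommRing A] [CommRing B] [IsLocalRing A] [IsLocalRing B]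
  [IsNoetherianRing A] [IsNoetherianRing B] [Algebra A B] [IsLocalHom (algebraMap A B)]
  [Module.Flat A B]

theorem map_maximalIdeal_le : (maximalIdeal A).map (algebraMap A B) ≤ maximalIdeal B := by
  rw [Ideal.map_le_iff_le_comap]
  intro x hx
  rw [Ideal.mem_comap, mem_maximalIdeal, mem_nonunits_iff]
  intro hu
  exact (mem_nonunits_iff.mp ((mem_maximalIdeal x).mp hx)) (isUnit_of_map_unit _ x hu)

theorem flData_algebraMap :
    FLData (algebraMap A B) (Ideal.Quotient.mk ((maximalIdeal A).map (algebraMap A B))) where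
  flat := RingHom.flat_algebraMap_iff.mpr inferInstance
  isLocalHom := inferInstance
  surj := Ideal.Quotient.mk_surjective
  ker := Ideal.mk_ker

/-- **Gorenstein along flat local homomorphisms.** -/
theorem isGorensteinLocalRing_iff_of_flat :
    IsGorensteinLocalRing B ↔ IsGorensteinLocalRing A ∧
      IsGorensteinLocalRing (B ⧸ (maximalIdeal A).map (algebraMap A B)) := by
  haveI hloc : IsLocalRing (B ⧸ (maximalIdeal A).map (algebraMap A B)) :=
    isLocalRing_quot _ (map_maximalIdeal_le A B)
  have D := flData_algebraMap A B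
  have key : ∀ (a f : ℕ), NumCM A a →
      NumCM (B ⧸ (maximalIdeal A).map (algebraMap A B)) f →
      (IsGorensteinLocalRing B ↔ IsGorensteinLocalRing A ∧
        IsGorensteinLocalRing (B ⧸ (maximalIdeal A).map (algebraMap A B))) :=
    fun a f hA hF => iff_of_numCM hF a A B _ _ D hA
  constructor
  · intro hB
    have hcm := Goren.isCohenMacaulayLocalRing_of_isGorensteinLocalRing B
    obtain ⟨n, hn⟩ := exists_numCM_of_cm B hcm
    obtain ⟨a, ha⟩ := exists_dim_eq A
    obtain ⟨f, hf⟩ := exists_dim_eq (B ⧸ (maximalIdeal A).map (algebraMap A B))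
    obtain ⟨a', ha'⟩ := ENat.ne_top_iff_exists.mp (depth_ne_top A)
    obtain ⟨f', hf'⟩ := ENat.ne_top_iff_exists.mp
      (depth_ne_top (B ⧸ (maximalIdeal A).map (algebraMap A B)))
    have h1 := FlatReg.ringKrullDim_eq_add_of_flat A B
    rw [hn.1, ha, hf] at h1
    have h1' : n = a + f := by exact_mod_cast h1
    have h2 := FlatReg.depth_eq_add_of_flat A B
    rw [hn.2, ← ha', ← hf'] at h2
    have h2' : n = a' + f' := by exact_mod_cast h2
    have h3 := depth_le_dim A ha ha'.symm
    have h4 := depth_le_dim _ hf hf'.symm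
    have h5 : a' = a := by omega
    have h6 : f' = f := by omega
    exact (key a f ⟨ha, by rw [← ha', h5]⟩ ⟨hf, by rw [← hf', h6]⟩).mp hB
  · rintro ⟨hA, hF⟩
    obtain ⟨a, ha⟩ := exists_numCM_of_cm A
      (Goren.isCohenMacaulayLocalRing_of_isGorensteinLocalRing A)
    obtain ⟨f, hf⟩ := exists_numCM_of_cm _
      (Goren.isCohenMacaulayLocalRing_of_isGorensteinLocalRing
        (B ⧸ (maximalIdeal A).map (algebraMap A B)))
    exact (key a f ha hf).mpr ⟨hA, hF⟩

end Groth.Agent.Helper8.GorFlat
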