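import Mathlib
import Groth.Prelude
import Groth.Agent.Lib.Helper8.GorFlat4
import Groth.Agent.Lib.Helper8.Fib1
import Groth.Agent.Lib.Helper8.ABS21

/-!
# Gorenstein rings: isomorphism invariance, localization, ascent along flat maps
-/

set_option autoImplicit false
universe u

namespace Groth.Agent.Helper8.GorFlat

open IsLocalRing LocCoh

/-- A field is Gorenstein. -/
theorem isGorensteinLocalRing_of_isField (K : Type u) [CommRing K] (hK : IsField K) :
    IsGorensteinLocalRing K := by
  letI := hK.toField
  exact ABS.isGorensteinLocalRing_of_isRegularLocalRing K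

/-- The Gorenstein property is invariant under ring isomorphisms. -/
theorem isGorensteinLocalRing_of_ringEquiv {A B : Type u} [CommRing A] [CommRing B]
    (e : A ≃+* B) (hA : IsGorensteinLocalRing A) : IsGorensteinLocalRing B := by
  haveI : IsLocalRing B := e.isLocalRing
  haveI : IsNoetherianRing B := isNoetherianRing_of_ringEquiv A e
  letI : Algebra A B := e.toRingHom.toAlgebra
  haveI : IsLocalHom (algebraMap A B) := by
    constructor
    intro a ha
    have h1 : IsUnit (e a) := ha
    have h2 := h1.map e.symm
    rwa [RingEquiv.symm_apply_apply] at h2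
  haveI : Module.Flat A B := by
    let l : A ≃ₗ[A] B :=
      { e.toAddEquiv with
        map_smul' := fun r x => by
          show e (r * x) = e r * e x
          exact map_mul e r x }
    exact Module.Flat.of_linearEquiv l.symm
  rw [isGorensteinLocalRing_iff_of_flat A B]
  refine ⟨hA, ?_⟩
  apply isGorensteinLocalRing_of_isField
  have hmap : (maximalIdeal A).map (algebraMap A B) = maximalIdeal B :=
    LD.map_maximalIdeal_of_surjective (R' := A) (R := B) e.surjective
  rw [hmap]
  exact (Ideal.Quotient.maximal_ideal_iff_isField_quotient _).mp (maximalIdeal.isMaximal B)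

section AtPrime

variable (A B : Type u) [CommRing A] [CommRing B] [IsNoetherianRing A] [IsNoetherianRing B]
  [Algebra A B] [Module.Flat A B]

/-- The local ring of `B` at `Q` is Gorenstein iff the local ring of `A` below and the local ring
of the fibre are. -/
theorem isGorensteinLocalRing_atPrime_iff (Q : Ideal B) [Q.IsPrime] :
    IsGorensteinLocalRing (Localization.AtPrime Q) ↔
      IsGorensteinLocalRing (Localization.AtPrime (Q.comap (algebraMap A B))) ∧
        IsGorensteinLocalRing (EGA4.FibLocRing A B Q) := by
  haveI : Q.LiesOver (Q.comap (algebraMap A B)) := ⟨rfl⟩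
  letI := Localization.AtPrime.algebraOfLiesOver (Q.comap (algebraMap A B)) Q
  haveI : IsLocalHom (algebraMap (Localization.AtPrime (Q.comap (algebraMap A B)))
      (Localization.AtPrime Q)) := by
    rw [RingHom.algebraMap_toAlgebra]
    exact Localization.isLocalHom_localRingHom _ Q (algebraMap A B) Ideal.LiesOver.over
  have hideal : (maximalIdeal (Localization.AtPrime (Q.comap (algebraMap A B)))).map
      (algebraMap (Localization.AtPrime (Q.comap (algebraMap A B))) (Localization.AtPrime Q)) =
      (Q.comap (algebraMap A B)).map (algebraMap A (Localization.AtPrime Q)) := by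
    rw [← Localization.AtPrime.map_eq_maximalIdeal, Ideal.map_map,
      ← IsScalarTower.algebraMap_eq]
  rw [isGorensteinLocalRing_iff_of_flat (Localization.AtPrime (Q.comap (algebraMap A B)))
    (Localization.AtPrime Q)]
  refine and_congr Iff.rfl ⟨fun h => ?_, fun h => ?_⟩
  · exact isGorensteinLocalRing_of_ringEquiv (Ideal.quotEquivOfEq hideal) h
  · exact isGorensteinLocalRing_of_ringEquiv (Ideal.quotEquivOfEq hideal.symm) h

end AtPrime

section Rings

theorem isGorensteinRing_of_ringEquiv {R R' : Type u} [CommRing R] [CommRing R'] (e : R ≃+* R')
    (h : IsGorensteinRing R) : IsGorensteinRing R' := by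
  haveI := isNoetherianRing_of_ringEquiv R e
  refine { isGorensteinLocalRing_localization := fun p hp => ?_ }
  exact isGorensteinLocalRing_of_ringEquiv (IsLocalization.ringEquivOfRingEquiv
    (Localization.AtPrime (p.comap e)) (Localization.AtPrime p) e (e.map_primeCompl_comap_eq p))
    (h.isGorensteinLocalRing_localization (p.comap e))

theorem isGorensteinRing_of_isRegularRing (R : Type u) [CommRing R] [IsRegularRing R] :
    IsGorensteinRing R :=
  { isGorensteinLocalRing_localization := fun p _ =>
      ABS.isGorensteinLocalRing_of_isRegularLocalRing (Localization.AtPrime p) }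

/-- Localizations of Gorenstein rings are Gorenstein. -/
theorem isGorensteinRing_of_isLocalization {R : Type u} [CommRing R] (M : Submonoid R)
    (S : Type u) [CommRing S] [Algebra R S] [IsLocalization M S] (h : IsGorensteinRing R) :
    IsGorensteinRing S := by
  haveI : IsNoetherianRing S := IsLocalization.isNoetherianRing M S inferInstance
  refine { isGorensteinLocalRing_localization := fun P hP => ?_ }
  have hG := h.isGorensteinLocalRing_localization (P.comap (algebraMap R S))
  haveI : IsLocalization.AtPrime (Localization.AtPrime P) (P.comap (algebraMap R S)) :=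
    IsLocalization.isLocalization_isLocalization_atPrime_isLocalization M
      (Localization.AtPrime P) P
  exact isGorensteinLocalRing_of_ringEquiv
    (IsLocalization.algEquiv (P.comap (algebraMap R S)).primeCompl
      (Localization.AtPrime (P.comap (algebraMap R S))) (Localization.AtPrime P)).toRingEquiv hG

/-- Ascent of the Gorenstein property along flat maps with Gorenstein fibres. -/
theorem isGorensteinRing_of_flat_of_fibres (A B : Type u) [CommRing A] [CommRing B]
    [IsNoetherianRing B] [Algebra A B] [Module.Flat A B] (hA : IsGorensteinRing A)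
    (hfib : ∀ (p : Ideal A) [p.IsPrime], IsGorensteinRing (p.Fiber B)) :
    IsGorensteinRing B := by
  refine { isGorensteinLocalRing_localization := fun Q hQ => ?_ }
  rw [isGorensteinLocalRing_atPrime_iff A B Q]
  refine ⟨hA.isGorensteinLocalRing_localization _, ?_⟩
  obtain ⟨Q', hQ'prime, hQ'⟩ := Fib.exists_fiber_prime (Q.comap (algebraMap A B)) Q rfl
  obtain ⟨e⟩ := Fib.nonempty_ringEquiv_fibLocRing (Q.comap (algebraMap A B)) Q' Q hQ'
  exact isGorensteinLocalRing_of_ringEquiv e
    ((hfib (Q.comap (algebraMap A B))).isGorensteinLocalRing_localization Q')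

end Rings

end Groth.Agent.Helper8.GorFlat
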