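import Mathlib

set_option autoImplicit false
universe u v

namespace Groth.Agent.Helper8.Melk

variable {R : Type u} [CommRing R] {X : Type v} [AddCommGroup X] [Module R X]

/-- the `x^k`-torsion. -/
abbrev K (x : R) (k : ℕ) : Submodule R X := Submodule.torsionBy R X (x ^ k)

lemma mem_K (x : R) (k : ℕ) (z : X) : z ∈ K x k ↔ x ^ k • z = 0 :=
  Submodule.mem_torsionBy_iff _ _

lemma K_mono (x : R) {k k' : ℕ} (h : k ≤ k') : (K x k : Submodule R X) ≤ K x k' := by
  intro z hz
  rw [mem_K] at hz ⊢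
  obtain ⟨d, rfl⟩ := Nat.exists_eq_add_of_le h
  rw [pow_add, mul_comm, mul_smul, hz, smul_zero]

/-- all the `x^k`-torsion submodules are Artinian if the `x`-torsion is. -/
lemma isArtinian_K (x : R) (hK : IsArtinian R (Submodule.torsionBy R X x)) (k : ℕ) :
    IsArtinian R (K x k : Submodule R X) := by
  induction k with
  | zero =>
    have : (K x 0 : Submodule R X) = ⊥ := by
      rw [eq_bot_iff]
      intro z hz
      rw [mem_K, pow_zero, one_smul] at hz
      exact hz
    rw [this]
    infer_instance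
  | succ k ih =>
    have h1 : Submodule.torsionBy R X x ≤ K x (k + 1) := by
      intro z hz
      rw [Submodule.mem_torsionBy_iff] at hz
      rw [mem_K, pow_succ, mul_smul, hz, smul_zero]
    let f : Submodule.torsionBy R X x →ₗ[R] (K x (k + 1) : Submodule R X) :=
      Submodule.inclusion h1
    let g : (K x (k + 1) : Submodule R X) →ₗ[R] (K x k : Submodule R X) :=
      LinearMap.codRestrict _ ((LinearMap.lsmul R X x) ∘ₗ (K x (k + 1)).subtype) (by
        rintro ⟨z, hz⟩
        rw [mem_K] at hz ⊢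
        change x ^ k • x • z = 0
        rw [← mul_smul, ← pow_succ]
        exact hz)
    apply isArtinian_of_range_eq_ker f g
    ext ⟨z, hz⟩
    constructor
    · rintro ⟨⟨w, hw⟩, hwz⟩
      have : w = z := congrArg Subtype.val hwz
      subst this
      rw [LinearMap.mem_ker]
      apply Subtype.ext
      change x • w = 0
      exact (Submodule.mem_torsionBy_iff _ _).mp hw
    · intro hker
      rw [LinearMap.mem_ker] at hker
      have hxz : x • z = 0 := congrArg Subtype.val hker
      exact ⟨⟨z, (Submodule.mem_torsionBy_iff _ _).mpr hxz⟩, rfl⟩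

end Groth.Agent.Helper8.Melk

namespace Groth.Agent.Helper8.Melk

variable {R : Type u} [CommRing R] {X : Type v} [AddCommGroup X] [Module R X]

/-- the auxiliary submodules `x^k (N ∩ K_{k+1})`. -/
def A (x : R) (N : Submodule R X) (k : ℕ) : Submodule R X :=
  Submodule.map (LinearMap.lsmul R X (x ^ k)) (N ⊓ K x (k + 1))

lemma mem_A (x : R) (N : Submodule R X) (k : ℕ) (z : X) :
    z ∈ A x N k ↔ ∃ n ∈ N, x ^ (k + 1) • n = 0 ∧ x ^ k • n = z := by
  constructor
  · rintro ⟨n, ⟨hn, hnK⟩, rfl⟩
    exact ⟨n, hn, (mem_K x (k + 1) n).mp hnK, rfl⟩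
  · rintro ⟨n, hn, hnK, rfl⟩
    exact ⟨n, ⟨hn, (mem_K x (k + 1) n).mpr hnK⟩, rfl⟩

lemma A_le_K1 (x : R) (N : Submodule R X) (k : ℕ) : A x N k ≤ Submodule.torsionBy R X x := by
  intro z hz
  obtain ⟨n, -, hnK, rfl⟩ := (mem_A x N k z).mp hz
  rw [Submodule.mem_torsionBy_iff, ← mul_smul, ← pow_succ']
  exact hnK

lemma A_mono_left (x : R) {N N' : Submodule R X} (h : N ≤ N') (k : ℕ) : A x N k ≤ A x N' k :=
  Submodule.map_mono (inf_le_inf_right _ h)

lemma A_anti_right (x : R) (N : Submodule R X) {k k' : ℕ} (h : k ≤ k') : A x N k' ≤ A x N k := by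
  intro z hz
  obtain ⟨n, hn, hnK, rfl⟩ := (mem_A x N k' z).mp hz
  obtain ⟨d, rfl⟩ := Nat.exists_eq_add_of_le h
  refine (mem_A x N k _).mpr ⟨x ^ d • n, N.smul_mem _ hn, ?_, ?_⟩
  · rw [← mul_smul, ← pow_add]
    have : k + 1 + d = k + d + 1 := by omega
    rw [this]; exact hnK
  · rw [← mul_smul, ← pow_add]

/-- Melkersson's lemma for a principal ideal. -/
theorem isArtinian_of_isArtinian_torsionBy (x : R) (hX : ∀ z : X, ∃ k : ℕ, x ^ k • z = 0)
    (hK : IsArtinian R (Submodule.torsionBy R X x)) : IsArtinian R X := by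
  rw [← monotone_stabilizes_iff_artinian]
  intro f
  let N : ℕ → Submodule R X := fun j => OrderDual.ofDual (f j)
  have hN : ∀ {j j' : ℕ}, j ≤ j' → N j' ≤ N j := fun h => f.monotone h
  -- minimal element among the `A (N j) k`
  let 𝒜 : Set (Submodule R (Submodule.torsionBy R X x)) :=
    {B | ∃ j k, B = Submodule.comap (Submodule.torsionBy R X x).subtype (A x (N j) k)}
  obtain ⟨B₀, ⟨j0, k0, rfl⟩, hmin⟩ := IsArtinian.set_has_minimal 𝒜 ⟨_, 0, 0, rfl⟩
  have hA : ∀ j k, j0 ≤ j → k0 ≤ k → A x (N j) k = A x (N j0) k0 := by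
    intro j k hj hk
    have hle : A x (N j) k ≤ A x (N j0) k0 :=
      (A_mono_left x (hN hj) k).trans (A_anti_right x (N j0) hk)
    have hle' := Submodule.comap_mono (f := (Submodule.torsionBy R X x).subtype) hle
    have hnlt := hmin _ ⟨j, k, rfl⟩
    have heq := eq_of_le_of_not_lt hle' hnlt
    have h1 : ∀ B : Submodule R X, B ≤ Submodule.torsionBy R X x →
        Submodule.map (Submodule.torsionBy R X x).subtype
          (Submodule.comap (Submodule.torsionBy R X x).subtype B) = B := by
      intro B hB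
      rw [Submodule.map_comap_subtype]
      exact inf_eq_right.mpr hB
    rw [← h1 _ (A_le_K1 x (N j) k), ← h1 _ (A_le_K1 x (N j0) k0), heq]
  -- stabilization inside `K (k0 + 1)`
  haveI := isArtinian_K (X := X) x hK (k0 + 1)
  let g : ℕ →o (Submodule R (K x (k0 + 1) : Submodule R X))ᵒᵈ :=
    ⟨fun j => OrderDual.toDual (Submodule.comap (K x (k0 + 1)).subtype (N j)),
      fun j j' h => Submodule.comap_mono (hN h)⟩
  obtain ⟨j1', hj1'⟩ := IsArtinian.monotone_stabilizes g
  have hstab : ∀ j, j1' ≤ j → N j1' ⊓ K x (k0 + 1) ≤ N j := by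
    intro j hj n hn
    have h2 := hj1' j hj
    have h3 : (⟨n, hn.2⟩ : (K x (k0 + 1) : Submodule R X)) ∈
        Submodule.comap (K x (k0 + 1)).subtype (N j1') := hn.1
    have h4 : Submodule.comap (K x (k0 + 1)).subtype (N j1') =
        Submodule.comap (K x (k0 + 1)).subtype (N j) := h2
    rw [h4] at h3
    exact h3
  let j1 := max j0 j1'
  have key : ∀ k, ∀ j, j1 ≤ j → N j1 ⊓ K x k ≤ N j := by
    intro k
    induction k with
    | zero =>
      intro j _ n hn
      have : n = 0 := by
        have := (mem_K x 0 n).mp hn.2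
        rwa [pow_zero, one_smul] at this
      rw [this]; exact zero_mem _
    | succ k ih =>
      intro j hj n hn
      by_cases hk : k + 1 ≤ k0 + 1
      · apply hstab j ((le_max_right j0 j1').trans hj)
        exact ⟨hN (le_max_right j0 j1') hn.1, K_mono x hk hn.2⟩
      · have hk0 : k0 ≤ k := by omega
        have hj0 : j0 ≤ j1 := le_max_left j0 j1'
        have h1 : x ^ k • n ∈ A x (N j1) k :=
          (mem_A x (N j1) k _).mpr ⟨n, hn.1, (mem_K x (k + 1) n).mp hn.2, rfl⟩
        rw [hA j1 k hj0 hk0, ← hA j k (hj0.trans hj) hk0] at h1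
        obtain ⟨n', hn', hn'K, hnn'⟩ := (mem_A x (N j) k _).mp h1
        have h2 : n - n' ∈ N j1 ⊓ K x k := by
          refine ⟨(N j1).sub_mem hn.1 (hN hj hn'), ?_⟩
          apply (mem_K x k (n - n')).mpr
          rw [smul_sub, hnn', sub_self]
        have h3 := ih j hj h2
        have : n = (n - n') + n' := by abel
        rw [this]
        exact (N j).add_mem h3 hn'
  refine ⟨j1, fun j hj => ?_⟩
  have h1 : N j1 ≤ N j := by
    intro n hn
    obtain ⟨k, hk⟩ := hX n
    exact key k j hj ⟨hn, (mem_K x k n).mpr hk⟩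
  have h2 : N j = N j1 := le_antisymm (hN hj) h1
  exact congrArg OrderDual.toDual h2.symm

end Groth.Agent.Helper8.Melk
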