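import Groth.Agent.Lib.Helper8.LC33
import Groth.Agent.Lib.Helper8.Melk1

set_option autoImplicit false
universe u
open CategoryTheory CategoryTheory.Limits Opposite

namespace Groth.Agent.Helper8.LC

open Abelian localCohomology LocCoh

variable {A : Type u} [CommRing A] [IsNoetherianRing A] [IsLocalRing A]

lemma isArtinianRing_quotient_pow (k : ℕ) :
    IsArtinianRing (A ⧸ (IsLocalRing.maximalIdeal A) ^ (k + 1)) := by
  rw [isArtinianRing_iff_krullDimLE_zero, Ring.krullDimLE_zero_iff]
  intro P hP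
  have hsurj : Function.Surjective (Ideal.Quotient.mk ((IsLocalRing.maximalIdeal A) ^ (k + 1))) :=
    Ideal.Quotient.mk_surjective
  have hcomap : (P.comap (Ideal.Quotient.mk _)).IsPrime := Ideal.comap_isPrime _ P
  have hle : (IsLocalRing.maximalIdeal A) ^ (k + 1) ≤ P.comap (Ideal.Quotient.mk _) := by
    intro a ha
    rw [Ideal.mem_comap, Ideal.Quotient.eq_zero_iff_mem.mpr ha]
    exact P.zero_mem
  have hm : IsLocalRing.maximalIdeal A ≤ P.comap (Ideal.Quotient.mk _) :=
    hcomap.le_of_pow_le hle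
  have heq : P.comap (Ideal.Quotient.mk _) = IsLocalRing.maximalIdeal A :=
    ((IsLocalRing.maximalIdeal.isMaximal A).eq_of_le hcomap.ne_top hm).symm
  have hmax : (P.comap (Ideal.Quotient.mk ((IsLocalRing.maximalIdeal A) ^ (k + 1)))).IsMaximal := by
    rw [heq]; exact IsLocalRing.maximalIdeal.isMaximal A
  rcases Ideal.map_eq_top_or_isMaximal_of_surjective _ hsurj hmax with h | h
  · rw [Ideal.map_comap_of_surjective _ hsurj] at h
    exact absurd h hP.ne_top
  · rwa [Ideal.map_comap_of_surjective _ hsurj] at h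

/-- a finite module which is torsion for the maximal ideal is Artinian. -/
lemma isArtinian_of_finite_of_isPowerTorsion (N : Type u) [AddCommGroup N] [Module A N]
    [Module.Finite A N] (hN : IsPowerTorsion (IsLocalRing.maximalIdeal A) N) :
    IsArtinian A N := by
  obtain ⟨k, hk⟩ := exists_pow_le_annihilator (IsLocalRing.maximalIdeal A) N hN
  have htors : Module.IsTorsionBySet A N
      (((IsLocalRing.maximalIdeal A) ^ (k + 1) : Ideal A) : Set A) := by
    intro x a
    exact Module.mem_annihilator.mp (hk (Ideal.pow_le_pow_right (Nat.le_succ k) a.2)) x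
  letI : Module (A ⧸ (IsLocalRing.maximalIdeal A) ^ (k + 1)) N := htors.module
  haveI : IsScalarTower A (A ⧸ (IsLocalRing.maximalIdeal A) ^ (k + 1)) N := htors.isScalarTower
  haveI := isArtinianRing_quotient_pow (A := A) k
  haveI : Module.Finite (A ⧸ (IsLocalRing.maximalIdeal A) ^ (k + 1)) N :=
    Module.Finite.of_restrictScalars_finite A _ N
  haveI : IsArtinian (A ⧸ (IsLocalRing.maximalIdeal A) ^ (k + 1)) N := inferInstance
  exact isArtinian_of_surjective_algebraMap (S := A)
    (R := A ⧸ (IsLocalRing.maximalIdeal A) ^ (k + 1)) (M := N) Ideal.Quotient.mk_surjective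

theorem isArtinian_H_maximalIdeal (i : ℕ) :
    ∀ (M : Type u) [AddCommGroup M] [Module A M] [Module.Finite A M],
      IsArtinian A (H (IsLocalRing.maximalIdeal A) i M) := by
  induction i with
  | zero =>
    intro M _ _ _
    haveI : Module.Finite A (H (IsLocalRing.maximalIdeal A) 0 M) := finite_h0 _ M
    exact isArtinian_of_finite_of_isPowerTorsion _
      (fun x => isPowerTorsion (IsLocalRing.maximalIdeal A) 0 (ModuleCat.of A M) x)
  | succ i ih =>
    intro M _ _ _
    let 𝔪 := IsLocalRing.maximalIdeal A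
    let T := DRing.torsionSub 𝔪 M
    have hbij := bijective_map_mkQ_torsionSub 𝔪 M (i + 1) (Nat.succ_pos i)
    suffices h : IsArtinian A (H 𝔪 (i + 1) (M ⧸ T)) from
      isArtinian_of_linearEquiv (LinearEquiv.ofBijective _ hbij).symm
    have hM' : DRing.torsionSub 𝔪 (M ⧸ T) = ⊥ := torsionSub_quotient_torsionSub_eq_bot 𝔪 M
    obtain ⟨x, hx, hreg⟩ := exists_isSMulRegular_mem_pow 𝔪 (M ⧸ T) hM' 1
    rw [pow_one] at hx
    have hS := IsSMulRegular.smulShortComplex_shortExact (M := ModuleCat.of A (M ⧸ T)) hreg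
    haveI : IsArtinian A ((localCohomology 𝔪 i).obj
        (ModuleCat.smulShortComplex (ModuleCat.of A (M ⧸ T)) x).X₃) :=
      ih (QuotSMulTop x (M ⧸ T))
    change IsArtinian A ((localCohomology 𝔪 (i + 1)).obj
      (ModuleCat.smulShortComplex (ModuleCat.of A (M ⧸ T)) x).X₁)
    apply Melk.isArtinian_of_isArtinian_torsionBy x
    · intro z
      obtain ⟨k, hk⟩ := isPowerTorsion 𝔪 (i + 1) _ z
      exact ⟨k, hk _ (Ideal.pow_mem_pow hx k)⟩
    · -- the `x`-torsion is the image of the connecting map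
      have hmem : ∀ y, δ 𝔪 i hS y ∈ Submodule.torsionBy A
          ((localCohomology 𝔪 (i + 1)).obj
            (ModuleCat.smulShortComplex (ModuleCat.of A (M ⧸ T)) x).X₁) x := by
        intro y
        apply (Submodule.mem_torsionBy_iff _ _).mpr
        have h1 := (exact_δ_f 𝔪 i hS (δ 𝔪 i hS y)).mpr ⟨y, rfl⟩
        exact (map_smul_id 𝔪 (i + 1) (ModuleCat.of A (M ⧸ T)) x _).symm.trans h1
      refine isArtinian_of_surjective _ (LinearMap.codRestrict _ (δ 𝔪 i hS) hmem) ?_
      rintro ⟨z, hz⟩
      have hz' : x • z = 0 := (Submodule.mem_torsionBy_iff _ _).mp hz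
      have h1 : ((localCohomology 𝔪 (i + 1)).map
          (ModuleCat.smulShortComplex (ModuleCat.of A (M ⧸ T)) x).f) z = 0 :=
        (map_smul_id 𝔪 (i + 1) (ModuleCat.of A (M ⧸ T)) x z).trans hz'
      obtain ⟨y, hy⟩ := (exact_δ_f 𝔪 i hS z).mp h1
      exact ⟨y, Subtype.ext hy⟩

end Groth.Agent.Helper8.LC
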