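import Groth.Agent.Lib.Helper8.LD19
import Groth.Agent.Lib.Helper8.LC34
import Groth.Agent.Lib.Helper8.ABS21

/-!
# Finite length of local cohomology (Faltings-type criterion)
-/

set_option autoImplicit false
universe u

namespace Groth.Agent.Helper8.LD

open CategoryTheory Abelian IsLocalRing LocCoh localCohomology InjHull
open Groth.Agent.Helper8.LC

section FL

variable {A : Type u} [CommRing A] [IsNoetherianRing A] [IsLocalRing A]

/-- an Artinian module over a Noetherian local ring has finite length iff it is killed by a power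
of the maximal ideal. -/
lemma isFiniteLength_iff_le_radical_annihilator (X : Type u) [AddCommGroup X] [Module A X]
    [IsArtinian A X] :
    IsFiniteLength A X ↔ maximalIdeal A ≤ (Module.annihilator A X).radical := by
  constructor
  · intro h
    have hN : IsNoetherian A X := (isFiniteLength_iff_isNoetherian_isArtinian.mp h).1
    have hpt : IsPowerTorsion (maximalIdeal A) X :=
      Groth.Agent.Helper1.MatlisL.isPowerTorsion_of_isArtinian X
    obtain ⟨k, hk⟩ := exists_pow_le_annihilator (maximalIdeal A) X hpt
    intro a ha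
    exact ⟨k, hk (Ideal.pow_mem_pow ha k)⟩
  · intro h
    obtain ⟨k, hk⟩ := Ideal.exists_pow_le_of_le_radical_of_fg h
      (IsNoetherian.noetherian (maximalIdeal A))
    have htors : Module.IsTorsionBySet A X
        (((maximalIdeal A) ^ (k + 1) : Ideal A) : Set A) := by
      intro x a
      exact Module.mem_annihilator.mp (hk (Ideal.pow_le_pow_right (Nat.le_succ k) a.2)) x
    letI : Module (A ⧸ (maximalIdeal A) ^ (k + 1)) X := htors.module
    haveI : IsScalarTower A (A ⧸ (maximalIdeal A) ^ (k + 1)) X := htors.isScalarTower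
    haveI hart : IsArtinianRing (A ⧸ (maximalIdeal A) ^ (k + 1)) :=
      isArtinianRing_quotient_pow (A := A) k
    have hartX : IsArtinian (A ⧸ (maximalIdeal A) ^ (k + 1)) X :=
      isArtinian_of_tower A (inferInstance : IsArtinian A X)
    haveI : Module.Finite (A ⧸ (maximalIdeal A) ^ (k + 1)) X :=
      ((IsArtinianRing.tfae (R := A ⧸ (maximalIdeal A) ^ (k + 1)) (M := X)).out 2 0).mp hartX
    haveI : Module.Finite A X := Module.Finite.trans (A ⧸ (maximalIdeal A) ^ (k + 1)) X
    exact isFiniteLength_iff_isNoetherian_isArtinian.mpr ⟨inferInstance, inferInstance⟩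

end FL

/-- **S2934.** -/
theorem isFiniteLength_H_iff (R : Type u) [CommRing R] [IsGorensteinLocalRing R] (A : Type u)
    [CommRing A] [IsLocalRing A] [IsNoetherianRing A] (π : R →+* A)
    (hπ : Function.Surjective π) (M : Type u) [AddCommGroup M] [Module A M] [Module.Finite A M]
    (i : ℕ) :
    IsFiniteLength A (H (maximalIdeal A) i M) ↔
      ∀ p : PrimeSpectrum A, p.asIdeal ≠ maximalIdeal A → ∀ (e j : ℕ),
        ringKrullDim (A ⧸ p.asIdeal) = e → j + e = i →
          Subsingleton (H (maximalIdeal (Localization.AtPrime p.asIdeal)) j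
            (LocalizedModule p.asIdeal.primeCompl M)) := by
  haveI : IsArtinian A (H (maximalIdeal A) i M) := isArtinian_H_maximalIdeal (A := A) i M
  rw [isFiniteLength_iff_le_radical_annihilator,
    le_radical_annihilator_H_iff A R π hπ M (maximalIdeal A) i]
  constructor
  · intro h p hp e j he hj
    apply h p.asIdeal
    · intro hle
      exact hp ((maximalIdeal.isMaximal A).eq_of_le p.2.ne_top hle).symm
    · rw [he]
      exact_mod_cast hj
  · intro h p hp hmp j hj
    have hpne : p ≠ ⊤ := hp.ne_top
    have hnt : Nontrivial (A ⧸ p) := Ideal.Quotient.nontrivial_iff.mpr hpne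
    obtain ⟨e, he⟩ := Groth.Agent.Helper8.ExtLoc.exists_nat_eq (ringKrullDim (A ⧸ p))
      ringKrullDim_nonneg_of_nontrivial
      (lt_of_le_of_lt (ringKrullDim_quotient_le p) ringKrullDim_lt_top)
    apply h ⟨p, hp⟩ (fun heq => hmp heq.ge) e j he
    rw [he] at hj
    exact_mod_cast hj

end Groth.Agent.Helper8.LD
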