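import Mathlib
import Groth.Agent.Lib.Helper8.KE1
import Groth.Agent.Lib.Helper8.LD20

/-!
# Koszul Euler characteristic, part 2: finiteness of Koszul homology
-/

namespace Groth.Agent.Helper8.KoszulLib

open CategoryTheory CategoryTheory.Limits CochainComplex CohIII
open scoped Pointwise

universe u

variable {A : Type u} [CommRing A]

/-- The terms of the Koszul complex of a finite module are finite. -/
theorem finite_koszulCx_X (M : ModuleCat.{u} A) [Module.Finite A M] :
    ∀ (l : List A) (n : ℤ), Module.Finite A ((koszulCx M l).X n)
  | [], n => by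
    by_cases hn : n = 0
    · subst hn
      exact Module.Finite.equiv
        (HomologicalComplex.singleObjXSelf (ComplexShape.up ℤ) 0 M).symm.toLinearEquiv
    · have hz : IsZero ((koszulCx M []).X n) :=
        HomologicalComplex.isZero_single_obj_X (ComplexShape.up ℤ) 0 M n hn
      have : Subsingleton ((koszulCx M []).X n) := ModuleCat.subsingleton_of_isZero hz
      infer_instance
  | f :: l, n => by
    have h1 := finite_koszulCx_X M l (n + 1)
    have h2 := finite_koszulCx_X M l n
    let φ := f • 𝟙 (koszulCx M l)
    let g : ((koszulCx M l).X (n + 1) × (koszulCx M l).X n) →ₗ[A] (mappingCone φ).X n :=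
      (inlE φ n).coprod (inrE φ n)
    have hg : Function.Surjective g := by
      intro z
      refine ⟨(fstE φ n z, sndE φ n z), ?_⟩
      simp only [g, LinearMap.coprod_apply]
      exact (eq_inlE_add_inrE φ n z).symm
    exact Module.Finite.of_surjective g hg

/-- Homology of a complex with finite terms over a Noetherian ring is finite. -/
theorem finite_homology [IsNoetherianRing A] (K : CochainComplex (ModuleCat.{u} A) ℤ) (n : ℤ)
    [Module.Finite A (K.X n)] : Module.Finite A (K.homology n) := by
  have h1 : Function.Injective (K.iCycles n).hom :=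
    (ModuleCat.mono_iff_injective _).mp inferInstance
  have h2 : Function.Surjective (K.homologyπ n).hom :=
    (ModuleCat.epi_iff_surjective _).mp inferInstance
  have : Module.Finite A (K.cycles n) := Module.Finite.of_injective _ h1
  exact Module.Finite.of_surjective _ h2

theorem finite_koszul_homology [IsNoetherianRing A] (M : ModuleCat.{u} A) [Module.Finite A M]
    (l : List A) (n : ℤ) : Module.Finite A ((koszulCx M l).homology n) := by
  have := finite_koszulCx_X M l n
  exact finite_homology _ n

/-- Elements annihilating `M` annihilate Koszul homology. -/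
theorem smul_homology_eq_zero_of_annihilator (M : ModuleCat.{u} A) (l : List A) (a : A)
    (ha : ∀ m : M, a • m = 0) (n : ℤ) (z : (koszulCx M l).homology n) : a • z = 0 := by
  have h0 : a • 𝟙 M = (0 : A) • 𝟙 M := by
    ext m
    simp [ha m]
  have h1 : a • 𝟙 (koszulCx M l) = 0 := by
    rw [← koszulMap_smul_id, h0, koszulMap_smul_id, zero_smul]
  have h2 := homologyMap_smul_id (koszulCx M l) a n
  rw [h1, HomologicalComplex.homologyMap_zero] at h2
  have h3 := congrArg (fun g => g.hom z) h2
  have h4 : (a • 𝟙 ((koszulCx M l).homology n) : _ ⟶ _).hom z = a • z := rfl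
  rw [← h4]
  exact h3.symm

section FL

variable [IsNoetherianRing A] [IsLocalRing A]

omit [IsNoetherianRing A] [IsLocalRing A] in
/-- `rad Ann (M/IM) = rad (I + Ann M)`: one inclusion. -/
theorem annihilator_quotient_le_radical (M : Type u) [AddCommGroup M] [Module A M]
    [Module.Finite A M] (I : Ideal A) :
    Module.annihilator A (M ⧸ I • (⊤ : Submodule A M)) ≤
      (I ⊔ Module.annihilator A M).radical := by
  have h1 := Module.support_quotient (R := A) (M := M) I
  rw [Module.support_eq_zeroLocus, Module.support_eq_zeroLocus, Set.inter_comm,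
    ← PrimeSpectrum.zeroLocus_sup] at h1
  have h2 := congrArg PrimeSpectrum.vanishingIdeal h1
  rw [PrimeSpectrum.vanishingIdeal_zeroLocus_eq_radical,
    PrimeSpectrum.vanishingIdeal_zeroLocus_eq_radical] at h2
  rw [← h2]
  exact Ideal.le_radical

/-- A finite module killed by `I` and by `Ann M`, where `M/IM` has finite length, has finite
length. -/
theorem isFiniteLength_of_smul_eq_zero (M : Type u) [AddCommGroup M] [Module A M]
    [Module.Finite A M] (I : Ideal A)
    (hfl : IsFiniteLength A (M ⧸ I • (⊤ : Submodule A M)))
    (N : Type u) [AddCommGroup N] [Module A N] [Module.Finite A N]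
    (h1 : ∀ a ∈ I, ∀ n : N, a • n = 0)
    (h2 : ∀ a : A, (∀ m : M, a • m = 0) → ∀ n : N, a • n = 0) :
    IsFiniteLength A N := by
  have hart : IsArtinian A (M ⧸ I • (⊤ : Submodule A M)) :=
    (isFiniteLength_iff_isNoetherian_isArtinian.mp hfl).2
  have hm := (Groth.Agent.Helper8.LD.isFiniteLength_iff_le_radical_annihilator
    (M ⧸ I • (⊤ : Submodule A M))).mp hfl
  have hle : I ⊔ Module.annihilator A M ≤ Module.annihilator A N := by
    refine sup_le ?_ ?_
    · intro a ha
      exact Module.mem_annihilator.mpr (h1 a ha)
    · intro a ha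
      exact Module.mem_annihilator.mpr (h2 a (Module.mem_annihilator.mp ha))
  have hm2 : IsLocalRing.maximalIdeal A ≤ (Module.annihilator A N).radical := by
    refine hm.trans ?_
    refine (Ideal.radical_mono (annihilator_quotient_le_radical M I)).trans ?_
    rw [Ideal.radical_idem]
    exact Ideal.radical_mono hle
  obtain ⟨k, hk⟩ := Ideal.exists_pow_le_of_le_radical_of_fg hm2
    (IsNoetherian.noetherian (IsLocalRing.maximalIdeal A))
  exact Groth.Agent.Helper8.LD.isFiniteLength_of_pow_smul_eq_zero N k
    (fun a ha n => Module.mem_annihilator.mp (hk ha) n)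

/-- Koszul homology has finite length when `M/(l)M` has. -/
theorem isFiniteLength_koszul_homology (M : Type u) [AddCommGroup M] [Module A M]
    [Module.Finite A M] (l : List A)
    (hfl : IsFiniteLength A (M ⧸ Ideal.ofList l • (⊤ : Submodule A M))) (n : ℤ) :
    IsFiniteLength A ((koszulCx (ModuleCat.of A M) l).homology n) := by
  have : Module.Finite A (ModuleCat.of A M) := ‹Module.Finite A M›
  have hfin := finite_koszul_homology (ModuleCat.of A M) l n
  refine isFiniteLength_of_smul_eq_zero M (Ideal.ofList l) hfl _ ?_ ?_
  · intro a ha z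
    exact smul_homology_eq_zero (ModuleCat.of A M) l a ha n z
  · intro a ha z
    exact smul_homology_eq_zero_of_annihilator (ModuleCat.of A M) l a ha n z

end FL

end Groth.Agent.Helper8.KoszulLib
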