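import Mathlib
import Groth.Prelude
import Groth.Agent.Lib.Helper8.Fib5
import Groth.Agent.Lib.Helper8.CplMap3

/-!
# Cohen–Macaulay rings ascend along flat homomorphisms with Cohen–Macaulay fibres; polynomial rings
-/

set_option autoImplicit false
universe u

namespace Groth.Agent.Helper8.CMPoly

open LocCoh TensorProduct

/-- Ascent of the Cohen–Macaulay property. -/
theorem isCohenMacaulayRing_of_flat_of_fibres (A B : Type u) [CommRing A] [CommRing B]
    [IsNoetherianRing B] [Algebra A B] [Module.Flat A B] (hA : IsCohenMacaulayRing A)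
    (hfib : ∀ (p : Ideal A) [p.IsPrime], IsCohenMacaulayRing (p.Fiber B)) :
    IsCohenMacaulayRing B := by
  haveI := hA
  haveI : IsNoetherianRing A := inferInstance
  rw [Groth.Agent.Helper8.Fib.isCohenMacaulayRing_iff_forall_hasSk]
  intro k
  refine Groth.Agent.Helper8.Fib.hasSk_of_flat_of_fibres k
    ((Groth.Agent.Helper8.Fib.isCohenMacaulayRing_iff_forall_hasSk A).mp hA k) fun p _ => ?_
  haveI := hfib p
  haveI : IsNoetherianRing (p.Fiber B) := inferInstance
  exact (Groth.Agent.Helper8.Fib.isCohenMacaulayRing_iff_forall_hasSk _).mp (hfib p) k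

/-- **S2092.** -/
theorem isCohenMacaulayRing_mvPolynomial (R : Type u) [CommRing R] (h : IsCohenMacaulayRing R)
    (n : ℕ) : IsCohenMacaulayRing (MvPolynomial (Fin n) R) := by
  haveI := h
  haveI : IsNoetherianRing R := inferInstance
  refine isCohenMacaulayRing_of_flat_of_fibres R (MvPolynomial (Fin n) R) h fun p hp => ?_
  haveI : IsRegularRing (MvPolynomial (Fin n) p.ResidueField) := inferInstance
  haveI : IsRegularRing (p.Fiber (MvPolynomial (Fin n) R)) :=
    IsRegularRing.of_ringEquiv
      (MvPolynomial.algebraTensorAlgEquiv R p.ResidueField (σ := Fin n)).symm.toRingEquiv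
  exact Groth.Agent.Helper8.CplMap.isCohenMacaulayRing_of_isRegularRing _

end Groth.Agent.Helper8.CMPoly
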