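import Mathlib
import Groth.Prelude
import Groth.Agent.Lib.Helper8.GorFlat5
import Groth.Agent.Lib.Helper8.Sk1

/-!
# Gorenstein rings: polynomial rings and quotients by regular elements
-/

set_option autoImplicit false
universe u

namespace Groth.Agent.Helper8.GorFlat

open IsLocalRing LocCoh Polynomial

/-- The polynomial ring over a Gorenstein ring is Gorenstein. -/
theorem isGorensteinRing_polynomial (R : Type u) [CommRing R] (h : IsGorensteinRing R) :
    IsGorensteinRing R[X] := by
  haveI := h
  haveI : IsNoetherianRing R := inferInstance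
  refine isGorensteinRing_of_flat_of_fibres R R[X] h fun p hp => ?_
  haveI : IsRegularRing (p.ResidueField)[X] := inferInstance
  haveI : IsRegularRing (p.Fiber R[X]) :=
    IsRegularRing.of_ringEquiv (polyEquivTensor R p.ResidueField).toRingEquiv
  exact isGorensteinRing_of_isRegularRing _

/-- The quotient of a Gorenstein ring by a regular element is Gorenstein. -/
theorem isGorensteinRing_quotient' (R : Type u) [CommRing R] (h : IsGorensteinRing R) (t : R)
    (hreg : IsSMulRegular R t) (I : Ideal R) (hI : I = Ideal.span {t}) :
    IsGorensteinRing (R ⧸ I) := by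
  haveI := h
  haveI : IsNoetherianRing R := inferInstance
  refine { isGorensteinLocalRing_localization := fun Q' hQ' => ?_ }
  set q := Q'.comap (Ideal.Quotient.mk I) with hq
  haveI : q.IsPrime := Ideal.comap_isPrime _ _
  have hIq : I ≤ q := by
    intro x hx
    rw [hq, Ideal.mem_comap, Ideal.Quotient.eq_zero_iff_mem.mpr hx]
    exact Q'.zero_mem
  have htq : t ∈ q := hIq (hI ▸ Ideal.mem_span_singleton_self t)
  have hmap : q.map (Ideal.Quotient.mk I) = Q' :=
    Ideal.map_comap_of_surjective _ Ideal.Quotient.mk_surjective Q'
  have key : ∀ (P' : Ideal (R ⧸ I)) [P'.IsPrime], P' = Q' →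
      IsGorensteinLocalRing (Localization.AtPrime P') →
      IsGorensteinLocalRing (Localization.AtPrime Q') := by
    intro P' _ h hG
    subst h
    exact hG
  haveI hQ : (q.map (Ideal.Quotient.mk I)).IsPrime := by rw [hmap]; exact hQ'
  refine key _ hmap ?_
  set S := Localization.AtPrime q with hS
  set x := algebraMap R S t with hxdef
  have hx : x ∈ maximalIdeal S := (IsLocalization.AtPrime.to_map_mem_maximal_iff S q t).mpr htq
  have hxreg : IsSMulRegular S x := IsSMulRegular.of_isLocalization S q.primeCompl hreg
  have hJ : I.map (algebraMap R S) = Ideal.span {x} := by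
    rw [hI, Ideal.map_span, Set.image_singleton]
  have hG : IsGorensteinLocalRing S := h.isGorensteinLocalRing_localization q
  have h1 : IsGorensteinLocalRing (S ⧸ Ideal.span {x}) :=
    (LD.isGorensteinLocalRing_iff_quotient S x hx hxreg).mp hG
  rw [← hJ] at h1
  exact isGorensteinLocalRing_of_ringEquiv (Sk.locQuotEquiv R I q hIq).symm h1

theorem isGorensteinRing_quotient (R : Type u) [CommRing R] (h : IsGorensteinRing R) (t : R)
    (hreg : IsSMulRegular R t) : IsGorensteinRing (R ⧸ Ideal.span {t}) :=
  isGorensteinRing_quotient' R h t hreg _ rfl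

end Groth.Agent.Helper8.GorFlat
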