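import Mathlib
import Groth.Agent.Lib.Helper8.KE2

/-!
# Koszul Euler characteristic, part 3: lengths along long exact sequences
-/

namespace Groth.Agent.Helper8.KoszulLib

universe u

section len

variable {A : Type*} [CommRing A]
variable {X Y Z : Type*} [AddCommGroup X] [Module A X] [AddCommGroup Y] [Module A Y]
  [AddCommGroup Z] [Module A Z]

/-- Length as a natural number (zero for infinite length). -/
noncomputable def len (A : Type*) [CommRing A] (X : Type*) [AddCommGroup X] [Module A X] : ℕ :=
  (Module.length A X).toNat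

theorem coe_len (h : IsFiniteLength A X) : (len A X : ℕ∞) = Module.length A X :=
  ENat.natCast_toNat (Module.length_ne_top_iff.mpr h)

theorem len_eq_zero_of_subsingleton [Subsingleton X] : len A X = 0 := by
  unfold len
  rw [Module.length_eq_zero]
  rfl

theorem len_congr (e : X ≃ₗ[A] Y) : len A X = len A Y := by
  unfold len
  rw [e.length_eq]

theorem length_eq_ker_add_range (f : X →ₗ[A] Y) :
    Module.length A X =
      Module.length A (LinearMap.ker f) + Module.length A (LinearMap.range f) :=
  Module.length_eq_add_of_exact (LinearMap.ker f).subtype f.rangeRestrict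
    (Submodule.subtype_injective _) f.surjective_rangeRestrict (by
      intro x
      constructor
      · intro hx
        refine ⟨⟨x, ?_⟩, rfl⟩
        have := congrArg Subtype.val hx
        simpa using this
      · rintro ⟨y, rfl⟩
        ext
        exact y.2)

theorem length_eq_range_add_range (f : X →ₗ[A] Y) (g : Y →ₗ[A] Z) (h : Function.Exact f g) :
    Module.length A Y =
      Module.length A (LinearMap.range f) + Module.length A (LinearMap.range g) := by
  rw [length_eq_ker_add_range g, LinearMap.exact_iff.mp h]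

theorem len_eq_range_add_range (f : X →ₗ[A] Y) (g : Y →ₗ[A] Z) (h : Function.Exact f g)
    (hY : IsFiniteLength A Y) :
    len A Y = len A (LinearMap.range f) + len A (LinearMap.range g) := by
  have h1 := length_eq_range_add_range f g h
  have h2 : Module.length A Y ≠ ⊤ := Module.length_ne_top_iff.mpr hY
  rw [h1] at h2
  unfold len
  rw [h1, ENat.toNat_add (ne_top_of_le_ne_top h2 le_self_add)
    (ne_top_of_le_ne_top h2 le_add_self)]

theorem len_range_eq_zero_left [Subsingleton X] (f : X →ₗ[A] Y) :
    len A (LinearMap.range f) = 0 := by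
  have : Subsingleton (LinearMap.range f) := by
    constructor
    rintro ⟨_, ⟨x, rfl⟩⟩ ⟨_, ⟨y, rfl⟩⟩
    rw [Subsingleton.elim x y]
  exact len_eq_zero_of_subsingleton

theorem len_range_eq_zero_right [Subsingleton Y] (f : X →ₗ[A] Y) :
    len A (LinearMap.range f) = 0 := by
  have : Subsingleton (LinearMap.range f) := by
    constructor
    rintro ⟨x, _⟩ ⟨y, _⟩
    exact Subtype.ext (Subsingleton.elim x y)
  exact len_eq_zero_of_subsingleton

end len

section les

variable {A : Type*} [CommRing A]

/-- The sign `(-1)^i` as an integer. -/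
def sgn (i : ℤ) : ℤ := ((i.negOnePow : ℤˣ) : ℤ)

theorem sgn_succ (i : ℤ) : sgn (i + 1) = - sgn i := by
  unfold sgn
  rw [Int.negOnePow_succ]
  simp

theorem hasFiniteSupport_of_bounded (F : ℤ → ℤ) (a b : ℤ) (h : ∀ i, i < a ∨ b < i → F i = 0) :
    Function.HasFiniteSupport F := by
  refine (Set.finite_Icc a b).subset ?_
  intro i hi
  by_contra hn
  apply hi
  apply h
  simp only [Set.mem_Icc, not_and_or, not_le] at hn
  exact hn

theorem finsum_sgn_shift (F : ℤ → ℤ) :
    ∑ᶠ i, sgn i * F i = - ∑ᶠ i, sgn i * F (i + 1) := by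
  rw [← finsum_comp_equiv (Equiv.addRight (1 : ℤ)) (f := fun i => sgn i * F i),
    ← finsum_neg_distrib]
  refine finsum_congr fun i => ?_
  simp only [Equiv.coe_addRight, sgn_succ]
  ring

/-- Euler characteristic along a long exact sequence. -/
theorem euler_les (X Y Z : ℤ → Type u) [∀ i, AddCommGroup (X i)] [∀ i, Module A (X i)]
    [∀ i, AddCommGroup (Y i)] [∀ i, Module A (Y i)] [∀ i, AddCommGroup (Z i)]
    [∀ i, Module A (Z i)]
    (f : ∀ i, X i →ₗ[A] Y i) (g : ∀ i, Y i →ₗ[A] Z i) (δ : ∀ i, Z i →ₗ[A] X (i + 1))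
    (h1 : ∀ i, Function.Exact (f i) (g i)) (h2 : ∀ i, Function.Exact (g i) (δ i))
    (h3 : ∀ i, Function.Exact (δ i) (f (i + 1)))
    (hX : ∀ i, IsFiniteLength A (X i)) (hY : ∀ i, IsFiniteLength A (Y i))
    (hZ : ∀ i, IsFiniteLength A (Z i)) (a b : ℤ)
    (hXs : ∀ i, i < a ∨ b < i → Subsingleton (X i))
    (hYs : ∀ i, i < a ∨ b < i → Subsingleton (Y i))
    (hZs : ∀ i, i < a ∨ b < i → Subsingleton (Z i)) :
    ∑ᶠ i, sgn i * (len A (Y i) : ℤ) =
      ∑ᶠ i, sgn i * (len A (X i) : ℤ) + ∑ᶠ i, sgn i * (len A (Z i) : ℤ) := by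
  set P : ℤ → ℤ := fun i => (len A (LinearMap.range (f i)) : ℤ) with hP
  set Q : ℤ → ℤ := fun i => (len A (LinearMap.range (g i)) : ℤ) with hQ
  set R : ℤ → ℤ := fun i => (len A (LinearMap.range (δ i)) : ℤ) with hR
  have eY : ∀ i, (len A (Y i) : ℤ) = P i + Q i := fun i => by
    rw [len_eq_range_add_range (f i) (g i) (h1 i) (hY i)]; push_cast; rfl
  have eZ : ∀ i, (len A (Z i) : ℤ) = Q i + R i := fun i => by
    rw [len_eq_range_add_range (g i) (δ i) (h2 i) (hZ i)]; push_cast; rfl
  have eX : ∀ i, (len A (X (i + 1)) : ℤ) = R i + P (i + 1) := fun i => by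
    rw [len_eq_range_add_range (δ i) (f (i + 1)) (h3 i) (hX (i + 1))]; push_cast; rfl
  have sP : Function.HasFiniteSupport (fun i => sgn i * P i) :=
    hasFiniteSupport_of_bounded _ a b (fun i hi => by
      have := hXs i hi
      simp only [hP, len_range_eq_zero_left, Nat.cast_zero, mul_zero])
  have sQ : Function.HasFiniteSupport (fun i => sgn i * Q i) :=
    hasFiniteSupport_of_bounded _ a b (fun i hi => by
      have := hYs i hi
      simp only [hQ, len_range_eq_zero_left, Nat.cast_zero, mul_zero])
  have sR : Function.HasFiniteSupport (fun i => sgn i * R i) :=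
    hasFiniteSupport_of_bounded _ a b (fun i hi => by
      have := hZs i hi
      simp only [hR, len_range_eq_zero_left, Nat.cast_zero, mul_zero])
  have sP' : Function.HasFiniteSupport (fun i => sgn i * P (i + 1)) :=
    hasFiniteSupport_of_bounded _ (a - 1) (b - 1) (fun i hi => by
      have := hXs (i + 1) (by omega)
      simp only [hP, len_range_eq_zero_left, Nat.cast_zero, mul_zero])
  have e1 : ∑ᶠ i, sgn i * (len A (Y i) : ℤ) =
      ∑ᶠ i, sgn i * P i + ∑ᶠ i, sgn i * Q i := by
    rw [← finsum_add_distrib sP sQ]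
    exact finsum_congr fun i => by rw [eY]; ring
  have e2 : ∑ᶠ i, sgn i * (len A (Z i) : ℤ) =
      ∑ᶠ i, sgn i * Q i + ∑ᶠ i, sgn i * R i := by
    rw [← finsum_add_distrib sQ sR]
    exact finsum_congr fun i => by rw [eZ]; ring
  have e3 : ∑ᶠ i, sgn i * (len A (X i) : ℤ) =
      - ∑ᶠ i, sgn i * R i + ∑ᶠ i, sgn i * P i := by
    rw [finsum_sgn_shift (fun i => (len A (X i) : ℤ)), finsum_sgn_shift P,
      ← neg_add, ← finsum_add_distrib sR sP']
    congr 1
    exact finsum_congr fun i => by rw [eX]; ring
  rw [e1, e2, e3]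
  ring

end les

end Groth.Agent.Helper8.KoszulLib
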