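import Mathlib
import Groth.Agent.Lib.Helper8.KE3

/-!
# Koszul Euler characteristic, part 4: kernel–cokernel lengths of a composite
-/

namespace Groth.Agent.Helper8.KoszulLib

universe u

section kc

variable {A : Type*} [CommRing A] {X : Type*} [AddCommGroup X] [Module A X]

/-- Kernel–cokernel identity for a composite `f ∘ g` of endomorphisms, in `ℕ∞`. -/
theorem length_ker_coker_comp (f g : X →ₗ[A] X) :
    Module.length A (LinearMap.ker (f ∘ₗ g)) + Module.length A (X ⧸ LinearMap.range f) +
        Module.length A (X ⧸ LinearMap.range g) =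
      Module.length A (LinearMap.ker f) + Module.length A (LinearMap.ker g) +
        Module.length A (X ⧸ LinearMap.range (f ∘ₗ g)) ∧
    Module.length A (LinearMap.ker (f ∘ₗ g)) ≤
      Module.length A (LinearMap.ker f) + Module.length A (LinearMap.ker g) ∧
    Module.length A (X ⧸ LinearMap.range (f ∘ₗ g)) ≤
      Module.length A (X ⧸ LinearMap.range f) + Module.length A (X ⧸ LinearMap.range g) := by
  have hkg : LinearMap.ker g ≤ LinearMap.ker (f ∘ₗ g) := by
    intro x hx
    rw [LinearMap.mem_ker] at hx ⊢
    rw [LinearMap.comp_apply, hx, map_zero]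
  -- the maps of the six-term sequence
  let ι₁ : LinearMap.ker g →ₗ[A] LinearMap.ker (f ∘ₗ g) := Submodule.inclusion hkg
  let γ : LinearMap.ker (f ∘ₗ g) →ₗ[A] LinearMap.ker f :=
    LinearMap.codRestrict (LinearMap.ker f) (g ∘ₗ (LinearMap.ker (f ∘ₗ g)).subtype) (by
      intro x
      have := x.2
      rw [LinearMap.mem_ker] at this ⊢
      exact this)
  let π : LinearMap.ker f →ₗ[A] X ⧸ LinearMap.range g :=
    (LinearMap.range g).mkQ ∘ₗ (LinearMap.ker f).subtype
  let fb : (X ⧸ LinearMap.range g) →ₗ[A] X ⧸ LinearMap.range (f ∘ₗ g) :=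
    Submodule.mapQ (LinearMap.range g) (LinearMap.range (f ∘ₗ g)) f (by
      rintro _ ⟨x, rfl⟩
      exact ⟨x, rfl⟩)
  let q : (X ⧸ LinearMap.range (f ∘ₗ g)) →ₗ[A] X ⧸ LinearMap.range f :=
    Submodule.mapQ (LinearMap.range (f ∘ₗ g)) (LinearMap.range f) LinearMap.id (by
      rintro _ ⟨x, rfl⟩
      exact ⟨g x, rfl⟩)
  have hι₁ : Function.Injective ι₁ := Submodule.inclusion_injective hkg
  have hq : Function.Surjective q := by
    intro y
    obtain ⟨x, rfl⟩ := Submodule.Quotient.mk_surjective _ y
    exact ⟨Submodule.Quotient.mk x, rfl⟩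
  have e1 : Function.Exact ι₁ γ := by
    intro x
    constructor
    · intro hx
      have h0 : g x.1 = 0 := congrArg Subtype.val hx
      exact ⟨⟨x.1, h0⟩, Subtype.ext rfl⟩
    · rintro ⟨y, rfl⟩
      exact Subtype.ext y.2
  have e2 : Function.Exact γ π := by
    intro z
    constructor
    · intro hz
      have h0 : z.1 ∈ LinearMap.range g := (Submodule.Quotient.mk_eq_zero _).mp hz
      obtain ⟨x, hx⟩ := h0
      have hxk : x ∈ LinearMap.ker (f ∘ₗ g) := by
        rw [LinearMap.mem_ker, LinearMap.comp_apply, hx]
        exact z.2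
      exact ⟨⟨x, hxk⟩, Subtype.ext hx⟩
    · rintro ⟨x, rfl⟩
      exact (Submodule.Quotient.mk_eq_zero _).mpr ⟨x.1, rfl⟩
  have e3 : Function.Exact π fb := by
    intro y
    obtain ⟨x, rfl⟩ := Submodule.Quotient.mk_surjective _ y
    constructor
    · intro hy
      have h0 : f x ∈ LinearMap.range (f ∘ₗ g) := (Submodule.Quotient.mk_eq_zero _).mp hy
      obtain ⟨w, hw⟩ := h0
      have hk : x - g w ∈ LinearMap.ker f := by
        rw [LinearMap.mem_ker, map_sub, ← hw, LinearMap.comp_apply, sub_self]
      refine ⟨⟨x - g w, hk⟩, ?_⟩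
      show Submodule.Quotient.mk (x - g w) = Submodule.Quotient.mk x
      rw [Submodule.Quotient.eq]
      exact ⟨-w, by simp⟩
    · rintro ⟨z, hz⟩
      have h0 : (Submodule.Quotient.mk z.1 : X ⧸ LinearMap.range g) = Submodule.Quotient.mk x := hz
      rw [← h0]
      show Submodule.Quotient.mk (f z.1) = 0
      rw [z.2, Submodule.Quotient.mk_zero]
  have e4 : Function.Exact fb q := by
    intro y
    obtain ⟨x, rfl⟩ := Submodule.Quotient.mk_surjective _ y
    constructor
    · intro hy
      have h0 : x ∈ LinearMap.range f := (Submodule.Quotient.mk_eq_zero _).mp hy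
      obtain ⟨w, rfl⟩ := h0
      exact ⟨Submodule.Quotient.mk w, rfl⟩
    · rintro ⟨z, hz⟩
      obtain ⟨w, rfl⟩ := Submodule.Quotient.mk_surjective _ z
      rw [← hz]
      show Submodule.Quotient.mk (f w) = 0
      exact (Submodule.Quotient.mk_eq_zero _).mpr ⟨w, rfl⟩
  -- lengths
  have l1 : Module.length A (LinearMap.ker g) = Module.length A (LinearMap.range ι₁) :=
    (LinearEquiv.ofInjective ι₁ hι₁).length_eq
  have l2 := length_eq_range_add_range ι₁ γ e1
  have l3 := length_eq_range_add_range γ π e2
  have l4 := length_eq_range_add_range π fb e3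
  have l5 := length_eq_range_add_range fb q e4
  have l6 : Module.length A (X ⧸ LinearMap.range f) = Module.length A (LinearMap.range q) := by
    rw [LinearMap.range_eq_top.mpr hq]
    exact (Module.length_top).symm
  refine ⟨?_, ?_, ?_⟩
  · rw [l2, l6, l4, l3, l1, l5]
    ring
  · rw [l2, l3, l1]
    calc Module.length A (LinearMap.range ι₁) + Module.length A (LinearMap.range γ)
        ≤ Module.length A (LinearMap.range ι₁) +
          (Module.length A (LinearMap.range γ) + Module.length A (LinearMap.range π)) := by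
          gcongr; exact le_self_add
      _ = _ := by ring
  · rw [l5, l6, l4]
    calc Module.length A (LinearMap.range fb) + Module.length A (LinearMap.range q)
        ≤ Module.length A (LinearMap.range q) +
          (Module.length A (LinearMap.range π) + Module.length A (LinearMap.range fb)) := by
          rw [add_comm]; gcongr; exact le_add_self
      _ = _ := by ring

end kc

end Groth.Agent.Helper8.KoszulLib
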