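import Mathlib
import Groth.Agent.Lib.Helper8.KE4

/-!
# Koszul Euler characteristic, part 5: Euler characteristic of a cone of a homothety
-/

namespace Groth.Agent.Helper8.KoszulLib

open CategoryTheory CategoryTheory.Limits CochainComplex CohIII

universe u

variable {A : Type u} [CommRing A]

/-- Multiplication by `a` as a linear endomorphism. -/
abbrev mulL (a : A) (X : Type*) [AddCommGroup X] [Module A X] : X →ₗ[A] X :=
  a • LinearMap.id

theorem mulL_mul (x y : A) (X : Type*) [AddCommGroup X] [Module A X] :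
    mulL (x * y) X = mulL x X ∘ₗ mulL y X := by
  ext m
  simp [mul_smul]

/-- Length of the homology of the cone of a homothety. -/
theorem length_cone_homology (K : CochainComplex (ModuleCat.{u} A) ℤ) (a : A) (n : ℤ) :
    Module.length A ((mappingCone (a • 𝟙 K)).homology n) =
      Module.length A (K.homology n ⧸ LinearMap.range (mulL a (K.homology n))) +
      Module.length A (LinearMap.ker (mulL a (K.homology (n + 1)))) := by
  obtain ⟨i, δ, h1, h2, h3⟩ := exists_exact_cone K a n (n + 1) rfl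
  rw [length_eq_range_add_range i δ h2]
  congr 1
  · rw [← i.quotKerEquivRange.length_eq, LinearMap.exact_iff.mp h1]
  · rw [LinearMap.exact_iff.mp h3]

/-- All homology modules have finite length. -/
def HFL (K : CochainComplex (ModuleCat.{u} A) ℤ) : Prop :=
  ∀ n, IsFiniteLength A (K.homology n)

/-- Homology is concentrated in `[lo, hi]`. -/
def HBdd (K : CochainComplex (ModuleCat.{u} A) ℤ) (lo hi : ℤ) : Prop :=
  ∀ n, n < lo ∨ hi < n → IsZero (K.homology n)

/-- The Euler characteristic of a complex. -/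
noncomputable def chiC (K : CochainComplex (ModuleCat.{u} A) ℤ) : ℤ :=
  ∑ᶠ i, sgn i * (len A (K.homology i) : ℤ)

/-- cokernel length of `a` on `H^n` -/
noncomputable def cE (K : CochainComplex (ModuleCat.{u} A) ℤ) (a : A) (n : ℤ) : ℕ :=
  len A (K.homology n ⧸ LinearMap.range (mulL a (K.homology n)))

/-- kernel length of `a` on `H^n` -/
noncomputable def kE (K : CochainComplex (ModuleCat.{u} A) ℤ) (a : A) (n : ℤ) : ℕ :=
  len A (LinearMap.ker (mulL a (K.homology n)))

theorem cE_eq_zero (K : CochainComplex (ModuleCat.{u} A) ℤ) (a : A) (n : ℤ)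
    (h : IsZero (K.homology n)) : cE K a n = 0 := by
  have := ModuleCat.subsingleton_of_isZero h
  exact len_eq_zero_of_subsingleton

theorem kE_eq_zero (K : CochainComplex (ModuleCat.{u} A) ℤ) (a : A) (n : ℤ)
    (h : IsZero (K.homology n)) : kE K a n = 0 := by
  have := ModuleCat.subsingleton_of_isZero h
  exact len_eq_zero_of_subsingleton

theorem length_parts_ne_top (K : CochainComplex (ModuleCat.{u} A) ℤ) (a : A)
    (h : HFL (mappingCone (a • 𝟙 K))) (n : ℤ) :
    Module.length A (K.homology n ⧸ LinearMap.range (mulL a (K.homology n))) ≠ ⊤ ∧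
      Module.length A (LinearMap.ker (mulL a (K.homology n))) ≠ ⊤ := by
  constructor
  · have h1 : Module.length A ((mappingCone (a • 𝟙 K)).homology n) ≠ ⊤ :=
      Module.length_ne_top_iff.mpr (h n)
    rw [length_cone_homology] at h1
    exact ne_top_of_le_ne_top h1 le_self_add
  · have h1 : Module.length A ((mappingCone (a • 𝟙 K)).homology (n - 1)) ≠ ⊤ :=
      Module.length_ne_top_iff.mpr (h (n - 1))
    rw [length_cone_homology] at h1
    have h2 := ne_top_of_le_ne_top h1 le_add_self
    have e : n - 1 + 1 = n := by ring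
    rw [e] at h2
    exact h2

theorem len_cone_homology (K : CochainComplex (ModuleCat.{u} A) ℤ) (a : A)
    (h : HFL (mappingCone (a • 𝟙 K))) (n : ℤ) :
    len A ((mappingCone (a • 𝟙 K)).homology n) = cE K a n + kE K a (n + 1) := by
  unfold len cE kE len
  rw [length_cone_homology, ENat.toNat_add (length_parts_ne_top K a h n).1
    (length_parts_ne_top K a h (n + 1)).2]

/-- Euler characteristic of the cone of a homothety. -/
theorem chiC_cone (K : CochainComplex (ModuleCat.{u} A) ℤ) (a : A)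
    (h : HFL (mappingCone (a • 𝟙 K))) (lo hi : ℤ) (hb : HBdd K lo hi) :
    chiC (mappingCone (a • 𝟙 K)) = ∑ᶠ n, sgn n * ((cE K a n : ℤ) - (kE K a n : ℤ)) := by
  have sc : Function.HasFiniteSupport (fun n => sgn n * (cE K a n : ℤ)) :=
    hasFiniteSupport_of_bounded _ lo hi (fun n hn => by
      simp only [cE_eq_zero K a n (hb n hn), Nat.cast_zero, mul_zero])
  have sk : Function.HasFiniteSupport (fun n => sgn n * (kE K a n : ℤ)) :=
    hasFiniteSupport_of_bounded _ lo hi (fun n hn => by
      simp only [kE_eq_zero K a n (hb n hn), Nat.cast_zero, mul_zero])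
  have sk' : Function.HasFiniteSupport (fun n => sgn n * (kE K a (n + 1) : ℤ)) :=
    hasFiniteSupport_of_bounded _ (lo - 1) (hi - 1) (fun n hn => by
      simp only [kE_eq_zero K a (n + 1) (hb (n + 1) (by omega)), Nat.cast_zero, mul_zero])
  unfold chiC
  have e1 : ∑ᶠ n, sgn n * (len A ((mappingCone (a • 𝟙 K)).homology n) : ℤ) =
      ∑ᶠ n, sgn n * (cE K a n : ℤ) + ∑ᶠ n, sgn n * (kE K a (n + 1) : ℤ) := by
    rw [← finsum_add_distrib sc sk']
    exact finsum_congr fun n => by rw [len_cone_homology K a h n]; push_cast; ring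
  have e2 : ∑ᶠ n, sgn n * ((cE K a n : ℤ) - (kE K a n : ℤ)) =
      ∑ᶠ n, sgn n * (cE K a n : ℤ) - ∑ᶠ n, sgn n * (kE K a n : ℤ) := by
    rw [← finsum_sub_distrib sc sk]
    exact finsum_congr fun n => by ring
  rw [e1, e2, finsum_sgn_shift (fun n => (kE K a n : ℤ))]
  ring

/-- Multiplicativity in the homothety: the cone of `xy` versus the cones of `x` and `y`. -/
theorem chiC_cone_mul (K : CochainComplex (ModuleCat.{u} A) ℤ) (x y : A)
    (hx : HFL (mappingCone (x • 𝟙 K))) (hy : HFL (mappingCone (y • 𝟙 K))) (lo hi : ℤ)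
    (hb : HBdd K lo hi) :
    HFL (mappingCone ((x * y) • 𝟙 K)) ∧
      chiC (mappingCone ((x * y) • 𝟙 K)) =
        chiC (mappingCone (x • 𝟙 K)) + chiC (mappingCone (y • 𝟙 K)) := by
  have key : ∀ n, Module.length A (K.homology n ⧸
        LinearMap.range (mulL (x * y) (K.homology n))) ≠ ⊤ ∧
      Module.length A (LinearMap.ker (mulL (x * y) (K.homology n))) ≠ ⊤ ∧
      ((cE K (x * y) n : ℤ) - (kE K (x * y) n : ℤ)) =
        ((cE K x n : ℤ) - (kE K x n : ℤ)) + ((cE K y n : ℤ) - (kE K y n : ℤ)) := by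
    intro n
    obtain ⟨hcx, hkx⟩ := length_parts_ne_top K x hx n
    obtain ⟨hcy, hky⟩ := length_parts_ne_top K y hy n
    obtain ⟨e, b1, b2⟩ := length_ker_coker_comp (mulL x (K.homology n)) (mulL y (K.homology n))
    rw [← mulL_mul] at e b1 b2
    have hk : Module.length A (LinearMap.ker (mulL (x * y) (K.homology n))) ≠ ⊤ :=
      ne_top_of_le_ne_top (WithTop.add_ne_top.mpr ⟨hkx, hky⟩) b1
    have hc : Module.length A (K.homology n ⧸
        LinearMap.range (mulL (x * y) (K.homology n))) ≠ ⊤ :=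
      ne_top_of_le_ne_top (WithTop.add_ne_top.mpr ⟨hcx, hcy⟩) b2
    refine ⟨hc, hk, ?_⟩
    obtain ⟨a1, ha1⟩ := ENat.ne_top_iff_exists.mp hk
    obtain ⟨a2, ha2⟩ := ENat.ne_top_iff_exists.mp hcx
    obtain ⟨a3, ha3⟩ := ENat.ne_top_iff_exists.mp hcy
    obtain ⟨a4, ha4⟩ := ENat.ne_top_iff_exists.mp hkx
    obtain ⟨a5, ha5⟩ := ENat.ne_top_iff_exists.mp hky
    obtain ⟨a6, ha6⟩ := ENat.ne_top_iff_exists.mp hc
    rw [← ha1, ← ha2, ← ha3, ← ha4, ← ha5, ← ha6] at e
    have e' : a1 + a2 + a3 = a4 + a5 + a6 := by exact_mod_cast e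
    unfold cE kE len
    rw [← ha1, ← ha2, ← ha3, ← ha4, ← ha5, ← ha6]
    simp only [ENat.toNat_natCast]
    omega
  have hxy : HFL (mappingCone ((x * y) • 𝟙 K)) := by
    intro n
    rw [← Module.length_ne_top_iff, length_cone_homology]
    exact WithTop.add_ne_top.mpr ⟨(key n).1, (key (n + 1)).2.1⟩
  refine ⟨hxy, ?_⟩
  rw [chiC_cone K (x * y) hxy lo hi hb, chiC_cone K x hx lo hi hb, chiC_cone K y hy lo hi hb]
  have sx : Function.HasFiniteSupport (fun n => sgn n * ((cE K x n : ℤ) - (kE K x n : ℤ))) :=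
    hasFiniteSupport_of_bounded _ lo hi (fun n hn => by
      simp only [cE_eq_zero K x n (hb n hn), kE_eq_zero K x n (hb n hn), Nat.cast_zero,
        sub_zero, mul_zero])
  have sy : Function.HasFiniteSupport (fun n => sgn n * ((cE K y n : ℤ) - (kE K y n : ℤ))) :=
    hasFiniteSupport_of_bounded _ lo hi (fun n hn => by
      simp only [cE_eq_zero K y n (hb n hn), kE_eq_zero K y n (hb n hn), Nat.cast_zero,
        sub_zero, mul_zero])
  rw [← finsum_add_distrib sx sy]
  exact finsum_congr fun n => by rw [(key n).2.2]; ring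

end Groth.Agent.Helper8.KoszulLib
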