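import Mathlib
import Groth.Agent.Lib.Helper8.KE5

/-!
# Koszul Euler characteristic, part 6: the Koszul complex
-/

namespace Groth.Agent.Helper8.KoszulLib

open CategoryTheory CategoryTheory.Limits CochainComplex CohIII
open scoped Pointwise

universe u

variable {A : Type u} [CommRing A]

/-- Euler characteristic of the Koszul complex `K(l; M)`. -/
noncomputable def chi (l : List A) (M : Type u) [AddCommGroup M] [Module A M] : ℤ :=
  chiC (koszulCx (ModuleCat.of A M) l)

/-- All Koszul homology modules have finite length. -/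
def KFL (l : List A) (M : Type u) [AddCommGroup M] [Module A M] : Prop :=
  HFL (koszulCx (ModuleCat.of A M) l)

theorem hbdd_koszulCx (M : ModuleCat.{u} A) (l : List A) :
    HBdd (koszulCx M l) (-(l.length : ℤ)) 0 := by
  intro n hn
  rcases hn with hn | hn
  · exact isZero_homology_of_lt M l n hn
  · exact isZero_homology_of_pos M l n hn

/-- The statement's Euler characteristic is `chi`. -/
theorem finsum_tensor_eq_chi (l : List A) (M : Type u) [AddCommGroup M] [Module A M] :
    (∑ᶠ i : ℤ, ((i.negOnePow : ℤˣ) : ℤ) * ((Module.length A ((DRing.tensorCx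
      (Koszul.koszul A l) (ModuleCat.of A M)).homology i)).toNat : ℤ)) = chi l M := by
  unfold chi chiC
  refine finsum_congr fun i => ?_
  rw [length_tensor_homology]
  rfl

theorem ofList_cons_eq (x : A) (l : List A) :
    Ideal.ofList (x :: l) = Ideal.span ({x} ∪ {a : A | a ∈ l}) := by
  unfold Ideal.ofList
  congr 1
  ext a
  simp

/-- Head multiplicativity of the Koszul Euler characteristic. -/
theorem chi_mul_head (x y : A) (l : List A) (M : Type u) [AddCommGroup M] [Module A M]
    (hx : KFL (x :: l) M) (hy : KFL (y :: l) M) :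
    KFL ((x * y) :: l) M ∧ chi ((x * y) :: l) M = chi (x :: l) M + chi (y :: l) M :=
  chiC_cone_mul (koszulCx (ModuleCat.of A M) l) x y hx hy _ _ (hbdd_koszulCx _ l)

section local_

variable [IsNoetherianRing A] [IsLocalRing A]

theorem kfl_of_quotient (l : List A) (M : Type u) [AddCommGroup M] [Module A M]
    [Module.Finite A M]
    (hfl : IsFiniteLength A (M ⧸ Ideal.ofList l • (⊤ : Submodule A M))) : KFL l M :=
  fun n => isFiniteLength_koszul_homology M l hfl n

/-- **S8151.** -/
theorem koszulEuler_mul_head (x y : A) (l : List A) (M : Type u) [AddCommGroup M] [Module A M]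
    [Module.Finite A M]
    (hx : IsFiniteLength A (M ⧸ (Ideal.span ({x} ∪ {a : A | a ∈ l}) • (⊤ : Submodule A M))))
    (hy : IsFiniteLength A (M ⧸ (Ideal.span ({y} ∪ {a : A | a ∈ l}) • (⊤ : Submodule A M)))) :
    (∑ᶠ i : ℤ, ((i.negOnePow : ℤˣ) : ℤ) * ((Module.length A ((DRing.tensorCx (Koszul.koszul A ((x * y) :: l)) (ModuleCat.of A M)).homology i)).toNat : ℤ)) =
      (∑ᶠ i : ℤ, ((i.negOnePow : ℤˣ) : ℤ) * ((Module.length A ((DRing.tensorCx (Koszul.koszul A (x :: l)) (ModuleCat.of A M)).homology i)).toNat : ℤ)) +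
      (∑ᶠ i : ℤ, ((i.negOnePow : ℤˣ) : ℤ) * ((Module.length A ((DRing.tensorCx (Koszul.koszul A (y :: l)) (ModuleCat.of A M)).homology i)).toNat : ℤ)) := by
  rw [finsum_tensor_eq_chi, finsum_tensor_eq_chi, finsum_tensor_eq_chi]
  rw [← ofList_cons_eq] at hx hy
  exact (chi_mul_head x y l M (kfl_of_quotient _ M hx) (kfl_of_quotient _ M hy)).2

end local_

end Groth.Agent.Helper8.KoszulLib
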