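import Mathlib
import Groth.Agent.Lib.Helper8.KE6

/-!
# Koszul Euler characteristic, part 7: additivity, torsion and regular elements
-/

namespace Groth.Agent.Helper8.KoszulLib

open CategoryTheory CategoryTheory.Limits CochainComplex CohIII
open scoped Pointwise

universe u

variable {A : Type u} [CommRing A]

/-- Additivity of the Koszul Euler characteristic along short exact sequences of modules. -/
theorem chi_additive (l : List A) {M₁ M₂ M₃ : Type u} [AddCommGroup M₁] [Module A M₁]
    [AddCommGroup M₂] [Module A M₂] [AddCommGroup M₃] [Module A M₃]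
    (g₁ : M₁ →ₗ[A] M₂) (g₂ : M₂ →ₗ[A] M₃) (hi : Function.Injective g₁)
    (hs : Function.Surjective g₂) (he : Function.Exact g₁ g₂)
    (h₁ : KFL l M₁) (h₂ : KFL l M₂) (h₃ : KFL l M₃) :
    chi l M₂ = chi l M₁ + chi l M₃ := by
  have hd := degreewiseSES_koszulMap (ModuleCat.ofHom g₁) (ModuleCat.ofHom g₂) hi hs he l
  obtain ⟨w, hS⟩ := hd.shortExact
  have b₁ := hbdd_koszulCx (ModuleCat.of A M₁) l
  have b₂ := hbdd_koszulCx (ModuleCat.of A M₂) l
  have b₃ := hbdd_koszulCx (ModuleCat.of A M₃) l
  exact euler_les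
    (fun i => (koszulCx (ModuleCat.of A M₁) l).homology i)
    (fun i => (koszulCx (ModuleCat.of A M₂) l).homology i)
    (fun i => (koszulCx (ModuleCat.of A M₃) l).homology i)
    (fun i => (HomologicalComplex.homologyMap (koszulMap (ModuleCat.ofHom g₁) l) i).hom)
    (fun i => (HomologicalComplex.homologyMap (koszulMap (ModuleCat.ofHom g₂) l) i).hom)
    (fun i => (hS.δ i (i + 1) rfl).hom)
    (fun i => (ShortComplex.ShortExact.moduleCat_exact_iff_function_exact _).mp
      (hS.homology_exact₂ i))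
    (fun i => (ShortComplex.ShortExact.moduleCat_exact_iff_function_exact _).mp
      (hS.homology_exact₃ i (i + 1) rfl))
    (fun i => (ShortComplex.ShortExact.moduleCat_exact_iff_function_exact _).mp
      (hS.homology_exact₁ i (i + 1) rfl))
    h₁ h₂ h₃ (-(l.length : ℤ)) 0
    (fun i hi => ModuleCat.subsingleton_of_isZero (b₁ i hi))
    (fun i hi => ModuleCat.subsingleton_of_isZero (b₂ i hi))
    (fun i hi => ModuleCat.subsingleton_of_isZero (b₃ i hi))

/-- If all homology vanishes, the Euler characteristic vanishes. -/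
theorem chi_eq_zero_of_subsingleton (l : List A) (M : Type u) [AddCommGroup M] [Module A M]
    [Subsingleton M] : chi l M = 0 := by
  unfold chi chiC
  refine finsum_eq_zero_of_forall_eq_zero fun i => ?_
  have h0 : (0 : A) • 𝟙 (ModuleCat.of A M) = (1 : A) • 𝟙 (ModuleCat.of A M) := by
    ext m
    exact Subsingleton.elim _ _
  have h1 : 𝟙 (koszulCx (ModuleCat.of A M) l) = 0 := by
    have h2 := koszulMap_smul_id (ModuleCat.of A M) 1 l
    have h3 := koszulMap_smul_id (ModuleCat.of A M) 0 l
    rw [h0, h2, one_smul, zero_smul] at h3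
    exact h3
  have hz : IsZero (koszulCx (ModuleCat.of A M) l) := (IsZero.iff_id_eq_zero _).mpr h1
  have hz' : IsZero ((koszulCx (ModuleCat.of A M) l).homology i) := by
    have := (HomologicalComplex.homologyFunctor (ModuleCat.{u} A) (ComplexShape.up ℤ) i).map_isZero hz
    exact this
  have := ModuleCat.subsingleton_of_isZero hz'
  rw [len_eq_zero_of_subsingleton]
  simp

/-- If `a` kills `M`, then `χ(a, l; M) = 0`. -/
theorem chi_cons_eq_zero_of_smul_eq_zero (a : A) (l : List A) (M : Type u) [AddCommGroup M]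
    [Module A M] (ha : ∀ m : M, a • m = 0) (h : KFL (a :: l) M) : chi (a :: l) M = 0 := by
  unfold chi
  rw [koszulCx_cons, chiC_cone _ a h _ _ (hbdd_koszulCx _ l)]
  refine finsum_eq_zero_of_forall_eq_zero fun n => ?_
  have hz : ∀ z : (koszulCx (ModuleCat.of A M) l).homology n, a • z = 0 :=
    smul_homology_eq_zero_of_annihilator (ModuleCat.of A M) l a ha n
  have hm : mulL a ((koszulCx (ModuleCat.of A M) l).homology n) = 0 := by
    ext z
    exact hz z
  have e1 : cE (koszulCx (ModuleCat.of A M) l) a n =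
      len A ((koszulCx (ModuleCat.of A M) l).homology n) := by
    unfold cE
    rw [hm, LinearMap.range_zero]
    exact len_congr (Submodule.quotEquivOfEqBot ⊥ rfl)
  have e2 : kE (koszulCx (ModuleCat.of A M) l) a n =
      len A ((koszulCx (ModuleCat.of A M) l).homology n) := by
    unfold kE
    rw [hm, LinearMap.ker_zero]
    exact len_congr Submodule.topEquiv
  rw [e1, e2, sub_self, mul_zero]

/-- Powers in the head of the Koszul Euler characteristic. -/
theorem chi_pow_head (x : A) (l : List A) (M : Type u) [AddCommGroup M] [Module A M]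
    (hx : KFL (x :: l) M) : ∀ n : ℕ,
    KFL ((x ^ (n + 1)) :: l) M ∧ chi ((x ^ (n + 1)) :: l) M = (n + 1 : ℕ) * chi (x :: l) M
  | 0 => by
    rw [zero_add, pow_one]
    exact ⟨hx, by simp⟩
  | n + 1 => by
    obtain ⟨h1, h2⟩ := chi_pow_head x l M hx n
    obtain ⟨h3, h4⟩ := chi_mul_head (x ^ (n + 1)) x l M h1 hx
    rw [← pow_succ] at h3 h4
    refine ⟨h3, ?_⟩
    rw [h4, h2]
    push_cast
    ring

/-- For `x` regular on `M`: reduction to `M / xM`. -/
theorem kfl_cons_iff_of_regular (x : A) (l : List A) (M : Type u) [AddCommGroup M] [Module A M]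
    (hx : IsSMulRegular M x) : KFL (x :: l) M ↔ KFL l (QuotSMulTop x M) := by
  constructor
  · intro h n
    obtain ⟨e⟩ := nonempty_homology_cons_equiv M x hx l n
    exact e.isFiniteLength (h n)
  · intro h n
    obtain ⟨e⟩ := nonempty_homology_cons_equiv M x hx l n
    exact e.symm.isFiniteLength (h n)

theorem chi_cons_of_regular (x : A) (l : List A) (M : Type u) [AddCommGroup M] [Module A M]
    (hx : IsSMulRegular M x) : chi (x :: l) M = chi l (QuotSMulTop x M) := by
  unfold chi chiC
  refine finsum_congr fun n => ?_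
  obtain ⟨e⟩ := nonempty_homology_cons_equiv M x hx l n
  rw [len_congr e]

/-- The `x`-power torsion submodule. -/
def powTors (x : A) (M : Type u) [AddCommGroup M] [Module A M] : Submodule A M where
  carrier := {m | ∃ n : ℕ, x ^ n • m = 0}
  zero_mem' := ⟨0, by simp⟩
  add_mem' := by
    rintro a b ⟨n, hn⟩ ⟨k, hk⟩
    refine ⟨n + k, ?_⟩
    have h1 : x ^ (n + k) • a = 0 := by rw [pow_add, mul_comm, mul_smul, hn, smul_zero]
    have h2 : x ^ (n + k) • b = 0 := by rw [pow_add, mul_smul, hk, smul_zero]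
    rw [smul_add, h1, h2, add_zero]
  smul_mem' := by
    rintro c a ⟨n, hn⟩
    exact ⟨n, by rw [smul_comm, hn, smul_zero]⟩

theorem isSMulRegular_quotient_powTors (x : A) (M : Type u) [AddCommGroup M] [Module A M] :
    IsSMulRegular (M ⧸ powTors x M) x := by
  rw [isSMulRegular_iff_right_eq_zero_of_smul]
  intro z hz
  obtain ⟨m, rfl⟩ := Submodule.Quotient.mk_surjective _ z
  rw [← Submodule.Quotient.mk_smul, Submodule.Quotient.mk_eq_zero] at hz
  obtain ⟨n, hn⟩ := hz
  rw [Submodule.Quotient.mk_eq_zero]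
  exact ⟨n + 1, by rw [pow_succ, mul_smul]; exact hn⟩

theorem exists_pow_smul_powTors (x : A) (M : Type u) [AddCommGroup M] [Module A M]
    [IsNoetherian A M] : ∃ n : ℕ, ∀ m ∈ powTors x M, x ^ (n + 1) • m = 0 := by
  let N : ℕ →o Submodule A M :=
    ⟨fun n => LinearMap.ker (mulL (x ^ n) M), by
      intro n k hnk m hm
      rw [LinearMap.mem_ker] at hm ⊢
      obtain ⟨j, rfl⟩ := Nat.exists_eq_add_of_le hnk
      show x ^ (n + j) • m = 0
      rw [pow_add, mul_comm, mul_smul]
      have : x ^ n • m = 0 := hm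
      rw [this, smul_zero]⟩
  obtain ⟨n₀, hn₀⟩ := monotone_stabilizes_iff_noetherian.mpr ‹IsNoetherian A M› N
  refine ⟨n₀, ?_⟩
  rintro m ⟨k, hk⟩
  have h1 : m ∈ N (max k n₀) := by
    show x ^ (max k n₀) • m = 0
    obtain ⟨j, hj⟩ := Nat.exists_eq_add_of_le (le_max_left k n₀)
    rw [hj, pow_add, mul_comm, mul_smul, hk, smul_zero]
  rw [← hn₀ (max k n₀) (le_max_right k n₀)] at h1
  have h2 : x ^ n₀ • m = 0 := h1
  rw [pow_succ, mul_comm, mul_smul, h2, smul_zero]

end Groth.Agent.Helper8.KoszulLib
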