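import Mathlib
import Groth.Agent.Lib.Helper8.KE7

/-!
# Koszul Euler characteristic, part 8: vanishing below the dimension
-/

namespace Groth.Agent.Helper8.KoszulLib

open CategoryTheory CategoryTheory.Limits CochainComplex CohIII
open scoped Pointwise

universe u

variable {A : Type u} [CommRing A]

theorem quotient_of_kfl (l : List A) (M : Type u) [AddCommGroup M] [Module A M]
    (h : KFL l M) : IsFiniteLength A (M ⧸ Ideal.ofList l • (⊤ : Submodule A M)) := by
  obtain ⟨e⟩ := nonempty_homology_zero_equiv M l
  exact e.isFiniteLength (h 0)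

section local_

variable [IsNoetherianRing A] [IsLocalRing A]

/-- Transfer of finiteness of Koszul homology along annihilators. -/
theorem kfl_of_ann (l : List A) (M N : Type u) [AddCommGroup M] [Module A M]
    [Module.Finite A M] [AddCommGroup N] [Module A N] [Module.Finite A N] (h : KFL l M)
    (hann : ∀ a : A, (∀ m : M, a • m = 0) → ∀ n : N, a • n = 0) : KFL l N := by
  intro n
  have : Module.Finite A (ModuleCat.of A N) := ‹Module.Finite A N›
  have hfin := finite_koszul_homology (ModuleCat.of A N) l n
  refine isFiniteLength_of_smul_eq_zero M (Ideal.ofList l) (quotient_of_kfl l M h) _ ?_ ?_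
  · intro a ha z
    exact smul_homology_eq_zero (ModuleCat.of A N) l a ha n z
  · intro a ha z
    exact smul_homology_eq_zero_of_annihilator (ModuleCat.of A N) l a (hann a ha) n z

theorem kfl_submodule (l : List A) (M : Type u) [AddCommGroup M] [Module A M]
    [Module.Finite A M] (h : KFL l M) (N : Submodule A M) : KFL l N :=
  kfl_of_ann l M N h (fun a ha n => Subtype.ext (by simpa using ha n.1))

theorem kfl_quotient (l : List A) (M : Type u) [AddCommGroup M] [Module A M]
    [Module.Finite A M] (h : KFL l M) (N : Submodule A M) : KFL l (M ⧸ N) :=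
  kfl_of_ann l M (M ⧸ N) h (fun a ha z => by
    obtain ⟨m, rfl⟩ := Submodule.Quotient.mk_surjective _ z
    rw [← Submodule.Quotient.mk_smul, ha m, Submodule.Quotient.mk_zero])

/-- The Euler characteristic of the `x`-power torsion vanishes. -/
theorem chi_cons_powTors (x : A) (l : List A) (M : Type u) [AddCommGroup M] [Module A M]
    [Module.Finite A M] (h : KFL (x :: l) M) : chi (x :: l) (powTors x M) = 0 := by
  have hT := kfl_submodule _ M h (powTors x M)
  obtain ⟨n, hn⟩ := exists_pow_smul_powTors x M
  obtain ⟨h1, h2⟩ := chi_pow_head x l (powTors x M) hT n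
  have h3 := chi_cons_eq_zero_of_smul_eq_zero (x ^ (n + 1)) l (powTors x M)
    (fun m => Subtype.ext (by simpa using hn m.1 m.2)) h1
  rw [h3] at h2
  have h4 : ((n + 1 : ℕ) : ℤ) ≠ 0 := by exact_mod_cast Nat.succ_ne_zero n
  rcases mul_eq_zero.mp h2.symm with h5 | h5
  · exact absurd h5 h4
  · exact h5

/-- Reduction of the Euler characteristic to the quotient by the `x`-power torsion, then by
`x`. -/
theorem chi_cons_eq (x : A) (l : List A) (M : Type u) [AddCommGroup M] [Module A M]
    [Module.Finite A M] (h : KFL (x :: l) M) :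
    KFL l (QuotSMulTop x (M ⧸ powTors x M)) ∧
      chi (x :: l) M = chi l (QuotSMulTop x (M ⧸ powTors x M)) := by
  have hT := kfl_submodule _ M h (powTors x M)
  have hQ := kfl_quotient _ M h (powTors x M)
  have hreg := isSMulRegular_quotient_powTors x M
  refine ⟨(kfl_cons_iff_of_regular x l _ hreg).mp hQ, ?_⟩
  rw [chi_additive (x :: l) (powTors x M).subtype (powTors x M).mkQ
    (Submodule.subtype_injective _) (Submodule.mkQ_surjective _)
    (LinearMap.exact_subtype_mkQ _) hT h hQ, chi_cons_powTors x l M h, zero_add,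
    chi_cons_of_regular x l _ hreg]

/-- Vanishing of the Euler characteristic below the dimension. -/
theorem chi_eq_zero_of_supportDim_lt : ∀ (l : List A) (M : Type u) [AddCommGroup M]
    [Module A M] [Module.Finite A M], (∀ a ∈ l, a ∈ IsLocalRing.maximalIdeal A) → KFL l M →
    Module.supportDim A M < (l.length : WithBot ℕ∞) → chi l M = 0
  | [], M, _, _, _, _, _, hdim => by
    have : Subsingleton M := by
      rw [← Module.supportDim_eq_bot_iff_subsingleton (R := A)]
      by_contra hne
      have h0 : (0 : WithBot ℕ∞) ≤ Module.supportDim A M := by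
        obtain ⟨d, hd⟩ := WithBot.ne_bot_iff_exists.mp hne
        rw [← hd]
        exact_mod_cast (bot_le : (0 : ℕ∞) ≤ d)
      simp only [List.length_nil, Nat.cast_zero] at hdim
      exact absurd hdim (not_lt.mpr h0)
    exact chi_eq_zero_of_subsingleton _ M
  | x :: l, M, _, _, _, hmem, h, hdim => by
    obtain ⟨h1, h2⟩ := chi_cons_eq x l M h
    rw [h2]
    have hreg := isSMulRegular_quotient_powTors x M
    have hx : x ∈ IsLocalRing.maximalIdeal A := hmem x List.mem_cons_self
    refine chi_eq_zero_of_supportDim_lt l _ (fun a ha => hmem a (List.mem_cons_of_mem _ ha)) h1 ?_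
    have e1 := Module.supportDim_quotSMulTop_succ_eq_supportDim hreg hx
    have e2 : Module.supportDim A (M ⧸ powTors x M) ≤ Module.supportDim A M :=
      Module.supportDim_le_of_surjective _ (Submodule.mkQ_surjective (powTors x M))
    have e3 : Module.supportDim A (QuotSMulTop x (M ⧸ powTors x M)) + 1 <
        (l.length : WithBot ℕ∞) + 1 := by
      rw [e1]
      refine lt_of_le_of_lt e2 ?_
      simpa using hdim
    by_contra hcon
    rw [not_lt] at hcon
    exact absurd e3 (not_lt.mpr (add_le_add_left hcon 1))

end local_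

end Groth.Agent.Helper8.KoszulLib

namespace Groth.Agent.Helper8.KoszulLib

open CategoryTheory CategoryTheory.Limits CochainComplex CohIII
open scoped Pointwise

universe u

variable {A : Type u} [CommRing A]

theorem ofList_ofFn {d : ℕ} (x : Fin d → A) :
    Ideal.ofList (List.ofFn x) = Ideal.span (Set.range x) := by
  unfold Ideal.ofList
  congr 1
  ext a
  simp [List.mem_ofFn]

/-- **S8153.** -/
theorem koszulEuler_eq_zero_of_supportDim_lt [IsNoetherianRing A] [IsLocalRing A]
    (d : ℕ) (x : Fin d → A) (hx : ∀ j, x j ∈ IsLocalRing.maximalIdeal A) (M : Type u)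
    [AddCommGroup M] [Module A M] [Module.Finite A M]
    (hfl : IsFiniteLength A (M ⧸ (Ideal.span (Set.range x) • (⊤ : Submodule A M))))
    (hdim : Module.supportDim A M < (d : WithBot ℕ∞)) :
    (∑ᶠ i : ℤ, ((i.negOnePow : ℤˣ) : ℤ) * ((Module.length A ((DRing.tensorCx (Koszul.koszul A (List.ofFn x)) (ModuleCat.of A M)).homology i)).toNat : ℤ)) = 0 := by
  rw [finsum_tensor_eq_chi]
  rw [← ofList_ofFn] at hfl
  refine chi_eq_zero_of_supportDim_lt (List.ofFn x) M ?_ (kfl_of_quotient _ M hfl) ?_
  · intro a ha
    obtain ⟨j, rfl⟩ := (List.mem_ofFn' x a).mp ha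
    exact hx j
  · rw [List.length_ofFn]
    exact hdim

end Groth.Agent.Helper8.KoszulLib
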