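import Mathlib
import Groth.Agent.Lib.Helper8.KE8

/-!
# Koszul Euler characteristic, part 9: positivity at the dimension
-/

namespace Groth.Agent.Helper8.KoszulLib

open CategoryTheory CategoryTheory.Limits CochainComplex CohIII
open scoped Pointwise

universe u

variable {A : Type u} [CommRing A]

/-- A long chain in the support of the middle term of a short exact sequence lies in the support of
one of the outer terms. -/
theorem le_supportDim_of_exact {T M Q : Type u} [AddCommGroup T] [Module A T] [AddCommGroup M]
    [Module A M] [AddCommGroup Q] [Module A Q] (g₁ : T →ₗ[A] M) (g₂ : M →ₗ[A] Q)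
    (hi : Function.Injective g₁) (hs : Function.Surjective g₂) (he : Function.Exact g₁ g₂)
    (d : ℕ) (hM : (d : WithBot ℕ∞) ≤ Module.supportDim A M) :
    (d : WithBot ℕ∞) ≤ Module.supportDim A T ∨ (d : WithBot ℕ∞) ≤ Module.supportDim A Q := by
  unfold Module.supportDim at hM ⊢
  obtain ⟨p, hp⟩ := Order.le_krullDim_iff.mp hM
  have hsupp := Module.support_of_exact he hi hs
  have hhead : p.head.1 ∈ Module.support A T ∪ Module.support A Q := by
    rw [← hsupp]; exact p.head.2
  have hle : ∀ i, p.head.1 ≤ (p i).1 := fun i => p.head_le i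
  rcases hhead with h | h
  · left
    refine Order.le_krullDim_iff.mpr ⟨⟨p.length, fun i => ⟨(p i).1,
      Module.mem_support_mono (hle i) h⟩, fun i => ?_⟩, hp⟩
    exact p.step i
  · right
    refine Order.le_krullDim_iff.mpr ⟨⟨p.length, fun i => ⟨(p i).1,
      Module.mem_support_mono (hle i) h⟩, fun i => ?_⟩, hp⟩
    exact p.step i

section local_

variable [IsNoetherianRing A] [IsLocalRing A]

theorem supportDim_le_zero_of_isFiniteLength (N : Type u) [AddCommGroup N] [Module A N]
    (h : IsFiniteLength A N) : Module.supportDim A N ≤ 0 := by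
  have hart : IsArtinian A N := (isFiniteLength_iff_isNoetherian_isArtinian.mp h).2
  have hm := (Groth.Agent.Helper8.LD.isFiniteLength_iff_le_radical_annihilator N).mp h
  have : Subsingleton (Module.support A N) := by
    constructor
    rintro ⟨p, hp⟩ ⟨q, hq⟩
    have h1 : ∀ r : PrimeSpectrum A, r ∈ Module.support A N →
        r.asIdeal = IsLocalRing.maximalIdeal A := by
      intro r hr
      have h2 := Module.annihilator_le_of_mem_support hr
      have h3 : IsLocalRing.maximalIdeal A ≤ r.asIdeal :=
        hm.trans ((Ideal.IsPrime.radical_le_iff r.2).mpr h2)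
      exact ((IsLocalRing.maximalIdeal.isMaximal A).eq_of_le r.2.ne_top h3).symm
    apply Subtype.ext
    apply PrimeSpectrum.ext
    rw [h1 p hp, h1 q hq]
  exact Order.krullDim_nonpos_of_subsingleton

/-- The dimension is at most the number of parameters. -/
theorem supportDim_le_length : ∀ (l : List A) (N : Type u) [AddCommGroup N] [Module A N]
    [Module.Finite A N], (∀ a ∈ l, a ∈ IsLocalRing.maximalIdeal A) →
    IsFiniteLength A (N ⧸ Ideal.ofList l • (⊤ : Submodule A N)) →
    Module.supportDim A N ≤ (l.length : WithBot ℕ∞)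
  | [], N, _, _, _, _, h => by
    have e : (N ⧸ Ideal.ofList ([] : List A) • (⊤ : Submodule A N)) ≃ₗ[A] N :=
      Submodule.quotEquivOfEqBot _ (by simp)
    have := supportDim_le_zero_of_isFiniteLength N (e.isFiniteLength h)
    simpa using this
  | y :: l, N, _, _, _, hmem, h => by
    have e := Submodule.quotOfListConsSMulTopEquivQuotSMulTopInner N y l
    have h1 := supportDim_le_length l (QuotSMulTop y N)
      (fun a ha => hmem a (List.mem_cons_of_mem _ ha)) (e.isFiniteLength h)
    have h2 := Module.supportDim_le_supportDim_quotSMulTop_succ (M := N)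
      (hmem y List.mem_cons_self)
    refine h2.trans ?_
    simp only [List.length_cons, Nat.cast_add, Nat.cast_one]
    exact add_le_add_left h1 1

end local_

end Groth.Agent.Helper8.KoszulLib

namespace Groth.Agent.Helper8.KoszulLib

open CategoryTheory CategoryTheory.Limits CochainComplex CohIII
open scoped Pointwise

universe u

variable {A : Type u} [CommRing A]

theorem chi_nil (M : Type u) [AddCommGroup M] [Module A M] : chi ([] : List A) M = len A M := by
  unfold chi chiC
  rw [finsum_eq_single _ (0 : ℤ)]
  · have e1 : (koszulCx (ModuleCat.of A M) []).homology 0 ≃ₗ[A] M :=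
      (HomologicalComplex.singleObjHomologySelfIso (ComplexShape.up ℤ) 0
        (ModuleCat.of A M)).toLinearEquiv
    rw [len_congr e1]
    simp [sgn]
  · intro i hi
    have hz : IsZero ((koszulCx (ModuleCat.of A M) []).homology i) :=
      HomologicalComplex.isZero_single_obj_homology _ _ _ _ hi
    have := ModuleCat.subsingleton_of_isZero hz
    rw [len_eq_zero_of_subsingleton]
    simp

theorem withBot_enat_add_one_cancel {a : WithBot ℕ∞} {d : ℕ}
    (h : a + 1 = ((d : ℕ) : WithBot ℕ∞) + 1) : a = (d : WithBot ℕ∞) := by
  induction a with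
  | bot =>
    exfalso
    rw [WithBot.bot_add] at h
    have h' : (⊥ : WithBot ℕ∞) = (((d : ℕ∞) + 1 : ℕ∞) : WithBot ℕ∞) := by exact_mod_cast h
    exact WithBot.bot_ne_coe h'
  | coe e =>
    have h' : ((e + 1 : ℕ∞) : WithBot ℕ∞) = (((d : ℕ∞) + 1 : ℕ∞) : WithBot ℕ∞) := by
      exact_mod_cast h
    have h2 : e + 1 = (d : ℕ∞) + 1 := WithBot.coe_injective h'
    have h3 : e = d := (ENat.add_left_injective_of_ne_top (by simp)) h2
    rw [h3]
    rfl

section local_

variable [IsNoetherianRing A] [IsLocalRing A]

/-- Positivity of the Euler characteristic at the dimension. -/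
theorem chi_pos_of_supportDim_eq : ∀ (l : List A) (M : Type u) [AddCommGroup M]
    [Module A M] [Module.Finite A M], (∀ a ∈ l, a ∈ IsLocalRing.maximalIdeal A) → KFL l M →
    Module.supportDim A M = (l.length : WithBot ℕ∞) → 0 < chi l M
  | [], M, _, _, _, _, h, hdim => by
    rw [chi_nil]
    have hnt : Nontrivial M := by
      rw [← Module.supportDim_ne_bot_iff_nontrivial A M, hdim]
      simp
    have e1 : (koszulCx (ModuleCat.of A M) []).homology 0 ≃ₗ[A] M :=
      (HomologicalComplex.singleObjHomologySelfIso (ComplexShape.up ℤ) 0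
        (ModuleCat.of A M)).toLinearEquiv
    have hfl : IsFiniteLength A M := e1.isFiniteLength (h 0)
    have h1 : (len A M : ℕ∞) = Module.length A M := coe_len hfl
    have h2 : 0 < Module.length A M := Module.length_pos
    rw [← h1] at h2
    exact_mod_cast h2
  | x :: l, M, _, _, _, hmem, h, hdim => by
    obtain ⟨h1, h2⟩ := chi_cons_eq x l M h
    rw [h2]
    have hreg := isSMulRegular_quotient_powTors x M
    have hx : x ∈ IsLocalRing.maximalIdeal A := hmem x List.mem_cons_self
    have hl : ∀ a ∈ l, a ∈ IsLocalRing.maximalIdeal A :=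
      fun a ha => hmem a (List.mem_cons_of_mem _ ha)
    refine chi_pos_of_supportDim_eq l _ hl h1 ?_
    -- dimension of the torsion part
    have hT := kfl_submodule _ M h (powTors x M)
    obtain ⟨n, hn⟩ := exists_pow_smul_powTors x M
    have hTn := (chi_pow_head x l (powTors x M) hT n).1
    have hflT := quotient_of_kfl _ _ hTn
    have hbot : x ^ (n + 1) • (⊤ : Submodule A (powTors x M)) = ⊥ := by
      rw [eq_bot_iff]
      rintro _ ⟨m, -, rfl⟩
      rw [Submodule.mem_bot]
      exact Subtype.ext (by simpa using hn m.1 m.2)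
    have hflT' : IsFiniteLength A ((powTors x M) ⧸
        Ideal.ofList l • (⊤ : Submodule A (powTors x M))) := by
      refine (Submodule.quotEquivOfEq _ _ ?_).isFiniteLength hflT
      rw [Ideal.ofList_cons_smul, hbot, bot_sup_eq]
    have hdT := supportDim_le_length l (powTors x M) hl hflT'
    -- dimension of the quotient
    have hdM : ((l.length + 1 : ℕ) : WithBot ℕ∞) ≤ Module.supportDim A M := by
      rw [hdim]; simp
    have hdQ : ((l.length + 1 : ℕ) : WithBot ℕ∞) ≤ Module.supportDim A (M ⧸ powTors x M) := by
      rcases le_supportDim_of_exact (powTors x M).subtype (powTors x M).mkQ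
        (Submodule.subtype_injective _) (Submodule.mkQ_surjective _)
        (LinearMap.exact_subtype_mkQ _) (l.length + 1) hdM with h3 | h3
      · exfalso
        have h4 := h3.trans hdT
        have h5 : (l.length + 1 : ℕ) ≤ l.length := by exact_mod_cast h4
        omega
      · exact h3
    have hdQ' : Module.supportDim A (M ⧸ powTors x M) ≤ ((l.length + 1 : ℕ) : WithBot ℕ∞) := by
      have := Module.supportDim_le_of_surjective _ (Submodule.mkQ_surjective (powTors x M))
      refine this.trans ?_
      rw [hdim]; simp
    have e1 := Module.supportDim_quotSMulTop_succ_eq_supportDim hreg hx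
    rw [le_antisymm hdQ' hdQ] at e1
    apply withBot_enat_add_one_cancel
    rw [e1]
    push_cast
    rfl

/-- **S8154.** -/
theorem koszulEuler_pos_of_supportDim_eq
    (d : ℕ) (x : Fin d → A) (hx : ∀ j, x j ∈ IsLocalRing.maximalIdeal A) (M : Type u)
    [AddCommGroup M] [Module A M] [Module.Finite A M]
    (hfl : IsFiniteLength A (M ⧸ (Ideal.span (Set.range x) • (⊤ : Submodule A M))))
    (hdim : Module.supportDim A M = (d : WithBot ℕ∞)) :
    0 < (∑ᶠ i : ℤ, ((i.negOnePow : ℤˣ) : ℤ) * ((Module.length A ((DRing.tensorCx (Koszul.koszul A (List.ofFn x)) (ModuleCat.of A M)).homology i)).toNat : ℤ)) := by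
  rw [finsum_tensor_eq_chi]
  rw [← ofList_ofFn] at hfl
  refine chi_pos_of_supportDim_eq (List.ofFn x) M ?_ (kfl_of_quotient _ M hfl) ?_
  · intro a ha
    obtain ⟨j, rfl⟩ := (List.mem_ofFn' x a).mp ha
    exact hx j
  · rw [List.length_ofFn]
    exact hdim

end local_

end Groth.Agent.Helper8.KoszulLib
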