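import Mathlib
import Groth.Agent.Lib.Helper8.KE9

/-!
# Koszul Euler characteristic, part 10: the rank formula over a domain
-/

namespace Groth.Agent.Helper8.KoszulLib

open CategoryTheory CategoryTheory.Limits CochainComplex CohIII
open scoped Pointwise TensorProduct

universe u

variable {A : Type u} [CommRing A]

section domain

variable [IsNoetherianRing A] [IsLocalRing A] [IsDomain A]

omit [IsLocalRing A] in
theorem finrank_quotient_add (M : Type u) [AddCommGroup M] [Module A M] [Module.Finite A M]
    (N : Submodule A M) :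
    Module.finrank A (M ⧸ N) + Module.finrank A N = Module.finrank A M := by
  have h := rank_quotient_add_rank_of_isDomain N
  rw [← Module.finrank_eq_rank, ← Module.finrank_eq_rank, ← Module.finrank_eq_rank] at h
  exact_mod_cast h

omit [IsLocalRing A] [IsNoetherianRing A] in
/-- A finite module of rank zero over a domain is killed by a nonzero element. -/
theorem exists_ne_zero_smul_eq_zero (M : Type u) [AddCommGroup M] [Module A M]
    [Module.Finite A M] (h : Module.finrank A M = 0) :
    ∃ s : A, s ≠ 0 ∧ ∀ m : M, s • m = 0 := by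
  classical
  have h0 := Module.finrank_eq_zero_iff.mp h
  obtain ⟨S, hS⟩ := (Module.Finite.fg_top : (⊤ : Submodule A M).FG)
  choose a ha using h0
  refine ⟨∏ m ∈ S, a m, Finset.prod_ne_zero_iff.mpr (fun m _ => (ha m).1), ?_⟩
  have hle : Submodule.span A (S : Set M) ≤ LinearMap.ker (mulL (∏ m ∈ S, a m) M) := by
    rw [Submodule.span_le]
    intro m hm
    obtain ⟨c, hc⟩ := Finset.dvd_prod_of_mem a hm
    show (∏ m ∈ S, a m) • m = 0
    rw [hc, mul_comm, mul_smul, (ha m).2, smul_zero]
  intro m
  have : m ∈ Submodule.span A (S : Set M) := by rw [hS]; trivial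
  exact hle this

omit [IsNoetherianRing A] [IsLocalRing A] in
theorem supportDim_lt_of_finrank_eq_zero (d : ℕ) (hd : ringKrullDim A = d) (M : Type u)
    [AddCommGroup M] [Module A M] [Module.Finite A M] (h : Module.finrank A M = 0) :
    Module.supportDim A M < (d : WithBot ℕ∞) := by
  obtain ⟨s, hs0, hs⟩ := exists_ne_zero_smul_eq_zero M h
  have hsA : s ∈ Module.annihilator A M := Module.mem_annihilator.mpr hs
  have hle : Ideal.span {s} ≤ Module.annihilator A M :=
    (Ideal.span_singleton_le_iff_mem _).mpr hsA
  have h1 : ringKrullDim (A ⧸ Module.annihilator A M) ≤ ringKrullDim (A ⧸ Ideal.span {s}) :=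
    ringKrullDim_le_of_surjective (Ideal.Quotient.factor hle)
      (Ideal.Quotient.factor_surjective hle)
  have h2 := ringKrullDim_quotient_succ_le_of_nonZeroDivisor
    (mem_nonZeroDivisors_of_ne_zero hs0)
  rw [hd] at h2
  rw [Module.supportDim_eq_ringKrullDim_quotient_annihilator]
  have h3 : ringKrullDim (A ⧸ Module.annihilator A M) + 1 ≤ (d : WithBot ℕ∞) :=
    (add_le_add_left h1 1).trans h2
  generalize ringKrullDim (A ⧸ Module.annihilator A M) = a at h3
  induction a with
  | bot => exact WithBot.bot_lt_coe _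
  | coe e =>
    have h4 : e + 1 ≤ (d : ℕ∞) := by exact_mod_cast h3
    have h5 : e < (d : ℕ∞) := by
      have hne : e ≠ ⊤ := by
        rintro rfl
        simp at h4
      lift e to ℕ using hne
      have h6 : e + 1 ≤ d := by exact_mod_cast h4
      exact_mod_cast Nat.lt_of_succ_le h6
    exact_mod_cast h5

/-- The rank formula for the Koszul Euler characteristic. -/
theorem chi_eq_finrank_mul (l : List A) (hl : ∀ a ∈ l, a ∈ IsLocalRing.maximalIdeal A)
    (hd : ringKrullDim A = l.length) (hA : KFL l A) :
    ∀ (r : ℕ) (M : Type u) [AddCommGroup M] [Module A M] [Module.Finite A M],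
      Module.finrank A M = r → chi l M = r * chi l A
  | 0, M, _, _, _, h => by
    have hM : KFL l M := kfl_of_ann l A M hA (fun a ha m => by
      have : a = 0 := by simpa using ha 1
      rw [this, zero_smul])
    rw [chi_eq_zero_of_supportDim_lt l M hl hM (supportDim_lt_of_finrank_eq_zero _ hd M h)]
    simp
  | r + 1, M, _, _, _, h => by
    have hM : KFL l M := kfl_of_ann l A M hA (fun a ha m => by
      have : a = 0 := by simpa using ha 1
      rw [this, zero_smul])
    have hne : ¬ (∀ x : M, ∃ a : A, a ≠ 0 ∧ a • x = 0) := by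
      rw [← Module.finrank_eq_zero_iff, h]
      exact Nat.succ_ne_zero r
    push Not at hne
    obtain ⟨m, hm⟩ := hne
    let g₁ : A →ₗ[A] M := LinearMap.toSpanSingleton A M m
    have hinj : Function.Injective g₁ := by
      rw [injective_iff_map_eq_zero]
      intro a ha
      by_contra hne
      exact hm a hne ha
    have hQ : KFL l (M ⧸ LinearMap.range g₁) := kfl_quotient l M hM _
    have hadd := chi_additive l g₁ (LinearMap.range g₁).mkQ hinj (Submodule.mkQ_surjective _)
      (LinearMap.exact_map_mkQ_range g₁) hA hM hQ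
    have hr1 : Module.finrank A (LinearMap.range g₁) = 1 := by
      rw [← (LinearEquiv.ofInjective g₁ hinj).finrank_eq, Module.finrank_self]
    have hr : Module.finrank A (M ⧸ LinearMap.range g₁) = r := by
      have := finrank_quotient_add M (LinearMap.range g₁)
      omega
    rw [hadd, chi_eq_finrank_mul l hl hd hA r _ hr]
    push_cast
    ring

/-- **S8155.** -/
theorem koszulEuler_eq_rank_mul (d : ℕ) (hd : ringKrullDim A = d) (x : Fin d → A)
    (hx : ∀ j, x j ∈ IsLocalRing.maximalIdeal A)
    (hsop : IsFiniteLength A (A ⧸ Ideal.span (Set.range x))) (M : Type u) [AddCommGroup M]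
    [Module A M] [Module.Finite A M] :
    (∑ᶠ i : ℤ, ((i.negOnePow : ℤˣ) : ℤ) * ((Module.length A ((DRing.tensorCx (Koszul.koszul A (List.ofFn x)) (ModuleCat.of A M)).homology i)).toNat : ℤ)) =
      (Module.finrank (FractionRing A) (FractionRing A ⊗[A] M) : ℤ) *
        (∑ᶠ i : ℤ, ((i.negOnePow : ℤˣ) : ℤ) * ((Module.length A ((DRing.tensorCx (Koszul.koszul A (List.ofFn x)) (ModuleCat.of A A)).homology i)).toNat : ℤ)) := by
  rw [finsum_tensor_eq_chi, finsum_tensor_eq_chi]
  have hfl : IsFiniteLength A (A ⧸ Ideal.ofList (List.ofFn x) • (⊤ : Submodule A A)) := by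
    refine (Submodule.quotEquivOfEq _ _ ?_).isFiniteLength hsop
    rw [ofList_ofFn, smul_eq_mul, Ideal.mul_top]
  have hA : KFL (List.ofFn x) A := kfl_of_quotient _ A hfl
  have hl : ∀ a ∈ List.ofFn x, a ∈ IsLocalRing.maximalIdeal A := by
    intro a ha
    obtain ⟨j, rfl⟩ := (List.mem_ofFn' x a).mp ha
    exact hx j
  have hr : Module.finrank (FractionRing A) (FractionRing A ⊗[A] M) = Module.finrank A M :=
    (TensorProduct.isBaseChange A M (FractionRing A)).finrank_eq
  rw [hr]
  exact chi_eq_finrank_mul (List.ofFn x) hl (by rw [List.length_ofFn]; exact hd) hA _ M rfl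

end domain

end Groth.Agent.Helper8.KoszulLib
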