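import Mathlib
import Groth.Agent.Lib.Helper8.KE10

/-!
# Koszul Euler characteristic, part 11: powers of the parameters
-/

namespace Groth.Agent.Helper8.KoszulLib

open CategoryTheory CategoryTheory.Limits CochainComplex CohIII
open scoped Pointwise

universe u

variable {A : Type u} [CommRing A]

section local_

variable [IsNoetherianRing A] [IsLocalRing A]

/-- A finite module `N` with `I ≤ rad Ann N` and `Ann M ≤ Ann N`, where `M/IM` has finite length,
has finite length. -/
theorem isFiniteLength_of_le_radical (M : Type u) [AddCommGroup M] [Module A M]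
    [Module.Finite A M] (I : Ideal A)
    (hfl : IsFiniteLength A (M ⧸ I • (⊤ : Submodule A M)))
    (N : Type u) [AddCommGroup N] [Module A N] [Module.Finite A N]
    (h1 : I ≤ (Module.annihilator A N).radical)
    (h2 : Module.annihilator A M ≤ Module.annihilator A N) :
    IsFiniteLength A N := by
  have hart : IsArtinian A (M ⧸ I • (⊤ : Submodule A M)) :=
    (isFiniteLength_iff_isNoetherian_isArtinian.mp hfl).2
  have hm := (Groth.Agent.Helper8.LD.isFiniteLength_iff_le_radical_annihilator
    (M ⧸ I • (⊤ : Submodule A M))).mp hfl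
  have hle : I ⊔ Module.annihilator A M ≤ (Module.annihilator A N).radical :=
    sup_le h1 (h2.trans Ideal.le_radical)
  have hm2 : IsLocalRing.maximalIdeal A ≤ (Module.annihilator A N).radical := by
    refine hm.trans ?_
    refine (Ideal.radical_mono (annihilator_quotient_le_radical M I)).trans ?_
    rw [Ideal.radical_idem]
    exact Ideal.radical_le_radical_iff.mpr hle
  obtain ⟨k, hk⟩ := Ideal.exists_pow_le_of_le_radical_of_fg hm2
    (IsNoetherian.noetherian (IsLocalRing.maximalIdeal A))
  exact Groth.Agent.Helper8.LD.isFiniteLength_of_pow_smul_eq_zero N k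
    (fun a ha n => Module.mem_annihilator.mp (hk ha) n)

/-- Finiteness of Koszul homology only depends on the radical of the ideal. -/
theorem kfl_of_le_radical (l l' : List A) (M : Type u) [AddCommGroup M] [Module A M]
    [Module.Finite A M] (h : KFL l M) (hrad : ∀ a ∈ l, ∃ k : ℕ, a ^ k ∈ Ideal.ofList l') :
    KFL l' M := by
  intro n
  have : Module.Finite A (ModuleCat.of A M) := ‹Module.Finite A M›
  have hfin := finite_koszul_homology (ModuleCat.of A M) l' n
  have hann : Ideal.ofList l' ≤
      Module.annihilator A ((koszulCx (ModuleCat.of A M) l').homology n) := fun a ha =>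
    Module.mem_annihilator.mpr (fun z => smul_homology_eq_zero (ModuleCat.of A M) l' a ha n z)
  refine isFiniteLength_of_le_radical M (Ideal.ofList l) (quotient_of_kfl l M h) _ ?_ ?_
  · refine Ideal.span_le.mpr (fun a ha => ?_)
    obtain ⟨k, hk⟩ := hrad a ha
    exact ⟨k, hann hk⟩
  · intro a ha
    exact Module.mem_annihilator.mpr (fun z =>
      smul_homology_eq_zero_of_annihilator (ModuleCat.of A M) l' a
        (Module.mem_annihilator.mp ha) n z)

/-- The Euler characteristic of powers, all exponents positive. -/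
theorem chi_pow_ofFn : ∀ (k : ℕ) (x : Fin k → A) (m : Fin k → ℕ), (∀ j, 1 ≤ m j) →
    ∀ (M : Type u) [AddCommGroup M] [Module A M] [Module.Finite A M],
    KFL (List.ofFn x) M →
    chi (List.ofFn fun j => x j ^ m j) M = (∏ j, (m j : ℤ)) * chi (List.ofFn x) M
  | 0, x, m, _, M, _, _, _, _ => by simp
  | k + 1, x, m, hm, M, _, _, _, h => by
    rw [List.ofFn_succ, List.ofFn_succ, Fin.prod_univ_succ]
    rw [List.ofFn_succ] at h
    set y := x 0 with hy
    set l := List.ofFn fun i : Fin k => x i.succ with hl
    set lp := List.ofFn fun i : Fin k => x i.succ ^ m i.succ with hlp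
    -- KFL for `y :: lp`
    have hylp : KFL (y :: lp) M := by
      refine kfl_of_le_radical (y :: l) (y :: lp) M h ?_
      intro a ha
      rcases List.mem_cons.mp ha with rfl | ha
      · exact ⟨1, by rw [pow_one]; exact Ideal.subset_span List.mem_cons_self⟩
      · obtain ⟨i, rfl⟩ := (List.mem_ofFn' _ a).mp ha
        refine ⟨m i.succ, Ideal.subset_span (List.mem_cons_of_mem _ ?_)⟩
        exact (List.mem_ofFn' _ _).mpr ⟨i, rfl⟩
    obtain ⟨e, he⟩ : ∃ e, m 0 = e + 1 := ⟨m 0 - 1, by have := hm 0; omega⟩
    have h1 := (chi_pow_head y lp M hylp e).2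
    rw [he, h1]
    obtain ⟨h2, h3⟩ := chi_cons_eq y lp M hylp
    obtain ⟨h4, h5⟩ := chi_cons_eq y l M h
    rw [h3, h5, chi_pow_ofFn k (fun i => x i.succ) (fun i => m i.succ) (fun i => hm i.succ) _ h4]
    ring

/-- **S8152.** -/
theorem koszulEuler_pow (k : ℕ) (x : Fin k → A) (m : Fin k → ℕ) (M : Type u) [AddCommGroup M]
    [Module A M] [Module.Finite A M]
    (hfl : IsFiniteLength A (M ⧸ (Ideal.span (Set.range x) • (⊤ : Submodule A M)))) :
    (∑ᶠ i : ℤ, ((i.negOnePow : ℤˣ) : ℤ) * ((Module.length A ((DRing.tensorCx (Koszul.koszul A (List.ofFn fun j => x j ^ m j)) (ModuleCat.of A M)).homology i)).toNat : ℤ)) =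
      (∏ j, (m j : ℤ)) * (∑ᶠ i : ℤ, ((i.negOnePow : ℤˣ) : ℤ) * ((Module.length A ((DRing.tensorCx (Koszul.koszul A (List.ofFn x)) (ModuleCat.of A M)).homology i)).toNat : ℤ)) := by
  rw [finsum_tensor_eq_chi, finsum_tensor_eq_chi]
  by_cases hm : ∀ j, 1 ≤ m j
  · rw [← ofList_ofFn] at hfl
    exact chi_pow_ofFn k x m hm M (kfl_of_quotient _ M hfl)
  · push Not at hm
    obtain ⟨j, hj⟩ := hm
    have hj0 : m j = 0 := by omega
    rw [Finset.prod_eq_zero (Finset.mem_univ j) (by simp [hj0]), zero_mul]
    unfold chi chiC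
    refine finsum_eq_zero_of_forall_eq_zero fun i => ?_
    have hz := isZero_homology_of_span_eq_top (ModuleCat.of A M)
      (List.ofFn fun j => x j ^ m j) (by
        rw [Ideal.eq_top_iff_one]
        apply Ideal.subset_span
        exact (List.mem_ofFn' _ _).mpr ⟨j, by simp [hj0]⟩) i
    have := ModuleCat.subsingleton_of_isZero hz
    rw [len_eq_zero_of_subsingleton]
    simp

end local_

end Groth.Agent.Helper8.KoszulLib
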