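import Mathlib
import Groth.Agent.Lib.Helper8.KE11

/-!
# Koszul Euler characteristic and the number of top-dimensional minimal primes
-/

namespace Groth.Agent.Helper8.KoszulLib

open CategoryTheory CategoryTheory.Limits CochainComplex CohIII
open scoped Pointwise

universe u

variable {A : Type u} [CommRing A]

theorem len_le_of_surjective {M N : Type*} [AddCommGroup M] [Module A M] [AddCommGroup N]
    [Module A N] (f : M →ₗ[A] N) (hf : Function.Surjective f) (hM : IsFiniteLength A M) :
    len A N ≤ len A M :=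
  ENat.toNat_le_toNat (Module.length_le_of_surjective f hf) (Module.length_ne_top_iff.mpr hM)

section local_

variable [IsNoetherianRing A] [IsLocalRing A]

/-- The Euler characteristic is at most the length of `M/(l)M`. -/
theorem chi_le_len_quotient : ∀ (l : List A) (M : Type u) [AddCommGroup M] [Module A M]
    [Module.Finite A M], KFL l M →
    chi l M ≤ (len A (M ⧸ Ideal.ofList l • (⊤ : Submodule A M)) : ℤ)
  | [], M, _, _, _, _ => by
    rw [chi_nil]
    have e : (M ⧸ Ideal.ofList ([] : List A) • (⊤ : Submodule A M)) ≃ₗ[A] M :=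
      Submodule.quotEquivOfEqBot _ (by simp)
    rw [len_congr e]
  | x :: l, M, _, _, _, h => by
    obtain ⟨h1, h2⟩ := chi_cons_eq x l M h
    rw [h2]
    refine (chi_le_len_quotient l _ h1).trans ?_
    have e := Submodule.quotOfListConsSMulTopEquivQuotSMulTopInner (M ⧸ powTors x M) x l
    rw [← len_congr e]
    -- the surjection `M/(x,l)M → Q/(x,l)Q`
    let f : (M ⧸ Ideal.ofList (x :: l) • (⊤ : Submodule A M)) →ₗ[A]
        ((M ⧸ powTors x M) ⧸ Ideal.ofList (x :: l) • (⊤ : Submodule A (M ⧸ powTors x M))) :=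
      Submodule.mapQ _ _ (powTors x M).mkQ
        (Submodule.smul_top_le_comap_smul_top (Ideal.ofList (x :: l)) (powTors x M).mkQ)
    have hf : Function.Surjective f := by
      intro z
      obtain ⟨w, rfl⟩ := Submodule.Quotient.mk_surjective _ z
      obtain ⟨m, rfl⟩ := Submodule.Quotient.mk_surjective _ w
      exact ⟨Submodule.Quotient.mk m, rfl⟩
    exact_mod_cast len_le_of_surjective f hf (quotient_of_kfl _ M h)

/-- The Euler characteristic of a system of parameters is nonnegative. -/
theorem chi_nonneg (l : List A) (hl : ∀ a ∈ l, a ∈ IsLocalRing.maximalIdeal A) (M : Type u)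
    [AddCommGroup M] [Module A M] [Module.Finite A M] (h : KFL l M) : 0 ≤ chi l M := by
  have hd := supportDim_le_length l M hl (quotient_of_kfl l M h)
  rcases lt_or_eq_of_le hd with h1 | h1
  · rw [chi_eq_zero_of_supportDim_lt l M hl h h1]
  · exact (chi_pos_of_supportDim_eq l M hl h h1).le

/-- The set of top-dimensional minimal primes in the support. -/
def topPrimes (A : Type u) [CommRing A] (d : ℕ) (M : Type u) [AddCommGroup M] [Module A M] :
    Set (PrimeSpectrum A) :=
  {p | p.asIdeal ∈ minimalPrimes A ∧ ringKrullDim (A ⧸ p.asIdeal) = d ∧ p ∈ Module.support A M}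

omit [IsLocalRing A] in
theorem topPrimes_finite (d : ℕ) (M : Type u) [AddCommGroup M] [Module A M] :
    (topPrimes A d M).Finite := by
  have h := minimalPrimes.finite_of_isNoetherianRing A
  refine Set.Finite.of_finite_image (f := PrimeSpectrum.asIdeal) (h.subset ?_) ?_
  · rintro _ ⟨p, hp, rfl⟩
    exact hp.1
  · intro p _ q _ hpq
    exact PrimeSpectrum.ext hpq

/-- The number of top-dimensional minimal primes in the support is at most the Euler
characteristic. -/
theorem ncard_topPrimes_le_chi (l : List A) (hl : ∀ a ∈ l, a ∈ IsLocalRing.maximalIdeal A)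
    (M : Type u) [AddCommGroup M] [Module A M] [hfin : Module.Finite A M] (hM : KFL l M) :
    ((topPrimes A l.length M).ncard : ℤ) ≤ chi l M := by
  revert hM
  refine IsNoetherianRing.induction_on_isQuotientEquivQuotientPrime A hfin
    (motive := fun N _ _ _ => KFL l N → ((topPrimes A l.length N).ncard : ℤ) ≤ chi l N) ?_ ?_ ?_
  · intro N _ _ _ _ _
    have : topPrimes A l.length N = ∅ := by
      ext p
      simp [topPrimes, Module.support_eq_empty]
    rw [this, Set.ncard_empty, chi_eq_zero_of_subsingleton]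
    simp
  · intro N _ _ _ q eN hN
    have hsub : topPrimes A l.length N ⊆ {q} := by
      rintro p ⟨hp1, hp2, hp3⟩
      rw [eN.support_eq, Module.support_eq_zeroLocus, Ideal.annihilator_quotient] at hp3
      have hqp : q.asIdeal ≤ p.asIdeal := hp3
      have hpq : p.asIdeal ≤ q.asIdeal := hp1.2 ⟨q.2, bot_le⟩ hqp
      exact PrimeSpectrum.ext (le_antisymm hpq hqp)
    by_cases hq : q ∈ topPrimes A l.length N
    · have h1 : (topPrimes A l.length N).ncard ≤ 1 := by
        have := Set.ncard_le_ncard hsub (Set.finite_singleton q)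
        simpa using this
      have hdim : Module.supportDim A N = (l.length : WithBot ℕ∞) := by
        rw [Module.supportDim_eq_of_equiv eN, Module.supportDim_quotient_eq_ringKrullDim]
        exact hq.2.1
      have h2 := chi_pos_of_supportDim_eq l N hl hN hdim
      have h3 : ((topPrimes A l.length N).ncard : ℤ) ≤ 1 := by exact_mod_cast h1
      omega
    · have : topPrimes A l.length N = ∅ := by
        rw [Set.eq_empty_iff_forall_notMem]
        intro p hp
        have := hsub hp
        rw [Set.mem_singleton_iff] at this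
        exact hq (this ▸ hp)
      rw [this, Set.ncard_empty]
      exact_mod_cast chi_nonneg l hl N hN
  · intro N₁ _ _ _ N₂ _ _ _ N₃ _ _ _ f g hf hg hfg h₁ h₃ hN
    have hN₁ : KFL l N₁ := kfl_of_ann l N₂ N₁ hN (fun a ha m => by
      apply hf
      rw [map_smul, ha, map_zero])
    have hN₃ : KFL l N₃ := kfl_of_ann l N₂ N₃ hN (fun a ha m => by
      obtain ⟨m', rfl⟩ := hg m
      rw [← map_smul, ha, map_zero])
    rw [chi_additive l f g hf hg hfg hN₁ hN hN₃]
    have hsub : topPrimes A l.length N₂ ⊆ topPrimes A l.length N₁ ∪ topPrimes A l.length N₃ := by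
      rintro p ⟨hp1, hp2, hp3⟩
      rw [Module.support_of_exact hfg hf hg] at hp3
      rcases hp3 with h | h
      · exact Or.inl ⟨hp1, hp2, h⟩
      · exact Or.inr ⟨hp1, hp2, h⟩
    have h1 := Set.ncard_le_ncard hsub
      ((topPrimes_finite (A := A) l.length N₁).union (topPrimes_finite (A := A) l.length N₃))
    have h2 := Set.ncard_union_le (topPrimes A l.length N₁) (topPrimes A l.length N₃)
    have h3 := h₁ hN₁
    have h4 := h₃ hN₃
    have h5 : ((topPrimes A l.length N₂).ncard : ℤ) ≤
        ((topPrimes A l.length N₁).ncard : ℤ) + ((topPrimes A l.length N₃).ncard : ℤ) := by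
      exact_mod_cast h1.trans h2
    omega

end local_

end Groth.Agent.Helper8.KoszulLib

namespace Groth.Agent.Helper8.KoszulLib

open CategoryTheory CategoryTheory.Limits CochainComplex CohIII
open scoped Pointwise

universe u

variable {A : Type u} [CommRing A] [IsNoetherianRing A] [IsLocalRing A]

/-- **S7117.** -/
theorem card_minimalPrimes_top_dim_le_length (d : ℕ) (g : Fin d → A)
    (hg : ∀ i, g i ∈ IsLocalRing.maximalIdeal A)
    (hsop : IsLocalRing.maximalIdeal A ≤ (Ideal.span (Set.range g)).radical) :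
    (Set.ncard {p : Ideal A | p ∈ minimalPrimes A ∧ ringKrullDim (A ⧸ p) = d} : ℕ∞) ≤
      Module.length A (A ⧸ Ideal.span (Set.range g)) := by
  have hl : ∀ a ∈ List.ofFn g, a ∈ IsLocalRing.maximalIdeal A := by
    intro a ha
    obtain ⟨j, rfl⟩ := (List.mem_ofFn' g a).mp ha
    exact hg j
  obtain ⟨k, hk⟩ := Ideal.exists_pow_le_of_le_radical_of_fg hsop
    (IsNoetherian.noetherian (IsLocalRing.maximalIdeal A))
  have hflq : IsFiniteLength A (A ⧸ Ideal.span (Set.range g)) := by
    refine Groth.Agent.Helper8.LD.isFiniteLength_of_pow_smul_eq_zero _ k (fun a ha n => ?_)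
    obtain ⟨b, rfl⟩ := Ideal.Quotient.mk_surjective n
    show (Ideal.Quotient.mk _) (a * b) = 0
    exact Ideal.Quotient.eq_zero_iff_mem.mpr (Ideal.mul_mem_right _ _ (hk ha))
  have heq : Ideal.ofList (List.ofFn g) • (⊤ : Submodule A A) = Ideal.span (Set.range g) := by
    rw [ofList_ofFn, smul_eq_mul, Ideal.mul_top]
  have hfl : IsFiniteLength A (A ⧸ Ideal.ofList (List.ofFn g) • (⊤ : Submodule A A)) :=
    (Submodule.quotEquivOfEq _ _ heq).symm.isFiniteLength hflq
  have hA : KFL (List.ofFn g) A := kfl_of_quotient _ A hfl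
  have h1 := ncard_topPrimes_le_chi (List.ofFn g) hl A hA
  have h2 := chi_le_len_quotient (List.ofFn g) A hA
  rw [len_congr (Submodule.quotEquivOfEq _ _ heq), List.length_ofFn] at *
  have himg : {p : Ideal A | p ∈ minimalPrimes A ∧ ringKrullDim (A ⧸ p) = d} =
      PrimeSpectrum.asIdeal '' (topPrimes A d A) := by
    ext p
    constructor
    · rintro ⟨hp1, hp2⟩
      refine ⟨⟨p, Ideal.IsMinimalPrime.isPrime hp1⟩, ⟨hp1, hp2, ?_⟩, rfl⟩
      rw [Module.support_of_algebra]
      intro a ha
      have h0 : a = 0 := by simpa using ha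
      rw [h0]
      exact Ideal.zero_mem _
    · rintro ⟨q, ⟨hq1, hq2, -⟩, rfl⟩
      exact ⟨hq1, hq2⟩
  rw [himg, Set.ncard_image_of_injective _ (fun p q hpq => PrimeSpectrum.ext hpq),
    ← coe_len hflq]
  have h3 : ((topPrimes A d A).ncard : ℤ) ≤ (len A (A ⧸ Ideal.span (Set.range g)) : ℤ) :=
    h1.trans h2
  exact_mod_cast h3

end Groth.Agent.Helper8.KoszulLib
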