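import Mathlib
import Groth.Agent.Lib.Helper8.KE1

/-!
# Permutation invariance of the Koszul complex, part 1: swapping two cones
-/

namespace Groth.Agent.Helper8.KoszulLib

open CategoryTheory CategoryTheory.Limits CochainComplex CohIII

universe u

variable {A : Type u} [CommRing A]

section dE

/-- The differential on elements. -/
noncomputable def dE (K : CochainComplex (ModuleCat.{u} A) ℤ) (n : ℤ) : K.X n →ₗ[A] K.X (n + 1) :=
  (K.d n (n + 1)).hom

variable {F G : CochainComplex (ModuleCat.{u} A) ℤ} (φ : F ⟶ G) (n : ℤ)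

theorem fstE_dE (z : (mappingCone φ).X n) :
    fstE φ (n + 1) (dE (mappingCone φ) n z) = - dE F (n + 1) (fstE φ n z) := by
  have := mappingCone.d_fst_v φ n (n + 1) (n + 1 + 1) rfl rfl
  exact congrArg (fun g => g.hom z) this

theorem sndE_dE (z : (mappingCone φ).X n) :
    sndE φ (n + 1) (dE (mappingCone φ) n z) =
      (φ.f (n + 1)).hom (fstE φ n z) + dE G n (sndE φ n z) := by
  have := mappingCone.d_snd_v φ n (n + 1) rfl
  exact congrArg (fun g => g.hom z) this

end dE

section swap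

variable (C : CochainComplex (ModuleCat.{u} A) ℤ) (a b : A)

/-- The iterated cone `cone(a on cone(b on C))`. -/
noncomputable abbrev cc : CochainComplex (ModuleCat.{u} A) ℤ :=
  mappingCone (a • 𝟙 (mappingCone (b • 𝟙 C)))

variable (n : ℤ)

/-- coordinate in `C^{n+2}` -/
noncomputable def cP : (cc C a b).X n →ₗ[A] C.X (n + 1 + 1) :=
  fstE (b • 𝟙 C) (n + 1) ∘ₗ fstE (a • 𝟙 (mappingCone (b • 𝟙 C))) n

/-- first coordinate in `C^{n+1}` -/
noncomputable def cQ : (cc C a b).X n →ₗ[A] C.X (n + 1) :=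
  sndE (b • 𝟙 C) (n + 1) ∘ₗ fstE (a • 𝟙 (mappingCone (b • 𝟙 C))) n

/-- second coordinate in `C^{n+1}` -/
noncomputable def cR : (cc C a b).X n →ₗ[A] C.X (n + 1) :=
  fstE (b • 𝟙 C) n ∘ₗ sndE (a • 𝟙 (mappingCone (b • 𝟙 C))) n

/-- coordinate in `C^n` -/
noncomputable def cS : (cc C a b).X n →ₗ[A] C.X n :=
  sndE (b • 𝟙 C) n ∘ₗ sndE (a • 𝟙 (mappingCone (b • 𝟙 C))) n

/-- element with given coordinates -/
noncomputable def cmk (p : C.X (n + 1 + 1)) (q r : C.X (n + 1)) (s : C.X n) : (cc C a b).X n :=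
  inlE (a • 𝟙 (mappingCone (b • 𝟙 C))) n
      (inlE (b • 𝟙 C) (n + 1) p + inrE (b • 𝟙 C) (n + 1) q) +
    inrE (a • 𝟙 (mappingCone (b • 𝟙 C))) n (inlE (b • 𝟙 C) n r + inrE (b • 𝟙 C) n s)

variable {C a b n}

theorem cc_ext {z w : (cc C a b).X n} (hP : cP C a b n z = cP C a b n w)
    (hQ : cQ C a b n z = cQ C a b n w) (hR : cR C a b n z = cR C a b n w)
    (hS : cS C a b n z = cS C a b n w) : z = w := by
  apply ext_elem
  · exact ext_elem _ _ hP hQ
  · exact ext_elem _ _ hR hS

@[simp] theorem cP_cmk (p : C.X (n + 1 + 1)) (q r : C.X (n + 1)) (s : C.X n) :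
    cP C a b n (cmk C a b n p q r s) = p := by
  simp [cP, cmk, fstE_inlE, fstE_inrE]

@[simp] theorem cQ_cmk (p : C.X (n + 1 + 1)) (q r : C.X (n + 1)) (s : C.X n) :
    cQ C a b n (cmk C a b n p q r s) = q := by
  simp [cQ, cmk, fstE_inlE, fstE_inrE, sndE_inlE, sndE_inrE]

@[simp] theorem cR_cmk (p : C.X (n + 1 + 1)) (q r : C.X (n + 1)) (s : C.X n) :
    cR C a b n (cmk C a b n p q r s) = r := by
  simp [cR, cmk, fstE_inlE, fstE_inrE, sndE_inlE, sndE_inrE]

@[simp] theorem cS_cmk (p : C.X (n + 1 + 1)) (q r : C.X (n + 1)) (s : C.X n) :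
    cS C a b n (cmk C a b n p q r s) = s := by
  simp [cS, cmk, sndE_inlE, sndE_inrE]

theorem smul_id_f_hom (K : CochainComplex (ModuleCat.{u} A) ℤ) (c : A) (m : ℤ) (w : K.X m) :
    ((c • 𝟙 K : K ⟶ K).f m).hom w = c • w := rfl

theorem cP_dE (z : (cc C a b).X n) :
    cP C a b (n + 1) (dE (cc C a b) n z) = dE C (n + 1 + 1) (cP C a b n z) := by
  simp only [cP, LinearMap.comp_apply, fstE_dE, map_neg, neg_neg]

theorem cQ_dE (z : (cc C a b).X n) :
    cQ C a b (n + 1) (dE (cc C a b) n z) =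
      - (b • cP C a b n z) - dE C (n + 1) (cQ C a b n z) := by
  simp only [cP, cQ, LinearMap.comp_apply, fstE_dE, sndE_dE, map_neg, smul_id_f_hom]
  abel

theorem cR_dE (z : (cc C a b).X n) :
    cR C a b (n + 1) (dE (cc C a b) n z) =
      a • cP C a b n z - dE C (n + 1) (cR C a b n z) := by
  simp only [cP, cR, LinearMap.comp_apply, fstE_dE, sndE_dE, map_add, smul_id_f_hom, map_smul]
  abel

theorem cS_dE (z : (cc C a b).X n) :
    cS C a b (n + 1) (dE (cc C a b) n z) =
      a • cQ C a b n z + b • cR C a b n z + dE C n (cS C a b n z) := by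
  simp only [cQ, cR, cS, LinearMap.comp_apply, sndE_dE, map_add, smul_id_f_hom, map_smul]
  abel

variable (C a b n)

/-- The swap map on elements. -/
noncomputable def swapE : (cc C a b).X n →ₗ[A] (cc C b a).X n where
  toFun z := cmk C b a n (- cP C a b n z) (cR C a b n z) (cQ C a b n z) (cS C a b n z)
  map_add' z w := by
    apply cc_ext <;> simp only [cP_cmk, cQ_cmk, cR_cmk, cS_cmk, map_add, neg_add]
  map_smul' c z := by
    apply cc_ext <;>
      simp only [cP_cmk, cQ_cmk, cR_cmk, cS_cmk, map_smul, smul_neg, RingHom.id_apply]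

variable {C a b n}

@[simp] theorem cP_swapE (z : (cc C a b).X n) : cP C b a n (swapE C a b n z) = - cP C a b n z :=
  cP_cmk _ _ _ _

@[simp] theorem cQ_swapE (z : (cc C a b).X n) : cQ C b a n (swapE C a b n z) = cR C a b n z :=
  cQ_cmk _ _ _ _

@[simp] theorem cR_swapE (z : (cc C a b).X n) : cR C b a n (swapE C a b n z) = cQ C a b n z :=
  cR_cmk _ _ _ _

@[simp] theorem cS_swapE (z : (cc C a b).X n) : cS C b a n (swapE C a b n z) = cS C a b n z :=
  cS_cmk _ _ _ _

theorem swapE_swapE (z : (cc C a b).X n) : swapE C b a n (swapE C a b n z) = z := by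
  apply cc_ext <;> simp

theorem swapE_dE (z : (cc C a b).X n) :
    swapE C a b (n + 1) (dE (cc C a b) n z) = dE (cc C b a) n (swapE C a b n z) := by
  apply cc_ext
  · rw [cP_swapE, cP_dE, cP_dE, cP_swapE, map_neg]
  · rw [cQ_swapE, cR_dE, cQ_dE, cP_swapE, cQ_swapE]
    simp only [smul_neg, neg_neg]
  · rw [cR_swapE, cQ_dE, cR_dE, cP_swapE, cR_swapE]
    simp only [smul_neg]
  · rw [cS_swapE, cS_dE, cS_dE, cQ_swapE, cR_swapE, cS_swapE]
    abel

variable (C a b)

/-- The swap isomorphism `cone(a on cone(b on C)) ≅ cone(b on cone(a on C))`. -/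
noncomputable def swapIso : cc C a b ≅ cc C b a :=
  HomologicalComplex.Hom.isoOfComponents
    (fun n => (LinearEquiv.ofLinearMap (swapE C a b n) (swapE C b a n)
      (LinearMap.ext fun z => swapE_swapE z) (LinearMap.ext fun z => swapE_swapE z)).toModuleIso)
    (by
      rintro i j (rfl : i + 1 = j)
      ext z
      exact (swapE_dE z).symm)

end swap

end Groth.Agent.Helper8.KoszulLib
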