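import Mathlib
import Groth.Agent.Lib.Helper8.KM1
import Groth.Agent.Lib.Helper8.KP1

/-!
# Serre's theorem (Samuel multiplicity = Koszul Euler characteristic), part 1:
the adic filtration of the Koszul complex is eventually acyclic
-/

namespace Groth.Agent.Helper8.KoszulLib

open CategoryTheory CategoryTheory.Limits CochainComplex CohIII
open scoped Pointwise

universe u

variable {A : Type u} [CommRing A]

/-- Elementwise form of the Koszul homotopies. -/
theorem exists_homotopy_elem (M : ModuleCat.{u} A) (l : List A) (a : A)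
    (ha : a ∈ Ideal.ofList l) :
    ∃ h : ∀ n : ℤ, (koszulCx M l).X (n + 1) →ₗ[A] (koszulCx M l).X n,
      ∀ (n : ℤ) (z : (koszulCx M l).X (n + 1)),
        a • z = dE (koszulCx M l) n (h n z) + h (n + 1) (dE (koszulCx M l) (n + 1) z) := by
  obtain ⟨H⟩ := nonempty_homotopy_smul_id M l a ha
  refine ⟨fun n => (H.hom (n + 1) n).hom, fun n z => ?_⟩
  have h1 := H.comm (n + 1)
  rw [dNext_eq H.hom (show (ComplexShape.up ℤ).Rel (n + 1) (n + 1 + 1) from rfl),
    prevD_eq H.hom (show (ComplexShape.up ℤ).Rel n (n + 1) from rfl)] at h1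
  have h2 := congrArg (fun g => g.hom z) h1
  simp only [HomologicalComplex.zero_f, add_zero] at h2
  exact h2.trans (add_comm _ _)

/-- Linear maps preserve multiples of an ideal. -/
theorem map_mem_smul_top {X Y : Type*} [AddCommGroup X] [Module A X] [AddCommGroup Y]
    [Module A Y] (f : X →ₗ[A] Y) (I : Ideal A) {w : X} (hw : w ∈ I • (⊤ : Submodule A X)) :
    f w ∈ I • (⊤ : Submodule A Y) :=
  Submodule.smul_top_le_comap_smul_top I f hw

/-- The differentials of a cone have image in `I • ⊤` if those of the two complexes and the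
map do. -/
theorem dE_cone_mem {F G : CochainComplex (ModuleCat.{u} A) ℤ} (φ : F ⟶ G) (I : Ideal A)
    (hF : ∀ (n : ℤ) (z : F.X n), dE F n z ∈ I • (⊤ : Submodule A (F.X (n + 1))))
    (hG : ∀ (n : ℤ) (z : G.X n), dE G n z ∈ I • (⊤ : Submodule A (G.X (n + 1))))
    (hφ : ∀ (n : ℤ) (z : F.X n), (φ.f n).hom z ∈ I • (⊤ : Submodule A (G.X n)))
    (n : ℤ) (z : (mappingCone φ).X n) :
    dE (mappingCone φ) n z ∈ I • (⊤ : Submodule A ((mappingCone φ).X (n + 1))) := by
  rw [eq_inlE_add_inrE φ (n + 1) (dE (mappingCone φ) n z), fstE_dE, sndE_dE]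
  refine Submodule.add_mem _ ?_ ?_
  · refine map_mem_smul_top _ _ ?_
    rw [← map_neg]
    exact hF _ _
  · refine map_mem_smul_top _ _ ?_
    exact Submodule.add_mem _ (hφ _ _) (hG _ _)

/-- The differentials of the Koszul complex have image in `(l) K`. -/
theorem dE_koszulCx_mem (M : ModuleCat.{u} A) : ∀ (l : List A) (n : ℤ)
    (z : (koszulCx M l).X n),
    dE (koszulCx M l) n z ∈ Ideal.ofList l • (⊤ : Submodule A ((koszulCx M l).X (n + 1)))
  | [], n, z => by
    have : dE (koszulCx M []) n = 0 := by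
      unfold dE
      rw [show (koszulCx M []).d n (n + 1) = 0 from HomologicalComplex.single_obj_d _ _ _ _ _]
      rfl
    rw [this]
    exact Submodule.zero_mem _
  | x :: l, n, z => by
    have hle : Ideal.ofList l ≤ Ideal.ofList (x :: l) :=
      Ideal.span_mono (fun a ha => List.mem_cons_of_mem _ ha)
    have hx : x ∈ Ideal.ofList (x :: l) := Ideal.subset_span List.mem_cons_self
    refine dE_cone_mem (x • 𝟙 (koszulCx M l)) (Ideal.ofList (x :: l)) ?_ ?_ ?_ n z
    · intro m w
      exact Submodule.smul_mono hle le_rfl (dE_koszulCx_mem M l m w)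
    · intro m w
      exact Submodule.smul_mono hle le_rfl (dE_koszulCx_mem M l m w)
    · intro m w
      rw [smul_id_f_hom]
      exact Submodule.smul_mem_smul hx trivial

section noeth

variable [IsNoetherianRing A]

/-- Artin–Rees plus the Koszul homotopies: cycles deep in the adic filtration are boundaries of
elements almost as deep. -/
theorem exists_boundary_of_cycle (M : ModuleCat.{u} A) [Module.Finite A M] (l : List A) (n : ℤ) :
    ∃ c : ℕ, ∀ j ≥ c, ∀ z ∈ (Ideal.ofList l ^ (j + 1) •
        (⊤ : Submodule A ((koszulCx M l).X (n + 1)))),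
      dE (koszulCx M l) (n + 1) z = 0 →
      ∃ w ∈ (Ideal.ofList l ^ j • (⊤ : Submodule A ((koszulCx M l).X n))),
        dE (koszulCx M l) n w = z := by
  have hfin := finite_koszulCx_X M l (n + 1)
  set q := Ideal.ofList l with hq
  set Z := LinearMap.ker (dE (koszulCx M l) (n + 1)) with hZ
  obtain ⟨c, hc⟩ := Ideal.exists_pow_inf_eq_pow_smul q Z
  refine ⟨c, fun j hj z hz hdz => ?_⟩
  have hz' : z ∈ q ^ (j + 1) • (⊤ : Submodule A ((koszulCx M l).X (n + 1))) ⊓ Z :=
    ⟨hz, hdz⟩
  have e1 : q ^ (j + 1) • (⊤ : Submodule A ((koszulCx M l).X (n + 1))) ⊓ Z =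
      q • (q ^ j • (⊤ : Submodule A ((koszulCx M l).X (n + 1))) ⊓ Z) := by
    rw [hc (j + 1) (by omega), hc j hj, ← mul_smul, ← pow_succ']
    congr 2
    omega
  rw [e1] at hz'
  refine Submodule.smul_induction_on hz' ?_ ?_
  · intro a ha m hm
    obtain ⟨h, hh⟩ := exists_homotopy_elem M l a ha
    refine ⟨h n m, map_mem_smul_top _ _ hm.1, ?_⟩
    have := hh n m
    rw [show dE (koszulCx M l) (n + 1) m = 0 from hm.2, map_zero, add_zero] at this
    exact this.symm
  · rintro x y ⟨w₁, hw₁, e₁⟩ ⟨w₂, hw₂, e₂⟩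
    exact ⟨w₁ + w₂, Submodule.add_mem _ hw₁ hw₂, by rw [map_add, e₁, e₂]⟩

end noeth

end Groth.Agent.Helper8.KoszulLib
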