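import Mathlib
import Groth.Agent.Lib.Helper8.KS1

/-!
# Serre's theorem, part 2: Euler characteristic through an acyclic filtration step
-/

namespace Groth.Agent.Helper8.KoszulLib

open CategoryTheory CategoryTheory.Limits CochainComplex CohIII
open scoped Pointwise

universe u

variable {A : Type u} [CommRing A]

section general

variable {X : Type*} [AddCommGroup X] [Module A X]

theorem length_eq_submodule_add_quotient (p : Submodule A X) :
    Module.length A X = Module.length A p + Module.length A (X ⧸ p) :=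
  Module.length_eq_add_of_exact p.subtype p.mkQ p.subtype_injective p.mkQ_surjective
    (LinearMap.exact_subtype_mkQ p)

end general

section filt

variable (K : CochainComplex (ModuleCat.{u} A) ℤ)

/-- The differential with arbitrary indices, on elements. -/
noncomputable def dE' (i j : ℤ) : K.X i →ₗ[A] K.X j := (K.d i j).hom

theorem dE'_dE' (i j k : ℤ) (z : K.X i) : dE' K j k (dE' K i j z) = 0 := by
  have := K.d_comp_d i j k
  exact congrArg (fun g => g.hom z) this

theorem dE'_eq_dE (n : ℤ) : dE' K n (n + 1) = dE K n := rfl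

/-- Homology as cycles modulo boundaries. -/
noncomputable def homologyEquiv (i j k : ℤ) (hij : i + 1 = j) (hjk : j + 1 = k) :
    K.homology j ≃ₗ[A]
      (LinearMap.ker (dE' K j k) ⧸ LinearMap.range ((dE' K i j).codRestrict
        (LinearMap.ker (dE' K j k)) (fun z => dE'_dE' K i j k z))) :=
  ((K.homologyIsoSc' i j k (by subst hij; simp) (by subst hjk; simp)) ≪≫
    (K.sc' i j k).moduleCatHomologyIso).toLinearEquiv

variable (N : ∀ n, Submodule A (K.X n))
  (hN : ∀ (i j : ℤ), N i ≤ (N j).comap (dE' K i j))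

/-- The differential on the quotient by a subcomplex. -/
noncomputable def dbar (i j : ℤ) : (K.X i ⧸ N i) →ₗ[A] (K.X j ⧸ N j) :=
  (N i).mapQ (N j) (dE' K i j) (hN i j)

theorem dbar_mk (i j : ℤ) (z : K.X i) :
    dbar K N hN i j (Submodule.Quotient.mk z) = Submodule.Quotient.mk (dE' K i j z) := rfl

theorem dbar_dbar (i j k : ℤ) (z : K.X i ⧸ N i) :
    dbar K N hN j k (dbar K N hN i j z) = 0 := by
  obtain ⟨z, rfl⟩ := Submodule.Quotient.mk_surjective _ z
  rw [dbar_mk, dbar_mk, dE'_dE']
  rfl

theorem range_dbar_le_ker (i j k : ℤ) :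
    LinearMap.range (dbar K N hN i j) ≤ LinearMap.ker (dbar K N hN j k) := by
  rintro _ ⟨z, rfl⟩
  exact dbar_dbar K N hN i j k z

/-- If the subcomplex `N` is acyclic at `j` and `k`, the homology of `K` at `j` is the homology of
the quotient complex. -/
theorem nonempty_homology_equiv_quotient (i j k : ℤ) (hij : i + 1 = j) (hjk : j + 1 = k)
    (hacyc_j : ∀ z ∈ N j, dE' K j k z = 0 → ∃ w ∈ N i, dE' K i j w = z)
    (hacyc_k : ∀ z ∈ N k, dE' K k (k + 1) z = 0 → ∃ w ∈ N j, dE' K j k w = z) :
    Nonempty (K.homology j ≃ₗ[A]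
      (LinearMap.ker (dbar K N hN j k) ⧸
        (LinearMap.range (dbar K N hN i j)).comap (LinearMap.ker (dbar K N hN j k)).subtype)) := by
  set P := LinearMap.ker (dbar K N hN j k) with hP
  set R' := (LinearMap.range (dbar K N hN i j)).comap P.subtype with hR'
  set Z := LinearMap.ker (dE' K j k) with hZ
  let g0 : Z →ₗ[A] P := ((N j).mkQ ∘ₗ Z.subtype).codRestrict P (fun z => by
    rw [hP, LinearMap.mem_ker]
    change dbar K N hN j k (Submodule.Quotient.mk z.1) = 0
    rw [dbar_mk, show dE' K j k z.1 = 0 from z.2]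
    rfl)
  let Φ : Z →ₗ[A] (P ⧸ R') := R'.mkQ ∘ₗ g0
  have hsurj : Function.Surjective Φ := by
    intro p
    obtain ⟨p, rfl⟩ := Submodule.Quotient.mk_surjective _ p
    obtain ⟨p, hp⟩ := p
    obtain ⟨y, rfl⟩ := Submodule.Quotient.mk_surjective _ p
    have h1 : dE' K j k y ∈ N k := by
      have := hp
      rw [hP, LinearMap.mem_ker, dbar_mk] at this
      exact (Submodule.Quotient.mk_eq_zero _).mp this
    obtain ⟨w, hw, hwy⟩ := hacyc_k _ h1 (dE'_dE' K j k (k + 1) y)
    have hz : y - w ∈ Z := by
      rw [hZ, LinearMap.mem_ker, map_sub, hwy, sub_self]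
    refine ⟨⟨y - w, hz⟩, ?_⟩
    change Submodule.Quotient.mk (g0 ⟨y - w, hz⟩) = _
    congr 1
    apply Subtype.ext
    change Submodule.Quotient.mk (y - w) = Submodule.Quotient.mk y
    rw [Submodule.Quotient.eq]
    simpa using hw
  have hker : LinearMap.ker Φ = LinearMap.range ((dE' K i j).codRestrict Z
      (fun z => dE'_dE' K i j k z)) := by
    ext z
    rw [LinearMap.mem_ker]
    change Submodule.Quotient.mk (g0 z) = 0 ↔ _
    rw [Submodule.Quotient.mk_eq_zero, hR', Submodule.mem_comap]
    change (Submodule.Quotient.mk z.1 : K.X j ⧸ N j) ∈ LinearMap.range (dbar K N hN i j) ↔ _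
    constructor
    · rintro ⟨y, hy⟩
      obtain ⟨y, rfl⟩ := Submodule.Quotient.mk_surjective _ y
      rw [dbar_mk, Submodule.Quotient.eq] at hy
      have hz0 : dE' K j k (z.1 - dE' K i j y) = 0 := by
        rw [map_sub, dE'_dE', show dE' K j k z.1 = 0 from z.2, sub_zero]
      have hmem : z.1 - dE' K i j y ∈ N j := by
        have := (N j).neg_mem hy
        simpa using this
      obtain ⟨w, hw, hwz⟩ := hacyc_j _ hmem hz0
      refine ⟨y + w, ?_⟩
      apply Subtype.ext
      change dE' K i j (y + w) = z.1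
      rw [map_add, hwz]
      abel
    · rintro ⟨y, rfl⟩
      exact ⟨Submodule.Quotient.mk y, rfl⟩
  exact ⟨(homologyEquiv K i j k hij hjk).trans
    ((Submodule.quotEquivOfEq _ _ hker.symm).trans (Φ.quotKerEquivOfSurjective hsurj))⟩

/-- The length identity behind the Euler characteristic of the quotient complex. -/
theorem length_quotient_eq (i j k : ℤ) (hij : i + 1 = j) (hjk : j + 1 = k)
    (hacyc_j : ∀ z ∈ N j, dE' K j k z = 0 → ∃ w ∈ N i, dE' K i j w = z)
    (hacyc_k : ∀ z ∈ N k, dE' K k (k + 1) z = 0 → ∃ w ∈ N j, dE' K j k w = z) :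
    Module.length A (K.X j ⧸ N j) =
      Module.length A (LinearMap.range (dbar K N hN i j)) + Module.length A (K.homology j) +
        Module.length A (LinearMap.range (dbar K N hN j k)) := by
  obtain ⟨e⟩ := nonempty_homology_equiv_quotient K N hN i j k hij hjk hacyc_j hacyc_k
  rw [length_eq_ker_add_range (dbar K N hN j k),
    length_eq_submodule_add_quotient ((LinearMap.range (dbar K N hN i j)).comap
      (LinearMap.ker (dbar K N hN j k)).subtype), e.length_eq,
    (Submodule.comapSubtypeEquivOfLe (range_dbar_le_ker K N hN i j k)).length_eq]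


/-- Euler characteristic through an acyclic subcomplex with finite length quotients. -/
theorem chiC_eq_of_acyclic (hN : ∀ (i j : ℤ), N i ≤ (N j).comap (dE' K i j))
    (hacyc : ∀ (i j k : ℤ), i + 1 = j → j + 1 = k →
      ∀ z ∈ N j, dE' K j k z = 0 → ∃ w ∈ N i, dE' K i j w = z)
    (hfl : ∀ n, IsFiniteLength A (K.X n ⧸ N n))
    (a b : ℤ) (hbd : ∀ n, n < a ∨ b < n → Subsingleton (K.X n)) :
    HFL K ∧ chiC K = ∑ᶠ n, sgn n * (len A (K.X n ⧸ N n) : ℤ) := by
  have key : ∀ j : ℤ, Module.length A (K.X j ⧸ N j) =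
      Module.length A (LinearMap.range (dbar K N hN (j - 1) j)) + Module.length A (K.homology j) +
        Module.length A (LinearMap.range (dbar K N hN j (j + 1))) := fun j =>
    length_quotient_eq K N hN (j - 1) j (j + 1) (by omega) rfl
      (hacyc (j - 1) j (j + 1) (by omega) rfl) (hacyc j (j + 1) (j + 1 + 1) rfl rfl)
  have hne : ∀ j, Module.length A (K.X j ⧸ N j) ≠ ⊤ := fun j =>
    Module.length_ne_top_iff.mpr (hfl j)
  have hneF : ∀ j, Module.length A (LinearMap.range (dbar K N hN (j - 1) j)) ≠ ⊤ := fun j => by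
    have := hne j
    rw [key j] at this
    exact ne_top_of_le_ne_top this (le_self_add.trans le_self_add)
  have hneH : ∀ j, Module.length A (K.homology j) ≠ ⊤ := fun j => by
    have := hne j
    rw [key j] at this
    exact ne_top_of_le_ne_top this (le_add_self.trans le_self_add)
  have hneG : ∀ j, Module.length A (LinearMap.range (dbar K N hN j (j + 1))) ≠ ⊤ := fun j => by
    have := hne j
    rw [key j] at this
    exact ne_top_of_le_ne_top this le_add_self
  have hfl' : HFL K := fun j => Module.length_ne_top_iff.mp (hneH j)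
  refine ⟨hfl', ?_⟩
  set F : ℤ → ℤ := fun j => (len A (LinearMap.range (dbar K N hN (j - 1) j)) : ℤ) with hF
  have hFG : ∀ j, (len A (LinearMap.range (dbar K N hN j (j + 1))) : ℤ) = F (j + 1) := by
    intro j
    rw [hF]
    simp only
    rw [show j + 1 - 1 = j by omega]
  have keyN : ∀ j : ℤ, (len A (K.X j ⧸ N j) : ℤ) =
      F j + (len A (K.homology j) : ℤ) + F (j + 1) := by
    intro j
    rw [← hFG, hF]
    simp only
    have h := key j
    obtain ⟨x, hx⟩ := ENat.ne_top_iff_exists.mp (hne j)
    obtain ⟨y, hy⟩ := ENat.ne_top_iff_exists.mp (hneF j)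
    obtain ⟨z, hz⟩ := ENat.ne_top_iff_exists.mp (hneH j)
    obtain ⟨w, hw⟩ := ENat.ne_top_iff_exists.mp (hneG j)
    unfold len
    rw [← hx, ← hy, ← hz, ← hw] at h ⊢
    simp only [ENat.toNat_natCast]
    exact_mod_cast h
  have hF0 : ∀ j, j < a ∨ b < j → F j = 0 := by
    intro j hj
    have := hbd j hj
    rw [hF]
    simp only
    rw [len_range_eq_zero_right]
    rfl
  have hH0 : ∀ j, j < a ∨ b < j → (len A (K.homology j) : ℤ) = 0 := by
    intro j hj
    have := hbd j hj
    have h1 : (len A (K.X j ⧸ N j) : ℤ) = 0 := by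
      rw [len_eq_zero_of_subsingleton]; rfl
    have h2 := keyN j
    have h3 : 0 ≤ F j := by rw [hF]; positivity
    have h4 : 0 ≤ F (j + 1) := by rw [hF]; positivity
    have h5 : (0 : ℤ) ≤ (len A (K.homology j) : ℤ) := by positivity
    omega
  have sF : Function.HasFiniteSupport (fun i => sgn i * F i) :=
    hasFiniteSupport_of_bounded _ a b (fun i hi => by simp only [hF0 i hi, mul_zero])
  have sF1 : Function.HasFiniteSupport (fun i => sgn i * F (i + 1)) :=
    hasFiniteSupport_of_bounded _ (a - 1) (b - 1) (fun i hi => by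
      simp only [hF0 (i + 1) (by omega), mul_zero])
  have sH : Function.HasFiniteSupport (fun i => sgn i * (len A (K.homology i) : ℤ)) :=
    hasFiniteSupport_of_bounded _ a b (fun i hi => by simp only [hH0 i hi, mul_zero])
  have e1 : ∑ᶠ i, sgn i * (len A (K.X i ⧸ N i) : ℤ) =
      (∑ᶠ i, sgn i * F i + ∑ᶠ i, sgn i * F (i + 1)) +
        ∑ᶠ i, sgn i * (len A (K.homology i) : ℤ) := by
    have sFF : Function.HasFiniteSupport (fun i => sgn i * F i + sgn i * F (i + 1)) :=
      sF.add sF1
    rw [← finsum_add_distrib sF sF1, ← finsum_add_distrib sFF sH]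
    exact finsum_congr fun i => by rw [keyN i]; ring
  rw [e1, finsum_sgn_shift F]
  unfold chiC
  ring

end filt

end Groth.Agent.Helper8.KoszulLib
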