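import Mathlib
import Groth.Agent.Lib.Helper8.KS2

/-!
# Serre's theorem, part 3: lengths of the terms of the Koszul complex modulo an ideal
-/

namespace Groth.Agent.Helper8.KoszulLib

open CategoryTheory CategoryTheory.Limits CochainComplex CohIII
open scoped Pointwise TensorProduct

universe u

variable {A : Type u} [CommRing A]

section general

variable {X Y Z : Type u} [AddCommGroup X] [Module A X] [AddCommGroup Y] [Module A Y]
  [AddCommGroup Z] [Module A Z]

/-- Reduction modulo an ideal is additive on products, on the level of lengths. -/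
theorem length_quotient_smul_of_prod (e : X ≃ₗ[A] Y × Z) (I : Ideal A) :
    Module.length A (X ⧸ I • (⊤ : Submodule A X)) =
      Module.length A (Y ⧸ I • (⊤ : Submodule A Y)) +
        Module.length A (Z ⧸ I • (⊤ : Submodule A Z)) := by
  have e1 : (X ⧸ I • (⊤ : Submodule A X)) ≃ₗ[A]
      ((Y ⧸ I • (⊤ : Submodule A Y)) × (Z ⧸ I • (⊤ : Submodule A Z))) :=
    (TensorProduct.quotTensorEquivQuotSMul X I).symm ≪≫ₗ
      (LinearEquiv.lTensor (A ⧸ I) e) ≪≫ₗ
      (TensorProduct.prodRight A A (A ⧸ I) Y Z) ≪≫ₗ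
      (LinearEquiv.prodCongr (TensorProduct.quotTensorEquivQuotSMul Y I)
        (TensorProduct.quotTensorEquivQuotSMul Z I))
  rw [e1.length_eq, Module.length_prod]

end general

section cone

variable {F G : CochainComplex (ModuleCat.{u} A) ℤ} (φ : F ⟶ G) (n : ℤ)

/-- The terms of a cone are products. -/
noncomputable def coneXEquiv : (mappingCone φ).X n ≃ₗ[A] (F.X (n + 1) × G.X n) :=
  LinearEquiv.ofLinearMap ((fstE φ n).prod (sndE φ n)) ((inlE φ n).coprod (inrE φ n))
    (by
      apply LinearMap.ext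
      rintro ⟨x, y⟩
      simp only [LinearMap.comp_apply, LinearMap.coprod_apply, LinearMap.prod_apply,
        Function.prod, map_add, fstE_inlE, fstE_inrE, sndE_inlE, sndE_inrE,
        LinearMap.id_apply, Prod.mk_add_mk, add_zero, zero_add])
    (by
      apply LinearMap.ext
      intro z
      simp only [LinearMap.comp_apply, LinearMap.coprod_apply, LinearMap.prod_apply,
        Function.prod, LinearMap.id_apply]
      exact (eq_inlE_add_inrE φ n z).symm)

end cone

section koszul

variable (M : ModuleCat.{u} A)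

theorem subsingleton_koszulCx_X : ∀ (l : List A) (n : ℤ), (n < -(l.length : ℤ) ∨ 0 < n) →
    Subsingleton ((koszulCx M l).X n)
  | [], n, hn => by
    have hz : IsZero ((koszulCx M []).X n) :=
      HomologicalComplex.isZero_single_obj_X (ComplexShape.up ℤ) 0 M n (by
        simp only [List.length_nil, Nat.cast_zero, neg_zero] at hn
        omega)
    exact ModuleCat.subsingleton_of_isZero hz
  | x :: l, n, hn => by
    simp only [List.length_cons, Nat.cast_add, Nat.cast_one] at hn
    have h1 := subsingleton_koszulCx_X l (n + 1) (by omega)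
    have h2 := subsingleton_koszulCx_X l n (by omega)
    exact (coneXEquiv (x • 𝟙 (koszulCx M l)) n).toEquiv.subsingleton

/-- The length of the `n`-th Koszul term modulo `I`. -/
noncomputable def LL (l : List A) (n : ℤ) (I : Ideal A) : ℕ∞ :=
  Module.length A ((koszulCx M l).X n ⧸ I • (⊤ : Submodule A ((koszulCx M l).X n)))

theorem LL_cons (x : A) (l : List A) (n : ℤ) (I : Ideal A) :
    LL M (x :: l) n I = LL M l (n + 1) I + LL M l n I :=
  length_quotient_smul_of_prod (coneXEquiv (x • 𝟙 (koszulCx M l)) n) I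

theorem LL_eq_zero (l : List A) (n : ℤ) (I : Ideal A) (hn : n < -(l.length : ℤ) ∨ 0 < n) :
    LL M l n I = 0 := by
  have := subsingleton_koszulCx_X M l n hn
  unfold LL
  rw [Module.length_eq_zero_iff]
  infer_instance

theorem LL_nil_zero (I : Ideal A) :
    LL M [] 0 I = Module.length A (M ⧸ I • (⊤ : Submodule A M)) := by
  have e : (koszulCx M []).X 0 ≃ₗ[A] M :=
    (HomologicalComplex.singleObjXSelf (ComplexShape.up ℤ) 0 M).toLinearEquiv
  have e' : ((koszulCx M []).X 0 ⧸ I • (⊤ : Submodule A ((koszulCx M []).X 0))) ≃ₗ[A]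
      (M ⧸ I • (⊤ : Submodule A M)) :=
    Submodule.Quotient.equiv _ _ e (by
      rw [Submodule.map_smul'', Submodule.map_top, LinearEquiv.range])
  exact e'.length_eq

theorem LL_ne_top (I : Ideal A) (hI : Module.length A (M ⧸ I • (⊤ : Submodule A M)) ≠ ⊤) :
    ∀ (l : List A) (n : ℤ), LL M l n I ≠ ⊤
  | [], n => by
    by_cases hn : n = 0
    · subst hn
      rw [LL_nil_zero]
      exact hI
    · rw [LL_eq_zero M [] n I (by simp only [List.length_nil, Nat.cast_zero, neg_zero]; omega)]
      exact ENat.zero_ne_top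
  | x :: l, n => by
    rw [LL_cons]
    exact WithTop.add_ne_top.mpr ⟨LL_ne_top I hI l (n + 1), LL_ne_top I hI l n⟩

/-- The alternating sum of the lengths of the terms of `K / q^{i+•} K`. -/
noncomputable def SS (l : List A) (q : Ideal A) (i : ℤ) : ℤ :=
  ∑ᶠ n : ℤ, sgn n * ((LL M l n (q ^ (i + n).toNat)).toNat : ℤ)

theorem SS_nil (q : Ideal A) (i : ℤ) :
    SS M [] q i = ((Module.length A (M ⧸ q ^ i.toNat • (⊤ : Submodule A M))).toNat : ℤ) := by
  unfold SS
  rw [finsum_eq_single _ (0 : ℤ)]
  · rw [LL_nil_zero, add_zero]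
    simp [sgn]
  · intro n hn
    rw [LL_eq_zero M [] n _ (by simp only [List.length_nil, Nat.cast_zero, neg_zero]; omega)]
    simp

theorem SS_cons (x : A) (l : List A) (q : Ideal A)
    (hq : ∀ a : ℕ, Module.length A (M ⧸ q ^ a • (⊤ : Submodule A M)) ≠ ⊤) (i : ℤ) :
    SS M (x :: l) q i = SS M l q i - SS M l q (i - 1) := by
  set F : ℤ → ℤ := fun m => ((LL M l m (q ^ (i - 1 + m).toNat)).toNat : ℤ) with hF
  set G : ℤ → ℤ := fun m => ((LL M l m (q ^ (i + m).toNat)).toNat : ℤ) with hG
  have e1 : ∀ n : ℤ, ((LL M (x :: l) n (q ^ (i + n).toNat)).toNat : ℤ) = F (n + 1) + G n := by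
    intro n
    rw [LL_cons, ENat.toNat_add (LL_ne_top M _ (hq _) l (n + 1)) (LL_ne_top M _ (hq _) l n),
      hF, hG]
    simp only
    rw [show i - 1 + (n + 1) = i + n by ring]
    push_cast
    rfl
  have sF1 : Function.HasFiniteSupport (fun n => sgn n * F (n + 1)) :=
    hasFiniteSupport_of_bounded _ (-(l.length : ℤ) - 1) (-1) (fun n hn => by
      simp only [hF]
      rw [LL_eq_zero M l (n + 1) _ (by omega)]
      simp)
  have sG : Function.HasFiniteSupport (fun n => sgn n * G n) :=
    hasFiniteSupport_of_bounded _ (-(l.length : ℤ)) 0 (fun n hn => by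
      simp only [hG]
      rw [LL_eq_zero M l n _ (by omega)]
      simp)
  have e2 : SS M (x :: l) q i = ∑ᶠ n, sgn n * F (n + 1) + ∑ᶠ n, sgn n * G n := by
    rw [← finsum_add_distrib sF1 sG]
    unfold SS
    exact finsum_congr fun n => by rw [e1]; ring
  have e3 : SS M l q (i - 1) = ∑ᶠ n, sgn n * F n := rfl
  have e4 : SS M l q i = ∑ᶠ n, sgn n * G n := rfl
  rw [e2, e3, e4, finsum_sgn_shift F]
  ring

end koszul

end Groth.Agent.Helper8.KoszulLib
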