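import Mathlib
import Groth.Prelude
import Groth.Agent.Lib.Helper8.GorFlat6

/-!
# Base change of a Gorenstein algebra along a simple field extension
-/

set_option autoImplicit false
universe u

namespace Groth.Agent.Helper8.GorFlat

open IsLocalRing LocCoh Polynomial TensorProduct
open scoped IntermediateField
open IntermediateField.algebraAdjoinAdjoin

section AdjoinRoot

variable (R : Type u) [CommRing R]

/-- `R[X]/(q)` is Gorenstein for `R` Gorenstein and `q` monic or zero. -/
theorem isGorensteinRing_adjoinRoot (h : IsGorensteinRing R) (q : R[X])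
    (hq : q = 0 ∨ q.Monic) : IsGorensteinRing (AdjoinRoot q) := by
  have hP := isGorensteinRing_polynomial R h
  rcases hq with rfl | hq
  · have e : (R[X] ⧸ (⊥ : Ideal R[X])) ≃+* R[X] := RingEquiv.quotientBot R[X]
    have e' : AdjoinRoot (0 : R[X]) ≃+* R[X] :=
      (Ideal.quotEquivOfEq (by rw [Ideal.span_singleton_eq_bot])).trans e
    exact isGorensteinRing_of_ringEquiv e'.symm hP
  · exact isGorensteinRing_quotient R[X] hP q hq.isRegular.left.isSMulRegular

end AdjoinRoot

section Simple

variable (K L : Type u) [Field K] [Field L] [Algebra K L] (x : L)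
  (R : Type u) [CommRing R] [Algebra K R]

/-- `K[x] ⊗ R` is Gorenstein. -/
theorem isGorensteinRing_tensor_algebraAdjoin (hR : IsGorensteinRing R) :
    IsGorensteinRing ((Algebra.adjoin K {x}) ⊗[K] R) := by
  set g := minpoly K x with hg
  let f : K[X] →ₐ[K] Algebra.adjoin K {x} :=
    (aeval x).codRestrict (Algebra.adjoin K {x}) (by
      intro p
      rw [Algebra.adjoin_singleton_eq_range_aeval]
      exact ⟨p, rfl⟩)
  have hf : Function.Surjective f := by
    rintro ⟨y, hy⟩
    rw [Algebra.adjoin_singleton_eq_range_aeval] at hy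
    obtain ⟨p, hp⟩ := hy
    exact ⟨p, Subtype.ext hp⟩
  have hker : Ideal.span {g} = RingHom.ker f.toRingHom := by
    have h0 : Ideal.span {g} = RingHom.ker (aeval (R := K) x) :=
      (minpoly.ker_aeval_eq_span_minpoly K x).symm
    rw [h0]
    ext p
    rw [RingHom.mem_ker, RingHom.mem_ker]
    constructor
    · intro h
      exact Subtype.ext h
    · intro h
      exact congrArg Subtype.val h
  let e₁ : AdjoinRoot g ≃+* Algebra.adjoin K {x} :=
    (Ideal.quotEquivOfEq hker).trans (RingHom.quotientKerEquivOfSurjective hf)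
  -- as `K`-algebras
  let e₁' : AdjoinRoot g ≃ₐ[K] Algebra.adjoin K {x} :=
    { e₁ with
      commutes' := fun c => by
        show e₁ (AdjoinRoot.of g c) = _
        show f (C c) = _
        exact f.commutes c }
  set q : (R ⊗[K] K)[X] := g.map (Algebra.TensorProduct.includeRight :
    K →ₐ[K] R ⊗[K] K).toRingHom with hq
  have e₂ := AdjoinRoot.tensorAlgEquiv (R := K) (S := K) (T := R) g q rfl
  have hRK : IsGorensteinRing (R ⊗[K] K) :=
    isGorensteinRing_of_ringEquiv (Algebra.TensorProduct.rid K K R).toRingEquiv.symm hR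
  have hq' : q = 0 ∨ q.Monic := by
    by_cases hx : IsIntegral K x
    · right
      exact (minpoly.monic hx).map _
    · left
      rw [hq, hg, minpoly.eq_zero hx, Polynomial.map_zero]
  have h3 := isGorensteinRing_adjoinRoot (R ⊗[K] K) hRK q hq'
  have h4 : IsGorensteinRing (R ⊗[K] AdjoinRoot g) :=
    isGorensteinRing_of_ringEquiv e₂.toRingEquiv.symm h3
  have e₃ : (R ⊗[K] AdjoinRoot g) ≃+* ((Algebra.adjoin K {x}) ⊗[K] R) :=
    ((Algebra.TensorProduct.comm K R (AdjoinRoot g)).trans
      (Algebra.TensorProduct.congr e₁' AlgEquiv.refl)).toRingEquiv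
  exact isGorensteinRing_of_ringEquiv e₃ h4

/-- `K(x) ⊗ R` is Gorenstein. -/
theorem isGorensteinRing_tensor_adjoin_simple (hR : IsGorensteinRing R) :
    IsGorensteinRing (K⟮x⟯ ⊗[K] R) := by
  have h1 := isGorensteinRing_tensor_algebraAdjoin K L x R hR
  -- localize
  have h2 : IsLocalization
      (Algebra.algebraMapSubmonoid ((Algebra.adjoin K {x}) ⊗[K] R)
        (nonZeroDivisors (Algebra.adjoin K {x})))
      (((Algebra.adjoin K {x}) ⊗[K] R) ⊗[Algebra.adjoin K {x}] K⟮x⟯) :=
    IsLocalization.tensor K⟮x⟯ (nonZeroDivisors (Algebra.adjoin K {x}))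
  have h3 := isGorensteinRing_of_isLocalization
    (Algebra.algebraMapSubmonoid ((Algebra.adjoin K {x}) ⊗[K] R)
        (nonZeroDivisors (Algebra.adjoin K {x})))
    (((Algebra.adjoin K {x}) ⊗[K] R) ⊗[Algebra.adjoin K {x}] K⟮x⟯) h1
  have e : (((Algebra.adjoin K {x}) ⊗[K] R) ⊗[Algebra.adjoin K {x}] K⟮x⟯) ≃+*
      (K⟮x⟯ ⊗[K] R) :=
    ((Algebra.TensorProduct.comm (Algebra.adjoin K {x}) ((Algebra.adjoin K {x}) ⊗[K] R)
      K⟮x⟯).toRingEquiv).trans
      (Algebra.TensorProduct.cancelBaseChange K (Algebra.adjoin K {x}) K⟮x⟯ K⟮x⟯ R).toRingEquiv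
  exact isGorensteinRing_of_ringEquiv e h3

end Simple

end Groth.Agent.Helper8.GorFlat
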