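import Mathlib
import Groth.Prelude
import Groth.Agent.Lib.Helper8.GorFlat7

/-!
# Base change of a Gorenstein algebra along a finitely generated field extension
-/

set_option autoImplicit false
universe u

namespace Groth.Agent.Helper8.GorFlat

open IsLocalRing LocCoh Polynomial TensorProduct
open scoped IntermediateField

variable (k K R : Type u) [Field k] [Field K] [Algebra k K] [CommRing R] [Algebra k R]

theorem isGorensteinRing_tensor_intermediateField (hR : IsGorensteinRing R)
    (E : IntermediateField k K) (hE : E.FG) : IsGorensteinRing (E ⊗[k] R) := by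
  refine IntermediateField.induction_on_adjoin_fg
    (P := fun E : IntermediateField k K => IsGorensteinRing (E ⊗[k] R)) ?_ ?_ E hE
  · have e : ((⊥ : IntermediateField k K) ⊗[k] R) ≃+* R :=
      ((Algebra.TensorProduct.congr (IntermediateField.botEquiv k K) AlgEquiv.refl).trans
        (Algebra.TensorProduct.lid k R)).toRingEquiv
    exact isGorensteinRing_of_ringEquiv e.symm hR
  · intro E' x hE'
    have h1 := isGorensteinRing_tensor_adjoin_simple E' K x (E' ⊗[k] R) hE'
    have e : (E'⟮x⟯ ⊗[E'] (E' ⊗[k] R)) ≃+* (E'⟮x⟯ ⊗[k] R) :=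
      (Algebra.TensorProduct.cancelBaseChange k E' E'⟮x⟯ E'⟮x⟯ R).toRingEquiv
    exact isGorensteinRing_of_ringEquiv e h1

/-- **S8948.** -/
theorem isGorensteinRing_tensor_of_fg
    (hK : ∃ s : Finset K, IntermediateField.adjoin k (s : Set K) = ⊤)
    (hR : IsGorensteinRing R) : IsGorensteinRing (K ⊗[k] R) := by
  obtain ⟨s, hs⟩ := hK
  have hfg : (⊤ : IntermediateField k K).FG := ⟨s, hs⟩
  have h1 := isGorensteinRing_tensor_intermediateField k K R hR ⊤ hfg
  have e : ((⊤ : IntermediateField k K) ⊗[k] R) ≃+* (K ⊗[k] R) :=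
    (Algebra.TensorProduct.congr (IntermediateField.topEquiv (F := k) (E := K))
      AlgEquiv.refl).toRingEquiv
  exact isGorensteinRing_of_ringEquiv e h1

end Groth.Agent.Helper8.GorFlat
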