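import Mathlib
import Groth.Prelude
import Groth.Agent.Lib.Helper8.GorFlat8
import Groth.Agent.Lib.Helper8.GRBase1

/-!
# The Gorenstein property and extension of the base field
-/

set_option autoImplicit false
universe u

namespace Groth.Agent.Helper8.GorFlat

open IsLocalRing LocCoh TensorProduct

section General

variable (k k' S : Type u) [Field k] [Field k'] [Algebra k k'] [CommRing S] [Algebra k S]
  [IsNoetherianRing S] [IsNoetherianRing (S ⊗[k] k')]

/-- Local rings of `S ⊗ k'` are Gorenstein iff the local rings of `S` below are, provided the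
fibre `κ ⊗ k'` is Gorenstein. -/
theorem isGorensteinLocalRing_tensor_atPrime_iff (Q : Ideal (S ⊗[k] k')) [Q.IsPrime]
    (hfib : IsGorensteinRing
      ((Q.comap (algebraMap S (S ⊗[k] k'))).ResidueField ⊗[k] k')) :
    IsGorensteinLocalRing (Localization.AtPrime Q) ↔
      IsGorensteinLocalRing (Localization.AtPrime (Q.comap (algebraMap S (S ⊗[k] k')))) := by
  rw [isGorensteinLocalRing_atPrime_iff S (S ⊗[k] k') Q]
  refine and_iff_left ?_
  set p := Q.comap (algebraMap S (S ⊗[k] k')) with hp
  obtain ⟨Q', hQ'prime, hQ'⟩ := Fib.exists_fiber_prime p Q rfl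
  obtain ⟨e⟩ := Fib.nonempty_ringEquiv_fibLocRing p Q' Q hQ'
  have e2 : (p.ResidueField ⊗[k] k') ≃+* p.Fiber (S ⊗[k] k') :=
    (Algebra.TensorProduct.cancelBaseChange k S p.ResidueField p.ResidueField k').toRingEquiv.symm
  have hG : IsGorensteinRing (p.Fiber (S ⊗[k] k')) := isGorensteinRing_of_ringEquiv e2 hfib
  exact isGorensteinLocalRing_of_ringEquiv e (hG.isGorensteinLocalRing_localization Q')

end General

/-- A field is a Gorenstein ring. -/
theorem isGorensteinRing_of_field (K : Type u) [Field K] : IsGorensteinRing K := by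
  haveI : IsRegularRing K := inferInstance
  exact isGorensteinRing_of_isRegularRing K

end Groth.Agent.Helper8.GorFlat

namespace Groth.Agent.Helper8.GorFlat

open IsLocalRing LocCoh TensorProduct

/-- A local ring is Gorenstein iff its localization at the maximal ideal is. -/
theorem isGorensteinLocalRing_localization_maximalIdeal_iff (B : Type u) [CommRing B]
    [IsLocalRing B] (p : Ideal B) [p.IsPrime] (hp : p = maximalIdeal B) :
    IsGorensteinLocalRing (Localization.AtPrime p) ↔ IsGorensteinLocalRing B := by
  subst hp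
  have H : (maximalIdeal B).primeCompl ≤ IsUnit.submonoid B := by
    intro x hx
    rw [IsUnit.mem_submonoid_iff]
    by_contra hnu
    exact hx ((IsLocalRing.mem_maximalIdeal x).mpr hnu)
  let e : B ≃+* Localization.AtPrime (maximalIdeal B) :=
    (IsLocalization.atUnits B (maximalIdeal B).primeCompl
      (S := Localization.AtPrime (maximalIdeal B)) H).toRingEquiv
  exact ⟨fun h => isGorensteinLocalRing_of_ringEquiv e.symm h,
    fun h => isGorensteinLocalRing_of_ringEquiv e h⟩

/-- **S1760.** -/
theorem isGorensteinLocalRing_iff_tensor_fg (k k' : Type u) [Field k] [Field k'] [Algebra k k']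
    (hfg : ∃ s : Finset k', IntermediateField.adjoin k (s : Set k') = ⊤)
    (B : Type u) [CommRing B] [IsLocalRing B] [IsNoetherianRing B] [Algebra k B]
    (q : Ideal (B ⊗[k] k')) [q.IsPrime]
    (hq : q.comap (algebraMap B (B ⊗[k] k')) = maximalIdeal B) :
    IsGorensteinLocalRing B ↔ IsGorensteinLocalRing (Localization.AtPrime q) := by
  obtain ⟨s, hs⟩ := hfg
  haveI : Algebra.EssFiniteType k k' := IntermediateField.fg_top_iff.mp ⟨s, hs⟩
  haveI : IsNoetherianRing (k' ⊗[k] B) := GRBase.isNoetherianRing_tensor_of_essFiniteType k B k'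
  haveI : IsNoetherianRing (B ⊗[k] k') :=
    isNoetherianRing_of_ringEquiv _ (Algebra.TensorProduct.comm k k' B).toRingEquiv
  have hfib : IsGorensteinRing
      ((q.comap (algebraMap B (B ⊗[k] k'))).ResidueField ⊗[k] k') :=
    isGorensteinRing_of_ringEquiv (Algebra.TensorProduct.comm k k' _).toRingEquiv
      (isGorensteinRing_tensor_of_fg k k' _ ⟨s, hs⟩ (isGorensteinRing_of_field _))
  rw [isGorensteinLocalRing_tensor_atPrime_iff k k' B q hfib,
    isGorensteinLocalRing_localization_maximalIdeal_iff B _ hq]

end Groth.Agent.Helper8.GorFlat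

namespace Groth.Agent.Helper8.GorFlat

open IsLocalRing LocCoh TensorProduct

/-- **S1803.** -/
theorem isGorensteinLocalRing_iff_tensor_finiteType (k k' : Type u) [Field k] [Field k']
    [Algebra k k'] (C : Type u) [CommRing C] [Algebra k C] [Algebra.FiniteType k C]
    (q : Ideal (C ⊗[k] k')) [q.IsPrime] :
    IsGorensteinLocalRing (Localization.AtPrime (q.comap (algebraMap C (C ⊗[k] k')))) ↔
      IsGorensteinLocalRing (Localization.AtPrime q) := by
  haveI : IsNoetherianRing C := Algebra.FiniteType.isNoetherianRing k C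
  haveI : IsNoetherianRing (k' ⊗[k] C) := Algebra.FiniteType.isNoetherianRing k' (k' ⊗[k] C)
  haveI : IsNoetherianRing (C ⊗[k] k') :=
    isNoetherianRing_of_ringEquiv _ (Algebra.TensorProduct.comm k k' C).toRingEquiv
  set p := q.comap (algebraMap C (C ⊗[k] k')) with hp
  haveI : Algebra.EssFiniteType k p.ResidueField :=
    Algebra.EssFiniteType.comp k C p.ResidueField
  obtain ⟨s, hs⟩ := IntermediateField.fg_top k p.ResidueField
  have hfib : IsGorensteinRing (p.ResidueField ⊗[k] k') :=
    isGorensteinRing_tensor_of_fg k p.ResidueField k' ⟨s, hs⟩ (isGorensteinRing_of_field k')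
  exact (isGorensteinLocalRing_tensor_atPrime_iff k k' C q hfib).symm

end Groth.Agent.Helper8.GorFlat
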