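import Mathlib
import Groth.Agent.Lib.Helper8.KP1
import Groth.Agent.Lib.Helper8.KE10

/-!
# Permutation invariance of the Koszul complex, part 2
-/

namespace Groth.Agent.Helper8.KoszulLib

open CategoryTheory CategoryTheory.Limits CochainComplex CohIII

universe u

variable {A : Type u} [CommRing A]

/-- The Koszul complex does not depend on the order of the sequence, up to isomorphism. -/
theorem nonempty_koszulCx_iso_of_perm (M : ModuleCat.{u} A) {l l' : List A} (h : l.Perm l') :
    Nonempty (koszulCx M l ≅ koszulCx M l') := by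
  induction h with
  | nil => exact ⟨Iso.refl _⟩
  | cons x _ ih =>
    obtain ⟨e⟩ := ih
    exact ⟨coneSmulIso e x⟩
  | swap x y l => exact ⟨swapIso (koszulCx M l) y x⟩
  | trans _ _ ih1 ih2 =>
    obtain ⟨e1⟩ := ih1
    obtain ⟨e2⟩ := ih2
    exact ⟨e1 ≪≫ e2⟩

theorem nonempty_homology_equiv_of_perm (M : ModuleCat.{u} A) {l l' : List A} (h : l.Perm l')
    (n : ℤ) : Nonempty ((koszulCx M l).homology n ≃ₗ[A] (koszulCx M l').homology n) := by
  obtain ⟨e⟩ := nonempty_koszulCx_iso_of_perm M h
  exact ⟨((HomologicalComplex.homologyFunctor _ _ n).mapIso e).toLinearEquiv⟩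

theorem length_homology_of_perm (M : ModuleCat.{u} A) {l l' : List A} (h : l.Perm l') (n : ℤ) :
    Module.length A ((koszulCx M l).homology n) = Module.length A ((koszulCx M l').homology n) := by
  obtain ⟨e⟩ := nonempty_homology_equiv_of_perm M h n
  exact e.length_eq

theorem kfl_of_perm {l l' : List A} (h : l.Perm l') (M : Type u) [AddCommGroup M] [Module A M]
    (hM : KFL l M) : KFL l' M := by
  intro n
  obtain ⟨e⟩ := nonempty_homology_equiv_of_perm (ModuleCat.of A M) h n
  exact e.isFiniteLength (hM n)

theorem chi_of_perm {l l' : List A} (h : l.Perm l') (M : Type u) [AddCommGroup M] [Module A M] :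
    chi l M = chi l' M := by
  unfold chi chiC
  refine finsum_congr fun n => ?_
  obtain ⟨e⟩ := nonempty_homology_equiv_of_perm (ModuleCat.of A M) h n
  rw [len_congr e]

end Groth.Agent.Helper8.KoszulLib
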