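import Mathlib

/-!
# Regular sequences, permutations and the elements `f_i x_i`

All reorderings of `f_1, …, f_r` are regular sequences in `R` iff `f_1 x_1, …, f_r x_r` is a regular
sequence in `R[x_1, …, x_r]`.
-/

set_option autoImplicit false
universe u

namespace Groth.Agent.Helper8.RS2

open RingTheory.Sequence

section General
variable {A : Type u} [CommRing A]

/-- `a` is a nonzerodivisor modulo `I`. -/
def Reg (I : Ideal A) (a : A) : Prop := ∀ c, a * c ∈ I → c ∈ I

theorem isSMulRegular_quot_iff (I : Ideal A) (a : A) :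
    IsSMulRegular (A ⧸ (I • ⊤ : Submodule A A)) a ↔ Reg I a := by
  rw [isSMulRegular_on_quot_iff_lsmul_comap_le]
  have e : (I • ⊤ : Submodule A A) = I := by
    rw [smul_eq_mul, Ideal.mul_top]
  rw [e]
  constructor
  · intro h c hc
    exact h (by simpa using hc)
  · intro h c hc
    exact h c (by simpa using hc)

theorem isWeaklyRegular_ofFn_iff {r : ℕ} (a : Fin r → A) :
    IsWeaklyRegular A (List.ofFn a) ↔
      ∀ k : Fin r, Reg (Ideal.span (a '' {i | i < k})) (a k) := by
  rw [isWeaklyRegular_iff_Fin]
  have hlen : (List.ofFn a).length = r := List.length_ofFn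
  have key : ∀ (k : Fin (List.ofFn a).length),
      Ideal.ofList ((List.ofFn a).take k) = Ideal.span (a '' {i | i < Fin.cast hlen k}) := by
    intro k
    apply congrArg Ideal.span
    ext x
    simp only [Set.mem_ofPred_eq, List.mem_take_iff_getElem, Set.mem_image]
    constructor
    · rintro ⟨j, hj, rfl⟩
      have hj' : j < k ∧ j < (List.ofFn a).length := lt_min_iff.mp hj
      refine ⟨⟨j, hlen ▸ hj'.2⟩, ?_, ?_⟩
      · exact Fin.lt_def.mpr hj'.1
      · simp [List.getElem_ofFn]
    · rintro ⟨i, hi, rfl⟩
      refine ⟨i.val, ?_, ?_⟩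
      · rw [lt_min_iff]; exact ⟨Fin.lt_def.mp hi, hlen.symm ▸ i.isLt⟩
      · simp
  constructor
  · intro h k
    have := h (Fin.cast hlen.symm k)
    rw [key, isSMulRegular_quot_iff] at this
    simpa using this
  · intro h k
    rw [key, isSMulRegular_quot_iff]
    have := h (Fin.cast hlen k)
    have e : (List.ofFn a)[k] = a (Fin.cast hlen k) := by simp; rfl
    rw [e]
    exact this

theorem reg_swap {I : Ideal A} {a b : A} (ha : Reg I a) (hb : Reg (I ⊔ Ideal.span {a}) b) :
    Reg (I ⊔ Ideal.span {b}) a := by
  intro c hc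
  obtain ⟨y, hy, z, hz, hyz⟩ := Submodule.mem_sup.mp hc
  obtain ⟨d, rfl⟩ := Ideal.mem_span_singleton'.mp hz
  have h1 : b * d ∈ I ⊔ Ideal.span {a} := by
    have : b * d = -y + c * a := by linear_combination hyz
    rw [this]
    exact Ideal.add_mem _ (Ideal.mem_sup_left (I.neg_mem hy))
      (Ideal.mem_sup_right (Ideal.mem_span_singleton'.mpr ⟨c, rfl⟩))
  obtain ⟨y', hy', z', hz', hyz'⟩ := Submodule.mem_sup.mp (hb d h1)
  obtain ⟨e, rfl⟩ := Ideal.mem_span_singleton'.mp hz'
  have h2 : a * (c - b * e) ∈ I := by
    have : a * (c - b * e) = y + b * y' := by linear_combination (-1 : A) * hyz - b * hyz'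
    rw [this]; exact I.add_mem hy (I.mul_mem_left _ hy')
  have h3 := ha _ h2
  have : c = (c - b * e) + e * b := by ring
  rw [this]
  exact Ideal.add_mem _ (Ideal.mem_sup_left h3)
    (Ideal.mem_sup_right (Ideal.mem_span_singleton'.mpr ⟨e, rfl⟩))

theorem reg_of_lower {r : ℕ} (f : Fin r → A)
    (h : ∀ (j : Fin r) (S : Finset (Fin r)), (∀ i ∈ S, i < j) →
      Reg (Ideal.span (f '' S)) (f j)) :
    ∀ (S : Finset (Fin r)) (j : Fin r), j ∉ S → Reg (Ideal.span (f '' S)) (f j) := by
  classical
  intro S
  induction S using Finset.induction_on_max with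
  | empty => intro j _; exact h j ∅ (by simp)
  | insert i S₀ hi ih =>
    intro j hj
    have hji : j ≠ i := fun e => hj (e ▸ Finset.mem_insert_self _ _)
    have hjS : j ∉ S₀ := fun e => hj (Finset.mem_insert_of_mem e)
    have hspan : ∀ (x : Fin r), Ideal.span (f '' ↑(insert x S₀)) =
        Ideal.span (f '' ↑S₀) ⊔ Ideal.span {f x} := by
      intro x
      rw [Finset.coe_insert, Set.image_insert_eq, Ideal.span_insert, sup_comm]
    rcases lt_or_gt_of_ne hji with hlt | hgt
    · rw [hspan]
      apply reg_swap (ih j hjS)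
      rw [← hspan]
      apply h i
      intro x hx
      rcases Finset.mem_insert.mp hx with rfl | hx
      · exact hlt
      · exact hi x hx
    · apply h j
      intro x hx
      rcases Finset.mem_insert.mp hx with rfl | hx
      · exact hgt
      · exact (hi x hx).trans hgt

omit [CommRing A] in
theorem exists_perm_ofFn {r : ℕ} (f : Fin r → A) (l : List (Fin r)) (nd : l.Nodup)
    (hl : ∀ x, x ∈ l) :
    ∃ σ : Equiv.Perm (Fin r), List.ofFn (f ∘ σ) = l.map f := by
  classical
  have hlen : l.length = r := by
    have : l.toFinset = Finset.univ := by ext x; simp [hl x]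
    have h2 := List.toFinset_card_of_nodup nd
    rw [this, Finset.card_univ, Fintype.card_fin] at h2
    exact h2.symm
  refine ⟨(finCongr hlen.symm).trans (nd.getEquivOfForallMemList l hl), ?_⟩
  apply List.ext_getElem
  · simp [hlen]
  · intro i h1 h2
    simp [List.Nodup.getEquivOfForallMemList]

theorem forall_perm_iff {r : ℕ} (f : Fin r → A) :
    (∀ σ : Equiv.Perm (Fin r), IsWeaklyRegular A (List.ofFn (f ∘ σ))) ↔
      ∀ (S : Finset (Fin r)) (j : Fin r), j ∉ S → Reg (Ideal.span (f '' S)) (f j) := by
  classical
  constructor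
  · intro h S j hj
    let rest : Finset (Fin r) := Finset.univ \ insert j S
    let l : List (Fin r) := S.toList ++ (j :: rest.toList)
    have nd : l.Nodup := by
      rw [List.nodup_append]
      refine ⟨S.nodup_toList, ?_, ?_⟩
      · rw [List.nodup_cons]
        exact ⟨by simp [rest], rest.nodup_toList⟩
      · intro a ha b hb
        rw [Finset.mem_toList] at ha
        rcases List.mem_cons.mp hb with rfl | hb
        · exact fun e => hj (e ▸ ha)
        · rw [Finset.mem_toList] at hb
          intro e
          have : b ∉ insert j S := (Finset.mem_sdiff.mp hb).2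
          exact this (Finset.mem_insert_of_mem (e ▸ ha))
    have hl : ∀ x, x ∈ l := by
      intro x
      simp only [l, rest, List.mem_append, Finset.mem_toList, List.mem_cons, Finset.mem_sdiff,
        Finset.mem_univ, true_and, Finset.mem_insert]
      tauto
    obtain ⟨σ, hσ⟩ := exists_perm_ofFn f l nd hl
    have hw := h σ
    rw [hσ, List.map_append, List.map_cons, isWeaklyRegular_append_iff,
      isWeaklyRegular_cons_iff] at hw
    have h3 := hw.2.1
    rw [isSMulRegular_quot_iff] at h3
    have e : Ideal.ofList (S.toList.map f) = Ideal.span (f '' S) := by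
      apply congrArg Ideal.span
      ext x
      simp
    rw [e] at h3
    exact h3
  · intro h σ
    rw [isWeaklyRegular_ofFn_iff]
    intro k
    have e : (f ∘ σ) '' {i | i < k} = f '' ↑((Finset.univ.filter (· < k)).image σ) := by
      ext x
      simp only [Set.mem_image, Set.mem_ofPred_eq, Function.comp_apply, Finset.coe_image,
        Finset.coe_filter, Finset.mem_univ, true_and]
      constructor
      · rintro ⟨i, hi, rfl⟩
        exact ⟨σ i, ⟨i, hi, rfl⟩, rfl⟩
      · rintro ⟨_, ⟨i, hi, rfl⟩, rfl⟩
        exact ⟨i, hi, rfl⟩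
    rw [e]
    apply h
    simp
end General

end Groth.Agent.Helper8.RS2
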