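import Mathlib
import Groth.Prelude
import Groth.Agent.Lib.Helper8.GorFlat5
import Groth.Agent.Lib.Helper8.Fib5
import Groth.Agent.Lib.Helper8.CplMap3

/-!
# Gorenstein fibres of a composite of flat maps
-/

set_option autoImplicit false
universe u

namespace Groth.Agent.Helper8.GorFlat

open IsLocalRing LocCoh

section Abstract

variable {A B F : Type u} [CommRing A] [CommRing B] [CommRing F] [IsLocalRing A] [IsLocalRing B]
  [IsLocalRing F] [IsNoetherianRing A] [IsNoetherianRing B] {φ : A →+* B} {γ : B →+* F}

/-- The main theorem with an abstract presentation of the closed fibre. -/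
theorem iff_of_flData (D : FLData φ γ) :
    IsGorensteinLocalRing B ↔ IsGorensteinLocalRing A ∧ IsGorensteinLocalRing F := by
  letI : Algebra A B := φ.toAlgebra
  haveI : Module.Flat A B := D.flat
  haveI : IsLocalHom (algebraMap A B) := D.isLocalHom
  rw [isGorensteinLocalRing_iff_of_flat A B]
  have hker : RingHom.ker γ = (maximalIdeal A).map (algebraMap A B) := D.ker
  let e : (B ⧸ (maximalIdeal A).map (algebraMap A B)) ≃+* F :=
    (Ideal.quotEquivOfEq hker.symm).trans (RingHom.quotientKerEquivOfSurjective D.surj)
  exact and_congr Iff.rfl ⟨fun h => isGorensteinLocalRing_of_ringEquiv e h,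
    fun h => isGorensteinLocalRing_of_ringEquiv e.symm h⟩

end Abstract

section Quot

variable (R S : Type u) [CommRing R] [CommRing S] [IsLocalRing R] [IsLocalRing S]
  [IsNoetherianRing R] [IsNoetherianRing S] [Algebra R S] [IsLocalHom (algebraMap R S)]
  [Module.Flat R S] (I : Ideal R)

theorem flData_quot (hI : I ≤ maximalIdeal R) [IsLocalRing (R ⧸ I)] :
    FLData (algebraMap (R ⧸ I) (S ⧸ I.map (algebraMap R S)))
      (Ideal.Quotient.factor (Ideal.map_mono hI) :
        S ⧸ I.map (algebraMap R S) →+* S ⧸ (maximalIdeal R).map (algebraMap R S)) := by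
  have hle : I.map (algebraMap R S) ≤ maximalIdeal S :=
    (Ideal.map_mono hI).trans (map_maximalIdeal_le R S)
  haveI := isLocalRing_quot _ hle
  refine ⟨?_, ?_, ?_, ?_⟩
  · have h1 : Module.Flat (R ⧸ I) (S ⧸ I.map (algebraMap R S)) :=
      Module.Flat.of_linearEquiv
        (Algebra.TensorProduct.quotIdealMapEquivQuotTensor S I).toLinearEquiv
    exact RingHom.flat_algebraMap_iff.mpr h1
  · haveI := isLocalHom_mk _ hle
    constructor
    intro a ha
    obtain ⟨a, rfl⟩ := Ideal.Quotient.mk_surjective a
    have h1 : IsUnit (Ideal.Quotient.mk (I.map (algebraMap R S)) (algebraMap R S a)) := ha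
    have h2 : IsUnit (algebraMap R S a) := isUnit_of_map_unit _ _ h1
    exact (isUnit_of_map_unit (algebraMap R S) a h2).map _
  · exact Ideal.Quotient.factor_surjective _
  · have h1 : RingHom.ker (Ideal.Quotient.factor (Ideal.map_mono hI) :
        S ⧸ I.map (algebraMap R S) →+* S ⧸ (maximalIdeal R).map (algebraMap R S)) =
        ((maximalIdeal R).map (algebraMap R S)).map
          (Ideal.Quotient.mk (I.map (algebraMap R S))) := by
      rw [Ideal.Quotient.factor_ker]
    rw [h1, Ideal.map_map, ← maximalIdeal_quot I, Ideal.map_map]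
    congr 1

/-- `S/IS` is Gorenstein iff `R/I` and the closed fibre are. -/
theorem isGorensteinLocalRing_quot_iff (hI : I ≤ maximalIdeal R) :
    IsGorensteinLocalRing (S ⧸ I.map (algebraMap R S)) ↔
      IsGorensteinLocalRing (R ⧸ I) ∧
        IsGorensteinLocalRing (S ⧸ (maximalIdeal R).map (algebraMap R S)) := by
  haveI := isLocalRing_quot _ hI
  haveI := isLocalRing_quot _ ((Ideal.map_mono hI).trans (map_maximalIdeal_le R S))
  haveI := isLocalRing_quot _ (map_maximalIdeal_le R S)
  exact iff_of_flData (flData_quot R S I hI)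

end Quot

end Groth.Agent.Helper8.GorFlat

namespace Groth.Agent.Helper8.GorFlat

open IsLocalRing LocCoh Groth.Agent.Helper8.Fib Groth.Agent.Helper8.FlatReg

section comp

variable (A B C : Type u) [CommRing A] [CommRing B] [CommRing C]
  [Algebra A B] [Algebra B C] [Algebra A C] [IsScalarTower A B C]
  [IsNoetherianRing B] [IsNoetherianRing C] [Module.Flat B C]

/-- The fibre local ring of `A → C` at `Q` is a flat local extension of the fibre local ring of
`A → B` at `Q ∩ B` with closed fibre the fibre local ring of `B → C` at `Q`. -/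
theorem isGorensteinLocalRing_fibLocRing_comp (Q : Ideal C) [Q.IsPrime]
    (h1 : IsGorensteinLocalRing (EGA4.FibLocRing A B (Q.comap (algebraMap B C))))
    (h2 : IsGorensteinLocalRing (EGA4.FibLocRing B C Q)) :
    IsGorensteinLocalRing (EGA4.FibLocRing A C Q) := by
  haveI : Q.LiesOver (Q.comap (algebraMap B C)) := ⟨rfl⟩
  letI := Localization.AtPrime.algebraOfLiesOver (Q.comap (algebraMap B C)) Q
  haveI : IsLocalHom (algebraMap (Localization.AtPrime (Q.comap (algebraMap B C)))
      (Localization.AtPrime Q)) := by
    rw [RingHom.algebraMap_toAlgebra]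
    exact Localization.isLocalHom_localRingHom _ Q (algebraMap B C) Ideal.LiesOver.over
  have hideal1 : (maximalIdeal (Localization.AtPrime (Q.comap (algebraMap B C)))).map
      (algebraMap (Localization.AtPrime (Q.comap (algebraMap B C))) (Localization.AtPrime Q)) =
      (Q.comap (algebraMap B C)).map (algebraMap B (Localization.AtPrime Q)) := by
    rw [← Localization.AtPrime.map_eq_maximalIdeal, Ideal.map_map,
      ← IsScalarTower.algebraMap_eq]
  have hideal2 : (((Q.comap (algebraMap B C)).comap (algebraMap A B)).map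
      (algebraMap A (Localization.AtPrime (Q.comap (algebraMap B C))))).map
      (algebraMap (Localization.AtPrime (Q.comap (algebraMap B C))) (Localization.AtPrime Q)) =
      (Q.comap (algebraMap A C)).map (algebraMap A (Localization.AtPrime Q)) := by
    rw [Ideal.map_map, ← IsScalarTower.algebraMap_eq, comap_comap_eq]
  have hle : ((Q.comap (algebraMap B C)).comap (algebraMap A B)).map
      (algebraMap A (Localization.AtPrime (Q.comap (algebraMap B C)))) ≤
      maximalIdeal (Localization.AtPrime (Q.comap (algebraMap B C))) := by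
    rw [Ideal.map_le_iff_le_comap]
    intro a ha
    rw [Ideal.mem_comap, IsScalarTower.algebraMap_apply A B
      (Localization.AtPrime (Q.comap (algebraMap B C)))]
    exact (IsLocalization.AtPrime.to_map_mem_maximal_iff _ (Q.comap (algebraMap B C)) _).mpr ha
  have h2' : IsGorensteinLocalRing (Localization.AtPrime Q ⧸
      (maximalIdeal (Localization.AtPrime (Q.comap (algebraMap B C)))).map
      (algebraMap (Localization.AtPrime (Q.comap (algebraMap B C))) (Localization.AtPrime Q))) :=
    isGorensteinLocalRing_of_ringEquiv (Ideal.quotEquivOfEq hideal1.symm) h2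
  have h3 := (isGorensteinLocalRing_quot_iff (Localization.AtPrime (Q.comap (algebraMap B C)))
    (Localization.AtPrime Q) (((Q.comap (algebraMap B C)).comap (algebraMap A B)).map
      (algebraMap A (Localization.AtPrime (Q.comap (algebraMap B C))))) hle).mpr ⟨h1, h2'⟩
  exact isGorensteinLocalRing_of_ringEquiv (Ideal.quotEquivOfEq hideal2) h3

end comp

section fibres

variable {R S : Type u} [CommRing R] [CommRing S] [Algebra R S]

/-- A Gorenstein fibre ring gives Gorenstein fibre local rings. -/
theorem isGorensteinLocalRing_fibLocRing_of_fiber (p : Ideal R) [p.IsPrime]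
    (hfib : IsGorensteinRing (p.Fiber S)) (Q : Ideal S) [Q.IsPrime]
    (h : Q.comap (algebraMap R S) = p) :
    IsGorensteinLocalRing (EGA4.FibLocRing R S Q) := by
  obtain ⟨Q', hQ'prime, hQ'⟩ := exists_fiber_prime p Q h
  obtain ⟨e⟩ := nonempty_ringEquiv_fibLocRing p Q' Q hQ'
  exact isGorensteinLocalRing_of_ringEquiv e (hfib.isGorensteinLocalRing_localization Q')

/-- Gorenstein fibre local rings give a Gorenstein fibre ring. -/
theorem isGorensteinRing_fiber_of_fibLocRing [IsNoetherianRing S] (p : Ideal R) [p.IsPrime]
    (h : ∀ (Q : Ideal S) [Q.IsPrime], Q.comap (algebraMap R S) = p →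
      IsGorensteinLocalRing (EGA4.FibLocRing R S Q)) :
    IsGorensteinRing (p.Fiber S) := by
  haveI := isNoetherianRing_fiber (S := S) p
  refine { isGorensteinLocalRing_localization := fun Q' _ => ?_ }
  set Q := Q'.comap (Algebra.TensorProduct.includeRight : S →ₐ[R] p.Fiber S) with hQdef
  haveI : Q.IsPrime := Ideal.comap_isPrime _ _
  obtain ⟨e⟩ := nonempty_ringEquiv_fibLocRing p Q' Q rfl
  have hover : Q.comap (algebraMap R S) = p := by
    have h1 : Q'.comap (algebraMap R (p.Fiber S)) = p :=
      (Ideal.LiesOver.over (p := p) (P := Q')).symm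
    refine Eq.trans ?_ h1
    ext x
    simp only [hQdef, Ideal.mem_comap]
    rw [AlgHom.commutes (Algebra.TensorProduct.includeRight : S →ₐ[R] p.Fiber S)]
  exact isGorensteinLocalRing_of_ringEquiv e.symm (h Q hover)

end fibres

section main

variable (A B C : Type u) [CommRing A] [CommRing B] [CommRing C]
  [IsNoetherianRing B] [IsNoetherianRing C] [Algebra A B] [Algebra B C] [Algebra A C]
  [IsScalarTower A B C]

/-- Gorenstein fibres compose. -/
theorem gorensteinFibres_comp [Module.Flat B C]
    (hAB : ∀ (p : Ideal A) [p.IsPrime], IsGorensteinRing (p.Fiber B))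
    (hBC : ∀ (q : Ideal B) [q.IsPrime], IsGorensteinRing (q.Fiber C))
    (p : Ideal A) [p.IsPrime] : IsGorensteinRing (p.Fiber C) := by
  apply isGorensteinRing_fiber_of_fibLocRing
  intro Q _ hQ
  have h1 : IsGorensteinLocalRing (EGA4.FibLocRing A B (Q.comap (algebraMap B C))) :=
    isGorensteinLocalRing_fibLocRing_of_fiber _ (hAB _) _ rfl
  have h2 : IsGorensteinLocalRing (EGA4.FibLocRing B C Q) :=
    isGorensteinLocalRing_fibLocRing_of_fiber _ (hBC _) Q rfl
  exact isGorensteinLocalRing_fibLocRing_comp A B C Q h1 h2

/-- **S8949.** -/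
theorem gorensteinFibres_comp_of_isRegularHom [Module.Flat B C]
    (hAB : ∀ (p : Ideal A) [p.IsPrime], IsGorensteinRing (p.Fiber B))
    (hBC : CAlg.IsRegularHom B C) (p : Ideal A) [p.IsPrime] : IsGorensteinRing (p.Fiber C) := by
  refine gorensteinFibres_comp A B C hAB (fun q _ => ?_) p
  haveI := CplMap.isRegularRing_of_isGeometricallyRegular _ _ (hBC.2 q).2
  exact isGorensteinRing_of_isRegularRing _

end main

end Groth.Agent.Helper8.GorFlat
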