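import Mathlib
import Groth.Prelude.Def_Flat

/-!
# Local dimension and dimension of covers
-/

set_option autoImplicit false
universe u

namespace Groth.Agent.Helper8.TopDim2

open TopologicalSpace Order Topology

variable {X : Type*} [TopologicalSpace X]

/-- A chain of irreducible closed sets whose smallest member meets the open set `S`
restricts to a chain of the same length in `S`. -/
theorem length_le_of_head_meets {S : Set X} (hS : IsOpen S) (p : LTSeries (IrreducibleCloseds X))
    (h : ((p.head : Set X) ∩ S).Nonempty) :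
    (p.length : WithBot ℕ∞) ≤ topologicalKrullDim ↥S := by
  have hemb : IsOpenEmbedding ((↑) : ↥S → X) := hS.isOpenEmbedding_subtypeVal
  let e := IrreducibleCloseds.orderIsoOfIsOpenEmbedding _ hemb
  have hmem : ∀ i, p i ∈ {V : IrreducibleCloseds X | (((↑) : ↥S → X) ⁻¹' V).Nonempty} := by
    intro i
    obtain ⟨x, hx1, hx2⟩ := h
    have hle : p.head ≤ p i := LTSeries.head_le p i
    exact ⟨⟨x, hx2⟩, hle hx1⟩
  let q : LTSeries (IrreducibleCloseds ↥S) :=
    { length := p.length
      toFun := fun i => e.symm ⟨p i, hmem i⟩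
      step := fun i => by
        apply e.symm.strictMono
        exact Subtype.mk_lt_mk.mpr (p.step i) }
  exact Order.LTSeries.length_le_krullDim q

theorem length_le_localDim (p : LTSeries (IrreducibleCloseds X)) {x : X}
    (hx : x ∈ (p.head : Set X)) : (p.length : WithBot ℕ∞) ≤ FlatMor.localDim X x := by
  unfold FlatMor.localDim
  apply le_iInf
  rintro ⟨U, hxU⟩
  exact length_le_of_head_meets U.isOpen p ⟨x, hx, hxU⟩

theorem localDim_le_dim (x : X) : FlatMor.localDim X x ≤ topologicalKrullDim X := by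
  unfold FlatMor.localDim
  exact le_trans (iInf_le _ ⟨⊤, trivial⟩) (topologicalKrullDim_subspace_le X _)

theorem localDim_le_of_mem {S : Set X} (hS : IsOpen S) {x : X} (hx : x ∈ S) :
    FlatMor.localDim X x ≤ topologicalKrullDim ↥S := by
  unfold FlatMor.localDim
  exact iInf_le (fun U : {U : Opens X // x ∈ U} => topologicalKrullDim ↥(U.1 : Set X))
    ⟨⟨S, hS⟩, hx⟩

theorem dim_le_of_forall_chain {b : WithBot ℕ∞}
    (h : ∀ p : LTSeries (IrreducibleCloseds X), (p.length : WithBot ℕ∞) ≤ b) :
    topologicalKrullDim X ≤ b := by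
  unfold topologicalKrullDim Order.krullDim
  exact iSup_le h

/-- `dim X = sup_x dim_x X`. -/
theorem dim_eq_iSup_localDim (X : Type*) [TopologicalSpace X] :
    topologicalKrullDim X = ⨆ x : X, FlatMor.localDim X x := by
  apply le_antisymm
  · apply dim_le_of_forall_chain
    intro p
    obtain ⟨x, hx⟩ := p.head.isIrreducible.nonempty
    exact le_trans (length_le_localDim p hx) (le_iSup (fun x => FlatMor.localDim X x) x)
  · exact iSup_le localDim_le_dim

/-- Over a Noetherian Kolmogorov space it suffices to take closed points. -/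
theorem dim_eq_iSup_localDim_closedPoints (X : Type*) [TopologicalSpace X]
    [NoetherianSpace X] [T0Space X] :
    topologicalKrullDim X = ⨆ x ∈ {x : X | IsClosed ({x} : Set X)}, FlatMor.localDim X x := by
  apply le_antisymm
  · apply dim_le_of_forall_chain
    intro p
    obtain ⟨x, hx, hxc⟩ := IsClosed.exists_closed_singleton p.head.isClosed
      p.head.isIrreducible.nonempty
    refine le_trans (length_le_localDim p hx) ?_
    exact le_iSup₂ (f := fun x (_ : x ∈ {x : X | IsClosed ({x} : Set X)}) =>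
      FlatMor.localDim X x) x hxc
  · exact iSup₂_le fun x _ => localDim_le_dim x

/-- Upper semicontinuity of the local dimension. -/
theorem upperSemicontinuous_localDim (X : Type*) [TopologicalSpace X] :
    UpperSemicontinuous fun x : X => FlatMor.localDim X x := by
  intro x c hc
  unfold FlatMor.localDim at hc
  rw [iInf_lt_iff] at hc
  obtain ⟨⟨U, hxU⟩, hU⟩ := hc
  filter_upwards [U.isOpen.mem_nhds hxU] with y hy
  exact lt_of_le_of_lt (localDim_le_of_mem U.isOpen hy) hU

/-- Open covers. -/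
theorem dim_eq_iSup_of_open_cover (X : Type*) [TopologicalSpace X] {ι : Type*}
    (U : ι → Opens X) (hcov : ⨆ i, U i = ⊤) :
    topologicalKrullDim X = ⨆ i, topologicalKrullDim (U i) := by
  apply le_antisymm
  · apply dim_le_of_forall_chain
    intro p
    obtain ⟨x, hx⟩ := p.head.isIrreducible.nonempty
    have hxU : x ∈ ⨆ i, U i := hcov ▸ trivial
    obtain ⟨i, hi⟩ := Opens.mem_iSup.mp hxU
    refine le_trans ?_ (le_iSup (fun i => topologicalKrullDim (U i)) i)
    exact length_le_of_head_meets (U i).isOpen p ⟨x, hx, hi⟩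
  · exact iSup_le fun i => topologicalKrullDim_subspace_le X _

theorem isPreirreducible_preimage_val {S Z : Set X} (hZS : Z ⊆ S) (hZ : IsPreirreducible Z) :
    IsPreirreducible (((↑) : ↥S → X) ⁻¹' Z) := by
  intro U₁ U₂ hU₁ hU₂ h₁ h₂
  obtain ⟨V₁, hV₁, rfl⟩ := isOpen_induced_iff.mp hU₁
  obtain ⟨V₂, hV₂, rfl⟩ := isOpen_induced_iff.mp hU₂
  obtain ⟨x, hxZ, hx1⟩ := h₁
  obtain ⟨y, hyZ, hy2⟩ := h₂
  obtain ⟨z, hzZ, hz1, hz2⟩ := hZ V₁ V₂ hV₁ hV₂ ⟨x, hxZ, hx1⟩ ⟨y, hyZ, hy2⟩
  exact ⟨⟨z, hZS hzZ⟩, hzZ, hz1, hz2⟩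

/-- A chain of irreducible closed sets inside a subset `S` gives a chain in `S`. -/
theorem length_le_of_last_subset {S : Set X} (p : LTSeries (IrreducibleCloseds X))
    (h : (p.last : Set X) ⊆ S) : (p.length : WithBot ℕ∞) ≤ topologicalKrullDim ↥S := by
  have hsub : ∀ i, (p i : Set X) ⊆ S := fun i => Set.Subset.trans (SetLike.coe_subset_coe.mpr (p.monotone (Fin.le_last i))) h
  let q : LTSeries (IrreducibleCloseds ↥S) :=
    { length := p.length
      toFun := fun i =>
        { carrier := ((↑) : ↥S → X) ⁻¹' (p i)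
          isIrreducible' := by
            refine ⟨?_, isPreirreducible_preimage_val (hsub i) (p i).isIrreducible.isPreirreducible⟩
            obtain ⟨x, hx⟩ := (p i).isIrreducible.nonempty
            exact ⟨⟨x, hsub i hx⟩, hx⟩
          isClosed' := (p i).isClosed.preimage continuous_subtype_val }
      step := fun i => by
        have hlt : p i.castSucc < p i.succ := p.step i
        rw [← SetLike.coe_ssubset_coe] at hlt
        change (_ : IrreducibleCloseds ↥S) < _
        rw [← SetLike.coe_ssubset_coe]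
        obtain ⟨hle, hne⟩ := hlt
        refine ⟨fun y hy => hle hy, fun hcon => hne ?_⟩
        intro x hx
        have := hcon (show (⟨x, hsub _ hx⟩ : ↥S) ∈ _ from hx)
        exact this }
  exact Order.LTSeries.length_le_krullDim q

/-- Finite closed covers. -/
theorem dim_eq_iSup_of_finite_closed_cover (X : Type*) [TopologicalSpace X] {ι : Type*}
    [Finite ι] (Y : ι → Set X) (hY : ∀ i, IsClosed (Y i)) (hcov : ⋃ i, Y i = Set.univ) :
    topologicalKrullDim X = ⨆ i, topologicalKrullDim (Y i) := by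
  classical
  apply le_antisymm
  · apply dim_le_of_forall_chain
    intro p
    have hirr := p.last.isIrreducible
    have hsub : (p.last : Set X) ⊆ ⋃₀ (Set.range Y) := by
      rw [Set.sUnion_range, hcov]; exact Set.subset_univ _
    obtain ⟨Z, hZ, hpZ⟩ := (isIrreducible_iff_sUnion_isClosed.mp hirr)
      (Set.finite_range Y).toFinset (by
        intro Z hZ
        obtain ⟨i, rfl⟩ := (Set.Finite.mem_toFinset _).mp hZ
        exact hY i) (by simpa using hsub)
    obtain ⟨i, rfl⟩ := (Set.Finite.mem_toFinset _).mp hZ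
    exact le_trans (length_le_of_last_subset p hpZ)
      (le_iSup (fun i => topologicalKrullDim (Y i)) i)
  · exact iSup_le fun i => topologicalKrullDim_subspace_le X _

/-- Locally finite closed covers. -/
theorem dim_eq_iSup_of_locallyFinite_closed_cover (X : Type*) [TopologicalSpace X] {ι : Type*}
    (Y : ι → Set X) (hY : ∀ i, IsClosed (Y i)) (hlf : LocallyFinite Y)
    (hcov : ⋃ i, Y i = Set.univ) :
    topologicalKrullDim X = ⨆ i, topologicalKrullDim (Y i) := by
  classical
  apply le_antisymm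
  · apply dim_le_of_forall_chain
    intro p
    obtain ⟨x, hx⟩ := p.head.isIrreducible.nonempty
    obtain ⟨t, ht, hfin⟩ := hlf x
    obtain ⟨U, hUt, hUo, hxU⟩ := mem_nhds_iff.mp ht
    have hfinU : {i | (Y i ∩ U).Nonempty}.Finite :=
      hfin.subset fun i ⟨y, hy1, hy2⟩ => ⟨y, hy1, hUt hy2⟩
    have hirr := p.last.isIrreducible
    have hxl : x ∈ (p.last : Set X) := (LTSeries.head_le p _ : p.head ≤ p.last) hx
    -- the open piece of the last member
    have hirrU : IsIrreducible ((p.last : Set X) ∩ U) := by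
      refine ⟨⟨x, hxl, hxU⟩, ?_⟩
      intro V₁ V₂ hV₁ hV₂ ⟨y₁, ⟨hy₁Z, hy₁U⟩, hy₁V⟩ ⟨y₂, ⟨hy₂Z, hy₂U⟩, hy₂V⟩
      obtain ⟨z, hzZ, ⟨hzU, hz1⟩, ⟨-, hz2⟩⟩ := hirr.isPreirreducible (U ∩ V₁) (U ∩ V₂)
        (hUo.inter hV₁) (hUo.inter hV₂) ⟨y₁, hy₁Z, hy₁U, hy₁V⟩ ⟨y₂, hy₂Z, hy₂U, hy₂V⟩
      exact ⟨z, ⟨hzZ, hzU⟩, hz1, hz2⟩
    have hsub : (p.last : Set X) ∩ U ⊆ ⋃₀ (Y '' {i | (Y i ∩ U).Nonempty}) := by
      intro y hy
      have : y ∈ ⋃ i, Y i := hcov ▸ Set.mem_univ y
      obtain ⟨i, hi⟩ := Set.mem_iUnion.mp this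
      exact ⟨Y i, ⟨i, ⟨y, hi, hy.2⟩, rfl⟩, hi⟩
    obtain ⟨Z, hZ, hpZ⟩ := (isIrreducible_iff_sUnion_isClosed.mp hirrU)
      (hfinU.image Y).toFinset (by
        intro Z hZ
        obtain ⟨i, -, rfl⟩ := (Set.Finite.mem_toFinset _).mp hZ
        exact hY i) (by simpa using hsub)
    obtain ⟨i, -, rfl⟩ := (Set.Finite.mem_toFinset _).mp hZ
    have hlast : (p.last : Set X) ⊆ Y i := by
      have hcl : closure ((p.last : Set X) ∩ U) = p.last := by
        apply subset_antisymm
        · exact closure_minimal Set.inter_subset_left p.last.isClosed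
        · exact subset_closure_inter_of_isPreirreducible_of_isOpen hirr.isPreirreducible hUo
            ⟨x, hxl, hxU⟩
      rw [← hcl]
      exact closure_minimal hpZ (hY i)
    exact le_trans (length_le_of_last_subset p hlast)
      (le_iSup (fun i => topologicalKrullDim (Y i)) i)
  · exact iSup_le fun i => topologicalKrullDim_subspace_le X _

end Groth.Agent.Helper8.TopDim2
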