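import Mathlib
import Groth.Prelude.Def_CAlgX
import Groth.Prelude.Def_Found
import Groth.Agent.Lib.Helper8.PRad14
import Groth.Agent.Lib.Helper8.AdicFS19
import Groth.Agent.Lib.Helper8.AdicFS17

/-!
# Finite type algebras over a field: geometrically regular iff smooth; smoothness via fibres
-/

set_option autoImplicit false

namespace Groth.Agent.Helper8.PRad

open IsLocalRing TensorProduct CAlgX

universe u

/-- A finite type algebra over a field which is geometrically regular is formally smooth. -/
theorem formallySmooth_of_isGeometricallyRegular (k C : Type u) [Field k] [CommRing C]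
    [Algebra k C] [Algebra.FiniteType k C] (h : CAlg.IsGeometricallyRegular k C) :
    Algebra.FormallySmooth k C := by
  haveI : IsNoetherianRing C := Algebra.FiniteType.isNoetherianRing k C
  haveI : Algebra.FinitePresentation k C := Algebra.FinitePresentation.of_finiteType.1 inferInstance
  rw [← Algebra.smoothLocus_eq_univ_iff, Set.eq_univ_iff_forall]
  intro q
  have h2 : CAlg.IsGeometricallyRegular k (Localization.AtPrime q.asIdeal) :=
    isGeometricallyRegular_localization h q.asIdeal.primeCompl
  have h3 := isGeometricallyRegular_iff_isAdicFormallySmooth.1 h2
  exact Groth.Agent.Helper8.AdicFS.isSmoothAt_of_isAdicFormallySmooth k C q.asIdeal h3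

/-- A finite type algebra over a field is geometrically regular iff it is formally smooth. -/
theorem isGeometricallyRegular_iff_formallySmooth (k C : Type u) [Field k] [CommRing C]
    [Algebra k C] [Algebra.FiniteType k C] :
    CAlg.IsGeometricallyRegular k C ↔ Algebra.FormallySmooth k C := by
  constructor
  · exact formallySmooth_of_isGeometricallyRegular k C
  · intro h
    haveI : IsNoetherianRing C := Algebra.FiniteType.isNoetherianRing k C
    exact Groth.Agent.Helper8.AdicFS.isGeometricallyRegular_of_formallySmooth_field k C

/-- A finitely presented algebra is smooth iff it is flat with geometrically regular fibres. -/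
theorem smooth_iff_flat_and_fibres (A B : Type u) [CommRing A] [CommRing B] [Algebra A B]
    [Algebra.FinitePresentation A B] :
    Algebra.Smooth A B ↔
      Module.Flat A B ∧ ∀ (p : Ideal A) [p.IsPrime],
        CAlg.IsGeometricallyRegular p.ResidueField (p.Fiber B) := by
  constructor
  · intro h
    refine ⟨inferInstance, fun p _ => ?_⟩
    haveI : IsNoetherianRing (p.Fiber B) :=
      Algebra.FiniteType.isNoetherianRing p.ResidueField (p.Fiber B)
    exact Groth.Agent.Helper8.AdicFS.isGeometricallyRegular_of_formallySmooth_field _ _
  · rintro ⟨hflat, hfib⟩
    haveI := hflat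
    exact Algebra.Smooth.of_formallySmooth_fiber
      (fun p _ => formallySmooth_of_isGeometricallyRegular _ _ (hfib p))

end Groth.Agent.Helper8.PRad
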