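import Groth.Agent.Lib.Helper8.LC45

set_option autoImplicit false
universe u
open CategoryTheory CategoryTheory.Limits Opposite

namespace Groth.Agent.Helper8.LC

open Abelian localCohomology LocCoh

lemma exists_addEquiv_of_surjective {A A' C C' : Type*} [AddCommGroup A] [AddCommGroup A']
    [AddCommGroup C] [AddCommGroup C'] (d : A →+ C) (d' : A' →+ C')
    (hd : Function.Surjective d) (hd' : Function.Surjective d') (φ : A ≃+ A')
    (h : ∀ x, d x = 0 ↔ d' (φ x) = 0) : ∃ ψ : C ≃+ C', ∀ x, ψ (d x) = d' (φ x) := by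
  have he : (AddMonoidHom.ker d).map (φ : A →+ A') = AddMonoidHom.ker d' := by
    ext y
    rw [AddSubgroup.mem_map, AddMonoidHom.mem_ker]
    constructor
    · rintro ⟨x, hx, rfl⟩
      exact (h x).mp hx
    · intro hy
      refine ⟨φ.symm y, ?_, φ.apply_symm_apply y⟩
      rw [AddMonoidHom.mem_ker, h, φ.apply_symm_apply]
      exact hy
  let e₁ := QuotientAddGroup.quotientKerEquivOfSurjective d hd
  let e₂ := QuotientAddGroup.quotientKerEquivOfSurjective d' hd'
  let e₃ := QuotientAddGroup.congr (AddMonoidHom.ker d) (AddMonoidHom.ker d') φ he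
  refine ⟨e₁.symm.trans (e₃.trans e₂), ?_⟩
  intro x
  have h1 : e₁ (QuotientAddGroup.mk x) = d x := rfl
  rw [← h1]
  change e₂ (e₃ (e₁.symm (e₁ _))) = _
  rw [AddEquiv.symm_apply_apply]
  rfl

variable {R : Type u} [CommRing R] {R' : Type u} [CommRing R'] [Algebra R R']

section Deg0

variable (I : Ideal R) (X : Type u) [AddCommGroup X] [Module R' X] [Module R X]
  [IsScalarTower R R' X]

/-- the comparison in degree zero. -/
noncomputable def h0Semi :
    H (I.map (algebraMap R R')) 0 X ≃+ H I 0 X :=
  (h0Equiv (I.map (algebraMap R R')) (ModuleCat.of R' X)).toAddEquiv.trans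
    ((torsionSubMapEquiv (R' := R') I X).symm.toAddEquiv.trans
      (h0Equiv I (ModuleCat.of R X)).symm.toAddEquiv)

lemma ev0_h0Semi (y : H (I.map (algebraMap R R')) 0 X) :
    ev0 I (ModuleCat.of R X) (h0Semi (R' := R') I X y) =
      ev0 (I.map (algebraMap R R')) (ModuleCat.of R' X) y := by
  rw [← h0Equiv_apply]
  change ((h0Equiv I (ModuleCat.of R X)) ((h0Equiv I (ModuleCat.of R X)).symm _) : X) = _
  rw [LinearEquiv.apply_symm_apply]
  rfl

lemma h0Semi_smul (r : R) (y : H (I.map (algebraMap R R')) 0 X) :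
    h0Semi (R' := R') I X (algebraMap R R' r • y) = r • h0Semi (R' := R') I X y := by
  apply ev0_injective I (ModuleCat.of R X)
  rw [ev0_h0Semi, LinearMap.map_smul, LinearMap.map_smul, ev0_h0Semi]
  exact algebraMap_smul R' r _

variable {X} in
lemma h0Semi_natural {Y : Type u} [AddCommGroup Y] [Module R' Y] [Module R Y]
    [IsScalarTower R R' Y] (g : X →ₗ[R'] Y) (y : H (I.map (algebraMap R R')) 0 X) :
    h0Semi (R' := R') I Y
      (((localCohomology (I.map (algebraMap R R')) 0).map (ModuleCat.ofHom g)) y) =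
    ((localCohomology I 0).map (ModuleCat.ofHom (g.restrictScalars R)))
      (h0Semi (R' := R') I X y) := by
  apply ev0_injective I (ModuleCat.of R Y)
  rw [ev0_h0Semi, ev0_map, ev0_map, ev0_h0Semi]
  rfl

end Deg0

section Gen

variable (J : Ideal R)

lemma δ_surjective_of_subsingleton (k : ℕ) {S : ShortComplex (ModuleCat.{u} R)}
    (hS : S.ShortExact) (h : Subsingleton ((localCohomology J (k + 1)).obj S.X₂)) :
    Function.Surjective (δ J k hS) := by
  intro y
  have h1 : ((localCohomology J (k + 1)).map S.f) y = 0 := h.elim _ _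
  exact (exact_δ_f J k hS y).mp h1

lemma δ_bijective_of_subsingleton (k : ℕ) {S : ShortComplex (ModuleCat.{u} R)}
    (hS : S.ShortExact) (h0 : Subsingleton ((localCohomology J k).obj S.X₂))
    (h : Subsingleton ((localCohomology J (k + 1)).obj S.X₂)) :
    Function.Bijective (δ J k hS) := by
  refine ⟨?_, δ_surjective_of_subsingleton J k hS h⟩
  rw [injective_iff_map_eq_zero]
  intro x hx
  obtain ⟨w, rfl⟩ := (exact_g_δ J k hS x).mp hx
  have : w = 0 := h0.elim _ _
  rw [this, map_zero]

end Gen

section Abstract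

variable (J' : Ideal R') (I : Ideal R) {S' : ShortComplex (ModuleCat.{u} R')}
  (hS' : S'.ShortExact) {S : ShortComplex (ModuleCat.{u} R)} (hS : S.ShortExact)

include hS' hS in
lemma exists_semi_one
    (φQ : (localCohomology J' 0).obj S'.X₃ ≃+ (localCohomology I 0).obj S.X₃)
    (hφQ : ∀ (r : R) (x : (localCohomology J' 0).obj S'.X₃),
      φQ (algebraMap R R' r • x) = r • φQ x)
    (φE : (localCohomology J' 0).obj S'.X₂ ≃+ (localCohomology I 0).obj S.X₂)
    (hnat : ∀ y, φQ (((localCohomology J' 0).map S'.g) y) =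
      ((localCohomology I 0).map S.g) (φE y))
    (hd' : Function.Surjective (δ J' 0 hS')) (hd : Function.Surjective (δ I 0 hS)) :
    ∃ ψ : (localCohomology J' (0 + 1)).obj S'.X₁ ≃+ (localCohomology I (0 + 1)).obj S.X₁,
      ∀ (r : R) (x : (localCohomology J' (0 + 1)).obj S'.X₁),
        ψ (algebraMap R R' r • x) = r • ψ x := by
  obtain ⟨ψ, hψ⟩ := exists_addEquiv_of_surjective
    (δ J' 0 hS').toAddMonoidHom (δ I 0 hS).toAddMonoidHom hd' hd φQ (by
      intro x
      constructor
      · intro hx
        obtain ⟨y, rfl⟩ := (exact_g_δ J' 0 hS' x).mp hx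
        change δ I 0 hS (φQ _) = 0
        rw [hnat]
        exact (exact_g_δ I 0 hS _).mpr ⟨_, rfl⟩
      · intro hx
        obtain ⟨w, hw⟩ := (exact_g_δ I 0 hS _).mp hx
        obtain ⟨y, rfl⟩ := φE.surjective w
        rw [← hnat] at hw
        have := φQ.injective hw
        change δ J' 0 hS' x = 0
        rw [← this]
        exact (exact_g_δ J' 0 hS' _).mpr ⟨_, rfl⟩)
  refine ⟨ψ, ?_⟩
  intro r z
  obtain ⟨x, rfl⟩ := hd' z
  have h1 : ∀ x, ψ (δ J' 0 hS' x) = δ I 0 hS (φQ x) := hψ
  rw [← map_smul, h1, h1, hφQ, map_smul]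

include hS' hS in
lemma exists_semi_succ (i : ℕ)
    (φ : (localCohomology J' i).obj S'.X₃ ≃+ (localCohomology I i).obj S.X₃)
    (hφ : ∀ (r : R) (x : (localCohomology J' i).obj S'.X₃),
      φ (algebraMap R R' r • x) = r • φ x)
    (hd' : Function.Bijective (δ J' i hS')) (hd : Function.Bijective (δ I i hS)) :
    ∃ ψ : (localCohomology J' (i + 1)).obj S'.X₁ ≃+ (localCohomology I (i + 1)).obj S.X₁,
      ∀ (r : R) (x : (localCohomology J' (i + 1)).obj S'.X₁),
        ψ (algebraMap R R' r • x) = r • ψ x := by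
  let d' := LinearEquiv.ofBijective (δ J' i hS') hd'
  let d := LinearEquiv.ofBijective (δ I i hS) hd
  refine ⟨d'.symm.toAddEquiv.trans (φ.trans d.toAddEquiv), ?_⟩
  intro r x
  change d (φ (d'.symm (algebraMap R R' r • x))) = r • d (φ (d'.symm x))
  rw [map_smul, hφ, map_smul]

end Abstract

section Main

variable [IsNoetherianRing R] [IsNoetherianRing R']

/-- independence of the base. -/
theorem exists_semilinear_equiv (I : Ideal R) (i : ℕ) (M' : Type u) [AddCommGroup M']
    [Module R' M'] [Module R M'] [IsScalarTower R R' M'] :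
    ∃ φ : H (I.map (algebraMap R R')) i M' ≃+ H I i M',
      ∀ (r : R) (x : H (I.map (algebraMap R R')) i M'), φ (algebraMap R R' r • x) = r • φ x := by
  induction i generalizing M' with
  | zero => exact ⟨h0Semi (R' := R') I M', h0Semi_smul I M'⟩
  | succ i ih =>
    let J' : Ideal R' := I.map (algebraMap R R')
    let E₀ : ModuleCat.{u} R' := Injective.under (ModuleCat.of R' M')
    let ι₀ : ModuleCat.of R' M' ⟶ E₀ := Injective.ι (ModuleCat.of R' M')
    have hι₀ : Function.Injective ι₀.hom := (ModuleCat.mono_iff_injective _).mp inferInstance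
    haveI hinj : Injective (ModuleCat.of R' E₀) :=
      (inferInstance : Injective (Injective.under (ModuleCat.of R' M')))
    haveI : Module.Injective R' E₀ := Module.injective_module_of_injective_object R' E₀
    letI : Module R E₀ := Module.compHom E₀ (algebraMap R R')
    haveI : IsScalarTower R R' E₀ := ⟨fun r r' x => by
      change (r • r') • x = algebraMap R R' r • r' • x
      rw [Algebra.smul_def, mul_smul]⟩
    let f : M' →ₗ[R'] E₀ := ι₀.hom
    have hS' := sesQuot_shortExact f hι₀
    haveI : Injective (sesQuot f).X₂ := hinj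
    let Qm := E₀ ⧸ LinearMap.range f
    let fR : M' →ₗ[R] E₀ := f.restrictScalars R
    let gR : E₀ →ₗ[R] Qm := (LinearMap.range f).mkQ.restrictScalars R
    have hgf : gR ∘ₗ fR = 0 := by
      apply LinearMap.ext
      intro x
      exact LinearMap.congr_fun (LinearMap.range_mkQ_comp f) x
    have hS : (ModuleCat.shortComplexOfCompEqZero fR gR hgf).ShortExact := by
      apply ModuleCat.shortComplex_shortExact
      · intro x
        change (LinearMap.range f).mkQ x = 0 ↔ x ∈ Set.range f
        rw [Submodule.mkQ_apply, Submodule.Quotient.mk_eq_zero]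
        rfl
      · exact hι₀
      · intro y
        obtain ⟨x, rfl⟩ := Submodule.mkQ_surjective (LinearMap.range f) y
        exact ⟨x, rfl⟩
    have hE : ∀ k, 0 < k → Subsingleton (H I k E₀) := fun k hk =>
      subsingleton_H_of_injective_algebra (R' := R') I E₀ k hk
    rcases Nat.eq_zero_or_pos i with rfl | hi
    · -- degree one
      exact exists_semi_one J' I hS' hS (h0Semi (R' := R') I Qm) (h0Semi_smul I Qm)
        (h0Semi (R' := R') I E₀)
        (fun y => h0Semi_natural (R' := R') I (LinearMap.range f).mkQ y)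
        (δ_surjective_of_injective J' 0 hS')
        (δ_surjective_of_subsingleton I 0 hS (hE 1 Nat.one_pos))
    · -- higher degrees
      obtain ⟨φ, hφ⟩ := ih Qm
      exact exists_semi_succ J' I hS' hS i φ hφ (δ_bijective_of_injective J' i hi hS')
        (δ_bijective_of_subsingleton I i hS (hE i hi) (hE (i + 1) (Nat.succ_pos i)))

end Main

end Groth.Agent.Helper8.LC
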