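import Groth.Agent.Lib.Helper8.LC5

set_option autoImplicit false
universe u
open CategoryTheory CategoryTheory.Limits Opposite

namespace Groth.Agent.Helper8.LC

variable {R : Type u} [CommRing R] (J : Ideal R) (i : ℕ)

open Abelian localCohomology

/-- the module `R / J ^ n` as an object. -/
abbrev Q (n : ℕ) : ModuleCat.{u} R := ModuleCat.of R (R ⧸ J ^ n)

/-- the projection `R / J ^ k ⟶ R / J ^ n` for `n ≤ k`. -/
def proj {n k : ℕ} (h : n ≤ k) : Q J k ⟶ Q J n :=
  ModuleCat.ofHom (Submodule.mapQ _ _ LinearMap.id (Ideal.pow_le_pow_right h))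

/-- index in the diagram -/
abbrev idx (n : ℕ) : ℕᵒᵖᵒᵖ := op (op n)

/-- morphisms in the index category -/
def idxHom {n k : ℕ} (h : n ≤ k) : idx n ⟶ idx k := (homOfLE h).op.op

lemma diagram_map_idxHom {n k : ℕ} (h : n ≤ k) :
    (diagram (idealPowersDiagram J) i).map (idxHom h) =
      (Ext R (ModuleCat.{u} R) i).map (proj J h).op := rfl

lemma diagram_map_app_symm {n k : ℕ} (h : n ≤ k) (M : ModuleCat.{u} R)
    (e : Abelian.Ext (Q J n) M i) :
    (((diagram (idealPowersDiagram J) i).map (idxHom h)).app M) ((cmpC (Q J n) M i).symm e) =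
      (cmpC (Q J k) M i).symm ((Ext.mk₀ (proj J h)).comp e (zero_add i)) :=
  cmpC_symm_pre (proj J h) M i e

instance : IsFiltered ℕᵒᵖᵒᵖ := inferInstance

noncomputable instance : PreservesColimitsOfShape ℕᵒᵖᵒᵖ (forget (ModuleCat.{u} R)) :=
  haveI := preservesSmallestFilteredColimits_of_preservesFilteredColimits
    (forget (ModuleCat.{u} R))
  PreservesFilteredColimitsOfSize.preserves_filtered_colimits _

/-- the evaluated colimit cocone is a colimit. -/
noncomputable def isColimitEval (M : ModuleCat.{u} R) :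
    IsColimit (((evaluation _ _).obj M).mapCocone
      (colimit.cocone (diagram (idealPowersDiagram J) i))) :=
  isColimitOfPreserves _ (colimit.isColimit _)

/-- the structure map from the new Ext group to local cohomology. -/
noncomputable def ι (n : ℕ) (M : ModuleCat.{u} R) :
    Abelian.Ext (Q J n) M i →ₗ[R] (localCohomology J i).obj M :=
  ((colimit.ι (diagram (idealPowersDiagram J) i) (idx n)).app M).hom ∘ₗ
    (cmpC (Q J n) M i).symm.toLinearMap

lemma ι_trans {n k : ℕ} (h : n ≤ k) (M : ModuleCat.{u} R) (e : Abelian.Ext (Q J n) M i) :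
    ι J i k M ((Ext.mk₀ (proj J h)).comp e (zero_add i)) = ι J i n M e := by
  have hw := colimit.w (diagram (idealPowersDiagram J) i) (idxHom h)
  have hw' := congrArg (fun α => (α.app M).hom ((cmpC (Q J n) M i).symm e)) hw
  change ((colimit.ι (diagram (idealPowersDiagram J) i) (idx k)).app M)
    ((((diagram (idealPowersDiagram J) i).map (idxHom h)).app M)
      ((cmpC (Q J n) M i).symm e)) = _ at hw'
  rw [diagram_map_app_symm] at hw'
  exact hw'

lemma ι_map (n : ℕ) {M M' : ModuleCat.{u} R} (f : M ⟶ M') (e : Abelian.Ext (Q J n) M i) :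
    ((localCohomology J i).map f) (ι J i n M e) = ι J i n M' (e.comp (Ext.mk₀ f) (add_zero i)) := by
  have hn := (colimit.ι (diagram (idealPowersDiagram J) i) (idx n)).naturality f
  have hn' := congrArg (fun α => α.hom ((cmpC (Q J n) M i).symm e)) hn
  change ((colimit.ι (diagram (idealPowersDiagram J) i) (idx n)).app M')
    ((((diagram (idealPowersDiagram J) i).obj (idx n)).map f) ((cmpC (Q J n) M i).symm e)) = _ at hn'
  have h2 : (((diagram (idealPowersDiagram J) i).obj (idx n)).map f) ((cmpC (Q J n) M i).symm e) =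
      (cmpC (Q J n) M' i).symm (e.comp (Ext.mk₀ f) (add_zero i)) := cmpC_symm_post f i e
  rw [h2] at hn'
  exact hn'.symm

lemma old_rep (M : ModuleCat.{u} R) (x : (localCohomology J i).obj M) :
    ∃ (n : ℕ) (y : ((Ext R (ModuleCat.{u} R) i).obj (op (Q J n))).obj M),
      ((colimit.ι (diagram (idealPowersDiagram J) i) (idx n)).app M) y = x := by
  obtain ⟨j, y, hy⟩ := Concrete.isColimit_exists_rep
    (diagram (idealPowersDiagram J) i ⋙ (evaluation _ _).obj M) (isColimitEval J i M) x
  exact ⟨j.unop.unop, y, hy⟩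

lemma old_eq {n m : ℕ} (M : ModuleCat.{u} R)
    (y : ((Ext R (ModuleCat.{u} R) i).obj (op (Q J n))).obj M)
    (y' : ((Ext R (ModuleCat.{u} R) i).obj (op (Q J m))).obj M)
    (h : ((colimit.ι (diagram (idealPowersDiagram J) i) (idx n)).app M) y =
      ((colimit.ι (diagram (idealPowersDiagram J) i) (idx m)).app M) y') :
    ∃ (k : ℕ) (hn : n ≤ k) (hm : m ≤ k),
      (((diagram (idealPowersDiagram J) i).map (idxHom hn)).app M) y =
        (((diagram (idealPowersDiagram J) i).map (idxHom hm)).app M) y' := by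
  obtain ⟨k, f, g, hfg⟩ := Concrete.isColimit_exists_of_rep_eq
    (diagram (idealPowersDiagram J) i ⋙ (evaluation _ _).obj M)
    (i := idx n) (j := idx m) (isColimitEval J i M) y y' h
  have hn : n ≤ k.unop.unop := leOfHom f.unop.unop
  have hm : m ≤ k.unop.unop := leOfHom g.unop.unop
  refine ⟨k.unop.unop, hn, hm, ?_⟩
  have hf : f = idxHom hn := Subsingleton.elim _ _
  have hg : g = idxHom hm := Subsingleton.elim _ _
  rw [hf, hg] at hfg
  exact hfg

lemma ι_rep (M : ModuleCat.{u} R) (x : (localCohomology J i).obj M) :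
    ∃ (n : ℕ) (e : Abelian.Ext (Q J n) M i), ι J i n M e = x := by
  obtain ⟨n, y, hy⟩ := old_rep J i M x
  refine ⟨n, cmpC (Q J n) M i y, ?_⟩
  change ((colimit.ι (diagram (idealPowersDiagram J) i) (idx n)).app M)
    ((cmpC (Q J n) M i).symm (cmpC (Q J n) M i y)) = x
  rw [LinearEquiv.symm_apply_apply]
  exact hy

lemma ι_eq_iff {n m : ℕ} (M : ModuleCat.{u} R) (e : Abelian.Ext (Q J n) M i)
    (e' : Abelian.Ext (Q J m) M i) :
    ι J i n M e = ι J i m M e' ↔ ∃ (k : ℕ) (hn : n ≤ k) (hm : m ≤ k),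
      (Ext.mk₀ (proj J hn)).comp e (zero_add i) = (Ext.mk₀ (proj J hm)).comp e' (zero_add i) := by
  constructor
  · intro h
    obtain ⟨k, hn, hm, hfg⟩ := old_eq J i M ((cmpC (Q J n) M i).symm e)
      ((cmpC (Q J m) M i).symm e') h
    refine ⟨k, hn, hm, ?_⟩
    rw [diagram_map_app_symm, diagram_map_app_symm] at hfg
    exact (cmpC (Q J k) M i).symm.injective hfg
  · rintro ⟨k, hn, hm, h⟩
    rw [← ι_trans J i hn, ← ι_trans J i hm, h]

end Groth.Agent.Helper8.LC
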