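import Mathlib
import Groth.Prelude
import Groth.Agent.Lib.Helper8.AdicReg1

/-!
# The completion of a quotient of a Noetherian local ring (surjective algebra maps)
-/

set_option autoImplicit false
universe u

namespace Groth.Agent.Helper8.CplSurj

open IsLocalRing

variable (A B : Type u) [CommRing A] [CommRing B] [IsNoetherianRing A] [IsLocalRing A]
  [IsNoetherianRing B] [IsLocalRing B] [Algebra A B]

section

variable {A B}
variable (hs : Function.Surjective (algebraMap A B))
include hs

omit [IsNoetherianRing A] [IsNoetherianRing B] in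
theorem map_maximalIdeal :
    (maximalIdeal A).map (algebraMap A B) = maximalIdeal B :=
  map_maximalIdeal_of_surjective _ hs

omit [IsNoetherianRing A] [IsNoetherianRing B] in
theorem pow_le_comap (n : ℕ) :
    (maximalIdeal A) ^ n ≤ ((maximalIdeal B) ^ n).comap (Algebra.ofId A B) := by
  change _ ≤ ((maximalIdeal B) ^ n).comap (algebraMap A B)
  rw [← Ideal.map_le_iff_le_comap, Ideal.map_pow, map_maximalIdeal hs]

/-- The level maps `Â → B/𝔪ⁿ`. -/
noncomputable def lvl (n : ℕ) : EGA4.Cpl A →ₐ[A] B ⧸ (maximalIdeal B) ^ n :=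
  (Ideal.quotientMapₐ ((maximalIdeal B) ^ n) (Algebra.ofId A B)
    (pow_le_comap hs n)).comp (AdicCompletion.evalₐ (maximalIdeal A) n)

omit [IsNoetherianRing A] [IsNoetherianRing B] in
theorem lvl_mk (n : ℕ) (c : AdicCompletion.AdicCauchySequence (maximalIdeal A) A) :
    lvl hs n (AdicCompletion.mk (maximalIdeal A) A c) =
      Ideal.Quotient.mk _ (algebraMap A B (c.val n)) := by
  simp [lvl, AdicCompletion.evalₐ_mk]

omit [IsNoetherianRing A] [IsNoetherianRing B] in
theorem lvl_compat {m n : ℕ} (hle : m ≤ n) :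
    (Ideal.Quotient.factorₐ A (Ideal.pow_le_pow_right hle)).comp (lvl hs n) = lvl hs m := by
  ext x
  obtain ⟨c, rfl⟩ := AdicCompletion.mk_surjective (maximalIdeal A) A x
  rw [AlgHom.comp_apply, lvl_mk, lvl_mk]
  have h1 := AdicCompletion.Ideal.mk_eq_mk (maximalIdeal A) hle c
  rw [Ideal.Quotient.eq] at h1
  change Ideal.Quotient.mk _ (algebraMap A B (c.val n)) = _
  rw [Ideal.Quotient.eq, ← map_sub]
  have h2 := pow_le_comap hs m h1
  exact h2

/-- The canonical map `Â → B^`. -/
noncomputable def psi : EGA4.Cpl A →ₐ[A] EGA4.Cpl B :=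
  AdicCompletion.liftAlgHom (maximalIdeal B) (lvl hs) (fun hle => lvl_compat hs hle)

omit [IsNoetherianRing A] [IsNoetherianRing B] in
theorem evalₐ_psi (n : ℕ) (x : EGA4.Cpl A) :
    AdicCompletion.evalₐ (maximalIdeal B) n (psi hs x) = lvl hs n x :=
  AdicCompletion.evalₐ_liftAlgHom _ _ _ _ _

omit [IsNoetherianRing A] [IsNoetherianRing B] in
theorem psi_comp_algebraMap :
    (psi hs).toRingHom.comp (algebraMap A (EGA4.Cpl A)) =
      (algebraMap B (EGA4.Cpl B)).comp (algebraMap A B) := by
  refine RingHom.ext fun a => ?_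
  change (psi hs) (algebraMap A (EGA4.Cpl A) a) = _
  rw [AlgHom.commutes]
  exact IsScalarTower.algebraMap_apply A B (EGA4.Cpl B) a

theorem map_psi_maximalIdeal :
    (maximalIdeal (EGA4.Cpl A)).map (psi hs).toRingHom = maximalIdeal (EGA4.Cpl B) := by
  rw [AdicCompletion.maximalIdeal_eq_map (R := A), Ideal.map_map, psi_comp_algebraMap,
    ← Ideal.map_map, map_maximalIdeal hs, ← AdicCompletion.maximalIdeal_eq_map]

theorem psi_surjective : Function.Surjective (psi hs) := by
  haveI : IsNoetherianRing (EGA4.Cpl B) :=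
    Groth.Agent.Helper8.AdicReg.isNoetherianRing B _
  haveI : IsHausdorff ((maximalIdeal (EGA4.Cpl A)).map (psi hs).toRingHom)
      (EGA4.Cpl B) := by
    rw [map_psi_maximalIdeal]; infer_instance
  refine _root_.surjective_of_mk_map_comp_surjective
    (I := maximalIdeal (EGA4.Cpl A)) (psi hs).toRingHom ?_
  intro y
  obtain ⟨y, rfl⟩ := Ideal.Quotient.mk_surjective y
  obtain ⟨a', ha'⟩ := Ideal.Quotient.mk_surjective
    (AdicCompletion.evalOneₐ (maximalIdeal B) y)
  obtain ⟨a, rfl⟩ := hs a'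
  refine ⟨algebraMap A (EGA4.Cpl A) a, ?_⟩
  change Ideal.Quotient.mk _ ((psi hs) (algebraMap A (EGA4.Cpl A) a)) = _
  rw [AlgHom.commutes, Ideal.Quotient.eq, map_psi_maximalIdeal,
    AdicCompletion.maximalIdeal_eq_map,
    ← AdicCompletion.ker_evalOneₐ_eq_map _ (maximalIdeal B).fg_of_isNoetherianRing,
    RingHom.mem_ker, map_sub, sub_eq_zero]
  change AdicCompletion.evalOneₐ (maximalIdeal B) _ = AdicCompletion.evalOneₐ _ y
  rw [← ha', IsScalarTower.algebraMap_apply A B (EGA4.Cpl B) a]
  rfl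

end

theorem mem_map_pow_of_evalₐ_eq_zero (n : ℕ) (x : EGA4.Cpl A)
    (hx : AdicCompletion.evalₐ (maximalIdeal A) n x = 0) :
    x ∈ ((maximalIdeal A) ^ n).map (algebraMap A (EGA4.Cpl A)) := by
  have h1 : x ∈ (AdicCompletion.eval (maximalIdeal A) A n).ker := by
    rw [LinearMap.mem_ker, ← AdicCompletion.factor_evalₐ_eq_eval _ x (by simp), hx, map_zero]
  rw [← AdicCompletion.pow_smul_top_eq_ker_eval (maximalIdeal A).fg_of_isNoetherianRing,
    Ideal.smul_top_eq_map] at h1
  exact h1

variable {A B}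
variable (hs : Function.Surjective (algebraMap A B))
include hs

omit [IsNoetherianRing B] in
theorem ker_psi :
    RingHom.ker (psi hs).toRingHom =
      (RingHom.ker (algebraMap A B)).map (algebraMap A (EGA4.Cpl A)) := by
  apply le_antisymm
  · intro x hx
    have hx0 : psi hs x = 0 := hx
    have key : ∀ n, x ∈ (RingHom.ker (algebraMap A B)).map (algebraMap A (EGA4.Cpl A)) ⊔
        (maximalIdeal (EGA4.Cpl A)) ^ n := by
      intro n
      have h1 : lvl hs n x = 0 := by rw [← evalₐ_psi, hx0, map_zero]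
      obtain ⟨a, ha⟩ := Ideal.Quotient.mk_surjective
        (AdicCompletion.evalₐ (maximalIdeal A) n x)
      have h2 : algebraMap A B a ∈ (maximalIdeal B) ^ n := by
        rw [← Ideal.Quotient.eq_zero_iff_mem, ← h1]
        simp [lvl, ← ha]
      rw [← map_maximalIdeal hs, ← Ideal.map_pow] at h2
      have h3 : a ∈ (maximalIdeal A) ^ n ⊔ RingHom.ker (algebraMap A B) := by
        have h4 : a ∈ Ideal.comap (algebraMap A B)
            (Ideal.map (algebraMap A B) ((maximalIdeal A) ^ n)) := Ideal.mem_comap.mpr h2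
        rwa [Ideal.comap_map_of_surjective _ hs, ← RingHom.ker_eq_comap_bot] at h4
      obtain ⟨b, hb, i, hi, rfl⟩ := Submodule.mem_sup.mp h3
      have h5 : AdicCompletion.evalₐ (maximalIdeal A) n
          (x - algebraMap A (EGA4.Cpl A) i) = 0 := by
        rw [map_sub, ← ha, AlgHom.commutes, Ideal.Quotient.algebraMap_eq, ← map_sub,
          add_sub_cancel_right, Ideal.Quotient.eq_zero_iff_mem]
        exact hb
      have h6 := mem_map_pow_of_evalₐ_eq_zero A n _ h5
      rw [Ideal.map_pow, ← AdicCompletion.maximalIdeal_eq_map] at h6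
      have h7 : x = algebraMap A (EGA4.Cpl A) i + (x - algebraMap A (EGA4.Cpl A) i) := by ring
      rw [h7]
      exact Submodule.add_mem_sup (Ideal.mem_map_of_mem _ hi) h6
    haveI : IsNoetherianRing (EGA4.Cpl A) := Groth.Agent.Helper8.AdicReg.isNoetherianRing A _
    set J := (RingHom.ker (algebraMap A B)).map (algebraMap A (EGA4.Cpl A)) with hJ
    have hH : IsHausdorff (maximalIdeal (EGA4.Cpl A)) (EGA4.Cpl A ⧸ J) := inferInstance
    have h0 : (Ideal.Quotient.mk J x) = 0 := by
      apply hH.haus'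
      intro n
      rw [SModEq.zero]
      obtain ⟨j, hj, t, ht, hjt⟩ := Submodule.mem_sup.mp (key n)
      have h8 : Ideal.Quotient.mk J x = t • (1 : EGA4.Cpl A ⧸ J) := by
        rw [← hjt, map_add, Ideal.Quotient.eq_zero_iff_mem.mpr hj, zero_add,
          Algebra.smul_def, mul_one]
        rfl
      rw [h8]
      exact Submodule.smul_mem_smul ht Submodule.mem_top
    exact Ideal.Quotient.eq_zero_iff_mem.mp h0
  · rw [Ideal.map_le_iff_le_comap]
    intro a ha
    rw [Ideal.mem_comap, RingHom.mem_ker]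
    change (psi hs) (algebraMap A (EGA4.Cpl A) a) = 0
    rw [AlgHom.commutes, IsScalarTower.algebraMap_apply A B (EGA4.Cpl B) a,
      (RingHom.mem_ker.mp ha), map_zero]

/-- `B^ ≃ Â / (ker)Â`. -/
noncomputable def quotEquiv :
    (EGA4.Cpl A ⧸ (RingHom.ker (algebraMap A B)).map (algebraMap A (EGA4.Cpl A))) ≃ₐ[A]
      EGA4.Cpl B :=
  (Ideal.quotientEquivAlgOfEq A (ker_psi hs).symm).trans
    (Ideal.quotientKerAlgEquivOfSurjective (psi_surjective hs))

theorem quotEquiv_mk (x : EGA4.Cpl A) :
    quotEquiv hs (Ideal.Quotient.mk _ x) = psi hs x := rfl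

end Groth.Agent.Helper8.CplSurj
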