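import Mathlib
import Groth.Prelude
import Groth.Agent.Lib.Helper8.CplSurj1

/-!
# The completion of a quotient as a pushout
-/

set_option autoImplicit false
universe u

namespace Groth.Agent.Helper8.CplSurj

open IsLocalRing TensorProduct

variable {A B : Type u} [CommRing A] [CommRing B] [IsNoetherianRing A] [IsLocalRing A]
  [IsNoetherianRing B] [IsLocalRing B] [Algebra A B]
  (hs : Function.Surjective (algebraMap A B))
include hs

/-- The `Â`-algebra structure on `B^`. -/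
@[reducible] noncomputable def algebraCpl : Algebra (EGA4.Cpl A) (EGA4.Cpl B) :=
  (psi hs).toRingHom.toAlgebra

omit [IsNoetherianRing A] [IsNoetherianRing B] in
theorem isScalarTower_cpl :
    letI := algebraCpl hs
    IsScalarTower A (EGA4.Cpl A) (EGA4.Cpl B) := by
  letI := algebraCpl hs
  refine IsScalarTower.of_algebraMap_eq fun a => ?_
  change _ = (psi hs) (algebraMap A (EGA4.Cpl A) a)
  rw [AlgHom.commutes]

theorem isPushout_cpl :
    letI := algebraCpl hs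
    haveI := isScalarTower_cpl hs
    Algebra.IsPushout A B (EGA4.Cpl A) (EGA4.Cpl B) := by
  letI := algebraCpl hs
  haveI := isScalarTower_cpl hs
  constructor
  set K := RingHom.ker (algebraMap A B) with hK
  let τ : (A ⧸ K) ≃ₐ[A] B :=
    Ideal.quotientKerAlgEquivOfSurjective (f := Algebra.ofId A B) hs
  let e1 : B ⊗[A] EGA4.Cpl A ≃ₗ[A] (A ⧸ K) ⊗[A] EGA4.Cpl A :=
    TensorProduct.congr τ.symm.toLinearEquiv (LinearEquiv.refl A (EGA4.Cpl A))
  let e2 : (A ⧸ K) ⊗[A] EGA4.Cpl A ≃ₗ[A] (EGA4.Cpl A ⧸ K.map (algebraMap A (EGA4.Cpl A))) :=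
    (Algebra.TensorProduct.quotIdealMapEquivQuotTensor (EGA4.Cpl A) K).symm.toLinearEquiv.restrictScalars A
  let e3 : (EGA4.Cpl A ⧸ K.map (algebraMap A (EGA4.Cpl A))) ≃ₗ[A] EGA4.Cpl B :=
    (quotEquiv hs).toLinearEquiv
  let eA : B ⊗[A] EGA4.Cpl A ≃ₗ[A] EGA4.Cpl B := e1 ≪≫ₗ (e2 ≪≫ₗ e3)
  refine IsBaseChange.of_equiv (LinearEquiv.extendScalarsOfSurjective hs eA) fun x => ?_
  change e3 (e2 (e1 (1 ⊗ₜ[A] x))) = _
  have h1 : e1 (1 ⊗ₜ[A] x) = 1 ⊗ₜ[A] x := by
    change (τ.symm 1) ⊗ₜ[A] x = _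
    rw [map_one]
  have h2 : e2 (1 ⊗ₜ[A] x) = Ideal.Quotient.mk _ x := by
    change (Algebra.TensorProduct.quotIdealMapEquivQuotTensor (EGA4.Cpl A) K).symm _ = _
    rw [AlgEquiv.symm_apply_eq]
    exact (Algebra.TensorProduct.quotIdealMapEquivQuotTensor_mk (EGA4.Cpl A) K x).symm
  rw [h1, h2]
  rfl

end Groth.Agent.Helper8.CplSurj
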