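import Mathlib
import Groth.Prelude
import Groth.Agent.Lib.Helper1.MiscL
import Groth.Agent.Lib.Helper8.AdicReg2
import Groth.Agent.Lib.Helper8.Depth7

/-!
# Formal equidimensionality of rings carrying a Cohen–Macaulay module with full support
-/

set_option autoImplicit false
universe u

namespace Groth.Agent.Helper8.FEq

open IsLocalRing LocCoh TensorProduct

theorem supportDim_eq_ringKrullDim_of_support_eq_univ {R : Type*} [CommRing R] {M : Type*}
    [AddCommGroup M] [Module R M] (h : Module.support R M = Set.univ) :
    Module.supportDim R M = ringKrullDim R := by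
  apply le_antisymm (Module.supportDim_le_ringKrullDim R M)
  exact Order.krullDim_le_of_strictMono
    (fun a : PrimeSpectrum R => (⟨a, by rw [h]; trivial⟩ : Module.support R M))
    (fun {_ _} lt => lt)

theorem mem_associatedPrimes_of_mem_minimalPrimes (C : Type u) [CommRing C] [IsNoetherianRing C]
    (N : Type u) [AddCommGroup N] [Module C N] [Module.Finite C N]
    (h : Module.support C N = Set.univ) (Q : Ideal C) (hQ : Q ∈ minimalPrimes C) :
    Q ∈ associatedPrimes C N := by
  apply Module.associatedPrimes.minimalPrimes_annihilator_subset_associatedPrimes C N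
  haveI : Q.IsPrime := hQ.1.1
  have hmem : (⟨Q, inferInstance⟩ : PrimeSpectrum C) ∈ Module.support C N := by rw [h]; trivial
  exact ⟨⟨inferInstance, Module.annihilator_le_of_mem_support hmem⟩,
    fun P hP hPQ => hQ.2 ⟨hP.1, bot_le⟩ hPQ⟩

/-- A Noetherian local ring carrying a finite Cohen–Macaulay module with full support is
equidimensional. -/
theorem isEquidim_of_CM (C : Type u) [CommRing C] [IsNoetherianRing C] [IsLocalRing C]
    (N : Type u) [AddCommGroup N] [Module C N] [Module.Finite C N]
    (hCM : LocCoh.IsCohenMacaulayModule C N) (h : Module.support C N = Set.univ) :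
    EGA4.IsEquidim C := by
  intro Q hQ
  apply le_antisymm (ringKrullDim_quotient_le Q)
  rw [← supportDim_eq_ringKrullDim_of_support_eq_univ h, hCM]
  exact Depth.depth_le_dim_quotient_associatedPrime Q
    (mem_associatedPrimes_of_mem_minimalPrimes C N h Q hQ)

/-- Base change of a Cohen–Macaulay module with full support to the completion. -/
theorem CM_baseChange_completion (A : Type u) [CommRing A] [IsNoetherianRing A] [IsLocalRing A]
    (M : Type u) [AddCommGroup M] [Module A M] [Module.Finite A M]
    (hCM : LocCoh.IsCohenMacaulayModule A M) (hsupp : Module.support A M = Set.univ) :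
    LocCoh.IsCohenMacaulayModule (AdicCompletion (maximalIdeal A) A)
        (AdicCompletion (maximalIdeal A) A ⊗[A] M) ∧
      Module.support (AdicCompletion (maximalIdeal A) A)
        (AdicCompletion (maximalIdeal A) A ⊗[A] M) = Set.univ := by
  haveI : IsNoetherianRing (AdicCompletion (maximalIdeal A) A) :=
    AdicReg.isNoetherianRing A (maximalIdeal A)
  haveI : Module.FaithfullyFlat A (AdicCompletion (maximalIdeal A) A) :=
    Module.FaithfullyFlat.of_flat_of_isLocalHom
  have hs : Module.support (AdicCompletion (maximalIdeal A) A)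
      (AdicCompletion (maximalIdeal A) A ⊗[A] M) = Set.univ := by
    rw [Groth.Agent.Helper1.MiscL.support_baseChange, hsupp, Set.preimage_univ]
  refine ⟨?_, hs⟩
  unfold LocCoh.IsCohenMacaulayModule
  rw [supportDim_eq_ringKrullDim_of_support_eq_univ hs,
    AdicReg.ringKrullDim_eq A _ (maximalIdeal.isMaximal A).ne_top,
    ← supportDim_eq_ringKrullDim_of_support_eq_univ hsupp, hCM]
  have hd : LocCoh.depth (AdicCompletion (maximalIdeal A) A)
      (AdicCompletion (maximalIdeal A) A ⊗[A] M) = LocCoh.depth A M := by
    unfold LocCoh.depth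
    rw [AdicCompletion.maximalIdeal_eq_map]
    exact FlatDepth.idealDepth_baseChange_eq A _ _ M
  rw [hd]

/-- S2633. -/
theorem isFormallyEquidim_of_CM (A : Type u) [CommRing A] [IsNoetherianRing A] [IsLocalRing A]
    (M : Type u) [AddCommGroup M] [Module A M] [Module.Finite A M]
    (hCM : LocCoh.IsCohenMacaulayModule A M) (hsupp : Module.support A M = Set.univ) :
    EGA4.IsFormallyEquidim A := by
  haveI : IsNoetherianRing (AdicCompletion (maximalIdeal A) A) :=
    AdicReg.isNoetherianRing A (maximalIdeal A)
  obtain ⟨h1, h2⟩ := CM_baseChange_completion A M hCM hsupp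
  exact isEquidim_of_CM _ _ h1 h2

end Groth.Agent.Helper8.FEq
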