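import Mathlib
import Groth.Prelude
import Groth.Agent.Lib.Helper8.FEq1
import Groth.Agent.Lib.Helper8.Depth32
import Groth.Agent.Lib.Helper8.Depth25
import Groth.Agent.Lib.Helper8.CplSurj2

/-!
# Formal equidimensionality of quotients of rings carrying a Cohen–Macaulay module of full support
-/

set_option autoImplicit false
universe u

namespace Groth.Agent.Helper8.FC

open IsLocalRing TensorProduct LocCoh

theorem withBot_nat_add_cancel (n : ℕ) (x y : WithBot ℕ∞)
    (h : (n : WithBot ℕ∞) + x = (n : WithBot ℕ∞) + y) : x = y := by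
  induction x with
  | bot =>
    induction y with
    | bot => rfl
    | coe b =>
      exfalso
      rw [WithBot.add_bot] at h
      have h' : (⊥ : WithBot ℕ∞) = (((n : ℕ∞) + b : ℕ∞) : WithBot ℕ∞) := h
      exact WithBot.bot_ne_coe h'
  | coe a =>
    induction y with
    | bot =>
      exfalso
      rw [WithBot.add_bot] at h
      have h' : (((n : ℕ∞) + a : ℕ∞) : WithBot ℕ∞) = (⊥ : WithBot ℕ∞) := h
      exact WithBot.coe_ne_bot h'
    | coe b =>
      have h' : (((n : ℕ∞) + a : ℕ∞) : WithBot ℕ∞) = (((n : ℕ∞) + b : ℕ∞) : WithBot ℕ∞) := h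
      rw [WithBot.coe_inj] at h'
      have h2 : a = b := ENat.add_right_injective_of_ne_top (ENat.coe_ne_top n) h'
      rw [h2]

section dim

variable {R : Type*} [CommRing R]

theorem ringKrullDim_le_of_minimalPrimes (c : WithBot ℕ∞)
    (h : ∀ p ∈ minimalPrimes R, ringKrullDim (R ⧸ p) ≤ c) : ringKrullDim R ≤ c := by
  unfold ringKrullDim
  rw [Order.krullDim_eq_iSup_coheight]
  refine iSup_le fun x => ?_
  obtain ⟨p, hp, hle⟩ := Ideal.exists_minimalPrimes_le (bot_le : (⊥ : Ideal R) ≤ x.asIdeal)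
  let pp : PrimeSpectrum R := ⟨p, hp.1.1⟩
  have h1 : Order.coheight x ≤ Order.coheight pp := Order.coheight_anti (show pp ≤ x from hle)
  have h2 : ringKrullDim (R ⧸ p) = Order.coheight pp :=
    Groth.Agent.Helper8.Depth.ringKrullDim_quotient_eq_coheight pp
  calc ((Order.coheight x : ℕ∞) : WithBot ℕ∞) ≤ ((Order.coheight pp : ℕ∞) : WithBot ℕ∞) := by
        exact_mod_cast h1
    _ = ringKrullDim (R ⧸ p) := h2.symm
    _ ≤ c := h p hp

theorem isEquidim_of_forall_eq (c : WithBot ℕ∞)
    (h : ∀ p ∈ minimalPrimes R, ringKrullDim (R ⧸ p) = c) : EGA4.IsEquidim R := by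
  intro p hp
  apply le_antisymm (ringKrullDim_quotient_le p)
  rw [h p hp]
  exact ringKrullDim_le_of_minimalPrimes c fun q hq => (h q hq).le

end dim

section equiv

variable {R S : Type u} [CommRing R] [CommRing S]

theorem isEquidim_of_ringEquiv (e : R ≃+* S) (h : EGA4.IsEquidim R) : EGA4.IsEquidim S := by
  intro q hq
  have hq' : q.comap (e : R →+* S) ∈ minimalPrimes R := by
    have := Ideal.minimalPrimes_comap_of_surjective (f := (e : R →+* S)) e.surjective
      (I := ⊥) (J := q) hq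
    have hbot : (⊥ : Ideal S).comap (e : R →+* S) = ⊥ := by
      rw [← RingHom.ker_eq_comap_bot]
      exact (RingHom.injective_iff_ker_eq_bot _).mp e.injective
    rwa [hbot] at this
  have h1 := h _ hq'
  let e' : (R ⧸ q.comap (e : R →+* S)) ≃+* (S ⧸ q) :=
    Ideal.quotientEquiv _ _ e
      (Ideal.map_comap_of_surjective (e : R →+* S) e.surjective q).symm
  rw [← ringKrullDim_eq_of_ringEquiv e', ← ringKrullDim_eq_of_ringEquiv e]
  exact h1

end equiv

section goingdown

variable {R S : Type*} [CommRing R] [CommRing S] [Algebra R S]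

theorem under_eq_of_mem_minimalPrimes_map [Algebra.HasGoingDown R S] (P : Ideal R) [P.IsPrime]
    (Q : Ideal S) (hQ : Q ∈ (P.map (algebraMap R S)).minimalPrimes) : Q.under R = P := by
  haveI : Q.IsPrime := hQ.1.1
  have hPle : P ≤ Q.under R := Ideal.le_comap_of_map_le hQ.1.2
  haveI : Q.LiesOver (Q.under R) := ⟨rfl⟩
  obtain ⟨Q', hle, hQ'prime, hQ'over⟩ :=
    Ideal.exists_ideal_le_liesOver_of_le (p := P) (q := Q.under R) Q hPle
  have h1 : P.map (algebraMap R S) ≤ Q' := by
    rw [Ideal.map_le_iff_le_comap]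
    exact (Ideal.LiesOver.over (p := P) (P := Q')).le
  have h2 : Q ≤ Q' := hQ.2 ⟨hQ'prime, h1⟩ hle
  have h3 : Q' = Q := le_antisymm hle h2
  rw [← h3]
  exact (Ideal.LiesOver.over (p := P) (P := Q')).symm

theorem height_eq_of_mem_minimalPrimes_map [IsNoetherianRing R] [IsNoetherianRing S]
    [Algebra.HasGoingDown R S]
    (P : Ideal R) [P.IsPrime]
    (Q : Ideal S) (hQ : Q ∈ (P.map (algebraMap R S)).minimalPrimes) : Q.height = P.height := by
  haveI : Q.IsPrime := hQ.1.1
  haveI : Q.LiesOver P := ⟨(under_eq_of_mem_minimalPrimes_map P Q hQ).symm⟩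
  rw [Ideal.height_eq_height_add_of_liesOver_of_hasGoingDown P Q]
  rw [Ideal.minimalPrimes_eq_comap] at hQ
  obtain ⟨q, hq, rfl⟩ := hQ
  haveI : q.IsPrime := hq.1.1
  rw [Ideal.map_comap_of_surjective _ Ideal.Quotient.mk_surjective,
    Ideal.height_eq_zero_iff.mpr hq, add_zero]

end goingdown

end Groth.Agent.Helper8.FC
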