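import Mathlib
import Groth.Prelude
import Groth.Agent.Lib.Helper8.Depth32
import Groth.Agent.Lib.Helper8.Hart9
import Groth.Agent.Lib.Helper8.FC1
import Groth.Agent.Lib.Helper8.CMPoly1
import Groth.Agent.Lib.Helper5.Caten.Basic
import Groth.Agent.Lib.Helper4.Catenary1

/-!
# Cohen–Macaulay rings are universally catenary
-/

set_option autoImplicit false
universe u

namespace Groth.Agent.Helper8.CatCM

open IsLocalRing LocCoh

section local_case

variable (A : Type u) [CommRing A] [IsLocalRing A] [IsNoetherianRing A]

/-- A Noetherian local ring carrying a Cohen–Macaulay module of full support is catenary. -/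
theorem isCatenary_of_cm_module (M : Type u) [AddCommGroup M] [Module A M] [Module.Finite A M]
    (hM : IsCohenMacaulayModule A M) (hsupp : Module.support A M = Set.univ) :
    CAlg.IsCatenary A := by
  rw [Hart.isCatenary_iff_dimFun]
  intro p q hpq
  refine ⟨?_, fun hcov => ?_⟩
  · rw [Hart.ringKrullDim_quotient_eq_coheight, Hart.ringKrullDim_quotient_eq_coheight]
    exact_mod_cast Order.coheight_strictAnti hpq (Hart.coheight_lt_top A q)
  · have h1 := Depth.cm_height_add_dim_quotient hM hsupp p
    have h2 := Depth.cm_height_add_dim_quotient hM hsupp q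
    have h3 := Depth.cm_height_of_covBy hM hsupp hcov
    haveI := p.2
    have hfin : p.asIdeal.height ≠ ⊤ := Ideal.height_ne_top p.2.ne_top
    obtain ⟨n, hn⟩ := ENat.ne_top_iff_exists.mp hfin
    rw [h3, ← hn] at h2
    rw [← hn, ← h2] at h1
    apply FC.withBot_nat_add_cancel n
    have h4 : ((n : ℕ∞) : WithBot ℕ∞) = (n : WithBot ℕ∞) := rfl
    rw [h4] at h1
    rw [h1]
    push_cast
    rw [add_assoc, add_comm (1 : WithBot ℕ∞)]

theorem isCatenary_of_isCohenMacaulayLocalRing (h : IsCohenMacaulayLocalRing A) :
    CAlg.IsCatenary A :=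
  isCatenary_of_cm_module A A h.supportDim_eq_depth (by
    rw [Module.support_eq_zeroLocus, Module.annihilator_eq_bot.mpr inferInstance]
    simp)

end local_case

section global

theorem isCatenary_of_isCohenMacaulayRing (R : Type u) [CommRing R] (h : IsCohenMacaulayRing R) :
    CAlg.IsCatenary R := by
  rw [Groth.Agent.Lib.Helper4.Catenary1.S0552_main]
  intro m hm
  haveI := h.isCohenMacaulayLocalRing_localization m
  haveI : IsNoetherianRing (Localization.AtPrime m) := inferInstance
  exact isCatenary_of_isCohenMacaulayLocalRing _ (h.isCohenMacaulayLocalRing_localization m)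

theorem isCatenary_of_ringEquiv {R S : Type u} [CommRing R] [CommRing S] (e : R ≃+* S)
    (h : CAlg.IsCatenary R) : CAlg.IsCatenary S := by
  rw [Helper5.Caten.isCatenary_iff] at h ⊢
  refine Helper5.Caten.OrderCatenary.of_embedding
    (PrimeSpectrum.comapEquiv e).symm.toOrderEmbedding ?_ h
  have : Set.range (PrimeSpectrum.comapEquiv e).symm.toOrderEmbedding = Set.univ :=
    (PrimeSpectrum.comapEquiv e).symm.surjective.range_eq
  rw [this]
  exact Set.ordConnected_univ

theorem isCatenary_of_surjective {R S : Type u} [CommRing R] [CommRing S] (f : R →+* S)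
    (hf : Function.Surjective f) (h : CAlg.IsCatenary R) : CAlg.IsCatenary S :=
  isCatenary_of_ringEquiv (RingHom.quotientKerEquivOfSurjective hf)
    (Helper5.Caten.isCatenary_quotient R _ h)

theorem isUniversallyCatenary_of_isCohenMacaulayRing (R : Type u) [CommRing R]
    [h : IsCohenMacaulayRing R] : CAlg.IsUniversallyCatenary R := by
  refine ⟨inferInstance, fun S _ _ hS => ?_⟩
  obtain ⟨n, f, hf⟩ := Algebra.FiniteType.iff_quotient_mvPolynomial''.mp hS
  exact isCatenary_of_surjective f.toRingHom hf
    (isCatenary_of_isCohenMacaulayRing _ (CMPoly.isCohenMacaulayRing_mvPolynomial R h n))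

end global

end Groth.Agent.Helper8.CatCM
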