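import Mathlib
import Groth.Prelude
import Groth.Agent.Lib.Helper8.CatCM1
import Groth.Agent.Lib.Helper8.CohenFact4
import Groth.Agent.Lib.Helper8.CohenFact1
import Groth.Agent.Lib.Helper8.CohenStr1
import Groth.Agent.Lib.Helper8.FlatReg5
import Groth.Agent.S0579

/-!
# Complete Noetherian local rings are (universally) catenary
-/

set_option autoImplicit false
universe u

namespace Groth.Agent.Helper8.CatCM

open IsLocalRing LocCoh

/-- A complete Noetherian local ring is a quotient of a regular local ring. -/
theorem exists_surjective_of_complete (R : Type u) [CommRing R] [IsLocalRing R]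
    [IsNoetherianRing R] [IsAdicComplete (maximalIdeal R) R] :
    ∃ (S : Type u) (_ : CommRing S) (_ : IsRegularLocalRing S) (f : S →+* R),
      Function.Surjective f := by
  have hfg : (maximalIdeal R).FG := IsNoetherian.noetherian _
  obtain ⟨q, hq⟩ := CharP.exists (ResidueField R)
  rcases CharP.char_is_prime_or_zero (ResidueField R) q with hqp | hq0
  · obtain ⟨Λ, hΛ, hd, hv, hc, φ, hm, hφ⟩ := CohenFact.exists_cohen_section R q hqp
    obtain ⟨n, f, hf⟩ := CohenStr.exists_surjective_of_section R hfg Λ φ hφ
    exact ⟨MvPowerSeries (Fin n) Λ, inferInstance, inferInstance, f, hf⟩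
  · subst hq0
    haveI : CharZero (ResidueField R) := CharP.charP_to_charZero _
    obtain ⟨s, hs⟩ := Groth.Agent.S0579.result R
    have hφ : Function.Surjective ((residue R).comp s) := by
      rw [hs]; exact Function.surjective_id
    obtain ⟨n, f, hf⟩ := CohenStr.exists_surjective_of_section R hfg (ResidueField R) s hφ
    exact ⟨MvPowerSeries (Fin n) (ResidueField R), inferInstance, inferInstance, f, hf⟩

theorem isCatenary_of_isRegularLocalRing (S : Type u) [CommRing S] [IsRegularLocalRing S] :
    CAlg.IsCatenary S := by
  have h := FlatReg.isCohenMacaulayLocalRing_of_isRegularLocalRing S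
  exact isCatenary_of_isCohenMacaulayLocalRing S h

theorem isCatenary_of_complete (R : Type u) [CommRing R] [IsLocalRing R]
    [IsNoetherianRing R] [IsAdicComplete (maximalIdeal R) R] : CAlg.IsCatenary R := by
  obtain ⟨S, hS, hreg, f, hf⟩ := exists_surjective_of_complete R
  exact isCatenary_of_surjective f hf (isCatenary_of_isRegularLocalRing S)

end Groth.Agent.Helper8.CatCM
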