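import Mathlib
import Groth.Agent.Lib.Helper8.ABS15

/-!
# Upper semicontinuity of the projective dimension and boundedness over regular rings
-/

set_option autoImplicit false
universe u

namespace Groth.Agent.Helper8.ABS

open CategoryTheory Abelian IsLocalRing

variable {A : Type u} [CommRing A]

/-- The localization of `M` at `p` has projective dimension at most `n`. -/
def LocPdLE (M : Type u) [AddCommGroup M] [Module A M] (n : ℕ) (p : PrimeSpectrum A) : Prop :=
  HasProjectiveDimensionLT ((ModuleCat.of A M).localizedModule p.asIdeal.primeCompl) (n + 1)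

noncomputable def locIso (M : Type u) [AddCommGroup M] [Module A M] (p : PrimeSpectrum A) :
    ((ModuleCat.of A M).localizedModule p.asIdeal.primeCompl) ≅
      ModuleCat.of (Localization.AtPrime p.asIdeal) (LocalizedModule p.asIdeal.primeCompl M) :=
  (Shrink.linearEquiv (Localization p.asIdeal.primeCompl)
    (LocalizedModule p.asIdeal.primeCompl M)).toModuleIso

theorem locPdLE_iff (M : Type u) [AddCommGroup M] [Module A M] (n : ℕ) (p : PrimeSpectrum A) :
    LocPdLE M n p ↔ HasProjectiveDimensionLT
      (ModuleCat.of (Localization.AtPrime p.asIdeal) (LocalizedModule p.asIdeal.primeCompl M))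
      (n + 1) := by
  constructor
  · intro h
    have : HasProjectiveDimensionLT
      ((ModuleCat.of A M).localizedModule p.asIdeal.primeCompl) (n + 1) := h
    exact hasProjectiveDimensionLT_of_iso (locIso M p) (n + 1)
  · intro h
    exact hasProjectiveDimensionLT_of_iso (locIso M p).symm (n + 1)

theorem locPdLE_zero_iff (M : Type u) [AddCommGroup M] [Module A M] [Module.Finite A M]
    (p : PrimeSpectrum A) : LocPdLE M 0 p ↔ p ∈ Module.freeLocus A M := by
  rw [locPdLE_iff, Module.mem_freeLocus, ← projective_iff_hasProjectiveDimensionLT_one,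
    ← IsProjective.iff_projective]
  constructor
  · intro h
    exact Module.free_of_flat_of_isLocalRing
  · intro h
    infer_instance

theorem locPdLE_succ_iff {M : Type u} [AddCommGroup M] [Module A M] {k : ℕ}
    (π : (Fin k → A) →ₗ[A] M) (hπ : Function.Surjective π) (n : ℕ) (p : PrimeSpectrum A) :
    LocPdLE M (n + 1) p ↔ LocPdLE (LinearMap.ker π) n p := by
  let S := π.shortComplexKer
  have S_exact := LinearMap.shortExact_shortComplexKer hπ
  let Sp := S.map (ModuleCat.localizedModuleFunctor p.asIdeal.primeCompl)
  have Sp_exact : Sp.ShortExact :=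
    S_exact.map_of_exact (ModuleCat.localizedModuleFunctor p.asIdeal.primeCompl)
  have proj : Projective S.X₂ := by
    change Projective (ModuleCat.of A (Fin k → A))
    infer_instance
  have projp : Projective Sp.X₂ :=
    (ModuleCat.localizedModuleFunctor.{u} p.asIdeal.primeCompl).projective_obj_of_projective proj
  exact Sp_exact.hasProjectiveDimensionLT_X₃_iff n projp

theorem isOpen_locPdLE [IsNoetherianRing A] (n : ℕ) :
    ∀ (M : Type u) [AddCommGroup M] [Module A M] [Module.Finite A M],
      IsOpen {p : PrimeSpectrum A | LocPdLE M n p} := by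
  induction n with
  | zero =>
    intro M _ _ _
    have : Module.FinitePresentation A M := Module.finitePresentation_of_finite A M
    have h : {p : PrimeSpectrum A | LocPdLE M 0 p} = Module.freeLocus A M := by
      ext p
      exact locPdLE_zero_iff M p
    rw [h]
    exact Module.isOpen_freeLocus
  | succ n ih =>
    intro M _ _ _
    obtain ⟨k, π, hπ⟩ := Module.Finite.exists_fin' A M
    have h : {p : PrimeSpectrum A | LocPdLE M (n + 1) p} =
        {p : PrimeSpectrum A | LocPdLE (LinearMap.ker π) n p} := by
      ext p
      exact locPdLE_succ_iff π hπ n p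
    rw [h]
    exact ih (LinearMap.ker π)

theorem isOpen_projectiveDimension_le (A : Type u) [CommRing A] [IsNoetherianRing A]
    (M : Type u) [AddCommGroup M] [Module A M] [Module.Finite A M] (n : ℕ) :
    IsOpen {p : PrimeSpectrum A |
      projectiveDimension (ModuleCat.of (Localization.AtPrime p.asIdeal)
        (LocalizedModule p.asIdeal.primeCompl M)) ≤ n} := by
  have h : {p : PrimeSpectrum A |
      projectiveDimension (ModuleCat.of (Localization.AtPrime p.asIdeal)
        (LocalizedModule p.asIdeal.primeCompl M)) ≤ n} = {p | LocPdLE M n p} := by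
    ext p
    rw [Set.mem_ofPred_eq, Set.mem_ofPred_eq, projectiveDimension_le_iff, locPdLE_iff]
  rw [h]
  exact isOpen_locPdLE n M

theorem exists_hasProjectiveDimensionLE_of_isRegularRing (A : Type u) [CommRing A]
    [IsRegularRing A] (M : Type u) [AddCommGroup M] [Module A M] [Module.Finite A M] :
    ∃ d : ℕ, HasProjectiveDimensionLE (ModuleCat.of A M) d := by
  let U : ℕ → Set (PrimeSpectrum A) := fun n => {p | LocPdLE M n p}
  have hUo : ∀ n, IsOpen (U n) := fun n => isOpen_locPdLE n M
  have hmono : Monotone U := by
    intro m n hmn p hp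
    have hp' : HasProjectiveDimensionLT
      ((ModuleCat.of A M).localizedModule p.asIdeal.primeCompl) (m + 1) := hp
    exact hasProjectiveDimensionLT_of_ge _ (m + 1) (n + 1) (by omega)
  have hcover : (Set.univ : Set (PrimeSpectrum A)) ⊆ ⋃ n, U n := by
    intro p _
    have : p.asIdeal.IsPrime := p.isPrime
    obtain ⟨N, -, hN⟩ := exists_hasProjectiveDimensionLT_of_regular
      (Localization.AtPrime p.asIdeal) (LocalizedModule p.asIdeal.primeCompl M)
    exact Set.mem_iUnion.mpr ⟨N, (locPdLE_iff M N p).mpr hN⟩
  obtain ⟨d, hd⟩ := isCompact_univ.elim_directed_cover U hUo hcover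
    (directed_of_isDirected_le hmono)
  refine ⟨d, ?_⟩
  rw [ModuleCat.hasProjectiveDimensionLE_iff_forall_primeSpectrum]
  intro p
  exact hd (Set.mem_univ p)

end Groth.Agent.Helper8.ABS
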