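import Mathlib
import Groth.Agent.Lib.Helper8.IntegralDim

/-!
# Dimension of `M / xM` over semi-local rings
-/

set_option autoImplicit false
universe u v

namespace Groth.Agent.Helper8.Depth

open RingTheory.Sequence LocCoh Pointwise IsLocalRing

section
variable {A : Type u} [CommRing A]

/-- A semi-local Noetherian ring has finite dimension. -/
theorem exists_nat_ringKrullDim_le [IsNoetherianRing A] [Finite (MaximalSpectrum A)] :
    ∃ N : ℕ, ringKrullDim A ≤ (N : WithBot ℕ∞) := by
  classical
  have : Fintype (MaximalSpectrum A) := Fintype.ofFinite _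
  let g : MaximalSpectrum A → ℕ := fun m => m.asIdeal.height.toNat
  refine ⟨Finset.univ.sup g, ?_⟩
  rw [ringKrullDim_le_iff_isMaximal_height_le]
  intro m hm
  have h1 : m.height ≠ ⊤ := Ideal.height_ne_top hm.ne_top
  have h2 : g ⟨m, hm⟩ ≤ Finset.univ.sup g := Finset.le_sup (Finset.mem_univ _)
  have h3 : m.height = ((g ⟨m, hm⟩ : ℕ) : ℕ∞) := (ENat.natCast_toNat h1).symm
  rw [h3]
  have h4 : ((g ⟨m, hm⟩ : ℕ) : ℕ∞) ≤ ((Finset.univ.sup g : ℕ) : ℕ∞) := by exact_mod_cast h2
  exact WithBot.coe_le_coe.mpr h4

variable {M : Type v} [AddCommGroup M] [Module A M]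

/-- A chain in the support is no longer than the dimension of the quotient by its head. -/
theorem length_le_dim_quotient_head (l : LTSeries (Module.support A M)) :
    (l.length : WithBot ℕ∞) ≤ ringKrullDim (A ⧸ (RelSeries.head l).1.asIdeal) := by
  rw [ringKrullDim_quotient_eq_coheight]
  let l' : LTSeries (PrimeSpectrum A) := l.map Subtype.val (fun _ _ h => h)
  have h1 : (l'.length : ℕ∞) ≤ Order.coheight (RelSeries.head l') := Order.length_le_coheight_head
  have h2 : RelSeries.head l' = (RelSeries.head l).1 := LTSeries.head_map _ _ _
  rw [h2] at h1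
  exact_mod_cast h1

end

section
variable (A : Type u) [CommRing A] [IsNoetherianRing A] [Finite (MaximalSpectrum A)]
  (M : Type u) [AddCommGroup M] [Module A M] [Module.Finite A M]

theorem supportDim_quotSMulTop_add_one_eq_iff (x : A) (hx : x ∈ Ring.jacobson A) :
    Module.supportDim A (QuotSMulTop x M) + 1 = Module.supportDim A M ↔
      ∀ p : PrimeSpectrum A, p ∈ Module.support A M →
        ringKrullDim (A ⧸ p.asIdeal) = Module.supportDim A M → x ∉ p.asIdeal := by
  have hjac : x ∈ (Module.annihilator A M).jacobson := by
    rw [← Ideal.jacobson_bot] at hx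
    exact Ideal.jacobson_mono bot_le hx
  have hge := Module.supportDim_le_supportDim_quotSMulTop_succ_of_mem_jacobson hjac
  obtain ⟨N, hN⟩ := exists_nat_ringKrullDim_le (A := A)
  have hd_le : Module.supportDim A M ≤ (N : WithBot ℕ∞) :=
    (Module.supportDim_le_ringKrullDim A M).trans hN
  constructor
  · intro heq p hp hdim hxp
    have hpQ : p ∈ Module.support A (QuotSMulTop x M) := by
      rw [Module.support_quotSMulTop]
      exact ⟨hp, by simpa using hxp⟩
    have h1 := dim_quotient_le_supportDim_of_mem_support p hpQ
    rw [hdim] at h1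
    have hd_nonneg : 0 ≤ Module.supportDim A M := by
      rw [← hdim]
      exact ringKrullDim_nonneg_of_nontrivial
    obtain ⟨e, he, -⟩ := exists_nat_of_le hd_nonneg hd_le
    have h2 : Module.supportDim A M + 1 ≤ Module.supportDim A M :=
      calc Module.supportDim A M + 1 ≤ Module.supportDim A (QuotSMulTop x M) + 1 :=
            add_le_add_left h1 1
        _ = Module.supportDim A M := heq
    rw [he] at h2
    have h3 : e + 1 ≤ e := by exact_mod_cast h2
    omega
  · intro h
    refine le_antisymm ?_ hge
    -- every chain in the support of `M / xM` is short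
    have hC : ∀ l : LTSeries (Module.support A (QuotSMulTop x M)),
        (l.length : WithBot ℕ∞) < Module.supportDim A M := by
      intro l
      have hq0 : (RelSeries.head l).1 ∈ Module.support A M ∩ PrimeSpectrum.zeroLocus {x} := by
        rw [← Module.support_quotSMulTop]
        exact (RelSeries.head l).2
      have hxq : x ∈ (RelSeries.head l).1.asIdeal := by simpa using hq0.2
      have h1 := length_le_dim_quotient_head l
      have h2 := dim_quotient_le_supportDim_of_mem_support (M := M) (RelSeries.head l).1 hq0.1
      have h3 : ringKrullDim (A ⧸ (RelSeries.head l).1.asIdeal) ≠ Module.supportDim A M :=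
        fun heq => h _ hq0.1 heq hxq
      exact lt_of_le_of_lt h1 (lt_of_le_of_ne h2 h3)
    by_cases hne : Nonempty (Module.support A (QuotSMulTop x M))
    · obtain ⟨q⟩ := hne
      have h0 := hC (RelSeries.singleton _ q)
      have hd_nonneg : 0 ≤ Module.supportDim A M := by
        refine le_trans ?_ h0.le
        simp
      obtain ⟨e, he, -⟩ := exists_nat_of_le hd_nonneg hd_le
      rw [he] at hC ⊢
      have he1 : 1 ≤ e := by
        have : ((0 : ℕ) : WithBot ℕ∞) < (e : WithBot ℕ∞) := by simpa using h0.trans_eq he
        have : 0 < e := by exact_mod_cast this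
        omega
      have hle : Module.supportDim A (QuotSMulTop x M) ≤ ((e - 1 : ℕ) : WithBot ℕ∞) := by
        unfold Module.supportDim Order.krullDim
        apply iSup_le
        intro l
        have := hC l
        have h5 : l.length < e := by exact_mod_cast this
        have h6 : l.length ≤ e - 1 := by omega
        exact_mod_cast h6
      calc Module.supportDim A (QuotSMulTop x M) + 1 ≤ ((e - 1 : ℕ) : WithBot ℕ∞) + 1 :=
            add_le_add_left hle 1
        _ = (e : WithBot ℕ∞) := by
            have : (e - 1) + 1 = e := by omega
            exact_mod_cast this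
    · rw [not_nonempty_iff] at hne
      have : Module.supportDim A (QuotSMulTop x M) = ⊥ := Order.krullDim_eq_bot
      rw [this, WithBot.bot_add]
      exact bot_le

end

end Groth.Agent.Helper8.Depth
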