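import Groth.Agent.Lib.Helper8.LD11
import Groth.Agent.Lib.Helper8.Depth37

/-!
# `ht I + dim A/I = dim A` in a Cohen–Macaulay local ring, and the canonical module of a quotient
of a Gorenstein ring
-/

set_option autoImplicit false
universe u

namespace Groth.Agent.Helper8.LD

open CategoryTheory Abelian IsLocalRing LocCoh localCohomology Opposite
open Groth.Agent.Helper8.LC Groth.Agent.Helper8.Depth

/-- `ht I + dim A/I = dim A` for a proper ideal of a Cohen–Macaulay local ring. -/
theorem cm_height_add_dim_quotient_ideal (A : Type u) [CommRing A] [IsCohenMacaulayLocalRing A]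
    (I : Ideal A) (hI : I ≠ ⊤) :
    (I.height : WithBot ℕ∞) + ringKrullDim (A ⧸ I) = ringKrullDim A := by
  have hM : IsCohenMacaulayModule A A := IsCohenMacaulayLocalRing.supportDim_eq_depth
  have hsupp : Module.support A A = Set.univ := by
    rw [Module.support_eq_zeroLocus, Module.annihilator_eq_bot.mpr inferInstance]
    simp
  have hnt : Nontrivial (A ⧸ I) := Ideal.Quotient.nontrivial_iff.mpr hI
  apply le_antisymm
  · -- a prime over `I` computing `dim A/I`
    obtain ⟨d, hd⟩ := exists_nat_supportDim (A := A) (A ⧸ I)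
    have hd' : ringKrullDim (A ⧸ I) = d := by
      rw [← Module.supportDim_quotient_eq_ringKrullDim, hd]
    have h1 : (d : WithBot ℕ∞) ≤ Order.krullDim (Module.support A (A ⧸ I)) := hd.ge
    rw [Order.le_krullDim_iff] at h1
    obtain ⟨l, hl⟩ := h1
    set p := (RelSeries.head l).1 with hp
    have hpsupp : p ∈ Module.support A (A ⧸ I) := (RelSeries.head l).2
    have hIp : I ≤ p.asIdeal := by
      have := Module.mem_support_iff_of_finite.mp hpsupp
      rwa [Ideal.annihilator_quotient] at this
    have h2 := length_le_dim_quotient_head l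
    rw [hl] at h2
    have h3 := cm_height_add_dim_quotient hM hsupp p
    rw [← h3, hd']
    have h4 : (I.height : WithBot ℕ∞) ≤ (p.asIdeal.height : WithBot ℕ∞) :=
      WithBot.coe_le_coe.mpr (Ideal.height_mono hIp)
    exact add_le_add h4 h2
  · -- a minimal prime computing the height
    have hfin : I.height ≠ ⊤ := Ideal.height_ne_top hI
    obtain ⟨k, hk⟩ := ENat.ne_top_iff_exists.mp hfin
    have hinf : (⨅ Q ∈ I.minimalPrimes, Q.height) = (k : ℕ∞) := by
      rw [← Ideal.height_eq_inf_minimalPrimes, hk]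
    simp only [ENat.iInf_eq_natCast_iff] at hinf
    rcases hinf with ⟨⟨Q, ⟨hQmin, hQh⟩, -⟩, -⟩
    have hQp : Q.IsPrime := hQmin.1.1
    have h3 := cm_height_add_dim_quotient hM hsupp ⟨Q, hQp⟩
    simp only at h3
    rw [← h3, hQh, hk]
    have h5 : ringKrullDim (A ⧸ Q) ≤ ringKrullDim (A ⧸ I) :=
      ringKrullDim_le_of_surjective (Ideal.Quotient.factor hQmin.1.2)
        (Ideal.Quotient.factor_surjective hQmin.1.2)
    exact add_le_add le_rfl h5

/-- For a quotient `S/I` of a Gorenstein local ring, the Matlis dual of `Ext^{ht I}(S/I, S)` is the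
top local cohomology of `S/I`. -/
theorem nonempty_dual_ext_equiv_H_quotient (S : Type u) [CommRing S] [IsGorensteinLocalRing S]
    (I : Ideal S) (hI : I ≠ ⊤) (g : ℕ) (hg : I.height = g) (d : ℕ)
    (hd : ringKrullDim (S ⧸ I) = d) (E : Type u) [AddCommGroup E] [Module S E]
    (f : ResidueField S →ₗ[S] E) (hf : InjHull.IsInjectiveHull f) :
    Nonempty ((((_root_.Ext S (ModuleCat.{u} S) g).obj (op (ModuleCat.of S (S ⧸ I)))).obj
      (ModuleCat.of S S) →ₗ[S] E) ≃ₗ[S] H (maximalIdeal S) d (S ⧸ I)) := by
  have hCM : IsCohenMacaulayLocalRing S :=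
    Groth.Agent.Helper8.Goren.isCohenMacaulayLocalRing_of_isGorensteinLocalRing S
  obtain ⟨n, hn⟩ := exists_nat_supportDim (A := S) S
  have hn' : ringKrullDim S = n := by rw [← Module.supportDim_self_eq_ringKrullDim, hn]
  have h1 := cm_height_add_dim_quotient_ideal S I hI
  rw [hg, hd, hn'] at h1
  have h2 : g + d = n := by exact_mod_cast h1
  obtain ⟨e⟩ := nonempty_H_equiv_dual_oldExt_of_gorenstein S n hn' E f hf (S ⧸ I) d g (by omega)
  exact ⟨e.symm⟩

end Groth.Agent.Helper8.LD
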