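import Mathlib
import Groth.Prelude
import Groth.Agent.Lib.Helper8.ABS23
import Groth.Agent.Lib.Helper8.ABS20
import Groth.Agent.Lib.Helper8.LD12
import Groth.Agent.Lib.Helper8.Depth11

/-!
# Codepth over regular rings: local numerical data

Over a regular local ring `B`, for a nonzero finite module `N`:
`depth N + pd N = dim B = dim N + ht (Ann N)`.
-/

set_option autoImplicit false
universe u

namespace Groth.Agent.Helper8.RegOpen

open CategoryTheory IsLocalRing LocCoh Groth.Agent.Helper8.Depth Groth.Agent.Helper8.ABS
  Groth.Agent.Helper8.LD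

/-- Numerical data of a nonzero finite module over a regular local ring. -/
theorem local_data (B : Type u) [CommRing B] [IsRegularLocalRing B] (N : Type u) [AddCommGroup N]
    [Module B N] [Module.Finite B N] [Nontrivial N] :
    ∃ e s d g : ℕ, projectiveDimension (ModuleCat.of B N) = (e : WithBot ℕ∞) ∧
      depth B N = (d : ℕ∞) ∧ Module.supportDim B N = (s : WithBot ℕ∞) ∧
      (Module.annihilator B N).height = (g : ℕ∞) ∧ d + e = s + g := by
  haveI hCM : IsCohenMacaulayLocalRing B :=
    Groth.Agent.Helper8.FlatReg.isCohenMacaulayLocalRing_of_isRegularLocalRing B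
  obtain ⟨n, hn, hlt⟩ := exists_hasProjectiveDimensionLT_of_regular (A := B) (M := N)
  obtain ⟨e, hen, he⟩ := exists_projectiveDimension_eq N n hlt
  have hab := auslander_buchsbaum B N e he
  have hdB : depth B B = (n : ℕ∞) := by
    have h1 := depth_eq_dim_of_regular B
    rw [hn] at h1
    exact WithBot.coe_injective h1
  obtain ⟨d, hd⟩ := ENat.ne_top_iff_exists.mp
    (idealDepth_ne_top (smul_top_ne_top_of_local B N))
  have hd' : depth B N = (d : ℕ∞) := hd.symm
  rw [hdB, hd'] at hab
  have hsum : n = e + d := by exact_mod_cast hab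
  obtain ⟨s, hs⟩ := exists_nat_supportDim (A := B) N
  have hne : Module.annihilator B N ≠ ⊤ := by
    intro h
    rw [Module.annihilator_eq_top_iff] at h
    exact not_subsingleton N h
  have hD := cm_height_add_dim_quotient_ideal B (Module.annihilator B N) hne
  rw [← Module.supportDim_eq_ringKrullDim_quotient_annihilator, hs, hn] at hD
  have hgtop : (Module.annihilator B N).height ≠ ⊤ := Ideal.height_ne_top hne
  obtain ⟨g, hg⟩ := ENat.ne_top_iff_exists.mp hgtop
  rw [← hg] at hD
  have hsum2 : g + s = n := by exact_mod_cast hD
  exact ⟨e, s, d, g, he, hd', hs, hg.symm, by omega⟩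

/-- The codepth inequality in terms of projective dimension and the height of the annihilator. -/
theorem supportDim_le_depth_add_iff (B : Type u) [CommRing B] [IsRegularLocalRing B] (N : Type u)
    [AddCommGroup N] [Module B N] [Module.Finite B N] [Nontrivial N] (n : ℕ) :
    Module.supportDim B N ≤ ((depth B N : ℕ∞) : WithBot ℕ∞) + n ↔
      ∀ c : ℕ, (Module.annihilator B N).height ≤ c →
        projectiveDimension (ModuleCat.of B N) ≤ ((c + n : ℕ) : WithBot ℕ∞) := by
  obtain ⟨e, s, d, g, he, hd, hs, hg, hsum⟩ := local_data B N
  rw [he, hd, hs, hg]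
  constructor
  · intro h c hc
    have h1 : s ≤ d + n := by exact_mod_cast h
    have h2 : g ≤ c := by exact_mod_cast hc
    have : e ≤ c + n := by omega
    exact_mod_cast this
  · intro h
    have h1 := h g le_rfl
    have h2 : e ≤ g + n := by exact_mod_cast h1
    have : s ≤ d + n := by omega
    exact_mod_cast this

end Groth.Agent.Helper8.RegOpen
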