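import Mathlib
import Groth.Prelude
import Groth.Agent.Lib.Helper8.RegOpen1

/-!
# Openness of the codepth loci of a finite module over a regular ring
-/

set_option autoImplicit false
universe u

namespace Groth.Agent.Helper8.RegOpen

open CategoryTheory IsLocalRing LocCoh Groth.Agent.Helper8.Depth Groth.Agent.Helper8.ABS

section height

variable (R : Type u) [CommRing R] [IsNoetherianRing R] (M : Type u) [AddCommGroup M] [Module R M]
  [Module.Finite R M]

/-- The set of primes containing a minimal prime of the support of height at most `c`. -/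
def G (c : ℕ) : Set (PrimeSpectrum R) :=
  {P | ∃ q ∈ (Module.annihilator R M).minimalPrimes, q ≤ P.asIdeal ∧ q.height ≤ c}

theorem isClosed_G (c : ℕ) : IsClosed (G R M c) := by
  set S : Set (Ideal R) := {q | q ∈ (Module.annihilator R M).minimalPrimes ∧ q.height ≤ c}
    with hS
  have hfin : S.Finite :=
    (Ideal.finite_minimalPrimes_of_isNoetherianRing R (Module.annihilator R M)).subset
      fun q hq => hq.1
  have hcl : IsClosed (⋃ q ∈ S, PrimeSpectrum.zeroLocus (q : Set R)) :=
    hfin.isClosed_biUnion fun q _ => PrimeSpectrum.isClosed_zeroLocus _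
  have heq : G R M c = ⋃ q ∈ S, PrimeSpectrum.zeroLocus (q : Set R) := by
    ext P
    rw [Set.mem_iUnion₂]
    constructor
    · rintro ⟨q, hq, hqP, hht⟩
      exact ⟨q, ⟨hq, hht⟩, by
        rw [PrimeSpectrum.mem_zeroLocus, SetLike.coe_subset_coe]; exact hqP⟩
    · rintro ⟨q, ⟨hq, hht⟩, hqP⟩
      rw [PrimeSpectrum.mem_zeroLocus, SetLike.coe_subset_coe] at hqP
      exact ⟨q, hq, hqP, hht⟩
  rw [heq]
  exact hcl

theorem height_annihilator_le_of_mem_G (P : PrimeSpectrum R) (c : ℕ) (h : P ∈ G R M c) :
    (Module.annihilator (Localization.AtPrime P.asIdeal)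
      (LocalizedModule P.asIdeal.primeCompl M)).height ≤ c := by
  obtain ⟨q, hq, hqP, hht⟩ := h
  haveI hqprime : q.IsPrime := hq.1.1
  have hdisj : Disjoint (P.asIdeal.primeCompl : Set R) (q : Set R) := by
    rw [Set.disjoint_left]
    intro x hx hxq
    exact hx (hqP hxq)
  set J := q.map (algebraMap R (Localization.AtPrime P.asIdeal)) with hJ
  haveI hJprime : J.IsPrime :=
    IsLocalization.isPrime_of_isPrime_disjoint P.asIdeal.primeCompl _ q hqprime hdisj
  have hJq : J.comap (algebraMap R (Localization.AtPrime P.asIdeal)) = q :=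
    IsLocalization.under_map_of_isPrime_disjoint P.asIdeal.primeCompl _ hqprime hdisj
  have hqsupp : (⟨q, hqprime⟩ : PrimeSpectrum R) ∈ Module.support R M :=
    Module.mem_support_iff_of_finite.mpr hq.1.2
  have hJsupp : (⟨J, hJprime⟩ : PrimeSpectrum (Localization.AtPrime P.asIdeal)) ∈
      Module.support (Localization.AtPrime P.asIdeal) (LocalizedModule P.asIdeal.primeCompl M) := by
    rw [mem_support_localizedModule_iff]
    have : PrimeSpectrum.comap (algebraMap R (Localization.AtPrime P.asIdeal)) ⟨J, hJprime⟩ =
        ⟨q, hqprime⟩ := PrimeSpectrum.ext hJq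
    rw [this]
    exact hqsupp
  have hle : Module.annihilator (Localization.AtPrime P.asIdeal)
      (LocalizedModule P.asIdeal.primeCompl M) ≤ J := Module.mem_support_iff_of_finite.mp hJsupp
  calc (Module.annihilator (Localization.AtPrime P.asIdeal)
        (LocalizedModule P.asIdeal.primeCompl M)).height ≤ J.height := Ideal.height_mono hle
    _ = q.height := IsLocalization.height_map_of_disjoint P.asIdeal.primeCompl q hdisj
    _ ≤ c := hht

theorem mem_G_of_height_annihilator_le (P : PrimeSpectrum R) (c : ℕ)
    [Nontrivial (LocalizedModule P.asIdeal.primeCompl M)]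
    (h : (Module.annihilator (Localization.AtPrime P.asIdeal)
      (LocalizedModule P.asIdeal.primeCompl M)).height ≤ c) : P ∈ G R M c := by
  set I' := Module.annihilator (Localization.AtPrime P.asIdeal)
    (LocalizedModule P.asIdeal.primeCompl M) with hI'
  have htop : I'.height ≠ ⊤ := ne_top_of_le_ne_top (ENat.coe_ne_top c) h
  obtain ⟨g, hg⟩ := ENat.ne_top_iff_exists.mp htop
  obtain ⟨J, hJprime, hIJ, hJht⟩ := Ideal.exists_isPrime_height_eq hg.symm
  set q0 := J.comap (algebraMap R (Localization.AtPrime P.asIdeal)) with hq0
  haveI hq0prime : q0.IsPrime := Ideal.comap_isPrime _ J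
  have hq0P : q0 ≤ P.asIdeal := by
    have h1 : J ≤ maximalIdeal (Localization.AtPrime P.asIdeal) :=
      IsLocalRing.le_maximalIdeal hJprime.ne_top
    have h2 := Ideal.comap_mono (f := algebraMap R (Localization.AtPrime P.asIdeal)) h1
    have h3 : (maximalIdeal (Localization.AtPrime P.asIdeal)).comap
        (algebraMap R (Localization.AtPrime P.asIdeal)) = P.asIdeal :=
      IsLocalization.AtPrime.comap_maximalIdeal (Localization.AtPrime P.asIdeal) P.asIdeal
    rwa [h3] at h2
  have hq0ht : q0.height = J.height := IsLocalization.height_under P.asIdeal.primeCompl J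
  have hJsupp : (⟨J, hJprime⟩ : PrimeSpectrum (Localization.AtPrime P.asIdeal)) ∈
      Module.support (Localization.AtPrime P.asIdeal) (LocalizedModule P.asIdeal.primeCompl M) :=
    Module.mem_support_iff_of_finite.mpr hIJ
  rw [mem_support_localizedModule_iff] at hJsupp
  have hann : Module.annihilator R M ≤ q0 := Module.mem_support_iff_of_finite.mp hJsupp
  obtain ⟨q, hqmin, hqle⟩ := Ideal.exists_minimalPrimes_le hann
  haveI : q.IsPrime := hqmin.1.1
  refine ⟨q, hqmin, hqle.trans hq0P, ?_⟩
  calc q.height ≤ q0.height := Ideal.height_mono hqle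
    _ = J.height := hq0ht
    _ = g := hJht
    _ = I'.height := hg
    _ ≤ c := h

end height

section main

variable (R : Type u) [CommRing R] [IsRegularRing R] (M : Type u) [AddCommGroup M] [Module R M]
  [Module.Finite R M]

/-- Over a regular ring the projective dimensions of the localizations of a finite module are
bounded. -/
theorem exists_pd_bound : ∃ r : ℕ, ∀ P : PrimeSpectrum R,
    projectiveDimension (ModuleCat.of (Localization.AtPrime P.asIdeal)
      (LocalizedModule P.asIdeal.primeCompl M)) ≤ (r : WithBot ℕ∞) := by
  obtain ⟨r, hr⟩ := exists_hasProjectiveDimensionLE_of_isRegularRing R M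
  refine ⟨r, fun P => ?_⟩
  rw [ModuleCat.hasProjectiveDimensionLE_iff_forall_primeSpectrum] at hr
  rw [projectiveDimension_le_iff]
  exact (locPdLE_iff M r P).mp (hr P)

/-- **Openness of the codepth loci over a regular ring.** -/
theorem isOpen_codepth_le (n : ℕ) :
    IsOpen {P : PrimeSpectrum R |
      Module.supportDim (Localization.AtPrime P.asIdeal) (LocalizedModule P.asIdeal.primeCompl M) ≤
        ((depth (Localization.AtPrime P.asIdeal) (LocalizedModule P.asIdeal.primeCompl M) : ℕ∞) :
          WithBot ℕ∞) + n} := by
  obtain ⟨r, hr⟩ := exists_pd_bound R M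
  have hopen : IsOpen (⋂ c ∈ Finset.range r,
      ({P : PrimeSpectrum R | projectiveDimension (ModuleCat.of (Localization.AtPrime P.asIdeal)
        (LocalizedModule P.asIdeal.primeCompl M)) ≤ ((c + n : ℕ) : WithBot ℕ∞)} ∪ (G R M c)ᶜ)) := by
    refine isOpen_biInter_finset fun c _ => IsOpen.union ?_ (isClosed_G R M c).isOpen_compl
    exact isOpen_projectiveDimension_le R M (c + n)
  convert hopen using 1
  ext P
  rw [Set.mem_ofPred_eq, Set.mem_iInter₂]
  rcases subsingleton_or_nontrivial (LocalizedModule P.asIdeal.primeCompl M) with hsub | hnt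
  · constructor
    · intro _ c _
      left
      rw [Set.mem_ofPred_eq]
      have hz : Limits.IsZero (ModuleCat.of (Localization.AtPrime P.asIdeal)
          (LocalizedModule P.asIdeal.primeCompl M)) := ModuleCat.isZero_of_subsingleton _
      rw [(projectiveDimension_eq_bot_iff _).mpr hz]
      exact bot_le
    · intro _
      rw [Module.supportDim_eq_bot_of_subsingleton]
      exact bot_le
  · haveI := IsRegularRing.isRegularLocalRing_localization (R := R) P.asIdeal
    rw [supportDim_le_depth_add_iff]
    constructor
    · intro h c _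
      by_cases hG : P ∈ G R M c
      · left
        exact h c (height_annihilator_le_of_mem_G R M P c hG)
      · right
        exact hG
    · intro h c hc
      by_cases hcr : c < r
      · rcases h c (Finset.mem_range.mpr hcr) with h1 | h1
        · exact h1
        · exact absurd (mem_G_of_height_annihilator_le R M P c hc) h1
      · refine (hr P).trans ?_
        have : r ≤ c + n := by omega
        exact_mod_cast this

end main

end Groth.Agent.Helper8.RegOpen
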