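import Mathlib
import Groth.Prelude
import Groth.Agent.Lib.Helper8.RegOpen2
import Groth.Agent.Lib.Helper8.FinRes4

/-!
# Openness of the codepth loci over a quotient of a regular ring
-/

set_option autoImplicit false
universe u

namespace Groth.Agent.Helper8.RegOpen

open CategoryTheory IsLocalRing LocCoh Groth.Agent.Helper8.Depth Groth.Agent.Helper8.FinRes

section transfer

variable (R A : Type u) [CommRing R] [CommRing A] [IsNoetherianRing R] [IsNoetherianRing A]
  [Algebra R A] (hs : Function.Surjective (algebraMap R A))
  (M : Type u) [AddCommGroup M] [Module A M] [Module R M] [IsScalarTower R A M]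
  [Module.Finite R M]

include hs in
/-- Dimension and depth of the localizations of a module over a quotient ring may be computed over
the ring itself. -/
theorem supportDim_depth_comap (p : PrimeSpectrum A) :
    Module.supportDim (Localization.AtPrime (PrimeSpectrum.comap (algebraMap R A) p).asIdeal)
        (LocalizedModule (PrimeSpectrum.comap (algebraMap R A) p).asIdeal.primeCompl M) =
      Module.supportDim (Localization.AtPrime p.asIdeal)
        (LocalizedModule p.asIdeal.primeCompl M) ∧
    depth (Localization.AtPrime (PrimeSpectrum.comap (algebraMap R A) p).asIdeal)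
        (LocalizedModule (PrimeSpectrum.comap (algebraMap R A) p).asIdeal.primeCompl M) =
      depth (Localization.AtPrime p.asIdeal) (LocalizedModule p.asIdeal.primeCompl M) := by
  obtain ⟨h1, h2⟩ := supportDim_depth_restrictScalars_finite R A M
    (PrimeSpectrum.comap (algebraMap R A) p).asIdeal
  rw [h1, h2]
  by_cases hp : p ∈ Module.support A M
  · have hpts : ptsOver R A M (PrimeSpectrum.comap (algebraMap R A) p).asIdeal = {p} := by
      ext q
      rw [Set.mem_singleton_iff]
      constructor
      · rintro ⟨hq, -⟩
        apply PrimeSpectrum.comap_injective_of_surjective (algebraMap R A) hs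
        exact PrimeSpectrum.ext hq
      · rintro rfl
        exact ⟨rfl, hp⟩
    rw [hpts, iSup_singleton, iInf_singleton]
    exact ⟨rfl, rfl⟩
  · have hpts : ptsOver R A M (PrimeSpectrum.comap (algebraMap R A) p).asIdeal = ∅ := by
      ext q
      simp only [Set.mem_empty_iff_false, iff_false]
      rintro ⟨hq, hqs⟩
      have : q = p := by
        apply PrimeSpectrum.comap_injective_of_surjective (algebraMap R A) hs
        exact PrimeSpectrum.ext hq
      exact hp (this ▸ hqs)
    rw [Module.notMem_support_iff] at hp
    rw [hpts]
    simp only [Set.mem_empty_iff_false, iSup_false, iSup_bot, iInf_false, iInf_top]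
    rw [Module.supportDim_eq_bot_of_subsingleton, depth_eq_top_of_subsingleton]
    exact ⟨rfl, rfl⟩

end transfer

/-- **S2678.** -/
theorem isOpen_codepth_le_of_surjective (R A : Type u) [CommRing R] [CommRing A] [IsRegularRing R]
    [Algebra R A] (hs : Function.Surjective (algebraMap R A))
    (M : Type u) [AddCommGroup M] [Module A M] [Module.Finite A M] (n : ℕ) :
    IsOpen {p : PrimeSpectrum A |
      Module.supportDim (Localization.AtPrime p.asIdeal) (LocalizedModule p.asIdeal.primeCompl M) ≤
        ((depth (Localization.AtPrime p.asIdeal) (LocalizedModule p.asIdeal.primeCompl M) : ℕ∞) :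
          WithBot ℕ∞) + n} := by
  letI : Module R M := Module.compHom M (algebraMap R A)
  haveI : IsScalarTower R A M := IsScalarTower.of_algebraMap_smul fun _ _ => rfl
  haveI : IsNoetherianRing A := isNoetherianRing_of_surjective R A (algebraMap R A) hs
  haveI : Module.Finite R A := Module.Finite.of_surjective (Algebra.linearMap R A) hs
  haveI : Module.Finite R M := Module.Finite.trans A M
  have hopen := isOpen_codepth_le R M n
  have hpre := hopen.preimage (PrimeSpectrum.continuous_comap (algebraMap R A))
  convert hpre using 1
  ext p
  rw [Set.mem_preimage, Set.mem_ofPred_eq, Set.mem_ofPred_eq]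
  obtain ⟨h1, h2⟩ := supportDim_depth_comap R A hs M p
  rw [h1, h2]

end Groth.Agent.Helper8.RegOpen
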