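import Mathlib
import Groth.Prelude
import Groth.Agent.Lib.Helper8.Loc1
import Groth.Agent.Lib.Helper8.Depth11

/-!
# Serre's condition `(S_k)` at a prime, pointwise
-/

set_option autoImplicit false
universe u

namespace Groth.Agent.Helper8.Loc

open LocCoh IsLocalRing Groth.Agent.Helper8.Depth

variable (k : ℕ) (A : Type u) [CommRing A] (M : Type u) [AddCommGroup M] [Module A M]

/-- The pointwise form of `(S_k)` at a prime `Q`: `min k (dim M_Q) ≤ depth M_Q`. -/
def SkPt (Q : Ideal A) [Q.IsPrime] : Prop :=
  min (k : WithBot ℕ∞)
      (Module.supportDim (Localization.AtPrime Q) (LocalizedModule Q.primeCompl M)) ≤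
    ((depth (Localization.AtPrime Q) (LocalizedModule Q.primeCompl M) : ℕ∞) : WithBot ℕ∞)

theorem hasSk_iff_skPt : HasSk k A M ↔ ∀ (Q : Ideal A) [Q.IsPrime], SkPt k A M Q := Iff.rfl

/-- `(S_k)` at `p` means the pointwise condition at all generizations of `p`. -/
theorem hasSkAt_iff (p : Ideal A) [p.IsPrime] :
    EGA4.HasSkAt k A M p ↔ ∀ (Q : Ideal A) [Q.IsPrime], Q ≤ p → SkPt k A M Q := by
  unfold EGA4.HasSkAt HasSk
  constructor
  · intro h Q _ hQp
    have hprime : (Q.map (algebraMap A (Localization.AtPrime p))).IsPrime :=
      isPrime_map_localization Q p hQp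
    have hcomap := comap_map_localization Q p hQp
    have h1 := h (Q.map (algebraMap A (Localization.AtPrime p)))
    rw [supportDim_localizedModule_localizedModule M Q p _ hcomap,
      depth_localizedModule_localizedModule M Q p hQp _ hcomap] at h1
    exact h1
  · intro h P' _
    have hle : P'.comap (algebraMap A (Localization.AtPrime p)) ≤ p :=
      comap_localization_le (p := p) ⟨P', inferInstance⟩
    have h1 := h (P'.comap (algebraMap A (Localization.AtPrime p))) hle
    unfold SkPt at h1
    rw [← supportDim_localizedModule_localizedModule M _ p P' rfl,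
      ← depth_localizedModule_localizedModule M _ p hle P' rfl] at h1
    exact h1

end Groth.Agent.Helper8.Loc
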