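import Mathlib
import Groth.Prelude
import Groth.Agent.Lib.Helper8.Fib6
import Groth.Agent.Lib.Helper8.Loc2
import Groth.Agent.Lib.Helper8.Depth31
import Groth.Agent.Lib.Helper8.CplQuot2

/-!
# `(S_k)` at a prime along flat ring maps: ascent with `(S_k)` fibres, descent, and codepth
-/

set_option autoImplicit false
universe u

namespace Groth.Agent.Helper8.SkBase

open IsLocalRing LocCoh Groth.Agent.Helper8.FlatReg Groth.Agent.Helper8.Fib
  Groth.Agent.Helper8.Depth TensorProduct

section basic

variable (k : ℕ) (A : Type u) [CommRing A]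

theorem skPt_self_iff (Q : Ideal A) [Q.IsPrime] :
    Loc.SkPt k A A Q ↔ SkLocal k (Localization.AtPrime Q) := by
  unfold Loc.SkPt SkLocal
  rw [supportDim_localizedModule_self, depth_localizedModule_self]
  have h1 : ((maximalIdeal (Localization.AtPrime Q)).height : WithBot ℕ∞) =
      (Q.height : WithBot ℕ∞) := by
    rw [IsLocalRing.maximalIdeal_height_eq_ringKrullDim,
      IsLocalization.AtPrime.ringKrullDim_eq_height Q (Localization.AtPrime Q)]
  have h2 : (maximalIdeal (Localization.AtPrime Q)).height = Q.height := by exact_mod_cast h1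
  rw [h2]
  constructor
  · intro h
    exact_mod_cast h
  · intro h
    exact_mod_cast h

theorem hasSkAt_self_iff (p : Ideal A) [p.IsPrime] :
    EGA4.HasSkAt k A A p ↔
      ∀ (Q : Ideal A) [Q.IsPrime], Q ≤ p → SkLocal k (Localization.AtPrime Q) := by
  rw [Loc.hasSkAt_iff]
  refine forall_congr' fun Q => forall_congr' fun hQ => forall_congr' fun _ => ?_
  exact skPt_self_iff k A Q

end basic

section flat

variable (A B : Type u) [CommRing A] [CommRing B] [Algebra A B]

/-- At a minimal prime of `qB` lying over `q` the fibre is zero-dimensional. -/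
theorem fibre_dim_zero_of_minimalPrimes (q : Ideal A) [q.IsPrime] (Q : Ideal B) [Q.IsPrime]
    (hQmin : Q ∈ (q.map (algebraMap A B)).minimalPrimes)
    (hcomap : Q.comap (algebraMap A B) = q) :
    ringKrullDim (EGA4.FibLocRing A B Q) ≤ 0 := by
  rw [← Nat.cast_zero, ← Ring.krullDimLE_iff, Ring.krullDimLE_zero_iff]
  intro P' hP'
  set J := (Q.comap (algebraMap A B)).map (algebraMap A (Localization.AtPrime Q)) with hJ
  set P'' := P'.comap (Ideal.Quotient.mk J) with hP''
  haveI : P''.IsPrime := Ideal.comap_isPrime _ _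
  set P := P''.comap (algebraMap B (Localization.AtPrime Q)) with hP
  haveI : P.IsPrime := Ideal.comap_isPrime _ _
  have hPQ : P ≤ Q := Groth.Agent.Helper8.Depth.comap_localization_le (p := Q) ⟨P'', inferInstance⟩
  have hJP'' : J ≤ P'' := by
    intro x hx
    rw [hP'', Ideal.mem_comap, Ideal.Quotient.eq_zero_iff_mem.mpr hx]
    exact zero_mem _
  have hqP : q.map (algebraMap A B) ≤ P := by
    rw [Ideal.map_le_iff_le_comap]
    intro b hb
    rw [Ideal.mem_comap, hP, Ideal.mem_comap]
    apply hJP''
    rw [hJ, hcomap, ← IsScalarTower.algebraMap_apply A B (Localization.AtPrime Q) b]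
    exact Ideal.mem_map_of_mem _ hb
  have hPeq : P = Q := le_antisymm hPQ (hQmin.2 ⟨inferInstance, hqP⟩ hPQ)
  have hP''max : P'' = maximalIdeal (Localization.AtPrime Q) := by
    have h1 : P.map (algebraMap B (Localization.AtPrime Q)) = P'' :=
      IsLocalization.map_under Q.primeCompl (Localization.AtPrime Q) P''
    rw [← h1, hPeq, Localization.AtPrime.map_eq_maximalIdeal]
  haveI : Nontrivial (Localization.AtPrime Q ⧸ J) :=
    ⟨⟨0, 1, fun h => hP'.ne_top ((Ideal.eq_top_iff_one _).mpr (h ▸ zero_mem _))⟩⟩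
  have hP'max : P' = maximalIdeal (Localization.AtPrime Q ⧸ J) := by
    have h2 : P''.map (Ideal.Quotient.mk J) = P' :=
      Ideal.map_comap_of_surjective _ Ideal.Quotient.mk_surjective P'
    rw [← h2, hP''max]
    exact IsLocalRing.map_maximalIdeal_of_surjective _ Ideal.Quotient.mk_surjective
  rw [hP'max]
  exact maximalIdeal.isMaximal _

/-- Going down with a zero-dimensional fibre: below a prime `q` of the flat `A`-algebra `B`
and over a prime `P ≤ q ∩ A` there is a prime `Q ≤ q` at which the fibre is zero-dimensional. -/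
theorem exists_le_prime_fibre_dim_zero [Module.Flat A B] (q : Ideal B) [q.IsPrime]
    (P : Ideal A) [P.IsPrime] (hP : P ≤ q.comap (algebraMap A B)) :
    ∃ (Q : Ideal B) (_ : Q.IsPrime), Q ≤ q ∧ Q.comap (algebraMap A B) = P ∧
      ringKrullDim (EGA4.FibLocRing A B Q) ≤ 0 := by
  haveI : q.LiesOver (q.comap (algebraMap A B)) := ⟨rfl⟩
  obtain ⟨Q0, hQ0le, hQ0prime, hQ0over⟩ :=
    Ideal.exists_ideal_le_liesOver_of_le (S := B) (p := P) (q := q.comap (algebraMap A B)) q hP
  have hle : P.map (algebraMap A B) ≤ Q0 := by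
    rw [Ideal.map_le_iff_le_comap]
    exact le_of_eq hQ0over.over
  obtain ⟨Q, hQmin, hQle⟩ := Ideal.exists_minimalPrimes_le hle
  haveI hQprime : Q.IsPrime := hQmin.1.1
  have hcomap : Q.comap (algebraMap A B) = P := by
    apply le_antisymm
    · calc Q.comap (algebraMap A B) ≤ Q0.comap (algebraMap A B) := Ideal.comap_mono hQle
        _ = P := hQ0over.over.symm
    · exact Ideal.map_le_iff_le_comap.mp hQmin.1.2
  exact ⟨Q, hQprime, hQle.trans hQ0le, hcomap,
    fibre_dim_zero_of_minimalPrimes A B P Q hQmin hcomap⟩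

variable [IsNoetherianRing A] [IsNoetherianRing B] [Module.Flat A B]

/-- Descent of `(S_k)` at a prime along a flat map. -/
theorem hasSkAt_descent (k : ℕ) (q : Ideal B) [q.IsPrime] (h : EGA4.HasSkAt k B B q) :
    EGA4.HasSkAt k A A (q.comap (algebraMap A B)) := by
  rw [hasSkAt_self_iff] at h ⊢
  intro P _ hP
  obtain ⟨Q, hQprime, hQq, hQP, hdim0⟩ := exists_le_prime_fibre_dim_zero A B q P hP
  subst hQP
  haveI := nontrivial_fibLocRing A B Q
  exact skLocal_descent_atPrime A B k Q hdim0 (h Q hQq)

/-- Ascent of `(S_k)` at a prime along a flat map with `(S_k)` fibres. -/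
theorem hasSkAt_ascent (k : ℕ) (q : Ideal B) [q.IsPrime]
    (hfib : ∀ (Q : Ideal B) [Q.IsPrime], Q ≤ q →
      ∀ [IsLocalRing (EGA4.FibLocRing A B Q)], SkLocal k (EGA4.FibLocRing A B Q))
    (h : EGA4.HasSkAt k A A (q.comap (algebraMap A B))) :
    EGA4.HasSkAt k B B q := by
  rw [hasSkAt_self_iff] at h ⊢
  intro Q _ hQ
  haveI := nontrivial_fibLocRing A B Q
  exact skLocal_atPrime_of_fibre A B k Q (h _ (Ideal.comap_mono hQ)) (hfib Q hQ)

/-- Equality of codepths along a flat map with Cohen–Macaulay fibre. -/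
theorem codepth_eq_of_cm_fibre (Q : Ideal B) [Q.IsPrime]
    [IsLocalRing (EGA4.FibLocRing A B Q)]
    (hF : ∀ k : ℕ, SkLocal k (EGA4.FibLocRing A B Q)) :
    ringKrullDim (Localization.AtPrime (Q.comap (algebraMap A B))) +
        ((depth (Localization.AtPrime Q) (Localization.AtPrime Q) : ℕ∞) : WithBot ℕ∞) =
      ringKrullDim (Localization.AtPrime Q) +
        ((depth (Localization.AtPrime (Q.comap (algebraMap A B)))
          (Localization.AtPrime (Q.comap (algebraMap A B))) : ℕ∞) : WithBot ℕ∞) := by
  haveI : Q.LiesOver (Q.comap (algebraMap A B)) := ⟨rfl⟩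
  letI := Localization.AtPrime.algebraOfLiesOver (Q.comap (algebraMap A B)) Q
  haveI : IsLocalHom (algebraMap (Localization.AtPrime (Q.comap (algebraMap A B)))
      (Localization.AtPrime Q)) := by
    rw [RingHom.algebraMap_toAlgebra]
    exact Localization.isLocalHom_localRingHom _ Q (algebraMap A B) Ideal.LiesOver.over
  have hideal : (maximalIdeal (Localization.AtPrime (Q.comap (algebraMap A B)))).map
      (algebraMap (Localization.AtPrime (Q.comap (algebraMap A B))) (Localization.AtPrime Q)) =
      (Q.comap (algebraMap A B)).map (algebraMap A (Localization.AtPrime Q)) := by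
    rw [← Localization.AtPrime.map_eq_maximalIdeal, Ideal.map_map,
      ← IsScalarTower.algebraMap_eq]
  haveI : IsLocalRing (Localization.AtPrime Q ⧸
      (maximalIdeal (Localization.AtPrime (Q.comap (algebraMap A B)))).map
      (algebraMap (Localization.AtPrime (Q.comap (algebraMap A B))) (Localization.AtPrime Q))) :=
    (Ideal.quotEquivOfEq hideal.symm).isLocalRing
  have hF' : ∀ k : ℕ, SkLocal k (Localization.AtPrime Q ⧸
      (maximalIdeal (Localization.AtPrime (Q.comap (algebraMap A B)))).map
      (algebraMap (Localization.AtPrime (Q.comap (algebraMap A B))) (Localization.AtPrime Q))) :=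
    fun k => skLocal_of_ringEquiv k (Ideal.quotEquivOfEq hideal.symm) (hF k)
  have hcm := (cm_local_iff_forall_skLocal _).mpr hF'
  rw [Module.supportDim_self_eq_ringKrullDim] at hcm
  have hdim := ringKrullDim_eq_add_of_flat (Localization.AtPrime (Q.comap (algebraMap A B)))
    (Localization.AtPrime Q)
  have hdepth := depth_eq_add_of_flat (Localization.AtPrime (Q.comap (algebraMap A B)))
    (Localization.AtPrime Q)
  rw [hdim, hdepth, hcm]
  push_cast
  abel

end flat

end Groth.Agent.Helper8.SkBase
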