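import Mathlib
import Groth.Prelude
import Groth.Agent.Lib.Helper8.RegOpen3
import Groth.Agent.Lib.Helper8.CatCM2
import Groth.Agent.Lib.Helper8.SkBase1
import Groth.Agent.Lib.Helper8.Fib5
import Groth.Agent.Lib.Helper8.AdicReg1

/-!
# Openness of the Cohen–Macaulay locus: quotients of regular rings, complete local rings and
local rings with Cohen–Macaulay formal fibres
-/

set_option autoImplicit false
universe u

namespace Groth.Agent.Helper8.CMOpen

open IsLocalRing LocCoh Groth.Agent.Helper8.Depth Groth.Agent.Helper8.Fib
  Groth.Agent.Helper8.FlatReg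

/-- A localization is Cohen–Macaulay iff the codepth of the localized module is `≤ 0`. -/
theorem cm_atPrime_iff (B : Type u) [CommRing B] [IsNoetherianRing B] (q : Ideal B) [q.IsPrime] :
    IsCohenMacaulayLocalRing (Localization.AtPrime q) ↔
      Module.supportDim (Localization.AtPrime q) (LocalizedModule q.primeCompl B) ≤
        ((depth (Localization.AtPrime q) (LocalizedModule q.primeCompl B) : ℕ∞) : WithBot ℕ∞) +
          ((0 : ℕ) : WithBot ℕ∞) := by
  rw [Module.supportDim_eq_of_equiv (localizedModuleSelfEquiv q), depth_localizedModule_self,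
    Nat.cast_zero, add_zero]
  constructor
  · intro h
    exact h.supportDim_eq_depth.le
  · intro h
    exact ⟨le_antisymm h depth_le_supportDim⟩

/-- The Cohen–Macaulay locus of a quotient of a regular ring is open. -/
theorem isOpen_cmLocus_of_surjective (R B : Type u) [CommRing R] [CommRing B] [IsRegularRing R]
    (f : R →+* B) (hf : Function.Surjective f) :
    IsOpen {q : PrimeSpectrum B | IsCohenMacaulayLocalRing (Localization.AtPrime q.asIdeal)} := by
  letI : Algebra R B := f.toAlgebra
  have hs : Function.Surjective (algebraMap R B) := hf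
  haveI : IsNoetherianRing B := isNoetherianRing_of_surjective R B (algebraMap R B) hs
  have h := RegOpen.isOpen_codepth_le_of_surjective R B hs B 0
  convert h using 1
  ext q
  exact cm_atPrime_iff B q.asIdeal

/-- The Cohen–Macaulay locus of a complete Noetherian local ring is open. -/
theorem isOpen_cmLocus_of_complete (B : Type u) [CommRing B] [IsLocalRing B] [IsNoetherianRing B]
    [IsAdicComplete (maximalIdeal B) B] :
    IsOpen {q : PrimeSpectrum B | IsCohenMacaulayLocalRing (Localization.AtPrime q.asIdeal)} := by
  obtain ⟨S, hS, hreg, f, hf⟩ := Groth.Agent.Helper8.CatCM.exists_surjective_of_complete B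
  haveI : IsRegularRing S := Groth.Agent.Helper8.CohenFact.isRegularRing_of_isRegularLocalRing S
  exact isOpen_cmLocus_of_surjective S B f hf

section flat

variable (A B : Type u) [CommRing A] [CommRing B] [Algebra A B] [IsNoetherianRing A]
  [IsNoetherianRing B] [Module.Flat A B]

/-- Along a flat map with Cohen–Macaulay fibres, the Cohen–Macaulay property of the local rings
ascends and descends. -/
theorem cm_atPrime_iff_of_cm_fibres
    (hfib : ∀ (p : Ideal A) [p.IsPrime], IsCohenMacaulayRing (p.Fiber B)) (Q : Ideal B) [Q.IsPrime] :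
    IsCohenMacaulayLocalRing (Localization.AtPrime (Q.comap (algebraMap A B))) ↔
      IsCohenMacaulayLocalRing (Localization.AtPrime Q) := by
  haveI := Groth.Agent.Helper8.FlatReg.nontrivial_fibLocRing A B Q
  have hF : ∀ k : ℕ, SkLocal k (EGA4.FibLocRing A B Q) := fun k => by
    have h1 := hfib (Q.comap (algebraMap A B))
    haveI : IsNoetherianRing ((Q.comap (algebraMap A B)).Fiber B) :=
      isNoetherianRing_fiber (S := B) (Q.comap (algebraMap A B))
    have h2 := (isCohenMacaulayRing_iff_forall_hasSk _).mp h1 k
    exact skLocal_fibLocRing_of_fiber k (Q.comap (algebraMap A B)) h2 Q rfl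
  have hcod := Groth.Agent.Helper8.SkBase.codepth_eq_of_cm_fibre A B Q hF
  set P := Q.comap (algebraMap A B) with hP
  have hdA : ringKrullDim (Localization.AtPrime P) = (P.height : WithBot ℕ∞) :=
    IsLocalization.AtPrime.ringKrullDim_eq_height P _
  have hdB : ringKrullDim (Localization.AtPrime Q) = (Q.height : WithBot ℕ∞) :=
    IsLocalization.AtPrime.ringKrullDim_eq_height Q _
  obtain ⟨a, ha⟩ := ENat.ne_top_iff_exists.mp (Ideal.height_ne_top (I := P) (Ideal.IsPrime.ne_top inferInstance))
  obtain ⟨b, hb⟩ := ENat.ne_top_iff_exists.mp (Ideal.height_ne_top (I := Q) (Ideal.IsPrime.ne_top inferInstance))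
  obtain ⟨d, hd⟩ := ENat.ne_top_iff_exists.mp
    (idealDepth_ne_top (smul_top_ne_top_of_local (Localization.AtPrime P) (Localization.AtPrime P)))
  obtain ⟨d', hd'⟩ := ENat.ne_top_iff_exists.mp
    (idealDepth_ne_top (smul_top_ne_top_of_local (Localization.AtPrime Q) (Localization.AtPrime Q)))
  have hd1 : depth (Localization.AtPrime P) (Localization.AtPrime P) = (d : ℕ∞) := hd.symm
  have hd2 : depth (Localization.AtPrime Q) (Localization.AtPrime Q) = (d' : ℕ∞) := hd'.symm
  rw [hdA, hdB, ← ha, ← hb, hd1, hd2] at hcod
  have hsum : a + d' = b + d := by exact_mod_cast hcod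
  constructor
  · intro h
    have h1 := h.supportDim_eq_depth
    rw [Module.supportDim_self_eq_ringKrullDim, hdA, ← ha, hd1] at h1
    have h2 : a = d := by exact_mod_cast h1
    refine ⟨?_⟩
    rw [Module.supportDim_self_eq_ringKrullDim, hdB, ← hb, hd2]
    have : b = d' := by omega
    exact_mod_cast this
  · intro h
    have h1 := h.supportDim_eq_depth
    rw [Module.supportDim_self_eq_ringKrullDim, hdB, ← hb, hd2] at h1
    have h2 : b = d' := by exact_mod_cast h1
    refine ⟨?_⟩
    rw [Module.supportDim_self_eq_ringKrullDim, hdA, ← ha, hd1]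
    have : a = d := by omega
    exact_mod_cast this

end flat

/-- **S2703.** -/
theorem isOpen_cmLocus_of_hasCMFormalFibres (A : Type u) [CommRing A] [IsNoetherianRing A]
    [IsLocalRing A] (hA : EGA4.HasCMFormalFibres A) :
    IsOpen {p : PrimeSpectrum A | IsCohenMacaulayLocalRing (Localization.AtPrime p.asIdeal)} := by
  haveI : IsNoetherianRing (EGA4.Cpl A) := Groth.Agent.Helper8.AdicReg.isNoetherianRing A _
  have hopen := isOpen_cmLocus_of_complete (EGA4.Cpl A)
  haveI : Module.FaithfullyFlat A (EGA4.Cpl A) := Module.FaithfullyFlat.of_flat_of_isLocalHom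
  have hsurj : Function.Surjective (PrimeSpectrum.comap (algebraMap A (EGA4.Cpl A))) :=
    PrimeSpectrum.comap_surjective_of_faithfullyFlat
  have hflat : (algebraMap A (EGA4.Cpl A)).Flat := RingHom.flat_algebraMap_iff.mpr inferInstance
  have hq := PrimeSpectrum.isQuotientMap_of_generalizingMap hsurj hflat.generalizingMap_comap
  rw [← hq.isOpen_preimage]
  convert hopen using 1
  ext Q
  exact cm_atPrime_iff_of_cm_fibres A (EGA4.Cpl A) (fun p _ => hA p) Q.asIdeal

end Groth.Agent.Helper8.CMOpen
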