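import Mathlib
import Groth.Prelude.Def_CAlgX
import Groth.Agent.Lib.Helper8.AdicFS13

/-!
# Existence of flat complete lifts of a formally smooth complete local algebra over a quotient
(EGA 0_IV 19.7.2, existence)
-/

set_option autoImplicit false

namespace Groth.Agent.Helper8.AdicFS

open CAlgX IsLocalRing TensorProduct

universe u

/-- **EGA 0_IV 19.7.2, existence.** -/
theorem exists_flat_lift_of_quotient {A : Type u} [CommRing A] [IsLocalRing A]
    [IsNoetherianRing A] (J : Ideal A) (hJ : J ≤ maximalIdeal A) [IsLocalRing (A ⧸ J)]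
    (B₀ : Type u) [CommRing B₀] [IsLocalRing B₀] [IsNoetherianRing B₀]
    [IsAdicComplete (maximalIdeal B₀) B₀]
    [Algebra (A ⧸ J) B₀] [IsLocalHom (algebraMap (A ⧸ J) B₀)]
    (h₀ : IsAdicFormallySmooth (A ⧸ J) B₀ (maximalIdeal B₀)) :
    ∃ (B : Type u) (_ : CommRing B) (_ : IsLocalRing B) (_ : IsNoetherianRing B) (_ : Algebra A B)
      (_ : IsLocalHom (algebraMap A B)),
      IsAdicComplete (maximalIdeal B) B ∧ Module.Flat A B ∧
        Nonempty ((A ⧸ J) ⊗[A] B ≃ₐ[A ⧸ J] B₀) := by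
  classical
  let 𝔪₀ : Ideal B₀ := (maximalIdeal (A ⧸ J)).map (algebraMap (A ⧸ J) B₀)
  have h𝔪₀ : 𝔪₀ ≤ maximalIdeal B₀ := map_maximalIdeal_le_of_isLocalHom _
  haveI : Nontrivial (B₀ ⧸ 𝔪₀) := Ideal.Quotient.nontrivial_iff.2
    (ne_top_of_le_ne_top (maximalIdeal.isMaximal B₀).ne_top h𝔪₀)
  haveI : IsLocalRing (B₀ ⧸ 𝔪₀) :=
    IsLocalRing.of_surjective' (Ideal.Quotient.mk 𝔪₀) Ideal.Quotient.mk_surjective
  haveI : IsAdicComplete (maximalIdeal (B₀ ⧸ 𝔪₀)) (B₀ ⧸ 𝔪₀) :=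
    Groth.Agent.Helper8.CohenFact.isAdicComplete_of_surjective (Ideal.Quotient.mk 𝔪₀)
      Ideal.Quotient.mk_surjective
  have hmK : maximalIdeal (B₀ ⧸ 𝔪₀) = (maximalIdeal B₀).map (Ideal.Quotient.mk 𝔪₀) :=
    (IsLocalRing.map_maximalIdeal_of_surjective _ Ideal.Quotient.mk_surjective).symm
  have hK₀ : IsAdicFormallySmooth ((A ⧸ J) ⧸ maximalIdeal (A ⧸ J)) (B₀ ⧸ 𝔪₀)
      (maximalIdeal (B₀ ⧸ 𝔪₀)) := by
    rw [hmK]; exact quotient_base h₀ (maximalIdeal (A ⧸ J))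
  -- the residue fields of `A` and `A ⧸ J`
  have hcomap : (maximalIdeal (A ⧸ J)).comap (Ideal.Quotient.mk J) = maximalIdeal A := by
    haveI := Ideal.comap_isMaximal_of_surjective (Ideal.Quotient.mk J)
      Ideal.Quotient.mk_surjective (K := maximalIdeal (A ⧸ J))
    exact IsLocalRing.eq_maximalIdeal inferInstance
  let eκ₀ : (A ⧸ maximalIdeal A) →+* ((A ⧸ J) ⧸ maximalIdeal (A ⧸ J)) :=
    Ideal.quotientMap _ (Ideal.Quotient.mk J) hcomap.ge
  have heκ : Function.Bijective eκ₀ :=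
    ⟨Ideal.quotientMap_injective' hcomap.le,
      Ideal.quotientMap_surjective Ideal.Quotient.mk_surjective⟩
  let eκ : (A ⧸ maximalIdeal A) ≃+* ((A ⧸ J) ⧸ maximalIdeal (A ⧸ J)) :=
    RingEquiv.ofBijective eκ₀ heκ
  letI algκK : Algebra (ResidueField A) (B₀ ⧸ 𝔪₀) :=
    ((algebraMap ((A ⧸ J) ⧸ maximalIdeal (A ⧸ J)) (B₀ ⧸ 𝔪₀)).comp
      (eκ : (A ⧸ maximalIdeal A) →+* _)).toAlgebra
  letI algκK2 : Algebra (A ⧸ maximalIdeal A) (B₀ ⧸ 𝔪₀) := algκK
  have hK : IsAdicFormallySmooth (ResidueField A) (B₀ ⧸ 𝔪₀) (maximalIdeal (B₀ ⧸ 𝔪₀)) :=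
    of_ringEquiv_base eκ (fun _ => rfl) hK₀
  haveI : IsRegularLocalRing (B₀ ⧸ 𝔪₀) := (regular_and_ringEquiv hK).1
  obtain ⟨B, iB, iBl, iBn, iBa, hloc, hcomp, hflat, ⟨ε⟩⟩ :=
    Groth.Agent.S4514.result (A := A) (B₀ ⧸ 𝔪₀)
  haveI := hflat
  haveI := hloc
  haveI := hcomp
  have hle : (maximalIdeal A).map (algebraMap A B) ≤ maximalIdeal B :=
    map_maximalIdeal_le_of_isLocalHom _
  have hBfs : IsAdicFormallySmooth A B (maximalIdeal B) :=
    of_flat_of_tensor_fibre (maximalIdeal A) (maximalIdeal B) hle hK ε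
      (exists_mem_maximalIdeal_tmul (maximalIdeal A) ε)
  -- the reduction of `B` modulo `J`
  have hJBm : J.map (algebraMap A B) ≤ (maximalIdeal A).map (algebraMap A B) := Ideal.map_mono hJ
  have hJB : J.map (algebraMap A B) ≤ maximalIdeal B := hJBm.trans hle
  haveI : Nontrivial (B ⧸ J.map (algebraMap A B)) := Ideal.Quotient.nontrivial_iff.2
    (ne_top_of_le_ne_top (maximalIdeal.isMaximal B).ne_top hJB)
  haveI : IsLocalRing (B ⧸ J.map (algebraMap A B)) :=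
    IsLocalRing.of_surjective' (Ideal.Quotient.mk _) Ideal.Quotient.mk_surjective
  haveI : IsAdicComplete (maximalIdeal (B ⧸ J.map (algebraMap A B)))
      (B ⧸ J.map (algebraMap A B)) :=
    Groth.Agent.Helper8.CohenFact.isAdicComplete_of_surjective
      (Ideal.Quotient.mk (J.map (algebraMap A B))) Ideal.Quotient.mk_surjective
  have hBq : IsAdicFormallySmooth (A ⧸ J) (B ⧸ J.map (algebraMap A B))
      (maximalIdeal (B ⧸ J.map (algebraMap A B))) := by
    have := quotient_base hBfs J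
    rwa [IsLocalRing.map_maximalIdeal_of_surjective _ Ideal.Quotient.mk_surjective] at this
  -- the map to the common fibre
  let ρ₀ : B →+* (B₀ ⧸ 𝔪₀) :=
    (ε : ResidueField A ⊗[A] B →+* (B₀ ⧸ 𝔪₀)).comp
      ((Algebra.TensorProduct.includeRight : B →ₐ[A] ResidueField A ⊗[A] B) : B →+* _)
  have hρ₀ : ∀ b, ρ₀ b = ε (1 ⊗ₜ[A] b) := fun b => rfl
  have hρ₀0 : ∀ b : B, ρ₀ b = 0 ↔ b ∈ (maximalIdeal A).map (algebraMap A B) := by
    intro b
    rw [hρ₀, map_eq_zero_iff _ ε.injective]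
    show ((1 : A ⧸ maximalIdeal A) ⊗ₜ[A] b = 0) ↔ _
    rw [Groth.Agent.Helper8.CohenSm.one_tmul_eq_zero_iff, Ideal.smul_top_eq_map,
      Submodule.restrictScalars_mem]
  let ρr : (B ⧸ J.map (algebraMap A B)) →+* (B₀ ⧸ 𝔪₀) :=
    Ideal.Quotient.lift (J.map (algebraMap A B)) ρ₀ (fun b hb => (hρ₀0 b).2 (hJBm hb))
  have hρr : ∀ b, ρr (Ideal.Quotient.mk _ b) = ρ₀ b := fun b => rfl
  let ρ : (B ⧸ J.map (algebraMap A B)) →ₐ[A ⧸ J] (B₀ ⧸ 𝔪₀) :=
    { ρr with
      commutes' := by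
        intro r
        obtain ⟨a, rfl⟩ := Ideal.Quotient.mk_surjective r
        show ρr (Ideal.Quotient.mk _ (algebraMap A B a)) = _
        rw [hρr, hρ₀]
        have h1 : (1 : ResidueField A) ⊗ₜ[A] (algebraMap A B a) =
            algebraMap (ResidueField A) (ResidueField A ⊗[A] B) (residue A a) := by
          rw [Algebra.TensorProduct.algebraMap_apply, Algebra.algebraMap_eq_smul_one,
            TensorProduct.tmul_smul, TensorProduct.smul_tmul']
          congr 1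
          rw [Algebra.smul_def, mul_one]
          rfl
        rw [h1, ε.commutes]
        rfl }
  have hρmk : ∀ b, ρ (Ideal.Quotient.mk _ b) = ρ₀ b := fun b => rfl
  have hρ : Function.Surjective ρ := by
    intro y
    obtain ⟨c, hc⟩ := Algebra.TensorProduct.includeRight_surjective
      (R := A) (S := ResidueField A) B IsLocalRing.residue_surjective (ε.symm y)
    refine ⟨Ideal.Quotient.mk _ c, ?_⟩
    rw [hρmk, hρ₀]
    have : (1 : ResidueField A) ⊗ₜ[A] c = ε.symm y := hc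
    rw [this, ε.apply_symm_apply]
  have hmapeq : (maximalIdeal (A ⧸ J)).map (algebraMap (A ⧸ J) (B ⧸ J.map (algebraMap A B))) =
      ((maximalIdeal A).map (algebraMap A B)).map (Ideal.Quotient.mk (J.map (algebraMap A B))) := by
    rw [← IsLocalRing.map_maximalIdeal_of_surjective (Ideal.Quotient.mk J)
      Ideal.Quotient.mk_surjective, Ideal.map_map, Ideal.map_map]
    rfl
  have hkerρ : RingHom.ker ρ =
      (maximalIdeal (A ⧸ J)).map (algebraMap (A ⧸ J) (B ⧸ J.map (algebraMap A B))) := by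
    rw [hmapeq]
    ext x
    obtain ⟨b, rfl⟩ := Ideal.Quotient.mk_surjective x
    rw [RingHom.mem_ker, hρmk, hρ₀0]
    constructor
    · intro hb
      exact Ideal.mem_map_of_mem _ hb
    · intro hb
      obtain ⟨b', hb', hbb'⟩ := (Ideal.mem_map_iff_of_surjective _
        Ideal.Quotient.mk_surjective).1 hb
      have h2 : b - b' ∈ J.map (algebraMap A B) := by
        rw [← Ideal.Quotient.eq]; exact hbb'.symm
      have : b = (b - b') + b' := by ring
      rw [this]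
      exact Ideal.add_mem _ (hJBm h2) hb'
  let ρ' : B₀ →ₐ[A ⧸ J] (B₀ ⧸ 𝔪₀) := Ideal.Quotient.mkₐ (A ⧸ J) 𝔪₀
  have hρ' : Function.Surjective ρ' := Ideal.Quotient.mk_surjective
  have hkerρ' : RingHom.ker ρ' = (maximalIdeal (A ⧸ J)).map (algebraMap (A ⧸ J) B₀) :=
    Ideal.Quotient.mkₐ_ker (A ⧸ J) 𝔪₀
  haveI hlocq : IsLocalHom (algebraMap (A ⧸ J) (B ⧸ J.map (algebraMap A B))) := by
    constructor
    intro r hr
    obtain ⟨a, rfl⟩ := Ideal.Quotient.mk_surjective r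
    have h1 : IsUnit (Ideal.Quotient.mk (J.map (algebraMap A B)) (algebraMap A B a)) := hr
    have h2 : IsUnit (algebraMap A B a) :=
      isUnit_of_map_of_ker_le (Ideal.Quotient.mk (J.map (algebraMap A B)))
        Ideal.Quotient.mk_surjective (by rw [Ideal.mk_ker]; exact hJB) _ h1
    exact (isUnit_of_map_unit (algebraMap A B) a h2).map (Ideal.Quotient.mk J)
  obtain ⟨v, -⟩ := exists_algEquiv_of_fibre (maximalIdeal (A ⧸ J)) hBq h₀ ρ ρ' hρ hρ' hkerρ hkerρ'
    (map_maximalIdeal_le_of_isLocalHom _) h𝔪₀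
  exact ⟨B, iB, iBl, iBn, iBa, hloc, hcomp, hflat,
    ⟨(Algebra.TensorProduct.quotIdealMapEquivQuotTensor B J).symm.trans v⟩⟩

end Groth.Agent.Helper8.AdicFS
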