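import Mathlib
import Groth.Prelude
import Groth.Agent.Lib.Helper8.AdicFS14
import Groth.Agent.Lib.Helper8.GRing4

/-!
# Base change of a complete local algebra along a finite local homomorphism with trivial residue
field extension
-/

set_option autoImplicit false

universe u

namespace Groth.Agent.Helper8.Andre

open IsLocalRing TensorProduct CAlgX

section local_tensor

variable {A₁ A' C₁ B₀ : Type u} [CommRing A₁] [CommRing A'] [CommRing C₁] [CommRing B₀]
  [IsLocalRing A₁] [IsLocalRing A'] [IsLocalRing C₁] [IsLocalRing B₀]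
  [Algebra A₁ A'] [Algebra A₁ C₁] [Algebra A' B₀] [Algebra A₁ B₀] [IsScalarTower A₁ A' B₀]

/-- The contraction of the maximal ideal along a finite homomorphism. -/
theorem comap_maximalIdeal_of_finite [Module.Finite A₁ A'] :
    (maximalIdeal A').comap (algebraMap A₁ A') = maximalIdeal A₁ := by
  haveI : Algebra.IsIntegral A₁ A' := Algebra.IsIntegral.of_finite A₁ A'
  haveI : ((maximalIdeal A').comap (algebraMap A₁ A')).IsMaximal :=
    Ideal.isMaximal_comap_of_isIntegral_of_isMaximal (maximalIdeal A')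
  exact IsLocalRing.eq_maximalIdeal inferInstance

omit [IsLocalRing A₁] [IsLocalRing C₁] in
variable (A₁ A' C₁) in
/-- Modulo the maximal ideal of `A'`, every element of `A' ⊗ C₁` comes from `C₁`. -/
theorem exists_sub_one_tmul_mem
    (hres : ∀ a : A', ∃ α : A₁, a - algebraMap A₁ A' α ∈ maximalIdeal A')
    (x : A' ⊗[A₁] C₁) :
    ∃ c : C₁, x - 1 ⊗ₜ[A₁] c ∈ (maximalIdeal A').map (algebraMap A' (A' ⊗[A₁] C₁)) := by
  induction x using TensorProduct.induction_on with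
  | zero => exact ⟨0, by simp⟩
  | tmul a c =>
    obtain ⟨α, hα⟩ := hres a
    refine ⟨α • c, ?_⟩
    have h1 : a ⊗ₜ[A₁] c - 1 ⊗ₜ[A₁] (α • c) =
        algebraMap A' (A' ⊗[A₁] C₁) (a - algebraMap A₁ A' α) * (1 ⊗ₜ[A₁] c) := by
      rw [Algebra.TensorProduct.algebraMap_apply, Algebra.TensorProduct.tmul_mul_tmul,
        mul_one, one_mul, TensorProduct.tmul_smul, TensorProduct.smul_tmul', Algebra.smul_def,
        mul_one, Algebra.algebraMap_self_apply, TensorProduct.sub_tmul]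
    rw [h1]
    exact Ideal.mul_mem_right _ _ (Ideal.mem_map_of_mem _ hα)
  | add x y hx hy =>
    obtain ⟨c, hc⟩ := hx
    obtain ⟨d, hd⟩ := hy
    refine ⟨c + d, ?_⟩
    have : x + y - 1 ⊗ₜ[A₁] (c + d) = (x - 1 ⊗ₜ[A₁] c) + (y - 1 ⊗ₜ[A₁] d) := by
      rw [TensorProduct.tmul_add]; ring
    rw [this]
    exact Ideal.add_mem _ hc hd

/-- The homomorphism `A' ⊗ C₁ → B₀`. -/
noncomputable def rho' (ρ₁ : C₁ →ₐ[A₁] B₀) : A' ⊗[A₁] C₁ →ₐ[A'] B₀ :=
  Algebra.TensorProduct.lift (Algebra.ofId A' B₀) ρ₁ (fun _ _ => Commute.all _ _)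

omit [IsLocalRing A₁] [IsLocalRing A'] [IsLocalRing C₁] [IsLocalRing B₀] in
theorem rho'_tmul (ρ₁ : C₁ →ₐ[A₁] B₀) (a : A') (c : C₁) :
    rho' ρ₁ (a ⊗ₜ[A₁] c) = algebraMap A' B₀ a * ρ₁ c := by
  unfold rho'
  rw [Algebra.TensorProduct.lift_tmul]
  rfl

omit [IsLocalRing A₁] [IsLocalRing A'] [IsLocalRing C₁] [IsLocalRing B₀] in
theorem rho'_surjective (ρ₁ : C₁ →ₐ[A₁] B₀) (hρ₁ : Function.Surjective ρ₁) :
    Function.Surjective (rho' (A' := A') ρ₁) := by
  intro y
  obtain ⟨c, rfl⟩ := hρ₁ y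
  exact ⟨1 ⊗ₜ c, by rw [rho'_tmul, map_one, one_mul]⟩

omit [IsLocalRing C₁] [IsLocalRing B₀] in
theorem ker_rho' (hres : ∀ a : A', ∃ α : A₁, a - algebraMap A₁ A' α ∈ maximalIdeal A')
    [Module.Finite A₁ A']
    (ρ₁ : C₁ →ₐ[A₁] B₀)
    (hker₁ : RingHom.ker ρ₁ = (maximalIdeal A₁).map (algebraMap A₁ C₁))
    (hB₀ : ∀ a ∈ maximalIdeal A', algebraMap A' B₀ a = 0) :
    RingHom.ker (rho' (A' := A') ρ₁) =
      (maximalIdeal A').map (algebraMap A' (A' ⊗[A₁] C₁)) := by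
  apply le_antisymm
  · intro x hx
    rw [RingHom.mem_ker] at hx
    obtain ⟨c, hc⟩ := exists_sub_one_tmul_mem A₁ A' C₁ hres x
    have h1 : rho' (A' := A') ρ₁ (x - 1 ⊗ₜ[A₁] c) = 0 := by
      have h2 : (maximalIdeal A').map (algebraMap A' (A' ⊗[A₁] C₁)) ≤
          RingHom.ker (rho' (A' := A') ρ₁) := by
        rw [Ideal.map_le_iff_le_comap]
        intro a ha
        rw [Ideal.mem_comap, RingHom.mem_ker, AlgHom.commutes]
        exact hB₀ a ha
      exact h2 hc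
    rw [map_sub, hx, zero_sub, neg_eq_zero, rho'_tmul, map_one, one_mul] at h1
    have h3 : c ∈ (maximalIdeal A₁).map (algebraMap A₁ C₁) := by
      rw [← hker₁]; exact h1
    have h4 : (1 : A') ⊗ₜ[A₁] c ∈ (maximalIdeal A').map (algebraMap A' (A' ⊗[A₁] C₁)) := by
      have h5 : (maximalIdeal A₁).map (algebraMap A₁ C₁) ≤
          ((maximalIdeal A').map (algebraMap A' (A' ⊗[A₁] C₁))).comap
            (Algebra.TensorProduct.includeRight : C₁ →ₐ[A₁] A' ⊗[A₁] C₁) := by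
        rw [Ideal.map_le_iff_le_comap]
        intro α hα
        rw [Ideal.mem_comap, Ideal.mem_comap]
        have h6 : (Algebra.TensorProduct.includeRight : C₁ →ₐ[A₁] A' ⊗[A₁] C₁)
            (algebraMap A₁ C₁ α) = algebraMap A' (A' ⊗[A₁] C₁) (algebraMap A₁ A' α) := by
          rw [AlgHom.commutes, ← IsScalarTower.algebraMap_apply]
        rw [h6]
        apply Ideal.mem_map_of_mem
        rw [← comap_maximalIdeal_of_finite (A₁ := A₁) (A' := A')] at hα
        exact hα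
      exact h5 h3
    have : x = (x - 1 ⊗ₜ[A₁] c) + 1 ⊗ₜ[A₁] c := by ring
    rw [this]
    exact Ideal.add_mem _ hc h4
  · rw [Ideal.map_le_iff_le_comap]
    intro a ha
    rw [Ideal.mem_comap, RingHom.mem_ker, AlgHom.commutes]
    exact hB₀ a ha

attribute [local instance] Algebra.TensorProduct.rightAlgebra in
omit [IsLocalRing B₀] [Algebra A' B₀] [Algebra A₁ B₀] [IsScalarTower A₁ A' B₀] in
/-- Every maximal ideal of `A' ⊗ C₁` contains the maximal ideals of `A'` and of `C₁`. -/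
theorem map_maximalIdeal_le_of_isMaximal [Module.Finite A₁ A'] [IsLocalHom (algebraMap A₁ C₁)]
    (M : Ideal (A' ⊗[A₁] C₁)) [hM : M.IsMaximal] :
    (maximalIdeal A').map (algebraMap A' (A' ⊗[A₁] C₁)) ≤ M ∧
      (maximalIdeal C₁).map (Algebra.TensorProduct.includeRight : C₁ →ₐ[A₁] A' ⊗[A₁] C₁) ≤ M := by
  haveI : Module.Finite C₁ (A' ⊗[A₁] C₁) :=
    Module.Finite.equiv (Algebra.TensorProduct.commRight A₁ C₁ A').toLinearEquiv
  haveI : Algebra.IsIntegral C₁ (A' ⊗[A₁] C₁) := Algebra.IsIntegral.of_finite _ _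
  haveI : Algebra.IsIntegral A₁ A' := Algebra.IsIntegral.of_finite A₁ A'
  have h1 : M.comap (algebraMap C₁ (A' ⊗[A₁] C₁)) = maximalIdeal C₁ := by
    haveI : (M.comap (algebraMap C₁ (A' ⊗[A₁] C₁))).IsMaximal :=
      Ideal.isMaximal_comap_of_isIntegral_of_isMaximal M
    exact IsLocalRing.eq_maximalIdeal inferInstance
  have h2 : (maximalIdeal C₁).comap (algebraMap A₁ C₁) = maximalIdeal A₁ :=
    ((IsLocalRing.local_hom_TFAE (algebraMap A₁ C₁)).out 0 4).1 ‹_›
  have h3 : (M.comap (algebraMap A' (A' ⊗[A₁] C₁))).comap (algebraMap A₁ A') = maximalIdeal A₁ := by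
    rw [← h2, ← h1, Ideal.comap_comap, Ideal.comap_comap]
    congr 1
    ext α
    show algebraMap A' (A' ⊗[A₁] C₁) (algebraMap A₁ A' α) =
      (Algebra.TensorProduct.includeRight : C₁ →ₐ[A₁] A' ⊗[A₁] C₁) (algebraMap A₁ C₁ α)
    rw [AlgHom.commutes, ← IsScalarTower.algebraMap_apply]
  have h4 : M.comap (algebraMap A' (A' ⊗[A₁] C₁)) = maximalIdeal A' := by
    haveI : (M.comap (algebraMap A' (A' ⊗[A₁] C₁))).IsMaximal := by
      apply Ideal.isMaximal_of_isIntegral_of_isMaximal_comap (R := A₁)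
      rw [h3]
      exact maximalIdeal.isMaximal A₁
    exact IsLocalRing.eq_maximalIdeal inferInstance
  refine ⟨?_, ?_⟩
  · rw [Ideal.map_le_iff_le_comap, h4]
  · rw [Ideal.map_le_iff_le_comap]
    intro c hc
    rw [← h1] at hc
    exact hc

/-- `A' ⊗ C₁` is a local ring. -/
theorem isLocalRing_tensor (hres : ∀ a : A', ∃ α : A₁, a - algebraMap A₁ A' α ∈ maximalIdeal A')
    [Module.Finite A₁ A'] [IsLocalHom (algebraMap A₁ C₁)]
    (ρ₁ : C₁ →ₐ[A₁] B₀) (hρ₁ : Function.Surjective ρ₁)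
    (hker₁ : RingHom.ker ρ₁ = (maximalIdeal A₁).map (algebraMap A₁ C₁))
    (hB₀ : ∀ a ∈ maximalIdeal A', algebraMap A' B₀ a = 0) :
    IsLocalRing (A' ⊗[A₁] C₁) := by
  have hsurj := rho'_surjective (A' := A') ρ₁ hρ₁
  have hker := ker_rho' hres ρ₁ hker₁ hB₀
  set φ : A' ⊗[A₁] C₁ →+* B₀ := (rho' (A' := A') ρ₁).toRingHom with hφ
  have hsurj' : Function.Surjective φ := hsurj
  haveI : Nontrivial (A' ⊗[A₁] C₁) := φ.domain_nontrivial
  refine IsLocalRing.of_unique_max_ideal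
    ⟨(maximalIdeal B₀).comap φ,
      Ideal.comap_isMaximal_of_surjective _ hsurj', fun M hM => ?_⟩
  haveI : M.IsMaximal := hM
  have h1 : RingHom.ker φ ≤ M := by
    show RingHom.ker (rho' (A' := A') ρ₁) ≤ M
    rw [hker]
    exact (map_maximalIdeal_le_of_isMaximal M).1
  have h2 : (M.map φ).comap φ = M := by
    rw [Ideal.comap_map_of_surjective φ hsurj', ← RingHom.ker_eq_comap_bot]
    exact sup_eq_left.2 h1
  rcases Ideal.map_eq_top_or_isMaximal_of_surjective φ hsurj' hM with h3 | h3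
  · exfalso
    rw [h3, Ideal.comap_top] at h2
    exact hM.ne_top h2.symm
  · rw [← h2, IsLocalRing.eq_maximalIdeal h3]

end local_tensor

end Groth.Agent.Helper8.Andre
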