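import Mathlib
import Groth.Prelude
import Groth.Agent.Lib.Helper8.Andre3
import Groth.Agent.Lib.Helper8.GRBase6
import Groth.Agent.Lib.Helper8.GRing6
import Groth.Agent.Lib.Helper8.Fib5
import Groth.Agent.Lib.Helper8.PRad13

/-!
# Transfer of the generic fibre along a finite extension of the base (André's theorem, key step)
-/

set_option autoImplicit false

universe u

namespace Groth.Agent.Helper8.Andre

open IsLocalRing TensorProduct CAlgX

/-- One fibre of a base change of finite type. -/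
theorem isGeometricallyRegular_fiber_baseChange (A B A' : Type u) [CommRing A] [CommRing B]
    [CommRing A'] [Algebra A B] [Algebra A A'] [Algebra.FiniteType A A'] [IsNoetherianRing B]
    (p' : Ideal A') [p'.IsPrime]
    (hGR : CAlg.IsGeometricallyRegular (p'.comap (algebraMap A A')).ResidueField
      ((p'.comap (algebraMap A A')).Fiber B)) :
    CAlg.IsGeometricallyRegular p'.ResidueField (p'.Fiber (A' ⊗[A] B)) := by
  letI := Groth.Agent.Helper8.GRBase.resAlgebra A A' p'
  haveI := Groth.Agent.Helper8.GRBase.resAlgebra_isScalarTower A A' p'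
  haveI : IsNoetherianRing ((p'.comap (algebraMap A A')).Fiber B) :=
    Groth.Agent.Helper8.Fib.isNoetherianRing_fiber _
  haveI : Algebra.EssFiniteType A p'.ResidueField := Algebra.EssFiniteType.comp A A' _
  haveI : Algebra.EssFiniteType (p'.comap (algebraMap A A')).ResidueField p'.ResidueField :=
    Algebra.EssFiniteType.of_comp A _ _
  haveI := Groth.Agent.Helper8.GRBase.isNoetherianRing_tensor_of_essFiniteType
    (p'.comap (algebraMap A A')).ResidueField
    ((p'.comap (algebraMap A A')).Fiber B) p'.ResidueField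
  exact Groth.Agent.Helper8.GRBase.isGeometricallyRegular_of_algEquiv
    (Groth.Agent.Helper8.GRBase.fibreEquiv A B A' p').symm
    (Groth.Agent.Helper8.GRBase.isGeometricallyRegular_tensor p'.ResidueField hGR)

section key

variable (A₁ A' C' : Type u) [CommRing A₁] [IsDomain A₁] [IsLocalRing A₁] [IsNoetherianRing A₁]
  [CommRing A'] [IsDomain A'] [IsLocalRing A'] [IsNoetherianRing A']
  [CommRing C'] [IsLocalRing C'] [IsNoetherianRing C'] [IsAdicComplete (maximalIdeal C') C']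
  [Algebra A₁ A'] [Module.Finite A₁ A'] [Algebra A' C'] [IsLocalHom (algebraMap A' C')]

omit [IsNoetherianRing A'] in
attribute [local instance] Algebra.TensorProduct.rightAlgebra in
/-- **Key step.** -/
theorem isGeometricallyRegular_bot_fiber_of_finite
    (hinj : Function.Injective (algebraMap A₁ A'))
    (hres : ∀ a : A', ∃ α : A₁, a - algebraMap A₁ A' α ∈ maximalIdeal A')
    (hgen : ∀ (C₁ : Type u) [CommRing C₁] [IsLocalRing C₁] [IsNoetherianRing C₁]
      [IsAdicComplete (maximalIdeal C₁) C₁] [Algebra A₁ C₁] [IsLocalHom (algebraMap A₁ C₁)],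
      IsAdicFormallySmooth A₁ C₁ (maximalIdeal C₁) →
      CAlg.IsGeometricallyRegular (⊥ : Ideal A₁).ResidueField ((⊥ : Ideal A₁).Fiber C₁))
    (hfs : IsAdicFormallySmooth A' C' (maximalIdeal C')) :
    CAlg.IsGeometricallyRegular (⊥ : Ideal A').ResidueField ((⊥ : Ideal A').Fiber C') := by
  classical
  -- the closed fibre
  set I : Ideal C' := (maximalIdeal A').map (algebraMap A' C') with hI
  have hIle : I ≤ maximalIdeal C' :=
    Groth.Agent.Helper8.AdicFS.map_maximalIdeal_le_of_isLocalHom _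
  haveI : Nontrivial (C' ⧸ I) := Ideal.Quotient.nontrivial_iff.2
    (ne_top_of_le_ne_top (maximalIdeal.isMaximal C').ne_top hIle)
  haveI : IsLocalRing (C' ⧸ I) :=
    IsLocalRing.of_surjective' (Ideal.Quotient.mk I) Ideal.Quotient.mk_surjective
  haveI : IsAdicComplete (maximalIdeal (C' ⧸ I)) (C' ⧸ I) :=
    Groth.Agent.Helper8.CohenFact.isAdicComplete_of_surjective (Ideal.Quotient.mk I)
      Ideal.Quotient.mk_surjective
  have h₀ : IsAdicFormallySmooth (A' ⧸ maximalIdeal A') (C' ⧸ I) (maximalIdeal (C' ⧸ I)) := by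
    have h1 := Groth.Agent.Helper8.AdicFS.quotient_base hfs (maximalIdeal A')
    rw [IsLocalRing.map_maximalIdeal_of_surjective _ Ideal.Quotient.mk_surjective] at h1
    exact h1
  -- residue fields
  have hcomap : (maximalIdeal A').comap (algebraMap A₁ A') = maximalIdeal A₁ :=
    comap_maximalIdeal_of_finite
  letI : Field (A₁ ⧸ maximalIdeal A₁) := Ideal.Quotient.field _
  letI : Field (A' ⧸ maximalIdeal A') := Ideal.Quotient.field _
  let φk : (A₁ ⧸ maximalIdeal A₁) →+* (A' ⧸ maximalIdeal A') :=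
    Ideal.quotientMap (maximalIdeal A') (algebraMap A₁ A') (le_of_eq hcomap.symm)
  have hφk : Function.Bijective φk := by
    refine ⟨φk.injective, fun y => ?_⟩
    obtain ⟨a, rfl⟩ := Ideal.Quotient.mk_surjective y
    obtain ⟨α, hα⟩ := hres a
    refine ⟨Ideal.Quotient.mk _ α, ?_⟩
    show Ideal.Quotient.mk _ (algebraMap A₁ A' α) = Ideal.Quotient.mk _ a
    rw [eq_comm, Ideal.Quotient.eq]
    exact hα
  let ek : (A₁ ⧸ maximalIdeal A₁) ≃+* (A' ⧸ maximalIdeal A') := RingEquiv.ofBijective φk hφk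
  letI algk : Algebra (A₁ ⧸ maximalIdeal A₁) (C' ⧸ I) :=
    ((algebraMap (A' ⧸ maximalIdeal A') (C' ⧸ I)).comp (ek : _ →+* _)).toAlgebra
  have h₀' : IsAdicFormallySmooth (A₁ ⧸ maximalIdeal A₁) (C' ⧸ I) (maximalIdeal (C' ⧸ I)) :=
    Groth.Agent.Helper8.AdicFS.of_ringEquiv_base ek (fun _ => rfl) h₀
  haveI : IsLocalHom (algebraMap (A₁ ⧸ maximalIdeal A₁) (C' ⧸ I)) := by
    constructor
    intro a ha
    have : a ≠ 0 := by
      rintro rfl
      rw [map_zero] at ha
      exact not_isUnit_zero ha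
    exact isUnit_iff_ne_zero.2 this
  -- the lift
  obtain ⟨C₁, _, _, _, _, _, hcompl, hflat, ⟨u₁⟩⟩ :=
    Groth.Agent.Helper8.AdicFS.exists_flat_lift_of_quotient (maximalIdeal A₁) le_rfl (C' ⧸ I) h₀'
  haveI := hcompl
  haveI := hflat
  have hfs₁ : IsAdicFormallySmooth A₁ C₁ (maximalIdeal C₁) :=
    Groth.Agent.Helper8.AdicFS.of_flat_of_tensor_fibre (maximalIdeal A₁) (maximalIdeal C₁)
      (Groth.Agent.Helper8.AdicFS.map_maximalIdeal_le_of_isLocalHom _) h₀' u₁
      (Groth.Agent.Helper8.AdicFS.exists_mem_maximalIdeal_tmul (maximalIdeal A₁) u₁)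
  -- algebra structures over `A₁`
  letI algA₁C' : Algebra A₁ C' := ((algebraMap A' C').comp (algebraMap A₁ A')).toAlgebra
  haveI : IsScalarTower A₁ A' C' := IsScalarTower.of_algebraMap_eq' rfl
  haveI : IsScalarTower A₁ (A₁ ⧸ maximalIdeal A₁) (C' ⧸ I) :=
    IsScalarTower.of_algebraMap_eq (fun a => rfl)
  let ρ₁ : C₁ →ₐ[A₁] (C' ⧸ I) := Groth.Agent.Helper8.AdicFS.rho (maximalIdeal A₁) u₁
  have hρ₁ : Function.Surjective ρ₁ := Groth.Agent.Helper8.AdicFS.rho_surjective _ u₁
  have hker₁ : RingHom.ker ρ₁ = (maximalIdeal A₁).map (algebraMap A₁ C₁) :=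
    Groth.Agent.Helper8.AdicFS.ker_rho _ u₁
  have hB₀ : ∀ a ∈ maximalIdeal A', algebraMap A' (C' ⧸ I) a = 0 := by
    intro a ha
    show Ideal.Quotient.mk I (algebraMap A' C' a) = 0
    rw [Ideal.Quotient.eq_zero_iff_mem]
    exact Ideal.mem_map_of_mem _ ha
  -- the tensor product
  haveI hloc : IsLocalRing (A' ⊗[A₁] C₁) := isLocalRing_tensor hres ρ₁ hρ₁ hker₁ hB₀
  haveI : Module.Finite C₁ (A' ⊗[A₁] C₁) :=
    Module.Finite.equiv (Algebra.TensorProduct.commRight A₁ C₁ A').toLinearEquiv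
  haveI : IsNoetherianRing (A' ⊗[A₁] C₁) :=
    isNoetherian_of_tower C₁ (isNoetherian_of_isNoetherianRing_of_finite C₁ (A' ⊗[A₁] C₁))
  haveI : IsAdicComplete (maximalIdeal (A' ⊗[A₁] C₁)) (A' ⊗[A₁] C₁) :=
    Groth.Agent.Helper8.GRing.isAdicComplete_of_finite_local C₁ (A' ⊗[A₁] C₁)
  have hmax := map_maximalIdeal_le_of_isMaximal (A₁ := A₁) (A' := A') (C₁ := C₁)
    (maximalIdeal (A' ⊗[A₁] C₁))
  have hfs' : IsAdicFormallySmooth A' (A' ⊗[A₁] C₁) (maximalIdeal (A' ⊗[A₁] C₁)) :=
    Groth.Agent.Helper8.PRad.isAdicFormallySmooth_of_le hmax.2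
      (Groth.Agent.Helper8.AdicFS.baseChange hfs₁ A')
  -- the isomorphism
  obtain ⟨v, -⟩ := Groth.Agent.Helper8.AdicFS.exists_algEquiv_of_fibre (maximalIdeal A') hfs hfs'
    (Ideal.Quotient.mkₐ A' I) (rho' (A' := A') ρ₁) (Ideal.Quotient.mkₐ_surjective A' I)
    (rho'_surjective ρ₁ hρ₁) (Ideal.Quotient.mkₐ_ker A' I) (ker_rho' hres ρ₁ hker₁ hB₀) hIle hmax.1
  -- the generic fibre
  have hgen₁ := hgen C₁ hfs₁
  haveI : Algebra.FiniteType A₁ A' := inferInstance
  have hbot : (⊥ : Ideal A').comap (algebraMap A₁ A') = ⊥ := by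
    rw [← RingHom.ker_eq_comap_bot]
    exact (RingHom.injective_iff_ker_eq_bot _).1 hinj
  have hgen₂ : CAlg.IsGeometricallyRegular
      ((⊥ : Ideal A').comap (algebraMap A₁ A')).ResidueField
      (((⊥ : Ideal A').comap (algebraMap A₁ A')).Fiber C₁) :=
    Groth.Agent.Helper8.GRing.isGeometricallyRegular_fiber_congr _ _ hbot.symm hgen₁
  have hgen₃ := isGeometricallyRegular_fiber_baseChange A₁ C₁ A' ⊥ hgen₂
  exact Groth.Agent.Helper8.GRBase.isGeometricallyRegular_of_algEquiv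
    (Algebra.TensorProduct.congr (AlgEquiv.refl : (⊥ : Ideal A').ResidueField ≃ₐ[_] _) v.symm) hgen₃

end key

end Groth.Agent.Helper8.Andre
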