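import Mathlib
import Groth.Prelude
import Groth.Agent.Lib.Helper8.Andre2
import Groth.Agent.Lib.Helper8.Andre4
import Groth.Agent.Lib.Helper8.FinPS3
import Groth.Agent.Lib.Helper8.GRing9
import Groth.Agent.Lib.Helper8.CohenFact1
import Groth.Agent.Lib.Helper8.LocHom4
import Groth.Agent.Lib.Helper8.CplQuot2

/-!
# André's theorem for complete local rings: a formally smooth local homomorphism of complete
Noetherian local rings is regular
-/

set_option autoImplicit false

universe u

namespace Groth.Agent.Helper8.Andre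

open IsLocalRing TensorProduct CAlgX

section domain

variable (A' C' : Type u)
  [CommRing A'] [IsDomain A'] [IsLocalRing A'] [IsNoetherianRing A']
  [CommRing C'] [IsLocalRing C'] [IsNoetherianRing C'] [IsAdicComplete (maximalIdeal C') C']
  [Algebra A' C'] [IsLocalHom (algebraMap A' C')]

omit [IsNoetherianRing A'] in
/-- The key step for a ring homomorphism. -/
theorem isGeometricallyRegular_bot_fiber_of_ringHom (A₁ : Type u) [CommRing A₁] [IsDomain A₁]
    [IsLocalRing A₁] [IsNoetherianRing A₁] (f : A₁ →+* A') (hinj : Function.Injective f)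
    (hfin : f.Finite) (hsurj : Function.Surjective ((residue A').comp f))
    (hgen : ∀ (C₁ : Type u) [CommRing C₁] [IsLocalRing C₁] [IsNoetherianRing C₁]
      [IsAdicComplete (maximalIdeal C₁) C₁] [Algebra A₁ C₁] [IsLocalHom (algebraMap A₁ C₁)],
      IsAdicFormallySmooth A₁ C₁ (maximalIdeal C₁) →
      CAlg.IsGeometricallyRegular (⊥ : Ideal A₁).ResidueField ((⊥ : Ideal A₁).Fiber C₁))
    (hfs : IsAdicFormallySmooth A' C' (maximalIdeal C')) :
    CAlg.IsGeometricallyRegular (⊥ : Ideal A').ResidueField ((⊥ : Ideal A').Fiber C') := by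
  letI := f.toAlgebra
  haveI : Module.Finite A₁ A' := hfin
  refine isGeometricallyRegular_bot_fiber_of_finite A₁ A' C' hinj ?_ hgen hfs
  intro a
  obtain ⟨α, hα⟩ := hsurj (residue A' a)
  refine ⟨α, ?_⟩
  rw [← IsLocalRing.residue_eq_zero_iff, map_sub, sub_eq_zero]
  exact hα.symm

variable [IsAdicComplete (maximalIdeal A') A']

/-- **André's theorem, generic fibre over a complete local domain.** -/
theorem isGeometricallyRegular_bot_fiber_of_domain
    (hfs : IsAdicFormallySmooth A' C' (maximalIdeal C')) :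
    CAlg.IsGeometricallyRegular (⊥ : Ideal A').ResidueField ((⊥ : Ideal A').Fiber C') := by
  obtain ⟨Λ, instΛ, n, f, hΛ, hinj, hfin, hsurj⟩ :=
    Groth.Agent.Helper8.FinPS.exists_finite_injective_of_domain A'
  rcases hΛ with hΛ | hΛ
  · letI := Groth.Agent.Helper8.GRing.fieldOfIsField Λ hΛ
    haveI : IsDomain (MvPowerSeries (Fin n) Λ) := NoZeroDivisors.to_isDomain _
    haveI : IsNoetherianRing (MvPowerSeries (Fin n) Λ) := inferInstance
    exact isGeometricallyRegular_bot_fiber_of_ringHom A' C' (MvPowerSeries (Fin n) Λ) f hinj hfin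
      hsurj (fun C₁ _ _ _ _ _ _ h₁ => isGeometricallyRegular_bot_fiber_field Λ n h₁) hfs
  · haveI : CharZero Λ := Groth.Agent.Helper8.GRing.charZero_of_isCohenRing Λ hΛ
    obtain ⟨hdom, hdvr, hcompl, -⟩ := hΛ
    haveI := hdom
    haveI := hdvr
    haveI : IsDomain (MvPowerSeries (Fin n) Λ) := NoZeroDivisors.to_isDomain _
    haveI : IsNoetherianRing (MvPowerSeries (Fin n) Λ) := inferInstance
    haveI : CharZero (MvPowerSeries (Fin n) Λ) :=
      charZero_of_injective_ringHom (MvPowerSeries.C_injective (σ := Fin n) (R := Λ))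
    exact isGeometricallyRegular_bot_fiber_of_ringHom A' C' (MvPowerSeries (Fin n) Λ) f hinj hfin
      hsurj (fun C₁ _ _ _ _ _ _ h₁ =>
        isGeometricallyRegular_bot_fiber_charZero (MvPowerSeries (Fin n) Λ) h₁) hfs

end domain

section main

variable (A C : Type u) [CommRing A] [IsLocalRing A] [IsNoetherianRing A]
  [IsAdicComplete (maximalIdeal A) A]
  [CommRing C] [IsLocalRing C] [IsNoetherianRing C] [IsAdicComplete (maximalIdeal C) C]
  [Algebra A C] [IsLocalHom (algebraMap A C)]

/-- The quotient of `C` by the extension of an ideal of `A` is a pushout. -/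
theorem isPushout_quotient {A C : Type u} [CommRing A] [CommRing C] [Algebra A C] (p : Ideal A) :
    Algebra.IsPushout A (A ⧸ p) C (C ⧸ p.map (algebraMap A C)) := by
  constructor
  let e1 := (Algebra.TensorProduct.quotIdealMapEquivQuotTensor C p).symm
  refine IsBaseChange.of_equiv e1.toLinearEquiv fun x => ?_
  show e1 (1 ⊗ₜ[A] x) = _
  rw [AlgEquiv.symm_apply_eq]
  rfl

/-- **André's theorem for complete local rings.** A local homomorphism of complete Noetherian
local rings which is formally smooth for the adic topology is regular. -/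
theorem isRegularHom_of_isAdicFormallySmooth
    (hfs : IsAdicFormallySmooth A C (maximalIdeal C)) : CAlg.IsRegularHom A C := by
  refine ⟨Groth.Agent.Helper8.AdicFS.flat_of_isAdicFormallySmooth hfs, fun p hp => ?_⟩
  haveI := hp
  refine ⟨Groth.Agent.Helper8.Fib.isNoetherianRing_fiber p, ?_⟩
  set I : Ideal C := p.map (algebraMap A C) with hI
  have hple : p ≤ maximalIdeal A := IsLocalRing.le_maximalIdeal hp.ne_top
  have hIle : I ≤ maximalIdeal C :=
    (Ideal.map_mono hple).trans (Groth.Agent.Helper8.AdicFS.map_maximalIdeal_le_of_isLocalHom _)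
  haveI : Nontrivial (C ⧸ I) := Ideal.Quotient.nontrivial_iff.2
    (ne_top_of_le_ne_top (maximalIdeal.isMaximal C).ne_top hIle)
  haveI : IsLocalRing (C ⧸ I) :=
    IsLocalRing.of_surjective' (Ideal.Quotient.mk I) Ideal.Quotient.mk_surjective
  haveI : IsAdicComplete (maximalIdeal (C ⧸ I)) (C ⧸ I) :=
    Groth.Agent.Helper8.CohenFact.isAdicComplete_of_surjective (Ideal.Quotient.mk I)
      Ideal.Quotient.mk_surjective
  haveI : IsLocalRing (A ⧸ p) :=
    IsLocalRing.of_surjective' (Ideal.Quotient.mk p) Ideal.Quotient.mk_surjective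
  haveI : IsAdicComplete (maximalIdeal (A ⧸ p)) (A ⧸ p) :=
    Groth.Agent.Helper8.CohenFact.isAdicComplete_of_surjective (Ideal.Quotient.mk p)
      Ideal.Quotient.mk_surjective
  have h₀ : IsAdicFormallySmooth (A ⧸ p) (C ⧸ I) (maximalIdeal (C ⧸ I)) := by
    have h1 := Groth.Agent.Helper8.AdicFS.quotient_base hfs p
    rw [IsLocalRing.map_maximalIdeal_of_surjective _ Ideal.Quotient.mk_surjective] at h1
    exact h1
  haveI : IsLocalHom (algebraMap (A ⧸ p) (C ⧸ I)) := by
    constructor
    intro a ha
    obtain ⟨a, rfl⟩ := Ideal.Quotient.mk_surjective a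
    have h1 : IsUnit (Ideal.Quotient.mk I (algebraMap A C a)) := ha
    have h2 : IsUnit (algebraMap A C a) := by
      by_contra hnu
      have h3 : algebraMap A C a ∈ maximalIdeal C := hnu
      have h4 : Ideal.Quotient.mk I (algebraMap A C a) ∈ maximalIdeal (C ⧸ I) := by
        rw [← IsLocalRing.map_maximalIdeal_of_surjective _ Ideal.Quotient.mk_surjective]
        exact Ideal.mem_map_of_mem _ h3
      exact h4 h1
    exact (isUnit_of_map_unit (algebraMap A C) a h2).map (Ideal.Quotient.mk p)
  have H := isGeometricallyRegular_bot_fiber_of_domain (A ⧸ p) (C ⧸ I) h₀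
  haveI := isPushout_quotient (A := A) (C := C) p
  have h1 := (Groth.Agent.Helper8.LocHom.isGeometricallyRegular_fiber_iff A C (A ⧸ p)
    (C ⧸ I) (Groth.Agent.Helper8.CplQuot.surjectiveOnStalks_mk A p) ⊥).1 H
  refine Groth.Agent.Helper8.GRing.isGeometricallyRegular_fiber_congr
    ((⊥ : Ideal (A ⧸ p)).under A) p ?_ h1
  show Ideal.comap (algebraMap A (A ⧸ p)) ⊥ = p
  rw [Ideal.Quotient.algebraMap_eq, ← RingHom.ker_eq_comap_bot, Ideal.mk_ker]

end main

end Groth.Agent.Helper8.Andre
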