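import Mathlib
import Groth.Prelude
import Groth.Agent.Lib.Helper8.AdicFS2
import Groth.Agent.Lib.Helper8.AdicFS13

/-!
# Formal smoothness over a Noetherian ring and over its completion
-/

set_option autoImplicit false

universe u

namespace Groth.Agent.Helper8.Andre

open IsLocalRing TensorProduct CAlgX

/-- Density of `A` in its completion. -/
theorem exists_sub_mem_map_pow {A : Type u} [CommRing A] [IsNoetherianRing A] (𝔪 : Ideal A) (n : ℕ)
    (x : AdicCompletion 𝔪 A) :
    ∃ a : A, x - algebraMap A (AdicCompletion 𝔪 A) a ∈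
      (𝔪 ^ n).map (algebraMap A (AdicCompletion 𝔪 A)) := by
  obtain ⟨a, ha⟩ := Ideal.Quotient.mk_surjective (AdicCompletion.evalₐ 𝔪 n x)
  refine ⟨a, Groth.Agent.Helper8.AdicFS.ker_evalₐ_le_map_pow 𝔪 (IsNoetherian.noetherian 𝔪) n ?_⟩
  rw [RingHom.mem_ker, map_sub, sub_eq_zero, AlgHom.commutes, ← ha]
  rfl

/-- Formal smoothness over `A` implies formal smoothness over the completion of `A`. -/
theorem isAdicFormallySmooth_cpl_base {A T : Type u} [CommRing A] [IsNoetherianRing A]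
    (𝔪 : Ideal A) [CommRing T] [Algebra A T] [Algebra (AdicCompletion 𝔪 A) T]
    [IsScalarTower A (AdicCompletion 𝔪 A) T] (𝔫 : Ideal T) (h𝔫 : 𝔪.map (algebraMap A T) ≤ 𝔫)
    (h : IsAdicFormallySmooth A T 𝔫) : IsAdicFormallySmooth (AdicCompletion 𝔪 A) T 𝔫 := by
  intro C _ _ J hJ ψ ⟨k, hk⟩
  letI : Algebra A C := Algebra.compHom C (algebraMap A (AdicCompletion 𝔪 A))
  haveI : IsScalarTower A (AdicCompletion 𝔪 A) C := IsScalarTower.of_algebraMap_eq (fun _ => rfl)
  obtain ⟨χ, hχ⟩ := h C J hJ (ψ.restrictScalars A) ⟨k, hk⟩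
  have hbot : (𝔪 ^ (2 * k)).map (algebraMap A C) = ⊥ :=
    Groth.Agent.Helper8.AdicFS.map_pow_eq_bot_of_continuous 𝔪 𝔫 h𝔫 J hJ (ψ.restrictScalars A) k hk
  have hcomm : ∀ x : AdicCompletion 𝔪 A,
      χ (algebraMap (AdicCompletion 𝔪 A) T x) = algebraMap (AdicCompletion 𝔪 A) C x := by
    intro x
    obtain ⟨a, ha⟩ := exists_sub_mem_map_pow 𝔪 (2 * k) x
    have h1 : algebraMap (AdicCompletion 𝔪 A) C (x - algebraMap A (AdicCompletion 𝔪 A) a) = 0 := by
      have h2 : algebraMap (AdicCompletion 𝔪 A) C (x - algebraMap A (AdicCompletion 𝔪 A) a) ∈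
          ((𝔪 ^ (2 * k)).map (algebraMap A (AdicCompletion 𝔪 A))).map
            (algebraMap (AdicCompletion 𝔪 A) C) := Ideal.mem_map_of_mem _ ha
      rw [Ideal.map_map, ← IsScalarTower.algebraMap_eq, hbot] at h2
      exact h2
    have h3 : χ (algebraMap (AdicCompletion 𝔪 A) T (x - algebraMap A (AdicCompletion 𝔪 A) a)) = 0 := by
      have h4 : χ (algebraMap (AdicCompletion 𝔪 A) T (x - algebraMap A (AdicCompletion 𝔪 A) a)) ∈
          (((𝔪 ^ (2 * k)).map (algebraMap A (AdicCompletion 𝔪 A))).map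
            (algebraMap (AdicCompletion 𝔪 A) T)).map (χ : T →+* C) :=
        Ideal.mem_map_of_mem _ (Ideal.mem_map_of_mem _ ha)
      rw [Ideal.map_map, Ideal.map_map] at h4
      have h5 : ((χ : T →+* C).comp (algebraMap (AdicCompletion 𝔪 A) T)).comp
          (algebraMap A (AdicCompletion 𝔪 A)) = algebraMap A C := by
        ext a
        show χ (algebraMap (AdicCompletion 𝔪 A) T (algebraMap A (AdicCompletion 𝔪 A) a)) = _
        rw [← IsScalarTower.algebraMap_apply, χ.commutes]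
      rw [h5, hbot] at h4
      exact h4
    rw [map_sub, sub_eq_zero] at h1
    rw [map_sub, map_sub, sub_eq_zero] at h3
    rw [h3, h1, ← IsScalarTower.algebraMap_apply, ← IsScalarTower.algebraMap_apply, χ.commutes]
  let χ' : T →ₐ[AdicCompletion 𝔪 A] C := { (χ : T →+* C) with commutes' := hcomm }
  refine ⟨χ', ?_⟩
  ext t
  exact AlgHom.congr_fun hχ t

end Groth.Agent.Helper8.Andre
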