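import Mathlib
import Groth.Prelude
import Groth.Agent.Lib.Helper8.Andre5
import Groth.Agent.Lib.Helper8.Andre6
import Groth.Agent.Lib.Helper8.CompFib4

/-!
# André's theorem for Noetherian local rings with regular formal fibres
-/

set_option autoImplicit false

universe u

namespace Groth.Agent.Helper8.Andre

open IsLocalRing TensorProduct CAlgX

variable (A B : Type u) [CommRing A] [CommRing B] [IsLocalRing A] [IsLocalRing B]
  [IsNoetherianRing A] [IsNoetherianRing B] [Algebra A B] [IsLocalHom (algebraMap A B)]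

/-- If `A → Â` is regular and `B̂` is formally smooth over `A`, then `A → B` is regular. -/
theorem isRegularHom_of_isAdicFormallySmooth_cpl
    (hA : CAlg.IsRegularHom A (EGA4.Cpl A))
    (hfsA : IsAdicFormallySmooth A (EGA4.Cpl B) (maximalIdeal (EGA4.Cpl B))) :
    CAlg.IsRegularHom A B := by
  haveI : IsNoetherianRing (EGA4.Cpl A) := Groth.Agent.Helper8.AdicReg.isNoetherianRing A _
  haveI : IsNoetherianRing (EGA4.Cpl B) := Groth.Agent.Helper8.AdicReg.isNoetherianRing B _
  haveI hlocB' : IsLocalHom (algebraMap A (EGA4.Cpl B)) := by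
    have : algebraMap A (EGA4.Cpl B) = (algebraMap B (EGA4.Cpl B)).comp (algebraMap A B) :=
      IsScalarTower.algebraMap_eq A B _
    rw [this]
    infer_instance
  letI := Groth.Agent.Helper8.CplMap.algebraCpl A B
  haveI := Groth.Agent.Helper8.CplMap.isScalarTower_cpl A B
  haveI := Groth.Agent.Helper8.CplMap.isLocalHom_cpl A B
  have hfs : IsAdicFormallySmooth (EGA4.Cpl A) (EGA4.Cpl B) (maximalIdeal (EGA4.Cpl B)) :=
    isAdicFormallySmooth_cpl_base (maximalIdeal A) _
      (Groth.Agent.Helper8.AdicFS.map_maximalIdeal_le_of_isLocalHom _) hfsA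
  have hreg : CAlg.IsRegularHom (EGA4.Cpl A) (EGA4.Cpl B) :=
    isRegularHom_of_isAdicFormallySmooth (EGA4.Cpl A) (EGA4.Cpl B) hfs
  have hAC : CAlg.IsRegularHom A (EGA4.Cpl B) :=
    Groth.Agent.Helper8.CompFib.isRegularHom_comp A (EGA4.Cpl A) (EGA4.Cpl B) hA hreg
      (fun p _ => Groth.Agent.Helper8.Fib.isNoetherianRing_fiber (S := EGA4.Cpl B) p)
  haveI : Module.FaithfullyFlat B (EGA4.Cpl B) := Module.FaithfullyFlat.of_flat_of_isLocalHom
  exact Groth.Agent.Helper8.CompFib.isRegularHom_descent A B (EGA4.Cpl B) hAC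

/-- **André's theorem** (EGA 0_IV 22.5.8 / IV 7.4.?): if `A` has geometrically regular formal
fibres, a formally smooth local homomorphism `A → B` is regular. -/
theorem isRegularHom_of_isAdicFormallySmooth_of_isRegularHom_cpl
    (hA : CAlg.IsRegularHom A (EGA4.Cpl A))
    (h : IsAdicFormallySmooth A B (maximalIdeal B)) : CAlg.IsRegularHom A B := by
  refine isRegularHom_of_isAdicFormallySmooth_cpl A B hA ?_
  have := Groth.Agent.Helper8.AdicFS.completion (R := A) (maximalIdeal B)
    (maximalIdeal B).fg_of_isNoetherianRing h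
  rwa [← AdicCompletion.maximalIdeal_eq_map] at this

end Groth.Agent.Helper8.Andre
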