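import Mathlib
import Groth.Prelude
import Groth.Agent.Lib.Helper8.Andre7
import Groth.Agent.Lib.Helper8.RegFS3
import Groth.Agent.Lib.Helper8.AdicFS22

/-!
# Regular formal fibres pass along formally étale local homomorphisms
-/

set_option autoImplicit false

universe u

namespace Groth.Agent.Helper8.Andre

open IsLocalRing TensorProduct CAlgX

/-- Cancellation: if `C` is formally smooth over `A` for an adic topology and `B` is a formally
unramified `A`-algebra mapping to `C`, then `C` is formally smooth over `B`. -/
theorem isAdicFormallySmooth_of_formallyUnramified {A B C : Type u} [CommRing A] [CommRing B]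
    [CommRing C] [Algebra A B] [Algebra B C] [Algebra A C] [IsScalarTower A B C]
    [Algebra.FormallyUnramified A B] {𝔫 : Ideal C} (h : IsAdicFormallySmooth A C 𝔫) :
    IsAdicFormallySmooth B C 𝔫 := by
  intro T _ _ J hJ ψ hψ
  letI : Algebra A T := Algebra.compHom T (algebraMap A B)
  haveI : IsScalarTower A B T := IsScalarTower.of_algebraMap_eq (fun _ => rfl)
  obtain ⟨χ, hχ⟩ := h T J hJ (ψ.restrictScalars A) hψ
  have hcomm : χ.comp (IsScalarTower.toAlgHom A B C) = IsScalarTower.toAlgHom A B T := by
    apply Algebra.FormallyUnramified.ext J ⟨2, hJ⟩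
    intro b
    have h1 := AlgHom.congr_fun hχ (algebraMap B C b)
    show Ideal.Quotient.mk J (χ (algebraMap B C b)) = Ideal.Quotient.mk J (algebraMap B T b)
    have h2 : Ideal.Quotient.mk J (χ (algebraMap B C b)) = ψ (algebraMap B C b) := h1
    rw [h2, ψ.commutes]
    rfl
  let χ' : C →ₐ[B] T :=
    { (χ : C →+* T) with commutes' := fun b => AlgHom.congr_fun hcomm b }
  refine ⟨χ', ?_⟩
  ext c
  exact AlgHom.congr_fun hχ c

section main

variable (A B : Type u) [CommRing A] [CommRing B] [IsLocalRing A] [IsLocalRing B]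
  [IsNoetherianRing A] [IsNoetherianRing B] [Algebra A B] [IsLocalHom (algebraMap A B)]

/-- If `A → Â` is regular and `A → B` is a local homomorphism which is formally smooth for the adic
topology and formally unramified, then `B → B̂` is regular. -/
theorem isRegularHom_cpl_of_formallyUnramified [Algebra.FormallyUnramified A B]
    (hA : CAlg.IsRegularHom A (EGA4.Cpl A))
    (h : IsAdicFormallySmooth A B (maximalIdeal B)) :
    CAlg.IsRegularHom B (EGA4.Cpl B) := by
  haveI : IsNoetherianRing (EGA4.Cpl A) := Groth.Agent.Helper8.AdicReg.isNoetherianRing A _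
  haveI : IsNoetherianRing (EGA4.Cpl B) := Groth.Agent.Helper8.AdicReg.isNoetherianRing B _
  -- `A → B̂` is regular
  have hfsA : IsAdicFormallySmooth A (EGA4.Cpl B) (maximalIdeal (EGA4.Cpl B)) := by
    have := Groth.Agent.Helper8.AdicFS.completion (R := A) (maximalIdeal B)
      (maximalIdeal B).fg_of_isNoetherianRing h
    rwa [← AdicCompletion.maximalIdeal_eq_map] at this
  haveI hlocB' : IsLocalHom (algebraMap A (EGA4.Cpl B)) := by
    have : algebraMap A (EGA4.Cpl B) = (algebraMap B (EGA4.Cpl B)).comp (algebraMap A B) :=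
      IsScalarTower.algebraMap_eq A B _
    rw [this]
    infer_instance
  have hAC : CAlg.IsRegularHom A (EGA4.Cpl B) := by
    letI := Groth.Agent.Helper8.CplMap.algebraCpl A B
    haveI := Groth.Agent.Helper8.CplMap.isScalarTower_cpl A B
    haveI := Groth.Agent.Helper8.CplMap.isLocalHom_cpl A B
    have hfs : IsAdicFormallySmooth (EGA4.Cpl A) (EGA4.Cpl B) (maximalIdeal (EGA4.Cpl B)) :=
      isAdicFormallySmooth_cpl_base (maximalIdeal A) _
        (Groth.Agent.Helper8.AdicFS.map_maximalIdeal_le_of_isLocalHom _) hfsA
    have hreg : CAlg.IsRegularHom (EGA4.Cpl A) (EGA4.Cpl B) :=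
      isRegularHom_of_isAdicFormallySmooth (EGA4.Cpl A) (EGA4.Cpl B) hfs
    exact Groth.Agent.Helper8.CompFib.isRegularHom_comp A (EGA4.Cpl A) (EGA4.Cpl B) hA hreg
      (fun p _ => Groth.Agent.Helper8.Fib.isNoetherianRing_fiber (S := EGA4.Cpl B) p)
  -- the local homomorphisms
  refine Groth.Agent.Helper8.RegFS.isRegularHom_of_forall_isAdicFormallySmooth B (EGA4.Cpl B) ?_
  intro Q _
  have h1 := Groth.Agent.Helper8.RegFS.isAdicFormallySmooth_of_isRegularHom A (EGA4.Cpl B) hAC Q
  letI : Algebra (Localization.AtPrime (Ideal.comap (algebraMap A (EGA4.Cpl B)) Q))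
      (Localization.AtPrime Q) :=
    (Localization.localRingHom (Ideal.comap (algebraMap A (EGA4.Cpl B)) Q) Q
      (algebraMap A (EGA4.Cpl B)) rfl).toAlgebra
  haveI : IsScalarTower A (Localization.AtPrime (Ideal.comap (algebraMap A (EGA4.Cpl B)) Q))
      (Localization.AtPrime Q) :=
    IsScalarTower.of_algebraMap_eq (fun a => by
      show algebraMap A (Localization.AtPrime Q) a =
        Localization.localRingHom _ Q (algebraMap A (EGA4.Cpl B)) rfl (algebraMap A _ a)
      rw [Localization.localRingHom_to_map, ← IsScalarTower.algebraMap_apply])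
  have h2 : IsAdicFormallySmooth A (Localization.AtPrime Q)
      (maximalIdeal (Localization.AtPrime Q)) :=
    Groth.Agent.Helper8.AdicFS.of_isLocalization_base
      (Ideal.comap (algebraMap A (EGA4.Cpl B)) Q).primeCompl h1
  have h3 : IsAdicFormallySmooth B (Localization.AtPrime Q)
      (maximalIdeal (Localization.AtPrime Q)) :=
    isAdicFormallySmooth_of_formallyUnramified (A := A) h2
  letI : Algebra (Localization.AtPrime (Ideal.comap (algebraMap B (EGA4.Cpl B)) Q))
      (Localization.AtPrime Q) :=
    (Localization.localRingHom (Ideal.comap (algebraMap B (EGA4.Cpl B)) Q) Q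
      (algebraMap B (EGA4.Cpl B)) rfl).toAlgebra
  haveI : IsScalarTower B (Localization.AtPrime (Ideal.comap (algebraMap B (EGA4.Cpl B)) Q))
      (Localization.AtPrime Q) :=
    IsScalarTower.of_algebraMap_eq (fun a => by
      show algebraMap B (Localization.AtPrime Q) a =
        Localization.localRingHom _ Q (algebraMap B (EGA4.Cpl B)) rfl (algebraMap B _ a)
      rw [Localization.localRingHom_to_map, ← IsScalarTower.algebraMap_apply])
  exact Groth.Agent.Helper8.AdicFS.to_isLocalization_base
    (Ideal.comap (algebraMap B (EGA4.Cpl B)) Q).primeCompl h3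

end main

end Groth.Agent.Helper8.Andre
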