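import Mathlib
import Groth.Prelude
import Groth.Agent.Lib.Helper8.GRing9
import Groth.Agent.Lib.Helper8.AdicFS22
import Groth.Agent.Lib.Helper2.AdicSqZero

/-!
# Formal smoothness of the local rings of a regular homomorphism, for arbitrary compatible
algebra structures; the formal fibres of the local rings of a complete local ring
-/

set_option autoImplicit false

universe u

namespace Groth.Agent.Helper8.GRing

open IsLocalRing TensorProduct CAlgX

section regfs

variable (A B : Type u) [CommRing A] [CommRing B] [Algebra A B] [IsNoetherianRing A]
  [IsNoetherianRing B]

/-- The local rings of the target of a regular homomorphism are formally smooth over the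
source. -/
theorem isAdicFormallySmooth_localization_of_isRegularHom (h : CAlg.IsRegularHom A B)
    (q : Ideal B) [q.IsPrime] :
    IsAdicFormallySmooth A (Localization.AtPrime q) (maximalIdeal (Localization.AtPrime q)) := by
  let p : Ideal A := Ideal.comap (algebraMap A B) q
  letI : Algebra (Localization.AtPrime p) (Localization.AtPrime q) :=
    (Localization.localRingHom p q (algebraMap A B) rfl).toAlgebra
  haveI : IsScalarTower A (Localization.AtPrime p) (Localization.AtPrime q) :=
    IsScalarTower.of_algebraMap_eq (fun a => by
      show algebraMap A (Localization.AtPrime q) a =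
        Localization.localRingHom p q (algebraMap A B) rfl (algebraMap A _ a)
      rw [Localization.localRingHom_to_map, ← IsScalarTower.algebraMap_apply])
  have h1 : IsAdicFormallySmooth (Localization.AtPrime p) (Localization.AtPrime q)
      (maximalIdeal (Localization.AtPrime q)) :=
    Groth.Agent.Helper8.RegFS.isAdicFormallySmooth_of_isRegularHom A B h q
  exact Groth.Agent.Helper8.AdicFS.of_isLocalization_base p.primeCompl h1

/-- The local homomorphisms induced by a regular homomorphism are formally smooth (for any
compatible algebra structure). -/
theorem isAdicFormallySmooth_of_isRegularHom' (h : CAlg.IsRegularHom A B)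
    (q : Ideal B) [q.IsPrime]
    [Algebra (Localization.AtPrime (q.comap (algebraMap A B))) (Localization.AtPrime q)]
    [IsScalarTower A (Localization.AtPrime (q.comap (algebraMap A B))) (Localization.AtPrime q)] :
    IsAdicFormallySmooth (Localization.AtPrime (q.comap (algebraMap A B)))
      (Localization.AtPrime q) (maximalIdeal (Localization.AtPrime q)) :=
  Groth.Agent.Helper8.AdicFS.to_isLocalization_base (q.comap (algebraMap A B)).primeCompl
    (isAdicFormallySmooth_localization_of_isRegularHom A B h q)

end regfs

/-- `IsFormallySmoothAdic` for an arbitrary topology on the base follows from the discrete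
one. -/
theorem isFormallySmoothAdic_of_isAdicFormallySmooth {A B : Type u} [CommRing A] [CommRing B]
    [Algebra A B] (𝔞 : Ideal A) (𝔫 : Ideal B) (h : IsAdicFormallySmooth A B 𝔫) :
    EGA41.IsFormallySmoothAdic A 𝔞 B 𝔫 := by
  intro C _ _ J hJ _ u hu
  exact Groth.Agent.Helper2.AdicFS.isFormallySmoothAdic_bot_of_isAdicFormallySmooth 𝔫 h C J hJ
    ⟨1, by rw [pow_one, Ideal.map_bot]⟩ u hu

/-- The local rings of the completion of a local ring of a G-ring are formally smooth over any
localization of the ring over which they are algebras. -/
theorem isAdicFormallySmooth_localization_cpl_of_isGRing {A : Type u} [CommRing A]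
    (hG : CAlg.IsGRing A) (p : Ideal A) [p.IsPrime]
    (q : Ideal (AdicCompletion (maximalIdeal (Localization.AtPrime p)) (Localization.AtPrime p)))
    [q.IsPrime]
    (K : Type u) [CommRing K] [Algebra A K] (M : Submonoid A) [IsLocalization M K]
    [Algebra K (Localization.AtPrime q)] [IsScalarTower A K (Localization.AtPrime q)] :
    IsAdicFormallySmooth K (Localization.AtPrime q) (maximalIdeal (Localization.AtPrime q)) := by
  haveI : IsNoetherianRing A := hG.1
  have hReg := hG.2 p
  haveI : IsNoetherianRing
      (AdicCompletion (maximalIdeal (Localization.AtPrime p)) (Localization.AtPrime p)) :=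
    Groth.Agent.Helper8.AdicReg.isNoetherianRing (Localization.AtPrime p) _
  have h1 := isAdicFormallySmooth_localization_of_isRegularHom _ _ hReg q
  haveI : IsScalarTower A (Localization.AtPrime p) (Localization.AtPrime q) :=
    IsScalarTower.of_algebraMap_eq (fun a => by
      rw [IsScalarTower.algebraMap_apply A
        (AdicCompletion (maximalIdeal (Localization.AtPrime p)) (Localization.AtPrime p))
        (Localization.AtPrime q),
        IsScalarTower.algebraMap_apply A (Localization.AtPrime p)
        (AdicCompletion (maximalIdeal (Localization.AtPrime p)) (Localization.AtPrime p)),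
        ← IsScalarTower.algebraMap_apply (Localization.AtPrime p)
        (AdicCompletion (maximalIdeal (Localization.AtPrime p)) (Localization.AtPrime p))
        (Localization.AtPrime q)])
  have h2 : IsAdicFormallySmooth A (Localization.AtPrime q)
      (maximalIdeal (Localization.AtPrime q)) :=
    Groth.Agent.Helper8.AdicFS.of_isLocalization_base (A' := Localization.AtPrime p)
      p.primeCompl h1
  exact Groth.Agent.Helper8.AdicFS.to_isLocalization_base M h2

end Groth.Agent.Helper8.GRing
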