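import Mathlib
import Groth.Prelude
import Groth.Agent.Lib.Helper8.GRing10

/-!
# G-rings: descent along regular maps, localization, maximal ideals
-/

set_option autoImplicit false

universe u

namespace Groth.Agent.Helper8.GRing

open IsLocalRing TensorProduct CAlgX

/-- Regularity of the completion map of a local ring of `A` from a regular map `A → B`, a prime `P`
of `B` above `p` and regularity of the completion map of `B_P`. -/
theorem isRegularHom_cpl_localization_of_isRegularHom (A B : Type u) [CommRing A] [CommRing B]
    [Algebra A B] [IsNoetherianRing A] [IsNoetherianRing B] (h : CAlg.IsRegularHom A B)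
    (p : Ideal A) [p.IsPrime] (P : Ideal B) [P.IsPrime] (hP : p = P.comap (algebraMap A B))
    (hB : CAlg.IsRegularHom (Localization.AtPrime P) (EGA4.Cpl (Localization.AtPrime P))) :
    CAlg.IsRegularHom (Localization.AtPrime p) (EGA4.Cpl (Localization.AtPrime p)) := by
  letI : Algebra (Localization.AtPrime p) (Localization.AtPrime P) :=
    (Localization.localRingHom p P (algebraMap A B) hP).toAlgebra
  haveI : IsScalarTower A (Localization.AtPrime p) (Localization.AtPrime P) :=
    IsScalarTower.of_algebraMap_eq (fun a => by
      show algebraMap A (Localization.AtPrime P) a =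
        Localization.localRingHom p P (algebraMap A B) hP (algebraMap A _ a)
      rw [Localization.localRingHom_to_map, ← IsScalarTower.algebraMap_apply])
  haveI : IsLocalHom (algebraMap (Localization.AtPrime p) (Localization.AtPrime P)) :=
    Localization.isLocalHom_localRingHom p P (algebraMap A B) hP
  have hBP : CAlg.IsRegularHom B (Localization.AtPrime P) :=
    isRegularHom_of_isLocalization P.primeCompl
  have hAP : CAlg.IsRegularHom A (Localization.AtPrime P) :=
    Groth.Agent.Helper8.CompFib.isRegularHom_comp A B _ h hBP
      (fun p' _ => Groth.Agent.Helper8.Fib.isNoetherianRing_fiber p')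
  have hpP : CAlg.IsRegularHom (Localization.AtPrime p) (Localization.AtPrime P) :=
    isRegularHom_of_isLocalization_source p.primeCompl hAP
  exact Groth.Agent.Helper8.CompFib.isRegularHom_cpl_of_isRegularHom_to_local
    (Localization.AtPrime p) (Localization.AtPrime P) hpP hB

/-- If `A → B` is regular and surjective on spectra and `B` is a G-ring, so is `A`. -/
theorem isGRing_of_isRegularHom_of_surjective (A B : Type u) [CommRing A] [CommRing B]
    [Algebra A B] [IsNoetherianRing A] (h : CAlg.IsRegularHom A B) (hB : CAlg.IsGRing B)
    (hsurj : ∀ (p : Ideal A) [p.IsPrime], ∃ P : Ideal B, P.IsPrime ∧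
      p = P.comap (algebraMap A B)) : CAlg.IsGRing A := by
  haveI : IsNoetherianRing B := hB.1
  refine ⟨inferInstance, fun p _ => ?_⟩
  obtain ⟨P, hPprime, hP⟩ := hsurj p
  haveI := hPprime
  exact isRegularHom_cpl_localization_of_isRegularHom A B h p P hP (hB.2 P)

/-- A Noetherian local ring with regular completion map is a G-ring. -/
theorem isGRing_of_isRegularHom_cpl (A : Type u) [CommRing A] [IsNoetherianRing A] [IsLocalRing A]
    (h : CAlg.IsRegularHom A (EGA4.Cpl A)) : CAlg.IsGRing A := by
  haveI : IsNoetherianRing (EGA4.Cpl A) := Groth.Agent.Helper8.AdicReg.isNoetherianRing A _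
  have hB : CAlg.IsGRing (EGA4.Cpl A) := isGRing_of_isAdicComplete (EGA4.Cpl A)
  haveI : Module.Flat A (EGA4.Cpl A) := h.1
  haveI : Module.FaithfullyFlat A (EGA4.Cpl A) := Module.FaithfullyFlat.of_flat_of_isLocalHom
  refine isGRing_of_isRegularHom_of_surjective A (EGA4.Cpl A) h hB (fun p _ => ?_)
  obtain ⟨P, hPprime, hP⟩ := Ideal.exists_isPrime_liesOver_of_faithfullyFlat (B := EGA4.Cpl A) p
  exact ⟨P, hPprime, hP.over⟩

/-- A localization of a G-ring is a G-ring. -/
theorem isGRing_of_isLocalization {R S : Type u} [CommRing R] [CommRing S] [Algebra R S]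
    (M : Submonoid R) [IsLocalization M S] (h : CAlg.IsGRing R) : CAlg.IsGRing S := by
  haveI : IsNoetherianRing R := h.1
  haveI : IsNoetherianRing S := IsLocalization.isNoetherianRing M S inferInstance
  refine ⟨inferInstance, fun q _ => ?_⟩
  haveI : IsLocalization.AtPrime (Localization.AtPrime q) (q.comap (algebraMap R S)) :=
    IsLocalization.isLocalization_isLocalization_atPrime_isLocalization M _ q
  let e : Localization.AtPrime (q.comap (algebraMap R S)) ≃ₐ[R] Localization.AtPrime q :=
    IsLocalization.algEquiv (q.comap (algebraMap R S)).primeCompl _ _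
  exact isRegularHom_cpl_of_ringEquiv e.symm.toRingEquiv (h.2 (q.comap (algebraMap R S)))

/-- The local rings of a localization `S` of `R`: regularity of the completion map of `R_p` from
that of `S_q`, `q = pS`. -/
theorem isRegularHom_cpl_of_isLocalization {R S : Type u} [CommRing R] [CommRing S] [Algebra R S]
    [IsNoetherianRing R] (M : Submonoid R) [IsLocalization M S] (q : Ideal S) [q.IsPrime]
    (p : Ideal R) [p.IsPrime] (hp : q.comap (algebraMap R S) = p)
    (h : CAlg.IsRegularHom (Localization.AtPrime q) (EGA4.Cpl (Localization.AtPrime q))) :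
    CAlg.IsRegularHom (Localization.AtPrime p) (EGA4.Cpl (Localization.AtPrime p)) := by
  subst hp
  haveI : IsLocalization.AtPrime (Localization.AtPrime q) (q.comap (algebraMap R S)) :=
    IsLocalization.isLocalization_isLocalization_atPrime_isLocalization M _ q
  let e : Localization.AtPrime (q.comap (algebraMap R S)) ≃ₐ[R] Localization.AtPrime q :=
    IsLocalization.algEquiv (q.comap (algebraMap R S)).primeCompl _ _
  exact isRegularHom_cpl_of_ringEquiv e.toRingEquiv h

/-- **S2047.** A Noetherian ring whose local rings at the maximal ideals have regular completion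
maps is a G-ring. -/
theorem isGRing_of_forall_isMaximal (R : Type u) [CommRing R] [IsNoetherianRing R]
    (H : ∀ (m : Ideal R) [m.IsMaximal],
      CAlg.IsRegularHom (Localization.AtPrime m) (EGA4.Cpl (Localization.AtPrime m))) :
    CAlg.IsGRing R := by
  refine ⟨inferInstance, fun p _ => ?_⟩
  obtain ⟨m, hm, hpm⟩ := Ideal.exists_le_maximal p (Ideal.IsPrime.ne_top inferInstance)
  haveI := hm
  have hG : CAlg.IsGRing (Localization.AtPrime m) := isGRing_of_isRegularHom_cpl _ (H m)
  have hdisj : Disjoint (m.primeCompl : Set R) (p : Set R) := by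
    rw [Set.disjoint_left]
    intro x hx hxp
    exact hx (hpm hxp)
  haveI : (p.map (algebraMap R (Localization.AtPrime m))).IsPrime :=
    IsLocalization.isPrime_of_isPrime_disjoint m.primeCompl _ p inferInstance hdisj
  exact isRegularHom_cpl_of_isLocalization m.primeCompl
    (p.map (algebraMap R (Localization.AtPrime m))) p
    (IsLocalization.under_map_of_isPrime_disjoint m.primeCompl _ inferInstance hdisj)
    (hG.2 _)

end Groth.Agent.Helper8.GRing
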