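import Mathlib
import Groth.Prelude
import Groth.Agent.Lib.Helper8.Andre10
import Groth.Agent.Lib.Helper8.GRing11
import Groth.Agent.Lib.Helper8.CompFib4

/-!
# G-rings and formally étale local homomorphisms (henselizations)
-/

set_option autoImplicit false

universe u

namespace Groth.Agent.Helper8.Andre

open IsLocalRing TensorProduct CAlgX

/-- A local G-ring has regular formal fibres. -/
theorem isRegularHom_cpl_of_isGRing (R : Type u) [CommRing R] [IsLocalRing R]
    (hR : CAlg.IsGRing R) : CAlg.IsRegularHom R (EGA4.Cpl R) := by
  haveI : IsNoetherianRing R := hR.1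
  have h1 := hR.2 (maximalIdeal R)
  have hu : ∀ x ∈ (maximalIdeal R).primeCompl, IsUnit x := by
    intro x hx
    by_contra hnu
    exact hx ((mem_maximalIdeal x).2 hnu)
  let e : R ≃ₐ[R] Localization.AtPrime (maximalIdeal R) :=
    IsLocalization.atUnits R (maximalIdeal R).primeCompl hu
  exact Groth.Agent.Helper8.GRing.isRegularHom_cpl_of_ringEquiv e.toRingEquiv h1

section etale

variable (A B : Type u) [CommRing A] [CommRing B] [IsLocalRing A] [IsLocalRing B]
  [IsNoetherianRing A] [IsNoetherianRing B] [Algebra A B] [IsLocalHom (algebraMap A B)]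
  [Algebra.FormallyEtale A B]

/-- Along a formally étale local homomorphism of Noetherian local rings, regularity of the formal
fibres passes up and down. -/
theorem isRegularHom_cpl_iff_of_formallyEtale :
    CAlg.IsRegularHom B (EGA4.Cpl B) ↔ CAlg.IsRegularHom A (EGA4.Cpl A) := by
  constructor
  · intro hB
    exact Groth.Agent.Helper8.CompFib.isRegularHom_cpl_of_isRegularHom_to_local A B
      (Groth.Agent.Helper8.AdicFS.isRegularHom_of_formallySmooth A B) hB
  · intro hA
    exact isRegularHom_cpl_of_formallyUnramified A B hA
      (Groth.Agent.Helper8.AdicFS.of_formallySmooth _)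

/-- A formally étale local algebra over a local G-ring is a G-ring. -/
theorem isGRing_of_formallyEtale (hA : CAlg.IsGRing A) : CAlg.IsGRing B :=
  Groth.Agent.Helper8.GRing.isGRing_of_isRegularHom_cpl B
    ((isRegularHom_cpl_iff_of_formallyEtale A B).2 (isRegularHom_cpl_of_isGRing A hA))

end etale

end Groth.Agent.Helper8.Andre
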