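import Mathlib
import Groth.Prelude

/-!
# Descent of finiteness of the integral closure along a faithfully flat map
-/

set_option autoImplicit false

universe u

namespace Groth.Agent.Helper8.N1Desc

section abstract

variable {C K B : Type*} [CommRing C] [IsDomain C] [IsNoetherianRing C] [Field K] [Algebra C K]
  [IsFractionRing C K] [CommRing B] [IsNoetherianRing B] [Algebra C B]
  [Module.FaithfullyFlat C B]
  {ι : Type*} [Finite ι] (L : ι → Type*) [∀ i, CommRing (L i)] [∀ i, Algebra B (L i)]
  (j : ∀ i, K →+* L i)
  (hj : ∀ i (c : C), j i (algebraMap C K c) = algebraMap B (L i) (algebraMap C B c))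
  (hker : ∀ b : B, (∀ i, algebraMap B (L i) b = 0) → b = 0)
  (T : ∀ i, Submodule B (L i)) (hT : ∀ i, (T i).FG)
  (hTint : ∀ i (z : K), IsIntegral C z → j i z ∈ T i)

include hj hker hT hTint in
/-- Abstract descent: the integral closure of `C` in its fraction field is a finite module when
the integral elements map into finite `B`-modules inside a jointly faithful family of
`B`-algebras. -/
theorem finite_integralClosure_of_faithfullyFlat : Module.Finite C (integralClosure C K) := by
  classical
  cases nonempty_fintype ι
  -- the map to the product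
  let φ : K → (∀ i, L i) := fun z i => j i z
  let M : Submodule B (∀ i, L i) := Submodule.span B (φ '' (integralClosure C K : Set K))
  have hMle : M ≤ Submodule.pi Set.univ T := by
    rw [Submodule.span_le]
    rintro _ ⟨z, hz, rfl⟩
    intro i _
    exact hTint i z hz
  have hMfg : M.FG := by
    haveI : IsNoetherian B (Submodule.pi Set.univ T) :=
      isNoetherian_of_fg_of_noetherian _ (Submodule.fg_pi hT)
    have h1 : (Submodule.comap (Submodule.pi Set.univ T).subtype M).FG :=
      IsNoetherian.noetherian _
    have h2 := h1.map (Submodule.pi Set.univ T).subtype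
    rwa [Submodule.map_comap_subtype, inf_eq_right.2 hMle] at h2
  obtain ⟨F', hF'sub, hF'⟩ := (Submodule.fg_span_iff_fg_span_finset_subset _).1 hMfg
  -- choose preimages
  have hpre : ∀ w ∈ F', ∃ z : K, IsIntegral C z ∧ φ z = w := by
    intro w hw
    obtain ⟨z, hz, rfl⟩ := hF'sub hw
    exact ⟨z, hz, rfl⟩
  choose! pre hpre1 hpre2 using hpre
  let F : Finset K := insert 1 (F'.image pre)
  let N : Submodule C K := Submodule.span C (F : Set K)
  suffices h : Subalgebra.toSubmodule (integralClosure C K) ≤ N by
    haveI : IsNoetherian C N := isNoetherian_of_fg_of_noetherian _ (Submodule.fg_span F.finite_toSet)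
    have h1 : (Submodule.comap N.subtype (Subalgebra.toSubmodule (integralClosure C K))).FG :=
      IsNoetherian.noetherian _
    have h2 := h1.map N.subtype
    rw [Submodule.map_comap_subtype, inf_eq_right.2 h] at h2
    exact Module.Finite.iff_fg.2 h2
  intro c' hc'
  have hc'int : IsIntegral C c' := hc'
  -- common denominator
  obtain ⟨s, hs⟩ := IsLocalization.exist_integer_multiples_of_finset (nonZeroDivisors C)
    (insert c' F)
  have hs0 : (s : C) ≠ 0 := nonZeroDivisors.coe_ne_zero s
  obtain ⟨a, ha⟩ := hs c' (Finset.mem_insert_self _ _)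
  have hF : ∀ f ∈ F, ∃ af : C, algebraMap C K af = (s : C) • f := fun f hf =>
    hs f (Finset.mem_insert_of_mem hf)
  choose! af haf using hF
  let I : Ideal C := Ideal.span ((fun f => af f) '' (F : Set K))
  -- `φ c'` is a `B`-combination of the `φ f`
  have hmem : φ c' ∈ Submodule.span B ((F' : Set (∀ i, L i))) := by
    rw [← hF']
    exact Submodule.subset_span ⟨c', hc', rfl⟩
  obtain ⟨b, -, hb⟩ := (Submodule.mem_span_finset).1 hmem
  -- the key identity in `B`
  have hkey : algebraMap C B a = ∑ w ∈ F', b w * algebraMap C B (af (pre w)) := by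
    rw [← sub_eq_zero]
    apply hker
    intro i
    have h1 : j i c' = ∑ w ∈ F', b w • j i (pre w) := by
      have h2 := congrFun hb i
      rw [Finset.sum_apply] at h2
      rw [show j i c' = φ c' i from rfl, ← h2]
      refine Finset.sum_congr rfl fun w hw => ?_
      rw [Pi.smul_apply]
      exact congrArg (fun t => b w • t) (congrFun (hpre2 w hw).symm i)
    have hpreF : ∀ w ∈ F', pre w ∈ F := fun w hw =>
      Finset.mem_insert_of_mem (Finset.mem_image_of_mem _ hw)
    have h3 : algebraMap B (L i) (algebraMap C B a) =
        algebraMap B (L i) (algebraMap C B (s : C)) * j i c' := by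
      rw [← hj, ← hj, ← map_mul, ha, Algebra.smul_def]
    have h4 : ∀ w ∈ F', algebraMap B (L i) (algebraMap C B (af (pre w))) =
        algebraMap B (L i) (algebraMap C B (s : C)) * j i (pre w) := by
      intro w hw
      rw [← hj, ← hj, ← map_mul, haf _ (hpreF w hw), Algebra.smul_def]
    rw [map_sub, map_sum, h3, h1, Finset.mul_sum, ← Finset.sum_sub_distrib]
    refine Finset.sum_eq_zero fun w hw => ?_
    rw [map_mul, h4 w hw, Algebra.smul_def]
    ring
  have haI : a ∈ I := by
    rw [← Ideal.comap_map_eq_self_of_faithfullyFlat (B := B) I, Ideal.mem_comap, hkey]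
    refine Ideal.sum_mem _ fun w hw => ?_
    refine Ideal.mul_mem_left _ _ (Ideal.mem_map_of_mem _ ?_)
    exact Ideal.subset_span ⟨pre w,
      Finset.mem_insert_of_mem (Finset.mem_image_of_mem _ hw), rfl⟩
  obtain ⟨c, hc⟩ := (Submodule.mem_span_image_finset_iff_exists_fun' (R := C)).1 haI
  have hfinal : c' = ∑ f ∈ F, c f • f := by
    have h1 : (s : C) • c' = (s : C) • ∑ f ∈ F, c f • f := by
      rw [← ha, ← hc, map_sum, Finset.smul_sum]
      refine Finset.sum_congr rfl fun f hf => ?_
      rw [smul_eq_mul, map_mul, haf f hf, Algebra.smul_def, Algebra.smul_def, Algebra.smul_def]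
      ring
    rw [Algebra.smul_def, Algebra.smul_def] at h1
    refine mul_left_cancel₀ ?_ h1
    exact fun h => hs0 ((IsFractionRing.injective C K) (h.trans (map_zero _).symm))
  rw [hfinal]
  exact Submodule.sum_mem _ fun f hf => Submodule.smul_mem _ _ (Submodule.subset_span hf)

end abstract

end Groth.Agent.Helper8.N1Desc
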