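import Mathlib
import Groth.Prelude
import Groth.Agent.Lib.Helper8.N1Desc1
import Groth.Agent.Lib.Helper4.Nagata1

/-!
# Descent of N-1 along a faithfully flat map to a reduced ring with N-1 components
-/

set_option autoImplicit false

universe u

namespace Groth.Agent.Helper8.N1Desc

/-- **N-1 descent.** Let `C` be a Noetherian domain and `B` a faithfully flat Noetherian reduced
`C`-algebra such that `B ⧸ q` is N-1 for every minimal prime `q` of `B`. Then `C` is N-1. -/
theorem isN1_of_faithfullyFlat (C B : Type u) [CommRing C] [IsDomain C] [IsNoetherianRing C]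
    [CommRing B] [IsNoetherianRing B] [IsReduced B] [Algebra C B] [Module.FaithfullyFlat C B]
    (hB : ∀ (q : Ideal B) [q.IsPrime], q ∈ minimalPrimes B → CAlg.IsN1 (B ⧸ q)) :
    CAlg.IsN1 C := by
  classical
  haveI : Finite {q : Ideal B // q ∈ minimalPrimes B} :=
    (minimalPrimes.finite_of_isNoetherianRing B).to_subtype
  haveI hprime : ∀ q : {q : Ideal B // q ∈ minimalPrimes B}, q.1.IsPrime := fun q => q.2.1.1
  have hnzd : ∀ c : C, c ≠ 0 → algebraMap C B c ∈ nonZeroDivisors B := by
    intro c hc
    rw [mem_nonZeroDivisors_iff_right]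
    intro b hb
    have h1 : c • b = 0 := by rw [Algebra.smul_def, mul_comm]; exact hb
    exact (smul_eq_zero.1 h1).resolve_left hc
  have hinj : ∀ q : {q : Ideal B // q ∈ minimalPrimes B},
      Function.Injective (algebraMap C (FractionRing (B ⧸ q.1))) := by
    intro q
    rw [injective_iff_map_eq_zero]
    intro c hc
    by_contra hc0
    have h1 : algebraMap C B c ∉ q.1 := fun h =>
      Set.disjoint_left.1 (Ideal.disjoint_nonZeroDivisors_of_mem_minimalPrimes q.2) h (hnzd c hc0)
    rw [IsScalarTower.algebraMap_apply C (B ⧸ q.1) (FractionRing (B ⧸ q.1)),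
      IsScalarTower.algebraMap_apply C B (B ⧸ q.1)] at hc
    have h2 := (IsFractionRing.injective (B ⧸ q.1) (FractionRing (B ⧸ q.1)))
      (hc.trans (map_zero _).symm)
    exact h1 (Ideal.Quotient.eq_zero_iff_mem.1 h2)
  refine finite_integralClosure_of_faithfullyFlat (C := C) (K := FractionRing C) (B := B)
    (ι := {q : Ideal B // q ∈ minimalPrimes B})
    (fun q => FractionRing (B ⧸ q.1)) (fun q => IsFractionRing.lift (hinj q)) ?_ ?_
    (fun q => (Subalgebra.toSubmodule
      (integralClosure (B ⧸ q.1) (FractionRing (B ⧸ q.1)))).restrictScalars B) ?_ ?_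
  · intro q c
    rw [IsFractionRing.lift_algebraMap, IsScalarTower.algebraMap_apply C B (FractionRing (B ⧸ q.1))]
  · intro b hb
    refine Groth.Agent.Lib.Helper4.Nagata1.injective_pi_minimalPrimes B b fun q hq => ?_
    have h1 := hb ⟨q, hq⟩
    haveI : q.IsPrime := hq.1.1
    rw [IsScalarTower.algebraMap_apply B (B ⧸ q) (FractionRing (B ⧸ q))] at h1
    have h2 := (IsFractionRing.injective (B ⧸ q) (FractionRing (B ⧸ q)))
      (h1.trans (map_zero _).symm)
    exact Ideal.Quotient.eq_zero_iff_mem.1 h2
  · intro q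
    have h1 : Module.Finite (B ⧸ q.1) (integralClosure (B ⧸ q.1) (FractionRing (B ⧸ q.1))) :=
      hB q.1 q.2
    exact (Module.Finite.iff_fg.1 h1).restrictScalars_of_surjective Ideal.Quotient.mk_surjective
  · intro q z hz
    have h1 : IsIntegral (B ⧸ q.1) ((IsFractionRing.lift (hinj q)) z) := by
      refine IsIntegral.map_of_comp_eq (algebraMap C (B ⧸ q.1)) (IsFractionRing.lift (hinj q)) ?_ hz
      ext c
      simp only [RingHom.comp_apply]
      rw [IsFractionRing.lift_algebraMap, ← IsScalarTower.algebraMap_apply]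
    exact h1

end Groth.Agent.Helper8.N1Desc
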