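import Mathlib
import Groth.Agent.Lib.Helper8.Serre2
import Groth.Agent.Lib.Helper8.ABS19

/-!
# Regular local rings are integrally closed
-/

set_option autoImplicit false
universe u

namespace Groth.Agent.Helper8.Serre

open LocCoh IsLocalRing Depth

theorem hasRk_of_isRegularLocalRing (k : ℕ) (A : Type u) [CommRing A] [IsRegularLocalRing A] :
    HasRk k A := fun p _ _ => ABS.isRegularLocalRing_localization A p

theorem hasSk_of_isRegularLocalRing (k : ℕ) (A : Type u) [CommRing A] [IsRegularLocalRing A] :
    HasSk k A A := by
  rw [hasSk_self_iff]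
  intro q _
  have := ABS.isRegularLocalRing_localization A q
  rw [ABS.depth_eq_dim_of_regular (Localization.AtPrime q),
    IsLocalization.AtPrime.ringKrullDim_eq_height q]
  exact min_le_right _ _

theorem isIntegrallyClosed_of_isRegularLocalRing (A : Type u) [CommRing A]
    [IsRegularLocalRing A] : IsIntegrallyClosed A := by
  have := RLR.isDomain A
  exact isIntegrallyClosed_of_R1_S2 A (hasRk_of_isRegularLocalRing 1 A)
    (hasSk_of_isRegularLocalRing 2 A)

end Groth.Agent.Helper8.Serre
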