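import Mathlib
import Groth.Prelude
import Groth.Agent.Lib.Helper6.Japanese
import Groth.Agent.Lib.Helper2.CompleteFinite

/-!
# Tate's theorem on N-2 rings: the abstract core
-/

set_option autoImplicit false

universe u

namespace Groth.Agent.Helper8.Tate

/-- A vector space in which linearly independent families have bounded size is
finite-dimensional. -/
theorem finiteDimensional_of_card_le {K V : Type*} [Field K] [AddCommGroup V] [Module K V] (d : ℕ)
    (h : ∀ (m : ℕ) (v : Fin m → V), LinearIndependent K v → m ≤ d) : FiniteDimensional K V := by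
  have hrank : Module.rank K V ≤ d := by
    refine rank_le fun s hs => ?_
    exact h s.card _ (hs.comp (s.equivFin.symm) s.equivFin.symm.injective)
  exact Module.rank_lt_aleph0_iff.1 (lt_of_le_of_lt hrank (Cardinal.natCast_lt_aleph0))

section residue

variable {R S R' S' K' L' : Type*} [CommRing R] [IsDomain R] [CommRing S] [IsDomain S]
  [Algebra R S] [CommRing R'] [CommRing S'] [Field K'] [Field L']
  [Algebra R R'] [Algebra S S'] [Algebra R' S'] [Algebra R S'] [IsScalarTower R R' S']
  [IsScalarTower R S S']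
  [Algebra R' K'] [IsFractionRing R' K'] [Algebra S' L'] [IsFractionRing S' L'] [Algebra R' L']
  [IsScalarTower R' S' L'] [Algebra K' L'] [IsScalarTower R' K' L']

omit [IsDomain R] in
/-- The residue degree is bounded by the rank: a family of the fraction field of the residue ring
`S'` of `S` that is linearly independent over the fraction field of the residue ring `R'` of `R`
has at most `d` members, if `d` bounds the sizes of the `R`-linearly independent families of
`S`. -/
theorem card_le_of_linearIndependent_residue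
    (hS : Function.Surjective (algebraMap S S')) (x : R) (hx0 : algebraMap R S x ≠ 0)
    (hker : ∀ r : R, algebraMap R R' r = 0 → x ∣ r) (hsep : ∀ r : R, (∀ n : ℕ, x ^ n ∣ r) → r = 0)
    (d : ℕ) (hd : ∀ (m : ℕ) (z : Fin m → S), LinearIndependent R z → m ≤ d)
    (m : ℕ) (v : Fin m → L') (hv : LinearIndependent K' v) : m ≤ d := by
  classical
  obtain ⟨b, hb⟩ := IsLocalization.exist_integer_multiples_of_finite (nonZeroDivisors S') v
  haveI : Nontrivial S' := (algebraMap S' L').domain_nontrivial
  have hb0 : algebraMap S' L' (b : S') ≠ 0 := by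
    intro h
    have := (IsFractionRing.injective S' L') (h.trans (map_zero _).symm)
    exact nonZeroDivisors.coe_ne_zero b this
  choose w hw using hb
  choose z hz using fun i => hS (w i)
  -- the scaled family is linearly independent
  have hv' : LinearIndependent K' (fun i => algebraMap S' L' (w i)) := by
    have h1 : LinearIndependent K' (fun i => (LinearMap.mulLeft K' (algebraMap S' L' (b : S'))) (v i)) :=
      hv.map' _ (LinearMap.ker_eq_bot.2 (mul_right_injective₀ hb0))
    convert h1 using 2 with i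
    rw [hw i, Algebra.smul_def]
    rfl
  refine hd m z ?_
  rw [Fintype.linearIndependent_iff]
  -- the key step
  have step : ∀ g : Fin m → R, ∑ i, g i • z i = 0 → ∀ i, x ∣ g i := by
    intro g hg i
    apply hker
    have h1 : algebraMap S' L' (algebraMap S S' (∑ i, g i • z i)) = 0 := by rw [hg, map_zero, map_zero]
    rw [map_sum, map_sum] at h1
    have h2 : ∑ i, algebraMap R' K' (algebraMap R R' (g i)) • algebraMap S' L' (w i) = 0 := by
      rw [← h1]
      refine Finset.sum_congr rfl fun i _ => ?_
      rw [Algebra.smul_def (g i) (z i), map_mul, map_mul, hz i,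
        ← IsScalarTower.algebraMap_apply R S S', IsScalarTower.algebraMap_apply R R' S',
        ← IsScalarTower.algebraMap_apply R' S' L', IsScalarTower.algebraMap_apply R' K' L',
        Algebra.smul_def]
    have h3 := (Fintype.linearIndependent_iff.1 hv') _ h2 i
    exact (IsFractionRing.injective R' K') (h3.trans (map_zero _).symm)
  have step2 : ∀ n : ℕ, ∀ g : Fin m → R, ∑ i, g i • z i = 0 → ∀ i, x ^ n ∣ g i := by
    intro n
    induction n with
    | zero => intro g _ i; simp
    | succ n ih =>
      intro g hg i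
      have h1 := step g hg
      choose c hc using h1
      have h2 : ∑ i, c i • z i = 0 := by
        have h3 : algebraMap R S x * ∑ i, c i • z i = 0 := by
          rw [← hg, Finset.mul_sum]
          refine Finset.sum_congr rfl fun i _ => ?_
          rw [hc i, Algebra.smul_def, Algebra.smul_def, map_mul, mul_assoc]
        exact (mul_eq_zero.1 h3).resolve_left hx0
      obtain ⟨e, he⟩ := ih c h2 i
      exact ⟨e, by rw [hc i, he, pow_succ]; ring⟩
  intro g hg i
  exact hsep _ fun n => step2 n g hg i

end residue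

section core

variable {R S : Type u} [CommRing R] [IsDomain R] [IsNoetherianRing R] [CommRing S] [IsDomain S]
  [Algebra R S] [Algebra.IsIntegral R S]

/-- **Tate's theorem, abstract core.** -/
theorem finite_of_tate (hinj : Function.Injective (algebraMap R S))
    (x : R) (hx0 : x ≠ 0) [hxp : (Ideal.span ({x} : Set R)).IsPrime]
    [IsAdicComplete (Ideal.span ({x} : Set R)) R]
    (h2 : CAlg.IsN2 (R ⧸ Ideal.span ({x} : Set R)))
    (q : ℕ) (hq : 0 < q) (N : S → R) (hN : ∀ s, algebraMap R S (N s) = s ^ q)
    (y : S) (hy : y ^ q = algebraMap R S x) (hdiv : ∀ f : S, x ∣ N f → y ∣ f)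
    (d : ℕ) (hd : ∀ (m : ℕ) (z : Fin m → S), LinearIndependent R z → m ≤ d) :
    Module.Finite R S := by
  classical
  have hxprime : Prime x := (Ideal.span_singleton_prime hx0).1 hxp
  have Nmul : ∀ s t : S, N (s * t) = N s * N t := fun s t => by
    apply hinj; rw [map_mul, hN, hN, hN, mul_pow]
  have Nalg : ∀ r : R, N (algebraMap R S r) = r ^ q := fun r => by
    apply hinj; rw [hN, map_pow]
  have Ny : N y = x := by apply hinj; rw [hN, hy]
  have N1 : N 1 = 1 := by apply hinj; rw [hN, one_pow, map_one]
  have hxS : algebraMap R S x ≠ 0 := fun h => hx0 (hinj (h.trans (map_zero _).symm))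
  have hy0 : y ≠ 0 := by
    intro h
    rw [h, zero_pow hq.ne'] at hy
    exact hxS hy.symm
  have dvd_iff : ∀ f : S, y ∣ f ↔ x ∣ N f := fun f => by
    constructor
    · rintro ⟨s, rfl⟩
      rw [Nmul, Ny]
      exact dvd_mul_right _ _
    · exact hdiv f
  have hsep : ∀ r : R, (∀ n : ℕ, x ^ n ∣ r) → r = 0 := by
    intro r hr
    have h1 := Ideal.iInf_pow_eq_bot_of_isDomain (Ideal.span ({x} : Set R)) hxp.ne_top
    have h2 : r ∈ ⨅ i, Ideal.span ({x} : Set R) ^ i := by
      rw [Ideal.mem_iInf]
      intro n
      rw [Ideal.span_singleton_pow, Ideal.mem_span_singleton]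
      exact hr n
    rw [h1] at h2
    exact h2
  have hyprime : Prime y := by
    refine ⟨hy0, ?_, ?_⟩
    · intro hu
      have h1 : y ∣ 1 := hu.dvd
      rw [dvd_iff, N1] at h1
      exact hxprime.not_isUnit (isUnit_of_dvd_one h1)
    · intro a b hab
      rw [dvd_iff, Nmul] at hab
      rcases hxprime.dvd_or_dvd hab with h | h
      · exact Or.inl ((dvd_iff a).2 h)
      · exact Or.inr ((dvd_iff b).2 h)
  haveI hyp : (Ideal.span ({y} : Set S)).IsPrime := (Ideal.span_singleton_prime hy0).2 hyprime
  haveI hlo : (Ideal.span ({y} : Set S)).LiesOver (Ideal.span ({x} : Set R)) := by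
    refine ⟨?_⟩
    ext r
    rw [Ideal.under_def, Ideal.mem_comap, Ideal.mem_span_singleton, Ideal.mem_span_singleton,
      dvd_iff, Nalg]
    exact ⟨fun h => dvd_pow h hq.ne', fun h => hxprime.dvd_of_dvd_pow h⟩
  -- residue rings and their fraction fields
  letI : Algebra (FractionRing (R ⧸ Ideal.span ({x} : Set R)))
      (FractionRing (S ⧸ Ideal.span ({y} : Set S))) :=
    FractionRing.liftAlgebra (R ⧸ Ideal.span ({x} : Set R))
      (FractionRing (S ⧸ Ideal.span ({y} : Set S)))
  haveI : IsScalarTower (R ⧸ Ideal.span ({x} : Set R))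
      (FractionRing (R ⧸ Ideal.span ({x} : Set R)))
      (FractionRing (S ⧸ Ideal.span ({y} : Set S))) :=
    FractionRing.isScalarTower_liftAlgebra (R ⧸ Ideal.span ({x} : Set R))
      (FractionRing (S ⧸ Ideal.span ({y} : Set S)))
  haveI hfd : FiniteDimensional (FractionRing (R ⧸ Ideal.span ({x} : Set R)))
      (FractionRing (S ⧸ Ideal.span ({y} : Set S))) := by
    refine finiteDimensional_of_card_le d fun m v hv => ?_
    refine card_le_of_linearIndependent_residue (R := R) (S := S)
      (R' := R ⧸ Ideal.span ({x} : Set R)) (S' := S ⧸ Ideal.span ({y} : Set S))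
      Ideal.Quotient.mk_surjective x hxS ?_ hsep d hd m v hv
    intro r hr
    rw [← Ideal.mem_span_singleton]
    exact Ideal.Quotient.eq_zero_iff_mem.1 hr
  have hfin1 : Module.Finite (R ⧸ Ideal.span ({x} : Set R))
      (integralClosure (R ⧸ Ideal.span ({x} : Set R))
        (FractionRing (S ⧸ Ideal.span ({y} : Set S)))) :=
    Groth.Agent.Lib.Helper6.Japanese.n2_apply h2 (FractionRing (R ⧸ Ideal.span ({x} : Set R)))
      (FractionRing (S ⧸ Ideal.span ({y} : Set S)))
  -- `S ⧸ (y)` is finite over `R ⧸ (x)`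
  haveI hfin2 : Module.Finite (R ⧸ Ideal.span ({x} : Set R)) (S ⧸ Ideal.span ({y} : Set S)) := by
    haveI := hfin1
    haveI : IsNoetherian (R ⧸ Ideal.span ({x} : Set R))
        (integralClosure (R ⧸ Ideal.span ({x} : Set R))
          (FractionRing (S ⧸ Ideal.span ({y} : Set S)))) :=
      isNoetherian_of_isNoetherianRing_of_finite _ _
    let f : (S ⧸ Ideal.span ({y} : Set S)) →ₐ[R ⧸ Ideal.span ({x} : Set R)]
        integralClosure (R ⧸ Ideal.span ({x} : Set R))
          (FractionRing (S ⧸ Ideal.span ({y} : Set S))) :=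
      AlgHom.codRestrict (IsScalarTower.toAlgHom (R ⧸ Ideal.span ({x} : Set R))
        (S ⧸ Ideal.span ({y} : Set S)) (FractionRing (S ⧸ Ideal.span ({y} : Set S)))) _
        (fun s => (Algebra.IsIntegral.isIntegral s).map _)
    refine Module.Finite.of_injective f.toLinearMap ?_
    intro a b hab
    have h1 : ((f a : integralClosure (R ⧸ Ideal.span ({x} : Set R))
        (FractionRing (S ⧸ Ideal.span ({y} : Set S)))) :
        FractionRing (S ⧸ Ideal.span ({y} : Set S))) = f b := congrArg Subtype.val hab
    exact IsFractionRing.injective (S ⧸ Ideal.span ({y} : Set S))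
      (FractionRing (S ⧸ Ideal.span ({y} : Set S))) h1
  haveI hfin3 : Module.Finite R (S ⧸ Ideal.span ({y} : Set S)) :=
    Module.Finite.trans (R ⧸ Ideal.span ({x} : Set R)) (S ⧸ Ideal.span ({y} : Set S))
  -- approximations modulo powers of `y`
  obtain ⟨r₁, g₁, hg₁⟩ := Module.Finite.exists_fin (R := R) (M := S ⧸ Ideal.span ({y} : Set S))
  choose g₂ hg₂ using fun i => Ideal.Quotient.mk_surjective (g₁ i)
  have hM₁ : ∀ s : S, ∃ t ∈ Submodule.span R (Set.range g₂), ∃ s', s = t + y * s' := by
    intro s
    have h1 : Ideal.Quotient.mk (Ideal.span ({y} : Set S)) s ∈ Submodule.span R (Set.range g₁) := by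
      rw [hg₁]; trivial
    obtain ⟨c, hc⟩ := (Submodule.mem_span_range_iff_exists_fun R).1 h1
    refine ⟨∑ i, c i • g₂ i, Submodule.sum_mem _ (fun i _ =>
      Submodule.smul_mem _ _ (Submodule.subset_span ⟨i, rfl⟩)), ?_⟩
    have h2 : Ideal.Quotient.mk (Ideal.span ({y} : Set S)) (s - ∑ i, c i • g₂ i) = 0 := by
      rw [map_sub, ← hc, map_sum, sub_eq_zero]
      refine Finset.sum_congr rfl fun i _ => ?_
      rw [← hg₂ i]
      rfl
    rw [Ideal.Quotient.eq_zero_iff_mem, Ideal.mem_span_singleton] at h2
    obtain ⟨s', hs'⟩ := h2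
    exact ⟨s', by rw [← hs']; ring⟩
  have hP : ∀ n : ℕ, ∃ M : Submodule R S, M.FG ∧
      ∀ s : S, ∃ t ∈ M, ∃ s', s = t + y ^ n * s' := by
    intro n
    induction n with
    | zero => exact ⟨⊥, Submodule.fg_bot, fun s => ⟨0, Submodule.zero_mem _, s, by simp⟩⟩
    | succ n ih =>
      obtain ⟨M, hMfg, hM⟩ := ih
      refine ⟨M ⊔ (Submodule.span R (Set.range g₂)).map (LinearMap.mulLeft R (y ^ n)),
        hMfg.sup ((Submodule.fg_span (Set.finite_range g₂)).map _), fun s => ?_⟩
      obtain ⟨t, ht, s', hs'⟩ := hM s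
      obtain ⟨t₁, ht₁, s'', hs''⟩ := hM₁ s'
      refine ⟨t + y ^ n * t₁,
        Submodule.add_mem_sup ht (Submodule.mem_map.2 ⟨t₁, ht₁, rfl⟩), s'', ?_⟩
      rw [hs', hs'']
      ring
  obtain ⟨M, hMfg, hM⟩ := hP q
  obtain ⟨r, g, hg⟩ := Submodule.fg_iff_exists_fin_generating_family.1 hMfg
  haveI : IsHausdorff (Ideal.span ({x} : Set R)) S := by
    refine ⟨fun z hz => ?_⟩
    have h1 : ∀ n : ℕ, x ^ n ∣ N z := by
      intro n
      have h2 := SModEq.zero.1 (hz n)
      rw [Ideal.span_singleton_pow, Submodule.ideal_span_singleton_smul,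
        Submodule.mem_smul_pointwise_iff_exists] at h2
      obtain ⟨b, -, hb⟩ := h2
      rw [← hb, Algebra.smul_def, Nmul, Nalg]
      exact Dvd.dvd.mul_right (dvd_pow_self _ hq.ne') _
    have h3 : z ^ q = 0 := by rw [← hN, hsep _ h1, map_zero]
    exact pow_eq_zero_iff hq.ne' |>.1 h3
  have hspan : Submodule.span R (Set.range g) ⊔ (Ideal.span ({x} : Set R)) • ⊤ = ⊤ := by
    rw [eq_top_iff]
    intro s _
    obtain ⟨t, ht, s', hs'⟩ := hM s
    rw [hs', hy]
    refine Submodule.add_mem_sup (hg ▸ ht) ?_
    rw [← Algebra.smul_def]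
    exact Submodule.smul_mem_smul (Ideal.mem_span_singleton_self x) Submodule.mem_top
  have htop := Groth.Agent.Helper2.CompleteFinite.span_eq_top_of_sup_smul_eq_top
    (Ideal.span ({x} : Set R)) S g hspan
  exact ⟨(Submodule.fg_def).2 ⟨Set.range g, Set.finite_range g, htop⟩⟩

end core

end Groth.Agent.Helper8.Tate
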