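import Mathlib
import Groth.Prelude
import Groth.Agent.Lib.Helper8.Tate1
import Groth.Agent.S4562

/-!
# Tate's theorem on N-2 rings
-/

set_option autoImplicit false

universe u

namespace Groth.Agent.Helper8.Tate

open Polynomial

/-- N-2 transfers along ring isomorphisms. -/
theorem isN2_of_ringEquiv {A B : Type u} [CommRing A] [IsDomain A] [CommRing B] [IsDomain B]
    (e : A ≃+* B) (h : CAlg.IsN2 A) : CAlg.IsN2 B := by
  intro L _ _ _ _ hfin
  letI : Algebra A B := e.toRingHom.toAlgebra
  letI : Algebra A L := ((algebraMap B L).comp e.toRingHom).toAlgebra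
  haveI : IsScalarTower A B L := IsScalarTower.of_algebraMap_eq fun _ => rfl
  haveI : IsScalarTower A (FractionRing B) L := IsScalarTower.of_algebraMap_eq fun a => by
    rw [IsScalarTower.algebraMap_apply A B (FractionRing B),
      ← IsScalarTower.algebraMap_apply B (FractionRing B) L,
      ← IsScalarTower.algebraMap_apply A B L]
  haveI : FaithfulSMul A (FractionRing B) := by
    rw [faithfulSMul_iff_algebraMap_injective, IsScalarTower.algebraMap_eq A B (FractionRing B),
      RingHom.coe_comp]
    exact (IsFractionRing.injective B (FractionRing B)).comp e.injective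
  haveI : IsFractionRing A (FractionRing B) := by
    refine IsFractionRing.of_field (R := A) (K := FractionRing B) fun z => ?_
    obtain ⟨b, s, hs, rfl⟩ := IsFractionRing.div_surjective (A := B) z
    refine ⟨e.symm b, e.symm s, ?_⟩
    rw [IsScalarTower.algebraMap_apply A B (FractionRing B),
      IsScalarTower.algebraMap_apply A B (FractionRing B)]
    change _ = algebraMap B _ (e (e.symm b)) / algebraMap B _ (e (e.symm s))
    rw [e.apply_symm_apply, e.apply_symm_apply]
  haveI : FiniteDimensional (FractionRing B) L := hfin
  have h1 : Module.Finite A (integralClosure A L) :=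
    Groth.Agent.Lib.Helper6.Japanese.n2_apply h (FractionRing B) L
  haveI : Algebra.IsIntegral A B :=
    ⟨fun b => ⟨Polynomial.X - Polynomial.C (e.symm b), Polynomial.monic_X_sub_C _, by
      rw [Polynomial.eval₂_sub, Polynomial.eval₂_X, Polynomial.eval₂_C]
      change b - e (e.symm b) = 0
      rw [e.apply_symm_apply, sub_self]⟩⟩
  let f : integralClosure A L →ₗ[A] integralClosure B L :=
    { toFun := fun z => ⟨z.1, z.2.tower_top⟩
      map_add' := fun _ _ => rfl
      map_smul' := fun _ _ => rfl }
  have hf : Function.Surjective f := fun w => ⟨⟨w.1, isIntegral_trans _ w.2⟩, rfl⟩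
  haveI : Module.Finite A (integralClosure B L) := Module.Finite.of_surjective f hf
  exact Module.Finite.of_restrictScalars_finite A B _

section main

variable (R : Type u) [CommRing R] [IsDomain R] [IsNoetherianRing R] [IsIntegrallyClosed R]
  (x : R) [hxp : (Ideal.span ({x} : Set R)).IsPrime] [IsAdicComplete (Ideal.span ({x} : Set R)) R]

/-- The field-theoretic core: a field `L` over `K = Frac R` in which `x` has a `q`-th root and all
`q`-th powers lie in `K`. -/
theorem finite_integralClosure_of_pow_mem (hx0 : x ≠ 0)
    (h2 : CAlg.IsN2 (R ⧸ Ideal.span ({x} : Set R)))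
    (K : Type u) [Field K] [Algebra R K] [IsFractionRing R K]
    (L : Type u) [Field L] [Algebra R L] [Algebra K L] [IsScalarTower R K L]
    [FiniteDimensional K L] (q : ℕ) (hq : 0 < q) (y : L) (hy : y ^ q = algebraMap R L x)
    (hL : ∀ z : L, z ^ q ∈ (algebraMap K L).range) :
    Module.Finite R (integralClosure R L) := by
  have hinjL : Function.Injective (algebraMap R L) := by
    rw [IsScalarTower.algebraMap_eq R K L, RingHom.coe_comp]
    exact (algebraMap K L).injective.comp (IsFractionRing.injective R K)
  have hinj : Function.Injective (algebraMap R (integralClosure R L)) := by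
    intro a b hab
    exact hinjL (congrArg Subtype.val hab)
  have hex : ∀ s : integralClosure R L, ∃ r : R, algebraMap R L r = (s : L) ^ q := by
    intro s
    obtain ⟨k, hk⟩ := hL (s : L)
    have h1 : IsIntegral R (algebraMap K L k) := by
      rw [hk]
      exact s.2.pow q
    rw [isIntegral_algebraMap_iff (algebraMap K L).injective] at h1
    obtain ⟨r, hr⟩ := IsIntegrallyClosed.isIntegral_iff.1 h1
    exact ⟨r, by rw [IsScalarTower.algebraMap_apply R K L, hr, hk]⟩
  choose N hN using hex
  have hy0 : y ≠ 0 := by
    intro h
    rw [h, zero_pow hq.ne'] at hy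
    exact hx0 (hinjL (hy.symm.trans (map_zero _).symm))
  have hyint : IsIntegral R y := IsIntegral.of_pow hq (hy ▸ isIntegral_algebraMap)
  refine finite_of_tate hinj x hx0 h2 q hq N (fun s => Subtype.ext (hN s)) ⟨y, hyint⟩
    (Subtype.ext hy) ?_ (Module.finrank K L) ?_
  · rintro f ⟨r, hr⟩
    have h1 : ((f : L) / y) ^ q = algebraMap R L r := by
      rw [div_pow, ← hN f, hr, hy, map_mul, mul_div_cancel_left₀]
      rw [← hy]
      exact pow_ne_zero _ hy0
    have h2 : IsIntegral R ((f : L) / y) := IsIntegral.of_pow hq (h1 ▸ isIntegral_algebraMap)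
    refine ⟨⟨(f : L) / y, h2⟩, Subtype.ext ?_⟩
    change (f : L) = y * ((f : L) / y)
    rw [mul_div_cancel₀ _ hy0]
  · intro m z hz
    have h1 : LinearIndependent R (fun i => ((z i : integralClosure R L) : L)) :=
      hz.map' (integralClosure R L).val.toLinearMap
        (LinearMap.ker_eq_bot.2 Subtype.val_injective)
    have h2 : LinearIndependent K (fun i => ((z i : integralClosure R L) : L)) :=
      (LinearIndependent.iff_fractionRing R K).1 h1
    simpa using h2.fintype_card_le_finrank

/-- The integral closure in a finite purely inseparable extension of the fraction field is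
finite. -/
theorem finite_integralClosure_of_purelyInseparable (hx0 : x ≠ 0)
    (h2 : CAlg.IsN2 (R ⧸ Ideal.span ({x} : Set R)))
    (K' : Type u) [Field K'] [Algebra R K'] [Algebra (FractionRing R) K']
    [IsScalarTower R (FractionRing R) K'] [FiniteDimensional (FractionRing R) K']
    [IsPurelyInseparable (FractionRing R) K'] :
    Module.Finite R (integralClosure R K') := by
  obtain ⟨p, hp⟩ := ExpChar.exists (FractionRing R)
  haveI := hp
  set e := IsPurelyInseparable.exponent (FractionRing R) K' with he
  have hq : 0 < p ^ e := pow_pos (expChar_pos (FractionRing R) p) e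
  let f : K'[X] := X ^ (p ^ e) - C (algebraMap R K' x)
  have hfdeg : f.degree ≠ 0 := by
    have h1 : f.degree = ((p ^ e : ℕ) : WithBot ℕ) := degree_X_pow_sub_C hq _
    rw [h1]
    exact_mod_cast hq.ne'
  haveI : IsScalarTower R (FractionRing R) f.SplittingField :=
    IsScalarTower.of_algebraMap_eq fun r => by
      rw [IsScalarTower.algebraMap_apply R K' f.SplittingField,
        IsScalarTower.algebraMap_apply R (FractionRing R) K',
        ← IsScalarTower.algebraMap_apply (FractionRing R) K' f.SplittingField]
  haveI : FiniteDimensional (FractionRing R) f.SplittingField :=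
    Module.Finite.trans K' f.SplittingField
  haveI : ExpChar K' p := expChar_of_injective_algebraMap (algebraMap (FractionRing R) K').injective p
  haveI : ExpChar f.SplittingField p :=
    expChar_of_injective_algebraMap (algebraMap K' f.SplittingField).injective p
  obtain ⟨y, hy⟩ := (SplittingField.splits f).exists_eval_eq_zero
    (by rwa [degree_map])
  have hy' : y ^ (p ^ e) = algebraMap R f.SplittingField x := by
    rw [eval_map, eval₂_sub, eval₂_pow, eval₂_X, eval₂_C, sub_eq_zero] at hy
    rw [hy, ← IsScalarTower.algebraMap_apply]
  have hL : ∀ z : f.SplittingField,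
      z ^ (p ^ e) ∈ (algebraMap (FractionRing R) f.SplittingField).range := by
    intro z
    have hz : z ∈ Algebra.adjoin K' (f.rootSet f.SplittingField) := by
      rw [SplittingField.adjoin_rootSet]; trivial
    induction hz using Algebra.adjoin_induction with
    | mem ρ hρ =>
      have h1 : ρ ^ (p ^ e) = algebraMap R f.SplittingField x := by
        have h2 := (mem_rootSet.1 hρ).2
        rw [aeval_def, eval₂_sub, eval₂_pow, eval₂_X, eval₂_C, sub_eq_zero] at h2
        rw [h2, ← IsScalarTower.algebraMap_apply]
      rw [h1, IsScalarTower.algebraMap_apply R (FractionRing R) f.SplittingField]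
      exact ⟨_, rfl⟩
    | algebraMap a =>
      obtain ⟨k, hk⟩ := IsPurelyInseparable.exponent_def' (FractionRing R) p a
      refine ⟨k, ?_⟩
      rw [IsScalarTower.algebraMap_apply (FractionRing R) K' f.SplittingField, hk, map_pow]
    | add a b _ _ ha hb =>
      rw [add_pow_expChar_pow]
      exact Subring.add_mem _ ha hb
    | mul a b _ _ ha hb =>
      rw [mul_pow]
      exact Subring.mul_mem _ ha hb
  have hfin := finite_integralClosure_of_pow_mem R x hx0 h2 (FractionRing R) f.SplittingField
    (p ^ e) hq y hy' hL
  haveI : IsNoetherian R (integralClosure R f.SplittingField) :=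
    isNoetherian_of_isNoetherianRing_of_finite _ _
  let g : integralClosure R K' →ₐ[R] integralClosure R f.SplittingField :=
    AlgHom.codRestrict ((IsScalarTower.toAlgHom R K' f.SplittingField).comp
      (integralClosure R K').val) _
      (fun s => IsIntegral.map (IsScalarTower.toAlgHom R K' f.SplittingField) s.2)
  refine Module.Finite.of_injective g.toLinearMap ?_
  intro a b hab
  have h1 : algebraMap K' f.SplittingField (a : K') = algebraMap K' f.SplittingField (b : K') :=
    congrArg Subtype.val hab
  exact Subtype.ext ((algebraMap K' f.SplittingField).injective h1)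

/-- **Tate's theorem** (S0569). -/
theorem isN2_of_complete_of_quotient_isN2
    (h2 : CAlg.IsN2 (R ⧸ Ideal.span ({x} : Set R))) : CAlg.IsN2 R := by
  by_cases hx0 : x = 0
  · have h3 : Ideal.span ({x} : Set R) = ⊥ := by rw [hx0]; exact Ideal.span_singleton_eq_bot.2 rfl
    exact isN2_of_ringEquiv ((Ideal.quotEquivOfEq h3).trans (RingEquiv.quotientBot R)) h2
  · refine Groth.Agent.S4562.result R fun K' _ _ _ _ hfin hpi => ?_
    haveI := hfin
    haveI := hpi
    exact finite_integralClosure_of_purelyInseparable R x hx0 h2 K'

end main

end Groth.Agent.Helper8.Tate
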