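import Mathlib
import Groth.Prelude
import Groth.Agent.Lib.Helper8.Tate2
import Groth.Agent.Lib.Helper8.GRing9
import Groth.Agent.Lib.Helper8.Serre3
import Groth.Agent.Lib.Helper4.Nagata1
import Groth.Agent.Lib.Helper2.AdicLe

/-!
# Complete Noetherian local rings are Nagata rings
-/

set_option autoImplicit false

universe u

namespace Groth.Agent.Helper8.Nag

open IsLocalRing

/-- A field is N-2. -/
theorem isN2_of_isField (k : Type u) [CommRing k] [IsDomain k] (h : IsField k) : CAlg.IsN2 k := by
  intro L _ _ _ _ hfin
  haveI : FiniteDimensional (FractionRing k) L := hfin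
  haveI : Module.Finite k (FractionRing k) :=
    Module.Finite.of_surjective (Algebra.linearMap k (FractionRing k))
      ((IsFractionRing.surjective_iff_isField (R := k) (K := FractionRing k)).2 h)
  haveI : Module.Finite k L := Module.Finite.trans (FractionRing k) L
  haveI : Algebra.IsIntegral k L := Algebra.IsIntegral.of_finite k L
  rw [integralClosure_eq_top_iff.2 inferInstance]
  exact Module.Finite.equiv (Subalgebra.topEquiv (R := k) (A := L)).symm.toLinearEquiv

/-- N-2 passes to finite extension domains. -/
theorem isN2_of_finite_injective (R D : Type u) [CommRing R] [IsDomain R] [CommRing D] [IsDomain D]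
    [Algebra R D] [Module.Finite R D] (hinj : Function.Injective (algebraMap R D))
    (hR : CAlg.IsN2 R) : CAlg.IsN2 D := by
  intro L _ _ _ _ hfin
  haveI : FiniteDimensional (FractionRing D) L := hfin
  letI : Algebra R L := ((algebraMap D L).comp (algebraMap R D)).toAlgebra
  haveI : IsScalarTower R D L := IsScalarTower.of_algebraMap_eq fun _ => rfl
  have hinjDL : Function.Injective (algebraMap D L) := by
    rw [IsScalarTower.algebraMap_eq D (FractionRing D) L, RingHom.coe_comp]
    exact (algebraMap (FractionRing D) L).injective.comp (IsFractionRing.injective D _)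
  have hinjL : Function.Injective (algebraMap R L) := hinjDL.comp hinj
  haveI : Algebra.EssFiniteType (FractionRing D) L := inferInstance
  haveI : Algebra.EssFiniteType D L := Algebra.EssFiniteType.comp D (FractionRing D) L
  haveI : Algebra.EssFiniteType R L := Algebra.EssFiniteType.comp R D L
  have h1 : Module.Finite R (integralClosure R L) :=
    Groth.Agent.Lib.Helper4.Nagata1.finite_integralClosure_of_isN2_of_essFiniteType R hR L hinjL
  haveI : Algebra.IsIntegral R D := inferInstance
  let f : integralClosure R L →ₗ[R] integralClosure D L :=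
    { toFun := fun z => ⟨z.1, z.2.tower_top⟩
      map_add' := fun _ _ => rfl
      map_smul' := fun _ _ => rfl }
  have hf : Function.Surjective f := fun w => ⟨⟨w.1, isIntegral_trans _ w.2⟩, rfl⟩
  haveI : Module.Finite R (integralClosure D L) := Module.Finite.of_surjective f hf
  exact Module.Finite.of_restrictScalars_finite R D _

/-- Complete regular local rings are N-2 (bounded dimension form). -/
theorem isN2_of_regular_complete_aux (d : ℕ) :
    ∀ (R : Type u) [CommRing R] [IsDomain R] [IsRegularLocalRing R]
      [IsAdicComplete (maximalIdeal R) R], ringKrullDim R ≤ (d : WithBot ℕ∞) → CAlg.IsN2 R := by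
  induction d using Nat.strong_induction_on with
  | _ d IH =>
    intro R _ _ _ _ hd
    haveI : IsNoetherianRing R := inferInstance
    by_cases h0 : ringKrullDim R = 0
    · haveI : Ring.KrullDimLE 0 R := Ring.krullDimLE_iff.2 (le_of_eq h0)
      exact isN2_of_isField R Ring.KrullDimLE.isField_of_isDomain
    · obtain ⟨x, hxm, hx2, -⟩ := Groth.Agent.Helper8.RLR.exists_notMem_sq_notMem_minimalPrimes h0
      obtain ⟨hreg, hdim⟩ := Groth.Agent.Helper8.RLR.quotient_singleton hxm hx2
      haveI := hreg
      haveI hdomQ : IsDomain (R ⧸ Ideal.span ({x} : Set R)) := Groth.Agent.Helper8.RLR.isDomain _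
      haveI hxp : (Ideal.span ({x} : Set R)).IsPrime := (Ideal.Quotient.isDomain_iff_prime _).1 hdomQ
      haveI : IsAdicComplete (maximalIdeal (R ⧸ Ideal.span ({x} : Set R)))
          (R ⧸ Ideal.span ({x} : Set R)) :=
        Groth.Agent.Helper8.CohenFact.isAdicComplete_of_surjective
          (Ideal.Quotient.mk (Ideal.span ({x} : Set R))) Ideal.Quotient.mk_surjective
      have h3 : ringKrullDim (R ⧸ Ideal.span ({x} : Set R)) + 1 ≤ (d : WithBot ℕ∞) := by
        rw [hdim]; exact hd
      obtain ⟨d', hd', hle⟩ := Groth.Agent.Helper8.GRing.exists_lt_of_add_one_le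
        ringKrullDim_nonneg_of_nontrivial h3
      have hQ : CAlg.IsN2 (R ⧸ Ideal.span ({x} : Set R)) := IH d' hd' _ hle
      haveI : IsIntegrallyClosed R :=
        Groth.Agent.Helper8.Serre.isIntegrallyClosed_of_isRegularLocalRing R
      haveI : IsAdicComplete (Ideal.span ({x} : Set R)) R :=
        Groth.Agent.Helper2.AdicLe.isAdicComplete_of_le (Ideal.span ({x} : Set R)) (maximalIdeal R)
          ((Ideal.span_singleton_le_iff_mem _).2 hxm) ⟨{x}, by simp⟩
      exact Groth.Agent.Helper8.Tate.isN2_of_complete_of_quotient_isN2 R x hQ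

/-- Complete regular local rings are N-2. -/
theorem isN2_of_regular_complete (R : Type u) [CommRing R] [IsDomain R] [IsRegularLocalRing R]
    [IsAdicComplete (maximalIdeal R) R] : CAlg.IsN2 R := by
  haveI : IsNoetherianRing R := inferInstance
  obtain ⟨d, hd⟩ : ∃ d : ℕ, ringKrullDim R ≤ (d : WithBot ℕ∞) := by
    have h := ringKrullDim_lt_top (R := R)
    generalize ringKrullDim R = x at h
    induction x using WithBot.recBotCoe with
    | bot => exact ⟨0, bot_le⟩
    | coe y =>
      induction y using ENat.recTopCoe with
      | top => exact absurd h (by simp)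
      | coe m => exact ⟨m, le_rfl⟩
  exact isN2_of_regular_complete_aux d R hd

/-- A complete Noetherian local domain is N-2. -/
theorem isN2_of_complete_domain (D : Type u) [CommRing D] [IsDomain D] [IsLocalRing D]
    [IsNoetherianRing D] [IsAdicComplete (maximalIdeal D) D] : CAlg.IsN2 D := by
  obtain ⟨Λ, instΛ, n, f, hΛ, hinj, hfin, -⟩ :=
    Groth.Agent.Helper8.FinPS.exists_finite_injective_of_domain D
  letI := f.toAlgebra
  haveI : Module.Finite (MvPowerSeries (Fin n) Λ) D := hfin
  have hinj' : Function.Injective (algebraMap (MvPowerSeries (Fin n) Λ) D) := hinj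
  rcases hΛ with hΛ | hΛ
  · letI := Groth.Agent.Helper8.GRing.fieldOfIsField Λ hΛ
    haveI : IsAdicComplete (maximalIdeal Λ) Λ := by
      rw [IsLocalRing.maximalIdeal_eq_bot]
      infer_instance
    haveI : IsDomain (MvPowerSeries (Fin n) Λ) := NoZeroDivisors.to_isDomain _
    haveI : IsAdicComplete (maximalIdeal (MvPowerSeries (Fin n) Λ)) (MvPowerSeries (Fin n) Λ) :=
      Groth.Agent.Helper3.ArtFunLib.isAdicComplete_ps_local
    exact isN2_of_finite_injective (MvPowerSeries (Fin n) Λ) D hinj'
      (isN2_of_regular_complete _)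
  · obtain ⟨hdom, hdvr, hcompl, -⟩ := hΛ
    haveI := hdom
    haveI := hdvr
    haveI := hcompl
    haveI : IsDomain (MvPowerSeries (Fin n) Λ) := NoZeroDivisors.to_isDomain _
    haveI : IsAdicComplete (maximalIdeal (MvPowerSeries (Fin n) Λ)) (MvPowerSeries (Fin n) Λ) :=
      Groth.Agent.Helper3.ArtFunLib.isAdicComplete_ps_local
    exact isN2_of_finite_injective (MvPowerSeries (Fin n) Λ) D hinj'
      (isN2_of_regular_complete _)

/-- **S0568.** A complete Noetherian local ring is a Nagata ring. -/
theorem isNagata_of_isAdicComplete (R : Type u) [CommRing R] [IsLocalRing R]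
    [IsNoetherianRing R] [IsAdicComplete (maximalIdeal R) R] : CAlg.IsNagata R := by
  refine ⟨inferInstance, fun p _ => ?_⟩
  haveI : IsAdicComplete (maximalIdeal (R ⧸ p)) (R ⧸ p) :=
    Groth.Agent.Helper8.CohenFact.isAdicComplete_of_surjective (Ideal.Quotient.mk p)
      Ideal.Quotient.mk_surjective
  exact isN2_of_complete_domain (R ⧸ p)

end Groth.Agent.Helper8.Nag
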