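import Mathlib
import Groth.Prelude
import Groth.Agent.Lib.Helper8.Nag1
import Groth.Agent.Lib.Helper8.N1Desc2
import Groth.Agent.Lib.Helper8.GRing11

/-!
# Analytically unramified local domains are N-1
-/

set_option autoImplicit false

universe u

namespace Groth.Agent.Helper8.Nag

open IsLocalRing

/-- N-2 implies N-1. -/
theorem isN1_of_isN2 (D : Type u) [CommRing D] [IsDomain D] (h : CAlg.IsN2 D) : CAlg.IsN1 D :=
  h (FractionRing D) (inferInstance : FiniteDimensional (FractionRing D) (FractionRing D))

/-- **S2072.** An analytically unramified Noetherian local domain is N-1. -/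
theorem isN1_of_isReduced_adicCompletion (R : Type u) [CommRing R] [IsDomain R] [IsLocalRing R]
    [IsNoetherianRing R] [IsReduced (AdicCompletion (maximalIdeal R) R)] : CAlg.IsN1 R := by
  haveI : IsNoetherianRing (AdicCompletion (maximalIdeal R) R) :=
    Groth.Agent.Helper8.AdicReg.isNoetherianRing R _
  haveI : Module.FaithfullyFlat R (AdicCompletion (maximalIdeal R) R) :=
    Module.FaithfullyFlat.of_flat_of_isLocalHom
  refine Groth.Agent.Helper8.N1Desc.isN1_of_faithfullyFlat R (AdicCompletion (maximalIdeal R) R)
    fun q _ _ => ?_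
  haveI : IsAdicComplete (maximalIdeal (AdicCompletion (maximalIdeal R) R ⧸ q))
      (AdicCompletion (maximalIdeal R) R ⧸ q) :=
    Groth.Agent.Helper8.CohenFact.isAdicComplete_of_surjective (Ideal.Quotient.mk q)
      Ideal.Quotient.mk_surjective
  exact isN1_of_isN2 _ (isN2_of_complete_domain _)

end Groth.Agent.Helper8.Nag
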