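import Mathlib
import Groth.Prelude
import Groth.Agent.Lib.Helper8.GRing5
import Groth.Agent.Lib.Helper8.Andre4

/-!
# Finite transfer of a single formal fibre
-/

set_option autoImplicit false

universe u

namespace Groth.Agent.Helper8.GRing

open IsLocalRing TensorProduct

section toLocal

variable (A A' : Type u) [CommRing A] [CommRing A'] [IsNoetherianRing A] [IsNoetherianRing A']
  [IsLocalRing A] [IsLocalRing A'] [Algebra A A'] [IsLocalHom (algebraMap A A')]
  [Module.Flat A A']

/-- Per-fibre version of the descent of formal fibres along a flat local homomorphism. -/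
theorem isGeometricallyRegular_formalFibre_of_fiber_to_local
    (hA' : CAlg.IsRegularHom A' (EGA4.Cpl A')) (Q : Ideal A) [Q.IsPrime]
    (hQ : CAlg.IsGeometricallyRegular Q.ResidueField (Q.Fiber A')) :
    CAlg.IsGeometricallyRegular Q.ResidueField (Q.Fiber (EGA4.Cpl A)) := by
  haveI : IsNoetherianRing (EGA4.Cpl A) := Groth.Agent.Helper8.AdicReg.isNoetherianRing A _
  haveI : IsNoetherianRing (EGA4.Cpl A') := Groth.Agent.Helper8.AdicReg.isNoetherianRing A' _
  haveI : Module.Flat A' (EGA4.Cpl A') := hA'.1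
  intro K _ _ hfin
  haveI := hfin
  haveI : IsNoetherianRing (Q.Fiber A') := Groth.Agent.Helper8.Fib.isNoetherianRing_fiber Q
  haveI : IsNoetherianRing (Q.Fiber (EGA4.Cpl A')) :=
    Groth.Agent.Helper8.Fib.isNoetherianRing_fiber Q
  have h1 : IsRegularRing (K ⊗[Q.ResidueField] Q.Fiber (EGA4.Cpl A')) :=
    Groth.Agent.Helper8.CompFib.isRegularRing_fibre_comp A A' (EGA4.Cpl A') Q K (hQ K hfin)
      (fun q _ => (hA'.2 q).2)
  letI := Groth.Agent.Helper8.CplMap.algebraCpl A A'
  haveI := Groth.Agent.Helper8.CplMap.isScalarTower_cpl A A'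
  haveI := Groth.Agent.Helper8.CplMap.faithfullyFlat_cpl A A'
  exact Groth.Agent.Helper8.DescFib.isRegularRing_fibre_descent A (EGA4.Cpl A) (EGA4.Cpl A') Q K h1

end toLocal

theorem flat_of_isLocalization_source {A A' B : Type u} [CommRing A] [CommRing A'] [CommRing B]
    [Algebra A A'] [Algebra A' B] [Algebra A B] [IsScalarTower A A' B] (M : Submonoid A)
    [IsLocalization M A'] [Module.Flat A B] : Module.Flat A' B :=
  (Module.flat_iff_of_isLocalization A' M B).2 inferInstance

section tail

/-- Generic tail of the finite-transfer argument: `S` is a complete local factor of `T`, flat over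
`D`, whose maximal ideal lies over `p'`. -/
theorem formalFibre_tail (D : Type u) [CommRing D] [IsNoetherianRing D] (p' : Ideal D) [p'.IsPrime]
    (C T S : Type u) [CommRing C] [CommRing T] [CommRing S]
    [IsLocalRing C] [IsNoetherianRing C] [IsAdicComplete (maximalIdeal C) C]
    [IsNoetherianRing T] [IsLocalRing S]
    [Algebra D T] [Algebra T S] [Algebra D S] [IsScalarTower D T S]
    [Algebra C S] [Module.Finite C S]
    [Module.Flat D T] (hRS : CAlg.IsRegularHom T S)
    (hDSmem : ∀ d : D, algebraMap D S d ∈ (maximalIdeal S : Ideal S) ↔ d ∈ p')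
    (Q' : Ideal (Localization.AtPrime p')) [Q'.IsPrime]
    (h3 : CAlg.IsGeometricallyRegular (Q'.under D).ResidueField ((Q'.under D).Fiber T)) :
    CAlg.IsGeometricallyRegular Q'.ResidueField
      (Q'.Fiber (EGA4.Cpl (Localization.AtPrime p'))) := by
  classical
  haveI : IsNoetherianRing S :=
    isNoetherian_of_tower C (isNoetherian_of_isNoetherianRing_of_finite C S)
  haveI : Module.Flat T S := hRS.1
  let ιDS : D →+* S := algebraMap D S
  have hunit : ∀ d : p'.primeCompl, IsUnit (ιDS (d : D)) := by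
    intro d
    by_contra hnu
    exact d.2 ((hDSmem d).1 ((mem_maximalIdeal _).2 hnu))
  let φ : Localization.AtPrime p' →+* S :=
    IsLocalization.lift (M := p'.primeCompl) (S := Localization.AtPrime p') (P := S) (g := ιDS)
      hunit
  letI algLS : Algebra (Localization.AtPrime p') S :=
    @RingHom.toAlgebra (Localization.AtPrime p') S _ _ φ
  haveI : IsScalarTower D (Localization.AtPrime p') S :=
    IsScalarTower.of_algebraMap_eq (fun a =>
      (IsLocalization.lift_eq (M := p'.primeCompl) (S := Localization.AtPrime p') (P := S)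
        (g := ιDS) hunit a).symm)
  haveI : IsLocalHom (algebraMap (Localization.AtPrime p') S) := by
    have htfae := IsLocalRing.local_hom_TFAE (algebraMap (Localization.AtPrime p') S)
    apply (htfae.out 0 2).mpr
    have hmax : maximalIdeal (Localization.AtPrime p') =
        p'.map (algebraMap D (Localization.AtPrime p')) :=
      Localization.AtPrime.map_eq_maximalIdeal.symm
    rw [hmax, Ideal.map_map, ← IsScalarTower.algebraMap_eq, Ideal.map_le_iff_le_comap]
    intro d hd
    exact (hDSmem d).2 hd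
  haveI hcomp := isAdicComplete_of_finite_local C S
  have hS' : CAlg.IsRegularHom S (EGA4.Cpl S) := isRegularHom_cpl_of_isAdicComplete S
  haveI : Module.Flat D S := Module.Flat.trans D T S
  haveI hflatLS : Module.Flat (Localization.AtPrime p') S :=
    flat_of_isLocalization_source (A := D) p'.primeCompl
  haveI : IsNoetherianRing (Localization.AtPrime p') :=
    IsLocalization.isNoetherianRing p'.primeCompl _ inferInstance
  have h4 : CAlg.IsGeometricallyRegular (Q'.under D).ResidueField ((Q'.under D).Fiber S) := by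
    intro K _ _ hfin
    haveI := hfin
    haveI : IsNoetherianRing ((Q'.under D).Fiber T) :=
      Groth.Agent.Helper8.Fib.isNoetherianRing_fiber _
    haveI : IsNoetherianRing ((Q'.under D).Fiber S) :=
      Groth.Agent.Helper8.Fib.isNoetherianRing_fiber _
    exact Groth.Agent.Helper8.CompFib.isRegularRing_fibre_comp D T S (Q'.under D) K
      (h3 K hfin) (fun q _ => (hRS.2 q).2)
  haveI := isPushout_of_isLocalization (A := D) (A' := Localization.AtPrime p') (B := S)
    p'.primeCompl
  have hst : (algebraMap D (Localization.AtPrime p')).SurjectiveOnStalks :=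
    RingHom.surjectiveOnStalks_of_isLocalization p'.primeCompl _
  have h5 : CAlg.IsGeometricallyRegular Q'.ResidueField (Q'.Fiber S) :=
    (Groth.Agent.Helper8.LocHom.isGeometricallyRegular_fiber_iff D S (Localization.AtPrime p') S
      hst Q').2 h4
  exact isGeometricallyRegular_formalFibre_of_fiber_to_local (Localization.AtPrime p') S hS' Q' h5

end tail

section finite

variable (A₁ D : Type u) [CommRing A₁] [CommRing D] [IsNoetherianRing A₁] [Algebra A₁ D]
  [Module.Finite A₁ D] (p' : Ideal D) [p'.IsPrime]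

attribute [local instance] Algebra.TensorProduct.rightAlgebra in
/-- **Finite transfer of one formal fibre.** -/
theorem isGeometricallyRegular_formalFibre_of_finite
    (Q' : Ideal (Localization.AtPrime p')) [Q'.IsPrime]
    (hfib : CAlg.IsGeometricallyRegular
      ((Q'.under D).comap (algebraMap A₁ D)).ResidueField
      (((Q'.under D).comap (algebraMap A₁ D)).Fiber
        (EGA4.Cpl (Localization.AtPrime (p'.under A₁))))) :
    CAlg.IsGeometricallyRegular Q'.ResidueField (Q'.Fiber (EGA4.Cpl (Localization.AtPrime p'))) := by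
  classical
  set q := p'.under A₁ with hq
  set B₀ := Localization.AtPrime q with hB₀
  set C := EGA4.Cpl B₀ with hC
  haveI : IsNoetherianRing D :=
    isNoetherian_of_tower A₁ (isNoetherian_of_isNoetherianRing_of_finite A₁ D)
  haveI : IsNoetherianRing B₀ := IsLocalization.isNoetherianRing q.primeCompl _ inferInstance
  haveI : IsNoetherianRing C := Groth.Agent.Helper8.AdicReg.isNoetherianRing B₀ _
  haveI : Module.Flat A₁ B₀ := IsLocalization.flat B₀ q.primeCompl
  haveI : Module.Flat A₁ C := Module.Flat.trans A₁ B₀ C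
  haveI : Module.Finite C (D ⊗[A₁] C) :=
    Module.Finite.equiv (Algebra.TensorProduct.commRight A₁ C D).toLinearEquiv
  haveI : IsNoetherianRing (D ⊗[A₁] C) :=
    isNoetherian_of_tower C (isNoetherian_of_isNoetherianRing_of_finite C (D ⊗[A₁] C))
  -- the maximal ideal above `p'`
  let M : Ideal (D ⊗[A₁] C) := RingHom.ker (chi A₁ D p').toRingHom
  haveI hMprime : M.IsPrime := RingHom.ker_isPrime _
  have hMD : ∀ d : D, (d ⊗ₜ[A₁] (1 : C)) ∈ M ↔ d ∈ p' := by
    intro d
    show chi A₁ D p' (d ⊗ₜ 1) = 0 ↔ _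
    rw [chi_tmul, map_one, mul_one, Ideal.algebraMap_residueField_eq_zero]
  have hMC : ∀ c : C, c ∈ maximalIdeal C → ((1 : D) ⊗ₜ[A₁] c) ∈ M := by
    intro c hc
    show chi A₁ D p' (1 ⊗ₜ c) = 0
    rw [chi_tmul, toResidue_mem A₁ D p' c hc, mul_zero]
  have hMmax : M.IsMaximal := by
    apply Ideal.isMaximal_of_isIntegral_of_isMaximal_comap (R := C) M
    have h1 : maximalIdeal C ≤ M.comap (algebraMap C (D ⊗[A₁] C)) := fun c hc => hMC c hc
    have h2 : M.comap (algebraMap C (D ⊗[A₁] C)) ≤ maximalIdeal C :=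
      IsLocalRing.le_maximalIdeal (Ideal.IsPrime.ne_top (Ideal.comap_isPrime _ M))
    rw [le_antisymm h2 h1]
    exact maximalIdeal.isMaximal C
  -- the idempotent decomposition
  haveI : HenselianLocalRing C := henselianLocalRing_of_isAdicComplete C
  haveI := Groth.Agent.Helper7.Hensel.finite_maximalSpectrum C (D ⊗[A₁] C)
  haveI : Fintype (MaximalSpectrum (D ⊗[A₁] C)) := Fintype.ofFinite _
  obtain ⟨e, he, h1e, h2e, hloc⟩ :=
    Groth.Agent.Helper7.Hensel.exists_idempotents_local C (D ⊗[A₁] C)
  let Mx : MaximalSpectrum (D ⊗[A₁] C) := ⟨M, hMmax⟩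
  let I : Ideal (D ⊗[A₁] C) := Ideal.span {1 - e Mx}
  haveI : IsLocalRing ((D ⊗[A₁] C) ⧸ I) := hloc Mx
  -- `D ⊗ C → S` is a localization
  haveI : IsLocalization.Away (e Mx) ((D ⊗[A₁] C) ⧸ I) :=
    IsLocalization.Away.quotient_of_isIdempotentElem (he.idem Mx)
  have hRS : CAlg.IsRegularHom (D ⊗[A₁] C) ((D ⊗[A₁] C) ⧸ I) :=
    isRegularHom_of_isLocalization (Submonoid.powers (e Mx))
  -- the maximal ideal of `S` pulls back to `M`
  have hcomap : (maximalIdeal ((D ⊗[A₁] C) ⧸ I)).comap (Ideal.Quotient.mk I) = M := by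
    haveI hNmax : ((maximalIdeal ((D ⊗[A₁] C) ⧸ I)).comap (Ideal.Quotient.mk I)).IsMaximal :=
      Ideal.comap_isMaximal_of_surjective _ Ideal.Quotient.mk_surjective
    by_contra hne
    let Nx : MaximalSpectrum (D ⊗[A₁] C) := ⟨_, hNmax⟩
    have hNe : Nx ≠ Mx := fun h => hne (congrArg MaximalSpectrum.asIdeal h)
    have h3 : e Mx ∈ Nx.asIdeal := h2e Mx Nx hNe
    have h4 : (1 - e Mx) ∈ Nx.asIdeal := by
      show Ideal.Quotient.mk I (1 - e Mx) ∈ maximalIdeal ((D ⊗[A₁] C) ⧸ I)
      have h0 : Ideal.Quotient.mk I (1 - e Mx) = 0 :=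
        Ideal.Quotient.eq_zero_iff_mem.2 (Ideal.subset_span (Set.mem_singleton _))
      rw [h0]
      exact zero_mem _
    have h5 : (1 : D ⊗[A₁] C) ∈ Nx.asIdeal := by
      have := Nx.asIdeal.add_mem h3 h4
      simpa using this
    exact hNmax.ne_top ((Ideal.eq_top_iff_one _).2 h5)
  let ιDS : D →+* ((D ⊗[A₁] C) ⧸ I) := algebraMap D ((D ⊗[A₁] C) ⧸ I)
  have hDSmem : ∀ d : D, ιDS d ∈
      (maximalIdeal ((D ⊗[A₁] C) ⧸ I) : Ideal ((D ⊗[A₁] C) ⧸ I)) ↔ d ∈ p' := by
    intro d
    rw [← hMD d, ← hcomap]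
    rfl
  haveI : Module.Finite C ((D ⊗[A₁] C) ⧸ I) := Module.Finite.quotient C _
  haveI : Module.Flat D (D ⊗[A₁] C) := inferInstance
  haveI : Algebra.FiniteType A₁ D := inferInstance
  have h3 : CAlg.IsGeometricallyRegular (Q'.under D).ResidueField
      ((Q'.under D).Fiber (D ⊗[A₁] C)) :=
    Groth.Agent.Helper8.Andre.isGeometricallyRegular_fiber_baseChange A₁ C D (Q'.under D) hfib
  exact formalFibre_tail D p' C (D ⊗[A₁] C) ((D ⊗[A₁] C) ⧸ I) hRS hDSmem Q' h3

end finite

end Groth.Agent.Helper8.GRing
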