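import Mathlib
import Groth.Prelude
import Groth.Agent.Lib.Helper8.Serre2
import Groth.Agent.Lib.Helper8.CplQuot1
import Groth.Agent.Lib.Helper8.GRing5b

/-!
# Reducedness of a flat algebra via a nonzerodivisor with discrete valuation minimal primes
-/

set_option autoImplicit false
universe u

namespace Groth.Agent.Helper8.Nag

open IsLocalRing

section L1

variable {A B : Type u} [CommRing A] [CommRing B] [Algebra A B] [Module.Flat A B]

/-- If multiplication by `a` is injective on `A/tA`, then it is injective on `B/tB` for flat `B`. -/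
theorem dvd_of_flat (a t : A) (h : ∀ x : A, t ∣ a * x → t ∣ x) (z : B)
    (hz : algebraMap A B t ∣ algebraMap A B a * z) : algebraMap A B t ∣ z := by
  obtain ⟨w, hw⟩ := hz
  obtain ⟨k, α, y, hxy, hα⟩ := Module.Flat.isTrivialRelation_of_sum_smul_eq_zero (R := A) (M := B)
    (f := ![a, -t]) (x := ![z, w]) (by simp [Fin.sum_univ_two, Algebra.smul_def, hw])
  have h0 := hxy 0
  have hdiv : ∀ j, t ∣ α 0 j := by
    intro j
    apply h
    have h1 := hα j
    simp [Fin.sum_univ_two] at h1
    exact ⟨α 1 j, by linear_combination h1⟩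
  simp only [Matrix.cons_val_zero] at h0
  rw [h0]
  apply Finset.dvd_sum
  intro j _
  obtain ⟨c, hc⟩ := hdiv j
  rw [hc, Algebra.smul_def, map_mul, mul_assoc]
  exact Dvd.intro _ rfl

end L1

section L2

/-- Over a domain, a flat algebra in which `π` generates a radical ideal has its nilradical
contained in every power of `π`. -/
theorem isNilpotent_mem_span_pow {R M : Type u} [CommRing R] [IsDomain R] [CommRing M] [Algebra R M]
    [Module.Flat R M] (π : R) (hrad : (Ideal.span {algebraMap R M π}).IsRadical) (k : ℕ) (x : M)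
    (hx : IsNilpotent x) : x ∈ Ideal.span {(algebraMap R M π) ^ k} := by
  induction k with
  | zero => simp
  | succ k ih =>
    by_cases hπ : π = 0
    · have h0 : x ∈ Ideal.span {algebraMap R M π} := by
        apply hrad
        obtain ⟨r, hr⟩ := hx
        exact ⟨r, by rw [hr]; exact Ideal.zero_mem _⟩
      rw [hπ, map_zero] at h0 ⊢
      rw [zero_pow (Nat.succ_ne_zero k)]
      exact h0
    · obtain ⟨w, hw⟩ := Ideal.mem_span_singleton'.mp ih
      have hreg : IsSMulRegular M (π ^ k) :=
        Module.Flat.isSMulRegular_of_nonZeroDivisors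
          (mem_nonZeroDivisors_of_ne_zero (pow_ne_zero k hπ))
      have hw_nil : IsNilpotent w := by
        obtain ⟨r, hr⟩ := hx
        refine ⟨r, ?_⟩
        have hreg' : IsSMulRegular M ((π ^ k) ^ r) := hreg.pow r
        apply hreg'
        show (π ^ k) ^ r • w ^ r = (π ^ k) ^ r • (0 : M)
        rw [smul_zero, Algebra.smul_def, map_pow, map_pow, ← mul_pow, mul_comm, hw, hr]
      have hw_mem : w ∈ Ideal.span {algebraMap R M π} := by
        apply hrad
        obtain ⟨r, hr⟩ := hw_nil
        exact ⟨r, by rw [hr]; exact Ideal.zero_mem _⟩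
      obtain ⟨v, hv⟩ := Ideal.mem_span_singleton'.mp hw_mem
      rw [Ideal.mem_span_singleton']
      exact ⟨v, by rw [← hw, ← hv]; ring⟩

variable {A B : Type u} [CommRing A] [CommRing B] [Algebra A B] [Module.Flat A B]

theorem exists_smul_mem_of_isNilpotent (p : Ideal A) [p.IsPrime]
    [IsDomain (Localization.AtPrime p)] [IsDiscreteValuationRing (Localization.AtPrime p)]
    (t : A) (ht : algebraMap A (Localization.AtPrime p) t ≠ 0)
    (hrad : (p.map (algebraMap A B)).IsRadical) (y : B) (hy : IsNilpotent y) :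
    ∃ s ∈ p.primeCompl, algebraMap A B s * y ∈ Ideal.span {algebraMap A B t} := by
  let S' := Algebra.algebraMapSubmonoid B p.primeCompl
  let M := Localization S'
  let Ap := Localization.AtPrime p
  haveI : Module.Flat Ap M := Groth.Agent.Helper8.GRing.flat_of_isLocalization_source p.primeCompl
  obtain ⟨π, hπ⟩ := IsDiscreteValuationRing.exists_irreducible Ap
  have hmax : maximalIdeal Ap = Ideal.span {π} := hπ.maximalIdeal_eq
  have hJM : (p.map (algebraMap A B)).map (algebraMap B M) =
      Ideal.span {algebraMap Ap M π} := by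
    rw [Ideal.map_map, ← IsScalarTower.algebraMap_eq, IsScalarTower.algebraMap_eq A Ap M,
      ← Ideal.map_map, Localization.AtPrime.map_eq_maximalIdeal, hmax, Ideal.map_span,
      Set.image_singleton]
  have hradM : (Ideal.span {algebraMap Ap M π}).IsRadical := by
    rw [← hJM]
    rw [← Ideal.radical_eq_iff, ← IsLocalization.map_radical S', hrad.radical]
  obtain ⟨n, u, hu⟩ := IsDiscreteValuationRing.eq_unit_mul_pow_irreducible ht hπ
  have hyM : IsNilpotent (algebraMap B M y) := hy.map _
  have h1 := isNilpotent_mem_span_pow π hradM n _ hyM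
  have h2 : algebraMap B M y ∈ (Ideal.span {algebraMap A B t}).map (algebraMap B M) := by
    rw [Ideal.map_span, Set.image_singleton, ← IsScalarTower.algebraMap_apply,
      IsScalarTower.algebraMap_apply A Ap M, hu, map_mul, map_pow]
    obtain ⟨w, hw⟩ := Ideal.mem_span_singleton'.mp h1
    rw [Ideal.mem_span_singleton']
    refine ⟨w * algebraMap Ap M ((u⁻¹ : Apˣ) : Ap), ?_⟩
    rw [← hw]
    have : algebraMap Ap M ((u⁻¹ : Apˣ) : Ap) * algebraMap Ap M (u : Ap) = 1 := by
      rw [← map_mul, Units.inv_mul, map_one]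
    linear_combination (w * algebraMap Ap M π ^ n) * this
  rw [IsLocalization.mem_map_algebraMap_iff S'] at h2
  obtain ⟨⟨⟨a, ha⟩, ⟨s, hs⟩⟩, h3⟩ := h2
  rw [← map_mul] at h3
  obtain ⟨⟨c, hc⟩, h4⟩ := (IsLocalization.eq_iff_exists S' M).mp h3
  obtain ⟨s1, hs1, rfl⟩ := hs
  obtain ⟨c1, hc1, rfl⟩ := hc
  refine ⟨c1 * s1, p.primeCompl.mul_mem hc1 hs1, ?_⟩
  have h5 : algebraMap A B (c1 * s1) * y = algebraMap A B c1 * a := by
    rw [map_mul]
    simp only at h4
    linear_combination h4
  rw [h5]
  exact Ideal.mul_mem_left _ _ ha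

end L2

section main

variable {A B : Type u} [CommRing A] [IsNoetherianRing A] [CommRing B] [IsNoetherianRing B]
  [Algebra A B] [Module.Flat A B]

theorem comap_mem_minimalPrimes (t : A)
    (hemb : associatedPrimes A (A ⧸ Ideal.span {t}) ⊆ (Ideal.span {t}).minimalPrimes)
    (Q : Ideal B) (hQ : Q ∈ associatedPrimes B (B ⧸ Ideal.span {algebraMap A B t})) :
    Q.comap (algebraMap A B) ∈ (Ideal.span {t}).minimalPrimes := by
  obtain ⟨hQp, zb, hzb⟩ := (isAssociatedPrime_iff).mp hQ
  obtain ⟨z, rfl⟩ := Ideal.Quotient.mk_surjective zb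
  have hz0 : Ideal.Quotient.mk (Ideal.span {algebraMap A B t}) z ≠ 0 := by
    intro h0
    apply hQp.ne_top
    rw [hzb, h0]
    simp
  have hQmem : ∀ b : B, b ∈ Q ↔ algebraMap A B t ∣ b * z := by
    intro b
    rw [hzb, Submodule.mem_colon_singleton, Submodule.mem_bot]
    rw [← Ideal.mem_span_singleton, ← Ideal.Quotient.eq_zero_iff_mem, map_mul]
    rfl
  have hz1 : ¬ algebraMap A B t ∣ z := by
    rwa [Ne, Ideal.Quotient.eq_zero_iff_mem, Ideal.mem_span_singleton] at hz0
  have htQ : t ∈ Q.comap (algebraMap A B) := by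
    rw [Ideal.mem_comap, hQmem]
    exact Dvd.intro _ rfl
  -- every element of the contraction is a zero divisor on `A/tA`
  have hsub : ((Q.comap (algebraMap A B) : Ideal A) : Set A) ⊆
      ⋃ P ∈ associatedPrimes A (A ⧸ Ideal.span {t}), (P : Set A) := by
    intro a ha
    rw [biUnion_associatedPrimes_eq_zero_divisors]
    have ha' : algebraMap A B t ∣ algebraMap A B a * z := (hQmem _).mp ha
    by_contra hcon
    apply hz1
    refine dvd_of_flat a t ?_ z ha'
    intro x hx
    by_contra hx'
    apply hcon
    refine ⟨Ideal.Quotient.mk _ x, ?_, ?_⟩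
    · rwa [Ne, Ideal.Quotient.eq_zero_iff_mem, Ideal.mem_span_singleton]
    · rw [Algebra.smul_def, Ideal.Quotient.algebraMap_eq, ← map_mul,
        Ideal.Quotient.eq_zero_iff_mem, Ideal.mem_span_singleton]
      exact hx
  have hfin : (associatedPrimes A (A ⧸ Ideal.span {t})).Finite := associatedPrimes.finite A _
  have hsub' : ((Q.comap (algebraMap A B) : Ideal A) : Set A) ⊆
      ⋃ P ∈ (↑hfin.toFinset : Set (Ideal A)), ((fun P : Ideal A => P) P : Set A) := by
    simpa using hsub
  obtain ⟨P, hP, hle⟩ := (Ideal.subset_union_prime (s := hfin.toFinset) (f := fun P => P)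
    (Q.comap (algebraMap A B)) (Q.comap (algebraMap A B)) (fun P hP _ _ => by
      rw [Set.Finite.mem_toFinset] at hP
      exact hP.isPrime)).mp hsub'
  rw [Set.Finite.mem_toFinset] at hP
  have hPmin := hemb hP
  have heq : Q.comap (algebraMap A B) = P := by
    apply le_antisymm hle
    apply hPmin.2 ⟨inferInstance, ?_⟩ hle
    rw [Ideal.span_le, Set.singleton_subset_iff]
    exact htQ
  rw [heq]
  exact hPmin

theorem isReduced_of_flat_of_dvr (t : A) (hreg : t ∈ nonZeroDivisors A)
    (hjac : algebraMap A B t ∈ (⊥ : Ideal B).jacobson)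
    (hemb : associatedPrimes A (A ⧸ Ideal.span {t}) ⊆ (Ideal.span {t}).minimalPrimes)
    (hdvr : ∀ (q : Ideal A) [q.IsPrime], q ∈ (Ideal.span {t}).minimalPrimes →
      ∃ (_ : IsDomain (Localization.AtPrime q)), IsDiscreteValuationRing (Localization.AtPrime q))
    (hrad : ∀ (q : Ideal A) [q.IsPrime], q ∈ (Ideal.span {t}).minimalPrimes →
      (q.map (algebraMap A B)).IsRadical) :
    IsReduced B := by
  set t' := algebraMap A B t with ht'
  have hreg' : IsSMulRegular B t := Module.Flat.isSMulRegular_of_nonZeroDivisors hreg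
  have hcancel : ∀ b : B, t' * b = 0 → b = 0 := by
    intro b hb
    apply hreg'
    show t • b = t • (0 : B)
    rw [smul_zero, Algebra.smul_def]
    exact hb
  -- Step 1: nilpotents are divisible by `t'`
  have step1 : ∀ y : B, IsNilpotent y → y ∈ Ideal.span {t'} := by
    intro y hy
    apply Groth.Agent.Helper8.Serre.mem_span_singleton_of_forall_associatedPrimes y t'
    intro Q hQ
    have hpmin := comap_mem_minimalPrimes t hemb Q hQ
    haveI : Q.IsPrime := hQ.isPrime
    haveI : (Q.comap (algebraMap A B)).IsPrime := Ideal.comap_isPrime _ _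
    obtain ⟨hdom, hd⟩ := hdvr _ hpmin
    have ht0 : algebraMap A (Localization.AtPrime (Q.comap (algebraMap A B))) t ≠ 0 := by
      intro h0
      rw [IsLocalization.map_eq_zero_iff (Q.comap (algebraMap A B)).primeCompl] at h0
      obtain ⟨m, hm⟩ := h0
      have : (m : A) = 0 := by
        apply hreg.2
        exact hm
      exact m.2 (by rw [this]; exact Ideal.zero_mem _)
    obtain ⟨s, hs, hsy⟩ := exists_smul_mem_of_isNilpotent (B := B) (Q.comap (algebraMap A B)) t ht0
      (hrad _ hpmin) y hy
    exact ⟨algebraMap A B s, fun h => hs h, hsy⟩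
  -- Step 2: Nakayama
  have step2 : nilradical B ≤ Ideal.span {t'} • (nilradical B : Submodule B B) := by
    intro y hy
    have hy' : IsNilpotent y := hy
    obtain ⟨w, hw⟩ := Ideal.mem_span_singleton'.mp (step1 y hy')
    have hw_nil : IsNilpotent w := by
      obtain ⟨r, hr⟩ := hy'
      refine ⟨r, ?_⟩
      have : ∀ r : ℕ, ∀ b : B, t' ^ r * b = 0 → b = 0 := by
        intro r
        induction r with
        | zero => intro b hb; simpa using hb
        | succ r ih =>
          intro b hb
          apply ih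
          apply hcancel
          rw [← mul_assoc, ← pow_succ']
          exact hb
      apply this r
      rw [← mul_pow, mul_comm, hw, hr]
    rw [← hw, mul_comm, ← smul_eq_mul]
    exact Submodule.smul_mem_smul (Ideal.mem_span_singleton_self _) hw_nil
  have h3 : nilradical B = ⊥ :=
    Submodule.eq_bot_of_le_smul_of_le_jacobson_bot (Ideal.span {t'}) (nilradical B)
      (IsNoetherian.noetherian _) step2
      (by rw [Ideal.span_le, Set.singleton_subset_iff]; exact hjac)
  exact nilradical_eq_bot_iff.mp h3

end main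

end Groth.Agent.Helper8.Nag
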