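import Mathlib
import Groth.Prelude
import Groth.Agent.Lib.Helper8.Nag7
import Groth.Agent.Lib.Helper8.Nag2
import Groth.Agent.Lib.Helper8.Serre4
import Groth.Agent.Lib.Helper8.Depth31

/-!
# Nagata local domains are analytically unramified
-/

set_option autoImplicit false
universe u

namespace Groth.Agent.Helper8.Nag

open IsLocalRing TensorProduct

section normal

variable (S : Type u) [CommRing S] [IsDomain S] [IsNoetherianRing S] [IsIntegrallyClosed S]

theorem normal_localization (p : Ideal S) [p.IsPrime] :
    IsDomain (Localization.AtPrime p) ∧ IsIntegrallyClosed (Localization.AtPrime p) :=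
  ⟨inferInstance, isIntegrallyClosed_of_isLocalization _ p.primeCompl
    p.primeCompl_le_nonZeroDivisors⟩

theorem assoc_subset_minimalPrimes_of_normal (a : S) (ha : a ≠ 0) :
    associatedPrimes S (S ⧸ Ideal.span {a}) ⊆ (Ideal.span {a}).minimalPrimes := by
  intro P hP
  have hS2 := Groth.Agent.Helper8.Serre.hasSk_two_of_normal S (fun p _ => normal_localization S p)
  have hht : P.height = 1 :=
    (Groth.Agent.Helper8.Depth.hasSk_two_iff_associatedPrimes_height_one S).mp hS2 a ha P hP
  haveI : P.IsPrime := hP.isPrime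
  have haP : Ideal.span {a} ≤ P := by
    have h1 : (⊤ : Submodule S (S ⧸ Ideal.span {a})).annihilator ≤ P :=
      IsAssociatedPrime.annihilator_le hP
    refine le_trans ?_ h1
    intro b hb
    rw [Submodule.mem_annihilator]
    intro z _
    obtain ⟨z, rfl⟩ := Ideal.Quotient.mk_surjective z
    rw [Algebra.smul_def, Ideal.Quotient.algebraMap_eq, ← map_mul, Ideal.Quotient.eq_zero_iff_mem]
    exact Ideal.mul_mem_right _ _ hb
  refine Ideal.mem_minimalPrimes_of_height_le haP ?_
  rw [hht]
  exact Ideal.one_le_height_span_singleton_of_mem_nonZeroDivisors (mem_nonZeroDivisors_of_ne_zero ha)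

theorem dvr_of_normal_of_minimalPrimes (a : S) (ha : a ≠ 0) (q : Ideal S) [q.IsPrime]
    (hq : q ∈ (Ideal.span {a}).minimalPrimes) :
    ∃ (_ : IsDomain (Localization.AtPrime q)), IsDiscreteValuationRing (Localization.AtPrime q) := by
  obtain ⟨hdom, hic⟩ := normal_localization S q
  refine ⟨hdom, ?_⟩
  have hht : q.height ≤ 1 :=
    Ideal.height_le_one_of_isPrincipal_of_mem_minimalPrimes (Ideal.span {a}) q hq
  have hdim : ringKrullDim (Localization.AtPrime q) ≤ 1 := by
    rw [IsLocalization.AtPrime.ringKrullDim_eq_height q (Localization.AtPrime q)]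
    exact_mod_cast hht
  have hK : Ring.KrullDimLE 1 (Localization.AtPrime q) := Ring.krullDimLE_iff.mpr hdim
  have h3 : IsIntegrallyClosed (Localization.AtPrime q) ∧
      ∀ P : Ideal (Localization.AtPrime q), P ≠ ⊥ → P.IsPrime →
        P = maximalIdeal (Localization.AtPrime q) :=
    ⟨hic, fun P hP hPp =>
      eq_maximalIdeal (Ring.krullDimLE_one_iff_of_noZeroDivisors.mp hK P hP hPp)⟩
  haveI : IsPrincipalIdealRing (Localization.AtPrime q) :=
    ((tfae_of_isNoetherianRing_of_isLocalRing_of_isDomain (Localization.AtPrime q)).out 3 0).mp h3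
  refine { not_a_field' := ?_ }
  intro hbot
  have haq : a ∈ q := hq.1.2 (Ideal.mem_span_singleton_self a)
  have h1 : algebraMap S (Localization.AtPrime q) a ∈ maximalIdeal (Localization.AtPrime q) := by
    rw [← Localization.AtPrime.map_eq_maximalIdeal]
    exact Ideal.mem_map_of_mem _ haq
  rw [hbot, Ideal.mem_bot] at h1
  have h2 := (IsLocalization.injective (Localization.AtPrime q)
    q.primeCompl_le_nonZeroDivisors) (h1.trans (map_zero _).symm)
  exact ha h2

end normal

section jac

theorem map_maximalIdeal_le_jacobson (T B : Type u) [CommRing T] [IsLocalRing T] [CommRing B]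
    [Algebra T B] [Algebra.IsIntegral T B] :
    (maximalIdeal T).map (algebraMap T B) ≤ (⊥ : Ideal B).jacobson := by
  rw [Ideal.map_le_iff_le_comap]
  intro x hx
  rw [Ideal.mem_comap, Ideal.jacobson, Ideal.mem_sInf]
  rintro M ⟨-, hM⟩
  haveI := hM
  haveI : (M.comap (algebraMap T B)).IsMaximal := Ideal.isMaximal_comap_of_isIntegral_of_isMaximal M
  have : M.comap (algebraMap T B) = maximalIdeal T := eq_maximalIdeal inferInstance
  have h1 : x ∈ M.comap (algebraMap T B) := by rw [this]; exact hx
  exact h1

end jac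

section stepK

variable (R : Type u) [CommRing R] [IsNoetherianRing R] [IsLocalRing R]

attribute [local instance] Algebra.TensorProduct.rightAlgebra in
theorem isNoetherianRing_tensor_cpl (S : Type u) [CommRing S] [Algebra R S] [Module.Finite R S] :
    IsNoetherianRing (S ⊗[R] EGA4.Cpl R) := by
  haveI : IsNoetherianRing (EGA4.Cpl R) := Groth.Agent.Helper8.AdicReg.isNoetherianRing R _
  haveI : Module.Finite (EGA4.Cpl R) (S ⊗[R] EGA4.Cpl R) :=
    Module.Finite.equiv (Algebra.TensorProduct.commRight R (EGA4.Cpl R) S).toLinearEquiv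
  exact isNoetherian_of_tower (EGA4.Cpl R)
    (isNoetherian_of_isNoetherianRing_of_finite (EGA4.Cpl R) (S ⊗[R] EGA4.Cpl R))

attribute [local instance] Algebra.TensorProduct.rightAlgebra in
theorem tmul_one_mem_jacobson (S : Type u) [CommRing S] [Algebra R S] [Module.Finite R S]
    (x : R) (hx : x ∈ maximalIdeal R) :
    algebraMap S (S ⊗[R] EGA4.Cpl R) (algebraMap R S x) ∈
      (⊥ : Ideal (S ⊗[R] EGA4.Cpl R)).jacobson := by
  haveI : Module.Finite (EGA4.Cpl R) (S ⊗[R] EGA4.Cpl R) :=
    Module.Finite.equiv (Algebra.TensorProduct.commRight R (EGA4.Cpl R) S).toLinearEquiv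
  haveI : Algebra.IsIntegral (EGA4.Cpl R) (S ⊗[R] EGA4.Cpl R) := Algebra.IsIntegral.of_finite _ _
  apply map_maximalIdeal_le_jacobson (EGA4.Cpl R) (S ⊗[R] EGA4.Cpl R)
  have h1 : algebraMap S (S ⊗[R] EGA4.Cpl R) (algebraMap R S x) =
      algebraMap (EGA4.Cpl R) (S ⊗[R] EGA4.Cpl R) (algebraMap R (EGA4.Cpl R) x) := by
    rw [← IsScalarTower.algebraMap_apply, Algebra.TensorProduct.algebraMap_apply,
      Algebra.TensorProduct.algebraMap_eq_includeRight]
    simp [Algebra.algebraMap_eq_smul_one, TensorProduct.smul_tmul]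
  rw [h1]
  apply Ideal.mem_map_of_mem
  rw [AdicCompletion.maximalIdeal_eq_map (R := R)]
  exact Ideal.mem_map_of_mem _ hx

theorem isRadical_map_of_isReduced_tensor (S : Type u) [CommRing S] [Algebra R S] (T : Type u)
    [CommRing T] [Algebra R T] (q : Ideal S) (h : IsReduced ((S ⧸ q) ⊗[R] T)) :
    (q.map (algebraMap S (S ⊗[R] T))).IsRadical := by
  have hsurj : Function.Surjective (Ideal.Quotient.mkₐ R q) := Ideal.Quotient.mkₐ_surjective R q
  have h1 := Algebra.TensorProduct.rTensor_ker (R := R) (C := T) (Ideal.Quotient.mkₐ R q) hsurj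
  have hk : RingHom.ker (Ideal.Quotient.mkₐ R q) = q := by
    ext z
    rw [RingHom.mem_ker]
    exact Ideal.Quotient.eq_zero_iff_mem
  rw [hk] at h1
  have h2 : (q.map (algebraMap S (S ⊗[R] T))) =
      RingHom.ker (Algebra.TensorProduct.map (Ideal.Quotient.mkₐ R q) (AlgHom.id R T)) := by
    rw [h1]; rfl
  rw [h2]
  have hsurj2 : Function.Surjective
      (Algebra.TensorProduct.map (Ideal.Quotient.mkₐ R q) (AlgHom.id R T)) :=
    Algebra.TensorProduct.map_surjective _ _ hsurj Function.surjective_id
  exact (RingHom.ker_isRadical_iff_reduced_of_surjective hsurj2).mpr h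

theorem isReduced_tensor_cpl_of_normal (S : Type u) [CommRing S] [IsDomain S]
    [IsIntegrallyClosed S] [Algebra R S] [Module.Finite R S] (x : R) (hx : x ∈ maximalIdeal R)
    (hx0 : algebraMap R S x ≠ 0)
    (h : ∀ (q : Ideal S) [q.IsPrime], q ∈ (Ideal.span {algebraMap R S x}).minimalPrimes →
      IsReduced ((S ⧸ q) ⊗[R] EGA4.Cpl R)) :
    IsReduced (S ⊗[R] EGA4.Cpl R) := by
  haveI : IsNoetherianRing S :=
    isNoetherian_of_tower R (isNoetherian_of_isNoetherianRing_of_finite R S)
  haveI : IsNoetherianRing (S ⊗[R] EGA4.Cpl R) := isNoetherianRing_tensor_cpl R S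
  haveI : Module.Flat S (S ⊗[R] EGA4.Cpl R) := inferInstance
  refine isReduced_of_flat_of_dvr (A := S) (B := S ⊗[R] EGA4.Cpl R) (algebraMap R S x)
    (mem_nonZeroDivisors_of_ne_zero hx0) (tmul_one_mem_jacobson R S x hx)
    (assoc_subset_minimalPrimes_of_normal S _ hx0)
    (fun q _ hq => dvr_of_normal_of_minimalPrimes S _ hx0 q hq)
    (fun q _ hq => isRadical_map_of_isReduced_tensor R S _ q (h q hq))

theorem isReduced_tensor_of_injective (C S T : Type u) [CommRing C] [CommRing S] [CommRing T]
    [Algebra R C] [Algebra R S] [Algebra R T] [Module.Flat R T] (f : C →ₐ[R] S)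
    (hf : Function.Injective f) [IsReduced (S ⊗[R] T)] : IsReduced (C ⊗[R] T) := by
  have h1 : Function.Injective (Algebra.TensorProduct.map f (AlgHom.id R T)) :=
    Module.Flat.rTensor_preserves_injective_linearMap (M := T) f.toLinearMap hf
  exact isReduced_of_injective (Algebra.TensorProduct.map f (AlgHom.id R T)) h1

/-- Base case: the structure map kills the maximal ideal. -/
theorem isReduced_tensor_cpl_of_ker_eq_maximalIdeal (C : Type u) [CommRing C] [IsDomain C]
    [Algebra R C] [Module.Finite R C] (hker : RingHom.ker (algebraMap R C) = maximalIdeal R) :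
    IsReduced (C ⊗[R] EGA4.Cpl R) := by
  haveI : Algebra.IsIntegral R C := Algebra.IsIntegral.of_finite R C
  have hmax : (⊥ : Ideal C).IsMaximal := by
    haveI : (⊥ : Ideal C).IsPrime := Ideal.isPrime_bot
    apply Ideal.isMaximal_of_isIntegral_of_isMaximal_comap (R := R) (⊥ : Ideal C)
    have : (⊥ : Ideal C).comap (algebraMap R C) = maximalIdeal R := by
      rw [← hker]; rfl
    rw [this]; infer_instance
  have hfield : IsField C := Ring.isField_iff_maximal_bot.mpr hmax
  -- `c ⊗ μ = 0` for `μ ∈ 𝔪 R^`
  have hzero : ∀ (c : C) (μ : EGA4.Cpl R),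
      μ ∈ (maximalIdeal R).map (algebraMap R (EGA4.Cpl R)) → c ⊗ₜ[R] μ = 0 := by
    intro c μ hμ
    refine Submodule.span_induction (p := fun μ _ => c ⊗ₜ[R] μ = 0) ?_ ?_ ?_ ?_ hμ
    · rintro _ ⟨m, hm, rfl⟩
      have h0 : algebraMap R C m = 0 := by
        have : m ∈ RingHom.ker (algebraMap R C) := by rw [hker]; exact hm
        exact this
      rw [Algebra.algebraMap_eq_smul_one, ← TensorProduct.smul_tmul, Algebra.smul_def, h0,
        zero_mul, TensorProduct.zero_tmul]
    · exact TensorProduct.tmul_zero _ _
    · intro a b _ _ ha hb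
      rw [TensorProduct.tmul_add, ha, hb, add_zero]
    · intro r a _ ha
      have : c ⊗ₜ[R] (r • a) = ((1 : C) ⊗ₜ[R] r) * (c ⊗ₜ[R] a) := by
        rw [Algebra.TensorProduct.tmul_mul_tmul, one_mul, smul_eq_mul]
      rw [this, ha, mul_zero]
  -- `C → C ⊗ R^` is surjective
  have hsurj : Function.Surjective
      (Algebra.TensorProduct.includeLeft : C →ₐ[R] C ⊗[R] EGA4.Cpl R) := by
    intro z
    induction z using TensorProduct.induction_on with
    | zero => exact ⟨0, map_zero _⟩
    | tmul c ρ =>
      obtain ⟨a, ha⟩ := Ideal.Quotient.mk_surjective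
        (AdicCompletion.evalOneₐ (maximalIdeal R) ρ)
      have hmem : ρ - algebraMap R (EGA4.Cpl R) a ∈
          (maximalIdeal R).map (algebraMap R (EGA4.Cpl R)) := by
        rw [← AdicCompletion.ker_evalOneₐ_eq_map _ (maximalIdeal R).fg_of_isNoetherianRing,
          RingHom.mem_ker, map_sub, sub_eq_zero]
        change AdicCompletion.evalOneₐ (maximalIdeal R) ρ =
          AdicCompletion.evalOneₐ (maximalIdeal R) (algebraMap R (EGA4.Cpl R) a)
        rw [AlgHom.commutes, ← ha]
        rfl
      refine ⟨a • c, ?_⟩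
      have h1 := hzero c _ hmem
      rw [TensorProduct.tmul_sub, sub_eq_zero] at h1
      rw [h1, Algebra.TensorProduct.includeLeft_apply, Algebra.algebraMap_eq_smul_one,
        TensorProduct.smul_tmul]
    | add z w hz hw =>
      obtain ⟨a, rfl⟩ := hz
      obtain ⟨b, rfl⟩ := hw
      exact ⟨a + b, map_add _ _ _⟩
  have hrad : (RingHom.ker (Algebra.TensorProduct.includeLeft :
      C →ₐ[R] C ⊗[R] EGA4.Cpl R)).IsRadical := by
    intro c hc
    obtain ⟨n, hn⟩ := hc
    by_cases hc0 : c = 0
    · rw [hc0]; exact Ideal.zero_mem _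
    · obtain ⟨d, hd⟩ := hfield.mul_inv_cancel hc0
      have h1 : (1 : C) ∈ RingHom.ker (Algebra.TensorProduct.includeLeft :
          C →ₐ[R] C ⊗[R] EGA4.Cpl R) := by
        have : (1 : C) = d ^ n * c ^ n := by rw [← mul_pow, mul_comm, hd, one_pow]
        rw [this]
        exact Ideal.mul_mem_left _ _ hn
      rw [(Ideal.eq_top_iff_one _).mpr h1]
      trivial
  exact (RingHom.ker_isRadical_iff_reduced_of_surjective hsurj).mp hrad

end stepK

section main

/-- Finite domains over a Nagata local ring have reduced completed tensor product. -/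
theorem isReduced_tensor_cpl_of_isNagata (R : Type u) [CommRing R] [IsLocalRing R]
    (hR : CAlg.IsNagata R) (C : Type u) [CommRing C] [IsDomain C] [Algebra R C]
    [Module.Finite R C] : IsReduced (C ⊗[R] EGA4.Cpl R) := by
  haveI := hR.1
  suffices H : ∀ P : Ideal R, ∀ (C : Type u) [CommRing C] [IsDomain C] [Algebra R C]
      [Module.Finite R C], RingHom.ker (algebraMap R C) = P → IsReduced (C ⊗[R] EGA4.Cpl R) from
    H _ C rfl
  intro P
  induction P using WellFoundedGT.induction with
  | ind P ih =>
  intro C _ _ _ _ hker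
  by_cases hPm : P = maximalIdeal R
  · exact isReduced_tensor_cpl_of_ker_eq_maximalIdeal R C (hker.trans hPm)
  · subst hker
    have hPle : RingHom.ker (algebraMap R C) ≤ maximalIdeal R :=
      le_maximalIdeal (RingHom.ker_ne_top _)
    obtain ⟨x, hxm, hxP⟩ := SetLike.exists_of_lt (lt_of_le_of_ne hPle hPm)
    haveI hprime : (RingHom.ker (algebraMap R C)).IsPrime := RingHom.ker_isPrime _
    -- `C` is N-2, as a finite extension of `R ⧸ P`
    letI : Algebra (R ⧸ RingHom.ker (algebraMap R C)) C :=
      (RingHom.kerLift (algebraMap R C)).toAlgebra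
    haveI : IsScalarTower R (R ⧸ RingHom.ker (algebraMap R C)) C :=
      IsScalarTower.of_algebraMap_eq fun _ => rfl
    haveI : Module.Finite (R ⧸ RingHom.ker (algebraMap R C)) C :=
      Module.Finite.of_restrictScalars_finite R _ C
    have hN2 : CAlg.IsN2 C :=
      isN2_of_finite_injective (R ⧸ RingHom.ker (algebraMap R C)) C
        (RingHom.kerLift_injective (algebraMap R C)) (hR.2 _)
    have hN1 : CAlg.IsN1 C := isN1_of_isN2 C hN2
    haveI hfinCS : Module.Finite C (integralClosure C (FractionRing C)) := hN1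
    haveI : Module.Finite R (integralClosure C (FractionRing C)) := Module.Finite.trans C _
    haveI : IsIntegrallyClosed (integralClosure C (FractionRing C)) :=
      integralClosure.isIntegrallyClosedOfFiniteExtension (FractionRing C)
    have hinjCS : Function.Injective (algebraMap C (integralClosure C (FractionRing C))) := by
      intro a b hab
      apply IsFractionRing.injective C (FractionRing C)
      exact congrArg Subtype.val hab
    have hx0 : algebraMap R (integralClosure C (FractionRing C)) x ≠ 0 := by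
      rw [IsScalarTower.algebraMap_apply R C (integralClosure C (FractionRing C))]
      intro h0
      apply hxP
      rw [RingHom.mem_ker]
      exact hinjCS (h0.trans (map_zero _).symm)
    haveI : IsReduced ((integralClosure C (FractionRing C)) ⊗[R] EGA4.Cpl R) := by
      refine isReduced_tensor_cpl_of_normal R (integralClosure C (FractionRing C)) x hxm hx0 ?_
      intro q _ hq
      refine ih (RingHom.ker (algebraMap R ((integralClosure C (FractionRing C)) ⧸ q))) ?_ _ rfl
      have hxq : algebraMap R (integralClosure C (FractionRing C)) x ∈ q :=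
        hq.1.2 (Ideal.mem_span_singleton_self _)
      refine lt_of_le_of_ne ?_ ?_
      · intro a ha
        rw [RingHom.mem_ker] at ha ⊢
        rw [IsScalarTower.algebraMap_apply R (integralClosure C (FractionRing C)),
          IsScalarTower.algebraMap_apply R C (integralClosure C (FractionRing C)), ha, map_zero,
          map_zero]
      · intro heq
        apply hxP
        rw [heq, RingHom.mem_ker,
          IsScalarTower.algebraMap_apply R (integralClosure C (FractionRing C)),
          Ideal.Quotient.algebraMap_eq, Ideal.Quotient.eq_zero_iff_mem]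
        exact hxq
    exact isReduced_tensor_of_injective R C (integralClosure C (FractionRing C)) (EGA4.Cpl R)
      (IsScalarTower.toAlgHom R C (integralClosure C (FractionRing C))) hinjCS

/-- **S0576.** A Nagata local domain is analytically unramified. -/
theorem isReduced_cpl_of_isNagata (R : Type u) [CommRing R] [IsDomain R] [IsLocalRing R]
    (hR : CAlg.IsNagata R) : IsReduced (EGA4.Cpl R) := by
  haveI := isReduced_tensor_cpl_of_isNagata R hR R
  exact isReduced_of_injective (Algebra.TensorProduct.lid R (EGA4.Cpl R)).symm.toRingHom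
    (Algebra.TensorProduct.lid R (EGA4.Cpl R)).symm.injective

end main

end Groth.Agent.Helper8.Nag
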