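import Mathlib
import Groth.Prelude
import Groth.Agent.Lib.Helper8.Nag8
import Groth.Agent.Lib.Helper6.Japanese

/-!
# Nagata local rings and analytically unramified finite local domains
-/

set_option autoImplicit false
universe u

namespace Groth.Agent.Helper8.Nag

open IsLocalRing TensorProduct

/-- A finite algebra over a Nagata ring is Nagata. -/
theorem isNagata_of_finite (R S : Type u) [CommRing R] [CommRing S] [Algebra R S]
    [Module.Finite R S] (hR : CAlg.IsNagata R) : CAlg.IsNagata S := by
  haveI := hR.1
  haveI : IsNoetherianRing S :=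
    isNoetherian_of_tower R (isNoetherian_of_isNoetherianRing_of_finite R S)
  refine ⟨inferInstance, fun q _ => ?_⟩
  exact isN2_of_finite_injective (R ⧸ q.under R) (S ⧸ q)
    (FaithfulSMul.algebraMap_injective _ _) (hR.2 _)

section glue

variable (R T : Type u) [CommRing R] [IsLocalRing R] [CommRing T] [IsDomain T] [Algebra R T]
  [Module.Finite R T]

/-- The ideal `𝔪T`. -/
abbrev mT : Ideal T := (maximalIdeal R).map (algebraMap R T)

/-- The glued subalgebra `R + 𝔪T`. -/
noncomputable def glue : Subalgebra R T :=
  (⊥ : Subalgebra R (T ⧸ mT R T)).comap (Ideal.Quotient.mkₐ R (mT R T))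

theorem mem_glue {t : T} : t ∈ glue R T ↔ ∃ r : R, t - algebraMap R T r ∈ mT R T := by
  unfold glue
  rw [Subalgebra.mem_comap, Algebra.mem_bot]
  constructor
  · rintro ⟨r, hr⟩
    refine ⟨r, ?_⟩
    rw [← Ideal.Quotient.eq_zero_iff_mem, map_sub, sub_eq_zero]
    exact hr.symm
  · rintro ⟨r, hr⟩
    refine ⟨r, ?_⟩
    rw [← Ideal.Quotient.eq_zero_iff_mem, map_sub, sub_eq_zero] at hr
    exact hr.symm

theorem mT_le_jacobson : mT R T ≤ (⊥ : Ideal T).jacobson :=
  haveI : Algebra.IsIntegral R T := Algebra.IsIntegral.of_finite R T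
  map_maximalIdeal_le_jacobson R T

theorem mem_glue_of_mem_mT {t : T} (ht : t ∈ mT R T) : t ∈ glue R T :=
  (mem_glue R T).mpr ⟨0, by simpa using ht⟩

/-- An element of the glue congruent to a unit of `R` is a unit of the glue. -/
theorem isUnit_glue_of_isUnit (t : glue R T) (r : R) (hr : IsUnit r)
    (ht : (t : T) - algebraMap R T r ∈ mT R T) : IsUnit t := by
  obtain ⟨u, rfl⟩ := hr
  set j : T := (t : T) - algebraMap R T u with hj
  have hjJ : j ∈ (⊥ : Ideal T).jacobson := mT_le_jacobson R T ht
  have h1 : IsUnit (j * algebraMap R T ((u⁻¹ : Rˣ) : R) + 1) := Ideal.mem_jacobson_bot.mp hjJ _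
  have h2 : (t : T) = algebraMap R T u * (j * algebraMap R T ((u⁻¹ : Rˣ) : R) + 1) := by
    have h3 : algebraMap R T u * algebraMap R T ((u⁻¹ : Rˣ) : R) = 1 := by
      rw [← map_mul, Units.mul_inv, map_one]
    rw [mul_add, mul_one, mul_comm j, ← mul_assoc, h3, one_mul, hj]
    ring
  have htU : IsUnit (t : T) := by
    rw [h2]
    exact (IsUnit.map (algebraMap R T) u.isUnit).mul h1
  obtain ⟨v, hv⟩ := htU.exists_right_inv
  -- `v ≡ u⁻¹` modulo `𝔪T`
  have hvmem : v ∈ glue R T := by
    rw [mem_glue]
    refine ⟨((u⁻¹ : Rˣ) : R), ?_⟩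
    have h3 : algebraMap R T u * algebraMap R T ((u⁻¹ : Rˣ) : R) = 1 := by
      rw [← map_mul, Units.mul_inv, map_one]
    have h4 : v - algebraMap R T ((u⁻¹ : Rˣ) : R) =
        -(algebraMap R T ((u⁻¹ : Rˣ) : R) * v) * j := by
      have : (algebraMap R T u + j) * v = 1 := by
        rw [hj]; rw [← hv]; ring
      linear_combination (algebraMap R T ((u⁻¹ : Rˣ) : R)) * this - v * h3
    rw [h4]
    exact Ideal.mul_mem_left _ _ ht
  exact IsUnit.of_mul_eq_one (⟨v, hvmem⟩ : glue R T) (Subtype.ext hv)

theorem mT_ne_top : mT R T ≠ ⊤ := by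
  intro h
  have h1 := mT_le_jacobson R T
  rw [h, top_le_iff] at h1
  exact bot_ne_top (Ideal.jacobson_eq_top_iff.mp h1)

theorem algebraMap_mem_mT_iff (r : R) : algebraMap R T r ∈ mT R T ↔ r ∈ maximalIdeal R := by
  constructor
  · intro h
    by_contra hr
    have hu : IsUnit r := by
      by_contra hnu
      exact hr ((mem_maximalIdeal r).mpr hnu)
    have : IsUnit (algebraMap R T r) := hu.map _
    exact mT_ne_top R T (Ideal.eq_top_of_isUnit_mem _ h this)
  · intro h
    exact Ideal.mem_map_of_mem _ h

instance : IsLocalRing (glue R T) := by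
  refine IsLocalRing.of_isUnit_or_isUnit_one_sub_self fun a => ?_
  obtain ⟨r, hr⟩ := (mem_glue R T).mp a.2
  by_cases hrm : r ∈ maximalIdeal R
  · right
    refine isUnit_glue_of_isUnit R T (1 - a) (1 - r) ?_ ?_
    · by_contra hnu
      have h1 : 1 - r ∈ maximalIdeal R := (mem_maximalIdeal _).mpr hnu
      have h2 : (1 : R) ∈ maximalIdeal R := by
        have := Ideal.add_mem _ h1 hrm
        simp at this
      exact (Ideal.ne_top_iff_one _).mp (maximalIdeal.isMaximal R).ne_top h2
    · have : ((1 - a : glue R T) : T) - algebraMap R T (1 - r) =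
          -((a : T) - algebraMap R T r) := by
        simp only [Subalgebra.coe_sub, Subalgebra.coe_one, map_sub, map_one]
        ring
      rw [this]
      exact Ideal.neg_mem_iff _ |>.mpr hr
  · left
    refine isUnit_glue_of_isUnit R T a r ?_ hr
    by_contra hnu
    exact hrm ((mem_maximalIdeal r).mpr hnu)

instance : IsLocalHom (algebraMap R (glue R T)) := by
  constructor
  intro r hr
  by_contra hnu
  have hrm : r ∈ maximalIdeal R := (mem_maximalIdeal r).mpr hnu
  have h1 : algebraMap R T r ∈ mT R T := Ideal.mem_map_of_mem _ hrm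
  have h2 : IsUnit (algebraMap R T r) := by
    have := hr.map (glue R T).val
    exact this
  exact mT_ne_top R T (Ideal.eq_top_of_isUnit_mem _ h1 h2)

/-- If `𝔪T ≠ 0`, the glue has the same fraction field as `T`. -/
theorem isFractionRing_glue (K : Type u) [Field K] [Algebra T K] [IsFractionRing T K]
    (x : T) (hx : x ∈ mT R T) (hx0 : x ≠ 0) : IsFractionRing (glue R T) K := by
  have hinj : Function.Injective (algebraMap T K) := IsFractionRing.injective T K
  haveI : FaithfulSMul (glue R T) K := by
    rw [faithfulSMul_iff_algebraMap_injective]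
    intro a b hab
    exact Subtype.ext (hinj hab)
  refine IsFractionRing.of_field (glue R T) K fun z => ?_
  obtain ⟨a, b, hb, rfl⟩ := IsFractionRing.div_surjective (A := T) z
  have hb0 : b ≠ 0 := nonZeroDivisors.ne_zero hb
  refine ⟨⟨a * x, mem_glue_of_mem_mT R T (Ideal.mul_mem_left _ _ hx)⟩,
    ⟨b * x, mem_glue_of_mem_mT R T (Ideal.mul_mem_left _ _ hx)⟩, ?_⟩
  show _ = algebraMap T K (a * x) / algebraMap T K (b * x)
  rw [map_mul, map_mul, mul_div_mul_right]
  exact (map_ne_zero_iff _ hinj).mpr hx0

/-- N-1 ascends from the glue to `T`. -/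
theorem isN1_of_isN1_glue (x : T) (hx : x ∈ mT R T) (hx0 : x ≠ 0)
    (h : CAlg.IsN1 (glue R T)) : CAlg.IsN1 T := by
  haveI := isFractionRing_glue R T (FractionRing T) x hx hx0
  have h1 : Module.Finite (glue R T) (integralClosure (glue R T) (FractionRing T)) :=
    Groth.Agent.Lib.Helper6.Japanese.finite_of_n1 (FractionRing T) h
  unfold CAlg.IsN1
  obtain ⟨s, hs⟩ := (Module.Finite.iff_fg.mp h1 :
    (Subalgebra.toSubmodule (integralClosure (glue R T) (FractionRing T))).FG)
  haveI : Algebra.IsIntegral R T := Algebra.IsIntegral.of_finite R T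
  have hTint : ∀ t : T, IsIntegral (glue R T) t := fun t =>
    (Algebra.IsIntegral.isIntegral (R := R) t).tower_top
  have hmem : ∀ z : FractionRing T, IsIntegral T z ↔ IsIntegral (glue R T) z := by
    intro z
    constructor
    · intro hz
      haveI : Algebra.IsIntegral (glue R T) T := ⟨hTint⟩
      exact isIntegral_trans z hz
    · intro hz
      exact hz.tower_top
  refine Module.Finite.iff_fg.mpr
    (⟨s, ?_⟩ : (Subalgebra.toSubmodule (integralClosure T (FractionRing T))).FG)
  apply le_antisymm
  · rw [Submodule.span_le]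
    intro z hz
    have h2 : z ∈ Subalgebra.toSubmodule (integralClosure (glue R T) (FractionRing T)) := by
      rw [← hs]; exact Submodule.subset_span hz
    exact (hmem z).mpr h2
  · intro z hz
    have h2 : z ∈ Subalgebra.toSubmodule (integralClosure (glue R T) (FractionRing T)) :=
      (hmem z).mp hz
    rw [← hs] at h2
    exact Submodule.span_le_restrictScalars (glue R T) T (s : Set (FractionRing T)) h2

end glue

section main

variable (R : Type u) [CommRing R] [IsLocalRing R] [IsNoetherianRing R]

/-- Every finite domain over `R` is N-1 as soon as finite local domains over `R` are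
analytically unramified. -/
theorem isN1_of_finite_domain
    (H : ∀ (S : Type u) [CommRing S] [IsDomain S] [IsLocalRing S] [Algebra R S]
      [IsLocalHom (algebraMap R S)] [Module.Finite R S],
      IsReduced (AdicCompletion (IsLocalRing.maximalIdeal S) S))
    (T : Type u) [CommRing T] [IsDomain T] [Algebra R T] [Module.Finite R T] : CAlg.IsN1 T := by
  by_cases hx : ∃ x ∈ mT R T, x ≠ 0
  · obtain ⟨x, hx, hx0⟩ := hx
    apply isN1_of_isN1_glue R T x hx hx0
    haveI : IsNoetherian R T := isNoetherian_of_isNoetherianRing_of_finite R T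
    haveI : IsNoetherian R (glue R T) :=
      isNoetherian_submodule' (Subalgebra.toSubmodule (glue R T))
    haveI : Module.Finite R (glue R T) := inferInstance
    haveI : IsNoetherianRing (glue R T) := isNoetherian_of_tower R inferInstance
    haveI := H (glue R T)
    exact isN1_of_isReduced_adicCompletion (glue R T)
  · push Not at hx
    have hbot : mT R T = ⊥ := by
      rw [eq_bot_iff]
      intro x hxm
      rw [Ideal.mem_bot]
      exact hx x hxm
    haveI : Algebra.IsIntegral R T := Algebra.IsIntegral.of_finite R T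
    have hker : RingHom.ker (algebraMap R T) = maximalIdeal R := by
      apply le_antisymm
      · exact le_maximalIdeal (RingHom.ker_ne_top _)
      · intro r hr
        rw [RingHom.mem_ker]
        have : algebraMap R T r ∈ mT R T := Ideal.mem_map_of_mem _ hr
        rw [hbot, Ideal.mem_bot] at this
        exact this
    have hmax : (⊥ : Ideal T).IsMaximal := by
      haveI : (⊥ : Ideal T).IsPrime := Ideal.isPrime_bot
      apply Ideal.isMaximal_of_isIntegral_of_isMaximal_comap (R := R) (⊥ : Ideal T)
      have : (⊥ : Ideal T).comap (algebraMap R T) = maximalIdeal R := by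
        rw [← hker]; rfl
      rw [this]; infer_instance
    have hfield : IsField T := Ring.isField_iff_maximal_bot.mpr hmax
    exact isN1_of_isN2 T (isN2_of_isField T hfield)

/-- **S9440.** -/
theorem isNagata_iff_finite_local_domains :
    CAlg.IsNagata R ↔ ∀ (S : Type u) [CommRing S] [IsDomain S] [IsLocalRing S] [Algebra R S]
      [IsLocalHom (algebraMap R S)] [Module.Finite R S],
      IsReduced (AdicCompletion (IsLocalRing.maximalIdeal S) S) := by
  constructor
  · intro hR S _ _ _ _ _ _
    exact isReduced_cpl_of_isNagata S (isNagata_of_finite R S hR)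
  · intro H
    refine ⟨inferInstance, fun p _ => ?_⟩
    intro L _ _ _ _ hfin
    haveI : FiniteDimensional (FractionRing (R ⧸ p)) L := hfin
    letI : Algebra R L := ((algebraMap (R ⧸ p) L).comp (algebraMap R (R ⧸ p))).toAlgebra
    haveI : IsScalarTower R (R ⧸ p) L := IsScalarTower.of_algebraMap_eq fun _ => rfl
    refine Groth.Agent.Lib.Helper6.Japanese.key_n2 (R ⧸ p) L fun T hT => ?_
    haveI : Module.Finite (R ⧸ p) T := hT
    haveI : Module.Finite R T := Module.Finite.trans (R ⧸ p) T
    exact isN1_of_finite_domain R H T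

end main

end Groth.Agent.Helper8.Nag
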