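import Mathlib
import Groth.Prelude

/-!
# Recognising an adic completion
-/

set_option autoImplicit false
universe u

namespace Groth.Agent.Helper8.Nag

section recog

variable {C T : Type u} [CommRing C] [CommRing T] [Algebra C T] (J : Ideal C)
  (hinj : ∀ (n : ℕ) (c : C), algebraMap C T c ∈ (J.map (algebraMap C T)) ^ n → c ∈ J ^ n)
  (hsurj : ∀ (n : ℕ) (t : T), ∃ c : C, t - algebraMap C T c ∈ (J.map (algebraMap C T)) ^ n)

theorem pow_le_comap_map_pow (n : ℕ) :
    J ^ n ≤ ((J.map (algebraMap C T)) ^ n).comap (algebraMap C T) := by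
  rw [← Ideal.map_le_iff_le_comap, Ideal.map_pow]

/-- The levelwise comparison map. -/
noncomputable def levelMap (n : ℕ) : C ⧸ J ^ n →+* T ⧸ (J.map (algebraMap C T)) ^ n :=
  Ideal.quotientMap _ (algebraMap C T) (pow_le_comap_map_pow J n)

include hinj in
theorem levelMap_injective (n : ℕ) : Function.Injective (levelMap (T := T) J n) := by
  rw [injective_iff_map_eq_zero]
  intro x hx
  obtain ⟨c, rfl⟩ := Ideal.Quotient.mk_surjective x
  rw [levelMap, Ideal.quotientMap_mk, Ideal.Quotient.eq_zero_iff_mem] at hx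
  exact Ideal.Quotient.eq_zero_iff_mem.mpr (hinj n c hx)

include hsurj in
theorem levelMap_surjective (n : ℕ) : Function.Surjective (levelMap (T := T) J n) := by
  intro y
  obtain ⟨t, rfl⟩ := Ideal.Quotient.mk_surjective y
  obtain ⟨c, hc⟩ := hsurj n t
  refine ⟨Ideal.Quotient.mk _ c, ?_⟩
  rw [levelMap, Ideal.quotientMap_mk, eq_comm, Ideal.Quotient.eq]
  exact hc

/-- The levelwise equivalence. -/
noncomputable def levelEquiv (n : ℕ) : C ⧸ J ^ n ≃+* T ⧸ (J.map (algebraMap C T)) ^ n :=
  RingEquiv.ofBijective (levelMap J n) ⟨levelMap_injective J hinj n, levelMap_surjective J hsurj n⟩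

/-- The level maps `T → C/Jⁿ`. -/
noncomputable def toLevel (n : ℕ) : T →+* C ⧸ J ^ n :=
  (levelEquiv J hinj hsurj n).symm.toRingHom.comp (Ideal.Quotient.mk ((J.map (algebraMap C T)) ^ n))

theorem toLevel_eq (n : ℕ) (t : T) (c : C)
    (h : t - algebraMap C T c ∈ (J.map (algebraMap C T)) ^ n) :
    toLevel J hinj hsurj n t = Ideal.Quotient.mk _ c := by
  rw [toLevel, RingHom.comp_apply]
  show (levelEquiv J hinj hsurj n).symm (Ideal.Quotient.mk _ t) = _
  rw [RingEquiv.symm_apply_eq]
  show _ = levelMap J n (Ideal.Quotient.mk _ c)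
  rw [levelMap, Ideal.quotientMap_mk, Ideal.Quotient.eq]
  exact h

theorem toLevel_compat {m n : ℕ} (hle : m ≤ n) :
    (Ideal.Quotient.factorPow J hle).comp (toLevel J hinj hsurj n) = toLevel J hinj hsurj m := by
  ext t
  obtain ⟨c, hc⟩ := hsurj n t
  rw [RingHom.comp_apply, toLevel_eq J hinj hsurj n t c hc,
    toLevel_eq J hinj hsurj m t c (Ideal.pow_le_pow_right hle hc)]
  rfl

/-- The comparison map `T → Ĉ`. -/
noncomputable def toCompletion : T →+* AdicCompletion J C :=
  AdicCompletion.liftRingHom J (toLevel J hinj hsurj) (fun hle => toLevel_compat J hinj hsurj hle)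

theorem evalₐ_toCompletion (n : ℕ) (t : T) :
    AdicCompletion.evalₐ J n (toCompletion J hinj hsurj t) = toLevel J hinj hsurj n t :=
  AdicCompletion.evalₐ_liftRingHom _ _ _ _ _

theorem toLevel_eq_zero_iff (n : ℕ) (t : T) :
    toLevel J hinj hsurj n t = 0 ↔ t ∈ (J.map (algebraMap C T)) ^ n := by
  rw [toLevel, RingHom.comp_apply]
  show (levelEquiv J hinj hsurj n).symm (Ideal.Quotient.mk _ t) = 0 ↔ _
  rw [RingEquiv.symm_apply_eq, map_zero, Ideal.Quotient.eq_zero_iff_mem]

omit [CommRing T] [Algebra C T] in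
theorem factorPow_evalₐ {m n : ℕ} (hmn : m ≤ n) (x : AdicCompletion J C) :
    Ideal.Quotient.factorPow J hmn (AdicCompletion.evalₐ J n x) = AdicCompletion.evalₐ J m x := by
  obtain ⟨a, rfl⟩ := AdicCompletion.mk_surjective J C x
  rw [AdicCompletion.evalₐ_mk, AdicCompletion.evalₐ_mk]
  exact AdicCompletion.Ideal.mk_eq_mk J hmn a

variable [IsAdicComplete (J.map (algebraMap C T)) T]

theorem toCompletion_injective : Function.Injective (toCompletion J hinj hsurj) := by
  rw [injective_iff_map_eq_zero]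
  intro t ht
  apply IsHausdorff.haus (I := J.map (algebraMap C T)) inferInstance t
  intro n
  rw [SModEq.zero, smul_eq_mul, Ideal.mul_top]
  rw [← toLevel_eq_zero_iff J hinj hsurj, ← evalₐ_toCompletion, ht, map_zero]

theorem toCompletion_surjective : Function.Surjective (toCompletion J hinj hsurj) := by
  intro x
  choose c hc using fun n => Ideal.Quotient.mk_surjective (AdicCompletion.evalₐ J n x)
  have hcauchy : ∀ {m n : ℕ}, m ≤ n → algebraMap C T (c m) ≡ algebraMap C T (c n)
      [SMOD ((J.map (algebraMap C T)) ^ m • ⊤ : Submodule T T)] := by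
    intro m n hmn
    rw [SModEq.sub_mem, smul_eq_mul, Ideal.mul_top, ← map_sub]
    apply pow_le_comap_map_pow J m
    rw [← Ideal.Quotient.eq, hc m]
    have h1 : Ideal.Quotient.factorPow J hmn (AdicCompletion.evalₐ J n x) =
        AdicCompletion.evalₐ J m x := factorPow_evalₐ J hmn x
    rw [← h1, ← hc n]
    rfl
  obtain ⟨t, ht⟩ := IsPrecomplete.prec (I := J.map (algebraMap C T)) inferInstance hcauchy
  refine ⟨t, AdicCompletion.ext_evalₐ fun n => ?_⟩
  rw [evalₐ_toCompletion, ← hc n]
  apply toLevel_eq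
  have := ht n
  rw [SModEq.sub_mem, smul_eq_mul, Ideal.mul_top] at this
  rw [← neg_sub]
  exact Ideal.neg_mem_iff _ |>.mpr this

/-- The comparison isomorphism. -/
noncomputable def completionEquiv : T ≃+* AdicCompletion J C :=
  RingEquiv.ofBijective (toCompletion J hinj hsurj)
    ⟨toCompletion_injective J hinj hsurj, toCompletion_surjective J hinj hsurj⟩

end recog

end Groth.Agent.Helper8.Nag
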