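import Mathlib
import Groth.Prelude
import Groth.Agent.Lib.Helper8.DescFib1
import Groth.Agent.Lib.Helper8.Cpl2

/-!
# Properties of fibres which can be tested on the local rings of the target
-/

set_option autoImplicit false
universe u

namespace Groth.Agent.Helper8.LocTarget

open TensorProduct

section iso

/-- If `L` is a localization of `T` at a multiplicative set not meeting the prime `Q`, then `T_Q` is
the local ring of `L` at the extension of `Q`. -/
theorem exists_ringEquiv_atPrime {T : Type u} (L : Type u) [CommRing T] [CommRing L]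
    [Algebra T L] (N : Submonoid T) [IsLocalization N L] (Q : Ideal T)
    [hQ : Q.IsPrime] (hd : Disjoint (N : Set T) (Q : Set T)) :
    ∃ (Q' : Ideal L) (_ : Q'.IsPrime),
      Nonempty (Localization.AtPrime Q' ≃+* Localization.AtPrime Q) := by
  let Q' : Ideal L := Q.map (algebraMap T L)
  haveI : Q'.IsPrime := IsLocalization.isPrime_of_isPrime_disjoint N L Q hQ hd
  have hcomap : Q'.comap (algebraMap T L) = Q :=
    IsLocalization.under_map_of_isPrime_disjoint N L hQ hd
  have h1 : IsLocalization.AtPrime (Localization.AtPrime Q') (Q'.comap (algebraMap T L)) :=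
    IsLocalization.isLocalization_isLocalization_atPrime_isLocalization N
      (Localization.AtPrime Q') Q'
  have h2 : IsLocalization.AtPrime (Localization.AtPrime Q') Q := by
    have : ∀ (I : Ideal T) (hI : I.IsPrime), I = Q →
        IsLocalization.AtPrime (Localization.AtPrime Q') I →
        IsLocalization.AtPrime (Localization.AtPrime Q') Q := by
      intro I hI hIQ hloc
      subst hIQ
      exact hloc
    exact this _ (Ideal.comap_isPrime _ _) hcomap h1
  haveI := h2
  exact ⟨Q', inferInstance, ⟨(IsLocalization.algEquiv Q.primeCompl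
    (Localization.AtPrime Q') (Localization.AtPrime Q)).toRingEquiv⟩⟩

end iso

/-- The shape of a locality hypothesis. -/
def IsLocalProp (P : ∀ (R : Type u) [CommRing R], Prop) : Prop :=
  ∀ (T : Type u) [CommRing T] [IsNoetherianRing T],
    (∀ (Q : Ideal T) [Q.IsPrime], ∃ (L : Type u) (_ : CommRing L) (_ : Algebra T L)
      (N : Submonoid T), IsLocalization N L ∧ Disjoint (N : Set T) (Q : Set T) ∧ P L) → P T

theorem isLocalProp_isRegularRing : IsLocalProp (fun R _ => IsRegularRing R) := by
  intro T _ _ h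
  refine isRegularRing_iff.2 (fun Q hQ => ?_)
  obtain ⟨L, _, _, N, hN, hd, hL⟩ := h Q
  haveI := hN
  haveI := hL
  obtain ⟨Q', hQ', ⟨e⟩⟩ := exists_ringEquiv_atPrime L N Q hd
  haveI := hQ'
  exact IsRegularLocalRing.of_ringEquiv e

theorem isLocalProp_isNormalRing : IsLocalProp (fun R _ => EGA4.IsNormalRing R) := by
  intro T _ _ h Q hQ
  obtain ⟨L, _, _, N, hN, hd, hL⟩ := h Q
  haveI := hN
  obtain ⟨Q', hQ', ⟨e⟩⟩ := exists_ringEquiv_atPrime L N Q hd
  haveI := hQ'
  obtain ⟨h1, h2⟩ := hL Q'
  exact ⟨e.symm.toMulEquiv.isDomain _, IsIntegrallyClosed.of_equiv e⟩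

theorem isLocalProp_isReduced : IsLocalProp (fun R _ => IsReduced R) := by
  intro T _ _ h
  refine isReduced_ofLocalizationMaximal T (fun Q hQ => ?_)
  haveI : Q.IsPrime := hQ.isPrime
  obtain ⟨L, _, _, N, hN, hd, hL⟩ := h Q
  haveI := hN
  haveI := hL
  obtain ⟨Q', hQ', ⟨e⟩⟩ := exists_ringEquiv_atPrime L N Q hd
  haveI := hQ'
  haveI : IsReduced (Localization.AtPrime Q') :=
    isReduced_localizationPreserves Q'.primeCompl _ hL
  exact isReduced_of_injective e.symm e.symm.injective

section main

variable (A B : Type u) [CommRing A] [CommRing B] [Algebra A B]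

/-- A local property of the (extended) fibres of `A → B` can be tested on the local rings of `B` at
its maximal ideals. -/
theorem local_fibre (P : ∀ (R : Type u) [CommRing R], Prop)
    (hiso : ∀ (R S : Type u) [CommRing R] [CommRing S], (R ≃+* S) → P R → P S)
    (hloc : IsLocalProp P)
    (p : Ideal A) [p.IsPrime] (K : Type u) [Field K] [Algebra p.ResidueField K]
    [hN : IsNoetherianRing (K ⊗[p.ResidueField] p.Fiber B)]
    (h : ∀ (m : Ideal B) [m.IsMaximal],
      P (K ⊗[p.ResidueField] p.Fiber (Localization.AtPrime m))) :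
    P (K ⊗[p.ResidueField] p.Fiber B) := by
  letI i4 : Algebra A K :=
    ((algebraMap p.ResidueField K).comp (algebraMap A p.ResidueField)).toAlgebra
  haveI t4 : IsScalarTower A p.ResidueField K := .of_algebraMap_eq' rfl
  let eB : K ⊗[p.ResidueField] (p.ResidueField ⊗[A] B) ≃ₐ[p.ResidueField] K ⊗[A] B :=
    Algebra.TensorProduct.cancelBaseChange A p.ResidueField p.ResidueField K B
  let eK : B ⊗[A] K ≃ₐ[A] K ⊗[A] B := Algebra.TensorProduct.comm A B K
  suffices hT : P (B ⊗[A] K) from
    hiso _ _ eB.toRingEquiv.symm (hiso _ _ eK.toRingEquiv hT)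
  haveI : IsNoetherianRing (B ⊗[A] K) :=
    isNoetherianRing_of_ringEquiv _ (eB.toRingEquiv.trans eK.toRingEquiv.symm)
  apply hloc
  intro Q _
  let q : Ideal B := Q.comap (algebraMap B (B ⊗[A] K))
  haveI : q.IsPrime := Ideal.comap_isPrime _ _
  obtain ⟨m, hm, hqm⟩ := Ideal.exists_le_maximal q (Ideal.IsPrime.ne_top inferInstance)
  haveI := hm
  haveI : m.IsPrime := hm.isPrime
  refine ⟨(B ⊗[A] K) ⊗[B] Localization.AtPrime m, inferInstance, inferInstance,
    Algebra.algebraMapSubmonoid (B ⊗[A] K) m.primeCompl,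
    IsLocalization.tensor (Localization.AtPrime m) m.primeCompl, ?_, ?_⟩
  · rw [Set.disjoint_left]
    rintro _ ⟨b, hb, rfl⟩ hbQ
    exact hb (hqm hbQ)
  · let eC : K ⊗[p.ResidueField] (p.ResidueField ⊗[A] Localization.AtPrime m) ≃ₐ[p.ResidueField]
        K ⊗[A] Localization.AtPrime m :=
      Algebra.TensorProduct.cancelBaseChange A p.ResidueField p.ResidueField K
        (Localization.AtPrime m)
    obtain ⟨e⟩ := Groth.Agent.Helper8.DescFib.nonempty_baseChange_equiv A B
      (Localization.AtPrime m) K
    exact hiso _ _ e.symm (hiso _ _ eC.toRingEquiv (h m))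

end main

end Groth.Agent.Helper8.LocTarget
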