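import Mathlib
import Groth.Prelude
import Groth.Agent.Lib.Helper8.Andre7
import Groth.Agent.Lib.Helper8.LocTarget1
import Groth.Agent.Lib.Helper8.PSeries2
import Groth.Agent.Lib.Helper8.AdicFS22
import Groth.Agent.Lib.Helper8.GRing1

/-!
# Power series rings over G-rings are regular algebras
-/

set_option autoImplicit false

universe u

namespace Groth.Agent.Helper8.Andre

open IsLocalRing TensorProduct CAlgX

section target

variable (A B : Type u) [CommRing A] [CommRing B] [Algebra A B] [IsNoetherianRing A]
  [IsNoetherianRing B]

omit [IsNoetherianRing A] in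
/-- Regularity of a homomorphism can be tested on the local rings of the target at its maximal
ideals. -/
theorem isRegularHom_of_forall_isMaximal
    (H : ∀ (m : Ideal B) [m.IsMaximal], CAlg.IsRegularHom A (Localization.AtPrime m)) :
    CAlg.IsRegularHom A B := by
  refine ⟨?_, fun p _ => ⟨Groth.Agent.Helper8.Fib.isNoetherianRing_fiber p, ?_⟩⟩
  · refine Module.flat_of_isLocalized_maximal B B (fun P _ => Localization.AtPrime P)
      (fun P _ => Algebra.linearMap B (Localization.AtPrime P)) ?_
    intro P hP
    exact (H P).1
  · intro K _ _ hfin
    haveI := hfin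
    haveI : IsNoetherianRing (p.Fiber B) := Groth.Agent.Helper8.Fib.isNoetherianRing_fiber p
    haveI : IsNoetherianRing (K ⊗[p.ResidueField] p.Fiber B) :=
      Groth.Agent.Helper8.CompFib.isNoetherianRing_tensor_of_finite _ _ _
    exact Groth.Agent.Helper8.LocTarget.local_fibre A B (fun R _ => IsRegularRing R)
      (fun R S _ _ e h => @IsRegularRing.of_ringEquiv R _ S _ e h)
      Groth.Agent.Helper8.LocTarget.isLocalProp_isRegularRing p K
      (fun m hm => (((H m).2 p).2 K hfin))

end target

section gring

variable (A B : Type u) [CommRing A] [CommRing B] [Algebra A B] [IsNoetherianRing B]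

/-- **André's theorem over a G-ring**: a Noetherian algebra over a G-ring which is formally smooth
for the adic topologies of its maximal ideals is regular. -/
theorem isRegularHom_of_isGRing_of_forall_isAdicFormallySmooth (hA : CAlg.IsGRing A)
    (H : ∀ (m : Ideal B) [m.IsMaximal], IsAdicFormallySmooth A B m) : CAlg.IsRegularHom A B := by
  haveI : IsNoetherianRing A := hA.1
  refine isRegularHom_of_forall_isMaximal A B (fun m hm => ?_)
  haveI := hm
  haveI : m.IsPrime := hm.isPrime
  let p : Ideal A := Ideal.comap (algebraMap A B) m
  haveI : p.IsPrime := Ideal.comap_isPrime _ _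
  letI : Algebra (Localization.AtPrime p) (Localization.AtPrime m) :=
    (Localization.localRingHom p m (algebraMap A B) rfl).toAlgebra
  haveI : IsScalarTower A (Localization.AtPrime p) (Localization.AtPrime m) :=
    IsScalarTower.of_algebraMap_eq (fun a => by
      show algebraMap A (Localization.AtPrime m) a =
        Localization.localRingHom p m (algebraMap A B) rfl (algebraMap A _ a)
      rw [Localization.localRingHom_to_map, ← IsScalarTower.algebraMap_apply])
  haveI : IsLocalHom (algebraMap (Localization.AtPrime p) (Localization.AtPrime m)) :=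
    Localization.isLocalHom_localRingHom p m (algebraMap A B) rfl
  haveI : IsNoetherianRing (Localization.AtPrime p) :=
    IsLocalization.isNoetherianRing p.primeCompl _ inferInstance
  haveI : IsNoetherianRing (Localization.AtPrime m) :=
    IsLocalization.isNoetherianRing m.primeCompl _ inferInstance
  have h1 : IsAdicFormallySmooth A (Localization.AtPrime m)
      (maximalIdeal (Localization.AtPrime m)) :=
    Groth.Agent.Helper8.AdicFS.localization (H m) m.primeCompl (Localization.AtPrime m) _
      (le_of_eq (Localization.AtPrime.map_eq_maximalIdeal))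
  have h2 : IsAdicFormallySmooth (Localization.AtPrime p) (Localization.AtPrime m)
      (maximalIdeal (Localization.AtPrime m)) :=
    Groth.Agent.Helper8.AdicFS.to_isLocalization_base p.primeCompl h1
  have h3 : CAlg.IsRegularHom (Localization.AtPrime p) (Localization.AtPrime m) :=
    isRegularHom_of_isAdicFormallySmooth_of_isRegularHom_cpl _ _ (hA.2 p) h2
  have h4 : CAlg.IsRegularHom A (Localization.AtPrime p) :=
    Groth.Agent.Helper8.GRing.isRegularHom_of_isLocalization p.primeCompl
  exact Groth.Agent.Helper8.CompFib.isRegularHom_comp A (Localization.AtPrime p)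
    (Localization.AtPrime m) h4 h3
    (fun P _ => Groth.Agent.Helper8.Fib.isNoetherianRing_fiber (S := Localization.AtPrime m) P)

end gring

section powerSeries

/-- The variables lie in every maximal ideal of a power series ring. -/
theorem X_mem_of_isMaximal {A : Type u} [CommRing A] {σ : Type*} (m : Ideal (MvPowerSeries σ A))
    [hm : m.IsMaximal] (i : σ) : (MvPowerSeries.X i : MvPowerSeries σ A) ∈ m := by
  by_contra hX
  obtain ⟨f, a, ha, hfa⟩ := hm.exists_inv hX
  have h1 : IsUnit a := by
    have : a = 1 - f * MvPowerSeries.X i := by rw [← hfa]; ring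
    rw [this, MvPowerSeries.isUnit_iff_constantCoeff]
    simp
  exact hm.ne_top (Ideal.eq_top_of_isUnit_mem _ ha h1)

/-- **S2704.** -/
theorem isRegularHom_mvPowerSeries (A : Type u) [CommRing A] (hA : CAlg.IsGRing A) (r : ℕ) :
    CAlg.IsRegularHom A (MvPowerSeries (Fin r) A) := by
  haveI : IsNoetherianRing A := hA.1
  refine isRegularHom_of_isGRing_of_forall_isAdicFormallySmooth A _ hA (fun m hm => ?_)
  haveI := hm
  exact Groth.Agent.Helper8.PSeries.isAdicFormallySmooth_mvPowerSeries A A r m
    (fun i => X_mem_of_isMaximal m i)

end powerSeries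

end Groth.Agent.Helper8.Andre
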