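import Mathlib
import Groth.Prelude
import Groth.Agent.Lib.Helper8.RegFS3
import Groth.Agent.Lib.Helper8.AdicFS22
import Groth.Agent.Lib.Helper8.DerExt

/-!
# Formal smoothness over a polynomial ring via a derivation; variants of the local criterion
-/

set_option autoImplicit false

universe u

namespace Groth.Agent.Helper8.PolyG

open IsLocalRing TensorProduct CAlgX Groth.Agent.Helper8.PSDer

section base

variable (A B : Type u) [CommRing A] [CommRing B] [Algebra A B] [IsNoetherianRing A]
  [IsNoetherianRing B]

/-- A regular homomorphism induces formally smooth local rings over the (unlocalized) base. -/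
theorem isAdicFormallySmooth_base_of_isRegularHom (h : CAlg.IsRegularHom A B) (q : Ideal B)
    [q.IsPrime] :
    IsAdicFormallySmooth A (Localization.AtPrime q) (maximalIdeal (Localization.AtPrime q)) := by
  let p : Ideal A := Ideal.comap (algebraMap A B) q
  letI : Algebra (Localization.AtPrime p) (Localization.AtPrime q) :=
    (Localization.localRingHom p q (algebraMap A B) rfl).toAlgebra
  haveI : IsScalarTower A (Localization.AtPrime p) (Localization.AtPrime q) :=
    IsScalarTower.of_algebraMap_eq (fun a => by
      show algebraMap A (Localization.AtPrime q) a =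
        Localization.localRingHom p q (algebraMap A B) rfl (algebraMap A _ a)
      rw [Localization.localRingHom_to_map, ← IsScalarTower.algebraMap_apply])
  have h1 : IsAdicFormallySmooth (Localization.AtPrime p) (Localization.AtPrime q)
      (maximalIdeal (Localization.AtPrime q)) :=
    Groth.Agent.Helper8.RegFS.isAdicFormallySmooth_of_isRegularHom A B h q
  exact Groth.Agent.Helper8.AdicFS.of_isLocalization_base p.primeCompl h1

/-- The converse, with the unlocalized base. -/
theorem isRegularHom_of_forall_isAdicFormallySmooth_base
    (H : ∀ (q : Ideal B) [q.IsPrime],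
      IsAdicFormallySmooth A (Localization.AtPrime q) (maximalIdeal (Localization.AtPrime q))) :
    CAlg.IsRegularHom A B := by
  refine Groth.Agent.Helper8.RegFS.isRegularHom_of_forall_isAdicFormallySmooth A B (fun q _ => ?_)
  let p : Ideal A := Ideal.comap (algebraMap A B) q
  letI : Algebra (Localization.AtPrime p) (Localization.AtPrime q) :=
    (Localization.localRingHom p q (algebraMap A B) rfl).toAlgebra
  haveI : IsScalarTower A (Localization.AtPrime p) (Localization.AtPrime q) :=
    IsScalarTower.of_algebraMap_eq (fun a => by
      show algebraMap A (Localization.AtPrime q) a =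
        Localization.localRingHom p q (algebraMap A B) rfl (algebraMap A _ a)
      rw [Localization.localRingHom_to_map, ← IsScalarTower.algebraMap_apply])
  exact Groth.Agent.Helper8.AdicFS.to_isLocalization_base p.primeCompl (H q)

end base

section derext

variable (A B : Type u) [CommRing A] [CommRing B] [Algebra A B]

/-- **Extension of derivations** along a formally smooth homomorphism (discrete version). -/
theorem exists_derivation_extension_discrete
    (hfs : IsAdicFormallySmooth A B ⊥) (D : Der A) :
    ∃ D' : Der B, ∀ a : A, D' (algebraMap A B a) = algebraMap A B (D a) := by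
  let T := TrivSqZeroExt B B
  letI : Algebra A T := (Groth.Agent.Helper8.DerExt.dualHom A B D).toAlgebra
  let I : Ideal T := RingHom.ker (TrivSqZeroExt.fstHom B B B).toRingHom
  have hmemI : ∀ x : T, x ∈ I ↔ x.fst = 0 := fun x => Iff.rfl
  have hI2 : I ^ 2 = ⊥ := by
    rw [eq_bot_iff, pow_two, Ideal.mul_le]
    intro x hx y hy
    rw [Ideal.mem_bot]
    have hx0 : x.fst = 0 := hx
    have hy0 : y.fst = 0 := hy
    ext
    · rw [TrivSqZeroExt.fst_mul, hx0, zero_mul, TrivSqZeroExt.fst_zero]
    · rw [TrivSqZeroExt.snd_mul, hx0, hy0]
      simp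
  let u : B →ₐ[A] T ⧸ I :=
    { (Ideal.Quotient.mk I).comp (TrivSqZeroExt.inlHom B B) with
      commutes' := by
        intro a
        show Ideal.Quotient.mk I (TrivSqZeroExt.inl (algebraMap A B a)) =
          Ideal.Quotient.mk I (Groth.Agent.Helper8.DerExt.dualHom A B D a)
        rw [Ideal.Quotient.eq, hmemI]
        show (TrivSqZeroExt.inl (algebraMap A B a) -
          (TrivSqZeroExt.inl (algebraMap A B a) +
            TrivSqZeroExt.inr (algebraMap A B (D a)))).fst = 0
        rw [TrivSqZeroExt.fst_sub, TrivSqZeroExt.fst_add, TrivSqZeroExt.fst_inl,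
          TrivSqZeroExt.fst_inr, add_zero, sub_self] }
  obtain ⟨v, hv⟩ := hfs T I hI2 u ⟨1, fun x hx => by
    rw [pow_one, Ideal.mem_bot] at hx
    rw [hx, map_zero]⟩
  have hfst : ∀ b : B, (v b).fst = b := by
    intro b
    have h1 : Ideal.Quotient.mk I (v b) = Ideal.Quotient.mk I (TrivSqZeroExt.inl b) :=
      congrArg (fun w : B →ₐ[A] T ⧸ I => w b) hv
    rw [Ideal.Quotient.eq, hmemI, TrivSqZeroExt.fst_sub, TrivSqZeroExt.fst_inl,
      sub_eq_zero] at h1
    exact h1
  refine ⟨mkDer
    { toFun := fun b => (v b).snd
      map_zero' := by rw [map_zero, TrivSqZeroExt.snd_zero]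
      map_add' := fun a b => by rw [map_add, TrivSqZeroExt.snd_add] } (fun a b => ?_), fun a => ?_⟩
  · show (v (a * b)).snd = a * (v b).snd + b * (v a).snd
    rw [map_mul, TrivSqZeroExt.snd_mul, hfst, hfst]
    simp only [smul_eq_mul, MulOpposite.smul_eq_mul_unop, MulOpposite.unop_op]
    ring
  · show (v (algebraMap A B a)).snd = _
    rw [v.commutes]
    show (TrivSqZeroExt.inl (algebraMap A B a) +
      TrivSqZeroExt.inr (algebraMap A B (D a)) : T).snd = _
    rw [TrivSqZeroExt.snd_add, TrivSqZeroExt.snd_inl, TrivSqZeroExt.snd_inr, zero_add]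

end derext

end Groth.Agent.Helper8.PolyG
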