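import Mathlib
import Groth.Prelude
import Groth.Agent.Lib.Helper8.PolyG1

/-!
# Formal smoothness over a polynomial ring via a derivation
-/

set_option autoImplicit false

universe u

namespace Groth.Agent.Helper8.PolyG

open IsLocalRing TensorProduct CAlgX Groth.Agent.Helper8.PSDer Polynomial

/-- **Cancellation.** If `D` is formally smooth over `A` and carries an `A`-derivation `δ` with
`δ t = 1`, where `t` is the image of the variable, then `D` is formally smooth over `A[t]`. -/
theorem isAdicFormallySmooth_polynomial_of_derivation (A D : Type u) [CommRing A] [CommRing D]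
    [Algebra A D] [Algebra A[X] D] [IsScalarTower A A[X] D] (𝔫 : Ideal D)
    (hfs : IsAdicFormallySmooth A D 𝔫) (δ : Der D)
    (hδA : ∀ a : A, δ (algebraMap A D a) = 0)
    (hδX : δ (algebraMap A[X] D X) = 1) :
    IsAdicFormallySmooth A[X] D 𝔫 := by
  intro E _ _ J hJ ψ hψ
  letI : Algebra A E := Algebra.compHom E (algebraMap A A[X])
  haveI : IsScalarTower A A[X] E := IsScalarTower.of_algebraMap_eq (fun _ => rfl)
  obtain ⟨χ₀, hχ₀⟩ := hfs E J hJ (ψ.restrictScalars A) hψ
  have hχ₀' : ∀ d : D, Ideal.Quotient.mk J (χ₀ d) = ψ d := fun d => AlgHom.congr_fun hχ₀ d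
  let n : E := algebraMap A[X] E X - χ₀ (algebraMap A[X] D X)
  have hn : n ∈ J := by
    rw [← Ideal.Quotient.eq_zero_iff_mem, map_sub, hχ₀', ψ.commutes]
    exact sub_self _
  have hn2 : n * n = 0 := by
    have : n * n ∈ J ^ 2 := by
      rw [pow_two]
      exact Ideal.mul_mem_mul hn hn
    rwa [hJ, Ideal.mem_bot] at this
  let χ : D →+* E :=
    { toFun := fun d => χ₀ d + n * χ₀ (δ d)
      map_one' := by
        rw [map_one, Derivation.map_one_eq_zero, map_zero, mul_zero, add_zero]
      map_mul' := fun a b => by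
        rw [Derivation.leibniz, map_mul, map_add, smul_eq_mul, smul_eq_mul, map_mul, map_mul]
        linear_combination (-(χ₀ (δ a) * χ₀ (δ b))) * hn2
      map_zero' := by
        rw [map_zero, map_zero, map_zero, mul_zero, add_zero]
      map_add' := fun a b => by
        rw [map_add, map_add, map_add]
        ring }
  have hχ : ∀ d, χ d = χ₀ d + n * χ₀ (δ d) := fun _ => rfl
  have hcomm : χ.comp (algebraMap A[X] D) = algebraMap A[X] E := by
    refine Polynomial.ringHom_ext (fun a => ?_) ?_
    · rw [RingHom.comp_apply, hχ]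
      have h1 : algebraMap A[X] D (C a) = algebraMap A D a :=
        (IsScalarTower.algebraMap_apply A A[X] D a).symm
      rw [h1, hδA, map_zero, mul_zero, add_zero, χ₀.commutes]
      rfl
    · rw [RingHom.comp_apply, hχ, hδX, map_one, mul_one]
      show χ₀ (algebraMap A[X] D X) + (algebraMap A[X] E X - χ₀ (algebraMap A[X] D X)) = _
      ring
  let χ' : D →ₐ[A[X]] E :=
    { χ with
      commutes' := fun f => RingHom.congr_fun hcomm f }
  refine ⟨χ', ?_⟩
  ext d
  show Ideal.Quotient.mk J (χ₀ d + n * χ₀ (δ d)) = ψ d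
  rw [map_add, map_mul, hχ₀', Ideal.Quotient.eq_zero_iff_mem.2 hn, zero_mul, add_zero]

end Groth.Agent.Helper8.PolyG
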