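import Mathlib
import Groth.Prelude
import Groth.Agent.Lib.Helper8.PolyG2
import Groth.Agent.Lib.Helper8.Andre8
import Groth.Agent.Lib.Helper8.GRing8

/-!
# Polynomial rings over G-rings are G-rings
-/

set_option autoImplicit false

universe u

namespace Groth.Agent.Helper8.PolyG

open IsLocalRing TensorProduct CAlgX Groth.Agent.Helper8.PSDer Polynomial

/-- The derivative, as a derivation over `ℤ`. -/
noncomputable def polyDer (A : Type u) [CommRing A] : Der A[X] :=
  mkDer ((Polynomial.derivative : A[X] →ₗ[A] A[X]) : A[X] →+ A[X]) (fun a b => by
    show Polynomial.derivative (a * b) = a * Polynomial.derivative b + b * Polynomial.derivative a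
    rw [Polynomial.derivative_mul]
    ring)

theorem polyDer_apply (A : Type u) [CommRing A] (f : A[X]) :
    polyDer A f = Polynomial.derivative f := rfl

section main

variable (A : Type u) [CommRing A] (hA : CAlg.IsGRing A) (P : Ideal A[X]) [P.IsPrime]

include hA in
/-- The local rings of `A[X]` have regular completion maps when `A` is a G-ring. -/
theorem isRegularHom_cpl_polynomial_atPrime :
    CAlg.IsRegularHom (Localization.AtPrime P) (EGA4.Cpl (Localization.AtPrime P)) := by
  haveI : IsNoetherianRing A := hA.1
  haveI : IsNoetherianRing (Localization.AtPrime P) :=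
    IsLocalization.isNoetherianRing P.primeCompl _ inferInstance
  haveI : IsNoetherianRing (EGA4.Cpl (Localization.AtPrime P)) :=
    Groth.Agent.Helper8.AdicReg.isNoetherianRing (Localization.AtPrime P) _
  -- formal smoothness of the completion over `A` and over `A[X]`
  haveI : Algebra.FormallySmooth A[X] (Localization.AtPrime P) :=
    Algebra.FormallySmooth.of_isLocalization P.primeCompl
  haveI : Algebra.FormallySmooth A (Localization.AtPrime P) :=
    Algebra.FormallySmooth.comp A A[X] (Localization.AtPrime P)
  have hfg : (maximalIdeal (Localization.AtPrime P)).FG :=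
    (maximalIdeal (Localization.AtPrime P)).fg_of_isNoetherianRing
  have h1 : IsAdicFormallySmooth A (EGA4.Cpl (Localization.AtPrime P))
      (maximalIdeal (EGA4.Cpl (Localization.AtPrime P))) := by
    have := Groth.Agent.Helper8.AdicFS.completion (R := A) (maximalIdeal (Localization.AtPrime P))
      hfg (Groth.Agent.Helper8.AdicFS.of_formallySmooth _)
    rwa [← AdicCompletion.maximalIdeal_eq_map] at this
  have h1' : IsAdicFormallySmooth A[X] (EGA4.Cpl (Localization.AtPrime P))
      (maximalIdeal (EGA4.Cpl (Localization.AtPrime P))) := by
    have := Groth.Agent.Helper8.AdicFS.completion (R := A[X])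
      (maximalIdeal (Localization.AtPrime P))
      hfg (Groth.Agent.Helper8.AdicFS.of_formallySmooth _)
    rwa [← AdicCompletion.maximalIdeal_eq_map] at this
  -- André
  have hreg : CAlg.IsRegularHom A (EGA4.Cpl (Localization.AtPrime P)) :=
    Groth.Agent.Helper8.Andre.isRegularHom_of_isGRing_of_forall_isAdicFormallySmooth A _ hA
      (fun m hm => by
        rw [IsLocalRing.eq_maximalIdeal hm]
        exact h1)
  -- the derivation on the completion
  obtain ⟨D₁, hD₁⟩ := Groth.Agent.Helper8.DerExt.exists_derivation_extension A[X]
    (EGA4.Cpl (Localization.AtPrime P)) h1' (polyDer A)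
  refine isRegularHom_of_forall_isAdicFormallySmooth_base _ _ (fun Q' _ => ?_)
  have hQA : IsAdicFormallySmooth A (Localization.AtPrime Q')
      (maximalIdeal (Localization.AtPrime Q')) :=
    isAdicFormallySmooth_base_of_isRegularHom A _ hreg Q'
  haveI : Algebra.FormallySmooth (EGA4.Cpl (Localization.AtPrime P)) (Localization.AtPrime Q') :=
    Algebra.FormallySmooth.of_isLocalization Q'.primeCompl
  obtain ⟨D₂, hD₂⟩ := exists_derivation_extension_discrete (EGA4.Cpl (Localization.AtPrime P))
    (Localization.AtPrime Q') (Groth.Agent.Helper8.AdicFS.of_formallySmooth _) D₁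
  have hD : ∀ f : A[X], D₂ (algebraMap A[X] (Localization.AtPrime Q') f) =
      algebraMap A[X] (Localization.AtPrime Q') (Polynomial.derivative f) := by
    intro f
    rw [IsScalarTower.algebraMap_apply A[X] (EGA4.Cpl (Localization.AtPrime P))
      (Localization.AtPrime Q'), hD₂, hD₁, polyDer_apply,
      ← IsScalarTower.algebraMap_apply A[X] (EGA4.Cpl (Localization.AtPrime P))
      (Localization.AtPrime Q')]
  have h5 : IsAdicFormallySmooth A[X] (Localization.AtPrime Q')
      (maximalIdeal (Localization.AtPrime Q')) := by
    refine isAdicFormallySmooth_polynomial_of_derivation A (Localization.AtPrime Q') _ hQA D₂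
      (fun a => ?_) ?_
    · rw [IsScalarTower.algebraMap_apply A A[X] (Localization.AtPrime Q'), hD,
        Polynomial.algebraMap_apply, Algebra.algebraMap_self, RingHom.id_apply,
        Polynomial.derivative_C, map_zero]
    · rw [hD, Polynomial.derivative_X, map_one]
  exact Groth.Agent.Helper8.AdicFS.to_isLocalization_base P.primeCompl h5

end main

end Groth.Agent.Helper8.PolyG
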