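import Mathlib
import Groth.Prelude
import Groth.Agent.Lib.Helper8.PolyG3

/-!
# Algebras of finite type over G-rings are G-rings
-/

set_option autoImplicit false

universe u

namespace Groth.Agent.Helper8.PolyG

open IsLocalRing TensorProduct CAlgX Polynomial

theorem isGRing_polynomial (A : Type u) [CommRing A] (hA : CAlg.IsGRing A) : CAlg.IsGRing A[X] := by
  haveI : IsNoetherianRing A := hA.1
  exact ⟨inferInstance, fun P _ => isRegularHom_cpl_polynomial_atPrime A hA P⟩

theorem isGRing_of_surjective {R S : Type u} [CommRing R] [CommRing S] (f : R →+* S)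
    (hf : Function.Surjective f) (h : CAlg.IsGRing R) : CAlg.IsGRing S := by
  letI : Algebra R S := f.toAlgebra
  haveI : Module.Finite R S := Module.Finite.of_surjective (Algebra.linearMap R S) hf
  exact Groth.Agent.Helper8.GRing.isGRing_of_finite R S h

theorem isGRing_of_ringEquiv {R S : Type u} [CommRing R] [CommRing S] (e : R ≃+* S)
    (h : CAlg.IsGRing R) : CAlg.IsGRing S :=
  isGRing_of_surjective (e : R →+* S) e.surjective h

theorem isGRing_mvPolynomial (A : Type u) [CommRing A] (hA : CAlg.IsGRing A) (n : ℕ) :
    CAlg.IsGRing (MvPolynomial (Fin n) A) := by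
  induction n with
  | zero => exact isGRing_of_ringEquiv (MvPolynomial.isEmptyAlgEquiv A (Fin 0)).symm.toRingEquiv hA
  | succ n ih =>
    exact isGRing_of_ringEquiv (MvPolynomial.finSuccEquiv A n).symm.toRingEquiv
      (isGRing_polynomial _ ih)

/-- **S0599.** -/
theorem isGRing_of_finiteType (R : Type u) [CommRing R] (hR : CAlg.IsGRing R) (S : Type u)
    [CommRing S] [Algebra R S] [Algebra.FiniteType R S] : CAlg.IsGRing S := by
  obtain ⟨n, f, hf⟩ := Algebra.FiniteType.iff_quotient_mvPolynomial''.1
    (inferInstance : Algebra.FiniteType R S)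
  exact isGRing_of_surjective (f : MvPolynomial (Fin n) R →+* S) hf (isGRing_mvPolynomial R hR n)

end Groth.Agent.Helper8.PolyG
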