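import Mathlib
import Groth.Prelude
import Groth.Agent.Lib.Helper8.GorFlat9

/-!
# Gorenstein rings are Cohen–Macaulay; tensor products of fields
-/

set_option autoImplicit false
universe u

namespace Groth.Agent.Helper8.GorFlat

open IsLocalRing LocCoh TensorProduct

theorem isCohenMacaulayRing_of_isGorensteinRing (R : Type u) [CommRing R]
    (h : IsGorensteinRing R) : IsCohenMacaulayRing R :=
  { isCohenMacaulayLocalRing_localization := fun p _ => by
      haveI := h.isGorensteinLocalRing_localization p
      exact Goren.isCohenMacaulayLocalRing_of_isGorensteinLocalRing (Localization.AtPrime p) }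

/-- `K ⊗ L` is Gorenstein when one of the two field extensions is finitely generated. -/
theorem isGorensteinRing_tensor_fields (k K L : Type u) [Field k] [Field K] [Field L]
    [Algebra k K] [Algebra k L] (h : Algebra.EssFiniteType k K ∨ Algebra.EssFiniteType k L) :
    IsGorensteinRing (K ⊗[k] L) := by
  rcases h with h | h
  · obtain ⟨s, hs⟩ := IntermediateField.fg_top k K
    exact isGorensteinRing_tensor_of_fg k K L ⟨s, hs⟩ (isGorensteinRing_of_field L)
  · obtain ⟨s, hs⟩ := IntermediateField.fg_top k L
    exact isGorensteinRing_of_ringEquiv (Algebra.TensorProduct.comm k L K).toRingEquiv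
      (isGorensteinRing_tensor_of_fg k L K ⟨s, hs⟩ (isGorensteinRing_of_field K))

/-- **S2614.** -/
theorem isCohenMacaulayRing_tensor_fields (k K L : Type u) [Field k] [Field K] [Field L]
    [Algebra k K] [Algebra k L] (h : Algebra.EssFiniteType k K ∨ Algebra.EssFiniteType k L) :
    IsCohenMacaulayRing (K ⊗[k] L) :=
  isCohenMacaulayRing_of_isGorensteinRing _ (isGorensteinRing_tensor_fields k K L h)

end Groth.Agent.Helper8.GorFlat
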