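import Mathlib
import Groth.Prelude
import Groth.Agent.Lib.Helper8.SkBase1
import Groth.Agent.Lib.Helper8.GorFlat11

/-!
# Codepth and `(S_n)` under extension of the base field
-/

set_option autoImplicit false
universe u

namespace Groth.Agent.Helper8.SkBase

open IsLocalRing LocCoh Groth.Agent.Helper8.FlatReg Groth.Agent.Helper8.Fib
  Groth.Agent.Helper8.Depth TensorProduct

section tensor

variable (k S k' : Type u) [Field k] [CommRing S] [Algebra k S] [Field k'] [Algebra k k']

/-- The fibre local rings of `S → S ⊗ k'` satisfy `(S_n)` when `κ(p) ⊗ k'` is Cohen–Macaulay. -/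
theorem skLocal_fibLocRing_tensor (Q : Ideal (S ⊗[k] k')) [Q.IsPrime]
    (hfib : IsCohenMacaulayRing ((Q.comap (algebraMap S (S ⊗[k] k'))).ResidueField ⊗[k] k'))
    [IsLocalRing (EGA4.FibLocRing S (S ⊗[k] k') Q)] (n : ℕ) :
    SkLocal n (EGA4.FibLocRing S (S ⊗[k] k') Q) := by
  set p := Q.comap (algebraMap S (S ⊗[k] k')) with hp
  have e2 : (p.ResidueField ⊗[k] k') ≃+* p.Fiber (S ⊗[k] k') :=
    (Algebra.TensorProduct.cancelBaseChange k S p.ResidueField p.ResidueField k').toRingEquiv.symm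
  have hG : IsCohenMacaulayRing (p.Fiber (S ⊗[k] k')) :=
    CplQuot.isCohenMacaulayRing_of_ringEquiv e2 hfib
  haveI : IsNoetherianRing (p.Fiber (S ⊗[k] k')) := inferInstance
  exact skLocal_fibLocRing_of_fiber n p
    ((isCohenMacaulayRing_iff_forall_hasSk _).mp hG n) Q rfl

theorem isCohenMacaulayRing_residueField_tensor [IsNoetherianRing S]
    (hft : Algebra.FiniteType k S ∨ Algebra.EssFiniteType k k') (p : Ideal S) [p.IsPrime] :
    IsCohenMacaulayRing (p.ResidueField ⊗[k] k') := by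
  rcases hft with h | h
  · haveI : Algebra.EssFiniteType k p.ResidueField :=
      Algebra.EssFiniteType.comp k S p.ResidueField
    exact GorFlat.isCohenMacaulayRing_tensor_fields k p.ResidueField k' (Or.inl inferInstance)
  · exact GorFlat.isCohenMacaulayRing_tensor_fields k p.ResidueField k' (Or.inr h)

/-- **S2699.** -/
theorem codepth_and_hasSkAt_tensor [IsNoetherianRing S]
    (hft : Algebra.FiniteType k S ∨ Algebra.EssFiniteType k k') [IsNoetherianRing (S ⊗[k] k')]
    (q' : Ideal (S ⊗[k] k')) [q'.IsPrime] (n : ℕ) :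
    (ringKrullDim (Localization.AtPrime (q'.comap (algebraMap S (S ⊗[k] k')))) +
        ((LocCoh.depth (Localization.AtPrime q') (Localization.AtPrime q') : ℕ∞) : WithBot ℕ∞) =
      ringKrullDim (Localization.AtPrime q') +
        ((LocCoh.depth (Localization.AtPrime (q'.comap (algebraMap S (S ⊗[k] k'))))
          (Localization.AtPrime (q'.comap (algebraMap S (S ⊗[k] k')))) : ℕ∞) : WithBot ℕ∞)) ∧
    (EGA4.HasSkAt n S S (q'.comap (algebraMap S (S ⊗[k] k'))) ↔
      EGA4.HasSkAt n (S ⊗[k] k') (S ⊗[k] k') q') := by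
  have hfib : ∀ (Q : Ideal (S ⊗[k] k')) [Q.IsPrime]
      [IsLocalRing (EGA4.FibLocRing S (S ⊗[k] k') Q)] (m : ℕ),
      SkLocal m (EGA4.FibLocRing S (S ⊗[k] k') Q) := fun Q _ _ m =>
    skLocal_fibLocRing_tensor k S k' Q (isCohenMacaulayRing_residueField_tensor k S k' hft _) m
  haveI := nontrivial_fibLocRing S (S ⊗[k] k') q'
  refine ⟨codepth_eq_of_cm_fibre S (S ⊗[k] k') q' (hfib q'), ?_, ?_⟩
  · intro h
    exact hasSkAt_ascent S (S ⊗[k] k') n q' (fun Q _ _ _ => hfib Q n) h
  · intro h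
    exact hasSkAt_descent S (S ⊗[k] k') n q' h

end tensor

end Groth.Agent.Helper8.SkBase
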