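import Mathlib
import Groth.Prelude
import Groth.Agent.Lib.Helper8.SkBase2

/-!
# `(S_n)` for tensor products over a field
-/

set_option autoImplicit false
universe u

namespace Groth.Agent.Helper8.SkBase

open IsLocalRing LocCoh Groth.Agent.Helper8.FlatReg Groth.Agent.Helper8.Fib
  Groth.Agent.Helper8.Depth TensorProduct

section tensor

variable (k T K : Type u) [Field k] [CommRing T] [Algebra k T] [Field K] [Algebra k K]

/-- `(S_n)` ascends to `T ⊗ K` for a field extension `K`. -/
theorem hasSk_tensor_field [IsNoetherianRing T]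
    (hft : Algebra.FiniteType k T ∨ Algebra.EssFiniteType k K) [IsNoetherianRing (T ⊗[k] K)]
    (n : ℕ) (hT : HasSk n T T) : HasSk n (T ⊗[k] K) (T ⊗[k] K) := by
  refine hasSk_of_flat_of_fibres n hT fun p _ => ?_
  have e2 : (p.ResidueField ⊗[k] K) ≃+* p.Fiber (T ⊗[k] K) :=
    (Algebra.TensorProduct.cancelBaseChange k T p.ResidueField p.ResidueField K).toRingEquiv.symm
  have hG : IsCohenMacaulayRing (p.Fiber (T ⊗[k] K)) :=
    CplQuot.isCohenMacaulayRing_of_ringEquiv e2
      (isCohenMacaulayRing_residueField_tensor k T K hft p)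
  haveI : IsNoetherianRing (p.Fiber (T ⊗[k] K)) := inferInstance
  exact (isCohenMacaulayRing_iff_forall_hasSk _).mp hG n

end tensor

section tensor2

variable (k S T : Type u) [Field k] [CommRing S] [CommRing T] [Algebra k S] [Algebra k T]
  [IsNoetherianRing S] [IsNoetherianRing T]

/-- **S2694.** -/
theorem hasSk_tensor (n : ℕ) (hft : Algebra.FiniteType k S ∨ Algebra.FiniteType k T)
    [IsNoetherianRing (S ⊗[k] T)] (hS : HasSk n S S) (hT : HasSk n T T) :
    HasSk n (S ⊗[k] T) (S ⊗[k] T) := by
  refine hasSk_of_flat_of_fibres n hS fun p _ => ?_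
  have e2 : (p.ResidueField ⊗[k] T) ≃+* p.Fiber (S ⊗[k] T) :=
    (Algebra.TensorProduct.cancelBaseChange k S p.ResidueField p.ResidueField T).toRingEquiv.symm
  haveI : IsNoetherianRing (p.Fiber (S ⊗[k] T)) := isNoetherianRing_fiber p
  haveI : IsNoetherianRing (p.ResidueField ⊗[k] T) := isNoetherianRing_of_ringEquiv _ e2.symm
  haveI : IsNoetherianRing (T ⊗[k] p.ResidueField) :=
    isNoetherianRing_of_ringEquiv _ (Algebra.TensorProduct.comm k p.ResidueField T).toRingEquiv
  have hft' : Algebra.FiniteType k T ∨ Algebra.EssFiniteType k p.ResidueField := by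
    rcases hft with h | h
    · right
      exact Algebra.EssFiniteType.comp k S p.ResidueField
    · exact Or.inl h
  have h1 : HasSk n (T ⊗[k] p.ResidueField) (T ⊗[k] p.ResidueField) :=
    hasSk_tensor_field k T p.ResidueField hft' n hT
  exact CplQuot.hasSk_of_ringEquiv
    ((Algebra.TensorProduct.comm k T p.ResidueField).toRingEquiv.trans e2) n h1

end tensor2

end Groth.Agent.Helper8.SkBase
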