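import Mathlib
import Groth.Prelude
import Groth.Agent.Lib.Helper8.PolyG4
import Groth.Agent.Lib.Helper8.GRing11
import Groth.Agent.Lib.Helper8.GRBase6
import Groth.Agent.Lib.Helper8.SkBase3
import Groth.Agent.Lib.Helper8.CplMap3
import Groth.Agent.Lib.Helper8.DescFib1

/-!
# Local rings essentially of finite type: a local model over the completion of the base
-/

set_option autoImplicit false

universe u

namespace Groth.Agent.Helper8.EssFT

open IsLocalRing TensorProduct LocCoh

/-- An algebra essentially of finite type over a G-ring is a G-ring. -/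
theorem isGRing_of_essFiniteType (R : Type u) [CommRing R] (hR : CAlg.IsGRing R) (S : Type u)
    [CommRing S] [Algebra R S] [Algebra.EssFiniteType R S] : CAlg.IsGRing S :=
  Groth.Agent.Helper8.GRing.isGRing_of_isLocalization (Algebra.EssFiniteType.submonoid R S)
    (Groth.Agent.Helper8.PolyG.isGRing_of_finiteType R hR (Algebra.EssFiniteType.subalgebra R S))

/-- Localizations of Cohen–Macaulay rings are Cohen–Macaulay. -/
theorem isCohenMacaulayRing_of_isLocalization {R L : Type u} [CommRing R] [CommRing L]
    [Algebra R L] (M : Submonoid R) [IsLocalization M L] (h : IsCohenMacaulayRing R) :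
    IsCohenMacaulayRing L := by
  haveI : IsNoetherianRing R := inferInstance
  haveI : IsNoetherianRing L := IsLocalization.isNoetherianRing M L inferInstance
  rw [Groth.Agent.Helper8.Fib.isCohenMacaulayRing_iff_forall_hasSk] at h ⊢
  intro k
  have hk := h k
  rw [Groth.Agent.Helper8.FlatReg.hasSk_self_iff_skLocal] at hk ⊢
  intro Q _
  haveI : IsLocalization.AtPrime (Localization.AtPrime Q) (Q.comap (algebraMap R L)) :=
    IsLocalization.isLocalization_isLocalization_atPrime_isLocalization M _ Q
  let e : Localization.AtPrime (Q.comap (algebraMap R L)) ≃ₐ[R] Localization.AtPrime Q :=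
    IsLocalization.algEquiv (Q.comap (algebraMap R L)).primeCompl _ _
  exact Groth.Agent.Helper8.FlatReg.skLocal_of_ringEquiv k e.toRingEquiv
    (hk (Q.comap (algebraMap R L)))

section model

variable (A B A' : Type u) [CommRing A] [CommRing B] [CommRing A'] [IsNoetherianRing B]
  [IsLocalRing B] [Algebra A B] [Algebra A A'] [Module.FaithfullyFlat A A']
  [Algebra.EssFiniteType A B]

omit [IsNoetherianRing B] [IsLocalRing B] [Module.FaithfullyFlat A A'] in
theorem isGRing_tensor (hA' : CAlg.IsGRing A') : CAlg.IsGRing (B ⊗[A] A') :=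
  Groth.Agent.Helper8.PolyG.isGRing_of_ringEquiv (Algebra.TensorProduct.comm A A' B).toRingEquiv
    (isGRing_of_essFiniteType A' hA' (A' ⊗[A] B))

/-- A prime of `B ⊗ A'` over the maximal ideal of `B`. -/
theorem exists_prime_over_maximalIdeal :
    ∃ (n' : Ideal (B ⊗[A] A')) (_ : n'.IsPrime),
      n'.comap (algebraMap B (B ⊗[A] A')) = maximalIdeal B := by
  obtain ⟨n', hn', hlo⟩ := Ideal.exists_isPrime_liesOver_of_faithfullyFlat (B := B ⊗[A] A')
    (maximalIdeal B)
  exact ⟨n', hn', hlo.over.symm⟩

end model

end Groth.Agent.Helper8.EssFT
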