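import Mathlib
import Groth.Prelude
import Groth.Agent.Lib.Helper8.EssFT1
import Groth.Agent.S9126

/-!
# Excellent rings: algebras essentially of finite type
-/

set_option autoImplicit false

universe u

namespace Groth.Agent.Helper8.Exc

open IsLocalRing TensorProduct

/-- The regular locus of a localization is the preimage of the regular locus. -/
theorem regLocus_of_isLocalization {R L : Type u} [CommRing R] [CommRing L] [Algebra R L]
    (M : Submonoid R) [IsLocalization M L] :
    EGA4.regLocus L = PrimeSpectrum.comap (algebraMap R L) ⁻¹' EGA4.regLocus R := by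
  ext Q
  haveI : IsLocalization.AtPrime (Localization.AtPrime Q.asIdeal)
      (Q.asIdeal.comap (algebraMap R L)) :=
    IsLocalization.isLocalization_isLocalization_atPrime_isLocalization M _ Q.asIdeal
  let e : Localization.AtPrime (Q.asIdeal.comap (algebraMap R L)) ≃ₐ[R]
      Localization.AtPrime Q.asIdeal :=
    IsLocalization.algEquiv (Q.asIdeal.comap (algebraMap R L)).primeCompl _ _
  constructor
  · intro h
    haveI : IsRegularLocalRing (Localization.AtPrime Q.asIdeal) := h
    exact IsRegularLocalRing.of_ringEquiv (R := Localization.AtPrime Q.asIdeal) e.symm.toRingEquiv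
  · intro h
    haveI : IsRegularLocalRing (Localization.AtPrime (Q.asIdeal.comap (algebraMap R L))) := h
    exact IsRegularLocalRing.of_ringEquiv
      (R := Localization.AtPrime (Q.asIdeal.comap (algebraMap R L))) e.toRingEquiv

/-- The regular locus of an algebra essentially of finite type over a J-2 ring is open. -/
theorem isOpen_regLocus_of_essFiniteType (A : Type u) [CommRing A] (hA : EGA4.IsJ2 A)
    (B : Type u) [CommRing B] [Algebra A B] [Algebra.EssFiniteType A B] :
    IsOpen (EGA4.regLocus B) := by
  rw [regLocus_of_isLocalization (Algebra.EssFiniteType.submonoid A B)]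
  exact (hA (Algebra.EssFiniteType.subalgebra A B) inferInstance).preimage
    (PrimeSpectrum.continuous_comap _)

/-- J-2 passes to algebras essentially of finite type. -/
theorem isJ2_of_essFiniteType (A : Type u) [CommRing A] (hA : EGA4.IsJ2 A)
    (B : Type u) [CommRing B] [Algebra A B] [Algebra.EssFiniteType A B] : EGA4.IsJ2 B := by
  intro C _ _ hC
  letI : Algebra A C := ((algebraMap B C).comp (algebraMap A B)).toAlgebra
  haveI : IsScalarTower A B C := IsScalarTower.of_algebraMap_eq fun x => rfl
  haveI : Algebra.FiniteType B C := hC
  haveI : Algebra.EssFiniteType A C := Algebra.EssFiniteType.comp A B C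
  exact isOpen_regLocus_of_essFiniteType A hA C

/-- Excellence passes to algebras essentially of finite type. -/
theorem isExcellent_of_essFiniteType (A : Type u) [CommRing A] (hA : EGA4.IsExcellent A)
    (B : Type u) [CommRing B] [Algebra A B] [Algebra.EssFiniteType A B] : EGA4.IsExcellent B := by
  obtain ⟨hN, hUC, hG, hJ⟩ := hA
  haveI := hN
  have hUB := Groth.Agent.S9126.result A B hUC
  exact ⟨hUB.1, hUB, Groth.Agent.Helper8.EssFT.isGRing_of_essFiniteType A hG B,
    isJ2_of_essFiniteType A hJ B⟩

/-- Quasi-excellence passes to algebras essentially of finite type. -/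
theorem isQuasiExcellent_of_essFiniteType (A : Type u) [CommRing A]
    (hA : EGA4.IsQuasiExcellent A)
    (B : Type u) [CommRing B] [Algebra A B] [Algebra.EssFiniteType A B] :
    EGA4.IsQuasiExcellent B := by
  obtain ⟨hN, hG, hJ⟩ := hA
  haveI := hN
  exact ⟨Algebra.EssFiniteType.isNoetherianRing A B,
    Groth.Agent.Helper8.EssFT.isGRing_of_essFiniteType A hG B, isJ2_of_essFiniteType A hJ B⟩

end Groth.Agent.Helper8.Exc
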