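import Mathlib
import Groth.Prelude
import Groth.Agent.Lib.Helper8.LocTarget1

/-!
# Finite domains with prescribed fraction field, and their generic fibres
-/

set_option autoImplicit false

universe u

namespace Groth.Agent.Helper8.FinDom

open IsLocalRing TensorProduct

section construct

theorem algebraMap_ne_zero_of_notMem (A : Type u) [CommRing A] (p : Ideal A) [p.IsPrime]
    (K : Type u) [Field K] [Algebra p.ResidueField K]
    [Algebra A K] [IsScalarTower A p.ResidueField K] {a : A} (ha : a ∉ p) :
    algebraMap A K a ≠ 0 := by
  rw [IsScalarTower.algebraMap_apply A p.ResidueField K]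
  intro h
  have h1 : algebraMap A p.ResidueField a = 0 :=
    (map_eq_zero_iff _ (algebraMap p.ResidueField K).injective).1 h
  exact ha (Ideal.algebraMap_residueField_eq_zero.1 h1)

/-- A finite extension of `κ(p)` is the fraction field of a finite `A`-subalgebra. -/
theorem exists_finite_subalgebra_isFractionRing (A : Type u) [CommRing A] (p : Ideal A)
    [p.IsPrime] (K : Type u) [Field K] [Algebra p.ResidueField K] [Module.Finite p.ResidueField K]
    [Algebra A K] [IsScalarTower A p.ResidueField K] :
    ∃ B : Subalgebra A K, Module.Finite A B ∧ IsFractionRing B K := by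
  classical
  letI : Algebra (A ⧸ p) K :=
    ((algebraMap p.ResidueField K).comp (algebraMap (A ⧸ p) p.ResidueField)).toAlgebra
  haveI : IsScalarTower (A ⧸ p) p.ResidueField K := .of_algebraMap_eq' rfl
  haveI : IsScalarTower A (A ⧸ p) K := .of_algebraMap_eq (fun a => by
    rw [IsScalarTower.algebraMap_apply A p.ResidueField K]
    rfl)
  obtain ⟨s, b, hb⟩ := FiniteDimensional.exists_is_basis_integral (A ⧸ p) p.ResidueField K
  haveI : Algebra.IsIntegral A (A ⧸ p) := Algebra.IsIntegral.of_finite A (A ⧸ p)
  have hbA : ∀ x, IsIntegral A (b x) := fun x => isIntegral_trans (A := A ⧸ p) _ (hb x)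
  let B : Subalgebra A K := Algebra.adjoin A (Set.range b)
  have hfg : (B.toSubmodule).FG := fg_adjoin_of_finite (Set.finite_range b) (by
    rintro _ ⟨x, rfl⟩
    exact hbA x)
  have hfin : Module.Finite A B := ⟨(Submodule.fg_top _).mpr hfg⟩
  refine ⟨B, hfin, ?_⟩
  haveI : FaithfulSMul B K := (faithfulSMul_iff_algebraMap_injective B K).mpr Subtype.val_injective
  -- every element has a denominator in `A ∖ p`
  have key : ∀ z : K, ∃ (a : A) (x : B), a ∉ p ∧ algebraMap A K a * z = (x : K) := by
    intro z
    have hz : z ∈ Submodule.span p.ResidueField (Set.range b) := by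
      rw [b.span_eq]
      exact Submodule.mem_top
    induction hz using Submodule.span_induction with
    | mem z hz =>
      exact ⟨1, ⟨z, Algebra.subset_adjoin hz⟩, fun h => Ideal.IsPrime.ne_top inferInstance
        ((Ideal.eq_top_iff_one _).2 h), by simp⟩
    | zero =>
      exact ⟨1, 0, fun h => Ideal.IsPrime.ne_top inferInstance
        ((Ideal.eq_top_iff_one _).2 h), by simp⟩
    | add z z' _ _ hz hz' =>
      obtain ⟨a, x, ha, hx⟩ := hz
      obtain ⟨a', x', ha', hx'⟩ := hz'
      refine ⟨a * a', a' • x + a • x', fun h => ?_, ?_⟩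
      · rcases Ideal.IsPrime.mem_or_mem inferInstance h with h | h
        · exact ha h
        · exact ha' h
      · rw [Subalgebra.coe_add, Subalgebra.coe_smul, Subalgebra.coe_smul, ← hx, ← hx',
          Algebra.smul_def, Algebra.smul_def, map_mul]
        ring
    | smul c z _ hz =>
      obtain ⟨a, x, ha, hx⟩ := hz
      obtain ⟨r, t, ht, rfl⟩ := IsFractionRing.div_surjective (A := A ⧸ p) c
      obtain ⟨r, rfl⟩ := Ideal.Quotient.mk_surjective r
      obtain ⟨t, rfl⟩ := Ideal.Quotient.mk_surjective t
      have htp : t ∉ p := by
        intro h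
        have h0 : (Ideal.Quotient.mk p t) = 0 := Ideal.Quotient.eq_zero_iff_mem.2 h
        rw [h0] at ht
        exact zero_notMem_nonZeroDivisors ht
      refine ⟨t * a, r • x, fun h => ?_, ?_⟩
      · rcases Ideal.IsPrime.mem_or_mem inferInstance h with h | h
        · exact htp h
        · exact ha h
      · have ht0 : algebraMap A p.ResidueField t ≠ 0 := fun h =>
          htp (Ideal.algebraMap_residueField_eq_zero.1 h)
        rw [Subalgebra.coe_smul, ← hx, Algebra.smul_def, Algebra.smul_def, map_mul,
          IsScalarTower.algebraMap_apply A p.ResidueField K t,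
          IsScalarTower.algebraMap_apply A p.ResidueField K r,
          Ideal.algebraMap_quotient_residueField_mk, Ideal.algebraMap_quotient_residueField_mk,
          map_div₀]
        have ht1 : algebraMap p.ResidueField K (algebraMap A p.ResidueField t) ≠ 0 := fun h =>
          ht0 ((map_eq_zero_iff _ (algebraMap p.ResidueField K).injective).1 h)
        field_simp
  refine IsFractionRing.of_field (R := B) K (fun z => ?_)
  obtain ⟨a, x, ha, hx⟩ := key z
  refine ⟨x, algebraMap A B a, ?_⟩
  have h1 : algebraMap B K (algebraMap A B a) = algebraMap A K a :=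
    (IsScalarTower.algebraMap_apply A B K a).symm
  have h2 : algebraMap B K x = (x : K) := rfl
  rw [h1, h2, ← hx, mul_div_cancel_left₀ _ (algebraMap_ne_zero_of_notMem A p K ha)]

end construct

end Groth.Agent.Helper8.FinDom
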