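import Mathlib
import Groth.Prelude
import Groth.Agent.Lib.Helper8.FinDom1

/-!
# Local rings of fibres versus local rings of `B ⊗ C` over the generic point of a finite domain
-/

set_option autoImplicit false

universe u

namespace Groth.Agent.Helper8.FinDom

open IsLocalRing TensorProduct

section general

/-- Local rings of a ring isomorphic to a localization. -/
theorem exists_ringEquiv_of_isLocalization {X T : Type u} (L : Type u) [CommRing X] [CommRing T]
    [CommRing L] [Algebra T L] (N : Submonoid T) [IsLocalization N L] (e : X ≃+* L)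
    (Q : Ideal X) [Q.IsPrime] :
    ∃ (q : Ideal T) (_ : q.IsPrime),
      q = (Q.comap (e.symm : L →+* X)).comap (algebraMap T L) ∧
      Nonempty (Localization.AtPrime Q ≃+* Localization.AtPrime q) := by
  let Q₁ : Ideal L := Q.comap (e.symm : L →+* X)
  haveI : Q₁.IsPrime := Ideal.comap_isPrime _ _
  have hQ : Q = Q₁.comap (e : X →+* L) := by
    ext x
    simp [Q₁]
  let ε : Localization.AtPrime Q ≃+* Localization.AtPrime Q₁ :=
    Localization.localRingEquiv Q Q₁ e hQ
  refine ⟨Q₁.comap (algebraMap T L), Ideal.comap_isPrime _ _, rfl, ?_⟩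
  haveI h1 : IsLocalization.AtPrime (Localization.AtPrime Q₁) (Q₁.comap (algebraMap T L)) :=
    IsLocalization.isLocalization_isLocalization_atPrime_isLocalization N
      (Localization.AtPrime Q₁) Q₁
  exact ⟨ε.trans (IsLocalization.algEquiv (Q₁.comap (algebraMap T L)).primeCompl
    (Localization.AtPrime Q₁) (Localization.AtPrime (Q₁.comap (algebraMap T L)))).toRingEquiv⟩

end general

section backward

/-- The case of a given finite domain with fraction field `K`. -/
theorem exists_prime_of_isFractionRing (A C : Type u) [CommRing A] [CommRing C] [Algebra A C]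
    (p : Ideal A) [p.IsPrime] (K : Type u) [Field K] [Algebra p.ResidueField K]
    [Algebra A K] [IsScalarTower A p.ResidueField K]
    (B : Type u) [CommRing B] [IsDomain B] [Algebra A B] [Algebra B K] [IsScalarTower A B K]
    [IsFractionRing B K]
    (Q : Ideal (K ⊗[p.ResidueField] p.Fiber C)) [Q.IsPrime] :
    ∃ (q : Ideal (B ⊗[A] C)) (_ : q.IsPrime),
      q.comap (algebraMap B (B ⊗[A] C)) = ⊥ ∧
      Nonempty (Localization.AtPrime (R := K ⊗[p.ResidueField] p.Fiber C) Q ≃+*
        Localization.AtPrime q) := by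
  haveI hloc : IsLocalization (Algebra.algebraMapSubmonoid (B ⊗[A] C) (nonZeroDivisors B))
      ((B ⊗[A] C) ⊗[B] K) := IsLocalization.tensor K (nonZeroDivisors B)
  let e1 : K ⊗[p.ResidueField] (p.ResidueField ⊗[A] C) ≃ₐ[p.ResidueField] K ⊗[A] C :=
    Algebra.TensorProduct.cancelBaseChange A p.ResidueField p.ResidueField K C
  let e2 : K ⊗[B] (B ⊗[A] C) ≃ₐ[B] K ⊗[A] C :=
    Algebra.TensorProduct.cancelBaseChange A B B K C
  let e3 : (B ⊗[A] C) ⊗[B] K ≃ₐ[B] K ⊗[B] (B ⊗[A] C) := Algebra.TensorProduct.comm B _ _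
  let e : K ⊗[p.ResidueField] p.Fiber C ≃+* (B ⊗[A] C) ⊗[B] K :=
    e1.toRingEquiv.trans (e2.symm.toRingEquiv.trans e3.symm.toRingEquiv)
  obtain ⟨q, hq, hqeq, ⟨ε'⟩⟩ := exists_ringEquiv_of_isLocalization
    (X := K ⊗[p.ResidueField] p.Fiber C) ((B ⊗[A] C) ⊗[B] K)
    (Algebra.algebraMapSubmonoid (B ⊗[A] C) (nonZeroDivisors B)) e Q
  refine ⟨q, hq, ?_, ⟨ε'⟩⟩
  rw [eq_bot_iff]
  intro b hb
  rw [Ideal.mem_bot]
  by_contra hne
  let ι := algebraMap (B ⊗[A] C) ((B ⊗[A] C) ⊗[B] K)
  have h1 : ι (algebraMap B (B ⊗[A] C) b) ∈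
      Q.comap (e.symm : (B ⊗[A] C) ⊗[B] K →+* _) := by
    rw [hqeq] at hb
    exact hb
  haveI : (Q.comap (e.symm : (B ⊗[A] C) ⊗[B] K →+* _)).IsPrime := Ideal.comap_isPrime _ _
  have h2 : IsUnit (ι (algebraMap B (B ⊗[A] C) b)) :=
    IsLocalization.map_units ((B ⊗[A] C) ⊗[B] K)
      (⟨algebraMap B (B ⊗[A] C) b, ⟨b, mem_nonZeroDivisors_of_ne_zero hne, rfl⟩⟩ :
        Algebra.algebraMapSubmonoid (B ⊗[A] C) (nonZeroDivisors B))
  exact Ideal.IsPrime.ne_top inferInstance (Ideal.eq_top_of_isUnit_mem _ h1 h2)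

/-- Every local ring of `K ⊗ (fibre of C at p)`, `K` finite over `κ(p)`, is a local ring of
`B ⊗ C` over the generic point of a finite domain `B` over `A`. -/
theorem exists_finite_domain (A C : Type u) [CommRing A] [CommRing C] [Algebra A C]
    (p : Ideal A) [p.IsPrime] (K : Type u) [Field K] [Algebra p.ResidueField K]
    [Module.Finite p.ResidueField K] :
    ∃ (B : Type u) (_ : CommRing B) (_ : IsDomain B) (_ : Algebra A B) (_ : Module.Finite A B),
      ∀ (Q : Ideal (K ⊗[p.ResidueField] p.Fiber C)) [Q.IsPrime],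
        ∃ (q : Ideal (B ⊗[A] C)) (_ : q.IsPrime),
          q.comap (algebraMap B (B ⊗[A] C)) = ⊥ ∧
          Nonempty (Localization.AtPrime (R := K ⊗[p.ResidueField] p.Fiber C) Q ≃+*
            Localization.AtPrime q) := by
  letI i4 : Algebra A K :=
    ((algebraMap p.ResidueField K).comp (algebraMap A p.ResidueField)).toAlgebra
  haveI t4 : IsScalarTower A p.ResidueField K := .of_algebraMap_eq' rfl
  obtain ⟨B, hfin, hfrac⟩ := exists_finite_subalgebra_isFractionRing A p K
  haveI := hfrac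
  refine ⟨B, inferInstance, inferInstance, inferInstance, hfin, ?_⟩
  intro Q _
  exact exists_prime_of_isFractionRing A C p K B Q

end backward

section forward

/-- Every local ring of `T` over the generic point of the domain `B` is a local ring of the
generic fibre. -/
theorem exists_fiber_prime_bot (B T : Type u) [CommRing B] [IsDomain B] [CommRing T] [Algebra B T]
    (q : Ideal T) [q.IsPrime] (hq : q.comap (algebraMap B T) = ⊥) :
    ∃ (Q : Ideal ((⊥ : Ideal B).Fiber T)) (_ : Q.IsPrime),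
      Nonempty (Localization.AtPrime Q ≃+* Localization.AtPrime q) := by
  haveI hloc : IsLocalization (Algebra.algebraMapSubmonoid T (nonZeroDivisors B))
      (T ⊗[B] (⊥ : Ideal B).ResidueField) :=
    IsLocalization.tensor (⊥ : Ideal B).ResidueField (nonZeroDivisors B)
  have hd : Disjoint ((Algebra.algebraMapSubmonoid T (nonZeroDivisors B) : Submonoid T) : Set T)
      (q : Set T) := by
    rw [Set.disjoint_left]
    rintro _ ⟨b, hb, rfl⟩ hbq
    have h1 : b ∈ q.comap (algebraMap B T) := hbq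
    rw [hq, Ideal.mem_bot] at h1
    exact (nonZeroDivisors.ne_zero hb) h1
  obtain ⟨Q', hQ', ⟨ε⟩⟩ := Groth.Agent.Helper8.LocTarget.exists_ringEquiv_atPrime
    (T ⊗[B] (⊥ : Ideal B).ResidueField) (Algebra.algebraMapSubmonoid T (nonZeroDivisors B)) q hd
  haveI := hQ'
  let e : (⊥ : Ideal B).ResidueField ⊗[B] T ≃+* T ⊗[B] (⊥ : Ideal B).ResidueField :=
    (Algebra.TensorProduct.comm B _ _).toRingEquiv
  let Q : Ideal ((⊥ : Ideal B).Fiber T) := Q'.comap (e : _ →+* _)
  haveI : Q.IsPrime := Ideal.comap_isPrime _ _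
  exact ⟨Q, inferInstance, ⟨(Localization.localRingEquiv Q Q' e rfl).trans ε⟩⟩

end forward

end Groth.Agent.Helper8.FinDom
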