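import Mathlib
import Groth.Prelude
import Groth.Agent.Lib.Helper8.FinDom2
import Groth.Agent.Lib.Helper8.GRing8
import Groth.Agent.Lib.Helper8.CompFib2
import Groth.Agent.S9293
import Groth.Agent.Lib.Helper8.GRBase6

/-!
# Formal fibres tested on finite domains (regular and reduced versions)
-/

set_option autoImplicit false

universe u

namespace Groth.Agent.Helper8.FinDom

open IsLocalRing TensorProduct

section regular

/-- The local rings over the generic point of the target of a regular homomorphism from a domain
are regular. -/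
theorem isRegularLocalRing_of_isRegularHom_bot (B T : Type u) [CommRing B] [IsDomain B]
    [CommRing T] [Algebra B T] (h : CAlg.IsRegularHom B T) (q : Ideal T) [q.IsPrime]
    (hq : q.comap (algebraMap B T) = ⊥) : IsRegularLocalRing (Localization.AtPrime q) := by
  obtain ⟨hN, hGR⟩ := h.2 (⊥ : Ideal B)
  have h1 : IsRegularRing ((⊥ : Ideal B).ResidueField ⊗[(⊥ : Ideal B).ResidueField]
      (⊥ : Ideal B).Fiber T) :=
    hGR (⊥ : Ideal B).ResidueField inferInstance
  haveI h2 : IsRegularRing ((⊥ : Ideal B).Fiber T) :=
    @IsRegularRing.of_ringEquiv _ _ _ _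
      (Algebra.TensorProduct.lid (⊥ : Ideal B).ResidueField _).toRingEquiv h1
  obtain ⟨Q, hQ, ⟨ε⟩⟩ := exists_fiber_prime_bot B T q hq
  haveI := hQ
  haveI : IsRegularLocalRing (Localization.AtPrime Q) := inferInstance
  exact IsRegularLocalRing.of_ringEquiv (R := Localization.AtPrime Q) ε

variable (A : Type u) [CommRing A] [IsNoetherianRing A] [IsLocalRing A]

theorem isRegularHom_cpl_iff_finite_domains :
    CAlg.IsRegularHom A (EGA4.Cpl A) ↔
      ∀ (B : Type u) [CommRing B] [IsDomain B] [Algebra A B] [Module.Finite A B]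
        (q : Ideal (B ⊗[A] EGA4.Cpl A)) [q.IsPrime],
        q.comap (algebraMap B (B ⊗[A] EGA4.Cpl A)) = ⊥ →
          IsRegularLocalRing (Localization.AtPrime q) := by
  haveI : IsNoetherianRing (EGA4.Cpl A) := Groth.Agent.Helper8.AdicReg.isNoetherianRing A _
  constructor
  · intro h B _ _ _ _ q _ hq
    have hDR : CAlg.IsRegularHom B (B ⊗[A] EGA4.Cpl A) := Groth.Agent.S9293.result A _ B h
    exact isRegularLocalRing_of_isRegularHom_bot B _ hDR q hq
  · intro H
    refine Groth.Agent.Helper8.GRing.isRegularHom_cpl_of_fibres A (fun p _ K _ _ hfin => ?_)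
    haveI := hfin
    haveI : IsNoetherianRing (p.Fiber (EGA4.Cpl A)) :=
      Groth.Agent.Helper8.Fib.isNoetherianRing_fiber p
    haveI : IsNoetherianRing (K ⊗[p.ResidueField] p.Fiber (EGA4.Cpl A)) :=
      Groth.Agent.Helper8.CompFib.isNoetherianRing_tensor_of_finite _ _ K
    obtain ⟨B, iB, iD, iA, iF, hB⟩ := exists_finite_domain A (EGA4.Cpl A) p K
    rw [isRegularRing_iff]
    intro Q _
    obtain ⟨q, hq, hq0, ⟨ε⟩⟩ := hB Q
    haveI := hq
    haveI := H B q hq0
    exact IsRegularLocalRing.of_ringEquiv (R := Localization.AtPrime q) ε.symm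

end regular

section reduced

open Groth.Agent.Helper8.GRBase in
/-- The residue field of the generic point of a finite domain is algebraic over the residue field
of its image. -/
theorem isAlgebraic_resAlgebra_bot (A B : Type u) [CommRing A] [CommRing B] [IsDomain B]
    [Algebra A B] [Module.Finite A B] :
    letI := resAlgebra A B (⊥ : Ideal B)
    Algebra.IsAlgebraic ((⊥ : Ideal B).comap (algebraMap A B)).ResidueField
      (⊥ : Ideal B).ResidueField := by
  letI := resAlgebra A B (⊥ : Ideal B)
  haveI := resAlgebra_isScalarTower A B (⊥ : Ideal B)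
  haveI : Algebra.IsIntegral A B := Algebra.IsIntegral.of_finite A B
  haveI : Algebra.IsIntegral ((⊥ : Ideal B).comap (algebraMap A B)).ResidueField
      (⊥ : Ideal B).ResidueField := ⟨fun z => by
    obtain ⟨x, y, hy, rfl⟩ := IsFractionRing.div_surjective (A := B) z
    have hx' : IsIntegral ((⊥ : Ideal B).comap (algebraMap A B)).ResidueField
        (algebraMap B (⊥ : Ideal B).ResidueField x) :=
      ((Algebra.IsIntegral.isIntegral (R := A) x).algebraMap).tower_top
    have hy' : IsIntegral ((⊥ : Ideal B).comap (algebraMap A B)).ResidueField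
        (algebraMap B (⊥ : Ideal B).ResidueField y) :=
      ((Algebra.IsIntegral.isIntegral (R := A) y).algebraMap).tower_top
    rw [div_eq_mul_inv]
    exact hx'.mul hy'.inv⟩
  exact Algebra.IsIntegral.isAlgebraic

open Groth.Agent.Helper8.GRBase in
/-- The generic fibre of `B → B ⊗ C` is reduced when the fibre of `C` over the image of the generic
point is geometrically reduced. -/
theorem isReduced_fiber_bot (A C B : Type u) [CommRing A] [CommRing C] [Algebra A C] [CommRing B]
    [IsDomain B] [Algebra A B] [Module.Finite A B]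
    (h : Algebra.IsGeometricallyReduced ((⊥ : Ideal B).comap (algebraMap A B)).ResidueField
      (((⊥ : Ideal B).comap (algebraMap A B)).Fiber C)) :
    IsReduced ((⊥ : Ideal B).Fiber (B ⊗[A] C)) := by
  letI := resAlgebra A B (⊥ : Ideal B)
  haveI := resAlgebra_isScalarTower A B (⊥ : Ideal B)
  haveI := isAlgebraic_resAlgebra_bot A B
  haveI := h
  haveI h1 : IsReduced ((⊥ : Ideal B).ResidueField ⊗[((⊥ : Ideal B).comap
      (algebraMap A B)).ResidueField] (((⊥ : Ideal B).comap (algebraMap A B)).Fiber C)) :=
    inferInstance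
  exact isReduced_of_injective (fibreEquiv A C B (⊥ : Ideal B)).toRingEquiv
    (fibreEquiv A C B (⊥ : Ideal B)).injective

/-- Reducedness of the local rings over the generic point. -/
theorem isReduced_localization_of_fiber_bot (B T : Type u) [CommRing B] [IsDomain B]
    [CommRing T] [Algebra B T] (h : IsReduced ((⊥ : Ideal B).Fiber T)) (q : Ideal T) [q.IsPrime]
    (hq : q.comap (algebraMap B T) = ⊥) : IsReduced (Localization.AtPrime q) := by
  obtain ⟨Q, hQ, ⟨ε⟩⟩ := exists_fiber_prime_bot B T q hq
  haveI := hQ
  haveI : IsReduced (Localization.AtPrime Q) :=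
    isReduced_localizationPreserves (R := (⊥ : Ideal B).Fiber T) Q.primeCompl
      (Localization.AtPrime Q) h
  exact isReduced_of_injective ε.symm ε.symm.injective

variable (A : Type u) [CommRing A] [IsNoetherianRing A] [IsLocalRing A]

omit [IsNoetherianRing A] in
theorem hasGeomReducedFormalFibres_iff_finite_domains :
    EGA4.HasGeomReducedFormalFibres A ↔
      ∀ (B : Type u) [CommRing B] [IsDomain B] [Algebra A B] [Module.Finite A B]
        (q : Ideal (B ⊗[A] EGA4.Cpl A)) [q.IsPrime],
        q.comap (algebraMap B (B ⊗[A] EGA4.Cpl A)) = ⊥ →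
          IsReduced (Localization.AtPrime q) := by
  constructor
  · intro h B _ _ _ _ q _ hq
    have h1 : IsReduced ((⊥ : Ideal B).Fiber (B ⊗[A] EGA4.Cpl A)) :=
      isReduced_fiber_bot A (EGA4.Cpl A) B (h _)
    exact isReduced_localization_of_fiber_bot B _ h1 q hq
  · intro H p _
    apply Groth.Agent.Helper8.CompFib.isGeometricallyReduced_of_forall_finite
    intro K _ _ hfin
    haveI := hfin
    obtain ⟨B, iB, iD, iA, iF, hB⟩ := exists_finite_domain A (EGA4.Cpl A) p K
    refine isReduced_ofLocalizationMaximal _ (fun Q hQ => ?_)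
    haveI : Q.IsPrime := hQ.isPrime
    obtain ⟨q, hq, hq0, ⟨ε⟩⟩ := hB Q
    haveI := hq
    haveI := H B q hq0
    exact isReduced_of_injective ε ε.injective

end reduced

end Groth.Agent.Helper8.FinDom
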