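import Mathlib
import Groth.Prelude
import Groth.Agent.Lib.Helper8.Nag2
import Groth.Agent.Lib.Helper8.FinDom3

/-!
# Local rings with geometrically reduced formal fibres are Nagata rings
-/

set_option autoImplicit false

universe u

namespace Groth.Agent.Helper8.Nag

open IsLocalRing TensorProduct

/-- A flat algebra over a domain with reduced generic fibre is reduced. -/
theorem isReduced_of_flat_of_fiber_bot (B T : Type u) [CommRing B] [IsDomain B] [CommRing T]
    [Algebra B T] [Module.Flat B T] (h : IsReduced ((⊥ : Ideal B).Fiber T)) : IsReduced T := by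
  have hinj : Function.Injective (algebraMap B (⊥ : Ideal B).ResidueField) :=
    IsFractionRing.injective B _
  exact isReduced_of_injective
    (Algebra.TensorProduct.includeRight : T →ₐ[B] (⊥ : Ideal B).ResidueField ⊗[B] T)
    (Algebra.TensorProduct.includeRight_injective hinj)

section local_ring

variable (A : Type u) [CommRing A] [IsNoetherianRing A] [IsLocalRing A]

/-- The completed base change of a finite domain over a local ring with geometrically reduced
formal fibres is reduced. -/
theorem isReduced_tensor_cpl (hA : EGA4.HasGeomReducedFormalFibres A) (C : Type u) [CommRing C]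
    [IsDomain C] [Algebra A C] [Module.Finite A C] : IsReduced (C ⊗[A] EGA4.Cpl A) := by
  have h1 : IsReduced ((⊥ : Ideal C).Fiber (C ⊗[A] EGA4.Cpl A)) :=
    Groth.Agent.Helper8.FinDom.isReduced_fiber_bot A (EGA4.Cpl A) C (hA _)
  exact isReduced_of_flat_of_fiber_bot C _ h1

attribute [local instance] Algebra.TensorProduct.rightAlgebra in
/-- Finite domains over a local ring with geometrically reduced formal fibres are N-1. -/
theorem isN1_of_finite_of_geomReduced (hA : EGA4.HasGeomReducedFormalFibres A) (C : Type u)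
    [CommRing C] [IsDomain C] [Algebra A C] [Module.Finite A C] : CAlg.IsN1 C := by
  haveI : IsNoetherianRing (EGA4.Cpl A) := Groth.Agent.Helper8.AdicReg.isNoetherianRing A _
  haveI : Module.FaithfullyFlat A (EGA4.Cpl A) := Module.FaithfullyFlat.of_flat_of_isLocalHom
  haveI : IsNoetherianRing C :=
    isNoetherian_of_tower A (isNoetherian_of_isNoetherianRing_of_finite A C)
  haveI : Module.Finite (EGA4.Cpl A) (C ⊗[A] EGA4.Cpl A) :=
    Module.Finite.equiv (Algebra.TensorProduct.commRight A (EGA4.Cpl A) C).toLinearEquiv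
  haveI : IsNoetherianRing (C ⊗[A] EGA4.Cpl A) :=
    isNoetherian_of_tower (EGA4.Cpl A)
      (isNoetherian_of_isNoetherianRing_of_finite (EGA4.Cpl A) (C ⊗[A] EGA4.Cpl A))
  haveI : IsReduced (C ⊗[A] EGA4.Cpl A) := isReduced_tensor_cpl A hA C
  refine Groth.Agent.Helper8.N1Desc.isN1_of_faithfullyFlat C (C ⊗[A] EGA4.Cpl A) fun q _ _ => ?_
  haveI : IsAdicComplete (maximalIdeal (EGA4.Cpl A ⧸ q.under (EGA4.Cpl A)))
      (EGA4.Cpl A ⧸ q.under (EGA4.Cpl A)) :=
    Groth.Agent.Helper8.CohenFact.isAdicComplete_of_surjective (Ideal.Quotient.mk _)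
      Ideal.Quotient.mk_surjective
  have h1 : CAlg.IsN2 (EGA4.Cpl A ⧸ q.under (EGA4.Cpl A)) := isN2_of_complete_domain _
  have h2 : CAlg.IsN2 ((C ⊗[A] EGA4.Cpl A) ⧸ q) :=
    isN2_of_finite_injective (EGA4.Cpl A ⧸ q.under (EGA4.Cpl A)) _
      (FaithfulSMul.algebraMap_injective _ _) h1
  exact isN1_of_isN2 _ h2

/-- **S2657.** A Noetherian local ring with geometrically reduced formal fibres is Nagata. -/
theorem isNagata_of_geomReduced (hA : EGA4.HasGeomReducedFormalFibres A) : CAlg.IsNagata A := by
  refine ⟨inferInstance, fun p _ L _ _ _ _ hfin => ?_⟩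
  haveI : FiniteDimensional (FractionRing (A ⧸ p)) L := hfin
  letI : Algebra A L := ((algebraMap (A ⧸ p) L).comp (algebraMap A (A ⧸ p))).toAlgebra
  haveI : IsScalarTower A (A ⧸ p) L := IsScalarTower.of_algebraMap_eq fun _ => rfl
  refine Groth.Agent.Lib.Helper6.Japanese.key_n2 (A ⧸ p) L fun C hC => ?_
  haveI : Module.Finite (A ⧸ p) C := hC
  haveI : Module.Finite A C := Module.Finite.trans (A ⧸ p) C
  exact isN1_of_finite_of_geomReduced A hA C

end local_ring

end Groth.Agent.Helper8.Nag
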