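import Mathlib
import Groth.Prelude
import Groth.Agent.Lib.Helper8.Nag3
import Groth.Agent.Lib.Helper8.Exc1
import Groth.Agent.S12125

/-!
# Quasi-excellent rings are Nagata rings
-/

set_option autoImplicit false

universe u

namespace Groth.Agent.Helper8.Nag

open IsLocalRing TensorProduct

/-- Regular formal fibres are geometrically reduced. -/
theorem hasGeomReducedFormalFibres_of_isRegularHom (A : Type u) [CommRing A] [IsLocalRing A]
    (h : CAlg.IsRegularHom A (EGA4.Cpl A)) : EGA4.HasGeomReducedFormalFibres A := by
  intro p _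
  refine Groth.Agent.Helper8.CompFib.isGeometricallyReduced_of_forall_finite _ _
    fun K _ _ hfin => ?_
  haveI : IsRegularRing (K ⊗[p.ResidueField] p.Fiber (EGA4.Cpl A)) := (h.2 p).2 K hfin
  exact Groth.Agent.Helper8.CompFib.isReduced_of_isRegularRing _

/-- The localization of a domain at the zero ideal is a regular local ring. -/
theorem isRegularLocalRing_atPrime_bot (B : Type u) [CommRing B] [IsDomain B] :
    IsRegularLocalRing (Localization.AtPrime (⊥ : Ideal B)) := by
  have h0 : maximalIdeal (Localization.AtPrime (⊥ : Ideal B)) = ⊥ := by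
    rw [← Localization.AtPrime.map_eq_maximalIdeal, Ideal.map_bot]
  haveI : IsNoetherianRing (Localization.AtPrime (⊥ : Ideal B)) := by
    have hf : IsField (Localization.AtPrime (⊥ : Ideal B)) :=
      IsLocalRing.isField_iff_maximalIdeal_eq.2 h0
    haveI := hf.isPrincipalIdealRing
    infer_instance
  apply IsRegularLocalRing.of_spanFinrank_maximalIdeal_le
  rw [h0]
  simpa using ringKrullDim_nonneg_of_nontrivial

/-- In a domain of finite type over a J-2 ring, some nonempty principal open is normal. -/
theorem exists_isIntegrallyClosed_away (B : Type u) [CommRing B] [IsDomain B]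
    (hopen : IsOpen (EGA4.regLocus B)) :
    ∃ f : B, f ≠ 0 ∧ IsIntegrallyClosed (Localization.Away f) := by
  have hbot : (⊥ : PrimeSpectrum B) ∈ EGA4.regLocus B := isRegularLocalRing_atPrime_bot B
  obtain ⟨U, ⟨f, rfl⟩, hfU, hsub⟩ :=
    PrimeSpectrum.isTopologicalBasis_basic_opens.exists_subset_of_mem_open hbot hopen
  have hf0 : f ≠ 0 := by
    intro h
    rw [h] at hfU
    exact hfU (Ideal.zero_mem _)
  refine ⟨f, hf0, ?_⟩
  haveI : IsDomain (Localization.Away f) :=
    IsLocalization.isDomain_localization (powers_le_nonZeroDivisors_of_noZeroDivisors hf0)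
  refine IsIntegrallyClosed.of_localization_maximal fun Q _ hQ => ?_
  haveI : Q.IsPrime := hQ.isPrime
  have h1 : (⟨Q, inferInstance⟩ : PrimeSpectrum (Localization.Away f)) ∈
      EGA4.regLocus (Localization.Away f) := by
    rw [Groth.Agent.Helper8.Exc.regLocus_of_isLocalization (Submonoid.powers f)]
    apply hsub
    show f ∉ Q.comap (algebraMap B (Localization.Away f))
    intro hfQ
    exact ‹Q.IsPrime›.ne_top (Ideal.eq_top_of_isUnit_mem _ hfQ
      (IsLocalization.map_units (M := Submonoid.powers f) _ ⟨f, Submonoid.mem_powers f⟩))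
  haveI : IsRegularLocalRing (Localization.AtPrime Q) := h1
  exact Groth.Agent.Helper8.Serre.isIntegrallyClosed_of_isRegularLocalRing _

/-- **S2654.** A quasi-excellent ring is a Nagata ring. -/
theorem isNagata_of_isQuasiExcellent (A : Type u) [CommRing A] (hA : EGA4.IsQuasiExcellent A) :
    CAlg.IsNagata A := by
  obtain ⟨hN, hG, hJ⟩ := hA
  haveI := hN
  rw [Groth.Agent.S12125.result A]
  refine ⟨fun m _ P _ => ?_, fun p _ K' _ _ _ _ _ _ B' hfin _ => ?_⟩
  · haveI : IsNoetherianRing (Localization.AtPrime m) :=
      IsLocalization.isNoetherianRing m.primeCompl _ inferInstance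
    exact (isNagata_of_geomReduced (Localization.AtPrime m)
      (hasGeomReducedFormalFibres_of_isRegularHom _ (hG.2 m))).2 P
  · letI : Algebra A K' := ((algebraMap (A ⧸ p) K').comp (algebraMap A (A ⧸ p))).toAlgebra
    haveI : IsScalarTower A (A ⧸ p) K' := IsScalarTower.of_algebraMap_eq fun _ => rfl
    haveI : Module.Finite (A ⧸ p) B' := hfin
    haveI : Algebra.FiniteType (A ⧸ p) B' := Module.Finite.finiteType _
    haveI : Algebra.FiniteType A B' := Algebra.FiniteType.trans
      (inferInstance : Algebra.FiniteType A (A ⧸ p)) inferInstance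
    exact exists_isIntegrallyClosed_away B' (hJ B' inferInstance)

end Groth.Agent.Helper8.Nag
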