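import Mathlib
import Groth.Prelude
import Groth.Agent.Lib.Helper8.Nag4

/-!
# Reduced local rings with geometrically normal formal fibres
-/

set_option autoImplicit false

universe u

namespace Groth.Agent.Helper8.Nag

open IsLocalRing TensorProduct

/-- A flat algebra over a reduced Noetherian ring is reduced if its base changes to the quotients by
the minimal primes are reduced. -/
theorem isReduced_of_flat_of_minimalPrimes (A T : Type u) [CommRing A] [IsNoetherianRing A]
    [IsReduced A] [CommRing T] [Algebra A T] [Module.Flat A T]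
    (h : ∀ (q : Ideal A) [q.IsPrime], q ∈ minimalPrimes A → IsReduced ((A ⧸ q) ⊗[A] T)) :
    IsReduced T := by
  classical
  haveI : Finite {q : Ideal A // q ∈ minimalPrimes A} :=
    (minimalPrimes.finite_of_isNoetherianRing A).to_subtype
  cases nonempty_fintype {q : Ideal A // q ∈ minimalPrimes A}
  let f : A →ₗ[A] (∀ q : {q : Ideal A // q ∈ minimalPrimes A}, A ⧸ q.1) :=
    LinearMap.pi fun q => (Ideal.Quotient.mkₐ A q.1).toLinearMap
  have hf : Function.Injective f := by
    rw [injective_iff_map_eq_zero]
    intro a ha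
    refine Groth.Agent.Lib.Helper4.Nagata1.injective_pi_minimalPrimes A a fun q hq => ?_
    have h1 := congrFun ha ⟨q, hq⟩
    exact Ideal.Quotient.eq_zero_iff_mem.1 h1
  have hg : Function.Injective (f.rTensor T) :=
    Module.Flat.rTensor_preserves_injective_linearMap f hf
  refine ⟨fun x hx => ?_⟩
  have h1 : (1 : A) ⊗ₜ[A] x = 0 := by
    apply hg
    rw [map_zero]
    apply (TensorProduct.piLeft A T
      (fun q : {q : Ideal A // q ∈ minimalPrimes A} => A ⧸ q.1)).injective
    rw [map_zero]
    funext q
    haveI : q.1.IsPrime := q.2.1.1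
    haveI := h q.1 q.2
    have h2 : IsNilpotent ((Algebra.TensorProduct.includeRight :
        T →ₐ[A] (A ⧸ q.1) ⊗[A] T) x) := hx.map _
    have h3 := h2.eq_zero
    simpa [f] using h3
  have h2 := congrArg (TensorProduct.lid A T) h1
  simpa using h2

/-- A normal ring is reduced. -/
theorem isReduced_of_isNormalRing (T : Type u) [CommRing T] (h : EGA4.IsNormalRing T) :
    IsReduced T :=
  isReduced_ofLocalizationMaximal T fun J hJ => by
    haveI : J.IsPrime := hJ.isPrime
    haveI : IsDomain (Localization.AtPrime J) := (h J).1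
    infer_instance

/-- Geometrically normal formal fibres are geometrically reduced. -/
theorem hasGeomReducedFormalFibres_of_geomNormal (A : Type u) [CommRing A] [IsLocalRing A]
    (h : EGA4.HasGeomNormalFormalFibres A) : EGA4.HasGeomReducedFormalFibres A := by
  intro p _
  refine Groth.Agent.Helper8.CompFib.isGeometricallyReduced_of_forall_finite _ _
    fun K _ _ hfin => ?_
  exact isReduced_of_isNormalRing _ (h p K hfin)

section total

variable (A : Type u) [CommRing A] [IsNoetherianRing A] [IsReduced A]

/-- The total ring of fractions of a reduced Noetherian ring embeds into the product of the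
fraction fields of the quotients by the minimal primes. -/
theorem finite_integralClosure_fractionRing (hN : ∀ (p : Ideal A) [p.IsPrime], CAlg.IsN2 (A ⧸ p)) :
    Module.Finite A (integralClosure A (FractionRing A)) := by
  classical
  haveI : Finite {q : Ideal A // q ∈ minimalPrimes A} :=
    (minimalPrimes.finite_of_isNoetherianRing A).to_subtype
  haveI hprime : ∀ q : {q : Ideal A // q ∈ minimalPrimes A}, q.1.IsPrime := fun q => q.2.1.1
  have hunit : ∀ (q : {q : Ideal A // q ∈ minimalPrimes A}) (y : nonZeroDivisors A),
      IsUnit (Algebra.ofId A (FractionRing (A ⧸ q.1)) y) := by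
    intro q y
    have h1 : (y : A) ∉ q.1 := fun h =>
      Set.disjoint_left.1 (Ideal.disjoint_nonZeroDivisors_of_mem_minimalPrimes q.2) h y.2
    rw [isUnit_iff_ne_zero]
    intro h0
    have h2 : algebraMap (A ⧸ q.1) (FractionRing (A ⧸ q.1)) (algebraMap A (A ⧸ q.1) y) = 0 := by
      rw [← IsScalarTower.algebraMap_apply]; exact h0
    have h3 := (IsFractionRing.injective (A ⧸ q.1) (FractionRing (A ⧸ q.1)))
      (h2.trans (map_zero _).symm)
    exact h1 (Ideal.Quotient.eq_zero_iff_mem.1 h3)
  let ψ : FractionRing A →ₐ[A] (∀ q : {q : Ideal A // q ∈ minimalPrimes A},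
      FractionRing (A ⧸ q.1)) :=
    AlgHom.pi fun q => IsLocalization.liftAlgHom (M := nonZeroDivisors A)
      (f := Algebra.ofId A (FractionRing (A ⧸ q.1))) (hunit q)
  refine Groth.Agent.Lib.Helper4.Nagata1.finite_integralClosure_of_embedding A hN (FractionRing A)
    (fun q : {q : Ideal A // q ∈ minimalPrimes A} => FractionRing (A ⧸ q.1)) ψ ?_
  rw [injective_iff_map_eq_zero]
  intro z hz
  obtain ⟨a, s, rfl⟩ := IsLocalization.exists_mk'_eq (nonZeroDivisors A) z
  have ha : a = 0 := by
    refine Groth.Agent.Lib.Helper4.Nagata1.injective_pi_minimalPrimes A a fun q hq => ?_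
    have h1 := congrFun hz ⟨q, hq⟩
    haveI : q.IsPrime := hq.1.1
    have h2 : IsLocalization.liftAlgHom (M := nonZeroDivisors A)
        (f := Algebra.ofId A (FractionRing (A ⧸ q))) (hunit ⟨q, hq⟩)
        (IsLocalization.mk' (FractionRing A) a s) = 0 := h1
    rw [IsLocalization.liftAlgHom_apply, IsLocalization.lift_mk'_spec, mul_zero] at h2
    have h3 : Algebra.ofId A (FractionRing (A ⧸ q)) a = 0 := h2
    have h5 : algebraMap (A ⧸ q) (FractionRing (A ⧸ q)) (algebraMap A (A ⧸ q) a) = 0 := by
      rw [← IsScalarTower.algebraMap_apply]; exact h3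
    have h6 := (IsFractionRing.injective (A ⧸ q) (FractionRing (A ⧸ q)))
      (h5.trans (map_zero _).symm)
    exact Ideal.Quotient.eq_zero_iff_mem.1 h6
  rw [ha, IsLocalization.mk'_zero]

end total

/-- **S2646.** -/
theorem isReduced_cpl_and_finite_of_geomNormal (A : Type u) [CommRing A] [IsNoetherianRing A]
    [IsLocalRing A] [IsReduced A] (hA : EGA4.HasGeomNormalFormalFibres A) :
    IsReduced (EGA4.Cpl A) ∧ Module.Finite A (integralClosure A (FractionRing A)) := by
  have hA' := hasGeomReducedFormalFibres_of_geomNormal A hA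
  refine ⟨?_, finite_integralClosure_fractionRing A (isNagata_of_geomReduced A hA').2⟩
  refine isReduced_of_flat_of_minimalPrimes A (EGA4.Cpl A) fun q _ _ => ?_
  exact isReduced_tensor_cpl A hA' (A ⧸ q)

end Groth.Agent.Helper8.Nag
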