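import Mathlib
import Groth.Prelude
import Groth.Agent.Lib.Helper8.Nag12
import Groth.Agent.Lib.Helper8.Nag11
import Groth.Agent.Lib.Helper8.Nag5
import Groth.Agent.Lib.Helper8.GRing3
import Groth.Agent.Lib.Helper7.Hensel.FiniteLocal
import Groth.Agent.Lib.Helper7.Adic.Cofinal

/-!
# The Jacobson-adic completion of a finite algebra over a Noetherian local ring
-/

set_option autoImplicit false
universe u

namespace Groth.Agent.Helper8.Nag

open IsLocalRing TensorProduct

section TM

variable (A : Type u) [CommRing A] [IsNoetherianRing A] [IsLocalRing A]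

/-- For an `A`-algebra killed by `𝔪ⁿ`, tensoring with the completion does nothing. -/
theorem includeLeft_bijective_of_pow_eq_zero (D : Type u) [CommRing D] [Algebra A D] (n : ℕ)
    (hD : ∀ a ∈ (maximalIdeal A) ^ n, algebraMap A D a = 0) :
    Function.Bijective (Algebra.TensorProduct.includeLeft : D →ₐ[A] D ⊗[A] EGA4.Cpl A) := by
  haveI : Module.FaithfullyFlat A (EGA4.Cpl A) := Module.FaithfullyFlat.of_flat_of_isLocalHom
  constructor
  · intro d d' h
    apply Module.FaithfullyFlat.tensorProduct_mk_injective (A := A) (B := EGA4.Cpl A) D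
    have := congrArg (TensorProduct.comm A D (EGA4.Cpl A)) h
    simpa using this
  · have hzero : ∀ (d : D) (μ : EGA4.Cpl A),
        μ ∈ ((maximalIdeal A) ^ n).map (algebraMap A (EGA4.Cpl A)) → d ⊗ₜ[A] μ = 0 := by
      intro d μ hμ
      refine Submodule.span_induction (p := fun μ _ => d ⊗ₜ[A] μ = 0) ?_ ?_ ?_ ?_ hμ
      · rintro _ ⟨m, hm, rfl⟩
        rw [Algebra.algebraMap_eq_smul_one, ← TensorProduct.smul_tmul, Algebra.smul_def, hD m hm,
          zero_mul, TensorProduct.zero_tmul]
      · exact TensorProduct.tmul_zero _ _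
      · intro a b _ _ ha hb
        rw [TensorProduct.tmul_add, ha, hb, add_zero]
      · intro r a _ ha
        have : d ⊗ₜ[A] (r • a) = ((1 : D) ⊗ₜ[A] r) * (d ⊗ₜ[A] a) := by
          rw [Algebra.TensorProduct.tmul_mul_tmul, one_mul, smul_eq_mul]
        rw [this, ha, mul_zero]
    intro z
    induction z using TensorProduct.induction_on with
    | zero => exact ⟨0, map_zero _⟩
    | tmul d ρ =>
      obtain ⟨a, ha⟩ := Ideal.Quotient.mk_surjective
        (AdicCompletion.evalₐ (maximalIdeal A) n ρ)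
      have hmem : ρ - algebraMap A (EGA4.Cpl A) a ∈
          ((maximalIdeal A) ^ n).map (algebraMap A (EGA4.Cpl A)) := by
        apply Groth.Agent.Helper8.CplQuot.mem_map_pow_of_evalₐ_eq_zero
        rw [map_sub, AlgHom.commutes, sub_eq_zero, ← ha]
        rfl
      refine ⟨a • d, ?_⟩
      have h1 := hzero d _ hmem
      rw [TensorProduct.tmul_sub, sub_eq_zero] at h1
      rw [h1, Algebra.TensorProduct.includeLeft_apply, Algebra.algebraMap_eq_smul_one,
        TensorProduct.smul_tmul]
    | add z w hz hw =>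
      obtain ⟨a, rfl⟩ := hz
      obtain ⟨b, rfl⟩ := hw
      exact ⟨a + b, map_add _ _ _⟩

end TM

section jacobson

variable (A : Type u) [CommRing A] [IsNoetherianRing A] [IsLocalRing A]
  (C : Type u) [CommRing C] [Algebra A C] [Module.Finite A C]

/-- The Jacobson radical of `C`. -/
abbrev jac : Ideal C := (⊥ : Ideal C).jacobson

theorem exists_pow_jac_le : ∃ N : ℕ, (jac C) ^ N ≤ (maximalIdeal A).map (algebraMap A C) := by
  haveI : IsNoetherianRing C :=
    isNoetherian_of_tower A (isNoetherian_of_isNoetherianRing_of_finite A C)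
  have hrad : jac C ≤ ((maximalIdeal A).map (algebraMap A C)).radical := by
    intro x hx
    obtain ⟨n, hn⟩ :=
      Groth.Agent.Helper7.Hensel.exists_pow_mem_map_maximalIdeal_of_mem_jacobson (R := A) x hx
    exact ⟨n, hn⟩
  exact Ideal.exists_pow_le_of_le_radical_of_fg hrad (IsNoetherian.noetherian (jac C))

theorem map_le_jac : (maximalIdeal A).map (algebraMap A C) ≤ jac C :=
  haveI : Algebra.IsIntegral A C := Algebra.IsIntegral.of_finite A C
  map_maximalIdeal_le_jacobson A C

attribute [local instance] Algebra.TensorProduct.rightAlgebra in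
theorem isAdicComplete_tensor_cpl :
    IsAdicComplete ((jac C).map (algebraMap C (C ⊗[A] EGA4.Cpl A))) (C ⊗[A] EGA4.Cpl A) := by
  haveI : IsNoetherianRing (EGA4.Cpl A) := Groth.Agent.Helper8.AdicReg.isNoetherianRing A _
  haveI : Module.Finite (EGA4.Cpl A) (C ⊗[A] EGA4.Cpl A) :=
    Module.Finite.equiv (Algebra.TensorProduct.commRight A (EGA4.Cpl A) C).toLinearEquiv
  haveI h1 : IsAdicComplete (maximalIdeal (EGA4.Cpl A)) (C ⊗[A] EGA4.Cpl A) :=
    Groth.Agent.Helper8.GRing.isAdicComplete_of_finite (EGA4.Cpl A) _ _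
  haveI h2 : IsAdicComplete ((maximalIdeal (EGA4.Cpl A)).map
      (algebraMap (EGA4.Cpl A) (C ⊗[A] EGA4.Cpl A))) (C ⊗[A] EGA4.Cpl A) :=
    (IsAdicComplete.map_algebraMap_iff (maximalIdeal (EGA4.Cpl A)) (C ⊗[A] EGA4.Cpl A)).2 h1
  have heq : (maximalIdeal (EGA4.Cpl A)).map (algebraMap (EGA4.Cpl A) (C ⊗[A] EGA4.Cpl A)) =
      ((maximalIdeal A).map (algebraMap A C)).map (algebraMap C (C ⊗[A] EGA4.Cpl A)) := by
    rw [AdicCompletion.maximalIdeal_eq_map (R := A), Ideal.map_map, Ideal.map_map]
    congr 1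
    ext a
    simp only [RingHom.comp_apply]
    rw [Algebra.TensorProduct.algebraMap_apply, Algebra.TensorProduct.algebraMap_eq_includeRight]
    simp [Algebra.algebraMap_eq_smul_one, TensorProduct.smul_tmul]
  obtain ⟨N, hN⟩ := exists_pow_jac_le A C
  refine Groth.Agent.Helper7.Adic.isAdicComplete_of_le_of_pow_le
    ((maximalIdeal (EGA4.Cpl A)).map (algebraMap (EGA4.Cpl A) (C ⊗[A] EGA4.Cpl A)))
    ((jac C).map (algebraMap C (C ⊗[A] EGA4.Cpl A))) ?_ N ?_
  · rw [heq]
    exact Ideal.map_mono (map_le_jac A C)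
  · rw [heq, ← Ideal.map_pow]
    exact Ideal.map_mono hN

theorem algebraMap_quot_pow_eq_zero (n : ℕ) (a : A) (ha : a ∈ (maximalIdeal A) ^ n) :
    algebraMap A (C ⧸ (jac C) ^ n) a = 0 := by
  rw [IsScalarTower.algebraMap_apply A C (C ⧸ (jac C) ^ n), Ideal.Quotient.algebraMap_eq,
    Ideal.Quotient.eq_zero_iff_mem]
  have h1 : algebraMap A C a ∈ ((maximalIdeal A).map (algebraMap A C)) ^ n := by
    rw [← Ideal.map_pow]
    exact Ideal.mem_map_of_mem _ ha
  exact Ideal.pow_right_mono (map_le_jac A C) n h1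

theorem ker_level (n : ℕ) :
    RingHom.ker (Algebra.TensorProduct.map (Ideal.Quotient.mkₐ A ((jac C) ^ n))
      (AlgHom.id A (EGA4.Cpl A))) =
    ((jac C).map (algebraMap C (C ⊗[A] EGA4.Cpl A))) ^ n := by
  have hsurj : Function.Surjective (Ideal.Quotient.mkₐ A ((jac C) ^ n)) :=
    Ideal.Quotient.mkₐ_surjective A _
  have h1 := Algebra.TensorProduct.rTensor_ker (R := A) (C := EGA4.Cpl A)
    (Ideal.Quotient.mkₐ A ((jac C) ^ n)) hsurj
  have hk : RingHom.ker (Ideal.Quotient.mkₐ A ((jac C) ^ n)) = (jac C) ^ n := by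
    ext z
    rw [RingHom.mem_ker]
    exact Ideal.Quotient.eq_zero_iff_mem
  rw [hk] at h1
  rw [h1, ← Ideal.map_pow]
  rfl

theorem hinj_tensor (n : ℕ) (c : C)
    (hc : algebraMap C (C ⊗[A] EGA4.Cpl A) c ∈
      ((jac C).map (algebraMap C (C ⊗[A] EGA4.Cpl A))) ^ n) : c ∈ (jac C) ^ n := by
  rw [← ker_level, RingHom.mem_ker] at hc
  have h1 : (Algebra.TensorProduct.includeLeft :
      (C ⧸ (jac C) ^ n) →ₐ[A] (C ⧸ (jac C) ^ n) ⊗[A] EGA4.Cpl A)
      (Ideal.Quotient.mk _ c) = 0 := by
    rw [← hc]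
    simp [Algebra.TensorProduct.algebraMap_apply]
  have h2 := (includeLeft_bijective_of_pow_eq_zero A (C ⧸ (jac C) ^ n) n
    (algebraMap_quot_pow_eq_zero A C n)).1 (h1.trans (map_zero _).symm)
  exact Ideal.Quotient.eq_zero_iff_mem.mp h2

theorem hsurj_tensor (n : ℕ) (t : C ⊗[A] EGA4.Cpl A) :
    ∃ c : C, t - algebraMap C (C ⊗[A] EGA4.Cpl A) c ∈
      ((jac C).map (algebraMap C (C ⊗[A] EGA4.Cpl A))) ^ n := by
  obtain ⟨d, hd⟩ := (includeLeft_bijective_of_pow_eq_zero A (C ⧸ (jac C) ^ n) n
    (algebraMap_quot_pow_eq_zero A C n)).2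
    (Algebra.TensorProduct.map (Ideal.Quotient.mkₐ A ((jac C) ^ n))
      (AlgHom.id A (EGA4.Cpl A)) t)
  obtain ⟨c, rfl⟩ := Ideal.Quotient.mk_surjective d
  refine ⟨c, ?_⟩
  rw [← ker_level, RingHom.mem_ker, map_sub, sub_eq_zero, ← hd]
  simp [Algebra.TensorProduct.algebraMap_apply]

/-- The Jacobson-adic completion of `C` is the completed tensor product. -/
noncomputable def tensorCplEquiv : (C ⊗[A] EGA4.Cpl A) ≃+* AdicCompletion (jac C) C :=
  haveI := isAdicComplete_tensor_cpl A C
  completionEquiv (jac C) (hinj_tensor A C) (hsurj_tensor A C)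

end jacobson

section final

variable (A : Type u) [CommRing A] [IsNoetherianRing A] [IsLocalRing A]

/-- Reduced finite algebras over a Nagata local ring have reduced completed tensor product. -/
theorem isReduced_tensor_cpl_of_isReduced (hA : CAlg.IsNagata A) (C : Type u) [CommRing C]
    [Algebra A C] [Module.Finite A C] [IsReduced C] : IsReduced (C ⊗[A] EGA4.Cpl A) := by
  haveI : IsNoetherianRing C :=
    isNoetherian_of_tower A (isNoetherian_of_isNoetherianRing_of_finite A C)
  haveI : Module.Flat C (C ⊗[A] EGA4.Cpl A) := inferInstance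
  refine isReduced_of_flat_of_minimalPrimes C (C ⊗[A] EGA4.Cpl A) fun q _ _ => ?_
  haveI := isReduced_tensor_cpl_of_isNagata A hA (C ⧸ q)
  exact isReduced_of_injective
    (Algebra.TensorProduct.cancelBaseChange A C C (C ⧸ q) (EGA4.Cpl A)).toRingEquiv.toRingHom
    (Algebra.TensorProduct.cancelBaseChange A C C (C ⧸ q) (EGA4.Cpl A)).injective

/-- **S2647.** -/
theorem isReduced_adicCompletion_jacobson (hN : ∀ (p : Ideal A) [p.IsPrime], CAlg.IsN2 (A ⧸ p))
    (C : Type u) [CommRing C] [Algebra A C] [Module.Finite A C] [IsReduced C] :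
    IsReduced (AdicCompletion ((⊥ : Ideal C).jacobson) C) := by
  haveI := isReduced_tensor_cpl_of_isReduced A ⟨inferInstance, hN⟩ C
  exact isReduced_of_injective (tensorCplEquiv A C).symm.toRingHom
    (tensorCplEquiv A C).symm.injective

/-- **S2648.** -/
theorem finite_reduced_cpl_reduced_iff :
    (∀ (C : Type u) [CommRing C] [Algebra A C], Module.Finite A C → IsReduced C →
        IsReduced (AdicCompletion ((⊥ : Ideal C).jacobson) C)) ↔
      EGA4.HasGeomReducedFormalFibres A := by
  constructor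
  · intro H
    rw [Groth.Agent.Helper8.FinDom.hasGeomReducedFormalFibres_iff_finite_domains]
    intro B _ _ _ _ q _ _
    haveI := H B inferInstance inferInstance
    haveI : IsReduced (B ⊗[A] EGA4.Cpl A) :=
      isReduced_of_injective (tensorCplEquiv A B).toRingHom (tensorCplEquiv A B).injective
    exact isReduced_localizationPreserves (R := B ⊗[A] EGA4.Cpl A) q.primeCompl
      (Localization.AtPrime q) inferInstance
  · intro hA C _ _ hfin hred
    haveI := hfin
    haveI := hred
    exact isReduced_adicCompletion_jacobson A (isNagata_of_geomReduced A hA).2 C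

end final

end Groth.Agent.Helper8.Nag
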