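import Mathlib
import Groth.Prelude
import Groth.Agent.Lib.Helper8.Nag13

/-!
# Maximal ideals of `C ⊗ R^` for a finite algebra `C` over a Noetherian local ring `R`
-/

set_option autoImplicit false

universe u

namespace Groth.Agent.Helper8.BrCpl

open IsLocalRing TensorProduct

section maxspec

variable (R : Type u) [CommRing R] [IsNoetherianRing R] [IsLocalRing R]
  (C : Type u) [CommRing C] [Algebra R C] [Module.Finite R C]

/-- The inclusion `C → C ⊗ R^`. -/
noncomputable def phi : C →+* C ⊗[R] EGA4.Cpl R :=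
  (Algebra.TensorProduct.includeLeft : C →ₐ[R] C ⊗[R] EGA4.Cpl R).toRingHom

theorem phi_apply (c : C) : phi R C c = c ⊗ₜ[R] (1 : EGA4.Cpl R) := rfl

omit [IsNoetherianRing R] in
theorem comap_eq_maximalIdeal (n : Ideal C) [n.IsMaximal] :
    n.comap (algebraMap R C) = maximalIdeal R := by
  haveI : Algebra.IsIntegral R C := Algebra.IsIntegral.of_finite R C
  exact eq_maximalIdeal (Ideal.isMaximal_comap_of_isIntegral_of_isMaximal n)

omit [IsNoetherianRing R] in
theorem algebraMap_quot_eq_zero (n : Ideal C) [n.IsMaximal] (a : R)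
    (ha : a ∈ (maximalIdeal R) ^ 1) : algebraMap R (C ⧸ n) a = 0 := by
  rw [pow_one, ← comap_eq_maximalIdeal R C n, Ideal.mem_comap] at ha
  rw [IsScalarTower.algebraMap_apply R C (C ⧸ n), Ideal.Quotient.algebraMap_eq,
    Ideal.Quotient.eq_zero_iff_mem]
  exact ha

theorem ker_level_max (n : Ideal C) :
    RingHom.ker (Algebra.TensorProduct.map (Ideal.Quotient.mkₐ R n)
      (AlgHom.id R (EGA4.Cpl R))) = n.map (phi R C) := by
  have hsurj : Function.Surjective (Ideal.Quotient.mkₐ R n) :=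
    Ideal.Quotient.mkₐ_surjective R _
  have h1 := Algebra.TensorProduct.rTensor_ker (R := R) (C := EGA4.Cpl R)
    (Ideal.Quotient.mkₐ R n) hsurj
  have hk : RingHom.ker (Ideal.Quotient.mkₐ R n) = n := by
    ext z
    rw [RingHom.mem_ker]
    exact Ideal.Quotient.eq_zero_iff_mem
  rw [hk] at h1
  rw [h1]
  rfl

/-- The extension of a maximal ideal of `C` is maximal. -/
theorem isMaximal_map_phi (n : Ideal C) [hn : n.IsMaximal] : (n.map (phi R C)).IsMaximal := by
  have hbij := Groth.Agent.Helper8.Nag.includeLeft_bijective_of_pow_eq_zero R (C ⧸ n) 1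
    (algebraMap_quot_eq_zero R C n)
  let ρ : C ⊗[R] EGA4.Cpl R →+* (C ⧸ n) ⊗[R] EGA4.Cpl R :=
    (Algebra.TensorProduct.map (Ideal.Quotient.mkₐ R n) (AlgHom.id R (EGA4.Cpl R))).toRingHom
  have hρ : Function.Surjective ρ := by
    intro z
    induction z using TensorProduct.induction_on with
    | zero => exact ⟨0, map_zero _⟩
    | tmul c x =>
      obtain ⟨c, rfl⟩ := Ideal.Quotient.mk_surjective c
      exact ⟨c ⊗ₜ[R] x, by simp [ρ]⟩
    | add y z hy hz =>
      obtain ⟨a, rfl⟩ := hy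
      obtain ⟨b, rfl⟩ := hz
      exact ⟨a + b, map_add _ _ _⟩
  have hker : RingHom.ker ρ = n.map (phi R C) := ker_level_max R C n
  let e1 : (C ⊗[R] EGA4.Cpl R) ⧸ RingHom.ker ρ ≃+* (C ⧸ n) ⊗[R] EGA4.Cpl R :=
    RingHom.quotientKerEquivOfSurjective hρ
  let e2 : (C ⧸ n) ≃+* (C ⧸ n) ⊗[R] EGA4.Cpl R :=
    RingEquiv.ofBijective (Algebra.TensorProduct.includeLeft :
      (C ⧸ n) →ₐ[R] (C ⧸ n) ⊗[R] EGA4.Cpl R).toRingHom hbij
  have hfield : IsField (C ⧸ n) := (Ideal.Quotient.maximal_ideal_iff_isField_quotient n).mp hn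
  have hfield' : IsField ((C ⊗[R] EGA4.Cpl R) ⧸ RingHom.ker ρ) :=
    (e1.trans e2.symm).toMulEquiv.isField hfield
  rw [← hker]
  exact Ideal.Quotient.maximal_of_isField _ hfield'

attribute [local instance] Algebra.TensorProduct.rightAlgebra in
/-- The contraction of a maximal ideal of `C ⊗ R^` is maximal. -/
theorem isMaximal_comap_phi (N : Ideal (C ⊗[R] EGA4.Cpl R)) [hN : N.IsMaximal] :
    (N.comap (phi R C)).IsMaximal := by
  haveI : Algebra.IsIntegral R C := Algebra.IsIntegral.of_finite R C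
  haveI : Module.Finite (EGA4.Cpl R) (C ⊗[R] EGA4.Cpl R) :=
    Module.Finite.equiv (Algebra.TensorProduct.commRight R (EGA4.Cpl R) C).toLinearEquiv
  haveI : Algebra.IsIntegral (EGA4.Cpl R) (C ⊗[R] EGA4.Cpl R) := Algebra.IsIntegral.of_finite _ _
  have h1 : N.comap (algebraMap (EGA4.Cpl R) (C ⊗[R] EGA4.Cpl R)) =
      maximalIdeal (EGA4.Cpl R) :=
    eq_maximalIdeal (Ideal.isMaximal_comap_of_isIntegral_of_isMaximal N)
  haveI : (N.comap (phi R C)).IsPrime := Ideal.comap_isPrime _ _
  refine Ideal.isMaximal_of_isIntegral_of_isMaximal_comap (R := R) _ ?_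
  have h2 : (N.comap (phi R C)).comap (algebraMap R C) =
      (N.comap (algebraMap (EGA4.Cpl R) (C ⊗[R] EGA4.Cpl R))).comap
        (algebraMap R (EGA4.Cpl R)) := by
    rw [Ideal.comap_comap, Ideal.comap_comap]
    congr 1
    ext a
    simp only [RingHom.comp_apply, phi_apply]
    rw [Algebra.TensorProduct.algebraMap_eq_includeRight]
    simp [Algebra.algebraMap_eq_smul_one, TensorProduct.smul_tmul]
  rw [h2, h1]
  have hloc : IsLocalHom (algebraMap R (EGA4.Cpl R)) := inferInstance
  have h3 : (maximalIdeal (EGA4.Cpl R)).comap (algebraMap R (EGA4.Cpl R)) = maximalIdeal R :=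
    ((IsLocalRing.local_hom_TFAE (algebraMap R (EGA4.Cpl R))).out 0 4).mp hloc
  rw [h3]
  infer_instance

/-- Maximal ideals of `C ⊗ R^` correspond to those of `C`. -/
noncomputable def maxSpecTensorEquiv :
    MaximalSpectrum C ≃ MaximalSpectrum (C ⊗[R] EGA4.Cpl R) where
  toFun n := ⟨n.asIdeal.map (phi R C), haveI := n.isMaximal; isMaximal_map_phi R C n.asIdeal⟩
  invFun N := ⟨N.asIdeal.comap (phi R C), haveI := N.isMaximal; isMaximal_comap_phi R C N.asIdeal⟩
  left_inv n := by
    haveI := n.isMaximal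
    haveI := isMaximal_map_phi R C n.asIdeal
    haveI := isMaximal_comap_phi R C (n.asIdeal.map (phi R C))
    apply MaximalSpectrum.ext
    exact (n.isMaximal.eq_of_le (Ideal.IsMaximal.ne_top inferInstance) Ideal.le_comap_map).symm
  right_inv N := by
    haveI := N.isMaximal
    haveI := isMaximal_comap_phi R C N.asIdeal
    haveI := isMaximal_map_phi R C (N.asIdeal.comap (phi R C))
    apply MaximalSpectrum.ext
    exact (Ideal.IsMaximal.eq_of_le inferInstance N.isMaximal.ne_top Ideal.map_comap_le)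

end maxspec

end Groth.Agent.Helper8.BrCpl
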