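import Mathlib
import Groth.Prelude
import Groth.Agent.Lib.Helper8.CplMap2

/-!
# A flat local homomorphism inducing an isomorphism on closed fibres induces an isomorphism of
completions
-/

set_option autoImplicit false
universe u

namespace Groth.Agent.Helper8.CplIso

open IsLocalRing Groth.Agent.Helper8.CplMap

variable (A B : Type u) [CommRing A] [CommRing B] [IsNoetherianRing A] [IsLocalRing A]
  [IsNoetherianRing B] [IsLocalRing B] [Algebra A B] [IsLocalHom (algebraMap A B)]

theorem map_cplMap_maximalIdeal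
    (hmap : (maximalIdeal A).map (algebraMap A B) = maximalIdeal B) :
    (maximalIdeal (EGA4.Cpl A)).map (cplMap A B).toRingHom = maximalIdeal (EGA4.Cpl B) := by
  rw [AdicCompletion.maximalIdeal_eq_map (R := A), Ideal.map_map, cplMap_comp_algebraMap,
    ← Ideal.map_map, hmap, ← AdicCompletion.maximalIdeal_eq_map]

theorem cplMap_surjective
    (hmap : (maximalIdeal A).map (algebraMap A B) = maximalIdeal B)
    (hres : ∀ b : B, ∃ a : A, b - algebraMap A B a ∈ maximalIdeal B) :
    Function.Surjective (cplMap A B) := by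
  haveI : IsNoetherianRing (EGA4.Cpl B) :=
    Groth.Agent.Helper8.AdicReg.isNoetherianRing B _
  haveI : IsHausdorff ((maximalIdeal (EGA4.Cpl A)).map (cplMap A B).toRingHom)
      (EGA4.Cpl B) := by
    rw [map_cplMap_maximalIdeal A B hmap]; infer_instance
  refine _root_.surjective_of_mk_map_comp_surjective
    (I := maximalIdeal (EGA4.Cpl A)) (cplMap A B).toRingHom ?_
  intro y
  obtain ⟨y, rfl⟩ := Ideal.Quotient.mk_surjective y
  obtain ⟨b, hb⟩ := Ideal.Quotient.mk_surjective
    (AdicCompletion.evalOneₐ (maximalIdeal B) y)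
  obtain ⟨a, ha⟩ := hres b
  refine ⟨algebraMap A (EGA4.Cpl A) a, ?_⟩
  change Ideal.Quotient.mk _ ((cplMap A B) (algebraMap A (EGA4.Cpl A) a)) = _
  rw [AlgHom.commutes, Ideal.Quotient.eq, map_cplMap_maximalIdeal A B hmap,
    AdicCompletion.maximalIdeal_eq_map,
    ← AdicCompletion.ker_evalOneₐ_eq_map _ (maximalIdeal B).fg_of_isNoetherianRing,
    RingHom.mem_ker, map_sub, sub_eq_zero]
  change AdicCompletion.evalOneₐ (maximalIdeal B) _ = AdicCompletion.evalOneₐ _ y
  rw [← hb, IsScalarTower.algebraMap_apply A B (EGA4.Cpl B) a]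
  change Ideal.Quotient.mk _ (algebraMap A B a) = Ideal.Quotient.mk _ b
  rw [Ideal.Quotient.eq, ← neg_sub]
  exact neg_mem ha

theorem cplMap_bijective [Module.Flat A B]
    (hmap : (maximalIdeal A).map (algebraMap A B) = maximalIdeal B)
    (hres : ∀ b : B, ∃ a : A, b - algebraMap A B a ∈ maximalIdeal B) :
    Function.Bijective (cplMap A B) := by
  refine ⟨?_, cplMap_surjective A B hmap hres⟩
  letI := algebraCpl A B
  haveI := faithfullyFlat_cpl A B
  exact FaithfulSMul.algebraMap_injective (EGA4.Cpl A) (EGA4.Cpl B)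

/-- The isomorphism of completions. -/
noncomputable def cplEquiv [Module.Flat A B]
    (hmap : (maximalIdeal A).map (algebraMap A B) = maximalIdeal B)
    (hres : ∀ b : B, ∃ a : A, b - algebraMap A B a ∈ maximalIdeal B) :
    EGA4.Cpl A ≃ₐ[A] EGA4.Cpl B :=
  AlgEquiv.ofBijective (cplMap A B) (cplMap_bijective A B hmap hres)

end Groth.Agent.Helper8.CplIso
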