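import Mathlib
import Groth.Prelude
import Groth.Agent.Lib.Helper8.BrCpl3
import Groth.Agent.Lib.Helper8.CplIso1
import Groth.Agent.Lib.Helper8.Nag8

/-!
# Local rings of `B ⊗_A Â` at maximal ideals, for a finite algebra `B` over a Noetherian local
ring `A`: their completions are the completions of the local rings of `B`
-/

set_option autoImplicit false
universe u

namespace Groth.Agent.Helper8.FFree

open IsLocalRing TensorProduct Groth.Agent.Helper8.BrCpl

section

variable (A : Type u) [CommRing A] [IsNoetherianRing A] [IsLocalRing A]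
  (B : Type u) [CommRing B] [Algebra A B] [Module.Finite A B]

/-- `B ⊗ Â` is `B` modulo the extension of a maximal ideal. -/
theorem exists_sub_mem_map_phi (n : Ideal B) [n.IsMaximal] (z : B ⊗[A] EGA4.Cpl A) :
    ∃ b : B, z - phi A B b ∈ n.map (phi A B) := by
  have hbij := Groth.Agent.Helper8.Nag.includeLeft_bijective_of_pow_eq_zero A (B ⧸ n) 1
    (algebraMap_quot_eq_zero A B n)
  obtain ⟨c, hc⟩ := hbij.2 (Algebra.TensorProduct.map (Ideal.Quotient.mkₐ A n)
      (AlgHom.id A (EGA4.Cpl A)) z)
  obtain ⟨b, rfl⟩ := Ideal.Quotient.mk_surjective c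
  refine ⟨b, ?_⟩
  rw [← ker_level_max A B n, RingHom.mem_ker, map_sub, sub_eq_zero]
  rw [← hc]
  simp [phi_apply]

variable (N : Ideal (B ⊗[A] EGA4.Cpl A)) [hN : N.IsMaximal]

theorem eq_map_comap_phi : N = (N.comap (phi A B)).map (phi A B) := by
  haveI := isMaximal_comap_phi A B N
  haveI := isMaximal_map_phi A B (N.comap (phi A B))
  exact ((isMaximal_map_phi A B (N.comap (phi A B))).eq_of_le hN.ne_top Ideal.map_comap_le).symm

/-- The algebra structure `B_n → (B ⊗ Â)_N`. -/
@[reducible] noncomputable def algLoc :
    Algebra (Localization.AtPrime (N.comap (phi A B))) (Localization.AtPrime N) :=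
  (Localization.localRingHom (N.comap (phi A B)) N (phi A B) rfl).toAlgebra

theorem isScalarTower_algLoc :
    letI := algLoc A B N
    IsScalarTower B (Localization.AtPrime (N.comap (phi A B))) (Localization.AtPrime N) := by
  letI := algLoc A B N
  refine IsScalarTower.of_algebraMap_eq (fun b => ?_)
  show algebraMap B (Localization.AtPrime N) b =
    Localization.localRingHom (N.comap (phi A B)) N (phi A B) rfl (algebraMap B _ b)
  rw [Localization.localRingHom_to_map,
    IsScalarTower.algebraMap_apply B (B ⊗[A] EGA4.Cpl A) (Localization.AtPrime N)]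
  rfl

theorem isLocalHom_algLoc :
    letI := algLoc A B N
    IsLocalHom (algebraMap (Localization.AtPrime (N.comap (phi A B)))
      (Localization.AtPrime N)) :=
  Localization.isLocalHom_localRingHom _ _ _ rfl

theorem flat_algLoc :
    letI := algLoc A B N
    Module.Flat (Localization.AtPrime (N.comap (phi A B))) (Localization.AtPrime N) := by
  letI := algLoc A B N
  haveI := isScalarTower_algLoc A B N
  haveI : Module.Flat B (Localization.AtPrime N) :=
    Module.Flat.trans B (B ⊗[A] EGA4.Cpl A) (Localization.AtPrime N)
  exact (Module.flat_iff_of_isLocalization (Localization.AtPrime (N.comap (phi A B)))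
    (N.comap (phi A B)).primeCompl (Localization.AtPrime N)).2 inferInstance

theorem map_maximalIdeal_algLoc :
    letI := algLoc A B N
    (maximalIdeal (Localization.AtPrime (N.comap (phi A B)))).map
      (algebraMap (Localization.AtPrime (N.comap (phi A B))) (Localization.AtPrime N)) =
      maximalIdeal (Localization.AtPrime N) := by
  letI := algLoc A B N
  haveI := isScalarTower_algLoc A B N
  rw [← Localization.AtPrime.map_eq_maximalIdeal, Ideal.map_map,
    ← IsScalarTower.algebraMap_eq B (Localization.AtPrime (N.comap (phi A B)))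
      (Localization.AtPrime N),
    IsScalarTower.algebraMap_eq B (B ⊗[A] EGA4.Cpl A) (Localization.AtPrime N),
    ← Ideal.map_map]
  have h1 : (N.comap (phi A B)).map (algebraMap B (B ⊗[A] EGA4.Cpl A)) = N :=
    (eq_map_comap_phi A B N).symm
  rw [h1, Localization.AtPrime.map_eq_maximalIdeal]

theorem exists_sub_mem_maximalIdeal_algLoc (s : Localization.AtPrime N) :
    letI := algLoc A B N
    ∃ r : Localization.AtPrime (N.comap (phi A B)),
      s - algebraMap _ (Localization.AtPrime N) r ∈ maximalIdeal (Localization.AtPrime N) := by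
  letI := algLoc A B N
  haveI := isScalarTower_algLoc A B N
  haveI := isMaximal_comap_phi A B N
  obtain ⟨z, hz⟩ := Ideal.algebraMap_residueField_surjective N (IsLocalRing.residue _ s)
  obtain ⟨b, hb⟩ := exists_sub_mem_map_phi A B (N.comap (phi A B)) z
  have hb' : z - phi A B b ∈ N := by
    rw [eq_map_comap_phi A B N]
    exact hb
  refine ⟨algebraMap B _ b, ?_⟩
  have h2 : s - algebraMap (B ⊗[A] EGA4.Cpl A) (Localization.AtPrime N) z ∈
      maximalIdeal (Localization.AtPrime N) := by
    refine (IsLocalRing.residue_eq_zero_iff (R := Localization.AtPrime N)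
      (s - algebraMap (B ⊗[A] EGA4.Cpl A) (Localization.AtPrime N) z)).1 ?_
    rw [map_sub, sub_eq_zero, ← hz]
    rfl
  have h3 : algebraMap (B ⊗[A] EGA4.Cpl A) (Localization.AtPrime N)
      (z - phi A B b) ∈ maximalIdeal (Localization.AtPrime N) :=
    (IsLocalization.AtPrime.to_map_mem_maximal_iff (Localization.AtPrime N) N _).mpr hb'
  have h4 : s - algebraMap (Localization.AtPrime (N.comap (phi A B))) (Localization.AtPrime N)
      (algebraMap B _ b) =
      (s - algebraMap (B ⊗[A] EGA4.Cpl A) (Localization.AtPrime N) z) +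
        algebraMap (B ⊗[A] EGA4.Cpl A) (Localization.AtPrime N) (z - phi A B b) := by
    rw [← IsScalarTower.algebraMap_apply B (Localization.AtPrime (N.comap (phi A B)))
      (Localization.AtPrime N),
      IsScalarTower.algebraMap_apply B (B ⊗[A] EGA4.Cpl A) (Localization.AtPrime N), map_sub]
    have : algebraMap B (B ⊗[A] EGA4.Cpl A) b = phi A B b := rfl
    rw [this]
    ring
  rw [h4]
  exact Ideal.add_mem _ h2 h3

end

end Groth.Agent.Helper8.FFree
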