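import Mathlib
import Groth.Prelude
import Groth.Agent.Lib.Helper8.FFree4
import Groth.Agent.Lib.Helper8.CompFib2
import Groth.Agent.Lib.Helper8.FlatReg9

/-!
# Regularity of the local rings of `B ⊗_A Â` over the generic point of a finite domain `B`
-/

set_option autoImplicit false
universe u

namespace Groth.Agent.Helper8.FFree

open IsLocalRing TensorProduct Groth.Agent.Helper8.BrCpl

theorem isRegularRing_fiber_of_eq_bot {D C : Type u} [CommRing D] [IsDomain D] [CommRing C]
    [Algebra D C] (h : IsRegularRing ((⊥ : Ideal D).Fiber C)) (p : Ideal D) [p.IsPrime]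
    (hp : p = ⊥) : IsRegularRing (p.Fiber C) := by
  subst hp
  exact h

theorem isRegularRing_fiber_of_algEquiv {D C C' : Type u} [CommRing D] [CommRing C] [CommRing C']
    [Algebra D C] [Algebra D C'] (e : C ≃ₐ[D] C') (p : Ideal D) [p.IsPrime]
    (h : IsRegularRing (p.Fiber C)) : IsRegularRing (p.Fiber C') :=
  IsRegularRing.of_ringEquiv
    (Algebra.TensorProduct.congr (AlgEquiv.refl : p.ResidueField ≃ₐ[D] p.ResidueField)
      e).toRingEquiv

/-- Descent of regularity from the completion of a flat local algebra. -/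
theorem isRegularLocalRing_of_cpl (T L : Type u) [CommRing T] [CommRing L] [Algebra T L]
    [IsNoetherianRing T] [IsNoetherianRing L] [IsLocalRing L] [Module.Flat T L]
    (q : Ideal T) [q.IsPrime] (q' : Ideal L) [q'.IsPrime]
    (hq' : q'.comap (algebraMap T L) = q)
    (h : ∀ (P : Ideal (EGA4.Cpl L)) [P.IsPrime], P.comap (algebraMap L (EGA4.Cpl L)) = q' →
      IsRegularLocalRing (Localization.AtPrime P)) :
    IsRegularLocalRing (Localization.AtPrime q) := by
  haveI : Module.FaithfullyFlat L (EGA4.Cpl L) := Module.FaithfullyFlat.of_flat_of_isLocalHom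
  obtain ⟨P, hPprime, hP⟩ := Ideal.exists_isPrime_liesOver_of_faithfullyFlat
    (B := EGA4.Cpl L) q'
  haveI := hPprime
  have hPq : P.comap (algebraMap T (EGA4.Cpl L)) = q := by
    rw [IsScalarTower.algebraMap_eq T L (EGA4.Cpl L), ← Ideal.comap_comap]
    have : P.comap (algebraMap L (EGA4.Cpl L)) = q' := hP.over.symm
    rw [this, hq']
  haveI : P.LiesOver q := ⟨hPq.symm⟩
  haveI : Module.Flat T (EGA4.Cpl L) := Module.Flat.trans T L (EGA4.Cpl L)
  exact Groth.Agent.Helper8.FlatReg.isRegularLocalRing_of_flat_liesOver T (EGA4.Cpl L) q P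
    (h P hP.over.symm)

/-- Primes of the completion of `L` over the generic point of `D` have regular local rings when
the generic formal fibre of `D` is regular and `D → L` induces an isomorphism on completions. -/
theorem isRegularLocalRing_atPrime_cpl (D L : Type u) [CommRing D] [IsDomain D]
    [IsNoetherianRing D] [IsLocalRing D] [CommRing L] [IsNoetherianRing L] [IsLocalRing L]
    [Algebra D L] [IsLocalHom (algebraMap D L)] [Module.Flat D L]
    (hmap : (maximalIdeal D).map (algebraMap D L) = maximalIdeal L)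
    (hres : ∀ b : L, ∃ a : D, b - algebraMap D L a ∈ maximalIdeal L)
    (HD : IsRegularRing (EGA4.formalFibre D ⊥))
    (P : Ideal (EGA4.Cpl L)) [P.IsPrime] (hP : P.comap (algebraMap D (EGA4.Cpl L)) = ⊥) :
    IsRegularLocalRing (Localization.AtPrime P) := by
  let e := Groth.Agent.Helper8.CplIso.cplEquiv D L hmap hres
  have h1 : IsRegularRing ((⊥ : Ideal D).Fiber (EGA4.Cpl L)) :=
    isRegularRing_fiber_of_algEquiv e ⊥ HD
  have h2 : IsRegularRing ((P.comap (algebraMap D (EGA4.Cpl L))).Fiber (EGA4.Cpl L)) :=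
    isRegularRing_fiber_of_eq_bot h1 _ hP
  haveI : IsNoetherianRing (EGA4.Cpl L) := Groth.Agent.Helper8.AdicReg.isNoetherianRing L _
  have h3 := Groth.Agent.Helper8.CompFib.isRegularLocalRing_fibLocRing_of_fiber D (EGA4.Cpl L) P h2
  have hbot : (P.comap (algebraMap D (EGA4.Cpl L))).map
      (algebraMap D (Localization.AtPrime P)) = ⊥ := by
    rw [hP, Ideal.map_bot]
  let ε : EGA4.FibLocRing D (EGA4.Cpl L) P ≃+* Localization.AtPrime P :=
    (Ideal.quotEquivOfEq hbot).trans (RingEquiv.quotientBot _)
  exact IsRegularLocalRing.of_ringEquiv ε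

end Groth.Agent.Helper8.FFree
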