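import Mathlib
import Groth.Prelude
import Groth.Agent.Lib.Helper8.FFree5

/-!
# Regularity of the local rings of `B ⊗_A Â` over the generic point of a finite domain `B`,
from regularity of the generic formal fibres of the local rings of `B`
-/

set_option autoImplicit false
set_option synthInstance.maxHeartbeats 400000
set_option maxSynthPendingDepth 3
universe u

namespace Groth.Agent.Helper8.FFree

open IsLocalRing TensorProduct Groth.Agent.Helper8.BrCpl

variable (A : Type u) [CommRing A] [IsNoetherianRing A] [IsLocalRing A]
  (B : Type u) [CommRing B] [IsDomain B] [Algebra A B] [Module.Finite A B]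

theorem isRegularLocalRing_atPrime_of_formalFibres
    (HB : ∀ (n : Ideal B) [n.IsMaximal],
      IsRegularRing (EGA4.formalFibre (Localization.AtPrime n) ⊥))
    (q : Ideal (B ⊗[A] EGA4.Cpl A)) [q.IsPrime]
    (hq : q.comap (algebraMap B (B ⊗[A] EGA4.Cpl A)) = ⊥) :
    IsRegularLocalRing (Localization.AtPrime q) := by
  haveI : IsNoetherianRing B :=
    isNoetherian_of_tower A (isNoetherian_of_isNoetherianRing_of_finite A B)
  haveI : IsNoetherianRing (B ⊗[A] EGA4.Cpl A) :=
    Groth.Agent.Helper8.Nag.isNoetherianRing_tensor_cpl A B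
  obtain ⟨N, hN, hqN⟩ := Ideal.exists_le_maximal q (Ideal.IsPrime.ne_top inferInstance)
  haveI := hN
  haveI hn := isMaximal_comap_phi A B N
  -- the local rings
  letI := algLoc A B N
  haveI := isScalarTower_algLoc A B N
  haveI := isLocalHom_algLoc A B N
  haveI := flat_algLoc A B N
  haveI : IsNoetherianRing (Localization.AtPrime (N.comap (phi A B))) :=
    IsLocalization.isNoetherianRing (N.comap (phi A B)).primeCompl _ inferInstance
  haveI : IsNoetherianRing (Localization.AtPrime N) :=
    IsLocalization.isNoetherianRing N.primeCompl _ inferInstance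
  -- the prime of the local ring
  have hdisj : Disjoint (N.primeCompl : Set (B ⊗[A] EGA4.Cpl A)) (q : Set _) := by
    rw [Set.disjoint_left]
    intro x hx hxq
    exact hx (hqN hxq)
  haveI hq' : (q.map (algebraMap (B ⊗[A] EGA4.Cpl A) (Localization.AtPrime N))).IsPrime :=
    IsLocalization.isPrime_of_isPrime_disjoint N.primeCompl _ q inferInstance hdisj
  have hq'c : (q.map (algebraMap (B ⊗[A] EGA4.Cpl A) (Localization.AtPrime N))).comap
      (algebraMap (B ⊗[A] EGA4.Cpl A) (Localization.AtPrime N)) = q :=
    IsLocalization.under_map_of_isPrime_disjoint N.primeCompl _ inferInstance hdisj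
  refine isRegularLocalRing_of_cpl (B ⊗[A] EGA4.Cpl A) (Localization.AtPrime N) q
    (q.map (algebraMap (B ⊗[A] EGA4.Cpl A) (Localization.AtPrime N))) hq'c ?_
  intro P _ hP
  refine isRegularLocalRing_atPrime_cpl (Localization.AtPrime (N.comap (phi A B)))
    (Localization.AtPrime N) (map_maximalIdeal_algLoc A B N)
    (exists_sub_mem_maximalIdeal_algLoc A B N) (HB (N.comap (phi A B))) P ?_
  -- the contraction of `P` to `B_n` is zero
  set p₀ := P.comap (algebraMap (Localization.AtPrime (N.comap (phi A B)))
    (EGA4.Cpl (Localization.AtPrime N))) with hp₀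
  have h1 : p₀.comap (algebraMap B (Localization.AtPrime (N.comap (phi A B)))) = ⊥ := by
    rw [hp₀, Ideal.comap_comap]
    have h2 : (algebraMap (Localization.AtPrime (N.comap (phi A B)))
        (EGA4.Cpl (Localization.AtPrime N))).comp
        (algebraMap B (Localization.AtPrime (N.comap (phi A B)))) =
        ((algebraMap (Localization.AtPrime N) (EGA4.Cpl (Localization.AtPrime N))).comp
          (algebraMap (B ⊗[A] EGA4.Cpl A) (Localization.AtPrime N))).comp
          (algebraMap B (B ⊗[A] EGA4.Cpl A)) := by
      ext b
      simp only [RingHom.comp_apply]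
      rw [IsScalarTower.algebraMap_apply (Localization.AtPrime (N.comap (phi A B)))
        (Localization.AtPrime N) (EGA4.Cpl (Localization.AtPrime N)),
        ← IsScalarTower.algebraMap_apply B (Localization.AtPrime (N.comap (phi A B)))
          (Localization.AtPrime N),
        IsScalarTower.algebraMap_apply B (B ⊗[A] EGA4.Cpl A) (Localization.AtPrime N)]
    rw [h2, ← Ideal.comap_comap, ← Ideal.comap_comap, hP, hq'c, hq]
  have h3 := IsLocalization.map_under (N.comap (phi A B)).primeCompl
    (Localization.AtPrime (N.comap (phi A B))) p₀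
  have h1' : Ideal.under B p₀ = ⊥ := h1
  rw [h1', Ideal.map_bot] at h3
  exact h3.symm

end Groth.Agent.Helper8.FFree
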