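import Mathlib
import Groth.Prelude
import Groth.Agent.Lib.Helper8.FFree6
import Groth.Agent.Lib.Helper8.Andre4
import Groth.Agent.Lib.Helper8.Andre11
import Groth.Agent.Lib.Helper8.FinDom3
import Groth.Agent.Lib.Helper8.AdicFS22

/-!
# Generic formal fibres: general lemmas

Regularity of the local rings over the generic point, ascent of regularity along regular
homomorphisms at a prime, and the generic formal fibre of a regular local ring of characteristic
zero.
-/

set_option autoImplicit false
universe u

namespace Groth.Agent.Helper8.GenFib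

open IsLocalRing TensorProduct

/-- Ascent of regularity at a prime along a regular homomorphism. -/
theorem isRegularLocalRing_atPrime_of_isRegularHom (T T' : Type u) [CommRing T] [CommRing T']
    [Algebra T T'] [IsNoetherianRing T] [IsNoetherianRing T'] (h : CAlg.IsRegularHom T T')
    (P : Ideal T') [P.IsPrime]
    (hbase : IsRegularLocalRing (Localization.AtPrime (P.comap (algebraMap T T')))) :
    IsRegularLocalRing (Localization.AtPrime P) := by
  haveI : Module.Flat T T' := h.1
  have h1 := (h.2 (P.comap (algebraMap T T'))).2 (P.comap (algebraMap T T')).ResidueField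
    inferInstance
  have h2 : IsRegularRing ((P.comap (algebraMap T T')).Fiber T') :=
    @IsRegularRing.of_ringEquiv _ _ _ _
      (Algebra.TensorProduct.lid (P.comap (algebraMap T T')).ResidueField _).toRingEquiv h1
  exact Groth.Agent.Helper8.FlatReg.isRegularLocalRing_atPrime_of_fibre T T' P hbase
    (Groth.Agent.Helper8.CompFib.isRegularLocalRing_fibLocRing_of_fiber T T' P h2)

/-- If all local rings over the generic point of the domain `D` are regular, the generic fibre
ring is regular. -/
theorem isRegularRing_bot_fiber_of_forall (D X : Type u) [CommRing D] [IsDomain D] [CommRing X]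
    [Algebra D X] [IsNoetherianRing X]
    (H : ∀ (P : Ideal X) [P.IsPrime], P.comap (algebraMap D X) = ⊥ →
      IsRegularLocalRing (Localization.AtPrime P)) :
    IsRegularRing ((⊥ : Ideal D).Fiber X) := by
  haveI : IsNoetherianRing ((⊥ : Ideal D).Fiber X) :=
    Groth.Agent.Helper8.Fib.isNoetherianRing_fiber (⊥ : Ideal D)
  rw [isRegularRing_iff]
  intro Q' _
  set Q : Ideal X := Q'.comap (Algebra.TensorProduct.includeRight :
    X →ₐ[D] (⊥ : Ideal D).Fiber X) with hQ
  haveI : Q.IsPrime := Ideal.comap_isPrime _ _
  have hover : Q.comap (algebraMap D X) = ⊥ := by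
    have h1 : Q'.comap (algebraMap D ((⊥ : Ideal D).Fiber X)) = ⊥ :=
      (Ideal.LiesOver.over (p := (⊥ : Ideal D)) (P := Q')).symm
    refine Eq.trans ?_ h1
    ext x
    simp only [Ideal.mem_comap, hQ]
    rw [AlgHom.commutes (Algebra.TensorProduct.includeRight : X →ₐ[D] (⊥ : Ideal D).Fiber X)]
  obtain ⟨e⟩ := Groth.Agent.Helper8.Fib.nonempty_ringEquiv_fibLocRing (⊥ : Ideal D) Q' Q rfl
  have hbot : (Q.comap (algebraMap D X)).map (algebraMap D (Localization.AtPrime Q)) = ⊥ := by
    rw [hover, Ideal.map_bot]
  let ε : EGA4.FibLocRing D X Q ≃+* Localization.AtPrime Q :=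
    (Ideal.quotEquivOfEq hbot).trans (RingEquiv.quotientBot _)
  haveI := H Q hover
  exact IsRegularLocalRing.of_ringEquiv (R := Localization.AtPrime Q) (e.trans ε).symm

/-- Conversely, the local rings over the generic point are local rings of the generic fibre. -/
theorem isRegularLocalRing_of_isRegularRing_bot_fiber (D X : Type u) [CommRing D] [IsDomain D]
    [CommRing X] [Algebra D X] (h : IsRegularRing ((⊥ : Ideal D).Fiber X))
    (q : Ideal X) [q.IsPrime] (hq : q.comap (algebraMap D X) = ⊥) :
    IsRegularLocalRing (Localization.AtPrime q) := by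
  obtain ⟨Q, hQ, ⟨ε⟩⟩ := Groth.Agent.Helper8.FinDom.exists_fiber_prime_bot D X q hq
  haveI := hQ
  haveI := h
  haveI : IsRegularLocalRing (Localization.AtPrime Q) := inferInstance
  exact IsRegularLocalRing.of_ringEquiv (R := Localization.AtPrime Q) ε

/-- A geometrically regular generic fibre is regular. -/
theorem isRegularRing_of_isGeometricallyRegular {k S : Type u} [Field k] [CommRing S] [Algebra k S]
    (h : CAlg.IsGeometricallyRegular k S) : IsRegularRing S :=
  @IsRegularRing.of_ringEquiv _ _ _ _ (Algebra.TensorProduct.lid k S).toRingEquiv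
    (h k inferInstance)

section regular

variable (R : Type u) [CommRing R] [IsDomain R] [IsRegularLocalRing R] [CharZero R]

/-- The generic formal fibre of a regular local ring of characteristic zero is geometrically
regular. -/
theorem isGeometricallyRegular_bot_formalFibre :
    CAlg.IsGeometricallyRegular (⊥ : Ideal R).ResidueField ((⊥ : Ideal R).Fiber (EGA4.Cpl R)) := by
  haveI : IsNoetherianRing R := inferInstance
  haveI : IsNoetherianRing (EGA4.Cpl R) := Groth.Agent.Helper8.AdicReg.isNoetherianRing R _
  have hI : maximalIdeal R ≠ ⊤ := Ideal.IsPrime.ne_top'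
  haveI : IsRegularLocalRing (EGA4.Cpl R) :=
    (Groth.Agent.Helper8.AdicReg.isRegularLocalRing_iff R (maximalIdeal R) hI).1 inferInstance
  refine Groth.Agent.Helper8.GRing.isGeometricallyRegular_bot_fiber (fun r _ hr => ?_)
  exact Groth.Agent.Helper8.Andre.isAdicFormallySmooth_localization_of_charZero r hr
    (Groth.Agent.Helper8.ABS.isRegularLocalRing_localization (EGA4.Cpl R) r)

variable (B : Type u) [CommRing B] [IsDomain B] [Algebra R B] [Module.Finite R B]

/-- The local rings of `B ⊗ R^` over the generic point of a finite domain `B ⊇ R` are regular. -/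
theorem isRegularLocalRing_tensor_cpl_of_comap_eq_bot
    (hinj : Function.Injective (algebraMap R B))
    (Q : Ideal (B ⊗[R] EGA4.Cpl R)) [Q.IsPrime]
    (hQ : Q.comap (algebraMap B (B ⊗[R] EGA4.Cpl R)) = ⊥) :
    IsRegularLocalRing (Localization.AtPrime Q) := by
  haveI : IsNoetherianRing R := inferInstance
  haveI : IsNoetherianRing (EGA4.Cpl R) := Groth.Agent.Helper8.AdicReg.isNoetherianRing R _
  have key : ∀ (I : Ideal R) [I.IsPrime], I = ⊥ →
      CAlg.IsGeometricallyRegular I.ResidueField (I.Fiber (EGA4.Cpl R)) := by
    intro I _ hI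
    subst hI
    exact isGeometricallyRegular_bot_formalFibre R
  have hbot : (⊥ : Ideal B).comap (algebraMap R B) = ⊥ := by
    rw [← RingHom.ker_eq_comap_bot]
    exact (RingHom.injective_iff_ker_eq_bot _).1 hinj
  have h1 := Groth.Agent.Helper8.Andre.isGeometricallyRegular_fiber_baseChange R (EGA4.Cpl R) B
    (⊥ : Ideal B) (key _ hbot)
  exact isRegularLocalRing_of_isRegularRing_bot_fiber B _
    (isRegularRing_of_isGeometricallyRegular h1) Q hQ

end regular

end Groth.Agent.Helper8.GenFib
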