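import Groth.Agent.Lib.Helper8.CSA
import Mathlib.RingTheory.SimpleRing.Congr
import Mathlib.RingTheory.Flat.Basic
import Mathlib.RingTheory.Congruence.Basic
import Mathlib.LinearAlgebra.Basis.VectorSpace
import Mathlib.RingTheory.TensorProduct.Maps

/-!
Central simple algebras and base change.
-/

set_option autoImplicit false

namespace Groth.Agent.Helper8

open TensorProduct

section

variable {k A B : Type*} [Field k] [Ring A] [Ring B] [Algebra k A] [Algebra k B]

/-- An element of `A ⊗ B` (with `A` central) commuting with all `a ⊗ 1` is of the form `1 ⊗ b`. -/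
theorem eq_one_tmul_of_commute [Algebra.IsCentral k A] (z : A ⊗[k] B)
    (hcomm : ∀ a : A, (a ⊗ₜ[k] (1 : B)) * z = z * (a ⊗ₜ[k] (1 : B))) :
    ∃ b : B, z = (1 : A) ⊗ₜ[k] b := by
  classical
  let ι := Module.Basis.ofVectorSpaceIndex k B
  let 𝒞 : Module.Basis ι k B := Module.Basis.ofVectorSpace k B
  let φ := TensorProduct.equivFinsuppOfBasisRight (M := A) 𝒞
  have hcent : ∀ j, φ z j ∈ Subalgebra.center k A := by
    intro j
    rw [Subalgebra.mem_center_iff]
    intro a
    have := congrArg (fun w => φ w j) (hcomm a)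
    have h2 : φ ((a ⊗ₜ[k] (1 : B)) * z) j = a * φ z j := coord_mul_left 𝒞 a z j
    have h3 : φ (z * (a ⊗ₜ[k] (1 : B))) j = φ z j * a := coord_mul_right 𝒞 a z j
    rw [h2, h3] at this
    exact this
  have hc : ∀ j, ∃ c : k, φ z j = algebraMap k A c := fun j =>
    (Algebra.IsCentral.mem_center_iff (K := k)).mp (hcent j)
  choose c hc using hc
  refine ⟨∑ j ∈ (φ z).support, c j • 𝒞 j, ?_⟩
  have h4 : z = φ.symm (φ z) := (φ.symm_apply_apply z).symm
  have h5 : φ.symm (φ z) = (1 : A) ⊗ₜ[k] (∑ j ∈ (φ z).support, c j • 𝒞 j) := by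
    rw [TensorProduct.equivFinsuppOfBasisRight_symm_apply, Finsupp.sum, TensorProduct.tmul_sum]
    apply Finset.sum_congr rfl
    intro j _
    rw [hc j, Algebra.algebraMap_eq_smul_one, TensorProduct.smul_tmul]
  exact h4.trans h5

end

section BaseChange

variable (k K A : Type*) [Field k] [Field K] [Algebra k K] [Ring A] [Algebra k A]

/-- Base change of a central algebra along a field extension is central. -/
theorem isCentral_baseChange [Algebra.IsCentral k A] : Algebra.IsCentral K (K ⊗[k] A) := by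
  constructor
  intro z hz
  rw [Subalgebra.mem_center_iff] at hz
  let e : K ⊗[k] A ≃ₐ[k] A ⊗[k] K := Algebra.TensorProduct.comm k K A
  have hcomm : ∀ a : A, (a ⊗ₜ[k] (1 : K)) * e z = e z * (a ⊗ₜ[k] (1 : K)) := by
    intro a
    have h1 : e ((1 : K) ⊗ₜ[k] a) = a ⊗ₜ[k] (1 : K) := rfl
    rw [← h1, ← map_mul, ← map_mul, hz]
  obtain ⟨c, hc⟩ := eq_one_tmul_of_commute (e z) hcomm
  refine ⟨c, ?_⟩
  apply e.injective
  rw [hc]
  rfl

/-- Base change of a central simple algebra along a field extension is simple. -/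
theorem isSimpleRing_baseChange [Algebra.IsCentral k A] [IsSimpleRing A] :
    IsSimpleRing (K ⊗[k] A) :=
  IsSimpleRing.of_ringEquiv (Algebra.TensorProduct.comm k A K).toRingEquiv
    (isSimpleRing_tensor k A K)

/-- Centrality descends along a field extension. -/
theorem isCentral_of_baseChange [Algebra.IsCentral K (K ⊗[k] A)] : Algebra.IsCentral k A := by
  constructor
  intro a ha
  have hinjR : Function.Injective (Algebra.TensorProduct.includeRight : A →ₐ[k] K ⊗[k] A) :=
    Algebra.TensorProduct.includeRight_injective (FaithfulSMul.algebraMap_injective k K)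
  have h1 : ((1 : K) ⊗ₜ[k] a) ∈ Subalgebra.center K (K ⊗[k] A) := by
    rw [Subalgebra.mem_center_iff]
    intro z
    induction z using TensorProduct.induction_on with
    | zero => simp
    | tmul c b =>
      rw [Algebra.TensorProduct.tmul_mul_tmul, Algebra.TensorProduct.tmul_mul_tmul, mul_one,
        one_mul, Subalgebra.mem_center_iff.mp ha b]
    | add x y hx hy => rw [add_mul, mul_add, hx, hy]
  obtain ⟨c, hc⟩ := (Algebra.IsCentral.mem_center_iff (K := K)).mp h1
  -- a linear functional on A with value 1 at 1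
  rcases subsingleton_or_nontrivial A with hsub | hnt
  · rw [Subsingleton.elim a 0]
    exact Subalgebra.zero_mem _
  have hinj : Function.Injective (Algebra.linearMap k A) := FaithfulSMul.algebraMap_injective k A
  obtain ⟨g, hg⟩ := LinearMap.exists_leftInverse_of_injective (Algebra.linearMap k A)
    (LinearMap.ker_eq_bot.mpr hinj)
  have hg1 : g 1 = 1 := by
    have := LinearMap.congr_fun hg 1
    simpa using this
  -- apply id ⊗ g
  let G : K ⊗[k] A →ₗ[k] K ⊗[k] k := LinearMap.lTensor K g
  have h3 : G ((1 : K) ⊗ₜ[k] a) = (1 : K) ⊗ₜ[k] g a := rfl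
  have h4 : G (algebraMap K (K ⊗[k] A) c) = c ⊗ₜ[k] (1 : k) := by
    rw [Algebra.TensorProduct.algebraMap_apply]
    show G (c ⊗ₜ[k] (1 : A)) = _
    show c ⊗ₜ[k] g 1 = _
    rw [hg1]
  have h5 : (1 : K) ⊗ₜ[k] g a = c ⊗ₜ[k] (1 : k) := by rw [← h3, hc, h4]
  have h6 : c = algebraMap k K (g a) := by
    have := congrArg (TensorProduct.rid k K) h5
    rw [TensorProduct.rid_tmul, TensorProduct.rid_tmul, one_smul] at this
    rw [← this, Algebra.algebraMap_eq_smul_one]
  rw [Algebra.mem_bot]
  refine ⟨g a, ?_⟩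
  apply hinjR
  show (1 : K) ⊗ₜ[k] (algebraMap k A (g a)) = (1 : K) ⊗ₜ[k] a
  have h7 : (1 : K) ⊗ₜ[k] (algebraMap k A (g a)) = (algebraMap k K (g a)) ⊗ₜ[k] (1 : A) := by
    rw [Algebra.algebraMap_eq_smul_one, Algebra.algebraMap_eq_smul_one, TensorProduct.smul_tmul]
  rw [h7, hc, h6, Algebra.TensorProduct.algebraMap_apply]
  rfl

/-- Simplicity descends along a field extension. -/
theorem isSimpleRing_of_baseChange [IsSimpleRing (K ⊗[k] A)] : IsSimpleRing A := by
  have hinjR : Function.Injective (Algebra.TensorProduct.includeRight : A →ₐ[k] K ⊗[k] A) :=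
    Algebra.TensorProduct.includeRight_injective (FaithfulSMul.algebraMap_injective k K)
  have hnt : Nontrivial A := by
    by_contra hne
    rw [not_nontrivial_iff_subsingleton] at hne
    have h0 : ∀ w : K ⊗[k] A, w = 0 := by
      intro w
      induction w using TensorProduct.induction_on with
      | zero => rfl
      | tmul c b => rw [Subsingleton.elim b 0, TensorProduct.tmul_zero]
      | add x y hx hy => rw [hx, hy, add_zero]
    exact one_ne_zero (h0 1)
  apply IsSimpleRing.of_eq_bot_or_eq_top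
  intro I
  by_cases hI : I = ⊥
  · exact Or.inl hI
  right
  obtain ⟨x, hxI, hx0⟩ : ∃ x ∈ I, x ≠ 0 := by
    by_contra hcon
    push Not at hcon
    apply hI
    rw [eq_bot_iff]
    intro z hz
    rw [TwoSidedIdeal.mem_bot]
    exact hcon z hz
  let π : A →ₐ[k] I.ringCon.Quotient := I.ringCon.mkₐ (α := k)
  let F : K ⊗[k] A →ₐ[K] K ⊗[k] I.ringCon.Quotient := Algebra.TensorProduct.map (AlgHom.id K K) π
  rcases IsSimpleRing.injective_ringHom_or_subsingleton_codomain F.toRingHom with hF | hF
  · exfalso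
    have h1 : F ((1 : K) ⊗ₜ[k] x) = 0 := by
      show (1 : K) ⊗ₜ[k] π x = 0
      have : π x = 0 := by
        show (I.ringCon.mk' x) = 0
        rw [← map_zero I.ringCon.mk']
        exact Quotient.sound' ((TwoSidedIdeal.mem_iff I x).mp hxI)
      rw [this, TensorProduct.tmul_zero]
    have h2 : (1 : K) ⊗ₜ[k] x = 0 := hF (by
      show F ((1 : K) ⊗ₜ[k] x) = F 0
      rw [h1, map_zero])
    exact hx0 (hinjR (by rw [map_zero]; exact h2))
  · have hinjQ : Function.Injective
        (Algebra.TensorProduct.includeRight : I.ringCon.Quotient →ₐ[k] K ⊗[k] I.ringCon.Quotient) :=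
      Algebra.TensorProduct.includeRight_injective (FaithfulSMul.algebraMap_injective k K)
    have h10 : (1 : I.ringCon.Quotient) = 0 := hinjQ (Subsingleton.elim _ _)
    rw [← TwoSidedIdeal.one_mem_iff, TwoSidedIdeal.mem_iff]
    exact Quotient.exact' h10

end BaseChange

end Groth.Agent.Helper8
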