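import Mathlib
import Groth.Prelude
import Groth.Agent.Lib.Helper8.CplIso1

/-!
# The local rings of an adic completion at its maximal ideals
-/

set_option autoImplicit false
universe u

namespace Groth.Agent.Helper8.CplIso

open IsLocalRing

section adic

variable (A : Type u) [CommRing A] [IsNoetherianRing A] (I : Ideal A)

/-- Every element of the completion is congruent to an element of `A` modulo `I Â`. -/
theorem exists_sub_mem_map (x : AdicCompletion I A) :
    ∃ a : A, x - algebraMap A (AdicCompletion I A) a ∈
      I.map (algebraMap A (AdicCompletion I A)) := by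
  obtain ⟨a, ha⟩ := Ideal.Quotient.mk_surjective (AdicCompletion.evalOneₐ I x)
  refine ⟨a, ?_⟩
  rw [← AdicCompletion.ker_evalOneₐ_eq_map I (IsNoetherian.noetherian I), RingHom.mem_ker,
    map_sub, sub_eq_zero]
  change AdicCompletion.evalOneₐ I x = AdicCompletion.evalOneₐ I (algebraMap A _ a)
  rw [AlgHom.commutes, ← ha]
  rfl

/-- `I Â` lies in every maximal ideal of the completion. -/
theorem map_le_of_isMaximal (m' : Ideal (AdicCompletion I A)) [hm : m'.IsMaximal] :
    I.map (algebraMap A (AdicCompletion I A)) ≤ m' := by
  haveI := AdicCompletion.isAdicComplete_self I (IsNoetherian.noetherian I)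
  exact (IsAdicComplete.le_jacobson_bot (I.map (algebraMap A (AdicCompletion I A)))).trans
    (sInf_le ⟨bot_le, hm⟩)

/-- A maximal ideal of the completion is extended from its contraction. -/
theorem eq_map_comap (m' : Ideal (AdicCompletion I A)) [hm : m'.IsMaximal] :
    m' = (m'.comap (algebraMap A (AdicCompletion I A))).map
      (algebraMap A (AdicCompletion I A)) := by
  apply le_antisymm
  · intro x hx
    obtain ⟨a, ha⟩ := exists_sub_mem_map A I x
    have hI : I.map (algebraMap A (AdicCompletion I A)) ≤ m' := map_le_of_isMaximal A I m'
    have ha' : algebraMap A (AdicCompletion I A) a ∈ m' := by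
      have : algebraMap A (AdicCompletion I A) a = x - (x - algebraMap A (AdicCompletion I A) a) := by
        ring
      rw [this]
      exact m'.sub_mem hx (hI ha)
    have h1 : algebraMap A (AdicCompletion I A) a ∈
        (m'.comap (algebraMap A (AdicCompletion I A))).map
          (algebraMap A (AdicCompletion I A)) :=
      Ideal.mem_map_of_mem _ (Ideal.mem_comap.mpr ha')
    have h2 : I.map (algebraMap A (AdicCompletion I A)) ≤
        (m'.comap (algebraMap A (AdicCompletion I A))).map
          (algebraMap A (AdicCompletion I A)) :=
      Ideal.map_mono (Ideal.map_le_iff_le_comap.mp hI)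
    have : x = algebraMap A (AdicCompletion I A) a + (x - algebraMap A (AdicCompletion I A) a) := by
      ring
    rw [this]
    exact Ideal.add_mem _ h1 (h2 ha)
  · exact Ideal.map_comap_le

section loc

variable (m' : Ideal (AdicCompletion I A)) [hm : m'.IsMaximal]

/-- The algebra structure of `Â_{𝔪'}` over `A_𝔪`. -/
@[reducible] noncomputable def algLoc :
    Algebra (Localization.AtPrime (m'.comap (algebraMap A (AdicCompletion I A))))
      (Localization.AtPrime m') :=
  (Localization.localRingHom (m'.comap (algebraMap A (AdicCompletion I A))) m'
    (algebraMap A (AdicCompletion I A)) rfl).toAlgebra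

theorem isScalarTower_algLoc :
    letI := algLoc A I m'
    IsScalarTower A (Localization.AtPrime (m'.comap (algebraMap A (AdicCompletion I A))))
      (Localization.AtPrime m') := by
  letI := algLoc A I m'
  refine IsScalarTower.of_algebraMap_eq (fun a => ?_)
  show algebraMap A (Localization.AtPrime m') a =
    Localization.localRingHom _ m' (algebraMap A (AdicCompletion I A)) rfl (algebraMap A _ a)
  rw [Localization.localRingHom_to_map, ← IsScalarTower.algebraMap_apply]

theorem isLocalHom_algLoc :
    letI := algLoc A I m'
    IsLocalHom (algebraMap (Localization.AtPrime (m'.comap (algebraMap A (AdicCompletion I A))))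
      (Localization.AtPrime m')) :=
  Localization.isLocalHom_localRingHom _ m' (algebraMap A (AdicCompletion I A)) rfl

theorem flat_algLoc :
    letI := algLoc A I m'
    Module.Flat (Localization.AtPrime (m'.comap (algebraMap A (AdicCompletion I A))))
      (Localization.AtPrime m') := by
  letI := algLoc A I m'
  haveI := isScalarTower_algLoc A I m'
  haveI : Module.Flat A (Localization.AtPrime m') :=
    Module.Flat.trans A (AdicCompletion I A) (Localization.AtPrime m')
  exact (Module.flat_iff_of_isLocalization
    (Localization.AtPrime (m'.comap (algebraMap A (AdicCompletion I A))))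
    (m'.comap (algebraMap A (AdicCompletion I A))).primeCompl _).mpr inferInstance

theorem map_maximalIdeal_algLoc :
    letI := algLoc A I m'
    (maximalIdeal (Localization.AtPrime (m'.comap (algebraMap A (AdicCompletion I A))))).map
      (algebraMap (Localization.AtPrime (m'.comap (algebraMap A (AdicCompletion I A))))
        (Localization.AtPrime m')) = maximalIdeal (Localization.AtPrime m') := by
  letI := algLoc A I m'
  haveI := isScalarTower_algLoc A I m'
  rw [← Localization.AtPrime.map_eq_maximalIdeal, Ideal.map_map, ← IsScalarTower.algebraMap_eq,
    IsScalarTower.algebraMap_eq A (AdicCompletion I A) (Localization.AtPrime m'), ← Ideal.map_map,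
    ← eq_map_comap A I m', Localization.AtPrime.map_eq_maximalIdeal]

theorem exists_sub_mem_maximalIdeal_algLoc (b : Localization.AtPrime m') :
    letI := algLoc A I m'
    ∃ r : Localization.AtPrime (m'.comap (algebraMap A (AdicCompletion I A))),
      b - algebraMap _ (Localization.AtPrime m') r ∈ maximalIdeal (Localization.AtPrime m') := by
  letI := algLoc A I m'
  haveI := isScalarTower_algLoc A I m'
  obtain ⟨x, hx⟩ := Ideal.algebraMap_residueField_surjective m' (IsLocalRing.residue _ b)
  obtain ⟨a, ha⟩ := exists_sub_mem_map A I x
  refine ⟨algebraMap A _ a, ?_⟩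
  have h1 : b - algebraMap (AdicCompletion I A) (Localization.AtPrime m') x ∈
      maximalIdeal (Localization.AtPrime m') := by
    rw [← IsLocalRing.residue_eq_zero_iff, map_sub, sub_eq_zero, ← hx]
    rfl
  have h2 : algebraMap (AdicCompletion I A) (Localization.AtPrime m')
      (x - algebraMap A (AdicCompletion I A) a) ∈ maximalIdeal (Localization.AtPrime m') :=
    (IsLocalization.AtPrime.to_map_mem_maximal_iff (Localization.AtPrime m') m' _).mpr
      (map_le_of_isMaximal A I m' ha)
  have h3 : b - algebraMap _ (Localization.AtPrime m') (algebraMap A
      (Localization.AtPrime (m'.comap (algebraMap A (AdicCompletion I A)))) a) =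
      (b - algebraMap (AdicCompletion I A) (Localization.AtPrime m') x) +
        algebraMap (AdicCompletion I A) (Localization.AtPrime m')
          (x - algebraMap A (AdicCompletion I A) a) := by
    rw [← IsScalarTower.algebraMap_apply A _ (Localization.AtPrime m'),
      IsScalarTower.algebraMap_apply A (AdicCompletion I A) (Localization.AtPrime m'), map_sub]
    ring
  rw [h3]
  exact Ideal.add_mem _ h1 h2

end loc

end adic

end Groth.Agent.Helper8.CplIso
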