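import Groth.Agent.Lib.Helper8.LC4

set_option autoImplicit false
universe u
open CategoryTheory CategoryTheory.Limits Opposite

namespace Groth.Agent.Helper8.LC

variable {R : Type u} [CommRing R]

section Canonical

open Abelian

/-- a chosen projective resolution. -/
noncomputable def res (X : ModuleCat.{u} R) : ProjectiveResolution X := projectiveResolution X

/-- a chosen lift of a morphism to the chosen resolutions. -/
noncomputable def resHom {X' X : ModuleCat.{u} R} (f : X' ⟶ X) :
    ProjectiveResolution.Hom (res X') (res X) f where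
  hom := ProjectiveResolution.lift f (res X') (res X)
  hom_f_zero_comp_π_f_zero := by
    have := ProjectiveResolution.lift_commutes_zero f (res X') (res X)
    simpa using this

/-- canonical comparison between old and new Ext. -/
noncomputable def cmpC (X Y : ModuleCat.{u} R) (n : ℕ) :
    ((Ext R (ModuleCat.{u} R) n).obj (op X)).obj Y ≃ₗ[R] Abelian.Ext X Y n :=
  cmp (res X) Y n

lemma cmpC_post {X Y Y' : ModuleCat.{u} R} (g : Y ⟶ Y') (n : ℕ)
    (x : ((Ext R (ModuleCat.{u} R) n).obj (op X)).obj Y) :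
    cmpC X Y' n ((((Ext R (ModuleCat.{u} R) n).obj (op X)).map g) x) =
      (cmpC X Y n x).comp (Ext.mk₀ g) (add_zero n) :=
  cmp_post (res X) g n x

lemma cmpC_pre {X X' : ModuleCat.{u} R} (f : X' ⟶ X) (Y : ModuleCat.{u} R) (n : ℕ)
    (x : ((Ext R (ModuleCat.{u} R) n).obj (op X)).obj Y) :
    cmpC X' Y n ((((Ext R (ModuleCat.{u} R) n).map f.op).app Y) x) =
      (Ext.mk₀ f).comp (cmpC X Y n x) (zero_add n) :=
  cmp_pre (resHom f) Y n x

lemma cmpC_symm_post {X Y Y' : ModuleCat.{u} R} (g : Y ⟶ Y') (n : ℕ) (e : Abelian.Ext X Y n) :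
    (((Ext R (ModuleCat.{u} R) n).obj (op X)).map g) ((cmpC X Y n).symm e) =
      (cmpC X Y' n).symm (e.comp (Ext.mk₀ g) (add_zero n)) := by
  rw [LinearEquiv.eq_symm_apply, cmpC_post, LinearEquiv.apply_symm_apply]

lemma cmpC_symm_pre {X X' : ModuleCat.{u} R} (f : X' ⟶ X) (Y : ModuleCat.{u} R) (n : ℕ)
    (e : Abelian.Ext X Y n) :
    (((Ext R (ModuleCat.{u} R) n).map f.op).app Y) ((cmpC X Y n).symm e) =
      (cmpC X' Y n).symm ((Ext.mk₀ f).comp e (zero_add n)) := by
  rw [LinearEquiv.eq_symm_apply, cmpC_pre, LinearEquiv.apply_symm_apply]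

end Canonical

end Groth.Agent.Helper8.LC
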