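import Groth.Agent.Lib.Helper8.ExtReg3
import Groth.Agent.Lib.Helper8.FlatReg5
import Groth.Agent.Lib.Helper8.ABS5
import Groth.Agent.Lib.Helper8.LC5
import Groth.Agent.Lib.Helper8.Goren1

/-!
# `Ext(M, A)` for a module of finite length over a regular local ring
-/

set_option autoImplicit false
universe u

namespace Groth.Agent.Helper8.ExtFL

open CategoryTheory Abelian IsLocalRing RingTheory.Sequence
open Groth.Agent.Helper8.ExtReg

variable (A : Type u) [CommRing A] [IsRegularLocalRing A] (n : ℕ) (hn : ringKrullDim A = n)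

include hn in
/-- `Ext^i(κ, A)` for a regular local ring `A` of dimension `n`. -/
theorem ext_residue :
    (∀ i : ℕ, i ≠ n →
      Subsingleton (Ext (ModuleCat.of A (A ⧸ maximalIdeal A)) (ModuleCat.of A A) i)) ∧
    Module.length A (Ext (ModuleCat.of A (A ⧸ maximalIdeal A)) (ModuleCat.of A A) n) = 1 := by
  obtain ⟨xs, hxs, hdim, hreg⟩ := Groth.Agent.Helper8.FlatReg.exists_regular_generators A
  have hlen : xs.length = n := by
    rw [hn] at hdim
    exact_mod_cast hdim.symm
  have hkill : ∀ x ∈ xs, ∀ y : (ModuleCat.of A (A ⧸ maximalIdeal A)), x • y = 0 := by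
    intro x hx y
    obtain ⟨a, rfl⟩ := Ideal.Quotient.mk_surjective y
    change x • (Ideal.Quotient.mk (maximalIdeal A) a) = 0
    rw [← hxs] at *
    rw [Algebra.smul_def, Ideal.Quotient.algebraMap_eq, ← map_mul,
      Ideal.Quotient.eq_zero_iff_mem]
    exact Ideal.mul_mem_right _ _ (Ideal.subset_span hx)
  have hlow := (main_aux' (ModuleCat.of A (A ⧸ maximalIdeal A)) xs (ModuleCat.of A A) hreg
    hkill).1
  have hpd := Groth.Agent.Helper8.ABS.hasProjectiveDimensionLT_of_regular A n hn
    (A ⧸ maximalIdeal A)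
  constructor
  · intro i hi
    rcases Nat.lt_or_gt_of_ne hi with hlt | hgt
    · exact hlow i (by omega)
    · exact HasProjectiveDimensionLT.subsingleton (ModuleCat.of A (A ⧸ maximalIdeal A)) (n + 1) i
        (by omega) _
  · obtain ⟨e⟩ := main xs hreg A
    rw [hxs, hlen] at e
    rw [e.length_eq]
    have hI : (maximalIdeal A • ⊤ : Submodule A A) = maximalIdeal A := by
      rw [smul_eq_mul, Ideal.mul_top]
    rw [hI]
    have : IsSimpleModule A (A ⧸ maximalIdeal A) := by
      rw [isSimpleModule_iff_isCoatom]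
      exact Ideal.isMaximal_def.mp (maximalIdeal.isMaximal A)
    exact Module.length_eq_one A _

include hn in
/-- `Ext^i(M, A)` for a module of finite length over a regular local ring. -/
theorem ext_finiteLength : ∀ (M : Type u) [AddCommGroup M] [Module A M], IsFiniteLength A M →
    (∀ i : ℕ, i ≠ n → Subsingleton (Ext (ModuleCat.of A M) (ModuleCat.of A A) i)) ∧
      Module.length A (Ext (ModuleCat.of A M) (ModuleCat.of A A) n) = Module.length A M := by
  intro M _ _ hM
  induction hM with
  | @of_subsingleton M _ _ _ =>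
    have hz : Limits.IsZero (ModuleCat.of A M) := ModuleCat.isZero_of_subsingleton _
    have := hz.hasProjectiveDimensionLT_zero
    have hsub : ∀ i : ℕ, Subsingleton (Ext (ModuleCat.of A M) (ModuleCat.of A A) i) :=
      fun i => HasProjectiveDimensionLT.subsingleton (ModuleCat.of A M) 0 i (Nat.zero_le _) _
    refine ⟨fun i _ => hsub i, ?_⟩
    haveI := hsub n
    rw [Module.length_eq_zero, Module.length_eq_zero]
  | @of_simple_quotient M _ _ N hsimple hN ih =>
    obtain ⟨hres, hreslen⟩ := ext_residue A n hn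
    obtain ⟨ihvan, ihlen⟩ := ih
    obtain ⟨I, hImax, ⟨e⟩⟩ := isSimpleModule_iff_quot_maximal.mp hsimple
    obtain rfl : I = maximalIdeal A := IsLocalRing.eq_maximalIdeal hImax
    let f : N →ₗ[A] M := N.subtype
    let g : M →ₗ[A] (A ⧸ maximalIdeal A) := e.toLinearMap.comp N.mkQ
    have hf : Function.Injective f := Submodule.subtype_injective N
    have hg : Function.Surjective g := e.surjective.comp (Submodule.mkQ_surjective N)
    have hfg : Function.Exact f g := by
      intro y
      constructor
      · intro hy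
        have h1 : N.mkQ y = 0 := e.injective (by rw [map_zero]; exact hy)
        rw [Submodule.mkQ_apply, Submodule.Quotient.mk_eq_zero] at h1
        exact ⟨⟨y, h1⟩, rfl⟩
      · rintro ⟨z, rfl⟩
        change e (N.mkQ z.1) = 0
        rw [Submodule.mkQ_apply, (Submodule.Quotient.mk_eq_zero N).mpr z.2, map_zero]
    let S := ModuleCat.shortComplexOfCompEqZero f g hfg.linearMap_comp_eq_zero
    have hS : S.ShortExact := ModuleCat.shortComplex_shortExact S hfg hf hg
    have hvan : ∀ i : ℕ, i ≠ n → Subsingleton (Ext (ModuleCat.of A M) (ModuleCat.of A A) i) :=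
      fun i hi => Groth.Agent.Helper8.Goren.ext_subsingleton_of_exact_left (ModuleCat.of A A)
        f g hf hg hfg i (ihvan i hi) (hres i hi)
    refine ⟨hvan, ?_⟩
    -- the short exact sequence of `Ext^n`
    let φ : Ext S.X₃ (ModuleCat.of A A) n →ₗ[A] Ext S.X₂ (ModuleCat.of A A) n :=
      Ext.precompOfLinear (Ext.mk₀ S.g) A (ModuleCat.of A A) (zero_add n)
    let ψ : Ext S.X₂ (ModuleCat.of A A) n →ₗ[A] Ext S.X₁ (ModuleCat.of A A) n :=
      Ext.precompOfLinear (Ext.mk₀ S.f) A (ModuleCat.of A A) (zero_add n)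
    have hφ : Function.Injective φ := by
      rw [injective_iff_map_eq_zero]
      intro x₃ hx₃
      have hx₃' : (Ext.mk₀ S.g).comp x₃ (zero_add n) = 0 := hx₃
      rcases Nat.eq_zero_or_pos n with h0 | hpos
      · subst h0
        haveI : Epi S.g := hS.epi_g
        exact (injective_iff_map_eq_zero _).mp
          (Ext.precomp_mk₀_injective_of_epi (ModuleCat.of A A) S.g) x₃ hx₃'
      · obtain ⟨n₀, rfl⟩ : ∃ n₀, n = 1 + n₀ := ⟨n - 1, by omega⟩
        obtain ⟨x₁, hx₁⟩ := Ext.contravariant_sequence_exact₃ hS (ModuleCat.of A A) x₃ hx₃' rfl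
        have : Subsingleton (Ext S.X₁ (ModuleCat.of A A) n₀) := ihvan n₀ (by omega)
        rw [← hx₁, Subsingleton.elim x₁ 0, Ext.comp_zero]
    have hψ : Function.Surjective ψ := by
      intro x₁
      have : Subsingleton (Ext S.X₃ (ModuleCat.of A A) (1 + n)) := hres (1 + n) (by omega)
      obtain ⟨x₂, hx₂⟩ := Ext.contravariant_sequence_exact₁ hS (ModuleCat.of A A) x₁ rfl
        (Subsingleton.elim _ _)
      exact ⟨x₂, hx₂⟩
    have hex : Function.Exact φ ψ := by
      intro x₂
      constructor
      · intro hx₂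
        obtain ⟨x₃, hx₃⟩ := Ext.contravariant_sequence_exact₂ hS (ModuleCat.of A A) x₂ hx₂
        exact ⟨x₃, hx₃⟩
      · rintro ⟨x₃, rfl⟩
        change (Ext.mk₀ S.f).comp ((Ext.mk₀ S.g).comp x₃ (zero_add n)) (zero_add n) = 0
        rw [← Ext.comp_assoc (Ext.mk₀ S.f) (Ext.mk₀ S.g) x₃ (zero_add 0) (zero_add n)
          (by omega), Ext.mk₀_comp_mk₀, S.zero, Ext.mk₀_zero, Ext.zero_comp]
    have h1 := Module.length_eq_add_of_exact φ ψ hφ hψ hex
    have h2 := Module.length_eq_add_of_exact N.subtype N.mkQ (Submodule.subtype_injective N)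
      (Submodule.mkQ_surjective N) (LinearMap.exact_subtype_mkQ N)
    have h3 : Module.length A (M ⧸ N) = 1 := Module.length_eq_one A _
    change Module.length A (Ext S.X₂ (ModuleCat.of A A) n) = Module.length A M
    rw [h1, h2, h3]
    change Module.length A (Ext (ModuleCat.of A (A ⧸ maximalIdeal A)) (ModuleCat.of A A) n) +
      Module.length A (Ext (ModuleCat.of A N) (ModuleCat.of A A) n) = _
    rw [hreslen, ihlen, add_comm]

include hn in
/-- **S5159**, with Mathlib's older `Ext` functor. -/
theorem oldExt_finiteLength (M : Type u) [AddCommGroup M] [Module A M] (hM : IsFiniteLength A M) :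
    (∀ i : ℕ, i ≠ n → Subsingleton
      (((_root_.Ext A (ModuleCat.{u} A) i).obj (Opposite.op (ModuleCat.of A M))).obj
        (ModuleCat.of A A))) ∧
    Module.length A (((_root_.Ext A (ModuleCat.{u} A) n).obj
      (Opposite.op (ModuleCat.of A M))).obj (ModuleCat.of A A)) = Module.length A M := by
  obtain ⟨h1, h2⟩ := ext_finiteLength A n hn M hM
  constructor
  · intro i hi
    haveI := h1 i hi
    exact (Groth.Agent.Helper8.LC.cmpC (ModuleCat.of A M) (ModuleCat.of A A) i).toEquiv.subsingleton
  · rw [(Groth.Agent.Helper8.LC.cmpC (ModuleCat.of A M) (ModuleCat.of A A) n).length_eq, h2]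

end Groth.Agent.Helper8.ExtFL
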