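import Groth.Agent.Lib.Helper8.LD10

/-!
# Local duality over a Gorenstein local ring
-/

set_option autoImplicit false
universe u

namespace Groth.Agent.Helper8.LD

open CategoryTheory Abelian IsLocalRing LocCoh localCohomology Opposite
open Groth.Agent.Helper8.LC Groth.Agent.Helper8.Depth

/-- the local cohomology of a Gorenstein local ring is concentrated in degree `dim R`. -/
theorem subsingleton_H_of_gorenstein (R : Type u) [CommRing R] [IsGorensteinLocalRing R] (n : ℕ)
    (hn : ringKrullDim R = n) (i : ℕ) (hi : i ≠ n) : Subsingleton (H (maximalIdeal R) i R) := by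
  have hmR : maximalIdeal R • (⊤ : Submodule R R) ≠ ⊤ := smul_top_ne_top_of_local R R
  have hCM : IsCohenMacaulayLocalRing R :=
    Groth.Agent.Helper8.Goren.isCohenMacaulayLocalRing_of_isGorensteinLocalRing R
  have hM : IsCohenMacaulayModule R R := hCM.supportDim_eq_depth
  obtain ⟨n', hn', hdepth⟩ := cm_exists_nat hM
  have hnn : n' = n := by
    rw [Module.supportDim_self_eq_ringKrullDim, hn] at hn'
    exact_mod_cast hn'.symm
  subst hnn
  rcases Nat.lt_or_gt_of_ne hi with h | h
  · exact subsingleton_of_lt_idealDepth (maximalIdeal R) hmR i (by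
      change (i : ℕ∞) < depth R R
      rw [hdepth]; exact_mod_cast h)
  · apply subsingleton_of_supportDim_lt (maximalIdeal R)
    rw [hn']
    exact_mod_cast h

/-- **Local duality** over a Gorenstein local ring of dimension `n`: for a finite module `M` and
`i + j = n`, `H^i_m(M) ≃ Hom(Ext^j(M, R), E)`. -/
theorem nonempty_H_equiv_dual_ext_of_gorenstein (R : Type u) [CommRing R]
    [IsGorensteinLocalRing R] (n : ℕ) (hn : ringKrullDim R = n)
    (E : Type u) [AddCommGroup E] [Module R E] (f : ResidueField R →ₗ[R] E)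
    (hf : InjHull.IsInjectiveHull f) (M : Type u) [AddCommGroup M] [Module R M]
    [Module.Finite R M] (i j : ℕ) (hij : i + j = n) :
    Nonempty (H (maximalIdeal R) i M ≃ₗ[R]
      (Ext (ModuleCat.of R M) (ModuleCat.of R R) j →ₗ[R] E)) := by
  obtain ⟨g, hg⟩ := exists_isInjectiveHull_H_of_gorenstein R n hn
  obtain ⟨e, -⟩ := Groth.Agent.Helper1.InjHullL.injectiveHull_unique g hg f hf
  haveI : Module.Injective R (H (maximalIdeal R) n R) := hg.isInjective
  have hcd : ∀ (N : Type u) [AddCommGroup N] [Module R N],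
      Subsingleton (H (maximalIdeal R) (n + 1) N) := by
    intro N _ _
    exact cdLE_of_ringKrullDim_le (maximalIdeal R) n hn.le N (n + 1) (Nat.lt_succ_self n)
  obtain ⟨e'⟩ := nonempty_H_equiv_dual_ext (maximalIdeal R) n hcd
    (subsingleton_H_of_gorenstein R n hn) j i hij M
  exact ⟨e'.trans (LinearEquiv.arrowCongr (LinearEquiv.refl R _) e)⟩

/-- the same with the derived functor version of `Ext`. -/
theorem nonempty_H_equiv_dual_oldExt_of_gorenstein (R : Type u) [CommRing R]
    [IsGorensteinLocalRing R] (n : ℕ) (hn : ringKrullDim R = n)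
    (E : Type u) [AddCommGroup E] [Module R E] (f : ResidueField R →ₗ[R] E)
    (hf : InjHull.IsInjectiveHull f) (M : Type u) [AddCommGroup M] [Module R M]
    [Module.Finite R M] (i j : ℕ) (hij : i + j = n) :
    Nonempty (H (maximalIdeal R) i M ≃ₗ[R]
      ((((_root_.Ext R (ModuleCat.{u} R) j).obj (op (ModuleCat.of R M))).obj
        (ModuleCat.of R R)) →ₗ[R] E)) := by
  obtain ⟨e⟩ := nonempty_H_equiv_dual_ext_of_gorenstein R n hn E f hf M i j hij
  exact ⟨e.trans (LinearEquiv.arrowCongr
    (cmpC (ModuleCat.of R M) (ModuleCat.of R R) j).symm (LinearEquiv.refl R _))⟩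

end Groth.Agent.Helper8.LD
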