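import Mathlib
import Groth.Agent.Lib.Helper8.Depth28
import Groth.Agent.Lib.Helper8.Depth6
import Groth.Agent.Lib.Helper8.Depth3

/-!
# The acyclicity lemma of Peskine–Szpiro
-/

set_option autoImplicit false
universe u

namespace Groth.Agent.Helper8.Acyc

open LocCoh IsLocalRing Depth

theorem nat_le_sub_one {a : ℕ∞} {n : ℕ} (h : ((n + 1 : ℕ) : ℕ∞) ≤ a) : (n : ℕ∞) ≤ a - 1 := by
  induction a using ENat.recTopCoe with
  | top => simp
  | coe m =>
    have h1 : n + 1 ≤ m := by exact_mod_cast h
    have : n ≤ m - 1 := by omega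
    have h2 : ((m : ℕ∞) - 1) = ((m - 1 : ℕ) : ℕ∞) := by push_cast; rfl
    rw [h2]
    exact_mod_cast this

variable {R : Type u} [CommRing R] [IsLocalRing R] [IsNoetherianRing R]

theorem subsingleton_of_isFiniteLength_of_one_le_depth (M : Type u) [AddCommGroup M] [Module R M]
    (hfl : IsFiniteLength R M) (h : 1 ≤ depth R M) : Subsingleton M := by
  by_contra hns
  rw [not_subsingleton_iff_nontrivial] at hns
  obtain ⟨hnoeth, hart⟩ := isFiniteLength_iff_isNoetherian_isArtinian.mp hfl
  have hfin : Module.Finite R M := inferInstance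
  obtain ⟨N, hN⟩ := IsAtomic.exists_atom (Submodule R M)
  have hsimple : IsSimpleModule R N := isSimpleModule_iff_isAtom.mpr hN
  have hnt := IsSimpleModule.nontrivial R N
  obtain ⟨x, hx⟩ := exists_ne (0 : N)
  have hmax := IsSimpleModule.ker_toSpanSingleton_isMaximal R hx
  have hker : LinearMap.ker (LinearMap.toSpanSingleton R N x) = maximalIdeal R :=
    eq_maximalIdeal hmax
  have hd0 : depth R M = 0 := by
    rw [depth_eq_zero_iff]
    refine (isAssociatedPrime_iff (R := R) (M := M)).mpr ⟨inferInstance, (x : M), ?_⟩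
    ext r
    rw [← hker, Submodule.mem_colon_singleton, Submodule.mem_bot, LinearMap.mem_ker,
      LinearMap.toSpanSingleton_apply]
    constructor
    · intro h1
      have := congrArg Subtype.val h1
      simpa using this
    · intro h1
      apply Subtype.ext
      simpa using h1
  rw [hd0] at h
  exact absurd h (by simp)

section Complex

variable (g : ℕ) (X : ℕ → Type u) [∀ i, AddCommGroup (X i)] [∀ i, Module R (X i)]
  [∀ i, Module.Finite R (X i)] (d : ∀ i, X i →ₗ[R] X (i + 1))
  (hdd : ∀ i (x : X i), d (i + 1) (d i x) = 0)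

/-- the map to cycles -/
abbrev toCyc (i : ℕ) : X i →ₗ[R] LinearMap.ker (d (i + 1)) :=
  (d i).codRestrict (LinearMap.ker (d (i + 1))) (fun x => LinearMap.mem_ker.mpr (hdd i x))

theorem acyclicity_aux (hdepth : ∀ i, (g : ℕ∞) ≤ depth R (X i))
    (h0 : IsFiniteLength R (LinearMap.ker (d 0)))
    (hH : ∀ i, IsFiniteLength R
      (LinearMap.ker (d (i + 1)) ⧸ LinearMap.range (toCyc X d hdd i))) :
    ∀ i, i < g → LinearMap.ker (d 0) = ⊥ ∧ (∀ j, j < i → LinearMap.range (toCyc X d hdd j) = ⊤) ∧
      ((g - i : ℕ) : ℕ∞) ≤ depth R (LinearMap.range (toCyc X d hdd i)) := by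
  intro i
  induction i with
  | zero =>
    intro hg
    have h1g : (1 : ℕ∞) ≤ g := by exact_mod_cast hg
    have h1 : 1 ≤ depth R (LinearMap.ker (d 0)) :=
      one_le_idealDepth_of_injective (maximalIdeal R) (LinearMap.ker (d 0)).subtype
        (Submodule.injective_subtype _) (h1g.trans (hdepth 0))
    have hsub := subsingleton_of_isFiniteLength_of_one_le_depth _ h0 h1
    have hbot : LinearMap.ker (d 0) = ⊥ := by
      rw [Submodule.eq_bot_iff]
      intro x hx
      have := Subsingleton.elim (⟨x, hx⟩ : LinearMap.ker (d 0)) 0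
      exact congrArg Subtype.val this
    refine ⟨hbot, fun j hj => absurd hj (by omega), ?_⟩
    have hinj : Function.Injective (toCyc X d hdd 0) := by
      rw [← LinearMap.ker_eq_bot, LinearMap.ker_codRestrict]
      exact hbot
    have e := LinearEquiv.ofInjective (toCyc X d hdd 0) hinj
    have : depth R (X 0) = depth R (LinearMap.range (toCyc X d hdd 0)) :=
      idealDepth_congr (I := maximalIdeal R) e
    rw [← this]
    simpa using hdepth 0
  | succ i ih =>
    intro hg
    obtain ⟨hbot, hex, hdep⟩ := ih (by omega)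
    -- `B = range (toCyc i) ⊆ Z = ker (d (i+1))`, depth `B ≥ g - i ≥ 2`
    set B := LinearMap.range (toCyc X d hdd i) with hB
    have h1g : (1 : ℕ∞) ≤ g := by
      have : 1 ≤ g := by omega
      exact_mod_cast this
    have hZ1 : 1 ≤ depth R (LinearMap.ker (d (i + 1))) :=
      one_le_idealDepth_of_injective (maximalIdeal R) (LinearMap.ker (d (i + 1))).subtype
        (Submodule.injective_subtype _) (h1g.trans (hdepth (i + 1)))
    have hB2 : (2 : ℕ∞) ≤ depth R B := by
      refine le_trans ?_ hdep
      have : 2 ≤ g - i := by omega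
      exact_mod_cast this
    have hright := idealDepth_right_ge (maximalIdeal R) B.subtype B.mkQ
      (Submodule.injective_subtype _) (Submodule.mkQ_surjective _) (LinearMap.exact_subtype_mkQ B)
    have hH1 : 1 ≤ depth R (LinearMap.ker (d (i + 1)) ⧸ B) := by
      refine le_trans (le_min hZ1 ?_) hright
      have : ((1 + 1 : ℕ) : ℕ∞) ≤ depth R B := by exact_mod_cast hB2
      exact_mod_cast nat_le_sub_one this
    have hsub := subsingleton_of_isFiniteLength_of_one_le_depth _ (hH i) hH1
    have hBtop : B = ⊤ := by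
      rw [← Submodule.Quotient.subsingleton_iff]
      exact hsub
    have hex' : ∀ j, j < i + 1 → LinearMap.range (toCyc X d hdd j) = ⊤ := by
      intro j hj
      rcases Nat.lt_succ_iff_lt_or_eq.mp hj with hj' | rfl
      · exact hex j hj'
      · exact hBtop
    refine ⟨hbot, hex', ?_⟩
    -- depth of `Z = ker (d (i+1))` is depth of `B`
    have hZdep : ((g - i : ℕ) : ℕ∞) ≤ depth R (LinearMap.ker (d (i + 1))) := by
      have e : B ≃ₗ[R] LinearMap.ker (d (i + 1)) := LinearEquiv.ofTop B hBtop
      have : depth R B = depth R (LinearMap.ker (d (i + 1))) :=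
        idealDepth_congr (I := maximalIdeal R) e
      rw [← this]; exact hdep
    -- `0 → Z → X (i+1) → range (toCyc (i+1)) → 0`
    have hexact : Function.Exact (LinearMap.ker (d (i + 1))).subtype
        (toCyc X d hdd (i + 1)).rangeRestrict := by
      intro x
      constructor
      · intro hx
        have h1 := congrArg Subtype.val hx
        have h2 : ((toCyc X d hdd (i + 1)) x : X (i + 1 + 1)) = 0 := by
          have h3 := congrArg Subtype.val h1
          exact h3
        have h3 : d (i + 1) x = 0 := h2
        exact ⟨⟨x, h3⟩, rfl⟩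
      · rintro ⟨⟨y, hy⟩, rfl⟩
        apply Subtype.ext
        apply Subtype.ext
        exact hy
    have hright2 := idealDepth_right_ge (maximalIdeal R) (LinearMap.ker (d (i + 1))).subtype
      (toCyc X d hdd (i + 1)).rangeRestrict (Submodule.injective_subtype _)
      (LinearMap.surjective_rangeRestrict _) hexact
    refine le_trans (le_min ?_ ?_) hright2
    · refine le_trans ?_ (hdepth (i + 1))
      exact_mod_cast Nat.sub_le g (i + 1)
    · apply nat_le_sub_one
      have : g - (i + 1) + 1 = g - i := by omega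
      rw [this]
      exact hZdep

theorem acyclicity (hdepth : ∀ i, (g : ℕ∞) ≤ depth R (X i))
    (h0 : IsFiniteLength R (LinearMap.ker (d 0)))
    (hH : ∀ i, IsFiniteLength R
      (LinearMap.ker (d (i + 1)) ⧸ LinearMap.range (toCyc X d hdd i))) :
    (0 < g → LinearMap.ker (d 0) = ⊥) ∧
      ∀ i, i + 1 < g → LinearMap.range (d i) = LinearMap.ker (d (i + 1)) := by
  constructor
  · intro hg
    exact (acyclicity_aux g X d hdd hdepth h0 hH 0 hg).1
  · intro i hi
    have h := (acyclicity_aux g X d hdd hdepth h0 hH (i + 1) hi).2.1 i (by omega)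
    apply le_antisymm
    · rintro _ ⟨x, rfl⟩
      exact hdd i x
    · intro y hy
      have : (⟨y, hy⟩ : LinearMap.ker (d (i + 1))) ∈ LinearMap.range (toCyc X d hdd i) := by
        rw [h]; trivial
      obtain ⟨x, hx⟩ := this
      exact ⟨x, congrArg Subtype.val hx⟩

end Complex

end Groth.Agent.Helper8.Acyc
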