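import Mathlib
import Groth.Agent.Lib.Helper8.Acyc1
import Groth.Agent.Lib.Helper8.ABS19
import Groth.Agent.Lib.Helper8.ABS9

/-!
# The acyclicity lemma for complexes of free modules over a regular local ring
-/

set_option autoImplicit false
universe u

namespace Groth.Agent.Helper8.Acyc

open LocCoh IsLocalRing Depth CategoryTheory CategoryTheory.Limits

theorem le_depth_of_free (R : Type u) [CommRing R] [IsRegularLocalRing R] (g : ℕ)
    (hg : ringKrullDim R = g) (X : Type u) [AddCommGroup X] [Module R X] [Module.Free R X]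
    [Module.Finite R X] : (g : ℕ∞) ≤ depth R X := by
  rcases subsingleton_or_nontrivial X with h | h
  · rw [depth_eq_top_of_subsingleton]; exact le_top
  · rw [ABS.depth_of_free]
    have h1 := ABS.depth_eq_dim_of_regular R
    rw [hg] at h1
    have h2 : ((depth R R : ℕ∞) : WithBot ℕ∞) = ((g : ℕ∞) : WithBot ℕ∞) := h1
    rw [WithBot.coe_injective h2]

theorem isZero_homology (R : Type u) [CommRing R]
    [IsRegularLocalRing R] (g : ℕ) (hg : ringKrullDim R = g) (M : CochainComplex (ModuleCat.{u} R) ℕ)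
    (hfree : ∀ i, Module.Free R (M.X i) ∧ Module.Finite R (M.X i))
    (hfl : ∀ i, IsFiniteLength R (M.homology i)) (i : ℕ) (hi : i < g) :
    IsZero (M.homology i) := by
  have hfin : ∀ i, Module.Finite R (M.X i) := fun i => (hfree i).2
  have hfr : ∀ i, Module.Free R (M.X i) := fun i => (hfree i).1
  have hdd : ∀ i (x : M.X i), (M.d (i + 1) (i + 1 + 1)).hom ((M.d i (i + 1)).hom x) = 0 := by
    intro i x
    have h1 := M.d_comp_d i (i + 1) (i + 1 + 1)
    have h2 : (M.d i (i + 1) ≫ M.d (i + 1) (i + 1 + 1)).hom x = (0 : M.X i ⟶ M.X (i + 1 + 1)).hom x := by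
      rw [h1]
    exact h2
  have hdepth : ∀ i, (g : ℕ∞) ≤ depth R (M.X i) := fun i => le_depth_of_free R g hg (M.X i)
  -- finite length of the concrete homology modules
  have h0 : IsFiniteLength R (LinearMap.ker (M.d 0 (0 + 1)).hom) := by
    have e1 := (M.isoSc' 0 0 1 (by simp) (by simp))
    have e2 : M.homology 0 ≅ (M.sc' 0 0 1).homology := ShortComplex.homologyMapIso e1
    have e3 := e2 ≪≫ (M.sc' 0 0 1).moduleCatHomologyIso
    have hfl' : IsFiniteLength R
        (LinearMap.ker (M.d 0 1).hom ⧸ LinearMap.range (M.sc' 0 0 1).moduleCatToCycles) :=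
      (e3.toLinearEquiv).isFiniteLength (hfl 0)
    have hbot : LinearMap.range (M.sc' 0 0 1).moduleCatToCycles = ⊥ := by
      rw [eq_bot_iff]
      rintro _ ⟨x, rfl⟩
      rw [Submodule.mem_bot]
      apply Subtype.ext
      have : M.d 0 0 = 0 := M.shape 0 0 (by simp)
      show (M.d 0 0).hom x = 0
      rw [this]; rfl
    rw [hbot] at hfl'
    exact (Submodule.quotEquivOfEqBot ⊥ rfl).isFiniteLength hfl'
  have hH : ∀ i, IsFiniteLength R
      (LinearMap.ker (M.d (i + 1) (i + 1 + 1)).hom ⧸
        LinearMap.range (toCyc (fun i => M.X i) (fun i => (M.d i (i + 1)).hom) hdd i)) := by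
    intro i
    have e1 := (M.isoSc' i (i + 1) (i + 1 + 1) (by simp) (by simp))
    have e2 : M.homology (i + 1) ≅ (M.sc' i (i + 1) (i + 1 + 1)).homology :=
      ShortComplex.homologyMapIso e1
    have e3 := e2 ≪≫ (M.sc' i (i + 1) (i + 1 + 1)).moduleCatHomologyIso
    exact (e3.toLinearEquiv).isFiniteLength (hfl (i + 1))
  obtain ⟨hA, hB⟩ := acyclicity g (fun i => M.X i) (fun i => (M.d i (i + 1)).hom) hdd hdepth h0 hH
  rw [← HomologicalComplex.exactAt_iff_isZero_homology]
  rcases i with _ | i
  · rw [HomologicalComplex.exactAt_iff' M 0 0 1 (by simp) (by simp),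
      ShortComplex.moduleCat_exact_iff_range_eq_ker]
    have : M.d 0 0 = 0 := M.shape 0 0 (by simp)
    show LinearMap.range (M.d 0 0).hom = LinearMap.ker (M.d 0 1).hom
    rw [this, hA hi]
    exact LinearMap.range_zero
  · rw [HomologicalComplex.exactAt_iff' M i (i + 1) (i + 1 + 1) (by simp) (by simp),
      ShortComplex.moduleCat_exact_iff_range_eq_ker]
    exact hB i hi

end Groth.Agent.Helper8.Acyc
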