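import Mathlib
import Groth.Agent.Lib.Helper8.FlatReg9

/-!
# Descent of normality along faithfully flat maps
-/

set_option autoImplicit false
universe u

namespace Groth.Agent.Helper8.FlatReg

open IsLocalRing LocCoh Polynomial

section Crit

variable {D : Type*} [CommRing D] [IsDomain D]

theorem dvd_of_eval_scaleRoots_eq_zero [IsIntegrallyClosed D] (p : D[X]) (hp : p.Monic) (c d : D)
    (hd : d ≠ 0) (h : (p.scaleRoots d).eval c = 0) : d ∣ c := by
  let L := FractionRing D
  have hd' : algebraMap D L d ≠ 0 := by
    intro h0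
    exact hd ((IsFractionRing.injective D L) (h0.trans (map_zero _).symm))
  have h1 := Polynomial.scaleRoots_eval₂_mul (p := p) (algebraMap D L)
    (algebraMap D L c / algebraMap D L d) d
  rw [mul_div_cancel₀ _ hd'] at h1
  have h2 : eval₂ (algebraMap D L) (algebraMap D L c) (scaleRoots p d) = 0 := by
    rw [Polynomial.eval₂_at_apply, h, map_zero]
  rw [h2] at h1
  have h3 : eval₂ (algebraMap D L) (algebraMap D L c / algebraMap D L d) p = 0 := by
    rcases mul_eq_zero.mp h1.symm with h4 | h4
    · exact absurd (eq_zero_of_pow_eq_zero h4) hd'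
    · exact h4
  have hint : IsIntegral D (algebraMap D L c / algebraMap D L d) := ⟨p, hp, h3⟩
  obtain ⟨b, hb⟩ := IsIntegrallyClosed.isIntegral_iff.mp hint
  refine ⟨b, ?_⟩
  apply IsFractionRing.injective D L
  rw [map_mul, hb, mul_div_cancel₀ _ hd']

theorem isIntegrallyClosed_of_forall_dvd
    (h : ∀ (p : D[X]), p.Monic → ∀ c d : D, d ≠ 0 → (p.scaleRoots d).eval c = 0 → d ∣ c) :
    IsIntegrallyClosed D := by
  rw [isIntegrallyClosed_iff (FractionRing D)]
  intro x hx
  obtain ⟨p, hp, hpx⟩ := hx
  obtain ⟨c, d, hd, rfl⟩ := IsFractionRing.div_surjective D x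
  have hd0 : d ≠ 0 := nonZeroDivisors.ne_zero hd
  have hd' : algebraMap D (FractionRing D) d ≠ 0 := by
    intro h0
    exact hd0 ((IsFractionRing.injective D (FractionRing D)) (h0.trans (map_zero _).symm))
  have h1 := Polynomial.scaleRoots_eval₂_mul (p := p) (algebraMap D (FractionRing D))
    (algebraMap D (FractionRing D) c / algebraMap D (FractionRing D) d) d
  rw [mul_div_cancel₀ _ hd', hpx, mul_zero, Polynomial.eval₂_at_apply] at h1
  have h2 : (p.scaleRoots d).eval c = 0 :=
    (IsFractionRing.injective D (FractionRing D)) (h1.trans (map_zero _).symm)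
  obtain ⟨b, hb⟩ := h p hp c d hd0 h2
  refine ⟨b, ?_⟩
  rw [hb, map_mul, mul_div_cancel_left₀ _ hd']

end Crit

theorem normal_of_faithfullyFlat (R S : Type*) [CommRing R] [CommRing S] [Algebra R S]
    [Module.FaithfullyFlat R S] [IsDomain S] [IsIntegrallyClosed S] :
    IsDomain R ∧ IsIntegrallyClosed R := by
  have hinj : Function.Injective (algebraMap R S) := FaithfulSMul.algebraMap_injective R S
  have hdom : IsDomain R := hinj.isDomain (algebraMap R S)
  refine ⟨hdom, ?_⟩
  apply isIntegrallyClosed_of_forall_dvd
  intro p hp c d hd h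
  have hd' : algebraMap R S d ≠ 0 := fun h0 => hd (hinj (h0.trans (map_zero _).symm))
  have hlead : algebraMap R S p.leadingCoeff ≠ 0 := by
    rw [hp.leadingCoeff, map_one]; exact one_ne_zero
  have h1 : ((p.map (algebraMap R S)).scaleRoots (algebraMap R S d)).eval (algebraMap R S c) = 0 := by
    rw [← map_scaleRoots p d (algebraMap R S) hlead, Polynomial.eval_map, Polynomial.eval₂_at_apply,
      h, map_zero]
  have h2 := dvd_of_eval_scaleRoots_eq_zero (p.map (algebraMap R S)) (hp.map _) _ _ hd' h1
  have h3 : algebraMap R S c ∈ (Ideal.span {d}).map (algebraMap R S) := by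
    rw [Ideal.map_span, Set.image_singleton]
    exact Ideal.mem_span_singleton.mpr h2
  have h4 : c ∈ ((Ideal.span {d}).map (algebraMap R S)).comap (algebraMap R S) := h3
  rw [Ideal.comap_map_eq_self_of_faithfullyFlat] at h4
  exact Ideal.mem_span_singleton.mp h4

theorem normal_base_of_flat (A B : Type u) [CommRing A] [CommRing B]
    [Algebra A B] [Module.Flat A B]
    (q : Ideal B) [q.IsPrime]
    [IsDomain (Localization.AtPrime q)] [IsIntegrallyClosed (Localization.AtPrime q)] :
    IsDomain (Localization.AtPrime (q.comap (algebraMap A B))) ∧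
      IsIntegrallyClosed (Localization.AtPrime (q.comap (algebraMap A B))) := by
  have : q.LiesOver (q.comap (algebraMap A B)) := ⟨rfl⟩
  let := Localization.AtPrime.algebraOfLiesOver (q.comap (algebraMap A B)) q
  have : IsLocalHom (algebraMap (Localization.AtPrime (q.comap (algebraMap A B)))
      (Localization.AtPrime q)) := by
    rw [RingHom.algebraMap_toAlgebra]
    exact Localization.isLocalHom_localRingHom _ q (algebraMap A B) Ideal.LiesOver.over
  have : Module.FaithfullyFlat (Localization.AtPrime (q.comap (algebraMap A B)))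
      (Localization.AtPrime q) := Module.FaithfullyFlat.of_flat_of_isLocalHom
  exact normal_of_faithfullyFlat _ (Localization.AtPrime q)

end Groth.Agent.Helper8.FlatReg
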