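import Mathlib
import Groth.Prelude

/-!
# Localizations of a ring integrally closed in a reduced zero-dimensional ring are normal domains
-/

set_option autoImplicit false

universe u

namespace Groth.Agent.Helper8.NormRed

open IsLocalRing Polynomial

section zerodim

variable {R : Type u} [CommRing R]

/-- A localization of a zero-dimensional ring is zero-dimensional. -/
theorem krullDimLE_zero_localization [Ring.KrullDimLE 0 R] (N : Submonoid R) :
    Ring.KrullDimLE 0 (Localization N) := by
  refine Ring.KrullDimLE.mk₀ fun I hI => ?_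
  obtain ⟨J, hJ, hIJ⟩ := Ideal.exists_le_maximal I hI.ne_top
  haveI hc : (I.comap (algebraMap R (Localization N))).IsMaximal :=
    Ideal.IsPrime.isMaximal' (Ideal.IsPrime.comap _)
  have hne : J.comap (algebraMap R (Localization N)) ≠ ⊤ :=
    (Ideal.IsPrime.comap (hK := hJ.isPrime) _).ne_top
  have heq : I.comap (algebraMap R (Localization N)) = J.comap (algebraMap R (Localization N)) :=
    hc.eq_of_le hne (Ideal.comap_mono hIJ)
  have h1 := IsLocalization.map_under N (Localization N) I
  have h2 := IsLocalization.map_under N (Localization N) J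
  have : I = J := by
    rw [← h1, ← h2]
    exact congrArg (Ideal.map (algebraMap R (Localization N))) heq
  rw [this]
  exact hJ

/-- In a reduced zero-dimensional ring, `(x) + Ann(x)` is the unit ideal. -/
theorem exists_mul_add_eq_one [IsReduced R] [Ring.KrullDimLE 0 R] (x : R) :
    ∃ a b : R, a * x + b = 1 ∧ b * x = 0 := by
  let I : Ideal R := Ideal.span {x} ⊔ LinearMap.ker (LinearMap.toSpanSingleton R R x)
  by_cases hI : I = ⊤
  · have h1 : (1 : R) ∈ I := by rw [hI]; trivial
    obtain ⟨u, hu, b, hb, hub⟩ := Submodule.mem_sup.mp h1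
    obtain ⟨a, rfl⟩ := Ideal.mem_span_singleton'.mp hu
    refine ⟨a, b, hub, ?_⟩
    simpa using hb
  · exfalso
    obtain ⟨m, hm, hIm⟩ := Ideal.exists_le_maximal I hI
    haveI := hm.isPrime
    have hmin : m ∈ minimalPrimes R := Ideal.mem_minimalPrimes_of_krullDimLE_zero m
    haveI : Ring.KrullDimLE 0 (Localization.AtPrime m) := .of_isLocalization _ hmin _
    have hfield : IsField (Localization.AtPrime m) := Ring.KrullDimLE.isField_of_isReduced
    have hxm : x ∈ m := hIm (le_sup_left (a := Ideal.span {x}) (Ideal.mem_span_singleton_self x))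
    obtain ⟨⟨s, hs⟩, hsx⟩ := (IsLocalization.map_eq_zero_iff m.primeCompl
      (Localization.AtPrime m) x).mp (by
        rw [← Ideal.mem_bot, ← (IsLocalRing.isField_iff_maximalIdeal_eq.mp hfield),
          ← Localization.AtPrime.map_eq_maximalIdeal]
        exact Ideal.mem_map_of_mem _ hxm)
    have hsker : s ∈ LinearMap.ker (LinearMap.toSpanSingleton R R x) := by
      simpa using hsx
    exact hs (hIm (le_sup_right (a := Ideal.span {x}) hsker))

/-- A nontrivial reduced zero-dimensional ring with only trivial idempotents is a field. -/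
theorem isField_of_trivial_idempotents [IsReduced R] [Ring.KrullDimLE 0 R] [Nontrivial R]
    (h : ∀ e : R, IsIdempotentElem e → e = 0 ∨ e = 1) : IsField R := by
  refine ⟨exists_pair_ne R, mul_comm, fun {x} hx => ?_⟩
  obtain ⟨a, b, hab, hb⟩ := exists_mul_add_eq_one x
  have hidem : IsIdempotentElem b := by
    have h1 : b * (a * x) = 0 := by rw [mul_left_comm, hb, mul_zero]
    have h2 : b * (a * x + b) = b := by rw [hab, mul_one]
    rw [mul_add, h1, zero_add] at h2
    exact h2
  rcases h b hidem with h0 | h1
  · refine ⟨a, ?_⟩
    rw [h0, add_zero] at hab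
    rw [mul_comm]; exact hab
  · exfalso
    rw [h1, one_mul] at hb
    exact hx hb

end zerodim

section normal

variable (C K : Type u) [CommRing C] [CommRing K] [Algebra C K] [IsIntegrallyClosedIn C K]
  [IsReduced K] [Ring.KrullDimLE 0 K] (P : Ideal C) [P.IsPrime]

/-- The localization `C_P` is integrally closed in the localization of `K`. -/
theorem isIntegrallyClosedIn_localization :
    IsIntegrallyClosedIn (Localization.AtPrime P)
      (Localization (Algebra.algebraMapSubmonoid K P.primeCompl)) := by
  rw [isIntegrallyClosedIn_iff]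
  refine ⟨localizationAlgebra_injective _ _
    (IsIntegralClosure.algebraMap_injective C C K), ?_⟩
  intro z hz
  obtain ⟨⟨m, hm⟩, hmz⟩ := IsIntegral.exists_multiple_integral_of_isLocalization P.primeCompl z hz
  simp only [Submonoid.smul_def] at hmz
  obtain ⟨⟨k, ⟨_, m₂, hm₂, rfl⟩⟩, hk⟩ :=
    IsLocalization.surj (Algebra.algebraMapSubmonoid K P.primeCompl) (m • z)
  simp only at hk
  have hk' : IsIntegral C (algebraMap K
      (Localization (Algebra.algebraMapSubmonoid K P.primeCompl)) k) := by
    rw [← hk]
    have : algebraMap K (Localization (Algebra.algebraMapSubmonoid K P.primeCompl))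
        (algebraMap C K m₂) = algebraMap C _ m₂ := (IsScalarTower.algebraMap_apply _ _ _ _).symm
    rw [this, mul_comm, ← Algebra.smul_def]
    exact hmz.smul m₂
  obtain ⟨m₃, hm₃, hm₃k⟩ := IsLocalization.exists_isIntegral_smul_of_isIntegral_map
    (Sₘ := Localization (Algebra.algebraMapSubmonoid K P.primeCompl)) P.primeCompl hk'
  obtain ⟨c, hc⟩ := (IsIntegrallyClosedIn.isIntegral_iff (R := C)).mp hm₃k
  refine ⟨IsLocalization.mk' (Localization.AtPrime P) c
    (⟨m₃ * m₂ * m, mul_mem (mul_mem hm₃ hm₂) hm⟩ : P.primeCompl), ?_⟩
  have hu : IsUnit (algebraMap C (Localization (Algebra.algebraMapSubmonoid K P.primeCompl))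
      (m₃ * m₂ * m)) := by
    rw [IsScalarTower.algebraMap_apply C K]
    exact IsLocalization.map_units _
      (⟨algebraMap C K (m₃ * m₂ * m), ⟨_, mul_mem (mul_mem hm₃ hm₂) hm, rfl⟩⟩ :
        Algebra.algebraMapSubmonoid K P.primeCompl)
  apply hu.mul_left_cancel
  have e1 : algebraMap C (Localization (Algebra.algebraMapSubmonoid K P.primeCompl))
      (m₃ * m₂ * m) * algebraMap (Localization.AtPrime P) _
        (IsLocalization.mk' (Localization.AtPrime P) c
          (⟨m₃ * m₂ * m, mul_mem (mul_mem hm₃ hm₂) hm⟩ : P.primeCompl)) =
      algebraMap C _ c := by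
    rw [IsScalarTower.algebraMap_apply C (Localization.AtPrime P), ← map_mul,
      mul_comm, IsLocalization.mk'_spec, ← IsScalarTower.algebraMap_apply]
  rw [e1, IsScalarTower.algebraMap_apply C K, hc, Algebra.smul_def, map_mul, ← hk,
    ← IsScalarTower.algebraMap_apply, ← IsScalarTower.algebraMap_apply, Algebra.smul_def,
    map_mul, map_mul]
  ring

include K in
/-- **Normality of localizations**: if `C` is integrally closed in a reduced zero-dimensional
ring `K`, every localization of `C` at a prime is an integrally closed domain. -/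
theorem normal_localization_atPrime :
    IsDomain (Localization.AtPrime P) ∧ IsIntegrallyClosed (Localization.AtPrime P) := by
  haveI hic := isIntegrallyClosedIn_localization C K P
  have hinj : Function.Injective (algebraMap (Localization.AtPrime P)
      (Localization (Algebra.algebraMapSubmonoid K P.primeCompl))) :=
    localizationAlgebra_injective _ _ (IsIntegralClosure.algebraMap_injective C C K)
  haveI : Nontrivial (Localization (Algebra.algebraMapSubmonoid K P.primeCompl)) :=
    hinj.nontrivial
  haveI : Ring.KrullDimLE 0 (Localization (Algebra.algebraMapSubmonoid K P.primeCompl)) :=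
    krullDimLE_zero_localization _
  have hidem : ∀ e : Localization (Algebra.algebraMapSubmonoid K P.primeCompl),
      IsIdempotentElem e → e = 0 ∨ e = 1 := by
    intro e he
    have hint : IsIntegral (Localization.AtPrime P) e := by
      refine ⟨X ^ 2 - X, monic_X_pow_sub (by simp), ?_⟩
      simp [pow_two, he.eq]
    obtain ⟨y, rfl⟩ := (IsIntegrallyClosedIn.isIntegral_iff (R := Localization.AtPrime P)).mp hint
    have hy : IsIdempotentElem y := by
      apply hinj
      rw [map_mul]
      exact he
    have h0 : y * (1 - y) = 0 := by rw [mul_sub, mul_one, hy.eq, sub_self]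
    rcases IsLocalRing.isUnit_or_isUnit_one_sub_self y with h | h
    · right
      have := (h.mul_right_eq_zero).mp h0
      rw [← sub_eq_zero.mp this, map_one]
    · left
      rw [(h.mul_left_eq_zero).mp h0, map_zero]
  have hfield := isField_of_trivial_idempotents hidem
  letI := hfield.toField
  haveI : FaithfulSMul (Localization.AtPrime P)
      (Localization (Algebra.algebraMapSubmonoid K P.primeCompl)) :=
    (faithfulSMul_iff_algebraMap_injective _ _).mpr hinj
  exact ⟨hinj.isDomain _, IsIntegrallyClosed.of_isIntegrallyClosedIn (Localization.AtPrime P)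
    (Localization (Algebra.algebraMapSubmonoid K P.primeCompl))⟩

end normal

end Groth.Agent.Helper8.NormRed
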