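import Mathlib
import Groth.Prelude
import Groth.Agent.Lib.Helper8.NormRed1

/-!
# The total ring of fractions of a reduced ring with finitely many minimal primes is
zero-dimensional; normality of the localizations of `normRed`
-/

set_option autoImplicit false

universe u

namespace Groth.Agent.Helper8.NormRed

open IsLocalRing

section total

variable (R₀ : Type u) [CommRing R₀] [IsReduced R₀]

/-- A prime of a reduced ring with finitely many minimal primes which consists of zero divisors
is a minimal prime. -/
theorem mem_minimalPrimes_of_disjoint (hfin : (minimalPrimes R₀).Finite) (q : Ideal R₀)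
    [hq : q.IsPrime] (hdisj : Disjoint (nonZeroDivisors R₀ : Set R₀) q) :
    q ∈ minimalPrimes R₀ := by
  have hsub : (q : Set R₀) ⊆ ⋃ p ∈ (hfin.toFinset : Set (Ideal R₀)), (id p : Ideal R₀) := by
    intro x hx
    have hxn : x ∉ nonZeroDivisors R₀ := fun h => Set.disjoint_left.mp hdisj h hx
    rw [mem_nonZeroDivisors_iff_right] at hxn
    push Not at hxn
    obtain ⟨y, hy, hy0⟩ := hxn
    have hmem : x ∈ {x : R₀ | ∃ y ∉ (⊥ : Ideal R₀).radical, x * y ∈ (⊥ : Ideal R₀).radical} := by
      refine ⟨y, ?_, ?_⟩
      · change y ∉ nilradical R₀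
        rw [nilradical_eq_zero]
        exact hy0
      · change x * y ∈ nilradical R₀
        rw [nilradical_eq_zero, mul_comm, hy]
        exact Ideal.zero_mem _
    rw [← Ideal.iUnion_minimalPrimes] at hmem
    simp only [Set.mem_iUnion, SetLike.mem_coe, exists_prop] at hmem ⊢
    obtain ⟨p, hp, hxp⟩ := hmem
    exact ⟨p, by simpa using hp, hxp⟩
  obtain ⟨p, hp, hqp⟩ := (Ideal.subset_union_prime (R := R₀) (f := id) q q (fun i hi _ _ => by
    have : i ∈ minimalPrimes R₀ := by simpa using hi
    exact this.1.1)).mp hsub
  have hpmin : p ∈ minimalPrimes R₀ := by simpa using hp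
  have hpq : p ≤ q := hpmin.2 ⟨hq, bot_le⟩ hqp
  have : q = p := le_antisymm hqp hpq
  rw [this]
  exact hpmin

/-- The total ring of fractions of a reduced ring with finitely many minimal primes is
zero-dimensional. -/
theorem krullDimLE_zero_fractionRing (hfin : (minimalPrimes R₀).Finite) :
    Ring.KrullDimLE 0 (FractionRing R₀) := by
  refine Ring.KrullDimLE.mk₀ fun I hI => ?_
  obtain ⟨J, hJ, hIJ⟩ := Ideal.exists_le_maximal I hI.ne_top
  haveI := hJ.isPrime
  have hdI := ((IsLocalization.isPrime_iff_isPrime_disjoint (nonZeroDivisors R₀)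
    (FractionRing R₀) I).mp hI)
  have hdJ := ((IsLocalization.isPrime_iff_isPrime_disjoint (nonZeroDivisors R₀)
    (FractionRing R₀) J).mp hJ.isPrime)
  haveI := hdI.1
  haveI := hdJ.1
  have hmI := mem_minimalPrimes_of_disjoint R₀ hfin _ hdI.2
  have hmJ := mem_minimalPrimes_of_disjoint R₀ hfin _ hdJ.2
  have hle : I.comap (algebraMap R₀ (FractionRing R₀)) ≤ J.comap (algebraMap R₀ (FractionRing R₀)) :=
    Ideal.comap_mono hIJ
  have heq : I.comap (algebraMap R₀ (FractionRing R₀)) = J.comap (algebraMap R₀ (FractionRing R₀)) :=
    le_antisymm hle (hmJ.2 ⟨hdI.1, bot_le⟩ hle)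
  have h1 := IsLocalization.map_under (nonZeroDivisors R₀) (FractionRing R₀) I
  have h2 := IsLocalization.map_under (nonZeroDivisors R₀) (FractionRing R₀) J
  have : I = J := by
    rw [← h1, ← h2]
    exact congrArg (Ideal.map (algebraMap R₀ (FractionRing R₀))) heq
  rw [this]
  exact hJ

end total

section normRed

variable (A : Type u) [CommRing A]

theorem finite_minimalPrimes_red (hfin : (minimalPrimes A).Finite) :
    (minimalPrimes (CAlg2.red A)).Finite := by
  have h := Ideal.minimalPrimes_eq_comap (I := nilradical A)
  have h2 : (nilradical A).minimalPrimes = minimalPrimes A := by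
    rw [nilradical, Ideal.radical_minimalPrimes]
    rfl
  rw [h2] at h
  rw [h] at hfin
  exact hfin.of_finite_image
    (Ideal.comap_injective_of_surjective _ Ideal.Quotient.mk_surjective).injOn

/-- The localizations of `normRed A` at primes are integrally closed domains when `A` has
finitely many minimal primes. -/
theorem normal_localization_normRed (hfin : (minimalPrimes A).Finite)
    (P : Ideal (CAlg2.normRed A)) [P.IsPrime] :
    IsDomain (Localization.AtPrime P) ∧ IsIntegrallyClosed (Localization.AtPrime P) := by
  haveI : IsReduced (CAlg2.red A) :=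
    (Ideal.isRadical_iff_quotient_reduced (nilradical A)).mp (Ideal.radical_isRadical ⊥)
  haveI : Ring.KrullDimLE 0 (FractionRing (CAlg2.red A)) :=
    krullDimLE_zero_fractionRing (CAlg2.red A) (finite_minimalPrimes_red A hfin)
  exact normal_localization_atPrime (CAlg2.normRed A) (FractionRing (CAlg2.red A)) P

end normRed

end Groth.Agent.Helper8.NormRed
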