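import Mathlib
import Groth.Prelude
import Groth.Agent.Lib.Helper8.FlatReg10
import Groth.Agent.Lib.Helper8.FlatReg14
import Groth.Agent.Lib.Helper8.Depth30
import Groth.Agent.Lib.Helper8.Depth36
import Groth.Agent.Lib.Helper8.Serre3
import Groth.Agent.Lib.Helper8.NormRed2

/-!
# Normality lemmas for the base change of a normalization
-/

set_option autoImplicit false
universe u

namespace Groth.Agent.Helper8.DeltaInv

open Polynomial IsLocalRing



/-- If `T ⊆ Q(B)` is a `B`-algebra all of whose localizations at maximal ideals are integrally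
closed domains, every element of `Q(B)` integral over `B` lies in `T`. -/
theorem mem_range_of_isIntegral {B QB T : Type*} [CommRing B] [CommRing QB] [Algebra B QB]
    [IsFractionRing B QB] [CommRing T] [Algebra B T] (φ : T →ₐ[B] QB)
    (hφ : Function.Injective φ)
    (hT : ∀ (N : Ideal T) [N.IsMaximal], IsDomain (Localization.AtPrime N) ∧
      IsIntegrallyClosed (Localization.AtPrime N))
    (x : QB) (hx : IsIntegral B x) : x ∈ φ.range := by
  classical
  obtain ⟨⟨c, d⟩, hcd⟩ := IsLocalization.surj (nonZeroDivisors B) x
  simp only at hcd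
  obtain ⟨p, hp, hpx⟩ := hx
  have hpx' : aeval x p = 0 := hpx
  have h1 : aeval (algebraMap B QB d * x) (scaleRoots p d) = 0 :=
    scaleRoots_aeval_eq_zero hpx'
  rw [mul_comm, hcd, aeval_algebraMap_apply] at h1
  have h2 : (scaleRoots p (d : B)).eval c = 0 :=
    IsFractionRing.injective B QB (by
      rw [map_zero, ← h1, coe_aeval_eq_eval])
  have hdunit : IsUnit (algebraMap B QB d) := IsLocalization.map_units QB d
  have hφd : φ (algebraMap B T d) = algebraMap B QB d := φ.commutes _
  have hφc : φ (algebraMap B T c) = algebraMap B QB c := φ.commutes _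
  let I : Ideal T :=
    { carrier := {τ | φ τ * x ∈ φ.range}
      add_mem' := by
        intro a b ha hb
        show φ (a + b) * x ∈ φ.range
        rw [map_add, add_mul]
        exact φ.range.add_mem ha hb
      zero_mem' := by
        show φ 0 * x ∈ φ.range
        rw [map_zero, zero_mul]
        exact φ.range.zero_mem
      smul_mem' := by
        intro a b hb
        show φ (a • b) * x ∈ φ.range
        rw [smul_eq_mul, map_mul, mul_assoc]
        exact φ.range.mul_mem ⟨a, rfl⟩ hb }
  by_contra hxr
  have hI : I ≠ ⊤ := by
    intro htop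
    have h1 : (1 : T) ∈ I := htop ▸ Submodule.mem_top
    have h1' : φ 1 * x ∈ φ.range := h1
    rw [map_one, one_mul] at h1'
    exact hxr h1'
  obtain ⟨N, hN, hIN⟩ := Ideal.exists_le_maximal I hI
  obtain ⟨hdom, hic⟩ := hT N
  let S := Localization.AtPrime N
  let g : B →+* S := (algebraMap T S).comp (algebraMap B T)
  have hmonic : (p.map g).Monic := hp.map g
  have h3 : ((p.map g).scaleRoots (g d)).eval (g c) = 0 := by
    have hlc : g p.leadingCoeff ≠ 0 := by
      rw [hp.leadingCoeff, map_one]
      exact one_ne_zero
    rw [← map_scaleRoots p d g hlc, eval_map, eval₂_hom, h2, map_zero]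
  have hd₁ : g d ≠ 0 := by
    intro h0
    have h0' : algebraMap T S (algebraMap B T d) = 0 := h0
    rw [IsLocalization.map_eq_zero_iff N.primeCompl] at h0'
    obtain ⟨u, hu⟩ := h0'
    have h4 : φ (u : T) * algebraMap B QB d = 0 := by
      rw [← hφd, ← map_mul, hu, map_zero]
    have h5 : φ (u : T) = 0 := hdunit.mul_left_eq_zero.mp h4
    have h6 : (u : T) = 0 := hφ (by rw [h5, map_zero])
    exact u.2 (h6 ▸ N.zero_mem)
  obtain ⟨z, hz⟩ := Groth.Agent.Helper8.FlatReg.dvd_of_eval_scaleRoots_eq_zero (p.map g) hmonic (g c) (g d) hd₁ h3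
  obtain ⟨τ, s, rfl⟩ := IsLocalization.exists_mk'_eq N.primeCompl z
  have h7 : algebraMap T S (algebraMap B T c * s) = algebraMap T S (algebraMap B T d * τ) := by
    rw [map_mul, map_mul]
    have : g c = algebraMap T S (algebraMap B T c) := rfl
    rw [← this, hz]
    have : g d = algebraMap T S (algebraMap B T d) := rfl
    rw [← this, mul_assoc, IsLocalization.mk'_spec]
  rw [IsLocalization.eq_iff_exists N.primeCompl] at h7
  obtain ⟨u, hu⟩ := h7
  have h8 : (u : T) * s ∈ I := by
    show φ ((u : T) * s) * x ∈ φ.range
    refine ⟨(u : T) * τ, ?_⟩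
    show φ ((u : T) * τ) = φ ((u : T) * s) * x
    apply hdunit.mul_right_cancel
    rw [mul_assoc, hcd, ← hφd, ← hφc, ← map_mul, ← map_mul]
    congr 1
    calc (u : T) * τ * algebraMap B T d = u * (algebraMap B T d * τ) := by ring
      _ = u * (algebraMap B T c * s) := hu.symm
      _ = u * s * algebraMap B T c := by ring
  have h9 : (u : T) * s ∈ N := hIN h8
  rcases (Ideal.IsMaximal.isPrime hN).mem_or_mem h9 with h | h
  · exact u.2 h
  · exact s.2 h




/-- A flat algebra over a ring with regular localization, whose fibre at a prime `N` is a field,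
is normal at `N`. -/
theorem normal_atPrime_of_fibre_field (A' T : Type u) [CommRing A'] [CommRing T]
    [IsNoetherianRing A'] [IsNoetherianRing T] [Algebra A' T] [Module.Flat A' T]
    (N : Ideal T) [N.IsPrime]
    (hreg : IsRegularLocalRing (Localization.AtPrime (N.comap (algebraMap A' T))))
    (hfib : ∀ x ∈ N, ∃ s ∉ N, x * s ∈ (N.comap (algebraMap A' T)).map (algebraMap A' T)) :
    IsDomain (Localization.AtPrime N) ∧ IsIntegrallyClosed (Localization.AtPrime N) := by
  have hle : maximalIdeal (Localization.AtPrime N) ≤
      (N.comap (algebraMap A' T)).map (algebraMap A' (Localization.AtPrime N)) := by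
    rw [← Localization.AtPrime.map_eq_maximalIdeal, Ideal.map_le_iff_le_comap]
    intro x hx
    obtain ⟨s, hs, hxs⟩ := hfib x hx
    rw [Ideal.mem_comap]
    have hsu : IsUnit (algebraMap T (Localization.AtPrime N) s) :=
      IsLocalization.map_units (Localization.AtPrime N) (⟨s, hs⟩ : N.primeCompl)
    have h1 : algebraMap T (Localization.AtPrime N) (x * s) ∈
        (N.comap (algebraMap A' T)).map (algebraMap A' (Localization.AtPrime N)) := by
      rw [IsScalarTower.algebraMap_eq A' T (Localization.AtPrime N), ← Ideal.map_map]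
      exact Ideal.mem_map_of_mem _ hxs
    rw [map_mul] at h1
    obtain ⟨v, hv⟩ := hsu.exists_right_inv
    have h2 := Ideal.mul_mem_right v _ h1
    rwa [mul_assoc, hv, mul_one] at h2
  haveI := Groth.Agent.Helper8.FlatReg.nontrivial_fibLocRing A' T N
  have hne : (N.comap (algebraMap A' T)).map (algebraMap A' (Localization.AtPrime N)) ≠ ⊤ :=
    Ideal.Quotient.nontrivial_iff.mp (inferInstance : Nontrivial (EGA4.FibLocRing A' T N))
  have heq : (N.comap (algebraMap A' T)).map (algebraMap A' (Localization.AtPrime N)) =
      maximalIdeal (Localization.AtPrime N) :=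
    le_antisymm (le_maximalIdeal hne) hle
  have hfield : IsField (EGA4.FibLocRing A' T N) := by
    show IsField (Localization.AtPrime N ⧸
      (N.comap (algebraMap A' T)).map (algebraMap A' (Localization.AtPrime N)))
    rw [heq]
    exact (Ideal.Quotient.maximal_ideal_iff_isField_quotient _).mp inferInstance
  have hF : IsRegularLocalRing (EGA4.FibLocRing A' T N) :=
    Groth.Agent.Helper8.Depth.isRegularLocalRing_of_isField _ hfield
  haveI := Groth.Agent.Helper8.FlatReg.isRegularLocalRing_atPrime_of_fibre A' T N hreg hF
  exact ⟨Groth.Agent.Helper8.RLR.isDomain _,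
    Groth.Agent.Helper8.Serre.isIntegrallyClosed_of_isRegularLocalRing _⟩




/-- The localizations of the normalization of a reduced Noetherian ring of dimension at most one
are regular. -/
theorem isRegularLocalRing_atPrime_integralClosure (A : Type u) [CommRing A] [IsNoetherianRing A]
    [IsReduced A] (hdim : ringKrullDim A ≤ 1)
    [IsNoetherianRing (integralClosure A (FractionRing A))]
    (P : Ideal (integralClosure A (FractionRing A))) [P.IsPrime] :
    IsRegularLocalRing (Localization.AtPrime P) := by
  haveI : Ring.KrullDimLE 0 (FractionRing A) :=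
    Groth.Agent.Helper8.NormRed.krullDimLE_zero_fractionRing A
      (minimalPrimes.finite_of_isNoetherianRing A)
  obtain ⟨hdom, hic⟩ := Groth.Agent.Helper8.NormRed.normal_localization_atPrime
    (integralClosure A (FractionRing A)) (FractionRing A) P
  have hR := Groth.Agent.Helper8.FlatReg.hasRk_one_of_normal_domain (Localization.AtPrime P)
  refine Groth.Agent.Helper8.FlatReg.isRegularLocalRing_of_hasRk_of_dim_le 1 hR ?_
  rw [IsLocalization.AtPrime.ringKrullDim_eq_height P (Localization.AtPrime P)]
  refine le_trans Ideal.height_le_ringKrullDim_of_isPrime ?_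
  refine le_trans (Groth.Agent.Helper8.Depth.ringKrullDim_le_of_isIntegral A
    (integralClosure A (FractionRing A))) ?_
  exact_mod_cast hdim


end Groth.Agent.Helper8.DeltaInv
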