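import Mathlib

/-!
# Length of `N ⊗_A M` for a `B`-module `N` faithfully flat over a local ring `A` (S2498)
-/

set_option autoImplicit false
universe u v w

namespace Groth.Agent.Helper8.Len

open TensorProduct IsLocalRing

section
variable {A : Type u} (B : Type v) [CommRing A] [CommRing B] [Algebra A B]
  (N : Type w) [AddCommGroup N] [Module B N] [Module A N] [IsScalarTower A B N]

/-- `n ↦ n ⊗ 1` as a `B`-linear map. -/
def tmulOne (I : Ideal A) : N →ₗ[B] N ⊗[A] (A ⧸ I) where
  toFun n := n ⊗ₜ[A] (1 : A ⧸ I)
  map_add' x y := add_tmul x y 1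
  map_smul' b x := (smul_tmul' b x 1).symm

theorem tmulOne_apply (I : Ideal A) (n : N) : tmulOne B N I n = n ⊗ₜ[A] (1 : A ⧸ I) := rfl

theorem tmulOne_surjective (I : Ideal A) : Function.Surjective (tmulOne B N I) := by
  intro z
  induction z using TensorProduct.induction_on with
  | zero => exact ⟨0, map_zero _⟩
  | tmul n a =>
    obtain ⟨a, rfl⟩ := Ideal.Quotient.mk_surjective a
    refine ⟨a • n, ?_⟩
    rw [tmulOne_apply, smul_tmul]
    congr 1
    rw [Algebra.smul_def, mul_one]
    rfl
  | add x y hx hy =>
    obtain ⟨x', rfl⟩ := hx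
    obtain ⟨y', rfl⟩ := hy
    exact ⟨x' + y', map_add _ _ _⟩

theorem ker_tmulOne (I : Ideal A) :
    LinearMap.ker (tmulOne B N I) = I.map (algebraMap A B) • (⊤ : Submodule B N) := by
  apply le_antisymm
  · intro n hn
    have h1 : tensorQuotEquivQuotSMul N I (n ⊗ₜ[A] (Ideal.Quotient.mk I 1)) = 0 := by
      have : n ⊗ₜ[A] (Ideal.Quotient.mk I 1) = 0 := hn
      rw [this, map_zero]
    rw [tensorQuotEquivQuotSMul_tmul_mk, one_smul, Submodule.Quotient.mk_eq_zero] at h1
    refine Submodule.smul_induction_on h1 ?_ ?_
    · intro i hi m _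
      rw [← algebraMap_smul B i m]
      exact Submodule.smul_mem_smul (Ideal.mem_map_of_mem _ hi) Submodule.mem_top
    · intro x y hx hy
      exact add_mem hx hy
  · rw [Submodule.smul_le]
    intro b hb n _
    rw [LinearMap.mem_ker]
    have key : ∀ n : N, tmulOne B N I (b • n) = 0 := by
      refine Submodule.span_induction (p := fun b _ => ∀ n : N, tmulOne B N I (b • n) = 0)
        ?_ ?_ ?_ ?_ hb
      · rintro _ ⟨i, hi, rfl⟩ n
        rw [algebraMap_smul, tmulOne_apply, smul_tmul]
        have : i • (1 : A ⧸ I) = 0 := by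
          rw [Algebra.smul_def, mul_one]
          exact Ideal.Quotient.eq_zero_iff_mem.mpr hi
        rw [this, tmul_zero]
      · intro n
        rw [zero_smul, map_zero]
      · intro x y _ _ hx hy n
        rw [add_smul, map_add, hx, hy, add_zero]
      · intro c x _ hx n
        rw [smul_eq_mul, mul_comm, mul_smul]
        exact hx _
    exact key n

theorem length_tensor_quotient (I : Ideal A) :
    Module.length B (N ⊗[A] (A ⧸ I)) =
      Module.length B (N ⧸ (I.map (algebraMap A B) • (⊤ : Submodule B N))) := by
  have e := (tmulOne B N I).quotKerEquivOfSurjective (tmulOne_surjective B N I)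
  rw [← e.length_eq]
  exact (Submodule.quotEquivOfEq _ _ (ker_tmulOne B N I)).length_eq

variable {B N}

/-- The submodule of `N ⊗ M` generated by `N ⊗ P`. -/
def tensorSub {M : Type*} [AddCommGroup M] [Module A M] (P : Submodule A M) :
    Submodule B (N ⊗[A] M) :=
  LinearMap.range (AlgebraTensorModule.lTensor B N P.subtype)

theorem tensorSub_strictMono [Module.FaithfullyFlat A N] {M : Type*} [AddCommGroup M]
    [Module A M] : StrictMono (tensorSub (A := A) (B := B) (N := N) (M := M)) := by
  intro P Q hPQ
  have hle : P ≤ Q := hPQ.le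
  have hcomp : P.subtype = Q.subtype.comp (Submodule.inclusion hle) := rfl
  have hmono : tensorSub (B := B) (N := N) P ≤ tensorSub Q := by
    rintro _ ⟨w, rfl⟩
    refine ⟨(Submodule.inclusion hle).lTensor N w, ?_⟩
    rw [AlgebraTensorModule.coe_lTensor, AlgebraTensorModule.coe_lTensor, hcomp,
      LinearMap.lTensor_comp]
    rfl
  refine lt_of_le_of_ne hmono ?_
  intro heq
  have hinj : Function.Injective (Q.subtype.lTensor N) :=
    Module.Flat.lTensor_preserves_injective_linearMap _ Q.subtype_injective
  have hsurj : Function.Surjective ((Submodule.inclusion hle).lTensor N) := by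
    intro w
    have hw : AlgebraTensorModule.lTensor B N Q.subtype w ∈ tensorSub (B := B) (N := N) Q :=
      ⟨w, rfl⟩
    rw [← heq] at hw
    obtain ⟨v, hv⟩ := hw
    refine ⟨v, hinj ?_⟩
    rw [AlgebraTensorModule.coe_lTensor, AlgebraTensorModule.coe_lTensor, hcomp,
      LinearMap.lTensor_comp] at hv
    exact hv
  rw [Module.FaithfullyFlat.lTensor_surjective_iff_surjective] at hsurj
  apply hPQ.ne
  apply le_antisymm hle
  intro x hx
  obtain ⟨y, hy⟩ := hsurj ⟨x, hx⟩
  have : (y : M) = x := congrArg Subtype.val hy
  rw [← this]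
  exact y.2

theorem length_le_length_tensor [Module.FaithfullyFlat A N] (M : Type*) [AddCommGroup M]
    [Module A M] : Module.length A M ≤ Module.length B (N ⊗[A] M) := by
  rw [← WithBot.coe_le_coe, Module.coe_length, Module.coe_length]
  exact Order.krullDim_le_of_strictMono _ (tensorSub_strictMono (A := A) (B := B) (N := N) (M := M))

end

section main

variable {A : Type u} (B : Type v) [CommRing A] [CommRing B] [Algebra A B] [IsLocalRing A]
  (N : Type w) [AddCommGroup N] [Module B N] [Module A N] [IsScalarTower A B N]
  [Module.FaithfullyFlat A N]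

theorem length_tensor_of_isFiniteLength (M : Type u) [AddCommGroup M] [Module A M]
    (h : IsFiniteLength A M) :
    Module.length B (N ⊗[A] M) =
      Module.length A M * Module.length B
        (N ⧸ ((maximalIdeal A).map (algebraMap A B) • (⊤ : Submodule B N))) := by
  induction h with
  | of_subsingleton =>
    rw [Module.length_eq_zero, Module.length_eq_zero, zero_mul]
  | @of_simple_quotient M _ _ S _ _ ih =>
    obtain ⟨m, hm, ⟨e⟩⟩ := isSimpleModule_iff_quot_maximal.mp ‹IsSimpleModule A (M ⧸ S)›
    obtain rfl := eq_maximalIdeal hm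
    have h1 : Function.Injective S.subtype := S.subtype_injective
    have h2 : Function.Surjective S.mkQ := S.mkQ_surjective
    have h3 : Function.Exact S.subtype S.mkQ := LinearMap.exact_subtype_mkQ S
    have h1' : Function.Injective (AlgebraTensorModule.lTensor B N S.subtype) :=
      Module.Flat.lTensor_preserves_injective_linearMap _ h1
    have h2' : Function.Surjective (AlgebraTensorModule.lTensor B N S.mkQ) :=
      LinearMap.lTensor_surjective N h2
    have h3' : Function.Exact (AlgebraTensorModule.lTensor B N S.subtype)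
        (AlgebraTensorModule.lTensor B N S.mkQ) := lTensor_exact N h3 h2
    rw [Module.length_eq_add_of_exact _ _ h1' h2' h3', ih,
      Module.length_eq_add_of_exact _ _ h1 h2 h3, add_mul,
      (AlgebraTensorModule.congr (LinearEquiv.refl B N) e).length_eq,
      length_tensor_quotient B N, e.length_eq]
    congr 1
    haveI : IsSimpleModule A (A ⧸ maximalIdeal A) :=
      isSimpleModule_iff_quot_maximal.mpr ⟨_, hm, ⟨LinearEquiv.refl _ _⟩⟩
    rw [Module.length_eq_one A (A ⧸ maximalIdeal A), one_mul]

/-- **S2498.** -/
theorem length_tensor_eq (M : Type u) [AddCommGroup M] [Module A M] :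
    Module.length B (N ⊗[A] M) =
      Module.length A M * Module.length B
        (N ⧸ ((maximalIdeal A).map (algebraMap A B) • (⊤ : Submodule B N))) := by
  by_cases h : IsFiniteLength A M
  · exact length_tensor_of_isFiniteLength B N M h
  · rw [← Module.length_ne_top_iff, not_ne_iff] at h
    have h2 : Module.length B (N ⊗[A] M) = ⊤ :=
      top_le_iff.mp (h ▸ length_le_length_tensor (B := B) (N := N) M)
    have ne : Module.length B
        (N ⧸ ((maximalIdeal A).map (algebraMap A B) • (⊤ : Submodule B N))) ≠ 0 := by
      rw [← length_tensor_quotient B N, Ne, Module.length_eq_zero_iff,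
        Module.FaithfullyFlat.subsingleton_tensorProduct_iff_right,
        not_subsingleton_iff_nontrivial]
      exact Ideal.Quotient.nontrivial_iff.mpr (maximalIdeal.isMaximal A).ne_top
    rw [h, h2, ENat.top_mul ne]

end main

end Groth.Agent.Helper8.Len
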