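import Mathlib
import Groth.Prelude
import Groth.Agent.Lib.Helper8.NormRed1
import Groth.Agent.Lib.Helper8.DeltaInv3

set_option autoImplicit false
universe u

namespace Groth.Agent.Helper8.DeltaInv

open TensorProduct IsLocalRing

/-- The tensor product of a field extension with a separable algebraic extension is reduced. -/
theorem isReduced_tensor_of_isSeparable (k F E : Type u) [Field k] [Field F] [Field E]
    [Algebra k F] [Algebra k E] [Algebra.IsSeparable k E] : IsReduced (F ⊗[k] E) := by
  classical
  apply IsReduced.tensorProduct_of_flat_of_forall_fg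
  intro D hD
  obtain ⟨S, hS⟩ := hD
  let E₁ : IntermediateField k E := IntermediateField.adjoin k (S : Set E)
  have hle : D ≤ E₁.toSubalgebra := by
    rw [← hS]
    exact IntermediateField.algebra_adjoin_le_adjoin k _
  let j : D →ₐ[k] E₁ := Subalgebra.inclusion hle
  have hj : Function.Injective j := Subalgebra.inclusion_injective hle
  have hinj : Function.Injective (Algebra.TensorProduct.map (AlgHom.id k F) j) :=
    Module.Flat.lTensor_preserves_injective_linearMap (M := F) j.toLinearMap hj
  haveI : FiniteDimensional k E₁ :=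
    IntermediateField.finiteDimensional_adjoin
      (fun x _ => (Algebra.IsSeparable.isIntegral k x))
  haveI : Algebra.IsSeparable k E₁ := Algebra.isSeparable_tower_bot_of_isSeparable k E₁ E
  haveI : Algebra.FormallyUnramified k E₁ := Algebra.FormallyUnramified.of_isSeparable k E₁
  haveI : Algebra.FormallyUnramified F (F ⊗[k] E₁) := inferInstance
  haveI : Algebra.EssFiniteType F (F ⊗[k] E₁) := inferInstance
  haveI : IsReduced (F ⊗[k] E₁) := Algebra.FormallyUnramified.isReduced_of_field F (F ⊗[k] E₁)
  exact isReduced_of_injective (Algebra.TensorProduct.map (AlgHom.id k F) j) hinj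

/-- An algebra integral over a field is zero-dimensional. -/
theorem krullDimLE_zero_of_isIntegral (F R : Type*) [Field F] [CommRing R] [Algebra F R]
    [Algebra.IsIntegral F R] : Ring.KrullDimLE 0 R := by
  refine Ring.KrullDimLE.mk₀ fun I hI => ?_
  apply Ideal.isMaximal_of_isIntegral_of_isMaximal_comap (R := F) I
  haveI : (I.comap (algebraMap F R)).IsPrime := Ideal.IsPrime.comap _
  have : I.comap (algebraMap F R) = ⊥ := (Ideal.eq_bot_or_top _).resolve_right
    (Ideal.IsPrime.ne_top inferInstance)
  rw [this]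
  exact Ideal.bot_isMaximal

section fibreB

variable (A B : Type u) [CommRing A] [CommRing B] [IsLocalRing A] [IsLocalRing B]
  [Algebra A B] [IsLocalHom (algebraMap A B)]
  (A' : Type u) [CommRing A'] [Algebra A A'] [Module.Finite A A']

/-- The fibre condition when the residue field extension is separable algebraic. -/
theorem fibre_cond_of_residue_separable
    [Algebra.IsSeparable (ResidueField A) (ResidueField B)]
    (hm : (maximalIdeal A).map (algebraMap A B) = maximalIdeal B)
    (N : Ideal (B ⊗[A] A')) [hN : N.IsMaximal] :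
    ∀ x ∈ N, ∃ s ∉ N, x * s ∈
      (N.comap (Algebra.TensorProduct.includeRight : A' →ₐ[A] B ⊗[A] A').toRingHom).map
        (Algebra.TensorProduct.includeRight : A' →ₐ[A] B ⊗[A] A').toRingHom := by
  classical
  let ι : A' →+* B ⊗[A] A' := (Algebra.TensorProduct.includeRight : A' →ₐ[A] B ⊗[A] A').toRingHom
  let n' : Ideal A' := N.comap ι
  let J : Ideal (B ⊗[A] A') := n'.map ι
  have hJN : J ≤ N := Ideal.map_comap_le
  have hmT : ((maximalIdeal A).map (algebraMap A B)).map (algebraMap B (B ⊗[A] A')) =
      (maximalIdeal A).map (algebraMap A (B ⊗[A] A')) := by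
    rw [Ideal.map_map, ← IsScalarTower.algebraMap_eq]
  haveI : Module.Finite B (B ⊗[A] A') := inferInstance
  haveI : (N.comap (algebraMap B (B ⊗[A] A'))).IsMaximal :=
    Ideal.isMaximal_comap_of_isIntegral_of_isMaximal N
  have hNB : N.comap (algebraMap B (B ⊗[A] A')) = maximalIdeal B :=
    IsLocalRing.eq_maximalIdeal inferInstance
  have hιA : ∀ m : A, algebraMap A (B ⊗[A] A') m = ι (algebraMap A A' m) := by
    intro m
    show algebraMap A (B ⊗[A] A') m = (1 : B) ⊗ₜ[A] (algebraMap A A' m)
    rw [Algebra.algebraMap_eq_smul_one (A := A') m, TensorProduct.tmul_smul,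
      Algebra.algebraMap_eq_smul_one (A := B ⊗[A] A') m]
    rfl
  have hmn' : ∀ m ∈ maximalIdeal A, algebraMap A A' m ∈ n' := by
    intro m hm'
    show ι (algebraMap A A' m) ∈ N
    rw [← hιA, IsScalarTower.algebraMap_apply A B (B ⊗[A] A')]
    have h2 : algebraMap A B m ∈ maximalIdeal B := by
      rw [← hm]
      exact Ideal.mem_map_of_mem _ hm'
    rw [← hNB] at h2
    exact h2
  have step2 : (maximalIdeal A).map (algebraMap A (B ⊗[A] A')) ≤ J := by
    rw [Ideal.map_le_iff_le_comap]
    intro m hm'
    rw [Ideal.mem_comap, hιA]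
    exact Ideal.mem_map_of_mem _ (hmn' m hm')
  -- `n'` is maximal
  have hn'A : n'.comap (algebraMap A A') = maximalIdeal A := by
    apply le_antisymm
    · apply le_maximalIdeal
      intro htop
      have h1 : (1 : A) ∈ n'.comap (algebraMap A A') := htop ▸ Submodule.mem_top
      rw [Ideal.mem_comap, map_one] at h1
      have h2 : ι 1 ∈ N := h1
      rw [map_one] at h2
      exact hN.ne_top ((Ideal.eq_top_iff_one N).mpr h2)
    · intro m hm'
      exact hmn' m hm'
  haveI hn'prime : n'.IsPrime := Ideal.IsPrime.comap ι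
  haveI hn'max : n'.IsMaximal := by
    apply Ideal.isMaximal_of_isIntegral_of_isMaximal_comap (R := A) n'
    rw [hn'A]
    infer_instance
  letI : Field (A' ⧸ n') := Ideal.Quotient.field n'
  let g₀ : ResidueField A →+* A' ⧸ n' :=
    Ideal.Quotient.lift (maximalIdeal A) ((Ideal.Quotient.mk n').comp (algebraMap A A'))
      (fun m hm' => Ideal.Quotient.eq_zero_iff_mem.mpr (hmn' m hm'))
  letI : Algebra (ResidueField A) (A' ⧸ n') := g₀.toAlgebra
  let f₁ : ResidueField B →+* (B ⊗[A] A') ⧸ J :=
    Ideal.Quotient.lift (maximalIdeal B)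
      ((Ideal.Quotient.mk J).comp (algebraMap B (B ⊗[A] A')))
      (fun b hb => by
        rw [RingHom.comp_apply, Ideal.Quotient.eq_zero_iff_mem]
        apply step2
        rw [← hmT, hm]
        exact Ideal.mem_map_of_mem _ hb)
  let f₂ : A' ⧸ n' →+* (B ⊗[A] A') ⧸ J := Ideal.quotientMap J ι Ideal.le_comap_map
  letI : Algebra (ResidueField A) ((B ⊗[A] A') ⧸ J) :=
    (f₁.comp (algebraMap (ResidueField A) (ResidueField B))).toAlgebra
  let F₁ : ResidueField B →ₐ[ResidueField A] (B ⊗[A] A') ⧸ J :=
    { f₁ with commutes' := fun _ => rfl }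
  let F₂ : A' ⧸ n' →ₐ[ResidueField A] (B ⊗[A] A') ⧸ J :=
    { f₂ with
      commutes' := by
        intro r
        obtain ⟨a, rfl⟩ := residue_surjective r
        show f₂ (g₀ (residue A a)) = f₁ (algebraMap (ResidueField A) (ResidueField B) (residue A a))
        have e1 : g₀ (residue A a) = Ideal.Quotient.mk n' (algebraMap A A' a) := rfl
        have e2 : algebraMap (ResidueField A) (ResidueField B) (residue A a) =
            residue B (algebraMap A B a) := rfl
        rw [e1, e2]
        show Ideal.Quotient.mk J (ι (algebraMap A A' a)) =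
          Ideal.Quotient.mk J (algebraMap B (B ⊗[A] A') (algebraMap A B a))
        rw [← hιA, ← IsScalarTower.algebraMap_apply] }
  let θ : (A' ⧸ n') ⊗[ResidueField A] ResidueField B →ₐ[ResidueField A] (B ⊗[A] A') ⧸ J :=
    Algebra.TensorProduct.productMap F₂ F₁
  have hθ : Function.Surjective θ := by
    intro q
    obtain ⟨τ, rfl⟩ := Ideal.Quotient.mk_surjective q
    induction τ using TensorProduct.induction_on with
    | zero => exact ⟨0, by rw [map_zero, map_zero]⟩
    | tmul b a' =>
      refine ⟨(Ideal.Quotient.mk n' a') ⊗ₜ[ResidueField A] (residue B b), ?_⟩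
      rw [Algebra.TensorProduct.productMap_apply_tmul]
      show Ideal.Quotient.mk J (ι a') * Ideal.Quotient.mk J (algebraMap B (B ⊗[A] A') b) = _
      rw [← map_mul]
      congr 1
      show ((1 : B) ⊗ₜ[A] a') * (b ⊗ₜ[A] (1 : A')) = b ⊗ₜ[A] a'
      rw [Algebra.TensorProduct.tmul_mul_tmul, one_mul, mul_one]
    | add x y hx hy =>
      obtain ⟨r₁, h₁⟩ := hx
      obtain ⟨r₂, h₂⟩ := hy
      exact ⟨r₁ + r₂, by rw [map_add, h₁, h₂, map_add]⟩
  haveI : IsReduced ((A' ⧸ n') ⊗[ResidueField A] ResidueField B) :=
    isReduced_tensor_of_isSeparable (ResidueField A) (A' ⧸ n') (ResidueField B)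
  haveI : Algebra.IsIntegral (A' ⧸ n') ((A' ⧸ n') ⊗[ResidueField A] ResidueField B) :=
    inferInstance
  haveI : Ring.KrullDimLE 0 ((A' ⧸ n') ⊗[ResidueField A] ResidueField B) :=
    krullDimLE_zero_of_isIntegral (A' ⧸ n') _
  intro x hx
  obtain ⟨r, hr⟩ := hθ (Ideal.Quotient.mk J x)
  obtain ⟨a, b, hab, hb⟩ := Groth.Agent.Helper8.NormRed.exists_mul_add_eq_one r
  obtain ⟨s, hs⟩ := Ideal.Quotient.mk_surjective (θ b)
  obtain ⟨α, hα⟩ := Ideal.Quotient.mk_surjective (θ a)
  refine ⟨s, ?_, ?_⟩
  · intro hsN
    have h1 : Ideal.Quotient.mk J (α * x + s) = 1 := by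
      rw [map_add, map_mul, hα, hs, ← hr, ← map_mul, ← map_add, hab, map_one]
    have h2 : α * x + s - 1 ∈ J := by
      rw [← Ideal.Quotient.eq_zero_iff_mem, map_sub, h1, map_one, sub_self]
    have h3 : (1 : B ⊗[A] A') ∈ N := by
      have : (1 : B ⊗[A] A') = (α * x + s) - (α * x + s - 1) := by ring
      rw [this]
      exact N.sub_mem (N.add_mem (N.mul_mem_left α hx) hsN) (hJN h2)
    exact hN.ne_top ((Ideal.eq_top_iff_one N).mpr h3)
  · rw [← Ideal.Quotient.eq_zero_iff_mem, map_mul, hs, ← hr, ← map_mul, mul_comm, hb, map_zero]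

end fibreB

section caseB

variable (A B : Type u) [CommRing A] [CommRing B] [IsLocalRing A] [IsLocalRing B]
  [Algebra A B] [IsLocalHom (algebraMap A B)] [Module.Flat A B]
  [IsNoetherianRing A] [IsNoetherianRing B] [IsReduced A]

/-- The delta invariant is unchanged by a flat local extension with `m_A B = m_B` and separable
algebraic residue field extension. -/
theorem deltaInv_eq_of_residue_separable (hdim : ringKrullDim A ≤ 1)
    [Module.Finite A (integralClosure A (FractionRing A))]
    [Algebra.IsSeparable (ResidueField A) (ResidueField B)]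
    (hm : (maximalIdeal A).map (algebraMap A B) = maximalIdeal B) :
    Curv2.deltaInv B = Curv2.deltaInv A :=
  deltaInv_eq_of_flat A B hm (fun N _ => normal_tensor A B hdim
    (fun N' _ => fibre_cond_of_residue_separable A B
      (integralClosure A (FractionRing A)) hm N') N)

end caseB

end Groth.Agent.Helper8.DeltaInv
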