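import Mathlib

/-!
# Divisors of a product in a Noetherian local UFD are rigid under approximation
-/

set_option autoImplicit false

namespace Groth.Agent.Helper8.Node

open IsLocalRing

/-- Ideals of a Noetherian local ring are closed in the adic topology. -/
theorem mem_of_forall_mem_sup_pow {D : Type*} [CommRing D] [IsNoetherianRing D] [IsLocalRing D]
    (J : Ideal D) (x : D) (h : ∀ N : ℕ, x ∈ J ⊔ maximalIdeal D ^ N) : x ∈ J := by
  have h0 : (⨅ i : ℕ, (maximalIdeal D ^ i) • (⊤ : Submodule D (D ⧸ J))) = ⊥ :=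
    Ideal.iInf_pow_smul_eq_bot_of_isLocalRing (maximalIdeal D) (Ideal.IsPrime.ne_top inferInstance)
  have h1 : (Ideal.Quotient.mk J x : D ⧸ J) ∈
      (⨅ i : ℕ, (maximalIdeal D ^ i) • (⊤ : Submodule D (D ⧸ J))) := by
    rw [Submodule.mem_iInf]
    intro N
    obtain ⟨j, hj, y, hy, rfl⟩ := Submodule.mem_sup.mp (h N)
    rw [map_add, Ideal.Quotient.eq_zero_iff_mem.mpr hj, zero_add]
    have h2 : (Ideal.Quotient.mk J y : D ⧸ J) = y • (1 : D ⧸ J) := by
      rw [Algebra.smul_def, mul_one]; rfl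
    rw [h2]
    exact Submodule.smul_mem_smul hy Submodule.mem_top
  rw [h0] at h1
  exact Ideal.Quotient.eq_zero_iff_mem.mp ((Submodule.mem_bot _).mp h1)

/-- In a Noetherian local UFD, a divisor of `Δ ≠ 0` sufficiently close to `t` divides `t`. -/
theorem exists_pow_forall_dvd {D : Type*} [CommRing D] [IsDomain D] [IsNoetherianRing D]
    [IsLocalRing D] [UniqueFactorizationMonoid D] (t Δ : D) (hΔ : Δ ≠ 0) :
    ∃ N : ℕ, ∀ a : D, a ∣ Δ → a - t ∈ maximalIdeal D ^ N → a ∣ t := by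
  classical
  haveI : Fintype { x : Associates D // x ∣ Associates.mk Δ } :=
    UniqueFactorizationMonoid.fintypeSubtypeDvd _ (by simpa using hΔ)
  have key : ∀ s : { x : Associates D // x ∣ Associates.mk Δ }, ∃ N : ℕ,
      t ∈ Ideal.span {Quot.out s.1} ⊔ maximalIdeal D ^ N → t ∈ Ideal.span {Quot.out s.1} := by
    intro s
    by_cases hts : t ∈ Ideal.span {Quot.out s.1}
    · exact ⟨0, fun _ => hts⟩
    · by_contra hcon
      push Not at hcon
      exact hts (mem_of_forall_mem_sup_pow _ t fun N => (hcon N).1)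
  choose Ns hNs using key
  refine ⟨Finset.univ.sup Ns, fun a haΔ hat => ?_⟩
  let s : { x : Associates D // x ∣ Associates.mk Δ } :=
    ⟨Associates.mk a, Associates.mk_dvd_mk.mpr haΔ⟩
  have hass : Associated (Quot.out s.1) a := by
    rw [← Associates.mk_eq_mk_iff_associated, Associates.quot_out]
  have hspan : Ideal.span {Quot.out s.1} = Ideal.span {a} :=
    Ideal.span_singleton_eq_span_singleton.mpr hass
  have hle : Ns s ≤ Finset.univ.sup Ns := Finset.le_sup (Finset.mem_univ s)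
  have h1 : t ∈ Ideal.span {Quot.out s.1} ⊔ maximalIdeal D ^ Ns s := by
    have h2 : t = a + (t - a) := by ring
    rw [h2]
    refine Submodule.add_mem_sup ?_ ?_
    · rw [hspan]; exact Ideal.mem_span_singleton_self a
    · have h3 : t - a = -(a - t) := by ring
      rw [h3]
      exact Ideal.neg_mem_iff _ |>.mpr (Ideal.pow_le_pow_right hle hat)
  have h4 := hNs s h1
  rw [hspan] at h4
  exact Ideal.mem_span_singleton.mp h4

/-- **Rigidity of factorizations.** In a Noetherian local UFD, a factorization `a * b = t₁ * t₂ ≠ 0`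
with `a`, `b` sufficiently close to `t₁`, `t₂` has `a ~ t₁` and `b ~ t₂`. -/
theorem exists_pow_forall_span_eq {D : Type*} [CommRing D] [IsDomain D] [IsNoetherianRing D]
    [IsLocalRing D] [UniqueFactorizationMonoid D] (t₁ t₂ : D) (h0 : t₁ * t₂ ≠ 0) :
    ∃ N : ℕ, ∀ a b : D, a * b = t₁ * t₂ → a - t₁ ∈ maximalIdeal D ^ N →
      b - t₂ ∈ maximalIdeal D ^ N →
      Ideal.span {a} = Ideal.span {t₁} ∧ Ideal.span {b} = Ideal.span {t₂} := by
  obtain ⟨N₁, hN₁⟩ := exists_pow_forall_dvd t₁ (t₁ * t₂) h0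
  obtain ⟨N₂, hN₂⟩ := exists_pow_forall_dvd t₂ (t₁ * t₂) h0
  refine ⟨max N₁ N₂, fun a b hab ha hb => ?_⟩
  obtain ⟨x, hx⟩ := hN₁ a ⟨b, hab.symm⟩ (Ideal.pow_le_pow_right (le_max_left _ _) ha)
  obtain ⟨y, hy⟩ := hN₂ b ⟨a, by rw [← hab, mul_comm]⟩
    (Ideal.pow_le_pow_right (le_max_right _ _) hb)
  have hab0 : a * b ≠ 0 := by rw [hab]; exact h0
  have hxy : x * y = 1 := by
    have h1 : a * b * (x * y) = a * b * 1 := by
      rw [mul_one]
      nth_rewrite 2 [hab]
      rw [hx, hy]; ring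
    exact mul_left_cancel₀ hab0 h1
  have hux : IsUnit x := IsUnit.of_mul_eq_one _ hxy
  have huy : IsUnit y := IsUnit.of_mul_eq_one _ (by rw [mul_comm]; exact hxy)
  refine ⟨Ideal.span_singleton_eq_span_singleton.mpr ?_,
    Ideal.span_singleton_eq_span_singleton.mpr ?_⟩
  · exact ⟨hux.unit, by rw [IsUnit.unit_spec]; exact hx.symm⟩
  · exact ⟨huy.unit, by rw [IsUnit.unit_spec]; exact hy.symm⟩

end Groth.Agent.Helper8.Node
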