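import Mathlib
import Groth.Prelude.Def_DualGr

/-!
# Uniqueness of the thickness of a formal node (ring isomorphisms compatible with a dense subring)

Adaptation of the coefficient argument of S17720 to ring isomorphisms which are only known to be
compatible with the constants coming from a "dense" subring `ι : R → A`.
-/

set_option autoImplicit false
universe u

namespace Groth.Agent.Helper8.ThickNode

open MvPowerSeries IsLocalRing

section Aux

variable {A : Type u} [CommRing A]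

/-- decomposition of a power series in two variables -/
lemma exists_decomp (F : MvPowerSeries (Fin 2) A) :
    ∃ E G : MvPowerSeries (Fin 2) A, F = C (constantCoeff F) + X 0 * E + X 1 * G := by
  classical
  set G' : MvPowerSeries (Fin 2) A := fun n => if n 0 = 0 then coeff n F else 0 with hG'
  have hG'c : ∀ n, coeff n G' = if n 0 = 0 then coeff n F else 0 := fun n => rfl
  have h1 : (X 0 : MvPowerSeries (Fin 2) A) ∣ F - G' := by
    rw [X_dvd_iff]
    intro m hm
    rw [map_sub, hG'c, if_pos hm, sub_self]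
  have h2 : (X 1 : MvPowerSeries (Fin 2) A) ∣ G' - C (constantCoeff F) := by
    rw [X_dvd_iff]
    intro m hm
    rw [map_sub, coeff_C, hG'c]
    by_cases h0 : m 0 = 0
    · have : m = 0 := by
        ext i; fin_cases i
        · simpa using h0
        · simpa using hm
      subst this
      simp [coeff_zero_eq_constantCoeff_apply]
    · have : m ≠ 0 := fun h => h0 (by simp [h])
      simp [h0, this]
  obtain ⟨E, hE⟩ := h1
  obtain ⟨G, hG⟩ := h2
  refine ⟨E, G, ?_⟩
  rw [← hE, ← hG]; ring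

/-- Leibniz rule for linear coefficients -/
lemma coeff_single_one_mul (j : Fin 2) (F G : MvPowerSeries (Fin 2) A) :
    coeff (Finsupp.single j 1) (F * G) =
      constantCoeff F * coeff (Finsupp.single j 1) G +
        coeff (Finsupp.single j 1) F * constantCoeff G := by
  classical
  rw [coeff_mul, Finsupp.antidiagonal_single, Finset.sum_map]
  simp [Finset.Nat.antidiagonal_succ, coeff_zero_eq_constantCoeff_apply]

variable [IsLocalRing A]

/-- linear coefficient modulo the maximal ideal -/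
noncomputable def L (j : Fin 2) : MvPowerSeries (Fin 2) A →+ ResidueField A :=
  (residue A : A →+ ResidueField A).comp
    (coeff (Finsupp.single j 1) : MvPowerSeries (Fin 2) A →ₗ[A] A).toAddMonoidHom

/-- constant coefficient modulo the maximal ideal -/
noncomputable def ε : MvPowerSeries (Fin 2) A →+* ResidueField A :=
  (residue A).comp constantCoeff

lemma L_apply (j : Fin 2) (F : MvPowerSeries (Fin 2) A) :
    L j F = residue A (coeff (Finsupp.single j 1) F) := rfl

lemma ε_apply (F : MvPowerSeries (Fin 2) A) : ε F = residue A (constantCoeff F) := rfl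

lemma L_mul (j : Fin 2) (F G : MvPowerSeries (Fin 2) A) :
    L j (F * G) = ε F * L j G + L j F * ε G := by
  simp only [L_apply, ε_apply, coeff_single_one_mul, map_add, map_mul]

lemma L_C (j : Fin 2) (c : A) : L j (C c : MvPowerSeries (Fin 2) A) = 0 := by
  classical
  rw [L_apply, coeff_C, if_neg (by simp), map_zero]

lemma L_X (j i : Fin 2) : L j (X i : MvPowerSeries (Fin 2) A) = if j = i then 1 else 0 := by
  classical
  rw [L_apply, coeff_index_single_X]
  split_ifs <;> simp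

lemma ε_X (i : Fin 2) : ε (X i : MvPowerSeries (Fin 2) A) = 0 := by
  rw [ε_apply, constantCoeff_X, map_zero]

lemma ε_C (c : A) : ε (C c : MvPowerSeries (Fin 2) A) = residue A c := by
  rw [ε_apply, constantCoeff_C]

lemma ε_eq_zero {F : MvPowerSeries (Fin 2) A} (h : constantCoeff F ∈ maximalIdeal A) :
    ε F = 0 := by
  rw [ε_apply]; exact (residue_eq_zero_iff _).mpr h

/-- the ideal `(xy - β)` -/
noncomputable abbrev Iq (β : A) : Ideal (MvPowerSeries (Fin 2) A) :=
  Ideal.span {(X 0 * X 1 - C β : MvPowerSeries (Fin 2) A)}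

/-- membership in the ideal gives vanishing of `L` -/
lemma L_of_mem {β : A} (hβ : β ∈ maximalIdeal A) (j : Fin 2) {F : MvPowerSeries (Fin 2) A}
    (hF : F ∈ Iq β) : L j F = 0 := by
  obtain ⟨H, rfl⟩ := Ideal.mem_span_singleton'.mp hF
  rw [L_mul, map_sub, map_sub, L_mul, map_mul, ε_X, ε_X, L_C, ε_C,
    (residue_eq_zero_iff _).mpr hβ]
  ring

lemma ε_of_mem {β : A} (hβ : β ∈ maximalIdeal A) {F : MvPowerSeries (Fin 2) A}
    (hF : F ∈ Iq β) : ε F = 0 := by
  obtain ⟨H, rfl⟩ := Ideal.mem_span_singleton'.mp hF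
  simp only [map_mul, map_sub, ε_X, ε_C, (residue_eq_zero_iff _).mpr hβ, mul_zero, sub_zero,
    zero_mul]

lemma not_isUnit_mk_X {α : A} (hα : α ∈ maximalIdeal A) (i : Fin 2) :
    ¬ IsUnit (Ideal.Quotient.mk (Iq α) (X i)) := by
  intro hu
  obtain ⟨V, hV⟩ := hu.exists_right_inv
  obtain ⟨v, rfl⟩ := Ideal.Quotient.mk_surjective V
  rw [← map_mul, ← map_one (Ideal.Quotient.mk (Iq α)), Ideal.Quotient.eq] at hV
  obtain ⟨H, hH⟩ := Ideal.mem_span_singleton'.mp hV
  have := congrArg constantCoeff hH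
  simp only [map_mul, map_sub, constantCoeff_X, constantCoeff_C, map_one, zero_mul, zero_sub,
    mul_zero] at this
  have h1 : (1 : A) ∈ maximalIdeal A := by
    have : (1 : A) = constantCoeff H * α := by linear_combination this
    rw [this]; exact Ideal.mul_mem_left _ _ hα
  exact (Ideal.ne_top_iff_one _).mp (maximalIdeal.isMaximal A).ne_top h1

/-- `L` on the quotient, through a chosen lift -/
noncomputable def Lq (β : A) (j : Fin 2) (x : MvPowerSeries (Fin 2) A ⧸ Iq β) : ResidueField A :=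
  L j (Function.surjInv Ideal.Quotient.mk_surjective x)

/-- `ε` on the quotient, through a chosen lift -/
noncomputable def εq (β : A) (x : MvPowerSeries (Fin 2) A ⧸ Iq β) : ResidueField A :=
  ε (Function.surjInv Ideal.Quotient.mk_surjective x)

variable {β : A} (hβ : β ∈ maximalIdeal A)

include hβ in
lemma Lq_mk (j : Fin 2) (F : MvPowerSeries (Fin 2) A) :
    Lq β j (Ideal.Quotient.mk (Iq β) F) = L j F := by
  unfold Lq
  have h1 : Ideal.Quotient.mk (Iq β)
      (Function.surjInv Ideal.Quotient.mk_surjective (Ideal.Quotient.mk (Iq β) F)) =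
      Ideal.Quotient.mk (Iq β) F := Function.surjInv_eq _ _
  rw [Ideal.Quotient.eq] at h1
  have h2 := L_of_mem hβ j h1
  rw [map_sub, sub_eq_zero] at h2
  exact h2

include hβ in
lemma εq_mk (F : MvPowerSeries (Fin 2) A) :
    εq β (Ideal.Quotient.mk (Iq β) F) = ε F := by
  unfold εq
  have h1 : Ideal.Quotient.mk (Iq β)
      (Function.surjInv Ideal.Quotient.mk_surjective (Ideal.Quotient.mk (Iq β) F)) =
      Ideal.Quotient.mk (Iq β) F := Function.surjInv_eq _ _
  rw [Ideal.Quotient.eq] at h1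
  have h2 := ε_of_mem hβ h1
  rw [map_sub, sub_eq_zero] at h2
  exact h2

include hβ in
lemma Lq_add (j : Fin 2) (x y : MvPowerSeries (Fin 2) A ⧸ Iq β) :
    Lq β j (x + y) = Lq β j x + Lq β j y := by
  obtain ⟨F, rfl⟩ := Ideal.Quotient.mk_surjective x
  obtain ⟨G, rfl⟩ := Ideal.Quotient.mk_surjective y
  rw [← map_add, Lq_mk hβ, Lq_mk hβ, Lq_mk hβ, map_add]

include hβ in
lemma εq_add (x y : MvPowerSeries (Fin 2) A ⧸ Iq β) :
    εq β (x + y) = εq β x + εq β y := by
  obtain ⟨F, rfl⟩ := Ideal.Quotient.mk_surjective x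
  obtain ⟨G, rfl⟩ := Ideal.Quotient.mk_surjective y
  rw [← map_add, εq_mk hβ, εq_mk hβ, εq_mk hβ, map_add]

include hβ in
lemma εq_mul (x y : MvPowerSeries (Fin 2) A ⧸ Iq β) :
    εq β (x * y) = εq β x * εq β y := by
  obtain ⟨F, rfl⟩ := Ideal.Quotient.mk_surjective x
  obtain ⟨G, rfl⟩ := Ideal.Quotient.mk_surjective y
  rw [← map_mul, εq_mk hβ, εq_mk hβ, εq_mk hβ, map_mul]

include hβ in
lemma Lq_mul (j : Fin 2) (x y : MvPowerSeries (Fin 2) A ⧸ Iq β) :
    Lq β j (x * y) = εq β x * Lq β j y + Lq β j x * εq β y := by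
  obtain ⟨F, rfl⟩ := Ideal.Quotient.mk_surjective x
  obtain ⟨G, rfl⟩ := Ideal.Quotient.mk_surjective y
  rw [← map_mul, Lq_mk hβ, Lq_mk hβ, Lq_mk hβ, εq_mk hβ, εq_mk hβ, L_mul]

include hβ in
lemma Lq_zero (j : Fin 2) : Lq β j 0 = 0 := by
  rw [← map_zero (Ideal.Quotient.mk (Iq β)), Lq_mk hβ, map_zero]

include hβ in
lemma εq_zero : εq β 0 = 0 := by
  rw [← map_zero (Ideal.Quotient.mk (Iq β)), εq_mk hβ, map_zero]

end Aux

section main

variable {R : Type u} [CommRing R] [IsLocalRing R] {A : Type u} [CommRing A] [IsLocalRing A]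
  (ι : R →+* A)
  (hdense : ∀ c : A, ∃ r : R, c - ι r ∈ maximalIdeal A)
  (hmax : maximalIdeal A = Ideal.map ι (maximalIdeal R))
  {α β : A} (hα : α ∈ maximalIdeal A) (hβ : β ∈ maximalIdeal A)
  (φ : (MvPowerSeries (Fin 2) A ⧸ Iq α) ≃+* (MvPowerSeries (Fin 2) A ⧸ Iq β))
  (hφ : ∀ r : R, φ (Ideal.Quotient.mk (Iq α) (C (ι r))) = Ideal.Quotient.mk (Iq β) (C (ι r)))

include hα in
lemma constantCoeff_mem (i : Fin 2) (Z : MvPowerSeries (Fin 2) A)
    (hZ : Ideal.Quotient.mk (Iq β) Z = φ (Ideal.Quotient.mk (Iq α) (X i))) :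
    constantCoeff Z ∈ maximalIdeal A := by
  by_contra hc
  have hu : IsUnit (constantCoeff Z) := by
    by_contra h'; exact hc ((mem_maximalIdeal _).mpr h')
  have hZu : IsUnit Z := isUnit_iff_constantCoeff.mpr hu
  have h2 : IsUnit (φ (Ideal.Quotient.mk (Iq α) (X i))) := hZ ▸ hZu.map _
  have h3 : IsUnit (Ideal.Quotient.mk (Iq α) (X i)) := by
    have := h2.map φ.symm
    simpa using this
  exact not_isUnit_mk_X hα i h3

include hmax hβ hφ in
/-- constants in the maximal ideal are sent to elements with vanishing `ε` and `L` -/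
lemma jet_of_mem_maximalIdeal (μ : A) (hμ : μ ∈ maximalIdeal A) :
    εq β (φ (Ideal.Quotient.mk (Iq α) (C μ))) = 0 ∧
      ∀ j, Lq β j (φ (Ideal.Quotient.mk (Iq α) (C μ))) = 0 := by
  rw [hmax, Ideal.map] at hμ
  induction hμ using Submodule.span_induction with
  | mem x hx =>
    obtain ⟨r, hr, rfl⟩ := hx
    have hιr : ι r ∈ maximalIdeal A := by
      rw [hmax]; exact Ideal.mem_map_of_mem ι hr
    rw [hφ r]
    refine ⟨?_, fun j => ?_⟩
    · rw [εq_mk hβ, ε_C]; exact (residue_eq_zero_iff _).mpr hιr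
    · rw [Lq_mk hβ, L_C]
  | zero =>
    rw [map_zero, map_zero, map_zero]
    exact ⟨εq_zero hβ, fun j => Lq_zero hβ j⟩
  | add x y _ _ hx hy =>
    rw [map_add, map_add, map_add]
    refine ⟨?_, fun j => ?_⟩
    · rw [εq_add hβ, hx.1, hy.1, add_zero]
    · rw [Lq_add hβ, hx.2 j, hy.2 j, add_zero]
  | smul s x _ hx =>
    rw [smul_eq_mul, map_mul, map_mul, map_mul]
    refine ⟨?_, fun j => ?_⟩
    · rw [εq_mul hβ, hx.1, mul_zero]
    · rw [Lq_mul hβ, hx.1, hx.2 j, mul_zero, mul_zero, add_zero]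

include hdense hmax hβ hφ in
/-- all constants are sent to elements with vanishing `L` -/
lemma Lq_phi_C (c : A) (j : Fin 2) : Lq β j (φ (Ideal.Quotient.mk (Iq α) (C c))) = 0 := by
  obtain ⟨r, hr⟩ := hdense c
  have hc : c = ι r + (c - ι r) := by ring
  rw [hc, map_add, map_add, map_add, Lq_add hβ, hφ r, Lq_mk hβ, L_C,
    (jet_of_mem_maximalIdeal ι hmax hβ φ hφ _ hr).2 j, add_zero]

include hdense hmax hα hβ hφ in
/-- the surjectivity consequence -/
lemma exists_coeffs (Xt Yt : MvPowerSeries (Fin 2) A)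
    (hXt : Ideal.Quotient.mk (Iq β) Xt = φ (Ideal.Quotient.mk (Iq α) (X 0)))
    (hYt : Ideal.Quotient.mk (Iq β) Yt = φ (Ideal.Quotient.mk (Iq α) (X 1))) (i : Fin 2) :
    ∃ e g : ResidueField A, ∀ j : Fin 2,
      L j Xt * e + L j Yt * g = if j = i then 1 else 0 := by
  have hX0 : ε Xt = 0 := ε_eq_zero (constantCoeff_mem hα φ 0 Xt hXt)
  have hY0 : ε Yt = 0 := ε_eq_zero (constantCoeff_mem hα φ 1 Yt hYt)
  obtain ⟨u, hu⟩ := φ.surjective (Ideal.Quotient.mk (Iq β) (X i))
  obtain ⟨U, rfl⟩ := Ideal.Quotient.mk_surjective u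
  obtain ⟨E, G, hU⟩ := exists_decomp U
  obtain ⟨E1, E2, hE⟩ := exists_decomp E
  obtain ⟨G1, G2, hG⟩ := exists_decomp G
  set Φ : MvPowerSeries (Fin 2) A → (MvPowerSeries (Fin 2) A ⧸ Iq β) :=
    fun F => φ (Ideal.Quotient.mk (Iq α) F) with hΦ
  have hΦadd : ∀ F G, Φ (F + G) = Φ F + Φ G := fun F G => by simp only [hΦ, map_add]
  have hΦmul : ∀ F G, Φ (F * G) = Φ F * Φ G := fun F G => by simp only [hΦ, map_mul]
  set x := Ideal.Quotient.mk (Iq β) Xt with hx
  set y := Ideal.Quotient.mk (Iq β) Yt with hy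
  have hΦX0 : Φ (X 0) = x := hXt.symm
  have hΦX1 : Φ (X 1) = y := hYt.symm
  have key : Ideal.Quotient.mk (Iq β) (X i) =
      Φ (C (constantCoeff U)) +
        x * (Φ (C (constantCoeff E)) + x * Φ E1 + y * Φ E2) +
        y * (Φ (C (constantCoeff G)) + x * Φ G1 + y * Φ G2) := by
    rw [← hu]
    change Φ U = _
    conv_lhs => rw [hU, hE, hG]
    simp only [hΦadd, hΦmul, hΦX0, hΦX1]
  have hεx : εq β x = 0 := by rw [hx, εq_mk hβ, hX0]
  have hεy : εq β y = 0 := by rw [hy, εq_mk hβ, hY0]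
  have hLx : ∀ j, Lq β j x = L j Xt := fun j => by rw [hx, Lq_mk hβ]
  have hLy : ∀ j, Lq β j y = L j Yt := fun j => by rw [hy, Lq_mk hβ]
  refine ⟨εq β (Φ (C (constantCoeff E))), εq β (Φ (C (constantCoeff G))), fun j => ?_⟩
  have h1 := congrArg (Lq β j) key
  rw [Lq_mk hβ, L_X, Lq_add hβ, Lq_add hβ, Lq_mul hβ, Lq_mul hβ,
    Lq_phi_C ι hdense hmax hβ φ hφ _ j, hεx, hεy, hLx, hLy, zero_mul, zero_mul, zero_add,
    zero_add] at h1
  have h2 : εq β (Φ (C (constantCoeff E)) + x * Φ E1 + y * Φ E2) =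
      εq β (Φ (C (constantCoeff E))) := by
    rw [εq_add hβ, εq_add hβ, εq_mul hβ, εq_mul hβ, hεx, hεy, zero_mul, zero_mul, add_zero,
      add_zero]
  have h3 : εq β (Φ (C (constantCoeff G)) + x * Φ G1 + y * Φ G2) =
      εq β (Φ (C (constantCoeff G))) := by
    rw [εq_add hβ, εq_add hβ, εq_mul hβ, εq_mul hβ, hεx, hεy, zero_mul, zero_mul, add_zero,
      add_zero]
  rw [h2, h3] at h1
  simp only [zero_add, add_zero] at h1
  exact h1.symm

include hdense hmax hα hβ hφ in
lemma dvd_of_equiv (a : R) (haα : α = ι a) : β ∣ α := by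
  obtain ⟨Xt, hXt⟩ := Ideal.Quotient.mk_surjective (φ (Ideal.Quotient.mk (Iq α) (X 0)))
  obtain ⟨Yt, hYt⟩ := Ideal.Quotient.mk_surjective (φ (Ideal.Quotient.mk (Iq α) (X 1)))
  -- the key relation
  have hrel : Ideal.Quotient.mk (Iq β) (Xt * Yt) = Ideal.Quotient.mk (Iq β) (C α) := by
    rw [map_mul, hXt, hYt, ← map_mul, ← map_mul]
    have h1 : Ideal.Quotient.mk (Iq α) (X 0 * X 1) = Ideal.Quotient.mk (Iq α) (C α) := by
      rw [Ideal.Quotient.eq]
      exact Ideal.mem_span_singleton_self _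
    rw [h1]
    have h2 := hφ a
    rw [← haα] at h2
    exact h2
  rw [Ideal.Quotient.eq] at hrel
  obtain ⟨h, hh⟩ := Ideal.mem_span_singleton'.mp hrel
  -- invertibility of the linear part
  obtain ⟨e, g, h0⟩ := exists_coeffs ι hdense hmax hα hβ φ hφ Xt Yt hXt hYt 0
  obtain ⟨e', g', h1⟩ := exists_coeffs ι hdense hmax hα hβ φ hφ Xt Yt hXt hYt 1
  have h00 := h0 0
  have h01 := h0 1
  have h10 := h1 0
  have h11 := h1 1
  simp only [if_true, Fin.isValue, one_ne_zero, zero_ne_one, if_false] at h00 h01 h10 h11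
  have hdet : (L 0 Xt * L 1 Yt - L 1 Xt * L 0 Yt) * (e * g' - g * e') = 1 := by
    linear_combination (L 1 Xt * e' + L 1 Yt * g') * h00 + h11 - (L 0 Xt * e' + L 0 Yt * g') * h01
  have hunit : IsUnit (coeff (Finsupp.single 0 1) Xt * coeff (Finsupp.single 1 1) Yt -
      coeff (Finsupp.single 1 1) Xt * coeff (Finsupp.single 0 1) Yt) := by
    by_contra hnu
    have hm := (mem_maximalIdeal _).mpr hnu
    have hz := (residue_eq_zero_iff _).mpr hm
    simp only [map_sub, map_mul, ← L_apply] at hz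
    rw [hz, zero_mul] at hdet
    exact zero_ne_one hdet
  -- coefficient equations
  have c0 := congrArg constantCoeff hh
  have c1 := congrArg (coeff (Finsupp.single (0 : Fin 2) 1)) hh
  have c2 := congrArg (coeff (Finsupp.single (1 : Fin 2) 1)) hh
  classical
  simp only [coeff_single_one_mul, map_sub, map_mul, constantCoeff_X, constantCoeff_C,
    coeff_index_single_X, coeff_C, zero_mul, mul_zero] at c0 c1 c2
  simp at c1 c2
  have hc0 : β ∣ constantCoeff Yt := by
    rw [← hunit.dvd_mul_right]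
    refine ⟨coeff (Finsupp.single 0 1) Yt * coeff (Finsupp.single 1 1) h -
      coeff (Finsupp.single 1 1) Yt * coeff (Finsupp.single 0 1) h, ?_⟩
    linear_combination (-coeff (Finsupp.single 1 1) Yt) * c1 + coeff (Finsupp.single 0 1) Yt * c2
  obtain ⟨w, hw⟩ := hc0
  refine ⟨constantCoeff Xt * w + constantCoeff h, ?_⟩
  rw [hw] at c0
  linear_combination c0

include hdense hmax hα hβ hφ in
theorem span_eq (a b : R) (haα : α = ι a) (hbβ : β = ι b) :
    Ideal.span {α} = Ideal.span {β} := by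
  have hφ' : ∀ r : R, φ.symm (Ideal.Quotient.mk (Iq β) (C (ι r))) =
      Ideal.Quotient.mk (Iq α) (C (ι r)) := by
    intro r
    rw [← hφ r, RingEquiv.symm_apply_apply]
  apply le_antisymm
  · rw [Ideal.span_singleton_le_span_singleton]
    exact dvd_of_equiv ι hdense hmax hα hβ φ hφ a haα
  · rw [Ideal.span_singleton_le_span_singleton]
    exact dvd_of_equiv ι hdense hmax hβ hα φ.symm hφ' b hbβ

end main

/-- the main theorem for S17737 -/
theorem main (R A : Type u) [CommRing R] [IsLocalRing R] [IsNoetherianRing R] [CommRing A]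
    [IsLocalRing A] (φ : R →+* A) (a b : R) (ha : a ∈ maximalIdeal R) (hb : b ∈ maximalIdeal R)
    (h₁ : DualGr.IsThickNode φ a) (h₂ : DualGr.IsThickNode φ b) :
    Ideal.span {a} = Ideal.span {b} := by
  obtain ⟨e₁, he₁⟩ := h₁
  obtain ⟨e₂, he₂⟩ := h₂
  let ι : R →+* Curv2.cpl R := algebraMap R (Curv2.cpl R)
  have hmax : maximalIdeal (Curv2.cpl R) = Ideal.map ι (maximalIdeal R) :=
    AdicCompletion.maximalIdeal_eq_map
  have hdense : ∀ c : Curv2.cpl R, ∃ r : R, c - ι r ∈ maximalIdeal (Curv2.cpl R) := by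
    intro c
    obtain ⟨r, hr⟩ := Submodule.mkQ_surjective
      ((maximalIdeal R) ^ 1 • ⊤ : Submodule R R) (c.1 1)
    refine ⟨r, ?_⟩
    rw [AdicCompletion.mem_maximalIdeal_iff_eval_one_eq_zero]
    simp only [ι, AdicCompletion.val_sub_apply, AdicCompletion.algebraMap_apply,
      AdicCompletion.of_apply, Algebra.algebraMap_self, RingHom.id_apply, hr, sub_self]
  have hαm : ι a ∈ maximalIdeal (Curv2.cpl R) := by
    rw [hmax]; exact Ideal.mem_map_of_mem ι ha
  have hβm : ι b ∈ maximalIdeal (Curv2.cpl R) := by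
    rw [hmax]; exact Ideal.mem_map_of_mem ι hb
  let ψ : (MvPowerSeries (Fin 2) (Curv2.cpl R) ⧸ Iq (ι a)) ≃+*
      (MvPowerSeries (Fin 2) (Curv2.cpl R) ⧸ Iq (ι b)) := e₁.symm.trans e₂
  have hψ : ∀ r : R, ψ (Ideal.Quotient.mk (Iq (ι a)) (C (ι r))) =
      Ideal.Quotient.mk (Iq (ι b)) (C (ι r)) := by
    intro r
    change e₂ (e₁.symm _) = _
    rw [← he₁ r, RingEquiv.symm_apply_apply, he₂ r]
  have hspan := span_eq ι hdense hmax hαm hβm ψ hψ a b rfl rfl
  have : Module.FaithfullyFlat R (Curv2.cpl R) := Module.FaithfullyFlat.of_flat_of_isLocalHom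
  have key : (Ideal.span {a}).map ι = (Ideal.span {b}).map ι := by
    rw [Ideal.map_span, Ideal.map_span, Set.image_singleton, Set.image_singleton]
    exact hspan
  have h3 := congrArg (Ideal.comap ι) key
  rwa [Ideal.comap_map_eq_self_of_faithfullyFlat, Ideal.comap_map_eq_self_of_faithfullyFlat] at h3

end Groth.Agent.Helper8.ThickNode
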