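import Mathlib

/-!
# Connectedness of the prime spectrum and idempotents
-/

set_option autoImplicit false

namespace Groth.Agent.Helper8

open PrimeSpectrum

theorem connectedSpace_primeSpectrum_iff (R : Type*) [CommRing R] :
    ConnectedSpace (PrimeSpectrum R) ↔
      Nontrivial R ∧ ∀ e : R, IsIdempotentElem e → e = 0 ∨ e = 1 := by
  rw [connectedSpace_iff_clopen, PrimeSpectrum.nonempty_iff_nontrivial]
  refine and_congr_right fun hnt => ?_
  constructor
  · intro h e he
    have hcl : IsClopen (basicOpen e : Set (PrimeSpectrum R)) :=
      PrimeSpectrum.isClopen_iff.mpr ⟨e, he, rfl⟩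
    rcases h _ hcl with h0 | h1
    · left
      have : basicOpen e = ⊥ := TopologicalSpace.Opens.ext h0
      exact he.eq_zero_of_isNilpotent ((basicOpen_eq_bot_iff e).mp this)
    · right
      have hu : IsUnit e := by
        by_contra hne
        obtain ⟨m, hm, hem⟩ := exists_max_ideal_of_mem_nonunits hne
        have hx : (⟨m, hm.isPrime⟩ : PrimeSpectrum R) ∈ (basicOpen e : Set (PrimeSpectrum R)) := by
          rw [h1]; trivial
        exact hx hem
      exact (IsIdempotentElem.iff_eq_one_of_isUnit hu).mp he
  · intro h s hs
    obtain ⟨e, he, rfl⟩ := PrimeSpectrum.isClopen_iff.mp hs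
    rcases h e he with rfl | rfl
    · left; simp
    · right; simp

/-- A subring (injective image) of a ring with connected spectrum has connected spectrum. -/
theorem connectedSpace_primeSpectrum_of_injective {A B : Type*} [CommRing A] [CommRing B]
    (f : A →+* B) (hf : Function.Injective f) [ConnectedSpace (PrimeSpectrum B)] :
    ConnectedSpace (PrimeSpectrum A) := by
  obtain ⟨hnt, hB⟩ := (connectedSpace_primeSpectrum_iff B).mp inferInstance
  rw [connectedSpace_primeSpectrum_iff]
  refine ⟨f.domain_nontrivial, fun e he => ?_⟩
  rcases hB (f e) (he.map f) with h | h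
  · left; exact hf (by rw [h, map_zero])
  · right; exact hf (by rw [h, map_one])

/-- A subring (injective image) of a ring with irreducible spectrum has irreducible spectrum. -/
theorem irreducibleSpace_primeSpectrum_of_injective {A B : Type*} [CommRing A] [CommRing B]
    (f : A →+* B) (hf : Function.Injective f) [IrreducibleSpace (PrimeSpectrum B)] :
    IrreducibleSpace (PrimeSpectrum A) := by
  have hB : (nilradical B).IsPrime :=
    PrimeSpectrum.irreducibleSpace_iff_isPrime_nilradical.mp inferInstance
  rw [PrimeSpectrum.irreducibleSpace_iff_isPrime_nilradical]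
  have : nilradical A = (nilradical B).comap f := by
    ext x
    simp only [mem_nilradical, Ideal.mem_comap]
    exact (IsNilpotent.map_iff hf).symm
  rw [this]
  exact Ideal.comap_isPrime f _

end Groth.Agent.Helper8
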