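import Mathlib

/-!
# Injectivity of tensor products of injective algebra maps over a field
-/

set_option autoImplicit false
open scoped TensorProduct

namespace Groth.Agent.Helper8

variable {k : Type*} [Field k]

theorem tensorMap_id_injective (A : Type*) [Ring A] [Algebra k A]
    {B C : Type*} [Ring B] [Algebra k B] [Ring C] [Algebra k C]
    (f : B →ₐ[k] C) (hf : Function.Injective f) :
    Function.Injective (Algebra.TensorProduct.map (AlgHom.id k A) f) := by
  have h1 : Function.Injective (LinearMap.lTensor A f.toLinearMap) :=
    Module.Flat.lTensor_preserves_injective_linearMap _ hf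
  have h2 : ∀ z, LinearMap.lTensor A f.toLinearMap z =
      Algebra.TensorProduct.map (AlgHom.id k A) f z := by
    intro z
    induction z using TensorProduct.induction_on with
    | zero => simp
    | tmul a b => simp
    | add a b ha hb => simp only [map_add, ha, hb]
  intro x y hxy
  apply h1
  rw [h2, h2, hxy]

theorem tensorMap_injective_id (A : Type*) [Ring A] [Algebra k A]
    {B C : Type*} [Ring B] [Algebra k B] [Ring C] [Algebra k C]
    (f : B →ₐ[k] C) (hf : Function.Injective f) :
    Function.Injective (Algebra.TensorProduct.map f (AlgHom.id k A)) := by
  have h1 : Function.Injective (LinearMap.rTensor A f.toLinearMap) :=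
    Module.Flat.rTensor_preserves_injective_linearMap _ hf
  have h2 : ∀ z, LinearMap.rTensor A f.toLinearMap z =
      Algebra.TensorProduct.map f (AlgHom.id k A) z := by
    intro z
    induction z using TensorProduct.induction_on with
    | zero => simp
    | tmul a b => simp
    | add a b ha hb => simp only [map_add, ha, hb]
  intro x y hxy
  apply h1
  rw [h2, h2, hxy]

theorem tensorMap_injective
    {B C B' C' : Type*} [Ring B] [Algebra k B] [Ring C] [Algebra k C]
    [Ring B'] [Algebra k B'] [Ring C'] [Algebra k C']
    (f : B →ₐ[k] C) (hf : Function.Injective f) (g : B' →ₐ[k] C') (hg : Function.Injective g) :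
    Function.Injective (Algebra.TensorProduct.map f g) := by
  have h : Algebra.TensorProduct.map f g =
      (Algebra.TensorProduct.map f (AlgHom.id k C')).comp
        (Algebra.TensorProduct.map (AlgHom.id k B) g) := by
    apply Algebra.TensorProduct.ext'
    intro a b
    simp
  rw [h]
  exact (tensorMap_injective_id C' f hf).comp (tensorMap_id_injective B g hg)

end Groth.Agent.Helper8
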