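import Mathlib
import Groth.Agent.Lib.Helper8.TensorInj
import Groth.Agent.Lib.Helper8.SpecConn

/-!
# Tensor products over an algebraically closed field

For `k` algebraically closed, `A` a `k`-domain and `C` a `k`-algebra, nonzero elements of
`A ⊗[k] C` can be detected on `k`-points of finitely generated subalgebras of `A`.
Consequences: tensor products of domains are domains, and connectedness / irreducibility of
`Spec C` passes to `Spec (A ⊗[k] C)`.
-/

set_option autoImplicit false
open scoped TensorProduct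

namespace Groth.Agent.Helper8

section Points
variable {k : Type*} [Field k] [IsAlgClosed k]

/-- A `k`-point of a finitely generated `k`-domain avoiding a given nonzero element. -/
theorem exists_algHom_ne_zero {A : Type*} [CommRing A] [IsReduced A] [Algebra k A]
    [Algebra.FiniteType k A] (a : A) (ha : a ≠ 0) : ∃ ε : A →ₐ[k] k, ε a ≠ 0 := by
  haveI : IsJacobsonRing A := isJacobsonRing_of_finiteType (A := k) (B := A)
  have hrad : (⊥ : Ideal A).IsRadical := by
    rintro x ⟨n, hn⟩
    rw [Ideal.mem_bot] at hn ⊢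
    exact IsNilpotent.eq_zero ⟨n, hn⟩
  have hjac : (⊥ : Ideal A).jacobson = ⊥ := IsJacobsonRing.out inferInstance hrad
  have hnot : a ∉ (⊥ : Ideal A).jacobson := by
    rw [hjac]; simpa using ha
  rw [Ideal.jacobson, Ideal.mem_sInf] at hnot
  push Not at hnot
  obtain ⟨m, ⟨_, hm⟩, ham⟩ := hnot
  letI := Ideal.Quotient.field m
  haveI : Module.Finite k (A ⧸ m) := finite_of_finite_type_of_isJacobsonRing k (A ⧸ m)
  have hbij : Function.Bijective (algebraMap k (A ⧸ m)) :=
    IsAlgClosed.algebraMap_bijective_of_isIntegral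
  let e : k ≃ₐ[k] A ⧸ m := AlgEquiv.ofBijective (Algebra.ofId k (A ⧸ m)) hbij
  refine ⟨(e.symm : A ⧸ m →ₐ[k] k).comp (Ideal.Quotient.mkₐ k m), ?_⟩
  intro h0
  apply ham
  have h1 : e.symm (Ideal.Quotient.mk m a) = 0 := h0
  have h2 : Ideal.Quotient.mk m a = 0 := by
    have := congrArg e h1
    simpa using this
  exact Ideal.Quotient.eq_zero_iff_mem.mp h2

/-- Evaluate the first factor at a `k`-point. -/
noncomputable def evalLeft {A : Type*} [CommRing A] [Algebra k A] (C : Type*) [CommRing C]
    [Algebra k C] (ε : A →ₐ[k] k) : A ⊗[k] C →ₐ[k] C :=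
  (Algebra.TensorProduct.lid k C : k ⊗[k] C →ₐ[k] C).comp
    (Algebra.TensorProduct.map ε (AlgHom.id k C))

omit [IsAlgClosed k] in
@[simp] theorem evalLeft_tmul {A : Type*} [CommRing A] [Algebra k A] (C : Type*) [CommRing C]
    [Algebra k C] (ε : A →ₐ[k] k) (a : A) (c : C) : evalLeft C ε (a ⊗ₜ[k] c) = ε a • c := by
  simp [evalLeft]

/-- Two nonzero elements of `A ⊗ C` stay nonzero at a common `k`-point (`A` f.g. domain). -/
theorem exists_evalLeft_ne_zero {A : Type*} [CommRing A] [IsDomain A] [Algebra k A]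
    [Algebra.FiniteType k A] (C : Type*) [CommRing C] [Algebra k C]
    (x y : A ⊗[k] C) (hx : x ≠ 0) (hy : y ≠ 0) :
    ∃ ε : A →ₐ[k] k, evalLeft C ε x ≠ 0 ∧ evalLeft C ε y ≠ 0 := by
  classical
  let c := Module.Free.chooseBasis k C
  let B := Algebra.TensorProduct.basis A c
  have hex : ∀ z : A ⊗[k] C, z ≠ 0 → ∃ l, B.repr z l ≠ 0 := by
    intro z hz
    by_contra hne
    push Not at hne
    apply hz
    apply B.repr.injective
    ext l
    simpa using hne l
  obtain ⟨l0, hl0⟩ := hex x hx
  obtain ⟨l1, hl1⟩ := hex y hy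
  obtain ⟨ε, hε⟩ := exists_algHom_ne_zero (k := k) (B.repr x l0 * B.repr y l1) (mul_ne_zero hl0 hl1)
  rw [map_mul] at hε
  have hrepr : ∀ (z : A ⊗[k] C) l, c.repr (evalLeft C ε z) l = ε (B.repr z l) := by
    intro z l
    induction z using TensorProduct.induction_on with
    | zero => simp
    | tmul a c' =>
      rw [evalLeft_tmul]
      simp only [B, Algebra.TensorProduct.basis_repr_tmul, map_smul, Finsupp.smul_apply,
        Finsupp.mapRange_apply, smul_eq_mul, map_mul, AlgHom.commutes, Algebra.algebraMap_self,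
        RingHom.id_apply]
    | add z w hz hw => simp only [map_add, Finsupp.add_apply, hz, hw]
  refine ⟨ε, fun h0 => ?_, fun h0 => ?_⟩
  · have := hrepr x l0
    rw [h0, map_zero, Finsupp.zero_apply] at this
    exact (left_ne_zero_of_mul hε) this.symm
  · have := hrepr y l1
    rw [h0, map_zero, Finsupp.zero_apply] at this
    exact (right_ne_zero_of_mul hε) this.symm

end Points

section FG
variable {k : Type*} [Field k]

/-- Every element of `A ⊗ C` comes from `A' ⊗ C` for any subalgebra `A'` containing a suitable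
finite set. -/
theorem exists_finset_forall_mem_range {A : Type*} [CommRing A] [Algebra k A] (C : Type*)
    [CommRing C] [Algebra k C] (x : A ⊗[k] C) :
    ∃ F : Finset A, ∀ A' : Subalgebra k A, (F : Set A) ⊆ A' →
      x ∈ (Algebra.TensorProduct.map A'.val (AlgHom.id k C)).range := by
  classical
  induction x using TensorProduct.induction_on with
  | zero => exact ⟨∅, fun A' _ => Subalgebra.zero_mem _⟩
  | tmul a c =>
    refine ⟨{a}, fun A' hA' => ⟨(⟨a, hA' (by simp)⟩ : A') ⊗ₜ[k] c, by simp⟩⟩
  | add x y hx hy =>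
    obtain ⟨F₁, h₁⟩ := hx
    obtain ⟨F₂, h₂⟩ := hy
    refine ⟨F₁ ∪ F₂, fun A' hA' => Subalgebra.add_mem _ (h₁ A' ?_) (h₂ A' ?_)⟩
    · exact fun a ha => hA' (by simp [Finset.mem_coe.mp ha])
    · exact fun a ha => hA' (by simp [Finset.mem_coe.mp ha])

variable [IsAlgClosed k]

theorem exists_fg_point {A : Type*} [CommRing A] [IsDomain A] [Algebra k A] (C : Type*)
    [CommRing C] [Algebra k C] (x y : A ⊗[k] C) (hx : x ≠ 0) (hy : y ≠ 0) :
    ∃ (A' : Subalgebra k A) (x' y' : A' ⊗[k] C) (φ : A' ⊗[k] C →ₐ[k] C),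
      Function.Injective (Algebra.TensorProduct.map A'.val (AlgHom.id k C)) ∧
      Algebra.TensorProduct.map A'.val (AlgHom.id k C) x' = x ∧
      Algebra.TensorProduct.map A'.val (AlgHom.id k C) y' = y ∧ φ x' ≠ 0 ∧ φ y' ≠ 0 := by
  classical
  obtain ⟨F₁, h₁⟩ := exists_finset_forall_mem_range C x
  obtain ⟨F₂, h₂⟩ := exists_finset_forall_mem_range C y
  let A' : Subalgebra k A := Algebra.adjoin k ((F₁ ∪ F₂ : Finset A) : Set A)
  have hF₁ : (F₁ : Set A) ⊆ A' := fun a ha =>
    Algebra.subset_adjoin (by simp [Finset.mem_coe.mp ha])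
  have hF₂ : (F₂ : Set A) ⊆ A' := fun a ha =>
    Algebra.subset_adjoin (by simp [Finset.mem_coe.mp ha])
  obtain ⟨x', hx'⟩ := h₁ A' hF₁
  obtain ⟨y', hy'⟩ := h₂ A' hF₂
  haveI : Algebra.FiniteType k A' := (Subalgebra.fg_iff_finiteType A').mp ⟨_, rfl⟩
  have hinj : Function.Injective (Algebra.TensorProduct.map A'.val (AlgHom.id k C)) :=
    tensorMap_injective_id C A'.val Subtype.val_injective
  have hx0 : x' ≠ 0 := by
    rintro rfl
    exact hx (by rw [← hx', map_zero])
  have hy0 : y' ≠ 0 := by
    rintro rfl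
    exact hy (by rw [← hy', map_zero])
  obtain ⟨ε, hεx, hεy⟩ := exists_evalLeft_ne_zero C x' y' hx0 hy0
  exact ⟨A', x', y', evalLeft C ε, hinj, hx', hy', hεx, hεy⟩

/-- Over an algebraically closed field, a tensor product of domains is a domain. -/
theorem isDomain_tensor_of_isAlgClosed (A C : Type*) [CommRing A] [IsDomain A] [Algebra k A]
    [CommRing C] [IsDomain C] [Algebra k C] : IsDomain (A ⊗[k] C) := by
  haveI : Nontrivial (A ⊗[k] C) := inferInstance
  haveI : NoZeroDivisors (A ⊗[k] C) := by
    refine ⟨fun {x y} hxy => ?_⟩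
    by_contra hne
    push Not at hne
    obtain ⟨A', x', y', φ, hinj, hx', hy', hφx, hφy⟩ := exists_fg_point C x y hne.1 hne.2
    have h0 : x' * y' = 0 := hinj (by rw [map_mul, hx', hy', hxy, map_zero])
    have : φ x' * φ y' = 0 := by rw [← map_mul, h0, map_zero]
    rcases mul_eq_zero.mp this with h | h
    · exact hφx h
    · exact hφy h
  exact NoZeroDivisors.to_isDomain _

/-- Over an algebraically closed field, `A ⊗ C` is connected for `A` a domain and `C` connected. -/
theorem connectedSpace_tensor_of_isAlgClosed (A C : Type*) [CommRing A] [IsDomain A] [Algebra k A]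
    [CommRing C] [Algebra k C] [ConnectedSpace (PrimeSpectrum C)] :
    ConnectedSpace (PrimeSpectrum (A ⊗[k] C)) := by
  obtain ⟨hnt, hC⟩ := (connectedSpace_primeSpectrum_iff C).mp inferInstance
  rw [connectedSpace_primeSpectrum_iff]
  refine ⟨inferInstance, fun e he => ?_⟩
  by_contra hne
  push Not at hne
  have h1 : (1 : A ⊗[k] C) - e ≠ 0 := fun h => hne.2 (sub_eq_zero.mp h).symm
  obtain ⟨A', x', y', φ, hinj, hx', hy', hφx, hφy⟩ := exists_fg_point C e (1 - e) hne.1 h1
  have hidem : IsIdempotentElem x' := hinj (by rw [map_mul, hx', he.eq])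
  have hy'' : y' = 1 - x' := hinj (by rw [hy', map_sub, map_one, hx'])
  rcases hC (φ x') (hidem.map φ) with h | h
  · exact hφx h
  · apply hφy
    rw [hy'', map_sub, map_one, h, sub_self]

/-- Over an algebraically closed field, `Spec (A ⊗ C)` is irreducible for `A` a domain and
`Spec C` irreducible. -/
theorem irreducibleSpace_tensor_of_isAlgClosed (A C : Type*) [CommRing A] [IsDomain A]
    [Algebra k A] [CommRing C] [Algebra k C] [IrreducibleSpace (PrimeSpectrum C)] :
    IrreducibleSpace (PrimeSpectrum (A ⊗[k] C)) := by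
  have hN : (nilradical C).IsPrime :=
    PrimeSpectrum.irreducibleSpace_iff_isPrime_nilradical.mp inferInstance
  haveI : IsDomain (C ⧸ nilradical C) := Ideal.Quotient.isDomain _
  haveI := isDomain_tensor_of_isAlgClosed (k := k) A (C ⧸ nilradical C)
  let f : A ⊗[k] C →ₐ[k] A ⊗[k] (C ⧸ nilradical C) :=
    Algebra.TensorProduct.map (AlgHom.id k A) (Ideal.Quotient.mkₐ k (nilradical C))
  have hker : RingHom.ker f = (RingHom.ker (Ideal.Quotient.mkₐ k (nilradical C))).map
      (Algebra.TensorProduct.includeRight : C →ₐ[k] A ⊗[k] C) :=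
    Algebra.TensorProduct.lTensor_ker _ (Ideal.Quotient.mkₐ_surjective k _)
  rw [PrimeSpectrum.irreducibleSpace_iff_isPrime_nilradical]
  have hnil : nilradical (A ⊗[k] C) = RingHom.ker f := by
    apply le_antisymm
    · intro z hz
      rw [RingHom.mem_ker]
      exact IsNilpotent.eq_zero ((mem_nilradical.mp hz).map f)
    · rw [hker, Ideal.map_le_iff_le_comap]
      intro c hc
      have hc' : c ∈ nilradical C := by
        rw [RingHom.mem_ker] at hc
        exact Ideal.Quotient.eq_zero_iff_mem.mp hc
      rw [Ideal.mem_comap, mem_nilradical]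
      exact (mem_nilradical.mp hc').map _
  rw [hnil]
  exact RingHom.ker_isPrime f.toRingHom

end FG

section Reduced
variable {k : Type*} [Field k] [IsAlgClosed k]

/-- A nonzero element of `A ⊗ C` stays nonzero at some `k`-point (`A` f.g. reduced). -/
theorem exists_evalLeft_ne_zero_of_isReduced {A : Type*} [CommRing A] [IsReduced A] [Algebra k A]
    [Algebra.FiniteType k A] (C : Type*) [CommRing C] [Algebra k C]
    (x : A ⊗[k] C) (hx : x ≠ 0) :
    ∃ ε : A →ₐ[k] k, evalLeft C ε x ≠ 0 := by
  classical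
  let c := Module.Free.chooseBasis k C
  let B := Algebra.TensorProduct.basis A c
  have hex : ∃ l, B.repr x l ≠ 0 := by
    by_contra hne
    push Not at hne
    apply hx
    apply B.repr.injective
    ext l
    simpa using hne l
  obtain ⟨l0, hl0⟩ := hex
  obtain ⟨ε, hε⟩ := exists_algHom_ne_zero (k := k) (B.repr x l0) hl0
  have hrepr : ∀ (z : A ⊗[k] C) l, c.repr (evalLeft C ε z) l = ε (B.repr z l) := by
    intro z l
    induction z using TensorProduct.induction_on with
    | zero => simp
    | tmul a c' =>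
      rw [evalLeft_tmul]
      simp only [B, Algebra.TensorProduct.basis_repr_tmul, map_smul, Finsupp.smul_apply,
        Finsupp.mapRange_apply, smul_eq_mul, map_mul, AlgHom.commutes, Algebra.algebraMap_self,
        RingHom.id_apply]
    | add z w hz hw => simp only [map_add, Finsupp.add_apply, hz, hw]
  refine ⟨ε, fun h0 => ?_⟩
  have := hrepr x l0
  rw [h0, map_zero, Finsupp.zero_apply] at this
  exact hε this.symm

/-- Over an algebraically closed field, a tensor product of reduced algebras is reduced. -/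
theorem isReduced_tensor_of_isAlgClosed (A C : Type*) [CommRing A] [IsReduced A] [Algebra k A]
    [CommRing C] [IsReduced C] [Algebra k C] : IsReduced (A ⊗[k] C) := by
  classical
  refine ⟨fun x hx => ?_⟩
  by_contra hne
  obtain ⟨F, hF⟩ := exists_finset_forall_mem_range C x
  let A' : Subalgebra k A := Algebra.adjoin k (F : Set A)
  obtain ⟨x', hx''⟩ := hF A' Algebra.subset_adjoin
  have hx' : Algebra.TensorProduct.map A'.val (AlgHom.id k C) x' = x := hx''
  haveI : Algebra.FiniteType k A' := (Subalgebra.fg_iff_finiteType A').mp ⟨_, rfl⟩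
  haveI : IsReduced A' := isReduced_of_injective A'.val Subtype.val_injective
  have hinj : Function.Injective (Algebra.TensorProduct.map A'.val (AlgHom.id k C)) :=
    tensorMap_injective_id C A'.val Subtype.val_injective
  have hx0 : x' ≠ 0 := by
    rintro rfl
    exact hne (by rw [← hx', map_zero])
  have hnil : IsNilpotent x' := by
    rw [← IsNilpotent.map_iff hinj, hx']
    exact hx
  obtain ⟨ε, hε⟩ := exists_evalLeft_ne_zero_of_isReduced C x' hx0
  exact hε (IsNilpotent.eq_zero (hnil.map (evalLeft C ε)))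

end Reduced

end Groth.Agent.Helper8
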