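import Mathlib
import Groth.Prelude

/-!
# Minimal primes of `A' ⊗ S` and of `S` for flat `S` with `nil(A) S` nil
-/

set_option autoImplicit false

universe u

namespace Groth.Agent.Helper8.HensBij

open TensorProduct

section abstract

variable {S S₁ T L : Type*} [CommRing S] [CommRing S₁] [CommRing T] [CommRing L]

theorem minimalPrimes_eq_image_comap [Algebra S₁ L] (M₁ : Submonoid S₁)
    (hM₁ : M₁ ≤ nonZeroDivisors S₁) [IsLocalization M₁ L] :
    minimalPrimes S₁ = Ideal.comap (algebraMap S₁ L) '' minimalPrimes L := by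
  have h := IsLocalization.minimalPrimes_comap M₁ L (⊥ : Ideal L)
  rw [Ideal.comap_bot_of_injective _ (IsLocalization.injective L hM₁)] at h
  exact h

theorem comap_injective_of_isLocalization [Algebra S₁ L] (M₁ : Submonoid S₁)
    [IsLocalization M₁ L] : Function.Injective (Ideal.comap (algebraMap S₁ L)) := by
  intro J J' h
  have h1 := IsLocalization.map_under M₁ L J
  have h2 := IsLocalization.map_under M₁ L J'
  rw [← h1, ← h2]
  exact congrArg (Ideal.map (algebraMap S₁ L)) h

theorem bijOn_comap_of_isLocalization [Algebra S₁ L] [Algebra T L] (ψ : S₁ →+* T)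
    (hψ : (algebraMap T L).comp ψ = algebraMap S₁ L)
    (M₁ : Submonoid S₁) (hM₁ : M₁ ≤ nonZeroDivisors S₁) [IsLocalization M₁ L]
    (M₂ : Submonoid T) (hM₂ : M₂ ≤ nonZeroDivisors T) [IsLocalization M₂ L] :
    Set.BijOn (Ideal.comap ψ) (minimalPrimes T) (minimalPrimes S₁) := by
  have h1 := minimalPrimes_eq_image_comap (L := L) M₁ hM₁
  have h2 := minimalPrimes_eq_image_comap (L := L) M₂ hM₂
  have hc : ∀ Q : Ideal L, Ideal.comap ψ (Ideal.comap (algebraMap T L) Q) =
      Ideal.comap (algebraMap S₁ L) Q := by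
    intro Q
    rw [Ideal.comap_comap, hψ]
  refine ⟨?_, ?_, ?_⟩
  · intro P hP
    rw [h2] at hP
    obtain ⟨Q, hQ, rfl⟩ := hP
    rw [hc, h1]
    exact ⟨Q, hQ, rfl⟩
  · intro P hP P' hP' h
    rw [h2] at hP hP'
    obtain ⟨Q, hQ, rfl⟩ := hP
    obtain ⟨Q', hQ', rfl⟩ := hP'
    simp only [hc] at h
    rw [comap_injective_of_isLocalization (L := L) M₁ h]
  · intro p hp
    rw [h1] at hp
    obtain ⟨Q, hQ, rfl⟩ := hp
    refine ⟨Ideal.comap (algebraMap T L) Q, ?_, hc Q⟩
    rw [h2]
    exact ⟨Q, hQ, rfl⟩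

theorem bijOn_comap_of_surjective (π : S →+* S₁) (hπ : Function.Surjective π)
    (hker : RingHom.ker π ≤ nilradical S) :
    Set.BijOn (Ideal.comap π) (minimalPrimes S₁) (minimalPrimes S) := by
  have h := Ideal.comap_minimalPrimes_eq_of_surjective hπ (⊥ : Ideal S₁)
  have hrad : (Ideal.comap π (⊥ : Ideal S₁)).radical = (⊥ : Ideal S).radical := by
    apply le_antisymm
    · rw [Ideal.radical_le_radical_iff]
      exact hker
    · exact Ideal.radical_mono bot_le
  have h3 : (Ideal.comap π (⊥ : Ideal S₁)).minimalPrimes = minimalPrimes S := by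
    rw [← Ideal.radical_minimalPrimes, hrad, Ideal.radical_minimalPrimes]
  rw [h3] at h
  refine ⟨?_, ?_, ?_⟩
  · intro P hP
    rw [h]
    exact ⟨P, hP, rfl⟩
  · intro P _ P' _ hPP'
    exact Ideal.comap_injective_of_surjective π hπ hPP'
  · intro p hp
    rw [h] at hp
    exact hp

end abstract

end Groth.Agent.Helper8.HensBij
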