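import Mathlib
import Groth.Prelude
import Groth.Agent.Lib.Helper8.HensBij1

/-!
# Minimal primes of `A' ⊗ S` and of `S`: the concrete statement
-/

set_option autoImplicit false

universe u

namespace Groth.Agent.Helper8.HensBij

open TensorProduct

section tensorLoc

variable (A : Type u) [CommRing A] (S : Type u) [CommRing S] [Algebra A S] [Module.Flat A S]
variable (B K : Type u) [CommRing B] [CommRing K] [Algebra A B] [Algebra A K] [Algebra B K]
  [IsScalarTower A B K]

/-- The algebra structure of `K ⊗ S` over `B ⊗ S`. -/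
noncomputable abbrev tensorAlg : Algebra (B ⊗[A] S) (K ⊗[A] S) :=
  (Algebra.TensorProduct.map (IsScalarTower.toAlgHom A B K) (AlgHom.id A S)).toRingHom.toAlgebra

theorem isLocalization_tensor (M : Submonoid B) [IsLocalization M K] :
    letI := tensorAlg A S B K
    IsLocalization (Algebra.algebraMapSubmonoid (B ⊗[A] S) M) (K ⊗[A] S) := by
  letI := tensorAlg A S B K
  haveI : IsScalarTower B (B ⊗[A] S) (K ⊗[A] S) := by
    apply IsScalarTower.of_algebraMap_eq
    intro b
    simp [RingHom.algebraMap_toAlgebra, Algebra.TensorProduct.algebraMap_apply]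
  refine IsLocalization.tensorProduct_tensorProduct A S M K ?_
  ext s
  simp [RingHom.algebraMap_toAlgebra]

include A in
theorem algebraMapSubmonoid_le (M : Submonoid B) (hM : M ≤ nonZeroDivisors B) :
    Algebra.algebraMapSubmonoid (B ⊗[A] S) M ≤ nonZeroDivisors (B ⊗[A] S) := by
  rintro _ ⟨b, hb, rfl⟩
  have hb' := hM hb
  have hinj0 : Function.Injective (LinearMap.mulLeft A b) := by
    intro x y hxy
    simp only [LinearMap.mulLeft_apply] at hxy
    exact mul_cancel_left_mem_nonZeroDivisors hb' |>.mp hxy
  have hinj : Function.Injective ((LinearMap.mulLeft A b).rTensor S) :=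
    Module.Flat.rTensor_preserves_injective_linearMap _ hinj0
  have key : ∀ x : B ⊗[A] S, (LinearMap.mulLeft A b).rTensor S x =
      algebraMap B (B ⊗[A] S) b * x := by
    intro x
    induction x using TensorProduct.induction_on with
    | zero => simp
    | tmul c s => simp [Algebra.TensorProduct.algebraMap_apply]
    | add x y hx hy => rw [map_add, mul_add, hx, hy]
  rw [mem_nonZeroDivisors_iff_right]
  intro x hx
  apply hinj
  rw [map_zero, key, mul_comm]
  exact hx

end tensorLoc

section subalg

variable {R K : Type u} [CommRing R] [CommRing K] [Algebra R K] (M : Submonoid R)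
  [IsLocalization M K] (C : Subalgebra R K)

theorem isLocalization_subalgebra :
    IsLocalization (Algebra.algebraMapSubmonoid C M) K := by
  refine ⟨?_, ?_, ?_⟩
  · rintro ⟨_, ⟨m, hm, rfl⟩⟩
    have := IsLocalization.map_units K (⟨m, hm⟩ : M)
    simpa [← IsScalarTower.algebraMap_apply] using this
  · intro z
    obtain ⟨⟨r, m⟩, h⟩ := IsLocalization.surj M z
    refine ⟨⟨algebraMap R C r, ⟨algebraMap R C m, ⟨m, m.2, rfl⟩⟩⟩, ?_⟩
    simpa [← IsScalarTower.algebraMap_apply] using h
  · intro x y h
    refine ⟨1, ?_⟩
    have : x = y := Subtype.ext h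
    rw [this]

theorem algebraMapSubmonoid_subalgebra_le (hM : M ≤ nonZeroDivisors R) :
    Algebra.algebraMapSubmonoid C M ≤ nonZeroDivisors C := by
  rintro _ ⟨m, hm, rfl⟩
  rw [mem_nonZeroDivisors_iff_right]
  intro x hx
  have hu : IsUnit (algebraMap R K m) := IsLocalization.map_units K (⟨m, hm⟩ : M)
  have h1 : (x : K) * algebraMap R K m = 0 := by
    have := congrArg (Subtype.val) hx
    simpa using this
  have h2 : (x : K) = 0 := by
    rwa [hu.mul_left_eq_zero] at h1
  exact Subtype.ext h2

end subalg

end Groth.Agent.Helper8.HensBij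

namespace Groth.Agent.Helper8.HensBij

open TensorProduct

section main

variable (A : Type u) [CommRing A] (S : Type u) [CommRing S] [Algebra A S] [Module.Flat A S]

theorem ker_includeRight_red :
    RingHom.ker (Algebra.TensorProduct.includeRight.toRingHom : S →+* (CAlg2.red A) ⊗[A] S) =
      (nilradical A).map (algebraMap A S) := by
  have h : (Algebra.TensorProduct.includeRight.toRingHom : S →+* (CAlg2.red A) ⊗[A] S) =
      ((Algebra.TensorProduct.quotIdealMapEquivQuotTensor S (nilradical A)).toRingEquiv.toRingHom).comp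
        (Ideal.Quotient.mk ((nilradical A).map (algebraMap A S))) := by
    ext s
    rfl
  rw [h, ← RingHom.comap_ker]
  have : RingHom.ker ((Algebra.TensorProduct.quotIdealMapEquivQuotTensor S
      (nilradical A)).toRingEquiv.toRingHom) = ⊥ :=
    (RingHom.injective_iff_ker_eq_bot _).mp (RingEquiv.injective _)
  rw [this, ← RingHom.ker_eq_comap_bot, Ideal.mk_ker]

theorem includeRight_red_surjective :
    Function.Surjective
      (Algebra.TensorProduct.includeRight.toRingHom : S →+* (CAlg2.red A) ⊗[A] S) := by
  intro z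
  induction z using TensorProduct.induction_on with
  | zero => exact ⟨0, map_zero _⟩
  | tmul r s =>
    obtain ⟨a, rfl⟩ := Ideal.Quotient.mk_surjective r
    refine ⟨a • s, ?_⟩
    show (1 : CAlg2.red A) ⊗ₜ[A] (a • s) = _
    rw [TensorProduct.tmul_smul, TensorProduct.smul_tmul', Algebra.smul_def, mul_one]
    rfl
  | add x y hx hy =>
    obtain ⟨x', rfl⟩ := hx
    obtain ⟨y', rfl⟩ := hy
    exact ⟨x' + y', map_add _ _ _⟩

/-- Contraction along `S → A' ⊗ S` is a bijection on minimal primes, for `S` flat over `A` with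
`nil(A) S` nil. -/
theorem bijOn_comap_includeRight
    (hnil : (nilradical A).map (algebraMap A S) ≤ nilradical S) :
    Set.BijOn (fun P : Ideal ((CAlg2.normRed A) ⊗[A] S) =>
        P.comap (Algebra.TensorProduct.includeRight.toRingHom :
          S →+* (CAlg2.normRed A) ⊗[A] S))
      (minimalPrimes ((CAlg2.normRed A) ⊗[A] S)) (minimalPrimes S) := by
  letI a1 := tensorAlg A S (CAlg2.red A) (FractionRing (CAlg2.red A))
  letI a2 := tensorAlg A S (CAlg2.normRed A) (FractionRing (CAlg2.red A))
  haveI l1 := isLocalization_tensor A S (CAlg2.red A) (FractionRing (CAlg2.red A))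
    (nonZeroDivisors (CAlg2.red A))
  haveI l0 : IsLocalization (Algebra.algebraMapSubmonoid (CAlg2.normRed A)
      (nonZeroDivisors (CAlg2.red A))) (FractionRing (CAlg2.red A)) :=
    isLocalization_subalgebra (nonZeroDivisors (CAlg2.red A))
      (integralClosure (CAlg2.red A) (FractionRing (CAlg2.red A)))
  haveI l2 := isLocalization_tensor A S (CAlg2.normRed A) (FractionRing (CAlg2.red A))
    (Algebra.algebraMapSubmonoid (CAlg2.normRed A) (nonZeroDivisors (CAlg2.red A)))
  have hM1 := algebraMapSubmonoid_le A S (CAlg2.red A) (nonZeroDivisors (CAlg2.red A)) le_rfl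
  have hM2 := algebraMapSubmonoid_le A S (CAlg2.normRed A)
    (Algebra.algebraMapSubmonoid (CAlg2.normRed A) (nonZeroDivisors (CAlg2.red A)))
    (algebraMapSubmonoid_subalgebra_le (nonZeroDivisors (CAlg2.red A))
      (integralClosure (CAlg2.red A) (FractionRing (CAlg2.red A))) le_rfl)
  let ψ : (CAlg2.red A) ⊗[A] S →+* (CAlg2.normRed A) ⊗[A] S :=
    (Algebra.TensorProduct.map (IsScalarTower.toAlgHom A (CAlg2.red A) (CAlg2.normRed A))
      (AlgHom.id A S)).toRingHom
  have hψ : (algebraMap ((CAlg2.normRed A) ⊗[A] S) ((FractionRing (CAlg2.red A)) ⊗[A] S)).comp ψ =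
      algebraMap ((CAlg2.red A) ⊗[A] S) ((FractionRing (CAlg2.red A)) ⊗[A] S) := by
    have h : (Algebra.TensorProduct.map
        (IsScalarTower.toAlgHom A (CAlg2.normRed A) (FractionRing (CAlg2.red A)))
        (AlgHom.id A S)).comp (Algebra.TensorProduct.map
          (IsScalarTower.toAlgHom A (CAlg2.red A) (CAlg2.normRed A)) (AlgHom.id A S)) =
        Algebra.TensorProduct.map
          (IsScalarTower.toAlgHom A (CAlg2.red A) (FractionRing (CAlg2.red A)))
          (AlgHom.id A S) := by
      apply Algebra.TensorProduct.ext'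
      intro r s
      simp
    exact congrArg AlgHom.toRingHom h
  have b1 := bijOn_comap_of_isLocalization (L := (FractionRing (CAlg2.red A)) ⊗[A] S) ψ hψ
    _ hM1 _ hM2
  have b2 := bijOn_comap_of_surjective
    (Algebra.TensorProduct.includeRight.toRingHom : S →+* (CAlg2.red A) ⊗[A] S)
    (includeRight_red_surjective A S) (by rw [ker_includeRight_red]; exact hnil)
  have b3 := b2.comp b1
  have hcomp : ψ.comp (Algebra.TensorProduct.includeRight.toRingHom :
      S →+* (CAlg2.red A) ⊗[A] S) =
      (Algebra.TensorProduct.includeRight.toRingHom : S →+* (CAlg2.normRed A) ⊗[A] S) := by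
    ext s
    simp [ψ]
  refine b3.congr ?_
  intro P _
  show Ideal.comap _ (Ideal.comap ψ P) = _
  rw [Ideal.comap_comap, hcomp]

end main

end Groth.Agent.Helper8.HensBij
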