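import Mathlib
import Groth.Prelude
import Groth.Agent.Lib.Helper7.SHens.BaseChange
import Groth.Agent.Lib.Helper7.SHens.Normal
import Groth.Agent.S0066

/-!
# The base change of the ind-étale model to a normal local domain: local implies domain
-/

set_option autoImplicit false

universe u

namespace Groth.Agent.Helper8.HensGU

open TensorProduct IsLocalRing Groth.Agent.Helper7.SHens

section domain

variable {A : Type u} [CommRing A] {Ω : Type u} [CommRing Ω] [Algebra A Ω]
  (B : Type u) [CommRing B] [Algebra A B] [IsLocalRing B] [IsDomain B] [IsIntegrallyClosed B]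

/-- Localizations of the stages of the base change at primes are domains. -/
theorem isDomain_localization_stage (V : Nbhd A Ω) (Q : Ideal (B ⊗[A] V.Ring)) [Q.IsPrime] :
    IsDomain (Localization.AtPrime Q) := by
  have h1 : IsLocalization.AtPrime B (IsLocalRing.maximalIdeal B) :=
    isLocalization_atPrime_maximalIdeal
  have h2 : Module.Flat B (Localization.AtPrime Q) :=
    Module.Flat.trans B (B ⊗[A] V.Ring) (Localization.AtPrime Q)
  exact (Groth.Agent.S0066.normal_of_etale (A₀ := B) (B₀ := B ⊗[A] V.Ring) (A := B)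
    (B := Localization.AtPrime Q) (IsLocalRing.maximalIdeal B) Q).1

theorem exists_rep_tensor₂ (x y : B ⊗[A] G A Ω) :
    ∃ (U : Nbhd A Ω) (a b : B ⊗[A] U.Ring), tι B U a = x ∧ tι B U b = y := by
  obtain ⟨U, a, rfl⟩ := exists_rep_tensor B x
  obtain ⟨U', b, rfl⟩ := exists_rep_tensor B y
  obtain ⟨Z, f, g, -⟩ := Nbhd.exists_cocone_objs U U'
  exact ⟨Z, tmap B f a, tmap B g b, tι_tmap B f a, tι_tmap B g b⟩

/-- If the base change of the model to a normal local domain is local, it is a domain. -/
theorem isDomain_tensor_G [IsLocalRing (B ⊗[A] G A Ω)] : IsDomain (B ⊗[A] G A Ω) := by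
  rw [isDomain_iff_noZeroDivisors_and_nontrivial]
  refine ⟨⟨?_⟩, inferInstance⟩
  intro x y hxy
  obtain ⟨U, a₀, b₀, rfl, rfl⟩ := exists_rep_tensor₂ B x y
  have h0 : tι B U (a₀ * b₀) = 0 := by rw [map_mul, hxy]
  obtain ⟨V, f, hf⟩ := exists_tmap_eq_zero B (a₀ * b₀) h0
  rw [map_mul] at hf
  rw [← tι_tmap B f a₀, ← tι_tmap B f b₀]
  set a := tmap B f a₀
  set b := tmap B f b₀
  let Q : Ideal (B ⊗[A] V.Ring) :=
    (maximalIdeal (B ⊗[A] G A Ω)).comap (tι B V).toRingHom
  haveI : Q.IsPrime := Ideal.IsPrime.comap _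
  haveI := isDomain_localization_stage B V Q
  have key : ∀ c : B ⊗[A] V.Ring, algebraMap _ (Localization.AtPrime Q) c = 0 →
      tι B V c = 0 := by
    intro c hc
    obtain ⟨⟨s, hs⟩, hsc⟩ := (IsLocalization.map_eq_zero_iff Q.primeCompl _ c).mp hc
    have hu : IsUnit (tι B V s) := by
      by_contra hnu
      exact hs ((IsLocalRing.mem_maximalIdeal _).mpr hnu)
    have h3 : tι B V s * tι B V c = 0 := by rw [← map_mul, hsc, map_zero]
    exact (hu.mul_right_eq_zero).mp h3
  have h4 : algebraMap _ (Localization.AtPrime Q) a * algebraMap _ (Localization.AtPrime Q) b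
      = 0 := by rw [← map_mul, hf, map_zero]
  rcases mul_eq_zero.mp h4 with h5 | h5
  · exact Or.inl (key a h5)
  · exact Or.inr (key b h5)

end domain

end Groth.Agent.Helper8.HensGU
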