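import Mathlib
import Groth.Prelude
import Groth.Agent.Lib.Helper7.Hensel.IntegralDomain

/-!
# Base change of an integral local algebra with purely inseparable residue extension is local
-/

set_option autoImplicit false

universe u

namespace Groth.Agent.Helper8.HensGU

open TensorProduct IsLocalRing

section integral

variable (R S C : Type u) [CommRing R] [CommRing S] [CommRing C] [Algebra R S] [Algebra R C]

attribute [local instance] Algebra.TensorProduct.rightAlgebra in
/-- The base change of an integral algebra is integral (right algebra structure). -/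
theorem isIntegral_rightAlgebra [Algebra.IsIntegral R C] : Algebra.IsIntegral S (C ⊗[R] S) :=
  Algebra.IsIntegral.of_surjective (Algebra.TensorProduct.commRight R S C).toAlgHom
    (Algebra.TensorProduct.commRight R S C).surjective

end integral

section uniquePrime

variable (A : Type u) [CommRing A] (k' kS : Type u) [Field k'] [Field kS] [Algebra A k']
  [Algebra A kS]

/-- If every element of `k'` has a `q^n`-th power in the image of `A`, then every element of
`k' ⊗ kS` has a positive power in the image of `kS`. -/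
theorem exists_pow_mem_range_includeRight
    (hpi : ∀ x : k', ∃ n : ℕ, x ^ (ringExpChar k') ^ n ∈ (algebraMap A k').range)
    (x : k' ⊗[A] kS) :
    ∃ n > 0, x ^ n ∈ (Algebra.TensorProduct.includeRight : kS →ₐ[A] k' ⊗[A] kS).toRingHom.range := by
  rcases subsingleton_or_nontrivial (k' ⊗[A] kS) with hs | hnt
  · exact ⟨1, one_pos, ⟨0, Subsingleton.elim _ _⟩⟩
  set q := ringExpChar k' with hq
  haveI : ExpChar k' q := ringExpChar.expChar k'
  haveI : ExpChar (k' ⊗[A] kS) q :=
    expChar_of_injective_ringHom (algebraMap k' (k' ⊗[A] kS)).injective q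
  have hqpos : 0 < q := by
    rcases expChar_is_prime_or_one k' q with h | h
    · exact h.pos
    · rw [h]; exact one_pos
  suffices h : ∃ n : ℕ, x ^ q ^ n ∈
      (Algebra.TensorProduct.includeRight : kS →ₐ[A] k' ⊗[A] kS).toRingHom.range by
    obtain ⟨n, hn⟩ := h
    exact ⟨q ^ n, pow_pos hqpos n, hn⟩
  induction x using TensorProduct.induction_on with
  | zero => exact ⟨0, 0, by simp⟩
  | tmul a c =>
    obtain ⟨n, α, hα⟩ := hpi a
    refine ⟨n, α • c ^ q ^ n, ?_⟩
    show (1 : k') ⊗ₜ[A] (α • c ^ q ^ n) = (a ⊗ₜ[A] c) ^ q ^ n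
    rw [Algebra.TensorProduct.tmul_pow, ← hα, TensorProduct.tmul_smul, TensorProduct.smul_tmul',
      Algebra.smul_def, mul_one]
  | add x y hx hy =>
    obtain ⟨n, u, hu⟩ := hx
    obtain ⟨m, v, hv⟩ := hy
    refine ⟨n + m, u ^ q ^ m + v ^ q ^ n, ?_⟩
    rw [add_pow_expChar_pow, map_add, map_pow, map_pow, hu, hv, ← pow_mul, ← pow_mul,
      ← pow_add, ← pow_add, add_comm m n]

/-- Under the same hypothesis `k' ⊗ kS` has at most one prime ideal. -/
theorem prime_unique_of_pow_mem
    (hpi : ∀ x : k', ∃ n : ℕ, x ^ (ringExpChar k') ^ n ∈ (algebraMap A k').range)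
    (P P' : Ideal (k' ⊗[A] kS)) [hP : P.IsPrime] [hP' : P'.IsPrime] : P = P' := by
  let g : kS →+* k' ⊗[A] kS :=
    (Algebra.TensorProduct.includeRight : kS →ₐ[A] k' ⊗[A] kS).toRingHom
  have hbot : ∀ Q : Ideal (k' ⊗[A] kS), Q.IsPrime → Q.comap g = ⊥ := by
    intro Q hQ
    rcases Ideal.eq_bot_or_top (Q.comap g) with h | h
    · exact h
    · exact absurd h (Ideal.IsPrime.comap g).ne_top
  ext x
  obtain ⟨n, hn, y, hy⟩ := exists_pow_mem_range_includeRight A k' kS hpi x
  have h1 : y ∈ P.comap g ↔ y ∈ P'.comap g := by rw [hbot P hP, hbot P' hP']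
  rw [← hP.pow_mem_iff_mem _ hn, ← hP'.pow_mem_iff_mem _ hn, ← hy]
  exact h1

end uniquePrime

section localL

variable (A B S : Type u) [CommRing A] [IsLocalRing A] [CommRing B] [IsLocalRing B]
  [Algebra A B] [IsLocalHom (algebraMap A B)] [Algebra.IsIntegral A B]
  [CommRing S] [IsLocalRing S] [Algebra A S] [IsLocalHom (algebraMap A S)]

/-- The tensor product of the residue maps. -/
noncomputable def rho : B ⊗[A] S →ₐ[A] (B ⧸ maximalIdeal B) ⊗[A] (S ⧸ maximalIdeal S) :=
  Algebra.TensorProduct.map (Ideal.Quotient.mkₐ A (maximalIdeal B))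
    (Ideal.Quotient.mkₐ A (maximalIdeal S))

theorem rho_surjective : Function.Surjective (rho A B S) :=
  Algebra.TensorProduct.map_surjective _ _ (Ideal.Quotient.mkₐ_surjective A _)
    (Ideal.Quotient.mkₐ_surjective A _)

theorem ker_rho : RingHom.ker (rho A B S) =
    (maximalIdeal B).map (Algebra.TensorProduct.includeLeft : B →ₐ[A] B ⊗[A] S) ⊔
      (maximalIdeal S).map (Algebra.TensorProduct.includeRight : S →ₐ[A] B ⊗[A] S) := by
  have h := Algebra.TensorProduct.map_ker (Ideal.Quotient.mkₐ A (maximalIdeal B))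
    (Ideal.Quotient.mkₐ A (maximalIdeal S)) (Ideal.Quotient.mkₐ_surjective A _)
    (Ideal.Quotient.mkₐ_surjective A _)
  have e1 : RingHom.ker (Ideal.Quotient.mkₐ A (maximalIdeal B)) = maximalIdeal B := by
    ext x
    simp [RingHom.mem_ker, Ideal.Quotient.eq_zero_iff_mem]
  have e2 : RingHom.ker (Ideal.Quotient.mkₐ A (maximalIdeal S)) = maximalIdeal S := by
    ext x
    simp [RingHom.mem_ker, Ideal.Quotient.eq_zero_iff_mem]
  rw [e1, e2] at h
  exact h

attribute [local instance] Algebra.TensorProduct.rightAlgebra in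
/-- Every maximal ideal of `B ⊗ S` contains the kernel of `rho`. -/
theorem ker_rho_le (M : Ideal (B ⊗[A] S)) [hM : M.IsMaximal] : RingHom.ker (rho A B S) ≤ M := by
  haveI : Algebra.IsIntegral S (B ⊗[A] S) := isIntegral_rightAlgebra A S B
  have h1 : (maximalIdeal S).map (algebraMap S (B ⊗[A] S)) ≤ M := by
    rw [Ideal.map_le_iff_le_comap]
    haveI : (M.comap (algebraMap S (B ⊗[A] S))).IsMaximal :=
      Ideal.isMaximal_comap_of_isIntegral_of_isMaximal M
    rw [IsLocalRing.eq_maximalIdeal (I := M.comap (algebraMap S (B ⊗[A] S))) inferInstance]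
  have h1' : (maximalIdeal S).map
      (Algebra.TensorProduct.includeRight : S →ₐ[A] B ⊗[A] S) ≤ M := h1
  rw [ker_rho]
  refine sup_le ?_ h1'
  rw [Ideal.map_le_iff_le_comap]
  intro x hx
  rw [Ideal.mem_comap]
  obtain ⟨n, hn⟩ := Groth.Agent.Helper7.Hensel.pow_mem_map_maximalIdeal_of_mem_maximalIdeal
    (A := A) x hx
  have h2 : ((maximalIdeal A).map (algebraMap A B)).map
      (Algebra.TensorProduct.includeLeft : B →ₐ[A] B ⊗[A] S) ≤ M := by
    have h3 : ((maximalIdeal A).map (algebraMap A B)).map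
        (Algebra.TensorProduct.includeLeft : B →ₐ[A] B ⊗[A] S) =
        ((maximalIdeal A).map (algebraMap A S)).map
          (Algebra.TensorProduct.includeRight : S →ₐ[A] B ⊗[A] S) := by
      show Ideal.map (Algebra.TensorProduct.includeLeft : B →ₐ[A] B ⊗[A] S).toRingHom _ =
        Ideal.map (Algebra.TensorProduct.includeRight : S →ₐ[A] B ⊗[A] S).toRingHom _
      rw [Ideal.map_map, Ideal.map_map]
      congr 1
      ext a
      simp [Algebra.algebraMap_eq_smul_one]
    rw [h3]
    refine le_trans (Ideal.map_mono ?_) h1'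
    exact IsLocalRing.map_maximalIdeal_le (algebraMap A S)
  have h4 : (Algebra.TensorProduct.includeLeft : B →ₐ[A] B ⊗[A] S) x ^ n ∈ M := by
    rw [← map_pow]
    exact h2 (Ideal.mem_map_of_mem _ hn)
  exact hM.isPrime.mem_of_pow_mem n h4

/-- **Lemma L**: the base change of an integral local algebra with purely inseparable residue
field extension to any local algebra is local. -/
theorem isLocalRing_tensor_of_pow_mem [Nontrivial (B ⊗[A] S)]
    (hpi : ∀ x : B ⧸ maximalIdeal B, ∃ n : ℕ,
      x ^ (ringExpChar (B ⧸ maximalIdeal B)) ^ n ∈ (algebraMap A (B ⧸ maximalIdeal B)).range) :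
    IsLocalRing (B ⊗[A] S) := by
  letI : Field (B ⧸ maximalIdeal B) := Ideal.Quotient.field _
  letI : Field (S ⧸ maximalIdeal S) := Ideal.Quotient.field _
  obtain ⟨M, hM⟩ := Ideal.exists_maximal (B ⊗[A] S)
  apply IsLocalRing.of_unique_max_ideal
  refine ⟨M, hM, fun M' hM' => ?_⟩
  have hk := ker_rho_le A B S M
  have hk' := ker_rho_le A B S M'
  have hsurj := rho_surjective A B S
  haveI p1 : (M.map (rho A B S)).IsPrime :=
    Ideal.map_isPrime_of_surjective (f := rho A B S) hsurj hk
  haveI p2 : (M'.map (rho A B S)).IsPrime :=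
    Ideal.map_isPrime_of_surjective (f := rho A B S) hsurj hk'
  have heq : M.map (rho A B S) = M'.map (rho A B S) :=
    prime_unique_of_pow_mem A (B ⧸ maximalIdeal B) (S ⧸ maximalIdeal S) hpi _ _
  have e1 : (M.map (rho A B S)).comap (rho A B S) = M := by
    rw [Ideal.comap_map_of_surjective (rho A B S) hsurj, ← RingHom.ker_eq_comap_bot]
    exact sup_eq_left.mpr hk
  have e2 : (M'.map (rho A B S)).comap (rho A B S) = M' := by
    rw [Ideal.comap_map_of_surjective (rho A B S) hsurj, ← RingHom.ker_eq_comap_bot]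
    exact sup_eq_left.mpr hk'
  rw [← e1, ← e2, heq]

end localL

end Groth.Agent.Helper8.HensGU
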