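import Mathlib
import Groth.Prelude
import Groth.Agent.Lib.Helper8.HensGU2

/-!
# If `k' ⊗ Ω` is local for a separably closed `Ω`, then `k'/k` is purely inseparable
-/

set_option autoImplicit false

universe u

namespace Groth.Agent.Helper8.HensGU

open TensorProduct IsLocalRing Polynomial

section fields

variable (A : Type u) [CommRing A] (k k' Ω : Type u) [Field k] [Field k'] [Field Ω]
  [Algebra A k] [Algebra A k'] [Algebra A Ω] [Algebra k k'] [Algebra k Ω]
  [IsScalarTower A k k'] [IsScalarTower A k Ω]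

/-- The ring map `k' ⊗ Ω → Ω̄` attached to an embedding of `k'`. -/
noncomputable def embHom (ψ : k' →ₐ[k] AlgebraicClosure Ω) :
    k' ⊗[A] Ω →ₐ[A] AlgebraicClosure Ω :=
  Algebra.TensorProduct.lift (ψ.restrictScalars A) (IsScalarTower.toAlgHom A Ω (AlgebraicClosure Ω))
    (fun _ _ => Commute.all _ _)

theorem embHom_tmul (ψ : k' →ₐ[k] AlgebraicClosure Ω) (a : k') (c : Ω) :
    embHom A k k' Ω ψ (a ⊗ₜ c) = ψ a * algebraMap Ω (AlgebraicClosure Ω) c := by
  simp [embHom]

attribute [local instance] Algebra.TensorProduct.rightAlgebra in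
theorem ker_embHom_eq [Algebra.IsIntegral A k'] [IsLocalRing (k' ⊗[A] Ω)]
    (ψ : k' →ₐ[k] AlgebraicClosure Ω) :
    RingHom.ker (embHom A k k' Ω ψ) = maximalIdeal (k' ⊗[A] Ω) := by
  haveI : Algebra.IsIntegral Ω (k' ⊗[A] Ω) := isIntegral_rightAlgebra A Ω k'
  haveI hp : (RingHom.ker (embHom A k k' Ω ψ)).IsPrime := RingHom.ker_isPrime _
  haveI : (Ideal.comap (algebraMap Ω (k' ⊗[A] Ω)) (RingHom.ker (embHom A k k' Ω ψ))).IsMaximal := by
    have : Ideal.comap (algebraMap Ω (k' ⊗[A] Ω)) (RingHom.ker (embHom A k k' Ω ψ)) = ⊥ := by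
      rcases Ideal.eq_bot_or_top (Ideal.comap (algebraMap Ω (k' ⊗[A] Ω))
        (RingHom.ker (embHom A k k' Ω ψ))) with h | h
      · exact h
      · exact absurd h (Ideal.IsPrime.comap _).ne_top
    rw [this]
    exact Ideal.bot_isMaximal
  have hmax : (RingHom.ker (embHom A k k' Ω ψ)).IsMaximal :=
    Ideal.isMaximal_of_isIntegral_of_isMaximal_comap (R := Ω) _ inferInstance
  exact IsLocalRing.eq_maximalIdeal hmax

variable [Algebra.IsAlgebraic k k'] [IsSepClosed Ω]

theorem emb_apply_eq_of_isSeparable [Algebra.IsIntegral A k'] [IsLocalRing (k' ⊗[A] Ω)]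
    (y : k') (hy : IsSeparable k y) (ψ₁ ψ₂ : k' →ₐ[k] AlgebraicClosure Ω) : ψ₁ y = ψ₂ y := by
  -- `ψ₁ y` is separable over `Ω`, hence lies in `Ω`
  have hsep1 : IsSeparable k (ψ₁ y) := by
    rw [IsSeparable, minpoly.algHom_eq ψ₁ ψ₁.toRingHom.injective]
    exact hy
  have hsep2 : IsSeparable Ω (ψ₁ y) := IsSeparable.tower_top Ω hsep1
  have hint : IsIntegral Ω (ψ₁ y) := hsep2.isIntegral
  have hdeg : (minpoly Ω (ψ₁ y)).degree = 1 :=
    IsSepClosed.degree_eq_one_of_irreducible Ω (minpoly.irreducible hint) hsep2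
  obtain ⟨c, hc⟩ := minpoly.mem_range_of_degree_eq_one Ω (ψ₁ y) hdeg
  -- the element `y ⊗ 1 - 1 ⊗ c`
  have hz1 : (y ⊗ₜ[A] (1 : Ω) - (1 : k') ⊗ₜ[A] c) ∈ RingHom.ker (embHom A k k' Ω ψ₁) := by
    rw [RingHom.mem_ker, map_sub, embHom_tmul, embHom_tmul, map_one, map_one, mul_one, one_mul,
      hc, sub_self]
  rw [ker_embHom_eq A k k' Ω ψ₁, ← ker_embHom_eq A k k' Ω ψ₂, RingHom.mem_ker, map_sub,
    embHom_tmul, embHom_tmul, map_one, map_one, mul_one, one_mul, sub_eq_zero] at hz1
  rw [hz1, hc]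

/-- **Necessity**: if `k' ⊗ Ω` is local with `Ω` separably closed, then `k'/k` is purely
inseparable. -/
theorem isPurelyInseparable_of_isLocalRing_tensor [Algebra.IsIntegral A k']
    [IsLocalRing (k' ⊗[A] Ω)] : IsPurelyInseparable k k' := by
  refine ⟨inferInstance, fun y hy => ?_⟩
  have hsplit : ∀ x : k', ((minpoly k x).map (algebraMap k (AlgebraicClosure Ω))).Splits :=
    fun x => IsAlgClosed.splits _
  have hrange := Algebra.IsAlgebraic.range_eval_eq_rootSet_minpoly_of_splits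
    (AlgebraicClosure Ω) hsplit y
  have hsub : ((minpoly k y).rootSet (AlgebraicClosure Ω)).Subsingleton := by
    rw [← hrange]
    rintro _ ⟨ψ₁, rfl⟩ _ ⟨ψ₂, rfl⟩
    exact emb_apply_eq_of_isSeparable A k k' Ω y hy ψ₁ ψ₂
  have hcard : Fintype.card ((minpoly k y).rootSet (AlgebraicClosure Ω)) =
      (minpoly k y).natDegree := card_rootSet_eq_natDegree hy (hsplit y)
  have hle : (minpoly k y).natDegree ≤ 1 := by
    rw [← hcard]
    haveI := hsub.coe_sort
    exact Fintype.card_le_one_iff_subsingleton.mpr inferInstance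
  have hint : IsIntegral k y := Algebra.IsIntegral.isIntegral y
  have hpos : 0 < (minpoly k y).natDegree := minpoly.natDegree_pos hint
  have hdeg : (minpoly k y).degree = 1 := by
    rw [degree_eq_natDegree (minpoly.ne_zero hint)]
    have : (minpoly k y).natDegree = 1 := le_antisymm hle hpos
    rw [this]
    rfl
  exact minpoly.mem_range_of_degree_eq_one k y hdeg

end fields

end Groth.Agent.Helper8.HensGU
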