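import Mathlib
import Groth.Prelude
import Groth.Agent.Lib.Helper8.EssFT1
import Groth.Agent.Lib.Helper8.GRing9

/-!
# Cohen–Macaulay formal fibres for local rings essentially of finite type
-/

set_option autoImplicit false

universe u

namespace Groth.Agent.Helper8.EssFT

open IsLocalRing TensorProduct LocCoh

section cm

variable (A B A' : Type u) [CommRing A] [CommRing B] [CommRing A'] [IsNoetherianRing B]
  [IsLocalRing B] [Algebra A B] [Algebra A A'] [Module.FaithfullyFlat A A']
  [Algebra.EssFiniteType A B] [IsNoetherianRing A']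

omit [IsNoetherianRing B] [Module.FaithfullyFlat A A'] [Algebra.EssFiniteType A B]
  [IsNoetherianRing A'] in
/-- The local model is local over `B`. -/
theorem isLocalHom_model (n' : Ideal (B ⊗[A] A')) [n'.IsPrime]
    (hn' : n'.comap (algebraMap B (B ⊗[A] A')) = maximalIdeal B) :
    IsLocalHom (algebraMap B (Localization.AtPrime n')) := by
  have htfae := IsLocalRing.local_hom_TFAE (algebraMap B (Localization.AtPrime n'))
  apply (htfae.out 0 2).mpr
  rw [Ideal.map_le_iff_le_comap]
  intro b hb
  show algebraMap B (Localization.AtPrime n') b ∈ maximalIdeal (Localization.AtPrime n')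
  rw [IsScalarTower.algebraMap_apply B (B ⊗[A] A') (Localization.AtPrime n'),
    IsLocalization.AtPrime.to_map_mem_maximal_iff (Localization.AtPrime n') n']
  have : b ∈ n'.comap (algebraMap B (B ⊗[A] A')) := by rw [hn']; exact hb
  exact this

theorem hasCMFormalFibres_of_essFiniteType_aux (hA' : CAlg.IsGRing A')
    (hfib : ∀ (p : Ideal A) [p.IsPrime], IsCohenMacaulayRing (p.Fiber A')) :
    EGA4.HasCMFormalFibres B := by
  obtain ⟨n', hn', hn'B⟩ := exists_prime_over_maximalIdeal A B A'
  haveI := hn'
  have hG := isGRing_tensor A B A' hA'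
  haveI : IsNoetherianRing (B ⊗[A] A') := hG.1
  haveI : IsNoetherianRing (Localization.AtPrime n') :=
    IsLocalization.isNoetherianRing n'.primeCompl _ inferInstance
  haveI : Module.Flat (B ⊗[A] A') (Localization.AtPrime n') :=
    IsLocalization.flat _ n'.primeCompl
  haveI : Module.Flat B (Localization.AtPrime n') :=
    Module.Flat.trans B (B ⊗[A] A') (Localization.AtPrime n')
  haveI := isLocalHom_model A B A' n' hn'B
  refine Groth.Agent.Helper8.CplMap.hasCMFormalFibres_of_CM_hom_to_local B
    (Localization.AtPrime n') (fun q _ => ?_) (hG.2 n')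
  letI := Groth.Agent.Helper8.GRBase.resAlgebra A B q
  haveI := Groth.Agent.Helper8.GRBase.resAlgebra_isScalarTower A B q
  haveI : Algebra.EssFiniteType A q.ResidueField := Algebra.EssFiniteType.comp A B _
  haveI : Algebra.EssFiniteType (q.comap (algebraMap A B)).ResidueField q.ResidueField :=
    Algebra.EssFiniteType.of_comp A _ _
  haveI hN : IsNoetherianRing ((q.comap (algebraMap A B)).Fiber A') :=
    Groth.Agent.Helper8.Fib.isNoetherianRing_fiber _
  have h1 : IsCohenMacaulayRing (((q.comap (algebraMap A B)).Fiber A')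
      ⊗[(q.comap (algebraMap A B)).ResidueField] q.ResidueField) := by
    haveI hN2 : IsNoetherianRing (q.ResidueField ⊗[(q.comap (algebraMap A B)).ResidueField]
        ((q.comap (algebraMap A B)).Fiber A')) :=
      Groth.Agent.Helper8.GRBase.isNoetherianRing_tensor_of_essFiniteType _ _ _
    haveI : IsNoetherianRing (((q.comap (algebraMap A B)).Fiber A')
        ⊗[(q.comap (algebraMap A B)).ResidueField] q.ResidueField) :=
      isNoetherianRing_of_ringEquiv _ (Algebra.TensorProduct.comm _ _ _).toRingEquiv
    rw [Groth.Agent.Helper8.Fib.isCohenMacaulayRing_iff_forall_hasSk]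
    intro n
    exact Groth.Agent.Helper8.SkBase.hasSk_tensor_field _ _ _ (Or.inr inferInstance) n
      ((Groth.Agent.Helper8.Fib.isCohenMacaulayRing_iff_forall_hasSk _).1
        (hfib (q.comap (algebraMap A B))) n)
  have h2 : IsCohenMacaulayRing (q.ResidueField ⊗[(q.comap (algebraMap A B)).ResidueField]
      ((q.comap (algebraMap A B)).Fiber A')) :=
    Groth.Agent.Helper8.CplQuot.isCohenMacaulayRing_of_ringEquiv
      (Algebra.TensorProduct.comm _ _ _).toRingEquiv h1
  have h3 : IsCohenMacaulayRing (q.Fiber (B ⊗[A] A')) :=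
    Groth.Agent.Helper8.CplQuot.isCohenMacaulayRing_of_ringEquiv
      (Groth.Agent.Helper8.GRBase.fibreEquiv A A' B q).symm.toRingEquiv h2
  have h4 : IsCohenMacaulayRing ((B ⊗[A] A') ⊗[B] q.ResidueField) :=
    Groth.Agent.Helper8.CplQuot.isCohenMacaulayRing_of_ringEquiv
      (Algebra.TensorProduct.comm B q.ResidueField (B ⊗[A] A')).toRingEquiv h3
  haveI hloc : IsLocalization
      (Algebra.algebraMapSubmonoid ((B ⊗[A] A') ⊗[B] q.ResidueField) n'.primeCompl)
      (((B ⊗[A] A') ⊗[B] q.ResidueField) ⊗[B ⊗[A] A'] Localization.AtPrime n') :=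
    IsLocalization.tensor (Localization.AtPrime n') n'.primeCompl
  have h5 := isCohenMacaulayRing_of_isLocalization
    (Algebra.algebraMapSubmonoid ((B ⊗[A] A') ⊗[B] q.ResidueField) n'.primeCompl)
    (L := ((B ⊗[A] A') ⊗[B] q.ResidueField) ⊗[B ⊗[A] A'] Localization.AtPrime n') h4
  obtain ⟨e⟩ := Groth.Agent.Helper8.DescFib.nonempty_baseChange_equiv B (B ⊗[A] A')
    (Localization.AtPrime n') q.ResidueField
  exact Groth.Agent.Helper8.CplQuot.isCohenMacaulayRing_of_ringEquiv e h5

end cm

/-- **S2642.** -/
theorem hasCMFormalFibres_of_essFiniteType (A : Type u) [CommRing A] [IsNoetherianRing A]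
    [IsLocalRing A] (hA : EGA4.HasCMFormalFibres A) (B : Type u) [CommRing B]
    [IsNoetherianRing B] [IsLocalRing B] [Algebra A B] [Algebra.EssFiniteType A B] :
    EGA4.HasCMFormalFibres B := by
  haveI : IsNoetherianRing (EGA4.Cpl A) := Groth.Agent.Helper8.AdicReg.isNoetherianRing A _
  haveI : Module.FaithfullyFlat A (EGA4.Cpl A) := Module.FaithfullyFlat.of_flat_of_isLocalHom
  exact hasCMFormalFibres_of_essFiniteType_aux A B (EGA4.Cpl A)
    (Groth.Agent.Helper8.GRing.isGRing_of_isAdicComplete _) (fun p _ => hA p)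

end Groth.Agent.Helper8.EssFT
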