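import Mathlib
import Groth.Prelude
import Groth.Agent.Lib.Helper8.EssFT2
import Groth.Agent.Lib.Helper8.CompFib4
import Groth.Agent.S2536

/-!
# Geometrically reduced formal fibres for local rings essentially of finite type
-/

set_option autoImplicit false

universe u

namespace Groth.Agent.Helper8.EssFT

open IsLocalRing TensorProduct LocCoh

section fibres

variable (A B A' : Type u) [CommRing A] [CommRing B] [CommRing A'] [Algebra A B] [Algebra A A']

/-- Base change of a fibrewise ring property along `A → B`, followed by a localization: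
the generic transfer statement. -/
theorem fibre_property_model (P : ∀ (R : Type u) [CommRing R], Prop)
    (hiso : ∀ (R S : Type u) [CommRing R] [CommRing S], (R ≃+* S) → P R → P S)
    (hloc : ∀ (R S : Type u) [CommRing R] [CommRing S] [Algebra R S] (M : Submonoid R)
      [IsLocalization M S], P R → P S)
    (n' : Ideal (B ⊗[A] A')) [n'.IsPrime] (q : Ideal B) [q.IsPrime]
    (K : Type u) [Field K] [Algebra q.ResidueField K]
    (h : letI := Groth.Agent.Helper8.GRBase.resAlgebra A B q
      letI : Algebra (q.comap (algebraMap A B)).ResidueField K :=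
        ((algebraMap q.ResidueField K).comp
          (algebraMap (q.comap (algebraMap A B)).ResidueField q.ResidueField)).toAlgebra
      P (K ⊗[(q.comap (algebraMap A B)).ResidueField] (q.comap (algebraMap A B)).Fiber A')) :
    P (K ⊗[q.ResidueField] q.Fiber (Localization.AtPrime n')) := by
  letI := Groth.Agent.Helper8.GRBase.resAlgebra A B q
  haveI := Groth.Agent.Helper8.GRBase.resAlgebra_isScalarTower A B q
  letI : Algebra (q.comap (algebraMap A B)).ResidueField K :=
    ((algebraMap q.ResidueField K).comp
      (algebraMap (q.comap (algebraMap A B)).ResidueField q.ResidueField)).toAlgebra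
  haveI : IsScalarTower (q.comap (algebraMap A B)).ResidueField q.ResidueField K :=
    IsScalarTower.of_algebraMap_eq fun _ => rfl
  letI : Algebra B K := ((algebraMap q.ResidueField K).comp (algebraMap B q.ResidueField)).toAlgebra
  haveI : IsScalarTower B q.ResidueField K := IsScalarTower.of_algebraMap_eq fun _ => rfl
  letI : Algebra A K := ((algebraMap B K).comp (algebraMap A B)).toAlgebra
  haveI : IsScalarTower A B K := IsScalarTower.of_algebraMap_eq fun _ => rfl
  haveI : IsScalarTower A (q.comap (algebraMap A B)).ResidueField K := by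
    refine IsScalarTower.of_algebraMap_eq fun a => ?_
    show algebraMap q.ResidueField K (algebraMap B q.ResidueField (algebraMap A B a)) =
      algebraMap q.ResidueField K
        (algebraMap (q.comap (algebraMap A B)).ResidueField q.ResidueField
          (algebraMap A (q.comap (algebraMap A B)).ResidueField a))
    rw [← IsScalarTower.algebraMap_apply A B q.ResidueField,
      ← IsScalarTower.algebraMap_apply A (q.comap (algebraMap A B)).ResidueField q.ResidueField]
  -- r1
  have r1 : P (K ⊗[A] A') :=
    hiso _ _ (Algebra.TensorProduct.cancelBaseChange A (q.comap (algebraMap A B)).ResidueField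
      K K A').toRingEquiv h
  have r2 : P (K ⊗[B] (B ⊗[A] A')) :=
    hiso _ _ (Algebra.TensorProduct.cancelBaseChange A B K K A').symm.toRingEquiv r1
  have r3 : P ((B ⊗[A] A') ⊗[B] K) :=
    hiso _ _ (Algebra.TensorProduct.comm B K (B ⊗[A] A')).toRingEquiv r2
  haveI hloc' : IsLocalization
      (Algebra.algebraMapSubmonoid ((B ⊗[A] A') ⊗[B] K) n'.primeCompl)
      (((B ⊗[A] A') ⊗[B] K) ⊗[B ⊗[A] A'] Localization.AtPrime n') :=
    IsLocalization.tensor (Localization.AtPrime n') n'.primeCompl
  have r4 : P (((B ⊗[A] A') ⊗[B] K) ⊗[B ⊗[A] A'] Localization.AtPrime n') :=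
    hloc _ _ (Algebra.algebraMapSubmonoid ((B ⊗[A] A') ⊗[B] K) n'.primeCompl) r3
  obtain ⟨e⟩ := Groth.Agent.Helper8.DescFib.nonempty_baseChange_equiv B (B ⊗[A] A')
    (Localization.AtPrime n') K
  have r5 : P (K ⊗[B] Localization.AtPrime n') := hiso _ _ e r4
  exact hiso _ _ (Algebra.TensorProduct.cancelBaseChange B q.ResidueField K K
    (Localization.AtPrime n')).symm.toRingEquiv r5

end fibres

section red

variable (A B A' : Type u) [CommRing A] [CommRing B] [CommRing A'] [IsNoetherianRing B]
  [IsLocalRing B] [Algebra A B] [Algebra A A'] [Module.FaithfullyFlat A A']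
  [Algebra.EssFiniteType A B] [IsNoetherianRing A']

theorem hasGeomReducedFormalFibres_of_essFiniteType_aux (hA' : CAlg.IsGRing A')
    (hfib : ∀ (p : Ideal A) [p.IsPrime],
      Algebra.IsGeometricallyReduced p.ResidueField (p.Fiber A')) :
    EGA4.HasGeomReducedFormalFibres B := by
  obtain ⟨n', hn', hn'B⟩ := exists_prime_over_maximalIdeal A B A'
  haveI := hn'
  have hG := isGRing_tensor A B A' hA'
  haveI : IsNoetherianRing (B ⊗[A] A') := hG.1
  haveI : IsNoetherianRing (Localization.AtPrime n') :=
    IsLocalization.isNoetherianRing n'.primeCompl _ inferInstance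
  haveI : Module.Flat (B ⊗[A] A') (Localization.AtPrime n') :=
    IsLocalization.flat _ n'.primeCompl
  haveI : Module.Flat B (Localization.AtPrime n') :=
    Module.Flat.trans B (B ⊗[A] A') (Localization.AtPrime n')
  haveI := isLocalHom_model A B A' n' hn'B
  refine Groth.Agent.Helper8.CompFib.hasGeomReducedFormalFibres_of_reduced_hom_to_local B
    (Localization.AtPrime n') (fun q _ => ?_) (hG.2 n')
  apply Groth.Agent.Helper8.CompFib.isGeometricallyReduced_of_forall_finite
  intro K _ _ hfin
  refine fibre_property_model A B A' (fun R _ => IsReduced R)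
    (fun R S _ _ e h => isReduced_of_injective e.symm.toRingHom e.symm.injective)
    (fun R S _ _ _ M _ h => isReduced_localizationPreserves M S h) n' q K ?_
  haveI := hfib (q.comap (algebraMap A B))
  letI := Groth.Agent.Helper8.GRBase.resAlgebra A B q
  letI : Algebra (q.comap (algebraMap A B)).ResidueField K :=
    ((algebraMap q.ResidueField K).comp
      (algebraMap (q.comap (algebraMap A B)).ResidueField q.ResidueField)).toAlgebra
  exact Groth.Agent.S2536.isReduced_field_tensor_of_geomReduced _ _ K

end red

/-- **S2640.** -/
theorem hasGeomReducedFormalFibres_of_essFiniteType (A : Type u) [CommRing A] [IsNoetherianRing A]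
    [IsLocalRing A] (hA : EGA4.HasGeomReducedFormalFibres A) (B : Type u) [CommRing B]
    [IsNoetherianRing B] [IsLocalRing B] [Algebra A B] [Algebra.EssFiniteType A B] :
    EGA4.HasGeomReducedFormalFibres B := by
  haveI : IsNoetherianRing (EGA4.Cpl A) := Groth.Agent.Helper8.AdicReg.isNoetherianRing A _
  haveI : Module.FaithfullyFlat A (EGA4.Cpl A) := Module.FaithfullyFlat.of_flat_of_isLocalHom
  exact hasGeomReducedFormalFibres_of_essFiniteType_aux A B (EGA4.Cpl A)
    (Groth.Agent.Helper8.GRing.isGRing_of_isAdicComplete _) (fun p _ => hA p)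

end Groth.Agent.Helper8.EssFT
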