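import Mathlib
import Groth.Prelude
import Groth.Agent.Lib.Helper8.Cpl2
import Groth.Agent.Lib.Helper8.FlatReg10
import Groth.Agent.Lib.Helper6.Normal.GeomRed
import Groth.Agent.Lib.Helper6.Normal.IntClosedIn
import Groth.Agent.Lib.Helper6.Normal.InsepNormal

/-!
# Normality and extension of the base field
-/

set_option autoImplicit false
universe u

namespace Groth.Agent.Helper8.NormBase

open IsLocalRing TensorProduct Groth.Agent.Lib.Helper6.Normal

section sep

variable (k S k' : Type u) [Field k] [CommRing S] [Algebra k S] [Field k'] [Algebra k k']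

/-- Ascent of normality at a prime along a separable extension of the base field. -/
theorem normal_atPrime_tensor_of_geomReduced [Algebra.IsGeometricallyReduced k k']
    (q' : Ideal (S ⊗[k] k')) [q'.IsPrime]
    (h : IsDomain (Localization.AtPrime (q'.comap (algebraMap S (S ⊗[k] k')))) ∧
      IsIntegrallyClosed (Localization.AtPrime (q'.comap (algebraMap S (S ⊗[k] k'))))) :
    IsDomain (Localization.AtPrime q') ∧ IsIntegrallyClosed (Localization.AtPrime q') := by
  set q := q'.comap (algebraMap S (S ⊗[k] k')) with hq
  obtain ⟨h1, h2⟩ := h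
  have hA : EGA4.IsNormalRing (Localization.AtPrime q) :=
    isNormalRing_of_isIntegrallyClosed _
  have hN : EGA4.IsNormalRing (k' ⊗[k] Localization.AtPrime q) :=
    isNormalRing_tensor_of_isGeometricallyReduced k (Localization.AtPrime q) k' hA
  have hN' : EGA4.IsNormalRing (Localization.AtPrime q ⊗[k] k') :=
    isNormalRing_of_ringEquiv (Algebra.TensorProduct.comm k k' _).toRingEquiv hN
  letI : Algebra (S ⊗[k] k') (Localization.AtPrime q ⊗[k] k') :=
    (Algebra.TensorProduct.map (IsScalarTower.toAlgHom k S (Localization.AtPrime q))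
      (AlgHom.id k k')).toRingHom.toAlgebra
  haveI : IsScalarTower S (S ⊗[k] k') (Localization.AtPrime q ⊗[k] k') :=
    IsScalarTower.of_algebraMap_eq fun x => by
      rw [RingHom.algebraMap_toAlgebra]
      simp [Algebra.TensorProduct.algebraMap_apply]
  haveI hloc : IsLocalization (Algebra.algebraMapSubmonoid (S ⊗[k] k') q.primeCompl)
      (Localization.AtPrime q ⊗[k] k') := by
    refine IsLocalization.tensorProduct_tensorProduct k k' q.primeCompl (Localization.AtPrime q) ?_
    ext x
    simp [RingHom.algebraMap_toAlgebra]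
  have hdisj : Disjoint ((Algebra.algebraMapSubmonoid (S ⊗[k] k') q.primeCompl :
      Submonoid (S ⊗[k] k')) : Set (S ⊗[k] k')) (q' : Set (S ⊗[k] k')) := by
    rw [Set.disjoint_left]
    rintro _ ⟨s, hs, rfl⟩ hsq
    exact hs hsq
  have hprime : (q'.map (algebraMap (S ⊗[k] k') (Localization.AtPrime q ⊗[k] k'))).IsPrime :=
    IsLocalization.isPrime_of_isPrime_disjoint _ _ q' inferInstance hdisj
  have hcomap : (q'.map (algebraMap (S ⊗[k] k') (Localization.AtPrime q ⊗[k] k'))).comap
      (algebraMap (S ⊗[k] k') (Localization.AtPrime q ⊗[k] k')) = q' :=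
    IsLocalization.under_map_of_isPrime_disjoint _ _ inferInstance hdisj
  exact normalAt_of_isLocalization (Algebra.algebraMapSubmonoid (S ⊗[k] k') q.primeCompl) _ q'
    hcomap (hN' _)

/-- **S4748.** -/
theorem normal_baseChange_field (q' : Ideal (S ⊗[k] k')) [q'.IsPrime] :
    ((IsDomain (Localization.AtPrime q') ∧ IsIntegrallyClosed (Localization.AtPrime q')) →
        (IsDomain (Localization.AtPrime (q'.comap (algebraMap S (S ⊗[k] k')))) ∧
          IsIntegrallyClosed (Localization.AtPrime (q'.comap (algebraMap S (S ⊗[k] k')))))) ∧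
      (Algebra.IsGeometricallyReduced k k' →
        (IsDomain (Localization.AtPrime (q'.comap (algebraMap S (S ⊗[k] k')))) ∧
          IsIntegrallyClosed (Localization.AtPrime (q'.comap (algebraMap S (S ⊗[k] k'))))) →
          (IsDomain (Localization.AtPrime q') ∧ IsIntegrallyClosed (Localization.AtPrime q'))) := by
  refine ⟨?_, ?_⟩
  · rintro ⟨h1, h2⟩
    exact Groth.Agent.Helper8.FlatReg.normal_base_of_flat S (S ⊗[k] k') q'
  · intro hgr h
    exact normal_atPrime_tensor_of_geomReduced k S k' q' h

end sep

end Groth.Agent.Helper8.NormBase
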