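import Mathlib
import Groth.Prelude
import Groth.Agent.Lib.Helper8.EssFT3
import Groth.Agent.Lib.Helper8.NormBase1
import Groth.Agent.S4677

/-!
# Geometrically normal formal fibres for local rings essentially of finite type
-/

set_option autoImplicit false

universe u

namespace Groth.Agent.Helper8.EssFT

open IsLocalRing TensorProduct LocCoh

section GN

variable (k F K : Type u) [Field k] [CommRing F] [Algebra k F] [Field K] [Algebra k K]

/-- Abstract step: a common overfield `K'` of `K` and `k'`, separable over `k'`. -/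
theorem isNormalRing_tensor_of_overfield (k' K' : Type u) [Field k'] [Algebra k k'] [Field K']
    [Algebra k K'] [Algebra k' K'] [Algebra K K'] [IsScalarTower k k' K'] [IsScalarTower k K K']
    [Algebra.IsGeometricallyReduced k' K'] (h1 : EGA4.IsNormalRing (k' ⊗[k] F)) :
    EGA4.IsNormalRing (K ⊗[k] F) := by
  have h2 : EGA4.IsNormalRing (K' ⊗[k'] (k' ⊗[k] F)) :=
    Groth.Agent.Lib.Helper6.Normal.isNormalRing_tensor_of_isGeometricallyReduced k' (k' ⊗[k] F)
      K' h1
  have h3 : EGA4.IsNormalRing (K' ⊗[k] F) :=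
    Groth.Agent.Helper8.Cpl.isNormalRing_of_ringEquiv
      (Algebra.TensorProduct.cancelBaseChange k k' K' K' F).toRingEquiv h2
  have h4 : EGA4.IsNormalRing (K' ⊗[K] (K ⊗[k] F)) :=
    Groth.Agent.Helper8.Cpl.isNormalRing_of_ringEquiv
      (Algebra.TensorProduct.cancelBaseChange k K K' K' F).symm.toRingEquiv h3
  have h5 : EGA4.IsNormalRing ((K ⊗[k] F) ⊗[K] K') :=
    Groth.Agent.Helper8.Cpl.isNormalRing_of_ringEquiv
      (Algebra.TensorProduct.comm K K' (K ⊗[k] F)).toRingEquiv h4
  haveI : Module.Free K K' := Module.Free.of_divisionRing K K'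
  haveI : Module.FaithfullyFlat K K' := inferInstance
  haveI : Module.FaithfullyFlat (K ⊗[k] F) ((K ⊗[k] F) ⊗[K] K') := inferInstance
  exact Groth.Agent.Helper8.Cpl.isNormalRing_of_faithfullyFlat (K ⊗[k] F)
    ((K ⊗[k] F) ⊗[K] K') h5

/-- Geometric normality (tested on finite extensions) gives normality after any finitely
generated field extension. -/
theorem isNormalRing_tensor_of_isGeomNormal [Algebra.EssFiniteType k K]
    (hF : EGA4.IsGeomNormal k F) : EGA4.IsNormalRing (K ⊗[k] F) := by
  obtain ⟨k', _, _, hfin, _, hk'⟩ := Groth.Agent.S4677.result (k := k) (K := K)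
  haveI : FiniteDimensional k k' := hfin
  haveI : Nontrivial (k' ⊗[k] K) := inferInstance
  obtain ⟨m, hm⟩ := Ideal.exists_maximal (k' ⊗[k] K)
  haveI := hm
  haveI hgr := hk' m hm
  letI : Field ((k' ⊗[k] K) ⧸ m) := Ideal.Quotient.field m
  letI : Algebra K ((k' ⊗[k] K) ⧸ m) :=
    ((Ideal.Quotient.mk m).comp (Algebra.TensorProduct.includeRight :
      K →ₐ[k] k' ⊗[k] K).toRingHom).toAlgebra
  haveI : IsScalarTower k K ((k' ⊗[k] K) ⧸ m) := by
    refine IsScalarTower.of_algebraMap_eq fun a => ?_
    show algebraMap k ((k' ⊗[k] K) ⧸ m) a =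
      Ideal.Quotient.mk m ((1 : k') ⊗ₜ[k] algebraMap k K a)
    rw [IsScalarTower.algebraMap_apply k (k' ⊗[k] K) ((k' ⊗[k] K) ⧸ m),
      Ideal.Quotient.algebraMap_eq]
    congr 1
    rw [Algebra.TensorProduct.algebraMap_apply, Algebra.algebraMap_eq_smul_one,
      Algebra.algebraMap_eq_smul_one (R := k) (A := K), TensorProduct.smul_tmul]
  exact isNormalRing_tensor_of_overfield k F K k' ((k' ⊗[k] K) ⧸ m) (hF k' hfin)

end GN

section nor

variable (A B A' : Type u) [CommRing A] [CommRing B] [CommRing A'] [IsNoetherianRing B]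
  [IsLocalRing B] [Algebra A B] [Algebra A A'] [Module.FaithfullyFlat A A']
  [Algebra.EssFiniteType A B] [IsNoetherianRing A']

theorem hasGeomNormalFormalFibres_of_essFiniteType_aux (hA' : CAlg.IsGRing A')
    (hfib : ∀ (p : Ideal A) [p.IsPrime], EGA4.IsGeomNormal p.ResidueField (p.Fiber A')) :
    EGA4.HasGeomNormalFormalFibres B := by
  obtain ⟨n', hn', hn'B⟩ := exists_prime_over_maximalIdeal A B A'
  haveI := hn'
  have hG := isGRing_tensor A B A' hA'
  haveI : IsNoetherianRing (B ⊗[A] A') := hG.1
  haveI : IsNoetherianRing (Localization.AtPrime n') :=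
    IsLocalization.isNoetherianRing n'.primeCompl _ inferInstance
  haveI : Module.Flat (B ⊗[A] A') (Localization.AtPrime n') :=
    IsLocalization.flat _ n'.primeCompl
  haveI : Module.Flat B (Localization.AtPrime n') :=
    Module.Flat.trans B (B ⊗[A] A') (Localization.AtPrime n')
  haveI := isLocalHom_model A B A' n' hn'B
  refine Groth.Agent.Helper8.CompFib.hasGeomNormalFormalFibres_of_isNormalHom_to_local B
    (Localization.AtPrime n') ⟨inferInstance, fun q _ K _ _ hfin => ?_⟩ (hG.2 n')
  haveI := hfin
  refine fibre_property_model A B A' (fun R _ => EGA4.IsNormalRing R)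
    (fun R S _ _ e h => Groth.Agent.Helper8.Cpl.isNormalRing_of_ringEquiv e h)
    (fun R S _ _ _ M _ h => Groth.Agent.Lib.Helper6.Normal.isNormalRing_of_isLocalization M h)
    n' q K ?_
  letI := Groth.Agent.Helper8.GRBase.resAlgebra A B q
  haveI := Groth.Agent.Helper8.GRBase.resAlgebra_isScalarTower A B q
  letI : Algebra (q.comap (algebraMap A B)).ResidueField K :=
    ((algebraMap q.ResidueField K).comp
      (algebraMap (q.comap (algebraMap A B)).ResidueField q.ResidueField)).toAlgebra
  haveI : IsScalarTower (q.comap (algebraMap A B)).ResidueField q.ResidueField K :=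
    IsScalarTower.of_algebraMap_eq fun _ => rfl
  haveI : Algebra.EssFiniteType A q.ResidueField := Algebra.EssFiniteType.comp A B _
  haveI : Algebra.EssFiniteType (q.comap (algebraMap A B)).ResidueField q.ResidueField :=
    Algebra.EssFiniteType.of_comp A _ _
  haveI : Algebra.EssFiniteType q.ResidueField K := inferInstance
  haveI : Algebra.EssFiniteType (q.comap (algebraMap A B)).ResidueField K :=
    Algebra.EssFiniteType.comp _ q.ResidueField K
  exact isNormalRing_tensor_of_isGeomNormal _ _ K (hfib (q.comap (algebraMap A B)))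

end nor

/-- **S2641.** -/
theorem hasGeomNormalFormalFibres_of_essFiniteType (A : Type u) [CommRing A] [IsNoetherianRing A]
    [IsLocalRing A] (hA : EGA4.HasGeomNormalFormalFibres A) (B : Type u) [CommRing B]
    [IsNoetherianRing B] [IsLocalRing B] [Algebra A B] [Algebra.EssFiniteType A B] :
    EGA4.HasGeomNormalFormalFibres B := by
  haveI : IsNoetherianRing (EGA4.Cpl A) := Groth.Agent.Helper8.AdicReg.isNoetherianRing A _
  haveI : Module.FaithfullyFlat A (EGA4.Cpl A) := Module.FaithfullyFlat.of_flat_of_isLocalHom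
  exact hasGeomNormalFormalFibres_of_essFiniteType_aux A B (EGA4.Cpl A)
    (Groth.Agent.Helper8.GRing.isGRing_of_isAdicComplete _) (fun p _ => hA p)

end Groth.Agent.Helper8.EssFT
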