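import Mathlib
import Groth.Prelude
import Groth.Agent.Lib.Helper8.NormBase1

/-!
# Tensor products of normal and geometrically normal algebras over a field
-/

set_option autoImplicit false
universe u

namespace Groth.Agent.Helper8.NormBase

open IsLocalRing TensorProduct Groth.Agent.Lib.Helper6.Normal

section tensor

variable (k S T : Type u) [Field k] [CommRing S] [CommRing T] [Algebra k S] [Algebra k T]

/-- A geometrically normal algebra stays normal after every extension of the base field. -/
theorem isNormalRing_tensor_field_of_isGeomNormal (K : Type u) [Field K] [Algebra k K]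
    (h : EGA4.IsGeomNormal k T) : EGA4.IsNormalRing (K ⊗[k] T) :=
  isNormalRing_tensor_of_forall_insep k T (fun k' _ _ hfin _ => h k' hfin) K

theorem isNormalRing_tensor_of_isGeomNormal [IsNoetherianRing S] [IsNoetherianRing (S ⊗[k] T)]
    (hS : EGA4.IsNormalRing S) (hT : EGA4.IsGeomNormal k T) : EGA4.IsNormalRing (S ⊗[k] T) := by
  refine Groth.Agent.Helper8.Cpl.isNormalRing_of_flat_of_fibres S (S ⊗[k] T) hS fun p _ => ?_
  have e2 : (p.ResidueField ⊗[k] T) ≃+* p.Fiber (S ⊗[k] T) :=
    (Algebra.TensorProduct.cancelBaseChange k S p.ResidueField p.ResidueField T).toRingEquiv.symm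
  exact isNormalRing_of_ringEquiv e2
    (isNormalRing_tensor_field_of_isGeomNormal k T p.ResidueField hT)

theorem isNoetherianRing_finite_tensor (k' : Type u) [Field k'] [Algebra k k']
    [Module.Finite k k'] [IsNoetherianRing S] : IsNoetherianRing (k' ⊗[k] S) := by
  haveI : Module.Finite S (S ⊗[k] k') := inferInstance
  haveI : IsNoetherianRing (S ⊗[k] k') := IsNoetherianRing.of_finite S (S ⊗[k] k')
  exact isNoetherianRing_of_ringEquiv _ (Algebra.TensorProduct.comm k S k').toRingEquiv

/-- **S2693**, second part. -/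
theorem isGeomNormal_tensor [IsNoetherianRing S] [IsNoetherianRing (S ⊗[k] T)]
    (hS : EGA4.IsGeomNormal k S) (hT : EGA4.IsGeomNormal k T) :
    EGA4.IsGeomNormal k (S ⊗[k] T) := by
  intro k' _ _ hfin
  haveI := hfin
  haveI : IsNoetherianRing (k' ⊗[k] S) := isNoetherianRing_finite_tensor k S k'
  haveI : IsNoetherianRing (k' ⊗[k] (S ⊗[k] T)) := isNoetherianRing_finite_tensor k (S ⊗[k] T) k'
  let e : (k' ⊗[k] S) ⊗[k] T ≃+* k' ⊗[k] (S ⊗[k] T) :=
    (Algebra.TensorProduct.assoc k k k k' S T).toRingEquiv
  haveI : IsNoetherianRing ((k' ⊗[k] S) ⊗[k] T) := isNoetherianRing_of_ringEquiv _ e.symm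
  exact isNormalRing_of_ringEquiv e
    (isNormalRing_tensor_of_isGeomNormal k (k' ⊗[k] S) T (hS k' hfin) hT)

end tensor

end Groth.Agent.Helper8.NormBase
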