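import Mathlib
import Groth.Prelude
import Groth.Agent.Lib.Helper8.NormBase2
import Groth.Agent.Lib.Helper8.Fib4

/-!
# Base change and descent of normal homomorphisms
-/

set_option autoImplicit false
universe u

namespace Groth.Agent.Helper8.NormBase

open IsLocalRing TensorProduct Groth.Agent.Lib.Helper6.Normal

section fields

variable (k F K : Type u) [Field k] [CommRing F] [Algebra k F] [Field K] [Algebra k K]

/-- Geometric normality is stable under arbitrary extension of the base field. -/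
theorem isGeomNormal_tensor_field (h : EGA4.IsGeomNormal k F) :
    EGA4.IsGeomNormal K (K ⊗[k] F) := by
  intro K' _ _ hfin
  letI : Algebra k K' := ((algebraMap K K').comp (algebraMap k K)).toAlgebra
  haveI : IsScalarTower k K K' := .of_algebraMap_eq' rfl
  exact isNormalRing_of_ringEquiv
    (Algebra.TensorProduct.cancelBaseChange k K K K' F).symm.toRingEquiv
    (isNormalRing_tensor_field_of_isGeomNormal k F K' h)

/-- Geometric normality descends along extensions of the base field. -/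
theorem isGeomNormal_of_tensor_field (h : EGA4.IsGeomNormal K (K ⊗[k] F)) :
    EGA4.IsGeomNormal k F := by
  intro k1 _ _ hfin
  haveI := hfin
  obtain ⟨m, hm⟩ := Ideal.exists_maximal (K ⊗[k] k1)
  letI : Field ((K ⊗[k] k1) ⧸ m) := Ideal.Quotient.field m
  haveI : Module.Finite K (K ⊗[k] k1) := inferInstance
  haveI hfinK : Module.Finite K ((K ⊗[k] k1) ⧸ m) :=
    Module.Finite.of_surjective (Ideal.Quotient.mkₐ K m).toLinearMap Ideal.Quotient.mk_surjective
  let φ : k1 →ₐ[k] (K ⊗[k] k1) ⧸ m :=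
    (Ideal.Quotient.mkₐ k m).comp Algebra.TensorProduct.includeRight
  letI : Algebra k1 ((K ⊗[k] k1) ⧸ m) := φ.toRingHom.toAlgebra
  haveI : IsScalarTower k k1 ((K ⊗[k] k1) ⧸ m) :=
    IsScalarTower.of_algebraMap_eq fun x => (φ.commutes x).symm
  have h1 : EGA4.IsNormalRing (((K ⊗[k] k1) ⧸ m) ⊗[K] (K ⊗[k] F)) := h _ hfinK
  have h2 : EGA4.IsNormalRing (((K ⊗[k] k1) ⧸ m) ⊗[k] F) :=
    isNormalRing_of_ringEquiv
      (Algebra.TensorProduct.cancelBaseChange k K ((K ⊗[k] k1) ⧸ m) ((K ⊗[k] k1) ⧸ m)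
        F).toRingEquiv h1
  have h3 : EGA4.IsNormalRing (((K ⊗[k] k1) ⧸ m) ⊗[k1] (k1 ⊗[k] F)) :=
    isNormalRing_of_ringEquiv
      (Algebra.TensorProduct.cancelBaseChange k k1 ((K ⊗[k] k1) ⧸ m) ((K ⊗[k] k1) ⧸ m)
        F).symm.toRingEquiv h2
  have h4 : EGA4.IsNormalRing ((k1 ⊗[k] F) ⊗[k1] ((K ⊗[k] k1) ⧸ m)) :=
    isNormalRing_of_ringEquiv
      (Algebra.TensorProduct.comm k1 ((K ⊗[k] k1) ⧸ m) (k1 ⊗[k] F)).toRingEquiv h3
  haveI : Module.Free k1 ((K ⊗[k] k1) ⧸ m) := Module.Free.of_divisionRing k1 _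
  haveI : Module.FaithfullyFlat k1 ((K ⊗[k] k1) ⧸ m) :=
    Module.FaithfullyFlat.instOfNontrivialOfFree k1 _
  haveI : Module.FaithfullyFlat (k1 ⊗[k] F) ((k1 ⊗[k] F) ⊗[k1] ((K ⊗[k] k1) ⧸ m)) := inferInstance
  exact isNormalRing_of_faithfullyFlat (k1 ⊗[k] F) ((k1 ⊗[k] F) ⊗[k1] ((K ⊗[k] k1) ⧸ m)) h4

variable {k F} in
/-- Transport of geometric normality along an isomorphism of algebras. -/
theorem isGeomNormal_of_algEquiv {F' : Type u} [CommRing F'] [Algebra k F'] (e : F ≃ₐ[k] F')
    (h : EGA4.IsGeomNormal k F) : EGA4.IsGeomNormal k F' := by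
  intro k1 _ _ hfin
  exact isNormalRing_of_ringEquiv
    (Algebra.TensorProduct.congr (AlgEquiv.refl : k1 ≃ₐ[k1] k1) e).toRingEquiv (h k1 hfin)

end fields

section baseChange

variable (A B A' : Type u) [CommRing A] [CommRing B] [CommRing A'] [Algebra A B] [Algebra A A']

/-- The fibre of `A' → A' ⊗ B` at `p'` is the base change of the fibre of `A → B`. -/
noncomputable def fibreBaseChangeEquiv (p' : Ideal A') [p'.IsPrime] :
    letI : p'.LiesOver (p'.under A) := ⟨rfl⟩
    letI := Localization.AtPrime.algebraOfLiesOver (p'.under A) p'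
    p'.Fiber (A' ⊗[A] B) ≃ₐ[p'.ResidueField]
      p'.ResidueField ⊗[(p'.under A).ResidueField] (p'.under A).Fiber B := by
  letI : p'.LiesOver (p'.under A) := ⟨rfl⟩
  letI := Localization.AtPrime.algebraOfLiesOver (p'.under A) p'
  let e1 : p'.ResidueField ⊗[A'] (A' ⊗[A] B) ≃ₐ[p'.ResidueField] p'.ResidueField ⊗[A] B :=
    Algebra.TensorProduct.cancelBaseChange A A' p'.ResidueField p'.ResidueField B
  let e2 : p'.ResidueField ⊗[(p'.under A).ResidueField] ((p'.under A).ResidueField ⊗[A] B)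
      ≃ₐ[p'.ResidueField] p'.ResidueField ⊗[A] B :=
    Algebra.TensorProduct.cancelBaseChange A (p'.under A).ResidueField p'.ResidueField
      p'.ResidueField B
  exact e1.trans e2.symm

/-- Base change of normal homomorphisms. -/
theorem isNormalHom_baseChange (h : EGA4.IsNormalHom A B) : EGA4.IsNormalHom A' (A' ⊗[A] B) := by
  obtain ⟨hflat, hfib⟩ := h
  refine ⟨inferInstance, fun p' _ => ?_⟩
  letI : p'.LiesOver (p'.under A) := ⟨rfl⟩
  letI := Localization.AtPrime.algebraOfLiesOver (p'.under A) p'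
  exact isGeomNormal_of_algEquiv (fibreBaseChangeEquiv A B A' p').symm
    (isGeomNormal_tensor_field (p'.under A).ResidueField _ p'.ResidueField (hfib (p'.under A)))

/-- Faithfully flat descent of normal homomorphisms. -/
theorem isNormalHom_of_baseChange [Module.FaithfullyFlat A A']
    (h : EGA4.IsNormalHom A' (A' ⊗[A] B)) : EGA4.IsNormalHom A B := by
  obtain ⟨hflat, hfib⟩ := h
  refine ⟨?_, fun p _ => ?_⟩
  · haveI : Module.Flat A (A' ⊗[A] B) := Module.Flat.trans A A' (A' ⊗[A] B)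
    haveI : Module.Flat A (B ⊗[A] A') :=
      Module.Flat.of_linearEquiv (Algebra.TensorProduct.comm A B A').toLinearEquiv
    haveI : Module.FaithfullyFlat B (B ⊗[A] A') := inferInstance
    exact Groth.Agent.Helper8.Fib.flat_of_faithfullyFlat_comp A B (B ⊗[A] A')
  · obtain ⟨p', hp'prime, hp'over⟩ := Ideal.exists_isPrime_liesOver_of_faithfullyFlat (B := A') p
    have hp : p = p'.under A := hp'over.over
    subst hp
    letI : p'.LiesOver (p'.under A) := ⟨rfl⟩
    letI := Localization.AtPrime.algebraOfLiesOver (p'.under A) p'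
    exact isGeomNormal_of_tensor_field (p'.under A).ResidueField _ p'.ResidueField
      (isGeomNormal_of_algEquiv (fibreBaseChangeEquiv A B A' p') (hfib p'))

end baseChange

end Groth.Agent.Helper8.NormBase
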