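import Mathlib
import Groth.Prelude
import Groth.Agent.Lib.Helper8.NormBase3
import Groth.Agent.Lib.Helper8.Cpl1

/-!
# Reducedness and base change along a normal homomorphism
-/

set_option autoImplicit false
universe u

namespace Groth.Agent.Helper8.NormBase

open IsLocalRing TensorProduct Groth.Agent.Lib.Helper6.Normal

/-- A normal ring is reduced. -/
theorem isReduced_of_isNormalRing (R : Type u) [CommRing R] (h : EGA4.IsNormalRing R) :
    IsReduced R := by
  refine ⟨fun x hx => ?_⟩
  refine eq_zero_of_localization x fun J hJ => ?_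
  haveI := hJ.isPrime
  obtain ⟨h1, -⟩ := h J
  exact (hx.map (algebraMap R (Localization.AtPrime J))).eq_zero

section union

variable (A A' B : Type u) [CommRing A] [CommRing A'] [CommRing B] [Algebra A A'] [Algebra A B]

/-- The map `A' ⊗ B₀ → A' ⊗ B` for a subalgebra `B₀`. -/
noncomputable def subMap (B0 : Subalgebra A B) : A' ⊗[A] B0 →ₐ[A] A' ⊗[A] B :=
  Algebra.TensorProduct.map (AlgHom.id A A') B0.val

theorem subMap_injective [Module.Flat A A'] (B0 : Subalgebra A B) :
    Function.Injective (subMap A A' B B0) := by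
  have h1 : Function.Injective (B0.val.toLinearMap.lTensor A') :=
    Module.Flat.lTensor_preserves_injective_linearMap _ Subtype.val_injective
  intro x y hxy
  apply h1
  exact hxy

theorem subMap_range_mono {B0 B1 : Subalgebra A B} (h : B0 ≤ B1) :
    Set.range (subMap A A' B B0) ⊆ Set.range (subMap A A' B B1) := by
  rintro _ ⟨x, rfl⟩
  refine ⟨Algebra.TensorProduct.map (AlgHom.id A A') (Subalgebra.inclusion h) x, ?_⟩
  unfold subMap
  rw [← AlgHom.comp_apply, ← Algebra.TensorProduct.map_comp]
  rfl

theorem exists_mem_range_subMap (x : A' ⊗[A] B) :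
    ∃ s : Finset B, x ∈ Set.range (subMap A A' B (Algebra.adjoin A (s : Set B))) := by
  classical
  induction x using TensorProduct.induction_on with
  | zero => exact ⟨∅, 0, map_zero _⟩
  | tmul a b =>
    refine ⟨{b}, a ⊗ₜ ⟨b, Algebra.subset_adjoin (by simp)⟩, ?_⟩
    simp [subMap]
  | add x y hx hy =>
    obtain ⟨s, x', rfl⟩ := hx
    obtain ⟨t, y', rfl⟩ := hy
    refine ⟨s ∪ t, ?_⟩
    have h1 : Algebra.adjoin A (s : Set B) ≤ Algebra.adjoin A ((s ∪ t : Finset B) : Set B) :=
      Algebra.adjoin_mono (by simp)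
    have h2 : Algebra.adjoin A (t : Set B) ≤ Algebra.adjoin A ((s ∪ t : Finset B) : Set B) :=
      Algebra.adjoin_mono (by simp)
    obtain ⟨x'', hx''⟩ := subMap_range_mono A A' B h1 ⟨x', rfl⟩
    obtain ⟨y'', hy''⟩ := subMap_range_mono A A' B h2 ⟨y', rfl⟩
    exact ⟨x'' + y'', by rw [map_add, hx'', hy'']⟩

end union

section main

variable (A A' : Type u) [CommRing A] [CommRing A'] [IsNoetherianRing A] [Algebra A A']

omit [IsNoetherianRing A] in
/-- The Noetherian case. -/
theorem isReduced_baseChange_of_isNormalHom_noeth (h : EGA4.IsNormalHom A A') (B : Type u)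
    [CommRing B] [Algebra A B] [IsNoetherianRing B] [IsReduced B] : IsReduced (A' ⊗[A] B) := by
  have hN : EGA4.IsNormalHom B (B ⊗[A] A') := isNormalHom_baseChange A A' B h
  haveI : Module.Flat B (B ⊗[A] A') := hN.1
  haveI : IsReduced (B ⊗[A] A') :=
    Groth.Agent.Helper8.Cpl.isReduced_of_flat_of_fibres B (B ⊗[A] A') fun p _ _ =>
      isReduced_of_isNormalRing _
        (Groth.Agent.Helper8.Cpl.isNormalRing_of_isGeomNormal p.ResidueField _ (hN.2 p))
  exact isReduced_of_injective (Algebra.TensorProduct.comm A A' B).toRingHom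
    (Algebra.TensorProduct.comm A A' B).injective

/-- **S2729.** -/
theorem isReduced_baseChange_of_isNormalHom (h : EGA4.IsNormalHom A A') (B : Type u)
    [CommRing B] [Algebra A B] [IsReduced B] : IsReduced (A' ⊗[A] B) := by
  haveI : Module.Flat A A' := h.1
  refine ⟨fun x hx => ?_⟩
  obtain ⟨s, y, rfl⟩ := exists_mem_range_subMap A A' B x
  haveI : Algebra.FiniteType A (Algebra.adjoin A (s : Set B)) :=
    (Subalgebra.fg_iff_finiteType _).mp (Subalgebra.fg_adjoin_finset s)
  haveI : IsNoetherianRing (Algebra.adjoin A (s : Set B)) :=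
    Algebra.FiniteType.isNoetherianRing A _
  haveI : IsReduced (Algebra.adjoin A (s : Set B)) :=
    isReduced_of_injective (Algebra.adjoin A (s : Set B)).val.toRingHom Subtype.val_injective
  haveI := isReduced_baseChange_of_isNormalHom_noeth A A' h (Algebra.adjoin A (s : Set B))
  obtain ⟨n, hn⟩ := hx
  have hy : IsNilpotent y := by
    refine ⟨n, subMap_injective A A' B _ ?_⟩
    rw [map_pow, hn, map_zero]
  rw [hy.eq_zero, map_zero]

end main

end Groth.Agent.Helper8.NormBase
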