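import Mathlib
import Groth.Prelude
import Groth.Agent.Lib.Helper8.NormBase4
import Groth.Agent.Lib.Helper6.Normal.TensorDomains

/-!
# `A ⊗_k B` is normal for `A` geometrically normal and `B` normal, without finiteness hypotheses
-/

set_option autoImplicit false
universe u

namespace Groth.Agent.Helper8.NormBase

open IsLocalRing TensorProduct Polynomial Groth.Agent.Lib.Helper6.Normal

section reductions

/-- A local normal ring is an integrally closed domain. -/
theorem isDomain_and_isIntegrallyClosed_of_isLocalRing (C : Type u) [CommRing C] [IsLocalRing C]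
    (h : EGA4.IsNormalRing C) : IsDomain C ∧ IsIntegrallyClosed C := by
  obtain ⟨h1, h2⟩ := h (maximalIdeal C)
  have H : (maximalIdeal C).primeCompl ≤ IsUnit.submonoid C := by
    intro x hx
    rw [IsUnit.mem_submonoid_iff]
    by_contra hnu
    exact hx ((IsLocalRing.mem_maximalIdeal x).mpr hnu)
  let e : C ≃+* Localization.AtPrime (maximalIdeal C) :=
    (IsLocalization.atUnits C (maximalIdeal C).primeCompl
      (S := Localization.AtPrime (maximalIdeal C)) H).toRingEquiv
  exact ⟨e.toMulEquiv.isDomain _, IsIntegrallyClosed.of_equiv e.symm⟩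

variable (k A B : Type u) [CommRing k] [CommRing A] [CommRing B] [Algebra k A] [Algebra k B]

/-- Normality of `A ⊗ B` can be checked after localizing `A` at its primes. -/
theorem isNormalRing_tensor_of_forall_localization
    (h : ∀ (p : Ideal A) [p.IsPrime], EGA4.IsNormalRing (Localization.AtPrime p ⊗[k] B)) :
    EGA4.IsNormalRing (A ⊗[k] B) := by
  intro r _
  set q := r.comap (algebraMap A (A ⊗[k] B)) with hq
  have hN' : EGA4.IsNormalRing (Localization.AtPrime q ⊗[k] B) := h q
  letI : Algebra (A ⊗[k] B) (Localization.AtPrime q ⊗[k] B) :=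
    (Algebra.TensorProduct.map (IsScalarTower.toAlgHom k A (Localization.AtPrime q))
      (AlgHom.id k B)).toRingHom.toAlgebra
  haveI : IsScalarTower A (A ⊗[k] B) (Localization.AtPrime q ⊗[k] B) :=
    IsScalarTower.of_algebraMap_eq fun x => by
      rw [RingHom.algebraMap_toAlgebra]
      simp [Algebra.TensorProduct.algebraMap_apply]
  haveI hloc : IsLocalization (Algebra.algebraMapSubmonoid (A ⊗[k] B) q.primeCompl)
      (Localization.AtPrime q ⊗[k] B) := by
    refine IsLocalization.tensorProduct_tensorProduct k B q.primeCompl (Localization.AtPrime q) ?_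
    ext x
    simp [RingHom.algebraMap_toAlgebra]
  have hdisj : Disjoint ((Algebra.algebraMapSubmonoid (A ⊗[k] B) q.primeCompl :
      Submonoid (A ⊗[k] B)) : Set (A ⊗[k] B)) (r : Set (A ⊗[k] B)) := by
    rw [Set.disjoint_left]
    rintro _ ⟨s, hs, rfl⟩ hsq
    exact hs hsq
  have hprime : (r.map (algebraMap (A ⊗[k] B) (Localization.AtPrime q ⊗[k] B))).IsPrime :=
    IsLocalization.isPrime_of_isPrime_disjoint _ _ r inferInstance hdisj
  have hcomap : (r.map (algebraMap (A ⊗[k] B) (Localization.AtPrime q ⊗[k] B))).comap
      (algebraMap (A ⊗[k] B) (Localization.AtPrime q ⊗[k] B)) = r :=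
    IsLocalization.under_map_of_isPrime_disjoint _ _ inferInstance hdisj
  exact normalAt_of_isLocalization (Algebra.algebraMapSubmonoid (A ⊗[k] B) q.primeCompl) _ r
    hcomap (hN' _)

/-- `E ⊗ N` is a localization of `P ⊗ N` when `E` is a localization of `P`. -/
theorem isNormalRing_tensor_of_isLocalization (P E N : Type u) [CommRing P] [CommRing E]
    [CommRing N] [Algebra k P] [Algebra k E] [Algebra k N] [Algebra P E] [IsScalarTower k P E]
    (M : Submonoid P) [IsLocalization M E] (h : EGA4.IsNormalRing (P ⊗[k] N)) :
    EGA4.IsNormalRing (E ⊗[k] N) := by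
  letI : Algebra (P ⊗[k] N) (E ⊗[k] N) :=
    (Algebra.TensorProduct.map (IsScalarTower.toAlgHom k P E) (AlgHom.id k N)).toRingHom.toAlgebra
  haveI : IsScalarTower P (P ⊗[k] N) (E ⊗[k] N) :=
    IsScalarTower.of_algebraMap_eq fun x => by
      rw [RingHom.algebraMap_toAlgebra]
      simp [Algebra.TensorProduct.algebraMap_apply]
  haveI hloc : IsLocalization (Algebra.algebraMapSubmonoid (P ⊗[k] N) M) (E ⊗[k] N) := by
    refine IsLocalization.tensorProduct_tensorProduct k N M E ?_
    ext x
    simp [RingHom.algebraMap_toAlgebra]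
  exact isNormalRing_of_isLocalization (Algebra.algebraMapSubmonoid (P ⊗[k] N) M) h

end reductions

section geom

variable (k A : Type u) [Field k] [CommRing A] [Algebra k A]

/-- Localizations of geometrically normal algebras are geometrically normal. -/
theorem isGeomNormal_of_isLocalization (E : Type u) [CommRing E] [Algebra k E] [Algebra A E]
    [IsScalarTower k A E] (M : Submonoid A) [IsLocalization M E] (h : EGA4.IsGeomNormal k A) :
    EGA4.IsGeomNormal k E := by
  intro k' _ _ hfin
  have h1 : EGA4.IsNormalRing (A ⊗[k] k') :=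
    isNormalRing_of_ringEquiv (Algebra.TensorProduct.comm k k' A).toRingEquiv (h k' hfin)
  exact isNormalRing_of_ringEquiv (Algebra.TensorProduct.comm k E k').toRingEquiv
    (isNormalRing_tensor_of_isLocalization k A E k' M h1)

/-- The fraction field of a geometrically normal domain is geometrically reduced. -/
theorem isGeometricallyReduced_fractionRing_of_isGeomNormal [IsDomain A] (K : Type u) [Field K]
    [Algebra k K] [Algebra A K] [IsScalarTower k A K] [IsFractionRing A K]
    (h : EGA4.IsGeomNormal k A) : Algebra.IsGeometricallyReduced k K := by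
  rw [Algebra.isGeometricallyReduced_field_iff]
  have h1 : EGA4.IsNormalRing (A ⊗[k] AlgebraicClosure k) :=
    isNormalRing_of_ringEquiv (Algebra.TensorProduct.comm k (AlgebraicClosure k) A).toRingEquiv
      (isNormalRing_tensor_field_of_isGeomNormal k A (AlgebraicClosure k) h)
  have h2 : EGA4.IsNormalRing (K ⊗[k] AlgebraicClosure k) :=
    isNormalRing_tensor_of_isLocalization k A K (AlgebraicClosure k) (nonZeroDivisors A) h1
  haveI := isReduced_of_isNormalRing _ h2
  exact isReduced_of_injective (Algebra.TensorProduct.comm k (AlgebraicClosure k) K).toRingHom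
    (Algebra.TensorProduct.comm k (AlgebraicClosure k) K).injective

end geom

section Core

variable (k A B K L : Type u) [Field k] [CommRing A] [CommRing B] [IsDomain A] [IsDomain B]
  [Algebra k A] [Algebra k B] [Field K] [Field L] [Algebra k K] [Algebra k L] [Algebra A K]
  [Algebra B L] [IsScalarTower k A K] [IsScalarTower k B L] [IsFractionRing A K]
  [IsFractionRing B L]

omit [IsDomain A] in
/-- The core argument: `(K ⊗ B) ∩ (A ⊗ L) = A ⊗ B` inside a Noetherian normal `K ⊗ L`. -/
theorem isNormalRing_tensor_core' [IsNoetherianRing (K ⊗[k] L)]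
    (hT : EGA4.IsNormalRing (K ⊗[k] L)) (hR1 : EGA4.IsNormalRing (K ⊗[k] B))
    (hR2 : EGA4.IsNormalRing (A ⊗[k] L)) : EGA4.IsNormalRing (A ⊗[k] B) := by
  let fA : A →ₐ[k] K := IsScalarTower.toAlgHom k A K
  let fB : B →ₐ[k] L := IsScalarTower.toAlgHom k B L
  let ψ : A ⊗[k] B →ₐ[k] K ⊗[k] L := Algebra.TensorProduct.map fA fB
  letI : Algebra (A ⊗[k] B) (K ⊗[k] L) := ψ.toRingHom.toAlgebra
  have hinjA : Function.Injective fA := IsFractionRing.injective A K
  have hinjB : Function.Injective fB := IsFractionRing.injective B L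
  have hinj : Function.Injective (algebraMap (A ⊗[k] B) (K ⊗[k] L)) :=
    TensorProduct.map_injective_of_flat_flat fA.toLinearMap fB.toLinearMap hinjA hinjB
  refine isNormalRing_of_integrallyClosedIn hinj hT ?_
  intro x hx
  obtain ⟨p, hp, hpx⟩ := hx
  have hpx' : eval₂ ψ.toRingHom x p = 0 := hpx
  have hcomp1 : (Algebra.TensorProduct.map (AlgHom.id k K) fB).toRingHom.comp
      (Algebra.TensorProduct.map fA (AlgHom.id k B)).toRingHom = ψ.toRingHom := by
    refine RingHom.ext fun z => ?_
    induction z using TensorProduct.induction_on with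
    | zero => simp
    | tmul a b => rfl
    | add a b ha hb => rw [map_add, map_add, ha, hb]
  have hx1 : (Algebra.TensorProduct.map (AlgHom.id k K) fB).toRingHom.IsIntegralElem x := by
    refine ⟨p.map (Algebra.TensorProduct.map fA (AlgHom.id k B)).toRingHom, hp.map _, ?_⟩
    rw [eval₂_map, hcomp1]
    exact hpx'
  have hx2 : (Algebra.TensorProduct.map fA (AlgHom.id k L)).toRingHom.IsIntegralElem x := by
    refine ⟨p.map (Algebra.TensorProduct.map (AlgHom.id k A) fB).toRingHom, hp.map _, ?_⟩
    rw [eval₂_map]
    have : (Algebra.TensorProduct.map fA (AlgHom.id k L)).toRingHom.comp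
        (Algebra.TensorProduct.map (AlgHom.id k A) fB).toRingHom = ψ.toRingHom := by
      refine RingHom.ext fun z => ?_
      induction z using TensorProduct.induction_on with
      | zero => simp
      | tmul a b => rfl
      | add a b ha hb => rw [map_add, map_add, ha, hb]
    rw [this]
    exact hpx'
  obtain ⟨x1, h1⟩ := exists_of_isIntegralElem_right k B L K (nonZeroDivisors B) le_rfl hR1 x hx1
  obtain ⟨x2, h2⟩ := exists_of_isIntegralElem_left k A K L (nonZeroDivisors A) le_rfl hR2 x hx2
  obtain ⟨r, hr⟩ := exists_of_map_eq_map fA.toLinearMap fB.toLinearMap hinjB x1 x2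
    (h1.trans h2.symm)
  refine ⟨r, ?_⟩
  rw [← h1, ← hr]
  exact (RingHom.congr_fun hcomp1 r).symm

end Core

section domains

/-- The case of domains: `B ⊗ A` is normal for `B` an integrally closed domain and `A` a
geometrically normal domain. -/
theorem isNormalRing_tensor_domains (k A B K L : Type u) [Field k] [CommRing A] [CommRing B]
    [IsDomain A] [IsDomain B] [Algebra k A] [Algebra k B] [Field K] [Field L] [Algebra k K]
    [Algebra k L] [Algebra A K] [Algebra B L] [IsScalarTower k A K] [IsScalarTower k B L]
    [IsFractionRing A K] [IsFractionRing B L] [IsIntegrallyClosed B]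
    (hA : EGA4.IsGeomNormal k A) : EGA4.IsNormalRing (B ⊗[k] A) := by
  haveI hKred : Algebra.IsGeometricallyReduced k K :=
    isGeometricallyReduced_fractionRing_of_isGeomNormal k A K hA
  refine isNormalRing_of_union (ι := Finset B) (fun t => At k B L t ⊗[k] A)
    (fun t => (Groth.Agent.Lib.Helper6.Normal.subMap k B A (At k B L) t).toRingHom)
    (fun t => Groth.Agent.Lib.Helper6.Normal.subMap_injective k B A (At k B L) t)
    (fun s => exists_subset_range_subMap k B A (At k B L) (At_mono k B L) (At_cov k B L) s) ?_
  intro t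
  have hBt : EGA4.IsNormalRing (At k B L t) := isNormalRing_of_isIntegrallyClosed _
  have hLt : EGA4.IsNormalRing (Kt k B L t) := isNormalRing_of_isIntegrallyClosed _
  haveI hnoeth : IsNoetherianRing (Kt k B L t ⊗[k] K) := by
    have h1 : Algebra.EssFiniteType K (K ⊗[k] Kt k B L t) := inferInstance
    have h2 : IsNoetherianRing (K ⊗[k] Kt k B L t) :=
      Algebra.EssFiniteType.isNoetherianRing K (K ⊗[k] Kt k B L t)
    exact isNoetherianRing_of_ringEquiv _ (Algebra.TensorProduct.comm k K (Kt k B L t)).toRingEquiv
  have hT : EGA4.IsNormalRing (Kt k B L t ⊗[k] K) :=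
    isNormalRing_of_ringEquiv (Algebra.TensorProduct.comm k K (Kt k B L t)).toRingEquiv
      (isNormalRing_tensor_of_isGeometricallyReduced k (Kt k B L t) K hLt)
  have hR1 : EGA4.IsNormalRing (Kt k B L t ⊗[k] A) :=
    isNormalRing_tensor_field_of_isGeomNormal k A (Kt k B L t) hA
  have hR2 : EGA4.IsNormalRing (At k B L t ⊗[k] K) :=
    isNormalRing_of_ringEquiv (Algebra.TensorProduct.comm k K (At k B L t)).toRingEquiv
      (isNormalRing_tensor_of_isGeometricallyReduced k (At k B L t) K hBt)
  exact isNormalRing_tensor_core' k (At k B L t) A (Kt k B L t) K hT hR1 hR2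

end domains

section main

variable (k A B : Type u) [Field k] [CommRing A] [CommRing B] [Algebra k A] [Algebra k B]

/-- **S9413.** -/
theorem isNormalRing_tensor_of_isGeomNormal_general (hA : EGA4.IsGeomNormal k A)
    (hB : EGA4.IsNormalRing B) : EGA4.IsNormalRing (A ⊗[k] B) := by
  refine isNormalRing_tensor_of_forall_localization k A B fun p _ => ?_
  refine isNormalRing_of_ringEquiv (Algebra.TensorProduct.comm k B (Localization.AtPrime p)).toRingEquiv ?_
  refine isNormalRing_tensor_of_forall_localization k B (Localization.AtPrime p) fun q _ => ?_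
  have hAp : EGA4.IsGeomNormal k (Localization.AtPrime p) :=
    isGeomNormal_of_isLocalization k A (Localization.AtPrime p) p.primeCompl hA
  have hAp' : EGA4.IsNormalRing (Localization.AtPrime p) :=
    Groth.Agent.Helper8.Cpl.isNormalRing_of_isGeomNormal k _ hAp
  obtain ⟨hd1, hi1⟩ := isDomain_and_isIntegrallyClosed_of_isLocalRing _ hAp'
  have hBq : EGA4.IsNormalRing (Localization.AtPrime q) :=
    isNormalRing_of_isLocalization q.primeCompl hB
  obtain ⟨hd2, hi2⟩ := isDomain_and_isIntegrallyClosed_of_isLocalRing _ hBq
  exact isNormalRing_tensor_domains k (Localization.AtPrime p) (Localization.AtPrime q)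
    (FractionRing (Localization.AtPrime p)) (FractionRing (Localization.AtPrime q)) hAp

end main

end Groth.Agent.Helper8.NormBase
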