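import Mathlib
import Groth.Prelude
import Groth.Agent.Lib.Helper8.EssFT4
import Groth.Agent.Lib.Helper8.Nag5
import Groth.Agent.Lib.Helper8.Nag13
import Groth.Agent.Lib.Helper8.Cpl2
import Groth.Agent.Lib.Helper8.NormBase5
import Groth.Agent.Lib.Helper8.GRing3
import Groth.Agent.Lib.Helper7.Hensel.IntegralDomain

/-!
# Unibranch local domains and their completions (geometrically normal formal fibres)
-/

set_option autoImplicit false

universe u

namespace Groth.Agent.Helper8.UB

open IsLocalRing TensorProduct

/-- An integrally closed domain is a normal ring. -/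
theorem isNormalRing_of_isIntegrallyClosed (C : Type u) [CommRing C] [IsDomain C]
    [IsIntegrallyClosed C] : EGA4.IsNormalRing C := by
  intro p _
  exact ⟨IsLocalization.isDomain_localization p.primeCompl_le_nonZeroDivisors,
    isIntegrallyClosed_of_isLocalization _ p.primeCompl p.primeCompl_le_nonZeroDivisors⟩

/-- Transport of domain-ness for the adic completion along an equality of ideals. -/
theorem isDomain_adicCompletion_congr {C : Type u} [CommRing C] {I J : Ideal C} (h : I = J)
    (hd : IsDomain (AdicCompletion J C)) : IsDomain (AdicCompletion I C) := by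
  subst h
  exact hd

section core

variable (A : Type u) [CommRing A] [IsDomain A] [IsNoetherianRing A] [IsLocalRing A]

/-- The normalization of a Noetherian local domain with geometrically normal formal fibres is
finite. -/
theorem finite_integralClosure (hA : EGA4.HasGeomNormalFormalFibres A) :
    Module.Finite A (integralClosure A (FractionRing A)) :=
  (Groth.Agent.Helper8.Nag.isReduced_cpl_and_finite_of_geomNormal A hA).2

/-- If the normalization is local, then `A' ⊗_A Â` is a domain. -/
theorem isDomain_tensor_cpl_of_isLocalRing (hA : EGA4.HasGeomNormalFormalFibres A)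
    (hloc : IsLocalRing (integralClosure A (FractionRing A))) :
    IsDomain ((integralClosure A (FractionRing A)) ⊗[A] EGA4.Cpl A) := by
  haveI := hloc
  haveI hfin : Module.Finite A (integralClosure A (FractionRing A)) := finite_integralClosure A hA
  haveI : IsNoetherianRing (integralClosure A (FractionRing A)) :=
    IsNoetherianRing.of_finite A _
  haveI : IsIntegrallyClosed (integralClosure A (FractionRing A)) :=
    integralClosure.isIntegrallyClosedOfFiniteExtension (FractionRing A)
  have hC : EGA4.HasGeomNormalFormalFibres (integralClosure A (FractionRing A)) :=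
    Groth.Agent.Helper8.EssFT.hasGeomNormalFormalFibres_of_essFiniteType A hA _
  have hnorC : EGA4.IsNormalRing (integralClosure A (FractionRing A)) :=
    isNormalRing_of_isIntegrallyClosed _
  have hnorCpl : EGA4.IsNormalRing (EGA4.Cpl (integralClosure A (FractionRing A))) :=
    (Groth.Agent.Helper8.Cpl.isNormalRing_iff_cpl_of_geomNormalFormalFibres _ hC).mp hnorC
  have hdomCpl : IsDomain (EGA4.Cpl (integralClosure A (FractionRing A))) :=
    (Groth.Agent.Helper8.NormBase.isDomain_and_isIntegrallyClosed_of_isLocalRing _ hnorCpl).1
  have hjac : Groth.Agent.Helper8.Nag.jac (integralClosure A (FractionRing A)) =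
      maximalIdeal (integralClosure A (FractionRing A)) :=
    IsLocalRing.jacobson_eq_maximalIdeal ⊥ bot_ne_top
  haveI hd2 : IsDomain (AdicCompletion
      (Groth.Agent.Helper8.Nag.jac (integralClosure A (FractionRing A)))
      (integralClosure A (FractionRing A))) :=
    isDomain_adicCompletion_congr hjac hdomCpl
  exact (Groth.Agent.Helper8.Nag.tensorCplEquiv A
    (integralClosure A (FractionRing A))).toMulEquiv.isDomain _

/-- **Unibranch ⇒ the completion is a domain.** -/
theorem isDomain_cpl_of_isLocalRing (hA : EGA4.HasGeomNormalFormalFibres A)
    (hloc : IsLocalRing (integralClosure A (FractionRing A))) : IsDomain (EGA4.Cpl A) := by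
  haveI := isDomain_tensor_cpl_of_isLocalRing A hA hloc
  have hinj : Function.Injective (Algebra.TensorProduct.includeRight :
      EGA4.Cpl A →ₐ[A] (integralClosure A (FractionRing A)) ⊗[A] EGA4.Cpl A) :=
    Algebra.TensorProduct.includeRight_injective
      (FaithfulSMul.algebraMap_injective A (integralClosure A (FractionRing A)))
  exact Function.Injective.isDomain
    (Algebra.TensorProduct.includeRight :
      EGA4.Cpl A →ₐ[A] (integralClosure A (FractionRing A)) ⊗[A] EGA4.Cpl A).toRingHom hinj

end core

end Groth.Agent.Helper8.UB
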