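import Mathlib
import Groth.Prelude
import Groth.Agent.Lib.Helper8.UB1

/-!
# Unibranch local domains and their completions: the converse
-/

set_option autoImplicit false

universe u

namespace Groth.Agent.Helper8.UB

open IsLocalRing TensorProduct

section converse

variable (A : Type u) [CommRing A] [IsDomain A] [IsNoetherianRing A] [IsLocalRing A]

attribute [local instance] Algebra.TensorProduct.rightAlgebra in
/-- If the completion is a domain, so is `K ⊗_A Â`. -/
theorem isDomain_fractionRing_tensor_cpl [IsDomain (EGA4.Cpl A)] :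
    IsDomain (FractionRing A ⊗[A] EGA4.Cpl A) := by
  haveI : Module.FaithfullyFlat A (EGA4.Cpl A) := Module.FaithfullyFlat.of_flat_of_isLocalHom
  have hinj : Function.Injective (algebraMap A (EGA4.Cpl A)) :=
    FaithfulSMul.algebraMap_injective A (EGA4.Cpl A)
  haveI : IsLocalization (Algebra.algebraMapSubmonoid (EGA4.Cpl A) (nonZeroDivisors A))
      (FractionRing A ⊗[A] EGA4.Cpl A) :=
    (Algebra.isLocalization_iff_isPushout (nonZeroDivisors A) (FractionRing A)).mpr inferInstance
  have hM : Algebra.algebraMapSubmonoid (EGA4.Cpl A) (nonZeroDivisors A) ≤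
      nonZeroDivisors (EGA4.Cpl A) := by
    rintro _ ⟨a, ha, rfl⟩
    apply mem_nonZeroDivisors_of_ne_zero
    rw [Ne, map_eq_zero_iff _ hinj]
    exact nonZeroDivisors.ne_zero ha
  exact IsLocalization.isDomain_of_le_nonZeroDivisors _ hM

/-- If the completion is a domain, so is `A' ⊗_A Â`. -/
theorem isDomain_tensor_cpl_of_isDomain_cpl [IsDomain (EGA4.Cpl A)] :
    IsDomain ((integralClosure A (FractionRing A)) ⊗[A] EGA4.Cpl A) := by
  haveI := isDomain_fractionRing_tensor_cpl A
  have h1 : Function.Injective (Algebra.TensorProduct.map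
      (integralClosure A (FractionRing A)).val (AlgHom.id A (EGA4.Cpl A))) :=
    Module.Flat.rTensor_preserves_injective_linearMap (M := EGA4.Cpl A)
      (integralClosure A (FractionRing A)).val.toLinearMap Subtype.val_injective
  exact Function.Injective.isDomain (Algebra.TensorProduct.map
      (integralClosure A (FractionRing A)).val (AlgHom.id A (EGA4.Cpl A))).toRingHom h1

attribute [local instance] Algebra.TensorProduct.rightAlgebra in
/-- `A' ⊗_A Â` is a local ring as soon as it is a domain. -/
theorem isLocalRing_tensor_cpl (C : Type u) [CommRing C] [Algebra A C] [Module.Finite A C]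
    [IsDomain (C ⊗[A] EGA4.Cpl A)] : IsLocalRing (C ⊗[A] EGA4.Cpl A) := by
  haveI : Module.Finite (EGA4.Cpl A) (C ⊗[A] EGA4.Cpl A) :=
    Module.Finite.equiv (Algebra.TensorProduct.commRight A (EGA4.Cpl A) C).toLinearEquiv
  haveI : Algebra.IsIntegral (EGA4.Cpl A) (C ⊗[A] EGA4.Cpl A) := Algebra.IsIntegral.of_finite _ _
  haveI : HenselianLocalRing (EGA4.Cpl A) :=
    Groth.Agent.Helper8.GRing.henselianLocalRing_of_isAdicComplete _
  exact Groth.Agent.Helper7.Hensel.isLocalRing_of_isIntegral_domain (EGA4.Cpl A) _

/-- A ring with a faithfully flat local algebra is local. -/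
theorem isLocalRing_of_faithfullyFlat (C T : Type u) [CommRing C] [Nontrivial C] [CommRing T]
    [Algebra C T] [Module.FaithfullyFlat C T] [IsLocalRing T] : IsLocalRing C := by
  have huniq : ∀ n : Ideal C, n.IsMaximal → n = (maximalIdeal T).comap (algebraMap C T) := by
    intro n hn
    haveI := hn.isPrime
    obtain ⟨P, hPprime, hP⟩ := Ideal.exists_isPrime_liesOver_of_faithfullyFlat (B := T) n
    have hle : n ≤ (maximalIdeal T).comap (algebraMap C T) := by
      rw [hP.over]
      exact Ideal.comap_mono (IsLocalRing.le_maximalIdeal hPprime.ne_top)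
    exact hn.eq_of_le (Ideal.comap_ne_top _ (maximalIdeal.isMaximal T).ne_top) hle
  obtain ⟨n, hn⟩ := Ideal.exists_maximal C
  apply IsLocalRing.of_unique_max_ideal
  refine ⟨n, hn, fun n' hn' => ?_⟩
  rw [huniq n hn, huniq n' hn']

/-- **The completion is a domain ⇒ unibranch.** -/
theorem isLocalRing_integralClosure_of_isDomain_cpl (hA : EGA4.HasGeomNormalFormalFibres A)
    [IsDomain (EGA4.Cpl A)] : IsLocalRing (integralClosure A (FractionRing A)) := by
  haveI hfin : Module.Finite A (integralClosure A (FractionRing A)) := finite_integralClosure A hA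
  haveI := isDomain_tensor_cpl_of_isDomain_cpl A
  haveI := isLocalRing_tensor_cpl A (integralClosure A (FractionRing A))
  haveI : Module.FaithfullyFlat A (EGA4.Cpl A) := Module.FaithfullyFlat.of_flat_of_isLocalHom
  haveI : Module.FaithfullyFlat (integralClosure A (FractionRing A))
      ((integralClosure A (FractionRing A)) ⊗[A] EGA4.Cpl A) := inferInstance
  exact isLocalRing_of_faithfullyFlat (integralClosure A (FractionRing A))
    ((integralClosure A (FractionRing A)) ⊗[A] EGA4.Cpl A)

/-- For a Noetherian local domain with geometrically normal formal fibres: the completion is a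
domain iff the normalization is local. -/
theorem isDomain_cpl_iff (hA : EGA4.HasGeomNormalFormalFibres A) :
    IsDomain (EGA4.Cpl A) ↔ IsLocalRing (integralClosure A (FractionRing A)) :=
  ⟨fun h => by haveI := h; exact isLocalRing_integralClosure_of_isDomain_cpl A hA,
    fun h => isDomain_cpl_of_isLocalRing A hA h⟩

end converse

end Groth.Agent.Helper8.UB
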