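import Mathlib
import Groth.Prelude
import Groth.Agent.Lib.Helper8.HensGU1
import Groth.Agent.Lib.Helper8.HensGU3
import Groth.Agent.Lib.Helper8.UB2
import Groth.Agent.Lib.Helper7.SHens.Unique
import Groth.Agent.S0539

/-!
# Geometrically unibranch local rings and the strict henselization: abstract form
-/

set_option autoImplicit false

universe u

namespace Groth.Agent.Helper8.HensGU

open TensorProduct IsLocalRing Groth.Agent.Helper7.SHens

section forward

variable (A B S : Type u) [CommRing A] [IsLocalRing A] [CommRing B] [IsLocalRing B]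
  [Algebra A B] [IsLocalHom (algebraMap A B)] [Algebra.IsIntegral A B]
  [IsDomain B] [IsIntegrallyClosed B]
  [CommRing S] [IsLocalRing S] [Algebra A S] [IsLocalHom (algebraMap A S)]
  [Hensel.IsStrictHenselization A S]

/-- If `B` is a normal local domain, integral over `A` with purely inseparable residue field
extension, then `B ⊗ A^sh` is a domain. -/
theorem isDomain_tensor_strictHenselization
    (hpi : ∀ x : B ⧸ maximalIdeal B, ∃ n : ℕ,
      x ^ (ringExpChar (B ⧸ maximalIdeal B)) ^ n ∈ (algebraMap A (B ⧸ maximalIdeal B)).range) :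
    IsDomain (B ⊗[A] S) := by
  haveI : Module.FaithfullyFlat A S := Groth.Agent.S0539.result A S
  haveI : Nontrivial (B ⊗[A] S) :=
    (FaithfulSMul.algebraMap_injective B (B ⊗[A] S)).nontrivial
  haveI hloc : IsLocalRing (B ⊗[A] S) := isLocalRing_tensor_of_pow_mem A B S hpi
  obtain ⟨e, -⟩ := exists_algEquiv_Model A S
  let E : B ⊗[A] S ≃ₐ[A] B ⊗[A] Model A S :=
    Algebra.TensorProduct.congr (AlgEquiv.refl : B ≃ₐ[A] B) e
  haveI : IsLocalRing (B ⊗[A] Model A S) := E.toRingEquiv.isLocalRing
  haveI : IsDomain (B ⊗[A] Model A S) :=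
    isDomain_tensor_G (A := A) (Ω := IsLocalRing.ResidueField S) B
  exact E.toRingEquiv.toMulEquiv.isDomain _

end forward

section backward

variable (A B S : Type u) [CommRing A] [CommRing B]
  [Algebra A B] [Algebra.IsIntegral A B]
  [CommRing S] [Algebra A S] [HenselianLocalRing S]

attribute [local instance] Algebra.TensorProduct.rightAlgebra in
/-- Over a henselian local ring, an integral base change with a unique minimal prime is local. -/
theorem isLocalRing_tensor_of_unique_minimalPrime
    (h : ∃! q : Ideal (B ⊗[A] S), q ∈ minimalPrimes (B ⊗[A] S)) : IsLocalRing (B ⊗[A] S) := by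
  obtain ⟨q, hq, hquniq⟩ := h
  haveI hqp : q.IsPrime := hq.1.1
  haveI : Algebra.IsIntegral S (B ⊗[A] S) := isIntegral_rightAlgebra A S B
  haveI : Algebra.IsIntegral S ((B ⊗[A] S) ⧸ q) :=
    Algebra.IsIntegral.of_surjective (Ideal.Quotient.mkₐ S q) (Ideal.Quotient.mkₐ_surjective S q)
  haveI : IsLocalRing ((B ⊗[A] S) ⧸ q) :=
    Groth.Agent.Helper7.Hensel.isLocalRing_of_isIntegral_domain S _
  haveI : Nontrivial (B ⊗[A] S) := (Ideal.Quotient.mk q).domain_nontrivial
  have hle : ∀ M : Ideal (B ⊗[A] S), M.IsMaximal → q ≤ M := by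
    intro M hM
    haveI := hM.isPrime
    obtain ⟨p, hp, hpM⟩ := Ideal.exists_minimalPrimes_le (bot_le : (⊥ : Ideal (B ⊗[A] S)) ≤ M)
    rw [← hquniq p hp]
    exact hpM
  have hcm : ∀ M : Ideal (B ⊗[A] S), M.IsMaximal →
      M = (maximalIdeal ((B ⊗[A] S) ⧸ q)).comap (Ideal.Quotient.mk q) := by
    intro M hM
    have hker : RingHom.ker (Ideal.Quotient.mk q) ≤ M := by
      rw [Ideal.mk_ker]; exact hle M hM
    have hmax : (M.map (Ideal.Quotient.mk q)).IsMaximal :=
      Ideal.IsMaximal.map_of_surjective_of_ker_le Ideal.Quotient.mk_surjective hker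
    rw [← IsLocalRing.eq_maximalIdeal hmax,
      Ideal.comap_map_of_surjective _ Ideal.Quotient.mk_surjective, ← RingHom.ker_eq_comap_bot]
    exact (sup_eq_left.mpr hker).symm
  obtain ⟨M, hM⟩ := Ideal.exists_maximal (B ⊗[A] S)
  apply IsLocalRing.of_unique_max_ideal
  refine ⟨M, hM, fun M' hM' => ?_⟩
  rw [hcm M hM, hcm M' hM']

end backward

section necessity

variable (A B S : Type u) [CommRing A] [IsLocalRing A] [CommRing B] [IsLocalRing B]
  [Algebra A B] [IsLocalHom (algebraMap A B)] [Algebra.IsIntegral A B]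
  [CommRing S] [IsLocalRing S] [Algebra A S] [IsLocalHom (algebraMap A S)]

/-- If `B ⊗ S` is local and the residue field of `S` is separably closed, the residue field
extension of `B` over `A` is purely inseparable. -/
theorem pow_mem_of_isLocalRing_tensor [IsSepClosed (ResidueField S)] [IsLocalRing (B ⊗[A] S)]
    (x : B ⧸ maximalIdeal B) : ∃ n : ℕ,
      x ^ (ringExpChar (B ⧸ maximalIdeal B)) ^ n ∈ (algebraMap A (B ⧸ maximalIdeal B)).range := by
  haveI : Algebra.IsIntegral B (ResidueField B) :=
    Algebra.isIntegral_of_surjective IsLocalRing.residue_surjective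
  haveI : Algebra.IsIntegral A (ResidueField B) := Algebra.IsIntegral.trans B
  haveI : Algebra.IsIntegral (ResidueField A) (ResidueField B) :=
    Algebra.IsIntegral.tower_top (R := A)
  haveI : Algebra.IsAlgebraic (ResidueField A) (ResidueField B) := Algebra.IsIntegral.isAlgebraic
  let ψ : ResidueField B →ₐ[ResidueField A] AlgebraicClosure (ResidueField S) :=
    IsAlgClosed.lift
  haveI : Nontrivial ((ResidueField B) ⊗[A] (ResidueField S)) :=
    (embHom A (ResidueField A) (ResidueField B) (ResidueField S) ψ).toRingHom.domain_nontrivial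
  haveI : IsLocalRing ((ResidueField B) ⊗[A] (ResidueField S)) :=
    IsLocalRing.of_surjective' (rho A B S).toRingHom (rho_surjective A B S)
  haveI hpi : IsPurelyInseparable (ResidueField A) (ResidueField B) :=
    isPurelyInseparable_of_isLocalRing_tensor A (ResidueField A) (ResidueField B) (ResidueField S)
  haveI : ExpChar (ResidueField B) (ringExpChar (ResidueField B)) := ringExpChar.expChar _
  haveI : ExpChar (ResidueField A) (ringExpChar (ResidueField B)) :=
    (algebraMap (ResidueField A) (ResidueField B)).expChar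
      (algebraMap (ResidueField A) (ResidueField B)).injective _
  obtain ⟨n, y, hy⟩ := IsPurelyInseparable.pow_mem (E := ResidueField B) (ResidueField A)
    (ringExpChar (ResidueField B)) x
  obtain ⟨a, rfl⟩ := IsLocalRing.residue_surjective y
  refine ⟨n, a, ?_⟩
  exact Eq.trans rfl hy

end necessity

end Groth.Agent.Helper8.HensGU
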