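import Mathlib
import Groth.Agent.Lib.Helper8.SpecConn

/-!
# Base change along purely inseparable extensions

For `K / k` purely inseparable and `C` a `k`-algebra, some `q`-power of every element of
`K ⊗[k] C` lies in the image of `C`; connectedness and irreducibility of the spectrum pass
from `C` to `K ⊗[k] C`.
-/

set_option autoImplicit false
open scoped TensorProduct

namespace Groth.Agent.Helper8

section
variable (k : Type*) [Field k] (K : Type*) [Field K] [Algebra k K]
  (C : Type*) [CommRing C] [Algebra k C]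

theorem one_tmul_injective_field :
    Function.Injective (fun s : C => (1 : K) ⊗ₜ[k] s) :=
  Algebra.TensorProduct.includeRight_injective (R := k) (A := K) (B := C)
    (algebraMap k K).injective

variable [IsPurelyInseparable k K]

theorem exists_pow_eq_one_tmul [Nontrivial C] (q : ℕ) [ExpChar k q] (z : K ⊗[k] C) :
    ∃ n : ℕ, ∀ m, n ≤ m → ∃ s : C, (1 : K) ⊗ₜ[k] s = z ^ q ^ m := by
  haveI : ExpChar (K ⊗[k] C) q :=
    expChar_of_injective_algebraMap (FaithfulSMul.algebraMap_injective k (K ⊗[k] C)) q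
  induction z using TensorProduct.induction_on with
  | zero =>
    refine ⟨0, fun m _ => ⟨0, ?_⟩⟩
    have hq : q ^ m ≠ 0 := pow_ne_zero _ (expChar_pos k q).ne'
    rw [zero_pow hq, TensorProduct.tmul_zero]
  | tmul c s =>
    obtain ⟨n, κ, hκ⟩ := IsPurelyInseparable.pow_mem k q c
    refine ⟨n, fun m hm => ?_⟩
    obtain ⟨d, rfl⟩ := Nat.exists_eq_add_of_le hm
    refine ⟨(κ ^ q ^ d) • s ^ q ^ (n + d), ?_⟩
    have h1 : c ^ q ^ (n + d) = algebraMap k K (κ ^ q ^ d) := by
      rw [pow_add, pow_mul, ← hκ, map_pow]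
    rw [Algebra.TensorProduct.tmul_pow, h1, TensorProduct.tmul_smul, TensorProduct.smul_tmul',
      Algebra.smul_def, mul_one]
  | add z w hz hw =>
    obtain ⟨n₁, h₁⟩ := hz
    obtain ⟨n₂, h₂⟩ := hw
    refine ⟨max n₁ n₂, fun m hm => ?_⟩
    obtain ⟨s, hs⟩ := h₁ m (le_trans (le_max_left _ _) hm)
    obtain ⟨t, ht⟩ := h₂ m (le_trans (le_max_right _ _) hm)
    refine ⟨s + t, ?_⟩
    rw [add_pow_expChar_pow, TensorProduct.tmul_add, hs, ht]

theorem connectedSpace_tensor_of_isPurelyInseparable [ConnectedSpace (PrimeSpectrum C)] :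
    ConnectedSpace (PrimeSpectrum (K ⊗[k] C)) := by
  obtain ⟨hnt, hC⟩ := (connectedSpace_primeSpectrum_iff C).mp inferInstance
  rw [connectedSpace_primeSpectrum_iff]
  refine ⟨inferInstance, fun e he => ?_⟩
  obtain ⟨n, hn⟩ := exists_pow_eq_one_tmul k K C (ringExpChar k) e
  obtain ⟨s, hs⟩ := hn n le_rfl
  have hpos : 0 < ringExpChar k ^ n := pow_pos (expChar_pos k (ringExpChar k)) n
  have hpow : e ^ ringExpChar k ^ n = e := by
    obtain ⟨j, hj⟩ := Nat.exists_eq_succ_of_ne_zero hpos.ne'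
    rw [hj]
    exact he.pow_succ_eq j
  rw [hpow] at hs
  have hinj := one_tmul_injective_field k K C
  have hsid : IsIdempotentElem s := by
    apply hinj
    change (1 : K) ⊗ₜ[k] (s * s) = (1 : K) ⊗ₜ[k] s
    have : (1 : K) ⊗ₜ[k] (s * s) = ((1 : K) ⊗ₜ[k] s) * ((1 : K) ⊗ₜ[k] s) := by
      rw [Algebra.TensorProduct.tmul_mul_tmul, mul_one]
    rw [this, hs, he.eq]
  rcases hC s hsid with rfl | rfl
  · left; rw [← hs, TensorProduct.tmul_zero]
  · right; rw [← hs]; rfl

theorem irreducibleSpace_tensor_of_isPurelyInseparable [IrreducibleSpace (PrimeSpectrum C)] :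
    IrreducibleSpace (PrimeSpectrum (K ⊗[k] C)) := by
  have hN : (nilradical C).IsPrime :=
    PrimeSpectrum.irreducibleSpace_iff_isPrime_nilradical.mp inferInstance
  haveI : Nontrivial C := by
    refine ⟨⟨0, 1, fun h => hN.ne_top ?_⟩⟩
    rw [Ideal.eq_top_iff_one, ← h]
    exact Ideal.zero_mem _
  rw [PrimeSpectrum.irreducibleSpace_iff_isPrime_nilradical]
  have hinj := one_tmul_injective_field k K C
  have hnil : ∀ s : C, IsNilpotent ((1 : K) ⊗ₜ[k] s) ↔ IsNilpotent s := by
    intro s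
    constructor
    · rintro ⟨n, hn⟩
      refine ⟨n, hinj ?_⟩
      change (1 : K) ⊗ₜ[k] (s ^ n) = (1 : K) ⊗ₜ[k] (0 : C)
      rw [TensorProduct.tmul_zero, ← hn, Algebra.TensorProduct.tmul_pow, one_pow]
    · rintro ⟨n, hn⟩
      refine ⟨n, ?_⟩
      rw [Algebra.TensorProduct.tmul_pow, one_pow, hn, TensorProduct.tmul_zero]
  refine ⟨?_, fun {x y} hxy => ?_⟩
  · rw [Ne, Ideal.eq_top_iff_one, mem_nilradical]
    rintro ⟨n, hn⟩
    rw [one_pow] at hn
    exact one_ne_zero hn
  · obtain ⟨n₁, h₁⟩ := exists_pow_eq_one_tmul k K C (ringExpChar k) x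
    obtain ⟨n₂, h₂⟩ := exists_pow_eq_one_tmul k K C (ringExpChar k) y
    obtain ⟨s, hs⟩ := h₁ (max n₁ n₂) (le_max_left _ _)
    obtain ⟨t, ht⟩ := h₂ (max n₁ n₂) (le_max_right _ _)
    have hst : IsNilpotent (s * t) := by
      rw [← hnil]
      have : (1 : K) ⊗ₜ[k] (s * t) = ((1 : K) ⊗ₜ[k] s) * ((1 : K) ⊗ₜ[k] t) := by
        rw [Algebra.TensorProduct.tmul_mul_tmul, mul_one]
      rw [this, hs, ht, ← mul_pow]
      exact (mem_nilradical.mp hxy).pow_of_pos (pow_pos (expChar_pos k (ringExpChar k)) _).ne'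
    have hpos : ringExpChar k ^ max n₁ n₂ ≠ 0 :=
      (pow_pos (expChar_pos k (ringExpChar k)) _).ne'
    rcases hN.mem_or_mem (mem_nilradical.mpr hst) with h | h
    · left
      rw [mem_nilradical]
      have : IsNilpotent (x ^ ringExpChar k ^ max n₁ n₂) := by
        rw [← hs, hnil]; exact mem_nilradical.mp h
      exact (IsNilpotent.pow_iff_pos hpos).mp this
    · right
      rw [mem_nilradical]
      have : IsNilpotent (y ^ ringExpChar k ^ max n₁ n₂) := by
        rw [← ht, hnil]; exact mem_nilradical.mp h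
      exact (IsNilpotent.pow_iff_pos hpos).mp this

end

end Groth.Agent.Helper8
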