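import Mathlib
import Groth.Agent.Lib.Helper8.GeomAlgClosed
import Groth.Agent.Lib.Helper8.GeomInsep

/-!
# From the algebraic closure to arbitrary field extensions

If `k̄ ⊗[k] C` is a domain / has connected spectrum / has irreducible spectrum, the same holds
for `k' ⊗[k] C` for every field extension `k' / k`.
-/

set_option autoImplicit false
open scoped TensorProduct

namespace Groth.Agent.Helper8

section
variable (k : Type*) [Field k] (k' : Type*) [Field k'] [Algebra k k']
  (C : Type*) [CommRing C] [Algebra k C]

/-- An injective ring map from `k' ⊗ C` into a base change of `k̄ ⊗ C` along a field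
extension of the algebraically closed field `k̄`. -/
theorem exists_injective_ringHom_algebraicClosure :
    ∃ (_ : Algebra (AlgebraicClosure k) (AlgebraicClosure k'))
      (f : k' ⊗[k] C →+* AlgebraicClosure k' ⊗[AlgebraicClosure k] (AlgebraicClosure k ⊗[k] C)),
      Function.Injective f := by
  let ψ : AlgebraicClosure k →ₐ[k] AlgebraicClosure k' := IsAlgClosed.lift
  letI alg : Algebra (AlgebraicClosure k) (AlgebraicClosure k') := ψ.toRingHom.toAlgebra
  haveI : IsScalarTower k (AlgebraicClosure k) (AlgebraicClosure k') :=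
    IsScalarTower.of_algebraMap_eq fun x => (ψ.commutes x).symm
  let e := Algebra.TensorProduct.cancelBaseChange k (AlgebraicClosure k) (AlgebraicClosure k')
    (AlgebraicClosure k') C
  let g : k' ⊗[k] C →ₐ[k] AlgebraicClosure k' ⊗[k] C :=
    Algebra.TensorProduct.map (IsScalarTower.toAlgHom k k' (AlgebraicClosure k')) (AlgHom.id k C)
  have hg : Function.Injective g :=
    tensorMap_injective_id C _ (algebraMap k' (AlgebraicClosure k')).injective
  refine ⟨alg, (e.symm : _ →+* _).comp g.toRingHom, ?_⟩
  exact e.symm.injective.comp hg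

theorem isDomain_of_algebraicClosure [IsDomain (AlgebraicClosure k ⊗[k] C)] :
    IsDomain (k' ⊗[k] C) := by
  obtain ⟨alg, f, hf⟩ := exists_injective_ringHom_algebraicClosure k k' C
  haveI := isDomain_tensor_of_isAlgClosed (k := AlgebraicClosure k) (AlgebraicClosure k')
    (AlgebraicClosure k ⊗[k] C)
  exact hf.isDomain f

theorem connectedSpace_of_algebraicClosure
    [ConnectedSpace (PrimeSpectrum (AlgebraicClosure k ⊗[k] C))] :
    ConnectedSpace (PrimeSpectrum (k' ⊗[k] C)) := by
  obtain ⟨alg, f, hf⟩ := exists_injective_ringHom_algebraicClosure k k' C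
  haveI := connectedSpace_tensor_of_isAlgClosed (k := AlgebraicClosure k) (AlgebraicClosure k')
    (AlgebraicClosure k ⊗[k] C)
  exact connectedSpace_primeSpectrum_of_injective f hf

theorem irreducibleSpace_of_algebraicClosure
    [IrreducibleSpace (PrimeSpectrum (AlgebraicClosure k ⊗[k] C))] :
    IrreducibleSpace (PrimeSpectrum (k' ⊗[k] C)) := by
  obtain ⟨alg, f, hf⟩ := exists_injective_ringHom_algebraicClosure k k' C
  haveI := irreducibleSpace_tensor_of_isAlgClosed (k := AlgebraicClosure k) (AlgebraicClosure k')
    (AlgebraicClosure k ⊗[k] C)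
  exact irreducibleSpace_primeSpectrum_of_injective f hf

end

section FiniteLevel
variable (k : Type*) [Field k] (K : Type*) [Field K] [Algebra k K] [Algebra.IsAlgebraic k K]
  (C : Type*) [CommRing C] [Algebra k C]

/-- Two elements of `K ⊗ C` (with `K / k` algebraic) come from `E ⊗ C` for a finite
subextension `E`. -/
theorem exists_finite_intermediateField_mem_range (x y : K ⊗[k] C) :
    ∃ E : IntermediateField k K, FiniteDimensional k E ∧
      Function.Injective (Algebra.TensorProduct.map E.val (AlgHom.id k C)) ∧
      (∃ x' : E ⊗[k] C, Algebra.TensorProduct.map E.val (AlgHom.id k C) x' = x) ∧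
      (∃ y' : E ⊗[k] C, Algebra.TensorProduct.map E.val (AlgHom.id k C) y' = y) := by
  classical
  obtain ⟨F₁, h₁⟩ := exists_finset_forall_mem_range C x
  obtain ⟨F₂, h₂⟩ := exists_finset_forall_mem_range C y
  let E : IntermediateField k K := IntermediateField.adjoin k ((F₁ ∪ F₂ : Finset K) : Set K)
  have hfin : FiniteDimensional k E :=
    IntermediateField.finiteDimensional_adjoin fun z _ => Algebra.IsIntegral.isIntegral z
  have hF₁ : (F₁ : Set K) ⊆ E.toSubalgebra := fun a ha =>
    IntermediateField.subset_adjoin k _ (by simp [Finset.mem_coe.mp ha])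
  have hF₂ : (F₂ : Set K) ⊆ E.toSubalgebra := fun a ha =>
    IntermediateField.subset_adjoin k _ (by simp [Finset.mem_coe.mp ha])
  refine ⟨E, hfin, ?_, ?_, ?_⟩
  · exact tensorMap_injective_id C E.val Subtype.val_injective
  · obtain ⟨x', hx'⟩ := h₁ E.toSubalgebra hF₁
    exact ⟨x', hx'⟩
  · obtain ⟨y', hy'⟩ := h₂ E.toSubalgebra hF₂
    exact ⟨y', hy'⟩

end FiniteLevel

section FiniteLevel'
universe v
variable (k : Type*) [Field k] (K : Type v) [Field K] [Algebra k K] [Algebra.IsAlgebraic k K]
  (C : Type*) [CommRing C] [Algebra k C]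

/-- Version of `exists_finite_intermediateField_mem_range` with an abstract finite extension. -/
theorem exists_finite_field_mem_range (x y : K ⊗[k] C) :
    ∃ (E : Type v) (_ : Field E) (_ : Algebra k E) (_ : Module.Finite k E) (ι : E →ₐ[k] K),
      Function.Injective (Algebra.TensorProduct.map ι (AlgHom.id k C)) ∧
      (∃ x' : E ⊗[k] C, Algebra.TensorProduct.map ι (AlgHom.id k C) x' = x) ∧
      (∃ y' : E ⊗[k] C, Algebra.TensorProduct.map ι (AlgHom.id k C) y' = y) := by
  obtain ⟨E, hfin, hinj, hx, hy⟩ := exists_finite_intermediateField_mem_range k K C x y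
  exact ⟨E, inferInstance, inferInstance, hfin, E.val, hinj, hx, hy⟩

end FiniteLevel'

section FiniteLevelSep
universe v
variable (k : Type*) [Field k] (K : Type v) [Field K] [Algebra k K] [Algebra.IsSeparable k K]
  (C : Type*) [CommRing C] [Algebra k C]

theorem exists_finite_separable_field_mem_range (x y : K ⊗[k] C) :
    ∃ (E : Type v) (_ : Field E) (_ : Algebra k E) (_ : Module.Finite k E)
      (_ : Algebra.IsSeparable k E) (ι : E →ₐ[k] K),
      Function.Injective (Algebra.TensorProduct.map ι (AlgHom.id k C)) ∧
      (∃ x' : E ⊗[k] C, Algebra.TensorProduct.map ι (AlgHom.id k C) x' = x) ∧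
      (∃ y' : E ⊗[k] C, Algebra.TensorProduct.map ι (AlgHom.id k C) y' = y) := by
  haveI : Algebra.IsAlgebraic k K := Algebra.IsSeparable.isAlgebraic k K
  obtain ⟨E, hfin, hinj, hx, hy⟩ := exists_finite_intermediateField_mem_range k K C x y
  exact ⟨E, inferInstance, inferInstance, hfin, Algebra.isSeparable_tower_bot_of_isSeparable k E K,
    E.val, hinj, hx, hy⟩

end FiniteLevelSep

section SepLevel
universe v
variable (k : Type*) [Field k] (K : Type v) [Field K] [Algebra k K] [Algebra.IsSeparable k K]
  (R : Type*) [CommRing R] [Algebra k R]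

/-- Irreducibility of `Spec (K ⊗ R)` for a separable algebraic `K / k` can be tested on finite
separable extensions. -/
theorem irreducibleSpace_of_forall_finite_separable
    (h : ∀ (E : Type v) [Field E] [Algebra k E] [Module.Finite k E] [Algebra.IsSeparable k E],
      IrreducibleSpace (PrimeSpectrum (E ⊗[k] R))) :
    IrreducibleSpace (PrimeSpectrum (K ⊗[k] R)) := by
  obtain ⟨E₀, _, _, _, _, ι₀, -, -, -⟩ :=
    exists_finite_separable_field_mem_range k K R 0 0
  haveI : Nontrivial R := by
    haveI := h E₀
    haveI : Nontrivial (E₀ ⊗[k] R) :=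
      PrimeSpectrum.nonempty_iff_nontrivial.mp (inferInstance : Nonempty (PrimeSpectrum (E₀ ⊗[k] R)))
    by_contra hne
    rw [not_nontrivial_iff_subsingleton] at hne
    exact not_subsingleton (E₀ ⊗[k] R) inferInstance
  rw [PrimeSpectrum.irreducibleSpace_iff_isPrime_nilradical]
  refine ⟨?_, fun {x y} hxy => ?_⟩
  · rw [Ne, Ideal.eq_top_iff_one, mem_nilradical]
    rintro ⟨n, hn⟩
    rw [one_pow] at hn
    exact one_ne_zero hn
  · obtain ⟨E, _, _, _, _, ι, hinj, ⟨x', hx'⟩, ⟨y', hy'⟩⟩ :=
      exists_finite_separable_field_mem_range k K R x y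
    haveI := h E
    have hN : (nilradical (E ⊗[k] R)).IsPrime :=
      PrimeSpectrum.irreducibleSpace_iff_isPrime_nilradical.mp inferInstance
    have h0 : IsNilpotent (x' * y') := by
      rw [← IsNilpotent.map_iff hinj, map_mul, hx', hy']
      exact mem_nilradical.mp hxy
    rcases hN.mem_or_mem (mem_nilradical.mpr h0) with h1 | h1
    · left
      rw [mem_nilradical, ← hx']
      exact (mem_nilradical.mp h1).map (Algebra.TensorProduct.map ι (AlgHom.id k R))
    · right
      rw [mem_nilradical, ← hy']
      exact (mem_nilradical.mp h1).map (Algebra.TensorProduct.map ι (AlgHom.id k R))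

end SepLevel

end Groth.Agent.Helper8
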