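import Mathlib
import Groth.Prelude
import Groth.Agent.Lib.Helper8.UB1
import Groth.Agent.Lib.Helper8.GeomAssembly
import Groth.Agent.Lib.Helper8.Nag5
import Groth.Agent.Lib.Helper8.Nag3
import Groth.Agent.Lib.Helper6.Japanese

/-!
# Formal fibres of henselian local rings with geometrically normal formal fibres are
geometrically integral
-/

set_option autoImplicit false

universe u

namespace Groth.Agent.Helper8.UB

open IsLocalRing TensorProduct

section lemmaA

variable (A : Type u) [CommRing A] [HenselianLocalRing A] [IsNoetherianRing A]
  (B : Type u) [CommRing B] [IsDomain B] [Algebra A B] [Module.Finite A B]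

/-- Over a henselian local ring with geometrically normal formal fibres, the base change to the
completion of a finite domain is a domain. -/
theorem isDomain_tensor_cpl_of_henselian (hA : EGA4.HasGeomNormalFormalFibres A) :
    IsDomain (B ⊗[A] EGA4.Cpl A) := by
  haveI : Algebra.IsIntegral A B := Algebra.IsIntegral.of_finite A B
  haveI : IsLocalRing B := Groth.Agent.Helper7.Hensel.isLocalRing_of_isIntegral_domain A B
  haveI : IsNoetherianRing B := IsNoetherianRing.of_finite A B
  have hB : EGA4.HasGeomNormalFormalFibres B :=
    Groth.Agent.Helper8.EssFT.hasGeomNormalFormalFibres_of_essFiniteType A hA B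
  haveI : Algebra.IsIntegral A (integralClosure B (FractionRing B)) :=
    Algebra.IsIntegral.trans B
  have hloc : IsLocalRing (integralClosure B (FractionRing B)) :=
    Groth.Agent.Helper7.Hensel.isLocalRing_of_isIntegral_domain A _
  have hdomCpl : IsDomain (EGA4.Cpl B) := isDomain_cpl_of_isLocalRing B hB hloc
  have hjac : Groth.Agent.Helper8.Nag.jac B = maximalIdeal B :=
    IsLocalRing.jacobson_eq_maximalIdeal ⊥ bot_ne_top
  haveI := isDomain_adicCompletion_congr hjac hdomCpl
  exact (Groth.Agent.Helper8.Nag.tensorCplEquiv A B).toMulEquiv.isDomain _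

end lemmaA

section loc

variable (A B E S : Type u) [CommRing A] [CommRing B] [IsDomain B] [Field E] [CommRing S]
  [Algebra A B] [Algebra A S] [Module.Flat A S] [Algebra B E] [IsFractionRing B E] [Algebra A E]
  [IsScalarTower A B E]

attribute [local instance] Algebra.TensorProduct.rightAlgebra in
/-- `E ⊗_A S` is a localization of `B ⊗_A S` at nonzerodivisors, for `E = Frac B`. -/
theorem isDomain_tensor_of_isFractionRing [IsDomain (B ⊗[A] S)] : IsDomain (E ⊗[A] S) := by
  haveI : IsLocalization (Algebra.algebraMapSubmonoid (B ⊗[A] S) (nonZeroDivisors B))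
      (E ⊗[B] (B ⊗[A] S)) :=
    (Algebra.isLocalization_iff_isPushout (nonZeroDivisors B) E).mpr inferInstance
  have hM : Algebra.algebraMapSubmonoid (B ⊗[A] S) (nonZeroDivisors B) ≤
      nonZeroDivisors (B ⊗[A] S) := by
    rintro _ ⟨b, hb, rfl⟩
    have hinj : Function.Injective ((LinearMap.mulLeft A b).rTensor S) :=
      Module.Flat.rTensor_preserves_injective_linearMap _
        (mul_right_injective₀ (nonZeroDivisors.ne_zero hb))
    have key : ∀ x : B ⊗[A] S, (LinearMap.mulLeft A b).rTensor S x =
        algebraMap B (B ⊗[A] S) b * x := by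
      intro x
      induction x using TensorProduct.induction_on with
      | zero => simp
      | tmul c s => simp [Algebra.TensorProduct.algebraMap_apply]
      | add x y hx hy => rw [map_add, mul_add, hx, hy]
    rw [mem_nonZeroDivisors_iff_right]
    intro x hx
    apply hinj
    rw [map_zero, key, mul_comm]
    exact hx
  haveI : IsDomain (E ⊗[B] (B ⊗[A] S)) := IsLocalization.isDomain_of_le_nonZeroDivisors _ hM
  exact (Algebra.TensorProduct.cancelBaseChange A B B E S).symm.toMulEquiv.isDomain _

end loc

section lemmaB

variable (A : Type u) [CommRing A] [HenselianLocalRing A] [IsNoetherianRing A]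

/-- Finite level: the formal fibres stay integral after finite extensions of the residue field. -/
theorem isDomain_tensor_formalFibre_of_finite (hA : EGA4.HasGeomNormalFormalFibres A)
    (p : Ideal A) [p.IsPrime] (E : Type u) [Field E] [Algebra p.ResidueField E]
    [Module.Finite p.ResidueField E] :
    IsDomain (E ⊗[p.ResidueField] (EGA4.formalFibre A p)) := by
  letI : Algebra A E :=
    ((algebraMap p.ResidueField E).comp (algebraMap A p.ResidueField)).toAlgebra
  haveI : IsScalarTower A p.ResidueField E := IsScalarTower.of_algebraMap_eq fun _ => rfl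
  letI : Algebra (A ⧸ p) E :=
    ((algebraMap p.ResidueField E).comp (algebraMap (A ⧸ p) p.ResidueField)).toAlgebra
  haveI : IsScalarTower (A ⧸ p) p.ResidueField E := IsScalarTower.of_algebraMap_eq fun _ => rfl
  haveI : IsScalarTower A (A ⧸ p) E := IsScalarTower.of_algebraMap_eq fun a => by
    change algebraMap p.ResidueField E (algebraMap A p.ResidueField a) =
      algebraMap p.ResidueField E (algebraMap (A ⧸ p) p.ResidueField (algebraMap A (A ⧸ p) a))
    rw [← IsScalarTower.algebraMap_apply A (A ⧸ p) p.ResidueField]
  have hNag := Groth.Agent.Helper8.Nag.isNagata_of_geomReduced A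
    (Groth.Agent.Helper8.Nag.hasGeomReducedFormalFibres_of_geomNormal A hA)
  haveI hfinB : Module.Finite (A ⧸ p) (integralClosure (A ⧸ p) E) :=
    Groth.Agent.Lib.Helper6.Japanese.n2_apply (hNag.2 p) p.ResidueField E
  haveI : IsFractionRing (integralClosure (A ⧸ p) E) E :=
    integralClosure.isFractionRing_of_finite_extension p.ResidueField E
  haveI : Module.Finite A (integralClosure (A ⧸ p) E) := Module.Finite.trans (A ⧸ p) _
  haveI := isDomain_tensor_cpl_of_henselian A (integralClosure (A ⧸ p) E) hA
  haveI : IsDomain (E ⊗[A] EGA4.Cpl A) :=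
    isDomain_tensor_of_isFractionRing A (integralClosure (A ⧸ p) E) E (EGA4.Cpl A)
  exact (Algebra.TensorProduct.cancelBaseChange A p.ResidueField p.ResidueField E
    (EGA4.Cpl A)).toMulEquiv.isDomain _

/-- **S3831.** -/
theorem isDomain_tensor_formalFibre (hA : EGA4.HasGeomNormalFormalFibres A)
    (p : Ideal A) [p.IsPrime] (K : Type u) [Field K] [Algebra p.ResidueField K] :
    IsDomain (K ⊗[p.ResidueField] (EGA4.formalFibre A p)) := by
  haveI hF : IsDomain (EGA4.formalFibre A p) := by
    haveI := isDomain_tensor_formalFibre_of_finite A hA p p.ResidueField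
    exact (Algebra.TensorProduct.lid p.ResidueField (EGA4.formalFibre A p)).symm.toMulEquiv.isDomain _
  haveI : IsDomain (AlgebraicClosure p.ResidueField ⊗[p.ResidueField] (EGA4.formalFibre A p)) := by
    haveI : Nontrivial (AlgebraicClosure p.ResidueField ⊗[p.ResidueField]
        (EGA4.formalFibre A p)) :=
      (Algebra.TensorProduct.includeRight_injective (R := p.ResidueField)
        (A := AlgebraicClosure p.ResidueField) (B := EGA4.formalFibre A p)
        (algebraMap p.ResidueField (AlgebraicClosure p.ResidueField)).injective).nontrivial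
    haveI : NoZeroDivisors (AlgebraicClosure p.ResidueField ⊗[p.ResidueField]
        (EGA4.formalFibre A p)) := by
      constructor
      intro x y hxy
      obtain ⟨E, _, _, hfin, ι, hinj, ⟨x', hx⟩, ⟨y', hy⟩⟩ :=
        Groth.Agent.Helper8.exists_finite_field_mem_range p.ResidueField
          (AlgebraicClosure p.ResidueField) (EGA4.formalFibre A p) x y
      haveI := hfin
      haveI := isDomain_tensor_formalFibre_of_finite A hA p E
      have h0 : x' * y' = 0 := by
        apply hinj
        rw [map_mul, hx, hy, hxy, map_zero]
      rcases mul_eq_zero.mp h0 with h | h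
      · left
        rw [← hx, h, map_zero]
      · right
        rw [← hy, h, map_zero]
    exact NoZeroDivisors.to_isDomain (AlgebraicClosure p.ResidueField ⊗[p.ResidueField]
      (EGA4.formalFibre A p))
  exact Groth.Agent.Helper8.isDomain_of_algebraicClosure p.ResidueField K (EGA4.formalFibre A p)

end lemmaB

end Groth.Agent.Helper8.UB
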