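import Mathlib
import Groth.Prelude
import Groth.Agent.S2801
import Groth.Agent.S0515
import Groth.Agent.S0509
import Groth.Agent.S0514
import Groth.Agent.S1972
import Groth.Agent.S13598
import Groth.Agent.Lib.Helper8.UB2
import Groth.Agent.Lib.Helper8.UB8
import Groth.Agent.Lib.Helper7.Hensel.IntegralDomain

/-!
# Unibranch local rings and the henselization
-/

set_option autoImplicit false

universe u

namespace Groth.Agent.Helper8.HensUB

open IsLocalRing TensorProduct

section core

variable (A S : Type u) [CommRing A] [IsDomain A] [IsLocalRing A] [CommRing S] [IsLocalRing S]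
  [Algebra A S] [IsLocalHom (algebraMap A S)] [Hensel.IsHenselization A S]

/-- If the normalization of a local domain is local, the henselization is a domain. -/
theorem isDomain_henselization_of_isLocalRing
    (h : IsLocalRing (integralClosure A (FractionRing A))) : IsDomain S := by
  haveI := h
  haveI : IsLocalHom (algebraMap A (integralClosure A (FractionRing A))) :=
    Groth.Agent.Helper7.Hensel.isLocalHom_of_isIntegral
  obtain ⟨hloc, hlh, hh⟩ := Groth.Agent.S2801.result A (integralClosure A (FractionRing A)) S
  haveI := hloc
  haveI := hlh
  haveI := hh
  have hic : IsIntegrallyClosed (integralClosure A (FractionRing A)) :=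
    integralClosure.isIntegrallyClosedOfFiniteExtension (FractionRing A)
  have hdom : IsDomain ((integralClosure A (FractionRing A)) ⊗[A] S) :=
    ((Groth.Agent.S0515.result (integralClosure A (FractionRing A))
      ((integralClosure A (FractionRing A)) ⊗[A] S)).mp ⟨inferInstance, hic⟩).1
  haveI : Module.FaithfullyFlat A S := Groth.Agent.S0509.result A S
  have hinj : Function.Injective
      (Algebra.TensorProduct.includeRight : S →ₐ[A] (integralClosure A (FractionRing A)) ⊗[A] S) :=
    Algebra.TensorProduct.includeRight_injective
      (FaithfulSMul.algebraMap_injective A (integralClosure A (FractionRing A)))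
  exact hinj.isDomain (Algebra.TensorProduct.includeRight :
    S →ₐ[A] (integralClosure A (FractionRing A)) ⊗[A] S).toRingHom

/-- If the henselization of a local domain is a domain, the normalization is local. -/
theorem isLocalRing_of_isDomain_henselization [IsDomain S] :
    IsLocalRing (integralClosure A (FractionRing A)) := by
  haveI : Module.FaithfullyFlat A S := Groth.Agent.S0509.result A S
  haveI : HenselianLocalRing S := Hensel.IsHenselization.henselian A
  have hAS : Function.Injective (algebraMap A S) := FaithfulSMul.algebraMap_injective A S
  have hM : Algebra.algebraMapSubmonoid S (nonZeroDivisors A) ≤ nonZeroDivisors S := by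
    rintro _ ⟨a, ha, rfl⟩
    refine mem_nonZeroDivisors_of_ne_zero ?_
    rw [Ne, map_eq_zero_iff _ hAS]
    exact nonZeroDivisors.ne_zero ha
  haveI : IsDomain (S ⊗[A] (FractionRing A)) :=
    IsLocalization.isDomain_of_le_nonZeroDivisors (R := S) (S ⊗[A] (FractionRing A)) hM
  have hinj : Function.Injective
      (Algebra.TensorProduct.map (AlgHom.id A S) ((integralClosure A (FractionRing A)).val)) :=
    Module.Flat.lTensor_preserves_injective_linearMap
      ((integralClosure A (FractionRing A)).val.toLinearMap) Subtype.val_injective
  haveI : IsDomain (S ⊗[A] (integralClosure A (FractionRing A))) :=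
    hinj.isDomain (Algebra.TensorProduct.map (AlgHom.id A S)
      ((integralClosure A (FractionRing A)).val)).toRingHom
  haveI : IsLocalRing (S ⊗[A] (integralClosure A (FractionRing A))) :=
    Groth.Agent.Helper7.Hensel.isLocalRing_of_isIntegral_domain S _
  haveI : IsLocalRing ((integralClosure A (FractionRing A)) ⊗[A] S) :=
    (Algebra.TensorProduct.comm A S (integralClosure A (FractionRing A))).toRingEquiv.isLocalRing
  exact Groth.Agent.Helper8.UB.isLocalRing_of_faithfullyFlat
    (integralClosure A (FractionRing A)) ((integralClosure A (FractionRing A)) ⊗[A] S)

end core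

end Groth.Agent.Helper8.HensUB
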