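import Mathlib
import Groth.Prelude
import Groth.Agent.Lib.Helper8.HensUB1

/-!
# Unibranch local rings and minimal primes of the henselization
-/

set_option autoImplicit false

universe u

namespace Groth.Agent.Helper8.HensUB

open IsLocalRing TensorProduct

section quot

variable (A A' : Type u) [CommRing A] [CommRing A'] [Algebra A A'] (p : Ideal A)

theorem isLocalHom_quot [IsLocalRing A] [IsLocalRing A'] [IsLocalHom (algebraMap A A')] :
    IsLocalHom (algebraMap (A ⧸ p) (A' ⧸ p.map (algebraMap A A'))) := by
  refine ⟨fun x hx => ?_⟩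
  obtain ⟨a, rfl⟩ := Ideal.Quotient.mk_surjective x
  rw [Ideal.Quotient.algebraMap_quotient_map_quotient] at hx
  by_cases hp : p = ⊤
  · haveI : Subsingleton (A ⧸ p) := by
      rw [hp]; exact Ideal.Quotient.subsingleton_iff.mpr rfl
    exact isUnit_of_subsingleton _
  have hJle : p.map (algebraMap A A') ≤ maximalIdeal A' :=
    (Ideal.map_mono (le_maximalIdeal hp)).trans (IsLocalRing.map_maximalIdeal_le (algebraMap A A'))
  have h1 : IsUnit (algebraMap A A' a) := by
    by_contra hnu
    have hmem : algebraMap A A' a ∈ maximalIdeal A' := (IsLocalRing.mem_maximalIdeal _).mpr hnu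
    obtain ⟨y, hy⟩ := hx.exists_right_inv
    obtain ⟨b, rfl⟩ := Ideal.Quotient.mk_surjective y
    rw [← map_mul, ← map_one (Ideal.Quotient.mk (p.map (algebraMap A A'))),
      Ideal.Quotient.eq] at hy
    have h2 : (1 : A') ∈ maximalIdeal A' := by
      have h3 := (maximalIdeal A').sub_mem ((maximalIdeal A').mul_mem_right b hmem) (hJle hy)
      simp at h3
    exact (maximalIdeal.isMaximal A').ne_top ((Ideal.eq_top_iff_one _).mpr h2)
  exact (isUnit_of_map_unit (algebraMap A A') a h1).map (Ideal.Quotient.mk p)

end quot

section minprime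

variable (T : Type u) [CommRing T]

theorem hasUniqueMinimalPrime_iff_isPrime_nilradical :
    CAlgX.HasUniqueMinimalPrime T ↔ (nilradical T).IsPrime := by
  constructor
  · rintro ⟨p, hp, huniq⟩
    have : nilradical T = p := by
      rw [nilradical, ← Ideal.sInf_minimalPrimes]
      apply le_antisymm
      · exact sInf_le hp
      · apply le_sInf
        intro q hq
        rw [huniq q hq]
    rw [this]
    exact hp.1.1
  · intro h
    refine ⟨nilradical T, ⟨⟨h, bot_le⟩, fun q hq _ => nilradical_le_prime q (H := hq.1)⟩, ?_⟩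
    intro q hq
    have hle : nilradical T ≤ q := nilradical_le_prime q (H := hq.1.1)
    exact le_antisymm (hq.2 ⟨h, bot_le⟩ hle) hle

end minprime

section main

variable (A S : Type u) [CommRing A] [IsLocalRing A] [CommRing S] [IsLocalRing S]
  [Algebra A S] [IsLocalHom (algebraMap A S)] [Hensel.IsHenselization A S]

theorem isUnibranch_iff_isPrime_nilradical :
    CAlg2.IsUnibranch A ↔ (nilradical S).IsPrime := by
  have hN : nilradical A ≤ maximalIdeal A := nilradical_le_prime _
  have hNtop : nilradical A ≠ ⊤ := fun h => (maximalIdeal.isMaximal A).ne_top (top_le_iff.mp (h ▸ hN))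
  have hmap : (nilradical A).map (algebraMap A S) = nilradical S :=
    Groth.Agent.S1972.result A S (Or.inl inferInstance)
  have hStop : (nilradical A).map (algebraMap A S) ≠ ⊤ := by
    rw [hmap]
    intro h
    exact (maximalIdeal.isMaximal S).ne_top (top_le_iff.mp (h ▸ nilradical_le_prime _))
  haveI : Nontrivial (A ⧸ nilradical A) := Ideal.Quotient.nontrivial_iff.mpr hNtop
  haveI : Nontrivial (S ⧸ (nilradical A).map (algebraMap A S)) :=
    Ideal.Quotient.nontrivial_iff.mpr hStop
  haveI : IsLocalHom (algebraMap (A ⧸ nilradical A) (S ⧸ (nilradical A).map (algebraMap A S))) :=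
    isLocalHom_quot A S (nilradical A)
  haveI : Hensel.IsHenselization (A ⧸ nilradical A) (S ⧸ (nilradical A).map (algebraMap A S)) :=
    Groth.Agent.S13598.result (nilradical A) hN
  have hiff : (nilradical S).IsPrime ↔ IsDomain (S ⧸ (nilradical A).map (algebraMap A S)) := by
    rw [Ideal.Quotient.isDomain_iff_prime, hmap]
  rw [hiff]
  constructor
  · rintro ⟨hdom, hloc⟩
    haveI : IsDomain (A ⧸ nilradical A) := hdom
    exact isDomain_henselization_of_isLocalRing (A ⧸ nilradical A)
      (S ⧸ (nilradical A).map (algebraMap A S)) hloc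
  · intro hdom
    haveI := hdom
    haveI : Module.FaithfullyFlat (A ⧸ nilradical A) (S ⧸ (nilradical A).map (algebraMap A S)) :=
      Groth.Agent.S0509.result _ _
    have hinj : Function.Injective
        (algebraMap (A ⧸ nilradical A) (S ⧸ (nilradical A).map (algebraMap A S))) :=
      FaithfulSMul.algebraMap_injective _ _
    haveI hd : IsDomain (A ⧸ nilradical A) := hinj.isDomain _
    exact ⟨hd, isLocalRing_of_isDomain_henselization (A ⧸ nilradical A)
      (S ⧸ (nilradical A).map (algebraMap A S))⟩

theorem isUnibranch_iff_hasUniqueMinimalPrime :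
    CAlg2.IsUnibranch A ↔ CAlgX.HasUniqueMinimalPrime S := by
  rw [hasUniqueMinimalPrime_iff_isPrime_nilradical]
  exact isUnibranch_iff_isPrime_nilradical A S

theorem reduced_and_isUnibranch_iff_isDomain :
    (IsReduced A ∧ CAlg2.IsUnibranch A) ↔ IsDomain S := by
  rw [isUnibranch_iff_isPrime_nilradical A S, Groth.Agent.S0514.result A S]
  constructor
  · rintro ⟨hred, hprime⟩
    have h0 : nilradical S = ⊥ := nilradical_eq_bot_iff.mpr hred
    rw [h0] at hprime
    haveI := hprime
    exact IsDomain.of_bot_isPrime S
  · intro hdom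
    haveI := hdom
    refine ⟨inferInstance, ?_⟩
    have h0 : nilradical S = ⊥ := nilradical_eq_bot_iff.mpr inferInstance
    rw [h0]
    exact Ideal.isPrime_bot

end main

end Groth.Agent.Helper8.HensUB
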