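import Mathlib
import Groth.Prelude
import Groth.Agent.Lib.Helper8.HensGU4
import Groth.Agent.Lib.Helper8.HensBij2
import Groth.Agent.Lib.Helper8.HensUB2
import Groth.Agent.S1972
import Groth.Agent.S2747

/-!
# Geometrically unibranch local rings and the strict henselization
-/

set_option autoImplicit false

universe u

namespace Groth.Agent.Helper8.HensGU

open TensorProduct IsLocalRing

section main

variable (A Ash : Type u) [CommRing A] [IsLocalRing A]
  [CommRing Ash] [IsLocalRing Ash] [Algebra A Ash] [IsLocalHom (algebraMap A Ash)]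
  [Hensel.IsStrictHenselization A Ash]

theorem isGeomUnibranch_iff_hasUniqueMinimalPrime :
    CAlg2.IsGeomUnibranch A ↔ CAlgX.HasUniqueMinimalPrime Ash := by
  haveI hff : Module.FaithfullyFlat A Ash := Groth.Agent.S0539.result A Ash
  have hmap : (nilradical A).map (algebraMap A Ash) = nilradical Ash :=
    Groth.Agent.S1972.result A Ash (Or.inr inferInstance)
  have hb := Groth.Agent.Helper8.HensBij.bijOn_comap_includeRight A Ash hmap.le
  haveI : Algebra.IsIntegral A (CAlg2.red A) :=
    Algebra.isIntegral_of_surjective Ideal.Quotient.mk_surjective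
  haveI : Algebra.IsIntegral A (CAlg2.normRed A) := Algebra.IsIntegral.trans (CAlg2.red A)
  constructor
  · rintro ⟨⟨hdom, hloc⟩, hpi⟩
    haveI := hdom
    haveI := hloc
    haveI : IsLocalHom (algebraMap A (CAlg2.normRed A)) :=
      Groth.Agent.Helper7.Hensel.isLocalHom_of_isIntegral
    haveI : IsIntegrallyClosed (CAlg2.normRed A) :=
      integralClosure.isIntegrallyClosedOfFiniteExtension (FractionRing (CAlg2.red A))
    have hpi' : ∀ x : (CAlg2.normRed A) ⧸ maximalIdeal (CAlg2.normRed A), ∃ n : ℕ,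
        x ^ (ringExpChar ((CAlg2.normRed A) ⧸ maximalIdeal (CAlg2.normRed A))) ^ n ∈
          (algebraMap A ((CAlg2.normRed A) ⧸ maximalIdeal (CAlg2.normRed A))).range := by
      intro x
      obtain ⟨n, a, ha⟩ := hpi (maximalIdeal (CAlg2.normRed A)) x
      exact ⟨n, a, Eq.trans rfl ha⟩
    haveI hT : IsDomain ((CAlg2.normRed A) ⊗[A] Ash) :=
      isDomain_tensor_strictHenselization A (CAlg2.normRed A) Ash hpi'
    have hmin : minimalPrimes ((CAlg2.normRed A) ⊗[A] Ash) = {⊥} :=
      IsDomain.minimalPrimes_eq_singleton_bot _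
    refine ⟨_, hb.mapsTo (by rw [hmin]; exact rfl : (⊥ : Ideal _) ∈ minimalPrimes _), ?_⟩
    intro p hp
    obtain ⟨P, hP, rfl⟩ := hb.surjOn hp
    rw [hmin] at hP
    rw [Set.mem_singleton_iff.mp hP]
  · intro h
    have hnilp : (nilradical Ash).IsPrime :=
      (Groth.Agent.Helper8.HensUB.hasUniqueMinimalPrime_iff_isPrime_nilradical Ash).mp h
    have hcomap : nilradical A = (nilradical Ash).comap (algebraMap A Ash) := by
      rw [← hmap, Ideal.comap_map_eq_self_of_faithfullyFlat]
    haveI hprime : (nilradical A).IsPrime := by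
      rw [hcomap]
      exact Ideal.IsPrime.comap _
    have hdom : IsDomain (CAlg2.red A) := Ideal.Quotient.isDomain _
    haveI := hdom
    obtain ⟨p, hp, hpuniq⟩ := h
    have huniq : ∃! q : Ideal ((CAlg2.normRed A) ⊗[A] Ash),
        q ∈ minimalPrimes ((CAlg2.normRed A) ⊗[A] Ash) := by
      obtain ⟨P, hP, -⟩ := hb.surjOn hp
      refine ⟨P, hP, fun P' hP' => ?_⟩
      apply hb.injOn hP' hP
      show Ideal.comap _ P' = Ideal.comap _ P
      rw [hpuniq _ (hb.mapsTo hP'), hpuniq _ (hb.mapsTo hP)]
    haveI hhens : HenselianLocalRing Ash := Hensel.IsStrictHenselization.henselian A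
    haveI hTloc : IsLocalRing ((CAlg2.normRed A) ⊗[A] Ash) :=
      isLocalRing_tensor_of_unique_minimalPrime A (CAlg2.normRed A) Ash huniq
    have hloc : IsLocalRing (CAlg2.normRed A) :=
      Groth.Agent.Helper8.UB.isLocalRing_of_faithfullyFlat (CAlg2.normRed A)
        ((CAlg2.normRed A) ⊗[A] Ash)
    haveI := hloc
    haveI : IsLocalHom (algebraMap A (CAlg2.normRed A)) :=
      Groth.Agent.Helper7.Hensel.isLocalHom_of_isIntegral
    haveI : IsSepClosure (ResidueField A) (ResidueField Ash) :=
      Hensel.IsStrictHenselization.isSepClosure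
    haveI : IsSepClosed (ResidueField Ash) := IsSepClosure.sep_closed (ResidueField A)
    refine ⟨⟨hdom, hloc⟩, ?_⟩
    intro m' hm' x
    have hm : m' = maximalIdeal (CAlg2.normRed A) := IsLocalRing.eq_maximalIdeal hm'
    subst hm
    obtain ⟨n, a, ha⟩ := pow_mem_of_isLocalRing_tensor A (CAlg2.normRed A) Ash x
    exact ⟨n, a, Eq.trans rfl ha⟩

theorem reduced_and_isGeomUnibranch_iff_isDomain :
    (IsReduced A ∧ CAlg2.IsGeomUnibranch A) ↔ IsDomain Ash := by
  rw [isGeomUnibranch_iff_hasUniqueMinimalPrime A Ash,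
    Groth.Agent.Helper8.HensUB.hasUniqueMinimalPrime_iff_isPrime_nilradical,
    ← Groth.Agent.S2747.result A Ash]
  constructor
  · rintro ⟨hred, hprime⟩
    have h0 : nilradical Ash = ⊥ := nilradical_eq_bot_iff.mpr hred
    rw [h0] at hprime
    haveI := hprime
    exact IsDomain.of_bot_isPrime Ash
  · intro hdom
    haveI := hdom
    refine ⟨inferInstance, ?_⟩
    have h0 : nilradical Ash = ⊥ := nilradical_eq_bot_iff.mpr inferInstance
    rw [h0]
    exact Ideal.isPrime_bot

end main

end Groth.Agent.Helper8.HensGU
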