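import Mathlib
import Groth.Prelude
import Groth.Agent.Lib.Helper8.HensGU1

/-!
# Localizations of the base change of the ind-étale model to a normal ring are domains
-/

set_option autoImplicit false

universe u

namespace Groth.Agent.Helper8.HensGU

open TensorProduct IsLocalRing Groth.Agent.Helper7.SHens

section etale

variable (B₀ E : Type u) [CommRing B₀] [CommRing E] [Algebra B₀ E] [Algebra.Etale B₀ E]

/-- Étale algebras over a ring with normal local rings have normal local rings. -/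
theorem normal_localization_of_etale
    (hB : ∀ (P : Ideal B₀) [P.IsPrime],
      IsDomain (Localization.AtPrime P) ∧ IsIntegrallyClosed (Localization.AtPrime P))
    (Q : Ideal E) [Q.IsPrime] :
    IsDomain (Localization.AtPrime Q) ∧ IsIntegrallyClosed (Localization.AtPrime Q) := by
  let P : Ideal B₀ := Q.comap (algebraMap B₀ E)
  haveI : P.IsPrime := Ideal.IsPrime.comap _
  letI : Algebra (Localization.AtPrime P) (Localization.AtPrime Q) :=
    (Localization.localRingHom P Q (algebraMap B₀ E) rfl).toAlgebra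
  haveI : IsScalarTower B₀ (Localization.AtPrime P) (Localization.AtPrime Q) :=
    .of_algebraMap_eq fun x => (Localization.localRingHom_to_map _ _ _ rfl x).symm
  obtain ⟨hd, hic⟩ := hB P
  haveI := hd
  haveI := hic
  haveI : Module.Flat (Localization.AtPrime P) (Localization.AtPrime Q) := by
    have hf : (algebraMap B₀ E).Flat := by
      rw [RingHom.flat_algebraMap_iff]
      infer_instance
    exact hf.localRingHom Q P rfl
  exact Groth.Agent.S0066.normal_of_etale (A₀ := B₀) (B₀ := E) (A := Localization.AtPrime P)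
    (B := Localization.AtPrime Q) P Q

end etale

section domain

variable {A : Type u} [CommRing A] {Ω : Type u} [CommRing Ω] [Algebra A Ω]
  (B : Type u) [CommRing B] [Algebra A B]

theorem exists_rep_tensor₂' (x y : B ⊗[A] G A Ω) :
    ∃ (U : Nbhd A Ω) (a b : B ⊗[A] U.Ring), tι B U a = x ∧ tι B U b = y := by
  obtain ⟨U, a, rfl⟩ := exists_rep_tensor B x
  obtain ⟨U', b, rfl⟩ := exists_rep_tensor B y
  obtain ⟨Z, f, g, -⟩ := Nbhd.exists_cocone_objs U U'
  exact ⟨Z, tmap B f a, tmap B g b, tι_tmap B f a, tι_tmap B g b⟩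

theorem exists_rep_tensor₃ (x y z : B ⊗[A] G A Ω) :
    ∃ (U : Nbhd A Ω) (a b c : B ⊗[A] U.Ring), tι B U a = x ∧ tι B U b = y ∧ tι B U c = z := by
  obtain ⟨U, a, b, rfl, rfl⟩ := exists_rep_tensor₂' B x y
  obtain ⟨U', c, rfl⟩ := exists_rep_tensor B z
  obtain ⟨Z, f, g, -⟩ := Nbhd.exists_cocone_objs U U'
  exact ⟨Z, tmap B f a, tmap B f b, tmap B g c, tι_tmap B f a, tι_tmap B f b, tι_tmap B g c⟩

/-- If all local rings of `B` are normal domains, the local rings of `B ⊗ G` are domains. -/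
theorem isDomain_localization_tensor_G
    (hB : ∀ (P : Ideal B) [P.IsPrime],
      IsDomain (Localization.AtPrime P) ∧ IsIntegrallyClosed (Localization.AtPrime P))
    (m : Ideal (B ⊗[A] G A Ω)) [hm : m.IsPrime] : IsDomain (Localization.AtPrime m) := by
  rw [isDomain_iff_noZeroDivisors_and_nontrivial]
  refine ⟨⟨?_⟩, inferInstance⟩
  intro x y hxy
  obtain ⟨a, s, rfl⟩ := IsLocalization.exists_mk'_eq m.primeCompl x
  obtain ⟨b, t, rfl⟩ := IsLocalization.exists_mk'_eq m.primeCompl y
  rw [← IsLocalization.mk'_mul, IsLocalization.mk'_eq_zero_iff] at hxy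
  obtain ⟨⟨u, hu⟩, huab⟩ := hxy
  simp only at huab
  -- it suffices to kill `a` or `b` by an element outside `m`
  suffices h : (∃ v : B ⊗[A] G A Ω, v ∉ m ∧ v * a = 0) ∨ (∃ v : B ⊗[A] G A Ω, v ∉ m ∧ v * b = 0) by
    rcases h with ⟨v, hv, hva⟩ | ⟨v, hv, hvb⟩
    · left
      rw [IsLocalization.mk'_eq_zero_iff]
      exact ⟨⟨v, hv⟩, hva⟩
    · right
      rw [IsLocalization.mk'_eq_zero_iff]
      exact ⟨⟨v, hv⟩, hvb⟩
  obtain ⟨U, u₀, a₀, b₀, rfl, rfl, rfl⟩ := exists_rep_tensor₃ B u a b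
  have h0 : tι B U (u₀ * (a₀ * b₀)) = 0 := by rw [map_mul, map_mul, huab]
  obtain ⟨V, f, hf⟩ := exists_tmap_eq_zero B (u₀ * (a₀ * b₀)) h0
  rw [map_mul, map_mul] at hf
  rw [← tι_tmap B f u₀] at hu
  rw [← tι_tmap B f a₀, ← tι_tmap B f b₀]
  set u' := tmap B f u₀
  set a' := tmap B f a₀
  set b' := tmap B f b₀
  let Q : Ideal (B ⊗[A] V.Ring) := m.comap (tι B V).toRingHom
  haveI : Q.IsPrime := Ideal.IsPrime.comap _
  haveI := (normal_localization_of_etale B (B ⊗[A] V.Ring) hB Q).1
  have hu' : u' ∉ Q := hu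
  have key : ∀ c : B ⊗[A] V.Ring, algebraMap _ (Localization.AtPrime Q) c = 0 →
      ∃ v : B ⊗[A] G A Ω, v ∉ m ∧ v * tι B V c = 0 := by
    intro c hc
    obtain ⟨⟨s, hs⟩, hsc⟩ := (IsLocalization.map_eq_zero_iff Q.primeCompl _ c).mp hc
    exact ⟨tι B V s, hs, by rw [← map_mul, hsc, map_zero]⟩
  have hu0 : algebraMap _ (Localization.AtPrime Q) u' ≠ 0 := by
    intro h
    obtain ⟨⟨s, hs⟩, hsc⟩ := (IsLocalization.map_eq_zero_iff Q.primeCompl _ u').mp h
    have : s * u' ∈ Q := by rw [hsc]; exact Q.zero_mem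
    rcases (inferInstance : Q.IsPrime).mem_or_mem this with h1 | h1
    · exact hs h1
    · exact hu' h1
  have h4 : algebraMap _ (Localization.AtPrime Q) u' *
      (algebraMap _ (Localization.AtPrime Q) a' * algebraMap _ (Localization.AtPrime Q) b') = 0 := by
    rw [← map_mul, ← map_mul, hf, map_zero]
  rcases mul_eq_zero.mp ((mul_eq_zero.mp h4).resolve_left hu0) with h5 | h5
  · exact Or.inl (key a' h5)
  · exact Or.inr (key b' h5)

end domain

end Groth.Agent.Helper8.HensGU
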