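import Mathlib
import Groth.Prelude
import Groth.Agent.Lib.Helper8.HensGU4
import Groth.Agent.Lib.Helper8.HensGU6
import Groth.Agent.Lib.Helper8.NormRed2

/-!
# Minimal primes and maximal ideals of `A' ⊗ A^sh`
-/

set_option autoImplicit false

universe u

namespace Groth.Agent.Helper8.HensGU

open TensorProduct IsLocalRing Groth.Agent.Helper7.SHens

section generic

variable {T T' : Type u} [CommRing T] [CommRing T']

theorem isDomain_localization_of_ringEquiv (E : T ≃+* T') (m : Ideal T) [m.IsPrime]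
    (h : ∀ (m' : Ideal T') [m'.IsPrime], IsDomain (Localization.AtPrime m')) :
    IsDomain (Localization.AtPrime m) := by
  let m' : Ideal T' := m.comap E.symm.toRingHom
  haveI : m'.IsPrime := Ideal.IsPrime.comap _
  have H : m.primeCompl.map E.toMonoidHom = m'.primeCompl := by
    ext x
    simp only [Submonoid.mem_map, Ideal.mem_primeCompl_iff, m', Ideal.mem_comap]
    constructor
    · rintro ⟨y, hy, rfl⟩
      simpa using hy
    · intro hx
      exact ⟨E.symm x, hx, by simp⟩
  haveI := h m'
  exact (IsLocalization.ringEquivOfRingEquiv (Localization.AtPrime m) (Localization.AtPrime m')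
    E H).toMulEquiv.isDomain _

theorem existsUnique_minimalPrime_le (m : Ideal T) [hm : m.IsPrime]
    [IsDomain (Localization.AtPrime m)] : ∃! q : Ideal T, q ∈ minimalPrimes T ∧ q ≤ m := by
  obtain ⟨q₀, hq₀, hq₀m⟩ := Ideal.exists_minimalPrimes_le (bot_le : (⊥ : Ideal T) ≤ m)
  have hmin := IsLocalization.minimalPrimes_map m.primeCompl (Localization.AtPrime m) (⊥ : Ideal T)
  rw [Ideal.map_bot] at hmin
  have hbot : (⊥ : Ideal (Localization.AtPrime m)).minimalPrimes = {⊥} :=
    IsDomain.minimalPrimes_eq_singleton_bot _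
  have key : ∀ q : Ideal T, q ∈ minimalPrimes T → q ≤ m →
      q = (⊥ : Ideal (Localization.AtPrime m)).under T := by
    intro q hq hqm
    have hqp : q.IsPrime := hq.1.1
    have hdisj : Disjoint (m.primeCompl : Set T) q := by
      rw [Set.disjoint_left]
      intro x hx hxq
      exact hx (hqm hxq)
    have hu := IsLocalization.under_map_of_isPrime_disjoint m.primeCompl
      (Localization.AtPrime m) hqp hdisj
    have hmem : q.map (algebraMap T (Localization.AtPrime m)) ∈
        (⊥ : Ideal (Localization.AtPrime m)).minimalPrimes := by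
      rw [hmin, Set.mem_preimage, hu]
      exact hq
    rw [hbot, Set.mem_singleton_iff] at hmem
    rw [← hmem, hu]
  refine ⟨q₀, ⟨hq₀, hq₀m⟩, ?_⟩
  rintro q ⟨hq, hqm⟩
  rw [key q hq hqm, key q₀ hq₀ hq₀m]

end generic

section unique_max

variable (A B S : Type u) [CommRing A] [CommRing B]
  [Algebra A B] [Algebra.IsIntegral A B]
  [CommRing S] [Algebra A S] [HenselianLocalRing S]

attribute [local instance] Algebra.TensorProduct.rightAlgebra in
/-- Over a henselian local ring, a prime of an integral base change lies in a unique maximal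
ideal. -/
theorem existsUnique_isMaximal_ge (q : Ideal (B ⊗[A] S)) [hq : q.IsPrime] :
    ∃! m : Ideal (B ⊗[A] S), m.IsMaximal ∧ q ≤ m := by
  haveI : Algebra.IsIntegral S (B ⊗[A] S) := isIntegral_rightAlgebra A S B
  haveI : Algebra.IsIntegral S ((B ⊗[A] S) ⧸ q) :=
    Algebra.IsIntegral.of_surjective (Ideal.Quotient.mkₐ S q) (Ideal.Quotient.mkₐ_surjective S q)
  haveI : IsLocalRing ((B ⊗[A] S) ⧸ q) :=
    Groth.Agent.Helper7.Hensel.isLocalRing_of_isIntegral_domain S _
  have hcm : ∀ M : Ideal (B ⊗[A] S), M.IsMaximal → q ≤ M →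
      M = (maximalIdeal ((B ⊗[A] S) ⧸ q)).comap (Ideal.Quotient.mk q) := by
    intro M hM hqM
    have hker : RingHom.ker (Ideal.Quotient.mk q) ≤ M := by
      rw [Ideal.mk_ker]; exact hqM
    have hmax : (M.map (Ideal.Quotient.mk q)).IsMaximal :=
      Ideal.IsMaximal.map_of_surjective_of_ker_le Ideal.Quotient.mk_surjective hker
    rw [← IsLocalRing.eq_maximalIdeal hmax,
      Ideal.comap_map_of_surjective _ Ideal.Quotient.mk_surjective, ← RingHom.ker_eq_comap_bot]
    exact (sup_eq_left.mpr hker).symm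
  obtain ⟨M, hM, hqM⟩ := Ideal.exists_le_maximal q hq.ne_top
  refine ⟨M, ⟨hM, hqM⟩, ?_⟩
  rintro M' ⟨hM', hqM'⟩
  rw [hcm M hM hqM, hcm M' hM' hqM']

end unique_max

section main

variable (A Ash : Type u) [CommRing A] [IsLocalRing A]
  [CommRing Ash] [IsLocalRing Ash] [Algebra A Ash] [IsLocalHom (algebraMap A Ash)]
  [Hensel.IsStrictHenselization A Ash]

theorem isDomain_localization_normRed_tensor (hfin : (minimalPrimes A).Finite)
    (m : Ideal ((CAlg2.normRed A) ⊗[A] Ash)) [m.IsPrime] : IsDomain (Localization.AtPrime m) := by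
  obtain ⟨e, -⟩ := exists_algEquiv_Model A Ash
  let E : (CAlg2.normRed A) ⊗[A] Ash ≃ₐ[A] (CAlg2.normRed A) ⊗[A] Model A Ash :=
    Algebra.TensorProduct.congr (AlgEquiv.refl : (CAlg2.normRed A) ≃ₐ[A] (CAlg2.normRed A)) e
  refine isDomain_localization_of_ringEquiv (T := (CAlg2.normRed A) ⊗[A] Ash)
    (T' := (CAlg2.normRed A) ⊗[A] Model A Ash) E.toRingEquiv m ?_
  intro m' hm'
  exact isDomain_localization_tensor_G (A := A) (Ω := IsLocalRing.ResidueField Ash)
    (CAlg2.normRed A)
    (fun P _ => Groth.Agent.Helper8.NormRed.normal_localization_normRed A hfin P) m'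

theorem unique_max_min (hfin : (minimalPrimes A).Finite) :
    (∀ q ∈ minimalPrimes ((CAlg2.normRed A) ⊗[A] Ash),
        ∃! m : Ideal ((CAlg2.normRed A) ⊗[A] Ash), m.IsMaximal ∧ q ≤ m) ∧
      (∀ m : Ideal ((CAlg2.normRed A) ⊗[A] Ash), m.IsMaximal →
        ∃! q : Ideal ((CAlg2.normRed A) ⊗[A] Ash),
          q ∈ minimalPrimes ((CAlg2.normRed A) ⊗[A] Ash) ∧ q ≤ m) := by
  haveI : Algebra.IsIntegral A (CAlg2.red A) :=
    Algebra.isIntegral_of_surjective Ideal.Quotient.mk_surjective
  haveI : Algebra.IsIntegral A (CAlg2.normRed A) := Algebra.IsIntegral.trans (CAlg2.red A)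
  haveI hhens : HenselianLocalRing Ash := Hensel.IsStrictHenselization.henselian A
  constructor
  · intro q hq
    haveI := hq.1.1
    exact existsUnique_isMaximal_ge A (CAlg2.normRed A) Ash q
  · intro m hm
    haveI := hm.isPrime
    haveI := isDomain_localization_normRed_tensor A Ash hfin m
    exact existsUnique_minimalPrime_le (T := (CAlg2.normRed A) ⊗[A] Ash) m

end main

end Groth.Agent.Helper8.HensGU
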