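import Mathlib
import Groth.Prelude
import Groth.Agent.Lib.Helper8.HensGU7
import Groth.Agent.Lib.Helper8.HensBij2
import Groth.Agent.Lib.Helper7.SHens.HensModel
import Groth.Agent.S0508
import Groth.Agent.S0509
import Groth.Agent.S1972

/-!
# Number of branches and minimal primes of the henselization
-/

set_option autoImplicit false

universe u

namespace Groth.Agent.Helper8.HensGU

open TensorProduct IsLocalRing Groth.Agent.Helper7.SHens

section model

variable (A S : Type u) [CommRing A] [CommRing S] [Algebra A S] [HenselianLocalRing S]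
  {Ω : Type u} [CommRing Ω] [Algebra A Ω]

theorem unique_max_min_of_model (e : S ≃ₐ[A] G A Ω) (hfin : (minimalPrimes A).Finite) :
    (∀ q ∈ minimalPrimes ((CAlg2.normRed A) ⊗[A] S),
        ∃! m : Ideal ((CAlg2.normRed A) ⊗[A] S), m.IsMaximal ∧ q ≤ m) ∧
      (∀ m : Ideal ((CAlg2.normRed A) ⊗[A] S), m.IsMaximal →
        ∃! q : Ideal ((CAlg2.normRed A) ⊗[A] S),
          q ∈ minimalPrimes ((CAlg2.normRed A) ⊗[A] S) ∧ q ≤ m) := by
  haveI : Algebra.IsIntegral A (CAlg2.red A) :=
    Algebra.isIntegral_of_surjective Ideal.Quotient.mk_surjective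
  haveI : Algebra.IsIntegral A (CAlg2.normRed A) := Algebra.IsIntegral.trans (CAlg2.red A)
  constructor
  · intro q hq
    haveI := hq.1.1
    exact existsUnique_isMaximal_ge A (CAlg2.normRed A) S q
  · intro m hm
    haveI := hm.isPrime
    let E : (CAlg2.normRed A) ⊗[A] S ≃ₐ[A] (CAlg2.normRed A) ⊗[A] G A Ω :=
      Algebra.TensorProduct.congr (AlgEquiv.refl : (CAlg2.normRed A) ≃ₐ[A] (CAlg2.normRed A)) e
    haveI : IsDomain (Localization.AtPrime m) := by
      refine isDomain_localization_of_ringEquiv (T := (CAlg2.normRed A) ⊗[A] S)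
        (T' := (CAlg2.normRed A) ⊗[A] G A Ω) E.toRingEquiv m ?_
      intro m' hm'
      exact isDomain_localization_tensor_G (A := A) (Ω := Ω) (CAlg2.normRed A)
        (fun P _ => Groth.Agent.Helper8.NormRed.normal_localization_normRed A hfin P) m'
    exact existsUnique_minimalPrime_le (T := (CAlg2.normRed A) ⊗[A] S) m

/-- The bijection between minimal primes and maximal ideals. -/
theorem nonempty_equiv_minimalPrimes_maximalSpectrum {T : Type u} [CommRing T]
    (h1 : ∀ q ∈ minimalPrimes T, ∃! m : Ideal T, m.IsMaximal ∧ q ≤ m)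
    (h2 : ∀ m : Ideal T, m.IsMaximal → ∃! q : Ideal T, q ∈ minimalPrimes T ∧ q ≤ m) :
    Nonempty (minimalPrimes T ≃ MaximalSpectrum T) := by
  let f : minimalPrimes T → MaximalSpectrum T := fun q =>
    ⟨(h1 q.1 q.2).choose, (h1 q.1 q.2).choose_spec.1.1⟩
  have hf : ∀ q : minimalPrimes T, q.1 ≤ (f q).asIdeal := fun q => (h1 q.1 q.2).choose_spec.1.2
  refine ⟨Equiv.ofBijective f ⟨?_, ?_⟩⟩
  · intro q q' hqq'
    obtain ⟨q₀, -, hq₀⟩ := h2 (f q).asIdeal (f q).isMaximal
    apply Subtype.ext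
    rw [hq₀ q.1 ⟨q.2, hf q⟩, hq₀ q'.1 ⟨q'.2, hqq' ▸ hf q'⟩]
  · intro m
    obtain ⟨q, ⟨hq, hqm⟩, -⟩ := h2 m.asIdeal m.isMaximal
    refine ⟨⟨q, hq⟩, ?_⟩
    obtain ⟨m₀, -, hm₀⟩ := h1 q hq
    apply MaximalSpectrum.ext
    rw [hm₀ (f ⟨q, hq⟩).asIdeal ⟨(f ⟨q, hq⟩).isMaximal, hf ⟨q, hq⟩⟩, hm₀ m.asIdeal ⟨m.isMaximal, hqm⟩]

end model

section maxspec

variable (A B S : Type u) [CommRing A] [IsLocalRing A] [CommRing B] [Algebra A B]
  [Algebra.IsIntegral A B]
  [CommRing S] [IsLocalRing S] [Algebra A S] [IsLocalHom (algebraMap A S)]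

attribute [local instance] Algebra.TensorProduct.rightAlgebra in
theorem map_maximalIdeal_includeRight_le (m : Ideal (B ⊗[A] S)) [hm : m.IsMaximal] :
    (maximalIdeal S).map (Algebra.TensorProduct.includeRight : S →ₐ[A] B ⊗[A] S) ≤ m := by
  haveI : Algebra.IsIntegral S (B ⊗[A] S) := isIntegral_rightAlgebra A S B
  have h1 : (maximalIdeal S).map (algebraMap S (B ⊗[A] S)) ≤ m := by
    rw [Ideal.map_le_iff_le_comap]
    haveI : (m.comap (algebraMap S (B ⊗[A] S))).IsMaximal :=
      Ideal.isMaximal_comap_of_isIntegral_of_isMaximal m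
    rw [IsLocalRing.eq_maximalIdeal (I := m.comap (algebraMap S (B ⊗[A] S))) inferInstance]
  exact h1

theorem isMaximal_comap_includeLeft (m : Ideal (B ⊗[A] S)) [hm : m.IsMaximal] :
    (m.comap (Algebra.TensorProduct.includeLeft : B →ₐ[A] B ⊗[A] S).toRingHom).IsMaximal := by
  haveI := hm.isPrime
  haveI hp : (m.comap (Algebra.TensorProduct.includeLeft : B →ₐ[A] B ⊗[A] S).toRingHom).IsPrime :=
    Ideal.IsPrime.comap _
  apply Ideal.isMaximal_of_isIntegral_of_isMaximal_comap (R := A)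
  have hA : (m.comap (Algebra.TensorProduct.includeLeft : B →ₐ[A] B ⊗[A] S).toRingHom).comap
      (algebraMap A B) = maximalIdeal A := by
    apply le_antisymm
    · apply IsLocalRing.le_maximalIdeal
      exact (Ideal.IsPrime.comap _).ne_top
    · intro a ha
      rw [Ideal.mem_comap, Ideal.mem_comap]
      have h1 : (Algebra.TensorProduct.includeLeft : B →ₐ[A] B ⊗[A] S).toRingHom (algebraMap A B a)
          = (Algebra.TensorProduct.includeRight : S →ₐ[A] B ⊗[A] S) (algebraMap A S a) := by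
        simp [Algebra.algebraMap_eq_smul_one]
      rw [h1]
      apply map_maximalIdeal_includeRight_le A B S m
      apply Ideal.mem_map_of_mem
      exact IsLocalRing.map_maximalIdeal_le (algebraMap A S) (Ideal.mem_map_of_mem _ ha)
  rw [hA]
  exact maximalIdeal.isMaximal A

theorem exists_sub_tmul_mem
    (hres : Function.Surjective (IsLocalRing.ResidueField.map (algebraMap A S)))
    (x : B ⊗[A] S) : ∃ c : B, x - c ⊗ₜ[A] (1 : S) ∈
      (maximalIdeal S).map (Algebra.TensorProduct.includeRight : S →ₐ[A] B ⊗[A] S) := by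
  induction x using TensorProduct.induction_on with
  | zero => exact ⟨0, by simp⟩
  | tmul b s =>
    obtain ⟨y, hy⟩ := hres (IsLocalRing.residue S s)
    obtain ⟨α, rfl⟩ := IsLocalRing.residue_surjective y
    have hmem : s - algebraMap A S α ∈ maximalIdeal S := by
      rw [← Ideal.Quotient.eq]
      exact hy.symm
    refine ⟨α • b, ?_⟩
    have : b ⊗ₜ[A] s - (α • b) ⊗ₜ[A] (1 : S) =
        (b ⊗ₜ[A] (1 : S)) * (Algebra.TensorProduct.includeRight : S →ₐ[A] B ⊗[A] S)
          (s - algebraMap A S α) := by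
      rw [Algebra.TensorProduct.includeRight_apply, Algebra.TensorProduct.tmul_mul_tmul, mul_one,
        one_mul, TensorProduct.tmul_sub, TensorProduct.smul_tmul, Algebra.algebraMap_eq_smul_one]
    rw [this]
    exact Ideal.mul_mem_left _ _ (Ideal.mem_map_of_mem _ hmem)
  | add x y hx hy =>
    obtain ⟨c, hc⟩ := hx
    obtain ⟨d, hd⟩ := hy
    refine ⟨c + d, ?_⟩
    have : x + y - (c + d) ⊗ₜ[A] (1 : S) = (x - c ⊗ₜ[A] (1 : S)) + (y - d ⊗ₜ[A] (1 : S)) := by
      rw [TensorProduct.add_tmul]; ring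
    rw [this]
    exact Ideal.add_mem _ hc hd

theorem eq_of_comap_includeLeft_eq
    (hres : Function.Surjective (IsLocalRing.ResidueField.map (algebraMap A S)))
    (m m' : Ideal (B ⊗[A] S)) [hm : m.IsMaximal] [hm' : m'.IsMaximal]
    (h : m.comap (Algebra.TensorProduct.includeLeft : B →ₐ[A] B ⊗[A] S).toRingHom =
      m'.comap (Algebra.TensorProduct.includeLeft : B →ₐ[A] B ⊗[A] S).toRingHom) : m = m' := by
  have key : ∀ (m m' : Ideal (B ⊗[A] S)) [m.IsMaximal] [m'.IsMaximal],
      m.comap (Algebra.TensorProduct.includeLeft : B →ₐ[A] B ⊗[A] S).toRingHom =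
      m'.comap (Algebra.TensorProduct.includeLeft : B →ₐ[A] B ⊗[A] S).toRingHom → m ≤ m' := by
    intro m m' _ _ h x hx
    obtain ⟨c, hc⟩ := exists_sub_tmul_mem A B S hres x
    have h1 : c ⊗ₜ[A] (1 : S) ∈ m := by
      have := m.sub_mem hx (map_maximalIdeal_includeRight_le A B S m hc)
      simpa using this
    have h2 : c ∈ m.comap (Algebra.TensorProduct.includeLeft : B →ₐ[A] B ⊗[A] S).toRingHom := h1
    rw [h] at h2
    have h3 : c ⊗ₜ[A] (1 : S) ∈ m' := h2
    have := m'.add_mem h3 (map_maximalIdeal_includeRight_le A B S m' hc)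
    simpa using this
  exact le_antisymm (key m m' h) (key m' m h.symm)

theorem exists_isMaximal_comap_includeLeft_eq [Module.FaithfullyFlat A S]
    (n : Ideal B) [hn : n.IsMaximal] :
    ∃ m : Ideal (B ⊗[A] S), m.IsMaximal ∧
      m.comap (Algebra.TensorProduct.includeLeft : B →ₐ[A] B ⊗[A] S).toRingHom = n := by
  haveI := hn.isPrime
  obtain ⟨Q, hQ, hQn⟩ := Ideal.exists_isPrime_liesOver_of_faithfullyFlat (B := B ⊗[A] S) n
  obtain ⟨m, hm, hQm⟩ := Ideal.exists_le_maximal Q hQ.ne_top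
  refine ⟨m, hm, ?_⟩
  haveI := hm.isPrime
  have hle : n ≤ m.comap (Algebra.TensorProduct.includeLeft : B →ₐ[A] B ⊗[A] S).toRingHom := by
    rw [hQn.over]
    exact Ideal.comap_mono hQm
  exact (hn.eq_of_le (Ideal.IsPrime.comap _).ne_top hle).symm

theorem nonempty_equiv_maximalSpectrum [Module.FaithfullyFlat A S]
    (hres : Function.Surjective (IsLocalRing.ResidueField.map (algebraMap A S))) :
    Nonempty (MaximalSpectrum (B ⊗[A] S) ≃ MaximalSpectrum B) := by
  let f : MaximalSpectrum (B ⊗[A] S) → MaximalSpectrum B := fun m =>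
    ⟨m.asIdeal.comap (Algebra.TensorProduct.includeLeft : B →ₐ[A] B ⊗[A] S).toRingHom,
      isMaximal_comap_includeLeft A B S m.asIdeal⟩
  refine ⟨Equiv.ofBijective f ⟨?_, ?_⟩⟩
  · intro m m' h
    apply MaximalSpectrum.ext
    exact eq_of_comap_includeLeft_eq A B S hres m.asIdeal m'.asIdeal
      (congrArg MaximalSpectrum.asIdeal h)
  · intro n
    obtain ⟨m, hm, hmn⟩ := exists_isMaximal_comap_includeLeft_eq A B S n.asIdeal
    exact ⟨⟨m, hm⟩, MaximalSpectrum.ext hmn⟩

end maxspec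

end Groth.Agent.Helper8.HensGU
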