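import Mathlib
import Groth.Prelude
import Groth.Agent.Lib.Helper8.HensGU8

/-!
# `numBranches` equals the number of minimal primes of the henselization
-/

set_option autoImplicit false

universe u

namespace Groth.Agent.Helper8.HensGU

open TensorProduct IsLocalRing Groth.Agent.Helper7.SHens

section infinite

variable (A S : Type u) [CommRing A] [CommRing S] [Algebra A S] [Module.FaithfullyFlat A S]

/-- Every minimal prime of `A` is the contraction of a minimal prime of a faithfully flat
algebra. -/
theorem minimalPrimes_subset_image_comap :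
    minimalPrimes A ⊆ Ideal.comap (algebraMap A S) '' minimalPrimes S := by
  intro p hp
  haveI := hp.1.1
  obtain ⟨Q', hQ', hQp⟩ := Ideal.exists_isPrime_liesOver_of_faithfullyFlat (B := S) p
  obtain ⟨Q, hQ, hQQ'⟩ := Ideal.exists_minimalPrimes_le (bot_le : (⊥ : Ideal S) ≤ Q')
  refine ⟨Q, hQ, ?_⟩
  haveI := hQ.1.1
  have hle : Q.comap (algebraMap A S) ≤ p := by
    rw [hQp.over]
    exact Ideal.comap_mono hQQ'
  exact le_antisymm hle (hp.2 ⟨Ideal.IsPrime.comap _, bot_le⟩ hle)

theorem infinite_minimalPrimes_of_faithfullyFlat (h : ¬ (minimalPrimes A).Finite) :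
    ¬ (minimalPrimes S).Finite := fun hfin =>
  h ((hfin.image _).subset (minimalPrimes_subset_image_comap A S))

end infinite

section main

variable (A S : Type u) [CommRing A] [IsLocalRing A] [CommRing S] [IsLocalRing S]
  [Algebra A S] [IsLocalHom (algebraMap A S)] [Hensel.IsHenselization A S]

theorem card_minimalPrimes_henselization :
    ENat.card (minimalPrimes S) = Brnch.numBranches A := by
  haveI hff : Module.FaithfullyFlat A S := Groth.Agent.S0509.result A S
  unfold Brnch.numBranches
  split_ifs with hfin
  · have hmap : (nilradical A).map (algebraMap A S) = nilradical S :=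
      Groth.Agent.S1972.result A S (Or.inl inferInstance)
    have hb := Groth.Agent.Helper8.HensBij.bijOn_comap_includeRight A S hmap.le
    haveI hhens : HenselianLocalRing S := Hensel.IsHenselization.henselian A
    obtain ⟨e⟩ := nonempty_algEquiv_HModel A S
    have h12 := unique_max_min_of_model A S e hfin
    obtain ⟨e1⟩ := nonempty_equiv_minimalPrimes_maximalSpectrum
      (T := (CAlg2.normRed A) ⊗[A] S) h12.1 h12.2
    haveI : Algebra.IsIntegral A (CAlg2.red A) :=
      Algebra.isIntegral_of_surjective Ideal.Quotient.mk_surjective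
    haveI : Algebra.IsIntegral A (CAlg2.normRed A) := Algebra.IsIntegral.trans (CAlg2.red A)
    obtain ⟨e2⟩ := nonempty_equiv_maximalSpectrum A (CAlg2.normRed A) S
      (Groth.Agent.S0508.result A S).2
    rw [← ENat.card_congr (Set.BijOn.equiv _ hb), ENat.card_congr e1, ENat.card_congr e2]
  · rw [ENat.card_eq_top]
    exact Set.infinite_coe_iff.mpr (infinite_minimalPrimes_of_faithfullyFlat A S hfin)

end main

end Groth.Agent.Helper8.HensGU
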