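import Mathlib
import Groth.Prelude
import Groth.Agent.Lib.Helper8.HensGU8

/-!
# Maximal ideals of `B ⊗ A^sh` and embeddings of residue fields
-/

set_option autoImplicit false

universe u

namespace Groth.Agent.Helper8.HensGU

open TensorProduct IsLocalRing

section emb

variable (A B S : Type u) [CommRing A] [IsLocalRing A] [CommRing B] [Algebra A B]
  [Algebra.IsIntegral A B]
  [CommRing S] [IsLocalRing S] [Algebra A S] [IsLocalHom (algebraMap A S)]
  [IsSepClosure (ResidueField A) (ResidueField S)]

/-- The chosen embedding of the residue field of `S` into the algebraic closure. -/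
noncomputable def iota : ResidueField S →ₐ[ResidueField A] AlgebraicClosure (ResidueField A) :=
  haveI : Algebra.IsSeparable (ResidueField A) (ResidueField S) := IsSepClosure.separable
  IsAlgClosed.lift

/-- The map `S → κ̄`. -/
noncomputable def gS : S →+* AlgebraicClosure (ResidueField A) :=
  (iota A S).toRingHom.comp (residue S)

theorem gS_comp_algebraMap : (gS A S).comp (algebraMap A S) = Brnch.toClosure A := by
  ext a
  show iota A S (residue S (algebraMap A S a)) = _
  have : residue S (algebraMap A S a) = algebraMap (ResidueField A) (ResidueField S) (residue A a) :=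
    rfl
  rw [this, AlgHom.commutes]
  rfl

theorem ker_gS : RingHom.ker (gS A S) = maximalIdeal S := by
  ext x
  rw [RingHom.mem_ker]
  show iota A S (residue S x) = 0 ↔ _
  rw [map_eq_zero_iff (iota A S) (iota A S).toRingHom.injective, IsLocalRing.residue_eq_zero_iff]

/-- Ring maps out of the tensor product are determined by their restrictions. -/
theorem ringHom_ext_tensor {L : Type*} [CommRing L] (φ₁ φ₂ : B ⊗[A] S →+* L)
    (h1 : ∀ b : B, φ₁ (b ⊗ₜ 1) = φ₂ (b ⊗ₜ 1)) (h2 : ∀ s : S, φ₁ (1 ⊗ₜ s) = φ₂ (1 ⊗ₜ s)) :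
    φ₁ = φ₂ := by
  refine RingHom.ext fun x => ?_
  induction x using TensorProduct.induction_on with
  | zero => simp
  | tmul b s =>
    have : b ⊗ₜ[A] s = (b ⊗ₜ[A] (1 : S)) * ((1 : B) ⊗ₜ[A] s) := by
      rw [Algebra.TensorProduct.tmul_mul_tmul, mul_one, one_mul]
    rw [this, map_mul, map_mul, h1, h2]
  | add x y hx hy => rw [map_add, map_add, hx, hy]

/-- The ring map `B ⊗ S → κ̄` attached to a map `B → κ̄` over `A`. -/
noncomputable def phi (σ' : B →+* AlgebraicClosure (ResidueField A))
    (hσ' : σ'.comp (algebraMap A B) = Brnch.toClosure A) :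
    B ⊗[A] S →+* AlgebraicClosure (ResidueField A) :=
  letI : Algebra A (AlgebraicClosure (ResidueField A)) := (Brnch.toClosure A).toAlgebra
  (Algebra.TensorProduct.lift
    ({ σ' with commutes' := fun a => RingHom.congr_fun hσ' a } :
      B →ₐ[A] AlgebraicClosure (ResidueField A))
    ({ gS A S with commutes' := fun a => RingHom.congr_fun (gS_comp_algebraMap A S) a } :
      S →ₐ[A] AlgebraicClosure (ResidueField A))
    (fun _ _ => Commute.all _ _)).toRingHom

theorem phi_tmul (σ' : B →+* AlgebraicClosure (ResidueField A))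
    (hσ' : σ'.comp (algebraMap A B) = Brnch.toClosure A) (b : B) (s : S) :
    phi A B S σ' hσ' (b ⊗ₜ s) = σ' b * gS A S s := by
  letI : Algebra A (AlgebraicClosure (ResidueField A)) := (Brnch.toClosure A).toAlgebra
  show (Algebra.TensorProduct.lift _ _ _) (b ⊗ₜ[A] s) = _
  rw [Algebra.TensorProduct.lift_tmul]
  rfl

attribute [local instance] Algebra.TensorProduct.rightAlgebra in
/-- A ring map to a field restricting to `gS` on `S` has maximal kernel. -/
theorem isMaximal_ker_of_comp_includeRight (φ : B ⊗[A] S →+* AlgebraicClosure (ResidueField A))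
    (hφ : ∀ s : S, φ (1 ⊗ₜ s) = gS A S s) : (RingHom.ker φ).IsMaximal := by
  haveI : Algebra.IsIntegral S (B ⊗[A] S) := isIntegral_rightAlgebra A S B
  haveI : (RingHom.ker φ).IsPrime := RingHom.ker_isPrime φ
  apply Ideal.isMaximal_of_isIntegral_of_isMaximal_comap (R := S)
  have : (RingHom.ker φ).comap (algebraMap S (B ⊗[A] S)) = maximalIdeal S := by
    rw [← ker_gS A S]
    ext s
    rw [Ideal.mem_comap, RingHom.mem_ker, RingHom.mem_ker]
    show φ ((1 : B) ⊗ₜ[A] s) = 0 ↔ _
    rw [hφ]
  rw [this]
  exact maximalIdeal.isMaximal S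

end emb

end Groth.Agent.Helper8.HensGU
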