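import Mathlib
import Groth.Prelude
import Groth.Agent.Lib.Helper8.HensGU10

/-!
# Residue algebras at maximal ideals of an integral algebra over a local ring with separably closed
residue field: extension and uniqueness of ring maps to an algebraically closed field.
-/

set_option autoImplicit false

universe u v

namespace Groth.Agent.Helper8.HensGU

open IsLocalRing

section resAlg

variable (S : Type u) (T : Type v) [CommRing S] [IsLocalRing S] [CommRing T] [Algebra S T]
  [Algebra.IsIntegral S T] (M : Ideal T) [hM : M.IsMaximal]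

include hM in
theorem comap_algebraMap_eq_maximalIdeal : M.comap (algebraMap S T) = maximalIdeal S :=
  IsLocalRing.eq_maximalIdeal (Ideal.isMaximal_comap_of_isIntegral_of_isMaximal (R := S) M)

/-- The map from the residue field of `S` to the residue field of `T` at `M`. -/
noncomputable def resAlg : ResidueField S →+* T ⧸ M :=
  Ideal.Quotient.lift (maximalIdeal S) ((Ideal.Quotient.mk M).comp (algebraMap S T)) (by
    intro s hs
    rw [← comap_algebraMap_eq_maximalIdeal S T M, Ideal.mem_comap] at hs
    rw [RingHom.comp_apply, Ideal.Quotient.eq_zero_iff_mem]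
    exact hs)

theorem resAlg_residue (s : S) :
    resAlg S T M (residue S s) = Ideal.Quotient.mk M (algebraMap S T s) := rfl

theorem isAlgebraic_resAlg :
    letI : Field (T ⧸ M) := Ideal.Quotient.field M
    letI : Algebra (ResidueField S) (T ⧸ M) := (resAlg S T M).toAlgebra
    Algebra.IsAlgebraic (ResidueField S) (T ⧸ M) := by
  letI : Field (T ⧸ M) := Ideal.Quotient.field M
  letI : Algebra (ResidueField S) (T ⧸ M) := (resAlg S T M).toAlgebra
  haveI : IsScalarTower S (ResidueField S) (T ⧸ M) := IsScalarTower.of_algebraMap_eq fun s => rfl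
  haveI : Algebra.IsIntegral (ResidueField S) (T ⧸ M) := Algebra.IsIntegral.tower_top S
  exact Algebra.IsIntegral.isAlgebraic

/-- Uniqueness: two ring maps with the same maximal kernel agreeing on `S` are equal
when the residue field of `S` is separably closed. -/
theorem ringHom_eq_of_ker_eq [IsSepClosed (ResidueField S)] {L : Type*} [CommRing L] [IsReduced L]
    (φ₁ φ₂ : T →+* L) (h1 : RingHom.ker φ₁ = M) (h2 : RingHom.ker φ₂ = M)
    (h : φ₁.comp (algebraMap S T) = φ₂.comp (algebraMap S T)) : φ₁ = φ₂ := by
  letI : Field (T ⧸ M) := Ideal.Quotient.field M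
  letI : Algebra (ResidueField S) (T ⧸ M) := (resAlg S T M).toAlgebra
  haveI : Algebra.IsAlgebraic (ResidueField S) (T ⧸ M) := isAlgebraic_resAlg S T M
  haveI : IsPurelyInseparable (ResidueField S) (T ⧸ M) := inferInstance
  set ψ₁ : T ⧸ M →+* L := Ideal.Quotient.lift M φ₁ (fun x hx => by
    rw [← h1] at hx; exact hx) with hψ₁
  set ψ₂ : T ⧸ M →+* L := Ideal.Quotient.lift M φ₂ (fun x hx => by
    rw [← h2] at hx; exact hx) with hψ₂
  have key : ψ₁.comp (algebraMap (ResidueField S) (T ⧸ M)) =
      ψ₂.comp (algebraMap (ResidueField S) (T ⧸ M)) := by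
    apply Ideal.Quotient.ringHom_ext
    ext s
    exact RingHom.congr_fun h s
  have := IsPurelyInseparable.injective_comp_algebraMap (ResidueField S) (T ⧸ M) L key
  ext t
  have h' := RingHom.congr_fun this (Ideal.Quotient.mk M t)
  exact h'

/-- Existence: a maximal ideal is the kernel of a ring map to an algebraically closed field
extending a given embedding of the residue field. -/
theorem exists_ringHom_ker_eq {L : Type*} [Field L] [IsAlgClosed L]
    (ι : ResidueField S →+* L) :
    ∃ φ : T →+* L, RingHom.ker φ = M ∧ φ.comp (algebraMap S T) = ι.comp (residue S) := by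
  letI : Field (T ⧸ M) := Ideal.Quotient.field M
  letI : Algebra (ResidueField S) (T ⧸ M) := (resAlg S T M).toAlgebra
  haveI : Algebra.IsAlgebraic (ResidueField S) (T ⧸ M) := isAlgebraic_resAlg S T M
  letI : Algebra (ResidueField S) L := ι.toAlgebra
  let f : (T ⧸ M) →ₐ[ResidueField S] L := IsAlgClosed.lift
  refine ⟨f.toRingHom.comp (Ideal.Quotient.mk M), ?_, ?_⟩
  · ext t
    rw [RingHom.mem_ker, RingHom.comp_apply]
    show f (Ideal.Quotient.mk M t) = 0 ↔ _
    rw [map_eq_zero_iff f f.toRingHom.injective, Ideal.Quotient.eq_zero_iff_mem]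
  · ext s
    show f (Ideal.Quotient.mk M (algebraMap S T s)) = ι (residue S s)
    rw [← resAlg_residue]
    exact f.commutes (residue S s)

end resAlg

end Groth.Agent.Helper8.HensGU
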