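import Mathlib
import Groth.Prelude
import Groth.Agent.Lib.Helper8.HensGU11

/-!
# Maximal ideals of `B ⊗ A^sh` correspond to pairs (maximal ideal of `B`, embedding of its
residue field into the algebraic closure).
-/

set_option autoImplicit false

universe u

namespace Groth.Agent.Helper8.HensGU

open TensorProduct IsLocalRing

section bij

variable (A B S : Type u) [CommRing A] [IsLocalRing A] [CommRing B] [Algebra A B]
  [Algebra.IsIntegral A B]
  [CommRing S] [IsLocalRing S] [Algebra A S] [IsLocalHom (algebraMap A S)]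
  [IsSepClosure (ResidueField A) (ResidueField S)]

/-- Pairs of a maximal ideal of `B` and an embedding of its residue field over `A`. -/
def Pairs : Type u :=
  Σ m' : MaximalSpectrum B,
    {σ : B ⧸ m'.asIdeal →+* AlgebraicClosure (ResidueField A) //
      σ.comp ((Ideal.Quotient.mk m'.asIdeal).comp (algebraMap A B)) = Brnch.toClosure A}

theorem pairs_comp (p : Pairs A B) :
    (p.2.1.comp (Ideal.Quotient.mk p.1.asIdeal)).comp (algebraMap A B) = Brnch.toClosure A := by
  rw [RingHom.comp_assoc]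
  exact p.2.2

/-- The ring map `B ⊗ S → κ̄` attached to a pair. -/
noncomputable def pairPhi (p : Pairs A B) : B ⊗[A] S →+* AlgebraicClosure (ResidueField A) :=
  phi A B S (p.2.1.comp (Ideal.Quotient.mk p.1.asIdeal)) (pairs_comp A B p)

theorem pairPhi_tmul (p : Pairs A B) (b : B) (s : S) :
    pairPhi A B S p (b ⊗ₜ s) = p.2.1 (Ideal.Quotient.mk p.1.asIdeal b) * gS A S s :=
  phi_tmul A B S _ _ b s

theorem pairPhi_includeRight (p : Pairs A B) (s : S) :
    pairPhi A B S p (1 ⊗ₜ s) = gS A S s := by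
  rw [pairPhi_tmul, map_one, map_one, one_mul]

theorem pairPhi_includeLeft (p : Pairs A B) (b : B) :
    pairPhi A B S p (b ⊗ₜ 1) = p.2.1 (Ideal.Quotient.mk p.1.asIdeal b) := by
  rw [pairPhi_tmul, map_one, mul_one]

/-- The maximal ideal of `B ⊗ S` attached to a pair. -/
noncomputable def pairMax (p : Pairs A B) : MaximalSpectrum (B ⊗[A] S) :=
  ⟨RingHom.ker (pairPhi A B S p),
    isMaximal_ker_of_comp_includeRight A B S _ (pairPhi_includeRight A B S p)⟩

attribute [local instance] Algebra.TensorProduct.rightAlgebra in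
theorem pairMax_injective : Function.Injective (pairMax A B S) := by
  haveI : Algebra.IsIntegral S (B ⊗[A] S) := isIntegral_rightAlgebra A S B
  haveI : IsSepClosed (ResidueField S) := IsSepClosure.sep_closed (ResidueField A)
  intro p₁ p₂ h
  have hker : RingHom.ker (pairPhi A B S p₁) = RingHom.ker (pairPhi A B S p₂) :=
    congrArg MaximalSpectrum.asIdeal h
  haveI : (RingHom.ker (pairPhi A B S p₂)).IsMaximal := (pairMax A B S p₂).isMaximal
  have hφ : pairPhi A B S p₁ = pairPhi A B S p₂ := by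
    apply ringHom_eq_of_ker_eq S (B ⊗[A] S) (RingHom.ker (pairPhi A B S p₂)) _ _ hker rfl
    ext s
    show pairPhi A B S p₁ (1 ⊗ₜ s) = pairPhi A B S p₂ (1 ⊗ₜ s)
    rw [pairPhi_includeRight, pairPhi_includeRight]
  have hb : ∀ b : B, p₁.2.1 (Ideal.Quotient.mk p₁.1.asIdeal b) =
      p₂.2.1 (Ideal.Quotient.mk p₂.1.asIdeal b) := fun b => by
    rw [← pairPhi_includeLeft A B S, ← pairPhi_includeLeft A B S, hφ]
  obtain ⟨m₁, σ₁, h₁⟩ := p₁
  obtain ⟨m₂, σ₂, h₂⟩ := p₂
  have hm : m₁ = m₂ := by
    haveI := m₁.isMaximal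
    haveI := m₂.isMaximal
    letI : Field (B ⧸ m₁.asIdeal) := Ideal.Quotient.field _
    letI : Field (B ⧸ m₂.asIdeal) := Ideal.Quotient.field _
    apply MaximalSpectrum.ext
    ext b
    rw [← Ideal.Quotient.eq_zero_iff_mem, ← Ideal.Quotient.eq_zero_iff_mem,
      ← map_eq_zero_iff σ₁ σ₁.injective, ← map_eq_zero_iff σ₂ σ₂.injective]
    rw [show σ₁ (Ideal.Quotient.mk m₁.asIdeal b) = σ₂ (Ideal.Quotient.mk m₂.asIdeal b) from hb b]
  subst hm
  have hσ : σ₁ = σ₂ := Ideal.Quotient.ringHom_ext (RingHom.ext hb)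
  subst hσ
  rfl

attribute [local instance] Algebra.TensorProduct.rightAlgebra in
theorem pairMax_surjective : Function.Surjective (pairMax A B S) := by
  haveI : Algebra.IsIntegral S (B ⊗[A] S) := isIntegral_rightAlgebra A S B
  intro M
  haveI := M.isMaximal
  obtain ⟨φ, hker, hφ⟩ := exists_ringHom_ker_eq S (B ⊗[A] S) M.asIdeal (iota A S).toRingHom
  have hφs : ∀ s : S, φ (1 ⊗ₜ s) = gS A S s := fun s => RingHom.congr_fun hφ s
  haveI hmax := isMaximal_comap_includeLeft A B S M.asIdeal
  set m' : Ideal B :=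
    M.asIdeal.comap (Algebra.TensorProduct.includeLeft : B →ₐ[A] B ⊗[A] S).toRingHom with hm'
  let σ : B ⧸ m' →+* AlgebraicClosure (ResidueField A) :=
    Ideal.Quotient.lift m' (φ.comp (Algebra.TensorProduct.includeLeft : B →ₐ[A] B ⊗[A] S).toRingHom)
      (fun b hb => by
        rw [hm', Ideal.mem_comap, ← hker, RingHom.mem_ker] at hb
        exact hb)
  have hσ : σ.comp ((Ideal.Quotient.mk m').comp (algebraMap A B)) = Brnch.toClosure A := by
    rw [← gS_comp_algebraMap A S]
    ext a
    show φ ((algebraMap A B a) ⊗ₜ 1) = gS A S (algebraMap A S a)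
    rw [← hφs, Algebra.algebraMap_eq_smul_one, Algebra.algebraMap_eq_smul_one,
      TensorProduct.smul_tmul]
  let p : Pairs A B := ⟨⟨m', hmax⟩, σ, hσ⟩
  refine ⟨p, ?_⟩
  apply MaximalSpectrum.ext
  show RingHom.ker (pairPhi A B S p) = M.asIdeal
  rw [← hker]
  congr 1
  apply ringHom_ext_tensor
  · intro b
    rw [pairPhi_includeLeft]
    rfl
  · intro s
    rw [pairPhi_includeRight, hφs]

/-- The bijection between pairs and maximal ideals of `B ⊗ S`. -/
noncomputable def pairsEquiv : Pairs A B ≃ MaximalSpectrum (B ⊗[A] S) :=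
  Equiv.ofBijective (pairMax A B S) ⟨pairMax_injective A B S, pairMax_surjective A B S⟩

end bij

end Groth.Agent.Helper8.HensGU
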