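import Mathlib
import Groth.Prelude
import Groth.Agent.Lib.Helper8.HensGU9
import Groth.Agent.Lib.Helper8.HensGU12

/-!
# `numGeomBranches` equals the number of minimal primes of the strict henselization
-/

set_option autoImplicit false

universe u

namespace Groth.Agent.Helper8.HensGU

open TensorProduct IsLocalRing Groth.Agent.Helper7.SHens

section main

variable (A S : Type u) [CommRing A] [IsLocalRing A] [CommRing S] [IsLocalRing S] [Algebra A S]
  [IsLocalHom (algebraMap A S)] [Hensel.IsStrictHenselization A S]

theorem toResidue_eq (m' : MaximalSpectrum (CAlg2.normRed A)) :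
    Brnch.toResidue A m' =
      (Ideal.Quotient.mk m'.asIdeal).comp (algebraMap A (CAlg2.normRed A)) :=
  RingHom.ext fun _ => rfl

/-- The pairs of `Pairs` are the pairs counted by `numGeomBranches`. -/
noncomputable def pairsEquivEmb :
    (Σ m' : MaximalSpectrum (CAlg2.normRed A), Brnch.Emb A m') ≃ Pairs A (CAlg2.normRed A) :=
  Equiv.sigmaCongrRight fun m' =>
    Equiv.subtypeEquivRight fun σ => by rw [toResidue_eq]

theorem card_minimalPrimes_strictHenselization :
    ENat.card (minimalPrimes S) = Brnch.numGeomBranches A := by
  haveI hff : Module.FaithfullyFlat A S := Groth.Agent.S0539.result A S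
  unfold Brnch.numGeomBranches
  split_ifs with hfin
  · have hmap : (nilradical A).map (algebraMap A S) = nilradical S :=
      Groth.Agent.S1972.result A S (Or.inr inferInstance)
    have hb := Groth.Agent.Helper8.HensBij.bijOn_comap_includeRight A S hmap.le
    have h12 := unique_max_min A S hfin
    obtain ⟨e1⟩ := nonempty_equiv_minimalPrimes_maximalSpectrum
      (T := (CAlg2.normRed A) ⊗[A] S) h12.1 h12.2
    haveI : Algebra.IsIntegral A (CAlg2.red A) :=
      Algebra.isIntegral_of_surjective Ideal.Quotient.mk_surjective
    haveI : Algebra.IsIntegral A (CAlg2.normRed A) := Algebra.IsIntegral.trans (CAlg2.red A)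
    haveI : IsSepClosure (ResidueField A) (ResidueField S) :=
      Hensel.IsStrictHenselization.isSepClosure
    rw [← ENat.card_congr (Set.BijOn.equiv _ hb), ENat.card_congr e1,
      ENat.card_congr (pairsEquivEmb A), ENat.card_congr (pairsEquiv A (CAlg2.normRed A) S)]
  · rw [ENat.card_eq_top]
    exact Set.infinite_coe_iff.mpr (infinite_minimalPrimes_of_faithfullyFlat A S hfin)

end main

end Groth.Agent.Helper8.HensGU
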