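import Groth.Agent.Lib.Helper8.LC24

set_option autoImplicit false
universe u
open CategoryTheory CategoryTheory.Limits Opposite

namespace Groth.Agent.Helper8.LC

open Abelian localCohomology LocCoh

section Retract

variable {A : Type u} [CommRing A] [IsNoetherianRing A]

/-- a finite module that is projective after inverting `f` is a retract of a finite free module
up to a power of `f`. -/
theorem exists_pow_retract (f : A) (M : Type u) [AddCommGroup M] [Module A M] [Module.Finite A M]
    (hM : Module.Projective (Localization.Away f) (LocalizedModule (Submonoid.powers f) M)) :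
    ∃ (t N : ℕ) (a : M →ₗ[A] (Fin t → A)) (b : (Fin t → A) →ₗ[A] M),
      b ∘ₗ a = (f ^ N) • LinearMap.id := by
  classical
  let S := Submonoid.powers f
  obtain ⟨t, π, hπ⟩ := Module.Finite.exists_fin' A M
  let lF := LocalizedModule.mkLinearMap S (Fin t → A)
  let lM := LocalizedModule.mkLinearMap S M
  let πf : LocalizedModule S (Fin t → A) →ₗ[Localization.Away f] LocalizedModule S M :=
    IsLocalizedModule.mapExtendScalars S lF lM (Localization.Away f) π
  have hπf : Function.Surjective πf := IsLocalizedModule.map_surjective S lF lM π hπ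
  obtain ⟨σ, hσ⟩ := Module.projective_lifting_property πf LinearMap.id hπf
  let g₀ : M →ₗ[A] LocalizedModule S (Fin t → A) := (σ.restrictScalars A) ∘ₗ lM
  haveI : Module.FinitePresentation A M := Module.finitePresentation_of_finite A M
  obtain ⟨a', s, hs⟩ := Module.FinitePresentation.exists_lift_of_isLocalizedModule S lF g₀
  have h1 : ∀ m, lM (π (a' m)) = lM ((s : A) • m) := by
    intro m
    have e1 : lM (π (a' m)) = πf (lF (a' m)) := (IsLocalizedModule.map_apply S lF lM π _).symm
    have e2 : lF (a' m) = s • g₀ m := LinearMap.congr_fun hs m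
    have e3 : πf (σ (lM m)) = lM m := LinearMap.congr_fun hσ (lM m)
    rw [e1, e2]
    change πf ((s : A) • σ (lM m)) = _
    rw [← algebraMap_smul (Localization.Away f) (s : A) (σ (lM m)), map_smul, e3,
      algebraMap_smul, map_smul]
  let φ : M →ₗ[A] M := π ∘ₗ a' - (s : A) • LinearMap.id
  have h2 : ∀ m, ∃ u : S, (u : A) • φ m = 0 := by
    intro m
    have : lM (φ m) = lM 0 := by
      simp only [φ, LinearMap.sub_apply, LinearMap.comp_apply, LinearMap.smul_apply,
        LinearMap.id_apply, map_sub, h1, sub_self, map_zero]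
    obtain ⟨u, hu⟩ := IsLocalizedModule.exists_of_eq (S := S) this
    exact ⟨u, by rw [smul_zero] at hu; exact hu⟩
  choose u hu using h2
  obtain ⟨G, hG⟩ := (Module.Finite.fg_top : (⊤ : Submodule A M).FG)
  let v : S := ∏ m ∈ G, u m
  have h3 : (v : A) • φ = 0 := by
    apply LinearMap.ext_on hG
    intro m hm
    have hmG : m ∈ G := hm
    change (v : A) • φ m = 0
    have : (v : A) = (∏ m' ∈ G.erase m, (u m' : A)) * (u m : A) := by
      simp only [v, Submonoid.coe_finsetProd]
      exact (Finset.prod_erase_mul G (fun m' => (u m' : A)) hmG).symm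
    rw [this, mul_smul, hu m, smul_zero]
  obtain ⟨N, hN⟩ := (v * s).2
  refine ⟨t, N, (v : A) • a', π, ?_⟩
  have h4 : π ∘ₗ a' = φ + (s : A) • LinearMap.id := by simp [φ]
  rw [LinearMap.comp_smul, h4, smul_add, h3, zero_add, smul_smul]
  congr 1
  exact hN.symm

end Retract

end Groth.Agent.Helper8.LC

namespace Groth.Agent.Helper8.LC

open Abelian localCohomology LocCoh

section Additive

variable {R : Type u} [CommRing R] (J : Ideal R) (i : ℕ)

lemma map_add' {M M' : ModuleCat.{u} R} (f g : M ⟶ M') (x : (localCohomology J i).obj M) :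
    ((localCohomology J i).map (f + g)) x =
      ((localCohomology J i).map f) x + ((localCohomology J i).map g) x := by
  obtain ⟨n, e, rfl⟩ := ι_rep J i M x
  rw [ι_map, ι_map, ι_map, Ext.mk₀_add, Ext.comp_add, map_add]

lemma map_sum' {M M' : ModuleCat.{u} R} {α : Type*} (s : Finset α) (φ : α → (M ⟶ M'))
    (x : (localCohomology J i).obj M) :
    ((localCohomology J i).map (∑ j ∈ s, φ j)) x =
      ∑ j ∈ s, ((localCohomology J i).map (φ j)) x := by
  classical
  induction s using Finset.induction_on with
  | empty => simp only [Finset.sum_empty]; exact map_zero' J i M M' x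
  | insert a s ha ih =>
    rw [Finset.sum_insert ha, Finset.sum_insert ha, map_add', ih]

/-- an element annihilating `H^i(R)` annihilates `H^i` of a finite free module. -/
lemma smul_pi_eq_zero (a : R) (ha : ∀ x : H J i R, a • x = 0) (t : ℕ)
    (y : H J i (Fin t → R)) : a • y = 0 := by
  have hid : 𝟙 (ModuleCat.of R (Fin t → R)) =
      ∑ j : Fin t, (ModuleCat.ofHom (LinearMap.proj (φ := fun _ : Fin t => R) j) ≫
        ModuleCat.ofHom (LinearMap.single R (fun _ : Fin t => R) j)) := by
    apply ModuleCat.hom_ext
    apply LinearMap.ext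
    intro v
    rw [ModuleCat.hom_sum]
    ext k
    simp [LinearMap.sum_apply, Finset.sum_apply, Pi.single_apply]
  have h1 : y = ((localCohomology J i).map (𝟙 (ModuleCat.of R (Fin t → R)))) y := by
    rw [CategoryTheory.Functor.map_id]; rfl
  rw [h1, hid, map_sum', Finset.smul_sum]
  apply Finset.sum_eq_zero
  intro j _
  rw [Functor.map_comp]
  change a • ((localCohomology J i).map _) (((localCohomology J i).map _) y) = 0
  rw [← map_smul, ha, map_zero]

end Additive

variable {A : Type u} [CommRing A] [IsNoetherianRing A]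

theorem exists_pow_smul_eq_zero_of_projective_away (J I : Ideal A) (i n : ℕ)
    (hA : ∀ a ∈ J ^ n, ∀ x : LocCoh.H I i A, a • x = 0)
    (M : Type u) [AddCommGroup M] [Module A M] [Module.Finite A M]
    (hM : ∀ f ∈ J, Module.Projective (Localization.Away f)
      (LocalizedModule (Submonoid.powers f) M)) :
    ∃ m : ℕ, ∀ a ∈ J ^ m, ∀ x : LocCoh.H I i M, a • x = 0 := by
  have hrad : J ≤ (Module.annihilator A (LocCoh.H I i M)).radical := by
    intro f hf
    obtain ⟨t, N, a, b, hab⟩ := exists_pow_retract f M (hM f hf)
    refine ⟨N + n, ?_⟩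
    rw [Module.mem_annihilator]
    intro x
    have h1 : (f ^ N) • x =
        ((localCohomology I i).map (ModuleCat.ofHom b))
          (((localCohomology I i).map (ModuleCat.ofHom a)) x) := by
      rw [← map_smul_id]
      have : (f ^ N) • 𝟙 (ModuleCat.of A M) = ModuleCat.ofHom a ≫ ModuleCat.ofHom b := by
        rw [← ModuleCat.ofHom_comp, hab]
        rfl
      rw [this, Functor.map_comp]
      rfl
    rw [pow_add, mul_comm, mul_smul, h1, ← map_smul,
      smul_pi_eq_zero I i (f ^ n) (hA _ (Ideal.pow_mem_pow hf n)) t, map_zero]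
  obtain ⟨m, hm⟩ := Ideal.exists_pow_le_of_le_radical_of_fg hrad (IsNoetherian.noetherian _)
  exact ⟨m, fun a ha x => Module.mem_annihilator.mp (hm ha) x⟩

end Groth.Agent.Helper8.LC
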