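import Mathlib
import Groth.Agent.Lib.Helper8.NV5
import Groth.Agent.Lib.Helper8.LC25
import Groth.Agent.Lib.Helper8.Depth12
import Groth.Agent.Lib.Helper1.MatlisL

/-!
# Associated primes of a canonical module
-/

set_option autoImplicit false
universe u v

namespace Groth.Agent.Helper8.CanMod

open LocCoh IsLocalRing CategoryTheory Groth.Agent.Helper8.LC Groth.Agent.Helper8.Depth

section dual

variable {R : Type u} [CommRing R] {E : Type u} [AddCommGroup E] [Module R E]
  {K : Type u} [AddCommGroup K] [Module R K]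

/-- If a nonzero element of `K` killed by `𝔭` is detected by a map to `E`, then `𝔭 K^∨ ≠ K^∨`. -/
theorem smul_top_dual_ne_top (𝔭 : Ideal R) (x : K) (hpx : ∀ a ∈ 𝔭, a • x = 0)
    (φ : K →ₗ[R] E) (hφ : φ x ≠ 0) : 𝔭 • (⊤ : Submodule R (K →ₗ[R] E)) ≠ ⊤ := by
  intro htop
  have hmem : φ ∈ 𝔭 • (⊤ : Submodule R (K →ₗ[R] E)) := by
    rw [htop]
    exact Submodule.mem_top
  have key : ∀ ψ ∈ 𝔭 • (⊤ : Submodule R (K →ₗ[R] E)), ψ x = 0 := by
    intro ψ hψ
    refine Submodule.smul_induction_on hψ (fun a ha ψ' _ => ?_) (fun ψ₁ ψ₂ h₁ h₂ => ?_)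
    · rw [LinearMap.smul_apply, ← map_smul, hpx a ha, map_zero]
    · rw [LinearMap.add_apply, h₁, h₂, add_zero]
  exact hφ (key φ hmem)

/-- If no nonzero element of `K` is killed by the finitely generated ideal `𝔭` and `E` is
injective, then `𝔭 K^∨ = K^∨`. -/
theorem smul_top_dual_eq_top [Module.Injective R E] (𝔭 : Ideal R) (hfg : 𝔭.FG)
    (h0 : ∀ x : K, (∀ a ∈ 𝔭, a • x = 0) → x = 0) :
    𝔭 • (⊤ : Submodule R (K →ₗ[R] E)) = ⊤ := by
  obtain ⟨k, a, ha⟩ := Submodule.fg_iff_exists_fin_generating_family.mp hfg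
  have hamem : ∀ i, a i ∈ 𝔭 := fun i => ha ▸ Submodule.subset_span (Set.mem_range_self i)
  let α : K →ₗ[R] (Fin k → K) := LinearMap.pi fun i => (a i) • LinearMap.id
  have hα : Function.Injective α := by
    rw [injective_iff_map_eq_zero]
    intro x hx
    apply h0
    intro b hb
    rw [← ha] at hb
    refine Submodule.span_induction (p := fun b _ => b • x = 0) ?_ ?_ ?_ ?_ hb
    · rintro _ ⟨i, rfl⟩
      have := congrFun hx i
      simpa [α] using this
    · exact zero_smul _ _
    · intro b c _ _ hb hc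
      rw [add_smul, hb, hc, add_zero]
    · intro r b _ hb
      rw [smul_eq_mul, mul_smul, hb, smul_zero]
  rw [eq_top_iff]
  intro φ _
  obtain ⟨ψ, hψ⟩ := Module.Injective.extension_property R E K (Fin k → K) α hα φ
  have hφ : φ = ∑ i, (a i) • (ψ ∘ₗ LinearMap.single R (fun _ => K) i) := by
    apply LinearMap.ext
    intro x
    rw [← hψ, LinearMap.comp_apply, LinearMap.sum_apply]
    have hx : α x = ∑ i, LinearMap.single R (fun _ : Fin k => K) i ((a i) • x) := by
      ext j
      simp [α, Finset.sum_apply, Pi.single_apply]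
    rw [hx, map_sum]
    refine Finset.sum_congr rfl fun i _ => ?_
    rw [LinearMap.smul_apply, LinearMap.comp_apply, ← map_smul, ← map_smul]
  rw [hφ]
  exact Submodule.sum_mem _ fun i _ => Submodule.smul_mem_smul (hamem i) Submodule.mem_top

end dual

section lc

variable {R : Type u} [CommRing R] [IsNoetherianRing R] [IsLocalRing R]

/-- Elements of `H^i_J(R/p)` are killed by `p`. -/
theorem smul_H_quotient_eq_zero (J p : Ideal R) (i : ℕ) (a : R) (ha : a ∈ p)
    (z : H J i (R ⧸ p)) : a • z = 0 := by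
  rw [← map_smul_id]
  have h0 : a • 𝟙 (ModuleCat.of R (R ⧸ p)) = 0 := by
    apply ModuleCat.hom_ext
    apply LinearMap.ext
    intro x
    obtain ⟨r, rfl⟩ := Ideal.Quotient.mk_surjective x
    change a • (Ideal.Quotient.mk p r) = 0
    rw [Algebra.smul_def, Ideal.Quotient.algebraMap_eq, ← map_mul]
    exact Ideal.Quotient.eq_zero_iff_mem.mpr (p.mul_mem_right _ ha)
  rw [h0]
  exact map_zero' J i _ _ z

theorem map_g_surjective (n : ℕ) (hn : ringKrullDim R = n) (p : Ideal R) :
    Function.Surjective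
      ((localCohomology (maximalIdeal R) n).map (sesSub (p : Submodule R R)).g) := by
  have hcd : CdLE R (maximalIdeal R) n := cdLE_of_ringKrullDim_le _ n hn.le
  have hS := sesSub_shortExact (p : Submodule R R)
  have hq1 : Subsingleton (H (maximalIdeal R) (n + 1) p) := hcd p (n + 1) (Nat.lt_succ_self n)
  intro y
  have h1 : δ (maximalIdeal R) n hS y = 0 := hq1.elim _ _
  exact (exact_g_δ (maximalIdeal R) n hS y).mp h1

theorem smul_top_H_ne_top (n : ℕ) (hn : ringKrullDim R = n) (p : Ideal R)
    [Nontrivial (H (maximalIdeal R) n (R ⧸ p))] :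
    p • (⊤ : Submodule R (H (maximalIdeal R) n R)) ≠ ⊤ := by
  intro htop
  have hsurj := map_g_surjective n hn p
  have key : ∀ x ∈ p • (⊤ : Submodule R (H (maximalIdeal R) n R)),
      ((localCohomology (maximalIdeal R) n).map (sesSub (p : Submodule R R)).g) x = 0 := by
    intro x hx
    refine Submodule.smul_induction_on hx (fun a ha x' _ => ?_) (fun x₁ x₂ h₁ h₂ => ?_)
    · rw [map_smul]
      exact smul_H_quotient_eq_zero _ p n a ha _
    · rw [map_add, h₁, h₂, add_zero]
  obtain ⟨z, hz⟩ := exists_ne (0 : H (maximalIdeal R) n (R ⧸ p))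
  obtain ⟨y, rfl⟩ := hsurj z
  apply hz
  apply key
  rw [htop]
  exact Submodule.mem_top

theorem smul_top_H_eq_top (n : ℕ) (hn : ringKrullDim R = n) (p : Ideal R)
    [Subsingleton (H (maximalIdeal R) n (R ⧸ p))] :
    p • (⊤ : Submodule R (H (maximalIdeal R) n R)) = ⊤ := by
  set m := maximalIdeal R
  have hcd : CdLE R m n := cdLE_of_ringKrullDim_le m n hn.le
  have hS := sesSub_shortExact (p : Submodule R R)
  obtain ⟨k, a, ha⟩ := Submodule.fg_iff_exists_fin_generating_family.mp
    ((isNoetherianRing_iff_ideal_fg R).mp inferInstance p)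
  have hamem : ∀ i, a i ∈ p := fun i => ha ▸ Submodule.subset_span (Set.mem_range_self i)
  let g : (Fin k → R) →ₗ[R] p :=
    ∑ i, (LinearMap.toSpanSingleton R p ⟨a i, hamem i⟩) ∘ₗ LinearMap.proj i
  have hg : Function.Surjective g := by
    rintro ⟨x, hx⟩
    have hx' : x ∈ Submodule.span R (Set.range a) := ha ▸ hx
    obtain ⟨c, hc⟩ := (Submodule.mem_span_range_iff_exists_fun R).mp hx'
    refine ⟨c, Subtype.ext ?_⟩
    simp only [g, LinearMap.sum_apply, LinearMap.comp_apply, LinearMap.proj_apply,
      LinearMap.toSpanSingleton_apply]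
    rw [← hc]
    simp
  let T : ShortComplex (ModuleCat.{u} R) :=
    ModuleCat.shortComplexOfCompEqZero (LinearMap.ker g).subtype g (by
      apply LinearMap.ext
      intro x
      exact x.2)
  have hT : T.ShortExact := by
    apply ModuleCat.shortComplex_shortExact
    · intro x
      change g x = 0 ↔ x ∈ Set.range (LinearMap.ker g).subtype
      constructor
      · intro hx; exact ⟨⟨x, hx⟩, rfl⟩
      · rintro ⟨y, rfl⟩; exact y.2
    · exact Submodule.subtype_injective _
    · exact hg
  have hq1 : Subsingleton (H m (n + 1) (LinearMap.ker g)) :=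
    hcd (LinearMap.ker g) (n + 1) (Nat.lt_succ_self n)
  have hgs : Function.Surjective ((localCohomology m n).map T.g) := by
    intro y
    have h1 : δ m n hT y = 0 := hq1.elim _ _
    exact (exact_g_δ m n hT y).mp h1
  rw [eq_top_iff]
  intro y _
  have h1 : ((localCohomology m n).map (sesSub (p : Submodule R R)).g) y = 0 :=
    Subsingleton.elim _ _
  obtain ⟨w, rfl⟩ := (exact_f_g m n hS y).mp h1
  obtain ⟨v, rfl⟩ := hgs w
  have hcomp : T.g ≫ (sesSub (p : Submodule R R)).f =
      ∑ i : Fin k, (ModuleCat.ofHom (LinearMap.proj (φ := fun _ : Fin k => R) i) ≫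
        ((a i) • 𝟙 (ModuleCat.of R R))) := by
    apply ModuleCat.hom_ext
    apply LinearMap.ext
    intro c
    rw [ModuleCat.hom_sum]
    simp only [LinearMap.sum_apply]
    change ((g c : p) : R) = _
    simp only [g, LinearMap.sum_apply, LinearMap.comp_apply, LinearMap.proj_apply,
      LinearMap.toSpanSingleton_apply]
    rw [Submodule.coe_sum]
    refine Finset.sum_congr rfl fun i _ => ?_
    simp [mul_comm]
    rfl
  change ((localCohomology m n).map T.g ≫ (localCohomology m n).map
    (sesSub (p : Submodule R R)).f) v ∈ _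
  rw [← Functor.map_comp, hcomp, map_sum']
  refine Submodule.sum_mem _ fun i _ => ?_
  rw [Functor.map_comp]
  change ((localCohomology m n).map ((a i) • 𝟙 (ModuleCat.of R R)))
    (((localCohomology m n).map _) v) ∈ _
  rw [map_smul_id]
  exact Submodule.smul_mem_smul (hamem i) Submodule.mem_top

end lc

section main

variable {R : Type u} [CommRing R] [IsNoetherianRing R] [IsLocalRing R]

theorem nontrivial_H_quotient_iff (n : ℕ) (hn : ringKrullDim R = n) (p : Ideal R) [p.IsPrime] :
    Nontrivial (H (maximalIdeal R) n (R ⧸ p)) ↔ ringKrullDim (R ⧸ p) = n := by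
  constructor
  · intro hnt
    by_contra hne
    have hle : ringKrullDim (R ⧸ p) ≤ n := hn ▸ ringKrullDim_quotient_le p
    have hlt : ringKrullDim (R ⧸ p) < n := lt_of_le_of_ne hle hne
    have hsub : Subsingleton (H (maximalIdeal R) n (R ⧸ p)) :=
      subsingleton_of_supportDim_lt _ _ n (by
        rwa [Module.supportDim_quotient_eq_ringKrullDim])
    exact not_subsingleton _ hsub
  · intro h
    exact Groth.Agent.Helper8.NV.nontrivial_H_quotient_prime p n h

/-- The associated primes of a canonical module are the primes of maximal coheight. -/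
theorem associatedPrimes_eq (n : ℕ) (hn : ringKrullDim R = n)
    {E : Type u} [AddCommGroup E] [Module R E] (f : ResidueField R →ₗ[R] E)
    (hf : InjHull.IsInjectiveHull f) (K : Type u) [AddCommGroup K] [Module R K]
    [Module.Finite R K] (eK : (K →ₗ[R] E) ≃ₗ[R] H (maximalIdeal R) n R) :
    associatedPrimes R K = {p : Ideal R | p.IsPrime ∧ ringKrullDim (R ⧸ p) = n} := by
  haveI : Module.Injective R E := hf.isInjective
  have hsub : ∀ p ∈ associatedPrimes R K, p.IsPrime ∧ ringKrullDim (R ⧸ p) = n := by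
    intro p hp
    obtain ⟨hprime, x, hx⟩ := isAssociatedPrime_iff.mp hp
    have hx0 : x ≠ 0 := by
      rintro rfl
      apply hprime.ne_top
      rw [hx, eq_top_iff]
      intro a _
      rw [Submodule.mem_colon_singleton, smul_zero]
      exact Submodule.zero_mem _
    obtain ⟨φ, hφ⟩ := Groth.Agent.Helper1.MatlisL.exists_dual_ne_zero f hf hx0
    have h1 := smul_top_dual_ne_top p x (fun a ha => by
      rw [hx, Submodule.mem_colon_singleton] at ha
      exact (Submodule.mem_bot R).mp ha) φ hφ
    have h2 : p • (⊤ : Submodule R (H (maximalIdeal R) n R)) ≠ ⊤ :=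
      fun h => h1 ((smul_top_eq_top_congr eK).mpr h)
    refine ⟨hprime, ?_⟩
    haveI := hprime
    rw [← nontrivial_H_quotient_iff n hn p]
    by_contra hcon
    rw [not_nontrivial_iff_subsingleton] at hcon
    exact h2 (smul_top_H_eq_top n hn p)
  apply Set.Subset.antisymm hsub
  rintro p ⟨hprime, hdim⟩
  haveI := hprime
  haveI : Nontrivial (H (maximalIdeal R) n (R ⧸ p)) := (nontrivial_H_quotient_iff n hn p).mpr hdim
  have h2 := smul_top_H_ne_top n hn p
  have h1 : p • (⊤ : Submodule R (K →ₗ[R] E)) ≠ ⊤ :=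
    fun h => h2 ((smul_top_eq_top_congr eK).mp h)
  have hex : ∃ x : K, (∀ a ∈ p, a • x = 0) ∧ x ≠ 0 := by
    by_contra hcon
    push Not at hcon
    exact h1 (smul_top_dual_eq_top p ((isNoetherianRing_iff_ideal_fg R).mp inferInstance p) hcon)
  obtain ⟨x, hpx, hx0⟩ := hex
  obtain ⟨q, hq, hle⟩ := exists_le_isAssociatedPrime_of_isNoetherianRing R x hx0
  have hpq : p ≤ q := by
    intro a ha
    apply hle
    rw [Submodule.mem_colon_singleton, hpx a ha]
    exact Submodule.zero_mem _
  obtain ⟨hqprime, hqdim⟩ := hsub q hq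
  have := eq_of_le_of_dim_quotient_eq hpq n hdim hqdim
  rw [this]
  exact hq

end main

end Groth.Agent.Helper8.CanMod
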