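import Mathlib

/-!
# Right exact `R`-linear endofunctors of `R`-modules agreeing on `R` agree on finite modules
-/

set_option autoImplicit false
universe u

namespace Groth.Agent.Helper8.Watts

open CategoryTheory

variable {R : Type u} [CommRing R]

/-- An `R`-linear, right exact endofunctor of the category of `R`-modules. -/
structure IsLinearRightExact (Φ : ModuleCat.{u} R ⥤ ModuleCat.{u} R) : Prop where
  map_add : ∀ {M N : ModuleCat.{u} R} (f g : M ⟶ N), Φ.map (f + g) = Φ.map f + Φ.map g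
  map_smul : ∀ {M N : ModuleCat.{u} R} (r : R) (f : M ⟶ N), Φ.map (r • f) = r • Φ.map f
  exact : ∀ {M' M M'' : ModuleCat.{u} R} (u : M' ⟶ M) (v : M ⟶ M''),
    Function.Exact u.hom v.hom → Function.Surjective v.hom →
      Function.Exact (Φ.map u).hom (Φ.map v).hom
  surj : ∀ {M M'' : ModuleCat.{u} R} (v : M ⟶ M''), Function.Surjective v.hom →
    Function.Surjective (Φ.map v).hom

namespace IsLinearRightExact

variable {Φ : ModuleCat.{u} R ⥤ ModuleCat.{u} R} (hΦ : IsLinearRightExact Φ)

include hΦ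

theorem map_zero {M N : ModuleCat.{u} R} : Φ.map (0 : M ⟶ N) = 0 := by
  have h := hΦ.map_add (0 : M ⟶ N) 0
  rw [add_zero] at h
  have h2 : Φ.map (0 : M ⟶ N) + 0 = Φ.map (0 : M ⟶ N) + Φ.map (0 : M ⟶ N) := by
    rw [add_zero]; exact h
  exact (add_left_cancel h2).symm

theorem map_sum {M N : ModuleCat.{u} R} {α : Type*} (s : Finset α) (f : α → (M ⟶ N)) :
    Φ.map (∑ i ∈ s, f i) = ∑ i ∈ s, Φ.map (f i) := by
  classical
  induction s using Finset.induction_on with
  | empty => simp only [Finset.sum_empty]; exact hΦ.map_zero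
  | insert a s ha ih => rw [Finset.sum_insert ha, Finset.sum_insert ha, hΦ.map_add, ih]

end IsLinearRightExact

section free

variable (R)

/-- the free module of rank `b` as an object. -/
abbrev P (b : ℕ) : ModuleCat.{u} R := ModuleCat.of R (Fin b → R)

/-- the ring as an object. -/
abbrev O : ModuleCat.{u} R := ModuleCat.of R R

/-- projections. -/
abbrev pr {b : ℕ} (i : Fin b) : P R b ⟶ O R :=
  ModuleCat.ofHom (LinearMap.proj (φ := fun _ : Fin b => R) i)

/-- inclusions. -/
abbrev inj {b : ℕ} (i : Fin b) : O R ⟶ P R b :=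
  ModuleCat.ofHom (LinearMap.single R (fun _ : Fin b => R) i)

variable {R}

theorem inj_pr {b : ℕ} (i j : Fin b) :
    inj R i ≫ pr R j = if i = j then 𝟙 (O R) else 0 := by
  apply ModuleCat.hom_ext
  apply LinearMap.ext
  intro x
  by_cases h : i = j
  · subst h
    simp
  · rw [if_neg h]
    simp [Pi.single_apply, Ne.symm h]

theorem sum_pr_inj (b : ℕ) : ∑ i : Fin b, pr R i ≫ inj R i = 𝟙 (P R b) := by
  apply ModuleCat.hom_ext
  apply LinearMap.ext
  intro v
  rw [ModuleCat.hom_sum]
  ext k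
  simp [LinearMap.sum_apply, Finset.sum_apply, Pi.single_apply]

/-- every map from `R` to a free module is a combination of the inclusions. -/
theorem eq_sum_smul_inj {b : ℕ} (β : O R ⟶ P R b) :
    β = ∑ i : Fin b, (β.hom (1 : R) i) • inj R i := by
  apply ModuleCat.hom_ext
  apply LinearMap.ext_ring
  rw [ModuleCat.hom_sum]
  ext k
  simp [LinearMap.sum_apply, Finset.sum_apply, Pi.single_apply]

end free

section compare

variable {F G : ModuleCat.{u} R ⥤ ModuleCat.{u} R} (hF : IsLinearRightExact F)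
  (hG : IsLinearRightExact G) (e : F.obj (O R) ≅ G.obj (O R))

/-- the comparison map on free modules. -/
noncomputable def φ (F G : ModuleCat.{u} R ⥤ ModuleCat.{u} R) (e : F.obj (O R) ⟶ G.obj (O R))
    (b : ℕ) : F.obj (P R b) ⟶ G.obj (P R b) :=
  ∑ i : Fin b, F.map (pr R i) ≫ e ≫ G.map (inj R i)

include hF in
theorem map_inj_φ (e : F.obj (O R) ⟶ G.obj (O R)) {b : ℕ} (i : Fin b) :
    F.map (inj R i) ≫ φ F G e b = e ≫ G.map (inj R i) := by
  classical
  unfold φ
  rw [Preadditive.comp_sum]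
  rw [Finset.sum_eq_single i]
  · rw [← Category.assoc, ← F.map_comp, inj_pr, if_pos rfl, F.map_id, Category.id_comp]
  · intro k _ hk
    rw [← Category.assoc, ← F.map_comp, inj_pr, if_neg (Ne.symm hk), hF.map_zero,
      Limits.zero_comp]
  · intro h
    exact absurd (Finset.mem_univ i) h

include hF in
theorem hom_ext_of_inj {b : ℕ} {X : ModuleCat.{u} R} (f g : F.obj (P R b) ⟶ X)
    (h : ∀ j : Fin b, F.map (inj R j) ≫ f = F.map (inj R j) ≫ g) : f = g := by
  have h1 : ∀ k : F.obj (P R b) ⟶ X, k = ∑ j : Fin b, F.map (pr R j) ≫ F.map (inj R j) ≫ k := by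
    intro k
    have h2 : 𝟙 (F.obj (P R b)) = ∑ j : Fin b, F.map (pr R j) ≫ F.map (inj R j) := by
      rw [← F.map_id, ← sum_pr_inj b, hF.map_sum]
      refine Finset.sum_congr rfl fun j _ => ?_
      rw [F.map_comp]
    conv_lhs => rw [← Category.id_comp k, h2, Preadditive.sum_comp]
    refine Finset.sum_congr rfl fun j _ => ?_
    rw [Category.assoc]
  rw [h1 f, h1 g]
  refine Finset.sum_congr rfl fun j _ => ?_
  rw [h j]

include hF hG in
theorem φ_naturality (e : F.obj (O R) ⟶ G.obj (O R)) {a b : ℕ} (α : P R a ⟶ P R b) :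
    F.map α ≫ φ F G e b = φ F G e a ≫ G.map α := by
  apply hom_ext_of_inj hF
  intro j
  rw [← Category.assoc, ← F.map_comp, ← Category.assoc, map_inj_φ hF, Category.assoc,
    ← G.map_comp]
  rw [eq_sum_smul_inj (inj R j ≫ α), hF.map_sum, hG.map_sum, Preadditive.sum_comp,
    Preadditive.comp_sum]
  refine Finset.sum_congr rfl fun i _ => ?_
  rw [hF.map_smul, hG.map_smul, Linear.smul_comp, Linear.comp_smul, map_inj_φ hF]

include hF hG in
theorem φ_comp_φ (e : F.obj (O R) ≅ G.obj (O R)) (b : ℕ) :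
    φ F G e.hom b ≫ φ G F e.inv b = 𝟙 _ := by
  apply hom_ext_of_inj hF
  intro j
  rw [← Category.assoc, map_inj_φ hF, Category.assoc, map_inj_φ hG, ← Category.assoc,
    e.hom_inv_id, Category.id_comp, Category.comp_id]

/-- the comparison isomorphism on free modules. -/
noncomputable def φIso (e : F.obj (O R) ≅ G.obj (O R)) (b : ℕ) :
    F.obj (P R b) ≅ G.obj (P R b) where
  hom := φ F G e.hom b
  inv := φ G F e.inv b
  hom_inv_id := φ_comp_φ hF hG e b
  inv_hom_id := φ_comp_φ hG hF e.symm b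

include hF hG in
/-- Two right exact `R`-linear endofunctors agreeing on `R` agree on finite modules. -/
theorem nonempty_linearEquiv [IsNoetherianRing R] (e : F.obj (O R) ≅ G.obj (O R))
    (M : Type u) [AddCommGroup M] [Module R M] [Module.Finite R M] :
    Nonempty (F.obj (ModuleCat.of R M) ≃ₗ[R] G.obj (ModuleCat.of R M)) := by
  obtain ⟨b, π, hπ⟩ := Module.Finite.exists_fin' R M
  obtain ⟨a, ρ', hρ'⟩ := Module.Finite.exists_fin' R (LinearMap.ker π)
  let ρ : (Fin a → R) →ₗ[R] (Fin b → R) := (LinearMap.ker π).subtype ∘ₗ ρ'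
  have hex : Function.Exact ρ π := by
    intro x
    constructor
    · intro hx
      obtain ⟨y, hy⟩ := hρ' ⟨x, hx⟩
      exact ⟨y, by simp [ρ, hy]⟩
    · rintro ⟨y, rfl⟩
      exact (ρ' y).2
  let πc : P R b ⟶ ModuleCat.of R M := ModuleCat.ofHom π
  let ρc : P R a ⟶ P R b := ModuleCat.ofHom ρ
  have hFex := hF.exact ρc πc hex hπ
  have hGex := hG.exact ρc πc hex hπ
  have hFs := hF.surj πc hπ
  have hGs := hG.surj πc hπ
  let Φb : F.obj (P R b) ≃ₗ[R] G.obj (P R b) := (φIso hF hG e b).toLinearEquiv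
  let Φa : F.obj (P R a) ≃ₗ[R] G.obj (P R a) := (φIso hF hG e a).toLinearEquiv
  have hnat : ∀ x, Φb ((F.map ρc).hom x) = (G.map ρc).hom (Φa x) := by
    intro x
    have := φ_naturality hF hG e.hom ρc
    exact congrArg (fun k => k.hom x) this
  have hker : (LinearMap.ker (F.map πc).hom).map Φb.toLinearMap = LinearMap.ker (G.map πc).hom := by
    rw [LinearMap.exact_iff.mp hFex, LinearMap.exact_iff.mp hGex]
    ext y
    constructor
    · rintro ⟨_, ⟨x, rfl⟩, rfl⟩
      exact ⟨Φa x, (hnat x).symm⟩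
    · rintro ⟨x, rfl⟩
      refine ⟨(F.map ρc).hom (Φa.symm x), ⟨_, rfl⟩, ?_⟩
      change Φb ((F.map ρc).hom (Φa.symm x)) = _
      rw [hnat, LinearEquiv.apply_symm_apply]
  exact ⟨((LinearMap.quotKerEquivOfSurjective _ hFs).symm.trans
    (Submodule.Quotient.equiv _ _ Φb hker)).trans (LinearMap.quotKerEquivOfSurjective _ hGs)⟩

end compare

end Groth.Agent.Helper8.Watts
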