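import Mathlib
import Groth.Agent.Lib.Helper8.Watts1
import Groth.Agent.Lib.Helper8.CanMod1

/-!
# Top local cohomology via a canonical module: `H^n_m(M) ≃ Hom(Hom(M, K), E)`
-/

set_option autoImplicit false
universe u

namespace Groth.Agent.Helper8.CanMod

open LocCoh IsLocalRing CategoryTheory Groth.Agent.Helper8.LC Groth.Agent.Helper8.Watts

section ddMap

variable {R : Type u} [CommRing R] (K E : Type u) [AddCommGroup K] [Module R K]
  [AddCommGroup E] [Module R E]

/-- The map `Hom(Hom(M, K), E) → Hom(Hom(N, K), E)` induced by `f : M → N`. -/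
noncomputable def ddMap {M N : Type u} [AddCommGroup M] [Module R M] [AddCommGroup N] [Module R N]
    (f : M →ₗ[R] N) : ((M →ₗ[R] K) →ₗ[R] E) →ₗ[R] ((N →ₗ[R] K) →ₗ[R] E) :=
  LinearMap.lcomp R E (LinearMap.lcomp R K f)

variable {K E}
variable {M' M M'' : Type u} [AddCommGroup M'] [Module R M'] [AddCommGroup M] [Module R M]
  [AddCommGroup M''] [Module R M'']

theorem ddMap_apply (f : M →ₗ[R] M'') (ξ : (M →ₗ[R] K) →ₗ[R] E) (φ : M'' →ₗ[R] K) :
    ddMap K E f ξ φ = ξ (φ ∘ₗ f) := rfl

theorem ddMap_add (f g : M →ₗ[R] M'') : ddMap K E (f + g) = ddMap K E f + ddMap K E g := by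
  apply LinearMap.ext
  intro ξ
  apply LinearMap.ext
  intro φ
  rw [LinearMap.add_apply, LinearMap.add_apply, ddMap_apply, ddMap_apply, ddMap_apply,
    LinearMap.comp_add, map_add]

theorem ddMap_smul (r : R) (f : M →ₗ[R] M'') : ddMap K E (r • f) = r • ddMap K E f := by
  apply LinearMap.ext
  intro ξ
  apply LinearMap.ext
  intro φ
  rw [LinearMap.smul_apply, LinearMap.smul_apply, ddMap_apply, ddMap_apply,
    LinearMap.comp_smul, map_smul]

theorem ddMap_surjective [Module.Injective R E] (v : M →ₗ[R] M'') (hv : Function.Surjective v) :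
    Function.Surjective (ddMap K E v) := by
  intro ξ
  have hinj : Function.Injective (LinearMap.lcomp R K v) := by
    intro φ ψ h
    apply LinearMap.ext
    intro y
    obtain ⟨x, rfl⟩ := hv y
    exact LinearMap.congr_fun h x
  obtain ⟨ζ, hζ⟩ := Module.Injective.extension_property R E _ _ (LinearMap.lcomp R K v) hinj ξ
  exact ⟨ζ, hζ⟩

theorem ddMap_exact [Module.Injective R E] (u : M' →ₗ[R] M) (v : M →ₗ[R] M'')
    (huv : Function.Exact u v) (hv : Function.Surjective v) :
    Function.Exact (ddMap K E u) (ddMap K E v) := by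
  intro ξ
  constructor
  · intro hξ
    have hker : LinearMap.ker (LinearMap.lcomp R K u) ≤ LinearMap.ker ξ := by
      intro φ hφ
      rw [LinearMap.mem_ker] at hφ ⊢
      have hφ' : ∀ x, φ (u x) = 0 := fun x => LinearMap.congr_fun hφ x
      have hle : LinearMap.ker v ≤ LinearMap.ker φ := by
        intro y hy
        obtain ⟨x, rfl⟩ := (huv y).mp hy
        exact hφ' x
      let ψ : M'' →ₗ[R] K :=
        ((LinearMap.ker v).liftQ φ hle) ∘ₗ
          (LinearMap.quotKerEquivOfSurjective v hv).symm.toLinearMap
      have hψ : ψ ∘ₗ v = φ := by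
        apply LinearMap.ext
        intro y
        change ((LinearMap.ker v).liftQ φ hle)
          ((LinearMap.quotKerEquivOfSurjective v hv).symm (v y)) = φ y
        have : (LinearMap.quotKerEquivOfSurjective v hv).symm (v y) =
            Submodule.Quotient.mk y := by
          rw [LinearEquiv.symm_apply_eq]
          rfl
        rw [this]
        rfl
      have h2 := LinearMap.congr_fun hξ ψ
      rw [ddMap_apply, hψ] at h2
      exact h2
    let ustar := LinearMap.lcomp R K u
    let ξbar : ((M →ₗ[R] K) ⧸ LinearMap.ker ustar) →ₗ[R] E :=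
      (LinearMap.ker ustar).liftQ ξ hker
    let ubar : ((M →ₗ[R] K) ⧸ LinearMap.ker ustar) →ₗ[R] (M' →ₗ[R] K) :=
      (LinearMap.ker ustar).liftQ ustar le_rfl
    have hubar : Function.Injective ubar := by
      rw [← LinearMap.ker_eq_bot]
      exact Submodule.ker_liftQ_eq_bot _ _ _ le_rfl
    obtain ⟨ζ, hζ⟩ := Module.Injective.extension_property R E _ _ ubar hubar ξbar
    refine ⟨ζ, ?_⟩
    apply LinearMap.ext
    intro φ
    rw [ddMap_apply]
    have := LinearMap.congr_fun hζ (Submodule.Quotient.mk φ)
    exact this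
  · rintro ⟨ζ, rfl⟩
    apply LinearMap.ext
    intro φ
    rw [ddMap_apply, ddMap_apply]
    have : (φ ∘ₗ v) ∘ₗ u = 0 := by
      apply LinearMap.ext
      intro x
      have := (huv (u x)).mpr ⟨x, rfl⟩
      change φ (v (u x)) = 0
      rw [this, map_zero]
    rw [this, map_zero]
    rfl

end ddMap

section ddual

variable {R : Type u} [CommRing R] (K E : Type u) [AddCommGroup K] [Module R K]
  [AddCommGroup E] [Module R E]

/-- The functor `M ↦ Hom(Hom(M, K), E)`. -/
noncomputable def ddual : ModuleCat.{u} R ⥤ ModuleCat.{u} R where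
  obj M := ModuleCat.of R ((M →ₗ[R] K) →ₗ[R] E)
  map f := ModuleCat.ofHom (ddMap K E f.hom)
  map_id M := by
    apply ModuleCat.hom_ext
    apply LinearMap.ext
    intro ξ
    rfl
  map_comp f g := by
    apply ModuleCat.hom_ext
    apply LinearMap.ext
    intro ξ
    rfl

variable {K E}

theorem isLinearRightExact_ddual [Module.Injective R E] :
    IsLinearRightExact (ddual (R := R) K E) where
  map_add f g := by
    apply ModuleCat.hom_ext
    change ddMap K E (f + g).hom = ddMap K E f.hom + ddMap K E g.hom
    rw [ModuleCat.hom_add, ddMap_add]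
  map_smul r f := by
    apply ModuleCat.hom_ext
    change ddMap K E (r • f).hom = r • ddMap K E f.hom
    rw [ModuleCat.hom_smul, ddMap_smul]
  surj := by
    intro M M'' v hv
    exact ddMap_surjective v.hom hv
  exact := by
    intro M' M M'' u v huv hv
    exact ddMap_exact u.hom v.hom huv hv

end ddual

section lc

variable {R : Type u} [CommRing R] (J : Ideal R) (n : ℕ)

/-- `H^n_J` is right exact when `cd J ≤ n`: surjectivity. -/
theorem map_surjective_of_cdLE (hcd : CdLE R J n) {M M'' : Type u} [AddCommGroup M] [Module R M]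
    [AddCommGroup M''] [Module R M''] (v : M →ₗ[R] M'') (hv : Function.Surjective v) :
    Function.Surjective ((localCohomology J n).map (ModuleCat.ofHom v)).hom := by
  let T : ShortComplex (ModuleCat.{u} R) :=
    ModuleCat.shortComplexOfCompEqZero (LinearMap.ker v).subtype v (by
      apply LinearMap.ext
      intro x
      exact x.2)
  have hT : T.ShortExact := by
    apply ModuleCat.shortComplex_shortExact
    · intro x
      change v x = 0 ↔ x ∈ Set.range (LinearMap.ker v).subtype
      constructor
      · intro hx; exact ⟨⟨x, hx⟩, rfl⟩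
      · rintro ⟨y, rfl⟩; exact y.2
    · exact Submodule.subtype_injective _
    · exact hv
  have hq1 : Subsingleton (H J (n + 1) (LinearMap.ker v)) :=
    hcd (LinearMap.ker v) (n + 1) (Nat.lt_succ_self n)
  intro y
  have h1 : δ J n hT y = 0 := hq1.elim _ _
  exact (exact_g_δ J n hT y).mp h1

/-- `H^n_J` is right exact when `cd J ≤ n`: exactness. -/
theorem map_exact_of_cdLE (hcd : CdLE R J n) {M' M M'' : Type u} [AddCommGroup M'] [Module R M']
    [AddCommGroup M] [Module R M] [AddCommGroup M''] [Module R M'']
    (u : M' →ₗ[R] M) (v : M →ₗ[R] M'') (huv : Function.Exact u v) (hv : Function.Surjective v) :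
    Function.Exact ((localCohomology J n).map (ModuleCat.ofHom u)).hom
      ((localCohomology J n).map (ModuleCat.ofHom v)).hom := by
  let T : ShortComplex (ModuleCat.{u} R) :=
    ModuleCat.shortComplexOfCompEqZero (LinearMap.ker v).subtype v (by
      apply LinearMap.ext
      intro x
      exact x.2)
  have hT : T.ShortExact := by
    apply ModuleCat.shortComplex_shortExact
    · intro x
      change v x = 0 ↔ x ∈ Set.range (LinearMap.ker v).subtype
      constructor
      · intro hx; exact ⟨⟨x, hx⟩, rfl⟩
      · rintro ⟨y, rfl⟩; exact y.2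
    · exact Submodule.subtype_injective _
    · exact hv
  have hvu : ∀ x, u x ∈ LinearMap.ker v := fun x => (huv (u x)).mpr ⟨x, rfl⟩
  let ubar : M' →ₗ[R] LinearMap.ker v := u.codRestrict _ hvu
  have hubar : Function.Surjective ubar := by
    rintro ⟨y, hy⟩
    obtain ⟨x, rfl⟩ := (huv y).mp hy
    exact ⟨x, rfl⟩
  have hs := map_surjective_of_cdLE J n hcd ubar hubar
  have hfac : ModuleCat.ofHom u = ModuleCat.ofHom ubar ≫ T.f := by
    apply ModuleCat.hom_ext
    apply LinearMap.ext
    intro x
    rfl
  intro y
  constructor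
  · intro hy
    obtain ⟨w, rfl⟩ := (exact_f_g J n hT y).mp hy
    obtain ⟨x, rfl⟩ := hs w
    refine ⟨x, ?_⟩
    rw [hfac, Functor.map_comp]
    rfl
  · rintro ⟨x, rfl⟩
    rw [hfac, Functor.map_comp]
    exact (exact_f_g J n hT _).mpr ⟨_, rfl⟩

theorem isLinearRightExact_localCohomology (hcd : CdLE R J n) :
    IsLinearRightExact (localCohomology J n) where
  map_add f g := by
    apply ModuleCat.hom_ext
    apply LinearMap.ext
    intro x
    rw [ModuleCat.hom_add, LinearMap.add_apply]
    exact map_add' J n f g x
  map_smul r f := by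
    apply ModuleCat.hom_ext
    apply LinearMap.ext
    intro x
    rw [ModuleCat.hom_smul, LinearMap.smul_apply]
    have h1 : r • f = f ≫ (r • 𝟙 _) := by
      rw [Linear.comp_smul, Category.comp_id]
    rw [h1, Functor.map_comp]
    exact map_smul_id J n _ r _
  surj := by
    intro M M'' v hv
    exact map_surjective_of_cdLE J n hcd v.hom hv
  exact := by
    intro M' M M'' u v huv hv
    exact map_exact_of_cdLE J n hcd u.hom v.hom huv hv

end lc

section main

variable {R : Type u} [CommRing R] [IsNoetherianRing R] [IsLocalRing R]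

/-- The top local cohomology of a finite module in terms of a canonical module. -/
theorem nonempty_H_equiv_ddual (n : ℕ) (hn : ringKrullDim R = n)
    {E : Type u} [AddCommGroup E] [Module R E] (f : ResidueField R →ₗ[R] E)
    (hf : InjHull.IsInjectiveHull f) (K : Type u) [AddCommGroup K] [Module R K]
    (eK : (K →ₗ[R] E) ≃ₗ[R] H (maximalIdeal R) n R)
    (M : Type u) [AddCommGroup M] [Module R M] [Module.Finite R M] :
    Nonempty (H (maximalIdeal R) n M ≃ₗ[R] ((M →ₗ[R] K) →ₗ[R] E)) := by
  haveI : Module.Injective R E := hf.isInjective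
  have hcd : CdLE R (maximalIdeal R) n := cdLE_of_ringKrullDim_le _ n hn.le
  have hF := isLinearRightExact_localCohomology (maximalIdeal R) n hcd
  have hG := isLinearRightExact_ddual (R := R) (K := K) (E := E)
  let e0 : H (maximalIdeal R) n R ≃ₗ[R] ((R →ₗ[R] K) →ₗ[R] E) :=
    eK.symm.trans (LinearEquiv.arrowCongr (LinearMap.ringLmapEquivSelf R R K).symm
      (LinearEquiv.refl R E))
  let e : (localCohomology (maximalIdeal R) n).obj (O R) ≅ (ddual K E).obj (O R) :=
    e0.toModuleIso
  exact nonempty_linearEquiv hF hG e M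

end main

end Groth.Agent.Helper8.CanMod
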