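import Mathlib
import Groth.Agent.Lib.Helper8.Watts1

/-!
# Naturality of the comparison isomorphism between right exact linear functors
-/

set_option autoImplicit false
universe u

namespace Groth.Agent.Helper8.Watts

open CategoryTheory

variable {R : Type u} [CommRing R]

variable {F G : ModuleCat.{u} R ⥤ ModuleCat.{u} R} (hF : IsLinearRightExact F)
  (hG : IsLinearRightExact G)

/-- compatibility of a linear equivalence `F M ≃ G M` with the comparison maps on free modules. -/
def IsCompat (F G : ModuleCat.{u} R ⥤ ModuleCat.{u} R) (e : F.obj (O R) ≅ G.obj (O R))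
    (M : ModuleCat.{u} R) (τ : F.obj M ≃ₗ[R] G.obj M) : Prop :=
  ∀ (b : ℕ) (π : P R b ⟶ M) (x : F.obj (P R b)),
    τ ((F.map π).hom x) = (G.map π).hom ((φ F G e.hom b).hom x)

include hF hG in
/-- the comparison isomorphism on a free module is compatible. -/
theorem isCompat_free (e : F.obj (O R) ≅ G.obj (O R)) (a : ℕ) :
    IsCompat F G e (P R a) (φIso hF hG e a).toLinearEquiv := by
  intro b π x
  have := φ_naturality hF hG e.hom π
  exact congrArg (fun k => k.hom x) this

include hF hG in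
/-- existence of a compatible comparison isomorphism on finite modules. -/
theorem exists_isCompat [IsNoetherianRing R] (e : F.obj (O R) ≅ G.obj (O R))
    (M : Type u) [AddCommGroup M] [Module R M] [Module.Finite R M] :
    ∃ τ : F.obj (ModuleCat.of R M) ≃ₗ[R] G.obj (ModuleCat.of R M),
      IsCompat F G e (ModuleCat.of R M) τ := by
  obtain ⟨b, π, hπ⟩ := Module.Finite.exists_fin' R M
  obtain ⟨a, ρ', hρ'⟩ := Module.Finite.exists_fin' R (LinearMap.ker π)
  let ρ : (Fin a → R) →ₗ[R] (Fin b → R) := (LinearMap.ker π).subtype ∘ₗ ρ'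
  have hex : Function.Exact ρ π := by
    intro x
    constructor
    · intro hx
      obtain ⟨y, hy⟩ := hρ' ⟨x, hx⟩
      exact ⟨y, by simp [ρ, hy]⟩
    · rintro ⟨y, rfl⟩
      exact (ρ' y).2
  let πc : P R b ⟶ ModuleCat.of R M := ModuleCat.ofHom π
  let ρc : P R a ⟶ P R b := ModuleCat.ofHom ρ
  have hFex := hF.exact ρc πc hex hπ
  have hGex := hG.exact ρc πc hex hπ
  have hFs := hF.surj πc hπ
  have hGs := hG.surj πc hπ
  let Φb : F.obj (P R b) ≃ₗ[R] G.obj (P R b) := (φIso hF hG e b).toLinearEquiv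
  let Φa : F.obj (P R a) ≃ₗ[R] G.obj (P R a) := (φIso hF hG e a).toLinearEquiv
  have hnat : ∀ x, Φb ((F.map ρc).hom x) = (G.map ρc).hom (Φa x) := by
    intro x
    have := φ_naturality hF hG e.hom ρc
    exact congrArg (fun k => k.hom x) this
  have hker : (LinearMap.ker (F.map πc).hom).map Φb.toLinearMap = LinearMap.ker (G.map πc).hom := by
    rw [LinearMap.exact_iff.mp hFex, LinearMap.exact_iff.mp hGex]
    ext y
    constructor
    · rintro ⟨_, ⟨x, rfl⟩, rfl⟩
      exact ⟨Φa x, (hnat x).symm⟩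
    · rintro ⟨x, rfl⟩
      refine ⟨(F.map ρc).hom (Φa.symm x), ⟨_, rfl⟩, ?_⟩
      change Φb ((F.map ρc).hom (Φa.symm x)) = _
      rw [hnat, LinearEquiv.apply_symm_apply]
  let τ : F.obj (ModuleCat.of R M) ≃ₗ[R] G.obj (ModuleCat.of R M) :=
    ((LinearMap.quotKerEquivOfSurjective _ hFs).symm.trans
      (Submodule.Quotient.equiv _ _ Φb hker)).trans (LinearMap.quotKerEquivOfSurjective _ hGs)
  have hτ : ∀ x, τ ((F.map πc).hom x) = (G.map πc).hom (Φb x) := by
    intro x
    have h1 : (LinearMap.quotKerEquivOfSurjective _ hFs).symm ((F.map πc).hom x) =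
        Submodule.Quotient.mk x := by
      rw [LinearEquiv.symm_apply_eq]
      rfl
    change (LinearMap.quotKerEquivOfSurjective _ hGs)
      ((Submodule.Quotient.equiv _ _ Φb hker)
        ((LinearMap.quotKerEquivOfSurjective _ hFs).symm ((F.map πc).hom x))) = _
    rw [h1]
    rfl
  refine ⟨τ, ?_⟩
  intro b' π' x
  obtain ⟨α, hα⟩ := Module.projective_lifting_property π π'.hom hπ
  let αc : P R b' ⟶ P R b := ModuleCat.ofHom α
  have hfac : π' = αc ≫ πc := by
    apply ModuleCat.hom_ext
    exact hα.symm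
  have hnat' : ∀ x, Φb ((F.map αc).hom x) = (G.map αc).hom ((φ F G e.hom b').hom x) := by
    intro x
    have := φ_naturality hF hG e.hom αc
    exact congrArg (fun k => k.hom x) this
  rw [hfac, F.map_comp, G.map_comp]
  change τ ((F.map πc).hom ((F.map αc).hom x)) = (G.map πc).hom ((G.map αc).hom _)
  rw [hτ, hnat']

include hF in
/-- compatible comparison isomorphisms are natural. -/
theorem isCompat_natural [IsNoetherianRing R] (e : F.obj (O R) ≅ G.obj (O R))
    {M N : Type u} [AddCommGroup M] [Module R M] [Module.Finite R M]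
    [AddCommGroup N] [Module R N]
    (τM : F.obj (ModuleCat.of R M) ≃ₗ[R] G.obj (ModuleCat.of R M))
    (hM : IsCompat F G e (ModuleCat.of R M) τM)
    (τN : F.obj (ModuleCat.of R N) ≃ₗ[R] G.obj (ModuleCat.of R N))
    (hN : IsCompat F G e (ModuleCat.of R N) τN)
    (g : ModuleCat.of R M ⟶ ModuleCat.of R N) (x : F.obj (ModuleCat.of R M)) :
    τN ((F.map g).hom x) = (G.map g).hom (τM x) := by
  obtain ⟨b, π, hπ⟩ := Module.Finite.exists_fin' R M
  let πc : P R b ⟶ ModuleCat.of R M := ModuleCat.ofHom π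
  obtain ⟨y, rfl⟩ := hF.surj πc hπ x
  rw [hM b πc y]
  have h1 : (F.map g).hom ((F.map πc).hom y) = (F.map (πc ≫ g)).hom y := by
    rw [F.map_comp]; rfl
  have h2 : (G.map g).hom ((G.map πc).hom ((φ F G e.hom b).hom y)) =
      (G.map (πc ≫ g)).hom ((φ F G e.hom b).hom y) := by
    rw [G.map_comp]; rfl
  rw [h1, h2, hN b (πc ≫ g) y]

end Groth.Agent.Helper8.Watts
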