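import Mathlib
import Groth.Agent.Lib.Helper8.Watts2
import Groth.Agent.Lib.Helper8.CanMod3
import Groth.Agent.Lib.Helper8.LD11

/-!
# Local duality with a canonical module by dimension shifting
-/

set_option autoImplicit false
universe u

namespace Groth.Agent.Helper8.CanMod

open LocCoh IsLocalRing CategoryTheory Abelian Groth.Agent.Helper8.LC Groth.Agent.Helper8.Watts
open Groth.Agent.Helper8.LD

variable {R : Type u} [CommRing R] [IsNoetherianRing R]

/-- **Local duality by dimension shifting**, with a general "dualizing pair" `(K, E)`. -/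
theorem nonempty_H_equiv_dual_ext_pair (J : Ideal R) (n : ℕ) (hcd : CdLE R J n)
    (hvan : ∀ i, i ≠ n → Subsingleton (H J i R))
    (K E : Type u) [AddCommGroup K] [Module R K] [AddCommGroup E] [Module R E]
    [Module.Injective R E]
    (e0 : H J n R ≃ₗ[R] ((R →ₗ[R] K) →ₗ[R] E)) :
    ∀ (j i : ℕ), i + j = n → ∀ (M : Type u) [AddCommGroup M] [Module R M] [Module.Finite R M],
      Nonempty (H J i M ≃ₗ[R]
        (Ext (ModuleCat.of R M) (ModuleCat.of R K) j →ₗ[R] E)) := by
  have hF := isLinearRightExact_localCohomology J n hcd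
  have hG := isLinearRightExact_ddual (R := R) (K := K) (E := E)
  let e : (localCohomology J n).obj (O R) ≅ (ddual K E).obj (O R) := e0.toModuleIso
  intro j
  induction j with
  | zero =>
    intro i hi M _ _ _
    rw [add_zero] at hi
    subst hi
    obtain ⟨τ, -⟩ := exists_isCompat hF hG e M
    let τ' : H J i M ≃ₗ[R] ((M →ₗ[R] K) →ₗ[R] E) := τ
    exact ⟨τ'.trans (LinearEquiv.arrowCongr (ext0Equiv M K).symm (LinearEquiv.refl R _))⟩
  | succ j ih =>
    intro i hi M _ _ _
    obtain ⟨a, p, hp⟩ := Module.Finite.exists_fin' R M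
    have hS := LinearMap.shortExact_shortComplexKer hp
    have hFv : ∀ k, k ≠ n → Subsingleton (H J k (Fin a → R)) :=
      fun k hk => subsingleton_pi_fin J k (hvan k hk) a
    have hproj : ∀ k, Subsingleton (Ext (ModuleCat.of R (Fin a → R)) (ModuleCat.of R K) (k + 1)) :=
      fun k => Ext.subsingleton_of_projective _ _ k
    cases j with
    | zero =>
      -- `i + 1 = n`
      have hin : n = i + 1 := by omega
      subst hin
      let ι : LinearMap.ker p →ₗ[R] (Fin a → R) := (LinearMap.ker p).subtype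
      let d : H J i M →ₗ[R] H J (i + 1) (LinearMap.ker p) := δ J i hS
      have hdinj : Function.Injective d := by
        rw [injective_iff_map_eq_zero]
        intro x hx
        obtain ⟨w, rfl⟩ := (exact_g_δ J i hS x).mp hx
        have hw : w = 0 := (hFv i (by omega)).elim _ _
        rw [hw]
        exact map_zero _
      have hdrange : LinearMap.range d = LinearMap.ker (hmap J (i + 1) ι) := by
        ext y
        rw [LinearMap.mem_ker]
        exact (exact_δ_f J i hS y).symm
      let eA : H J i M ≃ₗ[R] LinearMap.ker (hmap J (i + 1) ι) :=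
        (LinearEquiv.ofInjective d hdinj).trans (LinearEquiv.ofEq _ _ hdrange)
      obtain ⟨τN, hτN⟩ := exists_isCompat hF hG e (LinearMap.ker p)
      let τF : (localCohomology J (i + 1)).obj (P R a) ≃ₗ[R] (ddual K E).obj (P R a) :=
        (φIso hF hG e a).toLinearEquiv
      have hτF := isCompat_free hF hG e a
      let τN' : H J (i + 1) (LinearMap.ker p) ≃ₗ[R] ((LinearMap.ker p →ₗ[R] K) →ₗ[R] E) := τN
      let τF' : H J (i + 1) (Fin a → R) ≃ₗ[R] (((Fin a → R) →ₗ[R] K) →ₗ[R] E) := τF
      obtain ⟨eB⟩ := nonempty_ker_equiv (hmap J (i + 1) ι) (ddMap K E ι)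
        τN'.toLinearMap τF'.toLinearMap
        (by
          intro ξ
          exact isCompat_natural hF e τN hτN τF hτF (ModuleCat.ofHom ι) ξ)
        τN'.bijective τF'.injective
      -- the Ext side
      let u : ((Fin a → R) →ₗ[R] K) →ₗ[R] (LinearMap.ker p →ₗ[R] K) := LinearMap.lcomp R K ι
      let dd : (LinearMap.ker p →ₗ[R] K) →ₗ[R] Ext (ModuleCat.of R M) (ModuleCat.of R K) 1 :=
        (extδ hS (ModuleCat.of R K) 0) ∘ₗ (ext0Equiv (LinearMap.ker p) K).symm.toLinearMap
      have hddsurj : Function.Surjective dd := by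
        intro y
        obtain ⟨x, hx⟩ := extδ_surjective hS (ModuleCat.of R K) 0 (hproj 0) y
        exact ⟨ext0Equiv (LinearMap.ker p) K x, by simp [dd, hx]⟩
      have hddex : Function.Exact u dd := by
        intro b
        constructor
        · intro hb
          obtain ⟨x₂, hx₂⟩ := (extδ_exact hS (ModuleCat.of R K) _).mp hb
          obtain ⟨ψ, rfl⟩ := (Ext.mk₀_bijective _ _).2 x₂
          refine ⟨ψ.hom, ?_⟩
          have h3 : (ext0Equiv (LinearMap.ker p) K).symm b =
              (Ext.mk₀ (p.shortComplexKer).f).comp (Ext.mk₀ ψ) (zero_add 0) := hx₂.symm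
          have h2 : b = ext0Equiv (LinearMap.ker p) K
              ((Ext.mk₀ (p.shortComplexKer).f).comp (Ext.mk₀ ψ) (zero_add 0)) := by
            rw [← h3, LinearEquiv.apply_symm_apply]
          rw [h2, Ext.mk₀_comp_mk₀, ext0Equiv_mk₀]
          rfl
        · rintro ⟨φ, rfl⟩
          apply (extδ_exact hS (ModuleCat.of R K) _).mpr
          refine ⟨Ext.mk₀ (ModuleCat.ofHom φ), ?_⟩
          change (Ext.mk₀ (p.shortComplexKer).f).comp (Ext.mk₀ (ModuleCat.ofHom φ)) (zero_add 0) =
            (ext0Equiv (LinearMap.ker p) K).symm (u φ)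
          rw [Ext.mk₀_comp_mk₀, LinearEquiv.eq_symm_apply, ext0Equiv_mk₀]
          rfl
      obtain ⟨eC⟩ := nonempty_hom_coker_equiv (E := E) u dd hddsurj hddex
      exact ⟨(eA.trans eB).trans eC.symm⟩
    | succ j =>
      have hbij := δ_bijective_of_subsingleton J i hS (hFv i (by omega)) (hFv (i + 1) (by omega))
      let e1 : H J i M ≃ₗ[R] H J (i + 1) (LinearMap.ker p) :=
        LinearEquiv.ofBijective (δ J i hS) hbij
      obtain ⟨e2⟩ := ih (i + 1) (by omega) (LinearMap.ker p)
      let e3 : Ext (ModuleCat.of R (LinearMap.ker p)) (ModuleCat.of R K) (j + 1) ≃ₗ[R]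
          Ext (ModuleCat.of R M) (ModuleCat.of R K) (j + 1 + 1) :=
        LinearEquiv.ofBijective (extδ hS (ModuleCat.of R K) (j + 1))
          (extδ_bijective hS (ModuleCat.of R K) (j + 1) (hproj j) (hproj (j + 1)))
      exact ⟨(e1.trans e2).trans (LinearEquiv.arrowCongr e3 (LinearEquiv.refl R _))⟩

end Groth.Agent.Helper8.CanMod
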