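import Mathlib
import Groth.Agent.Lib.Helper8.CanMod4

/-!
# Local duality with a canonical module over a Cohen-Macaulay local ring
-/

set_option autoImplicit false
universe u

namespace Groth.Agent.Helper8.CanMod

open LocCoh IsLocalRing CategoryTheory Abelian Opposite Groth.Agent.Helper8.LC
open Groth.Agent.Helper8.Watts Groth.Agent.Helper8.LD Groth.Agent.Helper8.Depth

/-- the local cohomology of a Cohen-Macaulay local ring is concentrated in degree `dim R`. -/
theorem subsingleton_H_of_cm (R : Type u) [CommRing R] [IsCohenMacaulayLocalRing R] (n : ℕ)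
    (hn : ringKrullDim R = n) (i : ℕ) (hi : i ≠ n) : Subsingleton (H (maximalIdeal R) i R) := by
  have hmR : maximalIdeal R • (⊤ : Submodule R R) ≠ ⊤ := smul_top_ne_top_of_local R R
  have hCM : IsCohenMacaulayLocalRing R := inferInstance
  have hM : IsCohenMacaulayModule R R := hCM.supportDim_eq_depth
  obtain ⟨n', hn', hdepth⟩ := cm_exists_nat hM
  have hnn : n' = n := by
    rw [Module.supportDim_self_eq_ringKrullDim, hn] at hn'
    exact_mod_cast hn'.symm
  subst hnn
  rcases Nat.lt_or_gt_of_ne hi with h | h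
  · exact subsingleton_of_lt_idealDepth (maximalIdeal R) hmR i (by
      change (i : ℕ∞) < depth R R
      rw [hdepth]; exact_mod_cast h)
  · apply subsingleton_of_supportDim_lt (maximalIdeal R)
    rw [hn']
    exact_mod_cast h

/-- **Local duality with a canonical module** over a Cohen-Macaulay local ring. -/
theorem nonempty_H_equiv_dual_ext_canon (R : Type u) [CommRing R] [IsCohenMacaulayLocalRing R]
    (n : ℕ) (hn : ringKrullDim R = n) (E : Type u) [AddCommGroup E] [Module R E]
    (f : ResidueField R →ₗ[R] E) (hf : InjHull.IsInjectiveHull f)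
    (K : Type u) [AddCommGroup K] [Module R K]
    (eK : (K →ₗ[R] E) ≃ₗ[R] H (maximalIdeal R) n R)
    (M : Type u) [AddCommGroup M] [Module R M] [Module.Finite R M] (i j : ℕ) (hij : i + j = n) :
    Nonempty (H (maximalIdeal R) i M ≃ₗ[R]
      (Ext (ModuleCat.of R M) (ModuleCat.of R K) j →ₗ[R] E)) := by
  haveI : Module.Injective R E := hf.isInjective
  have hcd : CdLE R (maximalIdeal R) n := cdLE_of_ringKrullDim_le _ n hn.le
  let e0 : H (maximalIdeal R) n R ≃ₗ[R] ((R →ₗ[R] K) →ₗ[R] E) :=
    eK.symm.trans (LinearEquiv.arrowCongr (LinearMap.ringLmapEquivSelf R R K).symm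
      (LinearEquiv.refl R E))
  exact nonempty_H_equiv_dual_ext_pair (maximalIdeal R) n hcd (subsingleton_H_of_cm R n hn) K E e0
    j i hij M

/-- the same with the derived functor version of `Ext`. -/
theorem nonempty_H_equiv_dual_oldExt_canon (R : Type u) [CommRing R] [IsCohenMacaulayLocalRing R]
    (n : ℕ) (hn : ringKrullDim R = n) (E : Type u) [AddCommGroup E] [Module R E]
    (f : ResidueField R →ₗ[R] E) (hf : InjHull.IsInjectiveHull f)
    (K : Type u) [AddCommGroup K] [Module R K]
    (eK : (K →ₗ[R] E) ≃ₗ[R] H (maximalIdeal R) n R)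
    (M : Type u) [AddCommGroup M] [Module R M] [Module.Finite R M] (i j : ℕ) (hij : i + j = n) :
    Nonempty (H (maximalIdeal R) i M ≃ₗ[R]
      ((((_root_.Ext R (ModuleCat.{u} R) j).obj (op (ModuleCat.of R M))).obj
        (ModuleCat.of R K)) →ₗ[R] E)) := by
  obtain ⟨e⟩ := nonempty_H_equiv_dual_ext_canon R n hn E f hf K eK M i j hij
  exact ⟨e.trans (LinearEquiv.arrowCongr
    (cmpC (ModuleCat.of R M) (ModuleCat.of R K) j).symm (LinearEquiv.refl R _))⟩

end Groth.Agent.Helper8.CanMod
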