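import Mathlib
import Groth.Agent.Lib.Helper8.CanMod5

/-!
# Vanishing of `Ext^j(M, K)` above the dimension, and the injective dimension of a canonical module
-/

set_option autoImplicit false
universe u

namespace Groth.Agent.Helper8.CanMod

open LocCoh IsLocalRing CategoryTheory Abelian Groth.Agent.Helper8.LC Groth.Agent.Helper8.Watts
open Groth.Agent.Helper8.LD

section pair

variable {R : Type u} [CommRing R] [IsNoetherianRing R]

/-- The degree one piece of duality: `ker(H^n(N) → H^n(F)) ≃ Hom(Ext^1(M, K), E)` for a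
presentation `0 → N → F → M → 0`. -/
theorem nonempty_ker_hmap_equiv_dual_ext_one (J : Ideal R) (n : ℕ) (hcd : CdLE R J n)
    (K E : Type u) [AddCommGroup K] [Module R K] [AddCommGroup E] [Module R E]
    [Module.Injective R E]
    (e0 : H J n R ≃ₗ[R] ((R →ₗ[R] K) →ₗ[R] E))
    (M : Type u) [AddCommGroup M] [Module R M] [Module.Finite R M] {a : ℕ}
    (p : (Fin a → R) →ₗ[R] M) (hp : Function.Surjective p) :
    Nonempty (LinearMap.ker (hmap J n (LinearMap.ker p).subtype) ≃ₗ[R]
      (Ext (ModuleCat.of R M) (ModuleCat.of R K) 1 →ₗ[R] E)) := by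
  have hF := isLinearRightExact_localCohomology J n hcd
  have hG := isLinearRightExact_ddual (R := R) (K := K) (E := E)
  let e : (localCohomology J n).obj (O R) ≅ (ddual K E).obj (O R) := e0.toModuleIso
  have hS := LinearMap.shortExact_shortComplexKer hp
  have hproj : ∀ k, Subsingleton (Ext (ModuleCat.of R (Fin a → R)) (ModuleCat.of R K) (k + 1)) :=
    fun k => Ext.subsingleton_of_projective _ _ k
  let ι : LinearMap.ker p →ₗ[R] (Fin a → R) := (LinearMap.ker p).subtype
  obtain ⟨τN, hτN⟩ := exists_isCompat hF hG e (LinearMap.ker p)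
  let τF : (localCohomology J n).obj (P R a) ≃ₗ[R] (ddual K E).obj (P R a) :=
    (φIso hF hG e a).toLinearEquiv
  have hτF := isCompat_free hF hG e a
  let τN' : H J n (LinearMap.ker p) ≃ₗ[R] ((LinearMap.ker p →ₗ[R] K) →ₗ[R] E) := τN
  let τF' : H J n (Fin a → R) ≃ₗ[R] (((Fin a → R) →ₗ[R] K) →ₗ[R] E) := τF
  obtain ⟨eB⟩ := nonempty_ker_equiv (hmap J n ι) (ddMap K E ι)
    τN'.toLinearMap τF'.toLinearMap
    (by
      intro ξ
      exact isCompat_natural hF e τN hτN τF hτF (ModuleCat.ofHom ι) ξ)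
    τN'.bijective τF'.injective
  -- the Ext side
  let u : ((Fin a → R) →ₗ[R] K) →ₗ[R] (LinearMap.ker p →ₗ[R] K) := LinearMap.lcomp R K ι
  let dd : (LinearMap.ker p →ₗ[R] K) →ₗ[R] Ext (ModuleCat.of R M) (ModuleCat.of R K) 1 :=
    (extδ hS (ModuleCat.of R K) 0) ∘ₗ (ext0Equiv (LinearMap.ker p) K).symm.toLinearMap
  have hddsurj : Function.Surjective dd := by
    intro y
    obtain ⟨x, hx⟩ := extδ_surjective hS (ModuleCat.of R K) 0 (hproj 0) y
    exact ⟨ext0Equiv (LinearMap.ker p) K x, by simp [dd, hx]⟩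
  have hddex : Function.Exact u dd := by
    intro b
    constructor
    · intro hb
      obtain ⟨x₂, hx₂⟩ := (extδ_exact hS (ModuleCat.of R K) _).mp hb
      obtain ⟨ψ, rfl⟩ := (Ext.mk₀_bijective _ _).2 x₂
      refine ⟨ψ.hom, ?_⟩
      have h3 : (ext0Equiv (LinearMap.ker p) K).symm b =
          (Ext.mk₀ (p.shortComplexKer).f).comp (Ext.mk₀ ψ) (zero_add 0) := hx₂.symm
      have h2 : b = ext0Equiv (LinearMap.ker p) K
          ((Ext.mk₀ (p.shortComplexKer).f).comp (Ext.mk₀ ψ) (zero_add 0)) := by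
        rw [← h3, LinearEquiv.apply_symm_apply]
      rw [h2, Ext.mk₀_comp_mk₀, ext0Equiv_mk₀]
      rfl
    · rintro ⟨φ, rfl⟩
      apply (extδ_exact hS (ModuleCat.of R K) _).mpr
      refine ⟨Ext.mk₀ (ModuleCat.ofHom φ), ?_⟩
      change (Ext.mk₀ (p.shortComplexKer).f).comp (Ext.mk₀ (ModuleCat.ofHom φ)) (zero_add 0) =
        (ext0Equiv (LinearMap.ker p) K).symm (u φ)
      rw [Ext.mk₀_comp_mk₀, LinearEquiv.eq_symm_apply, ext0Equiv_mk₀]
      rfl
  obtain ⟨eC⟩ := nonempty_hom_coker_equiv (E := E) u dd hddsurj hddex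
  exact ⟨eB.trans eC.symm⟩

omit [IsNoetherianRing R] in
/-- a dual of a quotient embeds into the dual. -/
theorem subsingleton_dual_of_surjective {X Y E : Type*} [AddCommGroup X] [Module R X]
    [AddCommGroup Y] [Module R Y] [AddCommGroup E] [Module R E] (g : X →ₗ[R] Y)
    (hg : Function.Surjective g) (h : Subsingleton (X →ₗ[R] E)) : Subsingleton (Y →ₗ[R] E) := by
  refine ⟨fun φ ψ => ?_⟩
  have h1 : φ ∘ₗ g = ψ ∘ₗ g := h.elim _ _
  apply LinearMap.ext
  intro y
  obtain ⟨x, rfl⟩ := hg y
  exact LinearMap.congr_fun h1 x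

/-- **Vanishing above the dimension** (in dual form). -/
theorem subsingleton_dual_ext_above (J : Ideal R) (n : ℕ) (hcd : CdLE R J n)
    (hvan : ∀ i, i ≠ n → Subsingleton (H J i R))
    (K E : Type u) [AddCommGroup K] [Module R K] [AddCommGroup E] [Module R E]
    [Module.Injective R E]
    (e0 : H J n R ≃ₗ[R] ((R →ₗ[R] K) →ₗ[R] E)) :
    ∀ (k : ℕ) (M : Type u) [AddCommGroup M] [Module R M] [Module.Finite R M],
      Subsingleton (Ext (ModuleCat.of R M) (ModuleCat.of R K) (n + 1 + k) →ₗ[R] E) := by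
  intro k
  induction k with
  | zero =>
    intro M _ _ _
    obtain ⟨a, p, hp⟩ := Module.Finite.exists_fin' R M
    have hS := LinearMap.shortExact_shortComplexKer hp
    have hproj : ∀ k, Subsingleton (Ext (ModuleCat.of R (Fin a → R)) (ModuleCat.of R K) (k + 1)) :=
      fun k => Ext.subsingleton_of_projective _ _ k
    rw [add_zero]
    cases n with
    | zero =>
      obtain ⟨e1⟩ := nonempty_ker_hmap_equiv_dual_ext_one J 0 hcd K E e0 M p hp
      have hinj : Function.Injective (hmap J 0 (LinearMap.ker p).subtype) :=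
        map_f_injective_zero J hS
      have hker : Subsingleton (LinearMap.ker (hmap J 0 (LinearMap.ker p).subtype)) := by
        rw [LinearMap.ker_eq_bot.mpr hinj]
        infer_instance
      exact e1.symm.toEquiv.subsingleton
    | succ m =>
      obtain ⟨e1⟩ := nonempty_H_equiv_dual_ext_pair J (m + 1) hcd hvan K E e0 (m + 1) 0 (by omega)
        (LinearMap.ker p)
      have hF0 : Subsingleton (H J 0 (Fin a → R)) :=
        subsingleton_pi_fin J 0 (hvan 0 (by omega)) a
      have hinj : Function.Injective ((localCohomology J 0).map (p.shortComplexKer).f) :=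
        map_f_injective_zero J hS
      have hN0 : Subsingleton (H J 0 (LinearMap.ker p)) := by
        refine ⟨fun x y => hinj (hF0.elim _ _)⟩
      have h2 : Subsingleton (Ext (ModuleCat.of R (LinearMap.ker p)) (ModuleCat.of R K) (m + 1)
          →ₗ[R] E) := e1.symm.toEquiv.subsingleton
      exact subsingleton_dual_of_surjective (extδ hS (ModuleCat.of R K) (m + 1))
        (extδ_surjective hS (ModuleCat.of R K) (m + 1) (hproj (m + 1))) h2
  | succ k ih =>
    intro M _ _ _
    obtain ⟨a, p, hp⟩ := Module.Finite.exists_fin' R M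
    have hS := LinearMap.shortExact_shortComplexKer hp
    have hproj : ∀ k, Subsingleton (Ext (ModuleCat.of R (Fin a → R)) (ModuleCat.of R K) (k + 1)) :=
      fun k => Ext.subsingleton_of_projective _ _ k
    have h2 := ih (LinearMap.ker p)
    exact subsingleton_dual_of_surjective (extδ hS (ModuleCat.of R K) (n + 1 + k))
      (extδ_surjective hS (ModuleCat.of R K) (n + 1 + k) (hproj (n + 1 + k))) h2

end pair

end Groth.Agent.Helper8.CanMod
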