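import Mathlib
import Groth.Agent.Lib.Helper8.CanMod6
import Groth.Agent.Lib.Helper8.Goren4
import Groth.Agent.Lib.Helper1.MatlisL

/-!
# The injective dimension and depth of a canonical module over a Cohen-Macaulay local ring
-/

set_option autoImplicit false
universe u

namespace Groth.Agent.Helper8.CanMod

open LocCoh IsLocalRing CategoryTheory Abelian Groth.Agent.Helper8.LC Groth.Agent.Helper8.Watts
open Groth.Agent.Helper8.LD Groth.Agent.Helper8.Depth

variable (R : Type u) [CommRing R] [IsCohenMacaulayLocalRing R]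
  (n : ℕ) (hn : ringKrullDim R = n) (E : Type u) [AddCommGroup E] [Module R E]
  (f : ResidueField R →ₗ[R] E) (hf : InjHull.IsInjectiveHull f)
  (K : Type u) [AddCommGroup K] [Module R K]
  (eK : (K →ₗ[R] E) ≃ₗ[R] H (maximalIdeal R) n R)

include hf in
/-- a module with zero Matlis dual is zero. -/
theorem subsingleton_of_subsingleton_dual (X : Type u) [AddCommGroup X] [Module R X]
    (h : Subsingleton (X →ₗ[R] E)) : Subsingleton X := by
  refine ⟨fun x y => ?_⟩
  by_contra hxy
  have hne : x - y ≠ 0 := sub_ne_zero.mpr hxy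
  obtain ⟨φ, hφ⟩ := Groth.Agent.Helper1.MatlisL.exists_dual_ne_zero f hf hne
  apply hφ
  rw [h.elim φ 0]
  rfl

include hn hf eK in
/-- `Ext^j(M, K) = 0` for `j > dim R` and `M` finite. -/
theorem subsingleton_ext_above (M : Type u) [AddCommGroup M] [Module R M] [Module.Finite R M]
    (j : ℕ) (hj : n < j) : Subsingleton (Ext (ModuleCat.of R M) (ModuleCat.of R K) j) := by
  haveI : Module.Injective R E := hf.isInjective
  have hcd : CdLE R (maximalIdeal R) n := cdLE_of_ringKrullDim_le _ n hn.le
  let e0 : H (maximalIdeal R) n R ≃ₗ[R] ((R →ₗ[R] K) →ₗ[R] E) :=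
    eK.symm.trans (LinearEquiv.arrowCongr (LinearMap.ringLmapEquivSelf R R K).symm
      (LinearEquiv.refl R E))
  obtain ⟨k, rfl⟩ : ∃ k, j = n + 1 + k := ⟨j - (n + 1), by omega⟩
  exact subsingleton_of_subsingleton_dual R E f hf _
    (subsingleton_dual_ext_above (maximalIdeal R) n hcd (subsingleton_H_of_cm R n hn) K E e0 k M)

/-- the residue field is `m`-power torsion. -/
theorem isPowerTorsion_residue : IsPowerTorsion (maximalIdeal R) (R ⧸ maximalIdeal R) := by
  intro x
  refine ⟨1, fun a ha => ?_⟩
  rw [pow_one] at ha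
  obtain ⟨r, rfl⟩ := Ideal.Quotient.mk_surjective x
  rw [← Ideal.Quotient.mk_eq_mk, Algebra.smul_def]
  change Ideal.Quotient.mk _ a * Ideal.Quotient.mk _ r = 0
  rw [Ideal.Quotient.eq_zero_iff_mem.mpr ha, zero_mul]

include hn hf eK in
/-- `Ext^j(k, K) = 0` for `j < dim R`. -/
theorem subsingleton_ext_residue_below (j : ℕ) (hj : j < n) :
    Subsingleton (Ext (ModuleCat.of R (R ⧸ maximalIdeal R)) (ModuleCat.of R K) j) := by
  obtain ⟨e⟩ := nonempty_H_equiv_dual_ext_canon R n hn E f hf K eK (R ⧸ maximalIdeal R)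
    (n - j) j (by omega)
  have h0 := (torsion_h0_and_vanishing (maximalIdeal R) (R ⧸ maximalIdeal R)
    (isPowerTorsion_residue R)).2 (n - j) (by omega)
  exact subsingleton_of_subsingleton_dual R E f hf _ e.symm.toEquiv.subsingleton

include hn hf eK in
/-- `Ext^n(k, K) ≠ 0` for `n = dim R`. -/
theorem nontrivial_ext_residue_dim :
    Nontrivial (Ext (ModuleCat.of R (R ⧸ maximalIdeal R)) (ModuleCat.of R K) n) := by
  obtain ⟨e⟩ := nonempty_H_equiv_dual_ext_canon R n hn E f hf K eK (R ⧸ maximalIdeal R)
    0 n (by omega)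
  obtain ⟨e0⟩ := (torsion_h0_and_vanishing (maximalIdeal R) (R ⧸ maximalIdeal R)
    (isPowerTorsion_residue R)).1
  haveI : Nontrivial (R ⧸ maximalIdeal R) := Ideal.Quotient.nontrivial_iff.mpr
    (maximalIdeal.isMaximal R).ne_top
  haveI : Nontrivial (Ext (ModuleCat.of R (R ⧸ maximalIdeal R)) (ModuleCat.of R K) n →ₗ[R] E) :=
    (e0.symm.trans e).symm.toEquiv.nontrivial
  by_contra hnt
  rw [not_nontrivial_iff_subsingleton] at hnt
  have : Subsingleton (Ext (ModuleCat.of R (R ⧸ maximalIdeal R)) (ModuleCat.of R K) n →ₗ[R] E) := by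
    refine ⟨fun φ ψ => ?_⟩
    apply LinearMap.ext
    intro x
    rw [hnt.elim x 0, map_zero, map_zero]
  exact not_subsingleton _ this

include hn eK in
/-- a canonical module is nonzero. -/
theorem nontrivial_canon : Nontrivial K := by
  haveI := Groth.Agent.Helper8.NV.nontrivial_H_dim (R := R) n hn
  haveI : Nontrivial (K →ₗ[R] E) := eK.toEquiv.nontrivial
  by_contra hnt
  rw [not_nontrivial_iff_subsingleton] at hnt
  have : Subsingleton (K →ₗ[R] E) := by
    refine ⟨fun φ ψ => ?_⟩
    apply LinearMap.ext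
    intro x
    rw [hnt.elim x 0, map_zero, map_zero]
  exact not_subsingleton _ this

include hn hf eK in
/-- **A canonical module of a Cohen-Macaulay local ring** has injective dimension `dim R`, and is a
Cohen-Macaulay module of dimension `dim R`. -/
theorem injectiveDimension_and_cm [Module.Finite R K] :
    HasInjectiveDimensionLT (ModuleCat.of R K) (n + 1) ∧
      ¬ HasInjectiveDimensionLT (ModuleCat.of R K) n ∧
      IsCohenMacaulayModule R K ∧ Module.supportDim R K = n := by
  haveI := nontrivial_canon R n hn E K eK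
  have hnt := nontrivial_ext_residue_dim R n hn E f hf K eK
  have h1 : HasInjectiveDimensionLT (ModuleCat.of R K) (n + 1) :=
    Groth.Agent.Helper8.Goren.hasInjectiveDimensionLT_of_ext_residueField' K (n + 1)
      (fun i hi => subsingleton_ext_above R n hn E f hf K eK _ i (by omega))
  have h2 : ¬ HasInjectiveDimensionLT (ModuleCat.of R K) n := by
    intro h
    have := HasInjectiveDimensionLT.subsingleton (ModuleCat.of R K) n n le_rfl
      (ModuleCat.of R (R ⧸ maximalIdeal R))
    exact not_subsingleton _ this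
  have hmK : maximalIdeal R • (⊤ : Submodule R K) ≠ ⊤ := smul_top_ne_top_of_local R K
  have hdepth : depth R K = n := by
    change idealDepth (maximalIdeal R) K = n
    rw [idealDepth_eq_iff_ext hmK]
    exact ⟨fun i hi => subsingleton_ext_residue_below R n hn E f hf K eK i hi, hnt⟩
  have hdim : Module.supportDim R K = n := by
    apply le_antisymm
    · rw [← hn]
      exact Module.supportDim_le_ringKrullDim R K
    · have := depth_le_supportDim (A := R) (M := K)
      rw [hdepth] at this
      exact this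
  refine ⟨h1, h2, ?_, hdim⟩
  change Module.supportDim R K = ((depth R K : ℕ∞) : WithBot ℕ∞)
  rw [hdim, hdepth]
  rfl

end Groth.Agent.Helper8.CanMod
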