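import Groth.Agent.Lib.Helper8.LC16

set_option autoImplicit false
universe u
open CategoryTheory CategoryTheory.Limits Opposite

namespace Groth.Agent.Helper8.LC

variable {R : Type u} [CommRing R]

open Abelian localCohomology LocCoh

lemma exists_nat_of_add_one_le {a : WithBot ℕ∞} (hne : a ≠ ⊥) {d : ℕ}
    (h : a + 1 ≤ (d : WithBot ℕ∞)) : ∃ d' : ℕ, a = d' ∧ d' < d := by
  cases a with
  | bot => exact absurd rfl hne
  | coe c =>
    cases c with
    | top =>
      exfalso
      have h1 : ((⊤ : ℕ∞) : WithBot ℕ∞) + 1 = ((⊤ : ℕ∞) : WithBot ℕ∞) := rfl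
      rw [h1] at h
      have h2 : (⊤ : ℕ∞) ≤ (d : ℕ∞) := by exact_mod_cast h
      exact absurd (top_le_iff.mp h2) (ENat.natCast_ne_top d)
    | coe c' =>
      refine ⟨c', rfl, ?_⟩
      have : ((c' + 1 : ℕ) : WithBot ℕ∞) ≤ (d : WithBot ℕ∞) := by exact_mod_cast h
      have : c' + 1 ≤ d := by exact_mod_cast this
      omega

lemma exists_nat_of_lt {a : WithBot ℕ∞} (hne : a ≠ ⊥) {i : ℕ}
    (h : a < (i : WithBot ℕ∞)) : ∃ d' : ℕ, a = d' ∧ d' < i := by
  cases a with
  | bot => exact absurd rfl hne
  | coe c =>
    cases c with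
    | top =>
      exfalso
      have h2 : (⊤ : ℕ∞) < (i : ℕ∞) := by exact_mod_cast h
      exact absurd h2 (not_top_lt)
    | coe c' =>
      refine ⟨c', rfl, ?_⟩
      exact_mod_cast h

section Basic

variable [IsNoetherianRing R] (J : Ideal R) (i : ℕ)

lemma subsingleton_of_subsingleton (M : ModuleCat.{u} R) [Subsingleton M] :
    Subsingleton ((localCohomology J i).obj M) := by
  apply subsingleton_of_forall_eq_zero
  intro z
  have h1 : (𝟙 M : M ⟶ M) = 0 := by
    apply ModuleCat.hom_ext
    apply LinearMap.ext
    intro m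
    exact Subsingleton.elim _ _
  have h2 : ((localCohomology J i).map (𝟙 M)) z = z := by
    rw [CategoryTheory.Functor.map_id]; rfl
  rw [← h2, h1, map_zero']

/-- regular element argument. -/
lemma subsingleton_succ_of_regular (x : R) (hx : x ∈ J) (M : ModuleCat.{u} R)
    (hreg : IsSMulRegular M x) (k : ℕ)
    (h : Subsingleton ((localCohomology J k).obj (ModuleCat.of R (QuotSMulTop x M)))) :
    Subsingleton ((localCohomology J (k + 1)).obj M) := by
  have hS := hreg.smulShortComplex_shortExact
  apply subsingleton_of_smul_injective J x hx (k + 1) M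
  intro z hz
  have h1 : ((localCohomology J (k + 1)).map (ModuleCat.smulShortComplex M x).f) z = 0 :=
    (map_smul_id J (k + 1) M x z).trans hz
  obtain ⟨y, rfl⟩ := (exact_δ_f J k hS z).mp h1
  have hy : y = 0 := h.elim _ _
  subst hy
  exact map_zero _

lemma subsingleton_of_exact {N₁ N₂ N₃ : Type u} [AddCommGroup N₁] [Module R N₁]
    [AddCommGroup N₂] [Module R N₂] [AddCommGroup N₃] [Module R N₃]
    (f : N₁ →ₗ[R] N₂) (g : N₂ →ₗ[R] N₃) (hf : Function.Injective f)
    (hg : Function.Surjective g) (hfg : Function.Exact f g)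
    (h1 : Subsingleton (H J i N₁)) (h3 : Subsingleton (H J i N₃)) : Subsingleton (H J i N₂) := by
  have hS : (ModuleCat.shortComplexOfCompEqZero f g hfg.linearMap_comp_eq_zero).ShortExact :=
    ModuleCat.shortComplex_shortExact _ hfg hf hg
  apply subsingleton_of_forall_eq_zero
  intro z
  have hz : ((localCohomology J i).map (ModuleCat.ofHom g)) z = 0 := Subsingleton.elim _ _
  obtain ⟨y, rfl⟩ := (exact_f_g J i hS z).mp hz
  have hy : y = 0 := Subsingleton.elim _ _
  rw [hy, map_zero]

end Basic

section GV

variable [IsNoetherianRing R] (J : Ideal R)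

lemma gv_aux (d : ℕ) : ∀ (M : Type u) [AddCommGroup M] [Module R M] [Module.Finite R M],
    Module.supportDim R M ≤ d → ∀ i : ℕ, d < i → Subsingleton (H J i M) := by
  induction d using Nat.strong_induction_on with
  | _ d IH =>
  intro M _ _ hfin
  induction hfin using IsNoetherianRing.induction_on_isQuotientEquivQuotientPrime R with
  | subsingleton N =>
    intro _ i _
    exact subsingleton_of_subsingleton J i (ModuleCat.of R N)
  | quotient N p e =>
    intro hdim i hi
    by_cases hJp : J ≤ p.asIdeal
    · apply subsingleton_of_isPowerTorsion J i (by omega) N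
      intro n
      refine ⟨1, fun a ha => ?_⟩
      rw [pow_one] at ha
      apply e.injective
      rw [map_smul, map_zero]
      obtain ⟨r, hr⟩ := Submodule.Quotient.mk_surjective _ (e n)
      rw [← hr, ← Submodule.Quotient.mk_smul, Submodule.Quotient.mk_eq_zero, smul_eq_mul]
      exact Ideal.mul_mem_right _ _ (hJp ha)
    · obtain ⟨x, hxJ, hxp⟩ := SetLike.not_le_iff_exists.mp hJp
      have hreg : IsSMulRegular N x := by
        intro n₁ n₂ h
        apply e.injective
        have h' : x • e n₁ = x • e n₂ := by rw [← map_smul, ← map_smul]; exact congrArg e h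
        have hx0 : (Ideal.Quotient.mk p.asIdeal x) ≠ 0 := by
          rw [Ne, Ideal.Quotient.eq_zero_iff_mem]; exact hxp
        have h'' : (Ideal.Quotient.mk p.asIdeal x) * e n₁ = (Ideal.Quotient.mk p.asIdeal x) * e n₂ :=
          h'
        exact mul_left_cancel₀ hx0 h''
      have hann : Module.annihilator R N = p.asIdeal := by
        rw [e.annihilator_eq, Ideal.annihilator_quotient]
      have hdim2 : Module.supportDim R (QuotSMulTop x N) + 1 ≤ Module.supportDim R N := by
        apply Module.supportDim_quotSMulTop_succ_le_of_notMem_minimalPrimes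
        intro q hq
        rw [hann, Ideal.minimalPrimes_eq_subsingleton_self] at hq
        rw [Set.mem_singleton_iff.mp hq]
        exact hxp
      obtain ⟨k, rfl⟩ : ∃ k, i = k + 1 := ⟨i - 1, by omega⟩
      apply subsingleton_succ_of_regular J x hxJ (ModuleCat.of R N) hreg k
      by_cases hsub : Subsingleton (QuotSMulTop x N)
      · exact subsingleton_of_subsingleton J k (ModuleCat.of R (QuotSMulTop x N))
      · rw [not_subsingleton_iff_nontrivial] at hsub
        have hne : Module.supportDim R (QuotSMulTop x N) ≠ ⊥ :=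
          Module.supportDim_ne_bot_of_nontrivial R _
        obtain ⟨d', hd', hd'lt⟩ := exists_nat_of_add_one_le hne (hdim2.trans hdim)
        exact IH d' hd'lt (QuotSMulTop x N) hd'.le k (by omega)
  | exact N₁ N₂ N₃ f g hf hg hfg h₁ h₃ =>
    intro hdim i hi
    have h1 := h₁ ((Module.supportDim_le_of_injective f hf).trans hdim) i hi
    have h3 := h₃ ((Module.supportDim_le_of_surjective g hg).trans hdim) i hi
    exact subsingleton_of_exact J i f g hf hg hfg h1 h3

theorem subsingleton_of_supportDim_lt_of_finite (M : Type u) [AddCommGroup M] [Module R M]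
    [Module.Finite R M] (i : ℕ) (h : Module.supportDim R M < (i : WithBot ℕ∞)) :
    Subsingleton (H J i M) := by
  by_cases hsub : Subsingleton M
  · exact subsingleton_of_subsingleton J i (ModuleCat.of R M)
  · rw [not_subsingleton_iff_nontrivial] at hsub
    have hne : Module.supportDim R M ≠ ⊥ := Module.supportDim_ne_bot_of_nontrivial R M
    obtain ⟨d, hd, hdi⟩ := exists_nat_of_lt hne h
    exact gv_aux J d M hd.le i hdi

end GV

end Groth.Agent.Helper8.LC
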