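import Groth.Agent.Lib.Helper8.ExtLoc3
import Groth.Agent.Lib.Helper8.LD12

/-!
# Consequences of the localization of `Ext`: vanishing and Gorenstein localizations
-/

set_option autoImplicit false
universe u

namespace Groth.Agent.Helper8.ExtLoc

open CategoryTheory Abelian IsLocalRing LocCoh

variable {R : Type u} [CommRing R] [IsNoetherianRing R] (S : Submonoid R)

/-- vanishing of the localized `Ext` in terms of `S`-torsion. -/
theorem subsingleton_ext_loc_iff (j : ℕ) (M : Type u) [AddCommGroup M] [Module R M]
    [Module.Finite R M] (N : Type u) [AddCommGroup N] [Module R N] :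
    Subsingleton (Ext ((locF S).obj (ModuleCat.of R M)) ((locF S).obj (ModuleCat.of R N)) j) ↔
      ∀ x : Ext (ModuleCat.of R M) (ModuleCat.of R N) j, ∃ s : S, (s : R) • x = 0 := by
  obtain ⟨hs, hi⟩ := Φ_loc S N j M
  constructor
  · intro h x
    exact hi x (h.elim _ _)
  · intro h
    refine ⟨fun a b => ?_⟩
    have key : ∀ y : Ext ((locF S).obj (ModuleCat.of R M)) ((locF S).obj (ModuleCat.of R N)) j,
        y = 0 := by
      intro y
      obtain ⟨s, x, hx⟩ := hs y
      obtain ⟨t, ht⟩ := h x
      have h1 : (algebraMap R (Localization S) ((t * s : S) : R)) • y = 0 := by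
        rw [Submonoid.coe_mul, map_mul, mul_smul, ← hx, ← Φ_smul, ht, map_zero]
      obtain ⟨u, hu⟩ := IsLocalization.map_units (Localization S) (t * s)
      have h2 : y = (↑u⁻¹ : Localization S) • ((u : Localization S) • y) := by
        rw [smul_smul, Units.inv_mul, one_smul]
      rw [h2, hu, h1, smul_zero]
    rw [key a, key b]

/-- if `Ext^j_R(M, N) = 0` then `Ext^j_{R_S}(M_S, N_S) = 0`. -/
theorem subsingleton_ext_loc_of_subsingleton (j : ℕ) (M : Type u) [AddCommGroup M] [Module R M]
    [Module.Finite R M] (N : Type u) [AddCommGroup N] [Module R N]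
    (h : Subsingleton (Ext (ModuleCat.of R M) (ModuleCat.of R N) j)) :
    Subsingleton (Ext ((locF S).obj (ModuleCat.of R M)) ((locF S).obj (ModuleCat.of R N)) j) := by
  rw [subsingleton_ext_loc_iff]
  intro x
  exact ⟨1, by rw [h.elim x 0, smul_zero]⟩

section Prime

variable (p : Ideal R) [p.IsPrime]

omit [IsNoetherianRing R] in
/-- the residue field of `R_p` is the localization of `R ⧸ p`. -/
theorem nonempty_residue_equiv_localizedModule_quotient :
    Nonempty ((Localization.AtPrime p ⧸ maximalIdeal (Localization.AtPrime p))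
      ≃ₗ[Localization.AtPrime p] LocalizedModule p.primeCompl (R ⧸ p)) := by
  let A := Localization.AtPrime p
  let e₁ : LocalizedModule p.primeCompl (R ⧸ p) := LocalizedModule.mk 1 1
  let φ : A →ₗ[A] LocalizedModule p.primeCompl (R ⧸ p) := LinearMap.toSpanSingleton A _ e₁
  have hφsurj : Function.Surjective φ := by
    intro y
    induction y using LocalizedModule.induction_on with
    | h m s =>
      obtain ⟨r, rfl⟩ := Ideal.Quotient.mk_surjective m
      refine ⟨Localization.mk r s, ?_⟩
      change (Localization.mk r s : A) •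
        (LocalizedModule.mk (1 : R ⧸ p) (1 : p.primeCompl) : LocalizedModule p.primeCompl (R ⧸ p)) = _
      rw [LocalizedModule.mk_smul_mk, mul_one]
      congr 1
      change r • (1 : R ⧸ p) = _
      rw [Algebra.smul_def, mul_one]
      rfl
  have he₁ : e₁ ≠ 0 := by
    intro h
    change (LocalizedModule.mk (1 : R ⧸ p) (1 : p.primeCompl) :
      LocalizedModule p.primeCompl (R ⧸ p)) = 0 at h
    rw [IsLocalizedModule.mk_eq_mk', IsLocalizedModule.mk'_eq_zero'] at h
    obtain ⟨t, ht⟩ := h
    have : ((t : R) : R ⧸ p) = 0 := by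
      have h2 : (t : R) • (1 : R ⧸ p) = 0 := ht
      rwa [Algebra.smul_def, mul_one] at h2
    rw [Ideal.Quotient.eq_zero_iff_mem] at this
    exact t.2 this
  have hker : LinearMap.ker φ = maximalIdeal A := by
    apply le_antisymm
    · apply le_maximalIdeal
      intro htop
      have : (1 : A) ∈ LinearMap.ker φ := by rw [htop]; trivial
      rw [LinearMap.mem_ker] at this
      apply he₁
      have h1 : φ 1 = e₁ := by
        change (1 : A) • e₁ = e₁
        rw [one_smul]
      rw [← h1, this]
    · rw [← Localization.AtPrime.map_eq_maximalIdeal, Ideal.map_le_iff_le_comap]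
      intro r hr
      rw [Ideal.mem_comap, LinearMap.mem_ker]
      change (algebraMap R A r) • (LocalizedModule.mk (1 : R ⧸ p) (1 : p.primeCompl) :
        LocalizedModule p.primeCompl (R ⧸ p)) = 0
      rw [algebraMap_smul, LocalizedModule.smul'_mk]
      have : r • (1 : R ⧸ p) = 0 := by
        rw [Algebra.smul_def, mul_one]
        exact Ideal.Quotient.eq_zero_iff_mem.mpr hr
      rw [this, LocalizedModule.zero_mk]
  exact ⟨(Submodule.quotEquivOfEq _ _ hker.symm).trans (φ.quotKerEquivOfSurjective hφsurj)⟩

/-- finite injective dimension localizes. -/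
theorem hasInjectiveDimensionLT_localization (n : ℕ)
    (h : HasInjectiveDimensionLT (ModuleCat.of R R) n) :
    HasInjectiveDimensionLT (ModuleCat.of (Localization.AtPrime p) (Localization.AtPrime p)) n := by
  apply Groth.Agent.Helper8.Goren.hasInjectiveDimensionLT_of_ext_residueField'
  intro i hi
  have h1 : Subsingleton (Ext (ModuleCat.of R (R ⧸ p)) (ModuleCat.of R R) i) :=
    HasInjectiveDimensionLT.subsingleton (ModuleCat.of R R) n i hi _
  have h2 := subsingleton_ext_loc_of_subsingleton p.primeCompl i (R ⧸ p) R h1
  obtain ⟨e⟩ := nonempty_residue_equiv_localizedModule_quotient p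
  exact Groth.Agent.Helper8.Goren.ext_subsingleton_of_linearEquiv_left
    (ModuleCat.of (Localization.AtPrime p) (Localization.AtPrime p)) e.symm i h2

/-- localizations of rings of finite injective dimension are Gorenstein. -/
theorem isGorensteinLocalRing_localization
    (h : ∃ n : ℕ, HasInjectiveDimensionLT (ModuleCat.of R R) n) :
    IsGorensteinLocalRing (Localization.AtPrime p) := by
  obtain ⟨n, hn⟩ := h
  exact { exists_hasInjectiveDimensionLT := ⟨n, hasInjectiveDimensionLT_localization p n hn⟩ }

end Prime

end Groth.Agent.Helper8.ExtLoc
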