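import Mathlib
import Groth.Agent.Lib.Helper8.TopDim2

/-!
# Zero-dimensional Noetherian Kolmogorov spaces
-/

set_option autoImplicit false
universe u

namespace Groth.Agent.Helper8.TopDim2

open TopologicalSpace Order Topology

theorem dim_nonneg_of_nonempty (X : Type*) [TopologicalSpace X] [Nonempty X] :
    0 ≤ topologicalKrullDim X := by
  obtain ⟨x⟩ := ‹Nonempty X›
  have : Nonempty (IrreducibleCloseds X) :=
    ⟨⟨closure {x}, isIrreducible_singleton.closure, isClosed_closure⟩⟩
  exact Order.krullDim_nonneg

/-- In a `T0` space of dimension `≤ 0` every point is closed. -/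
theorem isClosed_singleton_of_dim_le_zero {X : Type*} [TopologicalSpace X] [T0Space X]
    (h : topologicalKrullDim X ≤ 0) (x : X) : IsClosed ({x} : Set X) := by
  have hmax := Order.krullDim_nonpos_iff_forall_isMax.mp h
  have hcl : closure ({x} : Set X) = {x} := by
    apply Set.Subset.antisymm _ subset_closure
    intro y hy
    let Zx : IrreducibleCloseds X := ⟨closure {x}, isIrreducible_singleton.closure, isClosed_closure⟩
    let Zy : IrreducibleCloseds X := ⟨closure {y}, isIrreducible_singleton.closure, isClosed_closure⟩
    have hle : Zy ≤ Zx := by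
      change closure {y} ⊆ closure {x}
      exact closure_minimal (Set.singleton_subset_iff.mpr hy) isClosed_closure
    have hge : Zx ≤ Zy := hmax Zy hle
    have heq : closure ({x} : Set X) = closure {y} := Set.Subset.antisymm hge hle
    have : Inseparable x y := inseparable_iff_closure_eq.mpr heq
    exact this.eq.symm
  rw [← hcl]; exact isClosed_closure

/-- A nonempty Noetherian Kolmogorov space has dimension zero iff it is finite and discrete. -/
theorem dim_eq_zero_iff_finite_discrete (X : Type*) [TopologicalSpace X]
    [NoetherianSpace X] [T0Space X] [Nonempty X] :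
    topologicalKrullDim X = 0 ↔ Finite X ∧ DiscreteTopology X := by
  constructor
  · intro h
    have hcl := isClosed_singleton_of_dim_le_zero h.le
    have hmax := Order.krullDim_nonpos_iff_forall_isMax.mp h.le
    have ht1 : T1Space X := ⟨hcl⟩
    have hcomp : ∀ x : X, ({x} : Set X) ∈ irreducibleComponents X := by
      intro x
      refine ⟨isIrreducible_singleton, ?_⟩
      intro S hS hxS
      let Zx : IrreducibleCloseds X := ⟨{x}, isIrreducible_singleton, hcl x⟩
      let ZS : IrreducibleCloseds X := ⟨closure S, hS.closure, isClosed_closure⟩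
      have hle : Zx ≤ ZS := by
        change ({x} : Set X) ⊆ closure S
        exact hxS.trans subset_closure
      have hge : ZS ≤ Zx := hmax Zx hle
      exact subset_closure.trans hge
    have hfin : (irreducibleComponents X).Finite := NoetherianSpace.finite_irreducibleComponents
    have hinj : Function.Injective (fun x : X => (⟨{x}, hcomp x⟩ : irreducibleComponents X)) := by
      intro x y hxy
      have : ({x} : Set X) = {y} := congrArg Subtype.val hxy
      exact Set.singleton_injective this
    have : Finite (irreducibleComponents X) := hfin.to_subtype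
    have hF : Finite X := Finite.of_injective _ hinj
    exact ⟨hF, inferInstance⟩
  · rintro ⟨_, hd⟩
    exact le_antisymm (topologicalKrullDim_zero_of_discreteTopology X) (dim_nonneg_of_nonempty X)

theorem le_zero_of_lt_one {a : WithBot ℕ∞} (h : a < 1) : a ≤ 0 := by
  induction a with
  | bot => exact bot_le
  | coe a =>
    have h1 : a < 1 := by exact_mod_cast h
    have h2 : a = 0 := ENat.lt_one_iff_eq_zero.mp h1
    rw [h2]; rfl

/-- Isolated points of Noetherian Kolmogorov spaces are those with local dimension zero. -/
theorem isOpen_singleton_iff_localDim_eq_zero (X : Type*) [TopologicalSpace X]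
    [NoetherianSpace X] [T0Space X] (x : X) :
    IsOpen ({x} : Set X) ↔ FlatMor.localDim X x = 0 := by
  constructor
  · intro hx
    apply le_antisymm
    · refine le_trans (localDim_le_of_mem hx (Set.mem_singleton x)) ?_
      exact topologicalKrullDim_zero_of_discreteTopology _
    · unfold FlatMor.localDim
      apply le_iInf
      rintro ⟨U, hxU⟩
      have : Nonempty ↥(U : Set X) := ⟨⟨x, hxU⟩⟩
      exact dim_nonneg_of_nonempty _
  · intro h
    have h1 : FlatMor.localDim X x < 1 := by rw [h]; exact zero_lt_one
    unfold FlatMor.localDim at h1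
    rw [iInf_lt_iff] at h1
    obtain ⟨⟨U, hxU⟩, hU⟩ := h1
    have hne : Nonempty ↥(U : Set X) := ⟨⟨x, hxU⟩⟩
    have hU0 : topologicalKrullDim ↥(U : Set X) = 0 :=
      le_antisymm (le_zero_of_lt_one hU) (dim_nonneg_of_nonempty _)
    obtain ⟨-, hdisc⟩ := (dim_eq_zero_iff_finite_discrete ↥(U : Set X)).mp hU0
    have hopen : IsOpen ({⟨x, hxU⟩} : Set ↥(U : Set X)) := isOpen_discrete _
    have := U.isOpen.isOpenEmbedding_subtypeVal.isOpenMap _ hopen
    simpa using this

end Groth.Agent.Helper8.TopDim2
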