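import Mathlib
import Groth.Agent.Lib.Helper8.TopDim3

/-!
# Zero-dimensional schemes
-/

set_option autoImplicit false
universe u

namespace Groth.Agent.Helper8.ZeroDim

open AlgebraicGeometry TopologicalSpace CategoryTheory

section Ring

variable {A : Type*} [CommRing A]

/-- The multiplicative set of elements `a^n (1 - a b)`. -/
def piRegSubmonoid (a : A) : Submonoid A where
  carrier := {s | ∃ (n : ℕ) (b : A), s = a ^ n * (1 - a * b)}
  one_mem' := ⟨0, 0, by simp⟩
  mul_mem' := by
    rintro _ _ ⟨n, b, rfl⟩ ⟨m, c, rfl⟩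
    exact ⟨n + m, b + c - a * b * c, by ring⟩

/-- In a ring all of whose primes are maximal, every element is strongly `π`-regular. -/
theorem exists_pow_mul_eq_zero (h : ∀ p : Ideal A, p.IsPrime → p.IsMaximal) (a : A) :
    ∃ (n : ℕ) (b : A), a ^ n * (1 - a * b) = 0 := by
  by_contra hcon
  push Not at hcon
  have hdisj : Disjoint ((⊥ : Ideal A) : Set A) (piRegSubmonoid a) := by
    rw [Set.disjoint_left]
    rintro x hx ⟨n, b, rfl⟩
    exact hcon n b (by simpa using hx)
  obtain ⟨p, hp, -, hpS⟩ := Ideal.exists_le_prime_disjoint ⊥ (piRegSubmonoid a) hdisj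
  have hmax := h p hp
  rw [Set.disjoint_left] at hpS
  by_cases ha : a ∈ p
  · exact hpS ha ⟨1, 0, by simp⟩
  · obtain ⟨y, i, hi, hyi⟩ := hmax.exists_inv ha
    refine hpS (a := i) hi ⟨0, y, ?_⟩
    rw [pow_zero, one_mul, ← hyi]
    ring

/-- Basic opens in the spectrum of a ring all of whose primes are maximal are closed. -/
theorem isClosed_basicOpen (h : ∀ p : Ideal A, p.IsPrime → p.IsMaximal) (a : A) :
    IsClosed (PrimeSpectrum.basicOpen a : Set (PrimeSpectrum A)) := by
  obtain ⟨n, b, hnb⟩ := exists_pow_mul_eq_zero h a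
  have : (PrimeSpectrum.basicOpen a : Set (PrimeSpectrum A)) =
      PrimeSpectrum.zeroLocus {1 - a * b} := by
    ext p
    simp only [PrimeSpectrum.basicOpen_eq_zeroLocus_compl, Set.mem_compl_iff,
      PrimeSpectrum.mem_zeroLocus, Set.singleton_subset_iff, SetLike.mem_coe]
    constructor
    · intro ha
      have h0 : a ^ n * (1 - a * b) ∈ p.asIdeal := by rw [hnb]; exact zero_mem _
      rcases p.isPrime.mem_or_mem h0 with h1 | h1
      · exact absurd (p.isPrime.mem_of_pow_mem n h1) ha
      · exact h1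
    · intro h1 ha
      apply p.isPrime.ne_top
      rw [Ideal.eq_top_iff_one]
      have : (1 : A) = (1 - a * b) + a * b := by ring
      rw [this]
      exact add_mem h1 (Ideal.mul_mem_right _ _ ha)
  rw [this]
  exact PrimeSpectrum.isClosed_zeroLocus _

/-- The spectrum of a ring all of whose primes are maximal is totally separated. -/
theorem totallySeparatedSpace_primeSpectrum (h : ∀ p : Ideal A, p.IsPrime → p.IsMaximal) :
    TotallySeparatedSpace (PrimeSpectrum A) := by
  rw [totallySeparatedSpace_iff_exists_isClopen]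
  intro x y hxy
  have key : ∀ x y : PrimeSpectrum A, ¬ x.asIdeal ≤ y.asIdeal →
      ∃ U : Set (PrimeSpectrum A), IsClopen U ∧ y ∈ U ∧ x ∈ Uᶜ := by
    intro x y hle
    obtain ⟨a, hax, hay⟩ := Set.not_subset.mp hle
    refine ⟨PrimeSpectrum.basicOpen a, ⟨isClosed_basicOpen h a, (PrimeSpectrum.basicOpen a).isOpen⟩,
      hay, ?_⟩
    simpa using hax
  by_cases hle : x.asIdeal ≤ y.asIdeal
  · have hne : ¬ y.asIdeal ≤ x.asIdeal := fun h' => hxy (PrimeSpectrum.ext (le_antisymm hle h'))
    obtain ⟨U, hU, hxU, hyU⟩ := key y x hne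
    exact ⟨U, hU, hxU, hyU⟩
  · obtain ⟨U, hU, hyU, hxU⟩ := key x y hle
    exact ⟨Uᶜ, hU.compl, hxU, by simpa using hyU⟩

end Ring

section Scheme

variable (X : Scheme.{u})

theorem isMaximal_of_isPrime_of_t1 [T1Space X] {U : X.Opens} (hU : IsAffineOpen U)
    (p : Ideal Γ(X, U)) (hp : p.IsPrime) : p.IsMaximal := by
  have hemb : Topology.IsEmbedding hU.fromSpec := hU.fromSpec.isOpenEmbedding.isEmbedding
  have ht1 : T1Space (Spec Γ(X, U)) := hemb.t1Space
  have hcl : IsClosed ({(⟨p, hp⟩ : PrimeSpectrum Γ(X, U))} : Set (PrimeSpectrum Γ(X, U))) :=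
    ht1.t1 _
  exact (PrimeSpectrum.isClosed_singleton_iff_isMaximal _).mp hcl

theorem t2Space_affineOpen [T1Space X] {U : X.Opens} (hU : IsAffineOpen U) : T2Space ↥U := by
  have hts : TotallySeparatedSpace (PrimeSpectrum Γ(X, U)) :=
    totallySeparatedSpace_primeSpectrum (isMaximal_of_isPrime_of_t1 X hU)
  have ht2 : T2Space (Spec Γ(X, U)) := inferInstanceAs (T2Space (PrimeSpectrum Γ(X, U)))
  exact (Scheme.homeoOfIso hU.isoSpec).isEmbedding.t2Space

/-- In a quasi-separated scheme with closed points only, quasi-compact opens are closed. -/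
theorem isClosed_of_isCompact_of_isOpen [T1Space X] [QuasiSeparatedSpace X] {W : Set X}
    (hWo : IsOpen W) (hWc : IsCompact W) : IsClosed W := by
  rw [← closure_subset_iff_isClosed]
  intro z hz
  obtain ⟨_, ⟨V, hV, rfl⟩, hzV, -⟩ :=
    X.isBasis_affineOpens.exists_subset_of_mem_open (Set.mem_univ z) isOpen_univ
  have hK : IsCompact (W ∩ (V : Set X)) :=
    QuasiSeparatedSpace.inter_isCompact W V hWo hWc V.isOpen hV.isCompact
  have ht2 := t2Space_affineOpen X hV
  have hK' : IsCompact ((Subtype.val : ↥V → X) ⁻¹' (W ∩ (V : Set X))) := by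
    rw [Topology.IsEmbedding.subtypeVal.isCompact_iff, Set.image_preimage_eq_inter_range,
      Subtype.range_coe]
    have : W ∩ (V : Set X) ∩ (V : Set X) = W ∩ (V : Set X) := by
      rw [Set.inter_assoc, Set.inter_self]
    rw [this]
    exact hK
  obtain ⟨C, hC, hCV⟩ := isClosed_induced_iff.mp hK'.isClosed
  have hsub : W ∩ (V : Set X) ⊆ C := by
    intro w hw
    have : (⟨w, hw.2⟩ : ↥V) ∈ (Subtype.val : ↥V → X) ⁻¹' C := by
      rw [hCV]; exact hw
    exact this
  have hz' : z ∈ closure (W ∩ (V : Set X)) := by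
    have := V.isOpen.inter_closure (t := W) ⟨hzV, hz⟩
    rwa [Set.inter_comm] at this
  have hzC : z ∈ C := closure_minimal hsub hC hz'
  have : (⟨z, hzV⟩ : ↥V) ∈ (Subtype.val : ↥V → X) ⁻¹' (W ∩ (V : Set X)) := by
    rw [← hCV]; exact hzC
  exact this.1

/-- A quasi-separated scheme with closed points only is totally separated. -/
theorem totallySeparatedSpace_of_t1 [T1Space X] [QuasiSeparatedSpace X] :
    TotallySeparatedSpace X := by
  apply totallySeparatedSpace_of_t0_of_basis_clopen
  apply TopologicalSpace.isTopologicalBasis_of_isOpen_of_nhds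
  · intro s hs
    exact hs.isOpen
  · intro x O hxO hO
    obtain ⟨_, ⟨V, hV, rfl⟩, hxV, hVO⟩ :=
      X.isBasis_affineOpens.exists_subset_of_mem_open hxO hO
    exact ⟨V, ⟨isClosed_of_isCompact_of_isOpen X V.isOpen hV.isCompact, V.isOpen⟩, hxV, hVO⟩

theorem t1Space_of_dim_le_zero (h : topologicalKrullDim X ≤ 0) : T1Space X :=
  ⟨fun x => Groth.Agent.Helper8.TopDim2.isClosed_singleton_of_dim_le_zero h x⟩

end Scheme

end Groth.Agent.Helper8.ZeroDim
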