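import Mathlib
import Groth.Agent.Lib.Helper8.ZeroDimSch

/-!
# Zero-dimensional quasi-separated schemes are separated
-/

set_option autoImplicit false
universe u
open CategoryTheory AlgebraicGeometry TopologicalSpace Limits

namespace Groth.Agent.Helper8.ZeroDim

/-- A morphism from the spectrum of a local ring to a scheme with only closed points is constant. -/
theorem apply_eq_of_isLocalRing (X : Scheme.{u}) [T1Space X] (R : CommRingCat.{u}) [IsLocalRing R]
    (g : Spec R ⟶ X) (t : Spec R) : g t = g (IsLocalRing.closedPoint R) := by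
  have h1 : t ⤳ IsLocalRing.closedPoint R := IsLocalRing.specializes_closedPoint t
  have h2 : g t ⤳ g (IsLocalRing.closedPoint R) := h1.map g.continuous
  exact h2.eq

theorem uniqueness_terminal_from (X : Scheme.{u}) [T1Space X] :
    ValuativeCriterion.Uniqueness (terminal.from X) := by
  intro S
  constructor
  intro l1 l2
  apply CommSq.LiftStruct.ext
  -- both lifts are constant maps to the same point
  set x := l1.l (IsLocalRing.closedPoint S.R) with hx
  have hη : ∀ t, (Spec.map (CommRingCat.ofHom (algebraMap S.R S.K)) ≫ l1.l) t =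
      (Spec.map (CommRingCat.ofHom (algebraMap S.R S.K)) ≫ l2.l) t := by
    intro t
    rw [l1.fac_left, l2.fac_left]
  have hx2 : l2.l (IsLocalRing.closedPoint S.R) = x := by
    obtain ⟨t⟩ : Nonempty (Spec (CommRingCat.of S.K)) := inferInstance
    have := hη t
    rw [Scheme.Hom.comp_apply, Scheme.Hom.comp_apply, apply_eq_of_isLocalRing X _ l1.l,
      apply_eq_of_isLocalRing X _ l2.l] at this
    exact this.symm
  obtain ⟨_, ⟨U, hU0, rfl⟩, hxU, -⟩ :=
    X.isBasis_affineOpens.exists_subset_of_mem_open (Set.mem_univ x) isOpen_univ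
  have hU : IsAffineOpen U := hU0
  have hr1 : Set.range l1.l ⊆ Set.range hU.fromSpec := by
    rw [hU.range_fromSpec]
    rintro _ ⟨t, rfl⟩
    rw [apply_eq_of_isLocalRing X _ l1.l]
    exact hxU
  have hr2 : Set.range l2.l ⊆ Set.range hU.fromSpec := by
    rw [hU.range_fromSpec]
    rintro _ ⟨t, rfl⟩
    rw [apply_eq_of_isLocalRing X _ l2.l, hx2]
    exact hxU
  have e1 := IsOpenImmersion.lift_fac hU.fromSpec l1.l hr1
  have e2 := IsOpenImmersion.lift_fac hU.fromSpec l2.l hr2
  have hK : Spec.map (CommRingCat.ofHom (algebraMap S.R S.K)) ≫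
      IsOpenImmersion.lift hU.fromSpec l1.l hr1 =
      Spec.map (CommRingCat.ofHom (algebraMap S.R S.K)) ≫
      IsOpenImmersion.lift hU.fromSpec l2.l hr2 := by
    rw [← cancel_mono hU.fromSpec, Category.assoc, Category.assoc, e1, e2, l1.fac_left,
      l2.fac_left]
  have hlift : IsOpenImmersion.lift hU.fromSpec l1.l hr1 =
      IsOpenImmersion.lift hU.fromSpec l2.l hr2 := by
    rw [← Spec.map_preimage (IsOpenImmersion.lift hU.fromSpec l1.l hr1),
      ← Spec.map_preimage (IsOpenImmersion.lift hU.fromSpec l2.l hr2)] at hK ⊢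
    rw [← Spec.map_comp, ← Spec.map_comp] at hK
    have hK' := Spec.map_injective hK
    congr 1
    ext a
    have h3 := congrArg (fun φ => φ.hom a) hK'
    simp only [CommRingCat.hom_comp, CommRingCat.hom_ofHom, RingHom.comp_apply] at h3
    exact IsFractionRing.injective S.R S.K h3
  rw [← e1, ← e2, hlift]

/-- A quasi-separated scheme with only closed points is separated. -/
theorem isSeparated_of_t1 (X : Scheme.{u}) [T1Space X] [QuasiSeparatedSpace X] :
    X.IsSeparated := by
  have hqs : QuasiSeparated (terminal.from X) :=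
    (quasiSeparatedSpace_iff_quasiSeparated X).mp inferInstance
  exact ⟨IsSeparated.of_valuativeCriterion _ (uniqueness_terminal_from X)⟩

end Groth.Agent.Helper8.ZeroDim
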