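import Mathlib
import Groth.Agent.Lib.Helper8.ZeroDimSch2

/-!
# Quasi-compact opens of zero-dimensional separated schemes are affine
-/

set_option autoImplicit false
universe u
open CategoryTheory AlgebraicGeometry TopologicalSpace Limits

namespace Groth.Agent.Helper8.ZeroDim

variable (X : Scheme.{u})

/-- A clopen subset of an affine open is an affine open. -/
theorem isAffineOpen_of_isClopen_of_le {V W : X.Opens} (hV : IsAffineOpen V) (hWV : W ≤ V)
    (hW : IsClosed (W : Set X)) : IsAffineOpen W := by
  have hcl : IsClopen (hV.fromSpec ⁻¹' (W : Set X)) :=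
    ⟨hW.preimage hV.fromSpec.continuous, W.isOpen.preimage hV.fromSpec.continuous⟩
  obtain ⟨e, -, he⟩ := PrimeSpectrum.isClopen_iff.mp hcl
  have hWe : W = X.basicOpen e := by
    rw [← hV.fromSpec_image_basicOpen]
    ext x
    constructor
    · intro hx
      have hxV : x ∈ Set.range hV.fromSpec := by rw [hV.range_fromSpec]; exact hWV hx
      obtain ⟨y, rfl⟩ := hxV
      have hy : y ∈ hV.fromSpec ⁻¹' (W : Set X) := hx
      rw [he] at hy
      exact ⟨y, hy, rfl⟩
    · rintro ⟨y, hy, rfl⟩
      have hy' : y ∈ hV.fromSpec ⁻¹' (W : Set X) := by rw [he]; exact hy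
      exact hy'
  rw [hWe]
  exact hV.basicOpen e

/-- In a quasi-separated scheme with only closed points, finite unions of affine opens are
affine. -/
theorem isAffineOpen_biSup [T1Space X] [QuasiSeparatedSpace X] (s : Finset X.affineOpens) :
    IsAffineOpen (⨆ i ∈ s, (i : X.Opens)) := by
  classical
  induction s using Finset.induction_on with
  | empty => simpa using isAffineOpen_bot X
  | insert j s' hj ih =>
    rw [Finset.iSup_insert]
    set U' : X.Opens := ⨆ i ∈ s', (i : X.Opens) with hU'
    have hU'cl : IsClosed (U' : Set X) :=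
      isClosed_of_isCompact_of_isOpen X U'.isOpen ih.isCompact
    have hjcl : IsClosed ((j : X.Opens) : Set X) :=
      isClosed_of_isCompact_of_isOpen X (j : X.Opens).isOpen j.2.isCompact
    let W : X.Opens := ⟨((j : X.Opens) : Set X) ∩ (U' : Set X)ᶜ,
      (j : X.Opens).isOpen.inter hU'cl.isOpen_compl⟩
    have hWaff : IsAffineOpen W :=
      isAffineOpen_of_isClopen_of_le X j.2 (fun x hx => hx.1)
        (hjcl.inter U'.isOpen.isClosed_compl)
    have hdisj : Disjoint W U' := by
      rw [← Opens.coe_disjoint, Set.disjoint_left]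
      intro x hx hx'
      exact hx.2 hx'
    have hsup : (j : X.Opens) ⊔ U' = W ⊔ U' := by
      ext1
      simp only [Opens.coe_sup, W, Opens.coe_mk]
      ext x
      simp only [Set.mem_union, Set.mem_inter_iff, Set.mem_compl_iff, SetLike.mem_coe]
      tauto
    rw [hsup]
    exact hWaff.sup_of_disjoint ih hdisj

/-- In a quasi-separated scheme with only closed points, quasi-compact opens are affine. -/
theorem isAffineOpen_of_isCompact [T1Space X] [QuasiSeparatedSpace X] (U : X.Opens)
    (hU : IsCompact (U : Set X)) : IsAffineOpen U := by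
  obtain ⟨s, hs, rfl⟩ := (isCompact_iff_finite_and_eq_biUnion_affineOpens (X := X)).mp hU
  have := isAffineOpen_biSup X hs.toFinset
  simpa using this

end Groth.Agent.Helper8.ZeroDim
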