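import Mathlib
import Groth.Agent.Lib.Helper8.ABS23
import Groth.Agent.Lib.Helper8.ABS11

/-!
# A `k`-th syzygy over a regular local ring is free in codimension `≤ k`
-/

set_option autoImplicit false
universe u

namespace Groth.Agent.Helper8.ABS

open CategoryTheory Abelian IsLocalRing

variable {A : Type u} [CommRing A]

theorem locPdLE_succ_iff_of_exact {M₁ M₂ M₃ : Type u} [AddCommGroup M₁] [Module A M₁]
    [AddCommGroup M₂] [Module A M₂] [AddCommGroup M₃] [Module A M₃]
    (f : M₁ →ₗ[A] M₂) (g : M₂ →ₗ[A] M₃) (hf : Function.Injective f) (hg : Function.Surjective g)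
    (hfg : Function.Exact f g) [Module.Projective A M₂] (n : ℕ) (p : PrimeSpectrum A) :
    LocPdLE M₃ (n + 1) p ↔ LocPdLE M₁ n p := by
  let S : ShortComplex (ModuleCat.{u} A) := ModuleCat.shortComplexOfCompEqZero f g hfg.linearMap_comp_eq_zero
  have S_exact : S.ShortExact := ModuleCat.shortComplex_shortExact S hfg hf hg
  let Sp := S.map (ModuleCat.localizedModuleFunctor p.asIdeal.primeCompl)
  have Sp_exact : Sp.ShortExact :=
    S_exact.map_of_exact (ModuleCat.localizedModuleFunctor p.asIdeal.primeCompl)
  have proj : Projective S.X₂ := by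
    change Projective (ModuleCat.of A M₂)
    exact (IsProjective.iff_projective _).mp inferInstance
  have projp : Projective Sp.X₂ :=
    (ModuleCat.localizedModuleFunctor.{u} p.asIdeal.primeCompl).projective_obj_of_projective proj
  exact Sp_exact.hasProjectiveDimensionLT_X₃_iff n projp

theorem locPdLE_of_equiv {M N : Type u} [AddCommGroup M] [Module A M] [AddCommGroup N]
    [Module A N] (e : M ≃ₗ[A] N) (n : ℕ) (p : PrimeSpectrum A) (h : LocPdLE M n p) :
    LocPdLE N n p := by
  have : HasProjectiveDimensionLT
      ((ModuleCat.localizedModuleFunctor p.asIdeal.primeCompl).obj (ModuleCat.of A M)) (n + 1) := h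
  exact hasProjectiveDimensionLT_of_iso
    ((ModuleCat.localizedModuleFunctor p.asIdeal.primeCompl).mapIso e.toModuleIso) (n + 1)

theorem locPdLE_of_regular [IsRegularLocalRing A] (M : Type u) [AddCommGroup M] [Module A M]
    [Module.Finite A M] (k : ℕ) (p : PrimeSpectrum A) (hp : p.asIdeal.height ≤ k) :
    LocPdLE M k p := by
  rw [locPdLE_iff]
  have := isRegularLocalRing_localization A p.asIdeal
  obtain ⟨N, hN, hpd⟩ := exists_hasProjectiveDimensionLT_of_regular (Localization.AtPrime p.asIdeal)
    (LocalizedModule p.asIdeal.primeCompl M)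
  rw [IsLocalization.AtPrime.ringKrullDim_eq_height p.asIdeal (Localization.AtPrime p.asIdeal)] at hN
  have hNk : N ≤ k := by
    have h1 : ((p.asIdeal.height : ℕ∞) : WithBot ℕ∞) = ((N : ℕ∞) : WithBot ℕ∞) := hN
    have h2 : p.asIdeal.height = (N : ℕ∞) := WithBot.coe_injective h1
    rw [h2] at hp
    exact_mod_cast hp
  exact hasProjectiveDimensionLT_of_ge _ (N + 1) (k + 1) (by omega)

theorem syzygy_free [IsRegularLocalRing A]
    (k : ℕ) (N : ℕ → Type u) [∀ i, AddCommGroup (N i)] [∀ i, Module A (N i)] [Module.Finite A (N 0)]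
    (hfree : ∀ i, 1 ≤ i → i ≤ k → Module.Free A (N i) ∧ Module.Finite A (N i))
    (d : ∀ i, N i →ₗ[A] N (i + 1)) (hinj : Function.Injective (d 0))
    (hex : ∀ i, i + 1 < k → LinearMap.range (d i) = LinearMap.ker (d (i + 1)))
    (p : Ideal A) [p.IsPrime] (hp : p.height ≤ k) :
    Module.Free (Localization.AtPrime p) (LocalizedModule p.primeCompl (N 0)) := by
  let P : PrimeSpectrum A := ⟨p, inferInstance⟩
  suffices h : LocPdLE (N 0) 0 P by
    exact Module.mem_freeLocus.mp ((locPdLE_zero_iff (N 0) P).mp h)
  rcases Nat.eq_zero_or_pos k with hk | hk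
  · subst hk
    exact locPdLE_of_regular (N 0) 0 P hp
  -- the images `B j = range (d j) ⊆ N (j+1)`
  have key : ∀ j : ℕ, j < k → LocPdLE (LinearMap.range (d (k - 1 - j))) (k - 1 - j) P := by
    intro j
    induction j with
    | zero =>
      intro _
      have hfin : Module.Finite A (N (k - 1 + 1)) := (hfree (k - 1 + 1) (by omega) (by omega)).2
      have hfr : Module.Free A (N (k - 1 + 1)) := (hfree (k - 1 + 1) (by omega) (by omega)).1
      have h1 : LocPdLE (N (k - 1 + 1) ⧸ LinearMap.range (d (k - 1))) (k - 1 + 1) P :=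
        locPdLE_of_regular _ _ P (by
          have : k - 1 + 1 = k := by omega
          rw [this]; exact hp)
      have h2 := (locPdLE_succ_iff_of_exact (LinearMap.range (d (k - 1))).subtype
        (LinearMap.range (d (k - 1))).mkQ (Submodule.injective_subtype _)
        (Submodule.mkQ_surjective _) (LinearMap.exact_subtype_mkQ _) (k - 1) P).mp h1
      simpa using h2
    | succ j ih =>
      intro hj
      have ih' := ih (by omega)
      -- `0 → range (d (k-2-j)) → N (k-1-j) → range (d (k-1-j)) → 0`
      have hidx : k - 1 - j = (k - 1 - (j + 1)) + 1 := by omega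
      have hfin : Module.Finite A (N ((k - 1 - (j + 1)) + 1)) :=
        (hfree _ (by omega) (by omega)).2
      have hfr : Module.Free A (N ((k - 1 - (j + 1)) + 1)) := (hfree _ (by omega) (by omega)).1
      rw [hidx] at ih'
      have hexact : Function.Exact (LinearMap.range (d (k - 1 - (j + 1)))).subtype
          (d ((k - 1 - (j + 1)) + 1)).rangeRestrict := by
        intro x
        constructor
        · intro hx
          have hx' : d ((k - 1 - (j + 1)) + 1) x = 0 := by
            have := congrArg Subtype.val hx
            simpa using this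
          have : x ∈ LinearMap.ker (d ((k - 1 - (j + 1)) + 1)) := hx'
          rw [← hex (k - 1 - (j + 1)) (by omega)] at this
          exact ⟨⟨x, this⟩, rfl⟩
        · rintro ⟨⟨y, hy⟩, rfl⟩
          rw [hex (k - 1 - (j + 1)) (by omega)] at hy
          apply Subtype.ext
          simpa using hy
      exact (locPdLE_succ_iff_of_exact (LinearMap.range (d (k - 1 - (j + 1)))).subtype
        (d ((k - 1 - (j + 1)) + 1)).rangeRestrict (Submodule.injective_subtype _)
        (LinearMap.surjective_rangeRestrict _) hexact (k - 1 - (j + 1)) P).mp ih'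
  have h0 := key (k - 1) (by omega)
  have hz : k - 1 - (k - 1) = 0 := by omega
  rw [hz] at h0
  exact locPdLE_of_equiv (LinearEquiv.ofInjective (d 0) hinj).symm 0 P h0

end Groth.Agent.Helper8.ABS
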