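import Mathlib
import Groth.Agent.Lib.Helper9.Koszul
import Groth.Agent.Lib.Helper9.CotHom5

/-!
# Koszul (trivial) relations: local criterion

For a family `f : σ → R`, `jj f : (σ →₀ R) → R` is the map `e_s ↦ f s` and `triv f` the submodule of
trivial relations.  We show:
* membership in a submodule can be checked at maximal ideals (`mem_of_forall_maximal`);
* trivial relations descend from a localization (`exists_smul_mem_triv`);
* a relation with coefficients in an ideal generated by a weakly regular sequence inside the ideal of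
  the family is trivial (`mem_triv_of_isWeaklyRegular`).
-/

set_option autoImplicit false

namespace Groth.Agent.Helper8.CotK

universe u v w

open Groth.Agent.Helper9

section Defs

variable {R : Type u} [CommRing R] {σ : Type v} (f : σ → R)

/-- the map `F → R`, `e_s ↦ f s` -/
noncomputable abbrev jj : (σ →₀ R) →ₗ[R] R := Finsupp.linearCombination R f

/-- the trivial (Koszul) relations -/
noncomputable def triv : Submodule R (σ →₀ R) :=
  Submodule.span R {y | ∃ a b : σ →₀ R, y = jj f a • b - jj f b • a}

lemma gen_mem_triv (a b : σ →₀ R) : jj f a • b - jj f b • a ∈ triv f :=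
  Submodule.subset_span ⟨a, b, rfl⟩

lemma triv_le_ker : triv f ≤ LinearMap.ker (jj f) := by
  refine Submodule.span_le.mpr ?_
  rintro _ ⟨a, b, rfl⟩
  rw [SetLike.mem_coe, LinearMap.mem_ker, map_sub, map_smul, map_smul, smul_eq_mul, smul_eq_mul,
    mul_comm, sub_self]

lemma range_jj : LinearMap.range (jj f) = Ideal.span (Set.range f) :=
  Finsupp.range_linearCombination R

end Defs

section LocalCrit

variable {R : Type u} [CommRing R] {X : Type v} [AddCommGroup X] [Module R X]

/-- Membership in a submodule can be checked locally at maximal ideals. -/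
theorem mem_of_forall_maximal (N : Submodule R X) (x : X)
    (h : ∀ (m : Ideal R), m.IsMaximal → ∃ s : R, s ∉ m ∧ s • x ∈ N) : x ∈ N := by
  let J : Ideal R := LinearMap.ker (N.mkQ ∘ₗ LinearMap.toSpanSingleton R X x)
  have hJ : ∀ r : R, r ∈ J ↔ r • x ∈ N := by
    intro r
    rw [LinearMap.mem_ker, LinearMap.comp_apply, LinearMap.toSpanSingleton_apply,
      Submodule.mkQ_apply, Submodule.Quotient.mk_eq_zero]
  by_cases hJt : J = ⊤
  · have h1 : (1 : R) ∈ J := by rw [hJt]; exact Submodule.mem_top
    rw [hJ, one_smul] at h1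
    exact h1
  · obtain ⟨m, hm, hJm⟩ := Ideal.exists_le_maximal J hJt
    obtain ⟨s, hs, hsx⟩ := h m hm
    exact absurd (hJm ((hJ s).2 hsx)) hs

end LocalCrit

section Loc

variable {R : Type u} [CommRing R] {R' : Type w} [CommRing R'] [Algebra R R'] (M : Submonoid R)
  [IsLocalization M R'] {σ : Type v} (f : σ → R)

/-- coefficientwise localization map -/
noncomputable abbrev locMap : (σ →₀ R) →ₗ[R] (σ →₀ R') :=
  Finsupp.mapRange.linearMap (Algebra.linearMap R R')

lemma locMap_apply (x : σ →₀ R) (t : σ) : locMap (R' := R') x t = algebraMap R R' (x t) := rfl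

lemma locMap_single (t : σ) (r : R) :
    locMap (R' := R') (Finsupp.single t r) = Finsupp.single t (algebraMap R R' r) := by
  rw [Finsupp.mapRange.linearMap_apply, Finsupp.mapRange_single]
  rfl

lemma jj_locMap (x : σ →₀ R) :
    jj (fun t => algebraMap R R' (f t)) (locMap (R' := R') x) = algebraMap R R' (jj f x) := by
  induction x using Finsupp.induction_linear with
  | zero => simp
  | add a b ha hb => rw [map_add, map_add, ha, hb, map_add, map_add]
  | single t r =>
    rw [locMap_single, Finsupp.linearCombination_single, Finsupp.linearCombination_single,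
      smul_eq_mul, smul_eq_mul, map_mul]

include M in
lemma exists_smul_eq_locMap (a' : σ →₀ R') :
    ∃ u ∈ M, ∃ a : σ →₀ R, u • a' = locMap (R' := R') a := by
  induction a' using Finsupp.induction_linear with
  | zero => exact ⟨1, M.one_mem, 0, by simp⟩
  | add x y hx hy =>
    obtain ⟨u, hu, a, ha⟩ := hx
    obtain ⟨v, hv, b, hb⟩ := hy
    refine ⟨u * v, M.mul_mem hu hv, v • a + u • b, ?_⟩
    rw [map_add, map_smul, map_smul, ← ha, ← hb, smul_add, mul_smul, mul_smul, smul_comm u v x]
  | single t r' =>
    obtain ⟨⟨r, s⟩, hrs⟩ := IsLocalization.surj M r'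
    refine ⟨s.1, s.2, Finsupp.single t r, ?_⟩
    rw [locMap_single, Finsupp.smul_single, Algebra.smul_def, mul_comm]
    exact congrArg _ hrs

include M in
lemma exists_smul_eq_zero_of_locMap_eq_zero (z : σ →₀ R) (hz : locMap (R' := R') z = 0) :
    ∃ v ∈ M, v • z = 0 := by
  classical
  have h1 : ∀ t : σ, ∃ c : M, (c : R) * z t = 0 := by
    intro t
    have h2 : algebraMap R R' (z t) = 0 := by
      rw [← locMap_apply, hz, Finsupp.zero_apply]
    exact (IsLocalization.map_eq_zero_iff M R' (z t)).1 h2
  choose c hc using h1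
  refine ⟨∏ t ∈ z.support, (c t : R), Submonoid.prod_mem M (fun t _ => (c t).2), ?_⟩
  ext t
  rw [Finsupp.smul_apply, Finsupp.zero_apply, smul_eq_mul]
  by_cases ht : t ∈ z.support
  · rw [← Finset.mul_prod_erase z.support (fun t => (c t : R)) ht, mul_comm (c t : R), mul_assoc,
      hc t, mul_zero]
  · rw [Finsupp.notMem_support_iff.mp ht, mul_zero]

/-- Trivial relations descend from a localization, up to a denominator. -/
theorem exists_smul_mem_triv (x : σ →₀ R)
    (hx : locMap (R' := R') x ∈ triv (fun t => algebraMap R R' (f t))) :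
    ∃ s ∈ M, s • x ∈ triv f := by
  -- the submodule of elements having a multiple coming from `triv f`
  let N' : Submodule R' (σ →₀ R') :=
    { carrier := {x' | ∃ s ∈ M, ∃ y ∈ triv f, s • x' = locMap (R' := R') y}
      zero_mem' := ⟨1, M.one_mem, 0, zero_mem _, by simp⟩
      add_mem' := by
        rintro x1 x2 ⟨s1, hs1, y1, hy1, h1⟩ ⟨s2, hs2, y2, hy2, h2⟩
        refine ⟨s1 * s2, M.mul_mem hs1 hs2, s2 • y1 + s1 • y2,
          add_mem (Submodule.smul_mem _ _ hy1) (Submodule.smul_mem _ _ hy2), ?_⟩
        rw [smul_add, map_add, map_smul, map_smul, ← h1, ← h2, mul_smul, mul_smul,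
          smul_comm s1 s2 x1]
      smul_mem' := by
        rintro r' x1 ⟨s1, hs1, y1, hy1, h1⟩
        obtain ⟨⟨r, u⟩, hru⟩ := IsLocalization.surj M r'
        refine ⟨u.1 * s1, M.mul_mem u.2 hs1, r • y1, Submodule.smul_mem _ _ hy1, ?_⟩
        have h3 : (u.1 : R) • r' = algebraMap R R' r := by
          rw [Algebra.smul_def, mul_comm]
          exact hru
        rw [map_smul, ← h1, mul_smul, smul_comm s1 r' x1, ← smul_assoc (u.1 : R) r', h3,
          algebraMap_smul] }
  have hle : triv (fun t => algebraMap R R' (f t)) ≤ N' := by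
    refine Submodule.span_le.mpr ?_
    rintro _ ⟨a', b', rfl⟩
    obtain ⟨u, hu, a, ha⟩ := exists_smul_eq_locMap M a'
    obtain ⟨v, hv, b, hb⟩ := exists_smul_eq_locMap M b'
    refine ⟨u * v, M.mul_mem hu hv, jj f a • b - jj f b • a, gen_mem_triv f a b, ?_⟩
    have e1 : (u * v) • (jj (fun t => algebraMap R R' (f t)) a' • b') =
        jj (fun t => algebraMap R R' (f t)) (u • a') • (v • b') := by
      rw [LinearMap.map_smul_of_tower, smul_assoc,
        smul_comm (jj (fun t => algebraMap R R' (f t)) a') v b', ← mul_smul]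
    have e2 : (u * v) • (jj (fun t => algebraMap R R' (f t)) b' • a') =
        jj (fun t => algebraMap R R' (f t)) (v • b') • (u • a') := by
      rw [LinearMap.map_smul_of_tower, smul_assoc,
        smul_comm (jj (fun t => algebraMap R R' (f t)) b') u a', ← mul_smul, mul_comm v u]
    rw [smul_sub, e1, e2, ha, hb, jj_locMap, jj_locMap, map_sub, map_smul, map_smul,
      algebraMap_smul, algebraMap_smul]
  obtain ⟨s, hs, y, hy, hsy⟩ := hle hx
  have h0 : locMap (R' := R') (s • x - y) = 0 := by
    rw [map_sub, map_smul, hsy, sub_self]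
  obtain ⟨v, hv, hvz⟩ := exists_smul_eq_zero_of_locMap_eq_zero M _ h0
  refine ⟨v * s, M.mul_mem hv hs, ?_⟩
  rw [smul_sub, sub_eq_zero] at hvz
  rw [mul_smul, hvz]
  exact Submodule.smul_mem _ _ hy

end Loc

section Regular

variable {R : Type u} [CommRing R] {σ : Type v} (f : σ → R)

/-- A relation among the `f s` all of whose coefficients lie in the ideal of a weakly regular
sequence contained in the ideal of the `f s` is a trivial relation. -/
theorem mem_triv_of_isWeaklyRegular (rs : List R) (hreg : RingTheory.Sequence.IsWeaklyRegular R rs)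
    (hrs : ∀ r ∈ rs, r ∈ Ideal.span (Set.range f)) (x : σ →₀ R) (hx : jj f x = 0)
    (hxI : ∀ t, x t ∈ Ideal.ofList rs) : x ∈ triv f := by
  classical
  let g : Fin rs.length → R := fun i => rs.get i
  have hg : ∀ i, ∃ γ : σ →₀ R, jj f γ = g i := by
    intro i
    have h1 : g i ∈ LinearMap.range (jj f) := by
      rw [range_jj]
      exact hrs _ (List.get_mem rs i)
    exact h1
  choose γ hγ using hg
  let Γ : (Fin rs.length →₀ R) →ₗ[R] (σ →₀ R) := Finsupp.linearCombination R γ
  have hΓ : ∀ b, jj f (Γ b) = Koszul.jj g b := by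
    intro b
    induction b using Finsupp.induction_linear with
    | zero => simp
    | add a b ha hb => rw [map_add, map_add, ha, hb, map_add]
    | single i r =>
      rw [Finsupp.linearCombination_single, Finsupp.linearCombination_single, map_smul, hγ]
  have hΓtriv : ∀ b, b ∈ Koszul.triv g → Γ b ∈ triv f := by
    intro b hb
    induction hb using Submodule.span_induction with
    | mem y hy =>
      obtain ⟨a, b, rfl⟩ := hy
      rw [map_sub, map_smul, map_smul, ← hΓ, ← hΓ]
      exact gen_mem_triv f _ _
    | zero => rw [map_zero]; exact zero_mem _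
    | add y z _ _ hy hz => rw [map_add]; exact add_mem hy hz
    | smul r y _ hy => rw [map_smul]; exact Submodule.smul_mem _ _ hy
  have hspan : Ideal.ofList rs = Ideal.span (Set.range g) := by
    unfold Ideal.ofList
    congr 1
    ext a
    constructor
    · intro ha
      obtain ⟨i, rfl⟩ := List.mem_iff_get.mp ha
      exact ⟨i, rfl⟩
    · rintro ⟨i, rfl⟩
      exact List.get_mem rs i
  have hα : ∀ t, ∃ α : Fin rs.length →₀ R, Koszul.jj g α = x t := by
    intro t
    have h1 : x t ∈ LinearMap.range (Koszul.jj g) := by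
      rw [Finsupp.range_linearCombination]
      change x t ∈ Ideal.span (Set.range g)
      rw [← hspan]
      exact hxI t
    exact h1
  choose α hα using hα
  -- the comparison element
  let b : Fin rs.length →₀ R := ∑ t ∈ x.support, f t • α t
  have hdiff : x - Γ b ∈ triv f := by
    have h1 : x = ∑ t ∈ x.support, jj f (Γ (α t)) • Finsupp.single t (1 : R) := by
      conv_lhs => rw [← Finsupp.sum_single x]
      rw [Finsupp.sum]
      refine Finset.sum_congr rfl fun t _ => ?_
      rw [hΓ, hα, Finsupp.smul_single, smul_eq_mul, mul_one]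
    have h2 : Γ b = ∑ t ∈ x.support, jj f (Finsupp.single t (1 : R)) • Γ (α t) := by
      rw [map_sum]
      refine Finset.sum_congr rfl fun t _ => ?_
      rw [map_smul, Finsupp.linearCombination_single, one_smul]
    have h3 : x - Γ b = ∑ t ∈ x.support,
        (jj f (Γ (α t)) • Finsupp.single t (1 : R) - jj f (Finsupp.single t (1 : R)) • Γ (α t)) := by
      rw [Finset.sum_sub_distrib, ← h1, ← h2]
    rw [h3]
    exact Submodule.sum_mem _ fun t _ => gen_mem_triv f _ _
  have hb0 : Koszul.jj g b = 0 := by
    rw [← hΓ]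
    have h1 := triv_le_ker f hdiff
    rw [LinearMap.mem_ker, map_sub, hx, zero_sub, neg_eq_zero] at h1
    exact h1
  have hregk : ∀ (k : Fin rs.length) (r : R), r * g k ∈ Ideal.span (g '' {i | i < k}) →
      r ∈ Ideal.span (g '' {i | i < k}) := by
    intro k r hr
    have e : Ideal.span (g '' {i | i < k}) = Ideal.ofList (rs.take k) := by
      unfold Ideal.ofList
      rw [← CotHom.image_get_lt rs k]
    rw [e] at hr ⊢
    exact CotHom.mem_of_mul_mem_of_isWeaklyRegular rs hreg k.1 k.2 r hr
  have hbt : b ∈ Koszul.triv g := Koszul.koszul_syzygy g hregk b hb0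
  have := add_mem hdiff (hΓtriv b hbt)
  rwa [sub_add_cancel] at this

end Regular

end Groth.Agent.Helper8.CotK
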