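import Mathlib
import Groth.Prelude.Def_CotT2
import Groth.Agent.Lib.Helper9.CotLib1
import Groth.Agent.Lib.Helper9.TensKer
import Groth.Agent.Lib.Helper8.CotK1

/-!
# Vanishing of `T²` for presentations that are locally Koszul with projective conormal module
-/

set_option autoImplicit false

namespace Groth.Agent.Helper8.CotK

universe u v w t m

open CotT TensorProduct Groth.Agent.Helper9

variable {A : Type u} {B : Type v} {ι : Type w} {σ : Type t}
variable [CommRing A] [CommRing B] [Algebra A B]
variable (P : Algebra.Presentation A B ι σ)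

lemma trivRel_eq_triv : trivRel P = triv (rel P) := rfl

lemma L2_exists_rep' (z : L2 P) :
    ∃ q : relKer P, z = Submodule.Quotient.mk ((1 : B) ⊗ₜ[P.toExtension.Ring] q) := by
  obtain ⟨w, rfl⟩ := Submodule.Quotient.mk_surjective _ z
  obtain ⟨q, rfl⟩ := CotNine.exists_one_tmul' P.toExtension.algebraMap_surjective (relKer P) w
  exact ⟨q, rfl⟩

lemma ker_smul_mem_trivRel' (r : P.toExtension.Ring) (hr : algebraMap P.toExtension.Ring B r = 0)
    (q : relKer P) : r • (q : relMod P) ∈ trivRel P := by
  have h1 : r ∈ LinearMap.range (jmap P) := by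
    rw [range_jmap]; exact hr
  obtain ⟨f, rfl⟩ := h1
  have h2 : jmap P f • (q : relMod P) - jmap P (q : relMod P) • f ∈ trivRel P :=
    Submodule.subset_span ⟨f, q, rfl⟩
  have h3 : jmap P (q : relMod P) = 0 := q.2
  rwa [h3, zero_smul, sub_zero] at h2

lemma L2_mk_eq_zero_iff' (q : relKer P) :
    (Submodule.Quotient.mk ((1 : B) ⊗ₜ[P.toExtension.Ring] q) : L2 P) = 0 ↔
      (q : relMod P) ∈ trivRel P := by
  rw [Submodule.Quotient.mk_eq_zero]
  constructor
  · intro h
    exact CotNine.mem_of_one_tmul_mem' P.toExtension.algebraMap_surjective (relKer P) (trivRelKer P)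
      (fun r hr n => ker_smul_mem_trivRel' P r hr n) q h
  · intro h
    exact ⟨(1 : B) ⊗ₜ ⟨q, h⟩, rfl⟩

/-- If `1 ⊗ q = 0` in `L₁ = B ⊗ F` then all coordinates of `q` lie in the kernel. -/
lemma coord_mem_ker (q : relMod P) (h : (1 : B) ⊗ₜ[P.toExtension.Ring] q = (0 : L1 P)) (s : σ) :
    q s ∈ P.toExtension.ker := by
  let ev : L1 P →ₗ[B] B :=
    LinearMap.liftBaseChange B ((Algebra.linearMap P.toExtension.Ring B) ∘ₗ Finsupp.lapply s)
  have h1 : ev ((1 : B) ⊗ₜ[P.toExtension.Ring] q) = algebraMap P.toExtension.Ring B (q s) := by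
    simp [ev]
  rw [h, map_zero] at h1
  exact h1.symm

/-- The local Koszul hypothesis: at every maximal ideal containing the kernel, the kernel is
generated by a weakly regular sequence. -/
def LocKoszul : Prop :=
  ∀ (m : Ideal P.toExtension.Ring) [m.IsMaximal], P.toExtension.ker ≤ m →
    ∃ rs : List (Localization.AtPrime m),
      RingTheory.Sequence.IsWeaklyRegular (Localization.AtPrime m) rs ∧
      Ideal.ofList rs = P.toExtension.ker.map (algebraMap _ (Localization.AtPrime m))

variable {P}

theorem mem_trivRel_of_coord_mem (H2 : LocKoszul P) (q : relMod P) (hq : jmap P q = 0)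
    (hqI : ∀ s, q s ∈ P.toExtension.ker) : q ∈ trivRel P := by
  refine mem_of_forall_maximal (trivRel P) q fun m hm => ?_
  by_cases hle : P.toExtension.ker ≤ m
  · haveI := hm
    obtain ⟨rs, hreg, hrs⟩ := H2 m hle
    have hker : P.toExtension.ker = Ideal.span (Set.range (rel P)) :=
      P.span_range_relation_eq_ker.symm
    have hspan : Ideal.span (Set.range fun t => algebraMap P.toExtension.Ring
        (Localization.AtPrime m) (rel P t)) =
        P.toExtension.ker.map (algebraMap _ (Localization.AtPrime m)) := by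
      rw [hker, Ideal.map_span, ← Set.range_comp]
      rfl
    have h1 : locMap (R' := Localization.AtPrime m) q ∈
        triv (fun t => algebraMap P.toExtension.Ring (Localization.AtPrime m) (rel P t)) := by
      refine mem_triv_of_isWeaklyRegular _ rs hreg ?_ _ ?_ ?_
      · intro r hr
        rw [hspan, ← hrs]
        exact Ideal.subset_span hr
      · rw [jj_locMap]
        change algebraMap _ _ (jmap P q) = 0
        rw [hq, map_zero]
      · intro t
        rw [hrs, locMap_apply]
        exact Ideal.mem_map_of_mem _ (hqI t)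
    obtain ⟨s, hs, hsq⟩ := exists_smul_mem_triv m.primeCompl (rel P) q h1
    exact ⟨s, hs, hsq⟩
  · obtain ⟨a, ha, ham⟩ := SetLike.not_le_iff_exists.mp hle
    have h1 : a ∈ LinearMap.range (jmap P) := by
      rw [range_jmap]; exact ha
    obtain ⟨α, rfl⟩ := h1
    refine ⟨jmap P α, ham, ?_⟩
    have h2 : jmap P α • q - jmap P q • α ∈ trivRel P := Submodule.subset_span ⟨α, q, rfl⟩
    rwa [hq, zero_smul, sub_zero] at h2

theorem d2_injective (H2 : LocKoszul P) : Function.Injective (d2 P) := by
  rw [injective_iff_map_eq_zero]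
  intro z hz
  obtain ⟨q, rfl⟩ := L2_exists_rep' P z
  rw [d2_mk_tmul] at hz
  rw [L2_mk_eq_zero_iff']
  exact mem_trivRel_of_coord_mem H2 _ q.2 (coord_mem_ker P _ hz)

/-- `T²` vanishes for a locally Koszul presentation with projective conormal module. -/
theorem subsingleton_T2 (hproj : Module.Projective B P.toExtension.Cotangent) (H2 : LocKoszul P)
    (M : Type m) [AddCommGroup M] [Module B M] : Subsingleton (T2 P M) := by
  obtain ⟨s, hs⟩ := Module.projective_lifting_property (toCot P) LinearMap.id
    (CotLib.toCot_surjective P)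
  have hinj := d2_injective H2
  let e : L2 P ≃ₗ[B] LinearMap.range (d2 P) := LinearEquiv.ofInjective (d2 P) hinj
  let π : L1 P →ₗ[B] LinearMap.range (d2 P) :=
    (LinearMap.id - s ∘ₗ toCot P).codRestrict (LinearMap.range (d2 P)) (fun y => by
      rw [← CotLib.ker_toCot, LinearMap.mem_ker, LinearMap.sub_apply, LinearMap.id_apply,
        LinearMap.comp_apply, map_sub]
      have := LinearMap.congr_fun hs (toCot P y)
      rw [LinearMap.comp_apply, LinearMap.id_apply] at this
      rw [this, sub_self])
  have hπ : ∀ z, π (d2 P z) = e z := by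
    intro z
    apply Subtype.ext
    change d2 P z - s (toCot P (d2 P z)) = d2 P z
    have : toCot P (d2 P z) = 0 := LinearMap.congr_fun (toCot_comp_d2 P) z
    rw [this, map_zero, sub_zero]
  refine ⟨fun x y => ?_⟩
  have key : ∀ x : T2 P M, x = 0 := by
    intro x
    obtain ⟨ψ, rfl⟩ := (LinearMap.range (d2Star P M)).mkQ_surjective x
    rw [Submodule.mkQ_apply, Submodule.Quotient.mk_eq_zero]
    refine ⟨ψ ∘ₗ e.symm.toLinearMap ∘ₗ π, ?_⟩
    refine LinearMap.ext fun z => ?_
    rw [d2Star_apply, LinearMap.comp_apply, LinearMap.comp_apply, LinearMap.comp_apply, hπ,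
      LinearEquiv.coe_coe, LinearEquiv.symm_apply_apply]
  rw [key x, key y]

end Groth.Agent.Helper8.CotK
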