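import Mathlib
import Groth.Prelude.Def_CotT2
import Groth.Agent.Lib.Helper9.CotLib1
import Groth.Agent.Lib.Helper8.CotK2

/-!
# `T¹` vanishes identically iff the algebra is formally smooth
-/

set_option autoImplicit false

namespace Groth.Agent.Helper8.CotK

universe u

open CotT TensorProduct Groth.Agent.Helper9

variable {A B ι σ : Type u} [CommRing A] [CommRing B] [Algebra A B]
variable (P : Algebra.Presentation A B ι σ)

instance formallySmooth_ring : Algebra.FormallySmooth A P.toExtension.Ring :=
  inferInstanceAs (Algebra.FormallySmooth A (MvPolynomial ι A))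

theorem formallySmooth_iff_exists_retraction :
    Algebra.FormallySmooth A B ↔
      ∃ l : L0 P →ₗ[B] P.toExtension.Cotangent, l ∘ₗ P.toExtension.cotangentComplex = LinearMap.id :=
  P.toExtension.formallySmooth_iff_split_injection

theorem subsingleton_T1_of_formallySmooth [Algebra.FormallySmooth A B]
    (M : Type u) [AddCommGroup M] [Module B M] : Subsingleton (T1 P M) := by
  obtain ⟨l, hl⟩ := (formallySmooth_iff_exists_retraction P).1 inferInstance
  obtain ⟨-, hker, hsurj⟩ := CotLib.main12289 P M
  have key : ∀ x : T1 P M, x = 0 := by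
    intro x
    obtain ⟨φ, rfl⟩ := hsurj x
    rw [← LinearMap.mem_ker, hker]
    refine ⟨φ ∘ₗ l, ?_⟩
    rw [LinearMap.lcomp_apply', LinearMap.comp_assoc, hl, LinearMap.comp_id]
  exact ⟨fun x y => by rw [key x, key y]⟩

theorem formallySmooth_of_subsingleton_T1
    (h : ∀ (M : Type u) [AddCommGroup M] [Module B M], Subsingleton (T1 P M)) :
    Algebra.FormallySmooth A B := by
  rw [formallySmooth_iff_exists_retraction P]
  obtain ⟨-, hker, -⟩ := CotLib.main12289 P P.toExtension.Cotangent
  haveI := h P.toExtension.Cotangent
  have h1 : (LinearMap.id : P.toExtension.Cotangent →ₗ[B] P.toExtension.Cotangent) ∈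
      LinearMap.ker (homToT1 P P.toExtension.Cotangent) := by
    rw [LinearMap.mem_ker]
    exact Subsingleton.elim _ _
  rw [hker] at h1
  obtain ⟨ψ, hψ⟩ := h1
  exact ⟨ψ, hψ⟩

theorem formallySmooth_iff_subsingleton_T1 :
    Algebra.FormallySmooth A B ↔
      ∀ (M : Type u) [AddCommGroup M] [Module B M], Subsingleton (T1 P M) :=
  ⟨fun _ M _ _ => subsingleton_T1_of_formallySmooth P M, formallySmooth_of_subsingleton_T1 P⟩

theorem projective_cotangent_of_formallySmooth [Algebra.FormallySmooth A B] :
    Module.Projective B P.toExtension.Cotangent := by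
  obtain ⟨l, hl⟩ := (formallySmooth_iff_exists_retraction P).1 inferInstance
  haveI : Module.Projective B (L0 P) := Module.Projective.of_basis P.cotangentSpaceBasis
  exact Module.Projective.of_split P.toExtension.cotangentComplex l hl

end Groth.Agent.Helper8.CotK
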