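import Mathlib
import Groth.Prelude.Def_CAlgX
import Groth.Agent.Lib.Helper8.AdicFS7
import Groth.Agent.Lib.Helper8.AdicFS19
import Groth.Agent.S2453

/-!
# Smoothness at a prime over a field with separable residue field
-/

set_option autoImplicit false

namespace Groth.Agent.Helper8.SmoothAtReg

open IsLocalRing CAlgX

universe u

/-- For a finite type algebra over a Noetherian ring, smoothness at a prime is formal smoothness of
the local ring for the adic topology. -/
theorem isSmoothAt_iff_isAdicFormallySmooth (A B : Type u) [CommRing A] [IsNoetherianRing A]
    [CommRing B] [Algebra A B] [Algebra.FiniteType A B] (q : Ideal B) [q.IsPrime] :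
    Algebra.IsSmoothAt A q ↔
      IsAdicFormallySmooth A (Localization.AtPrime q) (maximalIdeal (Localization.AtPrime q)) := by
  constructor
  · intro h
    haveI : Algebra.FormallySmooth A (Localization.AtPrime q) := h
    exact Groth.Agent.Helper8.AdicFS.of_formallySmooth _
  · exact Groth.Agent.Helper8.AdicFS.isSmoothAt_of_isAdicFormallySmooth A B q

/-- Over a field, at a prime with separable residue field, smoothness is regularity of the local
ring. -/
theorem isSmoothAt_iff_isRegularLocalRing (k : Type u) [Field k]
    (S : Type u) [CommRing S] [Algebra k S] [Algebra.FiniteType k S] (q : Ideal S) [q.IsPrime]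
    [Algebra.IsGeometricallyReduced k (ResidueField (Localization.AtPrime q))] :
    Algebra.IsSmoothAt k q ↔ IsRegularLocalRing (Localization.AtPrime q) := by
  haveI : IsNoetherianRing S := Algebra.FiniteType.isNoetherianRing k S
  haveI : IsNoetherianRing (Localization.AtPrime q) :=
    IsLocalization.isNoetherianRing q.primeCompl _ inferInstance
  rw [isSmoothAt_iff_isAdicFormallySmooth]
  exact (Groth.Agent.S2453.result (k := k) (A := Localization.AtPrime q)).out 0 3

end Groth.Agent.Helper8.SmoothAtReg
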