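import Mathlib
import Groth.Prelude.Def_CotT2
import Groth.Agent.Lib.Helper8.CotK3
import Groth.Agent.Lib.Helper8.GeomAlgClosed
import Groth.Agent.Lib.Helper8.SmoothAtReg
import Groth.Agent.Lib.Helper8.RegularLocal5

/-!
# Regularity, formal smoothness and the local Koszul condition over an algebraically closed field
-/

set_option autoImplicit false

namespace Groth.Agent.Helper8.CotK

universe u

open CotT TensorProduct IsLocalRing

section GeomRed

variable (k : Type u) [Field k] [IsAlgClosed k]

theorem isGeometricallyReduced_of_isAlgClosed (K : Type u) [Field K] [Algebra k K] :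
    Algebra.IsGeometricallyReduced k K :=
  (Algebra.isGeometricallyReduced_field_iff k K).2
    (Groth.Agent.Helper8.isReduced_tensor_of_isAlgClosed (k := k) (AlgebraicClosure k) K)

variable (C : Type u) [CommRing C] [Algebra k C] [Algebra.FiniteType k C]

theorem isSmoothAt_iff_regular (p : Ideal C) [p.IsPrime] :
    Algebra.IsSmoothAt k p ↔ IsRegularLocalRing (Localization.AtPrime p) := by
  haveI := isGeometricallyReduced_of_isAlgClosed k (ResidueField (Localization.AtPrime p))
  exact Groth.Agent.Helper8.SmoothAtReg.isSmoothAt_iff_isRegularLocalRing k C p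

theorem formallySmooth_of_forall_regular
    (h : ∀ (p : Ideal C) [p.IsPrime], IsRegularLocalRing (Localization.AtPrime p)) :
    Algebra.FormallySmooth k C := by
  haveI : Algebra.FinitePresentation k C := Algebra.FinitePresentation.of_finiteType.mp inferInstance
  rw [← Algebra.smoothLocus_eq_univ_iff]
  ext p
  simp only [Set.mem_univ, iff_true]
  change Algebra.IsSmoothAt k p.asIdeal
  rw [isSmoothAt_iff_regular]
  exact h p.asIdeal

theorem regular_of_formallySmooth [Algebra.FormallySmooth k C] (p : Ideal C) [p.IsPrime] :
    IsRegularLocalRing (Localization.AtPrime p) := by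
  rw [← isSmoothAt_iff_regular k C p]
  haveI : Algebra.FormallySmooth C (Localization.AtPrime p) :=
    Algebra.FormallySmooth.of_isLocalization p.primeCompl
  exact Algebra.FormallySmooth.comp k C (Localization.AtPrime p)

theorem forall_regular_iff_formallySmooth :
    (∀ (p : Ideal C) [p.IsPrime], IsRegularLocalRing (Localization.AtPrime p)) ↔
      Algebra.FormallySmooth k C :=
  ⟨formallySmooth_of_forall_regular k C, fun _ p _ => regular_of_formallySmooth k C p⟩

end GeomRed

section Quot

variable {R B : Type u} [CommRing R] [CommRing B] [Algebra R B]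

/-- The localization of a quotient `B = R/I` at the image of a prime `m ⊇ I` is the quotient of
`R_m` by the extension of `I`. -/
theorem nonempty_ringEquiv_localization_quotient (hf : Function.Surjective (algebraMap R B))
    (m : Ideal R) [m.IsPrime] (hle : RingHom.ker (algebraMap R B) ≤ m)
    (p : Ideal B) [p.IsPrime] (hp : p = m.map (algebraMap R B)) :
    Nonempty (Localization.AtPrime p ≃+*
      (Localization.AtPrime m ⧸ (RingHom.ker (algebraMap R B)).map
        (algebraMap R (Localization.AtPrime m)))) := by
  let J := (RingHom.ker (algebraMap R B)).map (algebraMap R (Localization.AtPrime m))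
  let g : Localization.AtPrime m →+* Localization.AtPrime m ⧸ J := Ideal.Quotient.mk J
  have hker : RingHom.ker (algebraMap R B) ≤
      RingHom.ker (g.comp (algebraMap R (Localization.AtPrime m))) := by
    intro x hx
    rw [RingHom.mem_ker, RingHom.comp_apply, Ideal.Quotient.eq_zero_iff_mem]
    exact Ideal.mem_map_of_mem _ hx
  let φ : B →+* Localization.AtPrime m ⧸ J :=
    (algebraMap R B).liftOfSurjective hf ⟨g.comp (algebraMap R (Localization.AtPrime m)), hker⟩
  letI : Algebra B (Localization.AtPrime m ⧸ J) := φ.toAlgebra
  have H : g.comp (algebraMap R (Localization.AtPrime m)) =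
      (algebraMap B (Localization.AtPrime m ⧸ J)).comp (algebraMap R B) :=
    ((algebraMap R B).liftOfSurjective_comp hf
      ⟨g.comp (algebraMap R (Localization.AtPrime m)), hker⟩).symm
  have H' : RingHom.ker g ≤
      (RingHom.ker (algebraMap R B)).map (algebraMap R (Localization.AtPrime m)) := by
    rw [Ideal.mk_ker]
  have hloc : IsLocalization (m.primeCompl.map (algebraMap R B)) (Localization.AtPrime m ⧸ J) :=
    IsLocalization.of_surjective m.primeCompl (Localization.AtPrime m) (algebraMap R B) hf g
      Ideal.Quotient.mk_surjective H H'
  have hM : m.primeCompl.map (algebraMap R B) = p.primeCompl := by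
    ext x
    constructor
    · rintro ⟨y, hy, rfl⟩
      intro hx
      rw [hp] at hx
      obtain ⟨z, hz, hzy⟩ := (Ideal.mem_map_iff_of_surjective _ hf).1 hx
      have h1 : y - z ∈ m := hle (by rw [RingHom.mem_ker, map_sub, hzy, sub_self])
      have h2 : y ∈ m := by
        have := m.add_mem h1 hz
        rwa [sub_add_cancel] at this
      exact hy h2
    · intro hx
      obtain ⟨y, rfl⟩ := hf x
      refine ⟨y, ?_, rfl⟩
      intro hy
      apply hx
      rw [hp]
      exact Ideal.mem_map_of_mem _ hy
  rw [hM] at hloc
  haveI : IsLocalization.AtPrime (Localization.AtPrime m ⧸ J) p := hloc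
  exact ⟨(IsLocalization.algEquiv p.primeCompl (Localization.AtPrime p)
    (Localization.AtPrime m ⧸ J)).toRingEquiv⟩

end Quot

section LocK

variable {k B ι σ : Type u} [Field k] [CommRing B] [Algebra k B] [Finite ι]
variable (P : Algebra.Presentation k B ι σ)

/-- A presentation with finitely many variables of an algebra all of whose local rings are
regular is locally Koszul. -/
theorem locKoszul_of_regular
    (h : ∀ (p : Ideal B) [p.IsPrime], IsRegularLocalRing (Localization.AtPrime p)) :
    LocKoszul P := by
  intro m hm hle
  haveI : IsRegularRing (MvPolynomial ι k) := inferInstance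
  haveI : IsRegularRing P.toExtension.Ring := inferInstanceAs (IsRegularRing (MvPolynomial ι k))
  haveI : IsRegularLocalRing (Localization.AtPrime m) :=
    IsRegularRing.isRegularLocalRing_localization m
  have hf : Function.Surjective (algebraMap P.toExtension.Ring B) :=
    P.toExtension.algebraMap_surjective
  have hle' : RingHom.ker (algebraMap P.toExtension.Ring B) ≤ m := hle
  haveI hpp : (m.map (algebraMap P.toExtension.Ring B)).IsPrime :=
    Ideal.map_isPrime_of_surjective hf hle'
  obtain ⟨e⟩ := nonempty_ringEquiv_localization_quotient hf m hle'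
    (m.map (algebraMap P.toExtension.Ring B)) rfl
  haveI := h (m.map (algebraMap P.toExtension.Ring B))
  haveI : IsRegularLocalRing (Localization.AtPrime m ⧸ (RingHom.ker
      (algebraMap P.toExtension.Ring B)).map (algebraMap _ (Localization.AtPrime m))) :=
    IsRegularLocalRing.of_ringEquiv e
  obtain ⟨rs, hreg, hrs⟩ := (Groth.Agent.Helper8.RLR.isRegularLocalRing_iff_of_quotient
    (Localization.AtPrime m) ((RingHom.ker (algebraMap P.toExtension.Ring B)).map
      (algebraMap _ (Localization.AtPrime m)))).1 inferInstance
  exact ⟨rs, hreg.toIsWeaklyRegular, hrs⟩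

end LocK

end Groth.Agent.Helper8.CotK
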