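import Groth.Agent.Lib.Helper8.Murthy2

/-!
# The canonical module `Ext^r_B(A, B)` of a Cohen–Macaulay quotient of a regular local ring is
`A` or an unmixed ideal of height one
-/

set_option autoImplicit false
universe u

namespace Groth.Agent.Helper8.Murthy

open LocCoh IsLocalRing CategoryTheory Abelian InjHull Groth.Agent.Helper8.LC
open Groth.Agent.Helper8.LD Groth.Agent.Helper8.Depth Groth.Agent.Helper8.CanMod

section canonExt

/-- **Existence of a canonical module** for a homomorphic image of a Gorenstein local ring,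
remembering that it is an `Ext` module. -/
theorem exists_canon_ext (R : Type u) [CommRing R] [IsNoetherianRing R]
    [IsLocalRing R] (n : ℕ) (hn : ringKrullDim R = n) (E : Type u) [AddCommGroup E] [Module R E]
    (f : ResidueField R →ₗ[R] E) (hf : IsInjectiveHull f)
    (A : Type u) [CommRing A] [IsGorensteinLocalRing A] [Algebra A R]
    (hg : Function.Surjective (algebraMap A R)) [Module A E] [IsScalarTower A R E]
    (n' : ℕ) (hn' : ringKrullDim A = n') :
    ∃ (K : Type u) (_ : AddCommGroup K) (_ : Module R K) (_ : Module A K)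
      (_ : IsScalarTower A R K), Module.Finite R K ∧
      Nonempty ((K →ₗ[R] E) ≃ₗ[R] H (maximalIdeal R) n R) ∧
      Nonempty (K ≃ₗ[A] Ext (ModuleCat.of A R) (ModuleCat.of A A) (n' - n)) := by
  haveI : Module.Injective R E := hf.isInjective
  have hle : n ≤ n' := by
    have := ringKrullDim_le_of_surjective (algebraMap A R) hg
    rw [hn, hn'] at this
    exact_mod_cast this
  obtain ⟨EA, _, _, ι, fA, hι, hfA⟩ := exists_hull_over hg f hf
  haveI : Module.Finite A R := Module.Finite.of_surjective (Algebra.linearMap A R) hg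
  obtain ⟨e1⟩ := nonempty_H_equiv_dual_ext_of_gorenstein A n' hn' EA fA hfA R n (n' - n)
    (by omega)
  have hX : ∀ b ∈ RingHom.ker (algebraMap A R),
      ∀ x : Ext (ModuleCat.of A R) (ModuleCat.of A A) (n' - n), b • x = 0 := by
    intro b hb x
    apply ext_smul_eq_zero_of_mem_annihilator_left
    rw [Module.mem_annihilator]
    intro r
    change b • r = 0
    rw [Algebra.smul_def, (RingHom.mem_ker).mp hb, zero_mul]
  obtain ⟨e2⟩ := nonempty_hom_equiv_of_ker_smul_eq_zero hg ι hι _ hX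
  obtain ⟨inst, htower⟩ := exists_module_of_ker_smul_eq_zero hg _ hX
  letI := inst
  haveI := htower
  let e3 := LinearMap.extendScalarsOfSurjectiveEquiv (R := A) (S := R)
    (M := Ext (ModuleCat.of A R) (ModuleCat.of A A) (n' - n)) (N := E) hg
  have key := exists_semilinear_equiv (R := A) (R' := R) (maximalIdeal A) n R
  rw [map_maximalIdeal_of_surjective hg] at key
  obtain ⟨φ, hφ⟩ := key
  let Ψ : H (maximalIdeal R) n R ≃+
      (Ext (ModuleCat.of A R) (ModuleCat.of A A) (n' - n) →ₗ[R] E) :=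
    φ.trans ((e1.trans (e2.symm.trans e3)).toAddEquiv)
  have hΨ : ∀ (b : A) (x : H (maximalIdeal R) n R),
      Ψ (algebraMap A R b • x) = algebraMap A R b • Ψ x := by
    intro b x
    change (e1.trans (e2.symm.trans e3)) (φ (algebraMap A R b • x)) =
      algebraMap A R b • (e1.trans (e2.symm.trans e3)) (φ x)
    rw [hφ, map_smul]
    apply LinearMap.ext
    intro z
    rw [LinearMap.smul_apply, LinearMap.smul_apply, algebraMap_smul]
  let ΨR : H (maximalIdeal R) n R ≃ₗ[R]
      (Ext (ModuleCat.of A R) (ModuleCat.of A A) (n' - n) →ₗ[R] E) :=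
    { Ψ with
      map_smul' := by
        intro r x
        obtain ⟨b, rfl⟩ := hg r
        exact hΨ b x }
  haveI : Module.Finite A (Ext (ModuleCat.of A R) (ModuleCat.of A A) (n' - n)) := inferInstance
  refine ⟨Ext (ModuleCat.of A R) (ModuleCat.of A A) (n' - n), inferInstance, inst, inferInstance,
    htower, ?_, ⟨ΨR.symm⟩, ⟨LinearEquiv.refl A _⟩⟩
  exact Module.Finite.of_restrictScalars_finite A R _

end canonExt

section unmixed

variable (A : Type u) [CommRing A] [IsCohenMacaulayLocalRing A] [IsDomain A] (n : ℕ)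
  (hn : ringKrullDim A = n)

include hn in
/-- a proper nonzero ideal which is a maximal Cohen–Macaulay module is unmixed of height one. -/
theorem height_eq_one_of_mem_associatedPrimes_quotient (J : Ideal A) (hJ0 : J ≠ ⊥)
    (hdepth : (n : ℕ∞) ≤ LocCoh.depth A J) (q : Ideal A)
    (hq : q ∈ associatedPrimes A (A ⧸ J)) : q.height = 1 := by
  haveI hqp : q.IsPrime := hq.1
  have hdA : (n : ℕ∞) ≤ LocCoh.depth A A := by
    have h2 : Module.supportDim A A = ((LocCoh.depth A A : ℕ∞) : WithBot ℕ∞) :=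
      IsCohenMacaulayLocalRing.supportDim_eq_depth
    rw [Module.supportDim_self_eq_ringKrullDim, hn] at h2
    have : (n : ℕ∞) = LocCoh.depth A A := by exact_mod_cast h2
    exact le_of_eq this
  have hvA := (forall_lt_subsingleton_H_iff_le_idealDepth (maximalIdeal A) A n).mpr hdA
  have hvJ := (forall_lt_subsingleton_H_iff_le_idealDepth (maximalIdeal A) J n).mpr hdepth
  have hS := sesSub_shortExact J
  have hvQ : ∀ j : ℕ, j < n - 1 → Subsingleton (H (maximalIdeal A) j (A ⧸ J)) := by
    intro j hj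
    apply subsingleton_of_forall_eq_zero
    intro x
    haveI := hvJ (j + 1) (by omega)
    haveI := hvA j (by omega)
    have hx : δ (maximalIdeal A) j hS x = 0 := Subsingleton.elim _ _
    obtain ⟨y, rfl⟩ := (exact_g_δ (maximalIdeal A) j hS x).mp hx
    have hy : y = 0 := Subsingleton.elim _ _
    rw [hy, map_zero]
  haveI : Module.Finite A (A ⧸ J) := Module.Finite.quotient A J
  have hdQ := (forall_lt_subsingleton_H_iff_le_idealDepth (maximalIdeal A) (A ⧸ J) (n - 1)).mp hvQ
  have h3 := depth_le_dim_quotient_associatedPrime (A := A) (M := A ⧸ J) q hq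
  have h4 : (((n - 1 : ℕ) : ℕ∞) : WithBot ℕ∞) ≤ ringKrullDim (A ⧸ q) :=
    le_trans (by exact_mod_cast hdQ) h3
  have h1 := cm_height_add_dim_quotient_ideal A q hqp.ne_top
  rw [hn] at h1
  have hJq : J ≤ q := by
    have := IsAssociatedPrime.annihilator_le hq
    rwa [Submodule.annihilator_top, Ideal.annihilator_quotient] at this
  have hq0 : q ≠ ⊥ := by
    intro h
    apply hJ0
    rw [eq_bot_iff, ← h]
    exact hJq
  have hge : 1 ≤ q.height := by
    rw [Order.one_le_iff_ne_zero, Ne, Ideal.height_eq_zero_iff_eq_bot]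
    exact hq0
  apply le_antisymm _ hge
  by_contra hlt
  rw [not_le] at hlt
  have h2 : (2 : ℕ∞) ≤ q.height := by
    have := Order.add_one_le_of_lt hlt
    rwa [one_add_one_eq_two] at this
  have h5 : ((2 : ℕ∞) : WithBot ℕ∞) + (((n - 1 : ℕ) : ℕ∞) : WithBot ℕ∞) ≤ (n : WithBot ℕ∞) := by
    rw [← h1]
    exact add_le_add (by exact_mod_cast h2) h4
  have h6 : (2 : ℕ∞) + ((n - 1 : ℕ) : ℕ∞) ≤ (n : ℕ∞) := by exact_mod_cast h5
  have h7 : 2 + (n - 1) ≤ n := by exact_mod_cast h6
  omega

end unmixed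

/-- **S17766.** -/
theorem ext_equiv_self_or_unmixed (B : Type u) [CommRing B] [IsRegularLocalRing B] (p : Ideal B)
    [p.IsPrime] [LocCoh.IsCohenMacaulayLocalRing (B ⧸ p)] (r : ℕ) (hr : p.height = r) :
    Nonempty (((_root_.Ext B (ModuleCat.{u} B) r).obj
        (Opposite.op (ModuleCat.of B (B ⧸ p)))).obj (ModuleCat.of B B) ≃ₗ[B] (B ⧸ p)) ∨
      ∃ I : Ideal (B ⧸ p), I ≠ ⊤ ∧
        (∀ q ∈ associatedPrimes (B ⧸ p) ((B ⧸ p) ⧸ I), q.height = 1) ∧
        Nonempty (((_root_.Ext B (ModuleCat.{u} B) r).obj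
          (Opposite.op (ModuleCat.of B (B ⧸ p)))).obj (ModuleCat.of B B) ≃ₗ[B] I) := by
  obtain ⟨n, hn0⟩ := exists_nat_supportDim (A := B ⧸ p) (B ⧸ p)
  have hn : ringKrullDim (B ⧸ p) = n := by
    rw [← Module.supportDim_self_eq_ringKrullDim, hn0]
  obtain ⟨n', hn'0⟩ := exists_nat_supportDim (A := B) B
  have hn' : ringKrullDim B = n' := by
    rw [← Module.supportDim_self_eq_ringKrullDim, hn'0]
  haveI : IsGorensteinLocalRing B :=
    Groth.Agent.Helper8.ABS.isGorensteinLocalRing_of_isRegularLocalRing B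
  haveI hCM : IsCohenMacaulayLocalRing B :=
    Groth.Agent.Helper8.Goren.isCohenMacaulayLocalRing_of_isGorensteinLocalRing B
  have hrn : n' - n = r := by
    have h1 := cm_height_add_dim_quotient_ideal B p (Ideal.IsPrime.ne_top inferInstance)
    rw [hr, hn, hn'] at h1
    have : r + n = n' := by exact_mod_cast h1
    omega
  obtain ⟨E, _, _, f, hf⟩ :=
    Groth.Agent.Helper1.InjHullL.exists_injectiveHull (R := B ⧸ p) (ResidueField (B ⧸ p))
  letI : Module B E := Module.compHom E (algebraMap B (B ⧸ p))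
  haveI : IsScalarTower B (B ⧸ p) E := IsScalarTower.of_algebraMap_smul (fun r x => rfl)
  obtain ⟨K, _, _, _, _, hKfin, ⟨eK⟩, ⟨eX⟩⟩ := exists_canon_ext (B ⧸ p) n hn E f hf B
    Ideal.Quotient.mk_surjective n' hn'
  haveI := hKfin
  rw [hrn] at eX
  haveI := nontrivial_canon (B ⧸ p) n hn E K eK
  have htf : ∀ (a : B ⧸ p) (x : K), a ≠ 0 → a • x = 0 → x = 0 :=
    fun a x ha hax => canon_torsionFree (B ⧸ p) n hn E f hf K eK a x ha hax
  have hend : ∀ φ : K →ₗ[B ⧸ p] K, ∃ r : B ⧸ p, ∀ k, φ k = r • k := by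
    intro φ
    obtain ⟨r, hr⟩ := (toEnd_bijective (B ⧸ p) n hn E f hf K eK).2 φ
    refine ⟨r, fun k => ?_⟩
    rw [← hr]
    rfl
  obtain ⟨I, hI, ⟨e1⟩⟩ := exists_equiv_ideal htf hend
  let e0 : ((_root_.Ext B (ModuleCat.{u} B) r).obj
      (Opposite.op (ModuleCat.of B (B ⧸ p)))).obj (ModuleCat.of B B) ≃ₗ[B] K :=
    (cmpC (ModuleCat.of B (B ⧸ p)) (ModuleCat.of B B) r).trans eX.symm
  by_cases hItop : I = ⊤
  · left
    exact ⟨e0.trans ((e1.trans ((LinearEquiv.ofEq I ⊤ hItop).trans
      Submodule.topEquiv)).restrictScalars B)⟩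
  · right
    refine ⟨I, hItop, ?_, ⟨e0.trans (e1.restrictScalars B)⟩⟩
    intro q hq
    obtain ⟨-, -, hcm, hdim⟩ := injectiveDimension_and_cm (B ⧸ p) n hn E f hf K eK
    have hdK : (n : ℕ∞) = LocCoh.depth (B ⧸ p) K := by
      unfold IsCohenMacaulayModule at hcm
      rw [hdim] at hcm
      exact_mod_cast hcm
    have hdI : LocCoh.depth (B ⧸ p) K = LocCoh.depth (B ⧸ p) I :=
      idealDepth_congr (I := maximalIdeal (B ⧸ p)) e1
    exact height_eq_one_of_mem_associatedPrimes_quotient (B ⧸ p) n hn I hI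
      (by rw [← hdI, ← hdK]) q hq

end Groth.Agent.Helper8.Murthy
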