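import Groth.Agent.Lib.Helper8.LD9

/-!
# Local duality: `H^i_J(M) ≃ Hom(Ext^{n-i}(M, R), H^n_J(R))`
-/

set_option autoImplicit false
universe u

namespace Groth.Agent.Helper8.LD

open CategoryTheory Abelian LocCoh localCohomology
open Groth.Agent.Helper8.LC

variable {R : Type u} [CommRing R]

/-- `Ext^0(M, N) ≃ Hom(M, N)`. -/
noncomputable def ext0Equiv (M N : Type u) [AddCommGroup M] [Module R M] [AddCommGroup N]
    [Module R N] : Ext (ModuleCat.of R M) (ModuleCat.of R N) 0 ≃ₗ[R] (M →ₗ[R] N) :=
  Ext.linearEquiv₀.trans ModuleCat.homLinearEquiv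

lemma ext0Equiv_mk₀ {M N : Type u} [AddCommGroup M] [Module R M] [AddCommGroup N]
    [Module R N] (g : ModuleCat.of R M ⟶ ModuleCat.of R N) :
    ext0Equiv M N (Ext.mk₀ g) = g.hom := by
  unfold ext0Equiv
  rw [LinearEquiv.trans_apply]
  have : Ext.linearEquiv₀ (R := R) (Ext.mk₀ g) = g := by
    apply (Ext.mk₀_bijective _ _).1
    rw [Ext.mk₀_linearEquiv₀_apply]
  rw [this]
  rfl

variable [IsNoetherianRing R]

/-- **Local duality by dimension shifting.** -/
theorem nonempty_H_equiv_dual_ext (J : Ideal R) (n : ℕ)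
    (hcd : ∀ (N : Type u) [AddCommGroup N] [Module R N], Subsingleton (H J (n + 1) N))
    [Module.Injective R (H J n R)]
    (hvan : ∀ i, i ≠ n → Subsingleton (H J i R)) :
    ∀ (j i : ℕ), i + j = n → ∀ (M : Type u) [AddCommGroup M] [Module R M] [Module.Finite R M],
      Nonempty (H J i M ≃ₗ[R]
        (Ext (ModuleCat.of R M) (ModuleCat.of R R) j →ₗ[R] H J n R)) := by
  intro j
  induction j with
  | zero =>
    intro i hi M _ _ _
    rw [add_zero] at hi
    subst hi
    have h := isDualIso_of_finite J i hcd M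
    exact ⟨(LinearEquiv.ofBijective (θ J i M) h).trans
      (LinearEquiv.arrowCongr (ext0Equiv M R).symm (LinearEquiv.refl R _))⟩
  | succ j ih =>
    intro i hi M _ _ _
    obtain ⟨a, p, hp⟩ := Module.Finite.exists_fin' R M
    have hS := LinearMap.shortExact_shortComplexKer hp
    have hF : ∀ k, k ≠ n → Subsingleton (H J k (Fin a → R)) :=
      fun k hk => subsingleton_pi_fin J k (hvan k hk) a
    have hproj : ∀ k, Subsingleton (Ext (ModuleCat.of R (Fin a → R)) (ModuleCat.of R R) (k + 1)) :=
      fun k => Ext.subsingleton_of_projective _ _ k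
    cases j with
    | zero =>
      -- `i + 1 = n`
      have hin : n = i + 1 := by omega
      subst hin
      let ι : LinearMap.ker p →ₗ[R] (Fin a → R) := (LinearMap.ker p).subtype
      let d : H J i M →ₗ[R] H J (i + 1) (LinearMap.ker p) := δ J i hS
      have hdinj : Function.Injective d := by
        rw [injective_iff_map_eq_zero]
        intro x hx
        obtain ⟨w, rfl⟩ := (exact_g_δ J i hS x).mp hx
        have hw : w = 0 := (hF i (by omega)).elim _ _
        rw [hw]
        exact map_zero _
      have hdrange : LinearMap.range d = LinearMap.ker (hmap J (i + 1) ι) := by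
        ext y
        rw [LinearMap.mem_ker]
        exact (exact_δ_f J i hS y).symm
      let eA : H J i M ≃ₗ[R] LinearMap.ker (hmap J (i + 1) ι) :=
        (LinearEquiv.ofInjective d hdinj).trans (LinearEquiv.ofEq _ _ hdrange)
      obtain ⟨eB⟩ := nonempty_ker_equiv (hmap J (i + 1) ι) (dmap (H J (i + 1) R) ι)
        (θ J (i + 1) (LinearMap.ker p)) (θ J (i + 1) (Fin a → R))
        (by
          intro ξ
          ext φ
          rw [θ_natural, dmap_apply])
        (isDualIso_of_finite J (i + 1) hcd (LinearMap.ker p))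
        (isDualIso_pi_fin J (i + 1) a).1
      -- the Ext side
      let u : ((Fin a → R) →ₗ[R] R) →ₗ[R] (LinearMap.ker p →ₗ[R] R) := LinearMap.lcomp R R ι
      let dd : (LinearMap.ker p →ₗ[R] R) →ₗ[R] Ext (ModuleCat.of R M) (ModuleCat.of R R) 1 :=
        (extδ hS (ModuleCat.of R R) 0) ∘ₗ (ext0Equiv (LinearMap.ker p) R).symm.toLinearMap
      have hddsurj : Function.Surjective dd := by
        intro y
        obtain ⟨x, hx⟩ := extδ_surjective hS (ModuleCat.of R R) 0 (hproj 0) y
        exact ⟨ext0Equiv (LinearMap.ker p) R x, by simp [dd, hx]⟩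
      have hddex : Function.Exact u dd := by
        intro b
        constructor
        · intro hb
          obtain ⟨x₂, hx₂⟩ := (extδ_exact hS (ModuleCat.of R R) _).mp hb
          obtain ⟨ψ, rfl⟩ := (Ext.mk₀_bijective _ _).2 x₂
          refine ⟨ψ.hom, ?_⟩
          have h3 : (ext0Equiv (LinearMap.ker p) R).symm b =
              (Ext.mk₀ (p.shortComplexKer).f).comp (Ext.mk₀ ψ) (zero_add 0) := hx₂.symm
          have h2 : b = ext0Equiv (LinearMap.ker p) R
              ((Ext.mk₀ (p.shortComplexKer).f).comp (Ext.mk₀ ψ) (zero_add 0)) := by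
            rw [← h3, LinearEquiv.apply_symm_apply]
          rw [h2, Ext.mk₀_comp_mk₀, ext0Equiv_mk₀]
          rfl
        · rintro ⟨φ, rfl⟩
          apply (extδ_exact hS (ModuleCat.of R R) _).mpr
          refine ⟨Ext.mk₀ (ModuleCat.ofHom φ), ?_⟩
          change (Ext.mk₀ (p.shortComplexKer).f).comp (Ext.mk₀ (ModuleCat.ofHom φ)) (zero_add 0) =
            (ext0Equiv (LinearMap.ker p) R).symm (u φ)
          rw [Ext.mk₀_comp_mk₀, LinearEquiv.eq_symm_apply, ext0Equiv_mk₀]
          rfl
      obtain ⟨eC⟩ := nonempty_hom_coker_equiv (E := H J (i + 1) R) u dd hddsurj hddex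
      exact ⟨(eA.trans eB).trans eC.symm⟩
    | succ j =>
      have hbij := δ_bijective_of_subsingleton J i hS (hF i (by omega)) (hF (i + 1) (by omega))
      let e1 : H J i M ≃ₗ[R] H J (i + 1) (LinearMap.ker p) :=
        LinearEquiv.ofBijective (δ J i hS) hbij
      obtain ⟨e2⟩ := ih (i + 1) (by omega) (LinearMap.ker p)
      let e3 : Ext (ModuleCat.of R (LinearMap.ker p)) (ModuleCat.of R R) (j + 1) ≃ₗ[R]
          Ext (ModuleCat.of R M) (ModuleCat.of R R) (j + 1 + 1) :=
        LinearEquiv.ofBijective (extδ hS (ModuleCat.of R R) (j + 1))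
          (extδ_bijective hS (ModuleCat.of R R) (j + 1) (hproj j) (hproj (j + 1)))
      exact ⟨(e1.trans e2).trans (LinearEquiv.arrowCongr e3 (LinearEquiv.refl R _))⟩

end Groth.Agent.Helper8.LD
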