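import Mathlib

/-!
# The localization functor `ModuleCat R ⥤ ModuleCat (Localization S)` and the induced maps on `Ext`
-/

set_option autoImplicit false
universe u

namespace Groth.Agent.Helper8.ExtLoc

open CategoryTheory Abelian

variable {R : Type u} [CommRing R] (S : Submonoid R)

/-- the localized module as an object. -/
noncomputable abbrev locObj (M : ModuleCat.{u} R) : ModuleCat.{u} (Localization S) :=
  ModuleCat.of (Localization S) (LocalizedModule S M)

/-- the localized map of a linear map, as a linear map over the localization. -/
noncomputable abbrev locLin {M N : Type u} [AddCommGroup M] [Module R M] [AddCommGroup N]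
    [Module R N] (f : M →ₗ[R] N) :
    LocalizedModule S M →ₗ[Localization S] LocalizedModule S N :=
  IsLocalizedModule.mapExtendScalars S (LocalizedModule.mkLinearMap S M)
    (LocalizedModule.mkLinearMap S N) (Localization S) f

lemma locLin_mk {M N : Type u} [AddCommGroup M] [Module R M] [AddCommGroup N]
    [Module R N] (f : M →ₗ[R] N) (m : M) (s : S) :
    locLin S f (LocalizedModule.mk m s) = LocalizedModule.mk (f m) s := by
  rw [IsLocalizedModule.mapExtendScalars_apply_apply, IsLocalizedModule.mk_eq_mk',
    IsLocalizedModule.map_mk', IsLocalizedModule.mk_eq_mk']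

/-- the localized map of a morphism. -/
noncomputable def locMap {M N : ModuleCat.{u} R} (f : M ⟶ N) : locObj S M ⟶ locObj S N :=
  ModuleCat.ofHom (locLin S f.hom)

lemma locMap_mk {M N : ModuleCat.{u} R} (f : M ⟶ N) (m : M) (s : S) :
    (locMap S f).hom (LocalizedModule.mk m s) = LocalizedModule.mk (f m) s :=
  locLin_mk S f.hom m s

/-- the localization functor. -/
noncomputable def locF : ModuleCat.{u} R ⥤ ModuleCat.{u} (Localization S) where
  obj M := locObj S M
  map f := locMap S f
  map_id M := by
    apply ModuleCat.hom_ext
    apply LinearMap.ext
    intro x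
    induction x using LocalizedModule.induction_on with
    | h m s => rw [locMap_mk]; rfl
  map_comp f g := by
    apply ModuleCat.hom_ext
    apply LinearMap.ext
    intro x
    induction x using LocalizedModule.induction_on with
    | h m s =>
      rw [ModuleCat.hom_comp, LinearMap.comp_apply, locMap_mk, locMap_mk, locMap_mk]
      rfl

lemma locF_map_mk {M N : ModuleCat.{u} R} (f : M ⟶ N) (m : M) (s : S) :
    ((locF S).map f).hom (LocalizedModule.mk m s) = LocalizedModule.mk (f m) s :=
  locMap_mk S f m s

instance : (locF S).Additive where
  map_add {M N f g} := by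
    change locMap S (f + g) = locMap S f + locMap S g
    unfold locMap
    rw [ModuleCat.hom_add]
    have h : locLin S (f.hom + g.hom) = locLin S f.hom + locLin S g.hom :=
      map_add (IsLocalizedModule.mapExtendScalars S (LocalizedModule.mkLinearMap S M)
        (LocalizedModule.mkLinearMap S N) (Localization S)) f.hom g.hom
    rw [h]
    rfl

lemma locF_map_exact (T : ShortComplex (ModuleCat.{u} R)) (h : T.Exact) :
    (T.map (locF S)).Exact := by
  rw [CategoryTheory.ShortComplex.ShortExact.moduleCat_exact_iff_function_exact] at h ⊢
  exact IsLocalizedModule.map_exact S (LocalizedModule.mkLinearMap S T.X₁)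
    (LocalizedModule.mkLinearMap S T.X₂) (LocalizedModule.mkLinearMap S T.X₃) _ _ h

instance : Limits.PreservesFiniteLimits (locF S) := by
  have := ((Functor.exact_tfae _).out 1 3).mp (locF_map_exact S)
  exact this.1

instance : Limits.PreservesFiniteColimits (locF S) := by
  have := ((Functor.exact_tfae _).out 1 3).mp (locF_map_exact S)
  exact this.2

end Groth.Agent.Helper8.ExtLoc
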