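import Mathlib
import Groth.Prelude.Def_CAlgX
import Groth.Agent.Lib.Helper8.AdicFS1

/-!
# The Jacobian criterion for adic formal smoothness: retractions of the conormal map
-/

set_option autoImplicit false

namespace Groth.Agent.Helper8.AdicFS

open CAlgX TensorProduct KaehlerDifferential

universe u

section retr

variable {R P S : Type u} [CommRing R] [CommRing P] [CommRing S] [Algebra R P] [Algebra P S]
  [Algebra R S] [IsScalarTower R P S]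

/-- If `S = P ⧸ I` is formally smooth over `R` for the `𝔫`-adic topology, where `𝔫 ^ n` is the
image of `𝔑`, and `I ≤ 𝔐`, there is a `P`-linear map `Ω_{P/R} → P ⧸ (𝔐 I + 𝔑)` with values in the
image of `I` and sending `dx` to the class of `x` for `x ∈ I`. -/
theorem exists_kaehler_retraction (𝔐 𝔑 : Ideal P) {𝔫 : Ideal S} (n : ℕ)
    (hsurj : Function.Surjective (algebraMap P S))
    (hker : RingHom.ker (algebraMap P S) ≤ 𝔐)
    (h𝔑 : 𝔑.map (algebraMap P S) = 𝔫 ^ n)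
    (hfs : IsAdicFormallySmooth R S 𝔫) :
    ∃ Dt : Ω[P⁄R] →ₗ[P] (P ⧸ (𝔐 * RingHom.ker (algebraMap P S) ⊔ 𝔑)),
      (∀ x ∈ RingHom.ker (algebraMap P S), Dt (D R P x) = Ideal.Quotient.mk _ x) ∧
      ∀ ω, Dt ω ∈ (RingHom.ker (algebraMap P S)).map
        (Ideal.Quotient.mk (𝔐 * RingHom.ker (algebraMap P S) ⊔ 𝔑)) := by
  classical
  obtain ⟨I, hI⟩ : ∃ I : Ideal P, I = RingHom.ker (algebraMap P S) := ⟨_, rfl⟩
  have hmemI : ∀ t : P, t ∈ I ↔ algebraMap P S t = 0 := fun t => by rw [hI]; exact RingHom.mem_ker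
  have hI𝔐 : I ≤ 𝔐 := hI ▸ hker
  rw [← hI]
  obtain ⟨𝔟, h𝔟⟩ : ∃ 𝔟 : Ideal P, 𝔟 = 𝔐 * I ⊔ 𝔑 := ⟨_, rfl⟩
  rw [← h𝔟]
  have h𝔟1 : 𝔐 * I ≤ 𝔟 := h𝔟 ▸ le_sup_left
  have h𝔟2 : 𝔑 ≤ 𝔟 := h𝔟 ▸ le_sup_right
  obtain ⟨𝔮, h𝔮⟩ : ∃ 𝔮 : Ideal S, 𝔮 = 𝔫 ^ n := ⟨_, rfl⟩
  have h𝔑' : 𝔑.map (algebraMap P S) = 𝔮 := h𝔑.trans h𝔮.symm
  have hkill : ∀ t : P, t ∈ 𝔟 →
      ((Ideal.Quotient.mkₐ R 𝔮).comp (IsScalarTower.toAlgHom R P S)) t = 0 := by
    intro t ht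
    show Ideal.Quotient.mk 𝔮 (algebraMap P S t) = 0
    rw [Ideal.Quotient.eq_zero_iff_mem]
    rw [h𝔟] at ht
    obtain ⟨a, ha, b, hb, rfl⟩ := Submodule.mem_sup.1 ht
    have h1 : algebraMap P S a = 0 := (hmemI a).1 ((Ideal.mul_le_right : 𝔐 * I ≤ I) ha)
    rw [map_add, h1, zero_add, ← h𝔑']
    exact Ideal.mem_map_of_mem _ hb
  let p : (P ⧸ 𝔟) →ₐ[R] S ⧸ 𝔮 := Ideal.Quotient.liftₐ 𝔟 _ hkill
  have hpmk : ∀ t : P, p (Ideal.Quotient.mk 𝔟 t) =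
      Ideal.Quotient.mk 𝔮 (algebraMap P S t) := fun t => rfl
  have hp : Function.Surjective p := by
    intro y
    obtain ⟨s, rfl⟩ := Ideal.Quotient.mk_surjective y
    obtain ⟨t, rfl⟩ := hsurj s
    exact ⟨Ideal.Quotient.mk 𝔟 t, hpmk t⟩
  have hkerp : RingHom.ker (p : (P ⧸ 𝔟) →+* S ⧸ 𝔮) = I.map (Ideal.Quotient.mk 𝔟) := by
    apply le_antisymm
    · intro y hy
      obtain ⟨t, rfl⟩ := Ideal.Quotient.mk_surjective y
      have h1 : Ideal.Quotient.mk 𝔮 (algebraMap P S t) = 0 := hy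
      rw [Ideal.Quotient.eq_zero_iff_mem, ← h𝔑'] at h1
      obtain ⟨b, hb, hbt⟩ := (Ideal.mem_map_iff_of_surjective _ hsurj).1 h1
      have h2 : t - b ∈ I := by
        rw [hmemI, map_sub, hbt, sub_self]
      have h3 : Ideal.Quotient.mk 𝔟 t = Ideal.Quotient.mk 𝔟 (t - b) := by
        rw [map_sub, Ideal.Quotient.eq_zero_iff_mem.2 (h𝔟2 hb), sub_zero]
      rw [h3]
      exact Ideal.mem_map_of_mem _ h2
    · rw [Ideal.map_le_iff_le_comap]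
      intro t ht
      rw [Ideal.mem_comap, RingHom.mem_ker]
      show p (Ideal.Quotient.mk 𝔟 t) = 0
      rw [hpmk, (hmemI t).1 ht, map_zero]
  have hsq : RingHom.ker (p : (P ⧸ 𝔟) →+* S ⧸ 𝔮) ^ 2 = ⊥ := by
    rw [hkerp, ← Ideal.map_pow, Ideal.map_eq_bot_iff_le_ker, Ideal.mk_ker, pow_two]
    exact (Ideal.mul_mono_left hI𝔐).trans h𝔟1
  obtain ⟨χ, hχ, -⟩ := exists_lift_surjective hfs p hp hsq (Ideal.Quotient.mkₐ R 𝔮)
    ⟨n, fun x hx => Ideal.Quotient.eq_zero_iff_mem.2 (h𝔮 ▸ hx)⟩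
  have hpχ : ∀ s : S, p (χ s) = Ideal.Quotient.mk 𝔮 s := fun s => AlgHom.congr_fun hχ s
  let can : P →ₐ[R] (P ⧸ 𝔟) := Ideal.Quotient.mkₐ R 𝔟
  let χ' : P →ₐ[R] (P ⧸ 𝔟) := χ.comp (IsScalarTower.toAlgHom R P S)
  have hχ' : ∀ y : P, χ' y = χ (algebraMap P S y) := fun y => rfl
  have hD : ∀ y : P, can y - χ' y ∈ RingHom.ker (p : (P ⧸ 𝔟) →+* S ⧸ 𝔮) := by
    intro y
    rw [RingHom.mem_ker, map_sub]
    show p (Ideal.Quotient.mk 𝔟 y) - p (χ (algebraMap P S y)) = 0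
    rw [hpmk, hpχ, sub_self]
  have hDD : ∀ a b : P, (can a - χ' a) * (can b - χ' b) = 0 := by
    intro a b
    have h1 : (can a - χ' a) * (can b - χ' b) ∈ RingHom.ker (p : (P ⧸ 𝔟) →+* S ⧸ 𝔮) ^ 2 := by
      rw [pow_two]; exact Ideal.mul_mem_mul (hD a) (hD b)
    rw [hsq] at h1
    exact h1
  let D₀ : Derivation R P (P ⧸ 𝔟) :=
    { toLinearMap := can.toLinearMap - χ'.toLinearMap
      map_one_eq_zero' := by
        show can 1 - χ' 1 = 0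
        rw [map_one, map_one, sub_self]
      leibniz' := by
        intro a b
        show can (a * b) - χ' (a * b) = a • (can b - χ' b) + b • (can a - χ' a)
        rw [Algebra.smul_def, Algebra.smul_def, map_mul, map_mul]
        show can a * can b - χ' a * χ' b = can a * (can b - χ' b) + can b * (can a - χ' a)
        linear_combination (-1 : P ⧸ 𝔟) * hDD a b }
  have hD₀ : ∀ y : P, D₀ y = can y - χ' y := fun y => rfl
  let Dt : Ω[P⁄R] →ₗ[P] (P ⧸ 𝔟) := D₀.liftKaehlerDifferential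
  have hDt : ∀ y : P, Dt (D R P y) = can y - χ' y := fun y =>
    (D₀.liftKaehlerDifferential_comp_D y).trans (hD₀ y)
  have hrange : ∀ ω : Ω[P⁄R], Dt ω ∈ RingHom.ker (p : (P ⧸ 𝔟) →+* S ⧸ 𝔮) := by
    intro ω
    have hω : ω ∈ Submodule.span P (Set.range (D R P)) := by
      rw [KaehlerDifferential.span_range_derivation]; trivial
    refine Submodule.span_induction ?_ ?_ ?_ ?_ hω
    · rintro _ ⟨y, rfl⟩
      rw [hDt]
      exact hD y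
    · rw [map_zero]
      exact Ideal.zero_mem _
    · intro x y _ _ hx hy
      rw [map_add]
      exact Ideal.add_mem _ hx hy
    · intro a x _ hx
      rw [map_smul, Algebra.smul_def]
      exact Ideal.mul_mem_left _ _ hx
  refine ⟨Dt, fun x hx => ?_, fun ω => hkerp ▸ hrange ω⟩
  rw [hDt, hχ', (hmemI x).1 hx, map_zero, sub_zero]
  rfl

end retr

section ext

variable {A B : Type u} [CommRing A] [CommRing B] [Algebra A B] (J : Ideal B) (Q : Ideal (B ⧸ J))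

/-- If the conormal map of `B → B ⧸ J` has a left inverse modulo `Q`, every linear map from the
conormal module to a module killed by the preimage of `Q` extends to the module of
differentials. -/
theorem exists_extension_of_splitting
    (g : ((B ⧸ J) ⧸ Q) ⊗[B] ((B ⧸ J) ⊗[B] Ω[B⁄A]) →ₗ[(B ⧸ J) ⧸ Q]
      ((B ⧸ J) ⧸ Q) ⊗[B] (RingHom.ker (algebraMap B (B ⧸ J))).Cotangent)
    (hg : g ∘ₗ LinearMap.baseChange ((B ⧸ J) ⧸ Q) (kerCotangentToTensor A B (B ⧸ J)) =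
      LinearMap.id)
    {Z : Type u} [AddCommGroup Z] [Module B Z]
    (hZ : ∀ b : B, Ideal.Quotient.mk J b ∈ Q → ∀ z : Z, b • z = 0)
    (f : (RingHom.ker (algebraMap B (B ⧸ J))).Cotangent →ₗ[B] Z) :
    ∃ f' : Ω[B⁄A] →ₗ[B] Z, ∀ x : RingHom.ker (algebraMap B (B ⧸ J)),
      f' (D A B (x : B)) = f (Ideal.toCotangent _ x) := by
  have h1 : Module.IsTorsionBySet B Z (J : Set B) := by
    intro z b
    refine hZ b.1 ?_ z
    rw [Ideal.Quotient.eq_zero_iff_mem.2 b.2]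
    exact Q.zero_mem
  letI m1 : Module (B ⧸ J) Z := h1.module
  haveI t1 : IsScalarTower B (B ⧸ J) Z := h1.isScalarTower
  have h2 : Module.IsTorsionBySet (B ⧸ J) Z (Q : Set (B ⧸ J)) := by
    intro z c
    obtain ⟨b, hb⟩ := Ideal.Quotient.mk_surjective c.1
    have h3 : (c : B ⧸ J) • z = b • z := by
      rw [← hb]
      exact h1.mk_smul b z
    rw [h3]
    exact hZ b (hb ▸ c.2) z
  letI m2 : Module ((B ⧸ J) ⧸ Q) Z := h2.module
  haveI t2 : IsScalarTower B ((B ⧸ J) ⧸ Q) Z := h2.isScalarTower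
  let ft : ((B ⧸ J) ⧸ Q) ⊗[B] (RingHom.ker (algebraMap B (B ⧸ J))).Cotangent →ₗ[(B ⧸ J) ⧸ Q] Z :=
    LinearMap.liftBaseChange ((B ⧸ J) ⧸ Q) f
  refine ⟨(ft.restrictScalars B) ∘ₗ (g.restrictScalars B) ∘ₗ
    (TensorProduct.mk B ((B ⧸ J) ⧸ Q) ((B ⧸ J) ⊗[B] Ω[B⁄A]) 1) ∘ₗ
    (TensorProduct.mk B (B ⧸ J) Ω[B⁄A] 1), fun x => ?_⟩
  have h4 : g ((1 : (B ⧸ J) ⧸ Q) ⊗ₜ[B] ((1 : B ⧸ J) ⊗ₜ[B] D A B (x : B))) =
      (1 : (B ⧸ J) ⧸ Q) ⊗ₜ[B] (Ideal.toCotangent _ x) := by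
    have h5 := LinearMap.congr_fun hg ((1 : (B ⧸ J) ⧸ Q) ⊗ₜ[B] (Ideal.toCotangent _ x))
    rw [LinearMap.comp_apply, LinearMap.baseChange_tmul, kerCotangentToTensor_toCotangent] at h5
    exact h5
  show ft (g ((1 : (B ⧸ J) ⧸ Q) ⊗ₜ[B] ((1 : B ⧸ J) ⊗ₜ[B] D A B (x : B)))) = _
  rw [h4]
  show LinearMap.liftBaseChange ((B ⧸ J) ⧸ Q) f _ = _
  rw [LinearMap.liftBaseChange_tmul, one_smul]

end ext

end Groth.Agent.Helper8.AdicFS
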