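import Mathlib
import Groth.Prelude.Def_CAlgX
import Groth.Agent.Lib.Helper8.AdicFS20

/-!
# The Jacobian criterion at a prime: necessity
-/

set_option autoImplicit false

namespace Groth.Agent.Helper8.Jac

open CAlgX IsLocalRing TensorProduct KaehlerDifferential

universe u

section nec

variable {A B C : Type u} [CommRing A] [CommRing B] [CommRing C] [Algebra A B] [Algebra B C]
  [Algebra A C] [IsScalarTower A B C]

/-- If `C_p` is formally smooth over `A` for the adic topology (`B` Noetherian, `B → C`
surjective), every linear map from the conormal module to `κ(p)` extends to a derivation. -/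
theorem exists_derivation_residueField [IsNoetherianRing B]
    (hsurj : Function.Surjective (algebraMap B C)) (p : Ideal C) [p.IsPrime]
    (h : IsAdicFormallySmooth A (Localization.AtPrime p) (maximalIdeal (Localization.AtPrime p)))
    (f : (RingHom.ker (algebraMap B C)).Cotangent →ₗ[B] p.ResidueField) :
    ∃ f' : Ω[B⁄A] →ₗ[B] p.ResidueField, ∀ x : RingHom.ker (algebraMap B C),
      f' (D A B (x : B)) = f (Ideal.toCotangent _ x) := by
  classical
  let p' : Ideal B := p.comap (algebraMap B C)
  haveI : p'.IsPrime := Ideal.comap_isPrime _ _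
  let π : Localization.AtPrime p' →+* Localization.AtPrime p :=
    Localization.localRingHom p' p (algebraMap B C) rfl
  have hπ : Function.Surjective π :=
    RingHom.surjective_localRingHom_of_surjective (algebraMap B C) hsurj p
  letI : Algebra (Localization.AtPrime p') (Localization.AtPrime p) := π.toAlgebra
  have hπalg : ∀ b : B, π (algebraMap B (Localization.AtPrime p') b) =
      algebraMap B (Localization.AtPrime p) b := by
    intro b
    show Localization.localRingHom p' p (algebraMap B C) rfl _ = _
    rw [Localization.localRingHom_to_map, ← IsScalarTower.algebraMap_apply]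
  haveI : IsScalarTower B (Localization.AtPrime p') (Localization.AtPrime p) :=
    IsScalarTower.of_algebraMap_eq (fun b => (hπalg b).symm)
  haveI : IsScalarTower A (Localization.AtPrime p') (Localization.AtPrime p) :=
    IsScalarTower.of_algebraMap_eq (fun a => by
      rw [IsScalarTower.algebraMap_apply A B (Localization.AtPrime p'),
        IsScalarTower.algebraMap_apply A B (Localization.AtPrime p)]
      exact (hπalg _).symm)
  haveI : IsNoetherianRing (Localization.AtPrime p') :=
    IsLocalization.isNoetherianRing p'.primeCompl _ inferInstance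
  haveI : IsLocalHom π := IsLocalHom.of_surjective π hπ
  have hker : RingHom.ker (algebraMap (Localization.AtPrime p') (Localization.AtPrime p)) ≤
      maximalIdeal (Localization.AtPrime p') :=
    IsLocalRing.le_maximalIdeal (RingHom.ker_ne_top π)
  have hmap : (maximalIdeal (Localization.AtPrime p')).map
      (algebraMap (Localization.AtPrime p') (Localization.AtPrime p)) =
      maximalIdeal (Localization.AtPrime p) :=
    map_maximalIdeal_of_surjective π hπ
  have hI' : RingHom.ker (algebraMap (Localization.AtPrime p') (Localization.AtPrime p)) =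
      (RingHom.ker (algebraMap B C)).map (algebraMap B (Localization.AtPrime p')) :=
    IsLocalization.ker_map (M := p'.primeCompl) (T := p.primeCompl) (Localization.AtPrime p)
      (algebraMap B C) (Submonoid.map_comap_eq_of_surjective hsurj p.primeCompl)
  -- the residue field as an algebra over the localization of `B`
  letI : Algebra (Localization.AtPrime p') p.ResidueField :=
    ((algebraMap (Localization.AtPrime p) p.ResidueField).comp π).toAlgebra
  haveI : IsScalarTower (Localization.AtPrime p') (Localization.AtPrime p) p.ResidueField :=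
    IsScalarTower.of_algebraMap_eq (fun _ => rfl)
  haveI : IsScalarTower B (Localization.AtPrime p') p.ResidueField :=
    IsScalarTower.of_algebraMap_eq (fun b => by
      rw [IsScalarTower.algebraMap_apply B (Localization.AtPrime p) p.ResidueField, ← hπalg]
      rfl)
  have h𝔐κ : ∀ m ∈ maximalIdeal (Localization.AtPrime p'),
      algebraMap (Localization.AtPrime p') p.ResidueField m = 0 := by
    intro m hm
    show algebraMap (Localization.AtPrime p) p.ResidueField (π m) = 0
    rw [IsLocalRing.ResidueField.algebraMap_eq, IsLocalRing.residue_eq_zero_iff, ← hmap]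
    exact Ideal.mem_map_of_mem _ hm
  obtain ⟨I', hI'def⟩ : ∃ I' : Ideal (Localization.AtPrime p'),
    I' = (RingHom.ker (algebraMap B C)).map (algebraMap B (Localization.AtPrime p')) := ⟨_, rfl⟩
  -- Artin–Rees
  obtain ⟨k, hk⟩ := Ideal.exists_pow_inf_eq_pow_smul (maximalIdeal (Localization.AtPrime p'))
    (I' : Submodule (Localization.AtPrime p') (Localization.AtPrime p'))
  have hAR : maximalIdeal (Localization.AtPrime p') ^ (k + 1) ⊓ I' ≤
      maximalIdeal (Localization.AtPrime p') * I' := by
    have h1 := hk (k + 1) (Nat.le_succ k)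
    rw [Nat.add_sub_cancel_left] at h1
    simp only [smul_eq_mul, Ideal.mul_top, pow_one] at h1
    rw [h1]
    exact Ideal.mul_mono_right inf_le_right
  have hex := Groth.Agent.Helper8.AdicFS.exists_kaehler_retraction (R := A)
    (maximalIdeal (Localization.AtPrime p')) (maximalIdeal (Localization.AtPrime p') ^ (k + 1))
    (k + 1) hπ hker (Ideal.map_pow _ _ _) (hmap ▸ h)
  rw [hI', ← hI'def] at hex
  obtain ⟨𝔟, h𝔟⟩ : ∃ 𝔟 : Ideal (Localization.AtPrime p'),
    𝔟 = maximalIdeal (Localization.AtPrime p') * I' ⊔
      maximalIdeal (Localization.AtPrime p') ^ (k + 1) := ⟨_, rfl⟩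
  rw [← h𝔟] at hex
  obtain ⟨Dt, hDt1, hDt2⟩ := hex
  -- the linear form on `I'`
  have hunits : ∀ s : p'.primeCompl,
      IsUnit (algebraMap B (Module.End B p.ResidueField) s) := by
    intro s
    rw [Module.End.isUnit_iff]
    have hs : algebraMap B p.ResidueField (s : B) ≠ 0 := by
      rw [IsScalarTower.algebraMap_apply B C p.ResidueField, Ne,
        Ideal.algebraMap_residueField_eq_zero]
      exact s.2
    have h1 : ∀ z : p.ResidueField, algebraMap B (Module.End B p.ResidueField) s z =
        algebraMap B p.ResidueField (s : B) * z := fun z => by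
      rw [Module.algebraMap_end_apply, Algebra.smul_def]
    refine ⟨fun a b hab => ?_, fun z => ⟨(algebraMap B p.ResidueField (s : B))⁻¹ * z, ?_⟩⟩
    · rw [h1, h1] at hab
      exact mul_left_cancel₀ hs hab
    · rw [h1, mul_inv_cancel_left₀ hs]
  let θ₁ : ((RingHom.ker (algebraMap B C)).map (algebraMap B (Localization.AtPrime p')) : Ideal _)
      →ₗ[B] p.ResidueField :=
    IsLocalizedModule.lift p'.primeCompl
      (Algebra.idealMap (Localization.AtPrime p') (RingHom.ker (algebraMap B C)))
      (f ∘ₗ (RingHom.ker (algebraMap B C)).toCotangent) hunits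
  have hθ₁ : ∀ x : RingHom.ker (algebraMap B C),
      θ₁ (Algebra.idealMap (Localization.AtPrime p') (RingHom.ker (algebraMap B C)) x) =
        f (Ideal.toCotangent _ x) := fun x =>
    IsLocalizedModule.lift_apply p'.primeCompl _ _ hunits x
  subst hI'def
  let θ₂ : ((RingHom.ker (algebraMap B C)).map (algebraMap B (Localization.AtPrime p')) : Ideal _)
      →ₗ[Localization.AtPrime p'] p.ResidueField :=
    θ₁.extendScalarsOfIsLocalization p'.primeCompl (Localization.AtPrime p')
  have hθ₂ : ∀ y, θ₂ y = θ₁ y := fun y => rfl
  have hθ₂0 : ∀ y ∈ maximalIdeal (Localization.AtPrime p') •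
      (⊤ : Submodule (Localization.AtPrime p')
        ((RingHom.ker (algebraMap B C)).map (algebraMap B (Localization.AtPrime p')) : Ideal _)),
      θ₂ y = 0 := by
    intro y hy
    refine Submodule.smul_induction_on hy ?_ ?_
    · intro m hm z _
      rw [map_smul, Algebra.smul_def, h𝔐κ m hm, zero_mul]
    · intro a b ha hb
      rw [map_add, ha, hb, add_zero]
  let ι : ((RingHom.ker (algebraMap B C)).map (algebraMap B (Localization.AtPrime p')) : Ideal _)
      →ₗ[Localization.AtPrime p'] (Localization.AtPrime p' ⧸ 𝔟) :=
    (Algebra.linearMap (Localization.AtPrime p') (Localization.AtPrime p' ⧸ 𝔟)) ∘ₗ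
      (Submodule.subtype _)
  have hι : ∀ y, ι y = Ideal.Quotient.mk 𝔟 (y : Localization.AtPrime p') := fun y => rfl
  have hkerι : LinearMap.ker ι ≤ LinearMap.ker θ₂ := by
    intro y hy
    rw [LinearMap.mem_ker, hι, Ideal.Quotient.eq_zero_iff_mem, h𝔟] at hy
    obtain ⟨a, ha, b, hb, hab⟩ := Submodule.mem_sup.1 hy
    have haI : a ∈ (RingHom.ker (algebraMap B C)).map
        (algebraMap B (Localization.AtPrime p')) := Ideal.mul_le_right ha
    have hbI : b ∈ (RingHom.ker (algebraMap B C)).map
        (algebraMap B (Localization.AtPrime p')) := by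
      have h1 : b = (y : Localization.AtPrime p') - a := by rw [← hab]; ring
      rw [h1]
      exact Ideal.sub_mem _ y.2 haI
    have h2 : (y : Localization.AtPrime p') ∈ maximalIdeal (Localization.AtPrime p') *
        (RingHom.ker (algebraMap B C)).map (algebraMap B (Localization.AtPrime p')) := by
      rw [← hab]
      exact Ideal.add_mem _ ha (hAR ⟨hb, hbI⟩)
    rw [LinearMap.mem_ker]
    refine hθ₂0 y ?_
    rw [Submodule.mem_smul_top_iff]
    exact h2
  let θ' : LinearMap.range ι →ₗ[Localization.AtPrime p'] p.ResidueField :=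
    ((LinearMap.ker ι).liftQ θ₂ hkerι) ∘ₗ (LinearMap.quotKerEquivRange ι).symm.toLinearMap
  have hθ' : ∀ y (hy : ι y ∈ LinearMap.range ι), θ' ⟨ι y, hy⟩ = θ₂ y := by
    intro y hy
    show (LinearMap.ker ι).liftQ θ₂ hkerι ((LinearMap.quotKerEquivRange ι).symm ⟨ι y, hy⟩) = θ₂ y
    rw [LinearMap.quotKerEquivRange_symm_apply_image]
    rfl
  have hDtrange : ∀ ω, Dt ω ∈ LinearMap.range ι := by
    intro ω
    obtain ⟨y, hy, hyω⟩ :=
      (Ideal.mem_map_iff_of_surjective _ Ideal.Quotient.mk_surjective).1 (hDt2 ω)
    exact ⟨⟨y, hy⟩, hyω⟩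
  let δP : Ω[Localization.AtPrime p'⁄A] →ₗ[Localization.AtPrime p'] p.ResidueField :=
    θ' ∘ₗ (Dt.codRestrict (LinearMap.range ι) hDtrange)
  have hδP : ∀ y : ((RingHom.ker (algebraMap B C)).map
      (algebraMap B (Localization.AtPrime p')) : Ideal _),
      δP (D A (Localization.AtPrime p') (y : Localization.AtPrime p')) = θ₂ y := by
    intro y
    have h1 : Dt.codRestrict (LinearMap.range ι) hDtrange
        (D A (Localization.AtPrime p') (y : Localization.AtPrime p')) =
        ⟨ι y, LinearMap.mem_range_self ι y⟩ := by
      apply Subtype.ext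
      show Dt (D A (Localization.AtPrime p') (y : Localization.AtPrime p')) = ι y
      rw [hDt1 _ y.2, hι]
    show θ' (Dt.codRestrict (LinearMap.range ι) hDtrange
      (D A (Localization.AtPrime p') (y : Localization.AtPrime p'))) = _
    rw [h1, hθ']
  refine ⟨(δP.restrictScalars B) ∘ₗ (KaehlerDifferential.map A A B (Localization.AtPrime p')),
    fun x => ?_⟩
  show δP (KaehlerDifferential.map A A B (Localization.AtPrime p') (D A B (x : B))) = _
  rw [KaehlerDifferential.map_D]
  have h3 := hδP (Algebra.idealMap (Localization.AtPrime p') (RingHom.ker (algebraMap B C)) x)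
  rw [hθ₂, hθ₁] at h3
  exact h3

/-- The Jacobian criterion, necessity: if `C_p` is formally smooth over `A` for the adic topology
(`B` Noetherian, `B → C` surjective), the conormal map is injective at `κ(p)`. -/
theorem injective_of_isAdicFormallySmooth [IsNoetherianRing B]
    (hsurj : Function.Surjective (algebraMap B C)) (p : Ideal C) [p.IsPrime]
    (h : IsAdicFormallySmooth A (Localization.AtPrime p)
      (maximalIdeal (Localization.AtPrime p))) :
    Function.Injective ((kerCotangentToTensor A B C).lTensor p.ResidueField) := by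
  rw [injective_iff_map_eq_zero]
  intro z hz
  rw [← Module.forall_dual_apply_eq_zero_iff p.ResidueField]
  intro l
  let f : (RingHom.ker (algebraMap B C)).Cotangent →ₗ[B] p.ResidueField :=
    (l.restrictScalars B) ∘ₗ
      (TensorProduct.mk B p.ResidueField (RingHom.ker (algebraMap B C)).Cotangent 1)
  have hf : ∀ m, f m = l ((1 : p.ResidueField) ⊗ₜ[B] m) := fun m => rfl
  obtain ⟨f', hf'⟩ := exists_derivation_residueField hsurj p h f
  let μ₁ : C ⊗[B] Ω[B⁄A] →ₗ[C] p.ResidueField := LinearMap.liftBaseChange C f'
  let μ : p.ResidueField ⊗[B] (C ⊗[B] Ω[B⁄A]) →ₗ[p.ResidueField] p.ResidueField :=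
    LinearMap.liftBaseChange p.ResidueField (μ₁.restrictScalars B)
  have key : ∀ w : p.ResidueField ⊗[B] (RingHom.ker (algebraMap B C)).Cotangent,
      μ (((kerCotangentToTensor A B C).lTensor p.ResidueField) w) = l w := by
    intro w
    induction w using TensorProduct.induction_on with
    | zero => simp only [map_zero]
    | add x y hx hy => simp only [map_add, hx, hy]
    | tmul c m =>
      obtain ⟨x, rfl⟩ := Ideal.toCotangent_surjective _ m
      rw [LinearMap.lTensor_tmul, kerCotangentToTensor_toCotangent]
      show LinearMap.liftBaseChange p.ResidueField (μ₁.restrictScalars B) _ = _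
      rw [LinearMap.liftBaseChange_tmul]
      show c • LinearMap.liftBaseChange C f' ((1 : C) ⊗ₜ[B] D A B (x : B)) = _
      rw [LinearMap.liftBaseChange_tmul, one_smul, hf', hf, ← map_smul,
        TensorProduct.smul_tmul', smul_eq_mul, mul_one]
  rw [← key, hz, map_zero]

end nec

end Groth.Agent.Helper8.Jac
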