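import Mathlib
import Groth.Agent.Lib.Helper8.CohenSm1

/-!
# Split injections into projective modules over a local ring
-/

set_option autoImplicit false

namespace Groth.Agent.Helper8.SplitLocal

open IsLocalRing TensorProduct

universe u

/-- Over a local ring, a linear map from a finite module to a projective module which is
injective modulo the maximal ideal has a left inverse. -/
theorem exists_leftInverse_of_lTensor_residueField_injective {R M N : Type*} [CommRing R]
    [IsLocalRing R] [AddCommGroup M] [Module R M] [AddCommGroup N] [Module R N]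
    [Module.Finite R M] [Module.Projective R N] (l : M →ₗ[R] N)
    (hl : Function.Injective (l.lTensor (ResidueField R))) :
    ∃ l' : N →ₗ[R] M, l' ∘ₗ l = LinearMap.id := by
  classical
  have hinj : Function.Injective (l.baseChange (ResidueField R)) := hl
  obtain ⟨ρb, hρb⟩ := (l.baseChange (ResidueField R)).exists_leftInverse_of_injective
    (LinearMap.ker_eq_bot.2 hinj)
  have hsurjM : Function.Surjective (TensorProduct.mk R (ResidueField R) M 1) :=
    TensorProduct.mk_surjective R M (ResidueField R) Ideal.Quotient.mk_surjective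
  obtain ⟨ρ, hρ⟩ := Module.projective_lifting_property
    (TensorProduct.mk R (ResidueField R) M 1)
    ((ρb.restrictScalars R) ∘ₗ (TensorProduct.mk R (ResidueField R) N 1)) hsurjM
  have hρ' : ∀ n : N, (1 : ResidueField R) ⊗ₜ[R] (ρ n) = ρb ((1 : ResidueField R) ⊗ₜ[R] n) :=
    fun n => LinearMap.congr_fun hρ n
  have he : ∀ m : M, ρ (l m) - m ∈ maximalIdeal R • (⊤ : Submodule R M) := by
    intro m
    rw [← Groth.Agent.Helper8.CohenSm.one_tmul_eq_zero_iff]
    show (1 : ResidueField R) ⊗ₜ[R] (ρ (l m) - m) = 0
    rw [TensorProduct.tmul_sub, hρ', sub_eq_zero]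
    have h1 := LinearMap.congr_fun hρb ((1 : ResidueField R) ⊗ₜ[R] m)
    rw [LinearMap.comp_apply, LinearMap.baseChange_tmul] at h1
    exact h1
  have hsurj : Function.Surjective (ρ ∘ₗ l) := by
    rw [← LinearMap.range_eq_top, eq_top_iff]
    refine Submodule.le_of_le_smul_of_le_jacobson_bot Module.Finite.fg_top
      (IsLocalRing.maximalIdeal_le_jacobson ⊥) ?_
    intro m _
    have h2 : m = (ρ ∘ₗ l) m - (ρ (l m) - m) := by
      rw [LinearMap.comp_apply]; abel
    rw [h2]
    exact Submodule.sub_mem _ (Submodule.mem_sup_left (LinearMap.mem_range_self _ m))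
      (Submodule.mem_sup_right (he m))
  have hinj' : Function.Injective (ρ ∘ₗ l) :=
    OrzechProperty.injective_of_surjective_endomorphism _ hsurj
  let e : M ≃ₗ[R] M := LinearEquiv.ofBijective (ρ ∘ₗ l) ⟨hinj', hsurj⟩
  refine ⟨e.symm.toLinearMap ∘ₗ ρ, ?_⟩
  ext m
  show e.symm (ρ (l m)) = m
  rw [LinearEquiv.symm_apply_eq]
  rfl

/-- Base-changed version: for a `B`-linear map `u : M₀ → N₀` with `M₀` finite, a local
`B`-algebra `R'` with `R' ⊗ N₀` projective, injectivity of `κ ⊗ u` (`κ` the residue field of
`R'`) gives a left inverse of `R' ⊗ u`. -/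
theorem exists_leftInverse_baseChange {B R' M₀ N₀ : Type*} [CommRing B] [CommRing R']
    [IsLocalRing R'] [Algebra B R'] [AddCommGroup M₀] [Module B M₀] [AddCommGroup N₀]
    [Module B N₀] [Module.Finite B M₀] [Module.Projective R' (R' ⊗[B] N₀)] (u : M₀ →ₗ[B] N₀)
    (hu : Function.Injective (u.lTensor (ResidueField R'))) :
    ∃ r : R' ⊗[B] N₀ →ₗ[R'] R' ⊗[B] M₀, r ∘ₗ u.baseChange R' = LinearMap.id := by
  apply exists_leftInverse_of_lTensor_residueField_injective
  have key : ∀ z : ResidueField R' ⊗[R'] (R' ⊗[B] M₀),
      AlgebraTensorModule.cancelBaseChange B R' (ResidueField R') (ResidueField R') N₀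
        (((u.baseChange R').lTensor (ResidueField R')) z) =
      (u.lTensor (ResidueField R'))
        (AlgebraTensorModule.cancelBaseChange B R' (ResidueField R') (ResidueField R') M₀ z) := by
    intro z
    induction z using TensorProduct.induction_on with
    | zero => simp only [map_zero]
    | add x y hx hy => simp only [map_add, hx, hy]
    | tmul a y =>
      induction y using TensorProduct.induction_on with
      | zero => simp only [TensorProduct.tmul_zero, map_zero]
      | add x y hx hy => simp only [TensorProduct.tmul_add, map_add, hx, hy]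
      | tmul r m =>
        rw [LinearMap.lTensor_tmul, LinearMap.baseChange_tmul,
          AlgebraTensorModule.cancelBaseChange_tmul, AlgebraTensorModule.cancelBaseChange_tmul,
          LinearMap.lTensor_tmul]
  intro z₁ z₂ h
  apply (AlgebraTensorModule.cancelBaseChange B R' (ResidueField R') (ResidueField R')
    M₀).injective
  apply hu
  rw [← key, ← key, h]

end Groth.Agent.Helper8.SplitLocal
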