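import Mathlib
import Groth.Prelude.Def_CAlgX
import Groth.Agent.Lib.Helper8.SplitLocal

/-!
# The Jacobian criterion at a prime of a quotient of a formally smooth Noetherian algebra
-/

set_option autoImplicit false

namespace Groth.Agent.Helper8.Jac

open IsLocalRing TensorProduct KaehlerDifferential

universe u

section proj

variable {A B C : Type u} [CommRing A] [CommRing B] [CommRing C] [Algebra A B] [Algebra B C]

/-- Projectivity of `R' ⊗_B (C ⊗_B Ω_{B/A})` for a `C`-algebra `R'`, when `B → C` is surjective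
and `Ω_{B/A}` is projective. -/
theorem projective_tensor_tensor_kaehler [Module.Projective B Ω[B⁄A]]
    (hsurj : Function.Surjective (algebraMap B C)) (R' : Type u) [CommRing R'] [Algebra C R']
    [Algebra B R'] [IsScalarTower B C R'] :
    Module.Projective R' (R' ⊗[B] (C ⊗[B] Ω[B⁄A])) := by
  haveI : TensorProduct.CompatibleSMul B C R' (C ⊗[B] Ω[B⁄A]) :=
    TensorProduct.CompatibleSMul.of_algebraMap_surjective _ _ hsurj
  exact Module.Projective.of_equiv
    (TensorProduct.equivOfCompatibleSMul B C R' R' (C ⊗[B] Ω[B⁄A]))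

end proj

section ext

variable {A B C : Type u} [CommRing A] [CommRing B] [CommRing C] [Algebra A B] [Algebra B C]

/-- From a left inverse of the base change to `R'` of the conormal map, extend linear maps from
the conormal module into `R'`-modules to the module of differentials. -/
theorem exists_extension_of_leftInverse (R' : Type u) [CommRing R'] [Algebra B R']
    (r : R' ⊗[B] (C ⊗[B] Ω[B⁄A]) →ₗ[R'] R' ⊗[B] (RingHom.ker (algebraMap B C)).Cotangent)
    (hr : r ∘ₗ (kerCotangentToTensor A B C).baseChange R' = LinearMap.id)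
    {Z : Type u} [AddCommGroup Z] [Module B Z] [Module R' Z] [IsScalarTower B R' Z]
    (f : (RingHom.ker (algebraMap B C)).Cotangent →ₗ[B] Z) :
    ∃ f' : Ω[B⁄A] →ₗ[B] Z, ∀ x : RingHom.ker (algebraMap B C),
      f' (D A B (x : B)) = f (Ideal.toCotangent _ x) := by
  let ft : R' ⊗[B] (RingHom.ker (algebraMap B C)).Cotangent →ₗ[R'] Z :=
    LinearMap.liftBaseChange R' f
  refine ⟨(ft.restrictScalars B) ∘ₗ (r.restrictScalars B) ∘ₗ
    (TensorProduct.mk B R' (C ⊗[B] Ω[B⁄A]) 1) ∘ₗ
    (TensorProduct.mk B C Ω[B⁄A] 1), fun x => ?_⟩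
  have h4 : r ((1 : R') ⊗ₜ[B] ((1 : C) ⊗ₜ[B] D A B (x : B))) =
      (1 : R') ⊗ₜ[B] (Ideal.toCotangent _ x) := by
    have h5 := LinearMap.congr_fun hr ((1 : R') ⊗ₜ[B] (Ideal.toCotangent _ x))
    rw [LinearMap.comp_apply, LinearMap.baseChange_tmul, kerCotangentToTensor_toCotangent] at h5
    exact h5
  show ft (r ((1 : R') ⊗ₜ[B] ((1 : C) ⊗ₜ[B] D A B (x : B)))) = _
  rw [h4]
  show LinearMap.liftBaseChange R' f _ = _
  rw [LinearMap.liftBaseChange_tmul, one_smul]

end ext

section fs

variable {A B C : Type u} [CommRing A] [CommRing B] [CommRing C] [Algebra A B] [Algebra B C]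
  [Algebra A C] [IsScalarTower A B C]

/-- If `B` is formally smooth over `A`, `B → C` is surjective, and linear maps from the conormal
module into `C_p`-modules extend to derivations, then `C_p` is formally smooth over `A`. -/
theorem formallySmooth_localization_of_extension [Algebra.FormallySmooth A B]
    (hsurj : Function.Surjective (algebraMap B C)) (p : Ideal C) [p.IsPrime]
    (hext : ∀ (Z : Type u) [AddCommGroup Z] [Module B Z] [Module (Localization.AtPrime p) Z]
      [IsScalarTower B (Localization.AtPrime p) Z]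
      (f : (RingHom.ker (algebraMap B C)).Cotangent →ₗ[B] Z),
      ∃ f' : Ω[B⁄A] →ₗ[B] Z, ∀ x : RingHom.ker (algebraMap B C),
        f' (D A B (x : B)) = f (Ideal.toCotangent _ x)) :
    Algebra.FormallySmooth A (Localization.AtPrime p) := by
  classical
  refine Algebra.FormallySmooth.of_comp_surjective (fun T _ _ 𝔍 h𝔍 ψ => ?_)
  have hsqmem : ∀ a ∈ 𝔍, ∀ b ∈ 𝔍, a * b = 0 := by
    intro a ha b hb
    have h1 : a * b ∈ 𝔍 ^ 2 := by rw [pow_two]; exact Ideal.mul_mem_mul ha hb
    rw [h𝔍] at h1
    exact h1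
  obtain ⟨φ₀, hφ₀⟩ := Algebra.FormallySmooth.comp_surjective A B 𝔍 h𝔍
    (ψ.comp (IsScalarTower.toAlgHom A B (Localization.AtPrime p)))
  have hφ₀mk : ∀ b : B, Ideal.Quotient.mk 𝔍 (φ₀ b) =
      ψ (algebraMap B (Localization.AtPrime p) b) := fun b => AlgHom.congr_fun hφ₀ b
  letI : Algebra B T := φ₀.toRingHom.toAlgebra
  haveI : IsScalarTower A B T := IsScalarTower.of_algebraMap_eq (fun a => (φ₀.commutes a).symm)
  have halg : ∀ b : B, algebraMap B T b = φ₀ b := fun b => rfl
  -- the module structure on `𝔍`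
  have htors : Module.IsTorsionBySet T 𝔍 (𝔍 : Set T) := by
    intro z a
    apply Subtype.ext
    show (a : T) * (z : T) = 0
    exact hsqmem _ a.2 _ z.2
  letI m1 : Module (T ⧸ 𝔍) 𝔍 := htors.module
  letI m2 : Module (Localization.AtPrime p) 𝔍 :=
    Module.compHom 𝔍 (ψ : Localization.AtPrime p →+* T ⧸ 𝔍)
  have hsmul : ∀ (r : Localization.AtPrime p) (z : 𝔍), r • z = ψ r • z := fun r z => rfl
  have hmksmul : ∀ (t : T) (z : 𝔍), Ideal.Quotient.mk 𝔍 t • z = t • z := fun t z => rfl
  haveI : IsScalarTower B (Localization.AtPrime p) 𝔍 := ⟨fun b r z => by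
    rw [hsmul, Algebra.smul_def, map_mul, ← hφ₀mk, mul_smul, hmksmul, hsmul]
    apply Subtype.ext
    show φ₀ b * ((ψ r • z : 𝔍) : T) = algebraMap B T b * ((ψ r • z : 𝔍) : T)
    rw [halg]⟩
  have hKmem : ∀ x : RingHom.ker (algebraMap B C), φ₀ (x : B) ∈ 𝔍 := by
    intro x
    rw [← Ideal.Quotient.eq_zero_iff_mem, hφ₀mk,
      IsScalarTower.algebraMap_apply B C (Localization.AtPrime p), RingHom.mem_ker.1 x.2,
      map_zero, map_zero]
  let f₀ : RingHom.ker (algebraMap B C) →ₗ[B] 𝔍 :=
    { toFun := fun x => ⟨φ₀ (x : B), hKmem x⟩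
      map_add' := fun x y => Subtype.ext (map_add _ _ _)
      map_smul' := fun b x => Subtype.ext (by
        show φ₀ (b * (x : B)) = algebraMap B T b * φ₀ (x : B)
        rw [map_mul, halg]) }
  have hf₀ : (RingHom.ker (algebraMap B C)) •
      (⊤ : Submodule B (RingHom.ker (algebraMap B C))) ≤ LinearMap.ker f₀ := by
    rw [Submodule.smul_le]
    intro a ha x _
    rw [LinearMap.mem_ker]
    apply Subtype.ext
    show φ₀ (a * (x : B)) = 0
    rw [map_mul]
    exact hsqmem _ (hKmem ⟨a, ha⟩) _ (hKmem x)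
  let f : (RingHom.ker (algebraMap B C)).Cotangent →ₗ[B] 𝔍 := Submodule.liftQ _ f₀ hf₀
  obtain ⟨f', hf'⟩ := hext 𝔍 f
  have hf'x : ∀ x : RingHom.ker (algebraMap B C), ((f' (D A B (x : B)) : 𝔍) : T) = φ₀ (x : B) := by
    intro x
    rw [hf' x]
    rfl
  let δ : Derivation A B 𝔍 := f'.compDer (D A B)
  have hδ : ∀ b : B, δ b = f' (D A B b) := fun b => rfl
  let φ₁ : B →ₐ[A] T := liftOfDerivationToSquareZero 𝔍 h𝔍 (-δ)
  have hφ₁ : ∀ b : B, φ₁ b = -((δ b : 𝔍) : T) + φ₀ b := fun b => rfl
  have hφ₁K : ∀ x ∈ RingHom.ker (algebraMap B C), φ₁ x = 0 := by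
    intro x hx
    rw [hφ₁, hδ, hf'x ⟨x, hx⟩, neg_add_cancel]
  have hφ₁mk : ∀ b : B, Ideal.Quotient.mk 𝔍 (φ₁ b) =
      ψ (algebraMap B (Localization.AtPrime p) b) := by
    intro b
    rw [hφ₁, map_add, map_neg, Ideal.Quotient.eq_zero_iff_mem.2 (δ b).2, neg_zero, zero_add,
      hφ₀mk]
  -- descend to `C`
  let φC : C →ₐ[A] T := AlgHom.liftOfSurjective (IsScalarTower.toAlgHom A B C) hsurj φ₁
    (fun x hx => hφ₁K x hx)
  have hφC : ∀ b : B, φC (algebraMap B C b) = φ₁ b := fun b =>
    AlgHom.liftOfSurjective_apply (IsScalarTower.toAlgHom A B C) hsurj φ₁ _ b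
  have hφCmk : ∀ c : C, Ideal.Quotient.mk 𝔍 (φC c) =
      ψ (algebraMap C (Localization.AtPrime p) c) := by
    intro c
    obtain ⟨b, rfl⟩ := hsurj c
    rw [hφC, hφ₁mk, ← IsScalarTower.algebraMap_apply]
  have hunit : ∀ s : p.primeCompl, IsUnit ((φC : C →+* T) s) := by
    intro s
    have h1 : IsUnit (Ideal.Quotient.mk 𝔍 (φC s)) := by
      rw [hφCmk]
      exact (IsLocalization.map_units (Localization.AtPrime p) s).map ψ
    exact (IsNilpotent.isUnit_quotient_mk_iff ⟨2, h𝔍⟩).1 h1
  let χ₀ : Localization.AtPrime p →+* T := IsLocalization.lift hunit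
  have hχ₀ : ∀ c : C, χ₀ (algebraMap C (Localization.AtPrime p) c) = φC c := fun c =>
    IsLocalization.lift_eq hunit c
  let χ : Localization.AtPrime p →ₐ[A] T :=
    { χ₀ with
      commutes' := fun a => by
        show χ₀ (algebraMap A (Localization.AtPrime p) a) = algebraMap A T a
        rw [IsScalarTower.algebraMap_apply A C (Localization.AtPrime p), hχ₀, φC.commutes] }
  refine ⟨χ, ?_⟩
  have h2 : ((Ideal.Quotient.mkₐ A 𝔍).comp χ : Localization.AtPrime p →+* T ⧸ 𝔍) =
      (ψ : Localization.AtPrime p →+* T ⧸ 𝔍) := by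
    refine IsLocalization.ringHom_ext p.primeCompl ?_
    ext c
    show Ideal.Quotient.mk 𝔍 (χ₀ (algebraMap C (Localization.AtPrime p) c)) =
      ψ (algebraMap C (Localization.AtPrime p) c)
    rw [hχ₀, hφCmk]
  exact AlgHom.ext (fun x => RingHom.congr_fun h2 x)

end fs

section conv

variable {A B C : Type u} [CommRing A] [CommRing B] [CommRing C] [Algebra A B] [Algebra B C]
  [Algebra A C] [IsScalarTower A B C]

/-- The Jacobian criterion, sufficiency: if `B` is Noetherian and formally smooth over `A`,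
`B → C` is surjective and the conormal map is injective at `κ(p)`, then `C_p` is formally smooth
over `A`. -/
theorem formallySmooth_localization_of_injective [IsNoetherianRing B] [Algebra.FormallySmooth A B]
    (hsurj : Function.Surjective (algebraMap B C)) (p : Ideal C) [p.IsPrime]
    (hinj : Function.Injective ((kerCotangentToTensor A B C).lTensor p.ResidueField)) :
    Algebra.FormallySmooth A (Localization.AtPrime p) := by
  haveI : Module.Finite B (RingHom.ker (algebraMap B C)).Cotangent :=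
    Module.Finite.of_surjective (Ideal.toCotangent _) (Ideal.toCotangent_surjective _)
  haveI := projective_tensor_tensor_kaehler (A := A) hsurj (Localization.AtPrime p)
  obtain ⟨r, hr⟩ := Groth.Agent.Helper8.SplitLocal.exists_leftInverse_baseChange
    (R' := Localization.AtPrime p) (kerCotangentToTensor A B C) hinj
  exact formallySmooth_localization_of_extension hsurj p
    (fun Z _ _ _ _ f => exists_extension_of_leftInverse (Localization.AtPrime p) r hr f)

end conv

end Groth.Agent.Helper8.Jac
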