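import Mathlib
import Groth.Agent.Lib.Helper8.SplitLocal

/-!
# Spreading out a local splitting

If `u : M → N` is a linear map from a finitely generated module to a projective module which is
injective after tensoring with the residue field at a prime `p`, then there are `f ∉ p` and
`r : N → M` with `r ∘ u = f • id`.
-/

set_option autoImplicit false

namespace Groth.Agent.Helper8.Spread

open TensorProduct

universe u

section denom

variable {R : Type*} [CommRing R] (S : Submonoid R) {M M' : Type*} [AddCommGroup M]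
  [AddCommGroup M'] [Module R M] [Module R M'] (φ : M →ₗ[R] M') [IsLocalizedModule S φ]

/-- Common denominators for a finite family of elements of a localized module. -/
theorem exists_common_denominator {ι : Type*} (T : Finset ι) (y : ι → M') :
    ∃ s : S, ∃ m : ι → M, ∀ n ∈ T, s • y n = φ (m n) := by
  classical
  induction T using Finset.induction_on with
  | empty => exact ⟨1, fun _ => 0, fun n hn => absurd hn (Finset.notMem_empty n)⟩
  | insert a T ha ih =>
    obtain ⟨s, m, hm⟩ := ih
    obtain ⟨⟨ma, sa⟩, hma⟩ := IsLocalizedModule.surj S φ (y a)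
    refine ⟨sa * s, fun n => if n = a then s • ma else sa • m n, fun n hn => ?_⟩
    rcases Finset.mem_insert.1 hn with rfl | hn'
    · show (sa * s) • y n = φ (if n = n then s • ma else sa • m n)
      rw [if_pos rfl, mul_comm, mul_smul]
      show s • (sa • y n) = _
      rw [hma]
      exact (map_smul φ (s : R) ma).symm
    · have hne : n ≠ a := fun h => ha (h ▸ hn')
      show (sa * s) • y n = φ (if n = a then s • ma else sa • m n)
      rw [if_neg hne, mul_smul]
      show sa • (s • y n) = _
      rw [hm n hn']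
      exact (map_smul φ (sa : R) (m n)).symm

/-- Common annihilating denominator for a finite family of equalities in a localized module. -/
theorem exists_common_eq {ι : Type*} (T : Finset ι) (a b : ι → M)
    (h : ∀ n ∈ T, φ (a n) = φ (b n)) :
    ∃ t : S, ∀ n ∈ T, t • a n = t • b n := by
  classical
  induction T using Finset.induction_on with
  | empty => exact ⟨1, fun n hn => absurd hn (Finset.notMem_empty n)⟩
  | insert c T hc ih =>
    obtain ⟨t, ht⟩ := ih (fun n hn => h n (Finset.mem_insert_of_mem hn))
    obtain ⟨tc, htc⟩ := IsLocalizedModule.exists_of_eq (S := S) (h c (Finset.mem_insert_self c T))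
    refine ⟨tc * t, fun n hn => ?_⟩
    rcases Finset.mem_insert.1 hn with rfl | hn'
    · rw [mul_comm, mul_smul, mul_smul]
      show t • (tc • a n) = t • (tc • b n)
      rw [htc]
    · rw [mul_smul, mul_smul]
      show tc • (t • a n) = tc • (t • b n)
      rw [ht n hn']

end denom

section main

variable {R : Type u} [CommRing R] (p : Ideal R) [p.IsPrime] {M N : Type u} [AddCommGroup M]
  [AddCommGroup N] [Module R M] [Module R N] [Module.Finite R M] [Module.Projective R N]

/-- Spreading out a retraction over the local ring at `p`. -/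
theorem exists_smul_retraction_of_leftInverse (u : M →ₗ[R] N)
    (rp : Localization.AtPrime p ⊗[R] N →ₗ[Localization.AtPrime p] Localization.AtPrime p ⊗[R] M)
    (hrp : rp ∘ₗ u.baseChange (Localization.AtPrime p) = LinearMap.id) :
    ∃ f : R, f ∉ p ∧ ∃ r : N →ₗ[R] M, r ∘ₗ u = f • LinearMap.id := by
  classical
  obtain ⟨i, hi⟩ := Module.projective_def'.1 (inferInstance : Module.Projective R N)
  have hπ : ∀ n : N, Finsupp.linearCombination R id (i n) = n := fun n => LinearMap.congr_fun hi n
  obtain ⟨G, hG⟩ := (Module.Finite.fg_top : (⊤ : Submodule R M).FG)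
  let ι₀ : Finset N := G.biUnion (fun x => (i (u x)).support)
  let φ : M →ₗ[R] Localization.AtPrime p ⊗[R] M := TensorProduct.mk R (Localization.AtPrime p) M 1
  have hφ : ∀ x : M, φ x = (1 : Localization.AtPrime p) ⊗ₜ[R] x := fun x => rfl
  obtain ⟨s, m, hm⟩ := exists_common_denominator p.primeCompl φ ι₀
    (fun n => rp ((1 : Localization.AtPrime p) ⊗ₜ[R] n))
  let r₀ : (N →₀ R) →ₗ[R] M := Finsupp.linearCombination R m
  have hrpx : ∀ x : M, rp ((1 : Localization.AtPrime p) ⊗ₜ[R] u x) =
      (1 : Localization.AtPrime p) ⊗ₜ[R] x := by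
    intro x
    have h5 := LinearMap.congr_fun hrp ((1 : Localization.AtPrime p) ⊗ₜ[R] x)
    rw [LinearMap.comp_apply, LinearMap.baseChange_tmul] at h5
    exact h5
  have key : ∀ x ∈ G, φ (r₀ (i (u x))) = φ ((s : R) • x) := by
    intro x hx
    have hsupp : (i (u x)).support ⊆ ι₀ :=
      Finset.subset_biUnion_of_mem (fun x => (i (u x)).support) hx
    have h1 : r₀ (i (u x)) = ∑ n ∈ (i (u x)).support, (i (u x)) n • m n := by
      show Finsupp.linearCombination R m (i (u x)) = _
      rw [Finsupp.linearCombination_apply, Finsupp.sum]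
    have h2 : u x = ∑ n ∈ (i (u x)).support, (i (u x)) n • n := by
      conv_lhs => rw [← hπ (u x)]
      rw [Finsupp.linearCombination_apply, Finsupp.sum]
      rfl
    rw [h1, map_sum]
    have h3 : ∀ n ∈ (i (u x)).support, φ ((i (u x)) n • m n) =
        (s : R) • rp ((1 : Localization.AtPrime p) ⊗ₜ[R] ((i (u x)) n • n)) := by
      intro n hn
      rw [map_smul, ← hm n (hsupp hn), TensorProduct.tmul_smul, LinearMap.map_smul_of_tower]
      show (i (u x)) n • ((s : R) • rp ((1 : Localization.AtPrime p) ⊗ₜ[R] n)) = _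
      rw [smul_comm]
    rw [Finset.sum_congr rfl h3, ← Finset.smul_sum, ← map_sum, ← TensorProduct.tmul_sum, ← h2,
      hrpx, map_smul]
    rfl
  obtain ⟨t, ht⟩ := exists_common_eq p.primeCompl φ G (fun x => r₀ (i (u x)))
    (fun x => (s : R) • x) key
  refine ⟨(t : R) * (s : R), (t * s).2, (t : R) • (r₀ ∘ₗ i), ?_⟩
  refine LinearMap.ext_on hG (fun x hx => ?_)
  show (t : R) • r₀ (i (u x)) = ((t : R) * (s : R)) • x
  rw [mul_smul]
  exact ht x hx

/-- Spreading out: injectivity at the residue field of `p` gives a retraction up to some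
`f ∉ p`. -/
theorem exists_smul_retraction (u : M →ₗ[R] N)
    (hu : Function.Injective (u.lTensor p.ResidueField)) :
    ∃ f : R, f ∉ p ∧ ∃ r : N →ₗ[R] M, r ∘ₗ u = f • LinearMap.id := by
  obtain ⟨rp, hrp⟩ := Groth.Agent.Helper8.SplitLocal.exists_leftInverse_baseChange
    (R' := Localization.AtPrime p) u hu
  exact exists_smul_retraction_of_leftInverse p u rp hrp

end main

section glob

variable {R : Type*} [CommRing R] {M N : Type*} [AddCommGroup M]
  [AddCommGroup N] [Module R M] [Module R N]

/-- The ideal of those `f` such that `f • id` factors through `u`. -/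
def retractionIdeal (u : M →ₗ[R] N) : Ideal R where
  carrier := {f | ∃ r : N →ₗ[R] M, r ∘ₗ u = f • LinearMap.id}
  add_mem' := by
    rintro a b ⟨ra, hra⟩ ⟨rb, hrb⟩
    exact ⟨ra + rb, by rw [LinearMap.add_comp, hra, hrb, add_smul]⟩
  zero_mem' := ⟨0, by rw [LinearMap.zero_comp, zero_smul]⟩
  smul_mem' := by
    rintro c a ⟨ra, hra⟩
    exact ⟨c • ra, by rw [LinearMap.smul_comp, hra, smul_eq_mul, mul_smul]⟩

theorem mem_retractionIdeal (u : M →ₗ[R] N) (f : R) :
    f ∈ retractionIdeal u ↔ ∃ r : N →ₗ[R] M, r ∘ₗ u = f • LinearMap.id := Iff.rfl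

/-- Local retractions up to a unit at each maximal ideal glue to a global retraction. -/
theorem exists_retraction_of_forall_maximal (u : M →ₗ[R] N)
    (h : ∀ (m : Ideal R) [m.IsMaximal], ∃ f : R, f ∉ m ∧
      ∃ r : N →ₗ[R] M, r ∘ₗ u = f • LinearMap.id) :
    ∃ r : N →ₗ[R] M, r ∘ₗ u = LinearMap.id := by
  have htop : retractionIdeal u = ⊤ := by
    by_contra hne
    obtain ⟨m, hm, hle⟩ := Ideal.exists_le_maximal _ hne
    obtain ⟨f, hf, r, hr⟩ := h m
    exact hf (hle ⟨r, hr⟩)
  have h1 : (1 : R) ∈ retractionIdeal u := by rw [htop]; exact Submodule.mem_top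
  obtain ⟨r, hr⟩ := h1
  exact ⟨r, by rw [hr, one_smul]⟩

end glob

end Groth.Agent.Helper8.Spread
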