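import Mathlib
import Groth.Prelude.Def_CAlgX
import Groth.Agent.Lib.Helper8.Jac1
import Groth.Agent.Lib.Helper8.Spread1

/-!
# The Jacobian criterion: spreading out and globalising
-/

set_option autoImplicit false

namespace Groth.Agent.Helper8.Jac

open IsLocalRing TensorProduct KaehlerDifferential

universe u

section transport

variable {B C : Type*} [CommRing B] [CommRing C] [Algebra B C]
  (κ : Type*) [CommRing κ] [Algebra C κ] [Algebra B κ] [IsScalarTower B C κ]
  {M₀ N₀ : Type*} [AddCommGroup M₀] [Module B M₀] [AddCommGroup N₀] [Module B N₀] [Module C N₀]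
  [IsScalarTower B C N₀]

/-- Injectivity after tensoring with `κ` passes from a `B`-linear map to its `C`-linear
extension, when `B → C` is surjective. -/
theorem injective_lTensor_liftBaseChange (hsurj : Function.Surjective (algebraMap B C))
    (u : M₀ →ₗ[B] N₀) (hu : Function.Injective (u.lTensor κ)) :
    Function.Injective ((LinearMap.liftBaseChange C u).lTensor κ) := by
  haveI : TensorProduct.CompatibleSMul B C κ N₀ :=
    TensorProduct.CompatibleSMul.of_algebraMap_surjective _ _ hsurj
  let e₁ : κ ⊗[C] (C ⊗[B] M₀) ≃ₗ[κ] κ ⊗[B] M₀ :=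
    TensorProduct.AlgebraTensorModule.cancelBaseChange B C κ κ M₀
  let e₂ : κ ⊗[C] N₀ ≃ₗ[κ] κ ⊗[B] N₀ := TensorProduct.equivOfCompatibleSMul B C κ κ N₀
  have hcomm : ∀ z : κ ⊗[C] (C ⊗[B] M₀),
      e₂ ((LinearMap.liftBaseChange C u).lTensor κ z) = u.lTensor κ (e₁ z) := by
    intro z
    induction z using TensorProduct.induction_on with
    | zero => simp only [map_zero]
    | add a b ha hb => simp only [map_add, ha, hb]
    | tmul x w =>
      induction w using TensorProduct.induction_on with
      | zero => simp only [TensorProduct.tmul_zero, map_zero]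
      | add a b ha hb => simp only [TensorProduct.tmul_add, map_add, ha, hb]
      | tmul c m =>
        rw [LinearMap.lTensor_tmul, LinearMap.liftBaseChange_tmul]
        show x ⊗ₜ[B] (c • u m) = u.lTensor κ ((c • x) ⊗ₜ[B] m)
        rw [LinearMap.lTensor_tmul, TensorProduct.smul_tmul]
  intro a b hab
  apply e₁.injective
  apply hu
  rw [← hcomm, ← hcomm, hab]

end transport

section fs

variable {A B C : Type u} [CommRing A] [CommRing B] [CommRing C] [Algebra A B] [Algebra B C]
  [Algebra A C] [IsScalarTower A B C]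

/-- If `B` is formally smooth over `A`, `B → C` is surjective, `L` is a localization of `C` and
linear maps from the conormal module into `L`-modules extend to derivations, then `L` is formally
smooth over `A`. -/
theorem formallySmooth_of_isLocalization_of_extension [Algebra.FormallySmooth A B]
    (hsurj : Function.Surjective (algebraMap B C)) (Mon : Submonoid C) (L : Type u) [CommRing L]
    [Algebra C L] [Algebra B L] [Algebra A L] [IsScalarTower A B L] [IsScalarTower B C L]
    [IsScalarTower A C L] [IsLocalization Mon L]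
    (hext : ∀ (Z : Type u) [AddCommGroup Z] [Module B Z] [Module L Z]
      [IsScalarTower B L Z]
      (f : (RingHom.ker (algebraMap B C)).Cotangent →ₗ[B] Z),
      ∃ f' : Ω[B⁄A] →ₗ[B] Z, ∀ x : RingHom.ker (algebraMap B C),
        f' (D A B (x : B)) = f (Ideal.toCotangent _ x)) :
    Algebra.FormallySmooth A L := by
  classical
  refine Algebra.FormallySmooth.of_comp_surjective (fun T _ _ 𝔍 h𝔍 ψ => ?_)
  have hsqmem : ∀ a ∈ 𝔍, ∀ b ∈ 𝔍, a * b = 0 := by
    intro a ha b hb
    have h1 : a * b ∈ 𝔍 ^ 2 := by rw [pow_two]; exact Ideal.mul_mem_mul ha hb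
    rw [h𝔍] at h1
    exact h1
  obtain ⟨φ₀, hφ₀⟩ := Algebra.FormallySmooth.comp_surjective A B 𝔍 h𝔍
    (ψ.comp (IsScalarTower.toAlgHom A B L))
  have hφ₀mk : ∀ b : B, Ideal.Quotient.mk 𝔍 (φ₀ b) =
      ψ (algebraMap B L b) := fun b => AlgHom.congr_fun hφ₀ b
  letI : Algebra B T := φ₀.toRingHom.toAlgebra
  haveI : IsScalarTower A B T := IsScalarTower.of_algebraMap_eq (fun a => (φ₀.commutes a).symm)
  have halg : ∀ b : B, algebraMap B T b = φ₀ b := fun b => rfl
  -- the module structure on `𝔍`
  have htors : Module.IsTorsionBySet T 𝔍 (𝔍 : Set T) := by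
    intro z a
    apply Subtype.ext
    show (a : T) * (z : T) = 0
    exact hsqmem _ a.2 _ z.2
  letI m1 : Module (T ⧸ 𝔍) 𝔍 := htors.module
  letI m2 : Module L 𝔍 :=
    Module.compHom 𝔍 (ψ : L →+* T ⧸ 𝔍)
  have hsmul : ∀ (r : L) (z : 𝔍), r • z = ψ r • z := fun r z => rfl
  have hmksmul : ∀ (t : T) (z : 𝔍), Ideal.Quotient.mk 𝔍 t • z = t • z := fun t z => rfl
  haveI : IsScalarTower B L 𝔍 := ⟨fun b r z => by
    rw [hsmul, Algebra.smul_def, map_mul, ← hφ₀mk, mul_smul, hmksmul, hsmul]
    apply Subtype.ext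
    show φ₀ b * ((ψ r • z : 𝔍) : T) = algebraMap B T b * ((ψ r • z : 𝔍) : T)
    rw [halg]⟩
  have hKmem : ∀ x : RingHom.ker (algebraMap B C), φ₀ (x : B) ∈ 𝔍 := by
    intro x
    rw [← Ideal.Quotient.eq_zero_iff_mem, hφ₀mk,
      IsScalarTower.algebraMap_apply B C L, RingHom.mem_ker.1 x.2,
      map_zero, map_zero]
  let f₀ : RingHom.ker (algebraMap B C) →ₗ[B] 𝔍 :=
    { toFun := fun x => ⟨φ₀ (x : B), hKmem x⟩
      map_add' := fun x y => Subtype.ext (map_add _ _ _)
      map_smul' := fun b x => Subtype.ext (by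
        show φ₀ (b * (x : B)) = algebraMap B T b * φ₀ (x : B)
        rw [map_mul, halg]) }
  have hf₀ : (RingHom.ker (algebraMap B C)) •
      (⊤ : Submodule B (RingHom.ker (algebraMap B C))) ≤ LinearMap.ker f₀ := by
    rw [Submodule.smul_le]
    intro a ha x _
    rw [LinearMap.mem_ker]
    apply Subtype.ext
    show φ₀ (a * (x : B)) = 0
    rw [map_mul]
    exact hsqmem _ (hKmem ⟨a, ha⟩) _ (hKmem x)
  let f : (RingHom.ker (algebraMap B C)).Cotangent →ₗ[B] 𝔍 := Submodule.liftQ _ f₀ hf₀
  obtain ⟨f', hf'⟩ := hext 𝔍 f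
  have hf'x : ∀ x : RingHom.ker (algebraMap B C), ((f' (D A B (x : B)) : 𝔍) : T) = φ₀ (x : B) := by
    intro x
    rw [hf' x]
    rfl
  let δ : Derivation A B 𝔍 := f'.compDer (D A B)
  have hδ : ∀ b : B, δ b = f' (D A B b) := fun b => rfl
  let φ₁ : B →ₐ[A] T := liftOfDerivationToSquareZero 𝔍 h𝔍 (-δ)
  have hφ₁ : ∀ b : B, φ₁ b = -((δ b : 𝔍) : T) + φ₀ b := fun b => rfl
  have hφ₁K : ∀ x ∈ RingHom.ker (algebraMap B C), φ₁ x = 0 := by
    intro x hx
    rw [hφ₁, hδ, hf'x ⟨x, hx⟩, neg_add_cancel]
  have hφ₁mk : ∀ b : B, Ideal.Quotient.mk 𝔍 (φ₁ b) =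
      ψ (algebraMap B L b) := by
    intro b
    rw [hφ₁, map_add, map_neg, Ideal.Quotient.eq_zero_iff_mem.2 (δ b).2, neg_zero, zero_add,
      hφ₀mk]
  -- descend to `C`
  let φC : C →ₐ[A] T := AlgHom.liftOfSurjective (IsScalarTower.toAlgHom A B C) hsurj φ₁
    (fun x hx => hφ₁K x hx)
  have hφC : ∀ b : B, φC (algebraMap B C b) = φ₁ b := fun b =>
    AlgHom.liftOfSurjective_apply (IsScalarTower.toAlgHom A B C) hsurj φ₁ _ b
  have hφCmk : ∀ c : C, Ideal.Quotient.mk 𝔍 (φC c) =
      ψ (algebraMap C L c) := by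
    intro c
    obtain ⟨b, rfl⟩ := hsurj c
    rw [hφC, hφ₁mk, ← IsScalarTower.algebraMap_apply]
  have hunit : ∀ s : Mon, IsUnit ((φC : C →+* T) s) := by
    intro s
    have h1 : IsUnit (Ideal.Quotient.mk 𝔍 (φC s)) := by
      rw [hφCmk]
      exact (IsLocalization.map_units L s).map ψ
    exact (IsNilpotent.isUnit_quotient_mk_iff ⟨2, h𝔍⟩).1 h1
  let χ₀ : L →+* T := IsLocalization.lift hunit
  have hχ₀ : ∀ c : C, χ₀ (algebraMap C L c) = φC c := fun c =>
    IsLocalization.lift_eq hunit c
  let χ : L →ₐ[A] T :=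
    { χ₀ with
      commutes' := fun a => by
        show χ₀ (algebraMap A L a) = algebraMap A T a
        rw [IsScalarTower.algebraMap_apply A C L, hχ₀, φC.commutes] }
  refine ⟨χ, ?_⟩
  have h2 : ((Ideal.Quotient.mkₐ A 𝔍).comp χ : L →+* T ⧸ 𝔍) =
      (ψ : L →+* T ⧸ 𝔍) := by
    refine IsLocalization.ringHom_ext Mon ?_
    ext c
    show Ideal.Quotient.mk 𝔍 (χ₀ (algebraMap C L c)) =
      ψ (algebraMap C L c)
    rw [hχ₀, hφCmk]
  exact AlgHom.ext (fun x => RingHom.congr_fun h2 x)

end fs

section ext2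

variable {A B C : Type u} [CommRing A] [CommRing B] [CommRing C] [Algebra A B] [Algebra B C]

/-- From a retraction up to `f` of the `C`-linear conormal map, where `f` becomes a unit in `L`,
extend linear maps from the conormal module into `L`-modules to the module of differentials. -/
theorem exists_extension_of_smul_retraction (L : Type u) [CommRing L] [Algebra C L] [Algebra B L]
    [IsScalarTower B C L] (f : C) (hf : IsUnit (algebraMap C L f))
    (r : C ⊗[B] Ω[B⁄A] →ₗ[C] C ⊗[B] (RingHom.ker (algebraMap B C)).Cotangent)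
    (hr : r ∘ₗ LinearMap.liftBaseChange C (kerCotangentToTensor A B C) = f • LinearMap.id)
    {Z : Type u} [AddCommGroup Z] [Module B Z] [Module L Z] [IsScalarTower B L Z]
    (g : (RingHom.ker (algebraMap B C)).Cotangent →ₗ[B] Z) :
    ∃ g' : Ω[B⁄A] →ₗ[B] Z, ∀ x : RingHom.ker (algebraMap B C),
      g' (D A B (x : B)) = g (Ideal.toCotangent _ x) := by
  letI : Module C Z := Module.compHom Z (algebraMap C L)
  have hCsmul : ∀ (c : C) (z : Z), c • z = algebraMap C L c • z := fun _ _ => rfl
  haveI : IsScalarTower B C Z := ⟨fun b c z => by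
    rw [hCsmul, hCsmul, Algebra.smul_def, map_mul, ← IsScalarTower.algebraMap_apply, mul_smul,
      algebraMap_smul]⟩
  let G : C ⊗[B] (RingHom.ker (algebraMap B C)).Cotangent →ₗ[C] Z := LinearMap.liftBaseChange C g
  obtain ⟨finv, hfinv⟩ := hf.exists_left_inv
  let g'' : Ω[B⁄A] →ₗ[B] Z :=
    (G.restrictScalars B) ∘ₗ (r.restrictScalars B) ∘ₗ (TensorProduct.mk B C Ω[B⁄A] 1)
  have hg'' : ∀ ω : Ω[B⁄A], g'' ω = G (r ((1 : C) ⊗ₜ[B] ω)) := fun ω => rfl
  refine ⟨{ toFun := fun ω => finv • g'' ω
            map_add' := fun a b => by rw [map_add, smul_add]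
            map_smul' := fun b ω => by
              rw [map_smul, RingHom.id_apply, smul_comm] }, fun x => ?_⟩
  show finv • g'' (D A B (x : B)) = _
  have h4 : r ((1 : C) ⊗ₜ[B] D A B (x : B)) =
      f • ((1 : C) ⊗ₜ[B] (Ideal.toCotangent _ x)) := by
    have h5 := LinearMap.congr_fun hr ((1 : C) ⊗ₜ[B] (Ideal.toCotangent _ x))
    rw [LinearMap.comp_apply, LinearMap.liftBaseChange_tmul, one_smul,
      kerCotangentToTensor_toCotangent] at h5
    exact h5
  rw [hg'', h4, map_smul]
  show finv • f • LinearMap.liftBaseChange C g ((1 : C) ⊗ₜ[B] (Ideal.toCotangent _ x)) = _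
  rw [LinearMap.liftBaseChange_tmul, one_smul, hCsmul, ← mul_smul, hfinv, one_smul]

end ext2

section conv2

variable {A B C : Type u} [CommRing A] [CommRing B] [CommRing C] [Algebra A B] [Algebra B C]
  [Algebra A C] [IsScalarTower A B C]

omit [Algebra A C] [IsScalarTower A B C] in
/-- Injectivity of the conormal map at `κ(p)` gives a retraction of the conormal map up to some
`f ∉ p`. -/
theorem exists_smul_retraction_conormal [IsNoetherianRing B] [Algebra.FormallySmooth A B]
    (hsurj : Function.Surjective (algebraMap B C)) (p : Ideal C) [p.IsPrime]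
    (hinj : Function.Injective ((kerCotangentToTensor A B C).lTensor p.ResidueField)) :
    ∃ f : C, f ∉ p ∧
      ∃ r : C ⊗[B] Ω[B⁄A] →ₗ[C] C ⊗[B] (RingHom.ker (algebraMap B C)).Cotangent,
        r ∘ₗ LinearMap.liftBaseChange C (kerCotangentToTensor A B C) = f • LinearMap.id := by
  haveI : Module.Finite B (RingHom.ker (algebraMap B C)).Cotangent :=
    Module.Finite.of_surjective (Ideal.toCotangent _) (Ideal.toCotangent_surjective _)
  exact Groth.Agent.Helper8.Spread.exists_smul_retraction p _
    (injective_lTensor_liftBaseChange p.ResidueField hsurj _ hinj)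

/-- The Jacobian criterion, spread out: if the conormal map is injective at `κ(p)`, then `C_f` is
formally smooth over `A` for some `f ∉ p`. -/
theorem formallySmooth_away_of_injective [IsNoetherianRing B] [Algebra.FormallySmooth A B]
    (hsurj : Function.Surjective (algebraMap B C)) (p : Ideal C) [p.IsPrime]
    (hinj : Function.Injective ((kerCotangentToTensor A B C).lTensor p.ResidueField)) :
    ∃ f : C, f ∉ p ∧ Algebra.FormallySmooth A (Localization.Away f) := by
  obtain ⟨f, hf, r, hr⟩ := exists_smul_retraction_conormal hsurj p hinj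
  refine ⟨f, hf, ?_⟩
  exact formallySmooth_of_isLocalization_of_extension hsurj (Submonoid.powers f)
    (Localization.Away f)
    (fun Z _ _ _ _ g => exists_extension_of_smul_retraction (Localization.Away f) f
      (IsLocalization.Away.algebraMap_isUnit f) r hr g)

/-- The Jacobian criterion, global form: if the conormal map is injective at `κ(m)` for all
maximal ideals `m`, then `C` is formally smooth over `A`. -/
theorem formallySmooth_of_forall_maximal_injective [IsNoetherianRing B]
    [Algebra.FormallySmooth A B]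
    (hsurj : Function.Surjective (algebraMap B C))
    (hinj : ∀ (m : Ideal C) [m.IsMaximal],
      Function.Injective ((kerCotangentToTensor A B C).lTensor m.ResidueField)) :
    Algebra.FormallySmooth A C := by
  obtain ⟨r, hr⟩ := Groth.Agent.Helper8.Spread.exists_retraction_of_forall_maximal
    (LinearMap.liftBaseChange C (kerCotangentToTensor A B C))
    (fun m _ => exists_smul_retraction_conormal hsurj m (hinj m))
  haveI : IsLocalization (⊥ : Submonoid C) C := IsLocalization.self (by
    intro x hx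
    rw [Submonoid.mem_bot] at hx
    rw [hx]
    exact isUnit_one)
  exact formallySmooth_of_isLocalization_of_extension hsurj (⊥ : Submonoid C) C
    (fun Z _ _ _ _ g => exists_extension_of_smul_retraction C (1 : C)
      (by rw [map_one]; exact isUnit_one) r (by rw [hr, one_smul]) g)

end conv2

end Groth.Agent.Helper8.Jac
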