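import Mathlib
import Groth.Prelude.Def_CAlgX
import Groth.Agent.Lib.Helper8.Jac2
import Groth.Agent.Lib.Helper8.Jac3
import Groth.Agent.Lib.Helper8.AdicFS7

/-!
# Formal smoothness of localizations of quotients of formally smooth Noetherian algebras
-/

set_option autoImplicit false

namespace Groth.Agent.Helper8.Jac

open CAlgX IsLocalRing TensorProduct KaehlerDifferential

universe u

section loc

variable {A C : Type*} [CommRing A] [CommRing C] [Algebra A C]

/-- Formal smoothness of `C_f`, `f ∉ p`, implies formal smoothness of `C_p`. -/
theorem formallySmooth_atPrime_of_away (p : Ideal C) [p.IsPrime] (f : C) (hf : f ∉ p)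
    (h : Algebra.FormallySmooth A (Localization.Away f)) :
    Algebra.FormallySmooth A (Localization.AtPrime p) := by
  have hu : IsUnit (algebraMap C (Localization.AtPrime p) f) :=
    IsLocalization.map_units _ (⟨f, hf⟩ : p.primeCompl)
  letI : Algebra (Localization.Away f) (Localization.AtPrime p) :=
    (IsLocalization.Away.lift f hu).toAlgebra
  haveI : IsScalarTower C (Localization.Away f) (Localization.AtPrime p) :=
    IsScalarTower.of_algebraMap_eq (fun c => (IsLocalization.Away.lift_eq f hu c).symm)
  haveI : IsScalarTower A (Localization.Away f) (Localization.AtPrime p) :=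
    IsScalarTower.of_algebraMap_eq (fun a => by
      rw [IsScalarTower.algebraMap_apply A C (Localization.AtPrime p),
        IsScalarTower.algebraMap_apply A C (Localization.Away f),
        ← IsScalarTower.algebraMap_apply C])
  have hle : Submonoid.powers f ≤ p.primeCompl := (Submonoid.powers_le).2 hf
  haveI : IsLocalization (p.primeCompl.map (algebraMap C (Localization.Away f)))
      (Localization.AtPrime p) :=
    IsLocalization.isLocalization_of_submonoid_le _ _ (Submonoid.powers f) p.primeCompl hle
  haveI : Algebra.FormallySmooth (Localization.Away f) (Localization.AtPrime p) :=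
    Algebra.FormallySmooth.of_isLocalization
      (p.primeCompl.map (algebraMap C (Localization.Away f)))
  exact Algebra.FormallySmooth.comp A (Localization.Away f) (Localization.AtPrime p)

/-- Formal smoothness passes to localizations at primes. -/
theorem formallySmooth_atPrime (p : Ideal C) [p.IsPrime] [Algebra.FormallySmooth A C] :
    Algebra.FormallySmooth A (Localization.AtPrime p) := by
  haveI : Algebra.FormallySmooth C (Localization.AtPrime p) :=
    Algebra.FormallySmooth.of_isLocalization p.primeCompl
  exact Algebra.FormallySmooth.comp A C (Localization.AtPrime p)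

end loc

section main

variable {A B C : Type u} [CommRing A] [CommRing B] [CommRing C] [Algebra A B] [Algebra B C]
  [Algebra A C] [IsScalarTower A B C] [IsNoetherianRing B] [Algebra.FormallySmooth A B]

/-- Adic formal smoothness of `C_p` spreads out to formal smoothness of some `C_f`. -/
theorem exists_formallySmooth_away_of_isAdicFormallySmooth
    (hsurj : Function.Surjective (algebraMap B C)) (p : Ideal C) [p.IsPrime]
    (h : IsAdicFormallySmooth A (Localization.AtPrime p)
      (maximalIdeal (Localization.AtPrime p))) :
    ∃ f : C, f ∉ p ∧ Algebra.FormallySmooth A (Localization.Away f) :=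
  formallySmooth_away_of_injective hsurj p (injective_of_isAdicFormallySmooth hsurj p h)

/-- Adic formal smoothness of `C_p` implies discrete formal smoothness. -/
theorem formallySmooth_atPrime_of_isAdicFormallySmooth
    (hsurj : Function.Surjective (algebraMap B C)) (p : Ideal C) [p.IsPrime]
    (h : IsAdicFormallySmooth A (Localization.AtPrime p)
      (maximalIdeal (Localization.AtPrime p))) :
    Algebra.FormallySmooth A (Localization.AtPrime p) :=
  formallySmooth_localization_of_injective hsurj p (injective_of_isAdicFormallySmooth hsurj p h)

/-- The local formal smoothness conditions for a quotient of a formally smooth Noetherian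
algebra are equivalent. -/
theorem tfae_local (hsurj : Function.Surjective (algebraMap B C)) (p : Ideal C) [p.IsPrime] :
    [Algebra.FormallySmooth A (Localization.AtPrime p),
     IsAdicFormallySmooth A (Localization.AtPrime p) (maximalIdeal (Localization.AtPrime p)),
     ∃ f : C, f ∉ p ∧ Algebra.FormallySmooth A (Localization.Away f)].TFAE := by
  tfae_have 1 → 2 := fun h => by
    haveI := h
    exact Groth.Agent.Helper8.AdicFS.of_formallySmooth _
  tfae_have 2 → 3 := fun h => exists_formallySmooth_away_of_isAdicFormallySmooth hsurj p h
  tfae_have 3 → 1 := fun ⟨f, hf, h⟩ => formallySmooth_atPrime_of_away p f hf h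
  tfae_finish

/-- Local-to-global: formal smoothness of all local rings at maximal ideals implies formal
smoothness. -/
theorem formallySmooth_of_forall_maximal (hsurj : Function.Surjective (algebraMap B C))
    (h : ∀ (m : Ideal C) [m.IsMaximal], Algebra.FormallySmooth A (Localization.AtPrime m)) :
    Algebra.FormallySmooth A C :=
  formallySmooth_of_forall_maximal_injective hsurj (fun m hm => by
    haveI := hm
    haveI : m.IsPrime := hm.isPrime
    haveI := h m
    exact injective_of_isAdicFormallySmooth hsurj m
      (Groth.Agent.Helper8.AdicFS.of_formallySmooth _))

end main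

end Groth.Agent.Helper8.Jac
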