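import Groth.Agent.Lib.Helper8.TC1
import Groth.Agent.Lib.Helper8.Depth9

set_option autoImplicit false
universe u

namespace Groth.Agent.Helper8.TC

open LocCoh IsLocalRing RingTheory.Sequence Groth.Agent.Helper8.Depth

/-- the quotient by an ideal whose radical is the maximal ideal has dimension zero. -/
lemma ringKrullDim_quotient_eq_zero_of_radical {R : Type u} [CommRing R] [IsLocalRing R]
    (I : Ideal R) (hI : I.radical = maximalIdeal R) : ringKrullDim (R ⧸ I) = 0 := by
  rw [ringKrullDim_quotient]
  have h1 : PrimeSpectrum.zeroLocus (I : Set R) = {closedPoint R} := by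
    rw [← PrimeSpectrum.zeroLocus_radical, hI]
    ext P
    rw [PrimeSpectrum.mem_zeroLocus, Set.mem_singleton_iff]
    constructor
    · intro h
      apply PrimeSpectrum.ext
      exact ((IsLocalRing.maximalIdeal.isMaximal R).eq_of_le P.isPrime.ne_top h).symm
    · rintro rfl
      exact le_refl _
  rw [h1]
  exact Order.krullDim_eq_zero_of_unique


section CM

variable {R : Type u} [CommRing R] [IsCohenMacaulayLocalRing R]

/-- a system of parameters of a Cohen--Macaulay local ring, given as a list, is a regular
sequence. -/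
theorem isWeaklyRegular_of_sop (n : ℕ) (hdim : ringKrullDim R = n) (xs : List R)
    (hlen : xs.length = n) (hrad : (Ideal.ofList xs).radical = maximalIdeal R) :
    IsWeaklyRegular R xs := by
  have hxs : ∀ x ∈ xs, x ∈ maximalIdeal R := by
    intro x hx
    rw [← hrad]
    exact Ideal.le_radical (Ideal.subset_span hx)
  have hCM : IsCohenMacaulayModule R R := IsCohenMacaulayLocalRing.supportDim_eq_depth
  refine ((cm_list xs hxs R hCM).1).mpr ?_
  have h1 : (Ideal.ofList xs • (⊤ : Submodule R R)) = (Ideal.ofList xs : Submodule R R) := by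
    rw [smul_eq_mul, Ideal.mul_top]
  rw [Module.supportDim_eq_of_equiv (Submodule.quotEquivOfEq _ _ h1),
    Module.supportDim_quotient_eq_ringKrullDim,
    ringKrullDim_quotient_eq_zero_of_radical _ hrad, Module.supportDim_self_eq_ringKrullDim,
    hdim, hlen, zero_add]

/-- the colon property for systems of parameters. -/
theorem mem_ofList_of_mul_mem (n : ℕ) (hdim : ringKrullDim R = n) (l : List R)
    (hl : l.length + 1 = n) (y : R)
    (hrad : (Ideal.ofList l ⊔ Ideal.span {y}).radical = maximalIdeal R) (r : R)
    (h : r * y ∈ Ideal.ofList l) : r ∈ Ideal.ofList l := by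
  have hreg := isWeaklyRegular_of_sop n hdim (l ++ [y]) (by simp [hl]) (by
    rw [Ideal.ofList_append, Ideal.ofList_singleton]; exact hrad)
  rw [isWeaklyRegular_append_iff, isWeaklyRegular_singleton_iff] at hreg
  have hy := hreg.2
  have h1 : (Ideal.ofList l • (⊤ : Submodule R R)) = (Ideal.ofList l : Submodule R R) := by
    rw [smul_eq_mul, Ideal.mul_top]
  have h2 : y • (Submodule.Quotient.mk r : R ⧸ (Ideal.ofList l • (⊤ : Submodule R R))) = 0 := by
    rw [← Submodule.Quotient.mk_smul, Submodule.Quotient.mk_eq_zero, h1, smul_eq_mul, mul_comm]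
    exact h
  have h3 : (Submodule.Quotient.mk r : R ⧸ (Ideal.ofList l • (⊤ : Submodule R R))) = 0 := by
    apply hy
    change y • _ = y • (0 : R ⧸ (Ideal.ofList l • (⊤ : Submodule R R)))
    rw [h2, smul_zero]
  rw [Submodule.Quotient.mk_eq_zero, h1] at h3
  exact h3

end CM

end Groth.Agent.Helper8.TC
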