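import Mathlib
import Groth.Agent.Lib.Helper8.CanMod1
import Groth.Agent.Lib.Helper8.Depth9
import Groth.Agent.Lib.Helper8.Depth3
import Groth.Agent.Lib.Helper8.TC2

/-!
# Parameters are regular on a canonical module
-/

set_option autoImplicit false
universe u v

namespace Groth.Agent.Helper8.CanMod

open LocCoh IsLocalRing CategoryTheory Groth.Agent.Helper8.LC Groth.Agent.Helper8.Depth Pointwise

section surj

variable {R : Type u} [CommRing R] (J : Ideal R) (d : ℕ) (N : Type u) [AddCommGroup N]
  [Module R N] (a : R)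

/-- Multiplication by `a` is surjective on `H^d_J(N)` if `H^{d+1}_J` of the kernel of `a` and
`H^d_J(N/aN)` vanish. -/
theorem smul_surjective_H
    (h1 : Subsingleton (H J (d + 1) (LinearMap.ker (a • (LinearMap.id : N →ₗ[R] N)))))
    (h2 : Subsingleton (H J d (N ⧸ LinearMap.range (a • (LinearMap.id : N →ₗ[R] N)))))
    (z : H J d N) : ∃ w : H J d N, a • w = z := by
  set f : N →ₗ[R] N := a • LinearMap.id with hf
  let T : ShortComplex (ModuleCat.{u} R) :=
    ModuleCat.shortComplexOfCompEqZero (LinearMap.ker f).subtype f.rangeRestrict (by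
      apply LinearMap.ext
      intro x
      apply Subtype.ext
      exact x.2)
  have hT : T.ShortExact := by
    apply ModuleCat.shortComplex_shortExact
    · intro x
      change f.rangeRestrict x = 0 ↔ x ∈ Set.range (LinearMap.ker f).subtype
      constructor
      · intro hx
        refine ⟨⟨x, ?_⟩, rfl⟩
        rw [LinearMap.mem_ker]
        exact congrArg Subtype.val hx
      · rintro ⟨y, rfl⟩
        apply Subtype.ext
        exact y.2
    · exact Submodule.subtype_injective _
    · exact LinearMap.surjective_rangeRestrict f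
  have hS := sesSub_shortExact (LinearMap.range f)
  have hρ : Function.Surjective ((localCohomology J d).map T.g) := by
    intro y
    have h3 : δ J d hT y = 0 := h1.elim _ _
    exact (exact_g_δ J d hT y).mp h3
  have h4 : ((localCohomology J d).map (sesSub (LinearMap.range f)).g) z = 0 := h2.elim _ _
  obtain ⟨w, rfl⟩ := (exact_f_g J d hS z).mp h4
  obtain ⟨v, rfl⟩ := hρ w
  refine ⟨v, ?_⟩
  have hcomp : T.g ≫ (sesSub (LinearMap.range f)).f = a • 𝟙 (ModuleCat.of R N) := by
    apply ModuleCat.hom_ext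
    apply LinearMap.ext
    intro x
    rfl
  rw [← map_smul_id]
  change _ = ((localCohomology J d).map T.g ≫ (localCohomology J d).map
    (sesSub (LinearMap.range f)).f) v
  rw [← Functor.map_comp, hcomp]

end surj

section dim

variable {R : Type u} [CommRing R]

theorem supportDim_le_of_le_annihilator (I : Ideal R) (X : Type v) [AddCommGroup X] [Module R X]
    [Module.Finite R X] (h : I ≤ Module.annihilator R X) :
    Module.supportDim R X ≤ ringKrullDim (R ⧸ I) := by
  rw [Module.supportDim_eq_ringKrullDim_quotient_annihilator]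
  exact ringKrullDim_le_of_surjective (Ideal.Quotient.factor h)
    (Ideal.Quotient.factor_surjective h)

theorem ringKrullDim_quotient_le_zero_of_le_radical [IsLocalRing R] (𝔞 : Ideal R)
    (h : maximalIdeal R ≤ 𝔞.radical) : ringKrullDim (R ⧸ 𝔞) ≤ 0 := by
  by_cases htop : 𝔞 = ⊤
  · haveI : Subsingleton (R ⧸ 𝔞) := Ideal.Quotient.subsingleton_iff.mpr htop
    rw [ringKrullDim_eq_bot_of_subsingleton]
    exact bot_le
  · have h1 : 𝔞.radical ≠ ⊤ := by
      rwa [ne_eq, Ideal.radical_eq_top]
    have h2 : 𝔞.radical = maximalIdeal R := le_antisymm (le_maximalIdeal h1) h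
    rw [Groth.Agent.Helper8.TC.ringKrullDim_quotient_eq_zero_of_radical 𝔞 h2]

/-- The dimension of `R/I` is at most the length of a list of elements of the maximal ideal
generating, together with `I`, an ideal primary to the maximal ideal. -/
theorem ringKrullDim_quotient_le_length [IsLocalRing R] [IsNoetherianRing R] (I : Ideal R)
    (xs : List R) (hxs : ∀ x ∈ xs, x ∈ maximalIdeal R)
    (h : maximalIdeal R ≤ (I ⊔ Ideal.ofList xs).radical) :
    ringKrullDim (R ⧸ I) ≤ (xs.length : WithBot ℕ∞) := by
  have h1 := supportDim_le_add_length xs hxs (R ⧸ I)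
  rw [Module.supportDim_quotient_eq_ringKrullDim] at h1
  have h2 : Module.supportDim R ((R ⧸ I) ⧸ (Ideal.ofList xs • (⊤ : Submodule R (R ⧸ I)))) ≤ 0 := by
    refine le_trans (supportDim_le_of_le_annihilator (I ⊔ Ideal.ofList xs) _ ?_)
      (ringKrullDim_quotient_le_zero_of_le_radical _ h)
    rw [sup_le_iff]
    constructor
    · intro r hr
      rw [Module.mem_annihilator]
      intro q
      obtain ⟨q', rfl⟩ := Submodule.Quotient.mk_surjective _ q
      obtain ⟨q'', rfl⟩ := Ideal.Quotient.mk_surjective q'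
      rw [← Submodule.Quotient.mk_smul]
      have : r • (Ideal.Quotient.mk I q'') = 0 := by
        rw [Algebra.smul_def, Ideal.Quotient.algebraMap_eq, ← map_mul]
        exact Ideal.Quotient.eq_zero_iff_mem.mpr (I.mul_mem_right _ hr)
      rw [this, Submodule.Quotient.mk_zero]
    · intro r hr
      rw [Module.mem_annihilator]
      intro q
      obtain ⟨q', rfl⟩ := Submodule.Quotient.mk_surjective _ q
      rw [← Submodule.Quotient.mk_smul, Submodule.Quotient.mk_eq_zero]
      exact Submodule.smul_mem_smul hr Submodule.mem_top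
  refine le_trans h1 ?_
  calc Module.supportDim R ((R ⧸ I) ⧸ (Ideal.ofList xs • (⊤ : Submodule R (R ⧸ I)))) + xs.length
      ≤ 0 + (xs.length : WithBot ℕ∞) := add_le_add_left h2 _
    _ = xs.length := zero_add _

end dim

section reg

variable {R : Type u} [CommRing R] [IsNoetherianRing R] [IsLocalRing R]

theorem subsingleton_H_quot_range (J : Ideal R) (i : ℕ) (N : Type u) [AddCommGroup N]
    [Module R N] [Module.Finite R N] (x : R) (I : Ideal R) (hI : I ≤ Module.annihilator R N)
    (hdim : ringKrullDim (R ⧸ (I ⊔ Ideal.span {x})) < i) :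
    Subsingleton (H J i (N ⧸ LinearMap.range (x • (LinearMap.id : N →ₗ[R] N)))) := by
  apply subsingleton_of_supportDim_lt J _ i
  refine lt_of_le_of_lt (supportDim_le_of_le_annihilator (I ⊔ Ideal.span {x}) _ ?_) hdim
  rw [sup_le_iff]
  constructor
  · intro r hr
    rw [Module.mem_annihilator]
    intro q
    obtain ⟨q', rfl⟩ := Submodule.Quotient.mk_surjective _ q
    rw [← Submodule.Quotient.mk_smul, Module.mem_annihilator.mp (hI hr) q',
      Submodule.Quotient.mk_zero]
  · rw [Ideal.span_le, Set.singleton_subset_iff]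
    change x ∈ Module.annihilator R _
    rw [Module.mem_annihilator]
    intro q
    obtain ⟨q', rfl⟩ := Submodule.Quotient.mk_surjective _ q
    rw [← Submodule.Quotient.mk_smul, Submodule.Quotient.mk_eq_zero]
    exact ⟨q', rfl⟩

theorem smul_surjective_H_top (n : ℕ) (hn : ringKrullDim R = n) (x : R)
    (hx : ringKrullDim (R ⧸ Ideal.span {x}) < n) (z : H (maximalIdeal R) n R) :
    ∃ w : H (maximalIdeal R) n R, x • w = z := by
  have hcd : CdLE R (maximalIdeal R) n := cdLE_of_ringKrullDim_le _ n hn.le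
  refine smul_surjective_H (maximalIdeal R) n R x (hcd _ (n + 1) (Nat.lt_succ_self n)) ?_ z
  refine subsingleton_H_quot_range (maximalIdeal R) n R x ⊥ bot_le ?_
  rwa [bot_sup_eq]

variable {E : Type u} [AddCommGroup E] [Module R E] (f : ResidueField R →ₗ[R] E)
  (hf : InjHull.IsInjectiveHull f) (K : Type u) [AddCommGroup K] [Module R K]

include hf in
theorem isSMulRegular_of_dual_surjective (x : R)
    (hsurj : ∀ φ : K →ₗ[R] E, ∃ ψ : K →ₗ[R] E, x • ψ = φ) : IsSMulRegular K x := by
  intro k₁ k₂ h
  by_contra hne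
  have hk : k₁ - k₂ ≠ 0 := sub_ne_zero.mpr hne
  obtain ⟨φ, hφ⟩ := Groth.Agent.Helper1.MatlisL.exists_dual_ne_zero f hf hk
  obtain ⟨ψ, rfl⟩ := hsurj φ
  apply hφ
  have h' : x • k₁ = x • k₂ := h
  rw [LinearMap.smul_apply, ← map_smul, smul_sub, h', sub_self, map_zero]

include hf in
theorem isSMulRegular_quot_of_dual (x y : R)
    (hyp : ∀ φ : K →ₗ[R] E, x • φ = 0 → ∃ ψ : K →ₗ[R] E, x • ψ = 0 ∧ y • ψ = φ) :
    IsSMulRegular (QuotSMulTop x K) y := by
  intro q₁ q₂ h
  by_contra hne
  have hq : q₁ - q₂ ≠ 0 := sub_ne_zero.mpr hne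
  have hyq : y • (q₁ - q₂) = 0 := by
    have h' : y • q₁ = y • q₂ := h
    rw [smul_sub, h', sub_self]
  obtain ⟨φ₀, hφ₀⟩ := Groth.Agent.Helper1.MatlisL.exists_dual_ne_zero f hf hq
  let φ : K →ₗ[R] E := φ₀ ∘ₗ (x • (⊤ : Submodule R K)).mkQ
  have hxφ : x • φ = 0 := by
    apply LinearMap.ext
    intro k
    rw [LinearMap.smul_apply, ← map_smul, LinearMap.zero_apply]
    have : (x • (⊤ : Submodule R K)).mkQ (x • k) = 0 := by
      rw [Submodule.mkQ_apply, Submodule.Quotient.mk_eq_zero]
      exact Submodule.smul_mem_pointwise_smul k x ⊤ Submodule.mem_top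
    change φ₀ ((x • (⊤ : Submodule R K)).mkQ (x • k)) = 0
    rw [this, map_zero]
  obtain ⟨ψ, hxψ, hyψ⟩ := hyp φ hxφ
  have hψ : x • (⊤ : Submodule R K) ≤ LinearMap.ker ψ := by
    intro k hk
    obtain ⟨k', -, rfl⟩ := (Submodule.mem_smul_pointwise_iff_exists _ _ _).mp hk
    rw [LinearMap.mem_ker, map_smul]
    exact LinearMap.congr_fun hxψ k'
  let ψ₀ : QuotSMulTop x K →ₗ[R] E := (x • (⊤ : Submodule R K)).liftQ ψ hψ
  have hφψ : φ₀ = y • ψ₀ := by
    apply LinearMap.ext
    intro q
    obtain ⟨k, rfl⟩ := Submodule.Quotient.mk_surjective _ q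
    have h1 : φ₀ (Submodule.Quotient.mk k) = φ k := rfl
    rw [h1, ← hyψ]
    rfl
  apply hφ₀
  rw [hφψ, LinearMap.smul_apply, ← map_smul, hyq, map_zero]

end reg

section core

variable {R : Type u} [CommRing R] [IsNoetherianRing R] [IsLocalRing R]

/-- The `x`-torsion of `H^{d+1}_m(R)` is `y`-divisible when `x, y` are the first two members
of a system of parameters. -/
theorem exists_smul_of_smul_eq_zero (m : Ideal R) (d : ℕ) (hcd : CdLE R m (d + 1))
    (x y : R) (hx : ringKrullDim (R ⧸ Ideal.span {x}) < ((d + 1 : ℕ) : WithBot ℕ∞))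
    (hxy : ringKrullDim (R ⧸ Ideal.span {x, y}) < (d : WithBot ℕ∞))
    (h : H m (d + 1) R) (hh : x • h = 0) :
    ∃ h' : H m (d + 1) R, x • h' = 0 ∧ y • h' = h := by
  set f : R →ₗ[R] R := x • LinearMap.id with hf
  let T : ShortComplex (ModuleCat.{u} R) :=
    ModuleCat.shortComplexOfCompEqZero (LinearMap.ker f).subtype f.rangeRestrict (by
      apply LinearMap.ext
      intro r
      apply Subtype.ext
      exact r.2)
  have hT : T.ShortExact := by
    apply ModuleCat.shortComplex_shortExact
    · intro r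
      change f.rangeRestrict r = 0 ↔ r ∈ Set.range (LinearMap.ker f).subtype
      constructor
      · intro hr
        refine ⟨⟨r, ?_⟩, rfl⟩
        rw [LinearMap.mem_ker]
        exact congrArg Subtype.val hr
      · rintro ⟨s, rfl⟩
        apply Subtype.ext
        exact s.2
    · exact Submodule.subtype_injective _
    · exact LinearMap.surjective_rangeRestrict f
  have hS := sesSub_shortExact (LinearMap.range f)
  -- the kernel of `x` has small support
  have hZann : Ideal.span {x} ≤ Module.annihilator R (LinearMap.ker f) := by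
    rw [Ideal.span_le, Set.singleton_subset_iff]
    change x ∈ Module.annihilator R _
    rw [Module.mem_annihilator]
    rintro ⟨r, hr⟩
    apply Subtype.ext
    exact hr
  have hZ : Subsingleton (H m (d + 1) (LinearMap.ker f)) :=
    subsingleton_of_supportDim_lt m _ (d + 1)
      (lt_of_le_of_lt (supportDim_le_of_le_annihilator _ _ hZann) hx)
  have hZ' : Subsingleton (H m (d + 1 + 1) (LinearMap.ker f)) :=
    hcd _ (d + 1 + 1) (Nat.lt_succ_self _)
  have hθinj : Function.Injective ((localCohomology m (d + 1)).map T.g) := by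
    rw [injective_iff_map_eq_zero]
    intro u hu
    obtain ⟨u', rfl⟩ := (exact_f_g m (d + 1) hT u).mp hu
    rw [hZ.elim u' 0, map_zero]
  have hθsurj : Function.Surjective ((localCohomology m (d + 1)).map T.g) := by
    intro w
    have h3 : δ m (d + 1) hT w = 0 := hZ'.elim _ _
    exact (exact_g_δ m (d + 1) hT w).mp h3
  have hcomp : T.g ≫ (sesSub (LinearMap.range f)).f = x • 𝟙 (ModuleCat.of R R) := by
    apply ModuleCat.hom_ext
    apply LinearMap.ext
    intro r
    rfl
  have hιθ : ∀ u : H m (d + 1) R,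
      ((localCohomology m (d + 1)).map (sesSub (LinearMap.range f)).f)
        (((localCohomology m (d + 1)).map T.g) u) = x • u := by
    intro u
    rw [← map_smul_id]
    change ((localCohomology m (d + 1)).map T.g ≫ (localCohomology m (d + 1)).map
      (sesSub (LinearMap.range f)).f) u = _
    rw [← Functor.map_comp, hcomp]
  -- `y` is surjective on `H^d(R/xR)`
  have hBann : Ideal.span {x} ≤ Module.annihilator R (R ⧸ LinearMap.range f) := by
    rw [Ideal.span_le, Set.singleton_subset_iff]
    change x ∈ Module.annihilator R _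
    rw [Module.mem_annihilator]
    intro q
    obtain ⟨q', rfl⟩ := Submodule.Quotient.mk_surjective _ q
    rw [← Submodule.Quotient.mk_smul, Submodule.Quotient.mk_eq_zero]
    exact ⟨q', rfl⟩
  have hy : ∀ z : H m d (R ⧸ LinearMap.range f), ∃ w : H m d (R ⧸ LinearMap.range f),
      y • w = z := by
    intro z
    refine smul_surjective_H m d (R ⧸ LinearMap.range f) y ?_ ?_ z
    · apply subsingleton_of_supportDim_lt m _ (d + 1)
      refine lt_of_le_of_lt (supportDim_le_of_le_annihilator (Ideal.span {x}) _ ?_) hx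
      intro r hr
      rw [Module.mem_annihilator]
      rintro ⟨q, hq⟩
      apply Subtype.ext
      exact Module.mem_annihilator.mp (hBann hr) q
    · refine subsingleton_H_quot_range m d _ y (Ideal.span {x}) hBann ?_
      have : Ideal.span {x} ⊔ Ideal.span {y} = Ideal.span {x, y} := by
        rw [← Ideal.span_union]
        rfl
      rwa [this]
  -- chase
  have h1 : ((localCohomology m (d + 1)).map (sesSub (LinearMap.range f)).f)
      (((localCohomology m (d + 1)).map T.g) h) = 0 := by
    rw [hιθ, hh]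
  obtain ⟨z, hz⟩ := (exact_δ_f m d hS _).mp h1
  obtain ⟨z', rfl⟩ := hy z
  obtain ⟨h', hh'⟩ := hθsurj (δ m d hS z')
  refine ⟨h', ?_, ?_⟩
  · rw [← hιθ, hh']
    exact (exact_δ_f m d hS _).mpr ⟨z', rfl⟩
  · apply hθinj
    rw [map_smul, hh', ← map_smul, hz]

end core

section final

variable {R : Type u} [CommRing R] [IsNoetherianRing R] [IsLocalRing R]

theorem span_range_le_sup_ofList_succ {k : ℕ} (a : Fin (k + 1) → R) :
    Ideal.span (Set.range a) ≤
      Ideal.span {a 0} ⊔ Ideal.ofList (List.ofFn fun i : Fin k => a i.succ) := by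
  rw [Ideal.span_le]
  rintro _ ⟨i, rfl⟩
  refine Fin.cases ?_ (fun j => ?_) i
  · exact Ideal.mem_sup_left (Ideal.subset_span rfl)
  · apply Ideal.mem_sup_right
    apply Ideal.subset_span
    exact List.mem_ofFn.mpr ⟨j, rfl⟩

theorem span_range_le_sup_ofList_succ_succ {k : ℕ} (a : Fin (k + 2) → R) :
    Ideal.span (Set.range a) ≤
      Ideal.span {a 0, a 1} ⊔ Ideal.ofList (List.ofFn fun i : Fin k => a i.succ.succ) := by
  rw [Ideal.span_le]
  rintro _ ⟨i, rfl⟩
  refine Fin.cases ?_ (fun j => ?_) i
  · exact Ideal.mem_sup_left (Ideal.subset_span (by simp))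
  · refine Fin.cases ?_ (fun l => ?_) j
    · exact Ideal.mem_sup_left (Ideal.subset_span (by simp))
    · apply Ideal.mem_sup_right
      apply Ideal.subset_span
      exact List.mem_ofFn.mpr ⟨l, rfl⟩

variable {E : Type u} [AddCommGroup E] [Module R E] (f : ResidueField R →ₗ[R] E)
  (hf : InjHull.IsInjectiveHull f) (K : Type u) [AddCommGroup K] [Module R K] [Module.Finite R K]

include hf in
/-- The first two members of a system of parameters form a regular sequence on a canonical
module. -/
theorem isRegular_of_systemOfParameters (n : ℕ) (hn : ringKrullDim R = n)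
    (eK : (K →ₗ[R] E) ≃ₗ[R] H (maximalIdeal R) n R) (hn0 : 0 < n) (a : Fin n → R)
    (ha : ∀ i, a i ∈ maximalIdeal R)
    (hsop : maximalIdeal R ≤ (Ideal.span (Set.range a)).radical) :
    IsSMulRegular K (a ⟨0, hn0⟩) ∧
      (∀ h2 : 2 ≤ n, RingTheory.Sequence.IsRegular K [a ⟨0, hn0⟩, a ⟨1, h2⟩]) := by
  obtain ⟨d, rfl⟩ : ∃ d, n = d + 1 := ⟨n - 1, by omega⟩
  have hx : ringKrullDim (R ⧸ Ideal.span {a 0}) < ((d + 1 : ℕ) : WithBot ℕ∞) := by
    have h1 := ringKrullDim_quotient_le_length (Ideal.span {a 0})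
      (List.ofFn fun i : Fin d => a i.succ) (by
        intro x hx
        obtain ⟨j, rfl⟩ := List.mem_ofFn.mp hx
        exact ha _)
      (le_trans hsop (Ideal.radical_mono (span_range_le_sup_ofList_succ a)))
    rw [List.length_ofFn] at h1
    refine lt_of_le_of_lt h1 ?_
    exact_mod_cast Nat.lt_succ_self d
  have hreg1 : IsSMulRegular K (a 0) := by
    apply isSMulRegular_of_dual_surjective f hf K
    intro φ
    obtain ⟨w, hw⟩ := smul_surjective_H_top (d + 1) hn (a 0) hx (eK φ)
    refine ⟨eK.symm w, ?_⟩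
    apply eK.injective
    rw [map_smul, LinearEquiv.apply_symm_apply, hw]
  refine ⟨hreg1, fun h2 => ?_⟩
  obtain ⟨e, rfl⟩ : ∃ e, d = e + 1 := ⟨d - 1, by omega⟩
  have hxy : ringKrullDim (R ⧸ Ideal.span {a 0, a 1}) < ((e + 1 : ℕ) : WithBot ℕ∞) := by
    have h1 := ringKrullDim_quotient_le_length (Ideal.span {a 0, a 1})
      (List.ofFn fun i : Fin e => a i.succ.succ) (by
        intro x hx
        obtain ⟨j, rfl⟩ := List.mem_ofFn.mp hx
        exact ha _)
      (le_trans hsop (Ideal.radical_mono (span_range_le_sup_ofList_succ_succ a)))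
    rw [List.length_ofFn] at h1
    refine lt_of_le_of_lt h1 ?_
    exact_mod_cast Nat.lt_succ_self e
  have hcd : CdLE R (maximalIdeal R) (e + 1 + 1) := cdLE_of_ringKrullDim_le _ _ hn.le
  have hreg2 : IsSMulRegular (QuotSMulTop (a 0) K) (a 1) := by
    apply isSMulRegular_quot_of_dual f hf K
    intro φ hφ
    have h0 : (a 0) • eK φ = 0 := by rw [← map_smul, hφ, map_zero]
    obtain ⟨h', hh1, hh2⟩ := exists_smul_of_smul_eq_zero (maximalIdeal R) (e + 1) hcd
      (a 0) (a 1) hx hxy (eK φ) h0
    refine ⟨eK.symm h', ?_, ?_⟩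
    · apply eK.injective
      rw [map_smul, LinearEquiv.apply_symm_apply, hh1, map_zero]
    · apply eK.injective
      rw [map_smul, LinearEquiv.apply_symm_apply, hh2]
  have hK : Nontrivial K := by
    by_contra hcon
    rw [not_nontrivial_iff_subsingleton] at hcon
    haveI : Subsingleton (H (maximalIdeal R) (e + 1 + 1) R) := eK.symm.toEquiv.subsingleton
    haveI := Groth.Agent.Helper8.NV.nontrivial_H_dim (R := R) (e + 1 + 1) hn
    exact not_subsingleton (H (maximalIdeal R) (e + 1 + 1) R) ‹_›
  refine ⟨?_, ?_⟩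
  · rw [RingTheory.Sequence.isWeaklyRegular_cons_iff]
    refine ⟨hreg1, ?_⟩
    rw [RingTheory.Sequence.isWeaklyRegular_cons_iff]
    exact ⟨hreg2, RingTheory.Sequence.IsWeaklyRegular.nil _ _⟩
  · intro htop
    have hle : Ideal.ofList [a 0, a 1] ≤ maximalIdeal R := by
      rw [Ideal.ofList, Ideal.span_le]
      intro r hr
      simp only [List.mem_cons, List.not_mem_nil, or_false, Set.mem_setOf_eq] at hr
      rcases hr with rfl | rfl
      · exact ha _
      · exact ha _
    have h3 : Ideal.ofList [a 0, a 1] • (⊤ : Submodule R K) ≤ maximalIdeal R • ⊤ :=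
      Submodule.smul_mono_left hle
    exact smul_top_ne_top_of_local R K (top_le_iff.mp (le_trans (le_of_eq htop) h3))

end final

end Groth.Agent.Helper8.CanMod
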