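import Mathlib
import Groth.Prelude

/-!
# A Noetherian ring approximated by catenary rings along maps with going-down and incomparability
is catenary
-/

set_option autoImplicit false
universe u

namespace Groth.Agent.Helper8.IndCat

theorem map_comap_eq_of_subset_range {A' A : Type*} [CommRing A'] [CommRing A] (φ : A' →+* A)
    (I : Ideal A) (G : Set A) (hG : Ideal.span G = I) (hGr : G ⊆ Set.range φ) :
    (I.comap φ).map φ = I := by
  apply le_antisymm Ideal.map_comap_le
  rw [← hG, Ideal.span_le]
  intro g hg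
  obtain ⟨a, rfl⟩ := hGr hg
  apply Ideal.mem_map_of_mem
  rw [Ideal.mem_comap]
  exact Ideal.subset_span hg

theorem covBy_comap {A' A : Type*} [CommRing A'] [CommRing A] (φ : A' →+* A)
    (hgd : ∀ (Q : PrimeSpectrum A) (y : PrimeSpectrum A'), y ≤ PrimeSpectrum.comap φ Q →
        ∃ z, z ≤ Q ∧ PrimeSpectrum.comap φ z = y)
    (hinc : StrictMono (PrimeSpectrum.comap φ))
    (a b : PrimeSpectrum A) (ha : (a.asIdeal.comap φ).map φ = a.asIdeal) (hab : a ⋖ b) :
    PrimeSpectrum.comap φ a ⋖ PrimeSpectrum.comap φ b := by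
  refine ⟨hinc hab.lt, fun y hay hyb => ?_⟩
  obtain ⟨z, hzb, hzy⟩ := hgd b y hyb.le
  have haz : a ≤ z := by
    change a.asIdeal ≤ z.asIdeal
    rw [← ha, Ideal.map_le_iff_le_comap]
    have : PrimeSpectrum.comap φ a ≤ PrimeSpectrum.comap φ z := by rw [hzy]; exact hay.le
    exact this
  have hne1 : a ≠ z := by
    rintro rfl
    rw [hzy] at hay
    exact lt_irrefl _ hay
  have hne2 : z ≠ b := by
    rintro rfl
    rw [hzy] at hyb
    exact lt_irrefl _ hyb
  exact hab.2 (lt_of_le_of_ne haz hne1) (lt_of_le_of_ne hzb hne2)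

theorem isCatenary_of_forall_finset (A : Type u) [CommRing A] [IsNoetherianRing A]
    (H : ∀ F : Finset A, ∃ (A' : Type u) (_ : CommRing A') (φ : A' →+* A),
      CAlg.IsCatenary A' ∧ (↑F : Set A) ⊆ Set.range φ ∧
      (∀ (Q : PrimeSpectrum A) (y : PrimeSpectrum A'), y ≤ PrimeSpectrum.comap φ Q →
        ∃ z, z ≤ Q ∧ PrimeSpectrum.comap φ z = y) ∧
      StrictMono (PrimeSpectrum.comap φ)) :
    CAlg.IsCatenary A := by
  classical
  constructor
  · intro p q hpq
    obtain ⟨A', _, φ, hcat, -, -, hinc⟩ := H ∅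
    obtain ⟨n, hn⟩ := hcat.1 _ _ (hinc.monotone hpq)
    refine ⟨n, fun s hs hl => ?_⟩
    have := hn (s.map _ hinc) (by rw [LTSeries.head_map, hs]) (by rw [LTSeries.last_map, hl])
    simpa using this
  · intro s t hhead hlast hs ht
    have hfg : ∀ x : PrimeSpectrum A, ∃ G : Finset A, Ideal.span (G : Set A) = x.asIdeal :=
      fun x => (isNoetherianRing_iff_ideal_fg A).mp inferInstance x.asIdeal
    choose G hG using hfg
    let F : Finset A := (Finset.univ.biUnion fun i : Fin (s.length + 1) => G (s i)) ∪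
      (Finset.univ.biUnion fun i : Fin (t.length + 1) => G (t i))
    obtain ⟨A', _, φ, hcat, hF, hgd, hinc⟩ := H F
    have hsF : ∀ i : Fin (s.length + 1), ((G (s i) : Finset A) : Set A) ⊆ Set.range φ := by
      intro i x hx
      apply hF
      simp only [F, Finset.coe_union, Finset.coe_biUnion, Set.mem_union, Set.mem_iUnion]
      exact Or.inl ⟨i, by simp, hx⟩
    have htF : ∀ i : Fin (t.length + 1), ((G (t i) : Finset A) : Set A) ⊆ Set.range φ := by
      intro i x hx
      apply hF
      simp only [F, Finset.coe_union, Finset.coe_biUnion, Set.mem_union, Set.mem_iUnion]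
      exact Or.inr ⟨i, by simp, hx⟩
    have := hcat.2 (s.map _ hinc) (t.map _ hinc)
      (by rw [LTSeries.head_map, LTSeries.head_map, hhead])
      (by rw [LTSeries.last_map, LTSeries.last_map, hlast])
      (fun i => covBy_comap φ hgd hinc _ _
        (map_comap_eq_of_subset_range φ _ _ (hG _) (hsF _)) (hs i))
      (fun i => covBy_comap φ hgd hinc _ _
        (map_comap_eq_of_subset_range φ _ _ (hG _) (htF _)) (ht i))
    simpa using this

end Groth.Agent.Helper8.IndCat
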