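import Mathlib
import Groth.Prelude
import Groth.Agent.Lib.Helper8.IndCat1

/-!
# A Noetherian ring approximated by catenary rings along maps with going-down is catenary
(no incomparability needed)
-/

set_option autoImplicit false
universe u w

namespace Groth.Agent.Helper8.DirCat

theorem covBy_comap' {A' : Type w} {A : Type u} [CommRing A'] [CommRing A] (φ : A' →+* A)
    (hgd : ∀ (Q : PrimeSpectrum A) (y : PrimeSpectrum A'), y ≤ PrimeSpectrum.comap φ Q →
        ∃ z, z ≤ Q ∧ PrimeSpectrum.comap φ z = y)
    (a b : PrimeSpectrum A) (ha : (a.asIdeal.comap φ).map φ = a.asIdeal)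
    (hlt : PrimeSpectrum.comap φ a < PrimeSpectrum.comap φ b) (hab : a ⋖ b) :
    PrimeSpectrum.comap φ a ⋖ PrimeSpectrum.comap φ b := by
  refine ⟨hlt, fun y hay hyb => ?_⟩
  obtain ⟨z, hzb, hzy⟩ := hgd b y hyb.le
  have haz : a ≤ z := by
    change a.asIdeal ≤ z.asIdeal
    rw [← ha, Ideal.map_le_iff_le_comap]
    have : PrimeSpectrum.comap φ a ≤ PrimeSpectrum.comap φ z := by rw [hzy]; exact hay.le
    exact this
  have hne1 : a ≠ z := by
    rintro rfl
    rw [hzy] at hay
    exact lt_irrefl _ hay
  have hne2 : z ≠ b := by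
    rintro rfl
    rw [hzy] at hyb
    exact lt_irrefl _ hyb
  exact hab.2 (lt_of_le_of_ne haz hne1) (lt_of_le_of_ne hzb hne2)

theorem comap_lt_comap_of_extended {A' : Type w} {A : Type u} [CommRing A'] [CommRing A]
    (φ : A' →+* A) (a b : PrimeSpectrum A) (ha : (a.asIdeal.comap φ).map φ = a.asIdeal)
    (hb : (b.asIdeal.comap φ).map φ = b.asIdeal) (hab : a < b) :
    PrimeSpectrum.comap φ a < PrimeSpectrum.comap φ b := by
  refine lt_of_le_of_ne ?_ ?_
  · show a.asIdeal.comap φ ≤ b.asIdeal.comap φ
    exact Ideal.comap_mono hab.le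
  · intro h
    have h1 : a.asIdeal.comap φ = b.asIdeal.comap φ := congrArg PrimeSpectrum.asIdeal h
    have h2 : a.asIdeal = b.asIdeal := by rw [← ha, ← hb, h1]
    exact hab.ne (PrimeSpectrum.ext h2)

theorem isCatenary_of_forall_finset' (A : Type u) [CommRing A] [IsNoetherianRing A]
    (H : ∀ F : Finset A, ∃ (A' : Type w) (_ : CommRing A') (φ : A' →+* A),
      CAlg.IsCatenary A' ∧ (↑F : Set A) ⊆ Set.range φ ∧
      (∀ (Q : PrimeSpectrum A) (y : PrimeSpectrum A'), y ≤ PrimeSpectrum.comap φ Q →
        ∃ z, z ≤ Q ∧ PrimeSpectrum.comap φ z = y)) :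
    CAlg.IsCatenary A := by
  classical
  constructor
  · intro p q _
    have hfin : Order.height q < ⊤ := by
      have h1 := Ideal.height_lt_top (I := q.asIdeal) q.2.ne_top
      rwa [PrimeSpectrum.height_eq_orderHeight] at h1
    refine ⟨(Order.height q).toNat, fun s _ hl => ?_⟩
    have h2 : (s.length : ℕ∞) ≤ Order.height q := by
      rw [← hl]; exact Order.length_le_height_last
    exact ENat.toNat_le_toNat h2 hfin.ne |>.trans_eq' (by simp)
  · intro s t hhead hlast hs ht
    have hfg : ∀ x : PrimeSpectrum A, ∃ G : Finset A, Ideal.span (G : Set A) = x.asIdeal :=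
      fun x => (isNoetherianRing_iff_ideal_fg A).mp inferInstance x.asIdeal
    choose G hG using hfg
    let F : Finset A := (Finset.univ.biUnion fun i : Fin (s.length + 1) => G (s i)) ∪
      (Finset.univ.biUnion fun i : Fin (t.length + 1) => G (t i))
    obtain ⟨A', _, φ, hcat, hF, hgd⟩ := H F
    have hsF : ∀ i : Fin (s.length + 1), ((G (s i) : Finset A) : Set A) ⊆ Set.range φ := by
      intro i x hx
      apply hF
      simp only [F, Finset.coe_union, Finset.coe_biUnion, Set.mem_union, Set.mem_iUnion]
      exact Or.inl ⟨i, by simp, hx⟩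
    have htF : ∀ i : Fin (t.length + 1), ((G (t i) : Finset A) : Set A) ⊆ Set.range φ := by
      intro i x hx
      apply hF
      simp only [F, Finset.coe_union, Finset.coe_biUnion, Set.mem_union, Set.mem_iUnion]
      exact Or.inr ⟨i, by simp, hx⟩
    have hsE : ∀ i, ((s i).asIdeal.comap φ).map φ = (s i).asIdeal := fun i =>
      IndCat.map_comap_eq_of_subset_range φ _ _ (hG _) (hsF i)
    have htE : ∀ i, ((t i).asIdeal.comap φ).map φ = (t i).asIdeal := fun i =>
      IndCat.map_comap_eq_of_subset_range φ _ _ (hG _) (htF i)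
    let s' : LTSeries (PrimeSpectrum A') :=
      { length := s.length
        toFun := fun i => PrimeSpectrum.comap φ (s i)
        step := fun i => comap_lt_comap_of_extended φ _ _ (hsE _) (hsE _) (s.step i) }
    let t' : LTSeries (PrimeSpectrum A') :=
      { length := t.length
        toFun := fun i => PrimeSpectrum.comap φ (t i)
        step := fun i => comap_lt_comap_of_extended φ _ _ (htE _) (htE _) (t.step i) }
    have := hcat.2 s' t' (congrArg (PrimeSpectrum.comap φ) hhead)
      (congrArg (PrimeSpectrum.comap φ) hlast)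
      (fun i => covBy_comap' φ hgd _ _ (hsE _)
        (comap_lt_comap_of_extended φ _ _ (hsE _) (hsE _) (hs i).lt) (hs i))
      (fun i => covBy_comap' φ hgd _ _ (htE _)
        (comap_lt_comap_of_extended φ _ _ (htE _) (htE _) (ht i).lt) (ht i))
    exact this

end Groth.Agent.Helper8.DirCat
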