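import Mathlib
import Groth.Prelude
import Groth.Agent.Lib.Helper8.DirCat1
import Groth.Agent.Lib.Helper8.CatCM1

/-!
# Direct limits of (universally) catenary rings along flat transition maps
-/

set_option autoImplicit false
universe u v w

namespace Groth.Agent.Helper8.DirCat

section level

attribute [local instance] MvPolynomial.algebraMvPolynomial

variable {E : Type u} {S : Type w} [CommRing E] [CommRing S] [Algebra E S] (σ : Type)

theorem flat_mvPolynomial' [Module.Flat E S] :
    Module.Flat (MvPolynomial σ E) (MvPolynomial σ S) :=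
  Module.Flat.of_linearEquiv
    (Algebra.IsPushout.equiv E (MvPolynomial σ E) S (MvPolynomial σ S)).symm.toLinearEquiv

end level

theorem goingDown_of_flat {A' : Type u} {A : Type w} [CommRing A'] [CommRing A] (φ : A' →+* A)
    (hφ : φ.Flat) (Q : PrimeSpectrum A) (y : PrimeSpectrum A')
    (hy : y ≤ PrimeSpectrum.comap φ Q) :
    ∃ z, z ≤ Q ∧ PrimeSpectrum.comap φ z = y := by
  letI := φ.toAlgebra
  haveI : Module.Flat A' A := hφ
  haveI := y.2
  haveI := Q.2
  obtain ⟨Z, hZQ, hZprime, hZlo⟩ :=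
    Ideal.exists_ideal_le_liesOver_of_le (p := y.asIdeal)
      (q := Q.asIdeal.under A') Q.asIdeal hy
  exact ⟨⟨Z, hZprime⟩, hZQ, PrimeSpectrum.ext hZlo.over.symm⟩

theorem flat_map_mvPolynomial {E : Type u} {S : Type w} [CommRing E] [CommRing S] (φ : E →+* S)
    (hφ : φ.Flat) (σ : Type) : (MvPolynomial.map (σ := σ) φ).Flat := by
  letI := φ.toAlgebra
  haveI : Module.Flat E S := hφ
  have := flat_mvPolynomial' (E := E) (S := S) σ
  exact this

theorem trivial_of_flat {A : Type u} {B : Type w} [CommRing A] [CommRing B] (φ : A →+* B)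
    (hφ : φ.Flat) {l : ℕ} (r : Fin l → A) (y : Fin l → B) (h : ∑ k, φ (r k) * y k = 0) :
    ∃ (κ : ℕ) (a : Fin l → Fin κ → A) (z : Fin κ → B),
      (∀ k, y k = ∑ t, φ (a k t) * z t) ∧ ∀ t, ∑ k, r k * a k t = 0 := by
  letI := φ.toAlgebra
  haveI : Module.Flat A B := hφ
  have hsm : ∀ (a : A) (b : B), a • b = φ a * b := fun a b => rfl
  have hrel : ∑ k, r k • y k = 0 := by
    rw [← h]
    exact Finset.sum_congr rfl fun k _ => hsm _ _
  have := Module.Flat.isTrivialRelation_of_sum_smul_eq_zero (R := A) (M := B) (f := r) (x := y) hrel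
  obtain ⟨κ, a, z, hxz, hra⟩ := this
  refine ⟨κ, a, z, fun k => ?_, hra⟩
  rw [hxz k]
  exact Finset.sum_congr rfl fun k _ => hsm _ _

theorem flat_of_forall_trivial {A : Type u} {B : Type w} [CommRing A] [CommRing B] (φ : A →+* B)
    (H : ∀ {l : ℕ} (r : Fin l → A) (y : Fin l → B), ∑ k, φ (r k) * y k = 0 →
      ∃ (κ : ℕ) (a : Fin l → Fin κ → A) (z : Fin κ → B),
      (∀ k, y k = ∑ t, φ (a k t) * z t) ∧ ∀ t, ∑ k, r k * a k t = 0) : φ.Flat := by
  letI := φ.toAlgebra
  change Module.Flat A B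
  have hsm : ∀ (a : A) (b : B), a • b = φ a * b := fun a b => rfl
  apply Module.Flat.of_forall_isTrivialRelation
  intro l r x hrx
  have h : ∑ k, φ (r k) * x k = 0 := by
    rw [← hrx]
    exact Finset.sum_congr rfl fun k _ => (hsm _ _).symm
  obtain ⟨κ, a, z, hxz, hra⟩ := H r x h
  refine ⟨κ, a, z, fun k => ?_, hra⟩
  rw [hxz k]
  exact Finset.sum_congr rfl fun k _ => (hsm _ _).symm

section dl

variable {ι : Type v} [Preorder ι] [Nonempty ι] [IsDirected ι (· ≤ ·)]
    (G : ι → Type u) [∀ i, CommRing (G i)]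
    (f : ∀ i j, i ≤ j → G i →+* G j) [DirectedSystem G (fun i j h => f i j h)]

theorem exists_common_stage {l : ℕ} (i : ι) (x : Fin l → Ring.DirectLimit G (fun i j h => f i j h)) :
    ∃ (j : ι) (_ : i ≤ j) (y : Fin l → G j),
      ∀ k, Ring.DirectLimit.of G (fun i j h => f i j h) j (y k) = x k := by
  classical
  choose i₀ g₀ hg₀ using fun k => Ring.DirectLimit.exists_of (x k)
  obtain ⟨j, hj⟩ := Finset.exists_le (insert i (Finset.univ.image i₀))
  refine ⟨j, hj _ (Finset.mem_insert_self _ _),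
    fun k => f (i₀ k) j (hj _ (Finset.mem_insert_of_mem
      (Finset.mem_image_of_mem _ (Finset.mem_univ k)))) (g₀ k), fun k => ?_⟩
  rw [Ring.DirectLimit.of_f, hg₀]

theorem flat_of (hf : ∀ i j (h : i ≤ j), (f i j h).Flat) (i : ι) :
    (Ring.DirectLimit.of G (fun i j h => f i j h) i).Flat := by
  classical
  apply flat_of_forall_trivial
  intro l r x hrx
  obtain ⟨j, hij, y, hy⟩ := exists_common_stage G f i x
  have h0 : Ring.DirectLimit.of G (fun i j h => f i j h) j (∑ k, f i j hij (r k) * y k) = 0 := by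
    rw [map_sum]
    rw [← hrx]
    refine Finset.sum_congr rfl fun k _ => ?_
    rw [map_mul, Ring.DirectLimit.of_f, hy]
  obtain ⟨j', hjj', h1⟩ := Ring.DirectLimit.of.zero_exact h0
  have hij' : i ≤ j' := hij.trans hjj'
  have hrel : ∑ k, f i j' hij' (r k) * (f j j' hjj' (y k)) = 0 := by
    rw [map_sum] at h1
    rw [← h1]
    refine Finset.sum_congr rfl fun k _ => ?_
    rw [map_mul]
    congr 1
    exact (DirectedSystem.map_map (f := fun i j h => f i j h) hij hjj' (r k)).symm
  obtain ⟨κ, a, z, hxz, hra⟩ := trivial_of_flat _ (hf i j' hij') r _ hrel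
  refine ⟨κ, a, fun t => Ring.DirectLimit.of G (fun i j h => f i j h) j' (z t), fun k => ?_, hra⟩
  rw [← hy k, ← Ring.DirectLimit.of_f (hij := hjj'), hxz k, map_sum]
  refine Finset.sum_congr rfl fun t _ => ?_
  rw [map_mul, Ring.DirectLimit.of_f]

theorem exists_stage_of_finset (F : Finset (Ring.DirectLimit G (fun i j h => f i j h))) :
    ∃ i : ι, (↑F : Set (Ring.DirectLimit G (fun i j h => f i j h))) ⊆
      Set.range (Ring.DirectLimit.of G (fun i j h => f i j h) i) := by
  classical
  choose i₀ g₀ hg₀ using fun k : Ring.DirectLimit G (fun i j h => f i j h) =>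
    Ring.DirectLimit.exists_of k
  obtain ⟨j, hj⟩ := Finset.exists_le (F.image i₀)
  refine ⟨j, fun x hx => ?_⟩
  refine ⟨f (i₀ x) j (hj _ (Finset.mem_image_of_mem _ hx)) (g₀ x), ?_⟩
  rw [Ring.DirectLimit.of_f, hg₀]

theorem isCatenary_directLimit [IsNoetherianRing (Ring.DirectLimit G (fun i j h => f i j h))]
    (hf : ∀ i j (h : i ≤ j), (f i j h).Flat) (hG : ∀ i, CAlg.IsCatenary (G i)) :
    CAlg.IsCatenary (Ring.DirectLimit G (fun i j h => f i j h)) := by
  apply isCatenary_of_forall_finset'.{max u v, u}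
  intro F
  obtain ⟨i, hi⟩ := exists_stage_of_finset G f F
  exact ⟨G i, inferInstance, Ring.DirectLimit.of G (fun i j h => f i j h) i, hG i, hi,
    goingDown_of_flat _ (flat_of G f hf i)⟩

theorem isCatenary_mvPolynomial_directLimit
    [IsNoetherianRing (Ring.DirectLimit G (fun i j h => f i j h))]
    (hf : ∀ i j (h : i ≤ j), (f i j h).Flat) (hG : ∀ i, CAlg.IsUniversallyCatenary (G i)) (n : ℕ) :
    CAlg.IsCatenary (MvPolynomial (Fin n) (Ring.DirectLimit G (fun i j h => f i j h))) := by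
  classical
  apply isCatenary_of_forall_finset'.{max u v, u}
  intro F
  obtain ⟨i, hi⟩ := exists_stage_of_finset G f (F.biUnion fun p => p.coeffs)
  refine ⟨MvPolynomial (Fin n) (G i), inferInstance,
    MvPolynomial.map (Ring.DirectLimit.of G (fun i j h => f i j h) i), ?_, ?_, ?_⟩
  · exact (hG i).2 (MvPolynomial (Fin n) (G i)) inferInstance
  · intro b hb
    apply MvPolynomial.mem_range_map_iff_coeffs_subset.mpr
    intro c hc
    apply hi
    rw [Finset.coe_biUnion]
    exact Set.mem_iUnion₂.mpr ⟨b, hb, hc⟩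
  · exact goingDown_of_flat _ (flat_map_mvPolynomial _ (flat_of G f hf i) (Fin n))

theorem isUniversallyCatenary_directLimit
    [IsNoetherianRing (Ring.DirectLimit G (fun i j h => f i j h))]
    (hf : ∀ i j (h : i ≤ j), (f i j h).Flat) (hG : ∀ i, CAlg.IsUniversallyCatenary (G i)) :
    CAlg.IsUniversallyCatenary (Ring.DirectLimit G (fun i j h => f i j h)) := by
  refine ⟨inferInstance, fun C _ _ hC => ?_⟩
  obtain ⟨n, g, hg⟩ := Algebra.FiniteType.iff_quotient_mvPolynomial''.mp hC
  exact Groth.Agent.Helper8.CatCM.isCatenary_of_surjective g.toRingHom hg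
    (isCatenary_mvPolynomial_directLimit G f hf hG n)

end dl

end Groth.Agent.Helper8.DirCat
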