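import Mathlib
import Groth.Agent.Lib.Helper8.RegularLocal5

/-!
# Regular local rings: regularity from a prime with regular quotient
-/

namespace Groth.Agent.Helper8.RLR

open IsLocalRing

universe u

theorem height_add_dim_quotient_le {A : Type*} [CommRing A] (p : Ideal A) [hp : p.IsPrime] :
    (p.height : WithBot ℕ∞) + ringKrullDim (A ⧸ p) ≤ ringKrullDim A := by
  let p' : PrimeSpectrum A := ⟨p, hp⟩
  have h1 : ringKrullDim (A ⧸ p) = Order.coheight p' := by
    rw [ringKrullDim_quotient, Order.coheight_eq_krullDim_Ici]
    have : PrimeSpectrum.zeroLocus (p : Set A) = Set.Ici p' := by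
      ext q
      simp [PrimeSpectrum.mem_zeroLocus, p', ← PrimeSpectrum.asIdeal_le_asIdeal]
    rw [this]
  have h2 : p.height = Order.height p' := PrimeSpectrum.height_eq_orderHeight p'
  have : Nonempty (PrimeSpectrum A) := ⟨p'⟩
  rw [h1, h2, ringKrullDim, Order.krullDim_eq_iSup_height_add_coheight_of_nonempty]
  norm_cast
  exact le_iSup (fun a : PrimeSpectrum A => Order.height a + Order.coheight a) p'

/-- If `A/p` is regular and `p` is generated by `height p` elements then `A` is regular. -/
theorem of_prime_quotient_regular (A : Type u) [CommRing A] [IsLocalRing A] [IsNoetherianRing A]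
    (p : Ideal A) [p.IsPrime] [IsRegularLocalRing (A ⧸ p)]
    (hgen : (Submodule.spanFinrank p : ℕ∞) = p.height) : IsRegularLocalRing A := by
  classical
  have hqd : ((maximalIdeal (A ⧸ p)).spanFinrank : WithBot ℕ∞) = ringKrullDim (A ⧸ p) :=
    IsRegularLocalRing.spanFinrank_maximalIdeal
  set e := (maximalIdeal (A ⧸ p)).spanFinrank with he
  obtain ⟨y, hy⟩ : ∃ y : Fin e → maximalIdeal A, maximalIdeal A =
      p ⊔ Ideal.span (Set.range fun j => (y j : A)) := exists_lift_generators p
  apply IsRegularLocalRing.of_spanFinrank_maximalIdeal_le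
  refine le_trans ?_ (height_add_dim_quotient_le p)
  rw [← hqd, ← hgen]
  have h1 : (maximalIdeal A).spanFinrank ≤ p.spanFinrank + e := by
    rw [hy]
    refine (spanFinrank_sup_le (IsNoetherian.noetherian _) (IsNoetherian.noetherian _)).trans ?_
    have h3 : (Ideal.span (Set.range fun j => (y j : A))).spanFinrank ≤ e := by
      refine (Submodule.spanFinrank_span_le_ncard_of_finite (Set.finite_range _)).trans ?_
      rw [← Set.image_univ]
      refine (Set.ncard_image_le Set.finite_univ).trans ?_
      simp [Set.ncard_univ]
    omega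
  exact_mod_cast h1

end Groth.Agent.Helper8.RLR
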