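import Mathlib
import Groth.Agent.Lib.Helper8.RegularLocal6

/-!
# Regular local rings: families with independent cotangent classes are regular sequences;
the Jacobian criterion with derivations.
-/

namespace Groth.Agent.Helper8.RLR

open IsLocalRing

universe u

/-- A family of elements of the maximal ideal of a regular local ring with linearly
independent cotangent classes is a regular sequence. -/
theorem isRegular_of_linearIndependent (R : Type u) [CommRing R] [IsRegularLocalRing R] {c : ℕ}
    (x : Fin c → maximalIdeal R)
    (hli : LinearIndependent (ResidueField R) (fun i => (maximalIdeal R).toCotangent (x i))) :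
    RingTheory.Sequence.IsRegular R (List.ofFn fun i => (x i : R)) := by
  classical
  obtain ⟨d, hd, -⟩ := exists_nat_eq
    (ringKrullDim_nonneg_of_nontrivial (R := R)) (ringKrullDim_le_spanFinrank_maximalIdeal R)
  have hfr : Module.finrank (ResidueField R) (CotangentSpace R) = d := by
    have h1 : ((maximalIdeal R).spanFinrank : WithBot ℕ∞) = ringKrullDim R :=
      IsRegularLocalRing.spanFinrank_maximalIdeal
    rw [spanFinrank_maximalIdeal_eq_finrank_cotangentSpace, hd] at h1
    exact_mod_cast h1
  have hcd : c ≤ d := by
    have := hli.fintype_card_le_finrank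
    rw [hfr] at this
    simpa using this
  obtain ⟨y', hy'⟩ := exists_extension x hli
  have hn : Module.finrank (ResidueField R) (CotangentSpace R) - Fintype.card (Fin c) =
      d - c := by rw [hfr, Fintype.card_fin]
  have hsum : d = c + (d - c) := by omega
  set z : Fin d → R := fun i => Fin.append (fun i => (x i : R))
    (fun j => (y' (Fin.cast hn.symm j) : R)) (Fin.cast hsum i) with hz
  have hzspan : Ideal.span (Set.range z) = maximalIdeal R := by
    have hr : Set.range z =
        Set.range (fun i => (x i : R)) ∪ Set.range (fun j => (y' j : R)) := by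
      have h1 : z = Fin.append (fun i => (x i : R)) (fun j => (y' (Fin.cast hn.symm j) : R)) ∘
            (Fin.cast hsum) := rfl
      rw [h1, Set.range_comp, (fin_cast_surjective hsum).range_eq, Set.image_univ, range_append]
      congr 1
      have h2 : (fun j => (y' (Fin.cast hn.symm j) : R)) =
          (fun j => (y' j : R)) ∘ Fin.cast hn.symm := rfl
      rw [h2, Set.range_comp, (fin_cast_surjective hn.symm).range_eq, Set.image_univ]
    rw [hr]; exact hy'
  have key := isRegular_castLE R d hd z hzspan c hcd
  have hzx : (fun i : Fin c => z (Fin.castLE hcd i)) = fun i => (x i : R) := by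
    funext i
    have : Fin.cast hsum (Fin.castLE hcd i) = Fin.castAdd _ i := Fin.ext rfl
    simp only [hz]
    rw [this, Fin.append_left]
  rwa [hzx] at key

theorem derivation_mem_of_mem_sq {R : Type*} [CommRing R] (I : Ideal R) (D : Derivation ℤ R R)
    {x : R} (hx : x ∈ I ^ 2) : D x ∈ I := by
  rw [pow_two] at hx
  refine Submodule.mul_induction_on hx (fun y hy z hz => ?_) (fun y z hy hz => ?_)
  · rw [D.leibniz, smul_eq_mul, smul_eq_mul]
    exact I.add_mem (I.mul_mem_right _ hy) (I.mul_mem_right _ hz)
  · rw [map_add]; exact I.add_mem hy hz

/-- Jacobian criterion with derivations: independence of cotangent classes. -/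
theorem linearIndependent_of_derivations {R : Type*} [CommRing R] [IsLocalRing R] {m : ℕ}
    (f : Fin m → maximalIdeal R) (D : Fin m → Derivation ℤ R R)
    (hdet : IsUnit (Matrix.det (Matrix.of (fun i j : Fin m => D i (f j : R))))) :
    LinearIndependent (ResidueField R) (fun i => (maximalIdeal R).toCotangent (f i)) := by
  classical
  rw [Fintype.linearIndependent_iff]
  intro g hg
  choose a ha using fun i => IsLocalRing.residue_surjective (g i)
  have h1 : (maximalIdeal R).toCotangent (∑ i, a i • f i) = 0 := by
    rw [map_sum, ← hg]
    refine Finset.sum_congr rfl fun i _ => ?_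
    rw [map_smul, ← ha i]
    rfl
  rw [Ideal.toCotangent_eq_zero] at h1
  have h2 : ∀ j, ∑ i, D j (f i : R) * a i ∈ maximalIdeal R := by
    intro j
    have h3 := derivation_mem_of_mem_sq (maximalIdeal R) (D j) h1
    have h4 : D j ((∑ i, a i • f i : maximalIdeal R) : R) =
        ∑ i, D j (f i : R) * a i + ∑ i, (f i : R) * D j (a i) := by
      rw [← Finset.sum_add_distrib]
      simp only [Submodule.coe_sum, Submodule.coe_smul, smul_eq_mul, map_sum, Derivation.leibniz]
      refine Finset.sum_congr rfl fun i _ => ?_
      ring
    rw [h4] at h3
    have h5 : ∑ i, (f i : R) * D j (a i) ∈ maximalIdeal R :=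
      Ideal.sum_mem _ fun i _ => Ideal.mul_mem_right _ _ (f i).2
    exact (Ideal.add_mem_iff_left _ h5).mp h3
  have h6 : ((Matrix.of (fun i j : Fin m => D i (f j : R))).map (IsLocalRing.residue R)).mulVec g
      = 0 := by
    funext j
    simp only [Matrix.mulVec, dotProduct, Matrix.map_apply, Matrix.of_apply, Pi.zero_apply]
    have := (IsLocalRing.residue_eq_zero_iff _).mpr (h2 j)
    rw [map_sum] at this
    rw [← this]
    refine Finset.sum_congr rfl fun i _ => ?_
    rw [map_mul, ha i]
  have h7 : ((Matrix.of (fun i j : Fin m => D i (f j : R))).map (IsLocalRing.residue R)).det ≠ 0 := by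
    have : ((Matrix.of (fun i j : Fin m => D i (f j : R))).map (IsLocalRing.residue R)).det =
        IsLocalRing.residue R (Matrix.det (Matrix.of (fun i j : Fin m => D i (f j : R)))) :=
      (RingHom.map_det _ _).symm
    rw [this]
    exact (hdet.map (IsLocalRing.residue R)).ne_zero
  have h8 := Matrix.eq_zero_of_mulVec_eq_zero h7 h6
  intro i
  exact congrFun h8 i

end Groth.Agent.Helper8.RLR
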