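import Groth.Agent.Lib.Helper8.CSA
import Mathlib.Algebra.Azumaya.Defs
import Mathlib.LinearAlgebra.GeneralLinearGroup.AlgEquiv
import Mathlib.LinearAlgebra.FiniteDimensional.Lemmas
import Mathlib.LinearAlgebra.Dimension.Constructions
import Mathlib.LinearAlgebra.FreeModule.Finite.Matrix
import Mathlib.RingTheory.SimpleRing.Field

/-!
Skolem–Noether for automorphisms of finite-dimensional central simple algebras, and of simple
algebras (automorphisms fixing the centre).
-/

set_option autoImplicit false

namespace Groth.Agent.Helper8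

open TensorProduct

/-- `A ⊗ Aᵐᵒᵖ → End_k(A)` is bijective for a finite-dimensional central simple algebra. -/
theorem mulLeftRight_bijective (k A : Type*) [Field k] [Ring A] [Algebra k A]
    [Algebra.IsCentral k A] [IsSimpleRing A] [FiniteDimensional k A] :
    Function.Bijective (AlgHom.mulLeftRight k A) := by
  have hsimple : IsSimpleRing (A ⊗[k] Aᵐᵒᵖ) := isSimpleRing_tensor k A Aᵐᵒᵖ
  have hinj : Function.Injective (AlgHom.mulLeftRight k A) :=
    (AlgHom.mulLeftRight k A).toRingHom.injective
  have hfin : Module.finrank k (A ⊗[k] Aᵐᵒᵖ) = Module.finrank k (Module.End k A) := by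
    rw [Module.finrank_tensorProduct, Module.finrank_linearMap]
    congr 1
    exact (MulOpposite.opLinearEquiv k (M := A)).symm.finrank_eq
  exact ⟨hinj, (LinearMap.injective_iff_surjective_of_finrank_eq_finrank
    (f := (AlgHom.mulLeftRight k A).toLinearMap) hfin).mp hinj⟩

/-- Skolem–Noether: every algebra automorphism of a finite-dimensional central simple algebra is
inner. -/
theorem skolemNoether_aut (k A : Type*) [Field k] [Ring A] [Algebra k A]
    [Algebra.IsCentral k A] [IsSimpleRing A] [FiniteDimensional k A] (φ : A ≃ₐ[k] A) :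
    ∃ u : Aˣ, ∀ a : A, φ a = (u : A) * a * ((u⁻¹ : Aˣ) : A) := by
  let E : (A ⊗[k] Aᵐᵒᵖ) ≃ₐ[k] Module.End k A :=
    AlgEquiv.ofBijective (AlgHom.mulLeftRight k A) (mulLeftRight_bijective k A)
  let ψ : (A ⊗[k] Aᵐᵒᵖ) ≃ₐ[k] (A ⊗[k] Aᵐᵒᵖ) := Algebra.TensorProduct.congr φ AlgEquiv.refl
  let ρ : Module.End k A ≃ₐ[k] Module.End k A := E.symm.trans (ψ.trans E)
  obtain ⟨T, hT⟩ := ρ.eq_linearEquivConjAlgEquiv
  have hρ : ∀ (a : A) (b : Aᵐᵒᵖ),
      ρ (AlgHom.mulLeftRight k A (a ⊗ₜ[k] b)) = AlgHom.mulLeftRight k A (φ a ⊗ₜ[k] b) := by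
    intro a b
    show E (ψ (E.symm (AlgHom.mulLeftRight k A (a ⊗ₜ[k] b)))) = _
    have h1 : E.symm (AlgHom.mulLeftRight k A (a ⊗ₜ[k] b)) = a ⊗ₜ[k] b :=
      E.symm_apply_apply (a ⊗ₜ[k] b)
    rw [h1]
    rfl
  -- the key relation
  have hkey : ∀ (a x b : A), T (a * x * b) = φ a * T x * b := by
    intro a x b
    have h2 := hρ a (MulOpposite.op b)
    rw [hT, LinearEquiv.conjAlgEquiv_apply] at h2
    have h3 := congrArg (fun f : Module.End k A => f (T x)) h2
    simp only [LinearMap.coe_comp, LinearEquiv.coe_coe, Function.comp_apply,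
      LinearEquiv.symm_apply_apply, AlgHom.mulLeftRight_apply, MulOpposite.unop_op] at h3
    exact h3
  set u : A := T 1 with hu
  set v : A := T.symm 1 with hv
  have hT1 : ∀ x : A, T x = u * x := by
    intro x
    have := hkey 1 1 x
    rw [one_mul, one_mul, map_one, one_mul] at this
    exact this
  have hT2 : ∀ a : A, T a = φ a * u := by
    intro a
    have := hkey a 1 1
    rw [mul_one, mul_one, mul_one] at this
    exact this
  have hTs : ∀ y : A, T.symm y = v * y := by
    intro y
    apply T.injective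
    rw [T.apply_symm_apply, hT1, ← mul_assoc, ← hT1 v, hv, T.apply_symm_apply, one_mul]
  have huv : u * v = 1 := by rw [← hT1, hv, T.apply_symm_apply]
  have hvu : v * u = 1 := by rw [← hTs, hu, T.symm_apply_apply]
  refine ⟨⟨u, v, huv, hvu⟩, fun a => ?_⟩
  show φ a = u * a * v
  have h4 : u * a = φ a * u := by rw [← hT1, hT2]
  rw [h4, mul_assoc, huv, mul_one]

/-- Skolem–Noether for a simple ring that is finite over a field: a ring automorphism fixing the
centre pointwise is inner. -/
theorem skolemNoether_of_fix_center (k A : Type*) [Field k] [Ring A] [Algebra k A]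
    [IsSimpleRing A] [FiniteDimensional k A] (φ : A ≃+* A)
    (hφ : ∀ c ∈ Subring.center A, φ c = c) :
    ∃ u : Aˣ, ∀ a : A, φ a = (u : A) * a * ((u⁻¹ : Aˣ) : A) := by
  letI : Field (Subring.center A) := (IsSimpleRing.isField_center A).toField
  have hcentral : Algebra.IsCentral (Subring.center A) A := by
    constructor
    intro x hx
    rw [Subalgebra.mem_center_iff] at hx
    have hx' : x ∈ Subring.center A := Subring.mem_center_iff.mpr fun b => hx b
    exact ⟨⟨x, hx'⟩, rfl⟩
  have hfin : Module.Finite (Subring.center A) A := by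
    obtain ⟨S, hS⟩ := (Module.finite_def (R := k) (M := A)).mp inferInstance
    refine ⟨⟨S, ?_⟩⟩
    rw [eq_top_iff]
    rintro x -
    have hx : x ∈ Submodule.span k (S : Set A) := hS ▸ Submodule.mem_top
    induction hx using Submodule.span_induction with
    | mem y hy => exact Submodule.subset_span hy
    | zero => exact Submodule.zero_mem _
    | add y z _ _ hy hz => exact Submodule.add_mem _ hy hz
    | smul c y _ hy =>
      have hc : algebraMap k A c ∈ Subring.center A :=
        Subring.mem_center_iff.mpr fun b => (Algebra.commutes c b).symm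
      have : c • y = (⟨algebraMap k A c, hc⟩ : Subring.center A) • y := by
        rw [Algebra.smul_def]; rfl
      rw [this]
      exact Submodule.smul_mem _ _ hy
  let φ' : A ≃ₐ[Subring.center A] A := AlgEquiv.ofRingEquiv (f := φ) (fun c => hφ c.1 c.2)
  obtain ⟨u, hu⟩ := skolemNoether_aut (Subring.center A) A φ'
  exact ⟨u, fun a => hu a⟩

end Groth.Agent.Helper8
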