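import Mathlib
import Groth.Agent.Lib.Helper7.Azumaya.BaseChange
import Groth.Agent.Lib.Helper8.SkolemNoether

/-!
# Azumaya algebras and their fibres

A finite projective algebra is Azumaya iff all its fibres over residue fields are central simple.
-/

set_option autoImplicit false

namespace Groth.Agent.Helper8

open TensorProduct

section Fibre

variable {R : Type*} [CommRing R]

/-- A finite module all of whose fibres vanish is zero. -/
theorem subsingleton_of_forall_residueField_tensor {M : Type*} [AddCommGroup M] [Module R M]
    [Module.Finite R M]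
    (h : ∀ (p : Ideal R) [p.IsPrime], Subsingleton (p.ResidueField ⊗[R] M)) : Subsingleton M := by
  rw [← Module.support_eq_empty_iff (R := R)]
  ext p
  simp only [Set.mem_empty_iff_false, iff_false]
  rw [Module.mem_support_iff_nontrivial_residueField_tensorProduct]
  exact not_nontrivial_iff_subsingleton.mpr (h p.asIdeal)

/-- Surjectivity can be checked after a family of base changes detecting vanishing of finite
modules. -/
theorem surjective_of_forall_baseChange_surjective_aux {ι : Type*} (κ : ι → Type*)
    [∀ i, CommRing (κ i)] [∀ i, Algebra R (κ i)] {M N : Type*} [AddCommGroup M] [Module R M]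
    [AddCommGroup N] [Module R N] [Module.Finite R N] (φ : M →ₗ[R] N)
    (hcrit : (∀ i, Subsingleton (κ i ⊗[R] (N ⧸ LinearMap.range φ))) →
      Subsingleton (N ⧸ LinearMap.range φ))
    (h : ∀ i, Function.Surjective (φ.baseChange (κ i))) :
    Function.Surjective φ := by
  have hsub : Subsingleton (N ⧸ LinearMap.range φ) := by
    apply hcrit
    intro i
    have hz : ∀ z : κ i ⊗[R] (N ⧸ LinearMap.range φ), z = 0 := by
      intro z
      obtain ⟨w, rfl⟩ := LinearMap.lTensor_surjective (κ i)
        (Submodule.mkQ_surjective (LinearMap.range φ)) z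
      obtain ⟨u, rfl⟩ := h i w
      rw [LinearMap.baseChange_eq_ltensor, ← LinearMap.comp_apply, ← LinearMap.lTensor_comp]
      have h0 : (LinearMap.range φ).mkQ ∘ₗ φ = 0 := by
        ext m
        simp
      rw [h0, LinearMap.lTensor_zero, LinearMap.zero_apply]
    exact ⟨fun x y => by rw [hz x, hz y]⟩
  rw [← LinearMap.range_eq_top]
  exact Submodule.Quotient.subsingleton_iff.mp hsub

/-- Injectivity of a surjection onto a projective module can be checked after a family of base
changes detecting vanishing of finite modules. -/
theorem injective_of_surjective_of_forall_baseChange_injective_aux {ι : Type*} (κ : ι → Type*)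
    [∀ i, CommRing (κ i)] [∀ i, Algebra R (κ i)] {P Q : Type*}
    [AddCommGroup P] [Module R P] [Module.Finite R P] [AddCommGroup Q] [Module R Q]
    [Module.Projective R Q] (φ : P →ₗ[R] Q) (hs : Function.Surjective φ)
    (hcrit : Module.Finite R (LinearMap.ker φ) →
      (∀ i, Subsingleton (κ i ⊗[R] (LinearMap.ker φ))) → Subsingleton (LinearMap.ker φ))
    (h : ∀ i, Function.Injective (φ.baseChange (κ i))) :
    Function.Injective φ := by
  obtain ⟨s, hs'⟩ := Module.projective_lifting_property φ LinearMap.id hs
  have hφs : ∀ q, φ (s q) = q := fun q => by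
    have := congrArg (fun F => F q) hs'
    simpa using this
  let π : P →ₗ[R] LinearMap.ker φ := (LinearMap.id - s ∘ₗ φ).codRestrict (LinearMap.ker φ) (by
    intro x
    simp [LinearMap.mem_ker, hφs])
  have hπι : π ∘ₗ (LinearMap.ker φ).subtype = LinearMap.id := by
    ext x
    have hx : φ x.1 = 0 := x.2
    simp [π, hx]
  have hfin : Module.Finite R (LinearMap.ker φ) := Module.Finite.of_surjective π (fun x => ⟨x.1, by
    have := congrArg (fun F => F x) hπι
    simpa using this⟩)
  have hsub : Subsingleton (LinearMap.ker φ) := by
    apply hcrit hfin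
    intro i
    have hz : ∀ z : κ i ⊗[R] (LinearMap.ker φ), z = 0 := by
      intro z
      have h1 : (π.lTensor (κ i)) (((LinearMap.ker φ).subtype.lTensor (κ i)) z)
          = z := by
        rw [← LinearMap.comp_apply, ← LinearMap.lTensor_comp, hπι, LinearMap.lTensor_id,
          LinearMap.id_apply]
      have h2 : ((LinearMap.ker φ).subtype.lTensor (κ i)) z = 0 := by
        apply h i
        rw [map_zero, LinearMap.baseChange_eq_ltensor, ← LinearMap.comp_apply,
          ← LinearMap.lTensor_comp]
        have h0 : φ ∘ₗ (LinearMap.ker φ).subtype = 0 := by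
          ext x
          exact x.2
        rw [h0, LinearMap.lTensor_zero, LinearMap.zero_apply]
      rw [← h1, h2, map_zero]
    exact ⟨fun x y => by rw [hz x, hz y]⟩
  rw [← LinearMap.ker_eq_bot]
  exact Submodule.eq_bot_of_subsingleton

/-- Surjectivity can be checked on fibres. -/
theorem surjective_of_forall_baseChange_surjective {M N : Type*} [AddCommGroup M] [Module R M]
    [AddCommGroup N] [Module R N] [Module.Finite R N] (φ : M →ₗ[R] N)
    (h : ∀ (p : Ideal R) [p.IsPrime], Function.Surjective (φ.baseChange p.ResidueField)) :
    Function.Surjective φ :=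
  surjective_of_forall_baseChange_surjective_aux
    (fun p : PrimeSpectrum R => p.asIdeal.ResidueField) φ
    (fun hsub => subsingleton_of_forall_residueField_tensor (R := R)
      (fun p _ => hsub ⟨p, inferInstance⟩))
    (fun p => h p.asIdeal)

/-- Injectivity of a surjection onto a projective module can be checked on fibres. -/
theorem injective_of_surjective_of_forall_baseChange_injective {P Q : Type*}
    [AddCommGroup P] [Module R P] [Module.Finite R P] [AddCommGroup Q] [Module R Q]
    [Module.Projective R Q] (φ : P →ₗ[R] Q) (hs : Function.Surjective φ)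
    (h : ∀ (p : Ideal R) [p.IsPrime], Function.Injective (φ.baseChange p.ResidueField)) :
    Function.Injective φ :=
  injective_of_surjective_of_forall_baseChange_injective_aux
    (fun p : PrimeSpectrum R => p.asIdeal.ResidueField) φ hs
    (fun hfin hsub => by
      haveI := hfin
      exact subsingleton_of_forall_residueField_tensor (R := R)
        (fun p _ => hsub ⟨p, inferInstance⟩))
    (fun p => h p.asIdeal)

/-- Over a local ring, surjectivity can be checked on the closed fibre. -/
theorem surjective_of_baseChange_residueField_surjective [IsLocalRing R] {M N : Type*}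
    [AddCommGroup M] [Module R M] [AddCommGroup N] [Module R N] [Module.Finite R N]
    (φ : M →ₗ[R] N)
    (h : Function.Surjective (φ.baseChange (IsLocalRing.ResidueField R))) :
    Function.Surjective φ :=
  surjective_of_forall_baseChange_surjective_aux
    (fun _ : Unit => IsLocalRing.ResidueField R) φ
    (fun hsub => IsLocalRing.subsingleton_tensorProduct.mp (hsub ()))
    (fun _ => h)

/-- Over a local ring, injectivity of a surjection onto a projective module can be checked on the
closed fibre. -/
theorem injective_of_surjective_of_baseChange_residueField_injective [IsLocalRing R]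
    {P Q : Type*} [AddCommGroup P] [Module R P] [Module.Finite R P] [AddCommGroup Q] [Module R Q]
    [Module.Projective R Q] (φ : P →ₗ[R] Q) (hs : Function.Surjective φ)
    (h : Function.Injective (φ.baseChange (IsLocalRing.ResidueField R))) :
    Function.Injective φ :=
  injective_of_surjective_of_forall_baseChange_injective_aux
    (fun _ : Unit => IsLocalRing.ResidueField R) φ hs
    (fun hfin hsub => by
      haveI := hfin
      exact IsLocalRing.subsingleton_tensorProduct.mp (hsub ()))
    (fun _ => h)

/-- A finite projective module with non-zero fibres is faithful. -/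
theorem faithfulSMul_of_forall_fibre_nontrivial {A : Type*} [AddCommGroup A] [Module R A]
    [Module.Finite R A] [Module.Projective R A]
    (h : ∀ (p : Ideal R) [p.IsPrime], Nontrivial (p.ResidueField ⊗[R] A)) : FaithfulSMul R A := by
  refine ⟨fun {r₁ r₂} hr => ?_⟩
  have hr0 : ∀ a : A, (r₁ - r₂) • a = 0 := fun a => by rw [sub_smul, hr a, sub_self]
  rw [← sub_eq_zero]
  by_contra hne
  -- the annihilator of r₁ - r₂ is a proper ideal
  have hprop : (Ideal.span {r₁ - r₂}).annihilator ≠ ⊤ := by
    intro htop
    have h1 : (1 : R) ∈ (Ideal.span {r₁ - r₂}).annihilator := htop ▸ Submodule.mem_top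
    rw [Submodule.mem_annihilator_span_singleton] at h1
    exact hne (by simpa using h1)
  obtain ⟨p, hpmax, hle⟩ := Ideal.exists_le_maximal _ hprop
  haveI := hpmax.isPrime
  -- some functional takes a value outside p
  have hex : ∃ (ψ : A →ₗ[R] R) (a : A), ψ a ∉ p := by
    by_contra hcon
    push Not at hcon
    obtain ⟨n, f, g, _, _, hfg⟩ := Module.Finite.exists_comp_eq_id_of_projective R A
    have hz : ∀ a : A, ((1 : p.ResidueField) ⊗ₜ[R] a : p.ResidueField ⊗[R] A) = 0 := by
      intro a
      have ha : a = ∑ i, (g a i) • f (Pi.single i 1) := by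
        have h1 : a = f (g a) := by
          have := congrArg (fun F => F a) hfg
          simpa using this.symm
        have h2 : g a = ∑ i, (g a i) • (Pi.single i (1 : R) : Fin n → R) := by
          ext j
          simp [Finset.sum_apply, Pi.single_apply]
        conv_lhs => rw [h1, h2]
        rw [map_sum]
        exact Finset.sum_congr rfl fun i _ => by rw [map_smul]
      rw [ha, TensorProduct.tmul_sum]
      apply Finset.sum_eq_zero
      intro i _
      have hmem : g a i ∈ p := hcon ((LinearMap.proj i) ∘ₗ g) a
      rw [TensorProduct.tmul_smul, TensorProduct.smul_tmul', Algebra.smul_def, mul_one,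
        (Ideal.algebraMap_residueField_eq_zero).mpr hmem, TensorProduct.zero_tmul]
    have hz' : ∀ z : p.ResidueField ⊗[R] A, z = 0 := by
      intro z
      induction z using TensorProduct.induction_on with
      | zero => rfl
      | tmul x a =>
        have : x ⊗ₜ[R] a = x • ((1 : p.ResidueField) ⊗ₜ[R] a) := by
          rw [TensorProduct.smul_tmul', smul_eq_mul, mul_one]
        rw [this, hz a, smul_zero]
      | add x y hx hy => rw [hx, hy, add_zero]
    obtain ⟨x, y, hxy⟩ := (h p).exists_pair_ne
    exact hxy (by rw [hz' x, hz' y])
  obtain ⟨ψ, a, hψ⟩ := hex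
  apply hψ
  apply hle
  rw [Submodule.mem_annihilator_span_singleton, smul_eq_mul, mul_comm, ← smul_eq_mul, ← map_smul,
    hr0 a, map_zero]

end Fibre

section Az

/-- An Azumaya algebra over a field is a simple ring. -/
theorem isSimpleRing_of_isAzumaya_field (k B : Type*) [Field k] [Ring B] [Algebra k B]
    [IsAzumaya k B] : IsSimpleRing B := by
  haveI : Nontrivial B := by
    have hinj : Function.Injective (algebraMap k B) := FaithfulSMul.algebraMap_injective k B
    exact hinj.nontrivial
  refine ⟨⟨fun I => ?_⟩⟩
  by_contra hI
  push Not at hI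
  obtain ⟨hbot, htop⟩ := hI
  -- a nonzero element of I and an element outside I
  obtain ⟨x, hxI, hx0⟩ : ∃ x, x ∈ I ∧ x ≠ 0 := by
    by_contra hcon
    push Not at hcon
    apply hbot
    rw [eq_bot_iff]
    intro x hx
    rw [TwoSidedIdeal.mem_bot]
    exact hcon x hx
  obtain ⟨y, hyI⟩ : ∃ y, y ∉ I := by
    by_contra hcon
    push Not at hcon
    apply htop
    rw [eq_top_iff]
    intro y _
    exact hcon y
  -- a linear map sending x to y
  obtain ⟨f, hf⟩ := Module.Projective.exists_dual_ne_zero k hx0
  obtain ⟨F, hF⟩ : ∃ F : Module.End k B, F x = y :=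
    ⟨(f x)⁻¹ • (LinearMap.toSpanSingleton k B y ∘ₗ f), by
      simp [LinearMap.toSpanSingleton_apply, smul_smul, inv_mul_cancel₀ hf]⟩
  obtain ⟨t, ht⟩ := (IsAzumaya.bij (R := k) (A := B)).2 F
  -- every map in the image preserves I
  have hpres : ∀ t : B ⊗[k] Bᵐᵒᵖ, ∀ z ∈ I, AlgHom.mulLeftRight k B t z ∈ I := by
    intro t
    induction t using TensorProduct.induction_on with
    | zero => intro z _; simp [I.zero_mem]
    | tmul a b =>
      intro z hz
      rw [AlgHom.mulLeftRight_apply]
      exact I.mul_mem_right _ _ (I.mul_mem_left _ _ hz)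
    | add u v hu hv =>
      intro z hz
      rw [map_add, LinearMap.add_apply]
      exact I.add_mem (hu z hz) (hv z hz)
  apply hyI
  rw [← hF, ← ht]
  exact hpres t x hxI

open Groth.Agent.Helper7.Azumaya in
/-- If a field-valued base change of a finite projective algebra is central simple, then the base
change of `A ⊗ Aᵐᵒᵖ → End A` is bijective. -/
theorem baseChange_mulLeftRight_bijective_of_csa (R : Type*) [CommRing R] (A : Type*) [Ring A]
    [Algebra R A] [Module.Finite R A] [Module.Projective R A] (κ : Type*) [Field κ] [Algebra R κ]
    [Algebra.IsCentral κ (κ ⊗[R] A)] [IsSimpleRing (κ ⊗[R] A)] :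
    Function.Bijective ((AlgHom.mulLeftRight R A).toLinearMap.baseChange κ) := by
  have h1 := mulLeftRight_comp_Phi R κ A
  have h2 : Function.Bijective ((AlgHom.mulLeftRight κ (κ ⊗[R] A)).toLinearMap ∘ₗ
      (Phi R κ A).toLinearMap) := by
    rw [LinearMap.coe_comp]
    exact (mulLeftRight_bijective κ (κ ⊗[R] A)).comp (Phi R κ A).bijective
  rw [h1, LinearMap.coe_comp] at h2
  exact (Function.Bijective.of_comp_iff' (tensorProduct_bijective R κ A A) _).mp h2

/-- A finite projective algebra all of whose fibres are central simple is Azumaya. -/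
theorem isAzumaya_of_forall_fibre_csa (R : Type*) [CommRing R] (A : Type*) [Ring A] [Algebra R A]
    [Module.Finite R A] [Module.Projective R A]
    (h : ∀ (p : Ideal R) [p.IsPrime], Algebra.IsCentral p.ResidueField (p.ResidueField ⊗[R] A) ∧
      IsSimpleRing (p.ResidueField ⊗[R] A)) : IsAzumaya R A := by
  haveI : FaithfulSMul R A := faithfulSMul_of_forall_fibre_nontrivial (R := R) (A := A)
    (fun p _ => by
      haveI := (h p).2
      exact (inferInstance : Nontrivial (p.ResidueField ⊗[R] A)))
  haveI : Module.Finite R Aᵐᵒᵖ := Module.Finite.equiv (MulOpposite.opLinearEquiv R (M := A))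
  haveI : Module.Projective R Aᵐᵒᵖ :=
    Module.Projective.of_equiv (MulOpposite.opLinearEquiv R (M := A))
  haveI : Module.Finite R (Module.End R A) := Module.Finite.equiv (dualTensorHomEquiv R A A)
  haveI : Module.Projective R (Module.End R A) :=
    Module.Projective.of_equiv (dualTensorHomEquiv R A A)
  have hb : ∀ (p : Ideal R) [p.IsPrime],
      Function.Bijective ((AlgHom.mulLeftRight R A).toLinearMap.baseChange p.ResidueField) := by
    intro p _
    haveI := (h p).1
    haveI := (h p).2
    exact baseChange_mulLeftRight_bijective_of_csa R A p.ResidueField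
  have hsurj : Function.Surjective (AlgHom.mulLeftRight R A).toLinearMap :=
    surjective_of_forall_baseChange_surjective _ (fun p _ => (hb p).2)
  have hinj : Function.Injective (AlgHom.mulLeftRight R A).toLinearMap :=
    injective_of_surjective_of_forall_baseChange_injective _ hsurj (fun p _ => (hb p).1)
  exact ⟨⟨hinj, hsurj⟩⟩

/-- Over a local ring, a finite free nonzero algebra whose closed fibre is central simple is
Azumaya. -/
theorem isAzumaya_of_closedFibre_csa (R : Type*) [CommRing R] [IsLocalRing R] (A : Type*) [Ring A]
    [Algebra R A] [Module.Finite R A] [Module.Free R A] [Nontrivial A]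
    [Algebra.IsCentral (IsLocalRing.ResidueField R) (IsLocalRing.ResidueField R ⊗[R] A)]
    [IsSimpleRing (IsLocalRing.ResidueField R ⊗[R] A)] : IsAzumaya R A := by
  haveI : FaithfulSMul R A := inferInstance
  haveI : Module.Finite R Aᵐᵒᵖ := Module.Finite.equiv (MulOpposite.opLinearEquiv R (M := A))
  haveI : Module.Projective R Aᵐᵒᵖ :=
    Module.Projective.of_equiv (MulOpposite.opLinearEquiv R (M := A))
  haveI : Module.Finite R (Module.End R A) := Module.Finite.equiv (dualTensorHomEquiv R A A)
  haveI : Module.Projective R (Module.End R A) :=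
    Module.Projective.of_equiv (dualTensorHomEquiv R A A)
  have hb := baseChange_mulLeftRight_bijective_of_csa R A (IsLocalRing.ResidueField R)
  have hsurj : Function.Surjective (AlgHom.mulLeftRight R A).toLinearMap :=
    surjective_of_baseChange_residueField_surjective _ hb.2
  have hinj : Function.Injective (AlgHom.mulLeftRight R A).toLinearMap :=
    injective_of_surjective_of_baseChange_residueField_injective _ hsurj hb.1
  exact ⟨⟨hinj, hsurj⟩⟩

/-- The fibres of an Azumaya algebra are central simple. -/
theorem fibre_csa_of_isAzumaya (R : Type*) [CommRing R] (A : Type*) [Ring A] [Algebra R A]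
    [IsAzumaya R A] (κ : Type*) [Field κ] [Algebra R κ] :
    Algebra.IsCentral κ (κ ⊗[R] A) ∧ IsSimpleRing (κ ⊗[R] A) := by
  haveI : IsAzumaya κ (κ ⊗[R] A) := Groth.Agent.Helper7.Azumaya.baseChange R κ A
  exact ⟨inferInstance, isSimpleRing_of_isAzumaya_field κ (κ ⊗[R] A)⟩

end Az

end Groth.Agent.Helper8
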