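import Mathlib.RingTheory.SimpleModule.WedderburnArtin
import Mathlib.RingTheory.SimpleModule.Isotypic
import Mathlib.LinearAlgebra.Dimension.Constructions
import Mathlib.LinearAlgebra.FiniteDimensional.Defs
import Mathlib.LinearAlgebra.Dimension.Finite
import Mathlib.LinearAlgebra.Dimension.Free
import Mathlib.LinearAlgebra.FiniteDimensional.Basic

/-!
# Modules over a simple Artinian algebra are classified by their dimension
-/

set_option autoImplicit false

namespace Groth.Agent.Helper8

open Module

universe u v₁ v₂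

variable {k : Type*} [Field k] {S : Type u} [Ring S] [Algebra k S] [IsSimpleRing S]
  [IsArtinianRing S]

/-- Two modules over a simple Artinian `k`-algebra with the same finite `k`-dimension are
isomorphic. -/
theorem nonempty_linearEquiv_of_finrank_eq (M₁ : Type v₁) (M₂ : Type v₂)
    [AddCommGroup M₁] [Module S M₁] [Module k M₁] [IsScalarTower k S M₁]
    [AddCommGroup M₂] [Module S M₂] [Module k M₂] [IsScalarTower k S M₂]
    [FiniteDimensional k M₁] [FiniteDimensional k M₂]
    (h : finrank k M₁ = finrank k M₂) : Nonempty (M₁ ≃ₗ[S] M₂) := by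
  classical
  by_cases h0 : finrank k M₁ = 0
  · have h0' : finrank k M₂ = 0 := h ▸ h0
    haveI : Subsingleton M₁ := Module.finrank_zero_iff.mp h0
    haveI : Subsingleton M₂ := Module.finrank_zero_iff.mp h0'
    exact ⟨{ toFun := fun _ => 0, invFun := fun _ => 0, map_add' := by intros; simp,
             map_smul' := by intros; simp, left_inv := fun _ => Subsingleton.elim _ _,
             right_inv := fun _ => Subsingleton.elim _ _ }⟩
  have h0' : finrank k M₂ ≠ 0 := h ▸ h0
  haveI : Nontrivial M₁ := Module.nontrivial_of_finrank_pos (R := k) (Nat.pos_of_ne_zero h0)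
  haveI : Nontrivial M₂ := Module.nontrivial_of_finrank_pos (R := k) (Nat.pos_of_ne_zero h0')
  haveI : Module.Finite S M₁ := Module.Finite.of_restrictScalars_finite k S M₁
  haveI : Module.Finite S M₂ := Module.Finite.of_restrictScalars_finite k S M₂
  obtain ⟨n₁, _, S₁, hS₁, ⟨e₁⟩⟩ := (IsSimpleRing.isIsotypic S M₁).linearEquiv_fun
  obtain ⟨n₂, _, S₂, hS₂, ⟨e₂⟩⟩ := (IsSimpleRing.isIsotypic S M₂).linearEquiv_fun
  -- the two simple modules are isomorphic
  have hiso : Nonempty (S₁ ≃ₗ[S] S₂) := by
    let m₁ : Submodule S (M₁ × M₂) := S₁.map (LinearMap.inl S M₁ M₂)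
    let m₂ : Submodule S (M₁ × M₂) := S₂.map (LinearMap.inr S M₁ M₂)
    let f₁ : S₁ ≃ₗ[S] m₁ := S₁.equivMapOfInjective _ LinearMap.inl_injective
    let f₂ : S₂ ≃ₗ[S] m₂ := S₂.equivMapOfInjective _ LinearMap.inr_injective
    haveI : IsSimpleModule S m₁ := IsSimpleModule.congr f₁.symm
    haveI : IsSimpleModule S m₂ := IsSimpleModule.congr f₂.symm
    obtain ⟨g⟩ := (IsSimpleRing.isIsotypic S (M₁ × M₂)) m₂ m₁
    exact ⟨f₁.trans (g.trans f₂.symm)⟩
  obtain ⟨φ⟩ := hiso
  -- dimension count
  haveI : Module.Finite k S₁ :=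
    Module.Finite.of_injective (S₁.subtype.restrictScalars k) S₁.subtype_injective
  haveI : Module.Finite k S₂ :=
    Module.Finite.of_injective (S₂.subtype.restrictScalars k) S₂.subtype_injective
  have hd₁ : finrank k M₁ = n₁ * finrank k S₁ := by
    rw [(e₁.restrictScalars k).finrank_eq, Module.finrank_pi_fintype]
    simp
  have hd₂ : finrank k M₂ = n₂ * finrank k S₂ := by
    rw [(e₂.restrictScalars k).finrank_eq, Module.finrank_pi_fintype]
    simp
  have hd : finrank k S₁ = finrank k S₂ := (φ.restrictScalars k).finrank_eq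
  have hn : n₁ = n₂ := by
    rw [hd₁, hd₂, hd] at h
    have hpos : finrank k S₂ ≠ 0 := by
      intro hz
      rw [hd₂, hz, mul_zero] at h0'
      exact h0' rfl
    exact Nat.eq_of_mul_eq_mul_right (Nat.pos_of_ne_zero hpos) h
  subst hn
  exact ⟨e₁.trans ((LinearEquiv.piCongrRight fun _ => φ).trans e₂.symm)⟩

end Groth.Agent.Helper8
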