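import Mathlib
import Groth.Agent.Lib.Helper8.SimpleIso

/-!
# Cancellation of matrix algebras over central simple algebras

`M_n(A) ≃ M_n(A')` implies `A ≃ A'` for finite-dimensional simple algebras.
-/

set_option autoImplicit false

namespace Groth.Agent.Helper8

open Module Matrix

/-- An endomorphism of the set of column vectors `R^n` commuting with all matrices is right
multiplication by a scalar. -/
theorem vec_endo_eq_mul_right {R : Type*} [Ring R] {n : ℕ} (i0 : Fin n)
    (f : (Fin n → R) → (Fin n → R))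
    (hf : ∀ (M : Matrix (Fin n) (Fin n) R) (v : Fin n → R), f (M *ᵥ v) = M *ᵥ f v)
    (v : Fin n → R) (i : Fin n) : f v i = v i * (f (Pi.single i0 1) i0) := by
  classical
  have h1 : f (Pi.single i0 1) = Pi.single i0 (f (Pi.single i0 1) i0) := by
    have h2 : (Matrix.single i0 i0 (1 : R)) *ᵥ (Pi.single i0 (1 : R)) = Pi.single i0 1 := by
      ext j
      rw [Matrix.mulVec_single_one]
      by_cases h : j = i0
      · subst h; simp
      · simp [Matrix.single, Pi.single_apply, h, Ne.symm h]
    have h3 := hf (Matrix.single i0 i0 (1 : R)) (Pi.single i0 1)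
    rw [h2] at h3
    rw [h3]
    ext j
    by_cases h : j = i0
    · subst h
      simp [Matrix.mulVec, dotProduct, Matrix.single, Matrix.of_apply]
    · simp [Matrix.mulVec, dotProduct, Matrix.single, Matrix.of_apply, Pi.single_apply, h,
        Ne.symm h]
  have h4 : v = (Matrix.of fun i j => if j = i0 then v i else 0) *ᵥ (Pi.single i0 (1 : R)) := by
    ext j
    simp [Matrix.mulVec_single_one]
  have h5 := hf (Matrix.of fun i j => if j = i0 then v i else 0) (Pi.single i0 1)
  rw [← h4] at h5
  rw [h5, h1]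
  simp [Matrix.mulVec_single]

section

variable {k : Type*} [Field k] {A A' : Type*} [Ring A] [Ring A'] [Algebra k A] [Algebra k A']

/-- A semilinear bijection of the column modules along an isomorphism of matrix algebras yields an
isomorphism of the coefficient algebras. -/
theorem nonempty_algEquiv_of_vec_equiv {n : ℕ} (i0 : Fin n)
    (e : Matrix (Fin n) (Fin n) A ≃ₐ[k] Matrix (Fin n) (Fin n) A')
    (ψ : (Fin n → A) ≃+ (Fin n → A'))
    (hψ : ∀ (M : Matrix (Fin n) (Fin n) A) (v : Fin n → A), ψ (M *ᵥ v) = e M *ᵥ ψ v) :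
    Nonempty (A ≃ₐ[k] A') := by
  classical
  have hψ' : ∀ (M : Matrix (Fin n) (Fin n) A') (v : Fin n → A'),
      ψ.symm (M *ᵥ v) = e.symm M *ᵥ ψ.symm v := by
    intro M v
    apply ψ.injective
    rw [hψ, AddEquiv.apply_symm_apply, AlgEquiv.apply_symm_apply, AddEquiv.apply_symm_apply]
  -- the transported right multiplications
  have key : ∀ a : A, ∀ (v : Fin n → A) (i : Fin n),
      ψ (fun j => v j * a) i = ψ v i * (ψ (fun j => ψ.symm (Pi.single i0 1) j * a) i0) := by
    intro a v i
    have := vec_endo_eq_mul_right i0 (fun w => ψ (fun j => ψ.symm w j * a)) (by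
      intro M w
      rw [hψ']
      conv_rhs => rw [← e.apply_symm_apply M, ← hψ]
      congr 1
      ext j
      simp only [Matrix.mulVec, dotProduct, Finset.sum_mul, mul_assoc]) (ψ v) i
    simpa using this
  have key' : ∀ a : A', ∀ (v : Fin n → A') (i : Fin n),
      ψ.symm (fun j => v j * a) i =
        ψ.symm v i * (ψ.symm (fun j => ψ (Pi.single i0 1) j * a) i0) := by
    intro a v i
    have := vec_endo_eq_mul_right i0 (fun w => ψ.symm (fun j => ψ w j * a)) (by
      intro M w
      rw [hψ]
      conv_rhs => rw [← e.symm_apply_apply M, ← hψ']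
      congr 1
      ext j
      simp only [Matrix.mulVec, dotProduct, Finset.sum_mul, mul_assoc]) (ψ.symm v) i
    simpa using this
  obtain ⟨θ, hθ⟩ : ∃ θ : A → A', ∀ a, θ a = ψ (fun j => ψ.symm (Pi.single i0 1) j * a) i0 :=
    ⟨_, fun _ => rfl⟩
  obtain ⟨θ', hθ'⟩ : ∃ θ' : A' → A, ∀ a, θ' a = ψ.symm (fun j => ψ (Pi.single i0 1) j * a) i0 :=
    ⟨_, fun _ => rfl⟩
  have hk : ∀ (a : A) (v : Fin n → A), ψ (fun j => v j * a) = fun j => ψ v j * θ a := by
    intro a v; ext i; rw [key a v i, hθ]
  have hk' : ∀ (a : A') (v : Fin n → A'), ψ.symm (fun j => v j * a) = fun j => ψ.symm v j * θ' a := by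
    intro a v; ext i; rw [key' a v i, hθ']
  -- evaluation trick
  have ev : ∀ b c : A', (∀ v : Fin n → A', (fun j => v j * b) = fun j => v j * c) → b = c := by
    intro b c h
    have := congrFun (h (Pi.single i0 1)) i0
    simpa using this
  have ev' : ∀ b c : A, (∀ v : Fin n → A, (fun j => v j * b) = fun j => v j * c) → b = c := by
    intro b c h
    have := congrFun (h (Pi.single i0 1)) i0
    simpa using this
  have hmul : ∀ a b, θ (a * b) = θ a * θ b := by
    intro a b
    apply ev
    intro v
    obtain ⟨w, rfl⟩ := ψ.surjective v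
    rw [← hk]
    have : (fun j => w j * (a * b)) = fun j => (fun j => w j * a) j * b := by
      ext j; simp only [mul_assoc]
    rw [this, hk, hk]
    ext j; simp only [mul_assoc]
  have hadd : ∀ a b, θ (a + b) = θ a + θ b := by
    intro a b
    apply ev
    intro v
    obtain ⟨w, rfl⟩ := ψ.surjective v
    rw [← hk]
    have : (fun j => w j * (a + b)) = (fun j => w j * a) + (fun j => w j * b) := by
      ext j; simp only [mul_add, Pi.add_apply]
    rw [this, map_add, hk, hk]
    ext j; simp only [mul_add, Pi.add_apply]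
  have halg : ∀ c : k, θ (algebraMap k A c) = algebraMap k A' c := by
    intro c
    apply ev
    intro v
    obtain ⟨w, rfl⟩ := ψ.surjective v
    rw [← hk]
    have h1 : (fun j => w j * algebraMap k A c) =
        (algebraMap k (Matrix (Fin n) (Fin n) A) c) *ᵥ w := by
      rw [show algebraMap k (Matrix (Fin n) (Fin n) A) c = c • (1 : Matrix (Fin n) (Fin n) A) from
        Algebra.algebraMap_eq_smul_one c, Matrix.smul_mulVec, Matrix.one_mulVec]
      ext j
      rw [Pi.smul_apply, ← Algebra.commutes, Algebra.smul_def]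
    rw [h1, hψ, AlgEquiv.commutes,
      show algebraMap k (Matrix (Fin n) (Fin n) A') c = c • (1 : Matrix (Fin n) (Fin n) A') from
        Algebra.algebraMap_eq_smul_one c, Matrix.smul_mulVec, Matrix.one_mulVec]
    ext j
    rw [Pi.smul_apply, ← Algebra.commutes, Algebra.smul_def]
  have hinv1 : ∀ a, θ' (θ a) = a := by
    intro a
    apply ev'
    intro v
    have h := hk' (θ a) (ψ v)
    rw [← hk, AddEquiv.symm_apply_apply, AddEquiv.symm_apply_apply] at h
    exact h.symm
  have hinv2 : ∀ a, θ (θ' a) = a := by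
    intro a
    apply ev
    intro v
    have h := hk (θ' a) (ψ.symm v)
    rw [← hk', AddEquiv.apply_symm_apply, AddEquiv.apply_symm_apply] at h
    exact h.symm
  exact ⟨{ toFun := θ, invFun := θ', left_inv := hinv1, right_inv := hinv2,
           map_mul' := hmul, map_add' := hadd, commutes' := halg }⟩

/-- Cancellation: `M_n(A) ≃ M_n(A')` implies `A ≃ A'` for finite-dimensional simple algebras. -/
theorem nonempty_algEquiv_of_matrix_algEquiv [IsSimpleRing A] [FiniteDimensional k A]
    [FiniteDimensional k A'] {n : ℕ} (hn : n ≠ 0)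
    (e : Matrix (Fin n) (Fin n) A ≃ₐ[k] Matrix (Fin n) (Fin n) A') :
    Nonempty (A ≃ₐ[k] A') := by
  classical
  obtain ⟨m, rfl⟩ : ∃ m, n = m + 1 := ⟨n - 1, by omega⟩
  have hdimB : finrank k (Matrix (Fin (m + 1)) (Fin (m + 1)) A) =
      finrank k (Matrix (Fin (m + 1)) (Fin (m + 1)) A') := e.toLinearEquiv.finrank_eq
  rw [Module.finrank_matrix, Module.finrank_matrix] at hdimB
  simp only [Fintype.card_fin] at hdimB
  have hdimA : finrank k A = finrank k A' :=
    Nat.eq_of_mul_eq_mul_left (by positivity : 0 < (m + 1) * (m + 1)) hdimB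
  haveI : IsArtinianRing (Matrix (Fin (m + 1)) (Fin (m + 1)) A) :=
    IsArtinianRing.of_finite k _
  letI inst1 : Module (Matrix (Fin (m + 1)) (Fin (m + 1)) A) (Fin (m + 1) → A') :=
    Module.compHom (Fin (m + 1) → A') (e : Matrix (Fin (m + 1)) (Fin (m + 1)) A →+*
      Matrix (Fin (m + 1)) (Fin (m + 1)) A')
  haveI : IsScalarTower k (Matrix (Fin (m + 1)) (Fin (m + 1)) A) (Fin (m + 1) → A') :=
    ⟨fun c M v => by
      change (e (c • M)) *ᵥ v = c • (e M *ᵥ v)
      rw [map_smul, Matrix.smul_mulVec]⟩
  have hdim : finrank k (Fin (m + 1) → A) = finrank k (Fin (m + 1) → A') := by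
    rw [Module.finrank_pi_fintype, Module.finrank_pi_fintype]
    simp only [hdimA]
  obtain ⟨ψ⟩ := nonempty_linearEquiv_of_finrank_eq (k := k)
    (S := Matrix (Fin (m + 1)) (Fin (m + 1)) A) (Fin (m + 1) → A) (Fin (m + 1) → A') hdim
  exact nonempty_algEquiv_of_vec_equiv (0 : Fin (m + 1)) e ψ.toAddEquiv
    (fun M v => ψ.map_smul M v)

end

end Groth.Agent.Helper8
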