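import Mathlib.Algebra.Central.Defs
import Mathlib.Algebra.Central.Basic
import Mathlib.Algebra.Central.TensorProduct
import Mathlib.RingTheory.SimpleRing.Basic
import Mathlib.RingTheory.TwoSidedIdeal.Operations
import Mathlib.LinearAlgebra.TensorProduct.Basis
import Mathlib.RingTheory.TensorProduct.Basic
import Mathlib.LinearAlgebra.Basis.VectorSpace

/-!
Central simple algebras: the tensor product of a central simple algebra with a simple algebra
is simple.
-/

set_option autoImplicit false

namespace Groth.Agent.Helper8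

open TensorProduct

section Coord

variable {k A B ι : Type*} [Field k] [Ring A] [Ring B] [Algebra k A] [Algebra k B]
  [DecidableEq ι] (𝒞 : Module.Basis ι k B)

lemma coord_mul_left (x : A) (z : A ⊗[k] B) (j : ι) :
    TensorProduct.equivFinsuppOfBasisRight 𝒞 ((x ⊗ₜ[k] (1 : B)) * z) j
      = x * TensorProduct.equivFinsuppOfBasisRight 𝒞 z j := by
  induction z using TensorProduct.induction_on with
  | zero => simp
  | tmul m n =>
    rw [Algebra.TensorProduct.tmul_mul_tmul, one_mul,
      TensorProduct.equivFinsuppOfBasisRight_apply_tmul_apply,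
      TensorProduct.equivFinsuppOfBasisRight_apply_tmul_apply, mul_smul_comm]
  | add a b ha hb => simp only [mul_add, map_add, Finsupp.add_apply, ha, hb]

lemma coord_mul_right (y : A) (z : A ⊗[k] B) (j : ι) :
    TensorProduct.equivFinsuppOfBasisRight 𝒞 (z * (y ⊗ₜ[k] (1 : B))) j
      = TensorProduct.equivFinsuppOfBasisRight 𝒞 z j * y := by
  induction z using TensorProduct.induction_on with
  | zero => simp
  | tmul m n =>
    rw [Algebra.TensorProduct.tmul_mul_tmul, mul_one,
      TensorProduct.equivFinsuppOfBasisRight_apply_tmul_apply,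
      TensorProduct.equivFinsuppOfBasisRight_apply_tmul_apply, smul_mul_assoc]
  | add a b ha hb => simp only [add_mul, map_add, Finsupp.add_apply, ha, hb]

end Coord

section Simple

variable {k A B : Type*} [Field k] [Ring A] [Ring B] [Algebra k A] [Algebra k B]

/-- Key step: a nonzero two-sided ideal of `A ⊗ B` (with `A` central simple) contains a nonzero
pure tensor `1 ⊗ b`. -/
theorem exists_one_tmul_mem_of_ne_bot [Algebra.IsCentral k A] [IsSimpleRing A]
    (I : TwoSidedIdeal (A ⊗[k] B)) (hI : I ≠ ⊥) :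
    ∃ b : B, b ≠ 0 ∧ ((1 : A) ⊗ₜ[k] b) ∈ I := by
  classical
  let ι := Module.Basis.ofVectorSpaceIndex k B
  let 𝒞 : Module.Basis ι k B := Module.Basis.ofVectorSpace k B
  let φ := TensorProduct.equivFinsuppOfBasisRight (M := A) 𝒞
  -- strong induction on the size of the support
  have key : ∀ n : ℕ, ∀ z : A ⊗[k] B, z ∈ I → z ≠ 0 → (φ z).support.card = n →
      ∃ b : B, b ≠ 0 ∧ ((1 : A) ⊗ₜ[k] b) ∈ I := by
    intro n
    induction n using Nat.strong_induction_on with
    | _ n ih =>
    intro z hzI hz0 hcard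
    have hφz : φ z ≠ 0 := fun h => hz0 (φ.map_eq_zero_iff.mp h)
    obtain ⟨j₀, hj₀⟩ : (φ z).support.Nonempty := Finsupp.support_nonempty_iff.mpr hφz
    -- the ideal of A of possible j₀-coefficients
    let J : TwoSidedIdeal A := TwoSidedIdeal.mk'
      {a | ∃ z' ∈ I, (φ z').support ⊆ (φ z).support ∧ φ z' j₀ = a}
      ⟨0, I.zero_mem, by simp, by simp⟩
      (by
        rintro a b ⟨z₁, h₁, hs₁, rfl⟩ ⟨z₂, h₂, hs₂, rfl⟩
        refine ⟨z₁ + z₂, I.add_mem h₁ h₂, ?_, by simp⟩
        rw [map_add]
        exact (Finsupp.support_add).trans (Finset.union_subset hs₁ hs₂))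
      (by
        rintro a ⟨z₁, h₁, hs₁, rfl⟩
        refine ⟨-z₁, I.neg_mem h₁, ?_, by simp⟩
        rw [map_neg, Finsupp.support_neg]
        exact hs₁)
      (by
        rintro x a ⟨z₁, h₁, hs₁, rfl⟩
        refine ⟨(x ⊗ₜ[k] (1 : B)) * z₁, I.mul_mem_left _ _ h₁, ?_, coord_mul_left 𝒞 x z₁ j₀⟩
        intro j hj
        apply hs₁
        rw [Finsupp.mem_support_iff] at hj ⊢
        intro h0
        apply hj
        show φ _ j = 0
        rw [coord_mul_left 𝒞 x z₁ j]
        show x * φ z₁ j = 0
        rw [h0, mul_zero])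
      (by
        rintro a y ⟨z₁, h₁, hs₁, rfl⟩
        refine ⟨z₁ * (y ⊗ₜ[k] (1 : B)), I.mul_mem_right _ _ h₁, ?_, coord_mul_right 𝒞 y z₁ j₀⟩
        intro j hj
        apply hs₁
        rw [Finsupp.mem_support_iff] at hj ⊢
        intro h0
        apply hj
        show φ _ j = 0
        rw [coord_mul_right 𝒞 y z₁ j]
        show φ z₁ j * y = 0
        rw [h0, zero_mul])
    have hJ : (1 : A) ∈ J := by
      apply IsSimpleRing.one_mem_of_ne_zero_mem J (Finsupp.mem_support_iff.mp hj₀)
      rw [TwoSidedIdeal.mem_mk']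
      exact ⟨z, hzI, subset_rfl, rfl⟩
    rw [TwoSidedIdeal.mem_mk'] at hJ
    obtain ⟨z', hz'I, hs', h1⟩ := hJ
    -- commutators have smaller support
    by_cases hcomm : ∀ a : A, (a ⊗ₜ[k] (1 : B)) * z' - z' * (a ⊗ₜ[k] (1 : B)) = 0
    · -- all coefficients of z' are central
      have hcent : ∀ j, φ z' j ∈ Subalgebra.center k A := by
        intro j
        rw [Subalgebra.mem_center_iff]
        intro a
        have := congrArg (fun w => φ w j) (hcomm a)
        simp only [map_sub, Finsupp.sub_apply, map_zero, Finsupp.zero_apply] at this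
        have h2 : φ ((a ⊗ₜ[k] (1 : B)) * z') j = a * φ z' j := coord_mul_left 𝒞 a z' j
        have h3 : φ (z' * (a ⊗ₜ[k] (1 : B))) j = φ z' j * a := coord_mul_right 𝒞 a z' j
        rw [h2, h3] at this
        exact sub_eq_zero.mp this
      have hc : ∀ j, ∃ c : k, φ z' j = algebraMap k A c := fun j =>
        (Algebra.IsCentral.mem_center_iff (K := k)).mp (hcent j)
      choose c hc using hc
      let b : B := ∑ j ∈ (φ z').support, c j • 𝒞 j
      have hz'eq : z' = (1 : A) ⊗ₜ[k] b := by
        have h4 : z' = φ.symm (φ z') := (φ.symm_apply_apply z').symm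
        rw [h4, TensorProduct.equivFinsuppOfBasisRight_symm_apply, Finsupp.sum,
          TensorProduct.tmul_sum]
        apply Finset.sum_congr rfl
        intro j _
        rw [hc j, Algebra.algebraMap_eq_smul_one, TensorProduct.smul_tmul]
      have hz'0 : z' ≠ 0 := by
        intro h
        rw [h, map_zero, Finsupp.zero_apply] at h1
        exact one_ne_zero h1.symm
      refine ⟨b, ?_, hz'eq ▸ hz'I⟩
      intro hb
      rw [hb, TensorProduct.tmul_zero] at hz'eq
      exact hz'0 hz'eq
    · push Not at hcomm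
      obtain ⟨a, ha⟩ := hcomm
      set w := (a ⊗ₜ[k] (1 : B)) * z' - z' * (a ⊗ₜ[k] (1 : B)) with hw
      have hwI : w ∈ I := I.sub_mem (I.mul_mem_left _ _ hz'I) (I.mul_mem_right _ _ hz'I)
      have hwj : ∀ j, φ w j = a * φ z' j - φ z' j * a := by
        intro j
        rw [hw, map_sub, Finsupp.sub_apply]
        have h2 : φ ((a ⊗ₜ[k] (1 : B)) * z') j = a * φ z' j := coord_mul_left 𝒞 a z' j
        have h3 : φ (z' * (a ⊗ₜ[k] (1 : B))) j = φ z' j * a := coord_mul_right 𝒞 a z' j
        rw [h2, h3]
      have hsupp : (φ w).support ⊆ (φ z).support.erase j₀ := by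
        intro j hj
        rw [Finsupp.mem_support_iff, hwj j] at hj
        rw [Finset.mem_erase]
        constructor
        · rintro rfl
          apply hj
          rw [h1, mul_one, one_mul, sub_self]
        · apply hs'
          rw [Finsupp.mem_support_iff]
          intro h0
          apply hj
          rw [h0, mul_zero, zero_mul, sub_self]
      have hlt : (φ w).support.card < n := by
        calc (φ w).support.card ≤ ((φ z).support.erase j₀).card := Finset.card_le_card hsupp
          _ < (φ z).support.card := Finset.card_erase_lt_of_mem hj₀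
          _ = n := hcard
      exact ih _ hlt w hwI ha rfl
  obtain ⟨z, hzI, hz0⟩ : ∃ z ∈ I, z ≠ 0 := by
    by_contra hcon
    push Not at hcon
    apply hI
    rw [eq_bot_iff]
    intro z hz
    rw [TwoSidedIdeal.mem_bot]
    exact hcon z hz
  exact key _ z hzI hz0 rfl

/-- The tensor product of a central simple algebra and a simple algebra is simple. -/
theorem isSimpleRing_tensor (k A B : Type*) [Field k] [Ring A] [Ring B] [Algebra k A]
    [Algebra k B] [Algebra.IsCentral k A] [IsSimpleRing A] [IsSimpleRing B] :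
    IsSimpleRing (A ⊗[k] B) := by
  have hnt : Nontrivial (A ⊗[k] B) := by
    have hinj : Function.Injective (Algebra.TensorProduct.includeLeft : A →ₐ[k] A ⊗[k] B) :=
      Algebra.TensorProduct.includeLeft_injective (FaithfulSMul.algebraMap_injective k B)
    exact hinj.nontrivial
  apply IsSimpleRing.of_eq_bot_or_eq_top
  intro I
  by_cases hI : I = ⊥
  · exact Or.inl hI
  right
  obtain ⟨b, hb0, hbI⟩ := exists_one_tmul_mem_of_ne_bot I hI
  let J : TwoSidedIdeal B := TwoSidedIdeal.mk' {b' | ((1 : A) ⊗ₜ[k] b') ∈ I}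
    (by simp [I.zero_mem])
    (by intro x y hx hy; simp only [Set.mem_setOf_eq, TensorProduct.tmul_add]; exact I.add_mem hx hy)
    (by intro x hx; simp only [Set.mem_setOf_eq, TensorProduct.tmul_neg]; exact I.neg_mem hx)
    (by
      intro x y hy
      have : ((1 : A) ⊗ₜ[k] (x * y)) = ((1 : A) ⊗ₜ[k] x) * ((1 : A) ⊗ₜ[k] y) := by
        rw [Algebra.TensorProduct.tmul_mul_tmul, one_mul]
      simp only [Set.mem_setOf_eq, this]
      exact I.mul_mem_left _ _ hy)
    (by
      intro x y hx
      have : ((1 : A) ⊗ₜ[k] (x * y)) = ((1 : A) ⊗ₜ[k] x) * ((1 : A) ⊗ₜ[k] y) := by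
        rw [Algebra.TensorProduct.tmul_mul_tmul, one_mul]
      simp only [Set.mem_setOf_eq, this]
      exact I.mul_mem_right _ _ hx)
  have h1 : (1 : B) ∈ J := by
    apply IsSimpleRing.one_mem_of_ne_zero_mem J hb0
    rw [TwoSidedIdeal.mem_mk']
    exact hbI
  rw [TwoSidedIdeal.mem_mk'] at h1
  rw [← TwoSidedIdeal.one_mem_iff]
  exact h1

end Simple

end Groth.Agent.Helper8
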