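import Groth.Agent.Lib.Helper8.SimpleIso
import Groth.Agent.Lib.Helper8.CSA
import Mathlib.Algebra.Central.Basic
import Mathlib.RingTheory.TensorProduct.Basic
import Mathlib.RingTheory.SimpleRing.Basic
import Mathlib.RingTheory.Artinian.Module

/-!
# The Skolem–Noether theorem for homomorphisms from a simple algebra
-/

set_option autoImplicit false

namespace Groth.Agent.Helper8

open TensorProduct MulOpposite

variable {k A B : Type*} [Field k] [Ring A] [Algebra k A] [Ring B] [Algebra k B]

/-- `A` as an `Aᵐᵒᵖ ⊗ B`-module, `B` acting on the left through `h`. -/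
def TwistMod (_h : B →ₐ[k] A) : Type _ := A

namespace TwistMod

variable (h : B →ₐ[k] A)

instance : AddCommGroup (TwistMod h) := inferInstanceAs (AddCommGroup A)
instance : Module k (TwistMod h) := inferInstanceAs (Module k A)
instance : Module Aᵐᵒᵖ (TwistMod h) := inferInstanceAs (Module Aᵐᵒᵖ A)
instance : Module B (TwistMod h) := Module.compHom A h.toRingHom

/-- the underlying element -/
def toA (v : TwistMod h) : A := v
/-- from the underlying element -/
def ofA (a : A) : TwistMod h := a

lemma smul_op_def (a : Aᵐᵒᵖ) (v : TwistMod h) : (a • v : TwistMod h) = ofA h (toA h v * a.unop) :=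
  rfl

lemma smul_B_def (b : B) (v : TwistMod h) : (b • v : TwistMod h) = ofA h (h b * toA h v) := rfl

lemma smul_k_def (c : k) (v : TwistMod h) : (c • v : TwistMod h) = ofA h (c • toA h v) := rfl

instance : IsScalarTower k Aᵐᵒᵖ (TwistMod h) where
  smul_assoc c a v := by
    show toA h v * (c • a).unop = c • (toA h v * a.unop)
    rw [MulOpposite.unop_smul, mul_smul_comm]

instance : IsScalarTower k B (TwistMod h) where
  smul_assoc c b v := by
    show h (c • b) * toA h v = c • (h b * toA h v)
    rw [map_smul, smul_mul_assoc]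

instance : SMulCommClass Aᵐᵒᵖ B (TwistMod h) where
  smul_comm a b v := by
    show h b * toA h v * a.unop = h b * (toA h v * a.unop)
    rw [mul_assoc]

noncomputable instance : Module (Aᵐᵒᵖ ⊗[k] B) (TwistMod h) := TensorProduct.Algebra.module

lemma tmul_smul_def (a : Aᵐᵒᵖ) (b : B) (v : TwistMod h) :
    ((a ⊗ₜ[k] b) • v : TwistMod h) = ofA h (h b * toA h v * a.unop) := rfl

instance instTowerTensor : @IsScalarTower k (Aᵐᵒᵖ ⊗[k] B) (TwistMod h) Algebra.toSMul _ _ where
  smul_assoc c x v := by
    change ((c • x : Aᵐᵒᵖ ⊗[k] B) • v : TwistMod h) = c • (x • v)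
    induction x using TensorProduct.induction_on with
    | zero =>
      have e1 : ((0 : Aᵐᵒᵖ ⊗[k] B) • v : TwistMod h) = 0 := zero_smul (Aᵐᵒᵖ ⊗[k] B) v
      rw [smul_zero, e1, smul_zero]
    | tmul a b =>
      rw [TensorProduct.smul_tmul', tmul_smul_def, tmul_smul_def, smul_k_def]
      show h b * toA h v * (c • a).unop = c • (h b * toA h v * a.unop)
      rw [MulOpposite.unop_smul, mul_smul_comm]
    | add x y hx hy => rw [smul_add, add_smul, add_smul, hx, hy, smul_add]

instance [FiniteDimensional k A] : FiniteDimensional k (TwistMod h) :=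
  inferInstanceAs (FiniteDimensional k A)

end TwistMod

/-- **Skolem–Noether**: two homomorphisms from a simple algebra to a central simple algebra are
conjugate. -/
theorem skolemNoether_algHom [Algebra.IsCentral k A] [IsSimpleRing A] [FiniteDimensional k A]
    [IsSimpleRing B] [FiniteDimensional k B] (f g : B →ₐ[k] A) :
    ∃ u : Aˣ, ∀ b : B, g b = (u : A) * f b * ((u⁻¹ : Aˣ) : A) := by
  haveI : IsSimpleRing (Aᵐᵒᵖ ⊗[k] B) := isSimpleRing_tensor k Aᵐᵒᵖ B
  haveI : IsArtinianRing (Aᵐᵒᵖ ⊗[k] B) := IsArtinianRing.of_finite k _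
  have hfin : Module.finrank k (TwistMod f) = Module.finrank k (TwistMod g) := rfl
  obtain ⟨θ⟩ := nonempty_linearEquiv_of_finrank_eq (k := k) (S := Aᵐᵒᵖ ⊗[k] B)
    (TwistMod f) (TwistMod g) hfin
  -- the key relation
  have hkey : ∀ (a : A) (b : B) (v : A),
      TwistMod.toA g (θ (TwistMod.ofA f (f b * v * a)))
        = g b * TwistMod.toA g (θ (TwistMod.ofA f v)) * a := by
    intro a b v
    have := θ.map_smul ((op a) ⊗ₜ[k] b) (TwistMod.ofA f v)
    rw [TwistMod.tmul_smul_def, TwistMod.tmul_smul_def] at this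
    exact this
  have hkey' : ∀ (a : A) (b : B) (v : A),
      TwistMod.toA f (θ.symm (TwistMod.ofA g (g b * v * a)))
        = f b * TwistMod.toA f (θ.symm (TwistMod.ofA g v)) * a := by
    intro a b v
    have := θ.symm.map_smul ((op a) ⊗ₜ[k] b) (TwistMod.ofA g v)
    rw [TwistMod.tmul_smul_def, TwistMod.tmul_smul_def] at this
    exact this
  obtain ⟨c, hc⟩ : ∃ c : A, c = TwistMod.toA g (θ (TwistMod.ofA f 1)) := ⟨_, rfl⟩
  obtain ⟨c', hc'⟩ : ∃ c' : A, c' = TwistMod.toA f (θ.symm (TwistMod.ofA g 1)) := ⟨_, rfl⟩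
  have h1 : ∀ v : A, TwistMod.toA g (θ (TwistMod.ofA f v)) = c * v := by
    intro v
    have := hkey v 1 1
    rw [map_one, map_one, one_mul, one_mul, one_mul] at this
    rw [hc]; exact this
  have h2 : ∀ b : B, TwistMod.toA g (θ (TwistMod.ofA f (f b))) = g b * c := by
    intro b
    have := hkey 1 b 1
    rw [mul_one, mul_one, mul_one] at this
    rw [hc]; exact this
  have h1' : ∀ v : A, TwistMod.toA f (θ.symm (TwistMod.ofA g v)) = c' * v := by
    intro v
    have := hkey' v 1 1
    rw [map_one, map_one, one_mul, one_mul, one_mul] at this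
    rw [hc']; exact this
  have hcc' : c * c' = 1 := by
    have := h1 c'
    rw [hc'] at this
    have e : θ (TwistMod.ofA f (TwistMod.toA f (θ.symm (TwistMod.ofA g 1)))) = TwistMod.ofA g 1 :=
      θ.apply_symm_apply _
    rw [e] at this
    rw [hc']
    exact this.symm
  have hc'c : c' * c = 1 := by
    have := h1' c
    rw [hc] at this
    have e : θ.symm (TwistMod.ofA g (TwistMod.toA g (θ (TwistMod.ofA f 1)))) = TwistMod.ofA f 1 :=
      θ.symm_apply_apply _
    rw [e] at this
    rw [hc]
    exact this.symm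
  refine ⟨⟨c, c', hcc', hc'c⟩, fun b => ?_⟩
  show g b = c * f b * c'
  have h3 : c * f b = g b * c := by rw [← h1, h2]
  rw [h3, mul_assoc, hcc', mul_one]

end Groth.Agent.Helper8
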