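import Groth.Agent.Lib.Helper8.LC7
import Groth.Prelude.Def_DRing3

set_option autoImplicit false
universe u
open CategoryTheory CategoryTheory.Limits Opposite

namespace Groth.Agent.Helper8.LC

variable {R : Type u} [CommRing R] (J : Ideal R) (i : ℕ)

open Abelian localCohomology

section Desc

variable {M : ModuleCat.{u} R} {N : Type*} [AddCommGroup N] [Module R N]
  (g : ∀ n : ℕ, Abelian.Ext (Q J n) M i →ₗ[R] N)
  (hg : ∀ (n k : ℕ) (h : n ≤ k) (e : Abelian.Ext (Q J n) M i),
    g k ((Ext.mk₀ (proj J h)).comp e (zero_add i)) = g n e)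

/-- underlying function of `desc`. -/
noncomputable def descFun (x : (localCohomology J i).obj M) : N :=
  g (ι_rep J i M x).choose (ι_rep J i M x).choose_spec.choose

include hg in
lemma descFun_ι {n : ℕ} (e : Abelian.Ext (Q J n) M i) :
    descFun J i g (ι J i n M e) = g n e := by
  unfold descFun
  set x := ι J i n M e with hx
  have hspec := (ι_rep J i M x).choose_spec.choose_spec
  set n' := (ι_rep J i M x).choose
  set e' := (ι_rep J i M x).choose_spec.choose
  obtain ⟨k, hn, hm, hk⟩ := (ι_eq_iff J i M e' e).mp hspec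
  rw [← hg n' k hn, ← hg n k hm, hk]

/-- a compatible family of linear maps out of the Ext groups induces a map out of local
cohomology. -/
noncomputable def desc : (localCohomology J i).obj M →ₗ[R] N where
  toFun := descFun J i g
  map_add' x y := by
    obtain ⟨n, e, rfl⟩ := ι_rep J i M x
    obtain ⟨m, e', rfl⟩ := ι_rep J i M y
    have hn : n ≤ max n m := le_max_left _ _
    have hm : m ≤ max n m := le_max_right _ _
    rw [← ι_trans J i hn, ← ι_trans J i hm, ← map_add, descFun_ι J i g hg, descFun_ι J i g hg,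
      descFun_ι J i g hg, map_add]
  map_smul' r x := by
    obtain ⟨n, e, rfl⟩ := ι_rep J i M x
    rw [← map_smul, descFun_ι J i g hg, descFun_ι J i g hg, RingHom.id_apply, map_smul]

lemma desc_ι {n : ℕ} (e : Abelian.Ext (Q J n) M i) :
    desc J i g hg (ι J i n M e) = g n e :=
  descFun_ι J i g hg e

end Desc

section Torsion

lemma smul_ext_eq_zero {n : ℕ} {M : ModuleCat.{u} R} (e : Abelian.Ext (Q J n) M i) (a : R)
    (ha : a ∈ J ^ n) : a • e = 0 := by
  have h1 : a • e = (Ext.mk₀ (a • 𝟙 (Q J n))).comp e (zero_add i) := by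
    rw [Ext.mk₀_smul, Ext.smul_comp, Ext.mk₀_id_comp]
  have h2 : a • 𝟙 (Q J n) = 0 := by
    apply ModuleCat.hom_ext
    apply LinearMap.ext
    intro x
    obtain ⟨x, rfl⟩ := Submodule.Quotient.mk_surjective _ x
    change a • (Submodule.Quotient.mk x : R ⧸ J ^ n) = 0
    rw [← Submodule.Quotient.mk_smul, Submodule.Quotient.mk_eq_zero, smul_eq_mul]
    exact Ideal.mul_mem_right _ _ ha
  rw [h1, h2, Ext.mk₀_zero, Ext.zero_comp]

lemma isPowerTorsion (M : ModuleCat.{u} R) (x : (localCohomology J i).obj M) :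
    ∃ n : ℕ, ∀ a ∈ J ^ n, a • x = 0 := by
  obtain ⟨n, e, rfl⟩ := ι_rep J i M x
  refine ⟨n, fun a ha => ?_⟩
  rw [← map_smul, smul_ext_eq_zero J i e a ha, map_zero]

lemma subsingleton_of_injective (M : ModuleCat.{u} R) [Injective M] (hi : 0 < i) :
    Subsingleton ((localCohomology J i).obj M) := by
  refine ⟨fun x y => ?_⟩
  obtain ⟨n, e, rfl⟩ := ι_rep J i M x
  obtain ⟨m, e', rfl⟩ := ι_rep J i M y
  obtain ⟨j, rfl⟩ : ∃ j, i = j + 1 := ⟨i - 1, by omega⟩
  rw [Ext.eq_zero_of_injective e, Ext.eq_zero_of_injective e', map_zero, map_zero]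

end Torsion

end Groth.Agent.Helper8.LC
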