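import Groth.Agent.Lib.Helper8.LC8

set_option autoImplicit false
universe u
open CategoryTheory CategoryTheory.Limits Opposite

namespace Groth.Agent.Helper8.LC

variable {R : Type u} [CommRing R] (J : Ideal R)

open Abelian localCohomology

section H0

variable (M : ModuleCat.{u} R)

/-- the class of `1` in `R / J ^ n`. -/
def one (n : ℕ) : Q J n := (Submodule.Quotient.mk 1 : R ⧸ J ^ n)

lemma proj_one {n k : ℕ} (h : n ≤ k) : (proj J h) (one J k) = one J n := rfl

/-- evaluation at one of a degree zero Ext class. -/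
noncomputable def val (n : ℕ) : Abelian.Ext (Q J n) M 0 →ₗ[R] M where
  toFun e := (Ext.linearEquiv₀ (R := R) e).hom (one J n)
  map_add' e e' := by rw [map_add]; rfl
  map_smul' r e := by rw [map_smul]; rfl

lemma val_mk₀ (n : ℕ) (f : Q J n ⟶ M) : val J M n (Ext.mk₀ f) = f (one J n) := by
  change (Ext.linearEquiv₀ (R := R) (Ext.mk₀ f)).hom (one J n) = _
  have : Ext.linearEquiv₀ (R := R) (Ext.mk₀ f) = f := by
    apply (Ext.linearEquiv₀ (R := R)).symm.injective
    rw [LinearEquiv.symm_apply_apply]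
    rfl
  rw [this]

lemma val_trans {n k : ℕ} (h : n ≤ k) (e : Abelian.Ext (Q J n) M 0) :
    val J M k ((Ext.mk₀ (proj J h)).comp e (zero_add 0)) = val J M n e := by
  obtain ⟨f, rfl⟩ : ∃ f, Ext.mk₀ f = e := ⟨_, Ext.mk₀_linearEquiv₀_apply (R := R) e⟩
  rw [Ext.mk₀_comp_mk₀, val_mk₀, val_mk₀]
  rfl

/-- the evaluation map `H^0_J(M) → M`. -/
noncomputable def ev0 : (localCohomology J 0).obj M →ₗ[R] M :=
  desc J 0 (val J M) (fun _ _ h e => val_trans J M h e)

lemma ev0_ι {n : ℕ} (e : Abelian.Ext (Q J n) M 0) : ev0 J M (ι J 0 n M e) = val J M n e :=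
  desc_ι J 0 _ _ e

lemma hom_ext_one {n : ℕ} {f g : Q J n ⟶ M} (h : f (one J n) = g (one J n)) : f = g := by
  apply ModuleCat.hom_ext
  apply LinearMap.ext
  intro x
  obtain ⟨x, rfl⟩ := Submodule.Quotient.mk_surjective _ x
  have hx : (Submodule.Quotient.mk x : R ⧸ J ^ n) = x • one J n := by
    change _ = x • (Submodule.Quotient.mk 1 : R ⧸ J ^ n)
    rw [← Submodule.Quotient.mk_smul, smul_eq_mul, mul_one]
  change f.hom (Submodule.Quotient.mk x : R ⧸ J ^ n) = g.hom (Submodule.Quotient.mk x : R ⧸ J ^ n)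
  rw [hx, map_smul, map_smul]
  exact congrArg (x • ·) h

lemma ev0_injective : Function.Injective (ev0 J M) := by
  rw [injective_iff_map_eq_zero]
  intro x hx
  obtain ⟨n, e, rfl⟩ := ι_rep J 0 M x
  rw [ev0_ι] at hx
  obtain ⟨f, rfl⟩ : ∃ f, Ext.mk₀ f = e := ⟨_, Ext.mk₀_linearEquiv₀_apply (R := R) e⟩
  rw [val_mk₀] at hx
  have hf : f = 0 := hom_ext_one J M (by rw [hx]; rfl)
  rw [hf, Ext.mk₀_zero, map_zero]

lemma ev0_mem (x : (localCohomology J 0).obj M) : ev0 J M x ∈ DRing.torsionSub J M := by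
  obtain ⟨n, hn⟩ := isPowerTorsion J 0 M x
  exact ⟨n, fun a ha => by rw [← map_smul, hn a ha, map_zero]⟩

lemma exists_ev0_eq (m : M) (hm : m ∈ DRing.torsionSub J M) :
    ∃ x : (localCohomology J 0).obj M, ev0 J M x = m := by
  obtain ⟨n, hn⟩ := hm
  let f : Q J n ⟶ M := ModuleCat.ofHom
    ((J ^ n).liftQ (LinearMap.toSpanSingleton R M m) (fun a ha => by
      rw [LinearMap.mem_ker, LinearMap.toSpanSingleton_apply]
      exact hn a ha))
  refine ⟨ι J 0 n M (Ext.mk₀ f), ?_⟩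
  rw [ev0_ι, val_mk₀]
  change (J ^ n).liftQ (LinearMap.toSpanSingleton R M m) _ (Submodule.Quotient.mk 1) = m
  rw [Submodule.liftQ_apply, LinearMap.toSpanSingleton_apply, one_smul]

lemma range_ev0 : LinearMap.range (ev0 J M) = DRing.torsionSub J M := by
  ext m
  constructor
  · rintro ⟨x, rfl⟩
    exact ev0_mem J M x
  · intro hm
    exact exists_ev0_eq J M m hm

/-- `H^0_J(M)` is the `J`-power torsion submodule. -/
noncomputable def h0Equiv : (localCohomology J 0).obj M ≃ₗ[R] DRing.torsionSub J M :=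
  (LinearEquiv.ofInjective (ev0 J M) (ev0_injective J M)).trans
    (LinearEquiv.ofEq _ _ (range_ev0 J M))

lemma h0Equiv_apply (x : (localCohomology J 0).obj M) : (h0Equiv J M x : M) = ev0 J M x := rfl

variable {M} in
lemma ev0_map {M' : ModuleCat.{u} R} (f : M ⟶ M') (x : (localCohomology J 0).obj M) :
    ev0 J M' (((localCohomology J 0).map f) x) = f (ev0 J M x) := by
  obtain ⟨n, e, rfl⟩ := ι_rep J 0 M x
  rw [ι_map, ev0_ι, ev0_ι]
  obtain ⟨g, rfl⟩ : ∃ g, Ext.mk₀ g = e := ⟨_, Ext.mk₀_linearEquiv₀_apply (R := R) e⟩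
  rw [Ext.mk₀_comp_mk₀, val_mk₀, val_mk₀]
  rfl

end H0

end Groth.Agent.Helper8.LC
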