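import Groth.Prelude.Def_DRing3
import Mathlib

set_option autoImplicit false
universe u
open CategoryTheory CategoryTheory.Limits TensorProduct

namespace Groth.Agent.Helper8.GammaI

variable {R : Type u} [CommRing R] {R' : Type u} [CommRing R'] [Algebra R R'] (I : Ideal R)
  (M : Type u) [AddCommGroup M] [Module R M]

theorem range_baseChange_le :
    LinearMap.range ((DRing.torsionSub I M).subtype.baseChange R') ≤
      DRing.torsionSub (Ideal.map (algebraMap R R') I) (TensorProduct R R' M) := by
  rintro _ ⟨z, rfl⟩
  induction z using TensorProduct.induction_on with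
  | zero => rw [map_zero]; exact Submodule.zero_mem _
  | add x y hx hy => rw [map_add]; exact Submodule.add_mem _ hx hy
  | tmul r m =>
    obtain ⟨m, n, hn⟩ := m
    refine ⟨n, fun a ha => ?_⟩
    rw [LinearMap.baseChange_tmul, Submodule.subtype_apply]
    simp only
    rw [← Ideal.map_pow] at ha
    induction ha using Submodule.span_induction with
    | mem x hx =>
      obtain ⟨b, hb, rfl⟩ := hx
      rw [TensorProduct.smul_tmul', smul_eq_mul, ← Algebra.smul_def,
        TensorProduct.smul_tmul, hn b hb, tmul_zero]
    | zero => rw [zero_smul]
    | add x y _ _ hx hy => rw [add_smul, hx, hy, add_zero]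
    | smul c x _ hx => rw [smul_eq_mul, mul_smul, hx, smul_zero]

theorem le_range_baseChange [IsNoetherianRing R] [Module.Flat R R'] :
    DRing.torsionSub (Ideal.map (algebraMap R R') I) (TensorProduct R R' M) ≤
      LinearMap.range ((DRing.torsionSub I M).subtype.baseChange R') := by
  classical
  rintro z ⟨n, hn⟩
  obtain ⟨s, hs⟩ : (I ^ n).FG := IsNoetherian.noetherian _
  let φ : M →ₗ[R] (↥s → M) := LinearMap.pi fun i => (i : R) • LinearMap.id
  have hker : LinearMap.ker φ ≤ DRing.torsionSub I M := by
    intro m hm
    refine ⟨n, fun a ha => ?_⟩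
    rw [← hs] at ha
    induction ha using Submodule.span_induction with
    | mem x hx =>
      have := congrFun (LinearMap.mem_ker.mp hm) ⟨x, hx⟩
      simpa [φ] using this
    | zero => rw [zero_smul]
    | add x y _ _ hx hy => rw [add_smul, hx, hy, add_zero]
    | smul c x _ hx => rw [smul_eq_mul, mul_smul, hx, smul_zero]
  have hex := Module.Flat.lTensor_exact R' (LinearMap.exact_subtype_ker_map φ)
  have hz : (φ.lTensor R') z = 0 := by
    apply (TensorProduct.piRight R R R' (fun _ : ↥s => M)).injective
    rw [map_zero]
    have key : ∀ w : R' ⊗[R] M, (TensorProduct.piRight R R R' (fun _ : ↥s => M)) ((φ.lTensor R') w) =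
        fun i : ↥s => (i : R) • w := by
      intro w
      induction w using TensorProduct.induction_on with
      | zero => ext i; simp
      | add x y hx hy => rw [map_add, map_add, hx, hy]; ext i; simp
      | tmul r m =>
        ext i
        simp [φ, TensorProduct.piRight_apply, TensorProduct.piRightHom_tmul]
    rw [key]
    ext i
    have hi : algebraMap R R' (i : R) ∈ (Ideal.map (algebraMap R R') I) ^ n := by
      rw [← Ideal.map_pow]
      apply Ideal.mem_map_of_mem
      rw [← hs]
      exact Ideal.subset_span i.2
    have := hn _ hi
    rw [algebraMap_smul] at this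
    simpa using this
  obtain ⟨y, hy⟩ := (hex z).mp hz
  refine ⟨((Submodule.inclusion hker).lTensor R') y, ?_⟩
  rw [← hy, LinearMap.baseChange_eq_ltensor]
  rw [← LinearMap.comp_apply, ← LinearMap.lTensor_comp]
  rfl

theorem range_baseChange_eq [IsNoetherianRing R] [Module.Flat R R'] :
    LinearMap.range ((DRing.torsionSub I M).subtype.baseChange R') =
      DRing.torsionSub (Ideal.map (algebraMap R R') I) (TensorProduct R R' M) :=
  le_antisymm (range_baseChange_le I M) (le_range_baseChange I M)

theorem baseChange_injective [Module.Flat R R'] :
    Function.Injective ((DRing.torsionSub I M).subtype.baseChange R') := by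
  rw [LinearMap.baseChange_eq_ltensor]
  exact Module.Flat.lTensor_preserves_injective_linearMap _ (Submodule.injective_subtype _)

end Groth.Agent.Helper8.GammaI
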