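import Groth.Agent.Lib.Helper8.FBC2
import Groth.Agent.Lib.Helper8.GammaI2
import Groth.Agent.Lib.Helper8.LC46

set_option autoImplicit false
universe u
open TensorProduct CategoryTheory CategoryTheory.Limits

namespace Groth.Agent.Helper8.FBC

open LocCoh Groth.Agent.Helper8.LC Abelian

/-- linear version of the comparison of cokernels. -/
lemma exists_linearEquiv_of_surjective {S : Type*} [CommRing S] {A A' C C' : Type*}
    [AddCommGroup A] [AddCommGroup A'] [AddCommGroup C] [AddCommGroup C'] [Module S A]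
    [Module S A'] [Module S C] [Module S C'] (d : A →ₗ[S] C) (d' : A' →ₗ[S] C')
    (hd : Function.Surjective d) (hd' : Function.Surjective d') (φ : A ≃ₗ[S] A')
    (h : ∀ x, d x = 0 ↔ d' (φ x) = 0) : ∃ ψ : C ≃ₗ[S] C', ∀ x, ψ (d x) = d' (φ x) := by
  obtain ⟨ψ₀, hψ₀⟩ := exists_addEquiv_of_surjective d.toAddMonoidHom d'.toAddMonoidHom hd hd'
    φ.toAddEquiv h
  have hψ₀' : ∀ x, ψ₀ (d x) = d' (φ x) := hψ₀
  refine ⟨ψ₀.toLinearEquiv ?_, hψ₀'⟩
  intro c y
  obtain ⟨x, rfl⟩ := hd y
  rw [← map_smul, hψ₀', hψ₀', map_smul, map_smul]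

variable {R : Type u} [CommRing R] [IsNoetherianRing R] {R' : Type u} [CommRing R']
  [Algebra R R'] [Module.Flat R R'] (I : Ideal R)

section Deg0

variable (M : Type u) [AddCommGroup M] [Module R M]

/-- the degree zero comparison. -/
noncomputable def Φ :
    R' ⊗[R] H I 0 M ≃ₗ[R'] H (I.map (algebraMap R R')) 0 (R' ⊗[R] M) :=
  (LinearEquiv.baseChange R R' _ _ (h0Equiv I (ModuleCat.of R M))) ≪≫ₗ
  (LinearEquiv.ofInjective ((DRing.torsionSub I M).subtype.baseChange R')
    (GammaI.baseChange_injective I M)) ≪≫ₗ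
  (LinearEquiv.ofEq _ _ (GammaI.range_baseChange_eq I M)) ≪≫ₗ
  (h0Equiv (I.map (algebraMap R R')) (ModuleCat.of R' (R' ⊗[R] M))).symm

lemma ev0_Φ_tmul (r' : R') (y : H I 0 M) :
    ev0 (I.map (algebraMap R R')) (ModuleCat.of R' (R' ⊗[R] M)) (Φ (R' := R') I M (r' ⊗ₜ y)) =
      r' ⊗ₜ ev0 I (ModuleCat.of R M) y := by
  rw [← h0Equiv_apply]
  unfold Φ
  rw [LinearEquiv.trans_apply, LinearEquiv.apply_symm_apply]
  rfl

variable {M} in
lemma Φ_natural {M₂ : Type u} [AddCommGroup M₂] [Module R M₂] (g : M →ₗ[R] M₂)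
    (x : R' ⊗[R] H I 0 M) :
    Φ (R' := R') I M₂
      ((((localCohomology I 0).map (ModuleCat.ofHom g)).hom.baseChange R') x) =
    ((localCohomology (I.map (algebraMap R R')) 0).map (ModuleCat.ofHom (g.baseChange R')))
      (Φ (R' := R') I M x) := by
  induction x using TensorProduct.induction_on with
  | zero =>
    rw [map_zero, map_zero, map_zero]
    exact (map_zero _).symm
  | tmul r' y =>
    apply ev0_injective (I.map (algebraMap R R')) (ModuleCat.of R' (R' ⊗[R] M₂))
    rw [LinearMap.baseChange_tmul, ev0_Φ_tmul, ev0_map, ev0_map, ev0_Φ_tmul]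
    rfl
  | add x y hx hy => rw [map_add, map_add, hx, hy, map_add, map_add]

end Deg0

section Main

variable [IsNoetherianRing R']

theorem nonempty_baseChange_H_equiv (i : ℕ) (M : Type u) [AddCommGroup M] [Module R M] :
    Nonempty (R' ⊗[R] H I i M ≃ₗ[R'] H (I.map (algebraMap R R')) i (R' ⊗[R] M)) := by
  induction i generalizing M with
  | zero => exact ⟨Φ I M⟩
  | succ i ih =>
    let J' : Ideal R' := I.map (algebraMap R R')
    let E₀ : ModuleCat.{u} R := Injective.under (ModuleCat.of R M)
    let ι₀ : ModuleCat.of R M ⟶ E₀ := Injective.ι (ModuleCat.of R M)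
    have hι₀ : Function.Injective ι₀.hom := (ModuleCat.mono_iff_injective _).mp inferInstance
    haveI hinj : Injective (ModuleCat.of R E₀) :=
      (inferInstance : Injective (Injective.under (ModuleCat.of R M)))
    haveI : Module.Injective R E₀ := Module.injective_module_of_injective_object R E₀
    let f : M →ₗ[R] E₀ := ι₀.hom
    have hS := sesQuot_shortExact f hι₀
    haveI : Injective (sesQuot f).X₂ := hinj
    let Qm := E₀ ⧸ LinearMap.range f
    let g : E₀ →ₗ[R] Qm := (LinearMap.range f).mkQ
    let f' : R' ⊗[R] M →ₗ[R'] R' ⊗[R] E₀ := f.baseChange R'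
    let g' : R' ⊗[R] E₀ →ₗ[R'] R' ⊗[R] Qm := g.baseChange R'
    have hgf' : g' ∘ₗ f' = 0 := by
      rw [← LinearMap.baseChange_comp, LinearMap.range_mkQ_comp, LinearMap.baseChange_zero]
    have hex : Function.Exact f g := by
      intro x
      change (LinearMap.range f).mkQ x = 0 ↔ x ∈ Set.range f
      rw [Submodule.mkQ_apply, Submodule.Quotient.mk_eq_zero]
      rfl
    have hS' : (ModuleCat.shortComplexOfCompEqZero f' g' hgf').ShortExact := by
      apply ModuleCat.shortComplex_shortExact
      · have h1 := Module.Flat.lTensor_exact R' hex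
        intro x
        have := h1 x
        rw [← LinearMap.baseChange_eq_ltensor, ← LinearMap.baseChange_eq_ltensor] at this
        exact this
      · change Function.Injective (f.baseChange R')
        rw [LinearMap.baseChange_eq_ltensor]
        exact Module.Flat.lTensor_preserves_injective_linearMap _ hι₀
      · change Function.Surjective (g.baseChange R')
        rw [LinearMap.baseChange_eq_ltensor]
        exact LinearMap.lTensor_surjective _ (Submodule.mkQ_surjective _)
    have hE : ∀ k, 0 < k → Subsingleton (H I k E₀) := fun k hk =>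
      subsingleton_of_injective I k (ModuleCat.of R E₀) hk
    have hE' : ∀ k, 0 < k → Subsingleton (H J' k (R' ⊗[R] E₀)) := fun k hk =>
      subsingleton_H_baseChange_of_injective E₀ I k hk
    rcases Nat.eq_zero_or_pos i with rfl | hi
    · -- degree one
      let d : H I 0 Qm →ₗ[R] H I (0 + 1) M := δ I 0 hS
      have hd : Function.Surjective d := δ_surjective_of_subsingleton I 0 hS (hE 1 Nat.one_pos)
      let d₁ : R' ⊗[R] H I 0 Qm →ₗ[R'] R' ⊗[R] H I (0 + 1) M := d.baseChange R'
      have hd₁ : Function.Surjective d₁ := by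
        change Function.Surjective (d.baseChange R')
        rw [LinearMap.baseChange_eq_ltensor]
        exact LinearMap.lTensor_surjective _ hd
      let d₂ : H J' 0 (R' ⊗[R] Qm) →ₗ[R'] H J' (0 + 1) (R' ⊗[R] M) := δ J' 0 hS'
      have hd₂ : Function.Surjective d₂ :=
        δ_surjective_of_subsingleton J' 0 hS' (hE' 1 Nat.one_pos)
      let hg0 : H I 0 E₀ →ₗ[R] H I 0 Qm := ((localCohomology I 0).map (ModuleCat.ofHom g)).hom
      have hex0 : Function.Exact hg0 d := exact_g_δ I 0 hS
      have hex1 : Function.Exact (hg0.baseChange R') d₁ := by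
        have h1 := Module.Flat.lTensor_exact R' hex0
        intro x
        have := h1 x
        rw [← LinearMap.baseChange_eq_ltensor, ← LinearMap.baseChange_eq_ltensor] at this
        exact this
      have hex2 : Function.Exact
          ((localCohomology J' 0).map (ModuleCat.ofHom g')).hom d₂ := exact_g_δ J' 0 hS'
      obtain ⟨ψ, -⟩ := exists_linearEquiv_of_surjective d₁ d₂ hd₁ hd₂ (Φ (R' := R') I Qm) (by
        intro x
        constructor
        · intro hx
          obtain ⟨w, rfl⟩ := (hex1 x).mp hx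
          rw [Φ_natural]
          exact (hex2 _).mpr ⟨_, rfl⟩
        · intro hx
          obtain ⟨w', hw'⟩ := (hex2 _).mp hx
          obtain ⟨w, rfl⟩ := (Φ (R' := R') I E₀).surjective w'
          have h2 := Φ_natural (R' := R') I g w
          change Φ I Qm ((hg0.baseChange R') w) = _ at h2
          rw [← h2] at hw'
          have h3 := (Φ (R' := R') I Qm).injective hw'
          rw [← h3]
          exact (hex1 _).mpr ⟨_, rfl⟩)
      exact ⟨ψ⟩
    · -- higher degrees
      obtain ⟨φ⟩ := ih Qm
      let e₁ : H I i Qm ≃ₗ[R] H I (i + 1) M := LinearEquiv.ofBijective (δ I i hS)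
        (δ_bijective_of_subsingleton I i hS (hE i hi) (hE (i + 1) (Nat.succ_pos i)))
      let e₂ : H J' i (R' ⊗[R] Qm) ≃ₗ[R'] H J' (i + 1) (R' ⊗[R] M) :=
        LinearEquiv.ofBijective (δ J' i hS')
          (δ_bijective_of_subsingleton J' i hS' (hE' i hi) (hE' (i + 1) (Nat.succ_pos i)))
      exact ⟨(LinearEquiv.baseChange R R' _ _ e₁).symm ≪≫ₗ φ ≪≫ₗ e₂⟩

end Main

end Groth.Agent.Helper8.FBC
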