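import Mathlib

/-!
# Differentials of a local algebra with residue field the base field
-/

set_option autoImplicit false

namespace Groth.Agent.Helper8.ResK

open IsLocalRing TensorProduct KaehlerDifferential

universe u

variable {k B : Type u} [Field k] [CommRing B] [Algebra k B] [IsLocalRing B]
  (hres : Function.Bijective (algebraMap k (ResidueField B)))

/-- The retraction `B → k`. -/
noncomputable def rho : B →+* k :=
  ((RingEquiv.ofBijective (algebraMap k (ResidueField B)) hres).symm : ResidueField B →+* k).comp
    (residue B)

theorem algebraMap_rho (b : B) : algebraMap k (ResidueField B) (rho hres b) = residue B b :=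
  (RingEquiv.ofBijective (algebraMap k (ResidueField B)) hres).apply_symm_apply _

theorem rho_algebraMap (c : k) : rho hres (algebraMap k B c) = c := by
  apply hres.1
  rw [algebraMap_rho, IsScalarTower.algebraMap_apply k B (ResidueField B)]
  rfl

theorem sub_mem (b : B) : b - algebraMap k B (rho hres b) ∈ maximalIdeal B := by
  rw [← residue_eq_zero_iff, map_sub, sub_eq_zero, ← algebraMap_rho hres b,
    IsScalarTower.algebraMap_apply k B (ResidueField B)]
  rfl

theorem rho_eq_zero {x : B} (hx : x ∈ maximalIdeal B) : rho hres x = 0 := by
  apply hres.1
  rw [algebraMap_rho, map_zero]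
  exact (residue_eq_zero_iff x).2 hx

/-- The canonical derivation `B → m/m²`. -/
noncomputable def cotDer : Derivation k B (maximalIdeal B).Cotangent where
  toFun b := (maximalIdeal B).toCotangent ⟨b - algebraMap k B (rho hres b), sub_mem hres b⟩
  map_add' a b := by
    rw [← map_add]
    congr 1
    apply Subtype.ext
    show a + b - algebraMap k B (rho hres (a + b)) = _
    rw [map_add, map_add]
    show _ = (a - algebraMap k B (rho hres a)) + (b - algebraMap k B (rho hres b))
    ring
  map_smul' c b := by
    rw [RingHom.id_apply, ← LinearMap.map_smul_of_tower]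
    congr 1
    apply Subtype.ext
    show c • b - algebraMap k B (rho hres (c • b)) = c • (b - algebraMap k B (rho hres b))
    rw [Algebra.smul_def, map_mul, rho_algebraMap, map_mul, Algebra.smul_def]
    ring
  map_one_eq_zero' := by
    show (maximalIdeal B).toCotangent ⟨1 - algebraMap k B (rho hres 1), _⟩ = 0
    have h : (⟨1 - algebraMap k B (rho hres 1), sub_mem hres 1⟩ : maximalIdeal B) = 0 := by
      apply Subtype.ext
      show 1 - algebraMap k B (rho hres 1) = 0
      rw [map_one, map_one, sub_self]
    rw [h, map_zero]
  leibniz' a b := by
    have h1 : (⟨a * b - algebraMap k B (rho hres (a * b)), sub_mem hres (a * b)⟩ :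
        maximalIdeal B) =
        a • (⟨b - algebraMap k B (rho hres b), sub_mem hres b⟩ : maximalIdeal B) +
        algebraMap k B (rho hres b) •
          (⟨a - algebraMap k B (rho hres a), sub_mem hres a⟩ : maximalIdeal B) := by
      apply Subtype.ext
      show a * b - algebraMap k B (rho hres (a * b)) =
        a * (b - algebraMap k B (rho hres b)) +
          algebraMap k B (rho hres b) * (a - algebraMap k B (rho hres a))
      rw [map_mul, map_mul]
      ring
    show (maximalIdeal B).toCotangent _ = a • (maximalIdeal B).toCotangent _ +
      b • (maximalIdeal B).toCotangent _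
    rw [h1, map_add, map_smul, map_smul]
    congr 1
    -- `b` and its constant term act in the same way on the cotangent space
    rw [← sub_eq_zero, ← sub_smul, ← map_smul, Ideal.toCotangent_eq_zero]
    show (algebraMap k B (rho hres b) - b) * (a - algebraMap k B (rho hres a)) ∈ _
    rw [pow_two]
    refine Ideal.mul_mem_mul ?_ (sub_mem hres a)
    rw [← neg_sub]
    exact (maximalIdeal B).neg_mem (sub_mem hres b)

theorem cotDer_apply_of_mem {x : B} (hx : x ∈ maximalIdeal B) :
    cotDer hres x = (maximalIdeal B).toCotangent ⟨x, hx⟩ := by
  show (maximalIdeal B).toCotangent ⟨x - algebraMap k B (rho hres x), _⟩ = _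
  congr 1
  apply Subtype.ext
  show x - algebraMap k B (rho hres x) = x
  rw [rho_eq_zero hres hx, map_zero, sub_zero]

/-- The induced map `Ω_{B/k} → m/m²` is surjective. -/
theorem liftKaehlerDifferential_cotDer_surjective :
    Function.Surjective (cotDer hres).liftKaehlerDifferential := by
  intro z
  obtain ⟨⟨x, hx⟩, rfl⟩ := Ideal.toCotangent_surjective _ z
  refine ⟨D k B x, ?_⟩
  rw [Derivation.liftKaehlerDifferential_comp_D, cotDer_apply_of_mem hres hx]

end Groth.Agent.Helper8.ResK
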