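import Mathlib
import Groth.Agent.Lib.Helper8.ResK1

/-!
# Freeness of differentials and regularity, residue field equal to the base field
-/

set_option autoImplicit false

namespace Groth.Agent.Helper8.ResK

open IsLocalRing TensorProduct KaehlerDifferential

universe u

variable {k B : Type u} [Field k] [CommRing B] [Algebra k B] [IsLocalRing B]
  (hres : Function.Bijective (algebraMap k (ResidueField B)))

include hres in
/-- The dimension of the cotangent space is at most the number of generators of `Ω_{B/k}`. -/
theorem finrank_cotangentSpace_le [IsNoetherianRing B] {n : ℕ} (b : Fin n → Ω[B⁄k])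
    (hb : Submodule.span B (Set.range b) = ⊤) :
    Module.finrank (ResidueField B) (CotangentSpace B) ≤ n := by
  let g : Ω[B⁄k] →ₗ[B] CotangentSpace B := (cotDer hres).liftKaehlerDifferential
  have hg : Function.Surjective g := liftKaehlerDifferential_cotDer_surjective hres
  have h1 : Submodule.span B (Set.range (fun i => g (b i))) = ⊤ := by
    have h2 : Set.range (fun i => g (b i)) = g '' Set.range b := by
      rw [← Set.range_comp]
      rfl
    rw [h2, ← Submodule.map_span, hb, Submodule.map_top, LinearMap.range_eq_top]
    exact hg
  have h3 : Submodule.span (ResidueField B) (Set.range (fun i => g (b i))) = ⊤ := by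
    rw [eq_top_iff]
    intro z _
    have hz : z ∈ Submodule.span B (Set.range (fun i => g (b i))) := by rw [h1]; trivial
    exact Submodule.span_le_restrictScalars B (ResidueField B) _ hz
  have := finrank_le_of_span_eq_top (R := ResidueField B) h3
  simpa using this

include hres in
/-- If `Ω_{B/k}` is free of rank `dim B`, then `B` is regular. -/
theorem isRegularLocalRing_of_free [IsNoetherianRing B] [Module.Finite B Ω[B⁄k]]
    [Module.Free B Ω[B⁄k]] (d : ℕ) (hd : ringKrullDim B = (d : WithBot ℕ∞))
    (hrank : Module.finrank B Ω[B⁄k] = d) : IsRegularLocalRing B := by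
  apply IsRegularLocalRing.of_spanFinrank_maximalIdeal_le
  rw [spanFinrank_maximalIdeal_eq_finrank_cotangentSpace, hd]
  have hb := Module.finBasisOfFinrankEq B Ω[B⁄k] hrank
  have := finrank_cotangentSpace_le hres hb hb.span_eq
  exact_mod_cast this

include hres in
/-- The fibre of `Ω_{B/k}` at the closed point is spanned by the differentials of generators of
the maximal ideal. -/
theorem finrank_tensor_kaehler_le [IsNoetherianRing B] :
    Module.finrank (ResidueField B) (ResidueField B ⊗[B] Ω[B⁄k]) ≤
      (maximalIdeal B).spanFinrank := by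
  classical
  obtain ⟨s, hs, hspan⟩ := Submodule.FG.exists_span_finset_card_eq_spanFinrank
    (maximalIdeal B).fg_of_isNoetherianRing
  let v : s → ResidueField B ⊗[B] Ω[B⁄k] := fun x => (1 : ResidueField B) ⊗ₜ[B] D k B (x : B)
  let W : Submodule (ResidueField B) (ResidueField B ⊗[B] Ω[B⁄k]) :=
    Submodule.span (ResidueField B) (Set.range v)
  have hBsmul : ∀ (c : B) (z : ResidueField B ⊗[B] Ω[B⁄k]), z ∈ W → c • z ∈ W := by
    intro c z hz
    rw [← algebraMap_smul (ResidueField B) c z]
    exact W.smul_mem _ hz
  have hmem : ∀ x : B, x ∈ maximalIdeal B → ∀ z : ResidueField B ⊗[B] Ω[B⁄k], x • z = 0 := by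
    intro x hx z
    rw [← algebraMap_smul (ResidueField B) x z]
    have : algebraMap B (ResidueField B) x = 0 := (residue_eq_zero_iff x).2 hx
    rw [this, zero_smul]
  -- differentials of elements of the maximal ideal
  have h1 : ∀ x : B, x ∈ Submodule.span B (s : Set B) →
      (1 : ResidueField B) ⊗ₜ[B] D k B x ∈ W := by
    intro x hx
    induction hx using Submodule.span_induction with
    | mem x hx => exact Submodule.subset_span ⟨⟨x, hx⟩, rfl⟩
    | zero => rw [map_zero, TensorProduct.tmul_zero]; exact W.zero_mem
    | add x y _ _ hx hy => rw [map_add, TensorProduct.tmul_add]; exact W.add_mem hx hy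
    | smul c x hxs hx =>
      have hxm : x ∈ maximalIdeal B := by rw [← hspan]; exact hxs
      rw [smul_eq_mul, Derivation.leibniz, TensorProduct.tmul_add, TensorProduct.tmul_smul,
        TensorProduct.tmul_smul, hmem x hxm, add_zero]
      exact hBsmul c _ hx
  have h2 : ∀ b : B, (1 : ResidueField B) ⊗ₜ[B] D k B b ∈ W := by
    intro b
    have h3 : D k B b = D k B (b - algebraMap k B (rho hres b)) := by
      rw [map_sub, Derivation.map_algebraMap, sub_zero]
    rw [h3]
    apply h1
    rw [hspan]
    exact sub_mem hres b
  have h4 : ∀ ω : Ω[B⁄k], (1 : ResidueField B) ⊗ₜ[B] ω ∈ W := by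
    intro ω
    have hω : ω ∈ Submodule.span B (Set.range (D k B)) := by
      rw [KaehlerDifferential.span_range_derivation]; trivial
    induction hω using Submodule.span_induction with
    | mem x hx => obtain ⟨b, rfl⟩ := hx; exact h2 b
    | zero => rw [TensorProduct.tmul_zero]; exact W.zero_mem
    | add x y _ _ hx hy => rw [TensorProduct.tmul_add]; exact W.add_mem hx hy
    | smul c x _ hx => rw [TensorProduct.tmul_smul]; exact hBsmul c _ hx
  have h5 : W = ⊤ := by
    rw [eq_top_iff]
    suffices h6 : ∀ z : ResidueField B ⊗[B] Ω[B⁄k], z ∈ W from fun z _ => h6 z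
    intro z
    induction z using TensorProduct.induction_on with
    | zero => exact W.zero_mem
    | add x y hx hy => exact W.add_mem hx hy
    | tmul c ω =>
      have : c ⊗ₜ[B] ω = c • ((1 : ResidueField B) ⊗ₜ[B] ω) := by
        rw [TensorProduct.smul_tmul', smul_eq_mul, mul_one]
      rw [this]
      exact W.smul_mem c (h4 ω)
  have := finrank_le_of_span_eq_top (R := ResidueField B) (v := v) h5
  rw [Fintype.card_coe, hs] at this
  exact this

end Groth.Agent.Helper8.ResK
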