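import Mathlib
import Groth.Prelude.Def_CAlgX
import Groth.Agent.Lib.Helper8.ResK2
import Groth.Agent.Lib.Helper8.AdicFS1
import Groth.Agent.S2451
import Groth.Agent.S2453
import Groth.Agent.S4578

/-!
# Regular local algebras essentially of finite type with residue field the base field
-/

set_option autoImplicit false

namespace Groth.Agent.Helper8.ResK

open IsLocalRing TensorProduct KaehlerDifferential CAlgX

universe u

variable {k B : Type u} [Field k] [CommRing B] [Algebra k B] [IsLocalRing B]
  (hres : Function.Bijective (algebraMap k (ResidueField B)))

include hres in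
/-- A regular local algebra essentially of finite type over `k` with residue field `k` is
formally smooth over `k`. -/
theorem formallySmooth_of_isRegularLocalRing [Algebra.EssFiniteType k B]
    (hregB : IsRegularLocalRing B) : Algebra.FormallySmooth k B := by
  haveI := hregB
  haveI : IsNoetherianRing B := inferInstance
  haveI : Algebra.FormallySmooth k (ResidueField B) :=
    Algebra.FormallySmooth.of_equiv (AlgEquiv.ofBijective (Algebra.ofId k (ResidueField B)) hres)
  haveI : Algebra.IsGeometricallyReduced k (ResidueField B) :=
    (Groth.Agent.S2451.result (k := k) (K := ResidueField B)).1 inferInstance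
  have hadic : IsAdicFormallySmooth k B (maximalIdeal B) :=
    ((Groth.Agent.S2453.result (k := k) (A := B)).out 0 3).2 hregB
  -- present `B` as the localization of a finite type algebra at a prime
  let C := Algebra.EssFiniteType.subalgebra k B
  let p : Ideal C := (maximalIdeal B).comap (algebraMap C B)
  haveI : p.IsPrime := Ideal.comap_isPrime _ _
  have hM : Algebra.EssFiniteType.submonoid k B = p.primeCompl := by
    ext x
    show IsUnit (algebraMap C B x) ↔ x ∉ p
    rw [Ideal.mem_comap, mem_maximalIdeal, mem_nonunits_iff, not_not]
  haveI : IsLocalization p.primeCompl B := hM ▸ Algebra.EssFiniteType.isLocalization k B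
  let e : Localization.AtPrime p ≃ₐ[k] B :=
    (IsLocalization.algEquiv p.primeCompl (Localization.AtPrime p) B).restrictScalars k
  have hadic' : IsAdicFormallySmooth k (Localization.AtPrime p)
      (maximalIdeal (Localization.AtPrime p)) := by
    refine Groth.Agent.Helper8.AdicFS.of_algEquiv hadic e (fun x hx => ?_)
    rw [mem_maximalIdeal, mem_nonunits_iff] at hx ⊢
    intro hu
    apply hx
    have := hu.map e
    rwa [AlgEquiv.apply_symm_apply] at this
  haveI : Algebra.FormallySmooth k (Localization.AtPrime p) :=
    ((Groth.Agent.S4578.result (k₀ := k) (k := k) (C := C) p).out 1 0).1 hadic'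
  exact Algebra.FormallySmooth.of_equiv e

include hres in
/-- For a formally smooth regular local algebra with residue field `k`, the module of
differentials is free of rank the dimension. -/
theorem free_kaehler_of_formallySmooth (hregB : IsRegularLocalRing B)
    [Algebra.FormallySmooth k B]
    [Module.Finite B Ω[B⁄k]] (d : ℕ) (hd : ringKrullDim B = (d : WithBot ℕ∞)) :
    Module.Free B Ω[B⁄k] ∧ Module.finrank B Ω[B⁄k] = d := by
  haveI := hregB
  haveI : IsNoetherianRing B := inferInstance
  haveI : Module.Free B Ω[B⁄k] := Module.free_of_flat_of_isLocalRing
  refine ⟨inferInstance, ?_⟩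
  have h1 : Module.finrank (ResidueField B) (ResidueField B ⊗[B] Ω[B⁄k]) =
      Module.finrank B Ω[B⁄k] := Module.finrank_baseChange
  have hreg : (Module.finrank (ResidueField B) (CotangentSpace B) : WithBot ℕ∞) =
      ringKrullDim B := (IsRegularLocalRing.iff_finrank_cotangentSpace B).1 hregB
  have hspan : (maximalIdeal B).spanFinrank =
      Module.finrank (ResidueField B) (CotangentSpace B) :=
    spanFinrank_maximalIdeal_eq_finrank_cotangentSpace B
  have hcot : Module.finrank (ResidueField B) (CotangentSpace B) = d := by
    rw [hd] at hreg
    exact_mod_cast hreg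
  have hle : Module.finrank B Ω[B⁄k] ≤ d := by
    rw [← h1, ← hcot, ← hspan]
    exact finrank_tensor_kaehler_le hres
  have hge : d ≤ Module.finrank B Ω[B⁄k] := by
    have hb := Module.finBasisOfFinrankEq B Ω[B⁄k] rfl
    have := finrank_cotangentSpace_le hres hb hb.span_eq
    rwa [hcot] at this
  exact le_antisymm hle hge

end Groth.Agent.Helper8.ResK
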