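import Mathlib
import Groth.Prelude
import Groth.Agent.Lib.Helper8.FlatReg5
import Groth.Agent.Lib.Helper8.Depth26
import Groth.Agent.Lib.Helper8.Depth14

/-!
# Vanishing of `Ext^i(M, A)` below the codimension, over a regular (Cohen–Macaulay) local ring
-/

set_option autoImplicit false
universe u v

namespace Groth.Agent.Helper8.ExtReg2

open RingTheory.Sequence Pointwise IsLocalRing LocCoh CategoryTheory Abelian
open Groth.Agent.Helper8.Depth

/-- Over a Cohen–Macaulay local ring, `Ext^i(M, A) = 0` for `i < dim A - dim M`. -/
theorem ext_subsingleton_of_supportDim_add_le_of_cm (A : Type u) [CommRing A]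
    [IsCohenMacaulayLocalRing A] (M : Type u) [AddCommGroup M] [Module A M] [Module.Finite A M]
    (p : ℕ) (hdim : Module.supportDim A M + p ≤ ringKrullDim A) (i : ℕ) (hi : i < p) :
    Subsingleton (Abelian.Ext (ModuleCat.of A M) (ModuleCat.of A A) i) := by
  rcases subsingleton_or_nontrivial M with hM | hM
  · refine ⟨fun x y => ?_⟩
    have h1 : (1 : A) ∈ Module.annihilator A (ModuleCat.of A M) := by
      rw [Module.mem_annihilator]
      intro m
      exact Subsingleton.elim _ _
    have key : ∀ z : Abelian.Ext (ModuleCat.of A M) (ModuleCat.of A A) i, z = 0 := by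
      intro z
      have := ext_smul_eq_zero_of_mem_annihilator_left h1 i z
      rwa [one_smul] at this
    rw [key x, key y]
  · set I : Ideal A := Module.annihilator A M with hI
    have hItop : I ≠ ⊤ := by
      intro h
      have : (1 : A) ∈ Module.annihilator A M := by rw [← hI, h]; trivial
      rw [Module.mem_annihilator] at this
      obtain ⟨m, hm⟩ := exists_ne (0 : M)
      exact hm (by simpa using this m)
    have hCM : IsCohenMacaulayModule A A := IsCohenMacaulayLocalRing.supportDim_eq_depth
    have h2 := cm_supportDim_eq_add_idealDepth I hItop A hCM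
    rw [supportDim_quot_smul_top_self, Module.supportDim_self_eq_ringKrullDim,
      ← Module.supportDim_eq_ringKrullDim_quotient_annihilator] at h2
    obtain ⟨d, hd⟩ := exists_nat_supportDim (A := A) M
    have hIA : I • (⊤ : Submodule A A) ≠ ⊤ := by
      intro h
      apply hItop
      simpa using h
    have hp : (p : ℕ∞) ≤ idealDepth I A := by
      rw [h2, hd] at hdim
      generalize idealDepth I A = g at hdim
      induction g with
      | top => exact le_top
      | coe g =>
        have h3 : ((d + p : ℕ) : WithBot ℕ∞) ≤ ((d + g : ℕ) : WithBot ℕ∞) := by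
          push_cast
          exact hdim
        have h4 : d + p ≤ d + g := by exact_mod_cast h3
        have : p ≤ g := by omega
        exact_mod_cast this
    obtain ⟨rs, hlen, hreg, hmem⟩ := (le_idealDepth_iff hIA p).mp hp
    have hreg' := isRegular_of_isWeaklyRegular_of_mem hIA hreg hmem
    have hsupp : Module.support A (ModuleCat.of A M) ⊆ PrimeSpectrum.zeroLocus I := by
      change Module.support A M ⊆ _
      rw [Module.support_eq_zeroLocus]
    exact ModuleCat.subsingleton_ext_of_exists_isRegular I (ModuleCat.of A M) hsupp
      (ModuleCat.of A A) (lt_top_iff_ne_top.mpr hIA) rs hmem hreg' i (hlen ▸ hi)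

theorem ext_subsingleton_of_supportDim_add_le (A : Type u) [CommRing A]
    [IsRegularLocalRing A] (M : Type u) [AddCommGroup M] [Module A M] [Module.Finite A M]
    (p : ℕ) (hdim : Module.supportDim A M + p ≤ ringKrullDim A) (i : ℕ) (hi : i < p) :
    Subsingleton (Abelian.Ext (ModuleCat.of A M) (ModuleCat.of A A) i) := by
  have := FlatReg.isCohenMacaulayLocalRing_of_isRegularLocalRing A
  exact ext_subsingleton_of_supportDim_add_le_of_cm A M p hdim i hi

end Groth.Agent.Helper8.ExtReg2
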