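import Groth.Agent.Lib.Helper8.ExtLoc4
import Groth.Agent.Lib.Helper8.Goren5
import Groth.Agent.Lib.Helper8.ABS4

/-!
# Finite injective dimension of a Noetherian ring over itself
-/

set_option autoImplicit false
universe u

namespace Groth.Agent.Helper8.ExtLoc

open CategoryTheory Abelian IsLocalRing LocCoh

variable (A : Type u) [CommRing A] [IsNoetherianRing A]

lemma natCast_lt_top (n : ℕ) : (n : WithBot ℕ∞) < ⊤ :=
  WithBot.coe_lt_coe.mpr (ENat.natCast_lt_top n)

lemma exists_nat_eq (x : WithBot ℕ∞) (h0 : 0 ≤ x) (h : x < ⊤) : ∃ d : ℕ, x = d := by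
  induction x using WithBot.recBotCoe with
  | bot => simp at h0
  | coe a =>
    induction a using ENat.recTopCoe with
    | top => exact absurd h (lt_irrefl _)
    | coe n => exact ⟨n, rfl⟩

/-- finite injective dimension bounds the dimension. -/
theorem ringKrullDim_le_of_hasInjectiveDimensionLT (n : ℕ)
    (h : HasInjectiveDimensionLT (ModuleCat.of A A) (n + 1)) : ringKrullDim A ≤ n := by
  rw [ringKrullDim_le_iff_height_le]
  intro p hp
  have h1 := hasInjectiveDimensionLT_localization p (n + 1) h
  have h2 := Groth.Agent.Helper8.Goren.ringKrullDim_le_of_hasInjectiveDimensionLT n h1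
  rwa [IsLocalization.AtPrime.ringKrullDim_eq_height p (Localization.AtPrime p)] at h2

omit [IsNoetherianRing A] in
/-- an element of a module killed by an element outside of every maximal ideal is zero. -/
theorem eq_zero_of_forall_maximal {X : Type*} [AddCommGroup X] [Module A X] (x : X)
    (h : ∀ m : Ideal A, m.IsMaximal → ∃ s : A, s ∉ m ∧ s • x = 0) : x = 0 := by
  by_contra hx
  have hne : (⊥ : Submodule A X).colon {x} ≠ ⊤ := by
    intro htop
    have : (1 : A) ∈ (⊥ : Submodule A X).colon {x} := by rw [htop]; trivial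
    rw [Submodule.mem_colon_singleton, one_smul, Submodule.mem_bot] at this
    exact hx this
  obtain ⟨m, hm, hle⟩ := Ideal.exists_le_maximal _ hne
  obtain ⟨s, hsm, hs⟩ := h m hm
  apply hsm
  apply hle
  rw [Submodule.mem_colon_singleton, Submodule.mem_bot]
  exact hs

theorem hasInjectiveDimensionLT_of_isGorensteinRing (hG : IsGorensteinRing A) (d : ℕ)
    (hd : ringKrullDim A ≤ d) : HasInjectiveDimensionLT (ModuleCat.of A A) (d + 1) := by
  apply Groth.Agent.Helper8.ABS.hasInjectiveDimensionLT_of_forall_ideal A d A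
  intro I
  refine ⟨fun a b => ?_⟩
  have key : ∀ x : Ext (ModuleCat.of A (A ⧸ I)) (ModuleCat.of A A) (d + 1), x = 0 := by
    intro x
    apply eq_zero_of_forall_maximal A x
    intro m hm
    have hmp : m.IsPrime := hm.isPrime
    suffices hsub : Subsingleton (Ext ((locF m.primeCompl).obj (ModuleCat.of A (A ⧸ I)))
        ((locF m.primeCompl).obj (ModuleCat.of A A)) (d + 1)) by
      obtain ⟨s, hs⟩ := (subsingleton_ext_loc_iff m.primeCompl (d + 1) (A ⧸ I) A).mp hsub x
      exact ⟨s, s.2, hs⟩
    have hGm : IsGorensteinLocalRing (Localization.AtPrime m) :=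
      hG.isGorensteinLocalRing_localization m
    have hdim : ringKrullDim (Localization.AtPrime m) ≤ d := by
      rw [IsLocalization.AtPrime.ringKrullDim_eq_height m (Localization.AtPrime m)]
      exact le_trans Ideal.height_le_ringKrullDim_of_isPrime hd
    obtain ⟨n, hn⟩ : ∃ n : ℕ, ringKrullDim (Localization.AtPrime m) = n := by
      have h0 : (0 : WithBot ℕ∞) ≤ ringKrullDim (Localization.AtPrime m) :=
        ringKrullDim_nonneg_of_nontrivial
      have hlt : ringKrullDim (Localization.AtPrime m) < ⊤ :=
        lt_of_le_of_lt hdim (natCast_lt_top d)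
      exact exists_nat_eq _ h0 hlt
    have hnd : n ≤ d := by
      rw [hn] at hdim
      exact_mod_cast hdim
    have h1 := (Groth.Agent.Helper8.Goren.exists_injectiveDimension_eq_dim
      (Localization.AtPrime m) n hn).1
    have h2 : HasInjectiveDimensionLT
        (ModuleCat.of (Localization.AtPrime m) (Localization.AtPrime m)) (d + 1) :=
      hasInjectiveDimensionLT_of_ge _ (n + 1) (d + 1) (by omega)
    exact HasInjectiveDimensionLT.subsingleton
      (ModuleCat.of (Localization.AtPrime m) (Localization.AtPrime m)) (d + 1) (d + 1) le_rfl _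
  rw [key a, key b]

theorem exists_hasInjectiveDimensionLT_iff :
    (∃ n : ℕ, HasInjectiveDimensionLT (ModuleCat.of A A) n) ↔
      (IsGorensteinRing A ∧ ringKrullDim A < ⊤) := by
  constructor
  · intro h
    refine ⟨{ isGorensteinLocalRing_localization := fun p _ =>
      isGorensteinLocalRing_localization p h }, ?_⟩
    obtain ⟨n, hn⟩ := h
    have h1 : HasInjectiveDimensionLT (ModuleCat.of A A) (n + 1) :=
      hasInjectiveDimensionLT_of_ge _ n (n + 1) (by omega)
    have h2 := ringKrullDim_le_of_hasInjectiveDimensionLT A n h1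
    exact lt_of_le_of_lt h2 (natCast_lt_top n)
  · rintro ⟨hG, hlt⟩
    by_cases hA : Subsingleton A
    · refine ⟨0, ?_⟩
      rw [hasInjectiveDimensionLT_zero_iff_isZero]
      exact ModuleCat.isZero_of_subsingleton _
    · rw [not_subsingleton_iff_nontrivial] at hA
      obtain ⟨d, hd⟩ : ∃ d : ℕ, ringKrullDim A = d :=
        exists_nat_eq _ ringKrullDim_nonneg_of_nontrivial hlt
      exact ⟨d + 1, hasInjectiveDimensionLT_of_isGorensteinRing A hG d hd.le⟩

end Groth.Agent.Helper8.ExtLoc
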