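import Groth.Agent.Lib.Helper8.DT1

set_option autoImplicit false
universe u
open CategoryTheory CategoryTheory.Limits Opposite

namespace Groth.Agent.Helper8.DT

open LocCoh Groth.Agent.Helper8.LC Abelian

variable {R : Type u} [CommRing R] (I : Ideal R)

section Desc

variable {M : ModuleCat.{u} R} {N : Type*} [AddCommGroup N] [Module R N]
  (g : ∀ n : ℕ, ((I ^ n : Ideal R) →ₗ[R] M) →ₗ[R] N)
  (hg : ∀ (n k : ℕ) (h : n ≤ k) (φ : (I ^ n : Ideal R) →ₗ[R] M),
    g k (φ ∘ₗ incl I h) = g n φ)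

/-- underlying function of `descD`. -/
noncomputable def descDFun (x : (idealTransform I).obj M) : N :=
  g (ιD_rep I M x).choose (ιD_rep I M x).choose_spec.choose

include hg in
lemma descDFun_ι {n : ℕ} (φ : (I ^ n : Ideal R) →ₗ[R] M) :
    descDFun I g (ιD I n M φ) = g n φ := by
  unfold descDFun
  set x := ιD I n M φ with hx
  have hspec := (ιD_rep I M x).choose_spec.choose_spec
  set n' := (ιD_rep I M x).choose
  set φ' := (ιD_rep I M x).choose_spec.choose
  obtain ⟨k, hn, hm, hk⟩ := (ιD_eq_iff I M φ' φ).mp hspec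
  rw [← hg n' k hn, ← hg n k hm, hk]

/-- a compatible family of linear maps out of the hom modules induces a map out of the ideal
transform. -/
noncomputable def descD : (idealTransform I).obj M →ₗ[R] N where
  toFun := descDFun I g
  map_add' x y := by
    obtain ⟨n, φ, rfl⟩ := ιD_rep I M x
    obtain ⟨m, ψ, rfl⟩ := ιD_rep I M y
    have hn : n ≤ max n m := le_max_left _ _
    have hm : m ≤ max n m := le_max_right _ _
    rw [← ιD_trans I hn, ← ιD_trans I hm, ← map_add, descDFun_ι I g hg, descDFun_ι I g hg,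
      descDFun_ι I g hg, map_add]
  map_smul' r x := by
    obtain ⟨n, φ, rfl⟩ := ιD_rep I M x
    rw [← map_smul, descDFun_ι I g hg, descDFun_ι I g hg, RingHom.id_apply, map_smul]

lemma descD_ι {n : ℕ} (φ : (I ^ n : Ideal R) →ₗ[R] M) :
    descD I g hg (ιD I n M φ) = g n φ :=
  descDFun_ι I g hg φ

end Desc

section Conn

/-- the short complex `I^n → R → R/I^n`. -/
abbrev sesPow (n : ℕ) : ShortComplex (ModuleCat.{u} R) := sesSub (I ^ n : Submodule R R)

lemma sesPow_shortExact (n : ℕ) : (sesPow I n).ShortExact := sesSub_shortExact _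

/-- the morphism of short complexes for `n ≤ k`. -/
def sesPowHom {n k : ℕ} (h : n ≤ k) : sesPow I k ⟶ sesPow I n where
  τ₁ := ModuleCat.ofHom (incl I h)
  τ₂ := 𝟙 _
  τ₃ := proj I h
  comm₁₂ := by
    apply ModuleCat.hom_ext
    apply LinearMap.ext
    intro x
    rfl
  comm₂₃ := by
    apply ModuleCat.hom_ext
    apply LinearMap.ext
    intro x
    rfl

lemma extClass_incl {n k : ℕ} (h : n ≤ k) :
    (sesPow_shortExact I k).extClass.comp (Ext.mk₀ (ModuleCat.ofHom (incl I h))) (add_zero 1) =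
      (Ext.mk₀ (proj I h)).comp (sesPow_shortExact I n).extClass (zero_add 1) :=
  ShortComplex.ShortExact.extClass_naturality (sesPow_shortExact I k) (sesPow_shortExact I n)
    (sesPowHom I h)

variable (M : ModuleCat.{u} R)

/-- the connecting map `Hom(I^n, M) → Ext^1(R/I^n, M)`. -/
noncomputable def conn (n : ℕ) : ((I ^ n : Ideal R) →ₗ[R] M) →ₗ[R] Abelian.Ext (Q I n) M 1 where
  toFun φ := (sesPow_shortExact I n).extClass.comp (Ext.mk₀ (ModuleCat.ofHom φ)) (add_zero 1)
  map_add' φ ψ := by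
    have : ModuleCat.ofHom (φ + ψ) = ModuleCat.ofHom φ + ModuleCat.ofHom ψ := rfl
    rw [this, Ext.mk₀_add, Ext.comp_add]
  map_smul' r φ := by
    have : ModuleCat.ofHom (r • φ) = r • ModuleCat.ofHom φ := rfl
    rw [this, Ext.mk₀_smul, Ext.comp_smul]
    rfl

lemma conn_apply (n : ℕ) (φ : (I ^ n : Ideal R) →ₗ[R] M) :
    conn I M n φ =
      (sesPow_shortExact I n).extClass.comp (Ext.mk₀ (ModuleCat.ofHom φ)) (add_zero 1) := rfl

lemma conn_incl {n k : ℕ} (h : n ≤ k) (φ : (I ^ n : Ideal R) →ₗ[R] M) :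
    conn I M k (φ ∘ₗ incl I h) = (Ext.mk₀ (proj I h)).comp (conn I M n φ) (zero_add 1) := by
  rw [conn_apply, conn_apply]
  have h1 : ModuleCat.ofHom (φ ∘ₗ incl I h) =
      ModuleCat.ofHom (incl I h) ≫ ModuleCat.ofHom φ := rfl
  rw [h1, ← Ext.mk₀_comp_mk₀, ← Ext.comp_assoc_of_third_deg_zero, extClass_incl,
    Ext.comp_assoc_of_third_deg_zero]

/-- the map `D_I(M) → H^1_I(M)`. -/
noncomputable def toH1 : (idealTransform I).obj M →ₗ[R] (localCohomology I 1).obj M :=
  descD I (fun n => (ι I 1 n M).comp (conn I M n)) (by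
    intro n k h φ
    change ι I 1 k M (conn I M k (φ ∘ₗ incl I h)) = ι I 1 n M (conn I M n φ)
    rw [conn_incl, ι_trans])

lemma toH1_ι (n : ℕ) (φ : (I ^ n : Ideal R) →ₗ[R] M) :
    toH1 I M (ιD I n M φ) = ι I 1 n M (conn I M n φ) :=
  descD_ι I _ _ φ

lemma conn_surjective (n : ℕ) : Function.Surjective (conn I M n) := by
  intro e
  have h1 : (Ext.mk₀ (sesPow I n).g).comp e (zero_add 1) = 0 := by
    haveI : Projective (sesPow I n).X₂ := by
      change Projective (ModuleCat.of R R)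
      infer_instance
    exact Ext.eq_zero_of_projective _
  obtain ⟨x₁, hx₁⟩ := Ext.contravariant_sequence_exact₃ (sesPow_shortExact I n) M e h1
    (add_zero 1)
  obtain ⟨f, rfl⟩ : ∃ f, Ext.mk₀ f = x₁ := ⟨_, Ext.mk₀_linearEquiv₀_apply (R := R) x₁⟩
  exact ⟨f.hom, hx₁⟩

lemma conn_eq_zero_iff (n : ℕ) (φ : (I ^ n : Ideal R) →ₗ[R] M) :
    conn I M n φ = 0 ↔ ∃ m : M, φ = smulMap (I ^ n) M m := by
  constructor
  · intro h
    obtain ⟨x₂, hx₂⟩ := Ext.contravariant_sequence_exact₁ (sesPow_shortExact I n) M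
      (Ext.mk₀ (ModuleCat.ofHom φ)) (add_zero 1) h
    obtain ⟨f, rfl⟩ : ∃ f, Ext.mk₀ f = x₂ := ⟨_, Ext.mk₀_linearEquiv₀_apply (R := R) x₂⟩
    rw [Ext.mk₀_comp_mk₀] at hx₂
    have h2 : (sesPow I n).f ≫ f = ModuleCat.ofHom φ := by
      have := congrArg (Ext.linearEquiv₀ (R := R)) hx₂
      have e1 : ∀ g : (sesPow I n).X₁ ⟶ M, Ext.linearEquiv₀ (R := R) (Ext.mk₀ g) = g := by
        intro g
        apply (Ext.linearEquiv₀ (R := R)).symm.injective
        rw [LinearEquiv.symm_apply_apply]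
        rfl
      rw [e1, e1] at this
      exact this
    refine ⟨f.hom (1 : R), ?_⟩
    apply LinearMap.ext
    intro r
    have h3 : φ r = f.hom (r : R) := by
      have := congrArg (fun g => g.hom r) h2
      exact this.symm
    rw [h3, smulMap_apply]
    have : (r : R) = (r : R) • (1 : R) := by rw [smul_eq_mul, mul_one]
    conv_lhs => rw [this]
    rw [map_smul]
  · rintro ⟨m, rfl⟩
    rw [conn_apply]
    have h1 : ModuleCat.ofHom (smulMap (I ^ n) M m) =
        (sesPow I n).f ≫ ModuleCat.ofHom (LinearMap.toSpanSingleton R M m) := by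
      apply ModuleCat.hom_ext
      apply LinearMap.ext
      intro r
      rfl
    rw [h1, ← Ext.mk₀_comp_mk₀]
    exact ShortComplex.ShortExact.extClass_comp_assoc _ _

end Conn

section Main

variable (M : Type u) [AddCommGroup M] [Module R M]

lemma toH1_surjective : Function.Surjective (toH1 I (ModuleCat.of R M)) := by
  intro x
  obtain ⟨n, e, rfl⟩ := ι_rep I 1 (ModuleCat.of R M) x
  obtain ⟨φ, rfl⟩ := conn_surjective I (ModuleCat.of R M) n e
  exact ⟨ιD I n _ φ, toH1_ι I _ n φ⟩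

lemma ker_toH1 : LinearMap.ker (toH1 I (ModuleCat.of R M)) = LinearMap.range (toDT I M) := by
  ext x
  rw [LinearMap.mem_ker]
  constructor
  · intro hx
    obtain ⟨n, φ, rfl⟩ := ιD_rep I (ModuleCat.of R M) x
    rw [toH1_ι, ι_eq_zero_iff] at hx
    obtain ⟨k, h, hk⟩ := hx
    rw [← conn_incl, conn_eq_zero_iff] at hk
    obtain ⟨m, hm⟩ := hk
    refine ⟨m, ?_⟩
    rw [toDT_eq' I M m k, ← hm, ιD_trans]
  · rintro ⟨m, rfl⟩
    have h0 : conn I (ModuleCat.of R M) 0 (smulMap (I ^ 0) (ModuleCat.of R M) m) = 0 :=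
      (conn_eq_zero_iff I (ModuleCat.of R M) 0 _).mpr ⟨m, rfl⟩
    rw [toDT_eq, toH1_ι, h0, map_zero]

/-- the cokernel of `M → D_I(M)` is `H^1_I(M)`. -/
theorem nonempty_coker_toDT_equiv :
    Nonempty ((DT I M ⧸ LinearMap.range (toDT I M)) ≃ₗ[R] H I 1 M) :=
  ⟨(Submodule.quotEquivOfEq _ _ (ker_toH1 I M).symm).trans
    (LinearMap.quotKerEquivOfSurjective _ (toH1_surjective I M))⟩

end Main

end Groth.Agent.Helper8.DT
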