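import Mathlib

/-!
# The universal property of the symmetric tensor power
-/

set_option autoImplicit false

namespace Groth.Agent.Helper8.SymPow

universe u v w

open TensorProduct

variable {R ι : Type u} [CommRing R] {M : Type v} [AddCommGroup M] [Module R M]
  {N : Type w} [AddCommGroup N] [Module R N]

/-- The linear map out of the symmetric power defined by a symmetric multilinear map. -/
noncomputable def lift (f : MultilinearMap R (fun _ : ι => M) N)
    (hf : ∀ (e : Equiv.Perm ι) (v : ι → M), f (fun i => v (e i)) = f v) :
    SymmetricPower R ι M →ₗ[R] N :=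
  { toFun := AddCon.lift _ (PiTensorProduct.lift f).toAddMonoidHom (by
      rw [AddCon.addConGen_le]
      intro x y hxy
      cases hxy with
      | perm e v =>
        rw [AddCon.ker_rel]
        change PiTensorProduct.lift f (PiTensorProduct.tprod R fun i => v i) =
          PiTensorProduct.lift f (PiTensorProduct.tprod R fun i => v (e i))
        rw [PiTensorProduct.lift.tprod, PiTensorProduct.lift.tprod, hf])
    map_add' := fun x y => map_add _ x y
    map_smul' := fun r x => by
      induction x using AddCon.induction_on with
      | H x =>
        show AddCon.lift _ _ _ (SymmetricPower.mk R ι M (r • x)) = _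
        simp only [RingHom.id_apply]
        show PiTensorProduct.lift f (r • x) = r • PiTensorProduct.lift f x
        rw [map_smul] }

theorem lift_tprod (f : MultilinearMap R (fun _ : ι => M) N)
    (hf : ∀ (e : Equiv.Perm ι) (v : ι → M), f (fun i => v (e i)) = f v) (v : ι → M) :
    lift f hf (SymmetricPower.tprod R v) = f v := by
  show PiTensorProduct.lift f (PiTensorProduct.tprod R v) = f v
  rw [PiTensorProduct.lift.tprod]

theorem hom_ext {g h : SymmetricPower R ι M →ₗ[R] N}
    (H : ∀ v : ι → M, g (SymmetricPower.tprod R v) = h (SymmetricPower.tprod R v)) : g = h := by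
  apply LinearMap.ext_on_range (SymmetricPower.span_tprod_eq_top R ι M)
  exact H

theorem induction_on {p : SymmetricPower R ι M → Prop} (x : SymmetricPower R ι M)
    (h0 : p 0) (hadd : ∀ x y, p x → p y → p (x + y))
    (hsmul : ∀ (r : R) (v : ι → M), p (r • SymmetricPower.tprod R v)) : p x := by
  have hx : x ∈ Submodule.span R (Set.range (SymmetricPower.tprod R (ι := ι) (M := M))) := by
    rw [SymmetricPower.span_tprod_eq_top]; trivial
  induction hx using Submodule.closure_induction with
  | zero => exact h0
  | add x y _ _ hx hy => exact hadd x y hx hy
  | smul_mem r x hx =>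
    obtain ⟨v, rfl⟩ := hx
    exact hsmul r v

end Groth.Agent.Helper8.SymPow
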