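import Mathlib
import Groth.Prelude.Def_PP16
import Groth.Agent.Lib.Helper8.SymPow1

/-!
# Descending multilinear maps along surjections, and the canonical map
`Sym^n(J/J²) → J^n/J^(n+1)`
-/

set_option autoImplicit false

namespace Groth.Agent.Helper8.SymPow

universe u v w

open TensorProduct

section descend

variable {R : Type u} {ι : Type u} [CommRing R] {M : Type v} [AddCommGroup M] [Module R M]
  {M' : Type v} [AddCommGroup M'] [Module R M']
  {N : Type w} [AddCommGroup N] [Module R N]

/-- A multilinear map which vanishes as soon as one argument is in the kernel of `q` depends only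
on the images of the arguments under `q`. -/
theorem multilinear_congr_of_ker [DecidableEq ι] [Finite ι]
    (f : MultilinearMap R (fun _ : ι => M) N) (q : M →ₗ[R] M')
    (hker : ∀ (v : ι → M) (i : ι) (c : M), q c = 0 → f (Function.update v i c) = 0)
    (v w : ι → M) (h : ∀ i, q (v i) = q (w i)) : f v = f w := by
  classical
  haveI := Fintype.ofFinite ι
  have key : ∀ s : Finset ι, f (s.piecewise v w) = f w := by
    intro s
    induction s using Finset.induction_on with
    | empty => rw [Finset.piecewise_empty]
    | insert a s ha ih =>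
      rw [← ih, Finset.piecewise_insert]
      have h1 : s.piecewise v w = Function.update (s.piecewise v w) a (w a) := by
        symm
        rw [Function.update_eq_self_iff, Finset.piecewise_eq_of_notMem _ _ _ ha]
      conv_rhs => rw [h1]
      rw [← sub_eq_zero, ← MultilinearMap.map_update_sub]
      apply hker
      rw [map_sub, h a, sub_self]
  have := key Finset.univ
  rwa [Finset.piecewise_univ] at this

/-- Descent of a multilinear map along a surjection applied in every variable. -/
theorem exists_multilinear_descent [DecidableEq ι] [Finite ι]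
    (f : MultilinearMap R (fun _ : ι => M) N) (q : M →ₗ[R] M') (hq : Function.Surjective q)
    (hker : ∀ (v : ι → M) (i : ι) (c : M), q c = 0 → f (Function.update v i c) = 0) :
    ∃ g : MultilinearMap R (fun _ : ι => M') N, ∀ v : ι → M, g (fun i => q (v i)) = f v := by
  classical
  let σ : M' → M := Function.surjInv hq
  have hσ : ∀ m, q (σ m) = m := Function.surjInv_eq hq
  have hcongr := multilinear_congr_of_ker f q hker
  refine ⟨{ toFun := fun v' => f (fun i => σ (v' i))
            map_update_add' := ?_
            map_update_smul' := ?_ }, fun v => ?_⟩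
  · intro _ v' i a b
    have h1 : ∀ c : M', f (fun j => σ (Function.update v' i c j)) =
        f (Function.update (fun j => σ (v' j)) i (σ c)) := by
      intro c
      congr 1
      funext j
      by_cases hj : j = i
      · subst hj; simp
      · simp [hj]
    have h2 : f (fun j => σ (Function.update v' i (a + b) j)) =
        f (Function.update (fun j => σ (v' j)) i (σ a + σ b)) := by
      apply hcongr
      intro j
      by_cases hj : j = i
      · subst hj; simp [hσ]
      · simp [hj]
    convert h2.trans (f.map_update_add _ i (σ a) (σ b)) using 2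
    · exact h1 a
    · exact h1 b
  · intro _ v' i r a
    have h1 : ∀ c : M', f (fun j => σ (Function.update v' i c j)) =
        f (Function.update (fun j => σ (v' j)) i (σ c)) := by
      intro c
      congr 1
      funext j
      by_cases hj : j = i
      · subst hj; simp
      · simp [hj]
    have h2 : f (fun j => σ (Function.update v' i (r • a) j)) =
        f (Function.update (fun j => σ (v' j)) i (r • σ a)) := by
      apply hcongr
      intro j
      by_cases hj : j = i
      · subst hj; simp [hσ]
      · simp [hj]
    convert h2.trans (f.map_update_smul _ i r (σ a)) using 2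
    exact h1 a
  · show f (fun i => σ (q (v i))) = f v
    apply hcongr
    intro i
    rw [hσ]

end descend

section phi

open PP16 Pointwise

variable (R : Type u) [CommRing R] (J : Ideal R) (ι : Type u) [Fintype ι]

/-- The multilinear map `(x_i) ↦ ∏ x_i`, from `J^ι` to `J^n`. -/
noncomputable def prodMulti : MultilinearMap R (fun _ : ι => ↥J) ↥(J ^ Fintype.card ι) :=
  MultilinearMap.codRestrict
    ((MultilinearMap.mkPiAlgebra R ι R).compLinearMap (fun _ => J.subtype)) (J ^ Fintype.card ι)
    (fun x => by
      simpa using prod_mem_pow J Finset.univ (fun i => (x i : R)) (fun i _ => (x i).2))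

theorem coe_prodMulti (x : ι → ↥J) : (prodMulti R J ι x : R) = ∏ i, (x i : R) := by
  simp [prodMulti]

/-- The multilinear map `(x_i) ↦` class of `∏ x_i`, from `J^ι` to `J^n/J^(n+1)`. -/
noncomputable def zetaMulti : MultilinearMap R (fun _ : ι => ↥J) (grJ R J (Fintype.card ι)) :=
  (Submodule.mkQ _).compMultilinearMap (prodMulti R J ι)

theorem zetaMulti_apply (x : ι → ↥J) : zetaMulti R J ι x = zetaJ R J x := by
  show Submodule.Quotient.mk (prodMulti R J ι x) = Submodule.Quotient.mk _
  congr 1

theorem zetaJ_eq_zero_iff (x : ι → ↥J) :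
    zetaJ R J x = 0 ↔ ∏ i, (x i : R) ∈ J ^ (Fintype.card ι + 1) := by
  unfold zetaJ
  rw [Submodule.Quotient.mk_eq_zero]
  rfl

theorem zetaMulti_update_eq_zero [DecidableEq ι] (v : ι → ↥J) (i : ι) (c : ↥J)
    (hc : J.toCotangent c = 0) : zetaMulti R J ι (Function.update v i c) = 0 := by
  rw [zetaMulti_apply, zetaJ_eq_zero_iff]
  rw [Ideal.toCotangent_eq_zero] at hc
  have h1 : ∏ j, ((Function.update v i c j : ↥J) : R) =
      (c : R) * ∏ j ∈ Finset.univ \ {i}, (v j : R) := by
    have : (fun j => ((Function.update v i c j : ↥J) : R)) =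
        Function.update (fun j => (v j : R)) i (c : R) := by
      funext j
      by_cases hj : j = i
      · subst hj; simp
      · simp [hj]
    rw [this, Finset.prod_update_of_mem (Finset.mem_univ i)]
  rw [h1]
  have h2 : ∏ j ∈ Finset.univ \ {i}, (v j : R) ∈ J ^ (Finset.univ \ {i}).card :=
    prod_mem_pow J _ (fun j => (v j : R)) (fun j _ => (v j).2)
  have h3 : (Finset.univ \ {i} : Finset ι).card = Fintype.card ι - 1 := by
    rw [Finset.card_sdiff_of_subset (Finset.subset_univ _), Finset.card_univ,
      Finset.card_singleton]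
  have h4 : 0 < Fintype.card ι := Fintype.card_pos_iff.2 ⟨i⟩
  have h5 : Fintype.card ι + 1 = 2 + (Fintype.card ι - 1) := by omega
  rw [h5, pow_add]
  rw [h3] at h2
  exact Ideal.mul_mem_mul hc h2

/-- The canonical multilinear map `(J/J²)^ι → J^n/J^(n+1)`. -/
noncomputable def phiMulti : MultilinearMap R (fun _ : ι => J.Cotangent) (grJ R J (Fintype.card ι)) :=
  haveI : DecidableEq ι := Classical.decEq ι
  (exists_multilinear_descent (zetaMulti R J ι) J.toCotangent J.toCotangent_surjective
    (fun v i c hc => zetaMulti_update_eq_zero R J ι v i c hc)).choose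

theorem phiMulti_apply (x : ι → ↥J) :
    phiMulti R J ι (fun i => J.toCotangent (x i)) = zetaJ R J x := by
  haveI : DecidableEq ι := Classical.decEq ι
  rw [← zetaMulti_apply]
  exact (exists_multilinear_descent (zetaMulti R J ι) J.toCotangent J.toCotangent_surjective
    (fun v i c hc => zetaMulti_update_eq_zero R J ι v i c hc)).choose_spec x

omit [Fintype ι] in
theorem exists_lift_fun (v : ι → J.Cotangent) : ∃ x : ι → ↥J, (fun i => J.toCotangent (x i)) = v :=
  ⟨fun i => Function.surjInv J.toCotangent_surjective (v i), by
    funext i; exact Function.surjInv_eq J.toCotangent_surjective (v i)⟩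

theorem zetaJ_comp_perm (e : Equiv.Perm ι) (x : ι → ↥J) :
    zetaJ R J (fun i => x (e i)) = zetaJ R J x := by
  unfold zetaJ
  congr 1
  apply Subtype.ext
  show ∏ i, (x (e i) : R) = ∏ i, (x i : R)
  exact Equiv.prod_comp e (fun i => (x i : R))

/-- The canonical map `Sym^ι(J/J²) → J^n/J^(n+1)`. -/
noncomputable def phi : SymmetricPower R ι J.Cotangent →ₗ[R] grJ R J (Fintype.card ι) :=
  lift (phiMulti R J ι) (fun e v => by
    obtain ⟨x, rfl⟩ := exists_lift_fun R J ι v
    rw [phiMulti_apply R J ι (fun i => x (e i)), phiMulti_apply, zetaJ_comp_perm])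

theorem phi_tprod (x : ι → ↥J) :
    phi R J ι (SymmetricPower.tprod R (fun i => J.toCotangent (x i))) = zetaJ R J x := by
  rw [phi, lift_tprod, phiMulti_apply]

theorem eq_phi (φ : SymmetricPower R ι J.Cotangent →ₗ[R] grJ R J (Fintype.card ι))
    (hφ : ∀ x : ι → ↥J, φ (SymmetricPower.tprod R (fun i => J.toCotangent (x i))) = zetaJ R J x) :
    φ = phi R J ι := by
  apply hom_ext
  intro v
  obtain ⟨x, rfl⟩ := exists_lift_fun R J ι v
  rw [hφ, phi_tprod]

theorem phi_surjective : Function.Surjective (phi R J ι) := by
  rw [← LinearMap.range_eq_top, eq_top_iff]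
  rintro y -
  obtain ⟨⟨b, hb⟩, rfl⟩ := Submodule.Quotient.mk_surjective _ y
  have hspan : J ^ Fintype.card ι = Submodule.span R (∏ _i : ι, (J : Set R)) := by
    rw [Finset.prod_const, Finset.card_univ]
    exact Submodule.pow_eq_span_pow_set J _
  have hb' : b ∈ Submodule.span R (∏ _i : ι, (J : Set R)) := hspan ▸ hb
  suffices H : ∀ b (hb : b ∈ J ^ Fintype.card ι), b ∈ Submodule.span R (∏ _i : ι, (J : Set R)) →
      (Submodule.Quotient.mk ⟨b, hb⟩ : grJ R J (Fintype.card ι)) ∈ LinearMap.range (phi R J ι) from
    H b hb hb'
  intro b hb hb'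
  induction hb' using Submodule.span_induction with
  | mem b hbm =>
    rw [Set.mem_fintype_prod] at hbm
    obtain ⟨g, hg, rfl⟩ := hbm
    refine ⟨SymmetricPower.tprod R (fun i => J.toCotangent ⟨g i, hg i⟩), ?_⟩
    rw [phi_tprod]
    rfl
  | zero =>
    have : (Submodule.Quotient.mk ⟨0, hb⟩ : grJ R J (Fintype.card ι)) = 0 := by
      rw [Submodule.Quotient.mk_eq_zero]
      exact Submodule.zero_mem _
    rw [this]
    exact Submodule.zero_mem _
  | add x y hx hy ihx ihy =>
    have hx' : x ∈ J ^ Fintype.card ι := hspan ▸ hx
    have hy' : y ∈ J ^ Fintype.card ι := hspan ▸ hy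
    have : (Submodule.Quotient.mk ⟨x + y, hb⟩ : grJ R J (Fintype.card ι)) =
        Submodule.Quotient.mk ⟨x, hx'⟩ + Submodule.Quotient.mk ⟨y, hy'⟩ := rfl
    rw [this]
    exact Submodule.add_mem _ (ihx hx') (ihy hy')
  | smul r x hx ihx =>
    have hx' : x ∈ J ^ Fintype.card ι := hspan ▸ hx
    have : (Submodule.Quotient.mk ⟨r • x, hb⟩ : grJ R J (Fintype.card ι)) =
        r • Submodule.Quotient.mk ⟨x, hx'⟩ := rfl
    rw [this]
    exact Submodule.smul_mem _ r (ihx hx')

/-- `SymGrBijective` amounts to the injectivity of the canonical maps. -/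
theorem symGrBijective_iff :
    SymGrBijective R J ↔
      ∀ (ι : Type u) [Fintype ι] [Nonempty ι], Function.Injective (phi R J ι) := by
  constructor
  · intro h ι _ _
    obtain ⟨φ, hφ, hbij⟩ := h ι
    rw [← eq_phi R J ι φ hφ]
    exact hbij.1
  · intro h ι _ _
    exact ⟨phi R J ι, phi_tprod R J ι, h ι, phi_surjective R J ι⟩

end phi

end Groth.Agent.Helper8.SymPow
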