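import Mathlib

/-!
# Words and monomials: enumerating a monomial of degree `n` by a function on an `n`-element type
-/

set_option autoImplicit false

namespace Groth.Agent.Helper8.SymPow

universe u v

section words

variable {X : Type*} {ι : Type*} [Fintype ι]

/-- The exponent vector of the monomial `∏ i, X (w i)`. -/
noncomputable def expo (w : ι → X) : X →₀ ℕ := ∑ i, Finsupp.single (w i) 1

theorem degree_expo (w : ι → X) : Finsupp.degree (expo w) = Fintype.card ι := by
  unfold expo
  rw [map_sum]
  simp

theorem toMultiset_expo (w : ι → X) :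
    Finsupp.toMultiset (expo w) = Multiset.map w Finset.univ.val := by
  unfold expo
  rw [map_sum]
  simp only [Finsupp.toMultiset_single, one_nsmul]
  rw [Finset.sum_eq_multiset_sum]
  have : Multiset.map (fun x => ({w x} : Multiset X)) Finset.univ.val =
      Multiset.map (fun a => ({a} : Multiset X)) (Multiset.map w Finset.univ.val) := by
    rw [Multiset.map_map]; rfl
  rw [this, Multiset.sum_map_singleton]

theorem exists_word (μ : X →₀ ℕ) (h : Finsupp.degree μ = Fintype.card ι) :
    ∃ w : ι → X, expo w = μ := by
  classical
  have hcard : Multiset.card (Finsupp.toMultiset μ) = Fintype.card ι := by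
    rw [Finsupp.card_toMultiset, ← h, Finsupp.degree_apply]
    rfl
  obtain ⟨l, hl⟩ : ∃ l : List X, (l : Multiset X) = Finsupp.toMultiset μ :=
    ⟨_, Multiset.coe_toList _⟩
  have hlen : l.length = Fintype.card ι := by
    rw [← hcard, ← hl]; rfl
  let e : ι ≃ Fin l.length := (Fintype.equivFin ι).trans (finCongr hlen.symm)
  refine ⟨fun i => l.get (e i), ?_⟩
  apply Multiset.toFinsupp.symm.injective
  show Finsupp.toMultiset _ = Finsupp.toMultiset _
  rw [toMultiset_expo, ← hl]
  have h1 : Multiset.map (fun i => l.get (e i)) Finset.univ.val =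
      Multiset.map l.get (Multiset.map e Finset.univ.val) := by
    rw [Multiset.map_map]; rfl
  rw [h1, Multiset.map_univ_val_equiv, Fin.univ_val_map, List.ofFn_get]

theorem expo_apply [DecidableEq X] (w : ι → X) (x : X) :
    expo w x = Fintype.card {i // w i = x} := by
  unfold expo
  rw [Finsupp.finsetSum_apply]
  simp only [Finsupp.single_apply]
  rw [Finset.sum_boole, Fintype.card_subtype]
  simp

theorem exists_perm_of_expo_eq (w w' : ι → X) (h : expo w = expo w') :
    ∃ e : Equiv.Perm ι, ∀ i, w (e i) = w' i := by
  classical
  have hc : ∀ x : X, Nonempty ({i // w' i = x} ≃ {i // w i = x}) := by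
    intro x
    apply Fintype.card_eq.1
    have := DFunLike.congr_fun h x
    rw [expo_apply, expo_apply] at this
    exact_mod_cast this.symm
  let e : Equiv.Perm ι := Equiv.ofFiberEquiv (fun x => (hc x).some)
  exact ⟨e, fun i => Equiv.ofFiberEquiv_map (fun x => (hc x).some) i⟩

theorem expo_comp_perm (w : ι → X) (e : Equiv.Perm ι) : expo (fun i => w (e i)) = expo w := by
  unfold expo
  exact Equiv.sum_comp e (fun i => Finsupp.single (w i) 1)

theorem monomial_expo {C : Type*} [CommSemiring C] (w : ι → X) :
    MvPolynomial.monomial (expo w) (1 : C) = ∏ i, MvPolynomial.X (w i) := by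
  unfold expo
  rw [MvPolynomial.monomial_sum_one]
  rfl

end words

end Groth.Agent.Helper8.SymPow
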