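import Mathlib
import Groth.Prelude.Def_PP16
import Groth.Agent.Lib.Helper8.SymPow2
import Groth.Agent.Lib.Helper8.SymPow3

/-!
# The polynomial model of the symmetric powers of `J/J²`

`R` a ring, `J` an ideal, `C = R/J`, `P = J/J²`.  The polynomial ring `S = C[X_x : x ∈ J]`
receives the symmetric powers of `P` (given a section `s` of `C^(J) → P`) and maps back to them.
-/

set_option autoImplicit false

namespace Groth.Agent.Helper8.SymPow

universe u

open PP16

variable (R : Type u) [CommRing R] (J : Ideal R)

/-- The polynomial ring over `R/J` on the elements of `J`. -/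
abbrev PolyS : Type u := MvPolynomial ↥J (R ⧸ J)

/-- The canonical surjection `(R/J)^(J) → J/J²`. -/
noncomputable def piJ : (↥J →₀ R ⧸ J) →ₗ[R ⧸ J] J.Cotangent :=
  Finsupp.linearCombination (R ⧸ J) (fun x : ↥J => J.toCotangent x)

theorem piJ_single (x : ↥J) (c : R ⧸ J) : piJ R J (Finsupp.single x c) = c • J.toCotangent x := by
  simp [piJ]

theorem piJ_surjective : Function.Surjective (piJ R J) := by
  intro p
  obtain ⟨x, rfl⟩ := J.toCotangent_surjective p
  exact ⟨Finsupp.single x 1, by rw [piJ_single, one_smul]⟩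

section torsion

variable (ι : Type u) [Nonempty ι]

theorem smul_eq_zero_of_mem (j : R) (hj : j ∈ J) (t : SymmetricPower R ι J.Cotangent) :
    j • t = 0 := by
  classical
  induction t using induction_on with
  | h0 => rw [smul_zero]
  | hadd x y hx hy => rw [smul_add, hx, hy, add_zero]
  | hsmul r v =>
    rw [smul_comm]
    obtain ⟨i₀⟩ := ‹Nonempty ι›
    have h1 := (SymmetricPower.tprod R (ι := ι) (M := J.Cotangent)).map_update_smul v i₀ j (v i₀)
    rw [Function.update_eq_self] at h1
    rw [← h1, (SymmetricPower.tprod R).map_coord_zero i₀ (by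
      rw [Function.update_self]; exact Ideal.Cotangent.smul_eq_zero_of_mem hj _), smul_zero]

end torsion

section theta

variable (ι : Type u) [Fintype ι] [Nonempty ι]

/-- The symmetric tensor attached to a monomial of degree `card ι` (zero in other degrees). -/
noncomputable def tmon (μ : ↥J →₀ ℕ) : SymmetricPower R ι J.Cotangent :=
  if h : Finsupp.degree μ = Fintype.card ι then
    SymmetricPower.tprod R (fun i => J.toCotangent ((exists_word μ h).choose i))
  else 0

theorem tmon_expo (w : ι → ↥J) :
    tmon R J ι (expo w) = SymmetricPower.tprod R (fun i => J.toCotangent (w i)) := by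
  unfold tmon
  rw [dif_pos (degree_expo w)]
  have h := (exists_word (expo w) (degree_expo w)).choose_spec
  obtain ⟨e, he⟩ := exists_perm_of_expo_eq _ w h
  have := SymmetricPower.tprod_equiv (R := R) e
    (fun i => J.toCotangent ((exists_word (expo w) (degree_expo w)).choose i))
  rw [← this]
  congr 1
  funext i
  rw [he]

theorem tmon_of_ne (μ : ↥J →₀ ℕ) (h : Finsupp.degree μ ≠ Fintype.card ι) : tmon R J ι μ = 0 := by
  unfold tmon
  rw [dif_neg h]

/-- `c ↦ c • tmon μ`, as an `R`-linear map on `R/J`. -/
noncomputable def gmon (μ : ↥J →₀ ℕ) : (R ⧸ J) →ₗ[R] SymmetricPower R ι J.Cotangent :=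
  Submodule.liftQ J (LinearMap.toSpanSingleton R _ (tmon R J ι μ)) (fun j hj => by
    rw [LinearMap.mem_ker, LinearMap.toSpanSingleton_apply]
    exact smul_eq_zero_of_mem R J ι j hj _)

theorem gmon_mk (μ : ↥J →₀ ℕ) (r : R) :
    gmon R J ι μ (Ideal.Quotient.mk J r) = r • tmon R J ι μ := rfl

/-- The map from the polynomial ring to the symmetric power: a monomial of degree `card ι` goes to
the symmetric tensor of the classes of its variables. -/
noncomputable def theta : PolyS R J →ₗ[R] SymmetricPower R ι J.Cotangent :=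
  (Finsupp.lsum R (gmon R J ι)) ∘ₗ (AddMonoidAlgebra.coeffLinearEquiv R).toLinearMap

theorem theta_monomial (μ : ↥J →₀ ℕ) (r : R) :
    theta R J ι (MvPolynomial.monomial μ (Ideal.Quotient.mk J r)) = r • tmon R J ι μ := by
  unfold theta
  rw [LinearMap.comp_apply]
  have : (AddMonoidAlgebra.coeffLinearEquiv R).toLinearMap
      (MvPolynomial.monomial μ (Ideal.Quotient.mk J r)) = Finsupp.single μ (Ideal.Quotient.mk J r) :=
    rfl
  rw [this, Finsupp.lsum_single, gmon_mk]

theorem theta_monomial_of_ne (μ : ↥J →₀ ℕ) (c : R ⧸ J) (h : Finsupp.degree μ ≠ Fintype.card ι) :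
    theta R J ι (MvPolynomial.monomial μ c) = 0 := by
  obtain ⟨r, rfl⟩ := Ideal.Quotient.mk_surjective c
  rw [theta_monomial, tmon_of_ne R J ι μ h, smul_zero]

theorem theta_eq_zero (f : PolyS R J)
    (hf : ∀ μ, Finsupp.degree μ = Fintype.card ι → f.coeff μ = 0) : theta R J ι f = 0 := by
  rw [f.as_sum, map_sum]
  apply Finset.sum_eq_zero
  intro μ _
  by_cases h : Finsupp.degree μ = Fintype.card ι
  · rw [hf μ h, map_zero, map_zero]
  · exact theta_monomial_of_ne R J ι μ _ h

theorem theta_eq_zero_of_mem (f : PolyS R J)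
    (hf : f ∈ MvPolynomial.idealOfVars ↥J (R ⧸ J) ^ (Fintype.card ι + 1)) : theta R J ι f = 0 := by
  apply theta_eq_zero
  intro μ hμ
  rw [MvPolynomial.mem_pow_idealOfVars_iff'] at hf
  exact hf μ (by rw [hμ]; exact Nat.lt_succ_self _)

theorem theta_prod_X (w : ι → ↥J) (r : R) :
    theta R J ι (r • ∏ i, MvPolynomial.X (w i)) =
      r • SymmetricPower.tprod R (fun i => J.toCotangent (w i)) := by
  rw [map_smul, ← monomial_expo]
  have := theta_monomial R J ι (expo w) 1
  rw [map_one, one_smul] at this
  rw [this, tmon_expo]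

end theta

end Groth.Agent.Helper8.SymPow
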