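import Mathlib
import Groth.Prelude.Def_PP16
import Groth.Agent.Lib.Helper8.SymPow4

/-!
# Monomials in a finite family of elements of `J`, inside the symmetric powers of `J/J²`
-/

set_option autoImplicit false

namespace Groth.Agent.Helper8.QRLoc

open PP16 MvPolynomial Groth.Agent.Helper8.SymPow

universe u

variable {R : Type u} [CommRing R] (J : Ideal R) {r : ℕ} (F : Fin r → ↥J) (ι : Type u) [Fintype ι]

/-- The symmetric tensor attached to a word in the `F l`. -/
noncomputable def Tw (w : ι → Fin r) : SymmetricPower R ι J.Cotangent :=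
  SymmetricPower.tprod R (fun i => J.toCotangent (F (w i)))

theorem Tw_congr (w w' : ι → Fin r) (h : expo w = expo w') : Tw J F ι w = Tw J F ι w' := by
  obtain ⟨e, he⟩ := exists_perm_of_expo_eq w w' h
  unfold Tw
  rw [← SymmetricPower.tprod_equiv e (fun i => J.toCotangent (F (w i)))]
  congr 1
  funext i
  rw [he]

/-- The symmetric tensor attached to a monomial of degree `card ι` (zero in other degrees). -/
noncomputable def Td (d : Fin r →₀ ℕ) : SymmetricPower R ι J.Cotangent :=
  if h : Finsupp.degree d = Fintype.card ι then Tw J F ι (exists_word d h).choose else 0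

theorem Td_expo (w : ι → Fin r) : Td J F ι (expo w) = Tw J F ι w := by
  unfold Td
  rw [dif_pos (degree_expo w)]
  exact Tw_congr J F ι _ _ (exists_word (expo w) (degree_expo w)).choose_spec

theorem Td_of_ne (d : Fin r →₀ ℕ) (h : Finsupp.degree d ≠ Fintype.card ι) : Td J F ι d = 0 := by
  unfold Td
  rw [dif_neg h]

/-- The linear map from polynomials to the symmetric power, `X^d ↦ F^d`. -/
noncomputable def tau : MvPolynomial (Fin r) R →ₗ[R] SymmetricPower R ι J.Cotangent :=
  (MvPolynomial.basisMonomials (Fin r) R).constr R (Td J F ι)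

theorem tau_monomial (d : Fin r →₀ ℕ) (c : R) : tau J F ι (monomial d c) = c • Td J F ι d := by
  have h : (monomial d c : MvPolynomial (Fin r) R) = c • MvPolynomial.basisMonomials (Fin r) R d := by
    rw [MvPolynomial.coe_basisMonomials, MvPolynomial.smul_monomial, smul_eq_mul, mul_one]
  rw [h, map_smul, tau, Module.Basis.constr_basis]

theorem tau_apply (p : MvPolynomial (Fin r) R) :
    tau J F ι p = ∑ d ∈ p.support, p.coeff d • Td J F ι d := by
  conv_lhs => rw [← MvPolynomial.support_sum_monomial_coeff p]
  rw [map_sum]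
  exact Finset.sum_congr rfl fun d _ => tau_monomial J F ι d _

theorem tau_prod_X (w : ι → Fin r) : tau J F ι (∏ i, X (w i)) = Tw J F ι w := by
  rw [← monomial_expo, tau_monomial, one_smul, Td_expo]

theorem tau_C_mul (c : R) (p : MvPolynomial (Fin r) R) : tau J F ι (C c * p) = c • tau J F ι p := by
  rw [← MvPolynomial.smul_eq_C_mul, map_smul]

/-- `tau` of a product of linear forms. -/
theorem tau_prod_linForm (B : ι → Fin r → R) :
    tau J F ι (∏ i, ∑ l, C (B i l) * X l) =
      SymmetricPower.tprod R (fun i => ∑ l, B i l • J.toCotangent (F l)) := by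
  classical
  rw [Finset.prod_univ_sum, map_sum]
  have h1 := (SymmetricPower.tprod R (ι := ι) (M := J.Cotangent)).map_sum_finset
    (fun i l => B i l • J.toCotangent (F l)) (fun _ => (Finset.univ : Finset (Fin r)))
  rw [h1]
  refine Finset.sum_congr rfl fun w _ => ?_
  rw [Finset.prod_mul_distrib, ← map_prod, tau_C_mul, tau_prod_X,
    MultilinearMap.map_smul_univ]
  rfl

theorem isHomogeneous_prod_linForm (B : ι → Fin r → R) :
    (∏ i, ∑ l, C (B i l) * X l : MvPolynomial (Fin r) R).IsHomogeneous (Fintype.card ι) := by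
  have h : ∀ i ∈ (Finset.univ : Finset ι),
      (∑ l, C (B i l) * X l : MvPolynomial (Fin r) R).IsHomogeneous 1 := by
    intro i _
    apply IsHomogeneous.sum
    intro l _
    have := (isHomogeneous_C (Fin r) (B i l)).mul (isHomogeneous_X R l)
    rwa [zero_add] at this
  have := IsHomogeneous.prod Finset.univ (fun i => ∑ l, C (B i l) * X l) (fun _ => 1) h
  simpa using this

section rho

variable (n : ℕ)

/-- The embedding `J^n/J^(n+1) → R/J^(n+1)`. -/
noncomputable def rho : grJ R J n →ₗ[R] R ⧸ J ^ (n + 1) :=
  (Submodule.comap (J ^ n).subtype (J ^ (n + 1))).liftQ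
    ((Submodule.mkQ (J ^ (n + 1))).comp (J ^ n).subtype) (by
      intro x hx
      rw [LinearMap.mem_ker, LinearMap.comp_apply, Submodule.mkQ_apply,
        Submodule.Quotient.mk_eq_zero]
      exact hx)

theorem rho_mk (x : ↥(J ^ n)) :
    rho J n (Submodule.Quotient.mk x) = Ideal.Quotient.mk (J ^ (n + 1)) (x : R) := rfl

theorem rho_injective : Function.Injective (rho J n) := by
  rw [← LinearMap.ker_eq_bot]
  apply Submodule.ker_liftQ_eq_bot
  intro x hx
  rw [LinearMap.mem_ker, LinearMap.comp_apply, Submodule.mkQ_apply,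
    Submodule.Quotient.mk_eq_zero] at hx
  exact hx

end rho

theorem rho_zetaJ (x : ι → ↥J) :
    rho J (Fintype.card ι) (zetaJ R J x) = Ideal.Quotient.mk _ (∏ i, (x i : R)) := rfl

theorem rho_phi_Tw (w : ι → Fin r) :
    rho J (Fintype.card ι) (phi R J ι (Tw J F ι w)) =
      Ideal.Quotient.mk _ (∏ i, (F (w i) : R)) := by
  unfold Tw
  rw [phi_tprod R J ι (fun i => F (w i)), rho_zetaJ]

theorem rho_phi_tau (p : MvPolynomial (Fin r) R) :
    rho J (Fintype.card ι) (phi R J ι (tau J F ι p)) =
      Ideal.Quotient.mk _ (eval (fun l => (F l : R)) (homogeneousComponent (Fintype.card ι) p)) := by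
  induction p using MvPolynomial.induction_on' with
  | monomial d c =>
    rw [tau_monomial, map_smul, map_smul]
    by_cases h : Finsupp.degree d = Fintype.card ι
    · obtain ⟨w, rfl⟩ := exists_word (ι := ι) d h
      rw [Td_expo, rho_phi_Tw, homogeneousComponent_of_mem (isHomogeneous_monomial c rfl),
        if_pos (degree_expo w).symm]
      have h1 : (monomial (expo w) c : MvPolynomial (Fin r) R) = C c * ∏ i, X (w i) := by
        rw [← monomial_expo, C_mul_monomial, mul_one]
      have h2 : eval (fun l => (F l : R)) (C c * ∏ i, X (w i)) = c * ∏ i, (F (w i) : R) := by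
        rw [map_mul, eval_C, map_prod]
        simp only [eval_X]
      rw [h1, h2, map_mul, Algebra.smul_def]
      rfl
    · rw [Td_of_ne J F ι d h, map_zero, map_zero, smul_zero,
        homogeneousComponent_of_mem (isHomogeneous_monomial c rfl), if_neg (Ne.symm h), map_zero,
        map_zero]
  | add p q hp hq => rw [map_add, map_add, map_add, hp, hq, map_add, map_add, map_add]

theorem phi_tau_eq_zero_iff (p : MvPolynomial (Fin r) R) (hp : p.IsHomogeneous (Fintype.card ι)) :
    phi R J ι (tau J F ι p) = 0 ↔
      eval (fun l => (F l : R)) p ∈ J ^ (Fintype.card ι + 1) := by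
  rw [← (rho_injective J (Fintype.card ι)).eq_iff, rho_phi_tau, map_zero,
    Ideal.Quotient.eq_zero_iff_mem, homogeneousComponent_of_mem hp, if_pos rfl]

end Groth.Agent.Helper8.QRLoc
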