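import Mathlib
import Groth.Prelude.Def_PP16
import Groth.Agent.Lib.Helper8.QRLoc1

/-!
# Locally quasi-regular ideals: finite generation and `Sym(J/J²) → gr_J(R)`
-/

set_option autoImplicit false

namespace Groth.Agent.Helper8.QRLoc

open PP16 MvPolynomial Groth.Agent.Helper8.SymPow

universe u

section dictionary

variable {R : Type u} [CommRing R] (g : R)

theorem algebraMap_mem_map_iff (I : Ideal R) (y : R) :
    algebraMap R (Localization.Away g) y ∈ I.map (algebraMap R (Localization.Away g)) ↔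
      ∃ k : ℕ, g ^ k * y ∈ I := by
  rw [IsLocalization.algebraMap_mem_map_algebraMap_iff (Submonoid.powers g)]
  constructor
  · rintro ⟨m, ⟨k, rfl⟩, h⟩
    exact ⟨k, h⟩
  · rintro ⟨k, h⟩
    exact ⟨g ^ k, ⟨k, rfl⟩, h⟩

theorem isUnit_algebraMap_pow (k : ℕ) : IsUnit (algebraMap R (Localization.Away g) (g ^ k)) := by
  rw [map_pow]
  exact (IsLocalization.Away.algebraMap_isUnit g).pow k

/-- Numerators in `J` for a family of elements of the extended ideal, with a common denominator. -/
theorem exists_numerators (J : Ideal R) {r : ℕ} (f : Fin r → Localization.Away g)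
    (hf : ∀ l, f l ∈ J.map (algebraMap R (Localization.Away g))) :
    ∃ (K : ℕ) (F : Fin r → ↥J), ∀ l,
      algebraMap R (Localization.Away g) (F l) = algebraMap R (Localization.Away g) (g ^ K) * f l := by
  have h1 : ∀ l, ∃ (a : ↥J) (k : ℕ),
      f l * algebraMap R (Localization.Away g) (g ^ k) = algebraMap R (Localization.Away g) a := by
    intro l
    obtain ⟨⟨a, ⟨_, k, rfl⟩⟩, h⟩ :=
      (IsLocalization.mem_map_algebraMap_iff (Submonoid.powers g) (Localization.Away g)).1 (hf l)
    exact ⟨a, k, h⟩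
  choose a k hak using h1
  refine ⟨∑ l, k l, fun l => ⟨g ^ (∑ l', k l' - k l) * (a l : R), J.mul_mem_left _ (a l).2⟩, ?_⟩
  intro l
  have hle : k l ≤ ∑ l', k l' := Finset.single_le_sum (fun _ _ => Nat.zero_le _) (Finset.mem_univ l)
  show algebraMap R (Localization.Away g) (g ^ (∑ l', k l' - k l) * (a l : R)) = _
  rw [map_mul, ← hak l, ← mul_assoc, mul_comm _ (f l), mul_assoc, ← map_mul, ← pow_add,
    Nat.sub_add_cancel hle, mul_comm]

end dictionary

section fg

variable {R : Type u} [CommRing R] {J : Ideal R}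

theorem fg_of_isLocallyQuasiRegular (h : IsLocallyQuasiRegular R J) : J.FG := by
  let t : Set R := {g | (J.map (algebraMap R (Localization.Away g))).FG}
  apply Ideal.fg_of_localizationSpan t ?_ (fun g => g.2)
  by_contra hne
  obtain ⟨𝔪, h𝔪, hle⟩ := Ideal.exists_le_maximal _ hne
  haveI := h𝔪.isPrime
  by_cases hJ : J ≤ 𝔪
  · obtain ⟨g, hg, r, f, -, hspan⟩ := h 𝔪 hJ
    apply hg
    apply hle
    apply Ideal.subset_span
    show (J.map _).FG
    rw [← hspan]
    exact Submodule.fg_span (Set.finite_range f)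
  · obtain ⟨g, hgJ, hg𝔪⟩ := SetLike.not_le_iff_exists.1 hJ
    apply hg𝔪
    apply hle
    apply Ideal.subset_span
    show (J.map _).FG
    have : J.map (algebraMap R (Localization.Away g)) = ⊤ :=
      Ideal.eq_top_of_isUnit_mem _ (Ideal.mem_map_of_mem _ hgJ)
        (IsLocalization.Away.algebraMap_isUnit g)
    rw [this]
    exact ⟨{1}, by rw [Finset.coe_singleton, Ideal.span_singleton_one]⟩

end fg

section scaling

theorem eval_mul_of_isHomogeneous {S : Type*} [CommRing S] {σ : Type*} {n : ℕ}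
    (p : MvPolynomial σ S) (hp : p.IsHomogeneous n) (c : S) (f : σ → S) :
    eval (fun l => c * f l) p = c ^ n * eval f p := by
  rw [eval_eq, eval_eq, Finset.mul_sum]
  refine Finset.sum_congr rfl fun d hd => ?_
  have hdeg : ∑ i ∈ d.support, d i = n := by
    have := hp (mem_support_iff.1 hd)
    rw [← Finsupp.degree_apply, Finsupp.degree_eq_weight_one]
    exact this
  have h1 : ∏ i ∈ d.support, (c * f i) ^ d i = c ^ n * ∏ i ∈ d.support, f i ^ d i := by
    simp_rw [mul_pow]
    rw [Finset.prod_mul_distrib, Finset.prod_pow_eq_pow_sum, hdeg]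
  rw [h1]
  ring

end scaling

section loc

variable {R : Type u} [CommRing R] (J : Ideal R) (g : R) {r : ℕ} (F : Fin r → ↥J)

theorem map_eq_map_span (f : Fin r → Localization.Away g)
    (hspan : Ideal.span (Set.range f) = J.map (algebraMap R (Localization.Away g))) (K : ℕ)
    (hF : ∀ l, algebraMap R (Localization.Away g) (F l) =
      algebraMap R (Localization.Away g) (g ^ K) * f l) :
    J.map (algebraMap R (Localization.Away g)) =
      (Ideal.span (Set.range fun l => (F l : R))).map (algebraMap R (Localization.Away g)) := by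
  apply le_antisymm
  · rw [← hspan, Ideal.span_le]
    rintro _ ⟨l, rfl⟩
    apply (Ideal.unit_mul_mem_iff_mem _ (isUnit_algebraMap_pow g K)).1
    rw [← hF]
    exact Ideal.mem_map_of_mem _ (Ideal.subset_span ⟨l, rfl⟩)
  · apply Ideal.map_mono
    rw [Ideal.span_le]
    rintro _ ⟨l, rfl⟩
    exact (F l).2

theorem exists_pow_mul_mem_span (hJ : J.FG)
    (hmap : J.map (algebraMap R (Localization.Away g)) =
      (Ideal.span (Set.range fun l => (F l : R))).map (algebraMap R (Localization.Away g))) :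
    ∃ E : ℕ, ∀ x ∈ J, g ^ E * x ∈ Ideal.span (Set.range fun l => (F l : R)) := by
  classical
  obtain ⟨s, hs⟩ := hJ
  have h1 : ∀ y : R, ∃ k : ℕ, y ∈ s → g ^ k * y ∈ Ideal.span (Set.range fun l => (F l : R)) := by
    intro y
    by_cases hy : y ∈ s
    · have hyJ : y ∈ J := hs ▸ Ideal.subset_span hy
      have h2 := Ideal.mem_map_of_mem (algebraMap R (Localization.Away g)) hyJ
      rw [hmap, algebraMap_mem_map_iff] at h2
      obtain ⟨k, hk⟩ := h2
      exact ⟨k, fun _ => hk⟩
    · exact ⟨0, fun h => absurd h hy⟩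
  choose k hk using h1
  refine ⟨∑ y ∈ s, k y, fun x hx => ?_⟩
  rw [← hs] at hx
  induction hx using Submodule.span_induction with
  | mem y hy =>
    have hle : k y ≤ ∑ y' ∈ s, k y' := Finset.single_le_sum (fun _ _ => Nat.zero_le _) hy
    rw [← Nat.sub_add_cancel hle, pow_add, mul_assoc]
    exact Ideal.mul_mem_left _ _ (hk y hy)
  | zero => rw [mul_zero]; exact Ideal.zero_mem _
  | add x y _ _ hx hy => rw [mul_add]; exact Ideal.add_mem _ hx hy
  | smul a x _ hx =>
    rw [smul_eq_mul, mul_left_comm]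
    exact Ideal.mul_mem_left _ _ hx

variable (ι : Type u) [Fintype ι]

theorem exists_tau_eq (E : ℕ)
    (hE : ∀ x ∈ J, g ^ E * x ∈ Ideal.span (Set.range fun l => (F l : R)))
    (z : SymmetricPower R ι J.Cotangent) :
    ∃ Q : MvPolynomial (Fin r) R, Q.IsHomogeneous (Fintype.card ι) ∧
      g ^ (E * Fintype.card ι) • z = tau J F ι Q := by
  induction z using SymPow.induction_on with
  | h0 => exact ⟨0, isHomogeneous_zero _ _ _, by rw [smul_zero, map_zero]⟩
  | hadd x y hx hy =>
    obtain ⟨Q₁, h₁, e₁⟩ := hx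
    obtain ⟨Q₂, h₂, e₂⟩ := hy
    exact ⟨Q₁ + Q₂, h₁.add h₂, by rw [smul_add, map_add, e₁, e₂]⟩
  | hsmul c v =>
    obtain ⟨x, rfl⟩ := exists_lift_fun R J ι v
    have h1 : ∀ i, ∃ B : Fin r → R, ∑ l, B l * (F l : R) = g ^ E * (x i : R) := fun i =>
      Ideal.mem_span_range_iff_exists_fun.1 (hE _ (x i).2)
    choose B hB using h1
    refine ⟨C c * ∏ i, ∑ l, C (B i l) * X l, ?_, ?_⟩
    · have := (isHomogeneous_C (Fin r) c).mul (isHomogeneous_prod_linForm (ι := ι) B)
      rwa [zero_add] at this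
    · rw [tau_C_mul, tau_prod_linForm, smul_comm]
      congr 1
      have h2 : (fun i => ∑ l, B i l • J.toCotangent (F l)) =
          fun i => g ^ E • J.toCotangent (x i) := by
        funext i
        rw [← map_smul, ← Finset.sum_congr rfl (fun l _ => (map_smul J.toCotangent (B i l) (F l))),
          ← map_sum]
        congr 1
        apply Subtype.ext
        rw [Submodule.coe_sum, Submodule.coe_smul, smul_eq_mul, ← hB i]
        rfl
      rw [h2, MultilinearMap.map_smul_univ, Finset.prod_const, Finset.card_univ, ← pow_mul]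

variable [Nonempty ι]

/-- If `phi z = 0` and `J` is generated by a quasi-regular sequence on `D(g)`, a power of `g`
kills `z`. -/
theorem exists_pow_smul_eq_zero (hJ : J.FG) (f : Fin r → Localization.Away g)
    (hq : CAlgX.IsQuasiRegular f)
    (hspan : Ideal.span (Set.range f) = J.map (algebraMap R (Localization.Away g)))
    (z : SymmetricPower R ι J.Cotangent) (hz : phi R J ι z = 0) :
    ∃ k : ℕ, g ^ k • z = 0 := by
  classical
  obtain ⟨K, F, hF⟩ := exists_numerators g J f (fun l => hspan ▸ Ideal.subset_span ⟨l, rfl⟩)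
  have hmap := map_eq_map_span J g F f hspan K hF
  obtain ⟨E, hE⟩ := exists_pow_mul_mem_span J g F hJ hmap
  obtain ⟨Q, hQ, hzQ⟩ := exists_tau_eq J g F ι E hE z
  have h1 : eval (fun l => (F l : R)) Q ∈ J ^ (Fintype.card ι + 1) := by
    rw [← phi_tau_eq_zero_iff J F ι Q hQ, ← hzQ, map_smul, hz, smul_zero]
  -- pass to the localization
  set φ := algebraMap R (Localization.Away g) with hφ
  have hQ' : (map φ Q).IsHomogeneous (Fintype.card ι) := hQ.map φ
  have h2 : eval (fun l => φ (F l)) (map φ Q) ∈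
      Ideal.span (Set.range f) ^ (Fintype.card ι + 1) := by
    rw [hspan, ← Ideal.map_pow]
    have h3 : eval (fun l => φ (F l)) (map φ Q) = φ (eval (fun l => (F l : R)) Q) := by
      rw [eval_map, ← eval₂_id, eval₂_comp_left φ]
      rfl
    rw [h3]
    exact Ideal.mem_map_of_mem _ h1
  have h4 : eval f (map φ Q) ∈ Ideal.span (Set.range f) ^ (Fintype.card ι + 1) := by
    have h5 : (fun l => φ (F l)) = fun l => φ (g ^ K) * f l := funext hF
    rw [h5, eval_mul_of_isHomogeneous _ hQ'] at h2
    exact (Ideal.unit_mul_mem_iff_mem _ ((isUnit_algebraMap_pow g K).pow _)).1 h2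
  have h6 : ∀ d, ∃ m : ℕ, g ^ m * Q.coeff d ∈ J := by
    intro d
    have h7 := hq _ _ hQ' h4 d
    rw [coeff_map, hspan, algebraMap_mem_map_iff] at h7
    exact h7
  choose m hm using h6
  refine ⟨∑ d ∈ Q.support, m d + E * Fintype.card ι, ?_⟩
  rw [pow_add, mul_smul, hzQ, tau_apply, Finset.smul_sum]
  refine Finset.sum_eq_zero fun d hd => ?_
  rw [smul_smul]
  apply smul_eq_zero_of_mem R J ι
  have hle : m d ≤ ∑ d' ∈ Q.support, m d' := Finset.single_le_sum (fun _ _ => Nat.zero_le _) hd
  rw [← Nat.sub_add_cancel hle, pow_add, mul_assoc]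
  exact Ideal.mul_mem_left _ _ (hm d)

end loc

section symgr

variable {R : Type u} [CommRing R] {J : Ideal R}

theorem symGrBijective_of_isLocallyQuasiRegular (h : IsLocallyQuasiRegular R J) :
    SymGrBijective R J := by
  have hJ := fg_of_isLocallyQuasiRegular h
  rw [symGrBijective_iff]
  intro ι _ _
  rw [injective_iff_map_eq_zero]
  intro z hz
  let Ann : Ideal R := LinearMap.ker (LinearMap.toSpanSingleton R _ z)
  have hAnn : ∀ a : R, a ∈ Ann ↔ a • z = 0 := fun a => by
    rw [LinearMap.mem_ker, LinearMap.toSpanSingleton_apply]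
  suffices Ann = ⊤ by
    have h1 : (1 : R) ∈ Ann := this ▸ Submodule.mem_top
    rw [hAnn, one_smul] at h1
    exact h1
  by_contra hne
  obtain ⟨𝔪, h𝔪, hle⟩ := Ideal.exists_le_maximal _ hne
  haveI := h𝔪.isPrime
  by_cases hJm : J ≤ 𝔪
  · obtain ⟨g, hg, r, f, hq, hspan⟩ := h 𝔪 hJm
    obtain ⟨k, hk⟩ := exists_pow_smul_eq_zero J g ι hJ f hq hspan z hz
    exact hg (h𝔪.isPrime.mem_of_pow_mem k (hle ((hAnn _).2 hk)))
  · obtain ⟨j, hjJ, hjm⟩ := SetLike.not_le_iff_exists.1 hJm
    exact hjm (hle ((hAnn _).2 (smul_eq_zero_of_mem R J ι j hjJ z)))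

end symgr

end Groth.Agent.Helper8.QRLoc
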