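import Mathlib
import Groth.Prelude.Def_PP16
import Groth.Agent.Lib.Helper8.QRLoc2
import Groth.Agent.Lib.Helper1.QuasiReg

/-!
# Locally quasi-regular ideals: `J/J²` is projective over `R/J`
-/

set_option autoImplicit false

namespace Groth.Agent.Helper8.QRLoc

open PP16 MvPolynomial Groth.Agent.Helper8.SymPow

universe u

section basis

variable {R : Type u} [CommRing R] (J : Ideal R) (g : R) {r : ℕ} (F : Fin r → ↥J)

/-- The images of the classes of the `F l` in the localization of `J/J²` away from `g`. -/
noncomputable def vv (l : Fin r) :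
    LocalizedModule (Submonoid.powers (Ideal.Quotient.mk J g)) J.Cotangent :=
  LocalizedModule.mkLinearMap (Submonoid.powers (Ideal.Quotient.mk J g)) J.Cotangent
    (J.toCotangent (F l))

theorem sum_smul_toCotangent (c : Fin r → R) :
    ∑ l, c l • J.toCotangent (F l) =
      J.toCotangent ⟨∑ l, c l * (F l : R), J.sum_mem fun l _ => J.mul_mem_left _ (F l).2⟩ := by
  have : (⟨∑ l, c l * (F l : R), J.sum_mem fun l _ => J.mul_mem_left _ (F l).2⟩ : ↥J) =
      ∑ l, c l • F l := by
    apply Subtype.ext
    rw [Submodule.coe_sum]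
    rfl
  rw [this, map_sum]
  exact Finset.sum_congr rfl fun l _ => (map_smul _ _ _).symm

theorem pow_smul_toCotangent_eq_zero_iff (k : ℕ) (x : ↥J) :
    (Ideal.Quotient.mk J g) ^ k • J.toCotangent x = 0 ↔ g ^ k * (x : R) ∈ J ^ 2 := by
  have : (Ideal.Quotient.mk J g) ^ k • J.toCotangent x = J.toCotangent (g ^ k • x) := by
    rw [map_smul, ← map_pow]
    rfl
  rw [this, Ideal.toCotangent_eq_zero]
  rfl

theorem mk_pow_mul_eq_zero_iff (k : ℕ) (c : R) :
    (Ideal.Quotient.mk J g) ^ k * Ideal.Quotient.mk J c = 0 ↔ g ^ k * c ∈ J := by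
  rw [← map_pow, ← map_mul, Ideal.Quotient.eq_zero_iff_mem]

/-- The condition (LI): relations modulo `J²` among the `F l`, up to a power of `g`, have
coefficients in `J` up to a power of `g`. -/
def CondLI : Prop :=
  ∀ c : Fin r → R, (∃ k : ℕ, g ^ k * ∑ l, c l * (F l : R) ∈ J ^ 2) → ∀ l, ∃ k : ℕ, g ^ k * c l ∈ J

/-- The condition (SP): up to a power of `g`, every element of `J` is a combination of the `F l`
modulo `J²`. -/
def CondSP : Prop :=
  ∀ x ∈ J, ∃ (k : ℕ) (c : Fin r → R), g ^ k * x - ∑ l, c l * (F l : R) ∈ J ^ 2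

variable {J g F}

theorem linearIndependent_vv (hLI : CondLI J g F) :
    LinearIndependent (Localization.Away (Ideal.Quotient.mk J g)) (vv J g F) := by
  classical
  rw [Fintype.linearIndependent_iff]
  intro c hc l
  obtain ⟨b, hb⟩ := IsLocalization.exist_integer_multiples_of_finite
    (Submonoid.powers (Ideal.Quotient.mk J g)) c
  choose a ha using hb
  have hA : ∀ i, ∃ A : R, Ideal.Quotient.mk J A = a i := fun i => Ideal.Quotient.mk_surjective _
  choose A hA using hA
  -- the relation with integral coefficients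
  have h1 : ∑ i, algebraMap (R ⧸ J) (Localization.Away (Ideal.Quotient.mk J g)) (a i) • vv J g F i
      = 0 := by
    have : ∀ i, algebraMap (R ⧸ J) (Localization.Away (Ideal.Quotient.mk J g)) (a i) • vv J g F i
        = (b : R ⧸ J) • (c i • vv J g F i) := by
      intro i
      rw [ha i, smul_assoc]
    rw [Finset.sum_congr rfl fun i _ => this i, ← Finset.smul_sum, hc, smul_zero]
  have h2 : LocalizedModule.mkLinearMap (Submonoid.powers (Ideal.Quotient.mk J g)) J.Cotangent
      (∑ i, A i • J.toCotangent (F i)) = 0 := by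
    rw [map_sum, ← h1]
    refine Finset.sum_congr rfl fun i _ => ?_
    rw [algebraMap_smul, ← hA i]
    exact map_smul (LocalizedModule.mkLinearMap (Submonoid.powers (Ideal.Quotient.mk J g))
      J.Cotangent) (Ideal.Quotient.mk J (A i)) (J.toCotangent (F i))
  rw [IsLocalizedModule.eq_zero_iff (Submonoid.powers (Ideal.Quotient.mk J g))] at h2
  obtain ⟨⟨_, k, rfl⟩, hk⟩ := h2
  rw [Submonoid.smul_def, sum_smul_toCotangent, pow_smul_toCotangent_eq_zero_iff] at hk
  obtain ⟨k', hk'⟩ := hLI A ⟨k, hk⟩ l
  have h3 : algebraMap (R ⧸ J) (Localization.Away (Ideal.Quotient.mk J g)) (a l) = 0 := by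
    rw [IsLocalization.map_eq_zero_iff (Submonoid.powers (Ideal.Quotient.mk J g))]
    refine ⟨⟨_, k', rfl⟩, ?_⟩
    rw [← hA l]
    exact (mk_pow_mul_eq_zero_iff J g k' (A l)).2 hk'
  rw [ha l, Algebra.smul_def] at h3
  obtain ⟨kb, hkb⟩ := b.2
  have hu : IsUnit (algebraMap (R ⧸ J) (Localization.Away (Ideal.Quotient.mk J g)) (b : R ⧸ J)) := by
    rw [← hkb, map_pow]
    exact (IsLocalization.Away.algebraMap_isUnit _).pow kb
  exact (hu.mul_right_eq_zero).1 h3

theorem span_vv (hSP : CondSP J g F) :
    ⊤ ≤ Submodule.span (Localization.Away (Ideal.Quotient.mk J g)) (Set.range (vv J g F)) := by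
  intro x _
  induction x using LocalizedModule.induction_on with
  | h m s =>
    obtain ⟨y, rfl⟩ := J.toCotangent_surjective m
    obtain ⟨k, c, hkc⟩ := hSP y y.2
    have h1 : (Ideal.Quotient.mk J g) ^ k • J.toCotangent y = ∑ l, c l • J.toCotangent (F l) := by
      rw [sum_smul_toCotangent]
      have : (Ideal.Quotient.mk J g) ^ k • J.toCotangent y = J.toCotangent (g ^ k • y) := by
        rw [map_smul, ← map_pow]
        rfl
      rw [this, Ideal.toCotangent_eq]
      exact hkc
    have h2 : LocalizedModule.mk (J.toCotangent y) s =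
        (Localization.mk 1 s : Localization.Away (Ideal.Quotient.mk J g)) •
          LocalizedModule.mkLinearMap (Submonoid.powers (Ideal.Quotient.mk J g)) J.Cotangent
            (J.toCotangent y) := by
      rw [LocalizedModule.mkLinearMap_apply, LocalizedModule.mk_smul_mk, one_smul, mul_one]
    rw [h2]
    apply Submodule.smul_mem
    have hu : IsUnit (algebraMap (R ⧸ J) (Localization.Away (Ideal.Quotient.mk J g))
        ((Ideal.Quotient.mk J g) ^ k)) := by
      rw [map_pow]
      exact (IsLocalization.Away.algebraMap_isUnit _).pow k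
    rw [← Submodule.smul_mem_iff_of_isUnit _ hu, algebraMap_smul, ← map_smul, h1, map_sum]
    refine Submodule.sum_mem _ fun l _ => ?_
    have h3 : LocalizedModule.mkLinearMap (Submonoid.powers (Ideal.Quotient.mk J g)) J.Cotangent
        (c l • J.toCotangent (F l)) =
        algebraMap (R ⧸ J) (Localization.Away (Ideal.Quotient.mk J g)) (Ideal.Quotient.mk J (c l)) •
          vv J g F l := by
      rw [algebraMap_smul]
      exact map_smul (LocalizedModule.mkLinearMap (Submonoid.powers (Ideal.Quotient.mk J g))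
        J.Cotangent) (Ideal.Quotient.mk J (c l)) (J.toCotangent (F l))
    rw [h3]
    exact Submodule.smul_mem _ _ (Submodule.subset_span ⟨l, rfl⟩)

/-- The basis of the localization of `J/J²` away from `g` given by the classes of the `F l`. -/
noncomputable def basisVV (hLI : CondLI J g F) (hSP : CondSP J g F) :
    Module.Basis (Fin r) (Localization.Away (Ideal.Quotient.mk J g))
      (LocalizedModule (Submonoid.powers (Ideal.Quotient.mk J g)) J.Cotangent) :=
  Module.Basis.mk (linearIndependent_vv hLI) (span_vv hSP)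

theorem basisVV_apply (hLI : CondLI J g F) (hSP : CondSP J g F) (l : Fin r) :
    basisVV hLI hSP l = vv J g F l := by
  rw [basisVV, Module.Basis.mk_apply]

end basis

section fromQR

variable {R : Type u} [CommRing R] (J : Ideal R) (g : R) {r : ℕ} (F : Fin r → ↥J)

theorem condSP_of_span (E : ℕ)
    (hE : ∀ x ∈ J, g ^ E * x ∈ Ideal.span (Set.range fun l => (F l : R))) : CondSP J g F := by
  intro x hx
  obtain ⟨c, hc⟩ := Ideal.mem_span_range_iff_exists_fun.1 (hE x hx)
  refine ⟨E, c, ?_⟩
  rw [hc, sub_self]
  exact Ideal.zero_mem _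

theorem condLI_of_isQuasiRegular (f : Fin r → Localization.Away g)
    (hq : CAlgX.IsQuasiRegular f)
    (hspan : Ideal.span (Set.range f) = J.map (algebraMap R (Localization.Away g))) (K : ℕ)
    (hF : ∀ l, algebraMap R (Localization.Away g) (F l) =
      algebraMap R (Localization.Away g) (g ^ K) * f l) : CondLI J g F := by
  rintro c ⟨k, hk⟩ l
  set φ := algebraMap R (Localization.Away g) with hφ
  have h1 : ∑ i, (φ (g ^ (k + K) * c i)) * f i ∈ Ideal.span (Set.range f) ^ 2 := by
    rw [hspan, ← Ideal.map_pow]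
    have : ∑ i, (φ (g ^ (k + K) * c i)) * f i = φ (g ^ k * ∑ l, c l * (F l : R)) := by
      rw [map_mul, map_sum, Finset.mul_sum]
      refine Finset.sum_congr rfl fun i _ => ?_
      rw [map_mul, map_mul, hF i, pow_add, map_mul]
      ring
    rw [this]
    exact Ideal.mem_map_of_mem _ hk
  have h2 := Groth.Agent.Helper1.QuasiReg.coeff_mem_of_sum_mem_sq f hq _ h1 l
  rw [hspan, algebraMap_mem_map_iff] at h2
  obtain ⟨k', hk'⟩ := h2
  refine ⟨k' + (k + K), ?_⟩
  rw [pow_add, mul_assoc]
  exact hk'

end fromQR

section proj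

variable {R : Type u} [CommRing R] {J : Ideal R}

theorem projective_of_isLocallyQuasiRegular (h : IsLocallyQuasiRegular R J) :
    Module.Projective (R ⧸ J) J.Cotangent := by
  have hJ := fg_of_isLocallyQuasiRegular h
  let t : Set (R ⧸ J) := {gb |
    Module.Free (Localization.Away gb) (LocalizedModule.Away gb J.Cotangent) ∧
      Module.Finite (Localization.Away gb) (LocalizedModule.Away gb J.Cotangent)}
  have ht : Ideal.span t = ⊤ := by
    by_contra hne
    obtain ⟨𝔪, h𝔪, hle⟩ := Ideal.exists_le_maximal _ hne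
    haveI := h𝔪.isPrime
    let P := 𝔪.comap (Ideal.Quotient.mk J)
    haveI : P.IsPrime := Ideal.comap_isPrime _ _
    have hJP : J ≤ P := by
      intro x hx
      show Ideal.Quotient.mk J x ∈ 𝔪
      rw [Ideal.Quotient.eq_zero_iff_mem.2 hx]
      exact zero_mem _
    obtain ⟨g, hg, r, f, hq, hspan⟩ := h P hJP
    apply hg
    show Ideal.Quotient.mk J g ∈ 𝔪
    apply hle
    apply Ideal.subset_span
    obtain ⟨K, F, hF⟩ := exists_numerators g J f (fun l => hspan ▸ Ideal.subset_span ⟨l, rfl⟩)
    have hmap := map_eq_map_span J g F f hspan K hF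
    obtain ⟨E, hE⟩ := exists_pow_mul_mem_span J g F hJ hmap
    let b := basisVV (condLI_of_isQuasiRegular J g F f hq hspan K hF) (condSP_of_span J g F E hE)
    exact ⟨Module.Free.of_basis b, Module.Finite.of_basis b⟩
  haveI : Module.FinitePresentation (R ⧸ J) J.Cotangent :=
    Module.FinitePresentation.of_localizationSpan t ht (fun gb => by
      haveI := gb.2.1
      haveI := gb.2.2
      exact Module.finitePresentation_of_projective _ _)
  haveI : Module.Flat (R ⧸ J) J.Cotangent :=
    Module.flat_of_localized_span (R ⧸ J) J.Cotangent t ht (fun gb => by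
      haveI := gb.2.1
      exact Module.Flat.trans (R ⧸ J) (Localization.Away gb.1) _)
  exact Module.Flat.projective_of_finitePresentation

end proj

end Groth.Agent.Helper8.QRLoc
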