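import Mathlib
import Groth.Prelude.Def_PP16
import Groth.Agent.Lib.Helper8.QRLoc3

/-!
# Locally quasi-regular ideals: the converse direction, part 1
(coordinates on the symmetric powers of `J/J²`)
-/

set_option autoImplicit false

namespace Groth.Agent.Helper8.QRLoc

open PP16 MvPolynomial Groth.Agent.Helper8.SymPow

universe u

section Lam

variable {R : Type u} [CommRing R] (J : Ideal R) {r : ℕ} (F : Fin r → ↥J) (ι : Type u) [Fintype ι]
variable {L : Type u} [CommRing L] [Algebra R L] (lam : Fin r → J.Cotangent →ₗ[R] L)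

/-- The linear form `Σ_l λ_l(m) X_l`. -/
noncomputable def ell : J.Cotangent →ₗ[R] MvPolynomial (Fin r) L where
  toFun m := ∑ l, C (lam l m) * X l
  map_add' m m' := by
    simp only [map_add, add_mul, Finset.sum_add_distrib]
  map_smul' c m := by
    simp only [map_smul, RingHom.id_apply, Finset.smul_sum]
    refine Finset.sum_congr rfl fun l _ => ?_
    rw [Algebra.smul_def c (lam l m), map_mul, mul_assoc, Algebra.smul_def, MvPolynomial.algebraMap_apply]

theorem ell_apply (m : J.Cotangent) : ell J lam m = ∑ l, C (lam l m) * X l := rfl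

/-- The coordinate map on the symmetric power. -/
noncomputable def Lam : SymmetricPower R ι J.Cotangent →ₗ[R] MvPolynomial (Fin r) L :=
  SymPow.lift ((MultilinearMap.mkPiAlgebra R ι (MvPolynomial (Fin r) L)).compLinearMap
    (fun _ => ell J lam)) (by
    intro e v
    simp only [MultilinearMap.compLinearMap_apply, MultilinearMap.mkPiAlgebra_apply]
    exact Equiv.prod_comp e (fun i => ell J lam (v i)))

theorem Lam_tprod (v : ι → J.Cotangent) :
    Lam J ι lam (SymmetricPower.tprod R v) = ∏ i, ell J lam (v i) := by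
  unfold Lam
  rw [SymPow.lift_tprod]
  simp only [MultilinearMap.compLinearMap_apply, MultilinearMap.mkPiAlgebra_apply]

variable {lam}

theorem ell_F (hlam : ∀ l l', lam l (J.toCotangent (F l')) = if l = l' then 1 else 0)
    (l' : Fin r) : ell J lam (J.toCotangent (F l')) = X l' := by
  classical
  rw [ell_apply, Finset.sum_eq_single l']
  · rw [hlam, if_pos rfl, map_one, one_mul]
  · intro l _ hl
    rw [hlam, if_neg hl, map_zero, zero_mul]
  · intro h
    exact absurd (Finset.mem_univ _) h

theorem Lam_Tw (hlam : ∀ l l', lam l (J.toCotangent (F l')) = if l = l' then 1 else 0)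
    (w : ι → Fin r) : Lam J ι lam (Tw J F ι w) = ∏ i, X (w i) := by
  unfold Tw
  rw [Lam_tprod]
  exact Finset.prod_congr rfl fun i _ => ell_F J F hlam (w i)

theorem Lam_tau (hlam : ∀ l l', lam l (J.toCotangent (F l')) = if l = l' then 1 else 0)
    (p : MvPolynomial (Fin r) R) :
    Lam J ι lam (tau J F ι p) =
      map (algebraMap R L) (homogeneousComponent (Fintype.card ι) p) := by
  induction p using MvPolynomial.induction_on' with
  | monomial d c =>
    rw [tau_monomial, map_smul]
    by_cases h : Finsupp.degree d = Fintype.card ι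
    · obtain ⟨w, rfl⟩ := exists_word (ι := ι) d h
      rw [Td_expo, Lam_Tw J F ι hlam, homogeneousComponent_of_mem (isHomogeneous_monomial c rfl),
        if_pos (degree_expo w).symm, map_monomial, ← monomial_expo, smul_monomial,
        Algebra.smul_def, mul_one]
    · rw [Td_of_ne J F ι d h, map_zero, smul_zero,
        homogeneousComponent_of_mem (isHomogeneous_monomial c rfl), if_neg (Ne.symm h), map_zero]
  | add p q hp hq => rw [map_add, map_add, hp, hq, map_add, map_add]

theorem algebraMap_coeff_eq_zero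
    (hlam : ∀ l l', lam l (J.toCotangent (F l')) = if l = l' then 1 else 0)
    (p : MvPolynomial (Fin r) R) (hp : p.IsHomogeneous (Fintype.card ι))
    (h : tau J F ι p = 0) (d : Fin r →₀ ℕ) : algebraMap R L (p.coeff d) = 0 := by
  have h1 := Lam_tau J F ι hlam p
  rw [h, map_zero, homogeneousComponent_of_mem hp, if_pos rfl] at h1
  rw [← coeff_map, ← h1, coeff_zero]

end Lam

section numer

variable {R : Type u} [CommRing R] (g : R) {r : ℕ}

/-- Clearing the denominators of a homogeneous polynomial over `R_g`. -/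
theorem exists_homogeneous_numerator {n : ℕ} (P' : MvPolynomial (Fin r) (Localization.Away g))
    (hP : P'.IsHomogeneous n) :
    ∃ (t : ℕ) (Q : MvPolynomial (Fin r) R), Q.IsHomogeneous n ∧
      map (algebraMap R (Localization.Away g)) Q =
        C (algebraMap R (Localization.Away g) (g ^ t)) * P' := by
  classical
  obtain ⟨b, hb⟩ := IsLocalization.exist_integer_multiples (Submonoid.powers g) P'.support
    (fun d => P'.coeff d)
  have h1 : ∀ d, ∃ q : R, d ∈ P'.support →
      algebraMap R (Localization.Away g) q = (b : R) • P'.coeff d := by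
    intro d
    by_cases hd : d ∈ P'.support
    · obtain ⟨q, hq⟩ := hb d hd
      exact ⟨q, fun _ => hq⟩
    · exact ⟨0, fun h => absurd h hd⟩
  choose q hq using h1
  obtain ⟨t, ht⟩ := b.2
  refine ⟨t, ∑ d ∈ P'.support, monomial d (q d), ?_, ?_⟩
  · apply IsHomogeneous.sum
    intro d hd
    apply isHomogeneous_monomial
    rw [Finsupp.degree_eq_weight_one]
    exact hP (mem_support_iff.1 hd)
  · rw [map_sum]
    conv_rhs => rw [← MvPolynomial.support_sum_monomial_coeff P', Finset.mul_sum]
    refine Finset.sum_congr rfl fun d hd => ?_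
    have ht' : g ^ t = (b : R) := ht
    rw [map_monomial, hq d hd, C_mul_monomial, ht', Algebra.smul_def]

end numer

section step1

variable {R : Type u} [CommRing R] (J : Ideal R)

theorem finite_cotangent (hFG : J.FG) : Module.Finite (R ⧸ J) J.Cotangent := by
  haveI : Module.Finite R ↥J := Module.Finite.iff_fg.2 hFG
  haveI : Module.Finite R J.Cotangent :=
    Module.Finite.of_surjective J.toCotangent J.toCotangent_surjective
  exact Module.Finite.of_restrictScalars_finite R (R ⧸ J) J.Cotangent

theorem exists_basis_vv (hFG : J.FG) (hproj : Module.Projective (R ⧸ J) J.Cotangent)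
    (P : Ideal R) [P.IsPrime] (hJP : J ≤ P) :
    ∃ (g : R) (_ : g ∉ P) (r : ℕ) (F : Fin r → ↥J)
      (b : Module.Basis (Fin r) (Localization.Away (Ideal.Quotient.mk J g))
        (LocalizedModule (Submonoid.powers (Ideal.Quotient.mk J g)) J.Cotangent)),
      ∀ l, b l = vv J g F l := by
  classical
  haveI := finite_cotangent J hFG
  haveI : Module.FinitePresentation (R ⧸ J) J.Cotangent :=
    Module.finitePresentation_of_projective _ _
  let Pb : Ideal (R ⧸ J) := P.map (Ideal.Quotient.mk J)
  haveI : Pb.IsPrime :=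
    Ideal.map_isPrime_of_surjective Ideal.Quotient.mk_surjective (by rwa [Ideal.mk_ker])
  haveI : Module.Free (Localization.AtPrime Pb) (LocalizedModule Pb.primeCompl J.Cotangent) :=
    Module.free_of_flat_of_isLocalRing
  obtain ⟨gb, hgb, hfree, -⟩ := Module.FinitePresentation.exists_free_localizedModule_powers
    Pb.primeCompl (LocalizedModule.mkLinearMap Pb.primeCompl J.Cotangent) (Localization.AtPrime Pb)
  obtain ⟨g, rfl⟩ := Ideal.Quotient.mk_surjective gb
  have hg : g ∉ P := fun h => hgb (Ideal.mem_map_of_mem _ h)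
  haveI := hfree
  let b₀ := Module.Free.chooseBasis (Localization.Away (Ideal.Quotient.mk J g))
    (LocalizedModule.Away (Ideal.Quotient.mk J g) J.Cotangent)
  let b₁ := b₀.reindex (Fintype.equivFin _)
  have h1 : ∀ l, ∃ (m : J.Cotangent) (s : Submonoid.powers (Ideal.Quotient.mk J g)),
      b₁ l = LocalizedModule.mk m s := by
    intro l
    induction b₁ l using LocalizedModule.induction_on with
    | h m s => exact ⟨m, s, rfl⟩
  choose m s hms using h1
  have h2 : ∀ l, ∃ x : ↥J, J.toCotangent x = m l := fun l => J.toCotangent_surjective _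
  choose F hF using h2
  have hu : ∀ l, IsUnit (algebraMap (R ⧸ J) (Localization.Away (Ideal.Quotient.mk J g))
      (s l : R ⧸ J)) := fun l => IsLocalization.map_units _ (s l)
  refine ⟨g, hg, _, F, b₁.isUnitSMul hu, fun l => ?_⟩
  rw [Module.Basis.isUnitSMul_apply, hms, vv, hF, LocalizedModule.mkLinearMap_apply,
    algebraMap_smul, LocalizedModule.smul'_mk, ← Submonoid.smul_def, LocalizedModule.mk_cancel]

end step1

section step2

variable {R : Type u} [CommRing R] {J : Ideal R} {g : R} {r : ℕ} {F : Fin r → ↥J}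

theorem mk_pow_smul (k : ℕ) (m : J.Cotangent) :
    (Ideal.Quotient.mk J g) ^ k • m = g ^ k • m := by
  rw [← map_pow]
  rfl

theorem condSP_of_basis
    (b : Module.Basis (Fin r) (Localization.Away (Ideal.Quotient.mk J g))
      (LocalizedModule (Submonoid.powers (Ideal.Quotient.mk J g)) J.Cotangent))
    (hb : ∀ l, b l = vv J g F l) : CondSP J g F := by
  classical
  intro x hx
  obtain ⟨y, hy⟩ : ∃ y, y = LocalizedModule.mkLinearMap (Submonoid.powers (Ideal.Quotient.mk J g))
    J.Cotangent (J.toCotangent ⟨x, hx⟩) := ⟨_, rfl⟩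
  have hy' : ∑ l, b.repr y l • vv J g F l = y := by
    conv_rhs => rw [← b.sum_repr y]
    exact Finset.sum_congr rfl fun l _ => by rw [hb]
  obtain ⟨s, hs⟩ := IsLocalization.exist_integer_multiples_of_finite
    (Submonoid.powers (Ideal.Quotient.mk J g)) (fun l => b.repr y l)
  choose a ha using hs
  have hA : ∀ i, ∃ A : R, Ideal.Quotient.mk J A = a i := fun i => Ideal.Quotient.mk_surjective _
  choose A hA using hA
  have h1 : LocalizedModule.mkLinearMap (Submonoid.powers (Ideal.Quotient.mk J g)) J.Cotangent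
      ((s : R ⧸ J) • J.toCotangent ⟨x, hx⟩) =
      LocalizedModule.mkLinearMap (Submonoid.powers (Ideal.Quotient.mk J g)) J.Cotangent
        (∑ l, A l • J.toCotangent (F l)) := by
    rw [map_smul, ← hy, ← hy', Finset.smul_sum, map_sum]
    refine Finset.sum_congr rfl fun l _ => ?_
    rw [← smul_assoc, ← ha l, algebraMap_smul, ← hA l]
    exact (map_smul (LocalizedModule.mkLinearMap (Submonoid.powers (Ideal.Quotient.mk J g))
      J.Cotangent) (Ideal.Quotient.mk J (A l)) (J.toCotangent (F l))).symm
  rw [IsLocalizedModule.eq_iff_exists (Submonoid.powers (Ideal.Quotient.mk J g))] at h1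
  obtain ⟨⟨_, k', rfl⟩, hk'⟩ := h1
  obtain ⟨k, hk⟩ := s.2
  have hk2 : (Ideal.Quotient.mk J g) ^ k = (s : R ⧸ J) := hk
  rw [Submonoid.smul_def, Submonoid.smul_def, ← hk2] at hk'
  simp only [mk_pow_smul] at hk'
  rw [← map_smul, ← map_smul, Finset.smul_sum] at hk'
  simp only [smul_smul] at hk'
  rw [sum_smul_toCotangent J F (fun l => g ^ k' * A l), Ideal.toCotangent_eq] at hk'
  refine ⟨k' + k, fun l => g ^ k' * A l, ?_⟩
  convert hk' using 1
  simp only [Submodule.coe_smul, smul_eq_mul, pow_add, mul_assoc]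

theorem exists_mul_mem_span (hFG : J.FG) (hSP : CondSP J g F) (P : Ideal R) [P.IsPrime]
    (hJP : J ≤ P) (hg : g ∉ P) :
    ∃ a : R, a ∉ P ∧ ∀ x ∈ J, a * x ∈ Ideal.span (Set.range fun l => (F l : R)) := by
  classical
  set φ := algebraMap R (Localization.AtPrime P) with hφ
  set J' := J.map φ with hJ'
  set N' := (Ideal.span (Set.range fun l => (F l : R))).map φ with hN'
  have hfg : J'.FG := hFG.map φ
  have hjac : J' ≤ Ideal.jacobson ⊥ := by
    rw [IsLocalRing.jacobson_eq_maximalIdeal ⊥ bot_ne_top,
      ← Localization.AtPrime.map_eq_maximalIdeal]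
    exact Ideal.map_mono hJP
  have hNak : J' ≤ N' ⊔ J' • J' := by
    rw [hJ', Ideal.map_le_iff_le_comap]
    intro x hx
    obtain ⟨k, c, hkc⟩ := hSP x hx
    have hu : IsUnit (φ (g ^ k)) :=
      IsLocalization.map_units (Localization.AtPrime P)
        (⟨g ^ k, P.primeCompl.pow_mem hg k⟩ : P.primeCompl)
    rw [Ideal.mem_comap, ← Ideal.unit_mul_mem_iff_mem _ hu, ← map_mul]
    have h3 : g ^ k * x = ∑ l, c l * (F l : R) + (g ^ k * x - ∑ l, c l * (F l : R)) := by ring
    rw [h3, map_add]
    refine Ideal.add_mem _ (Ideal.mem_sup_left (Ideal.mem_map_of_mem _ ?_))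
      (Ideal.mem_sup_right ?_)
    · exact Ideal.sum_mem _ fun l _ => Ideal.mul_mem_left _ _ (Ideal.subset_span ⟨l, rfl⟩)
    · rw [smul_eq_mul, ← pow_two, ← Ideal.map_pow]
      exact Ideal.mem_map_of_mem _ hkc
  have hle : J' ≤ N' := Submodule.le_of_le_smul_of_le_jacobson_bot hfg hjac hNak
  have h1 : ∀ x ∈ J, ∃ m ∈ P.primeCompl, m * x ∈ Ideal.span (Set.range fun l => (F l : R)) := by
    intro x hx
    have h2 := hle (Ideal.mem_map_of_mem φ hx)
    rw [hN', IsLocalization.algebraMap_mem_map_algebraMap_iff P.primeCompl] at h2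
    exact h2
  obtain ⟨s, hs⟩ := hFG
  choose! m hm using h1
  refine ⟨∏ y ∈ s, m y, ?_, ?_⟩
  · exact P.primeCompl.prod_mem fun y hy => (hm y (hs ▸ Ideal.subset_span hy)).1
  · intro x hx
    rw [← hs] at hx
    induction hx using Submodule.span_induction with
    | mem y hy =>
      rw [← Finset.mul_prod_erase s m hy, mul_comm (m y), mul_assoc]
      exact Ideal.mul_mem_left _ _ (hm y (hs ▸ Ideal.subset_span hy)).2
    | zero => rw [mul_zero]; exact Ideal.zero_mem _
    | add x y _ _ hx hy => rw [mul_add]; exact Ideal.add_mem _ hx hy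
    | smul c x _ hx =>
      rw [smul_eq_mul, mul_left_comm]
      exact Ideal.mul_mem_left _ _ hx

end step2

section main

variable {R : Type u} [CommRing R] {J : Ideal R} {r : ℕ}

theorem span_eq_map (g₁ a : R) (F : Fin r → ↥J)
    (haJ : ∀ x ∈ J, a * x ∈ Ideal.span (Set.range fun l => (F l : R))) :
    Ideal.span (Set.range fun l => algebraMap R (Localization.Away (g₁ * a)) (F l)) =
      J.map (algebraMap R (Localization.Away (g₁ * a))) := by
  apply le_antisymm
  · rw [Ideal.span_le]
    rintro _ ⟨l, rfl⟩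
    exact Ideal.mem_map_of_mem _ (F l).2
  · rw [Ideal.map_le_iff_le_comap]
    intro x hx
    rw [Ideal.mem_comap]
    have hu : IsUnit (algebraMap R (Localization.Away (g₁ * a)) a) := by
      have := IsLocalization.Away.algebraMap_isUnit (S := Localization.Away (g₁ * a)) (g₁ * a)
      rw [map_mul] at this
      exact isUnit_of_mul_isUnit_right this
    rw [← Ideal.unit_mul_mem_iff_mem _ hu, ← map_mul]
    have := Ideal.mem_map_of_mem (algebraMap R (Localization.Away (g₁ * a))) (haJ x hx)
    rw [Ideal.map_span, ← Set.range_comp] at this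
    exact this

theorem isQuasiRegular_loc (hsym : SymGrBijective R J) (g₁ a g : R) (hg : g = g₁ * a)
    (F : Fin r → ↥J)
    (b : Module.Basis (Fin r) (Localization.Away (Ideal.Quotient.mk J g₁))
      (LocalizedModule (Submonoid.powers (Ideal.Quotient.mk J g₁)) J.Cotangent))
    (hb : ∀ l, b l = vv J g₁ F l)
    (hspan : Ideal.span (Set.range fun l => algebraMap R (Localization.Away g) (F l)) =
      J.map (algebraMap R (Localization.Away g))) :
    CAlgX.IsQuasiRegular (fun l => algebraMap R (Localization.Away g) (F l)) := by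
  classical
  intro n P' hP' hev d
  rw [hspan] at hev ⊢
  set φ := algebraMap R (Localization.Away g) with hφ
  rcases Nat.eq_zero_or_pos n with rfl | hn
  · have h0 : P' = C (P'.coeff 0) :=
      totalDegree_eq_zero_iff_eq_C.1 (Nat.le_zero.1 hP'.totalDegree_le)
    rw [h0, eval_C, zero_add, pow_one] at hev
    rw [h0, coeff_C]
    split_ifs
    · exact hev
    · exact Ideal.zero_mem _
  · obtain ⟨t, Q, hQ, hQP⟩ := exists_homogeneous_numerator g P' hP'
    have h1 : φ (eval (fun l => (F l : R)) Q) ∈ (J ^ (n + 1)).map φ := by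
      have h3 : φ (eval (fun l => (F l : R)) Q) = eval (fun l => φ (F l)) (map φ Q) := by
        rw [eval_map, ← eval₂_id, eval₂_comp_left φ]
        rfl
      rw [h3, hQP, map_mul, eval_C, Ideal.map_pow]
      exact Ideal.mul_mem_left _ _ hev
    rw [algebraMap_mem_map_iff] at h1
    obtain ⟨k, hk⟩ := h1
    have hcard : Fintype.card (ULift.{u} (Fin n)) = n := by simp
    haveI : Nonempty (ULift.{u} (Fin n)) := ⟨⟨⟨0, hn⟩⟩⟩
    have hQ' : (C (g ^ k) * Q).IsHomogeneous (Fintype.card (ULift.{u} (Fin n))) := by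
      rw [hcard]
      have := (isHomogeneous_C (Fin r) (g ^ k)).mul hQ
      rwa [zero_add] at this
    have h2 : phi R J (ULift.{u} (Fin n)) (tau J F (ULift.{u} (Fin n)) (C (g ^ k) * Q)) = 0 := by
      rw [phi_tau_eq_zero_iff J F _ _ hQ', hcard, map_mul, eval_C]
      exact hk
    have hinj := (symGrBijective_iff R J).1 hsym (ULift.{u} (Fin n))
    have h3 : tau J F (ULift.{u} (Fin n)) (C (g ^ k) * Q) = 0 := hinj (h2.trans (map_zero _).symm)
    let lam : Fin r → J.Cotangent →ₗ[R] Localization.Away (Ideal.Quotient.mk J g₁) := fun l =>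
      (((b.coord l).restrictScalars (R ⧸ J)).comp
        (LocalizedModule.mkLinearMap (Submonoid.powers (Ideal.Quotient.mk J g₁))
          J.Cotangent)).restrictScalars R
    have hlam : ∀ l l', lam l (J.toCotangent (F l')) = if l = l' then 1 else 0 := by
      intro l l'
      show b.coord l (vv J g₁ F l') = _
      rw [← hb, b.coord_apply, b.repr_self, Finsupp.single_apply]
      simp only [eq_comm]
    have h4 := algebraMap_coeff_eq_zero J F (ULift.{u} (Fin n)) hlam _ hQ' h3 d
    rw [coeff_C_mul, IsScalarTower.algebraMap_apply R (R ⧸ J)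
      (Localization.Away (Ideal.Quotient.mk J g₁)),
      IsLocalization.map_eq_zero_iff (Submonoid.powers (Ideal.Quotient.mk J g₁))] at h4
    obtain ⟨⟨_, m, rfl⟩, hm⟩ := h4
    have h5 : g₁ ^ m * (g ^ k * Q.coeff d) ∈ J := (mk_pow_mul_eq_zero_iff J g₁ m _).1 hm
    have h6 : g ^ (m + k) * Q.coeff d ∈ J := by
      have : g ^ (m + k) * Q.coeff d = a ^ m * (g₁ ^ m * (g ^ k * Q.coeff d)) := by
        rw [pow_add, hg, mul_pow]
        ring
      rw [this]
      exact J.mul_mem_left _ h5
    have h7 : φ (Q.coeff d) ∈ J.map φ := (algebraMap_mem_map_iff g J _).2 ⟨m + k, h6⟩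
    have h8 : φ (Q.coeff d) = φ (g ^ t) * P'.coeff d := by
      rw [← coeff_map, hQP, coeff_C_mul]
    rw [h8] at h7
    exact (Ideal.unit_mul_mem_iff_mem _ (isUnit_algebraMap_pow g t)).1 h7

theorem isLocallyQuasiRegular_of_fg_projective_symGr (hFG : J.FG)
    (hproj : Module.Projective (R ⧸ J) J.Cotangent) (hsym : SymGrBijective R J) :
    IsLocallyQuasiRegular R J := by
  intro P _ hJP
  obtain ⟨g₁, hg₁, r, F, b, hb⟩ := exists_basis_vv J hFG hproj P hJP
  have hSP := condSP_of_basis b hb
  obtain ⟨a, ha, haJ⟩ := exists_mul_mem_span hFG hSP P hJP hg₁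
  have hspan := span_eq_map g₁ a F haJ
  refine ⟨g₁ * a, fun h => (Ideal.IsPrime.mem_or_mem ‹_› h).elim hg₁ ha, r,
    fun l => algebraMap R _ (F l), isQuasiRegular_loc hsym g₁ a _ rfl F b hb hspan, hspan⟩

end main

end Groth.Agent.Helper8.QRLoc
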