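import Mathlib
import Groth.Agent.Lib.Helper8.RegularLocal4
import Groth.Agent.Lib.Helper8.CohenFact5

/-!
# Number of generators of ideals under surjections of regular local rings

If `Q → R` is a surjection of regular local rings and `I` is a proper ideal of `R`, then the
preimage of `I` in `Q` needs exactly `dim Q - dim R` more generators than `I`.
-/

set_option autoImplicit false

namespace Groth.Agent.Helper8.CIPres

open IsLocalRing

universe u

section exchange

variable {Q : Type*} [CommRing Q]

/-- The easy inequality: an ideal containing `x` needs at most one more generator than its image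
modulo `x`. -/
theorem spanFinrank_le_map_mk_add_one (L : Ideal Q) (x : Q) (hxL : x ∈ L)
    (hfg : (L.map (Ideal.Quotient.mk (Ideal.span {x}))).FG) :
    L.spanFinrank ≤ (L.map (Ideal.Quotient.mk (Ideal.span {x}))).spanFinrank + 1 := by
  classical
  obtain ⟨s, hs1, hs2⟩ := Submodule.FG.exists_span_finset_card_eq_spanFinrank hfg
  have hmem : ∀ y ∈ s, ∃ l ∈ L, Ideal.Quotient.mk (Ideal.span {x}) l = y := by
    intro y hy
    have : y ∈ L.map (Ideal.Quotient.mk (Ideal.span {x})) := by
      rw [← hs2]; exact Submodule.subset_span hy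
    exact (Ideal.mem_map_iff_of_surjective _ Ideal.Quotient.mk_surjective).1 this
  choose! g hgL hg using hmem
  have hL : L = Ideal.span (insert x (g '' (s : Set (Q ⧸ Ideal.span {x})))) := by
    apply le_antisymm
    · intro l hl
      have h1 : Ideal.Quotient.mk (Ideal.span {x}) l ∈
          (Ideal.span (g '' (s : Set (Q ⧸ Ideal.span {x})))).map
            (Ideal.Quotient.mk (Ideal.span {x})) := by
        rw [Ideal.map_span, ← Set.image_comp]
        have h2 : (Ideal.Quotient.mk (Ideal.span {x}) ∘ g) '' (s : Set (Q ⧸ Ideal.span {x})) =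
            (s : Set (Q ⧸ Ideal.span {x})) := by
          ext y
          constructor
          · rintro ⟨z, hz, rfl⟩
            rw [Function.comp_apply, hg z hz]; exact hz
          · intro hy
            exact ⟨y, hy, hg y hy⟩
        rw [h2]
        change _ ∈ Submodule.span _ _
        rw [hs2]
        exact Ideal.mem_map_of_mem _ hl
      have h3 : l ∈ ((Ideal.span (g '' (s : Set (Q ⧸ Ideal.span {x})))).map
            (Ideal.Quotient.mk (Ideal.span {x}))).comap (Ideal.Quotient.mk (Ideal.span {x})) := h1
      rw [Ideal.comap_map_of_surjective _ Ideal.Quotient.mk_surjective, ← RingHom.ker_eq_comap_bot,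
        Ideal.mk_ker] at h3
      rw [Set.insert_eq, Ideal.span_union, sup_comm]
      exact h3
    · rw [Ideal.span_le]
      rintro z (rfl | ⟨y, hy, rfl⟩)
      · exact hxL
      · exact hgL y hy
  calc L.spanFinrank = (Ideal.span (insert x (g '' (s : Set (Q ⧸ Ideal.span {x}))))).spanFinrank := by
        rw [← hL]
    _ ≤ (insert x (g '' (s : Set (Q ⧸ Ideal.span {x})))).ncard :=
        Submodule.spanFinrank_span_le_ncard_of_finite
          (Set.Finite.insert _ (s.finite_toSet.image g))
    _ ≤ (g '' (s : Set (Q ⧸ Ideal.span {x}))).ncard + 1 := Set.ncard_insert_le _ _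
    _ ≤ (s : Set (Q ⧸ Ideal.span {x})).ncard + 1 :=
        Nat.add_le_add_right (Set.ncard_image_le s.finite_toSet) 1
    _ = (L.map (Ideal.Quotient.mk (Ideal.span {x}))).spanFinrank + 1 := by
        rw [Set.ncard_coe_finset, hs1]

variable [IsLocalRing Q]

/-- The exchange inequality: if `x ∈ L` is not in `𝔪 L`, then `x` is part of a minimal system of
generators of `L`. -/
theorem map_mk_spanFinrank_add_one_le (L : Ideal Q) (hfg : L.FG) (x : Q) (hxL : x ∈ L)
    (hx : x ∉ maximalIdeal Q * L) :
    (L.map (Ideal.Quotient.mk (Ideal.span {x}))).spanFinrank + 1 ≤ L.spanFinrank := by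
  classical
  obtain ⟨s, hs1, hs2⟩ := Submodule.FG.exists_span_finset_card_eq_spanFinrank hfg
  have hxs : x ∈ Submodule.span Q (s : Set Q) := by rw [hs2]; exact hxL
  obtain ⟨a, -, ha⟩ := Submodule.mem_span_finset.1 hxs
  have hex : ∃ l ∈ s, IsUnit (a l) := by
    by_contra hcon
    push Not at hcon
    apply hx
    rw [← ha]
    refine Ideal.sum_mem _ fun l hl => ?_
    rw [smul_eq_mul]
    refine Ideal.mul_mem_mul ((mem_maximalIdeal _).2 (hcon l hl)) ?_
    have : l ∈ Submodule.span Q (s : Set Q) := Submodule.subset_span hl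
    rw [hs2] at this
    exact this
  obtain ⟨l₀, hl₀, hu⟩ := hex
  obtain ⟨b, hb⟩ := hu.exists_left_inv
  have hl₀mem : l₀ ∈ Ideal.span (insert x ((s.erase l₀ : Finset Q) : Set Q)) := by
    have h1 : a l₀ * l₀ = x - ∑ l ∈ s.erase l₀, a l • l := by
      rw [← ha, ← Finset.add_sum_erase s _ hl₀, smul_eq_mul]; ring
    have h2 : l₀ = b * (x - ∑ l ∈ s.erase l₀, a l • l) := by
      rw [← h1, ← mul_assoc, hb, one_mul]
    have h3 : b * (x - ∑ l ∈ s.erase l₀, a l • l) ∈
        Ideal.span (insert x ((s.erase l₀ : Finset Q) : Set Q)) := by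
      refine Ideal.mul_mem_left _ _ (Ideal.sub_mem _ (Ideal.subset_span (Set.mem_insert _ _)) ?_)
      refine Ideal.sum_mem _ fun l hl => ?_
      rw [smul_eq_mul]
      exact Ideal.mul_mem_left _ _ (Ideal.subset_span (Set.mem_insert_of_mem _ hl))
    rwa [← h2] at h3
  have hL : L = Ideal.span (insert x ((s.erase l₀ : Finset Q) : Set Q)) := by
    apply le_antisymm
    · have : (L : Submodule Q Q) = Submodule.span Q (s : Set Q) := hs2.symm
      change (L : Submodule Q Q) ≤ _
      rw [this, Submodule.span_le]
      intro l hl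
      by_cases hll : l = l₀
      · rw [hll]; exact hl₀mem
      · exact Ideal.subset_span (Set.mem_insert_of_mem _ (Finset.mem_erase.2 ⟨hll, hl⟩))
    · rw [Ideal.span_le]
      rintro z (rfl | hz)
      · exact hxL
      · have : z ∈ Submodule.span Q (s : Set Q) :=
          Submodule.subset_span (Finset.mem_of_mem_erase hz)
        rw [hs2] at this
        exact this
  have hmap : L.map (Ideal.Quotient.mk (Ideal.span {x})) =
      Ideal.span ((Ideal.Quotient.mk (Ideal.span {x})) '' ((s.erase l₀ : Finset Q) : Set Q)) := by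
    conv_lhs => rw [hL]
    rw [Ideal.map_span, Set.image_insert_eq]
    have h0 : Ideal.Quotient.mk (Ideal.span {x}) x = 0 :=
      Ideal.Quotient.eq_zero_iff_mem.2 (Ideal.mem_span_singleton_self x)
    rw [h0]
    apply le_antisymm
    · rw [Ideal.span_le]
      rintro z (rfl | hz)
      · exact Ideal.zero_mem _
      · exact Ideal.subset_span hz
    · exact Ideal.span_mono (Set.subset_insert _ _)
  have h1 : (L.map (Ideal.Quotient.mk (Ideal.span {x}))).spanFinrank ≤ (s.erase l₀).card := by
    rw [hmap]
    refine (Submodule.spanFinrank_span_le_ncard_of_finite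
      ((s.erase l₀).finite_toSet.image _)).trans ?_
    refine (Set.ncard_image_le (s.erase l₀).finite_toSet).trans ?_
    rw [Set.ncard_coe_finset]
  have h2 : (s.erase l₀).card + 1 = s.card := Finset.card_erase_add_one hl₀
  omega

theorem map_mk_spanFinrank_add_one (L : Ideal Q) (hfg : L.FG) (x : Q) (hxL : x ∈ L)
    (hx : x ∉ maximalIdeal Q * L) :
    (L.map (Ideal.Quotient.mk (Ideal.span {x}))).spanFinrank + 1 = L.spanFinrank :=
  le_antisymm (map_mk_spanFinrank_add_one_le L hfg x hxL hx)
    (spanFinrank_le_map_mk_add_one L x hxL (hfg.map _))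

end exchange

section regular

theorem dim_eq_nat (Q : Type u) [CommRing Q] [IsRegularLocalRing Q] :
    ringKrullDim Q = ((maximalIdeal Q).spanFinrank : WithBot ℕ∞) :=
  IsRegularLocalRing.spanFinrank_maximalIdeal.symm

/-- A non-injective surjection of regular local rings kills an element outside `𝔪²`. -/
theorem exists_mem_ker_notMem_sq (Q R : Type u) [CommRing Q] [IsRegularLocalRing Q] [CommRing R]
    [IsRegularLocalRing R] (f : Q →+* R) (hf : Function.Surjective f)
    (hne : ringKrullDim Q ≠ ringKrullDim R) :
    ∃ x ∈ RingHom.ker f, x ∉ maximalIdeal Q ^ 2 := by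
  classical
  by_contra hcon
  push Not at hcon
  have hker : RingHom.ker f ≤ maximalIdeal Q ^ 2 := fun x hx => hcon x hx
  apply hne
  apply le_antisymm _ (ringKrullDim_le_of_surjective f hf)
  rw [dim_eq_nat Q, dim_eq_nat R]
  obtain ⟨t, ht1, ht2⟩ := Submodule.FG.exists_span_finset_card_eq_spanFinrank
    (IsNoetherian.noetherian (maximalIdeal R))
  have hmem : ∀ y ∈ t, ∃ l ∈ maximalIdeal Q, f l = y := by
    intro y hy
    have h1 : y ∈ maximalIdeal R := by
      have : y ∈ Submodule.span R (t : Set R) := Submodule.subset_span hy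
      rw [ht2] at this; exact this
    obtain ⟨l, hl⟩ := hf y
    refine ⟨l, ?_, hl⟩
    rw [mem_maximalIdeal, mem_nonunits_iff]
    intro hu
    have : IsUnit y := hl ▸ hu.map f
    exact ((mem_maximalIdeal _).1 h1) this
  choose! g hgm hg using hmem
  have hle : maximalIdeal Q ≤ Ideal.span (g '' (t : Set R)) ⊔ RingHom.ker f := by
    intro q hq
    have h1 : f q ∈ (Ideal.span (g '' (t : Set R))).map f := by
      rw [Ideal.map_span, ← Set.image_comp]
      have h2 : (f ∘ g) '' (t : Set R) = (t : Set R) := by
        ext y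
        constructor
        · rintro ⟨z, hz, rfl⟩
          rw [Function.comp_apply, hg z hz]; exact hz
        · intro hy
          exact ⟨y, hy, hg y hy⟩
      rw [h2]
      change _ ∈ Submodule.span _ _
      rw [ht2]
      have : ¬ IsUnit (f q) := by
        intro hu
        obtain ⟨q', hq'⟩ := hf (hu.unit⁻¹ : Rˣ)
        have h3 : f (q * q') = 1 := by rw [map_mul, hq']; exact hu.mul_val_inv
        have h4 : q * q' - 1 ∈ RingHom.ker f := by
          rw [RingHom.mem_ker, map_sub, h3, map_one, sub_self]
        have h5 : q * q' - 1 ∈ maximalIdeal Q :=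
          (Ideal.pow_le_self (by norm_num : (2 : ℕ) ≠ 0)) (hker h4)
        have h6 : (1 : Q) ∈ maximalIdeal Q := by
          have := Ideal.sub_mem _ (Ideal.mul_mem_right q' _ hq) h5
          rwa [sub_sub_cancel] at this
        exact (Ideal.ne_top_iff_one _).1 (maximalIdeal.isMaximal Q).ne_top h6
      exact (mem_maximalIdeal _).2 this
    have h3 : q ∈ ((Ideal.span (g '' (t : Set R))).map f).comap f := h1
    rwa [Ideal.comap_map_of_surjective _ hf, ← RingHom.ker_eq_comap_bot] at h3
  have hnak : maximalIdeal Q ≤ Ideal.span (g '' (t : Set R)) := by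
    apply Submodule.le_of_le_smul_of_le_jacobson_bot (I := maximalIdeal Q)
      (IsNoetherian.noetherian _) (IsLocalRing.maximalIdeal_le_jacobson _)
    refine hle.trans (sup_le_sup_left (hker.trans ?_) _)
    rw [pow_two, smul_eq_mul]
  have heq : maximalIdeal Q = Ideal.span (g '' (t : Set R)) := by
    apply le_antisymm hnak
    rw [Ideal.span_le]
    rintro _ ⟨y, hy, rfl⟩
    exact hgm y hy
  have h1 : (maximalIdeal Q).spanFinrank ≤ t.card := by
    rw [heq]
    refine (Submodule.spanFinrank_span_le_ncard_of_finite (t.finite_toSet.image _)).trans ?_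
    refine (Set.ncard_image_le t.finite_toSet).trans ?_
    rw [Set.ncard_coe_finset]
  rw [ht1] at h1
  exact_mod_cast h1

theorem spanFinrank_comap_aux (c : ℕ) : ∀ (Q : Type u) [CommRing Q] [IsRegularLocalRing Q]
    (R : Type u) [CommRing R] [IsRegularLocalRing R] (f : Q →+* R) (_ : Function.Surjective f),
    ringKrullDim Q = ringKrullDim R + c → ∀ (I : Ideal R), I ≠ ⊤ →
      (I.comap f).spanFinrank = I.spanFinrank + c := by
  induction c with
  | zero =>
    intro Q _ _ R _ _ f hf hdim I _
    haveI : IsDomain Q := RLR.isDomain Q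
    have hinj : Function.Injective f := by
      apply CohenFact.injective_of_surjective_of_dim_le f hf (maximalIdeal Q).spanFinrank
      · rw [dim_eq_nat Q]
      · rw [← dim_eq_nat Q, hdim]; simp
    let e : Q ≃+* R := RingEquiv.ofBijective f ⟨hinj, hf⟩
    have h1 : I.comap f = I.map (e.symm : R →+* Q) := by
      have : I.comap f = I.comap (e : Q →+* R) := rfl
      rw [this]
      exact (Ideal.map_symm e).symm
    rw [h1, add_zero]
    exact Ideal.spanFinrank_map_eq_of_ringEquiv e.symm I
  | succ c ih =>
    intro Q _ _ R _ _ f hf hdim I hI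
    have hne : ringKrullDim Q ≠ ringKrullDim R := by
      rw [hdim, dim_eq_nat R]
      intro h
      have h' : (maximalIdeal R).spanFinrank + (c + 1) = (maximalIdeal R).spanFinrank := by
        exact_mod_cast h
      omega
    obtain ⟨x, hxk, hx2⟩ := exists_mem_ker_notMem_sq Q R f hf hne
    have hLtop : I.comap f ≠ ⊤ := Ideal.comap_ne_top f hI
    have hLm : I.comap f ≤ maximalIdeal Q := le_maximalIdeal hLtop
    have hxL : x ∈ I.comap f := by
      rw [Ideal.mem_comap, RingHom.mem_ker.1 hxk]; exact Ideal.zero_mem _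
    have hxm : x ∈ maximalIdeal Q := hLm hxL
    obtain ⟨hreg, hd'⟩ := RLR.quotient_singleton hxm hx2
    haveI := hreg
    have hle : ∀ a ∈ Ideal.span ({x} : Set Q), f a = 0 := by
      intro a ha
      have : Ideal.span ({x} : Set Q) ≤ RingHom.ker f := by
        rw [Ideal.span_le, Set.singleton_subset_iff]; exact hxk
      exact RingHom.mem_ker.1 (this ha)
    let f' : Q ⧸ Ideal.span ({x} : Set Q) →+* R := Ideal.Quotient.lift _ f hle
    have hf' : Function.Surjective f' := by
      intro y
      obtain ⟨q, rfl⟩ := hf y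
      exact ⟨Ideal.Quotient.mk _ q, Ideal.Quotient.lift_mk _ _ _⟩
    have hdim' : ringKrullDim (Q ⧸ Ideal.span ({x} : Set Q)) = ringKrullDim R + c := by
      rw [dim_eq_nat Q, dim_eq_nat (Q ⧸ Ideal.span ({x} : Set Q))] at hd'
      rw [dim_eq_nat Q, dim_eq_nat R] at hdim
      rw [dim_eq_nat (Q ⧸ Ideal.span ({x} : Set Q)), dim_eq_nat R]
      have h1 : (maximalIdeal (Q ⧸ Ideal.span ({x} : Set Q))).spanFinrank + 1 =
          (maximalIdeal Q).spanFinrank := by exact_mod_cast hd'
      have h2 : (maximalIdeal Q).spanFinrank = (maximalIdeal R).spanFinrank + (c + 1) := by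
        exact_mod_cast hdim
      have h3 : (maximalIdeal (Q ⧸ Ideal.span ({x} : Set Q))).spanFinrank =
          (maximalIdeal R).spanFinrank + c := by omega
      exact_mod_cast h3
    have hih := ih (Q ⧸ Ideal.span ({x} : Set Q)) R f' hf' hdim' I hI
    have hcomp : f'.comp (Ideal.Quotient.mk (Ideal.span ({x} : Set Q))) = f := by
      ext a; exact Ideal.Quotient.lift_mk (Ideal.span ({x} : Set Q)) f hle
    have hmap : (I.comap f).map (Ideal.Quotient.mk (Ideal.span ({x} : Set Q))) = I.comap f' := by
      have : I.comap f = (I.comap f').comap (Ideal.Quotient.mk (Ideal.span ({x} : Set Q))) := by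
        rw [Ideal.comap_comap, hcomp]
      rw [this, Ideal.map_comap_of_surjective _ Ideal.Quotient.mk_surjective]
    have hnot : x ∉ maximalIdeal Q * I.comap f := by
      intro h
      apply hx2
      rw [pow_two]
      exact Ideal.mul_mono_right hLm h
    have hE := map_mk_spanFinrank_add_one (I.comap f) (IsNoetherian.noetherian _) x hxL hnot
    rw [hmap, hih] at hE
    omega

/-- For a surjection `f : Q → R` of regular local rings and a proper ideal `I` of `R`, the
preimage of `I` needs `dim Q - dim R` more generators than `I`. -/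
theorem spanFinrank_comap (Q : Type u) [CommRing Q] [IsRegularLocalRing Q]
    (R : Type u) [CommRing R] [IsRegularLocalRing R] (f : Q →+* R) (hf : Function.Surjective f)
    (I : Ideal R) (hI : I ≠ ⊤) :
    (I.comap f).spanFinrank + (maximalIdeal R).spanFinrank =
      I.spanFinrank + (maximalIdeal Q).spanFinrank := by
  have hle : (maximalIdeal R).spanFinrank ≤ (maximalIdeal Q).spanFinrank := by
    have := ringKrullDim_le_of_surjective f hf
    rw [dim_eq_nat Q, dim_eq_nat R] at this
    exact_mod_cast this
  obtain ⟨c, hc⟩ := Nat.exists_eq_add_of_le hle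
  have hdim : ringKrullDim Q = ringKrullDim R + c := by
    rw [dim_eq_nat Q, dim_eq_nat R, hc]; push_cast; rfl
  have := spanFinrank_comap_aux c Q R f hf hdim I hI
  omega

end regular

end Groth.Agent.Helper8.CIPres
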