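import Mathlib
import Groth.Agent.Lib.Helper8.CohenFact5
import Groth.Agent.Lib.Helper8.CohenLift4
import Groth.Agent.Lib.Helper8.CatCM2
import Groth.Agent.S0579

/-!
# Two surjections onto a local ring from complete local rings are dominated by a regular one
-/

set_option autoImplicit false

namespace Groth.Agent.Helper8.CIPres

open IsLocalRing MvPowerSeries

universe u

/-- A coefficient ring for `R` with the lifting property towards `S`. -/
theorem exists_coeff (R S : Type u) [CommRing R] [CommRing S] [IsLocalRing R] [IsLocalRing S]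
    [IsAdicComplete (maximalIdeal R) R]
    (hchar : ∀ n : ℕ, (n : R) ∈ maximalIdeal R → (n : S) ∈ maximalIdeal S) :
    ∃ (W : Type u) (_ : CommRing W) (_ : IsRegularLocalRing W) (φ : W →+* R),
      Function.Surjective ((residue R).comp φ) ∧ CohenLift.LiftProp W (maximalIdeal S) := by
  obtain ⟨q, hq⟩ := CharP.exists (ResidueField R)
  rcases CharP.char_is_prime_or_zero (ResidueField R) q with hqp | hq0
  · obtain ⟨Λ, hΛ, hd, hv, hc, φ, hm, hφ⟩ := CohenFact.exists_cohen_section R q hqp
    have hqR : (q : R) ∈ maximalIdeal R := by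
      rw [← residue_eq_zero_iff, map_natCast]
      exact CharP.cast_eq_zero _ q
    exact ⟨Λ, hΛ, inferInstance, φ, hφ,
      CohenLift.liftProp_of_cohen Λ q hqp hm (maximalIdeal S) (hchar q hqR)⟩
  · subst hq0
    haveI : CharZero (ResidueField R) := CharP.charP_to_charZero _
    obtain ⟨s, hs⟩ := Groth.Agent.S0579.result R
    have hφ : Function.Surjective ((residue R).comp s) := by
      rw [hs]; exact Function.surjective_id
    exact ⟨ResidueField R, inferInstance, inferInstance, s, hφ,
      CohenLift.liftProp_of_charZero (ResidueField R) (maximalIdeal S)⟩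

section dom

variable {R S A : Type u} [CommRing R] [CommRing S] [CommRing A] [IsLocalRing R] [IsLocalRing S]
  [IsLocalRing A] [IsNoetherianRing R] [IsNoetherianRing S]
  [IsAdicComplete (maximalIdeal R) R] [IsAdicComplete (maximalIdeal S) S]
  [IsHausdorff (maximalIdeal A) A]
  (π : R →+* A) (ρ : S →+* A) (hπ : Function.Surjective π) (hρ : Function.Surjective ρ)

omit [IsNoetherianRing R] [IsAdicComplete (maximalIdeal R) R] [IsHausdorff (maximalIdeal A) A] in
include hπ in
theorem mem_maximalIdeal_iff_map (r : R) : r ∈ maximalIdeal R ↔ π r ∈ maximalIdeal A := by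
  haveI := IsLocalHom.of_surjective π hπ
  rw [mem_maximalIdeal, mem_maximalIdeal, mem_nonunits_iff, mem_nonunits_iff, isUnit_map_iff]

include hπ hρ in
/-- Two surjections onto `A` from complete Noetherian local rings are dominated by a regular
local ring surjecting compatibly onto both. -/
theorem exists_dominating :
    ∃ (Q : Type u) (_ : CommRing Q) (_ : IsRegularLocalRing Q) (f : Q →+* R) (g : Q →+* S),
      Function.Surjective f ∧ Function.Surjective g ∧ π.comp f = ρ.comp g := by
  classical
  have hchar : ∀ n : ℕ, (n : R) ∈ maximalIdeal R → (n : S) ∈ maximalIdeal S := by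
    intro n hn
    rw [mem_maximalIdeal_iff_map ρ hρ, map_natCast, ← map_natCast π,
      ← mem_maximalIdeal_iff_map π hπ]
    exact hn
  obtain ⟨W, hW, hWreg, φ, hφ, hLP⟩ := exists_coeff R S hchar
  -- lift `π ∘ φ` to `S`
  have hJ : RingHom.ker ρ ≠ ⊤ := RingHom.ker_ne_top ρ
  let eρ : (S ⧸ RingHom.ker ρ) ≃+* A := RingHom.quotientKerEquivOfSurjective hρ
  let u : W →+* S ⧸ RingHom.ker ρ := eρ.symm.toRingHom.comp (π.comp φ)
  obtain ⟨ψ, hψ⟩ := CohenLift.exists_lift_quotient (RingHom.ker ρ) hJ u hLP
  have hρψ : ∀ w, ρ (ψ w) = π (φ w) := by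
    intro w
    have h1 : Ideal.Quotient.mk (RingHom.ker ρ) (ψ w) = eρ.symm (π (φ w)) :=
      RingHom.congr_fun hψ w
    have h2 : eρ (Ideal.Quotient.mk (RingHom.ker ρ) (ψ w)) = π (φ w) := by
      rw [h1]; exact eρ.apply_symm_apply _
    rw [← h2]
    rfl
  have hψres : Function.Surjective ((residue S).comp ψ) := by
    intro y
    obtain ⟨s, rfl⟩ := residue_surjective y
    obtain ⟨r, hr⟩ := hπ (ρ s)
    obtain ⟨w, hw⟩ := hφ (residue R r)
    refine ⟨w, ?_⟩
    rw [RingHom.comp_apply, ← sub_eq_zero, ← map_sub, residue_eq_zero_iff,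
      mem_maximalIdeal_iff_map ρ hρ, map_sub, hρψ, ← hr, ← map_sub,
      ← mem_maximalIdeal_iff_map π hπ, ← residue_eq_zero_iff, map_sub, sub_eq_zero]
    exact hw
  -- generators
  obtain ⟨n, b, hb⟩ := Submodule.fg_iff_exists_fin_generating_family.1
    (IsNoetherian.noetherian (maximalIdeal R))
  obtain ⟨m, c, hc⟩ := Submodule.fg_iff_exists_fin_generating_family.1
    (IsNoetherian.noetherian (maximalIdeal S))
  have hbm : ∀ i, b i ∈ maximalIdeal R := fun i => by
    rw [← hb]; exact Submodule.subset_span ⟨i, rfl⟩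
  have hcm : ∀ j, c j ∈ maximalIdeal S := fun j => by
    rw [← hc]; exact Submodule.subset_span ⟨j, rfl⟩
  have hs : ∀ i, ∃ s ∈ maximalIdeal S, ρ s = π (b i) := by
    intro i
    obtain ⟨s, hs⟩ := hρ (π (b i))
    refine ⟨s, ?_, hs⟩
    rw [mem_maximalIdeal_iff_map ρ hρ, hs, ← mem_maximalIdeal_iff_map π hπ]
    exact hbm i
  have hr : ∀ j, ∃ r ∈ maximalIdeal R, π r = ρ (c j) := by
    intro j
    obtain ⟨r, hr⟩ := hπ (ρ (c j))
    refine ⟨r, ?_, hr⟩
    rw [mem_maximalIdeal_iff_map π hπ, hr, ← mem_maximalIdeal_iff_map ρ hρ]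
    exact hcm j
  choose s hsm hs using hs
  choose r hrm hr using hr
  let dR : Fin (n + m) → R := Fin.append b r
  let dS : Fin (n + m) → S := Fin.append s c
  have hdR : ∀ k, dR k ∈ maximalIdeal R := by
    intro k
    refine Fin.addCases (fun i => ?_) (fun j => ?_) k
    · show Fin.append b r (Fin.castAdd m i) ∈ _
      rw [Fin.append_left]; exact hbm i
    · show Fin.append b r (Fin.natAdd n j) ∈ _
      rw [Fin.append_right]; exact hrm j
  have hdS : ∀ k, dS k ∈ maximalIdeal S := by
    intro k
    refine Fin.addCases (fun i => ?_) (fun j => ?_) k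
    · show Fin.append s c (Fin.castAdd m i) ∈ _
      rw [Fin.append_left]; exact hsm i
    · show Fin.append s c (Fin.natAdd n j) ∈ _
      rw [Fin.append_right]; exact hcm j
  have hdRS : ∀ k, π (dR k) = ρ (dS k) := by
    intro k
    refine Fin.addCases (fun i => ?_) (fun j => ?_) k
    · show π (Fin.append b r (Fin.castAdd m i)) = ρ (Fin.append s c (Fin.castAdd m i))
      rw [Fin.append_left, Fin.append_left, hs]
    · show π (Fin.append b r (Fin.natAdd n j)) = ρ (Fin.append s c (Fin.natAdd n j))
      rw [Fin.append_right, Fin.append_right, hr]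
  obtain ⟨f, hfC, hfX⟩ := Groth.Agent.Helper8.CoeffField.exists_ringHom_eval φ (n + m) dR hdR
  obtain ⟨g, hgC, hgX⟩ := Groth.Agent.Helper8.CoeffField.exists_ringHom_eval ψ (n + m) dS hdS
  have hf : Function.Surjective f := by
    apply CohenFact.surjective_of_generators (n + m) f
    · have : f.comp C = φ := RingHom.ext hfC
      rw [this]; exact hφ
    · have : (fun k => f (X k)) = dR := funext hfX
      rw [this]
      apply le_antisymm
      · rw [Ideal.span_le]; rintro _ ⟨k, rfl⟩; exact hdR k
      · rw [← hb]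
        apply Ideal.span_mono
        rintro _ ⟨i, rfl⟩
        exact ⟨Fin.castAdd m i, Fin.append_left _ _ i⟩
  have hg : Function.Surjective g := by
    apply CohenFact.surjective_of_generators (n + m) g
    · have : g.comp C = ψ := RingHom.ext hgC
      rw [this]; exact hψres
    · have : (fun k => g (X k)) = dS := funext hgX
      rw [this]
      apply le_antisymm
      · rw [Ideal.span_le]; rintro _ ⟨k, rfl⟩; exact hdS k
      · rw [← hc]
        apply Ideal.span_mono
        rintro _ ⟨j, rfl⟩
        exact ⟨Fin.natAdd n j, Fin.append_right _ _ j⟩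
  refine ⟨MvPowerSeries (Fin (n + m)) W, inferInstance, inferInstance, f, g, hf, hg, ?_⟩
  apply CohenFact.ringHom_ext_of_hausdorff (maximalIdeal A)
  · intro w
    rw [RingHom.comp_apply, RingHom.comp_apply, hfC, hgC, hρψ]
  · intro k
    rw [RingHom.comp_apply, RingHom.comp_apply, hfX, hgX, hdRS]
  · intro k
    rw [RingHom.comp_apply, hfX, ← mem_maximalIdeal_iff_map π hπ]
    exact hdR k

end dom

end Groth.Agent.Helper8.CIPres
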