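import Mathlib
import Groth.Prelude
import Groth.Agent.Lib.Helper8.CIPres1
import Groth.Agent.Lib.Helper8.CIPres2
import Groth.Agent.Lib.Helper8.CplQuot1
import Groth.Agent.Lib.Helper8.CplIso1

/-!
# Independence of `dim B - μ(I)` of the presentation `B/I` with `B` regular local
-/

set_option autoImplicit false

namespace Groth.Agent.Helper8.CIPres

open IsLocalRing

universe u

section complete

variable {R S A : Type u} [CommRing R] [CommRing S] [CommRing A] [IsRegularLocalRing R]
  [IsRegularLocalRing S] [IsLocalRing A]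
  [IsAdicComplete (maximalIdeal R) R] [IsAdicComplete (maximalIdeal S) S]
  [IsHausdorff (maximalIdeal A) A]
  (π : R →+* A) (ρ : S →+* A) (hπ : Function.Surjective π) (hρ : Function.Surjective ρ)

include hπ hρ in
/-- Independence of the presentation, complete case. -/
theorem spanFinrank_ker_add_of_complete :
    (RingHom.ker π).spanFinrank + (maximalIdeal S).spanFinrank =
      (RingHom.ker ρ).spanFinrank + (maximalIdeal R).spanFinrank := by
  obtain ⟨Q, hQ, hQreg, f, g, hf, hg, hfg⟩ := exists_dominating π ρ hπ hρ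
  have h1 := spanFinrank_comap Q R f hf (RingHom.ker π) (RingHom.ker_ne_top π)
  have h2 := spanFinrank_comap Q S g hg (RingHom.ker ρ) (RingHom.ker_ne_top ρ)
  have h3 : (RingHom.ker π).comap f = (RingHom.ker ρ).comap g := by
    rw [RingHom.comap_ker, RingHom.comap_ker, hfg]
  rw [h3] at h1
  omega

end complete

section cpl

variable (B : Type u) [CommRing B] [IsNoetherianRing B] [IsLocalRing B] (I : Ideal B)

theorem exists_sub_mem_maximalIdeal (y : EGA4.Cpl B) :
    ∃ b : B, y - algebraMap B (EGA4.Cpl B) b ∈ maximalIdeal (EGA4.Cpl B) := by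
  obtain ⟨b, hb⟩ := Ideal.Quotient.mk_surjective (AdicCompletion.evalOneₐ (maximalIdeal B) y)
  refine ⟨b, ?_⟩
  rw [AdicCompletion.maximalIdeal_eq_map,
    ← AdicCompletion.ker_evalOneₐ_eq_map _ (maximalIdeal B).fg_of_isNoetherianRing,
    RingHom.mem_ker, map_sub, sub_eq_zero]
  change AdicCompletion.evalOneₐ (maximalIdeal B) y = AdicCompletion.evalOneₐ _ _
  rw [← hb]
  rfl

theorem exists_approx (y : EGA4.Cpl B) (hy : y ∈ I.map (algebraMap B (EGA4.Cpl B))) :
    ∃ a ∈ I, y - algebraMap B (EGA4.Cpl B) a ∈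
      maximalIdeal (EGA4.Cpl B) * I.map (algebraMap B (EGA4.Cpl B)) := by
  rw [Ideal.map] at hy
  induction hy using Submodule.span_induction with
  | mem y hy =>
    obtain ⟨a, ha, rfl⟩ := hy
    exact ⟨a, ha, by rw [sub_self]; exact Ideal.zero_mem _⟩
  | zero => exact ⟨0, Ideal.zero_mem _, by rw [map_zero, sub_self]; exact Ideal.zero_mem _⟩
  | add y₁ y₂ _ _ h₁ h₂ =>
    obtain ⟨a₁, ha₁, h₁⟩ := h₁
    obtain ⟨a₂, ha₂, h₂⟩ := h₂
    refine ⟨a₁ + a₂, Ideal.add_mem _ ha₁ ha₂, ?_⟩
    have : y₁ + y₂ - algebraMap B (EGA4.Cpl B) (a₁ + a₂) =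
        (y₁ - algebraMap B (EGA4.Cpl B) a₁) + (y₂ - algebraMap B (EGA4.Cpl B) a₂) := by
      rw [map_add]; ring
    rw [this]
    exact Ideal.add_mem _ h₁ h₂
  | smul c y₁ hy₁ h₁ =>
    obtain ⟨a₁, ha₁, h₁⟩ := h₁
    obtain ⟨b, hb⟩ := exists_sub_mem_maximalIdeal B c
    refine ⟨b * a₁, Ideal.mul_mem_left _ _ ha₁, ?_⟩
    have : c • y₁ - algebraMap B (EGA4.Cpl B) (b * a₁) =
        (c - algebraMap B (EGA4.Cpl B) b) * y₁ +
          algebraMap B (EGA4.Cpl B) b * (y₁ - algebraMap B (EGA4.Cpl B) a₁) := by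
      rw [map_mul, smul_eq_mul]; ring
    rw [this]
    exact Ideal.add_mem _ (Ideal.mul_mem_mul hb hy₁) (Ideal.mul_mem_left _ _ h₁)

/-- The extension of an ideal to the completion needs the same number of generators. -/
theorem spanFinrank_map_cpl :
    (I.map (algebraMap B (EGA4.Cpl B))).spanFinrank = I.spanFinrank := by
  classical
  haveI : IsNoetherianRing (EGA4.Cpl B) := AdicReg.isNoetherianRing B _
  haveI : Module.FaithfullyFlat B (EGA4.Cpl B) := Module.FaithfullyFlat.of_flat_of_isLocalHom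
  apply le_antisymm (Ideal.spanFinrank_map_le_of_fg _ (IsNoetherian.noetherian I))
  set J := I.map (algebraMap B (EGA4.Cpl B)) with hJ
  obtain ⟨s, hs1, hs2⟩ := Submodule.FG.exists_span_finset_card_eq_spanFinrank
    (IsNoetherian.noetherian J)
  have hmem : ∀ y ∈ s, ∃ a ∈ I, y - algebraMap B (EGA4.Cpl B) a ∈
      maximalIdeal (EGA4.Cpl B) * J := by
    intro y hy
    apply exists_approx B I y
    have : y ∈ Submodule.span (EGA4.Cpl B) (s : Set (EGA4.Cpl B)) := Submodule.subset_span hy
    rw [hs2] at this; exact this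
  choose! g hgI hg using hmem
  set I₀ : Ideal B := Ideal.span (g '' (s : Set (EGA4.Cpl B))) with hI₀
  have hI₀I : I₀ ≤ I := by
    rw [hI₀, Ideal.span_le]
    rintro _ ⟨y, hy, rfl⟩
    exact hgI y hy
  have hle : J ≤ I₀.map (algebraMap B (EGA4.Cpl B)) := by
    apply Submodule.le_of_le_smul_of_le_jacobson_bot (I := maximalIdeal (EGA4.Cpl B))
      (IsNoetherian.noetherian _) (IsLocalRing.maximalIdeal_le_jacobson _)
    conv_lhs => rw [← hs2]
    rw [Submodule.span_le]
    intro y hy
    have h1 : y = algebraMap B (EGA4.Cpl B) (g y) + (y - algebraMap B (EGA4.Cpl B) (g y)) := by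
      ring
    rw [h1]
    refine Submodule.add_mem_sup ?_ ?_
    · exact Ideal.mem_map_of_mem _ (Ideal.subset_span ⟨y, hy, rfl⟩)
    · exact hg y hy
  have heq : I₀.map (algebraMap B (EGA4.Cpl B)) = J :=
    le_antisymm (Ideal.map_mono hI₀I) hle
  have hII₀ : I = I₀ := by
    rw [← Ideal.comap_map_eq_self_of_faithfullyFlat (B := EGA4.Cpl B) I,
      ← Ideal.comap_map_eq_self_of_faithfullyFlat (B := EGA4.Cpl B) I₀, heq]
  rw [← hs1, hII₀, hI₀]
  refine (Submodule.spanFinrank_span_le_ncard_of_finite (s.finite_toSet.image _)).trans ?_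
  refine (Set.ncard_image_le s.finite_toSet).trans ?_
  rw [Set.ncard_coe_finset]

end cpl

section equiv

/-- A ring isomorphism of Noetherian local rings induces an isomorphism of completions. -/
theorem nonempty_cpl_ringEquiv {C C' : Type u} [CommRing C] [CommRing C'] [IsLocalRing C]
    [IsLocalRing C'] [IsNoetherianRing C] [IsNoetherianRing C'] (e : C ≃+* C') :
    Nonempty (EGA4.Cpl C ≃+* EGA4.Cpl C') := by
  letI : Algebra C C' := e.toRingHom.toAlgebra
  have halg : ∀ c, algebraMap C C' c = e c := fun _ => rfl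
  let l : C' ≃ₗ[C] C :=
    { toFun := e.symm
      invFun := e
      left_inv := e.apply_symm_apply
      right_inv := e.symm_apply_apply
      map_add' := map_add e.symm
      map_smul' := by
        intro c x
        rw [Algebra.smul_def, halg, map_mul, e.symm_apply_apply, RingHom.id_apply, smul_eq_mul] }
  haveI : Module.Flat C C' := Module.Flat.of_linearEquiv l
  haveI : IsLocalHom (algebraMap C C') := by
    have : algebraMap C C' = (e : C →+* C') := rfl
    rw [this]; infer_instance
  have hmap : (maximalIdeal C).map (algebraMap C C') = maximalIdeal C' :=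
    map_maximalIdeal_of_surjective _ e.surjective
  have hres : ∀ b : C', ∃ a : C, b - algebraMap C C' a ∈ maximalIdeal C' := by
    intro b
    refine ⟨e.symm b, ?_⟩
    rw [halg, e.apply_symm_apply, sub_self]
    exact Ideal.zero_mem _
  exact ⟨(CplIso.cplEquiv C C' hmap hres).toRingEquiv⟩

end equiv

section main

variable (B B' : Type u) [CommRing B] [CommRing B'] [IsRegularLocalRing B] [IsRegularLocalRing B']
  (I : Ideal B) (I' : Ideal B')

/-- Independence of the presentation: if `B/I ≃ B'/I'` with `B`, `B'` regular local, then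
`dim B - μ(I) = dim B' - μ(I')`. -/
theorem spanFinrank_add_eq_of_ringEquiv [Nontrivial (B ⧸ I)] [Nontrivial (B' ⧸ I')]
    (e : (B ⧸ I) ≃+* (B' ⧸ I')) :
    I.spanFinrank + (maximalIdeal B').spanFinrank =
      I'.spanFinrank + (maximalIdeal B).spanFinrank := by
  haveI : IsRegularLocalRing (EGA4.Cpl B) :=
    (AdicReg.isRegularLocalRing_iff B (maximalIdeal B) (maximalIdeal.isMaximal B).ne_top).1
      inferInstance
  haveI : IsRegularLocalRing (EGA4.Cpl B') :=
    (AdicReg.isRegularLocalRing_iff B' (maximalIdeal B') (maximalIdeal.isMaximal B').ne_top).1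
      inferInstance
  haveI : IsNoetherianRing (EGA4.Cpl (B ⧸ I)) := AdicReg.isNoetherianRing (B ⧸ I) _
  obtain ⟨ε⟩ := nonempty_cpl_ringEquiv e.symm
  let π : EGA4.Cpl B →+* EGA4.Cpl (B ⧸ I) := (CplQuot.psi B I).toRingHom
  let ρ : EGA4.Cpl B' →+* EGA4.Cpl (B ⧸ I) :=
    (ε : EGA4.Cpl (B' ⧸ I') →+* EGA4.Cpl (B ⧸ I)).comp (CplQuot.psi B' I').toRingHom
  have hπ : Function.Surjective π := CplQuot.psi_surjective B I
  have hρ : Function.Surjective ρ := ε.surjective.comp (CplQuot.psi_surjective B' I')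
  have hkπ : RingHom.ker π = I.map (algebraMap B (EGA4.Cpl B)) := CplQuot.ker_psi B I
  have hkρ : RingHom.ker ρ = I'.map (algebraMap B' (EGA4.Cpl B')) := by
    rw [← CplQuot.ker_psi B' I']
    ext x
    rw [RingHom.mem_ker, RingHom.mem_ker, RingHom.comp_apply]
    exact (map_eq_zero_iff _ ε.injective)
  have key := spanFinrank_ker_add_of_complete π ρ hπ hρ
  rw [hkπ, hkρ, spanFinrank_map_cpl, spanFinrank_map_cpl,
    AdicCompletion.spanFinrank_maximalIdeal_eq, AdicCompletion.spanFinrank_maximalIdeal_eq] at key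
  exact key

end main

end Groth.Agent.Helper8.CIPres
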