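import Mathlib
import Groth.Prelude
import Groth.Agent.Lib.Helper8.CIPres3
import Groth.Agent.Lib.Helper8.FlatReg5
import Groth.Agent.Lib.Helper8.Depth9
import Groth.Agent.Lib.Helper8.RegularLocal5

/-!
# Ideals of regular local rings generated by regular sequences
-/

set_option autoImplicit false

namespace Groth.Agent.Helper8.CIPres

open IsLocalRing RingTheory.Sequence LocCoh

universe u

variable (B : Type u) [CommRing B] [IsRegularLocalRing B] (I : Ideal B)

omit [IsRegularLocalRing B] in
theorem supportDim_quot_ofList (rs : List B) :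
    Module.supportDim B (B ⧸ (Ideal.ofList rs • (⊤ : Submodule B B))) =
      ringKrullDim (B ⧸ Ideal.ofList rs) := by
  have h1 : (Ideal.ofList rs • (⊤ : Submodule B B)) = (Ideal.ofList rs : Submodule B B) := by
    rw [smul_eq_mul, Ideal.mul_top]
  rw [Module.supportDim_eq_of_equiv (Submodule.quotEquivOfEq _ _ h1),
    Module.supportDim_quotient_eq_ringKrullDim]

include I in
/-- An ideal with `dim B/I + μ(I) = dim B` is generated by a regular sequence. -/
theorem exists_isRegular_of_dim (hI : I ≠ ⊤)
    (hdim : ringKrullDim (B ⧸ I) + I.spanFinrank = ringKrullDim B) :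
    ∃ rs : List B, Ideal.ofList rs = I ∧ IsRegular B rs ∧ rs.length = I.spanFinrank := by
  classical
  obtain ⟨s, hs1, hs2⟩ := Submodule.FG.exists_span_finset_card_eq_spanFinrank
    (IsNoetherian.noetherian I)
  have hof : Ideal.ofList s.toList = I := by
    unfold Ideal.ofList
    have : {r | r ∈ s.toList} = (s : Set B) := by ext; simp
    rw [this]; exact hs2
  have hmem : ∀ r ∈ s.toList, r ∈ maximalIdeal B := by
    intro r hr
    apply le_maximalIdeal hI
    rw [← hof]
    exact Ideal.subset_span hr
  have hCMring := FlatReg.isCohenMacaulayLocalRing_of_isRegularLocalRing B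
  have hCM : IsCohenMacaulayModule B B := hCMring.supportDim_eq_depth
  have hw : IsWeaklyRegular B s.toList := by
    refine ((Depth.cm_list s.toList hmem B hCM).1).mpr ?_
    rw [supportDim_quot_ofList, Module.supportDim_self_eq_ringKrullDim, hof,
      Finset.length_toList, hs1]
    exact hdim
  exact ⟨s.toList, hof, IsRegular.of_isWeaklyRegular_of_mem_maximalIdeal B hmem hw,
    by rw [Finset.length_toList, hs1]⟩

theorem exists_dim_quotient [Nontrivial (B ⧸ I)] :
    ∃ a : ℕ, ringKrullDim (B ⧸ I) = a ∧ a ≤ (maximalIdeal B).spanFinrank := by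
  apply RLR.exists_nat_eq ringKrullDim_nonneg_of_nontrivial
  rw [← dim_eq_nat B]
  exact ringKrullDim_quotient_le I

/-- An ideal generated by a regular sequence `rs` has `dim B/I + μ(I) = dim B` and
`μ(I) = length rs`. -/
theorem dim_of_isRegular (rs : List B) (hrs : Ideal.ofList rs = I) (hreg : IsRegular B rs) :
    ringKrullDim (B ⧸ I) + I.spanFinrank = ringKrullDim B ∧ I.spanFinrank = rs.length := by
  have hI : I ≠ ⊤ := by
    intro h
    apply hreg.top_ne_smul
    rw [hrs, h, smul_eq_mul, Ideal.mul_top]
  haveI : Nontrivial (B ⧸ I) := Ideal.Quotient.nontrivial_iff.2 hI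
  have h1 := Module.supportDim_add_length_eq_supportDim_of_isRegular rs hreg
  rw [supportDim_quot_ofList, Module.supportDim_self_eq_ringKrullDim, hrs] at h1
  have h2 : I.spanFinrank ≤ rs.length := by
    rw [← hrs]; exact RLR.spanFinrank_ofList_le rs
  have h3 : ringKrullDim B ≤ ringKrullDim (B ⧸ I) + I.spanFinrank := by
    apply ringKrullDim_le_ringKrullDim_quotient_add_spanFinrank
    rw [ringJacobson_eq_maximalIdeal]
    exact le_maximalIdeal hI
  obtain ⟨a, ha, -⟩ := exists_dim_quotient B I
  rw [ha, dim_eq_nat B] at h1 h3 ⊢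
  have h1' : a + rs.length = (maximalIdeal B).spanFinrank := by exact_mod_cast h1
  have h3' : (maximalIdeal B).spanFinrank ≤ a + I.spanFinrank := by exact_mod_cast h3
  have h4 : I.spanFinrank = rs.length := by omega
  refine ⟨?_, h4⟩
  rw [h4]
  exact_mod_cast h1'

end Groth.Agent.Helper8.CIPres
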