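import Mathlib
import Groth.Prelude
import Groth.Agent.Lib.Helper8.CIPres4

/-!
# Complete intersections: independence of the presentation
-/

set_option autoImplicit false

namespace Groth.Agent.Helper8.CIPres

open IsLocalRing RingTheory.Sequence

universe u

/-- The complete intersection property can be tested on any presentation of the completion as a
quotient of a regular local ring. -/
theorem isCompleteIntersection_iff (A : Type u) [CommRing A] [IsLocalRing A]
    (B : Type u) [CommRing B] [IsRegularLocalRing B] (I : Ideal B)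
    (e : EGA4.Cpl A ≃+* B ⧸ I) :
    Pi1.IsCompleteIntersection A ↔
      ringKrullDim (B ⧸ I) + I.spanFinrank = ringKrullDim B := by
  haveI : Nontrivial (EGA4.Cpl A) :=
    (AdicCompletion.evalOneₐ_surjective (maximalIdeal A)).nontrivial
  haveI : Nontrivial (B ⧸ I) := e.injective.nontrivial
  have hI : I ≠ ⊤ := Ideal.Quotient.nontrivial_iff.1 inferInstance
  constructor
  · rintro ⟨B', hB', hreg', rs, hmem, hrs, ⟨e'⟩⟩
    set I' : Ideal B' := Ideal.ofList rs with hI'
    have e'' : EGA4.Cpl A ≃+* B' ⧸ I' := e'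
    haveI : Nontrivial (B' ⧸ I') := e''.injective.nontrivial
    obtain ⟨h1, -⟩ := dim_of_isRegular B' I' rs rfl hrs
    have h2 := spanFinrank_add_eq_of_ringEquiv B B' I I' (e.symm.trans e'')
    have h3 : ringKrullDim (B ⧸ I) = ringKrullDim (B' ⧸ I') :=
      ringKrullDim_eq_of_ringEquiv (e.symm.trans e'')
    obtain ⟨a, ha, -⟩ := exists_dim_quotient B I
    rw [h3] at ha
    rw [h3, ha, dim_eq_nat B]
    rw [ha, dim_eq_nat B'] at h1
    have h1' : a + I'.spanFinrank = (maximalIdeal B').spanFinrank := by exact_mod_cast h1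
    have : a + I.spanFinrank = (maximalIdeal B).spanFinrank := by omega
    exact_mod_cast this
  · intro hdim
    obtain ⟨rs, hof, hreg, -⟩ := exists_isRegular_of_dim B I hI hdim
    refine ⟨B, inferInstance, inferInstance, rs, ?_, hreg, ⟨?_⟩⟩
    · intro r hr
      apply le_maximalIdeal hI
      rw [← hof]
      exact Ideal.subset_span hr
    · exact e.trans (Ideal.quotEquivOfEq hof.symm)

/-- The complete intersection property is invariant under ring isomorphisms. -/
theorem isCompleteIntersection_of_ringEquiv {A A' : Type u} [CommRing A] [CommRing A']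
    [IsLocalRing A] [IsLocalRing A'] [IsNoetherianRing A] [IsNoetherianRing A'] (e : A ≃+* A')
    (h : Pi1.IsCompleteIntersection A) : Pi1.IsCompleteIntersection A' := by
  obtain ⟨B, hB, hreg, rs, hmem, hrs, ⟨ε⟩⟩ := h
  obtain ⟨ε'⟩ := nonempty_cpl_ringEquiv e.symm
  exact ⟨B, hB, hreg, rs, hmem, hrs, ⟨ε'.trans ε⟩⟩

section quotient

variable (R : Type u) [CommRing R] [IsRegularLocalRing R] (I : Ideal R)

/-- The presentation of the completion of `R/I` as a quotient of the completion of `R`. -/
theorem nonempty_cpl_quotient_equiv [Nontrivial (R ⧸ I)] :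
    Nonempty (EGA4.Cpl (R ⧸ I) ≃+* EGA4.Cpl R ⧸ I.map (algebraMap R (EGA4.Cpl R))) := by
  have h1 := CplQuot.ker_psi R I
  let σ2 : (EGA4.Cpl R ⧸ RingHom.ker (CplQuot.psi R I).toRingHom) ≃+* EGA4.Cpl (R ⧸ I) :=
    RingHom.quotientKerEquivOfSurjective (f := (CplQuot.psi R I).toRingHom)
      (CplQuot.psi_surjective R I)
  exact ⟨σ2.symm.trans (Ideal.quotEquivOfEq h1)⟩

/-- **Quotients of regular local rings**: `R/I` is a complete intersection iff `I` is generated
by a regular sequence. -/
theorem isCompleteIntersection_quotient_iff (hI : I ≠ ⊤) [IsLocalRing (R ⧸ I)] :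
    Pi1.IsCompleteIntersection (R ⧸ I) ↔
      ∃ rs : List R, Ideal.ofList rs = I ∧ RingTheory.Sequence.IsRegular R rs := by
  haveI : Nontrivial (R ⧸ I) := Ideal.Quotient.nontrivial_iff.2 hI
  haveI : IsRegularLocalRing (EGA4.Cpl R) :=
    (AdicReg.isRegularLocalRing_iff R (maximalIdeal R) (maximalIdeal.isMaximal R).ne_top).1
      inferInstance
  obtain ⟨e⟩ := nonempty_cpl_quotient_equiv R I
  rw [isCompleteIntersection_iff (R ⧸ I) (EGA4.Cpl R) _ e, spanFinrank_map_cpl,
    ← ringKrullDim_eq_of_ringEquiv e,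
    AdicReg.ringKrullDim_eq R (maximalIdeal R) (maximalIdeal.isMaximal R).ne_top,
    AdicReg.ringKrullDim_eq (R ⧸ I) (maximalIdeal (R ⧸ I))
      (maximalIdeal.isMaximal (R ⧸ I)).ne_top]
  constructor
  · intro hdim
    obtain ⟨rs, hof, hreg, -⟩ := exists_isRegular_of_dim R I hI hdim
    exact ⟨rs, hof, hreg⟩
  · rintro ⟨rs, hof, hreg⟩
    exact (dim_of_isRegular R I rs hof hreg).1

end quotient

end Groth.Agent.Helper8.CIPres
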