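import Mathlib
import Groth.Prelude
import Groth.Agent.S2057

/-!
# Universal injectivity of the map to the completion (Krull intersection argument)
-/

set_option autoImplicit false

universe u

namespace Groth.Agent.Helper8.UnivCpl

open TensorProduct

section krull

variable {S : Type u} [CommRing S] [IsNoetherianRing S] (J : Ideal S)
  {T : Type*} [AddCommGroup T] [Module S T] [Module.Finite S T]

/-- Krull intersection + associated primes meeting `V(J)` -/
theorem eq_zero_of_mem_iInf (hass : ∀ q ∈ associatedPrimes S T, J ⊔ q ≠ ⊤) (t : T)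
    (ht : ∀ k : ℕ, t ∈ J ^ k • (⊤ : Submodule S T)) : t = 0 := by
  by_contra hne
  have ht' : t ∈ (⨅ i : ℕ, J ^ i • ⊤ : Submodule S T) := by
    rw [Submodule.mem_iInf]
    exact ht
  obtain ⟨r, hr⟩ := (J.mem_iInf_smul_pow_eq_bot_iff t).mp ht'
  obtain ⟨q, hq, hle⟩ := exists_le_isAssociatedPrime_of_isNoetherianRing S t hne
  apply hass q hq
  rw [Ideal.eq_top_iff_one]
  have h1 : (1 - (r : S)) ∈ q := by
    apply hle
    rw [Submodule.mem_colon_singleton, Submodule.mem_bot, sub_smul, one_smul, hr, sub_self]
  have h2 : (1 : S) = (r : S) + (1 - (r : S)) := by ring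
  rw [h2]
  exact Submodule.add_mem_sup r.2 h1

end krull

section towers

variable {R S : Type u} [CommRing R] [CommRing S] [Algebra R S] (I : Ideal R)
  {N : Type*} [AddCommGroup N] [Module S N] [Module R N] [IsScalarTower R S N]

theorem mem_map_pow_smul_top {k : ℕ} {x : N} (hx : x ∈ I ^ k • (⊤ : Submodule R N)) :
    x ∈ (I.map (algebraMap R S)) ^ k • (⊤ : Submodule S N) := by
  refine Submodule.smul_induction_on hx (fun r hr n _ => ?_) (fun x y hx hy => ?_)
  · rw [← algebraMap_smul S r n]
    refine Submodule.smul_mem_smul ?_ Submodule.mem_top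
    rw [← Ideal.map_pow]
    exact Ideal.mem_map_of_mem _ hr
  · exact Submodule.add_mem _ hx hy

end towers

end Groth.Agent.Helper8.UnivCpl
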