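import Mathlib
import Groth.Prelude
import Groth.Agent.Lib.Helper8.UnivCpl1

/-!
# Universal injectivity of `N → N^` under a condition on associated primes
-/

set_option autoImplicit false

universe u

namespace Groth.Agent.Helper8.UnivCpl

open TensorProduct

section matrix

variable {R : Type u} [CommRing R] {n m : ℕ} (a : Fin n → Fin m → R)

/-- the linear map of a matrix -/
noncomputable def matMap : (Fin m → R) →ₗ[R] (Fin n → R) :=
  LinearMap.pi fun i => ∑ j, a i j • (LinearMap.proj j : (Fin m → R) →ₗ[R] R)

theorem matMap_apply (z : Fin m → R) (i : Fin n) : matMap a z i = ∑ j, a i j * z j := by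
  simp [matMap]

theorem matMap_single (j : Fin m) :
    matMap a (Pi.single j 1) = ∑ i, a i j • (Pi.single i (1 : R) : Fin n → R) := by
  funext i'
  rw [matMap_apply, Finset.sum_apply]
  simp only [Pi.smul_apply, Pi.single_apply, smul_eq_mul, mul_ite, mul_one, mul_zero]
  rw [Finset.sum_ite_eq', Finset.sum_ite_eq]
  simp

variable (N : Type u) [AddCommGroup N] [Module R N]

theorem piScalarRight_lTensor_matMap (ζ : N ⊗[R] (Fin m → R)) (i : Fin n) :
    TensorProduct.piScalarRight R R N (Fin n) ((matMap a).lTensor N ζ) i =
      ∑ j, a i j • (TensorProduct.piScalarRight R R N (Fin m) ζ) j := by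
  induction ζ using TensorProduct.induction_on with
  | zero => simp
  | tmul x f =>
    rw [LinearMap.lTensor_tmul, TensorProduct.piScalarRight_apply,
      TensorProduct.piScalarRightHom_tmul, TensorProduct.piScalarRight_apply,
      TensorProduct.piScalarRightHom_tmul]
    change (matMap a) f i • x = ∑ j, a i j • (f j • x)
    rw [matMap_apply, Finset.sum_smul]
    simp only [mul_smul]
  | add x y hx hy =>
    rw [map_add, map_add, Pi.add_apply, hx, hy, map_add, ← Finset.sum_add_distrib]
    simp only [Pi.add_apply, smul_add]

end matrix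

section main

variable {R S : Type u} [CommRing R] [CommRing S] [Algebra R S] [IsNoetherianRing R]
  [IsNoetherianRing S] (I : Ideal R)
  (N : Type u) [AddCommGroup N] [Module S N] [Module R N] [IsScalarTower R S N]
  [Module.Finite S N]

omit [IsNoetherianRing R] [IsNoetherianRing S] [Module.Finite S N] in
theorem tmul_mem_pow_smul_top (Q : Type u) [AddCommGroup Q] [Module R Q] {k : ℕ} {d : N}
    (hd : d ∈ I ^ k • (⊤ : Submodule R N)) (q : Q) :
    d ⊗ₜ[R] q ∈ (I.map (algebraMap R S)) ^ k • (⊤ : Submodule S (N ⊗[R] Q)) := by
  have hd' := mem_map_pow_smul_top (S := S) I hd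
  refine Submodule.smul_induction_on hd' (fun s hs x _ => ?_) (fun x y hx hy => ?_)
  · rw [← TensorProduct.smul_tmul']
    exact Submodule.smul_mem_smul hs Submodule.mem_top
  · rw [TensorProduct.add_tmul]
    exact Submodule.add_mem _ hx hy

omit [IsNoetherianRing R] [IsNoetherianRing S] in
theorem finite_tensor (Q : Type u) [AddCommGroup Q] [Module R Q] [Module.Finite R Q] :
    Module.Finite S (N ⊗[R] Q) := by
  classical
  obtain ⟨s, f, hf⟩ := Module.Finite.exists_fin' R Q
  let g : (Fin s → N) →ₗ[S] N ⊗[R] Q :=
    (TensorProduct.AlgebraTensorModule.lTensor S N f) ∘ₗ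
      (TensorProduct.piScalarRight R S N (Fin s)).symm.toLinearMap
  apply Module.Finite.of_surjective g
  exact (LinearMap.lTensor_surjective N hf).comp (LinearEquiv.surjective _)

variable (h : ∀ (Q : Type u) [AddCommGroup Q] [Module R Q], Module.Finite R Q →
      ∀ q ∈ associatedPrimes S (N ⊗[R] Q), I.map (algebraMap R S) ⊔ q ≠ ⊤)

include h in
theorem of_injective : Function.Injective (AdicCompletion.of I N) := by
  rw [injective_iff_map_eq_zero]
  intro x hx
  have hass : ∀ q ∈ associatedPrimes S N, I.map (algebraMap R S) ⊔ q ≠ ⊤ := by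
    intro q hq
    apply h R inferInstance q
    rw [LinearEquiv.AssociatedPrimes.eq (TensorProduct.AlgebraTensorModule.rid R S N)]
    exact hq
  apply eq_zero_of_mem_iInf (I.map (algebraMap R S)) hass x
  intro k
  apply mem_map_pow_smul_top I
  have h1 : (AdicCompletion.of I N x).val k = 0 := by rw [hx]; rfl
  rw [AdicCompletion.of_apply, Submodule.mkQ_apply, Submodule.Quotient.mk_eq_zero] at h1
  exact h1

include h in
theorem univInj : FlatCA.UnivInj R (AdicCompletion.of I N) := by
  have key : CAlgX.UniversallyInjective R (AdicCompletion.of I N) := by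
    rw [Groth.Agent.S2057.result _ (of_injective I N h)]
    intro n m x y a hxy
    classical
    set A := matMap a with hA
    let Q := (Fin n → R) ⧸ LinearMap.range A
    let e : Fin n → (Fin n → R) := fun i => Pi.single i 1
    set t : N ⊗[R] Q := ∑ i, x i ⊗ₜ[R] (Submodule.mkQ (LinearMap.range A) (e i)) with ht
    -- Claim 1
    have h1 : ∀ k : ℕ, t ∈ (I.map (algebraMap R S)) ^ k • (⊤ : Submodule S (N ⊗[R] Q)) := by
      intro k
      choose w hw using fun j => Submodule.Quotient.mk_surjective _ ((y j).val k)
      have hd : ∀ i, x i - ∑ j, a i j • w j ∈ I ^ k • (⊤ : Submodule R N) := by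
        intro i
        have h2 : (AdicCompletion.of I N (x i)).val k = (∑ j, a i j • y j).val k := by
          rw [hxy i]
        rw [AdicCompletion.of_apply, AdicCompletion.val_sum_apply] at h2
        simp only [AdicCompletion.val_smul_apply] at h2
        have h3 : Submodule.mkQ (I ^ k • (⊤ : Submodule R N)) (x i) =
            Submodule.mkQ _ (∑ j, a i j • w j) := by
          rw [map_sum]
          simp only [map_smul, Submodule.mkQ_apply, hw]
          exact h2
        rw [Submodule.mkQ_apply, Submodule.mkQ_apply, Submodule.Quotient.eq] at h3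
        exact h3
      have hzero : ∀ j, ∑ i, a i j • Submodule.mkQ (LinearMap.range A) (e i) = 0 := by
        intro j
        have h5 : ∑ i, a i j • Submodule.mkQ (LinearMap.range A) (e i) =
            Submodule.mkQ _ (A (Pi.single j 1)) := by
          rw [hA, matMap_single, map_sum]
          simp only [map_smul]
          rfl
        rw [h5, Submodule.mkQ_apply, Submodule.Quotient.mk_eq_zero]
        exact LinearMap.mem_range_self _ _
      have ht' : t = ∑ i, (x i - ∑ j, a i j • w j) ⊗ₜ[R]
          (Submodule.mkQ (LinearMap.range A) (e i)) := by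
        have h4 : ∑ i, (∑ j, a i j • w j) ⊗ₜ[R] (Submodule.mkQ (LinearMap.range A) (e i)) = 0 := by
          simp only [TensorProduct.sum_tmul, TensorProduct.smul_tmul]
          rw [Finset.sum_comm]
          simp only [← TensorProduct.tmul_sum, hzero, TensorProduct.tmul_zero,
            Finset.sum_const_zero]
        simp only [TensorProduct.sub_tmul, Finset.sum_sub_distrib]
        rw [h4, sub_zero]
      rw [ht']
      exact Submodule.sum_mem _ fun i _ => tmul_mem_pow_smul_top I N Q (hd i) _
    haveI : Module.Finite S (N ⊗[R] Q) := finite_tensor N Q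
    have ht0 : t = 0 :=
      eq_zero_of_mem_iInf (I.map (algebraMap R S)) (h Q inferInstance) t h1
    have hex := lTensor_exact N (LinearMap.exact_map_mkQ_range A) (Submodule.mkQ_surjective _)
    set X : N ⊗[R] (Fin n → R) := ∑ i, x i ⊗ₜ[R] e i with hX
    have hXt : (Submodule.mkQ (LinearMap.range A)).lTensor N X = t := by
      rw [hX, map_sum]
      simp only [LinearMap.lTensor_tmul]
      rfl
    obtain ⟨ζ, hζ⟩ := (hex X).mp (by rw [hXt, ht0])
    refine ⟨TensorProduct.piScalarRight R R N (Fin m) ζ, fun i => ?_⟩
    rw [← piScalarRight_lTensor_matMap, ← hA, hζ, hX, map_sum, Finset.sum_apply]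
    simp only [TensorProduct.piScalarRight_apply, TensorProduct.piScalarRightHom_tmul, e,
      Pi.single_apply]
    simp
  intro Q _ _
  exact (LinearMap.lTensor_inj_iff_rTensor_inj _ _).mpr (key Q)

end main

end Groth.Agent.Helper8.UnivCpl
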