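import Mathlib
import Groth.Prelude
import Groth.Agent.Lib.Helper8.UnivCpl2

/-!
# Associated primes of `N ⊗ Q` for `N` flat, in terms of the fibres
-/

set_option autoImplicit false

universe u

namespace Groth.Agent.Helper8.UnivCpl

open TensorProduct

attribute [local instance] Algebra.TensorProduct.rightAlgebra

section fibre

variable {R S : Type u} [CommRing R] [CommRing S] [Algebra R S] (p : Ideal R) [p.IsPrime]
  (N : Type u) [AddCommGroup N] [Module S N] [Module R N] [IsScalarTower R S N]

/-- the identification of the fibre module with `N ⊗ κ(p)` -/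
noncomputable def fibreEquiv : ((p.Fiber S) ⊗[S] N) ≃ₗ[S] N ⊗[R] p.ResidueField :=
  (TensorProduct.comm S (p.Fiber S) N).trans
    ((TensorProduct.congr (LinearEquiv.refl S N)
      (Algebra.TensorProduct.commRight R S p.ResidueField).symm.toLinearEquiv).trans
    (TensorProduct.AlgebraTensorModule.cancelBaseChange R S S N p.ResidueField))

theorem fibreEquiv_one_tmul (n : N) :
    fibreEquiv p N ((1 : p.Fiber S) ⊗ₜ[S] n) = n ⊗ₜ[R] (1 : p.ResidueField) := by
  simp only [fibreEquiv, LinearEquiv.trans_apply, TensorProduct.comm_tmul,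
    TensorProduct.congr_tmul, LinearEquiv.refl_apply, AlgEquiv.toLinearEquiv_apply, map_one]
  rw [Algebra.TensorProduct.one_def, TensorProduct.AlgebraTensorModule.cancelBaseChange_tmul,
    one_smul]

theorem toFiberMod_eq_zero_iff [Module.Flat R N] (n : N) :
    FlatCA.toFiberMod p S N n = 0 ↔ n ⊗ₜ[R] (1 : R ⧸ p) = 0 := by
  have hinj : Function.Injective
      (LinearMap.lTensor N (IsScalarTower.toAlgHom R (R ⧸ p) p.ResidueField).toLinearMap) :=
    Module.Flat.lTensor_preserves_injective_linearMap _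
      (Ideal.injective_algebraMap_quotient_residueField p)
  have h1 : FlatCA.toFiberMod p S N n = ((1 : p.Fiber S) ⊗ₜ[S] n : (p.Fiber S) ⊗[S] N) := rfl
  have h2 : LinearMap.lTensor N (IsScalarTower.toAlgHom R (R ⧸ p) p.ResidueField).toLinearMap
      (n ⊗ₜ[R] (1 : R ⧸ p)) = n ⊗ₜ[R] (1 : p.ResidueField) := by
    rw [LinearMap.lTensor_tmul]
    simp
  constructor
  · intro h
    apply hinj
    rw [h2, map_zero, ← fibreEquiv_one_tmul (S := S) p N n]
    have : ((1 : p.Fiber S) ⊗ₜ[S] n : (p.Fiber S) ⊗[S] N) = 0 := h1 ▸ h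
    rw [this, map_zero]
  · intro h
    have h3 : fibreEquiv p N ((1 : p.Fiber S) ⊗ₜ[S] n) = 0 := by
      rw [fibreEquiv_one_tmul, ← h2, h, map_zero]
    have h4 := (fibreEquiv (S := S) p N).injective (h3.trans (map_zero _).symm)
    rw [h1]
    exact h4

end fibre

section lemmaG

variable {R S : Type u} [CommRing R] [CommRing S] [Algebra R S] (p : Ideal R) [p.IsPrime]

theorem isUnit_algebraMap_fiber {r : R} (hr : r ∉ p) :
    IsUnit (algebraMap R (p.Fiber S) r) := by
  rw [IsScalarTower.algebraMap_apply R p.ResidueField (p.Fiber S)]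
  apply IsUnit.map
  rw [isUnit_iff_ne_zero, Ne, Ideal.algebraMap_residueField_eq_zero]
  exact hr

theorem fiberIdeal_eq_of_forall (q : Ideal S) (J : Ideal (p.Fiber S))
    (hJ : ∀ s : S, ((1 : p.ResidueField) ⊗ₜ[R] s : p.Fiber S) ∈ J ↔ s ∈ q) :
    J = FlatCA.fiberIdeal p q := by
  apply le_antisymm
  · intro f hf
    obtain ⟨r, hr, s, e⟩ := Ideal.Fiber.exists_smul_eq_one_tmul p f
    have h1 : r • f ∈ J := Submodule.smul_of_tower_mem J r hf
    rw [e, hJ] at h1
    have h2 : r • f ∈ FlatCA.fiberIdeal p q := by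
      rw [e]
      exact Ideal.mem_map_of_mem _ h1
    rw [Algebra.smul_def] at h2
    obtain ⟨u, hu⟩ := isUnit_algebraMap_fiber (S := S) p hr
    rw [← hu] at h2
    have h3 := Ideal.mul_mem_left _ (↑u⁻¹ : p.Fiber S) h2
    rwa [← mul_assoc, Units.inv_mul, one_mul] at h3
  · unfold FlatCA.fiberIdeal
    rw [Ideal.map_le_iff_le_comap]
    intro s hs
    rw [Ideal.mem_comap]
    exact (hJ s).mpr hs

end lemmaG

section lemmaF

variable {R S : Type u} [CommRing R] [CommRing S] [Algebra R S] (p : Ideal R) [p.IsPrime]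
  (N : Type u) [AddCommGroup N] [Module S N] [Module R N] [IsScalarTower R S N]

theorem exists_eq_tmul_one (t : N ⊗[R] (R ⧸ p)) : ∃ n : N, t = n ⊗ₜ[R] (1 : R ⧸ p) := by
  induction t using TensorProduct.induction_on with
  | zero => exact ⟨0, (TensorProduct.zero_tmul _ _).symm⟩
  | tmul n x =>
    obtain ⟨r, rfl⟩ := Ideal.Quotient.mk_surjective x
    refine ⟨r • n, ?_⟩
    rw [TensorProduct.smul_tmul]
    congr 1
    rw [Algebra.smul_def, mul_one]
    rfl
  | add x y hx hy =>
    obtain ⟨n₁, rfl⟩ := hx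
    obtain ⟨n₂, rfl⟩ := hy
    exact ⟨n₁ + n₂, (TensorProduct.add_tmul _ _ _).symm⟩

theorem smul_eq_zero_of_mem {r : R} (hr : r ∈ p) (t : N ⊗[R] (R ⧸ p)) : r • t = 0 := by
  induction t using TensorProduct.induction_on with
  | zero => exact smul_zero _
  | tmul n x =>
    obtain ⟨y, rfl⟩ := Ideal.Quotient.mk_surjective x
    rw [TensorProduct.smul_tmul', TensorProduct.smul_tmul]
    have : r • (Ideal.Quotient.mk p y) = 0 := by
      rw [Algebra.smul_def]
      have : algebraMap R (R ⧸ p) r = 0 := Ideal.Quotient.eq_zero_iff_mem.mpr hr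
      rw [this, zero_mul]
    rw [this, TensorProduct.tmul_zero]
  | add x y hx hy => rw [smul_add, hx, hy, add_zero]

theorem smul_injective_of_notMem [Module.Flat R N] {r : R} (hr : r ∉ p) :
    Function.Injective fun t : N ⊗[R] (R ⧸ p) => r • t := by
  have h1 : Function.Injective (LinearMap.lsmul R (R ⧸ p) r) := by
    intro x y hxy
    simp only [LinearMap.lsmul_apply, Algebra.smul_def] at hxy
    have h0 : algebraMap R (R ⧸ p) r ≠ 0 := fun h => hr (Ideal.Quotient.eq_zero_iff_mem.mp h)
    exact mul_left_cancel₀ h0 hxy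
  have h2 := Module.Flat.lTensor_preserves_injective_linearMap (M := N) _ h1
  intro x y hxy
  apply h2
  have h3 : ∀ t : N ⊗[R] (R ⧸ p), LinearMap.lTensor N (LinearMap.lsmul R (R ⧸ p) r) t = r • t := by
    intro t
    induction t using TensorProduct.induction_on with
    | zero => simp
    | tmul n x => rw [LinearMap.lTensor_tmul, LinearMap.lsmul_apply, TensorProduct.tmul_smul]
    | add x y hx hy => rw [map_add, hx, hy, smul_add]
  rw [h3, h3]
  exact hxy

theorem liesOver_of_mem_associatedPrimes [Module.Flat R N] [IsNoetherianRing S] (q : Ideal S)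
    (hq : q ∈ associatedPrimes S (N ⊗[R] (R ⧸ p))) : q.LiesOver p := by
  obtain ⟨hqp, t, ht⟩ := (isAssociatedPrime_iff).mp hq
  constructor
  ext r
  rw [Ideal.under_def, Ideal.mem_comap, ht, Submodule.mem_colon_singleton, Submodule.mem_bot,
    algebraMap_smul]
  constructor
  · intro hr
    exact smul_eq_zero_of_mem p N hr t
  · intro hr
    by_contra hrp
    have h0 : t = 0 := smul_injective_of_notMem p N hrp (hr.trans (smul_zero r).symm)
    apply hqp.ne_top
    rw [ht, h0, Ideal.eq_top_iff_one, Submodule.mem_colon_singleton, smul_zero]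
    exact Submodule.zero_mem _

theorem one_tmul_smul_toFiberMod (s : S) (n : N) :
    ((1 : p.ResidueField) ⊗ₜ[R] s : p.Fiber S) • FlatCA.toFiberMod p S N n =
      FlatCA.toFiberMod p S N (s • n) := by
  change ((1 : p.ResidueField) ⊗ₜ[R] s : p.Fiber S) •
    ((1 : p.Fiber S) ⊗ₜ[S] n : (p.Fiber S) ⊗[S] N) = ((1 : p.Fiber S) ⊗ₜ[S] (s • n))
  rw [TensorProduct.smul_tmul', smul_eq_mul, mul_one, ← TensorProduct.smul_tmul]
  congr 1
  rw [Algebra.smul_def, mul_one]
  rfl

theorem fiberIdeal_mem_associatedPrimes [Module.Flat R N] [IsNoetherianRing S] (q : Ideal S)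
    [q.IsPrime] [hpq : q.LiesOver p]
    (hq : q ∈ associatedPrimes S (N ⊗[R] (R ⧸ p))) :
    FlatCA.fiberIdeal p q ∈ associatedPrimes (p.Fiber S) (FlatCA.fiberMod p S N) := by
  obtain ⟨hqp, t, ht⟩ := (isAssociatedPrime_iff).mp hq
  obtain ⟨n₀, rfl⟩ := exists_eq_tmul_one p N t
  -- the map to the residue field
  let φ : p.Fiber S →ₐ[R] q.ResidueField :=
    Algebra.TensorProduct.lift (Ideal.ResidueField.mapₐ p q (Algebra.ofId _ _) hpq.over)
      (IsScalarTower.toAlgHom _ _ _) fun _ _ => .all _ _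
  have hφ : ∀ s : S, φ ((1 : p.ResidueField) ⊗ₜ[R] s) = algebraMap S q.ResidueField s := by
    intro s
    simp [φ]
  have hker : RingHom.ker φ.toRingHom = FlatCA.fiberIdeal p q := by
    apply fiberIdeal_eq_of_forall
    intro s
    rw [RingHom.mem_ker]
    change φ _ = 0 ↔ _
    rw [hφ, Ideal.algebraMap_residueField_eq_zero]
  have hprime : (FlatCA.fiberIdeal p q).IsPrime := by
    rw [← hker]
    exact RingHom.ker_isPrime _
  have hcolon : Submodule.colon (⊥ : Submodule (p.Fiber S) (FlatCA.fiberMod p S N))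
      {FlatCA.toFiberMod p S N n₀} = FlatCA.fiberIdeal p q := by
    apply fiberIdeal_eq_of_forall
    intro s
    rw [Submodule.mem_colon_singleton, Submodule.mem_bot, one_tmul_smul_toFiberMod,
      toFiberMod_eq_zero_iff, ht, Submodule.mem_colon_singleton, Submodule.mem_bot,
      TensorProduct.smul_tmul']
  refine ⟨hprime, FlatCA.toFiberMod p S N n₀, ?_⟩
  rw [hcolon, hprime.radical]

end lemmaF

section induction

variable {R S : Type u} [CommRing R] [CommRing S] [Algebra R S] [IsNoetherianRing R]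
  [IsNoetherianRing S]
  (N : Type u) [AddCommGroup N] [Module S N] [Module R N] [IsScalarTower R S N]
  [Module.Flat R N] (J : Ideal S)
  (h : ∀ (p : Ideal R) (q : Ideal S) [p.IsPrime] [q.IsPrime] [q.LiesOver p],
    FlatCA.fiberIdeal p q ∈ associatedPrimes (p.Fiber S) (FlatCA.fiberMod p S N) → J ⊔ q ≠ ⊤)

include h in
theorem ass_tensor (Q : Type u) [AddCommGroup Q] [Module R Q] (hQ : Module.Finite R Q) :
    ∀ q ∈ associatedPrimes S (N ⊗[R] Q), J ⊔ q ≠ ⊤ := by
  induction hQ using IsNoetherianRing.induction_on_isQuotientEquivQuotientPrime R with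
  | subsingleton Q =>
    intro q hq
    rw [associatedPrimes.eq_empty_of_subsingleton] at hq
    exact absurd hq (Set.notMem_empty _)
  | quotient Q p₀ f =>
    intro q hq
    haveI := p₀.2
    rw [LinearEquiv.AssociatedPrimes.eq
      (TensorProduct.AlgebraTensorModule.congr (LinearEquiv.refl S N) f)] at hq
    haveI : q.IsPrime := hq.isPrime
    haveI : q.LiesOver p₀.1 := liesOver_of_mem_associatedPrimes p₀.1 N q hq
    exact h p₀.1 q (fiberIdeal_mem_associatedPrimes p₀.1 N q hq)
  | exact Q₁ Q₂ Q₃ f g hf hg hfg h₁ h₃ =>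
    intro q hq
    have hf' : Function.Injective (TensorProduct.AlgebraTensorModule.lTensor S N f) :=
      Module.Flat.lTensor_preserves_injective_linearMap f hf
    have hfg' : Function.Exact (TensorProduct.AlgebraTensorModule.lTensor S N f)
        (TensorProduct.AlgebraTensorModule.lTensor S N g) :=
      lTensor_exact N hfg hg
    rcases associatedPrimes.subset_union_of_exact hf' hfg' hq with hq | hq
    · exact h₁ q hq
    · exact h₃ q hq

end induction

end Groth.Agent.Helper8.UnivCpl
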