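import Mathlib
import Groth.Prelude
import Groth.Agent.Lib.Helper8.FlatReg6

/-!
# Maximal Cohen–Macaulay modules over regular local rings are free
-/

set_option autoImplicit false
universe u v

namespace Groth.Agent.Helper8.FlatReg

open RingTheory.Sequence Pointwise IsLocalRing TensorProduct LocCoh
open Groth.Agent.Helper8.Depth

theorem free_of_depth_eq_dim (R : Type u) [CommRing R] [IsRegularLocalRing R] (M : Type u)
    [AddCommGroup M] [Module R M] [Module.Finite R M]
    (h : ((LocCoh.depth R M : ℕ∞) : WithBot ℕ∞) = ringKrullDim R) : Module.Free R M := by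
  have hnt : Nontrivial M := by
    by_contra hcon
    rw [not_nontrivial_iff_subsingleton] at hcon
    have h1 : LocCoh.depth R M = ⊤ := depth_eq_top_of_subsingleton R M
    rw [h1] at h
    have h2 : ringKrullDim R < ⊤ := ringKrullDim_lt_top
    rw [← h] at h2
    exact absurd h2 (by simp)
  have h1 : ((LocCoh.depth R M : ℕ∞) : WithBot ℕ∞) ≤ Module.supportDim R M := depth_le_supportDim
  have h2 : Module.supportDim R M ≤ ringKrullDim R := Module.supportDim_le_ringKrullDim R M
  have hCM : IsCohenMacaulayModule R M := le_antisymm (h2.trans h.ge) h1
  have hdimM : Module.supportDim R M = ringKrullDim R := le_antisymm h2 (h.ge.trans h1)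
  have hloc : IsLocalHom (algebraMap R R) := by
    rw [Algebra.algebraMap_self]
    infer_instance
  have hflat : Module.Flat R M := by
    refine flat_of_isCohenMacaulayModule_of_supportDim_eq R R M hCM ?_
    have hq : Module.supportDim R
        (M ⧸ ((maximalIdeal R).map (algebraMap R R) • (⊤ : Submodule R M))) = 0 := by
      rw [Algebra.algebraMap_self, Ideal.map_id]
      have hne : maximalIdeal R • (⊤ : Submodule R M) ≠ ⊤ := smul_top_ne_top_of_local R M
      have hnt' : Nontrivial (M ⧸ (maximalIdeal R • (⊤ : Submodule R M))) :=
        Submodule.Quotient.nontrivial_iff.mpr hne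
      apply le_antisymm
      · rw [Module.supportDim_eq_ringKrullDim_quotient_annihilator]
        have hle : maximalIdeal R ≤
            Module.annihilator R (M ⧸ (maximalIdeal R • (⊤ : Submodule R M))) := by
          intro r hr
          rw [Module.mem_annihilator]
          intro m
          obtain ⟨m, rfl⟩ := Submodule.Quotient.mk_surjective _ m
          rw [← Submodule.Quotient.mk_smul, Submodule.Quotient.mk_eq_zero]
          exact Submodule.smul_mem_smul hr Submodule.mem_top
        refine (ringKrullDim_le_of_surjective (Ideal.Quotient.factor hle)
          (Ideal.Quotient.factor_surjective hle)).trans ?_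
        exact (ringKrullDim_eq_zero_of_isField
          ((Ideal.Quotient.maximal_ideal_iff_isField_quotient _).mp
            (maximalIdeal.isMaximal R))).le
      · obtain ⟨n, hn⟩ := exists_nat_supportDim (A := R)
          (M ⧸ (maximalIdeal R • (⊤ : Submodule R M)))
        rw [hn]
        exact_mod_cast Nat.zero_le n
    rw [hq, add_zero]
    exact hdimM
  exact Module.free_of_flat_of_isLocalRing

end Groth.Agent.Helper8.FlatReg
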