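import Mathlib
import Groth.Agent.Lib.Helper7.Hensel.NonMonicFactor
import Groth.Agent.Lib.Helper7.Hensel.SmallerIdeal

/-! helper8: a complete height-one valuation ring is henselian; an irreducible monic polynomial
over its fraction field with integral constant term is integral; integrality is detected by the
norm. -/

set_option autoImplicit false

namespace Groth.Agent.Helper8.ValNorm

open Polynomial IsLocalRing

universe u

section Hens

variable (R : Type u) [CommRing R] [IsDomain R] [ValuationRing R] [Ring.KrullDimLE 1 R]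

theorem mem_maximalIdeal_of_isAdicComplete (t : R) [IsAdicComplete (Ideal.span {t}) R] :
    t ∈ maximalIdeal R := by
  have h := IsAdicComplete.le_jacobson_bot (Ideal.span {t}) (R := R)
  rw [IsLocalRing.jacobson_eq_maximalIdeal ⊥ bot_ne_top] at h
  exact h (Ideal.mem_span_singleton_self t)

theorem radical_span_eq (t : R) (ht : t ≠ 0) (htm : t ∈ maximalIdeal R) :
    (Ideal.span {t}).radical = maximalIdeal R := by
  apply le_antisymm
  · exact (Ideal.IsPrime.radical_le_iff (maximalIdeal.isMaximal R).isPrime).mpr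
      ((Ideal.span_singleton_le_iff_mem _).mpr htm)
  · rw [Ideal.radical_eq_sInf]
    refine le_sInf ?_
    rintro J ⟨hJ, hJp⟩
    have hJne : J ≠ ⊥ := by
      rintro rfl
      exact ht (by simpa using hJ (Ideal.mem_span_singleton_self t))
    have hJmax : J.IsMaximal := hJp.isMaximal_of_ne_bot hJne
    exact (IsLocalRing.eq_maximalIdeal hJmax).ge

theorem henselianLocalRing (t : R) (ht : t ≠ 0) [IsAdicComplete (Ideal.span {t}) R] :
    HenselianLocalRing R := by
  have htm := mem_maximalIdeal_of_isAdicComplete R t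
  have h1 : HenselianRing R (Ideal.span {t}) := inferInstance
  have h2 : HenselianRing R (Ideal.span {t}).radical :=
    Groth.Agent.Helper7.Hensel.henselianRing_radical h1
  rw [radical_span_eq R t ht htm] at h2
  exact
    { toIsLocalRing := inferInstance
      is_henselian := fun f hf a₀ h₁ h₃ => h2.is_henselian f hf a₀ h₁ (h₃.map _) }

end Hens

theorem exists_coeff_dominant {R K : Type*} [CommRing R] [IsDomain R] [ValuationRing R] [Field K]
    [Algebra R K] [IsFractionRing R K] (a : ℕ → K) (s : Finset ℕ) (hs : s.Nonempty) :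
    ∃ i ∈ s, ∀ j ∈ s, ∃ r : R, algebraMap R K r * a i = a j := by
  induction hs using Finset.Nonempty.cons_induction with
  | singleton k =>
    exact ⟨k, Finset.mem_singleton_self k, fun j hj =>
      ⟨1, by rw [Finset.mem_singleton.mp hj, map_one, one_mul]⟩⟩
  | cons k s hk hs ih =>
    obtain ⟨i, hi, hdom⟩ := ih
    by_cases hk0 : a k = 0
    · refine ⟨i, Finset.mem_cons.mpr (Or.inr hi), fun j hj => ?_⟩
      rcases Finset.mem_cons.mp hj with hjk | hj
      · exact ⟨0, by rw [map_zero, zero_mul, hjk, hk0]⟩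
      · exact hdom j hj
    by_cases hi0 : a i = 0
    · refine ⟨k, Finset.mem_cons_self k s, fun j hj => ?_⟩
      rcases Finset.mem_cons.mp hj with hjk | hj
      · exact ⟨1, by rw [map_one, one_mul, hjk]⟩
      · obtain ⟨r, hr⟩ := hdom j hj
        exact ⟨0, by rw [map_zero, zero_mul, ← hr, hi0, mul_zero]⟩
    rcases ValuationRing.isInteger_or_isInteger R (a k / a i) with ⟨r, hr⟩ | ⟨r, hr⟩
    · refine ⟨i, Finset.mem_cons.mpr (Or.inr hi), fun j hj => ?_⟩
      rcases Finset.mem_cons.mp hj with hjk | hj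
      · exact ⟨r, by rw [hjk, hr, div_mul_cancel₀ _ hi0]⟩
      · exact hdom j hj
    · have hik : algebraMap R K r * a k = a i := by
        rw [hr, inv_div, div_mul_cancel₀ _ hk0]
      refine ⟨k, Finset.mem_cons_self k s, fun j hj => ?_⟩
      rcases Finset.mem_cons.mp hj with hjk | hj
      · exact ⟨1, by rw [map_one, one_mul, hjk]⟩
      · obtain ⟨r', hr'⟩ := hdom j hj
        exact ⟨r' * r, by rw [map_mul, mul_assoc, hik, hr']⟩

theorem coeff_mem_range_of_irreducible {R K : Type u} [CommRing R] [IsDomain R] [ValuationRing R]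
    [HenselianLocalRing R] [Field K] [Algebra R K] [IsFractionRing R K]
    (f : K[X]) (hm : f.Monic) (hirr : Irreducible f)
    (h0 : f.coeff 0 ∈ (algebraMap R K).range) (j : ℕ) :
    f.coeff j ∈ (algebraMap R K).range := by
  classical
  have hinj : Function.Injective (algebraMap R K) := IsFractionRing.injective R K
  have hf0 : f ≠ 0 := hm.ne_zero
  obtain ⟨i, hi, hdom⟩ := exists_coeff_dominant (R := R) (fun j => f.coeff j) f.support
    (nonempty_support_iff.mpr hf0)
  have hdom : ∀ j ∈ f.support, ∃ r : R, algebraMap R K r * f.coeff i = f.coeff j := hdom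
  obtain ⟨c, hc⟩ : ∃ c, c = f.coeff i := ⟨_, rfl⟩
  rw [← hc] at hdom
  have hc0 : c ≠ 0 := by rw [hc]; exact mem_support_iff.mp hi
  have hdom' : ∀ j, ∃ r : R, algebraMap R K r * c = f.coeff j := by
    intro j
    by_cases hj : j ∈ f.support
    · exact hdom j hj
    · exact ⟨0, by rw [map_zero, zero_mul, notMem_support_iff.mp hj]⟩
  by_cases hcR : c ∈ (algebraMap R K).range
  · obtain ⟨c₀, hc₀⟩ := hcR
    obtain ⟨r, hr⟩ := hdom' j
    exact ⟨r * c₀, by rw [map_mul, hc₀, hr]⟩
  exfalso
  obtain ⟨ϖ, hϖ⟩ := hdom' f.natDegree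
  rw [hm.coeff_natDegree] at hϖ
  have hcinv : c⁻¹ = algebraMap R K ϖ := by
    rw [eq_comm, ← mul_eq_one_iff_eq_inv₀ hc0]; exact hϖ
  have hϖm : ϖ ∈ maximalIdeal R := by
    rw [mem_maximalIdeal, mem_nonunits_iff]
    intro hu
    apply hcR
    obtain ⟨u, rfl⟩ := hu
    refine ⟨((u⁻¹ : Rˣ) : R), ?_⟩
    have h1 : algebraMap R K (u : R) * algebraMap R K ((u⁻¹ : Rˣ) : R) = 1 := by
      rw [← map_mul, Units.mul_inv, map_one]
    calc algebraMap R K ((u⁻¹ : Rˣ) : R)
        = (algebraMap R K ((u⁻¹ : Rˣ) : R)) * (algebraMap R K (u : R) * c) := by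
          rw [hϖ, mul_one]
      _ = (algebraMap R K (u : R) * algebraMap R K ((u⁻¹ : Rˣ) : R)) * c := by ring
      _ = c := by rw [h1, one_mul]
  have hlift : C c⁻¹ * f ∈ lifts (algebraMap R K) := by
    rw [lifts_iff_coeff_lifts]
    intro j
    obtain ⟨r, hr⟩ := hdom' j
    refine ⟨r, ?_⟩
    rw [coeff_C_mul, ← hr, mul_comm (algebraMap R K r) c, ← mul_assoc, inv_mul_cancel₀ hc0,
      one_mul]
  obtain ⟨f₁, hf₁⟩ := (mem_lifts _).mp hlift
  have hcoeff : ∀ j, algebraMap R K (f₁.coeff j) = algebraMap R K ϖ * f.coeff j := by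
    intro j
    rw [← coeff_map, hf₁, coeff_C_mul, hcinv]
  have hci : f₁.coeff i = 1 := by
    apply hinj
    rw [hcoeff, map_one, ← hc, ← hcinv, inv_mul_cancel₀ hc0]
  have hc0' : f₁.coeff 0 ∈ maximalIdeal R := by
    obtain ⟨b₀, hb₀⟩ := h0
    have h1 : f₁.coeff 0 = ϖ * b₀ := by
      apply hinj
      rw [hcoeff, map_mul, hb₀]
    rw [h1]
    exact Ideal.mul_mem_right _ _ hϖm
  have hchigh : ∀ j, f.natDegree ≤ j → f₁.coeff j ∈ maximalIdeal R := by
    intro j hj
    rcases hj.eq_or_lt with hjn | hlt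
    · have h1 : f₁.coeff j = ϖ := by
        apply hinj
        rw [hcoeff, ← hjn, hm.coeff_natDegree, mul_one]
      rw [h1]; exact hϖm
    · have h1 : f₁.coeff j = 0 := by
        apply hinj
        rw [hcoeff, coeff_eq_zero_of_natDegree_lt hlt, mul_zero, map_zero]
      rw [h1]; exact zero_mem _
  obtain ⟨F, hF⟩ : ∃ F, F = f₁.map (residue R) := ⟨_, rfl⟩
  have hFi : F.coeff i = 1 := by rw [hF, coeff_map, hci, map_one]
  have hF0 : F.coeff 0 = 0 := by
    rw [hF, coeff_map]; exact (residue_eq_zero_iff _).mpr hc0'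
  have hFhigh : ∀ j, f.natDegree ≤ j → F.coeff j = 0 := fun j hj => by
    rw [hF, coeff_map]; exact (residue_eq_zero_iff _).mpr (hchigh j hj)
  have hFne : F ≠ 0 := by
    intro h; rw [h, coeff_zero] at hFi; exact zero_ne_one hFi
  have hi0 : i ≠ 0 := by
    intro h; rw [h, hF0] at hFi; exact zero_ne_one hFi
  have hri : i ≤ F.natDegree := le_natDegree_of_ne_zero (by rw [hFi]; exact one_ne_zero)
  have hrpos : 0 < F.natDegree := lt_of_lt_of_le (Nat.pos_of_ne_zero hi0) hri
  have hrn : F.natDegree < f.natDegree := by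
    by_contra hle
    push_neg at hle
    have h1 := hFhigh F.natDegree hle
    rw [coeff_natDegree, leadingCoeff_eq_zero] at h1
    exact hFne h1
  obtain ⟨ℓ, hℓ⟩ : ∃ ℓ, ℓ = F.leadingCoeff := ⟨_, rfl⟩
  have hℓ0 : ℓ ≠ 0 := by rw [hℓ]; exact leadingCoeff_ne_zero.mpr hFne
  have hg₀ : (C ℓ⁻¹ * F).Monic :=
    monic_C_mul_of_mul_leadingCoeff_eq_one (by rw [← hℓ]; exact inv_mul_cancel₀ hℓ0)
  have hcop : IsCoprime (C ℓ⁻¹ * F) (C ℓ) :=
    ⟨0, C ℓ⁻¹, by rw [zero_mul, zero_add, ← C_mul, inv_mul_cancel₀ hℓ0, C_1]⟩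
  have hfac : f₁.map (residue R) = (C ℓ⁻¹ * F) * C ℓ := by
    rw [mul_comm (C ℓ⁻¹ * F), ← mul_assoc, ← C_mul, mul_inv_cancel₀ hℓ0, C_1, one_mul, hF]
  obtain ⟨g, h, hgh, hgm, hgmap, hhmap⟩ :=
    Groth.Agent.Helper7.Hensel.NonMonic.exists_factorization_of_henselian R f₁ _ _ hg₀ hcop hfac
  have hgdeg : g.natDegree = F.natDegree := by
    rw [← hgm.natDegree_map (residue R), hgmap, natDegree_C_mul (inv_ne_zero hℓ0)]
  obtain ⟨g', hg'⟩ : ∃ g', g' = g.map (algebraMap R K) := ⟨_, rfl⟩
  obtain ⟨h', hh'⟩ : ∃ h', h' = h.map (algebraMap R K) := ⟨_, rfl⟩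
  have hprod : C c⁻¹ * f = g' * h' := by rw [← hf₁, hgh, Polynomial.map_mul, hg', hh']
  have hg'm : g'.Monic := by rw [hg']; exact hgm.map _
  have hg'deg : g'.natDegree = F.natDegree := by rw [hg', hgm.natDegree_map, hgdeg]
  have hirr' : Irreducible (C c⁻¹ * f) :=
    (irreducible_isUnit_mul (isUnit_C.mpr (inv_ne_zero hc0).isUnit)).mpr hirr
  have hh'0 : h' ≠ 0 := by
    intro h0'
    rw [h0', mul_zero] at hprod
    exact hirr'.ne_zero hprod
  have hdeg : f.natDegree = g'.natDegree + h'.natDegree := by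
    rw [← hg'm.natDegree_mul' hh'0, ← hprod, natDegree_C_mul (inv_ne_zero hc0)]
  rcases hirr'.isUnit_or_isUnit hprod with hu | hu
  · have := natDegree_eq_zero_of_isUnit hu
    omega
  · have := natDegree_eq_zero_of_isUnit hu
    omega

theorem main (R : Type u) [CommRing R] [IsDomain R] [ValuationRing R] [Ring.KrullDimLE 1 R]
    (t : R) (ht : t ≠ 0) [IsAdicComplete (Ideal.span {t}) R]
    (L : Type u) [Field L] [Algebra R L] [Algebra (FractionRing R) L]
    [IsScalarTower R (FractionRing R) L] [Algebra.IsAlgebraic (FractionRing R) L] (α : L) :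
    IsIntegral R α ↔
      Algebra.norm (FractionRing R) (IntermediateField.AdjoinSimple.gen (FractionRing R) α) ∈
        (algebraMap R (FractionRing R)).range := by
  have hαK : IsIntegral (FractionRing R) α := (Algebra.IsAlgebraic.isAlgebraic α).isIntegral
  have hnorm : Algebra.norm (FractionRing R)
      (IntermediateField.AdjoinSimple.gen (FractionRing R) α) =
      (-1) ^ (IntermediateField.adjoin.powerBasis hαK).dim *
        (minpoly (FractionRing R) α).coeff 0 := by
    have h1 := Algebra.PowerBasis.norm_gen_eq_coeff_zero_minpoly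
      (IntermediateField.adjoin.powerBasis hαK)
    rw [IntermediateField.adjoin.powerBasis_gen, IntermediateField.minpoly_gen] at h1
    exact h1
  have hiff : Algebra.norm (FractionRing R)
      (IntermediateField.AdjoinSimple.gen (FractionRing R) α) ∈
        (algebraMap R (FractionRing R)).range ↔
      (minpoly (FractionRing R) α).coeff 0 ∈ (algebraMap R (FractionRing R)).range := by
    rw [hnorm]
    rcases neg_one_pow_eq_or (FractionRing R) (IntermediateField.adjoin.powerBasis hαK).dim
      with h | h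
    · rw [h, one_mul]
    · rw [h, neg_one_mul, neg_mem_iff]
  rw [hiff]
  constructor
  · intro hα
    rw [minpoly.isIntegrallyClosed_eq_field_fractions' (FractionRing R) hα, coeff_map]
    exact ⟨_, rfl⟩
  · intro h0
    haveI : HenselianLocalRing R := henselianLocalRing R t ht
    have hall := coeff_mem_range_of_irreducible (R := R) (minpoly (FractionRing R) α)
      (minpoly.monic hαK) (minpoly.irreducible hαK) h0
    have hl : minpoly (FractionRing R) α ∈ lifts (algebraMap R (FractionRing R)) :=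
      (lifts_iff_coeff_lifts _).mpr hall
    obtain ⟨q, hq, -, hqm⟩ := lifts_and_natDegree_eq_and_monic hl (minpoly.monic hαK)
    refine ⟨q, hqm, ?_⟩
    rw [← aeval_def, ← aeval_map_algebraMap (FractionRing R), hq, minpoly.aeval]

end Groth.Agent.Helper8.ValNorm
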