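import Mathlib

/-!
# Fibres of `Spec (R ⊗[k] S) → Spec R` for algebras over a field
-/

set_option autoImplicit false
open scoped TensorProduct

namespace Groth.Agent.Helper8

universe u

section
variable {k R S : Type u} [Field k] [CommRing R] [CommRing S] [Algebra k R] [Algebra k S]

/-- The fibre of `Spec (R ⊗[k] S) → Spec R` over `p` is `Spec (κ(p) ⊗[k] S)`. -/
noncomputable def fibreHomeo (p : PrimeSpectrum R) :
    (PrimeSpectrum.comap (algebraMap R (R ⊗[k] S)) ⁻¹' {p}) ≃ₜ
      PrimeSpectrum (p.asIdeal.ResidueField ⊗[k] S) :=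
  (PrimeSpectrum.preimageHomeomorphFiber R (R ⊗[k] S) p).trans
    (PrimeSpectrum.homeomorphOfRingEquiv
      (Algebra.TensorProduct.cancelBaseChange k R R p.asIdeal.ResidueField S).toRingEquiv)

variable (k R S)

theorem isOpenMap_comap_tensor :
    IsOpenMap (PrimeSpectrum.comap (algebraMap R (R ⊗[k] S))) :=
  PrimeSpectrum.isOpenMap_comap_algebraMap_tensorProduct_of_field

theorem isIrreducible_fibre
    (hS : ∀ (k' : Type u) [Field k'] [Algebra k k'], IrreducibleSpace (PrimeSpectrum (k' ⊗[k] S)))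
    (p : PrimeSpectrum R) :
    IsIrreducible (PrimeSpectrum.comap (algebraMap R (R ⊗[k] S)) ⁻¹' {p}) := by
  rw [isIrreducible_iff_irreducibleSpace]
  haveI := hS p.asIdeal.ResidueField
  haveI : Nonempty (PrimeSpectrum.comap (algebraMap R (R ⊗[k] S)) ⁻¹' {p}) :=
    ⟨(fibreHomeo (k := k) (S := S) p).symm (Classical.arbitrary _)⟩
  exact (fibreHomeo (k := k) (S := S) p).isOpenEmbedding.irreducibleSpace

theorem isConnected_fibre
    (hS : ∀ (k' : Type u) [Field k'] [Algebra k k'], ConnectedSpace (PrimeSpectrum (k' ⊗[k] S)))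
    (p : PrimeSpectrum R) :
    IsConnected (PrimeSpectrum.comap (algebraMap R (R ⊗[k] S)) ⁻¹' {p}) := by
  rw [isConnected_iff_connectedSpace]
  haveI := hS p.asIdeal.ResidueField
  exact (fibreHomeo (k := k) (S := S) p).connectedSpace_iff.mpr inferInstance

theorem surjective_comap_tensor [Nontrivial S] :
    Function.Surjective (PrimeSpectrum.comap (algebraMap R (R ⊗[k] S))) := by
  intro p
  haveI : Nontrivial (p.asIdeal.ResidueField ⊗[k] S) := inferInstance
  obtain ⟨q⟩ := (PrimeSpectrum.nonempty_iff_nontrivial.mpr this)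
  exact ⟨((fibreHomeo (k := k) (S := S) p).symm q).1, ((fibreHomeo (k := k) (S := S) p).symm q).2⟩

end

section Top

theorem isClopen_image_of_isPreconnected_fibre {X Y : Type*} [TopologicalSpace X]
    [TopologicalSpace Y] {f : X → Y} (hopen : IsOpenMap f) (hsurj : Function.Surjective f)
    (hfib : ∀ y, IsPreconnected (f ⁻¹' {y})) {U : Set X} (hU : IsClopen U) :
    IsClopen (f '' U) ∧ f ⁻¹' (f '' U) = U := by
  have hsat : f ⁻¹' (f '' U) = U := by
    apply Set.Subset.antisymm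
    · rintro x ⟨u, hu, hux⟩
      have h1 : f ⁻¹' {f x} ⊆ U :=
        (hfib (f x)).subset_isClopen hU ⟨u, hux, hu⟩
      exact h1 rfl
    · exact Set.subset_preimage_image f U
  refine ⟨⟨?_, hopen U hU.isOpen⟩, hsat⟩
  have hcompl : (f '' U)ᶜ = f '' Uᶜ := by
    apply Set.Subset.antisymm
    · intro y hy
      obtain ⟨x, rfl⟩ := hsurj y
      exact ⟨x, fun hx => hy ⟨x, hx, rfl⟩, rfl⟩
    · rintro _ ⟨x, hx, rfl⟩ hfx
      apply hx
      rw [← hsat]
      exact hfx
  rw [← isOpen_compl_iff, hcompl]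
  exact hopen _ hU.compl.isOpen

theorem connectedSpace_of_isPreconnected_fibre {X Y : Type*} [TopologicalSpace X]
    [TopologicalSpace Y] {f : X → Y} (hopen : IsOpenMap f) (hsurj : Function.Surjective f)
    (hfib : ∀ y, IsConnected (f ⁻¹' {y})) [ConnectedSpace Y] : ConnectedSpace X := by
  rw [connectedSpace_iff_clopen]
  obtain ⟨hne, hY⟩ := connectedSpace_iff_clopen.mp (inferInstance : ConnectedSpace Y)
  obtain ⟨y⟩ := hne
  refine ⟨⟨(hfib y).nonempty.some⟩, fun U hU => ?_⟩
  obtain ⟨h1, h2⟩ := isClopen_image_of_isPreconnected_fibre hopen hsurj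
    (fun y => (hfib y).isPreconnected) hU
  rcases hY _ h1 with h | h
  · left; rw [← h2, h, Set.preimage_empty]
  · right; rw [← h2, h, Set.preimage_univ]

end Top

section Main
variable (k R S : Type u) [Field k] [CommRing R] [CommRing S] [Algebra k R] [Algebra k S]

theorem irreducibleSpace_tensor
    (hS : ∀ (k' : Type u) [Field k'] [Algebra k k'], IrreducibleSpace (PrimeSpectrum (k' ⊗[k] S)))
    [IrreducibleSpace (PrimeSpectrum R)] : IrreducibleSpace (PrimeSpectrum (R ⊗[k] S)) := by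
  have hsurj : Function.Surjective (PrimeSpectrum.comap (algebraMap R (R ⊗[k] S))) := by
    intro p
    obtain ⟨q, hq⟩ := (isIrreducible_fibre k R S hS p).nonempty
    exact ⟨q, hq⟩
  have h := (IrreducibleSpace.isIrreducible_univ (PrimeSpectrum R)).preimage_of_isPreirreducible_fiber
    (PrimeSpectrum.comap (algebraMap R (R ⊗[k] S))) (isOpenMap_comap_tensor k R S)
    (fun p => (isIrreducible_fibre k R S hS p).isPreirreducible)
    (by rw [hsurj.range_eq, Set.inter_univ]; exact Set.univ_nonempty)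
  rw [Set.preimage_univ] at h
  exact (irreducibleSpace_def _).mpr h

theorem connectedSpace_tensor
    (hS : ∀ (k' : Type u) [Field k'] [Algebra k k'], ConnectedSpace (PrimeSpectrum (k' ⊗[k] S)))
    [ConnectedSpace (PrimeSpectrum R)] : ConnectedSpace (PrimeSpectrum (R ⊗[k] S)) := by
  have hsurj : Function.Surjective (PrimeSpectrum.comap (algebraMap R (R ⊗[k] S))) := by
    intro p
    obtain ⟨q, hq⟩ := (isConnected_fibre k R S hS p).nonempty
    exact ⟨q, hq⟩
  exact connectedSpace_of_isPreconnected_fibre (isOpenMap_comap_tensor k R S) hsurj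
    (isConnected_fibre k R S hS)

end Main

section Generic
variable (k R S : Type u) [Field k] [CommRing R] [CommRing S] [Algebra k R] [Algebra k S]

/-- Each fibre of `Spec (R ⊗[k] S) → Spec R` has a smallest point when `S` is geometrically
irreducible. -/
theorem exists_least_fibre
    (hS : ∀ (k' : Type u) [Field k'] [Algebra k k'], IrreducibleSpace (PrimeSpectrum (k' ⊗[k] S)))
    (p : PrimeSpectrum R) :
    ∃ η : PrimeSpectrum (R ⊗[k] S), PrimeSpectrum.comap (algebraMap R (R ⊗[k] S)) η = p ∧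
      ∀ q : PrimeSpectrum (R ⊗[k] S), PrimeSpectrum.comap (algebraMap R (R ⊗[k] S)) q = p →
        η ≤ q := by
  haveI := hS p.asIdeal.ResidueField
  have hN : (nilradical (p.asIdeal.ResidueField ⊗[k] S)).IsPrime :=
    PrimeSpectrum.irreducibleSpace_iff_isPrime_nilradical.mp inferInstance
  let h := fibreHomeo (k := k) (S := S) p
  let N : PrimeSpectrum (p.asIdeal.ResidueField ⊗[k] S) := ⟨nilradical _, hN⟩
  refine ⟨(h.symm N).1, (h.symm N).2, fun q hq => ?_⟩
  have h1 : N ≤ h ⟨q, hq⟩ := by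
    change nilradical _ ≤ (h ⟨q, hq⟩).asIdeal
    rw [nilradical_eq_sInf]
    exact sInf_le (h ⟨q, hq⟩).2
  rw [PrimeSpectrum.le_iff_specializes] at h1 ⊢
  have h2 : h.symm N ⤳ h.symm (h ⟨q, hq⟩) := h.symm.isInducing.specializes_iff.mpr h1
  rw [Homeomorph.symm_apply_apply] at h2
  exact Topology.IsInducing.subtypeVal.specializes_iff.mpr h2

theorem bijOn_comap_minimalPrimes
    (hS : ∀ (k' : Type u) [Field k'] [Algebra k k'], IrreducibleSpace (PrimeSpectrum (k' ⊗[k] S))) :
    Set.BijOn (Ideal.comap (algebraMap R (R ⊗[k] S))) (minimalPrimes (R ⊗[k] S))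
      (minimalPrimes R) := by
  refine ⟨?_, ?_, ?_⟩
  · -- maps to
    intro q hq
    haveI hqp : q.IsPrime := hq.1.1
    refine ⟨⟨Ideal.comap_isPrime _ q, bot_le⟩, fun p' hp' hle => ?_⟩
    haveI : p'.IsPrime := hp'.1
    haveI : q.LiesOver (q.comap (algebraMap R (R ⊗[k] S))) := ⟨rfl⟩
    obtain ⟨P, hPq, hP, hPover⟩ := Ideal.exists_ideal_le_liesOver_of_le (S := R ⊗[k] S) q hle
    have hPq' : q ≤ P := hq.2 ⟨hP, bot_le⟩ hPq
    have : P = q := le_antisymm hPq hPq'
    subst this
    rw [hPover.over]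
  · -- injective
    intro q₁ hq₁ q₂ hq₂ h12
    haveI hq₁p : q₁.IsPrime := hq₁.1.1
    haveI hq₂p : q₂.IsPrime := hq₂.1.1
    let p : PrimeSpectrum R := ⟨q₁.comap (algebraMap R (R ⊗[k] S)), Ideal.comap_isPrime _ _⟩
    obtain ⟨η, _, hη⟩ := exists_least_fibre k R S hS p
    have h1 : η ≤ (⟨q₁, hq₁p⟩ : PrimeSpectrum (R ⊗[k] S)) := hη _ rfl
    have h2 : η ≤ (⟨q₂, hq₂p⟩ : PrimeSpectrum (R ⊗[k] S)) :=
      hη _ (PrimeSpectrum.ext h12.symm)
    have e1 : q₁ = η.asIdeal := le_antisymm (hq₁.2 ⟨η.2, bot_le⟩ h1) h1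
    have e2 : q₂ = η.asIdeal := le_antisymm (hq₂.2 ⟨η.2, bot_le⟩ h2) h2
    rw [e1, e2]
  · -- surjective
    intro p hp
    haveI hpp : p.IsPrime := hp.1.1
    obtain ⟨η, hηp, _⟩ := exists_least_fibre k R S hS ⟨p, hpp⟩
    haveI := η.2
    obtain ⟨q, hq, hqη⟩ := Ideal.exists_minimalPrimes_le (I := ⊥) (J := η.asIdeal) bot_le
    refine ⟨q, hq, ?_⟩
    haveI hqp : q.IsPrime := hq.1.1
    have h1 : q.comap (algebraMap R (R ⊗[k] S)) ≤ p := by
      have : η.asIdeal.comap (algebraMap R (R ⊗[k] S)) = p := congrArg PrimeSpectrum.asIdeal hηp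
      rw [← this]
      exact Ideal.comap_mono hqη
    exact le_antisymm h1 (hp.2 ⟨Ideal.comap_isPrime _ q, bot_le⟩ h1)

end Generic

end Groth.Agent.Helper8
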