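import Mathlib

/-!
# A Chevalley-type lemma for directed families of ideals in a complete Noetherian local ring
-/

set_option autoImplicit false
universe u

namespace Groth.Agent.Helper8.Chev

open IsLocalRing

variable {A : Type u} [CommRing A] [IsNoetherianRing A] [IsLocalRing A]

/-- Krull's intersection theorem: ideals are closed. -/
theorem mem_of_forall_mem_sup_pow (I : Ideal A) (r : A)
    (h : ∀ s : ℕ, r ∈ I ⊔ maximalIdeal A ^ s) : r ∈ I := by
  have hbot := Ideal.iInf_pow_smul_eq_bot_of_isLocalRing (I := maximalIdeal A) (M := A ⧸ I)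
    (Ideal.IsPrime.ne_top inferInstance)
  have hmem : (Ideal.Quotient.mk I r : A ⧸ I) ∈
      (⨅ s : ℕ, maximalIdeal A ^ s • ⊤ : Submodule A (A ⧸ I)) := by
    rw [Submodule.mem_iInf]
    intro s
    obtain ⟨u, hu, v, hv, huv⟩ := Submodule.mem_sup.mp (h s)
    have h1 : (Ideal.Quotient.mk I r : A ⧸ I) = v • (Ideal.Quotient.mk I 1 : A ⧸ I) := by
      rw [← huv, map_add, Ideal.Quotient.eq_zero_iff_mem.mpr hu, zero_add]
      change (Submodule.Quotient.mk v : A ⧸ I) = v • (Submodule.Quotient.mk 1 : A ⧸ I)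
      rw [← Submodule.Quotient.mk_smul, smul_eq_mul, mul_one]
    rw [h1]
    exact Submodule.smul_mem_smul hv Submodule.mem_top
  rw [hbot, Submodule.mem_bot] at hmem
  exact Ideal.Quotient.eq_zero_iff_mem.mp hmem

theorem isArtinianRing_quotient_pow (k : ℕ) :
    IsArtinianRing (A ⧸ (maximalIdeal A) ^ k) := by
  cases k with
  | zero =>
    haveI : Subsingleton (A ⧸ (maximalIdeal A) ^ 0) := by
      rw [pow_zero]
      exact Ideal.Quotient.subsingleton_iff.mpr Ideal.one_eq_top
    infer_instance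
  | succ k =>
    rw [isArtinianRing_iff_krullDimLE_zero, Ring.krullDimLE_zero_iff]
    intro P hP
    have hsurj : Function.Surjective (Ideal.Quotient.mk ((maximalIdeal A) ^ (k + 1))) :=
      Ideal.Quotient.mk_surjective
    have hcomap : (P.comap (Ideal.Quotient.mk _)).IsPrime := Ideal.comap_isPrime _ P
    have hle : (maximalIdeal A) ^ (k + 1) ≤ P.comap (Ideal.Quotient.mk _) := by
      intro a ha
      rw [Ideal.mem_comap, Ideal.Quotient.eq_zero_iff_mem.mpr ha]
      exact P.zero_mem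
    have hm : maximalIdeal A ≤ P.comap (Ideal.Quotient.mk _) := hcomap.le_of_pow_le hle
    have heq : P.comap (Ideal.Quotient.mk _) = maximalIdeal A :=
      ((maximalIdeal.isMaximal A).eq_of_le hcomap.ne_top hm).symm
    have hmax : (P.comap (Ideal.Quotient.mk ((maximalIdeal A) ^ (k + 1)))).IsMaximal := by
      rw [heq]; exact maximalIdeal.isMaximal A
    rcases Ideal.map_eq_top_or_isMaximal_of_surjective _ hsurj hmax with h | h
    · rw [Ideal.map_comap_of_surjective _ hsurj] at h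
      exact absurd h hP.ne_top
    · rwa [Ideal.map_comap_of_surjective _ hsurj] at h

/-- In a directed family of ideals, for each `k` some member is minimal modulo `m ^ k`. -/
theorem exists_min (𝓕 : Set (Ideal A)) (hne : 𝓕.Nonempty)
    (hdir : ∀ a ∈ 𝓕, ∀ b ∈ 𝓕, ∃ c ∈ 𝓕, c ≤ a ∧ c ≤ b) (k : ℕ) :
    ∃ a ∈ 𝓕, ∀ b ∈ 𝓕, a ⊔ maximalIdeal A ^ k ≤ b ⊔ maximalIdeal A ^ k := by
  haveI := isArtinianRing_quotient_pow (A := A) k
  have hS : ((Ideal.map (Ideal.Quotient.mk (maximalIdeal A ^ k))) '' 𝓕).Nonempty := hne.image _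
  obtain ⟨I, ⟨a, ha, rfl⟩, hmin⟩ :=
    (set_has_minimal_iff_artinian (R := A ⧸ maximalIdeal A ^ k)
      (M := A ⧸ maximalIdeal A ^ k)).mpr inferInstance _ hS
  refine ⟨a, ha, fun b hb => ?_⟩
  obtain ⟨c, hc, hca, hcb⟩ := hdir a ha b hb
  have h1 : Ideal.map (Ideal.Quotient.mk (maximalIdeal A ^ k)) c =
      Ideal.map (Ideal.Quotient.mk (maximalIdeal A ^ k)) a := by
    by_contra hne'
    exact hmin _ ⟨c, hc, rfl⟩ (lt_of_le_of_ne (Ideal.map_mono hca) hne')
  have h2 : Ideal.map (Ideal.Quotient.mk (maximalIdeal A ^ k)) a ≤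
      Ideal.map (Ideal.Quotient.mk (maximalIdeal A ^ k)) b := h1 ▸ Ideal.map_mono hcb
  have h3 := Ideal.comap_mono (f := Ideal.Quotient.mk (maximalIdeal A ^ k)) h2
  rwa [Ideal.comap_map_of_surjective' _ Ideal.Quotient.mk_surjective,
    Ideal.comap_map_of_surjective' _ Ideal.Quotient.mk_surjective, Ideal.mk_ker] at h3

/-- **Chevalley's lemma** for a directed family: in a complete Noetherian local ring, a directed
family of ideals with zero intersection contains members inside any power of the maximal ideal. -/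
theorem exists_le_pow_of_directed [IsAdicComplete (maximalIdeal A) A] (𝓕 : Set (Ideal A))
    (hne : 𝓕.Nonempty) (hdir : ∀ a ∈ 𝓕, ∀ b ∈ 𝓕, ∃ c ∈ 𝓕, c ≤ a ∧ c ≤ b)
    (hinf : sInf 𝓕 = ⊥) (n : ℕ) : ∃ a ∈ 𝓕, a ≤ maximalIdeal A ^ n := by
  choose a ha hamin using exists_min 𝓕 hne hdir
  have hlift : ∀ k (x : A), x ∈ a k ⊔ maximalIdeal A ^ k →
      ∃ y, y ∈ a (k + 1) ⊔ maximalIdeal A ^ (k + 1) ∧ x - y ∈ maximalIdeal A ^ k := by
    intro k x hx
    obtain ⟨u, hu, v, hv, rfl⟩ := Submodule.mem_sup.mp (hamin k (a (k + 1)) (ha (k + 1)) hx)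
    exact ⟨u, Ideal.mem_sup_left hu, by simpa using hv⟩
  refine ⟨a n, ha n, fun x hx => ?_⟩
  -- the sequence
  let G : (j : ℕ) → {y : A // y ∈ a (n + j) ⊔ maximalIdeal A ^ (n + j)} := fun j =>
    Nat.rec (motive := fun j => {y : A // y ∈ a (n + j) ⊔ maximalIdeal A ^ (n + j)})
      ⟨x, Ideal.mem_sup_left hx⟩
      (fun j y => ⟨(hlift (n + j) y.1 y.2).choose, (hlift (n + j) y.1 y.2).choose_spec.1⟩) j
  have hG : ∀ j, (G j).1 - (G (j + 1)).1 ∈ maximalIdeal A ^ (n + j) := fun j =>
    (hlift (n + j) (G j).1 (G j).2).choose_spec.2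
  have hG0 : (G 0).1 = x := rfl
  have hcauchy : ∀ i j, i ≤ j → (G i).1 - (G j).1 ∈ maximalIdeal A ^ (n + i) := by
    intro i j hij
    induction j, hij using Nat.le_induction with
    | base => simp
    | succ j hij ih =>
      have h1 : (G j).1 - (G (j + 1)).1 ∈ maximalIdeal A ^ (n + i) :=
        Ideal.pow_le_pow_right (by omega) (hG j)
      have := (maximalIdeal A ^ (n + i)).add_mem ih h1
      rwa [sub_add_sub_cancel] at this
  obtain ⟨L, hL⟩ := IsPrecomplete.prec (IsAdicComplete.toIsPrecomplete (I := maximalIdeal A) (M := A))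
    (f := fun j => (G j).1) (by
      intro i j hij
      rw [SModEq.sub_mem, smul_eq_mul, Ideal.mul_top]
      exact Ideal.pow_le_pow_right (by omega) (hcauchy i j hij))
  have hL' : ∀ i, (G i).1 - L ∈ maximalIdeal A ^ i := by
    intro i
    have := hL i
    rwa [SModEq.sub_mem, smul_eq_mul, Ideal.mul_top] at this
  have hL0 : L = 0 := by
    have : L ∈ sInf 𝓕 := by
      rw [Submodule.mem_sInf]
      intro b hb
      refine mem_of_forall_mem_sup_pow b L fun i => ?_
      have h1 : (G i).1 ∈ b ⊔ maximalIdeal A ^ i := by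
        have h2 := hamin (n + i) b hb (G i).2
        exact (sup_le_sup_left (Ideal.pow_le_pow_right (by omega)) b) h2
      have h3 : (G i).1 - L ∈ b ⊔ maximalIdeal A ^ i := Ideal.mem_sup_right (hL' i)
      have := (b ⊔ maximalIdeal A ^ i).sub_mem h1 h3
      rwa [sub_sub_cancel] at this
    rwa [hinf, Ideal.mem_bot] at this
  have h1 : (G n).1 ∈ maximalIdeal A ^ n := by
    have := hL' n
    rwa [hL0, sub_zero] at this
  have h2 : x - (G n).1 ∈ maximalIdeal A ^ n := by
    have := hcauchy 0 n (Nat.zero_le n)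
    rwa [hG0, add_zero] at this
  have := (maximalIdeal A ^ n).add_mem h2 h1
  rwa [sub_add_cancel] at this

end Groth.Agent.Helper8.Chev
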