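import Mathlib
import Groth.Prelude

/-!
# Equidimensionality of quotients: generic lemmas
-/

set_option autoImplicit false
universe u

namespace Groth.Agent.Helper8.HensFC

variable {C : Type u} [CommRing C]

theorem ringKrullDim_quotient_anti {I J : Ideal C} (h : I ≤ J) :
    ringKrullDim (C ⧸ J) ≤ ringKrullDim (C ⧸ I) :=
  ringKrullDim_le_of_surjective (Ideal.Quotient.factor h) (Ideal.Quotient.factor_surjective h)

theorem ringKrullDim_quot_comap (I : Ideal C) (p : Ideal (C ⧸ I)) :
    ringKrullDim (C ⧸ p.comap (Ideal.Quotient.mk I)) = ringKrullDim ((C ⧸ I) ⧸ p) := by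
  have hs : Function.Surjective ((Ideal.Quotient.mk p).comp (Ideal.Quotient.mk I)) :=
    Ideal.Quotient.mk_surjective.comp Ideal.Quotient.mk_surjective
  have hk : RingHom.ker ((Ideal.Quotient.mk p).comp (Ideal.Quotient.mk I)) =
      p.comap (Ideal.Quotient.mk I) := by
    rw [← RingHom.comap_ker, Ideal.mk_ker]
  exact ringKrullDim_eq_of_ringEquiv
    ((Ideal.quotEquivOfEq hk.symm).trans (RingHom.quotientKerEquivOfSurjective hs))

theorem isEquidim_quotient_iff (I : Ideal C) :
    EGA4.IsEquidim (C ⧸ I) ↔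
      ∀ q ∈ I.minimalPrimes, ringKrullDim (C ⧸ q) = ringKrullDim (C ⧸ I) := by
  rw [Ideal.minimalPrimes_eq_comap]
  constructor
  · rintro h _ ⟨p, hp, rfl⟩
    rw [ringKrullDim_quot_comap]
    exact h p hp
  · intro h p hp
    rw [← ringKrullDim_quot_comap]
    exact h _ ⟨p, hp, rfl⟩

theorem isEquidim_quotient_of_le {I J : Ideal C} (hIJ : I ≤ J)
    (hmin : J.minimalPrimes ⊆ I.minimalPrimes) (h : EGA4.IsEquidim (C ⧸ I)) :
    EGA4.IsEquidim (C ⧸ J) := by
  rw [isEquidim_quotient_iff] at h ⊢
  intro q hq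
  apply le_antisymm
  · exact ringKrullDim_quotient_anti hq.1.2
  · rw [h q (hmin hq)]
    exact ringKrullDim_quotient_anti hIJ

/-- Associated primes along a surjective ring map. -/
theorem associatedPrimes_eq_image_comap {A B : Type*} [CommRing A] [CommRing B] [Algebra A B]
    (hs : Function.Surjective (algebraMap A B)) (M : Type*) [AddCommGroup M] [Module A M]
    [Module B M] [IsScalarTower A B M] :
    associatedPrimes A M = Ideal.comap (algebraMap A B) '' associatedPrimes B M := by
  have hcolon : ∀ x : M, ((⊥ : Submodule B M).colon {x}).comap (algebraMap A B) =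
      (⊥ : Submodule A M).colon {x} := by
    intro x
    ext a
    simp only [Ideal.mem_comap, Submodule.mem_colon_singleton, Submodule.mem_bot,
      algebraMap_smul]
  ext q
  constructor
  · rintro ⟨hq, x, hx⟩
    refine ⟨((⊥ : Submodule B M).colon {x}).radical, ⟨?_, x, rfl⟩, ?_⟩
    · have h1 : q = (((⊥ : Submodule B M).colon {x}).radical).comap (algebraMap A B) := by
        rw [Ideal.comap_radical, hcolon, hx]
      have h2 : ((⊥ : Submodule B M).colon {x}).radical = q.map (algebraMap A B) := by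
        rw [h1, Ideal.map_comap_of_surjective _ hs]
      rw [h2]
      refine Ideal.map_isPrime_of_surjective hs ?_
      rw [h1]
      exact Ideal.comap_mono bot_le
    · rw [Ideal.comap_radical, hcolon, hx]
  · rintro ⟨p, ⟨hp, x, hx⟩, rfl⟩
    refine ⟨Ideal.comap_isPrime _ _, x, ?_⟩
    rw [hx, Ideal.comap_radical, hcolon]

theorem isStrictlyEquidim_quotient_iff (I : Ideal C) :
    EGA4.IsStrictlyEquidim (C ⧸ I) ↔
      ∀ q ∈ associatedPrimes C (C ⧸ I), ringKrullDim (C ⧸ q) = ringKrullDim (C ⧸ I) := by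
  rw [associatedPrimes_eq_image_comap (A := C) (B := C ⧸ I) Ideal.Quotient.mk_surjective]
  constructor
  · rintro h _ ⟨p, hp, rfl⟩
    rw [Ideal.Quotient.algebraMap_eq, ringKrullDim_quot_comap]
    exact h p hp
  · intro h p hp
    rw [← ringKrullDim_quot_comap]
    exact h _ ⟨p, hp, rfl⟩

theorem le_of_mem_associatedPrimes_quotient {I q : Ideal C}
    (hq : q ∈ associatedPrimes C (C ⧸ I)) : I ≤ q := by
  have h := IsAssociatedPrime.annihilator_le hq
  rwa [Submodule.annihilator_top, Ideal.annihilator_quotient] at h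

theorem isStrictlyEquidim_quotient_of_le {I J : Ideal C} (hIJ : I ≤ J)
    (hass : associatedPrimes C (C ⧸ J) ⊆ associatedPrimes C (C ⧸ I))
    (h : EGA4.IsStrictlyEquidim (C ⧸ I)) :
    EGA4.IsStrictlyEquidim (C ⧸ J) := by
  rw [isStrictlyEquidim_quotient_iff] at h ⊢
  intro q hq
  apply le_antisymm
  · exact ringKrullDim_quotient_anti (le_of_mem_associatedPrimes_quotient hq)
  · rw [h q (hass hq)]
    exact ringKrullDim_quotient_anti hIJ

end Groth.Agent.Helper8.HensFC
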