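import Mathlib.Topology.KrullDimension
import Mathlib.Topology.NoetherianSpace
import Mathlib.Order.KrullDimension

/-!
Helper lemmas on the topological Krull dimension of subsets.
-/

set_option autoImplicit false
universe u

namespace Groth.Agent.Helper8

open TopologicalSpace Order

/-- Monotonicity of the dimension of subsets. -/
lemma topDim_mono {T : Type u} [TopologicalSpace T] {s t : Set T} (h : s ⊆ t) :
    topologicalKrullDim s ≤ topologicalKrullDim t :=
  (Topology.IsEmbedding.inclusion h).isInducing.topologicalKrullDim_le

/-- A union of a set of irreducible components in a Noetherian space is closed. -/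
lemma isClosed_sUnion_of_subset_irreducibleComponents {T : Type u} [TopologicalSpace T]
    [NoetherianSpace T] {A : Set (Set T)} (hA : A ⊆ irreducibleComponents T) :
    IsClosed (⋃₀ A) := by
  have hfin : A.Finite :=
    (NoetherianSpace.finite_irreducibleComponents (α := T)).subset hA
  rw [Set.sUnion_eq_biUnion]
  exact hfin.isClosed_biUnion fun C hC => isClosed_of_mem_irreducibleComponents C (hA hC)

/-- A proper closed subset of an irreducible set has dimension at least one less. -/
lemma topDim_add_one_le_of_ssubset {T : Type u} [TopologicalSpace T] {Z C : Set T}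
    (hZ : IsClosed Z) (hC : IsIrreducible C) (hZC : Z ⊆ C) (hne : Z ≠ C) :
    topologicalKrullDim Z + 1 ≤ topologicalKrullDim C := by
  by_cases hemp : Nonempty (IrreducibleCloseds ↥Z)
  · have hind : Topology.IsInducing (Set.inclusion hZC) :=
      (Topology.IsEmbedding.inclusion hZC).isInducing
    have hirrC : IsIrreducible (Set.univ : Set ↥C) := by
      have : IrreducibleSpace ↥C := Subtype.irreducibleSpace hC
      exact IrreducibleSpace.isIrreducible_univ _
    let topC : IrreducibleCloseds ↥C := ⟨Set.univ, hirrC, isClosed_univ⟩
    let g : WithTop (IrreducibleCloseds ↥Z) → IrreducibleCloseds ↥C := fun w =>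
      match w with
      | ⊤ => topC
      | (z : IrreducibleCloseds ↥Z) => IrreducibleCloseds.map (Set.inclusion hZC) hind.continuous z
    have hclosedZ : IsClosed (Set.range (Set.inclusion hZC)) := by
      rw [Set.range_inclusion]
      exact hZ.preimage continuous_subtype_val
    have hlt : ∀ z : IrreducibleCloseds ↥Z,
        IrreducibleCloseds.map (Set.inclusion hZC) hind.continuous z < topC := by
      intro z
      refine lt_of_le_of_ne (fun x _ => Set.mem_univ x) ?_
      intro heq
      have h1 : (IrreducibleCloseds.map (Set.inclusion hZC) hind.continuous z : Set ↥C) = Set.univ :=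
        congrArg (fun w : IrreducibleCloseds ↥C => (w : Set ↥C)) heq
      rw [IrreducibleCloseds.coe_map] at h1
      have h2 : closure (Set.inclusion hZC '' (z : Set ↥Z)) ⊆ Set.range (Set.inclusion hZC) :=
        closure_minimal (Set.image_subset_range _ _) hclosedZ
      rw [h1, Set.range_inclusion] at h2
      apply hne
      apply Set.Subset.antisymm hZC
      intro x hx
      exact h2 (Set.mem_univ (⟨x, hx⟩ : ↥C))
    have hg : StrictMono g := by
      intro a b hab
      cases a with
      | top => exact absurd hab (not_top_lt)
      | coe a =>
        cases b with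
        | top => exact hlt a
        | coe b =>
          exact IrreducibleCloseds.map_strictMono_of_isInducing hind (WithTop.coe_lt_coe.mp hab)
    have := krullDim_le_of_strictMono g hg
    rw [krullDim_WithTop] at this
    exact this
  · have : topologicalKrullDim ↥Z = ⊥ := by
      unfold topologicalKrullDim
      rw [not_nonempty_iff] at hemp
      exact krullDim_eq_bot
    rw [this, WithBot.bot_add]
    exact bot_le

/-- A proper closed subset of an irreducible set of finite dimension has smaller dimension. -/
lemma topDim_lt_of_ssubset {T : Type u} [TopologicalSpace T] {Z C : Set T}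
    (hZ : IsClosed Z) (hC : IsIrreducible C) (hZC : Z ⊆ C) (hne : Z ≠ C)
    (hfin : topologicalKrullDim C < ⊤) :
    topologicalKrullDim Z < topologicalKrullDim C := by
  have h1 := topDim_add_one_le_of_ssubset hZ hC hZC hne
  have hCne : Nonempty (IrreducibleCloseds ↥C) := by
    obtain ⟨x, hx⟩ := hC.1
    have : IrreducibleSpace ↥C := Subtype.irreducibleSpace hC
    exact ⟨⟨Set.univ, IrreducibleSpace.isIrreducible_univ _, isClosed_univ⟩⟩
  have hC0 : (0 : WithBot ℕ∞) ≤ topologicalKrullDim ↥C := by
    unfold topologicalKrullDim
    exact krullDim_nonneg
  generalize topologicalKrullDim ↥Z = a at *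
  generalize topologicalKrullDim ↥C = c at *
  induction a using WithBot.recBotCoe with
  | bot => exact lt_of_lt_of_le (WithBot.bot_lt_coe 0) hC0
  | coe a =>
    induction c using WithBot.recBotCoe with
    | bot => exact absurd hC0 (by simp)
    | coe c =>
      have hc : c ≠ ⊤ := by
        intro h; rw [h] at hfin; exact lt_irrefl _ hfin
      have h1' : a + 1 ≤ c := by exact_mod_cast h1
      have : a < c := by
        lift c to ℕ using hc
        have ha : a ≠ ⊤ := by
          intro h; rw [h] at h1'; simp at h1'
        lift a to ℕ using ha
        have : a + 1 ≤ c := by exact_mod_cast h1'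
        exact_mod_cast Nat.lt_of_succ_le this
      exact_mod_cast this

end Groth.Agent.Helper8
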