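import Mathlib

/-!
# `Ext^p(A/J, M) ≅ M/JM` for `J` generated by a weakly regular sequence of length `p`
-/

set_option autoImplicit false

namespace Groth.Agent.Helper8.ExtReg

open CategoryTheory Abelian RingTheory.Sequence Pointwise

universe u
variable {A : Type u} [CommRing A]

/-- `Ext` in the first variable is invariant under isomorphisms (as a module). -/
noncomputable def extCongrLeft {X X' : ModuleCat.{u} A} (e : X ≅ X') (Y : ModuleCat.{u} A)
    (n : ℕ) : Ext X Y n ≃ₗ[A] Ext X' Y n :=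
  LinearEquiv.ofLinearMap (Ext.precompOfLinear (Ext.mk₀ e.inv) A Y (zero_add n))
    (Ext.precompOfLinear (Ext.mk₀ e.hom) A Y (zero_add n))
    (by
      ext x
      simp)
    (by
      ext x
      simp)

/-- quotient by `I • ⊤` is functorial in linear equivalences -/
noncomputable def quotSMulTopCongr (I : Ideal A) {P P' : Type*} [AddCommGroup P] [Module A P]
    [AddCommGroup P'] [Module A P'] (f : P ≃ₗ[A] P') :
    (P ⧸ (I • ⊤ : Submodule A P)) ≃ₗ[A] (P' ⧸ (I • ⊤ : Submodule A P')) :=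
  Submodule.Quotient.equiv _ _ f (by
    rw [Submodule.map_smul'', Submodule.map_top, LinearEquiv.range])

theorem mk₀_smul_id_comp (N M : ModuleCat.{u} A) (x : A) (i : ℕ) (x₂ : Ext N M i) :
    (Ext.mk₀ (x • 𝟙 N)).comp x₂ (zero_add i) = x • x₂ := by
  rw [Ext.mk₀_smul, Ext.smul_comp, Ext.mk₀_id_comp]

theorem step (N M : ModuleCat.{u} A) (x : A) (hx : IsSMulRegular N x) (i : ℕ)
    (hvan : ∀ q, i < q → Subsingleton (Ext N M q)) :
    (∀ q, i + 1 < q → Subsingleton (Ext (ModuleCat.of A (QuotSMulTop x N)) M q)) ∧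
      Nonempty (Ext (ModuleCat.of A (QuotSMulTop x N)) M (i + 1) ≃ₗ[A]
        QuotSMulTop x (Ext N M i)) := by
  have hS : (N.smulShortComplex x).ShortExact := hx.smulShortComplex_shortExact
  have hf : (N.smulShortComplex x).f = x • 𝟙 N := rfl
  constructor
  · intro q hq
    obtain ⟨q₀, rfl⟩ : ∃ q₀, q = 1 + q₀ := ⟨q - 1, by omega⟩
    have hq₀ : i < q₀ := by omega
    refine subsingleton_of_forall_eq 0 fun x₃ => ?_
    have h2 : Subsingleton (Ext (N.smulShortComplex x).X₂ M (1 + q₀)) := hvan (1 + q₀) (by omega)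
    have h1 : Subsingleton (Ext (N.smulShortComplex x).X₁ M q₀) := hvan q₀ hq₀
    obtain ⟨x₁, hx₁⟩ := Ext.contravariant_sequence_exact₃ hS M x₃ (Subsingleton.elim _ _) rfl
    have h0 : x₁ = 0 := Subsingleton.elim _ _
    rw [h0, Ext.comp_zero] at hx₁
    exact hx₁.symm
  · let δ : Ext N M i →ₗ[A] Ext (ModuleCat.of A (QuotSMulTop x N)) M (i + 1) :=
      Ext.precompOfLinear hS.extClass A M (add_comm 1 i)
    have hsurj : Function.Surjective δ := by
      intro x₃
      have h2 : Subsingleton (Ext (N.smulShortComplex x).X₂ M (i + 1)) := hvan (i + 1) (by omega)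
      obtain ⟨x₁, hx₁⟩ := Ext.contravariant_sequence_exact₃ hS M x₃ (Subsingleton.elim _ _)
        (add_comm 1 i)
      exact ⟨x₁, hx₁⟩
    have hker : LinearMap.ker δ = x • (⊤ : Submodule A (Ext N M i)) := by
      ext x₁
      rw [LinearMap.mem_ker, Submodule.mem_smul_pointwise_iff_exists]
      constructor
      · intro h0
        obtain ⟨x₂, hx₂⟩ := Ext.contravariant_sequence_exact₁ hS M x₁ (add_comm 1 i) h0
        refine ⟨x₂, trivial, ?_⟩
        exact (mk₀_smul_id_comp N M x i x₂).symm.trans hx₂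
      · rintro ⟨x₂, -, rfl⟩
        have : x • x₂ = (Ext.mk₀ (N.smulShortComplex x).f).comp x₂ (zero_add i) :=
          (mk₀_smul_id_comp N M x i x₂).symm
        rw [this]
        exact hS.extClass_comp_assoc (h := add_comm 1 i) x₂
    refine ⟨(LinearMap.quotKerEquivOfSurjective δ hsurj).symm ≪≫ₗ
      Submodule.quotEquivOfEq _ _ hker⟩

theorem main_aux (M : ModuleCat.{u} A) : ∀ (xs : List A) (N : ModuleCat.{u} A) (i n : ℕ),
    n = i + xs.length → IsWeaklyRegular N xs →
    (∀ q, i < q → Subsingleton (Ext N M q)) →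
    Nonempty (Ext (ModuleCat.of A (N ⧸ (Ideal.ofList xs • ⊤ : Submodule A N))) M n ≃ₗ[A]
      (Ext N M i ⧸ (Ideal.ofList xs • ⊤ : Submodule A (Ext N M i)))) := by
  intro xs
  induction xs with
  | nil =>
    intro N i n hn _ _
    have hn' : n = i := by simpa using hn
    subst hn'
    have h1 : (Ideal.ofList ([] : List A) • ⊤ : Submodule A N) = ⊥ := by
      rw [Ideal.ofList_nil, Submodule.bot_smul]
    have h2 : (Ideal.ofList ([] : List A) • ⊤ : Submodule A (Ext N M n)) = ⊥ := by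
      rw [Ideal.ofList_nil, Submodule.bot_smul]
    exact ⟨extCongrLeft (Y := M) (n := n) (X' := N) (Submodule.quotEquivOfEqBot _ h1).toModuleIso ≪≫ₗ
      (Submodule.quotEquivOfEqBot _ h2).symm⟩
  | cons x xs' ih =>
    intro N i n hn hreg hvan
    rw [isWeaklyRegular_cons_iff] at hreg
    obtain ⟨hvan', ⟨e1⟩⟩ := step N M x hreg.1 i hvan
    have hn' : n = (i + 1) + xs'.length := by
      rw [hn, List.length_cons]; omega
    obtain ⟨e2⟩ := ih (ModuleCat.of A (QuotSMulTop x N)) (i + 1) n hn' hreg.2 hvan'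
    exact ⟨extCongrLeft
        (Submodule.quotOfListConsSMulTopEquivQuotSMulTopInner N x xs').toModuleIso M n ≪≫ₗ
      e2 ≪≫ₗ quotSMulTopCongr (Ideal.ofList xs') e1 ≪≫ₗ
      (Submodule.quotOfListConsSMulTopEquivQuotSMulTopInner (Ext N M i) x xs').symm⟩

theorem main (xs : List A) (hreg : IsWeaklyRegular A xs) (M : Type u) [AddCommGroup M]
    [Module A M] :
    Nonempty (Ext (ModuleCat.of A (A ⧸ Ideal.ofList xs)) (ModuleCat.of A M) xs.length ≃ₗ[A]
      (M ⧸ (Ideal.ofList xs • (⊤ : Submodule A M)))) := by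
  have hvan : ∀ q, 0 < q → Subsingleton (Ext (ModuleCat.of A A) (ModuleCat.of A M) q) := by
    intro q hq
    obtain ⟨q', rfl⟩ : ∃ q', q = q' + 1 := ⟨q - 1, by omega⟩
    exact Ext.subsingleton_of_projective _ _ _
  obtain ⟨e⟩ := main_aux (ModuleCat.of A M) xs (ModuleCat.of A A) 0 xs.length
    (zero_add _).symm hreg hvan
  have hI : (Ideal.ofList xs • ⊤ : Submodule A A) = Ideal.ofList xs := by
    rw [smul_eq_mul, Ideal.mul_top]
  let e0 : Ext (ModuleCat.of A A) (ModuleCat.of A M) 0 ≃ₗ[A] M :=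
    Ext.linearEquiv₀ ≪≫ₗ ModuleCat.homLinearEquiv ≪≫ₗ LinearMap.ringLmapEquivSelf A A M
  exact ⟨extCongrLeft (Submodule.quotEquivOfEq _ _ hI).toModuleIso.symm _ _ ≪≫ₗ e ≪≫ₗ
    quotSMulTopCongr (Ideal.ofList xs) e0⟩

end Groth.Agent.Helper8.ExtReg
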