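import Mathlib
import Groth.Agent.Lib.Helper8.ExtReg

/-!
# `Ext^n(N, M) ≅ Hom(N, M/xsM)` for an `M`-regular sequence `xs` of length `n` killing `N`
-/

set_option autoImplicit false

namespace Groth.Agent.Helper8.ExtReg

open CategoryTheory Abelian RingTheory.Sequence Pointwise

universe u
variable {A : Type u} [CommRing A]

theorem smul_id_eq_zero (N : ModuleCat.{u} A) (x : A) (hN : ∀ n : N, x • n = 0) :
    x • 𝟙 N = 0 := by
  ext n
  exact hN n

theorem smul_ext_eq_zero (N M : ModuleCat.{u} A) (x : A) (hN : ∀ n : N, x • n = 0) (q : ℕ)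
    (e : Ext N M q) : x • e = 0 := by
  rw [← mk₀_smul_id_comp N M x q e, smul_id_eq_zero N x hN, Ext.mk₀_zero, Ext.zero_comp]

theorem comp_mk₀_smul_id (N M : ModuleCat.{u} A) (x : A) (q : ℕ) (e : Ext N M q) :
    e.comp (Ext.mk₀ (x • 𝟙 M)) (add_zero q) = x • e := by
  rw [Ext.mk₀_smul, Ext.comp_smul, Ext.comp_mk₀_id]

/-- Covariant Ext is invariant under isomorphisms in the second variable. -/
noncomputable def extCongrRight (X : ModuleCat.{u} A) {Y Y' : ModuleCat.{u} A} (e : Y ≅ Y')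
    (n : ℕ) : Ext X Y n ≃+ Ext X Y' n where
  toFun := (Ext.mk₀ e.hom).postcomp X (add_zero n)
  invFun := (Ext.mk₀ e.inv).postcomp X (add_zero n)
  left_inv x := by simp
  right_inv x := by simp
  map_add' x y := by simp

theorem step' (N M : ModuleCat.{u} A) (x : A) (hx : IsSMulRegular M x)
    (hN : ∀ n : N, x • n = 0) (i : ℕ)
    (hvan : ∀ q, q < i → Subsingleton (Ext N (ModuleCat.of A (QuotSMulTop x M)) q)) :
    (∀ q, q < i + 1 → Subsingleton (Ext N M q)) ∧
      Nonempty (Ext N (ModuleCat.of A (QuotSMulTop x M)) i ≃+ Ext N M (i + 1)) := by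
  have hS : (M.smulShortComplex x).ShortExact := hx.smulShortComplex_shortExact
  have hf : (M.smulShortComplex x).f = x • 𝟙 M := rfl
  have hvanM : ∀ q, q < i + 1 → Subsingleton (Ext N M q) := by
    intro q hq
    refine subsingleton_of_forall_eq 0 fun x₁ => ?_
    rcases Nat.eq_zero_or_pos q with rfl | hpos
    · haveI : Mono (x • 𝟙 M) := hf ▸ hS.mono_f
      apply Ext.postcomp_mk₀_injective_of_mono N (x • 𝟙 M)
      change x₁.comp (Ext.mk₀ (x • 𝟙 M)) (add_zero 0) = (0 : Ext N M 0).comp _ (add_zero 0)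
      rw [comp_mk₀_smul_id, smul_ext_eq_zero N M x hN, Ext.zero_comp]
    · obtain ⟨q₀, rfl⟩ : ∃ q₀, q = q₀ + 1 := ⟨q - 1, by omega⟩
      have h0 : (show Ext N (M.smulShortComplex x).X₁ (q₀ + 1) from x₁).comp
          (Ext.mk₀ (M.smulShortComplex x).f) (add_zero (q₀ + 1)) = 0 := by
        rw [hf]
        exact (comp_mk₀_smul_id N M x (q₀ + 1) x₁).trans (smul_ext_eq_zero N M x hN _ _)
      obtain ⟨x₃, hx₃⟩ := Ext.covariant_sequence_exact₁ N hS x₁ h0 rfl
      have : Subsingleton (Ext N (M.smulShortComplex x).X₃ q₀) := hvan q₀ (by omega)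
      rw [← hx₃, Subsingleton.elim x₃ 0, Ext.zero_comp]
      rfl
  refine ⟨hvanM, ?_⟩
  let δ : Ext N (ModuleCat.of A (QuotSMulTop x M)) i →+ Ext N M (i + 1) :=
    hS.extClass.postcomp N rfl
  have hsurj : Function.Surjective δ := by
    intro x₁
    have h0 : (show Ext N (M.smulShortComplex x).X₁ (i + 1) from x₁).comp
        (Ext.mk₀ (M.smulShortComplex x).f) (add_zero (i + 1)) = 0 := by
      rw [hf]
      exact (comp_mk₀_smul_id N M x (i + 1) x₁).trans (smul_ext_eq_zero N M x hN _ _)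
    obtain ⟨x₃, hx₃⟩ := Ext.covariant_sequence_exact₁ N hS x₁ h0 rfl
    exact ⟨x₃, hx₃⟩
  have hinj : Function.Injective δ := by
    rw [injective_iff_map_eq_zero]
    intro x₃ hx₃
    obtain ⟨x₂, hx₂⟩ := Ext.covariant_sequence_exact₃ N hS x₃ rfl hx₃
    have : Subsingleton (Ext N (M.smulShortComplex x).X₂ i) := hvanM i (by omega)
    rw [← hx₂, Subsingleton.elim x₂ 0, Ext.zero_comp]
    rfl
  exact ⟨AddEquiv.ofBijective δ ⟨hinj, hsurj⟩⟩

theorem main_aux' (N : ModuleCat.{u} A) : ∀ (xs : List A) (M : ModuleCat.{u} A),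
    IsWeaklyRegular M xs → (∀ x ∈ xs, ∀ n : N, x • n = 0) →
    (∀ q, q < xs.length → Subsingleton (Ext N M q)) ∧
    Nonempty (Ext N (ModuleCat.of A (M ⧸ (Ideal.ofList xs • ⊤ : Submodule A M))) 0 ≃+
      Ext N M xs.length) := by
  intro xs
  induction xs with
  | nil =>
    intro M _ _
    refine ⟨fun q hq => by simp at hq, ?_⟩
    have h1 : (Ideal.ofList ([] : List A) • ⊤ : Submodule A M) = ⊥ := by
      rw [Ideal.ofList_nil, Submodule.bot_smul]
    exact ⟨extCongrRight N (Submodule.quotEquivOfEqBot _ h1).toModuleIso 0⟩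
  | cons x xs' ih =>
    intro M hreg hN
    rw [isWeaklyRegular_cons_iff] at hreg
    obtain ⟨hvan', ⟨e2⟩⟩ := ih (ModuleCat.of A (QuotSMulTop x M)) hreg.2
      (fun y hy => hN y (List.mem_cons_of_mem _ hy))
    obtain ⟨hvan, ⟨e1⟩⟩ := step' N M x hreg.1 (hN x List.mem_cons_self) xs'.length hvan'
    refine ⟨fun q hq => hvan q (by simpa using hq), ?_⟩
    exact ⟨(extCongrRight N
      (Submodule.quotOfListConsSMulTopEquivQuotSMulTopInner M x xs').toModuleIso 0).trans
        (e2.trans e1)⟩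

theorem hom_residueField_quotient_addEquiv_ext (A : Type u) [CommRing A] [IsLocalRing A]
    (M : Type u) [AddCommGroup M] [Module A M] (xs : List A)
    (hxs : ∀ x ∈ xs, x ∈ IsLocalRing.maximalIdeal A)
    (hreg : RingTheory.Sequence.IsWeaklyRegular M xs) :
    Nonempty ((IsLocalRing.ResidueField A →ₗ[A] (M ⧸ (Ideal.ofList xs • (⊤ : Submodule A M)))) ≃+
      Abelian.Ext (ModuleCat.of A (IsLocalRing.ResidueField A)) (ModuleCat.of A M) xs.length) := by
  have hN : ∀ x ∈ xs, ∀ n : (ModuleCat.of A (IsLocalRing.ResidueField A)), x • n = 0 := by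
    intro x hx n
    obtain ⟨a, rfl⟩ := IsLocalRing.residue_surjective n
    change x • IsLocalRing.residue A a = 0
    rw [Algebra.smul_def]
    have : algebraMap A (IsLocalRing.ResidueField A) x = 0 := by
      change IsLocalRing.residue A x = 0
      rw [IsLocalRing.residue_eq_zero_iff]
      exact hxs x hx
    rw [this, zero_mul]
  obtain ⟨-, ⟨e⟩⟩ := main_aux' (ModuleCat.of A (IsLocalRing.ResidueField A)) xs
    (ModuleCat.of A M) hreg hN
  exact ⟨(ModuleCat.homAddEquiv (M := ModuleCat.of A (IsLocalRing.ResidueField A))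
    (N := ModuleCat.of A (M ⧸ (Ideal.ofList xs • (⊤ : Submodule A M))))).symm.trans
    (Ext.addEquiv₀.symm.trans e)⟩

end Groth.Agent.Helper8.ExtReg
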