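import Mathlib
import Groth.Agent.Lib.Helper8.Depth22

/-!
# Depth is lower semicontinuous along an open neighbourhood
-/

set_option autoImplicit false
universe u v

namespace Groth.Agent.Helper8.Depth

open RingTheory.Sequence LocCoh Pointwise IsLocalRing

section

variable {A : Type u} [CommRing A]

/-- a finite module all of whose elements are killed by elements outside `p` is killed by one
element outside `p`. -/
lemma exists_notMem_forall_smul_eq_zero (E : Type*) [AddCommGroup E] [Module A E]
    [Module.Finite A E] (p : PrimeSpectrum A) (h : ∀ z : E, ∃ t ∉ p.asIdeal, t • z = 0) :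
    ∃ s ∉ p.asIdeal, ∀ z : E, s • z = 0 := by
  have h1 : p ∉ Module.support A E := Module.notMem_support_iff'.mpr h
  rw [Module.mem_support_iff_of_finite, SetLike.not_le_iff_exists] at h1
  obtain ⟨s, hs, hsp⟩ := h1
  exact ⟨s, hsp, fun z => Module.mem_annihilator.mp hs z⟩

lemma isSMulRegular_localizedModule_of_ker (M : Type v) [AddCommGroup M] [Module A M] (a f : A)
    (hf : ∀ k : M, a • k = 0 → f • k = 0) (q : Ideal A) [q.IsPrime] (hfq : f ∉ q) :
    IsSMulRegular (LocalizedModule q.primeCompl M) (algebraMap A (Localization.AtPrime q) a) := by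
  rw [isSMulRegular_iff_right_eq_zero_of_smul]
  intro y hy
  induction y using LocalizedModule.induction_on with
  | h m s =>
    rw [algebraMap_smul, LocalizedModule.smul'_mk, IsLocalizedModule.mk_eq_mk',
      IsLocalizedModule.mk'_eq_zero'] at hy
    obtain ⟨t, ht⟩ := hy
    rw [IsLocalizedModule.mk_eq_mk', IsLocalizedModule.mk'_eq_zero']
    have h1 : a • ((t : A) • m) = 0 := by
      rw [smul_comm]
      exact ht
    have h2 := hf _ h1
    refine ⟨⟨f, hfq⟩ * t, ?_⟩
    rw [mul_smul]
    exact h2

lemma exists_smul_eq_zero_of_isSMulRegular_localizedModule (M : Type v) [AddCommGroup M]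
    [Module A M] (a : A) (p : Ideal A) [p.IsPrime]
    (h : IsSMulRegular (LocalizedModule p.primeCompl M)
      (algebraMap A (Localization.AtPrime p) a)) (k : M) (hk : a • k = 0) :
    ∃ t ∉ p, t • k = 0 := by
  have h1 : algebraMap A (Localization.AtPrime p) a •
      LocalizedModule.mkLinearMap p.primeCompl M k = 0 := by
    rw [algebraMap_smul, ← map_smul, hk, map_zero]
  have h2 := (isSMulRegular_iff_right_eq_zero_of_smul.mp h) _ h1
  rw [IsLocalizedModule.eq_zero_iff p.primeCompl] at h2
  obtain ⟨t, ht⟩ := h2
  exact ⟨t, t.2, ht⟩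

end

section

variable {A : Type u} [CommRing A] [IsNoetherianRing A]

theorem exists_notMem_forall_le_idealDepth (I : Ideal A) (p : PrimeSpectrum A) :
    ∀ (e : ℕ) (M : Type u) [AddCommGroup M] [Module A M] [Module.Finite A M],
      (e : ℕ∞) ≤ idealDepth (I.map (algebraMap A (Localization.AtPrime p.asIdeal)))
        (LocalizedModule p.asIdeal.primeCompl M) →
      ∃ f : A, f ∉ p.asIdeal ∧ ∀ q : PrimeSpectrum A, f ∉ q.asIdeal →
        (e : ℕ∞) ≤ idealDepth (I.map (algebraMap A (Localization.AtPrime q.asIdeal)))
          (LocalizedModule q.asIdeal.primeCompl M) := by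
  intro e
  induction e with
  | zero =>
    intro M _ _ _ _
    exact ⟨1, fun h => p.isPrime.ne_top ((Ideal.eq_top_iff_one _).mpr h), fun q _ => bot_le⟩
  | succ e ih =>
    intro M _ _ _ he
    by_cases hIM : I.map (algebraMap A (Localization.AtPrime p.asIdeal)) •
        (⊤ : Submodule (Localization.AtPrime p.asIdeal)
          (LocalizedModule p.asIdeal.primeCompl M)) = ⊤
    · -- `M/IM` vanishes near `p`
      have hsub : Subsingleton (LocalizedModule p.asIdeal.primeCompl
          (M ⧸ (I • (⊤ : Submodule A M)))) := by
        have e1 := localizedQuotSMulTopEquiv p.asIdeal M I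
        have : Subsingleton (LocalizedModule p.asIdeal.primeCompl M ⧸
            (I.map (algebraMap A (Localization.AtPrime p.asIdeal)) •
              (⊤ : Submodule (Localization.AtPrime p.asIdeal)
                (LocalizedModule p.asIdeal.primeCompl M)))) := by
          rw [Submodule.Quotient.subsingleton_iff]
          exact hIM
        exact e1.toEquiv.subsingleton
      have h1 : ∀ z : M ⧸ (I • (⊤ : Submodule A M)), ∃ t ∉ p.asIdeal, t • z = 0 := by
        intro z
        obtain ⟨t, ht, htz⟩ := LocalizedModule.subsingleton_iff.mp hsub z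
        exact ⟨t, ht, htz⟩
      obtain ⟨f, hfp, hf⟩ := exists_notMem_forall_smul_eq_zero _ p h1
      refine ⟨f, hfp, fun q hfq => ?_⟩
      have hsubq : Subsingleton (LocalizedModule q.asIdeal.primeCompl
          (M ⧸ (I • (⊤ : Submodule A M)))) := by
        rw [LocalizedModule.subsingleton_iff]
        intro z
        exact ⟨f, hfq, hf z⟩
      have e2 := localizedQuotSMulTopEquiv q.asIdeal M I
      have hsub2 : Subsingleton (LocalizedModule q.asIdeal.primeCompl M ⧸
          (I.map (algebraMap A (Localization.AtPrime q.asIdeal)) •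
            (⊤ : Submodule (Localization.AtPrime q.asIdeal)
              (LocalizedModule q.asIdeal.primeCompl M)))) := e2.symm.toEquiv.subsingleton
      rw [Submodule.Quotient.subsingleton_iff] at hsub2
      rw [idealDepth_of_smul_top_eq _ _ hsub2]
      exact le_top
    · obtain ⟨rs, hlen, hreg, hmem⟩ := (le_idealDepth_iff hIM (e + 1)).mp he
      match rs, hlen, hreg, hmem with
      | [], hlen, _, _ => simp at hlen
      | x' :: rs', hlen, hreg, hmem =>
        rw [isWeaklyRegular_cons_iff] at hreg
        have hx'I := hmem x' List.mem_cons_self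
        obtain ⟨⟨⟨a, haI⟩, s⟩, has⟩ :=
          (IsLocalization.mem_map_algebraMap_iff p.asIdeal.primeCompl
            (Localization.AtPrime p.asIdeal)).mp hx'I
        change x' * algebraMap A (Localization.AtPrime p.asIdeal) (s : A) =
          algebraMap A (Localization.AtPrime p.asIdeal) a at has
        have hunit : IsUnit (algebraMap A (Localization.AtPrime p.asIdeal) (s : A)) :=
          IsLocalization.map_units _ s
        have hregA : IsSMulRegular (LocalizedModule p.asIdeal.primeCompl M)
            (algebraMap A (Localization.AtPrime p.asIdeal) a) := by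
          rw [← has]
          exact hreg.1.mul (hunit.isSMulRegular _)
        have haIp : algebraMap A (Localization.AtPrime p.asIdeal) a ∈
            I.map (algebraMap A (Localization.AtPrime p.asIdeal)) := Ideal.mem_map_of_mem _ haI
        have hd := idealDepth_quotSMulTop_add_one hIM haIp hregA
        have he' : (e : ℕ∞) ≤ idealDepth (I.map (algebraMap A (Localization.AtPrime p.asIdeal)))
            (LocalizedModule p.asIdeal.primeCompl (QuotSMulTop a M)) := by
          rw [idealDepth_congr (localizedQuotSMulTopEquiv' p.asIdeal M a)]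
          rw [← hd] at he
          have : ((e : ℕ) : ℕ∞) + 1 ≤ idealDepth
              (I.map (algebraMap A (Localization.AtPrime p.asIdeal)))
              (QuotSMulTop (algebraMap A (Localization.AtPrime p.asIdeal) a)
                (LocalizedModule p.asIdeal.primeCompl M)) + 1 := by exact_mod_cast he
          exact (ENat.add_le_add_iff_right ENat.one_ne_top).mp this
        obtain ⟨f₂, hf₂p, hf₂⟩ := ih (QuotSMulTop a M) he'
        -- the kernel of multiplication by `a`
        let K : Submodule A M := LinearMap.ker (LinearMap.lsmul A M a)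
        have hK : ∀ z : K, ∃ t ∉ p.asIdeal, t • z = 0 := by
          intro z
          obtain ⟨t, htp, htz⟩ := exists_smul_eq_zero_of_isSMulRegular_localizedModule M a
            p.asIdeal hregA z.1 z.2
          exact ⟨t, htp, Subtype.ext htz⟩
        obtain ⟨f₁, hf₁p, hf₁⟩ := exists_notMem_forall_smul_eq_zero K p hK
        refine ⟨f₁ * f₂, fun h => (p.isPrime.mem_or_mem h).elim hf₁p hf₂p, fun q hfq => ?_⟩
        have hf₁q : f₁ ∉ q.asIdeal := fun h => hfq (Ideal.mul_mem_right _ _ h)
        have hf₂q : f₂ ∉ q.asIdeal := fun h => hfq (Ideal.mul_mem_left _ _ h)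
        have hregq : IsSMulRegular (LocalizedModule q.asIdeal.primeCompl M)
            (algebraMap A (Localization.AtPrime q.asIdeal) a) := by
          apply isSMulRegular_localizedModule_of_ker M a f₁ _ q.asIdeal hf₁q
          intro k hk
          have := hf₁ ⟨k, hk⟩
          exact congrArg Subtype.val this
        have haIq : algebraMap A (Localization.AtPrime q.asIdeal) a ∈
            I.map (algebraMap A (Localization.AtPrime q.asIdeal)) := Ideal.mem_map_of_mem _ haI
        have h3 := idealDepth_quotSMulTop_add_one_le haIq hregq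
        have h4 := hf₂ q hf₂q
        rw [idealDepth_congr (localizedQuotSMulTopEquiv' q.asIdeal M a)] at h4
        calc ((e + 1 : ℕ) : ℕ∞) = (e : ℕ∞) + 1 := by push_cast; rfl
          _ ≤ _ := add_le_add h4 le_rfl
          _ ≤ _ := h3

end

end Groth.Agent.Helper8.Depth

namespace Groth.Agent.Helper8.Depth

open LocCoh

theorem idealDepth_ge_on_open_of_closure (A : Type u) [CommRing A] [IsNoetherianRing A]
    (I : Ideal A) (M : Type u) [AddCommGroup M] [Module A M] [Module.Finite A M]
    (p : PrimeSpectrum A) (e : ℕ)
    (he : idealDepth (I.map (algebraMap A (Localization.AtPrime p.asIdeal)))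
      (LocalizedModule p.asIdeal.primeCompl M) = e) :
    ∃ U : Set (PrimeSpectrum A), IsOpen U ∧
      (U ∩ PrimeSpectrum.zeroLocus (p.asIdeal : Set A)).Nonempty ∧
      ∀ q : PrimeSpectrum A, q ∈ U → p ≤ q →
        (e : ℕ∞) ≤ idealDepth (I.map (algebraMap A (Localization.AtPrime q.asIdeal)))
          (LocalizedModule q.asIdeal.primeCompl M) := by
  obtain ⟨f, hfp, hf⟩ := exists_notMem_forall_le_idealDepth I p e M he.ge
  refine ⟨(PrimeSpectrum.basicOpen f : Set (PrimeSpectrum A)), (PrimeSpectrum.basicOpen f).2,
    ⟨p, ?_, ?_⟩, fun q hq _ => hf q ?_⟩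
  · exact hfp
  · rw [PrimeSpectrum.mem_zeroLocus]
  · exact hq

end Groth.Agent.Helper8.Depth
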