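import Mathlib
import Groth.Agent.Lib.Helper8.Depth40
import Groth.Agent.Lib.Helper8.Depth3

/-!
# Semicontinuity of depth with a finiteness statement
-/

set_option autoImplicit false
universe u v

namespace Groth.Agent.Helper8.Depth

open RingTheory.Sequence LocCoh Pointwise IsLocalRing

variable {A : Type u} [CommRing A] [IsNoetherianRing A]

/-- If `depth M_q = 0` then `q` is an associated prime of `M`. -/
theorem mem_associatedPrimes_of_depth_localization_eq_zero (M : Type u) [AddCommGroup M]
    [Module A M] [Module.Finite A M] (q : PrimeSpectrum A)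
    (h : depth (Localization.AtPrime q.asIdeal) (LocalizedModule q.asIdeal.primeCompl M) = 0) :
    q.asIdeal ∈ associatedPrimes A M := by
  have h1 := (depth_eq_zero_iff _ _).mp h
  rw [← Module.associatedPrimes.preimage_comap_associatedPrimes_eq_associatedPrimes_of_isLocalizedModule
    q.asIdeal.primeCompl (Localization.AtPrime q.asIdeal)
    (LocalizedModule.mkLinearMap q.asIdeal.primeCompl M), Set.mem_preimage] at h1
  have h2 : Ideal.comap (algebraMap A (Localization.AtPrime q.asIdeal))
      (maximalIdeal (Localization.AtPrime q.asIdeal)) = q.asIdeal :=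
    Localization.AtPrime.under_maximalIdeal
  rwa [h2] at h1

theorem finite_setOf_depth_eq (p : PrimeSpectrum A) :
    ∀ (e : ℕ) (M : Type u) [AddCommGroup M] [Module A M] [Module.Finite A M],
      (e : ℕ∞) ≤ depth (Localization.AtPrime p.asIdeal)
        (LocalizedModule p.asIdeal.primeCompl M) →
      ∃ f : A, f ∉ p.asIdeal ∧
        {q : PrimeSpectrum A | p.asIdeal ≤ q.asIdeal ∧ f ∉ q.asIdeal ∧
          depth (Localization.AtPrime q.asIdeal)
            (LocalizedModule q.asIdeal.primeCompl M) = e}.Finite := by
  intro e
  induction e with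
  | zero =>
    intro M _ _ _ _
    refine ⟨1, fun h => p.isPrime.ne_top ((Ideal.eq_top_iff_one _).mpr h), ?_⟩
    refine Set.Finite.subset ((associatedPrimes.finite A M).preimage
      (f := PrimeSpectrum.asIdeal) (fun x _ y _ hxy => PrimeSpectrum.ext hxy)) ?_
    rintro q ⟨-, -, hq⟩
    exact mem_associatedPrimes_of_depth_localization_eq_zero M q (by simpa using hq)
  | succ e ih =>
    intro M _ _ _ he
    by_cases hIM : maximalIdeal (Localization.AtPrime p.asIdeal) •
        (⊤ : Submodule (Localization.AtPrime p.asIdeal)
          (LocalizedModule p.asIdeal.primeCompl M)) = ⊤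
    · -- `M` vanishes near `p`
      have hsub : Subsingleton (LocalizedModule p.asIdeal.primeCompl M) := by
        by_contra hns
        rw [not_subsingleton_iff_nontrivial] at hns
        exact smul_top_ne_top_of_local _ _ hIM
      have h1 : ∀ z : M, ∃ t ∉ p.asIdeal, t • z = 0 := by
        intro z
        obtain ⟨t, ht, htz⟩ := LocalizedModule.subsingleton_iff.mp hsub z
        exact ⟨t, ht, htz⟩
      obtain ⟨f, hfp, hf⟩ := exists_notMem_forall_smul_eq_zero M p h1
      refine ⟨f, hfp, ?_⟩
      convert Set.finite_empty
      rw [Set.eq_empty_iff_forall_notMem]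
      rintro q ⟨-, hfq, hq⟩
      have hsubq : Subsingleton (LocalizedModule q.asIdeal.primeCompl M) := by
        rw [LocalizedModule.subsingleton_iff]
        intro z
        exact ⟨f, hfq, hf z⟩
      rw [depth_eq_top_of_subsingleton] at hq
      exact absurd hq.symm (ENat.natCast_ne_top _)
    · obtain ⟨rs, hlen, hreg, hmem⟩ := (le_idealDepth_iff hIM (e + 1)).mp he
      match rs, hlen, hreg, hmem with
      | [], hlen, _, _ => simp at hlen
      | x' :: rs', hlen, hreg, hmem =>
        rw [isWeaklyRegular_cons_iff] at hreg
        have hx'I : x' ∈ p.asIdeal.map (algebraMap A (Localization.AtPrime p.asIdeal)) := by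
          rw [Localization.AtPrime.map_eq_maximalIdeal]
          exact hmem x' List.mem_cons_self
        obtain ⟨⟨⟨a, haI⟩, s⟩, has⟩ :=
          (IsLocalization.mem_map_algebraMap_iff p.asIdeal.primeCompl
            (Localization.AtPrime p.asIdeal)).mp hx'I
        change x' * algebraMap A (Localization.AtPrime p.asIdeal) (s : A) =
          algebraMap A (Localization.AtPrime p.asIdeal) a at has
        have hunit : IsUnit (algebraMap A (Localization.AtPrime p.asIdeal) (s : A)) :=
          IsLocalization.map_units _ s
        have hregA : IsSMulRegular (LocalizedModule p.asIdeal.primeCompl M)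
            (algebraMap A (Localization.AtPrime p.asIdeal) a) := by
          rw [← has]
          exact hreg.1.mul (hunit.isSMulRegular _)
        have haIp : algebraMap A (Localization.AtPrime p.asIdeal) a ∈
            maximalIdeal (Localization.AtPrime p.asIdeal) :=
          (IsLocalization.AtPrime.to_map_mem_maximal_iff _ p.asIdeal a).mpr haI
        have hd := idealDepth_quotSMulTop_add_one hIM haIp hregA
        have he' : (e : ℕ∞) ≤ depth (Localization.AtPrime p.asIdeal)
            (LocalizedModule p.asIdeal.primeCompl (QuotSMulTop a M)) := by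
          unfold LocCoh.depth at he ⊢
          rw [idealDepth_congr (localizedQuotSMulTopEquiv' p.asIdeal M a)]
          rw [← hd] at he
          have : ((e : ℕ) : ℕ∞) + 1 ≤ idealDepth
              (maximalIdeal (Localization.AtPrime p.asIdeal))
              (QuotSMulTop (algebraMap A (Localization.AtPrime p.asIdeal) a)
                (LocalizedModule p.asIdeal.primeCompl M)) + 1 := by exact_mod_cast he
          exact (ENat.add_le_add_iff_right ENat.one_ne_top).mp this
        obtain ⟨f₂, hf₂p, hf₂⟩ := ih (QuotSMulTop a M) he'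
        -- the kernel of multiplication by `a`
        let K : Submodule A M := LinearMap.ker (LinearMap.lsmul A M a)
        have hK : ∀ z : K, ∃ t ∉ p.asIdeal, t • z = 0 := by
          intro z
          obtain ⟨t, htp, htz⟩ := exists_smul_eq_zero_of_isSMulRegular_localizedModule M a
            p.asIdeal hregA z.1 z.2
          exact ⟨t, htp, Subtype.ext htz⟩
        obtain ⟨f₁, hf₁p, hf₁⟩ := exists_notMem_forall_smul_eq_zero K p hK
        refine ⟨f₁ * f₂, fun h => (p.isPrime.mem_or_mem h).elim hf₁p hf₂p, hf₂.subset ?_⟩
        rintro q ⟨hpq, hfq, hq⟩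
        have hf₁q : f₁ ∉ q.asIdeal := fun h => hfq (Ideal.mul_mem_right _ _ h)
        have hf₂q : f₂ ∉ q.asIdeal := fun h => hfq (Ideal.mul_mem_left _ _ h)
        refine ⟨hpq, hf₂q, ?_⟩
        have hregq : IsSMulRegular (LocalizedModule q.asIdeal.primeCompl M)
            (algebraMap A (Localization.AtPrime q.asIdeal) a) := by
          apply isSMulRegular_localizedModule_of_ker M a f₁ _ q.asIdeal hf₁q
          intro k hk
          have := hf₁ ⟨k, hk⟩
          exact congrArg Subtype.val this
        have haIq : algebraMap A (Localization.AtPrime q.asIdeal) a ∈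
            maximalIdeal (Localization.AtPrime q.asIdeal) :=
          (IsLocalization.AtPrime.to_map_mem_maximal_iff _ q.asIdeal a).mpr (hpq haI)
        have hIMq : maximalIdeal (Localization.AtPrime q.asIdeal) •
            (⊤ : Submodule (Localization.AtPrime q.asIdeal)
              (LocalizedModule q.asIdeal.primeCompl M)) ≠ ⊤ := by
          intro h
          unfold LocCoh.depth at hq
          rw [idealDepth_of_smul_top_eq _ _ h] at hq
          exact absurd hq.symm (ENat.natCast_ne_top _)
        have hdq := idealDepth_quotSMulTop_add_one hIMq haIq hregq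
        unfold LocCoh.depth at hq ⊢
        rw [idealDepth_congr (localizedQuotSMulTopEquiv' q.asIdeal M a)]
        rw [hq] at hdq
        have h5 : idealDepth (maximalIdeal (Localization.AtPrime q.asIdeal))
            (QuotSMulTop (algebraMap A (Localization.AtPrime q.asIdeal) a)
              (LocalizedModule q.asIdeal.primeCompl M)) + 1 = (e : ℕ∞) + 1 := by
          rw [hdq]; push_cast; rfl
        exact (ENat.add_left_injective_of_ne_top ENat.one_ne_top) h5

omit [IsNoetherianRing A] in
theorem idealDepth_mono {I J : Ideal A} (h : I ≤ J) (M : Type v) [AddCommGroup M] [Module A M] :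
    idealDepth I M ≤ idealDepth J M := by
  by_cases hJ : J • (⊤ : Submodule A M) = ⊤
  · rw [idealDepth_of_smul_top_eq _ _ hJ]; exact le_top
  have hI : I • (⊤ : Submodule A M) ≠ ⊤ := by
    intro hI
    apply hJ
    have h1 : I • (⊤ : Submodule A M) ≤ J • (⊤ : Submodule A M) := Submodule.smul_mono_left h
    rw [hI] at h1
    exact top_le_iff.mp h1
  rw [← ENat.forall_natCast_le_iff_le]
  intro n hn
  obtain ⟨rs, hlen, hreg, hmem⟩ := (le_idealDepth_iff hI n).mp hn
  exact (le_idealDepth_iff hJ n).mpr ⟨rs, hlen, hreg, fun r hr => h (hmem r hr)⟩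

/-- S0359. -/
theorem depth_semicontinuous (M : Type u) [AddCommGroup M] [Module A M] [Module.Finite A M]
    (p : Ideal A) [p.IsPrime] (e : ℕ)
    (he : depth (Localization.AtPrime p) (LocalizedModule p.primeCompl M) = e) :
    ∃ f : A, f ∉ p ∧
      (∀ (q : Ideal A) [q.IsPrime], p ≤ q → f ∉ q →
        (e : ℕ∞) ≤ depth (Localization.AtPrime q) (LocalizedModule q.primeCompl M)) ∧
      {q : PrimeSpectrum A | p ≤ q.asIdeal ∧ f ∉ q.asIdeal ∧
        depth (Localization.AtPrime q.asIdeal)
          (LocalizedModule q.asIdeal.primeCompl M) = e}.Finite := by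
  have he1 : (e : ℕ∞) ≤ idealDepth (p.map (algebraMap A (Localization.AtPrime p)))
      (LocalizedModule p.primeCompl M) := by
    rw [Localization.AtPrime.map_eq_maximalIdeal]
    exact he.ge
  obtain ⟨f₁, hf₁p, hf₁⟩ := exists_notMem_forall_le_idealDepth p ⟨p, inferInstance⟩ e M he1
  obtain ⟨f₂, hf₂p, hf₂⟩ := finite_setOf_depth_eq ⟨p, inferInstance⟩ e M he.ge
  refine ⟨f₁ * f₂, fun h => ((inferInstance : p.IsPrime).mem_or_mem h).elim hf₁p hf₂p, ?_, ?_⟩
  · intro q hq hpq hfq
    have hf₁q : f₁ ∉ q := fun h => hfq (Ideal.mul_mem_right _ _ h)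
    refine le_trans (hf₁ ⟨q, hq⟩ hf₁q) ?_
    apply idealDepth_mono
    rw [Ideal.map_le_iff_le_comap]
    intro x hx
    exact (IsLocalization.AtPrime.to_map_mem_maximal_iff _ q x).mpr (hpq hx)
  · refine hf₂.subset ?_
    rintro q ⟨hpq, hfq, hq⟩
    exact ⟨hpq, fun h => hfq (Ideal.mul_mem_left _ _ h), hq⟩

end Groth.Agent.Helper8.Depth
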