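import Mathlib
import Groth.Agent.Lib.Helper8.KG2
import Groth.Agent.Lib.Helper8.KE9

/-!
# Koszul Euler characteristics over general Noetherian rings: finiteness and positivity
-/

namespace Groth.Agent.Helper8.KoszulLib.Gen

open CategoryTheory CategoryTheory.Limits CochainComplex CohIII
open Groth.Agent.Helper8.KoszulLib
open scoped Pointwise

universe u

variable {A : Type u} [CommRing A] [IsNoetherianRing A]

/-- A finite module killed by `I` and by `Ann M`, where `M/IM` has finite length, has finite
length. -/
theorem isFiniteLength_of_smul_eq_zero (M : Type u) [AddCommGroup M] [Module A M]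
    [Module.Finite A M] (I : Ideal A)
    (hfl : IsFiniteLength A (M ⧸ I • (⊤ : Submodule A M)))
    (N : Type u) [AddCommGroup N] [Module A N] [Module.Finite A N]
    (h1 : ∀ a ∈ I, ∀ n : N, a • n = 0)
    (h2 : ∀ a : A, (∀ m : M, a • m = 0) → ∀ n : N, a • n = 0) :
    IsFiniteLength A N := by
  refine isFiniteLength_of_minimalPrimes_isMaximal N (fun p hp => ?_)
  have hpp : p.IsPrime := hp.1.1
  have hle : I ⊔ Module.annihilator A M ≤ Module.annihilator A N := by
    refine sup_le ?_ ?_
    · intro a ha
      exact Module.mem_annihilator.mpr (h1 a ha)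
    · intro a ha
      exact Module.mem_annihilator.mpr (h2 a (Module.mem_annihilator.mp ha))
  have hp' : (⟨p, hpp⟩ : PrimeSpectrum A) ∈
      Module.support A (M ⧸ I • (⊤ : Submodule A M)) := by
    rw [Module.support_quotient, Set.mem_inter_iff, Module.mem_support_iff_of_finite,
      PrimeSpectrum.mem_zeroLocus]
    exact ⟨(le_sup_right.trans hle).trans hp.1.2, (le_sup_left.trans hle).trans hp.1.2⟩
  exact isMaximal_of_mem_support_of_isFiniteLength hfl _ hp'

/-- Koszul homology has finite length when `M/(l)M` has. -/
theorem isFiniteLength_koszul_homology (M : Type u) [AddCommGroup M] [Module A M]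
    [Module.Finite A M] (l : List A)
    (hfl : IsFiniteLength A (M ⧸ Ideal.ofList l • (⊤ : Submodule A M))) (n : ℤ) :
    IsFiniteLength A ((koszulCx (ModuleCat.of A M) l).homology n) := by
  have : Module.Finite A (ModuleCat.of A M) := ‹Module.Finite A M›
  have hfin := finite_koszul_homology (ModuleCat.of A M) l n
  refine isFiniteLength_of_smul_eq_zero M (Ideal.ofList l) hfl _ ?_ ?_
  · intro a ha z
    exact smul_homology_eq_zero (ModuleCat.of A M) l a ha n z
  · intro a ha z
    exact smul_homology_eq_zero_of_annihilator (ModuleCat.of A M) l a ha n z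

theorem kfl_of_quotient (l : List A) (M : Type u) [AddCommGroup M] [Module A M]
    [Module.Finite A M]
    (hfl : IsFiniteLength A (M ⧸ Ideal.ofList l • (⊤ : Submodule A M))) : KFL l M :=
  fun n => isFiniteLength_koszul_homology M l hfl n

/-- Transfer of finiteness of Koszul homology along annihilators. -/
theorem kfl_of_ann (l : List A) (M N : Type u) [AddCommGroup M] [Module A M]
    [Module.Finite A M] [AddCommGroup N] [Module A N] [Module.Finite A N] (h : KFL l M)
    (hann : ∀ a : A, (∀ m : M, a • m = 0) → ∀ n : N, a • n = 0) : KFL l N := by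
  intro n
  have : Module.Finite A (ModuleCat.of A N) := ‹Module.Finite A N›
  have hfin := finite_koszul_homology (ModuleCat.of A N) l n
  refine isFiniteLength_of_smul_eq_zero M (Ideal.ofList l) (quotient_of_kfl l M h) _ ?_ ?_
  · intro a ha z
    exact smul_homology_eq_zero (ModuleCat.of A N) l a ha n z
  · intro a ha z
    exact smul_homology_eq_zero_of_annihilator (ModuleCat.of A N) l a (hann a ha) n z

theorem kfl_submodule (l : List A) (M : Type u) [AddCommGroup M] [Module A M]
    [Module.Finite A M] (h : KFL l M) (N : Submodule A M) : KFL l N :=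
  kfl_of_ann l M N h (fun a ha n => Subtype.ext (by simpa using ha n.1))

theorem kfl_quotient (l : List A) (M : Type u) [AddCommGroup M] [Module A M]
    [Module.Finite A M] (h : KFL l M) (N : Submodule A M) : KFL l (M ⧸ N) :=
  kfl_of_ann l M (M ⧸ N) h (fun a ha z => by
    obtain ⟨m, rfl⟩ := Submodule.Quotient.mk_surjective _ z
    rw [← Submodule.Quotient.mk_smul, ha m, Submodule.Quotient.mk_zero])

/-- The Euler characteristic of the `x`-power torsion vanishes. -/
theorem chi_cons_powTors (x : A) (l : List A) (M : Type u) [AddCommGroup M] [Module A M]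
    [Module.Finite A M] (h : KFL (x :: l) M) : chi (x :: l) (powTors x M) = 0 := by
  have hT := kfl_submodule _ M h (powTors x M)
  obtain ⟨n, hn⟩ := exists_pow_smul_powTors x M
  obtain ⟨h1, h2⟩ := chi_pow_head x l (powTors x M) hT n
  have h3 := chi_cons_eq_zero_of_smul_eq_zero (x ^ (n + 1)) l (powTors x M)
    (fun m => Subtype.ext (by simpa using hn m.1 m.2)) h1
  rw [h3] at h2
  have h4 : ((n + 1 : ℕ) : ℤ) ≠ 0 := by exact_mod_cast Nat.succ_ne_zero n
  rcases mul_eq_zero.mp h2.symm with h5 | h5
  · exact absurd h5 h4
  · exact h5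

/-- Reduction of the Euler characteristic to the quotient by the `x`-power torsion, then by
`x`. -/
theorem chi_cons_eq (x : A) (l : List A) (M : Type u) [AddCommGroup M] [Module A M]
    [Module.Finite A M] (h : KFL (x :: l) M) :
    KFL l (QuotSMulTop x (M ⧸ powTors x M)) ∧
      chi (x :: l) M = chi l (QuotSMulTop x (M ⧸ powTors x M)) := by
  have hT := kfl_submodule _ M h (powTors x M)
  have hQ := kfl_quotient _ M h (powTors x M)
  have hreg := isSMulRegular_quotient_powTors x M
  refine ⟨(kfl_cons_iff_of_regular x l _ hreg).mp hQ, ?_⟩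
  rw [chi_additive (x :: l) (powTors x M).subtype (powTors x M).mkQ
    (Submodule.subtype_injective _) (Submodule.mkQ_surjective _)
    (LinearMap.exact_subtype_mkQ _) hT h hQ, chi_cons_powTors x l M h, zero_add,
    chi_cons_of_regular x l _ hreg]

/-- Positivity of the Euler characteristic for a system of parameters in the Jacobson
radical. -/
theorem chi_pos_of_supportDim_eq : ∀ (l : List A) (M : Type u) [AddCommGroup M]
    [Module A M] [Module.Finite A M], (∀ a ∈ l, a ∈ Ring.jacobson A) → KFL l M →
    Module.supportDim A M = (l.length : WithBot ℕ∞) → 0 < chi l M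
  | [], M, _, _, _, _, h, hdim => by
    rw [chi_nil]
    have hnt : Nontrivial M := by
      rw [← Module.supportDim_ne_bot_iff_nontrivial A M, hdim]
      simp
    have e1 : (koszulCx (ModuleCat.of A M) []).homology 0 ≃ₗ[A] M :=
      (HomologicalComplex.singleObjHomologySelfIso (ComplexShape.up ℤ) 0
        (ModuleCat.of A M)).toLinearEquiv
    have hfl : IsFiniteLength A M := e1.isFiniteLength (h 0)
    have h1 : (len A M : ℕ∞) = Module.length A M := coe_len hfl
    have h2 : 0 < Module.length A M := Module.length_pos
    rw [← h1] at h2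
    exact_mod_cast h2
  | x :: l, M, _, _, _, hmem, h, hdim => by
    obtain ⟨h1, h2⟩ := chi_cons_eq x l M h
    rw [h2]
    have hreg := isSMulRegular_quotient_powTors x M
    have hx : x ∈ Ring.jacobson A := hmem x List.mem_cons_self
    have hl : ∀ a ∈ l, a ∈ Ring.jacobson A :=
      fun a ha => hmem a (List.mem_cons_of_mem _ ha)
    refine chi_pos_of_supportDim_eq l _ hl h1 ?_
    -- dimension of the torsion part
    have hT := kfl_submodule _ M h (powTors x M)
    obtain ⟨n, hn⟩ := exists_pow_smul_powTors x M
    have hTn := (chi_pow_head x l (powTors x M) hT n).1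
    have hflT := quotient_of_kfl _ _ hTn
    have hbot : x ^ (n + 1) • (⊤ : Submodule A (powTors x M)) = ⊥ := by
      rw [eq_bot_iff]
      rintro _ ⟨m, -, rfl⟩
      rw [Submodule.mem_bot]
      exact Subtype.ext (by simpa using hn m.1 m.2)
    have hflT' : IsFiniteLength A ((powTors x M) ⧸
        Ideal.ofList l • (⊤ : Submodule A (powTors x M))) := by
      refine (Submodule.quotEquivOfEq _ _ ?_).isFiniteLength hflT
      rw [Ideal.ofList_cons_smul, hbot, bot_sup_eq]
    have hdT := supportDim_le_length' l (powTors x M) hl hflT'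
    -- dimension of the quotient
    have hdM : ((l.length + 1 : ℕ) : WithBot ℕ∞) ≤ Module.supportDim A M := by
      rw [hdim]; simp
    have hdQ : ((l.length + 1 : ℕ) : WithBot ℕ∞) ≤ Module.supportDim A (M ⧸ powTors x M) := by
      rcases le_supportDim_of_exact (powTors x M).subtype (powTors x M).mkQ
        (Submodule.subtype_injective _) (Submodule.mkQ_surjective _)
        (LinearMap.exact_subtype_mkQ _) (l.length + 1) hdM with h3 | h3
      · exfalso
        have h4 := h3.trans hdT
        have h5 : (l.length + 1 : ℕ) ≤ l.length := by exact_mod_cast h4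
        omega
      · exact h3
    have hdQ' : Module.supportDim A (M ⧸ powTors x M) ≤ ((l.length + 1 : ℕ) : WithBot ℕ∞) := by
      have := Module.supportDim_le_of_surjective _ (Submodule.mkQ_surjective (powTors x M))
      refine this.trans ?_
      rw [hdim]; simp
    have e1 := Module.supportDim_quotSMulTop_succ_eq_supportDim_mem_jacobson hreg
      (Ideal.ringJacobson_le_jacobson hx)
    rw [le_antisymm hdQ' hdQ] at e1
    apply withBot_enat_add_one_cancel
    rw [e1]
    push_cast
    rfl

/-- Finite length of `M / qᵃ M`. -/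
theorem length_quotient_pow_ne_top (M : Type u) [AddCommGroup M] [Module A M]
    [Module.Finite A M] (q : Ideal A)
    (hfl : IsFiniteLength A (M ⧸ q • (⊤ : Submodule A M))) (a : ℕ) :
    Module.length A (M ⧸ q ^ a • (⊤ : Submodule A M)) ≠ ⊤ := by
  rw [Module.length_ne_top_iff]
  refine isFiniteLength_of_minimalPrimes_isMaximal _ (fun p hp => ?_)
  have hpp : p.IsPrime := hp.1.1
  have hann : q ^ a ≤ Module.annihilator A (M ⧸ q ^ a • (⊤ : Submodule A M)) := by
    intro r hr
    rw [Module.mem_annihilator]
    intro m
    obtain ⟨m, rfl⟩ := Submodule.Quotient.mk_surjective _ m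
    rw [← Submodule.Quotient.mk_smul, Submodule.Quotient.mk_eq_zero]
    exact Submodule.smul_mem_smul hr trivial
  have hannM : Module.annihilator A M ≤
      Module.annihilator A (M ⧸ q ^ a • (⊤ : Submodule A M)) := by
    intro r hr
    rw [Module.mem_annihilator] at hr ⊢
    intro m
    obtain ⟨m, rfl⟩ := Submodule.Quotient.mk_surjective _ m
    rw [← Submodule.Quotient.mk_smul, hr m]
    rfl
  have hq : q ≤ p := hpp.le_of_pow_le (hann.trans hp.1.2)
  have hp' : (⟨p, hpp⟩ : PrimeSpectrum A) ∈
      Module.support A (M ⧸ q • (⊤ : Submodule A M)) := by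
    rw [Module.support_quotient, Set.mem_inter_iff, Module.mem_support_iff_of_finite,
      PrimeSpectrum.mem_zeroLocus]
    exact ⟨hannM.trans hp.1.2, hq⟩
  exact isMaximal_of_mem_support_of_isFiniteLength hfl _ hp'

end Groth.Agent.Helper8.KoszulLib.Gen
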