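import Mathlib

/-!
# Serre's theorem, part 5: functions with eventually constant iterated differences
-/

namespace Groth.Agent.Helper8.KoszulLib

open Filter Topology

/-- The backward difference operator. -/
def nabla (F : ℤ → ℤ) : ℤ → ℤ := fun i => F i - F (i - 1)

theorem nabla_apply (F : ℤ → ℤ) (i : ℤ) : nabla F i = F i - F (i - 1) := rfl

theorem nabla_iterate_sub_mul (d : ℕ) (F G : ℤ → ℤ) (c : ℤ) (i : ℤ) :
    nabla^[d] (fun j => F j - c * G j) i = nabla^[d] F i - c * nabla^[d] G i := by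
  induction d generalizing i with
  | zero => rfl
  | succ d ih =>
    rw [Function.iterate_succ_apply', Function.iterate_succ_apply', Function.iterate_succ_apply',
      nabla_apply, nabla_apply, nabla_apply, ih, ih]
    ring

/-- Binomial coefficients as a function on the integers. -/
def binZ (d : ℕ) (i : ℤ) : ℤ := (i.toNat.choose d : ℤ)

theorem nabla_iterate_binZ (d : ℕ) : ∀ (k : ℕ) (i : ℤ), (d : ℤ) ≤ i →
    nabla^[d] (binZ (d + k)) i = binZ k (i - d) := by
  induction d with
  | zero =>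
    intro k i _
    simp
  | succ d ih =>
    intro k i hi
    rw [Function.iterate_succ_apply', nabla_apply]
    have e : d + 1 + k = d + (k + 1) := by ring
    rw [e, ih (k + 1) i (by push_cast at hi; omega), ih (k + 1) (i - 1) (by push_cast at hi; omega)]
    unfold binZ
    push_cast at hi ⊢
    obtain ⟨m, hm⟩ : ∃ m : ℕ, i - (d + 1) = m := ⟨(i - (d + 1)).toNat, by omega⟩
    have h1 : (i - d).toNat = m + 1 := by omega
    have h2 : (i - 1 - d).toNat = m := by omega
    have h3 : (i - (d + 1)).toNat = m := by omega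
    rw [h1, h2, h3, Nat.choose_succ_succ]
    push_cast
    ring

theorem nabla_iterate_binZ_self (d : ℕ) (i : ℤ) (hi : (d : ℤ) ≤ i) :
    nabla^[d] (binZ d) i = 1 := by
  have := nabla_iterate_binZ d 0 i hi
  rw [add_zero] at this
  rw [this]
  simp [binZ]

/-- A function whose `(d+1)`-st difference eventually vanishes grows at most like `t^d`. -/
theorem exists_bound_of_nabla_eq_zero : ∀ (d : ℕ) (F : ℤ → ℤ) (i₀ : ℤ),
    (∀ i ≥ i₀, nabla^[d + 1] F i = 0) → ∃ C : ℤ, 0 ≤ C ∧ ∀ t : ℕ, |F t| ≤ C * ((t : ℤ) + 1) ^ d := by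
  intro d
  induction d with
  | zero =>
    intro F i₀ h
    set T := i₀.toNat with hT
    have hconst : ∀ t : ℕ, F ((T + t : ℕ) : ℤ) = F (T : ℤ) := by
      intro t
      induction t with
      | zero => rfl
      | succ t ih =>
        have := h ((T + (t + 1) : ℕ) : ℤ) (by push_cast; omega)
        rw [Function.iterate_one, nabla_apply] at this
        rw [← ih]
        have e : ((T + (t + 1) : ℕ) : ℤ) - 1 = ((T + t : ℕ) : ℤ) := by push_cast; ring
        rw [e] at this
        linarith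
    refine ⟨∑ s ∈ Finset.range (T + 1), |F s|, Finset.sum_nonneg (fun _ _ => abs_nonneg _), ?_⟩
    intro t
    rw [pow_zero, mul_one]
    by_cases ht : t ≤ T
    · exact Finset.single_le_sum (f := fun s : ℕ => |F s|) (fun _ _ => abs_nonneg _)
        (Finset.mem_range.mpr (by omega))
    · obtain ⟨s, rfl⟩ : ∃ s, t = T + s := ⟨t - T, by omega⟩
      rw [hconst]
      exact Finset.single_le_sum (f := fun s : ℕ => |F s|) (fun _ _ => abs_nonneg _)
        (Finset.mem_range.mpr (by omega))
  | succ d ih =>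
    intro F i₀ h
    obtain ⟨C, hC0, hC⟩ := ih (nabla F) i₀ (fun i hi => by
      rw [← Function.iterate_succ_apply]
      exact h i hi)
    have hb : ∀ t : ℕ, |F t| ≤ |F 0| + C * (t : ℤ) * ((t : ℤ) + 1) ^ d := by
      intro t
      induction t with
      | zero => simp
      | succ t iht =>
        have h1 := hC (t + 1)
        rw [nabla_apply] at h1
        have e : ((t + 1 : ℕ) : ℤ) - 1 = (t : ℤ) := by push_cast; ring
        rw [e] at h1
        have h2 : |F ((t + 1 : ℕ) : ℤ)| ≤ |F t| + |F ((t + 1 : ℕ) : ℤ) - F t| := by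
          have := abs_add_le (F t) (F ((t + 1 : ℕ) : ℤ) - F t)
          simpa using this
        have h3 : ((t : ℤ) + 1) ^ d ≤ (((t + 1 : ℕ) : ℤ) + 1) ^ d := by
          apply pow_le_pow_left₀ (by positivity)
          push_cast
          omega
        have h4 : C * (t : ℤ) * ((t : ℤ) + 1) ^ d ≤ C * (t : ℤ) * (((t + 1 : ℕ) : ℤ) + 1) ^ d :=
          mul_le_mul_of_nonneg_left h3 (by positivity)
        calc |F ((t + 1 : ℕ) : ℤ)| ≤ |F t| + |F ((t + 1 : ℕ) : ℤ) - F t| := h2
          _ ≤ (|F 0| + C * (t : ℤ) * ((t : ℤ) + 1) ^ d) + C * (((t + 1 : ℕ) : ℤ) + 1) ^ d :=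
            add_le_add iht h1
          _ ≤ |F 0| + C * ((t + 1 : ℕ) : ℤ) * (((t + 1 : ℕ) : ℤ) + 1) ^ d := by
            push_cast at h4 ⊢
            nlinarith [h4]
    refine ⟨|F 0| + C, by positivity, fun t => ?_⟩
    refine (hb t).trans ?_
    have h5 : (1 : ℤ) ≤ ((t : ℤ) + 1) ^ (d + 1) := one_le_pow₀ (by omega)
    have h6 : (t : ℤ) * ((t : ℤ) + 1) ^ d ≤ ((t : ℤ) + 1) ^ (d + 1) := by
      rw [pow_succ']
      exact mul_le_mul_of_nonneg_right (by omega) (by positivity)
    have h7 : |F 0| ≤ |F 0| * ((t : ℤ) + 1) ^ (d + 1) := le_mul_of_one_le_right (abs_nonneg _) h5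
    have h8 : C * ((t : ℤ) * ((t : ℤ) + 1) ^ d) ≤ C * ((t : ℤ) + 1) ^ (d + 1) :=
      mul_le_mul_of_nonneg_left h6 hC0
    rw [add_mul, mul_assoc]
    exact add_le_add h7 h8

theorem tendsto_factorial_mul_choose_div (k : ℕ) :
    Tendsto (fun n : ℕ => (k.factorial : ℝ) * (n.choose k : ℝ) / (n : ℝ) ^ k) atTop (𝓝 1) := by
  have h := isEquivalent_choose k
  have hz : ∀ᶠ n : ℕ in atTop, ((n : ℝ) ^ k / (k.factorial : ℝ)) ≠ 0 := by
    filter_upwards [eventually_ge_atTop 1] with n hn
    have : (0 : ℝ) < n := by exact_mod_cast hn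
    positivity
  rw [Asymptotics.isEquivalent_iff_tendsto_one hz] at h
  refine h.congr (fun n => ?_)
  simp only [Pi.div_apply]
  have : (k.factorial : ℝ) ≠ 0 := by positivity
  field_simp

/-- If the `d`-th difference of `F` is eventually the constant `c`, then `d! F(t) / t^d → c`. -/
theorem tendsto_of_nabla_eventually_const (d : ℕ) (F : ℤ → ℤ) (c : ℤ) (i₀ : ℤ)
    (h : ∀ i ≥ i₀, nabla^[d] F i = c) :
    Tendsto (fun t : ℕ => (d.factorial : ℝ) * (F t : ℝ) / (t : ℝ) ^ d) atTop (𝓝 (c : ℝ)) := by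
  rcases d with _ | e
  · refine tendsto_const_nhds.congr' ?_
    filter_upwards [eventually_ge_atTop i₀.toNat] with t ht
    have := h (t : ℤ) (by omega)
    rw [Function.iterate_zero, id] at this
    simp [this]
  · set G : ℤ → ℤ := fun j => F j - c * binZ (e + 1) j with hG
    have hG0 : ∀ i ≥ max i₀ ((e + 1 : ℕ) : ℤ), nabla^[e + 1] G i = 0 := by
      intro i hi
      rw [hG, nabla_iterate_sub_mul, h i (le_trans (le_max_left _ _) hi),
        nabla_iterate_binZ_self (e + 1) i (le_trans (le_max_right _ _) hi)]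
      ring
    obtain ⟨C, hC0, hC⟩ := exists_bound_of_nabla_eq_zero e G _ hG0
    have hF : ∀ t : ℕ, (F t : ℝ) = (G t : ℝ) + c * ((t.choose (e + 1) : ℕ) : ℝ) := by
      intro t
      rw [hG]
      simp only [binZ, Int.toNat_natCast]
      push_cast
      ring
    have e1 : ∀ t : ℕ, ((e + 1).factorial : ℝ) * (F t : ℝ) / (t : ℝ) ^ (e + 1) =
        ((e + 1).factorial : ℝ) * (G t : ℝ) / (t : ℝ) ^ (e + 1) +
          c * (((e + 1).factorial : ℝ) * (t.choose (e + 1) : ℝ) / (t : ℝ) ^ (e + 1)) := by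
      intro t
      rw [hF]
      ring
    have l2 := (tendsto_factorial_mul_choose_div (e + 1)).const_mul (c : ℝ)
    rw [mul_one] at l2
    have l1 : Tendsto (fun t : ℕ => ((e + 1).factorial : ℝ) * (G t : ℝ) / (t : ℝ) ^ (e + 1))
        atTop (𝓝 0) := by
      have l3 : Tendsto (fun t : ℕ => (((e + 1).factorial : ℝ) * C * 2 ^ e) / (t : ℝ)) atTop
          (𝓝 0) := tendsto_const_div_atTop_nhds_zero_nat _
      refine squeeze_zero_norm' ?_ l3
      filter_upwards [eventually_ge_atTop 1] with t ht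
      have ht' : (1 : ℝ) ≤ t := by exact_mod_cast ht
      have hpos : (0 : ℝ) < t := by linarith
      have hb : |(G t : ℝ)| ≤ (C : ℝ) * ((t : ℝ) + 1) ^ e := by
        have := hC t
        have h' : ((|G t| : ℤ) : ℝ) ≤ ((C * ((t : ℤ) + 1) ^ e : ℤ) : ℝ) := by exact_mod_cast this
        push_cast at h'
        exact h'
      have hb2 : ((t : ℝ) + 1) ^ e ≤ (2 * (t : ℝ)) ^ e :=
        pow_le_pow_left₀ (by positivity) (by linarith) e
      rw [Real.norm_eq_abs, abs_div, abs_mul, abs_of_nonneg (by positivity : (0 : ℝ) ≤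
        ((e + 1).factorial : ℝ)), abs_of_nonneg (by positivity : (0 : ℝ) ≤ (t : ℝ) ^ (e + 1)),
        div_le_div_iff₀ (by positivity) hpos]
      have hC0' : (0 : ℝ) ≤ C := by exact_mod_cast hC0
      calc ((e + 1).factorial : ℝ) * |(G t : ℝ)| * t
          ≤ ((e + 1).factorial : ℝ) * ((C : ℝ) * (2 * (t : ℝ)) ^ e) * t := by
            apply mul_le_mul_of_nonneg_right _ hpos.le
            apply mul_le_mul_of_nonneg_left _ (by positivity)
            exact hb.trans (mul_le_mul_of_nonneg_left hb2 hC0')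
        _ = ((e + 1).factorial : ℝ) * C * 2 ^ e * (t : ℝ) ^ (e + 1) := by
            rw [mul_pow, pow_succ]
            ring
    have := l1.add l2
    rw [zero_add] at this
    exact this.congr (fun t => (e1 t).symm)

end Groth.Agent.Helper8.KoszulLib
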