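import Mathlib
import Groth.Agent.Lib.Helper8.KS5

/-!
# Functions with eventually constant iterated differences are eventually polynomial
-/

namespace Groth.Agent.Helper8.KoszulLib

open Polynomial

/-- The backward difference of a polynomial. -/
noncomputable def pdiff (P : ℚ[X]) : ℚ[X] := P - P.comp (X - 1)

theorem eval_pdiff (P : ℚ[X]) (x : ℚ) : (pdiff P).eval x = P.eval x - P.eval (x - 1) := by
  simp [pdiff, eval_comp]

theorem pdiff_add (P Q : ℚ[X]) : pdiff (P + Q) = pdiff P + pdiff Q := by
  simp only [pdiff, add_comp]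
  ring

theorem pdiff_smul (a : ℚ) (P : ℚ[X]) : pdiff (a • P) = a • pdiff P := by
  simp only [pdiff, smul_comp, smul_sub]

theorem pdiff_ascPochhammer (n : ℕ) :
    pdiff (ascPochhammer ℚ (n + 1)) = ((n : ℚ) + 1) • ascPochhammer ℚ n := by
  unfold pdiff
  have h1 : (ascPochhammer ℚ (n + 1)).comp (X - 1) = (X - 1) * ascPochhammer ℚ n := by
    rw [ascPochhammer_succ_left, mul_comp, X_comp, comp_assoc]
    have : (X + 1 : ℚ[X]).comp (X - 1) = X := by simp
    rw [this, comp_X]
  rw [h1, ascPochhammer_succ_right]
  rw [Algebra.smul_def]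
  simp only [map_add, map_natCast, map_one]
  ring

/-- Every rational polynomial has a discrete antiderivative. -/
theorem exists_pdiff_eq (Q : ℚ[X]) : ∃ P : ℚ[X], pdiff P = Q ∧ P.natDegree ≤ Q.natDegree + 1 := by
  induction' h : Q.natDegree using Nat.strong_induction_on with n ih generalizing Q
  by_cases hQ : Q = 0
  · exact ⟨0, by simp [pdiff, hQ], by simp⟩
  · set a := Q.leadingCoeff with ha
    set Q' := Q - a • ascPochhammer ℚ n with hQ'
    have hmonic : (ascPochhammer ℚ n).Monic := monic_ascPochhammer ℚ n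
    have hdeg : (ascPochhammer ℚ n).natDegree = n := ascPochhammer_natDegree (S := ℚ) n
    have hstep : pdiff ((a / ((n : ℚ) + 1)) • ascPochhammer ℚ (n + 1)) =
        a • ascPochhammer ℚ n := by
      rw [pdiff_smul, pdiff_ascPochhammer, smul_smul]
      congr 1
      have : (n : ℚ) + 1 ≠ 0 := by positivity
      field_simp
    have hdegP : ((a / ((n : ℚ) + 1)) • ascPochhammer ℚ (n + 1)).natDegree ≤ n + 1 :=
      (natDegree_smul_le _ _).trans (le_of_eq (ascPochhammer_natDegree (S := ℚ) (n + 1)))
    by_cases hn : n = 0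
    · -- `Q` is a nonzero constant
      have hQc : Q = C a := by
        rw [ha]
        have := eq_C_of_natDegree_eq_zero (h.trans hn)
        rw [this]
        simp
      refine ⟨(a / ((n : ℚ) + 1)) • ascPochhammer ℚ (n + 1), ?_, hdegP⟩
      rw [hstep, hn, ascPochhammer_zero, hQc]
      simp [Algebra.smul_def]
    · have hlt : Q'.natDegree < n := by
        have hd1 : (a • ascPochhammer ℚ n).degree = Q.degree := by
          rw [degree_smul_of_smul_regular]
          · rw [degree_eq_natDegree hmonic.ne_zero, degree_eq_natDegree hQ, hdeg, h]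
          · exact (isUnit_iff_ne_zero.mpr (leadingCoeff_ne_zero.mpr hQ)).isSMulRegular _
        have hl : (a • ascPochhammer ℚ n).leadingCoeff = Q.leadingCoeff := by
          rw [leadingCoeff_smul_of_smul_regular]
          · rw [hmonic.leadingCoeff]; simp [ha]
          · exact (isUnit_iff_ne_zero.mpr (leadingCoeff_ne_zero.mpr hQ)).isSMulRegular _
        have := degree_sub_lt_left hd1.symm hQ hl.symm
        by_cases hQ'0 : Q' = 0
        · rw [hQ'0]; simp; omega
        · rw [← h]
          exact (natDegree_lt_natDegree_iff hQ'0).mpr this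
      obtain ⟨P', hP', hP'd⟩ := ih Q'.natDegree hlt Q' rfl
      refine ⟨P' + (a / ((n : ℚ) + 1)) • ascPochhammer ℚ (n + 1), ?_, ?_⟩
      · rw [pdiff_add, hP', hstep, hQ']
        ring
      · refine (natDegree_add_le _ _).trans (max_le ?_ hdegP)
        omega

/-- A function whose `k`-th difference is eventually constant is eventually a polynomial of
degree at most `k`. -/
theorem exists_polynomial_of_nabla_eventually_const : ∀ (k : ℕ) (F : ℤ → ℤ) (c : ℤ) (i₀ : ℤ),
    (∀ i ≥ i₀, nabla^[k] F i = c) →
    ∃ P : ℚ[X], P.natDegree ≤ k ∧ ∀ i ≥ i₀, (F i : ℚ) = P.eval (i : ℚ) := by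
  intro k
  induction k with
  | zero =>
    intro F c i₀ h
    refine ⟨C (c : ℚ), by simp, fun i hi => ?_⟩
    have := h i hi
    rw [Function.iterate_zero, id] at this
    simp [this]
  | succ k ih =>
    intro F c i₀ h
    obtain ⟨Q, hQd, hQ⟩ := ih (nabla F) c i₀ (fun i hi => by
      rw [← Function.iterate_succ_apply]
      exact h i hi)
    obtain ⟨P₀, hP₀, hP₀d⟩ := exists_pdiff_eq Q
    set G : ℤ → ℚ := fun i => (F i : ℚ) - P₀.eval (i : ℚ) with hG
    have hstep : ∀ i ≥ i₀, G i = G (i - 1) := by
      intro i hi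
      have h1 := hQ i hi
      rw [nabla_apply] at h1
      have h2 := eval_pdiff P₀ (i : ℚ)
      rw [hP₀] at h2
      simp only [hG]
      push_cast at h1 ⊢
      linarith
    have hconst : ∀ t : ℕ, G (i₀ + t) = G i₀ := by
      intro t
      induction t with
      | zero => simp
      | succ t iht =>
        have := hstep (i₀ + (t + 1 : ℕ)) (by omega)
        rw [this, ← iht]
        congr 1
        push_cast
        ring
    refine ⟨P₀ + C (G i₀), ?_, fun i hi => ?_⟩
    · refine (natDegree_add_le _ _).trans (max_le (hP₀d.trans (by omega)) (by simp))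
    · obtain ⟨t, rfl⟩ : ∃ t : ℕ, i = i₀ + t := ⟨(i - i₀).toNat, by omega⟩
      have := hconst t
      simp only [hG] at this
      rw [eval_add, eval_C]
      push_cast at this ⊢
      linarith

end Groth.Agent.Helper8.KoszulLib
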