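import Mathlib

/-!
# The degree of a polynomial from the growth of its values on the naturals
-/

namespace Groth.Agent.Helper8.KoszulLib

open Polynomial Filter

theorem natDegree_le_of_abs_eval_le (P : ℚ[X]) (C : ℚ) (d N : ℕ)
    (h : ∀ n : ℕ, N ≤ n → |P.eval (n : ℚ)| ≤ C * (n : ℚ) ^ d) : P.natDegree ≤ d := by
  by_contra hlt
  push Not at hlt
  have hP : P ≠ 0 := by
    rintro rfl
    simp at hlt
  have hdeg : (X ^ d : ℚ[X]).degree < P.degree := by
    rw [degree_X_pow, degree_eq_natDegree hP]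
    exact_mod_cast hlt
  have ht := abs_div_tendsto_atTop_atTop_of_degree_gt P (X ^ d) hdeg (pow_ne_zero _ X_ne_zero)
  have ht' := ht.comp (tendsto_natCast_atTop_atTop (R := ℚ))
  have h1 : ∀ᶠ n : ℕ in atTop, |eval (n : ℚ) P / eval (n : ℚ) (X ^ d)| ≤ C := by
    filter_upwards [eventually_ge_atTop (max N 1)] with n hn
    have hn1 : N ≤ n := le_trans (le_max_left _ _) hn
    have hn2 : 1 ≤ n := le_trans (le_max_right _ _) hn
    have hpos : (0 : ℚ) < (n : ℚ) ^ d := by
      have : (0 : ℚ) < n := by exact_mod_cast hn2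
      positivity
    simp only [eval_pow, eval_X]
    rw [abs_div, abs_of_pos hpos, div_le_iff₀ hpos]
    exact h n hn1
  have h2 := ht'.eventually_gt_atTop C
  obtain ⟨n, hn1, hn2⟩ := (h1.and h2).exists
  exact absurd hn1 (not_le.mpr hn2)

theorem le_natDegree_of_le_eval (P : ℚ[X]) (c : ℚ) (hc : 0 < c) (d k N : ℕ) (hk : 0 < k)
    (h : ∀ n : ℕ, N ≤ n → c * (n : ℚ) ^ d ≤ P.eval ((k * n : ℕ) : ℚ)) : d ≤ P.natDegree := by
  by_contra hlt
  push Not at hlt
  have hdeg : P.degree < (X ^ d : ℚ[X]).degree := by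
    rw [degree_X_pow]
    exact lt_of_le_of_lt degree_le_natDegree (by exact_mod_cast hlt)
  have ht := div_tendsto_atTop_zero_of_degree_lt P (X ^ d) hdeg
  have hcast : Tendsto (fun n : ℕ => ((k * n : ℕ) : ℚ)) atTop atTop :=
    (tendsto_natCast_atTop_atTop (R := ℚ)).comp
      (tendsto_atTop_mono (fun n => Nat.le_mul_of_pos_left n hk) tendsto_id)
  have ht' := ht.comp hcast
  have hpos : (0 : ℚ) < c / (k : ℚ) ^ d := by
    have : (0 : ℚ) < k := by exact_mod_cast hk
    positivity
  have h1 := (tendsto_order.mp ht').2 _ hpos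
  have h2 : ∀ᶠ n : ℕ in atTop, c / (k : ℚ) ^ d ≤
      ((fun x => eval x P / eval x (X ^ d)) ∘ fun n : ℕ => ((k * n : ℕ) : ℚ)) n := by
    filter_upwards [eventually_ge_atTop (max N 1)] with n hn
    have hn1 : N ≤ n := le_trans (le_max_left _ _) hn
    have hn2 : 1 ≤ n := le_trans (le_max_right _ _) hn
    have hkq : (0 : ℚ) < k := by exact_mod_cast hk
    have hnq : (0 : ℚ) < n := by exact_mod_cast hn2
    simp only [Function.comp, eval_pow, eval_X]
    push_cast
    rw [div_le_div_iff₀ (by positivity) (by positivity), mul_pow]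
    have := h n hn1
    push_cast at this
    nlinarith [this, pow_pos hkq d]
  obtain ⟨n, hn1, hn2⟩ := (h1.and h2).exists
  exact absurd hn2 (not_le.mpr hn1)

end Groth.Agent.Helper8.KoszulLib
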