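import Mathlib
import Groth.Agent.Lib.Helper8.KS3

/-!
# Serre's theorem, part 4: the Koszul Euler characteristic is an iterated difference of the
Samuel function
-/

namespace Groth.Agent.Helper8.KoszulLib

open CategoryTheory CategoryTheory.Limits CochainComplex CohIII
open scoped Pointwise

universe u

variable {A : Type u} [CommRing A]

theorem dE'_eq_zero (K : CochainComplex (ModuleCat.{u} A) ℤ) (i j : ℤ) (h : i + 1 ≠ j) :
    dE' K i j = 0 := by
  unfold dE'
  rw [K.shape i j h]
  rfl

/-- The adic filtration is a subcomplex. -/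
theorem koszul_filtration_le (M : ModuleCat.{u} A) (l : List A) (i : ℤ) (m j : ℤ) :
    (Ideal.ofList l ^ (i + m).toNat • (⊤ : Submodule A ((koszulCx M l).X m))) ≤
      (Ideal.ofList l ^ (i + j).toNat • (⊤ : Submodule A ((koszulCx M l).X j))).comap
        (dE' (koszulCx M l) m j) := by
  by_cases h : m + 1 = j
  · subst h
    rw [← Submodule.map_le_iff_le_comap, Submodule.map_smul'']
    have h1 : Submodule.map (dE' (koszulCx M l) m (m + 1)) ⊤ ≤
        Ideal.ofList l • (⊤ : Submodule A ((koszulCx M l).X (m + 1))) := by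
      rintro _ ⟨z, -, rfl⟩
      exact dE_koszulCx_mem M l m z
    refine (Submodule.smul_mono le_rfl h1).trans ?_
    rw [← mul_smul, ← pow_succ]
    exact Submodule.smul_mono (Ideal.pow_le_pow_right (by omega)) le_rfl
  · rw [dE'_eq_zero _ _ _ h]
    intro z _
    simp

section noeth

variable [IsNoetherianRing A]

/-- **Serre**: for `i` large the Koszul Euler characteristic is the alternating sum of the
lengths of `K^n / q^{i+n} K^n`. -/
theorem exists_chi_eq_SS (M : Type u) [AddCommGroup M] [Module A M] [Module.Finite A M]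
    (l : List A)
    (hq : ∀ a : ℕ, Module.length A (M ⧸ Ideal.ofList l ^ a • (⊤ : Submodule A M)) ≠ ⊤) :
    ∃ i₀ : ℤ, ∀ i ≥ i₀, KFL l M ∧ chi l M = SS (ModuleCat.of A M) l (Ideal.ofList l) i := by
  set K := koszulCx (ModuleCat.of A M) l with hK
  set q := Ideal.ofList l with hq'
  have hfinM : Module.Finite A (ModuleCat.of A M) := ‹_›
  choose c hc using fun n => exists_boundary_of_cycle (ModuleCat.of A M) l n
  set c₀ := Finset.sup (Finset.Icc (-(l.length : ℤ) - 1) (-1)) c with hc₀
  refine ⟨c₀ + l.length + 1, fun i hi => ?_⟩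
  set N : ∀ n, Submodule A (K.X n) := fun n => q ^ (i + n).toNat • ⊤ with hN
  have hN' : ∀ m j : ℤ, N m ≤ (N j).comap (dE' K m j) := fun m j =>
    koszul_filtration_le (ModuleCat.of A M) l i m j
  have hacyc : ∀ (m j k : ℤ), m + 1 = j → j + 1 = k →
      ∀ z ∈ N j, dE' K j k z = 0 → ∃ w ∈ N m, dE' K m j w = z := by
    intro m j k hmj hjk z hz hdz
    subst hmj
    subst hjk
    by_cases hm : -(l.length : ℤ) - 1 ≤ m ∧ m ≤ -1
    · have hcm : c m ≤ c₀ := Finset.le_sup (f := c) (Finset.mem_Icc.mpr hm)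
      have h1 : (c m : ℤ) ≤ i + m := by
        have : (c m : ℤ) ≤ c₀ := by exact_mod_cast hcm
        omega
      have h2 : c m ≤ (i + m).toNat := by omega
      have h3 : (i + (m + 1)).toNat = (i + m).toNat + 1 := by omega
      have hz' : z ∈ q ^ ((i + m).toNat + 1) • (⊤ : Submodule A (K.X (m + 1))) := by
        rw [← h3]
        exact hz
      exact hc m _ h2 z hz' hdz
    · have : Subsingleton (K.X (m + 1)) :=
        subsingleton_koszulCx_X (ModuleCat.of A M) l (m + 1) (by omega)
      exact ⟨0, Submodule.zero_mem _, by rw [map_zero]; exact Subsingleton.elim _ _⟩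
  have hfl : ∀ n, IsFiniteLength A (K.X n ⧸ N n) := fun n =>
    Module.length_ne_top_iff.mp (LL_ne_top (ModuleCat.of A M) _ (hq _) l n)
  have hbd : ∀ n, n < -(l.length : ℤ) ∨ 0 < n → Subsingleton (K.X n) := fun n hn =>
    subsingleton_koszulCx_X (ModuleCat.of A M) l n hn
  obtain ⟨h1, h2⟩ := chiC_eq_of_acyclic K N hN' hacyc hfl (-(l.length : ℤ)) 0 hbd
  exact ⟨h1, h2⟩

end noeth

end Groth.Agent.Helper8.KoszulLib
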