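import Mathlib
import Groth.Agent.Lib.Helper8.KS4
import Groth.Agent.Lib.Helper8.KS5

/-!
# Serre's theorem, part 6: the Samuel multiplicity is the Koszul Euler characteristic
-/

namespace Groth.Agent.Helper8.KoszulLib

open CategoryTheory CategoryTheory.Limits CochainComplex CohIII Filter Topology
open scoped Pointwise

universe u

variable {A : Type u} [CommRing A]

/-- The Samuel function, on the integers. -/
noncomputable def samuelZ (M : Type u) [AddCommGroup M] [Module A M] (q : Ideal A) (j : ℤ) : ℤ :=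
  ((Module.length A (M ⧸ q ^ j.toNat • (⊤ : Submodule A M))).toNat : ℤ)

theorem SS_eq_nabla (M : Type u) [AddCommGroup M] [Module A M] (q : Ideal A)
    (hq : ∀ a : ℕ, Module.length A (M ⧸ q ^ a • (⊤ : Submodule A M)) ≠ ⊤) :
    ∀ (l : List A) (i : ℤ),
      SS (ModuleCat.of A M) l q i = nabla^[l.length] (samuelZ M q) i
  | [], i => by
    rw [SS_nil]
    rfl
  | x :: l, i => by
    rw [SS_cons (ModuleCat.of A M) x l q hq, List.length_cons, Function.iterate_succ_apply',
      nabla_apply, SS_eq_nabla M q hq l i, SS_eq_nabla M q hq l (i - 1)]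

section noeth

variable [IsNoetherianRing A]

/-- **Serre's theorem**, list form. -/
theorem tendsto_samuel_list (M : Type u) [AddCommGroup M] [Module A M] [Module.Finite A M]
    (l : List A)
    (hq : ∀ a : ℕ, Module.length A (M ⧸ Ideal.ofList l ^ a • (⊤ : Submodule A M)) ≠ ⊤) :
    Tendsto (fun t : ℕ => (l.length.factorial : ℝ) *
      ((Module.length A (M ⧸ Ideal.ofList l ^ t • (⊤ : Submodule A M))).toNat : ℝ) /
        (t : ℝ) ^ l.length) atTop (𝓝 ((chi l M : ℤ) : ℝ)) := by
  obtain ⟨i₀, hi₀⟩ := exists_chi_eq_SS M l hq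
  have h : ∀ i ≥ i₀, nabla^[l.length] (samuelZ M (Ideal.ofList l)) i = chi l M := by
    intro i hi
    rw [← SS_eq_nabla M _ hq l i]
    exact ((hi₀ i hi).2).symm
  have := tendsto_of_nabla_eventually_const l.length (samuelZ M (Ideal.ofList l)) (chi l M) i₀ h
  refine this.congr (fun t => ?_)
  unfold samuelZ
  rw [Int.toNat_natCast]
  push_cast
  rfl

variable [IsLocalRing A]

theorem length_quotient_pow_ne_top (M : Type u) [AddCommGroup M] [Module A M]
    [Module.Finite A M] (q : Ideal A)
    (hfl : IsFiniteLength A (M ⧸ q • (⊤ : Submodule A M))) (a : ℕ) :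
    Module.length A (M ⧸ q ^ a • (⊤ : Submodule A M)) ≠ ⊤ := by
  rw [Module.length_ne_top_iff]
  have hann : q ^ a ≤ Module.annihilator A (M ⧸ q ^ a • (⊤ : Submodule A M)) := by
    intro r hr
    rw [Module.mem_annihilator]
    intro m
    obtain ⟨m, rfl⟩ := Submodule.Quotient.mk_surjective _ m
    rw [← Submodule.Quotient.mk_smul, Submodule.Quotient.mk_eq_zero]
    exact Submodule.smul_mem_smul hr trivial
  refine isFiniteLength_of_le_radical M q hfl _ ?_ ?_
  · intro r hr
    exact ⟨a, hann (Ideal.pow_mem_pow hr a)⟩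
  · intro r hr
    rw [Module.mem_annihilator] at hr ⊢
    intro m
    obtain ⟨m, rfl⟩ := Submodule.Quotient.mk_surjective _ m
    rw [← Submodule.Quotient.mk_smul, hr m]
    rfl

/-- **Serre's theorem**: `d! ℓ(M/qᵗM)/t^d → χ(x; M)`. -/
theorem tendsto_samuel_eq_koszulEuler (d : ℕ) (x : Fin d → A)
    (M : Type u) [AddCommGroup M] [Module A M] [Module.Finite A M]
    (hfl : IsFiniteLength A (M ⧸ (Ideal.span (Set.range x) • (⊤ : Submodule A M)))) :
    Tendsto (fun n : ℕ => (d.factorial : ℝ) *
        ((Module.length A (M ⧸ (Ideal.span (Set.range x) ^ n •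
          (⊤ : Submodule A M)))).toNat : ℝ) / (n : ℝ) ^ d)
      atTop (𝓝 ((∑ᶠ i : ℤ, ((i.negOnePow : ℤˣ) : ℤ) * ((Module.length A ((DRing.tensorCx
        (Koszul.koszul A (List.ofFn x)) (ModuleCat.of A M)).homology i)).toNat : ℤ) : ℤ) : ℝ)) := by
  rw [finsum_tensor_eq_chi]
  have h := tendsto_samuel_list M (List.ofFn x) (by
    rw [ofList_ofFn]
    exact length_quotient_pow_ne_top M _ hfl)
  rw [ofList_ofFn, List.length_ofFn] at h
  exact h

theorem isFiniteLength_quotient_of_pow_le (M : Type u) [AddCommGroup M] [Module A M]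
    [Module.Finite A M] (q : Ideal A) (n : ℕ) (h : IsLocalRing.maximalIdeal A ^ n ≤ q) :
    IsFiniteLength A (M ⧸ q • (⊤ : Submodule A M)) :=
  Groth.Agent.Helper8.LD.isFiniteLength_of_pow_smul_eq_zero _ n (fun a ha m => by
    obtain ⟨m, rfl⟩ := Submodule.Quotient.mk_surjective _ m
    rw [← Submodule.Quotient.mk_smul, Submodule.Quotient.mk_eq_zero]
    exact Submodule.smul_mem_smul (h ha) trivial)

/-- **Serre's theorem**, with the Euler characteristic computed in the reals. -/
theorem tendsto_samuel_eq_koszulEuler_real (d : ℕ) (x : Fin d → A)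
    (M : Type u) [AddCommGroup M] [Module A M] [Module.Finite A M]
    (hfl : IsFiniteLength A (M ⧸ (Ideal.span (Set.range x) • (⊤ : Submodule A M)))) :
    Tendsto (fun n : ℕ => (d.factorial : ℝ) *
        ((Module.length A (M ⧸ (Ideal.span (Set.range x) ^ n •
          (⊤ : Submodule A M)))).toNat : ℝ) / (n : ℝ) ^ d)
      atTop (𝓝 (∑ᶠ i : ℤ, (((i.negOnePow : ℤˣ) : ℤ) : ℝ) * (((Module.length A ((DRing.tensorCx
        (Koszul.koszul A (List.ofFn x)) (ModuleCat.of A M)).homology i)).toNat : ℤ) : ℝ))) := by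
  have h := tendsto_samuel_eq_koszulEuler d x M hfl
  have e := (Int.castAddHom ℝ).map_finsum_of_injective Int.cast_injective
    (fun i : ℤ => ((i.negOnePow : ℤˣ) : ℤ) * ((Module.length A ((DRing.tensorCx
        (Koszul.koszul A (List.ofFn x)) (ModuleCat.of A M)).homology i)).toNat : ℤ))
  simp only [Int.coe_castAddHom, Int.cast_mul] at e
  rw [← e]
  exact h

end noeth

end Groth.Agent.Helper8.KoszulLib
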