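import Mathlib
import Groth.Agent.Lib.Helper8.KS6
import Groth.Agent.Lib.Helper8.KH1
import Groth.Agent.Lib.Helper8.KH2

/-!
# Existence of the Hilbert–Samuel polynomial (via Serre's theorem on Koszul complexes)
-/

namespace Groth.Agent.Helper8.KoszulLib

open CategoryTheory CategoryTheory.Limits CochainComplex CohIII Filter Topology Polynomial
open scoped Pointwise

universe u

variable {A : Type u} [CommRing A]

theorem ofList_toList (s : Finset A) : Ideal.ofList s.toList = Ideal.span (s : Set A) := by
  unfold Ideal.ofList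
  congr 1
  ext a
  simp

section noeth

variable [IsNoetherianRing A]

/-- The Samuel function of a finite module with respect to an ideal, all of whose values are
finite, is eventually a polynomial. -/
theorem exists_samuel_polynomial (M : Type u) [AddCommGroup M] [Module A M] [Module.Finite A M]
    (I : Ideal A)
    (hq : ∀ t : ℕ, Module.length A (M ⧸ I ^ t • (⊤ : Submodule A M)) ≠ ⊤) :
    ∃ P : ℚ[X], ∃ N : ℕ, ∀ n : ℕ, N ≤ n →
      ((Module.length A (M ⧸ I ^ n • (⊤ : Submodule A M))).toNat : ℚ) = P.eval (n : ℚ) := by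
  obtain ⟨s, hs⟩ := (IsNoetherian.noetherian I : I.FG)
  have hl : Ideal.ofList s.toList = I := by rw [ofList_toList]; exact hs
  rw [← hl] at hq
  obtain ⟨i₀, hi₀⟩ := exists_chi_eq_SS M s.toList hq
  have h : ∀ i ≥ i₀, nabla^[s.toList.length] (samuelZ M (Ideal.ofList s.toList)) i =
      chi s.toList M := by
    intro i hi
    rw [← SS_eq_nabla M _ hq s.toList i]
    exact ((hi₀ i hi).2).symm
  obtain ⟨P, -, hP⟩ := exists_polynomial_of_nabla_eventually_const _ _ _ i₀ h
  refine ⟨P, i₀.toNat, fun n hn => ?_⟩
  have := hP (n : ℤ) (by omega)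
  rw [← hl]
  unfold samuelZ at this
  rw [Int.toNat_natCast] at this
  exact_mod_cast this

end noeth

end Groth.Agent.Helper8.KoszulLib
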