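import Mathlib
import Groth.Agent.Lib.Helper8.KG3
import Groth.Agent.Lib.Helper8.KH3

/-!
# The Hilbert–Samuel polynomial of a semi-local ring: degree equals dimension
-/

namespace Groth.Agent.Helper8.KoszulLib

open CategoryTheory CategoryTheory.Limits CochainComplex CohIII Filter Topology Polynomial
open scoped Pointwise

universe u

variable {A : Type u} [CommRing A]

theorem length_quotient_smul_le_of_le {M : Type*} [AddCommGroup M] [Module A M]
    {N₁ N₂ : Submodule A M} (h : N₁ ≤ N₂) :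
    Module.length A (M ⧸ N₂) ≤ Module.length A (M ⧸ N₁) :=
  Module.length_le_of_surjective (Submodule.factor h) (Submodule.factor_surjective h)

theorem pow_mul_smul_top_le {M : Type*} [AddCommGroup M] [Module A M] (r q : Ideal A) (k : ℕ)
    (h : r ^ k • (⊤ : Submodule A M) ≤ q • (⊤ : Submodule A M)) (t : ℕ) :
    r ^ (k * t) • (⊤ : Submodule A M) ≤ q ^ t • (⊤ : Submodule A M) := by
  induction t with
  | zero => simp
  | succ t ih =>
    have e1 : r ^ (k * (t + 1)) = r ^ (k * t) * r ^ k := by rw [← pow_add]; congr 1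
    rw [e1, Submodule.mul_smul, pow_succ', Submodule.mul_smul]
    calc r ^ (k * t) • r ^ k • (⊤ : Submodule A M)
        ≤ r ^ (k * t) • q • (⊤ : Submodule A M) := Submodule.smul_mono le_rfl h
      _ = q • r ^ (k * t) • (⊤ : Submodule A M) := by
          rw [← Submodule.mul_smul, mul_comm, Submodule.mul_smul]
      _ ≤ q • q ^ t • (⊤ : Submodule A M) := Submodule.smul_mono le_rfl ih

section noeth

variable [IsNoetherianRing A]

/-- A module of finite length is killed by a power of the Jacobson radical. -/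
theorem exists_jacobson_pow_smul_le (M : Type u) [AddCommGroup M] [Module A M]
    [Module.Finite A M] (q : Ideal A)
    (hfl : IsFiniteLength A (M ⧸ q • (⊤ : Submodule A M))) :
    ∃ k : ℕ, Ring.jacobson A ^ k • (⊤ : Submodule A M) ≤ q • (⊤ : Submodule A M) := by
  have hrad : Ring.jacobson A ≤
      (Module.annihilator A (M ⧸ q • (⊤ : Submodule A M))).radical := by
    rw [Ideal.radical_eq_sInf]
    refine le_sInf ?_
    rintro p ⟨hp1, hp2⟩
    have hp' : (⟨p, hp2⟩ : PrimeSpectrum A) ∈
        Module.support A (M ⧸ q • (⊤ : Submodule A M)) :=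
      Module.mem_support_iff_of_finite.mpr hp1
    have hmax := isMaximal_of_mem_support_of_isFiniteLength hfl _ hp'
    rw [Ring.jacobson_eq_sInf_isMaximal]
    exact sInf_le hmax
  obtain ⟨k, hk⟩ := Ideal.exists_pow_le_of_le_radical_of_fg hrad
    (IsNoetherian.noetherian (Ring.jacobson A))
  refine ⟨k, ?_⟩
  rw [Submodule.smul_le]
  intro a ha m _
  have := Module.mem_annihilator.mp (hk ha) (Submodule.Quotient.mk m)
  rwa [← Submodule.Quotient.mk_smul, Submodule.Quotient.mk_eq_zero] at this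

/-- Growth of the Samuel function of an ideal generated by `d` elements: upper bound. -/
theorem exists_samuel_le (M : Type u) [AddCommGroup M] [Module A M] [Module.Finite A M]
    (l : List A) (hfl : IsFiniteLength A (M ⧸ Ideal.ofList l • (⊤ : Submodule A M))) :
    ∃ C : ℕ, ∀ n : ℕ, 1 ≤ n →
      (Module.length A (M ⧸ Ideal.ofList l ^ n • (⊤ : Submodule A M))).toNat ≤
        C * n ^ l.length := by
  have hq := Gen.length_quotient_pow_ne_top M _ hfl
  have ht := tendsto_samuel_list M l hq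
  have hev := ht.eventually (gt_mem_nhds (lt_add_one ((chi l M : ℤ) : ℝ)))
  obtain ⟨N, hN⟩ := eventually_atTop.mp hev
  set d := l.length with hd
  set H : ℕ → ℕ := fun n =>
    (Module.length A (M ⧸ Ideal.ofList l ^ n • (⊤ : Submodule A M))).toNat with hH
  set C₁ : ℕ := ⌈((chi l M : ℤ) : ℝ) + 1⌉₊ with hC₁
  set C₂ : ℕ := ∑ n ∈ Finset.range N, H n with hC₂
  refine ⟨C₁ + C₂, fun n hn => ?_⟩
  have hpos : 1 ≤ n ^ d := Nat.one_le_pow _ _ hn
  by_cases hnN : N ≤ n
  · have h1 := hN n hnN
    have hnpos : (0 : ℝ) < (n : ℝ) ^ d := by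
      have : (0 : ℝ) < n := by exact_mod_cast hn
      positivity
    have hfac : (1 : ℝ) ≤ (d.factorial : ℝ) := by
      exact_mod_cast Nat.succ_le_of_lt (Nat.factorial_pos d)
    rw [div_lt_iff₀ hnpos] at h1
    have h2 : ((H n : ℕ) : ℝ) ≤ (C₁ : ℝ) * (n : ℝ) ^ d := by
      have h3 : ((chi l M : ℤ) : ℝ) + 1 ≤ (C₁ : ℝ) := Nat.le_ceil _
      have h4 : (0 : ℝ) ≤ ((H n : ℕ) : ℝ) := by positivity
      nlinarith
    have h5 : H n ≤ C₁ * n ^ d := by exact_mod_cast h2
    exact h5.trans (Nat.mul_le_mul_right _ (Nat.le_add_right _ _))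
  · have h1 : H n ≤ C₂ :=
      Finset.single_le_sum (f := H) (fun _ _ => Nat.zero_le _) (Finset.mem_range.mpr (by omega))
    calc H n ≤ C₂ := h1
      _ ≤ C₂ * n ^ d := Nat.le_mul_of_pos_right _ hpos
      _ ≤ (C₁ + C₂) * n ^ d := Nat.mul_le_mul_right _ (Nat.le_add_left _ _)

/-- Growth of the Samuel function: lower bound when the Euler characteristic is positive. -/
theorem exists_le_samuel (M : Type u) [AddCommGroup M] [Module A M] [Module.Finite A M]
    (l : List A) (hfl : IsFiniteLength A (M ⧸ Ideal.ofList l • (⊤ : Submodule A M)))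
    (hpos : 0 < chi l M) :
    ∃ c : ℚ, 0 < c ∧ ∃ N : ℕ, ∀ n : ℕ, N ≤ n →
      c * (n : ℚ) ^ l.length ≤
        ((Module.length A (M ⧸ Ideal.ofList l ^ n • (⊤ : Submodule A M))).toNat : ℚ) := by
  have hq := Gen.length_quotient_pow_ne_top M _ hfl
  have ht := tendsto_samuel_list M l hq
  set d := l.length with hd
  have hchi : (0 : ℝ) < ((chi l M : ℤ) : ℝ) := by exact_mod_cast hpos
  have hev := ht.eventually (lt_mem_nhds (half_lt_self hchi))
  obtain ⟨N, hN⟩ := eventually_atTop.mp hev
  have hfac : (0 : ℚ) < (d.factorial : ℚ) := by exact_mod_cast Nat.factorial_pos d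
  refine ⟨(chi l M : ℚ) / 2 / (d.factorial : ℚ), by
    have : (0 : ℚ) < (chi l M : ℚ) := by exact_mod_cast hpos
    positivity, max N 1, fun n hn => ?_⟩
  have hn1 : N ≤ n := le_trans (le_max_left _ _) hn
  have hn2 : 1 ≤ n := le_trans (le_max_right _ _) hn
  have h1 := hN n hn1
  have hnpos : (0 : ℝ) < (n : ℝ) ^ d := by
    have : (0 : ℝ) < n := by exact_mod_cast hn2
    positivity
  rw [lt_div_iff₀ hnpos] at h1
  have hfacR : (0 : ℝ) < (d.factorial : ℝ) := by exact_mod_cast Nat.factorial_pos d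
  have h2 : ((chi l M : ℤ) : ℝ) / 2 / (d.factorial : ℝ) * (n : ℝ) ^ d ≤
      ((Module.length A (M ⧸ Ideal.ofList l ^ n • (⊤ : Submodule A M))).toNat : ℝ) := by
    rw [div_mul_eq_mul_div, div_le_iff₀ hfacR]
    linarith
  have h3 : (((chi l M : ℚ) / 2 / (d.factorial : ℚ) * (n : ℚ) ^ d : ℚ) : ℝ) ≤
      (((Module.length A (M ⧸ Ideal.ofList l ^ n • (⊤ : Submodule A M))).toNat : ℚ) : ℝ) := by
    push_cast
    exact h2
  exact_mod_cast h3

variable [Finite (MaximalSpectrum A)]

omit [IsNoetherianRing A] in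
theorem isMaximal_of_jacobson_le {p : Ideal A} (hpp : p.IsPrime) (h : Ring.jacobson A ≤ p) :
    p.IsMaximal := by
  classical
  have : Fintype (MaximalSpectrum A) := Fintype.ofFinite _
  have hjac : Ring.jacobson A = Finset.univ.inf (fun m : MaximalSpectrum A => m.asIdeal) := by
    rw [Ring.jacobson_eq_sInf_isMaximal]
    apply le_antisymm
    · refine Finset.le_inf fun m _ => sInf_le m.isMaximal
    · refine le_sInf fun I hI => ?_
      exact Finset.inf_le (f := fun m : MaximalSpectrum A => m.asIdeal)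
        (Finset.mem_univ (⟨I, hI⟩ : MaximalSpectrum A))
  rw [hjac] at h
  obtain ⟨m, -, hm⟩ := (Ideal.IsPrime.inf_le' hpp).mp h
  have := m.isMaximal.eq_of_le hpp.ne_top hm
  exact this ▸ m.isMaximal

theorem isFiniteLength_quotient_jacobson (M : Type u) [AddCommGroup M] [Module A M]
    [Module.Finite A M] :
    IsFiniteLength A (M ⧸ Ring.jacobson A • (⊤ : Submodule A M)) := by
  refine isFiniteLength_of_minimalPrimes_isMaximal _ (fun p hp => ?_)
  refine isMaximal_of_jacobson_le hp.1.1 (le_trans ?_ hp.1.2)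
  intro a ha
  rw [Module.mem_annihilator]
  intro m
  obtain ⟨m, rfl⟩ := Submodule.Quotient.mk_surjective _ m
  rw [← Submodule.Quotient.mk_smul, Submodule.Quotient.mk_eq_zero]
  exact Submodule.smul_mem_smul ha trivial

/-- **S3405.** The Hilbert–Samuel polynomial of a semi-local ring and its degree. -/
theorem exists_hilbertSamuel_polynomial (M : Type u) [AddCommGroup M] [Module A M]
    [Module.Finite A M] [Nontrivial M] :
    ∃ P : Polynomial ℚ,
      (∃ N : ℕ, ∀ n : ℕ, N ≤ n →
        ∃ ℓ : ℕ, Module.length A (M ⧸ (Ring.jacobson A ^ n • (⊤ : Submodule A M))) = ℓ ∧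
          (ℓ : ℚ) = P.eval (n : ℚ)) ∧
      (P.natDegree : WithBot ℕ∞) = Module.supportDim A M := by
  set r := Ring.jacobson A with hr
  have hq : ∀ t : ℕ, Module.length A (M ⧸ r ^ t • (⊤ : Submodule A M)) ≠ ⊤ :=
    Gen.length_quotient_pow_ne_top M r (isFiniteLength_quotient_jacobson M)
  obtain ⟨P, N₀, hP⟩ := exists_samuel_polynomial M r hq
  obtain ⟨d, hd⟩ := exists_supportDim_eq (A := A) M
  obtain ⟨l, hl, hlj, hfl⟩ := exists_parameters_of_supportDim_le d M hd.le
  have hqr : Ideal.ofList l ≤ r := Ideal.span_le.mpr (fun a ha => hlj a ha)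
  have hql := Gen.length_quotient_pow_ne_top M _ hfl
  refine ⟨P, ⟨N₀, fun n hn => ⟨_, (ENat.natCast_toNat (hq n)).symm, hP n hn⟩⟩, ?_⟩
  rw [hd]
  congr 1
  apply le_antisymm
  · -- upper bound
    obtain ⟨C, hC⟩ := exists_samuel_le M l hfl
    rw [hl] at hC
    refine natDegree_le_of_abs_eval_le P (C : ℚ) d (max N₀ 1) (fun n hn => ?_)
    have hn1 : N₀ ≤ n := le_trans (le_max_left _ _) hn
    have hn2 : 1 ≤ n := le_trans (le_max_right _ _) hn
    rw [← hP n hn1, abs_of_nonneg (by positivity)]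
    have h1 : (Module.length A (M ⧸ r ^ n • (⊤ : Submodule A M))).toNat ≤
        (Module.length A (M ⧸ Ideal.ofList l ^ n • (⊤ : Submodule A M))).toNat :=
      ENat.toNat_le_toNat (length_quotient_smul_le_of_le
        (Submodule.smul_mono (Ideal.pow_right_mono hqr n) le_rfl)) (hql n)
    exact_mod_cast h1.trans (hC n hn2)
  · -- lower bound
    have hchi : 0 < chi l M :=
      Gen.chi_pos_of_supportDim_eq l M hlj (Gen.kfl_of_quotient l M hfl) (by rw [hd, hl])
    obtain ⟨c, hc, N₁, hN₁⟩ := exists_le_samuel M l hfl hchi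
    rw [hl] at hN₁
    obtain ⟨k, hk⟩ := exists_jacobson_pow_smul_le M _ hfl
    have hk' : r ^ (k + 1) • (⊤ : Submodule A M) ≤ Ideal.ofList l • (⊤ : Submodule A M) :=
      (Submodule.smul_mono (Ideal.pow_le_pow_right (Nat.le_succ k)) le_rfl).trans hk
    refine le_natDegree_of_le_eval P c hc d (k + 1) (max N₀ N₁) (Nat.succ_pos k) (fun n hn => ?_)
    have hn1 : N₀ ≤ n := le_trans (le_max_left _ _) hn
    have hn2 : N₁ ≤ n := le_trans (le_max_right _ _) hn
    have hn3 : N₀ ≤ (k + 1) * n := hn1.trans (Nat.le_mul_of_pos_left n (Nat.succ_pos k))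
    rw [← hP _ hn3]
    refine (hN₁ n hn2).trans ?_
    have h1 : (Module.length A (M ⧸ Ideal.ofList l ^ n • (⊤ : Submodule A M))).toNat ≤
        (Module.length A (M ⧸ r ^ ((k + 1) * n) • (⊤ : Submodule A M))).toNat :=
      ENat.toNat_le_toNat (length_quotient_smul_le_of_le
        (pow_mul_smul_top_le r _ (k + 1) hk' n)) (hq _)
    exact_mod_cast h1

end noeth

end Groth.Agent.Helper8.KoszulLib
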