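import Mathlib
import Groth.Prelude
import Groth.Agent.Lib.Helper8.KG4

/-!
# Samuel multiplicities: additivity in short exact sequences
-/

set_option autoImplicit false

universe u

namespace Groth.Agent.Helper8.Mult

open IsLocalRing Filter Topology Groth.Agent.Helper8.KoszulLib

section alg

variable {A : Type u} [CommRing A] [IsNoetherianRing A] [IsLocalRing A] (I : Ideal A)

/-- `N / I N` has finite length when `I` contains a power of the maximal ideal. -/
theorem isFiniteLength_quotient (hI : ∃ n : ℕ, maximalIdeal A ^ n ≤ I) (N : Type u)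
    [AddCommGroup N] [Module A N] [Module.Finite A N] :
    IsFiniteLength A (N ⧸ I • (⊤ : Submodule A N)) := by
  obtain ⟨n, hn⟩ := hI
  refine isFiniteLength_of_minimalPrimes_isMaximal _ (fun p hp => ?_)
  have hpp : p.IsPrime := hp.1.1
  have hann : I ≤ Module.annihilator A (N ⧸ I • (⊤ : Submodule A N)) := by
    intro r hr
    rw [Module.mem_annihilator]
    intro m
    obtain ⟨m, rfl⟩ := Submodule.Quotient.mk_surjective _ m
    rw [← Submodule.Quotient.mk_smul, Submodule.Quotient.mk_eq_zero]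
    exact Submodule.smul_mem_smul hr trivial
  have h1 : maximalIdeal A ^ n ≤ p := hn.trans (hann.trans hp.1.2)
  have h2 : maximalIdeal A ≤ p := hpp.le_of_pow_le h1
  rw [← (maximalIdeal.isMaximal A).eq_of_le hpp.ne_top h2]
  exact maximalIdeal.isMaximal A

theorem length_ne_top (hI : ∃ n : ℕ, maximalIdeal A ^ n ≤ I) (N : Type u)
    [AddCommGroup N] [Module A N] [Module.Finite A N] (t : ℕ) :
    Module.length A (N ⧸ I ^ t • (⊤ : Submodule A N)) ≠ ⊤ :=
  Gen.length_quotient_pow_ne_top N I (isFiniteLength_quotient I hI N) t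

variable {M' M M'' : Type u} [AddCommGroup M'] [Module A M'] [AddCommGroup M] [Module A M]
  [AddCommGroup M''] [Module A M''] (f : M' →ₗ[A] M) (g : M →ₗ[A] M'')

omit [IsNoetherianRing A] [IsLocalRing A] in
/-- The length of `M / J M` in a short exact sequence. -/
theorem length_quotient_eq_add (_hf : Function.Injective f) (hg : Function.Surjective g)
    (hfg : LinearMap.range f = LinearMap.ker g) (J : Ideal A) :
    Module.length A (M ⧸ J • (⊤ : Submodule A M)) =
      Module.length A (M' ⧸ (J • (⊤ : Submodule A M)).comap f) +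
        Module.length A (M'' ⧸ J • (⊤ : Submodule A M'')) := by
  have hle : J • (⊤ : Submodule A M) ≤ (J • (⊤ : Submodule A M'')).comap g :=
    Submodule.smul_top_le_comap_smul_top J g
  have hmap : (J • (⊤ : Submodule A M)).map g = J • (⊤ : Submodule A M'') := by
    rw [Submodule.map_smul'', Submodule.map_top, LinearMap.range_eq_top.mpr hg]
  refine Module.length_eq_add_of_exact
    (Submodule.mapQ ((J • (⊤ : Submodule A M)).comap f) (J • (⊤ : Submodule A M)) f le_rfl)
    (Submodule.mapQ (J • (⊤ : Submodule A M)) (J • (⊤ : Submodule A M'')) g hle) ?_ ?_ ?_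
  · rw [← LinearMap.ker_eq_bot, LinearMap.ker_eq_bot']
    intro x hx
    obtain ⟨x, rfl⟩ := Submodule.Quotient.mk_surjective _ x
    rw [Submodule.mapQ_apply, Submodule.Quotient.mk_eq_zero] at hx
    rw [Submodule.Quotient.mk_eq_zero]
    exact hx
  · intro y
    obtain ⟨y, rfl⟩ := Submodule.Quotient.mk_surjective _ y
    obtain ⟨m, rfl⟩ := hg y
    exact ⟨Submodule.Quotient.mk m, by rw [Submodule.mapQ_apply]⟩
  · intro y
    obtain ⟨m, rfl⟩ := Submodule.Quotient.mk_surjective _ y
    constructor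
    · intro hy
      rw [Submodule.mapQ_apply, Submodule.Quotient.mk_eq_zero, ← hmap] at hy
      obtain ⟨n, hn, hgn⟩ := hy
      have h1 : m - n ∈ LinearMap.ker g := by
        rw [LinearMap.mem_ker, map_sub, hgn, sub_self]
      rw [← hfg] at h1
      obtain ⟨x, hx⟩ := h1
      refine ⟨Submodule.Quotient.mk x, ?_⟩
      rw [Submodule.mapQ_apply, hx, Submodule.Quotient.mk_sub, sub_eq_self,
        Submodule.Quotient.mk_eq_zero]
      exact hn
    · rintro ⟨x, hx⟩
      obtain ⟨x, rfl⟩ := Submodule.Quotient.mk_surjective _ x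
      rw [← hx, Submodule.mapQ_apply, Submodule.mapQ_apply, Submodule.Quotient.mk_eq_zero]
      have h1 : f x ∈ LinearMap.ker g := hfg ▸ LinearMap.mem_range_self f x
      rw [LinearMap.mem_ker.mp h1]
      exact Submodule.zero_mem _

/-- Artin–Rees sandwich for the preimage of `I^t M`. -/
theorem exists_sandwich [Module.Finite A M] (hf : Function.Injective f) :
    ∃ k : ℕ, ∀ t : ℕ, k ≤ t →
      I ^ t • (⊤ : Submodule A M') ≤ (I ^ t • (⊤ : Submodule A M)).comap f ∧
      (I ^ t • (⊤ : Submodule A M)).comap f ≤ I ^ (t - k) • (⊤ : Submodule A M') := by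
  obtain ⟨k, hk⟩ := Ideal.exists_pow_inf_eq_pow_smul I (LinearMap.range f)
  refine ⟨k, fun t ht => ⟨Submodule.smul_top_le_comap_smul_top _ f, ?_⟩⟩
  intro x hx
  have h1 : f x ∈ I ^ t • (⊤ : Submodule A M) ⊓ LinearMap.range f :=
    ⟨hx, LinearMap.mem_range_self f x⟩
  rw [hk t ht] at h1
  have h2 : I ^ (t - k) • (I ^ k • (⊤ : Submodule A M) ⊓ LinearMap.range f) ≤
      (I ^ (t - k) • (⊤ : Submodule A M')).map f := by
    rw [Submodule.map_smul'', Submodule.map_top]
    exact Submodule.smul_mono le_rfl inf_le_right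
  obtain ⟨y, hy, hxy⟩ := h2 h1
  rw [← hf hxy]
  exact hy

end alg

section analysis

/-- If `d! a(t) / t^d → e` then the same holds for any sequence squeezed between `a (t - k)` and
`a t`. -/
theorem tendsto_of_sandwich (d k : ℕ) (a b : ℕ → ℕ) (e : ℝ)
    (h : Tendsto (fun t : ℕ => (d.factorial : ℝ) * (a t : ℝ) / (t : ℝ) ^ d) atTop (𝓝 e))
    (hb : ∀ t, k ≤ t → a (t - k) ≤ b t ∧ b t ≤ a t) :
    Tendsto (fun t : ℕ => (d.factorial : ℝ) * (b t : ℝ) / (t : ℝ) ^ d) atTop (𝓝 e) := by
  have h1 : Tendsto (fun t : ℕ => (d.factorial : ℝ) * (a (t - k) : ℝ) / ((t - k : ℕ) : ℝ) ^ d)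
      atTop (𝓝 e) := h.comp (tendsto_sub_atTop_nat k)
  have h2 : Tendsto (fun t : ℕ => (((t - k : ℕ) : ℝ) / (t : ℝ)) ^ d) atTop (𝓝 1) := by
    have h3 : Tendsto (fun t : ℕ => (1 : ℝ) - (k : ℝ) / (t : ℝ)) atTop (𝓝 (1 - 0)) :=
      tendsto_const_nhds.sub (tendsto_const_div_atTop_nhds_zero_nat (k : ℝ))
    rw [sub_zero] at h3
    have h4 := h3.pow d
    rw [one_pow] at h4
    refine h4.congr' ?_
    filter_upwards [eventually_ge_atTop (k + 1)] with t ht
    have ht0 : (t : ℝ) ≠ 0 := by
      have : 0 < t := by omega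
      exact_mod_cast this.ne'
    congr 1
    rw [Nat.cast_sub (by omega : k ≤ t)]
    field_simp
  have h5 := h1.mul h2
  rw [mul_one] at h5
  refine tendsto_of_tendsto_of_tendsto_of_le_of_le' h5 h ?_ ?_
  · filter_upwards [eventually_ge_atTop (k + 1)] with t ht
    have ht0 : (0 : ℝ) < (t : ℝ) := by
      have : 0 < t := by omega
      exact_mod_cast this
    have htk : (0 : ℝ) < ((t - k : ℕ) : ℝ) := by
      have : 0 < t - k := by omega
      exact_mod_cast this
    have hab : (a (t - k) : ℝ) ≤ (b t : ℝ) := by exact_mod_cast (hb t (by omega)).1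
    have e1 : (d.factorial : ℝ) * (a (t - k) : ℝ) / ((t - k : ℕ) : ℝ) ^ d *
        (((t - k : ℕ) : ℝ) / (t : ℝ)) ^ d = (d.factorial : ℝ) * (a (t - k) : ℝ) / (t : ℝ) ^ d := by
      rw [div_pow]
      field_simp
    show (d.factorial : ℝ) * (a (t - k) : ℝ) / ((t - k : ℕ) : ℝ) ^ d *
        (((t - k : ℕ) : ℝ) / (t : ℝ)) ^ d ≤ _
    rw [e1]
    gcongr
  · filter_upwards [eventually_ge_atTop (k + 1)] with t ht
    have hab : (b t : ℝ) ≤ (a t : ℝ) := by exact_mod_cast (hb t (by omega)).2
    gcongr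

end analysis

section main

variable {A : Type u} [CommRing A] [IsNoetherianRing A] [IsLocalRing A] (I : Ideal A)

/-- **Additivity of the Samuel multiplicity** in short exact sequences. -/
theorem samuel_add (hI : ∃ n : ℕ, maximalIdeal A ^ n ≤ I)
    {M' M M'' : Type u} [AddCommGroup M'] [Module A M'] [AddCommGroup M] [Module A M]
    [AddCommGroup M''] [Module A M''] [Module.Finite A M'] [Module.Finite A M] [Module.Finite A M'']
    (f : M' →ₗ[A] M) (g : M →ₗ[A] M'') (hf : Function.Injective f) (hg : Function.Surjective g)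
    (hfg : LinearMap.range f = LinearMap.ker g) (d : ℕ) (e' e'' : ℝ)
    (h' : Tendsto (fun t : ℕ => (d.factorial : ℝ) *
      ((Module.length A (M' ⧸ (I ^ t • (⊤ : Submodule A M')))).toNat : ℝ) / (t : ℝ) ^ d)
      atTop (𝓝 e'))
    (h'' : Tendsto (fun t : ℕ => (d.factorial : ℝ) *
      ((Module.length A (M'' ⧸ (I ^ t • (⊤ : Submodule A M'')))).toNat : ℝ) / (t : ℝ) ^ d)
      atTop (𝓝 e'')) :
    Tendsto (fun t : ℕ => (d.factorial : ℝ) *
      ((Module.length A (M ⧸ (I ^ t • (⊤ : Submodule A M)))).toNat : ℝ) / (t : ℝ) ^ d)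
      atTop (𝓝 (e' + e'')) := by
  obtain ⟨k, hk⟩ := exists_sandwich I f hf
  set b : ℕ → ℕ := fun t =>
    (Module.length A (M' ⧸ (I ^ t • (⊤ : Submodule A M)).comap f)).toNat with hb
  have hfin' := length_ne_top I hI M'
  have hfin := length_ne_top I hI M
  have hfin'' := length_ne_top I hI M''
  have hsum : ∀ t, Module.length A (M ⧸ I ^ t • (⊤ : Submodule A M)) =
      Module.length A (M' ⧸ (I ^ t • (⊤ : Submodule A M)).comap f) +
        Module.length A (M'' ⧸ I ^ t • (⊤ : Submodule A M'')) :=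
    fun t => length_quotient_eq_add f g hf hg hfg (I ^ t)
  have hbfin : ∀ t, Module.length A (M' ⧸ (I ^ t • (⊤ : Submodule A M)).comap f) ≠ ⊤ := by
    intro t h0
    apply hfin t
    rw [hsum t, h0, top_add]
  have h1 := tendsto_of_sandwich d k _ b e' h' (fun t ht => ⟨?_, ?_⟩)
  · have h2 := h1.add h''
    refine h2.congr (fun t => ?_)
    rw [hsum t, ENat.toNat_add (hbfin t) (hfin'' t), Nat.cast_add]
    ring
  · exact ENat.toNat_le_toNat (length_quotient_smul_le_of_le (hk t ht).2) (hbfin t)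
  · exact ENat.toNat_le_toNat (length_quotient_smul_le_of_le (hk t ht).1) (hfin' t)

end main

end Groth.Agent.Helper8.Mult
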