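import Mathlib
import Groth.Prelude
import Groth.Agent.Lib.Helper8.FC1

/-!
# Formal equidimensionality of quotients, II
-/

set_option autoImplicit false
universe u

namespace Groth.Agent.Helper8.FC

open IsLocalRing TensorProduct LocCoh

theorem isEquidim_of_forall_eq' {R : Type*} [CommRing R]
    (h : ∀ p ∈ minimalPrimes R, ∀ q ∈ minimalPrimes R,
      ringKrullDim (R ⧸ p) = ringKrullDim (R ⧸ q)) : EGA4.IsEquidim R := by
  intro p hp
  exact isEquidim_of_forall_eq (ringKrullDim (R ⧸ p)) (fun q hq => h q hq p hp) p hp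

variable (A : Type u) [CommRing A] [IsNoetherianRing A] [IsLocalRing A]
  (M : Type u) [AddCommGroup M] [Module A M] [Module.Finite A M]

theorem isEquidim_cpl_quot (hCM : IsCohenMacaulayModule A M)
    (hsupp : Module.support A M = Set.univ) (P : Ideal A) [P.IsPrime] :
    EGA4.IsEquidim (EGA4.Cpl A ⧸ P.map (algebraMap A (EGA4.Cpl A))) := by
  haveI : IsNoetherianRing (EGA4.Cpl A) := Groth.Agent.Helper8.AdicReg.isNoetherianRing A _
  obtain ⟨h1, h2⟩ := Groth.Agent.Helper8.FEq.CM_baseChange_completion A M hCM hsupp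
  set J := P.map (algebraMap A (EGA4.Cpl A)) with hJ
  obtain ⟨n, hn⟩ : ∃ n : ℕ, P.height = n :=
    ENat.ne_top_iff_exists.mp (Ideal.height_ne_top (Ideal.IsPrime.ne_top inferInstance)) |>.imp
      fun n hn => hn.symm
  have key : ∀ q ∈ minimalPrimes (EGA4.Cpl A ⧸ J),
      (n : WithBot ℕ∞) + ringKrullDim ((EGA4.Cpl A ⧸ J) ⧸ q) = ringKrullDim (EGA4.Cpl A) := by
    intro q hq
    haveI : q.IsPrime := hq.1.1
    set Q := q.comap (Ideal.Quotient.mk J) with hQ
    have hQmin : Q ∈ J.minimalPrimes := by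
      rw [Ideal.minimalPrimes_eq_comap]; exact ⟨q, hq, rfl⟩
    haveI : Q.IsPrime := hQmin.1.1
    have hQh : Q.height = P.height := height_eq_of_mem_minimalPrimes_map P Q hQmin
    have h3 := Groth.Agent.Helper8.Depth.cm_height_add_dim_quotient h1 h2 ⟨Q, inferInstance⟩
    simp only at h3
    have hqeq : q = Q.map (Ideal.Quotient.mk J) :=
      (Ideal.map_comap_of_surjective _ Ideal.Quotient.mk_surjective q).symm
    let e : ((EGA4.Cpl A ⧸ J) ⧸ q) ≃+* (EGA4.Cpl A ⧸ Q) :=
      (Ideal.quotEquivOfEq hqeq).trans (DoubleQuot.quotQuotEquivQuotOfLE hQmin.1.2)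
    rw [ringKrullDim_eq_of_ringEquiv e, ← h3, hQh, hn]
    rfl
  apply isEquidim_of_forall_eq'
  intro p hp q hq
  exact withBot_nat_add_cancel n _ _ ((key p hp).trans (key q hq).symm)

/-- A Noetherian local quotient domain of a ring carrying a Cohen–Macaulay module of full support is
formally equidimensional. -/
theorem isFormallyEquidim_of_surjective (hCM : IsCohenMacaulayModule A M)
    (hsupp : Module.support A M = Set.univ) (B : Type u) [CommRing B] [IsNoetherianRing B]
    [IsLocalRing B] [IsDomain B] [Algebra A B] (hs : Function.Surjective (algebraMap A B)) :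
    EGA4.IsFormallyEquidim B := by
  haveI : (RingHom.ker (algebraMap A B)).IsPrime := RingHom.ker_isPrime _
  have h := isEquidim_cpl_quot A M hCM hsupp (RingHom.ker (algebraMap A B))
  exact isEquidim_of_ringEquiv (Groth.Agent.Helper8.CplSurj.quotEquiv hs).toRingEquiv h

end Groth.Agent.Helper8.FC
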