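import Mathlib
import Groth.Prelude
import Groth.Agent.Lib.Helper8.Lift1
import Groth.Agent.Lib.Helper8.FC2

/-!
# Equidimensionality along flat local homomorphisms with catenary equidimensional target
-/

set_option autoImplicit false
universe u

namespace Groth.Agent.Helper8.Equidim

open IsLocalRing

section formula

variable (B : Type u) [CommRing B] [IsNoetherianRing B] [IsLocalRing B]

/-- In an equidimensional catenary Noetherian local ring, `dim B/Q + ht Q = dim B`. -/
theorem dim_quot_add_height (hc : CAlg.IsCatenary B) (heq : EGA4.IsEquidim B)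
    (Q : Ideal B) [hQ : Q.IsPrime] (n : ℕ) (hn : Q.height = n) :
    ringKrullDim (B ⧸ Q) + (n : WithBot ℕ∞) = ringKrullDim B := by
  have h1 := Lift.coheight_add_height_eq B hc heq n ⟨Q, hQ⟩ hn
  have h2 := Hart.ringKrullDim_quotient_eq_coheight (A := B) ⟨Q, hQ⟩
  change ringKrullDim (B ⧸ Q) = _ at h2
  rw [h2, ← h1]
  push_cast
  rfl

theorem dim_quot_eq_of_height_eq (hc : CAlg.IsCatenary B) (heq : EGA4.IsEquidim B)
    (Q Q' : Ideal B) [Q.IsPrime] [Q'.IsPrime] (h : Q.height = Q'.height) :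
    ringKrullDim (B ⧸ Q) = ringKrullDim (B ⧸ Q') := by
  have hfin : Q.height ≠ ⊤ := Ideal.height_ne_top (Ideal.IsPrime.ne_top inferInstance)
  obtain ⟨n, hn⟩ := ENat.ne_top_iff_exists.mp hfin
  have h1 := dim_quot_add_height B hc heq Q n hn.symm
  have h2 := dim_quot_add_height B hc heq Q' n (h ▸ hn.symm)
  apply FC.withBot_nat_add_cancel n
  rw [add_comm, h1, add_comm, h2]

end formula

section flat

variable (A B : Type u) [CommRing A] [CommRing B]
  [IsNoetherianRing A] [IsNoetherianRing B] [IsLocalRing B] [Algebra A B] [Module.Flat A B]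

theorem isEquidim_quot_map_prime (hcat : CAlg.IsCatenary B) (heq : EGA4.IsEquidim B)
    (p : Ideal A) [p.IsPrime] : EGA4.IsEquidim (B ⧸ Ideal.map (algebraMap A B) p) := by
  set J := Ideal.map (algebraMap A B) p with hJ
  apply FC.isEquidim_of_forall_eq'
  intro Q1 hQ1 Q2 hQ2
  have hc1 : Q1.comap (Ideal.Quotient.mk J) ∈ J.minimalPrimes := by
    rw [Ideal.minimalPrimes_eq_comap]; exact ⟨Q1, hQ1, rfl⟩
  have hc2 : Q2.comap (Ideal.Quotient.mk J) ∈ J.minimalPrimes := by
    rw [Ideal.minimalPrimes_eq_comap]; exact ⟨Q2, hQ2, rfl⟩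
  haveI : (Q1.comap (Ideal.Quotient.mk J)).IsPrime := hc1.1.1
  haveI : (Q2.comap (Ideal.Quotient.mk J)).IsPrime := hc2.1.1
  have h1 := FC.height_eq_of_mem_minimalPrimes_map p _ hc1
  have h2 := FC.height_eq_of_mem_minimalPrimes_map p _ hc2
  rw [← Lift.ringKrullDim_quotient_comap B J Q1, ← Lift.ringKrullDim_quotient_comap B J Q2]
  exact dim_quot_eq_of_height_eq B hcat heq _ _ (h1.trans h2.symm)

end flat

end Groth.Agent.Helper8.Equidim
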