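import Mathlib
import Groth.Prelude
import Groth.Agent.Lib.Helper8.Equidim1
import Groth.Agent.Lib.Helper8.FlatReg11

/-!
# Descent of equidimensionality along flat local homomorphisms with catenary equidimensional target
-/

set_option autoImplicit false
universe u

namespace Groth.Agent.Helper8.Equidim

open IsLocalRing TensorProduct

section dimformula

variable (A A' : Type u) [CommRing A] [CommRing A']
  [IsNoetherianRing A] [IsNoetherianRing A'] [IsLocalRing A] [IsLocalRing A'] [Algebra A A']
  [IsLocalHom (algebraMap A A')] [Module.Flat A A']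

/-- `dim A'/IA' = dim A/I + dim A'/𝔪A'` for a flat local homomorphism. -/
theorem ringKrullDim_quot_map_eq (I : Ideal A) (hI : I ≠ ⊤) :
    ringKrullDim (A' ⧸ I.map (algebraMap A A')) =
      ringKrullDim (A ⧸ I) + ringKrullDim (A' ⧸ (maximalIdeal A).map (algebraMap A A')) := by
  haveI : Nontrivial (A ⧸ I) := Ideal.Quotient.nontrivial_iff.mpr hI
  have h1 := Groth.Agent.Helper8.FlatMod.supportDim_tensor_eq (R := A) (S := A') A' (A ⧸ I)
  rw [Module.supportDim_eq_of_equiv
      (Algebra.TensorProduct.quotIdealMapEquivTensorQuot A' I).symm.toLinearEquiv,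
    Module.supportDim_quotient_eq_ringKrullDim, Module.supportDim_quotient_eq_ringKrullDim,
    Groth.Agent.Helper8.Depth.supportDim_quot_smul_top_self] at h1
  exact h1

theorem exists_nat_fibre_dim :
    ∃ n : ℕ, ringKrullDim (A' ⧸ (maximalIdeal A).map (algebraMap A A')) = (n : WithBot ℕ∞) := by
  have hne : (maximalIdeal A).map (algebraMap A A') ≠ ⊤ := by
    intro h
    have hle := IsLocalRing.map_maximalIdeal_le (algebraMap A A')
    rw [h] at hle
    exact (maximalIdeal.isMaximal A').ne_top (top_le_iff.mp hle)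
  haveI : Nontrivial (A' ⧸ (maximalIdeal A).map (algebraMap A A')) :=
    Ideal.Quotient.nontrivial_iff.mpr hne
  have := Groth.Agent.Helper8.Depth.exists_nat_supportDim (A := A')
    (A' ⧸ (maximalIdeal A).map (algebraMap A A'))
  rwa [Module.supportDim_quotient_eq_ringKrullDim] at this

theorem map_ne_top (I : Ideal A) (hI : I ≠ ⊤) : I.map (algebraMap A A') ≠ ⊤ := by
  intro h
  have hle : I.map (algebraMap A A') ≤ maximalIdeal A' :=
    (Ideal.map_mono (le_maximalIdeal hI)).trans (IsLocalRing.map_maximalIdeal_le (algebraMap A A'))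
  rw [h] at hle
  exact (maximalIdeal.isMaximal A').ne_top (top_le_iff.mp hle)

/-- `dim A'/pA' + ht p = dim A'`. -/
theorem dim_quot_map_add_height (hcat : CAlg.IsCatenary A') (heq : EGA4.IsEquidim A')
    (p : Ideal A) [p.IsPrime] (n : ℕ) (hn : p.height = n) :
    ringKrullDim (A' ⧸ p.map (algebraMap A A')) + (n : WithBot ℕ∞) = ringKrullDim A' := by
  set J := p.map (algebraMap A A') with hJ
  have hJtop : J ≠ ⊤ := map_ne_top A A' p (Ideal.IsPrime.ne_top inferInstance)
  haveI : Nontrivial (A' ⧸ J) := Ideal.Quotient.nontrivial_iff.mpr hJtop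
  have hE := isEquidim_quot_map_prime A A' hcat heq p
  obtain ⟨⟨Q, hQ⟩⟩ := Ideal.nonempty_minimalPrimes (I := (⊥ : Ideal (A' ⧸ J))) bot_ne_top
  have h1 := hE Q hQ
  have hc1 : Q.comap (Ideal.Quotient.mk J) ∈ J.minimalPrimes := by
    rw [Ideal.minimalPrimes_eq_comap]; exact ⟨Q, hQ, rfl⟩
  haveI : (Q.comap (Ideal.Quotient.mk J)).IsPrime := hc1.1.1
  have h2 := FC.height_eq_of_mem_minimalPrimes_map p _ hc1
  rw [← h1, ← Lift.ringKrullDim_quotient_comap A' J Q]
  exact dim_quot_add_height A' hcat heq _ n (h2.trans hn)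

/-- `dim A/p + ht p = dim A`. -/
theorem dim_quot_add_height_base (hcat : CAlg.IsCatenary A') (heq : EGA4.IsEquidim A')
    (p : Ideal A) [p.IsPrime] (n : ℕ) (hn : p.height = n) :
    ringKrullDim (A ⧸ p) + (n : WithBot ℕ∞) = ringKrullDim A := by
  obtain ⟨f, hf⟩ := exists_nat_fibre_dim A A'
  have h1 := dim_quot_map_add_height A A' hcat heq p n hn
  rw [ringKrullDim_quot_map_eq A A' p (Ideal.IsPrime.ne_top inferInstance),
    FlatReg.ringKrullDim_eq_add_of_flat A A', hf] at h1
  apply FC.withBot_nat_add_cancel f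
  rw [add_comm, add_comm _ (ringKrullDim A), ← h1]
  abel

theorem isEquidim_base (hcat : CAlg.IsCatenary A') (heq : EGA4.IsEquidim A') :
    EGA4.IsEquidim A := by
  intro p hp
  haveI : p.IsPrime := hp.1.1
  have h := dim_quot_add_height_base A A' hcat heq p 0 (by simpa using Ideal.height_eq_zero_iff.mpr hp)
  simpa using h

end dimformula

end Groth.Agent.Helper8.Equidim
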