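import Mathlib
import Groth.Prelude
import Groth.Agent.Lib.Helper8.Equidim2
import Groth.Agent.Lib.Helper5.Caten.Basic

/-!
# Descent of the chain condition along flat local homomorphisms with catenary equidimensional
target
-/

set_option autoImplicit false
universe u

namespace Groth.Agent.Helper8.Equidim

open IsLocalRing TensorProduct

section quot

variable (A A' : Type u) [CommRing A] [CommRing A'] [Algebra A A'] (p : Ideal A)

theorem flat_quot [Module.Flat A A'] :
    Module.Flat (A ⧸ p) (A' ⧸ p.map (algebraMap A A')) :=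
  Module.Flat.of_linearEquiv
    (Algebra.TensorProduct.quotIdealMapEquivQuotTensor A' p).toLinearEquiv

theorem isLocalHom_quot [IsLocalRing A] [IsLocalRing A'] [IsLocalHom (algebraMap A A')] :
    IsLocalHom (algebraMap (A ⧸ p) (A' ⧸ p.map (algebraMap A A'))) := by
  refine ⟨fun x hx => ?_⟩
  obtain ⟨a, rfl⟩ := Ideal.Quotient.mk_surjective x
  rw [Ideal.Quotient.algebraMap_quotient_map_quotient] at hx
  by_cases hp : p = ⊤
  · haveI : Subsingleton (A ⧸ p) := by
      rw [hp]; exact Ideal.Quotient.subsingleton_iff.mpr rfl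
    exact isUnit_of_subsingleton _
  have hJle : p.map (algebraMap A A') ≤ maximalIdeal A' :=
    (Ideal.map_mono (le_maximalIdeal hp)).trans (IsLocalRing.map_maximalIdeal_le (algebraMap A A'))
  have h1 : IsUnit (algebraMap A A' a) := by
    by_contra hnu
    have hmem : algebraMap A A' a ∈ maximalIdeal A' := (IsLocalRing.mem_maximalIdeal _).mpr hnu
    obtain ⟨y, hy⟩ := hx.exists_right_inv
    obtain ⟨b, rfl⟩ := Ideal.Quotient.mk_surjective y
    rw [← map_mul, ← map_one (Ideal.Quotient.mk (p.map (algebraMap A A'))),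
      Ideal.Quotient.eq] at hy
    have h2 : (1 : A') ∈ maximalIdeal A' := by
      have h3 := (maximalIdeal A').sub_mem ((maximalIdeal A').mul_mem_right b hmem) (hJle hy)
      simp at h3
    exact (maximalIdeal.isMaximal A').ne_top ((Ideal.eq_top_iff_one _).mpr h2)
  exact (isUnit_of_map_unit (algebraMap A A') a h1).map (Ideal.Quotient.mk p)

end quot

section height_one

variable {T : Type u} [CommRing T]

theorem isPrime_map_mk (P Q : Ideal T) [Q.IsPrime] (hPQ : P ≤ Q) :
    (Q.map (Ideal.Quotient.mk P)).IsPrime :=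
  Ideal.map_isPrime_of_surjective Ideal.Quotient.mk_surjective (by rwa [Ideal.mk_ker])

theorem comap_map_mk (P Q : Ideal T) (hPQ : P ≤ Q) :
    (Q.map (Ideal.Quotient.mk P)).comap (Ideal.Quotient.mk P) = Q := by
  rw [Ideal.comap_map_of_surjective _ Ideal.Quotient.mk_surjective, ← RingHom.ker_eq_comap_bot,
    Ideal.mk_ker]
  exact sup_eq_left.mpr hPQ

theorem height_map_mk_eq_one (P Q : Ideal T) [hP : P.IsPrime] [hQ : Q.IsPrime]
    (hcov : (⟨P, hP⟩ : PrimeSpectrum T) ⋖ ⟨Q, hQ⟩) :
    haveI := isPrime_map_mk P Q hcov.lt.le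
    (Q.map (Ideal.Quotient.mk P)).height = 1 := by
  have hPQ : P ≤ Q := hcov.lt.le
  haveI := isPrime_map_mk P Q hPQ
  haveI : IsDomain (T ⧸ P) := Ideal.Quotient.isDomain P
  apply le_antisymm
  · rw [show (1 : ℕ∞) = ((1 : ℕ) : ℕ∞) from rfl, Ideal.height_le_iff]
    intro r hr hrQ
    have h1 : r.comap (Ideal.Quotient.mk P) < Q := by
      rw [← comap_map_mk P Q hPQ]
      refine lt_of_le_of_ne (Ideal.comap_mono hrQ.le) fun h => hrQ.ne ?_
      rw [← Ideal.map_comap_of_surjective _ Ideal.Quotient.mk_surjective r, h,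
        Ideal.map_comap_of_surjective _ Ideal.Quotient.mk_surjective]
    have h2 : P ≤ r.comap (Ideal.Quotient.mk P) := by
      intro a ha
      rw [Ideal.mem_comap, Ideal.Quotient.eq_zero_iff_mem.mpr ha]
      exact zero_mem _
    have h3 : r.comap (Ideal.Quotient.mk P) = P := by
      by_contra hne
      have hlt : (⟨P, hP⟩ : PrimeSpectrum T) < ⟨r.comap (Ideal.Quotient.mk P), inferInstance⟩ :=
        lt_of_le_of_ne h2 fun h => hne (congrArg PrimeSpectrum.asIdeal h).symm
      exact hcov.2 hlt h1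
    have h4 : r = ⊥ := by
      rw [← Ideal.map_comap_of_surjective _ Ideal.Quotient.mk_surjective r, h3,
        Ideal.map_quotient_self]
    rw [h4, Ideal.height_bot]
    exact_mod_cast Nat.zero_lt_one
  · rw [Order.one_le_iff_pos, pos_iff_ne_zero, Ne, Ideal.height_eq_zero_iff_eq_bot]
    intro h0
    have h5 := comap_map_mk P Q hPQ
    rw [h0, ← RingHom.ker_eq_comap_bot, Ideal.mk_ker] at h5
    exact hcov.lt.ne (PrimeSpectrum.ext h5)

end height_one

section catenary

variable (A A' : Type u) [CommRing A] [CommRing A']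
  [IsNoetherianRing A] [IsNoetherianRing A'] [IsLocalRing A] [IsLocalRing A'] [Algebra A A']
  [IsLocalHom (algebraMap A A')] [Module.Flat A A']

theorem isCatenary_base (hcat : CAlg.IsCatenary A') (heq : EGA4.IsEquidim A') :
    CAlg.IsCatenary A := by
  rw [Hart.isCatenary_iff_dimFun]
  intro p q hpq
  refine ⟨?_, fun hcov => ?_⟩
  · rw [Hart.ringKrullDim_quotient_eq_coheight, Hart.ringKrullDim_quotient_eq_coheight]
    exact_mod_cast Order.coheight_strictAnti hpq (Hart.coheight_lt_top A q)
  · obtain ⟨P, hP⟩ := p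
    obtain ⟨Q, hQ⟩ := q
    have hPQ : P ≤ Q := hpq.le
    haveI := hP
    haveI := hQ
    haveI : IsDomain (A ⧸ P) := Ideal.Quotient.isDomain P
    have hJtop : P.map (algebraMap A A') ≠ ⊤ := map_ne_top A A' P hP.ne_top
    haveI : Nontrivial (A' ⧸ P.map (algebraMap A A')) := Ideal.Quotient.nontrivial_iff.mpr hJtop
    haveI : IsLocalRing (A ⧸ P) := EGA4.isLocalRing_quotient A P
    haveI : IsLocalRing (A' ⧸ P.map (algebraMap A A')) := EGA4.isLocalRing_quotient A' _
    haveI := flat_quot A A' P
    haveI := isLocalHom_quot A A' P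
    haveI := isPrime_map_mk P Q hPQ
    have h1 := dim_quot_add_height_base (A ⧸ P) (A' ⧸ P.map (algebraMap A A'))
      (Helper5.Caten.isCatenary_quotient A' _ hcat)
      (isEquidim_quot_map_prime A A' hcat heq P)
      (Q.map (Ideal.Quotient.mk P)) 1 (by simpa using height_map_mk_eq_one P Q hcov)
    rw [← Lift.ringKrullDim_quotient_comap A P (Q.map (Ideal.Quotient.mk P)),
      comap_map_mk P Q hPQ] at h1
    change ringKrullDim (A ⧸ P) = ringKrullDim (A ⧸ Q) + 1
    rw [← h1]; rfl

end catenary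

end Groth.Agent.Helper8.Equidim
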