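import Mathlib
import Groth.Prelude
import Groth.Agent.Lib.Helper8.Equidim3

/-!
# Equidimensionality of `A'/aA'` versus `A/a` along flat local homomorphisms
-/

set_option autoImplicit false
universe u

namespace Groth.Agent.Helper8.Equidim

open IsLocalRing TensorProduct

section goingdown

variable {R S : Type*} [CommRing R] [CommRing S] [Algebra R S] [Algebra.HasGoingDown R S]

/-- A minimal prime over `aS` contracts to a minimal prime over `a` and is minimal over the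
extension of its contraction. -/
theorem under_mem_minimalPrimes_of_map (a : Ideal R) (Q : Ideal S)
    (hQ : Q ∈ (a.map (algebraMap R S)).minimalPrimes) :
    Q.under R ∈ a.minimalPrimes ∧ Q ∈ ((Q.under R).map (algebraMap R S)).minimalPrimes := by
  haveI : Q.IsPrime := hQ.1.1
  have hale : a ≤ Q.under R := Ideal.le_comap_of_map_le hQ.1.2
  refine ⟨⟨⟨inferInstance, hale⟩, ?_⟩, ⟨⟨inferInstance, Ideal.map_comap_le⟩, ?_⟩⟩
  · rintro p' ⟨hp', hap'⟩ hle
    haveI : Q.LiesOver (Q.under R) := ⟨rfl⟩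
    obtain ⟨Q', hQ'le, hQ'prime, hQ'over⟩ :=
      Ideal.exists_ideal_le_liesOver_of_le (p := p') (q := Q.under R) Q hle
    have h1 : a.map (algebraMap R S) ≤ Q' := by
      rw [Ideal.map_le_iff_le_comap]
      exact hap'.trans (Ideal.LiesOver.over (p := p') (P := Q')).le
    have h2 : Q ≤ Q' := hQ.2 ⟨hQ'prime, h1⟩ hQ'le
    have h3 : Q' = Q := le_antisymm hQ'le h2
    rw [Ideal.LiesOver.over (p := p') (P := Q'), h3]
  · rintro Q' ⟨hQ'prime, hQ'⟩ hle
    exact hQ.2 ⟨hQ'prime, (Ideal.map_mono hale).trans hQ'⟩ hle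

/-- A minimal prime over `pS`, for `p` minimal over `a`, is minimal over `aS`. -/
theorem mem_minimalPrimes_map_of_mem (a p : Ideal R) (hp : p ∈ a.minimalPrimes) (Q : Ideal S)
    (hQ : Q ∈ (p.map (algebraMap R S)).minimalPrimes) :
    Q ∈ (a.map (algebraMap R S)).minimalPrimes := by
  haveI : p.IsPrime := hp.1.1
  haveI : Q.IsPrime := hQ.1.1
  have hunder := FC.under_eq_of_mem_minimalPrimes_map p Q hQ
  refine ⟨⟨inferInstance, (Ideal.map_mono hp.1.2).trans hQ.1.2⟩, ?_⟩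
  rintro Q' ⟨hQ'prime, hQ'⟩ hle
  have h1 : a ≤ Q'.under R := Ideal.le_comap_of_map_le hQ'
  have h2 : Q'.under R ≤ p := by
    rw [← hunder]; exact Ideal.comap_mono hle
  have h3 : p ≤ Q'.under R := hp.2 ⟨inferInstance, h1⟩ h2
  have h4 : p.map (algebraMap R S) ≤ Q' := Ideal.map_le_iff_le_comap.mpr h3
  exact hQ.2 ⟨hQ'prime, h4⟩ hle

end goingdown

section main

variable (A A' : Type u) [CommRing A] [CommRing A']
  [IsNoetherianRing A] [IsNoetherianRing A'] [IsLocalRing A] [IsLocalRing A'] [Algebra A A']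
  [IsLocalHom (algebraMap A A')] [Module.Flat A A']

/-- `dim A'/Q' = dim A/p + dim A'/𝔪A'` for `Q'` minimal over `pA'`. -/
theorem dim_quot_minimalPrime_map (hcat : CAlg.IsCatenary A') (heq : EGA4.IsEquidim A')
    (p : Ideal A) [p.IsPrime] (Q : Ideal A') (hQ : Q ∈ (p.map (algebraMap A A')).minimalPrimes) :
    ringKrullDim (A' ⧸ Q) =
      ringKrullDim (A ⧸ p) + ringKrullDim (A' ⧸ (maximalIdeal A).map (algebraMap A A')) := by
  rw [← ringKrullDim_quot_map_eq A A' p (Ideal.IsPrime.ne_top inferInstance)]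
  have hE := isEquidim_quot_map_prime A A' hcat heq p
  rw [Ideal.minimalPrimes_eq_comap] at hQ
  obtain ⟨Qb, hQb, rfl⟩ := hQ
  rw [Lift.ringKrullDim_quotient_comap]
  exact hE Qb hQb

theorem isEquidim_quot_map_iff (hcat : CAlg.IsCatenary A') (heq : EGA4.IsEquidim A')
    (a : Ideal A) : EGA4.IsEquidim (A' ⧸ a.map (algebraMap A A')) ↔ EGA4.IsEquidim (A ⧸ a) := by
  obtain ⟨f, hf⟩ := exists_nat_fibre_dim A A'
  set J := a.map (algebraMap A A') with hJ
  constructor
  · intro h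
    apply FC.isEquidim_of_forall_eq'
    intro p1 hp1 p2 hp2
    have hc1 : p1.comap (Ideal.Quotient.mk a) ∈ a.minimalPrimes := by
      rw [Ideal.minimalPrimes_eq_comap]; exact ⟨p1, hp1, rfl⟩
    have hc2 : p2.comap (Ideal.Quotient.mk a) ∈ a.minimalPrimes := by
      rw [Ideal.minimalPrimes_eq_comap]; exact ⟨p2, hp2, rfl⟩
    haveI : (p1.comap (Ideal.Quotient.mk a)).IsPrime := hc1.1.1
    haveI : (p2.comap (Ideal.Quotient.mk a)).IsPrime := hc2.1.1
    obtain ⟨⟨Q1, hQ1⟩⟩ := Ideal.nonempty_minimalPrimes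
      (map_ne_top A A' _ (Ideal.IsPrime.ne_top (inferInstance :
        (p1.comap (Ideal.Quotient.mk a)).IsPrime)))
    obtain ⟨⟨Q2, hQ2⟩⟩ := Ideal.nonempty_minimalPrimes
      (map_ne_top A A' _ (Ideal.IsPrime.ne_top (inferInstance :
        (p2.comap (Ideal.Quotient.mk a)).IsPrime)))
    have hm1 := mem_minimalPrimes_map_of_mem a _ hc1 Q1 hQ1
    have hm2 := mem_minimalPrimes_map_of_mem a _ hc2 Q2 hQ2
    have hd1 := dim_quot_minimalPrime_map A A' hcat heq _ Q1 hQ1
    have hd2 := dim_quot_minimalPrime_map A A' hcat heq _ Q2 hQ2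
    rw [Ideal.minimalPrimes_eq_comap] at hm1 hm2
    obtain ⟨Qb1, hQb1, rfl⟩ := hm1
    obtain ⟨Qb2, hQb2, rfl⟩ := hm2
    rw [Lift.ringKrullDim_quotient_comap, h Qb1 hQb1] at hd1
    rw [Lift.ringKrullDim_quotient_comap, h Qb2 hQb2] at hd2
    rw [← Lift.ringKrullDim_quotient_comap A a p1, ← Lift.ringKrullDim_quotient_comap A a p2]
    apply FC.withBot_nat_add_cancel f
    rw [add_comm, add_comm _ (ringKrullDim (A ⧸ p2.comap _)), ← hf, ← hd1, ← hd2]
  · intro h
    apply FC.isEquidim_of_forall_eq'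
    intro Qb1 hQb1 Qb2 hQb2
    have hc1 : Qb1.comap (Ideal.Quotient.mk J) ∈ J.minimalPrimes := by
      rw [Ideal.minimalPrimes_eq_comap]; exact ⟨Qb1, hQb1, rfl⟩
    have hc2 : Qb2.comap (Ideal.Quotient.mk J) ∈ J.minimalPrimes := by
      rw [Ideal.minimalPrimes_eq_comap]; exact ⟨Qb2, hQb2, rfl⟩
    haveI : (Qb1.comap (Ideal.Quotient.mk J)).IsPrime := hc1.1.1
    haveI : (Qb2.comap (Ideal.Quotient.mk J)).IsPrime := hc2.1.1
    obtain ⟨hu1, hm1⟩ := under_mem_minimalPrimes_of_map a _ hc1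
    obtain ⟨hu2, hm2⟩ := under_mem_minimalPrimes_of_map a _ hc2
    have hd1 := dim_quot_minimalPrime_map A A' hcat heq _ _ hm1
    have hd2 := dim_quot_minimalPrime_map A A' hcat heq _ _ hm2
    rw [Ideal.minimalPrimes_eq_comap] at hu1 hu2
    obtain ⟨p1, hp1, hp1e⟩ := hu1
    obtain ⟨p2, hp2, hp2e⟩ := hu2
    rw [← Lift.ringKrullDim_quotient_comap A' J Qb1, ← Lift.ringKrullDim_quotient_comap A' J Qb2,
      hd1, hd2, ← hp1e, ← hp2e, Lift.ringKrullDim_quotient_comap,
      Lift.ringKrullDim_quotient_comap, h p1 hp1, h p2 hp2]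

end main

end Groth.Agent.Helper8.Equidim
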