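import Mathlib
import Groth.Prelude
import Groth.Agent.Lib.Helper8.FC2

/-!
# Formal equidimensionality and minimal primes
-/

set_option autoImplicit false
universe u

namespace Groth.Agent.Helper8.FC

open IsLocalRing TensorProduct LocCoh

section goingdown

variable {R S : Type*} [CommRing R] [CommRing S] [Algebra R S]

theorem under_mem_minimalPrimes [Algebra.HasGoingDown R S] (Q : Ideal S)
    (hQ : Q ∈ minimalPrimes S) : Q.under R ∈ minimalPrimes R := by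
  haveI : Q.IsPrime := hQ.1.1
  refine ⟨⟨inferInstance, bot_le⟩, ?_⟩
  rintro p' ⟨hp', -⟩ hle
  haveI : Q.LiesOver (Q.under R) := ⟨rfl⟩
  obtain ⟨Q', hQ'le, hQ'prime, hQ'over⟩ :=
    Ideal.exists_ideal_le_liesOver_of_le (p := p') (q := Q.under R) Q hle
  have h2 : Q ≤ Q' := hQ.2 ⟨hQ'prime, bot_le⟩ hQ'le
  have h3 : Q' = Q := le_antisymm hQ'le h2
  rw [Ideal.LiesOver.over (p := p') (P := Q'), h3]

end goingdown

variable (A : Type u) [CommRing A] [IsNoetherianRing A] [IsLocalRing A]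

omit [IsNoetherianRing A] [IsLocalRing A] in
theorem surjective_algebraMap_quot (p : Ideal A) : Function.Surjective (algebraMap A (A ⧸ p)) :=
  Ideal.Quotient.mk_surjective

omit [IsNoetherianRing A] [IsLocalRing A] in
theorem ker_algebraMap_quot (p : Ideal A) : RingHom.ker (algebraMap A (A ⧸ p)) = p :=
  Ideal.mk_ker

/-- `Â/pÂ ≃ (A/p)^`. -/
noncomputable def quotCplEquiv (p : Ideal A) [p.IsPrime] :
    (EGA4.Cpl A ⧸ p.map (algebraMap A (EGA4.Cpl A))) ≃+* EGA4.Cpl (A ⧸ p) :=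
  (Ideal.quotEquivOfEq (by rw [ker_algebraMap_quot])).trans
    (Groth.Agent.Helper8.CplSurj.quotEquiv (surjective_algebraMap_quot A p)).toRingEquiv

theorem ringKrullDim_quot_map (p : Ideal A) [p.IsPrime] :
    ringKrullDim (EGA4.Cpl A ⧸ p.map (algebraMap A (EGA4.Cpl A))) = ringKrullDim (A ⧸ p) := by
  rw [ringKrullDim_eq_of_ringEquiv (quotCplEquiv A p)]
  exact Groth.Agent.Helper8.AdicReg.ringKrullDim_eq (A ⧸ p) _ (maximalIdeal.isMaximal _).ne_top

theorem ringKrullDim_cpl : ringKrullDim (EGA4.Cpl A) = ringKrullDim A :=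
  Groth.Agent.Helper8.AdicReg.ringKrullDim_eq A _ (maximalIdeal.isMaximal _).ne_top

theorem dim_quot_quot {R : Type*} [CommRing R] (J : Ideal R) (q : Ideal (R ⧸ J)) :
    ringKrullDim ((R ⧸ J) ⧸ q) = ringKrullDim (R ⧸ q.comap (Ideal.Quotient.mk J)) := by
  have hJQ : J ≤ q.comap (Ideal.Quotient.mk J) := by
    intro x hx
    rw [Ideal.mem_comap, Ideal.Quotient.eq_zero_iff_mem.mpr hx]
    exact Ideal.zero_mem _
  have hqeq : q = (q.comap (Ideal.Quotient.mk J)).map (Ideal.Quotient.mk J) :=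
    (Ideal.map_comap_of_surjective _ Ideal.Quotient.mk_surjective q).symm
  let e : ((R ⧸ J) ⧸ q) ≃+* (R ⧸ q.comap (Ideal.Quotient.mk J)) :=
    (Ideal.quotEquivOfEq hqeq).trans (DoubleQuot.quotQuotEquivQuotOfLE hJQ)
  exact ringKrullDim_eq_of_ringEquiv e

theorem dim_quot_minimal_of_isEquidim (h : EGA4.IsEquidim (EGA4.Cpl A)) (p : Ideal A)
    [p.IsPrime] (hp : p ∈ minimalPrimes A)
    (q : Ideal (EGA4.Cpl A ⧸ p.map (algebraMap A (EGA4.Cpl A))))
    (hq : q ∈ minimalPrimes (EGA4.Cpl A ⧸ p.map (algebraMap A (EGA4.Cpl A)))) :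
    ringKrullDim ((EGA4.Cpl A ⧸ p.map (algebraMap A (EGA4.Cpl A))) ⧸ q) =
      ringKrullDim (EGA4.Cpl A) := by
  haveI : IsNoetherianRing (EGA4.Cpl A) := Groth.Agent.Helper8.AdicReg.isNoetherianRing A _
  haveI : q.IsPrime := hq.1.1
  rw [dim_quot_quot]
  have hQmin : q.comap (Ideal.Quotient.mk (p.map (algebraMap A (EGA4.Cpl A)))) ∈
      (p.map (algebraMap A (EGA4.Cpl A))).minimalPrimes := by
    rw [Ideal.minimalPrimes_eq_comap]; exact ⟨q, hq, rfl⟩
  have hQh := height_eq_of_mem_minimalPrimes_map p _ hQmin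
  rw [Ideal.height_eq_zero_iff.mpr hp, Ideal.height_eq_zero_iff] at hQh
  exact h _ hQh

theorem isEquidim_quot_of_isEquidim (h : EGA4.IsEquidim (EGA4.Cpl A)) (p : Ideal A)
    [p.IsPrime] (hp : p ∈ minimalPrimes A) :
    EGA4.IsEquidim (EGA4.Cpl A ⧸ p.map (algebraMap A (EGA4.Cpl A))) ∧
      ringKrullDim (EGA4.Cpl A ⧸ p.map (algebraMap A (EGA4.Cpl A))) =
        ringKrullDim (EGA4.Cpl A) := by
  have h1 : EGA4.IsEquidim (EGA4.Cpl A ⧸ p.map (algebraMap A (EGA4.Cpl A))) :=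
    isEquidim_of_forall_eq _ (dim_quot_minimal_of_isEquidim A h p hp)
  refine ⟨h1, ?_⟩
  haveI : Nontrivial (EGA4.Cpl A ⧸ p.map (algebraMap A (EGA4.Cpl A))) :=
    (quotCplEquiv A p).toEquiv.nontrivial
  obtain ⟨⟨q, hq⟩⟩ := Ideal.nonempty_minimalPrimes
    (I := (⊥ : Ideal (EGA4.Cpl A ⧸ p.map (algebraMap A (EGA4.Cpl A))))) bot_ne_top
  rw [← h1 q hq]
  exact dim_quot_minimal_of_isEquidim A h p hp q hq

/-- **S2629.** -/
theorem isFormallyEquidim_iff_minimalPrimes :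
    EGA4.IsFormallyEquidim A ↔
      (EGA4.IsEquidim A ∧ ∀ (p : Ideal A) [p.IsPrime], p ∈ minimalPrimes A →
        EGA4.IsFormallyEquidim (A ⧸ p)) := by
  haveI : IsNoetherianRing (EGA4.Cpl A) := Groth.Agent.Helper8.AdicReg.isNoetherianRing A _
  constructor
  · intro h
    refine ⟨?_, ?_⟩
    · intro p hp
      haveI : p.IsPrime := hp.1.1
      rw [← ringKrullDim_quot_map, (isEquidim_quot_of_isEquidim A h p hp).2, ringKrullDim_cpl]
    · intro p _ hp
      exact isEquidim_of_ringEquiv (quotCplEquiv A p) (isEquidim_quot_of_isEquidim A h p hp).1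
  · rintro ⟨hA, hq⟩
    intro Q hQ
    haveI : Q.IsPrime := hQ.1.1
    set p := Q.under A with hp
    have hpmin : p ∈ minimalPrimes A := under_mem_minimalPrimes Q hQ
    haveI : p.IsPrime := hpmin.1.1
    have hD : EGA4.IsEquidim (EGA4.Cpl A ⧸ p.map (algebraMap A (EGA4.Cpl A))) :=
      isEquidim_of_ringEquiv (quotCplEquiv A p).symm (hq p hpmin)
    have hle : p.map (algebraMap A (EGA4.Cpl A)) ≤ Q := Ideal.map_comap_le
    have hQmin : Q ∈ (p.map (algebraMap A (EGA4.Cpl A))).minimalPrimes :=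
      ⟨⟨inferInstance, hle⟩, fun Q' hQ' hle' => hQ.2 ⟨hQ'.1, bot_le⟩ hle'⟩
    rw [Ideal.minimalPrimes_eq_comap] at hQmin
    obtain ⟨q, hqmin, hqQ⟩ := hQmin
    haveI : q.IsPrime := hqmin.1.1
    have h1 := hD q hqmin
    rw [dim_quot_quot, hqQ, ringKrullDim_quot_map, hA p hpmin, ← ringKrullDim_cpl A] at h1
    exact h1

end Groth.Agent.Helper8.FC
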