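import Mathlib
import Groth.Prelude
import Groth.Agent.Lib.Helper8.Equidim4
import Groth.Agent.Lib.Helper8.CatCM2
import Groth.Agent.Lib.Helper8.CplSurj1
import Groth.Agent.Lib.Helper8.FC3

/-!
# Formally equidimensional local rings are equidimensional and catenary
-/

set_option autoImplicit false
universe u

namespace Groth.Agent.Helper8.Equidim

open IsLocalRing

variable (A : Type u) [CommRing A] [IsNoetherianRing A] [IsLocalRing A]

theorem isCatenary_cpl : CAlg.IsCatenary (EGA4.Cpl A) := by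
  haveI : IsNoetherianRing (EGA4.Cpl A) := Groth.Agent.Helper8.AdicReg.isNoetherianRing A _
  exact CatCM.isCatenary_of_complete (EGA4.Cpl A)

theorem isEquidim_and_isCatenary_of_isFormallyEquidim (h : EGA4.IsFormallyEquidim A) :
    EGA4.IsEquidim A ∧ CAlg.IsCatenary A := by
  haveI : IsNoetherianRing (EGA4.Cpl A) := Groth.Agent.Helper8.AdicReg.isNoetherianRing A _
  exact ⟨isEquidim_base A (EGA4.Cpl A) (isCatenary_cpl A) h,
    isCatenary_base A (EGA4.Cpl A) (isCatenary_cpl A) h⟩

theorem isEquidim_quot_iff_isFormallyEquidim (h : EGA4.IsFormallyEquidim A) (a : Ideal A)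
    [Nontrivial (A ⧸ a)] : EGA4.IsEquidim (A ⧸ a) ↔ EGA4.IsFormallyEquidim (A ⧸ a) := by
  haveI : IsNoetherianRing (EGA4.Cpl A) := Groth.Agent.Helper8.AdicReg.isNoetherianRing A _
  have h1 := isEquidim_quot_map_iff A (EGA4.Cpl A) (isCatenary_cpl A) h a
  rw [← h1]
  have hs : Function.Surjective (algebraMap A (A ⧸ a)) := Ideal.Quotient.mk_surjective
  have hker : RingHom.ker (algebraMap A (A ⧸ a)) = a := Ideal.mk_ker
  let e : (EGA4.Cpl A ⧸ a.map (algebraMap A (EGA4.Cpl A))) ≃+* EGA4.Cpl (A ⧸ a) :=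
    (Ideal.quotEquivOfEq (by rw [hker])).trans
      (Groth.Agent.Helper8.CplSurj.quotEquiv hs).toRingEquiv
  exact ⟨fun h2 => FC.isEquidim_of_ringEquiv e h2, fun h2 => FC.isEquidim_of_ringEquiv e.symm h2⟩

end Groth.Agent.Helper8.Equidim
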