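import Mathlib
import Groth.Prelude
import Groth.Agent.Lib.Helper8.Equidim5
import Groth.Agent.Lib.Helper8.GRing7
import Groth.Agent.Lib.Helper8.CplMap2

/-!
# Formal equidimensionality: descent along flat local maps, quotients of Cohen–Macaulay rings,
localization of catenary equidimensional rings
-/

set_option autoImplicit false
universe u

namespace Groth.Agent.Helper8.FormEq

open IsLocalRing

/-- Descent of formal equidimensionality along a flat local homomorphism. -/
theorem isFormallyEquidim_of_flat_local (B C : Type u) [CommRing B] [CommRing C]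
    [IsNoetherianRing B] [IsLocalRing B] [IsNoetherianRing C] [IsLocalRing C] [Algebra B C]
    [Module.Flat B C] [IsLocalHom (algebraMap B C)] (h : EGA4.IsFormallyEquidim C) :
    EGA4.IsFormallyEquidim B := by
  letI := CplMap.algebraCpl B C
  haveI := CplMap.flat_cpl B C
  haveI := CplMap.isLocalHom_cpl B C
  haveI : IsNoetherianRing (EGA4.Cpl B) := AdicReg.isNoetherianRing B _
  haveI : IsNoetherianRing (EGA4.Cpl C) := AdicReg.isNoetherianRing C _
  exact Equidim.isEquidim_base (EGA4.Cpl B) (EGA4.Cpl C) (Equidim.isCatenary_cpl C) h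

/-- An equidimensional Noetherian local ring which is a quotient of a Cohen–Macaulay local ring is
formally equidimensional. -/
theorem isFormallyEquidim_of_surjective_of_isEquidim (S : Type u) [CommRing S]
    [IsNoetherianRing S] [IsLocalRing S]
    (hS : LocCoh.IsCohenMacaulayLocalRing S) (C : Type u) [CommRing C] [IsNoetherianRing C]
    [IsLocalRing C] (f : S →+* C) (hf : Function.Surjective f) (hC : EGA4.IsEquidim C) :
    EGA4.IsFormallyEquidim C := by
  rw [FC.isFormallyEquidim_iff_minimalPrimes]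
  refine ⟨hC, fun p _ _ => ?_⟩
  letI : Algebra S (C ⧸ p) := ((Ideal.Quotient.mk p).comp f).toAlgebra
  have hs : Function.Surjective (algebraMap S (C ⧸ p)) :=
    Ideal.Quotient.mk_surjective.comp hf
  refine FC.isFormallyEquidim_of_surjective S S hS.supportDim_eq_depth ?_ (C ⧸ p) hs
  rw [Module.support_eq_zeroLocus, Module.annihilator_eq_bot.mpr inferInstance]
  simp

/-- The localization of an equidimensional catenary Noetherian local ring at a prime is
equidimensional. -/
theorem isEquidim_localization (B : Type u) [CommRing B] [IsNoetherianRing B] [IsLocalRing B]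
    (hc : CAlg.IsCatenary B) (heq : EGA4.IsEquidim B) (Q : Ideal B) [Q.IsPrime] :
    EGA4.IsEquidim (Localization.AtPrime Q) := by
  have hfinQ : Q.height ≠ ⊤ := Ideal.height_ne_top (Ideal.IsPrime.ne_top inferInstance)
  obtain ⟨n, hn⟩ := ENat.ne_top_iff_exists.mp hfinQ
  have hQ := Equidim.dim_quot_add_height B hc heq Q n hn.symm
  intro 𝔭 h𝔭
  haveI : 𝔭.IsPrime := h𝔭.1.1
  have hPmin : 𝔭.under B ∈ minimalPrimes B := by
    have h1 := IsLocalization.minimalPrimes_map Q.primeCompl (Localization.AtPrime Q)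
      (⊥ : Ideal B)
    rw [Ideal.map_bot] at h1
    have h2 : 𝔭 ∈ (⊥ : Ideal (Localization.AtPrime Q)).minimalPrimes := h𝔭
    rw [h1] at h2
    exact h2
  set P := 𝔭.under B with hP
  haveI : P.IsPrime := hPmin.1.1
  obtain ⟨p', hp'prime, hp'⟩ := GRing.exists_prime_quotient B Q 𝔭
  haveI := hp'prime
  haveI := GRing.isLocalization_quotient B Q 𝔭 p' hp'
  rw [IsLocalization.AtPrime.ringKrullDim_eq_height p' (Localization.AtPrime Q ⧸ 𝔭),
    IsLocalization.AtPrime.ringKrullDim_eq_height Q (Localization.AtPrime Q), ← hn]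
  -- the domain `B/P`
  haveI : IsDomain (B ⧸ P) := Ideal.Quotient.isDomain P
  have hcP : CAlg.IsCatenary (B ⧸ P) := Helper5.Caten.isCatenary_quotient B P hc
  have heP : EGA4.IsEquidim (B ⧸ P) := by
    intro q hq
    rw [IsDomain.minimalPrimes_eq_singleton_bot, Set.mem_singleton_iff] at hq
    subst hq
    exact ringKrullDim_eq_of_ringEquiv (RingEquiv.quotientBot (B ⧸ P))
  have hfinp : p'.height ≠ ⊤ := Ideal.height_ne_top (Ideal.IsPrime.ne_top inferInstance)
  obtain ⟨k, hk⟩ := ENat.ne_top_iff_exists.mp hfinp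
  have h3 := Equidim.dim_quot_add_height (B ⧸ P) hcP heP p' k hk.symm
  have h4 : ringKrullDim ((B ⧸ P) ⧸ p') = ringKrullDim (B ⧸ Q) := by
    have h := Lift.ringKrullDim_quotient_comap B P p'
    have h' : ringKrullDim (B ⧸ p'.comap (Ideal.Quotient.mk P)) = ringKrullDim (B ⧸ Q) :=
      ringKrullDim_eq_of_ringEquiv (Ideal.quotEquivOfEq hp')
    rw [← h, h']
  rw [h4, heq P hPmin, ← hQ] at h3
  -- cancel `dim B/Q`
  have hfin : ringKrullDim (B ⧸ Q) ≠ ⊤ := by
    have := ringKrullDim_lt_top (R := B ⧸ Q)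
    exact this.ne
  have hbot : ringKrullDim (B ⧸ Q) ≠ ⊥ := by
    haveI : Nontrivial (B ⧸ Q) := Ideal.Quotient.nontrivial_iff.mpr (Ideal.IsPrime.ne_top inferInstance)
    exact ringKrullDim_ne_bot
  rw [← hk]
  have h5 : ((k : ℕ) : WithBot ℕ∞) = (n : WithBot ℕ∞) := by
    obtain ⟨d, hd⟩ : ∃ d : ℕ, ringKrullDim (B ⧸ Q) = (d : WithBot ℕ∞) := by
      obtain ⟨x, hx⟩ := WithBot.ne_bot_iff_exists.mp hbot
      have hx' : x ≠ ⊤ := by rintro rfl; exact hfin hx.symm
      obtain ⟨d, rfl⟩ := ENat.ne_top_iff_exists.mp hx'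
      exact ⟨d, hx.symm⟩
    rw [hd] at h3
    have : ((d + k : ℕ) : WithBot ℕ∞) = ((d + n : ℕ) : WithBot ℕ∞) := by
      push_cast; exact h3
    have h6 : d + k = d + n := by exact_mod_cast this
    have : k = n := by omega
    rw [this]
  exact_mod_cast h5

end Groth.Agent.Helper8.FormEq
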