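import Mathlib
import Groth.Prelude
import Groth.Agent.Lib.Helper8.FEqA1
import Groth.Agent.S0564

/-!
# Localizations of formally equidimensional local rings are formally equidimensional
-/

set_option autoImplicit false
universe u

namespace Groth.Agent.Helper8.FormEq

open IsLocalRing

/-- Localizations of an equidimensional complete Noetherian local ring are formally
equidimensional. -/
theorem isFormallyEquidim_localization_of_complete (R : Type u) [CommRing R] [IsLocalRing R]
    [IsNoetherianRing R] [IsAdicComplete (maximalIdeal R) R] (heq : EGA4.IsEquidim R)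
    (Q : Ideal R) [Q.IsPrime] : EGA4.IsFormallyEquidim (Localization.AtPrime Q) := by
  obtain ⟨S, _, hreg, f, hf⟩ := CatCM.exists_surjective_of_complete R
  haveI : (Q.comap f).IsPrime := Ideal.comap_isPrime f Q
  haveI : IsRegularLocalRing (Localization.AtPrime (Q.comap f)) :=
    Groth.Agent.S0564.result S (Q.comap f)
  have hCM := FlatReg.isCohenMacaulayLocalRing_of_isRegularLocalRing
    (Localization.AtPrime (Q.comap f))
  have hsurj := RingHom.surjective_localRingHom_of_surjective f hf Q
  have hcat : CAlg.IsCatenary R := CatCM.isCatenary_of_complete R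
  exact isFormallyEquidim_of_surjective_of_isEquidim (Localization.AtPrime (Q.comap f)) hCM
    (Localization.AtPrime Q) _ hsurj (isEquidim_localization R hcat heq Q)

/-- **Localization of a formally equidimensional local ring.** -/
theorem isFormallyEquidim_localization (A : Type u) [CommRing A] [IsNoetherianRing A]
    [IsLocalRing A] (h : EGA4.IsFormallyEquidim A) (q : Ideal A) [q.IsPrime] :
    EGA4.IsFormallyEquidim (Localization.AtPrime q) := by
  haveI : IsNoetherianRing (EGA4.Cpl A) := AdicReg.isNoetherianRing A _
  haveI : Module.FaithfullyFlat A (EGA4.Cpl A) := Module.FaithfullyFlat.of_flat_of_isLocalHom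
  obtain ⟨Q, hQ⟩ := PrimeSpectrum.comap_surjective_of_faithfullyFlat (A := A)
    (B := EGA4.Cpl A) ⟨q, inferInstance⟩
  haveI : Q.asIdeal.LiesOver q := ⟨(congrArg PrimeSpectrum.asIdeal hQ).symm⟩
  letI := Localization.AtPrime.algebraOfLiesOver q Q.asIdeal
  haveI : IsLocalHom (algebraMap (Localization.AtPrime q) (Localization.AtPrime Q.asIdeal)) := by
    rw [RingHom.algebraMap_toAlgebra]
    exact Localization.isLocalHom_localRingHom q Q.asIdeal (algebraMap A (EGA4.Cpl A))
      Ideal.LiesOver.over
  have hC := isFormallyEquidim_localization_of_complete (EGA4.Cpl A) h Q.asIdeal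
  exact isFormallyEquidim_of_flat_local (Localization.AtPrime q)
    (Localization.AtPrime Q.asIdeal) hC

end Groth.Agent.Helper8.FormEq
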