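import Mathlib
import Groth.Prelude
import Groth.Agent.Lib.Helper8.FEqA2
import Groth.Agent.Lib.Helper8.CMPoly1

/-!
# Local rings of polynomial rings over formally equidimensional local rings
-/

set_option autoImplicit false
universe u

namespace Groth.Agent.Helper8.FormEq

open IsLocalRing

theorem isPrime_map_C {D : Type u} [CommRing D] (σ : Type) (p : Ideal D) [p.IsPrime] :
    (p.map (MvPolynomial.C : D →+* MvPolynomial σ D)).IsPrime := by
  rw [← Ideal.Quotient.isDomain_iff_prime]
  haveI : IsDomain (D ⧸ p) := Ideal.Quotient.isDomain p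
  exact (MvPolynomial.quotientEquivQuotientMvPolynomial (σ := σ) p).symm.toMulEquiv.isDomain _

section

variable (R : Type u) [CommRing R] [IsLocalRing R] [IsNoetherianRing R] (n : ℕ)
  (𝔐 : Ideal (MvPolynomial (Fin n) R)) [𝔐.IsPrime]
  (h𝔐 : 𝔐.comap (MvPolynomial.C : R →+* MvPolynomial (Fin n) R) = maximalIdeal R)

include h𝔐 in
theorem isLocalHom_algebraMap_localization :
    IsLocalHom (algebraMap R (Localization.AtPrime 𝔐)) := by
  refine ⟨fun x hx => ?_⟩
  rw [IsScalarTower.algebraMap_apply R (MvPolynomial (Fin n) R) (Localization.AtPrime 𝔐)] at hx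
  have h1 : algebraMap R (MvPolynomial (Fin n) R) x ∉ 𝔐 := by
    intro hmem
    have := (IsLocalization.AtPrime.isUnit_to_map_iff (Localization.AtPrime 𝔐) 𝔐 _).mp hx
    exact this hmem
  have h2 : x ∉ maximalIdeal R := by
    rw [← h𝔐]
    exact h1
  by_contra hnu
  exact h2 ((IsLocalRing.mem_maximalIdeal x).mpr hnu)

theorem flat_algebraMap_localization : Module.Flat R (Localization.AtPrime 𝔐) :=
  Module.Flat.trans R (MvPolynomial (Fin n) R) (Localization.AtPrime 𝔐)

include h𝔐 in
theorem isEquidim_mvPolynomial_localization (heq : EGA4.IsEquidim R) :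
    EGA4.IsEquidim (Localization.AtPrime 𝔐) := by
  haveI := isLocalHom_algebraMap_localization R n 𝔐 h𝔐
  haveI := flat_algebraMap_localization R n 𝔐
  have key : ∀ 𝔔 ∈ minimalPrimes (Localization.AtPrime 𝔐),
      ringKrullDim (Localization.AtPrime 𝔐 ⧸ 𝔔) = ringKrullDim R +
        ringKrullDim (Localization.AtPrime 𝔐 ⧸
          (maximalIdeal R).map (algebraMap R (Localization.AtPrime 𝔐))) := by
    intro 𝔔 h𝔔
    haveI : 𝔔.IsPrime := h𝔔.1.1
    have hpmin : 𝔔.under R ∈ minimalPrimes R := FC.under_mem_minimalPrimes 𝔔 h𝔔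
    set p := 𝔔.under R with hp
    haveI : p.IsPrime := hpmin.1.1
    have hpC : (p.map (algebraMap R (Localization.AtPrime 𝔐))).IsPrime := by
      rw [IsScalarTower.algebraMap_eq R (MvPolynomial (Fin n) R) (Localization.AtPrime 𝔐),
        ← Ideal.map_map]
      haveI := isPrime_map_C (Fin n) p
      refine IsLocalization.isPrime_of_isPrime_disjoint 𝔐.primeCompl _ _
        (isPrime_map_C (Fin n) p) ?_
      rw [Ideal.primeCompl, Submonoid.coe_set_mk, Subsemigroup.coe_set_mk,
        Set.disjoint_compl_left_iff_subset]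
      have : p.map (MvPolynomial.C : R →+* MvPolynomial (Fin n) R) ≤ 𝔐 := by
        rw [Ideal.map_le_iff_le_comap, h𝔐]
        exact IsLocalRing.le_maximalIdeal (Ideal.IsPrime.ne_top inferInstance)
      exact this
    have hle : p.map (algebraMap R (Localization.AtPrime 𝔐)) ≤ 𝔔 := Ideal.map_comap_le
    have heq𝔔 : 𝔔 = p.map (algebraMap R (Localization.AtPrime 𝔐)) :=
      le_antisymm (h𝔔.2 ⟨hpC, bot_le⟩ hle) hle
    have h1 := Equidim.ringKrullDim_quot_map_eq R (Localization.AtPrime 𝔐) p
      (Ideal.IsPrime.ne_top inferInstance)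
    rw [heq p hpmin] at h1
    rw [← h1]
    exact ringKrullDim_eq_of_ringEquiv (Ideal.quotEquivOfEq heq𝔔)
  apply FC.isEquidim_of_forall_eq'
  intro 𝔔₁ h₁ 𝔔₂ h₂
  rw [key 𝔔₁ h₁, key 𝔔₂ h₂]

end

section complete

variable (R : Type u) [CommRing R] [IsLocalRing R] [IsNoetherianRing R] (n : ℕ)
  (𝔐 : Ideal (MvPolynomial (Fin n) R)) [𝔐.IsPrime]
  (h𝔐 : 𝔐.comap (MvPolynomial.C : R →+* MvPolynomial (Fin n) R) = maximalIdeal R)

theorem isCohenMacaulayRing_of_isRegularLocalRing (S : Type u) [CommRing S]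
    [IsRegularLocalRing S] : LocCoh.IsCohenMacaulayRing S where
  isCohenMacaulayLocalRing_localization p _ := by
    haveI : IsRegularLocalRing (Localization.AtPrime p) := Groth.Agent.S0564.result S p
    exact FlatReg.isCohenMacaulayLocalRing_of_isRegularLocalRing (Localization.AtPrime p)

include h𝔐 in
theorem isFormallyEquidim_mvPolynomial_localization_of_complete
    [IsAdicComplete (maximalIdeal R) R] (heq : EGA4.IsEquidim R) :
    EGA4.IsFormallyEquidim (Localization.AtPrime 𝔐) := by
  obtain ⟨S, _, hreg, f, hf⟩ := CatCM.exists_surjective_of_complete R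
  have hSCM : LocCoh.IsCohenMacaulayRing (MvPolynomial (Fin n) S) :=
    CMPoly.isCohenMacaulayRing_mvPolynomial S (isCohenMacaulayRing_of_isRegularLocalRing S) n
  haveI : (𝔐.comap (MvPolynomial.map f)).IsPrime := Ideal.comap_isPrime _ 𝔐
  have hCM := hSCM.isCohenMacaulayLocalRing_localization (𝔐.comap (MvPolynomial.map f))
  have hsurj := RingHom.surjective_localRingHom_of_surjective (MvPolynomial.map f)
    (MvPolynomial.map_surjective f hf) 𝔐
  haveI : IsNoetherianRing S := inferInstance
  haveI : IsNoetherianRing (MvPolynomial (Fin n) S) := inferInstance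
  exact isFormallyEquidim_of_surjective_of_isEquidim
    (Localization.AtPrime (𝔐.comap (MvPolynomial.map f))) hCM
    (Localization.AtPrime 𝔐) _ hsurj (isEquidim_mvPolynomial_localization R n 𝔐 h𝔐 heq)

end complete

section general

attribute [local instance] MvPolynomial.algebraMvPolynomial

theorem faithfullyFlat_mvPolynomial (E S : Type u) [CommRing E] [CommRing S] [Algebra E S]
    [Module.FaithfullyFlat E S] (σ : Type) :
    Module.FaithfullyFlat (MvPolynomial σ E) (MvPolynomial σ S) :=
  Module.FaithfullyFlat.of_linearEquiv _ _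
    (Algebra.IsPushout.equiv E (MvPolynomial σ E) S (MvPolynomial σ S)).symm.toLinearEquiv

variable (D : Type u) [CommRing D] [IsLocalRing D] [IsNoetherianRing D] (n : ℕ)
  (𝔐 : Ideal (MvPolynomial (Fin n) D)) [𝔐.IsPrime]
  (h𝔐 : 𝔐.comap (MvPolynomial.C : D →+* MvPolynomial (Fin n) D) = maximalIdeal D)

include h𝔐 in
/-- **Local rings of polynomial rings over a formally equidimensional local ring, at primes
above the maximal ideal, are formally equidimensional.** -/
theorem isFormallyEquidim_mvPolynomial_localization (h : EGA4.IsFormallyEquidim D) :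
    EGA4.IsFormallyEquidim (Localization.AtPrime 𝔐) := by
  haveI : IsNoetherianRing (EGA4.Cpl D) := AdicReg.isNoetherianRing D _
  haveI : Module.FaithfullyFlat D (EGA4.Cpl D) := Module.FaithfullyFlat.of_flat_of_isLocalHom
  haveI := faithfullyFlat_mvPolynomial D (EGA4.Cpl D) (Fin n)
  obtain ⟨Q, hQ⟩ := PrimeSpectrum.comap_surjective_of_faithfullyFlat
    (A := MvPolynomial (Fin n) D) (B := MvPolynomial (Fin n) (EGA4.Cpl D)) ⟨𝔐, inferInstance⟩
  have hQ' : Q.asIdeal.comap (algebraMap (MvPolynomial (Fin n) D)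
      (MvPolynomial (Fin n) (EGA4.Cpl D))) = 𝔐 := congrArg PrimeSpectrum.asIdeal hQ
  haveI : Q.asIdeal.LiesOver 𝔐 := ⟨hQ'.symm⟩
  -- `Q` lies over the maximal ideal of the completion
  have hQm : Q.asIdeal.comap (MvPolynomial.C : EGA4.Cpl D →+* MvPolynomial (Fin n) (EGA4.Cpl D)) =
      maximalIdeal (EGA4.Cpl D) := by
    haveI : (Q.asIdeal.comap
        (MvPolynomial.C : EGA4.Cpl D →+* MvPolynomial (Fin n) (EGA4.Cpl D))).IsPrime :=
      Ideal.comap_isPrime _ _
    refine ((maximalIdeal.isMaximal (EGA4.Cpl D)).eq_of_le (Ideal.IsPrime.ne_top inferInstance)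
      ?_).symm
    rw [AdicCompletion.maximalIdeal_eq_map (R := D), Ideal.map_le_iff_le_comap]
    intro d hd
    have h1 : (MvPolynomial.C d : MvPolynomial (Fin n) D) ∈ 𝔐 := by
      rw [← h𝔐] at hd
      exact hd
    rw [← hQ'] at h1
    have h2 : algebraMap (MvPolynomial (Fin n) D) (MvPolynomial (Fin n) (EGA4.Cpl D))
        (MvPolynomial.C d) = MvPolynomial.C (algebraMap D (EGA4.Cpl D) d) := by
      rw [MvPolynomial.algebraMap_def, MvPolynomial.map_C]
    change MvPolynomial.C (algebraMap D (EGA4.Cpl D) d) ∈ Q.asIdeal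
    rw [← h2]
    exact h1
  letI := Localization.AtPrime.algebraOfLiesOver 𝔐 Q.asIdeal
  haveI : IsLocalHom (algebraMap (Localization.AtPrime 𝔐) (Localization.AtPrime Q.asIdeal)) := by
    rw [RingHom.algebraMap_toAlgebra]
    exact Localization.isLocalHom_localRingHom 𝔐 Q.asIdeal _ Ideal.LiesOver.over
  have hC := isFormallyEquidim_mvPolynomial_localization_of_complete (EGA4.Cpl D) n Q.asIdeal
    hQm h
  exact isFormallyEquidim_of_flat_local (Localization.AtPrime 𝔐)
    (Localization.AtPrime Q.asIdeal) hC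

end general

end Groth.Agent.Helper8.FormEq
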