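import Mathlib
import Groth.Prelude
import Groth.Agent.Lib.Helper8.FEqA3

/-!
# Local domains essentially of finite type over a formally equidimensional local ring
-/

set_option autoImplicit false
universe u

namespace Groth.Agent.Helper8.FormEq

open IsLocalRing

theorem isFormallyEquidim_of_ringEquiv {E E' : Type u} [CommRing E] [CommRing E']
    [IsNoetherianRing E] [IsLocalRing E] [IsNoetherianRing E'] [IsLocalRing E'] (e : E ≃+* E')
    (h : EGA4.IsFormallyEquidim E') : EGA4.IsFormallyEquidim E := by
  letI : Algebra E E' := e.toRingHom.toAlgebra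
  haveI : Module.Flat E E' := by
    let l : E ≃ₗ[E] E' :=
      { e with
        map_smul' := fun r x => by
          change e (r * x) = e r * e x
          exact map_mul e r x }
    exact Module.Flat.of_linearEquiv l.symm
  haveI : IsLocalHom (algebraMap E E') := by
    refine ⟨fun x hx => ?_⟩
    have h1 : IsUnit (e x) := hx
    have h2 := h1.map e.symm.toRingHom
    simpa using h2
  exact isFormallyEquidim_of_flat_local E E' h

theorem isEquidim_of_isDomain (E : Type u) [CommRing E] [IsDomain E] : EGA4.IsEquidim E := by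
  intro q hq
  rw [IsDomain.minimalPrimes_eq_singleton_bot, Set.mem_singleton_iff] at hq
  subst hq
  exact ringKrullDim_eq_of_ringEquiv (RingEquiv.quotientBot E)

section claim

variable (D : Type u) [CommRing D] [IsNoetherianRing D] [IsLocalRing D]
  (E : Type u) [CommRing E] [IsNoetherianRing E] [IsLocalRing E] [IsDomain E]
  [Algebra D E] [IsLocalHom (algebraMap D E)] [Algebra.EssFiniteType D E]

theorem isFormallyEquidim_of_essFiniteType_local (h : EGA4.IsFormallyEquidim D) :
    EGA4.IsFormallyEquidim E := by
  classical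
  -- the finite type subalgebra
  let E₀ := Algebra.EssFiniteType.subalgebra D E
  let M := Algebra.EssFiniteType.submonoid D E
  haveI : IsLocalization M E := Algebra.EssFiniteType.isLocalization D E
  obtain ⟨n, ψ, hψ⟩ := Algebra.FiniteType.iff_quotient_mvPolynomial''.mp
    (inferInstance : Algebra.FiniteType D E₀)
  -- the composite `D[X] → E`
  let φ : MvPolynomial (Fin n) D →+* E := (algebraMap E₀ E).comp ψ.toRingHom
  let 𝔐 : Ideal (MvPolynomial (Fin n) D) := (maximalIdeal E).comap φ
  haveI : 𝔐.IsPrime := Ideal.comap_isPrime φ _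
  have h𝔐 : 𝔐.comap (MvPolynomial.C : D →+* MvPolynomial (Fin n) D) = maximalIdeal D := by
    ext x
    rw [Ideal.mem_comap, Ideal.mem_comap]
    have h1 : φ (MvPolynomial.C x) = algebraMap D E x := by
      change algebraMap E₀ E (ψ (MvPolynomial.C x)) = _
      rw [← MvPolynomial.algebraMap_eq, ψ.commutes]
      rfl
    rw [h1]
    constructor
    · intro hx
      by_contra hx'
      have hu : IsUnit x := by
        by_contra hnu
        exact hx' ((IsLocalRing.mem_maximalIdeal x).mpr hnu)
      exact ((IsLocalRing.mem_maximalIdeal _).mp hx) (hu.map (algebraMap D E))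
    · intro hx
      rw [IsLocalRing.mem_maximalIdeal, mem_nonunits_iff] at hx ⊢
      intro hu
      exact hx (isUnit_of_map_unit (algebraMap D E) x hu)
  have hF := isFormallyEquidim_mvPolynomial_localization D n 𝔐 h𝔐 h
  -- the map `F → E`
  have hunits : ∀ y : 𝔐.primeCompl, IsUnit (φ y) := by
    intro y
    by_contra hnu
    exact y.2 ((IsLocalRing.mem_maximalIdeal _).mpr hnu)
  let g : Localization.AtPrime 𝔐 →+* E := IsLocalization.lift (M := 𝔐.primeCompl) hunits
  have hg : Function.Surjective g := by
    intro e
    obtain ⟨⟨a, s⟩, has⟩ := IsLocalization.surj M e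
    obtain ⟨a', ha'⟩ := hψ a
    obtain ⟨s', hs'⟩ := hψ s.1
    have hsu : IsUnit (algebraMap E₀ E s.1) := s.2
    have hs'M : s' ∈ 𝔐.primeCompl := by
      intro hmem
      have h2 : φ s' ∈ maximalIdeal E := hmem
      have h3 : φ s' = algebraMap E₀ E s.1 := by
        change algebraMap E₀ E (ψ s') = _
        rw [hs']
      rw [h3] at h2
      exact ((IsLocalRing.mem_maximalIdeal _).mp h2) hsu
    refine ⟨IsLocalization.mk' (Localization.AtPrime 𝔐) a' ⟨s', hs'M⟩, ?_⟩
    change IsLocalization.lift (M := 𝔐.primeCompl) hunits _ = e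
    rw [IsLocalization.lift_mk'_spec]
    change φ a' = φ s' * e
    have h4 : φ a' = algebraMap E₀ E a := by
      change algebraMap E₀ E (ψ a') = _
      rw [ha']
    have h5 : φ s' = algebraMap E₀ E s.1 := by
      change algebraMap E₀ E (ψ s') = _
      rw [hs']
    rw [h4, h5, mul_comm]
    exact has.symm
  -- the quotient
  let e : (Localization.AtPrime 𝔐 ⧸ RingHom.ker g) ≃+* E :=
    RingHom.quotientKerEquivOfSurjective hg
  haveI : IsDomain (Localization.AtPrime 𝔐 ⧸ RingHom.ker g) := e.toMulEquiv.isDomain _
  haveI : Nontrivial (Localization.AtPrime 𝔐 ⧸ RingHom.ker g) := inferInstance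
  have h6 : EGA4.IsFormallyEquidim (Localization.AtPrime 𝔐 ⧸ RingHom.ker g) :=
    (Equidim.isEquidim_quot_iff_isFormallyEquidim (Localization.AtPrime 𝔐) hF
      (RingHom.ker g)).mp (isEquidim_of_isDomain _)
  exact isFormallyEquidim_of_ringEquiv e.symm h6

end claim

end Groth.Agent.Helper8.FormEq
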