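import Mathlib
import Groth.Prelude
import Groth.Agent.Lib.Helper8.FEqA4
import Groth.Agent.Lib.Helper4.Catenary1

/-!
# Formally catenary local rings are universally catenary
-/

set_option autoImplicit false
universe u

namespace Groth.Agent.Helper8.FormEq

open IsLocalRing

section main

variable (A : Type u) [CommRing A] [IsNoetherianRing A] [IsLocalRing A]

theorem isFormallyEquidim_domain_of_essFiniteType (hA : EGA4.IsFormallyCatenary A)
    (E : Type u) [CommRing E] [IsNoetherianRing E]
    [IsLocalRing E] [IsDomain E] [Algebra A E] [Algebra.EssFiniteType A E] :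
    EGA4.IsFormallyEquidim E := by
  haveI : (RingHom.ker (algebraMap A E)).IsPrime := RingHom.ker_isPrime _
  have hD : EGA4.IsFormallyEquidim (A ⧸ RingHom.ker (algebraMap A E)) :=
    hA (RingHom.ker (algebraMap A E))
  letI : Algebra (A ⧸ RingHom.ker (algebraMap A E)) E :=
    (RingHom.kerLift (algebraMap A E)).toAlgebra
  haveI : IsScalarTower A (A ⧸ RingHom.ker (algebraMap A E)) E :=
    IsScalarTower.of_algebraMap_eq fun a => rfl
  set D := A ⧸ RingHom.ker (algebraMap A E) with hDdef
  let q : Ideal D := (maximalIdeal E).comap (algebraMap D E)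
  haveI : q.IsPrime := Ideal.comap_isPrime _ _
  have hD' : EGA4.IsFormallyEquidim (Localization.AtPrime q) :=
    isFormallyEquidim_localization D hD q
  have hunits : ∀ y : q.primeCompl, IsUnit (algebraMap D E y) := by
    intro y
    by_contra hnu
    exact y.2 ((IsLocalRing.mem_maximalIdeal _).mpr hnu)
  letI : Algebra (Localization.AtPrime q) E :=
    (IsLocalization.lift (M := q.primeCompl) hunits).toAlgebra
  haveI : IsScalarTower D (Localization.AtPrime q) E :=
    IsScalarTower.of_algebraMap_eq fun d => (IsLocalization.lift_eq hunits d).symm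
  haveI : IsScalarTower A (Localization.AtPrime q) E :=
    IsScalarTower.of_algebraMap_eq fun a => by
      rw [IsScalarTower.algebraMap_apply A D (Localization.AtPrime q),
        ← IsScalarTower.algebraMap_apply D (Localization.AtPrime q) E,
        ← IsScalarTower.algebraMap_apply A D E]
  haveI : IsLocalHom (algebraMap (Localization.AtPrime q) E) := by
    refine ⟨fun x hx => ?_⟩
    obtain ⟨a, s, rfl⟩ := IsLocalization.exists_mk'_eq q.primeCompl x
    have h1 : algebraMap (Localization.AtPrime q) E (IsLocalization.mk' _ a s) *
        algebraMap D E s = algebraMap D E a := by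
      rw [IsScalarTower.algebraMap_apply D (Localization.AtPrime q) E, ← map_mul,
        IsLocalization.mk'_spec, ← IsScalarTower.algebraMap_apply]
    have h2 : IsUnit (algebraMap D E a) := by
      rw [← h1]
      exact hx.mul (hunits s)
    have h3 : a ∈ q.primeCompl := by
      intro hmem
      exact ((IsLocalRing.mem_maximalIdeal _).mp hmem) h2
    exact (IsLocalization.AtPrime.isUnit_mk'_iff (Localization.AtPrime q) q a s).mpr h3
  haveI : Algebra.EssFiniteType (Localization.AtPrime q) E :=
    Algebra.EssFiniteType.of_comp A (Localization.AtPrime q) E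
  exact isFormallyEquidim_of_essFiniteType_local (Localization.AtPrime q) E hD'

/-- **S2634.** -/
theorem isFormallyEquidim_of_essFiniteType (hA : EGA4.IsFormallyCatenary A)
    (B : Type u) [CommRing B] [IsNoetherianRing B] [IsLocalRing B] [Algebra A B]
    [Algebra.EssFiniteType A B] (hB : EGA4.IsEquidim B) : EGA4.IsFormallyEquidim B := by
  rw [FC.isFormallyEquidim_iff_minimalPrimes]
  refine ⟨hB, fun p _ _ => ?_⟩
  haveI : IsDomain (B ⧸ p) := Ideal.Quotient.isDomain p
  exact isFormallyEquidim_domain_of_essFiniteType A hA (B ⧸ p)

end main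

end Groth.Agent.Helper8.FormEq
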