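import Mathlib
import Groth.Prelude
import Groth.Agent.Lib.Helper8.FEqA5

/-!
# Formally catenary local rings are universally catenary
-/

set_option autoImplicit false
universe u

namespace Groth.Agent.Helper8.FormEq

open IsLocalRing

/-- **S2636.** -/
theorem isUniversallyCatenary_of_isFormallyCatenary (A : Type u) [CommRing A]
    [IsNoetherianRing A] [IsLocalRing A] (hA : EGA4.IsFormallyCatenary A) :
    CAlg.IsUniversallyCatenary A := by
  refine ⟨inferInstance, fun C _ _ hC => ?_⟩
  haveI : Algebra.FiniteType A C := hC
  haveI : IsNoetherianRing C := Algebra.FiniteType.isNoetherianRing A C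
  rw [Groth.Agent.Lib.Helper4.Catenary1.S0552_main]
  intro m hm
  rw [Helper5.Caten.isCatenary_iff_minimalPrimes]
  intro p hp
  haveI : p.IsPrime := hp.1.1
  haveI : IsDomain (Localization.AtPrime m ⧸ p) := Ideal.Quotient.isDomain p
  have hfe : EGA4.IsFormallyEquidim (Localization.AtPrime m ⧸ p) :=
    isFormallyEquidim_domain_of_essFiniteType A hA (Localization.AtPrime m ⧸ p)
  exact (Equidim.isEquidim_and_isCatenary_of_isFormallyEquidim _ hfe).2

end Groth.Agent.Helper8.FormEq
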