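import Mathlib
import Groth.Prelude
import Groth.Agent.S12236
import Groth.Agent.S12237
import Groth.Agent.Lib.Helper5.WEt.Basic
import Groth.Agent.Lib.Helper6.IndEtWeakly

/-!
# Henselizations are weakly étale; flatness of modules over them
-/

set_option autoImplicit false

universe u

namespace Groth.Agent.Helper8.HensWE

open TensorProduct IsLocalRing

section

variable (R : Type u) [CommRing R] [IsLocalRing R]

theorem weaklyEtale_henselization (Rh : Type u) [CommRing Rh] [IsLocalRing Rh] [Algebra R Rh]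
    [IsLocalHom (algebraMap R Rh)] [Hensel.IsHenselization R Rh] : Algebra.WeaklyEtale R Rh :=
  Groth.Agent.Lib.Helper6.IndEt.weaklyEtale_of_isIndEtale R Rh (Groth.Agent.S12236.result R Rh)

theorem weaklyEtale_strictHenselization (Rsh : Type u) [CommRing Rsh] [IsLocalRing Rsh]
    [Algebra R Rsh] [IsLocalHom (algebraMap R Rsh)] [Hensel.IsStrictHenselization R Rsh] :
    Algebra.WeaklyEtale R Rsh :=
  Groth.Agent.Lib.Helper6.IndEt.weaklyEtale_of_isIndEtale R Rsh (Groth.Agent.S12237.result R Rsh)

/-- A module over a weakly étale algebra is flat over the algebra iff it is flat over the base. -/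
theorem flat_iff_of_weaklyEtale (B : Type u) [CommRing B] [Algebra R B] [Algebra.WeaklyEtale R B]
    (N : Type u) [AddCommGroup N] [Module B N] [Module R N] [IsScalarTower R B N] :
    Module.Flat R N ↔ Module.Flat B N :=
  ⟨fun _ => Helper5.WEt.flat_of_flat_lmul' R B (Algebra.WeaklyEtale.flat_lmul' R B) N,
    fun _ => Module.Flat.trans R B N⟩

variable (Ah Ash : Type u) [CommRing Ah] [IsLocalRing Ah] [CommRing Ash] [IsLocalRing Ash]
  [Algebra R Ah] [IsLocalHom (algebraMap R Ah)] [Hensel.IsHenselization R Ah]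
  [Algebra R Ash] [IsLocalHom (algebraMap R Ash)] [Hensel.IsStrictHenselization R Ash]
  [Algebra Ah Ash] [IsScalarTower R Ah Ash]

theorem flat_tfae
    (Msh : Type u) [AddCommGroup Msh] [Module Ash Msh] [Module Ah Msh] [Module R Msh]
    [IsScalarTower Ah Ash Msh] [IsScalarTower R Ash Msh] [IsScalarTower R Ah Msh]
    (Mh : Type u) [AddCommGroup Mh] [Module Ah Mh] [Module R Mh] [IsScalarTower R Ah Mh] :
    [Module.Flat R Msh, Module.Flat Ah Msh, Module.Flat Ash Msh].TFAE ∧
    (Module.Flat R Mh ↔ Module.Flat Ah Mh) := by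
  haveI := weaklyEtale_henselization R Ah
  haveI := weaklyEtale_strictHenselization R Ash
  haveI : Algebra.WeaklyEtale Ah Ash := Helper5.WEt.weaklyEtale_of_algHom R Ah Ash
  refine ⟨?_, flat_iff_of_weaklyEtale R Ah Mh⟩
  tfae_have 1 → 3 := fun h => (flat_iff_of_weaklyEtale R Ash Msh).mp h
  tfae_have 3 → 2 := fun h => (flat_iff_of_weaklyEtale Ah Ash Msh).mpr h
  tfae_have 2 → 1 := fun h => (flat_iff_of_weaklyEtale R Ah Msh).mpr h
  tfae_finish

end

end Groth.Agent.Helper8.HensWE
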