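import Mathlib
import Groth.Prelude
import Groth.Agent.Lib.Helper7.SHens.HensModel
import Groth.Agent.Lib.Helper7.SHens.Normal
import Groth.Agent.Lib.Helper8.HensWE1
import Groth.Agent.Lib.Helper8.IndCat1

/-!
# Finite stages of the henselization: flat local maps from local-étale algebras
-/

set_option autoImplicit false
universe u

namespace Groth.Agent.Helper8.HensAI

open IsLocalRing Groth.Agent.Helper7.SHens

section stage

variable (A : Type u) [CommRing A] [IsLocalRing A]
  (U : Nbhd A (ResidueField A))

theorem locMap_comp_algebraMap (a : A) :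
    locMap U (algebraMap A U.Loc a) = algebraMap A (HModel A) a := by
  rw [IsScalarTower.algebraMap_apply A U.Ring U.Loc, locMap_algebraMap, ι_algebraMap]

theorem isLocalHom_locMap : IsLocalHom (locMap U) := by
  refine ⟨fun x hx => ?_⟩
  obtain ⟨a, s, rfl⟩ := IsLocalization.exists_mk'_eq U.q.primeCompl x
  have h1 : locMap U (IsLocalization.mk' U.Loc a s) * ι U s = ι U a := by
    rw [← locMap_algebraMap, ← map_mul, IsLocalization.mk'_spec, locMap_algebraMap]
  have h2 : IsUnit (ι U a) := by
    rw [← h1]
    exact hx.mul (isUnit_ι_of_not_mem U s s.2)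
  have h3 : a ∈ U.q.primeCompl := by
    intro hmem
    have h4 := (isUnit_iff_σ_ne_zero (R := A) (K := ResidueField A) (ι U a)).mp h2
    rw [σ_ι] at h4
    exact h4 hmem
  exact (IsLocalization.AtPrime.isUnit_mk'_iff U.Loc U.q a s).mpr h3

theorem flat_locMap : (locMap U).Flat := by
  haveI := isHenselization_HModel A
  haveI := Groth.Agent.Helper8.HensWE.weaklyEtale_henselization A (HModel A)
  letI : Algebra U.Ring (HModel A) := (ιAlg U).toRingHom.toAlgebra
  haveI : IsScalarTower A U.Ring (HModel A) :=
    IsScalarTower.of_algebraMap_eq fun a => ((ιAlg U).commutes a).symm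
  haveI : Algebra.WeaklyEtale U.Ring (HModel A) :=
    Helper5.WEt.weaklyEtale_of_algHom A U.Ring (HModel A)
  letI : Algebra U.Loc (HModel A) := (locMap U).toAlgebra
  haveI : IsScalarTower U.Ring U.Loc (HModel A) :=
    IsScalarTower.of_algebraMap_eq fun x => (locMap_algebraMap U x).symm
  exact (Module.flat_iff_of_isLocalization U.Loc U.q.primeCompl (HModel A)).mpr inferInstance

end stage

section descent

variable (A : Type u) [CommRing A] [IsLocalRing A]

/-- Every finitely generated ideal of the henselization is extended from its contraction to a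
finite stage. -/
theorem exists_stage_map_comap_eq (P : Ideal (HModel A)) (hP : P.FG) :
    ∃ U : Nbhd A (ResidueField A), (P.comap (locMap U)).map (locMap U) = P := by
  classical
  obtain ⟨F, hF⟩ := hP
  obtain ⟨U, -, x, hx⟩ := exists_rep_fin (Nbhd.base A (ResidueField A))
    (fun i : Fin F.card => ((F.equivFin.symm i : F) : HModel A))
  refine ⟨U, IndCat.map_comap_eq_of_subset_range (locMap U) P (F : Set (HModel A)) hF ?_⟩
  intro s hs
  refine ⟨algebraMap U.Ring U.Loc (x (F.equivFin ⟨s, hs⟩)), ?_⟩
  rw [locMap_algebraMap, hx]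
  simp

end descent

end Groth.Agent.Helper8.HensAI
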