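import Mathlib
import Groth.Prelude
import Groth.Agent.Lib.Helper8.HensAI1
import Groth.Agent.Lib.Helper8.HensUB1
import Groth.Agent.Lib.Helper8.UB1
import Groth.Agent.Lib.Helper8.CplIso1
import Groth.Agent.Lib.Helper8.Equidim3
import Groth.Agent.S0505

/-!
# Quotients of the henselization of a local ring with geometrically normal formal fibres are
analytically irreducible
-/

set_option autoImplicit false
universe u

namespace Groth.Agent.Helper8.HensAI

open IsLocalRing TensorProduct

/-- A local domain with a faithfully flat henselian local domain over it is unibranch. -/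
theorem isLocalRing_integralClosure_of_faithfullyFlat (A S : Type u) [CommRing A] [IsDomain A]
    [IsLocalRing A] [CommRing S] [Algebra A S] [Module.FaithfullyFlat A S]
    [HenselianLocalRing S] [IsDomain S] :
    IsLocalRing (integralClosure A (FractionRing A)) := by
  have hAS : Function.Injective (algebraMap A S) := FaithfulSMul.algebraMap_injective A S
  have hM : Algebra.algebraMapSubmonoid S (nonZeroDivisors A) ≤ nonZeroDivisors S := by
    rintro _ ⟨a, ha, rfl⟩
    refine mem_nonZeroDivisors_of_ne_zero ?_
    rw [Ne, map_eq_zero_iff _ hAS]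
    exact nonZeroDivisors.ne_zero ha
  haveI : IsDomain (S ⊗[A] (FractionRing A)) :=
    IsLocalization.isDomain_of_le_nonZeroDivisors (R := S) (S ⊗[A] (FractionRing A)) hM
  have hinj : Function.Injective
      (Algebra.TensorProduct.map (AlgHom.id A S) ((integralClosure A (FractionRing A)).val)) :=
    Module.Flat.lTensor_preserves_injective_linearMap
      ((integralClosure A (FractionRing A)).val.toLinearMap) Subtype.val_injective
  haveI : IsDomain (S ⊗[A] (integralClosure A (FractionRing A))) :=
    hinj.isDomain (Algebra.TensorProduct.map (AlgHom.id A S)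
      ((integralClosure A (FractionRing A)).val)).toRingHom
  haveI : IsLocalRing (S ⊗[A] (integralClosure A (FractionRing A))) :=
    Groth.Agent.Helper7.Hensel.isLocalRing_of_isIntegral_domain S _
  haveI : IsLocalRing ((integralClosure A (FractionRing A)) ⊗[A] S) :=
    (Algebra.TensorProduct.comm A S (integralClosure A (FractionRing A))).toRingEquiv.isLocalRing
  exact Groth.Agent.Helper8.UB.isLocalRing_of_faithfullyFlat
    (integralClosure A (FractionRing A)) ((integralClosure A (FractionRing A)) ⊗[A] S)

section KL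

variable (B T : Type u) [CommRing B] [IsNoetherianRing B] [IsLocalRing B]
  [CommRing T] [IsNoetherianRing T] [HenselianLocalRing T] [Algebra B T] [Module.Flat B T]
  [IsLocalHom (algebraMap B T)]

theorem isDomain_cpl_quotient_map (hB : EGA4.HasGeomNormalFormalFibres B)
    (hmap : (maximalIdeal B).map (algebraMap B T) = maximalIdeal T)
    (hres : ∀ t : T, ∃ b : B, t - algebraMap B T b ∈ maximalIdeal T)
    (q : Ideal B) [q.IsPrime] [(q.map (algebraMap B T)).IsPrime] :
    IsDomain (EGA4.Cpl (T ⧸ q.map (algebraMap B T))) := by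
  haveI : IsDomain (B ⧸ q) := Ideal.Quotient.isDomain q
  haveI : IsDomain (T ⧸ q.map (algebraMap B T)) := Ideal.Quotient.isDomain _
  haveI : Module.Flat (B ⧸ q) (T ⧸ q.map (algebraMap B T)) := Equidim.flat_quot B T q
  haveI : IsLocalHom (algebraMap (B ⧸ q) (T ⧸ q.map (algebraMap B T))) :=
    Equidim.isLocalHom_quot B T q
  haveI : Module.FaithfullyFlat (B ⧸ q) (T ⧸ q.map (algebraMap B T)) :=
    Module.FaithfullyFlat.of_flat_of_isLocalHom
  have hD : EGA4.HasGeomNormalFormalFibres (B ⧸ q) :=
    Groth.Agent.Helper8.EssFT.hasGeomNormalFormalFibres_of_essFiniteType B hB (B ⧸ q)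
  haveI : HenselianLocalRing (T ⧸ q.map (algebraMap B T)) :=
    Groth.Agent.S0505.result T (T ⧸ q.map (algebraMap B T))
  have hloc := isLocalRing_integralClosure_of_faithfullyFlat (B ⧸ q)
    (T ⧸ q.map (algebraMap B T))
  haveI : IsDomain (EGA4.Cpl (B ⧸ q)) := UB.isDomain_cpl_of_isLocalRing (B ⧸ q) hD hloc
  have hmap' : (maximalIdeal (B ⧸ q)).map (algebraMap (B ⧸ q) (T ⧸ q.map (algebraMap B T))) =
      maximalIdeal (T ⧸ q.map (algebraMap B T)) := by
    rw [← map_maximalIdeal_of_surjective (Ideal.Quotient.mk q) Ideal.Quotient.mk_surjective,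
      ← map_maximalIdeal_of_surjective (Ideal.Quotient.mk (q.map (algebraMap B T)))
        Ideal.Quotient.mk_surjective, ← hmap, Ideal.map_map, Ideal.map_map]
    rfl
  have hres' : ∀ t : T ⧸ q.map (algebraMap B T), ∃ b : B ⧸ q,
      t - algebraMap (B ⧸ q) (T ⧸ q.map (algebraMap B T)) b ∈
        maximalIdeal (T ⧸ q.map (algebraMap B T)) := by
    intro t
    obtain ⟨t, rfl⟩ := Ideal.Quotient.mk_surjective t
    obtain ⟨b, hb⟩ := hres t
    refine ⟨Ideal.Quotient.mk q b, ?_⟩
    have h1 : algebraMap (B ⧸ q) (T ⧸ q.map (algebraMap B T)) (Ideal.Quotient.mk q b) =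
        Ideal.Quotient.mk (q.map (algebraMap B T)) (algebraMap B T b) := rfl
    rw [h1, ← map_sub,
      ← map_maximalIdeal_of_surjective (Ideal.Quotient.mk (q.map (algebraMap B T)))
        Ideal.Quotient.mk_surjective]
    exact Ideal.mem_map_of_mem _ hb
  exact (CplIso.cplEquiv (B ⧸ q) (T ⧸ q.map (algebraMap B T)) hmap' hres').symm.toMulEquiv.isDomain _

end KL

end Groth.Agent.Helper8.HensAI
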