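import Mathlib
import Groth.Prelude
import Groth.Agent.Lib.Helper8.HensAI2
import Groth.Agent.Lib.Helper8.FEqA6
import Groth.Agent.S0511

/-!
# The henselization of a local ring with geometrically normal formal fibres is universally catenary
-/

set_option autoImplicit false
universe u

namespace Groth.Agent.Helper8.HensAI

open IsLocalRing TensorProduct Groth.Agent.Helper7.SHens

section model

variable (A : Type u) [CommRing A] [IsLocalRing A] [IsNoetherianRing A]

theorem isDomain_cpl_quotient_HModel (hA : EGA4.HasGeomNormalFormalFibres A)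
    (P : Ideal (HModel A)) [P.IsPrime] : IsDomain (EGA4.Cpl (HModel A ⧸ P)) := by
  haveI := isHenselization_HModel A
  haveI : IsNoetherianRing (HModel A) := (Groth.Agent.S0511.result A (HModel A)).mp inferInstance
  haveI : HenselianLocalRing (HModel A) := Hensel.IsHenselization.henselian A
  obtain ⟨U, hU⟩ := exists_stage_map_comap_eq A P (IsNoetherian.noetherian P)
  letI : Algebra U.Loc (HModel A) := (locMap U).toAlgebra
  haveI : Module.Flat U.Loc (HModel A) := flat_locMap A U
  haveI : IsLocalHom (algebraMap U.Loc (HModel A)) := isLocalHom_locMap A U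
  haveI : IsNoetherianRing U.Ring := Algebra.FiniteType.isNoetherianRing A U.Ring
  haveI : IsNoetherianRing U.Loc := inferInstance
  have hB : EGA4.HasGeomNormalFormalFibres U.Loc :=
    Groth.Agent.Helper8.EssFT.hasGeomNormalFormalFibres_of_essFiniteType A hA U.Loc
  haveI : IsScalarTower A U.Loc (HModel A) :=
    IsScalarTower.of_algebraMap_eq fun a => (locMap_comp_algebraMap A U a).symm
  have hmap : (maximalIdeal U.Loc).map (algebraMap U.Loc (HModel A)) =
      maximalIdeal (HModel A) := by
    apply le_antisymm
    · exact ((IsLocalRing.local_hom_TFAE (algebraMap U.Loc (HModel A))).out 0 2 rfl rfl).mp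
        inferInstance
    · rw [← map_maximalIdeal_G A (ResidueField A),
        IsScalarTower.algebraMap_eq A U.Loc (HModel A), ← Ideal.map_map]
      apply Ideal.map_mono
      rw [Ideal.map_le_iff_le_comap]
      intro a ha
      rw [Ideal.mem_comap, IsLocalRing.mem_maximalIdeal, mem_nonunits_iff] at *
      intro hu
      have h1 := hu.map (algebraMap U.Loc (HModel A))
      rw [← IsScalarTower.algebraMap_apply] at h1
      exact ha (isUnit_of_map_unit (algebraMap A (HModel A)) a h1)
  have hres : ∀ t : HModel A, ∃ b : U.Loc,
      t - algebraMap U.Loc (HModel A) b ∈ maximalIdeal (HModel A) := by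
    intro t
    obtain ⟨x, hx⟩ := residueField_map_HModel_surjective A (residue _ t)
    obtain ⟨a, rfl⟩ := residue_surjective x
    refine ⟨algebraMap A U.Loc a, ?_⟩
    rw [← IsScalarTower.algebraMap_apply, ← residue_eq_zero_iff, map_sub, sub_eq_zero, ← hx]
    rfl
  haveI : (P.comap (locMap U)).IsPrime := Ideal.comap_isPrime _ _
  have key : ∀ (J : Ideal (HModel A)) [J.IsPrime],
      J = (P.comap (locMap U)).map (algebraMap U.Loc (HModel A)) →
      IsDomain (EGA4.Cpl (HModel A ⧸ J)) := by
    intro J hJ hJq
    subst hJq
    exact isDomain_cpl_quotient_map U.Loc (HModel A) hB hmap hres (P.comap (locMap U))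
  exact key P hU.symm

end model

section abstract

variable (A S : Type u) [CommRing A] [IsLocalRing A] [IsNoetherianRing A] [CommRing S]
  [IsLocalRing S] [Algebra A S] [IsLocalHom (algebraMap A S)] [Hensel.IsHenselization A S]

theorem isFormallyCatenary_henselization (hA : EGA4.HasGeomNormalFormalFibres A) :
    EGA4.IsFormallyCatenary S := by
  intro P _
  haveI := isHenselization_HModel A
  haveI : IsNoetherianRing (HModel A) := (Groth.Agent.S0511.result A (HModel A)).mp inferInstance
  haveI : IsNoetherianRing S := (Groth.Agent.S0511.result A S).mp inferInstance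
  obtain ⟨e⟩ := nonempty_algEquiv_HModel A S
  haveI : (P.map (e.toRingEquiv : S →+* HModel A)).IsPrime :=
    Ideal.map_isPrime_of_equiv e.toRingEquiv
  haveI := isDomain_cpl_quotient_HModel A hA (P.map (e.toRingEquiv : S →+* HModel A))
  have hfe : EGA4.IsFormallyEquidim (HModel A ⧸ P.map (e.toRingEquiv : S →+* HModel A)) :=
    FormEq.isEquidim_of_isDomain _
  exact FormEq.isFormallyEquidim_of_ringEquiv
    (Ideal.quotientEquiv P (P.map (e.toRingEquiv : S →+* HModel A)) e.toRingEquiv rfl) hfe

theorem isUniversallyCatenary_henselization_of_geomNormal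
    (hA : EGA4.HasGeomNormalFormalFibres A) : CAlg.IsUniversallyCatenary S := by
  haveI : IsNoetherianRing S := (Groth.Agent.S0511.result A S).mp inferInstance
  exact FormEq.isUniversallyCatenary_of_isFormallyCatenary S
    (isFormallyCatenary_henselization A S hA)

end abstract

end Groth.Agent.Helper8.HensAI
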