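import Mathlib
import Groth.Prelude
import Groth.Agent.Lib.Helper8.HensAI3
import Groth.Agent.Lib.Helper8.GRing7
import Groth.Agent.Lib.Helper4.DimEq2

/-!
# The henselization of a universally catenary local domain is equidimensional
-/

set_option autoImplicit false
universe u

namespace Groth.Agent.Helper8.HensEq

open IsLocalRing TensorProduct Groth.Agent.Helper7.SHens

section alg

/-- A quasi-finite injective extension of domains is algebraic. -/
theorem isAlgebraic_of_quasiFinite (R T : Type u) [CommRing R] [IsDomain R] [CommRing T]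
    [IsDomain T] [Algebra R T] [FaithfulSMul R T] [Algebra.QuasiFinite R T] :
    Algebra.IsAlgebraic R T := by
  refine ⟨fun t => ?_⟩
  haveI : Algebra.QuasiFinite (FractionRing R) (FractionRing R ⊗[R] T) := inferInstance
  haveI : Module.Finite (FractionRing R) (FractionRing R ⊗[R] T) := Module.Finite.of_quasiFinite
  have h1 : IsIntegral (FractionRing R) ((1 : FractionRing R) ⊗ₜ[R] t) :=
    Algebra.IsIntegral.isIntegral _
  have h2 : IsAlgebraic (FractionRing R) ((1 : FractionRing R) ⊗ₜ[R] t) := h1.isAlgebraic
  have h3 : IsAlgebraic R ((1 : FractionRing R) ⊗ₜ[R] t) :=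
    (IsFractionRing.isAlgebraic_iff R (FractionRing R) _).mpr h2
  have hinj : Function.Injective
      (Algebra.TensorProduct.includeRight : T →ₐ[R] FractionRing R ⊗[R] T) := by
    rw [injective_iff_map_eq_zero]
    intro x hx
    have h4 : (TensorProduct.mk R (FractionRing R) T 1) x = 0 := hx
    rw [IsLocalizedModule.eq_zero_iff (nonZeroDivisors R)] at h4
    obtain ⟨c, hc⟩ := h4
    rw [Submonoid.smul_def, Algebra.smul_def] at hc
    rcases mul_eq_zero.mp hc with h5 | h5
    · exact absurd ((FaithfulSMul.algebraMap_injective R T) (h5.trans (map_zero _).symm))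
        (nonZeroDivisors.coe_ne_zero c)
    · exact h5
  exact (isAlgebraic_algHom_iff _ hinj).mp h3

end alg

section flatdim

variable (A A' : Type u) [CommRing A] [CommRing A'] [IsNoetherianRing A] [IsNoetherianRing A']
  [IsLocalRing A] [IsLocalRing A'] [Algebra A A'] [IsLocalHom (algebraMap A A')] [Module.Flat A A']

theorem ringKrullDim_fibre_eq_zero
    (hm : (maximalIdeal A).map (algebraMap A A') = maximalIdeal A') :
    ringKrullDim (A' ⧸ (maximalIdeal A).map (algebraMap A A')) = 0 := by
  rw [hm]
  exact ringKrullDim_eq_zero_of_isField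
    ((Ideal.Quotient.maximal_ideal_iff_isField_quotient _).mp inferInstance)

theorem ringKrullDim_quot_map_eq' (hm : (maximalIdeal A).map (algebraMap A A') = maximalIdeal A')
    (I : Ideal A) (hI : I ≠ ⊤) :
    ringKrullDim (A' ⧸ I.map (algebraMap A A')) = ringKrullDim (A ⧸ I) := by
  rw [Equidim.ringKrullDim_quot_map_eq A A' I hI, ringKrullDim_fibre_eq_zero A A' hm, add_zero]

theorem ringKrullDim_eq' (hm : (maximalIdeal A).map (algebraMap A A') = maximalIdeal A') :
    ringKrullDim A' = ringKrullDim A := by
  rw [FlatReg.ringKrullDim_eq_add_of_flat A A', ringKrullDim_fibre_eq_zero A A' hm, add_zero]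

end flatdim

section stage

variable (A : Type u) [CommRing A] [IsLocalRing A] (U : Nbhd A (ResidueField A))

theorem map_maximalIdeal_locMap :
    (maximalIdeal U.Loc).map (locMap U) = maximalIdeal (HModel A) := by
  haveI : IsLocalHom (locMap U) := HensAI.isLocalHom_locMap A U
  apply le_antisymm
  · exact ((IsLocalRing.local_hom_TFAE (locMap U)).out 0 2 rfl rfl).mp inferInstance
  · rw [← map_maximalIdeal_G A (ResidueField A)]
    have h1 : algebraMap A (HModel A) = (locMap U).comp (algebraMap A U.Loc) :=
      RingHom.ext fun a => (HensAI.locMap_comp_algebraMap A U a).symm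
    rw [h1, ← Ideal.map_map]
    apply Ideal.map_mono
    rw [Ideal.map_le_iff_le_comap]
    intro a ha
    rw [Ideal.mem_comap, IsLocalRing.mem_maximalIdeal, mem_nonunits_iff] at *
    intro hu
    have h2 := hu.map (locMap U)
    rw [HensAI.locMap_comp_algebraMap] at h2
    exact ha (isUnit_of_map_unit (algebraMap A (HModel A)) a h2)

instance liesOver_q : U.q.LiesOver (maximalIdeal A) := by
  refine ⟨?_⟩
  ext a
  rw [Ideal.mem_comap, Nbhd.mem_q, AlgHom.commutes]
  exact (residue_eq_zero_iff a).symm

theorem algebraMap_quotient_q_surjective :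
    Function.Surjective (algebraMap (A ⧸ maximalIdeal A) (U.Ring ⧸ U.q)) := by
  intro y
  obtain ⟨x, rfl⟩ := Ideal.Quotient.mk_surjective y
  obtain ⟨a, ha⟩ := residue_surjective (U.sec x)
  refine ⟨Ideal.Quotient.mk _ a, ?_⟩
  rw [Ideal.Quotient.algebraMap_mk_of_liesOver, Ideal.Quotient.eq, Nbhd.mem_q, map_sub,
    AlgHom.commutes, sub_eq_zero]
  exact ha

end stage

section main

variable (A : Type u) [CommRing A] [IsLocalRing A] [IsNoetherianRing A] [IsDomain A]

theorem ringKrullDim_quotient_of_eq_bot (I : Ideal A) (hI : I = ⊥) :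
    ringKrullDim (A ⧸ I) = ringKrullDim A := by
  subst hI
  exact ringKrullDim_eq_of_ringEquiv (RingEquiv.quotientBot A)

theorem height_map_mk_maximalIdeal (I : Ideal A) (hI : I = ⊥) :
    (((maximalIdeal A).map (Ideal.Quotient.mk I)).height : WithBot ℕ∞) = ringKrullDim A := by
  have hne : I ≠ ⊤ := by rw [hI]; exact bot_ne_top
  haveI : Nontrivial (A ⧸ I) := Ideal.Quotient.nontrivial_iff.mpr hne
  have h1 : (maximalIdeal A).map (Ideal.Quotient.mk I) = maximalIdeal (A ⧸ I) := by
    rcases Ideal.map_eq_top_or_isMaximal_of_surjective (Ideal.Quotient.mk I)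
      Ideal.Quotient.mk_surjective (maximalIdeal.isMaximal A) with h | h
    · exfalso
      haveI := Equidim.isPrime_map_mk I (maximalIdeal A) (le_maximalIdeal hne)
      exact Ideal.IsPrime.ne_top inferInstance h
    · exact IsLocalRing.eq_maximalIdeal h
  rw [h1, IsLocalRing.maximalIdeal_height_eq_ringKrullDim, ringKrullDim_quotient_of_eq_bot A I hI]

theorem ringKrullDim_quotient_minimalPrime_HModel (hA : CAlg.IsUniversallyCatenary A)
    (P : Ideal (HModel A)) (hP : P ∈ minimalPrimes (HModel A)) :
    ringKrullDim (HModel A ⧸ P) = ringKrullDim A := by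
  haveI := isHenselization_HModel A
  haveI : IsNoetherianRing (HModel A) := (Groth.Agent.S0511.result A (HModel A)).mp inferInstance
  haveI : P.IsPrime := hP.1.1
  obtain ⟨U, hU⟩ := HensAI.exists_stage_map_comap_eq A P (IsNoetherian.noetherian P)
  letI : Algebra U.Loc (HModel A) := (locMap U).toAlgebra
  haveI : Module.Flat U.Loc (HModel A) := HensAI.flat_locMap A U
  haveI : IsLocalHom (algebraMap U.Loc (HModel A)) := HensAI.isLocalHom_locMap A U
  haveI : IsNoetherianRing U.Ring := Algebra.FiniteType.isNoetherianRing A U.Ring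
  haveI : IsNoetherianRing U.Loc := inferInstance
  have hmap : (maximalIdeal U.Loc).map (algebraMap U.Loc (HModel A)) = maximalIdeal (HModel A) :=
    map_maximalIdeal_locMap A U
  haveI hP₀ : (P.comap (locMap U)).IsPrime := Ideal.comap_isPrime _ _
  -- Step 1
  have h1 : ringKrullDim (HModel A ⧸ P) = ringKrullDim (U.Loc ⧸ P.comap (locMap U)) := by
    have key : ∀ J : Ideal (HModel A),
        J = (P.comap (locMap U)).map (algebraMap U.Loc (HModel A)) →
        ringKrullDim (HModel A ⧸ J) = ringKrullDim (U.Loc ⧸ P.comap (locMap U)) := by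
      intro J hJ
      subst hJ
      exact ringKrullDim_quot_map_eq' U.Loc (HModel A) hmap _ (Ideal.IsPrime.ne_top inferInstance)
    exact key P hU.symm
  -- Step 2
  have hle : (P.comap (locMap U)).under U.Ring ≤ U.q := GRing.under_le U.Ring U.q _
  haveI : ((P.comap (locMap U)).under U.Ring).IsPrime := Ideal.comap_isPrime _ _
  haveI hp'prime := Equidim.isPrime_map_mk _ U.q hle
  have hp' := Equidim.comap_map_mk _ U.q hle
  haveI := GRing.isLocalization_quotient U.Ring U.q (P.comap (locMap U))
    (U.q.map (Ideal.Quotient.mk ((P.comap (locMap U)).under U.Ring))) hp'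
  have h2 : ringKrullDim (U.Loc ⧸ P.comap (locMap U)) =
      ((U.q.map (Ideal.Quotient.mk ((P.comap (locMap U)).under U.Ring))).height : WithBot ℕ∞) :=
    IsLocalization.AtPrime.ringKrullDim_eq_height
      (U.q.map (Ideal.Quotient.mk ((P.comap (locMap U)).under U.Ring))) _
  -- Step 3
  have hUC := Groth.Agent.Lib.Helper4.DimEq1.uc_of_isUniversallyCatenary A hA
  have h3 := Groth.Agent.Lib.Helper4.DimEq2.dim_eq_rel A U.Ring hUC (maximalIdeal A) U.q
    ((P.comap (locMap U)).under U.Ring) hle
  haveI : Algebra.IsAlgebraic (A ⧸ maximalIdeal A) (U.Ring ⧸ U.q) := by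
    haveI := Algebra.isIntegral_of_surjective (algebraMap_quotient_q_surjective A U)
    exact Algebra.IsIntegral.isAlgebraic
  haveI : (((P.comap (locMap U)).under U.Ring).under A).IsPrime := Ideal.comap_isPrime _ _
  haveI : Algebra.QuasiFinite (A ⧸ ((P.comap (locMap U)).under U.Ring).under A)
      (U.Ring ⧸ (P.comap (locMap U)).under U.Ring) :=
    Algebra.QuasiFinite.of_restrictScalars A _ _
  haveI : Algebra.IsAlgebraic (A ⧸ ((P.comap (locMap U)).under U.Ring).under A)
      (U.Ring ⧸ (P.comap (locMap U)).under U.Ring) := isAlgebraic_of_quasiFinite _ _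
  rw [_root_.trdeg_eq_zero, _root_.trdeg_eq_zero, add_zero, add_zero, Cardinal.ofENat_inj] at h3
  -- Step 4
  have hbot : ((P.comap (locMap U)).under U.Ring).under A = ⊥ := by
    haveI : Module.Flat A (HModel A) := Groth.Agent.Helper7.Hens.flat_of_isHenselization A (HModel A)
    have h4 : P.under A ∈ minimalPrimes A := FC.under_mem_minimalPrimes P hP
    rw [IsDomain.minimalPrimes_eq_singleton_bot, Set.mem_singleton_iff] at h4
    rw [← h4]
    ext a
    simp only [Ideal.under, Ideal.mem_comap]
    rw [← IsScalarTower.algebraMap_apply A U.Ring U.Loc, HensAI.locMap_comp_algebraMap]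
  rw [h1, h2, h3]
  exact height_map_mk_maximalIdeal A _ hbot

/-- The henselization of a universally catenary Noetherian local domain is equidimensional. -/
theorem isEquidim_HModel (hA : CAlg.IsUniversallyCatenary A) : EGA4.IsEquidim (HModel A) := by
  haveI := isHenselization_HModel A
  haveI : IsNoetherianRing (HModel A) := (Groth.Agent.S0511.result A (HModel A)).mp inferInstance
  haveI : Module.Flat A (HModel A) := Groth.Agent.Helper7.Hens.flat_of_isHenselization A (HModel A)
  intro P hP
  rw [ringKrullDim_quotient_minimalPrime_HModel A hA P hP,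
    ringKrullDim_eq' A (HModel A) (map_maximalIdeal_G A (ResidueField A))]

end main

end Groth.Agent.Helper8.HensEq
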