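import Mathlib
import Groth.Prelude
import Groth.Agent.Lib.Helper8.HensFC1
import Groth.Agent.Lib.Helper7.SHens.Dim
import Groth.Agent.Lib.Helper8.CplSurj1
import Groth.Agent.Lib.Helper8.CplIso1
import Groth.Agent.S0507
import Groth.Agent.S0508
import Groth.Agent.S0511

/-!
# The henselization of a formally (strictly) catenary Noetherian local ring
-/

set_option autoImplicit false
universe u

namespace Groth.Agent.Helper8.HensFC

open IsLocalRing TensorProduct

theorem isEquidim_of_ringEquiv {A B : Type u} [CommRing A] [CommRing B] (e : A ≃+* B)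
    (h : EGA4.IsEquidim A) : EGA4.IsEquidim B := by
  intro p hp
  have hp' : p.comap (e : A →+* B) ∈ minimalPrimes A := by
    have h1 := Ideal.comap_minimalPrimes_eq_of_surjective (f := (e : A →+* B)) e.surjective ⊥
    have h2 : (⊥ : Ideal B).comap (e : A →+* B) = ⊥ := by
      rw [← RingHom.ker_eq_comap_bot]
      exact (RingHom.injective_iff_ker_eq_bot _).mp e.injective
    rw [h2] at h1
    change _ ∈ (⊥ : Ideal A).minimalPrimes
    rw [h1]
    exact ⟨p, hp, rfl⟩
  rw [← ringKrullDim_eq_of_ringEquiv e, ← h _ hp']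
  exact (ringKrullDim_eq_of_ringEquiv (Ideal.quotientEquiv (p.comap (e : A →+* B)) p e
    (Ideal.map_comap_of_surjective (e : A →+* B) e.surjective p).symm)).symm

theorem isStrictlyEquidim_of_ringEquiv {A B : Type u} [CommRing A] [CommRing B] (e : A ≃+* B)
    (h : EGA4.IsStrictlyEquidim A) : EGA4.IsStrictlyEquidim B := by
  intro p hp
  have hp' : p.comap (e : A →+* B) ∈ associatedPrimes A A := by
    obtain ⟨hpp, x, hx⟩ := hp
    refine ⟨Ideal.comap_isPrime _ _, e.symm x, ?_⟩
    ext a
    rw [Ideal.mem_comap, hx, Ideal.mem_radical_iff, Ideal.mem_radical_iff]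
    refine exists_congr fun n => ?_
    rw [Submodule.mem_colon_singleton, Submodule.mem_colon_singleton, Submodule.mem_bot,
      Submodule.mem_bot, smul_eq_mul, smul_eq_mul]
    constructor
    · intro h1
      apply e.injective
      rw [map_mul, map_pow, map_zero, RingEquiv.apply_symm_apply]
      exact h1
    · intro h1
      have := congrArg e h1
      rwa [map_mul, map_pow, map_zero, RingEquiv.apply_symm_apply] at this
  rw [← ringKrullDim_eq_of_ringEquiv e, ← h _ hp']
  exact (ringKrullDim_eq_of_ringEquiv (Ideal.quotientEquiv (p.comap (e : A →+* B)) p e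
    (Ideal.map_comap_of_surjective (e : A →+* B) e.surjective p).symm)).symm

section tower

variable {R S T : Type*} [CommRing R] [CommRing S] [CommRing T] [Algebra R S] [Algebra S T]
  [Algebra R T] [IsScalarTower R S T]

omit [Algebra R S] [Algebra R T] [CommRing R] [IsScalarTower R S T] in
theorem under_eq_of_mem_minimalPrimes_map [Algebra.HasGoingDown S T] (P : Ideal S) [P.IsPrime]
    (q : Ideal T) (hq : q ∈ (P.map (algebraMap S T)).minimalPrimes) : q.under S = P := by
  haveI := hq.1.1
  have hle : P ≤ q.under S := Ideal.le_comap_of_map_le hq.1.2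
  obtain ⟨Q, hQq, hQprime, hQlo⟩ :=
    Ideal.exists_ideal_le_liesOver_of_le (p := P) (q := q.under S) q hle
  have h1 : q ≤ Q := hq.2 ⟨hQprime, by
    rw [Ideal.map_le_iff_le_comap]; exact hQlo.over.le⟩ hQq
  have h2 : Q = q := le_antisymm hQq h1
  subst h2
  exact hQlo.over.symm

theorem minimalPrimes_map_subset [Algebra.HasGoingDown S T]
    (hfib : ∀ (P Q : Ideal S) [P.IsPrime] [Q.IsPrime], P ≤ Q → P.under R = Q.under R → P = Q)
    (P : Ideal S) [P.IsPrime] :
    (P.map (algebraMap S T)).minimalPrimes ⊆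
      ((P.under R).map (algebraMap R T)).minimalPrimes := by
  intro q hq
  haveI := hq.1.1
  have hqP : q.under S = P := under_eq_of_mem_minimalPrimes_map P q hq
  have hIJ : (P.under R).map (algebraMap R T) ≤ P.map (algebraMap S T) := by
    rw [IsScalarTower.algebraMap_eq R S T, ← Ideal.map_map]
    exact Ideal.map_mono Ideal.map_comap_le
  refine ⟨⟨hq.1.1, hIJ.trans hq.1.2⟩, ?_⟩
  rintro q' ⟨hq'prime, hIq'⟩ hle
  haveI := hq'prime
  have h1 : q'.under S ≤ P := by
    rw [← hqP]
    exact Ideal.comap_mono hle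
  have h2 : (q'.under S).under R = P.under R := by
    apply le_antisymm (Ideal.comap_mono h1)
    have h4 : P.under R ≤ q'.under R := Ideal.le_comap_of_map_le hIq'
    rw [← Ideal.under_under (A := R) (B := S) q'] at h4
    exact h4
  have h3 : q'.under S = P := hfib _ _ h1 h2
  apply hq.2 ⟨hq'prime, ?_⟩ hle
  rw [Ideal.map_le_iff_le_comap, ← h3]

end tower

section hens

variable (R S : Type u) [CommRing R] [IsLocalRing R]
  [CommRing S] [IsLocalRing S] [Algebra R S] [IsLocalHom (algebraMap R S)]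
  [Hensel.IsHenselization R S]

theorem eq_of_le_of_under_eq (P Q : Ideal S) [P.IsPrime] [Q.IsPrime] (h : P ≤ Q)
    (hu : P.under R = Q.under R) : P = Q := by
  obtain ⟨e⟩ := Groth.Agent.Helper7.Hens.nonempty_algEquiv_H_of_isHenselization R S
  refine Groth.Agent.Helper7.SHens.eq_of_le_of_under_eq_of_forall_exists_quasiFinite.{u}
    (A := R) (B := S) ?_ P Q h hu
  intro b
  obtain ⟨U, x, hx⟩ := Groth.Agent.Helper7.Hens.exists_rep (e b)
  refine ⟨U.Ring, inferInstance, inferInstance, inferInstance,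
    (e.symm : _ →ₐ[R] S).comp (Groth.Agent.Helper7.Hens.ιAlg U), x, ?_⟩
  change e.symm (Groth.Agent.Helper7.Hens.ι U x) = b
  rw [hx, AlgEquiv.symm_apply_apply]

end hens

theorem associatedPrimes_quotient_map_subset {S T : Type u} [CommRing S] [CommRing T]
    [Algebra S T] [Module.Flat S T] [IsNoetherianRing S] {I₀ P : Ideal S}
    (hP : P ∈ I₀.minimalPrimes) :
    associatedPrimes T (T ⧸ P.map (algebraMap S T)) ⊆
      associatedPrimes T (T ⧸ I₀.map (algebraMap S T)) := by
  have h1 : P ∈ associatedPrimes S (S ⧸ I₀) := by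
    apply Module.associatedPrimes.minimalPrimes_annihilator_subset_associatedPrimes S (S ⧸ I₀)
    rwa [Ideal.annihilator_quotient]
  obtain ⟨_, f, hf⟩ := (isAssociatedPrime_iff_exists_injective_linearMap P (S ⧸ I₀)).mp h1
  let eP := Algebra.TensorProduct.quotIdealMapEquivTensorQuot T P
  let eI := Algebra.TensorProduct.quotIdealMapEquivTensorQuot T I₀
  let g : (T ⧸ P.map (algebraMap S T)) →ₗ[T] (T ⧸ I₀.map (algebraMap S T)) :=
    eI.symm.toLinearMap ∘ₗ (f.baseChange T) ∘ₗ eP.toLinearMap
  have hb : Function.Injective (f.baseChange T) := by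
    rw [LinearMap.baseChange_eq_ltensor]
    exact Module.Flat.lTensor_preserves_injective_linearMap f hf
  have hg : Function.Injective g := eI.symm.injective.comp (hb.comp eP.injective)
  exact associatedPrimes.subset_of_injective hg

section cpl

variable (A : Type u) [CommRing A] [IsLocalRing A] [IsNoetherianRing A]

/-- `(A/P)^ ≃ Â / PÂ`. -/
noncomputable def cplQuotEquiv (P : Ideal A) [P.IsPrime] :
    (EGA4.Cpl A ⧸ P.map (algebraMap A (EGA4.Cpl A))) ≃+* EGA4.Cpl (A ⧸ P) :=
  (Ideal.quotEquivOfEq (by rw [Ideal.Quotient.algebraMap_eq, Ideal.mk_ker])).trans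
    (CplSurj.quotEquiv (A := A) (B := A ⧸ P) Ideal.Quotient.mk_surjective).toRingEquiv

end cpl

section hens

variable (R S : Type u) [CommRing R] [IsLocalRing R] [IsNoetherianRing R]
  [CommRing S] [IsLocalRing S] [Algebra R S] [IsLocalHom (algebraMap R S)]
  [Hensel.IsHenselization R S]

omit [IsNoetherianRing R] in
theorem exists_sub_mem (b : S) : ∃ a : R, b - algebraMap R S a ∈ maximalIdeal S := by
  obtain ⟨x, hx⟩ := (Groth.Agent.S0508.result R S).2 (residue S b)
  obtain ⟨a, rfl⟩ := residue_surjective x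
  refine ⟨a, ?_⟩
  rw [← residue_eq_zero_iff, map_sub, sub_eq_zero, ← hx]
  rfl

/-- `(R/p)^ ≃ Ŝ / pŜ`. -/
theorem nonempty_cplQuotEquivHens [IsNoetherianRing S] (p : Ideal R) [p.IsPrime] :
    Nonempty ((EGA4.Cpl S ⧸ p.map (algebraMap R (EGA4.Cpl S))) ≃+* EGA4.Cpl (R ⧸ p)) := by
  haveI : Module.Flat R S := Groth.Agent.Helper7.Hens.flat_of_isHenselization R S
  let e := CplIso.cplEquiv R S (Groth.Agent.S0507.result R S) (exists_sub_mem R S)
  have he : p.map (algebraMap R (EGA4.Cpl S)) =
      (p.map (algebraMap R (EGA4.Cpl R))).map (e.toRingEquiv : EGA4.Cpl R →+* EGA4.Cpl S) := by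
    rw [Ideal.map_map]
    congr 1
  exact ⟨(Ideal.quotientEquiv _ _ e.toRingEquiv he).symm.trans (cplQuotEquiv R p)⟩

end hens

section main

variable (R S : Type u) [CommRing R] [IsLocalRing R] [IsNoetherianRing R]
  [CommRing S] [IsLocalRing S] [Algebra R S] [IsLocalHom (algebraMap R S)]
  [Hensel.IsHenselization R S]

theorem isEquidim_cpl_quotient (P : Ideal S) [P.IsPrime]
    (h : EGA4.IsEquidim (EGA4.Cpl (R ⧸ P.under R))) :
    EGA4.IsEquidim (EGA4.Cpl (S ⧸ P)) := by
  haveI : IsNoetherianRing S := (Groth.Agent.S0511.result R S).mp inferInstance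
  obtain ⟨e1⟩ := nonempty_cplQuotEquivHens R S (P.under R)
  have h1 : EGA4.IsEquidim (EGA4.Cpl S ⧸ (P.under R).map (algebraMap R (EGA4.Cpl S))) :=
    isEquidim_of_ringEquiv e1.symm h
  have hIJ : (P.under R).map (algebraMap R (EGA4.Cpl S)) ≤
      P.map (algebraMap S (EGA4.Cpl S)) := by
    rw [IsScalarTower.algebraMap_eq R S (EGA4.Cpl S), ← Ideal.map_map]
    exact Ideal.map_mono Ideal.map_comap_le
  have hmin := minimalPrimes_map_subset (R := R) (S := S) (T := EGA4.Cpl S)
    (fun P Q _ _ => eq_of_le_of_under_eq R S P Q) P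
  exact isEquidim_of_ringEquiv (cplQuotEquiv S P) (isEquidim_quotient_of_le hIJ hmin h1)

theorem mem_minimalPrimes_map_under (P : Ideal S) [P.IsPrime] :
    P ∈ ((P.under R).map (algebraMap R S)).minimalPrimes := by
  refine ⟨⟨inferInstance, Ideal.map_comap_le⟩, ?_⟩
  rintro Q ⟨hQ, hle⟩ hQP
  haveI := hQ
  have h2 : Q.under R = P.under R :=
    le_antisymm (Ideal.comap_mono hQP) (Ideal.le_comap_of_map_le hle)
  exact (eq_of_le_of_under_eq R S Q P hQP h2).ge

theorem isStrictlyEquidim_cpl_quotient (P : Ideal S) [P.IsPrime]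
    (h : EGA4.IsStrictlyEquidim (EGA4.Cpl (R ⧸ P.under R))) :
    EGA4.IsStrictlyEquidim (EGA4.Cpl (S ⧸ P)) := by
  haveI : IsNoetherianRing S := (Groth.Agent.S0511.result R S).mp inferInstance
  obtain ⟨e1⟩ := nonempty_cplQuotEquivHens R S (P.under R)
  have h1 : EGA4.IsStrictlyEquidim
      (EGA4.Cpl S ⧸ (P.under R).map (algebraMap R (EGA4.Cpl S))) :=
    isStrictlyEquidim_of_ringEquiv e1.symm h
  have hI : (P.under R).map (algebraMap R (EGA4.Cpl S)) =
      ((P.under R).map (algebraMap R S)).map (algebraMap S (EGA4.Cpl S)) := by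
    rw [IsScalarTower.algebraMap_eq R S (EGA4.Cpl S), ← Ideal.map_map]
  have hIJ : (P.under R).map (algebraMap R (EGA4.Cpl S)) ≤
      P.map (algebraMap S (EGA4.Cpl S)) := by
    rw [hI]
    exact Ideal.map_mono Ideal.map_comap_le
  have hass := associatedPrimes_quotient_map_subset (S := S) (T := EGA4.Cpl S)
    (mem_minimalPrimes_map_under R S P)
  rw [← hI] at hass
  exact isStrictlyEquidim_of_ringEquiv (cplQuotEquiv S P)
    (isStrictlyEquidim_quotient_of_le hIJ hass h1)

end main

end Groth.Agent.Helper8.HensFC
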