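import Mathlib
import Groth.Prelude
import Groth.Agent.Lib.Helper8.HensEq1
import Groth.Agent.Lib.Helper8.Andre11
import Groth.Agent.Lib.Helper8.HensFC2

/-!
# Excellent local rings are formally catenary
-/

set_option autoImplicit false
universe u

namespace Groth.Agent.Helper8.HensEq

open IsLocalRing TensorProduct Groth.Agent.Helper7.SHens

/-- A finite type algebra over a universally catenary ring is universally catenary. -/
theorem isUniversallyCatenary_of_finiteType (R S : Type u) [CommRing R] [CommRing S] [Algebra R S]
    [Algebra.FiniteType R S] (hR : CAlg.IsUniversallyCatenary R) :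
    CAlg.IsUniversallyCatenary S := by
  haveI := hR.1
  refine ⟨Algebra.FiniteType.isNoetherianRing R S, fun T _ _ hT => ?_⟩
  letI : Algebra R T := ((algebraMap S T).comp (algebraMap R S)).toAlgebra
  haveI : IsScalarTower R S T := IsScalarTower.of_algebraMap_eq (fun _ => rfl)
  exact hR.2 T (Algebra.FiniteType.trans (S := S) inferInstance hT)

/-- A universally catenary Noetherian local domain with geometrically normal formal fibres is
formally equidimensional. -/
theorem isFormallyEquidim_of_isUniversallyCatenary_of_isDomain (D : Type u) [CommRing D]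
    [IsLocalRing D] [IsNoetherianRing D] [IsDomain D] (hUC : CAlg.IsUniversallyCatenary D)
    (hD : EGA4.HasGeomNormalFormalFibres D) : EGA4.IsFormallyEquidim D := by
  haveI := isHenselization_HModel D
  haveI : IsNoetherianRing (HModel D) := (Groth.Agent.S0511.result D (HModel D)).mp inferInstance
  haveI : Module.Flat D (HModel D) := Groth.Agent.Helper7.Hens.flat_of_isHenselization D (HModel D)
  have hfc : EGA4.IsFormallyCatenary (HModel D) :=
    HensAI.isFormallyCatenary_henselization D (HModel D) hD
  have heq : EGA4.IsEquidim (HModel D) := isEquidim_HModel D hUC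
  have hfe : EGA4.IsFormallyEquidim (HModel D) :=
    (FC.isFormallyEquidim_iff_minimalPrimes (HModel D)).mpr ⟨heq, fun p _ _ => hfc p⟩
  let e := CplIso.cplEquiv D (HModel D) (Groth.Agent.S0507.result D (HModel D))
    (HensFC.exists_sub_mem D (HModel D))
  exact FC.isEquidim_of_ringEquiv e.symm.toRingEquiv hfe

/-- A local G-ring has geometrically normal formal fibres. -/
theorem hasGeomNormalFormalFibres_of_isGRing (A : Type u) [CommRing A] [IsLocalRing A]
    (hA : CAlg.IsGRing A) : EGA4.HasGeomNormalFormalFibres A := by
  have h := Andre.isRegularHom_cpl_of_isGRing A hA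
  intro p _
  exact CompFib.isGeomNormal_of_isGeometricallyRegular _ _ (h.2 p).2

/-- A universally catenary Noetherian local ring with geometrically normal formal fibres is
formally catenary. -/
theorem isFormallyCatenary_of_isUniversallyCatenary_of_geomNormal (A : Type u) [CommRing A]
    [IsLocalRing A] [IsNoetherianRing A] (hUC : CAlg.IsUniversallyCatenary A)
    (hA : EGA4.HasGeomNormalFormalFibres A) : EGA4.IsFormallyCatenary A := by
  intro p _
  haveI : IsDomain (A ⧸ p) := Ideal.Quotient.isDomain p
  exact isFormallyEquidim_of_isUniversallyCatenary_of_isDomain (A ⧸ p)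
    (isUniversallyCatenary_of_finiteType A (A ⧸ p) hUC)
    (EssFT.hasGeomNormalFormalFibres_of_essFiniteType A hA (A ⧸ p))

/-- **S2655.** -/
theorem isFormallyCatenary_of_isExcellent (A : Type u) [CommRing A] [IsLocalRing A]
    (hA : EGA4.IsExcellent A) :
    EGA4.IsFormallyCatenary A ∧ (EGA4.IsEquidim A ↔ EGA4.IsEquidim (EGA4.Cpl A)) := by
  obtain ⟨hN, hUC, hG, -⟩ := hA
  haveI := hN
  have hfc : EGA4.IsFormallyCatenary A :=
    isFormallyCatenary_of_isUniversallyCatenary_of_geomNormal A hUC
      (hasGeomNormalFormalFibres_of_isGRing A hG)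
  refine ⟨hfc, ?_⟩
  have h := FC.isFormallyEquidim_iff_minimalPrimes A
  constructor
  · intro heq
    exact h.mpr ⟨heq, fun p _ _ => hfc p⟩
  · intro hfe
    exact (h.mp hfe).1

end Groth.Agent.Helper8.HensEq
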