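import Groth.Agent.Lib.Helper8.Ratliff2
import Groth.Agent.Lib.Helper8.Equidim5
import Groth.Agent.Lib.Helper8.HensEq2

/-!
# Ratliff's theorem: a universally catenary Noetherian local ring is formally catenary
-/

set_option autoImplicit false
set_option linter.unusedSectionVars false
set_option linter.style.haveILetI false
universe u

namespace Groth.Agent.Helper8.Ratliff

open IsLocalRing

section general

variable {R : Type*} [CommRing R]

/-- prime avoidance for a finite set of primes. -/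
theorem exists_mem_forall_notMem (I : Ideal R) (T : Set (Ideal R)) (hT : T.Finite)
    (hprime : ∀ p ∈ T, p.IsPrime) (hle : ∀ p ∈ T, ¬ I ≤ p) : ∃ x ∈ I, ∀ p ∈ T, x ∉ p := by
  classical
  by_contra hcon
  push_neg at hcon
  have hsub : (I : Set R) ⊆ ⋃ p ∈ (↑hT.toFinset : Set (Ideal R)), ((id p : Ideal R) : Set R) := by
    intro x hx
    obtain ⟨p, hp, hxp⟩ := hcon x hx
    simp only [Set.mem_iUnion]
    exact ⟨p, by simpa using hp, hxp⟩
  obtain ⟨p, hp, hIp⟩ := (Ideal.subset_union_prime (f := id) (⊥ : Ideal R) ⊥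
    (fun p hp _ _ => hprime p (hT.mem_toFinset.mp hp))).mp hsub
  exact hle p (hT.mem_toFinset.mp hp) hIp

/-- There is no prime strictly between `Q` and a minimal prime over `Q + (y)`. -/
theorem eq_or_eq_of_mem_minimalPrimes_sup_span [IsNoetherianRing R] (Q : Ideal R) [Q.IsPrime]
    (y : R) (P' : Ideal R) (hP' : P' ∈ (Q ⊔ Ideal.span {y}).minimalPrimes)
    (P₁ : Ideal R) [P₁.IsPrime] (h1 : Q ≤ P₁) (h2 : P₁ ≤ P') : P₁ = Q ∨ P₁ = P' := by
  have hcomap : (Ideal.span {Ideal.Quotient.mk Q y}).comap (Ideal.Quotient.mk Q) =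
      Q ⊔ Ideal.span {y} := by
    rw [← Set.image_singleton, ← Ideal.map_span,
      Ideal.comap_map_of_surjective _ Ideal.Quotient.mk_surjective, ← RingHom.ker_eq_comap_bot,
      Ideal.mk_ker, sup_comm]
  rw [← hcomap, Ideal.comap_minimalPrimes_eq_of_surjective Ideal.Quotient.mk_surjective] at hP'
  obtain ⟨Pbar, hPbar, rfl⟩ := hP'
  haveI : Pbar.IsPrime := hPbar.1.1
  have hht : Pbar.height ≤ 1 :=
    Ideal.height_le_one_of_isPrincipal_of_mem_minimalPrimes _ Pbar hPbar
  by_cases heq : P₁ = Pbar.comap (Ideal.Quotient.mk Q)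
  · exact Or.inr heq
  left
  haveI := Groth.Agent.Helper8.Equidim.isPrime_map_mk Q P₁ h1
  have hcm := Groth.Agent.Helper8.Equidim.comap_map_mk Q P₁ h1
  have hle : P₁.map (Ideal.Quotient.mk Q) ≤ Pbar := Ideal.map_le_iff_le_comap.mpr h2
  have hlt : P₁.map (Ideal.Quotient.mk Q) < Pbar := by
    refine lt_of_le_of_ne hle (fun h => heq ?_)
    rw [← h, hcm]
  haveI : Pbar.FiniteHeight := ⟨Or.inr (ne_top_of_le_ne_top (by simp) hht)⟩
  have h3 := Ideal.height_strict_mono_of_isPrime_of_isPrime hlt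
  have h4 : (P₁.map (Ideal.Quotient.mk Q)).height = 0 := by
    have := lt_of_lt_of_le h3 hht
    exact Order.lt_one_iff.mp this
  haveI : IsDomain (R ⧸ Q) := Ideal.Quotient.isDomain Q
  rw [Ideal.height_eq_zero_iff_eq_bot] at h4
  rw [← hcm, h4, ← RingHom.ker_eq_comap_bot, Ideal.mk_ker]

/-- `dim R/P' + 1 ≤ dim R/Q` for primes `Q < P'`. -/
theorem ringKrullDim_quotient_add_one_le (Q P' : Ideal R) [hQ : Q.IsPrime] [hP' : P'.IsPrime]
    (h : Q < P') : ringKrullDim (R ⧸ P') + 1 ≤ ringKrullDim (R ⧸ Q) := by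
  have h1 := Groth.Agent.Helper8.Hart.ringKrullDim_quotient_eq_coheight (⟨Q, hQ⟩ : PrimeSpectrum R)
  have h2 := Groth.Agent.Helper8.Hart.ringKrullDim_quotient_eq_coheight
    (⟨P', hP'⟩ : PrimeSpectrum R)
  change ringKrullDim (R ⧸ Q) = _ at h1
  change ringKrullDim (R ⧸ P') = _ at h2
  rw [h1, h2]
  have h3 : Order.coheight (⟨P', hP'⟩ : PrimeSpectrum R) + 1 ≤
      Order.coheight (⟨Q, hQ⟩ : PrimeSpectrum R) :=
    Order.coheight_add_one_le (show (⟨Q, hQ⟩ : PrimeSpectrum R) < ⟨P', hP'⟩ from h)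
  exact_mod_cast h3

end general

section step

variable (A : Type u) [CommRing A] [IsDomain A] [IsNoetherianRing A] [IsLocalRing A]

/-- the completion is Noetherian. -/
local instance instNoethCpl' : IsNoetherianRing (EGA4.Cpl A) :=
  Groth.Agent.Helper8.AdicReg.isNoetherianRing A _

/-- the completion is faithfully flat. -/
local instance instFFCpl' : Module.FaithfullyFlat A (EGA4.Cpl A) :=
  Module.FaithfullyFlat.of_flat_of_isLocalHom

theorem comap_minimalPrime_eq_bot (Q : Ideal (EGA4.Cpl A)) (hQ : Q ∈ minimalPrimes (EGA4.Cpl A)) :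
    Q.comap (algebraMap A (EGA4.Cpl A)) = ⊥ := by
  have h8 : Q.under A ∈ minimalPrimes A :=
    Groth.Agent.Helper8.FC.under_mem_minimalPrimes Q hQ
  rw [IsDomain.minimalPrimes_eq_singleton_bot, Set.mem_singleton_iff] at h8
  exact h8

/-- **The reduction step**: a height one prime `p'` of `A` and a minimal prime `P'` over `p'Â`
lying strictly above `Q`. -/
theorem exists_prime_of_not_hdim (Q : Ideal (EGA4.Cpl A)) (hQ : Q ∈ minimalPrimes (EGA4.Cpl A))
    (P₀ : Ideal (EGA4.Cpl A)) [hP₀ : P₀.IsPrime] (hQP₀ : Q ≤ P₀) (hP₀Q : P₀ ≠ Q)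
    (hP₀m : P₀ ≠ maximalIdeal (EGA4.Cpl A)) :
    ∃ (p' : Ideal A) (P' : Ideal (EGA4.Cpl A)), p'.IsPrime ∧ p'.height = 1 ∧
      P' ∈ (p'.map (algebraMap A (EGA4.Cpl A))).minimalPrimes ∧ Q < P' := by
  classical
  haveI hQprime : Q.IsPrime := hQ.1.1
  have hmR : maximalIdeal (EGA4.Cpl A) = (maximalIdeal A).map (algebraMap A (EGA4.Cpl A)) :=
    AdicCompletion.maximalIdeal_eq_map (R := A)
  -- the primes to avoid
  let F : Set (Ideal (EGA4.Cpl A)) := {P'' | P''.IsPrime ∧ P'' ≠ maximalIdeal (EGA4.Cpl A) ∧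
    ∃ Q' ∈ minimalPrimes (EGA4.Cpl A), Q' ≠ Q ∧ P'' ∈ (Q ⊔ Q').minimalPrimes}
  have hF : F.Finite := by
    refine ((minimalPrimes.finite_of_isNoetherianRing (EGA4.Cpl A)).biUnion
      (fun Q' _ => Ideal.finite_minimalPrimes_of_isNoetherianRing (EGA4.Cpl A) (Q ⊔ Q'))).subset ?_
    rintro P'' ⟨-, -, Q', hQ', -, h⟩
    exact Set.mem_biUnion hQ' h
  let T : Set (Ideal A) := insert ⊥ (Ideal.comap (algebraMap A (EGA4.Cpl A)) '' F)
  have hT : T.Finite := (hF.image _).insert _
  have hTprime : ∀ p ∈ T, p.IsPrime := by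
    rintro p (rfl | ⟨P'', hP'', rfl⟩)
    · exact Ideal.isPrime_bot
    · haveI := hP''.1
      exact Ideal.comap_isPrime _ _
  have hTle : ∀ p ∈ T, ¬ maximalIdeal A ≤ p := by
    rintro p (rfl | ⟨P'', hP'', rfl⟩) hle
    · apply hP₀m
      have h1 : P₀ ≤ maximalIdeal (EGA4.Cpl A) := IsLocalRing.le_maximalIdeal hP₀.ne_top
      have h2 : maximalIdeal (EGA4.Cpl A) = ⊥ := by
        rw [hmR, Ideal.map_eq_bot_iff_le_ker]
        exact hle.trans bot_le
      rw [h2] at h1 ⊢
      exact le_bot_iff.mp h1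
    · apply hP''.2.1
      haveI := hP''.1
      have h1 : maximalIdeal (EGA4.Cpl A) ≤ P'' := by
        rw [hmR]
        exact Ideal.map_le_iff_le_comap.mpr hle
      exact le_antisymm (IsLocalRing.le_maximalIdeal hP''.1.ne_top) h1
  obtain ⟨x, hxm, hxT⟩ := exists_mem_forall_notMem (maximalIdeal A) T hT hTprime hTle
  have hx0 : x ≠ 0 := fun h => hxT ⊥ (Set.mem_insert _ _) (h ▸ Ideal.zero_mem _)
  have hxF : ∀ P'' ∈ F, algebraMap A (EGA4.Cpl A) x ∉ P'' := fun P'' hP'' h =>
    hxT _ (Set.mem_insert_of_mem _ ⟨P'', hP'', rfl⟩) h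
  have hQbot := comap_minimalPrime_eq_bot A Q hQ
  have hyQ : algebraMap A (EGA4.Cpl A) x ∉ Q := by
    intro h
    have : x ∈ Q.comap (algebraMap A (EGA4.Cpl A)) := h
    rw [hQbot] at this
    exact hx0 this
  have hym : algebraMap A (EGA4.Cpl A) x ∈ maximalIdeal (EGA4.Cpl A) :=
    Setup.map_mem_maximalIdeal hxm
  have hne : Q ⊔ Ideal.span {algebraMap A (EGA4.Cpl A) x} ≠ ⊤ := by
    intro h
    have h1 : Q ⊔ Ideal.span {algebraMap A (EGA4.Cpl A) x} ≤ maximalIdeal (EGA4.Cpl A) :=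
      sup_le (IsLocalRing.le_maximalIdeal hQprime.ne_top)
        ((Ideal.span_singleton_le_iff_mem _).mpr hym)
    rw [h] at h1
    exact (maximalIdeal.isMaximal (EGA4.Cpl A)).ne_top (top_le_iff.mp h1)
  obtain ⟨P', hP'⟩ := Ideal.nonempty_minimalPrimes hne
  haveI hP'prime : P'.IsPrime := hP'.1.1
  have hQP' : Q ≤ P' := le_sup_left.trans hP'.1.2
  have hyP' : algebraMap A (EGA4.Cpl A) x ∈ P' :=
    hP'.1.2 (Ideal.mem_sup_right (Ideal.mem_span_singleton_self _))
  have hlt : Q < P' := lt_of_le_of_ne hQP' (fun h => hyQ (h ▸ hyP'))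
  have K := eq_or_eq_of_mem_minimalPrimes_sup_span Q _ P' hP'
  have K1 : P' ≠ maximalIdeal (EGA4.Cpl A) := by
    intro h
    rcases K P₀ hQP₀ (h ▸ IsLocalRing.le_maximalIdeal hP₀.ne_top) with h1 | h1
    · exact hP₀Q h1
    · exact hP₀m (h1.trans h)
  have K2 : ∀ Q' ∈ minimalPrimes (EGA4.Cpl A), Q' ≤ P' → Q' = Q := by
    intro Q' hQ' hQ'le
    by_contra hneq
    haveI : Q'.IsPrime := hQ'.1.1
    obtain ⟨P'', hP''min, hP''le⟩ := Ideal.exists_minimalPrimes_le (sup_le hQP' hQ'le)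
    haveI : P''.IsPrime := hP''min.1.1
    rcases K P'' (le_sup_left.trans hP''min.1.2) hP''le with h1 | h1
    · have h2 : Q' ≤ Q := h1 ▸ (le_sup_right.trans hP''min.1.2)
      exact hneq (le_antisymm h2 (hQ.2 ⟨inferInstance, bot_le⟩ h2))
    · exact hxF P' ⟨hP'prime, K1, Q', hQ', hneq, h1 ▸ hP''min⟩ hyP'
  have K3 : ∀ P₁ : Ideal (EGA4.Cpl A), P₁.IsPrime → P₁ < P' → P₁ = Q := by
    intro P₁ hP₁ hP₁lt
    haveI := hP₁
    obtain ⟨Q', hQ'min, hQ'le⟩ := Ideal.exists_minimalPrimes_le (bot_le : (⊥ : Ideal _) ≤ P₁)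
    have h1 : Q' = Q := K2 Q' hQ'min (hQ'le.trans hP₁lt.le)
    rcases K P₁ (h1 ▸ hQ'le) hP₁lt.le with h2 | h2
    · exact h2
    · exact absurd h2 hP₁lt.ne
  haveI hp'prime : (P'.comap (algebraMap A (EGA4.Cpl A))).IsPrime := Ideal.comap_isPrime _ _
  have hp'ne : P'.comap (algebraMap A (EGA4.Cpl A)) ≠ ⊥ := by
    intro h
    have : x ∈ P'.comap (algebraMap A (EGA4.Cpl A)) := hyP'
    rw [h] at this
    exact hx0 this
  have hmin : P' ∈ ((P'.comap (algebraMap A (EGA4.Cpl A))).map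
      (algebraMap A (EGA4.Cpl A))).minimalPrimes := by
    refine ⟨⟨hP'prime, Ideal.map_comap_le⟩, ?_⟩
    rintro P₁ ⟨hP₁, hle₁⟩ hP₁P'
    by_contra hnot
    have h1 : P₁ = Q := K3 P₁ hP₁ (lt_of_le_not_ge hP₁P' hnot)
    apply hp'ne
    rw [eq_bot_iff, ← hQbot]
    intro z hz
    exact h1 ▸ hle₁ (Ideal.mem_map_of_mem _ hz)
  have hhtP' : P'.height = 1 := by
    apply le_antisymm
    · rw [show (1 : ℕ∞) = ((1 : ℕ) : ℕ∞) from rfl, Ideal.height_le_iff]
      intro q hq hqlt
      haveI := hq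
      rw [K3 q hq hqlt, Ideal.height_eq_zero_iff.mpr hQ]
      exact_mod_cast Nat.zero_lt_one
    · rw [Order.one_le_iff_pos, pos_iff_ne_zero, Ne, Ideal.height_eq_zero_iff]
      intro h
      exact hlt.not_ge (h.2 ⟨hQprime, bot_le⟩ hQP')
  have hht : (P'.comap (algebraMap A (EGA4.Cpl A))).height = 1 := by
    rw [← Groth.Agent.Helper8.FC.height_eq_of_mem_minimalPrimes_map _ P' hmin, hhtP']
  exact ⟨_, P', hp'prime, hht, hmin, hlt⟩

end step

section main

/-- the completion is Noetherian. -/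
local instance instNoethCpl'' (A : Type u) [CommRing A] [IsNoetherianRing A] [IsLocalRing A] :
    IsNoetherianRing (EGA4.Cpl A) :=
  Groth.Agent.Helper8.AdicReg.isNoetherianRing A _

theorem isEquidim_of_isDomain (A : Type u) [CommRing A] [IsDomain A] : EGA4.IsEquidim A := by
  intro p hp
  rw [IsDomain.minimalPrimes_eq_singleton_bot, Set.mem_singleton_iff] at hp
  rw [hp]
  exact ringKrullDim_eq_of_ringEquiv (RingEquiv.quotientBot A)

/-- **Ratliff's theorem**, by induction on the dimension. -/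
theorem isEquidim_cpl_aux (n : ℕ) : ∀ (A : Type u) [CommRing A] [IsDomain A] [IsNoetherianRing A]
    [IsLocalRing A], CAlg.IsUniversallyCatenary A → ringKrullDim A = n →
    EGA4.IsEquidim (EGA4.Cpl A) := by
  induction n with
  | zero =>
    intro A _ _ _ _ hUC hdim Q hQ
    haveI : Q.IsPrime := hQ.1.1
    apply le_antisymm (ringKrullDim_quotient_le Q)
    rw [Groth.Agent.Helper8.FC.ringKrullDim_cpl, hdim]
    exact_mod_cast ringKrullDim_nonneg_of_nontrivial
  | succ n ih =>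
    intro A _ _ _ _ hUC hdim Q hQ
    haveI hQprime : Q.IsPrime := hQ.1.1
    apply le_antisymm (ringKrullDim_quotient_le Q)
    rw [Groth.Agent.Helper8.FC.ringKrullDim_cpl, hdim]
    by_cases hd : ∀ P : Ideal (EGA4.Cpl A), P.IsPrime → Q ≤ P →
        P = Q ∨ P = maximalIdeal (EGA4.Cpl A)
    · have h1 := ringKrullDim_le_one_of_minimalPrime A hUC Q hQ hd
      rw [hdim] at h1
      have hn : n = 0 := by
        have : ((n + 1 : ℕ) : WithBot ℕ∞) ≤ ((1 : ℕ) : WithBot ℕ∞) := by exact_mod_cast h1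
        have := Nat.cast_le.mp this
        omega
      subst hn
      have hQm : Q ≠ maximalIdeal (EGA4.Cpl A) := by
        intro h
        have h2 : (maximalIdeal (EGA4.Cpl A)).height = 0 := by
          rw [Ideal.height_eq_zero_iff, ← h]
          exact hQ
        have h3 := IsLocalRing.maximalIdeal_height_eq_ringKrullDim (R := EGA4.Cpl A)
        rw [h2, Groth.Agent.Helper8.FC.ringKrullDim_cpl, hdim] at h3
        norm_num at h3
      have hlt : Q < maximalIdeal (EGA4.Cpl A) :=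
        lt_of_le_of_ne (IsLocalRing.le_maximalIdeal hQprime.ne_top) hQm
      have h4 := ringKrullDim_quotient_add_one_le Q (maximalIdeal (EGA4.Cpl A)) hlt
      have h5 : (0 : WithBot ℕ∞) ≤ ringKrullDim (EGA4.Cpl A ⧸ maximalIdeal (EGA4.Cpl A)) :=
        ringKrullDim_nonneg_of_nontrivial
      calc ((0 + 1 : ℕ) : WithBot ℕ∞) = 0 + 1 := by norm_num
        _ ≤ ringKrullDim (EGA4.Cpl A ⧸ maximalIdeal (EGA4.Cpl A)) + 1 := by gcongr
        _ ≤ _ := h4
    · push_neg at hd
      obtain ⟨P₀, hP₀, hQP₀, hne1, hne2⟩ := hd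
      haveI := hP₀
      obtain ⟨p', P', hp', hht, hmin, hlt⟩ :=
        exists_prime_of_not_hdim A Q hQ P₀ hQP₀ hne1 hne2
      haveI := hp'
      haveI hP'prime : P'.IsPrime := hmin.1.1
      -- `dim A/p' = n`
      have hcat : CAlg.IsCatenary A := hUC.2 A inferInstance
      have h1 := Groth.Agent.Helper8.Equidim.dim_quot_add_height A hcat (isEquidim_of_isDomain A)
        p' 1 (by rw [hht]; rfl)
      rw [hdim] at h1
      have hdim' : ringKrullDim (A ⧸ p') = n := by
        apply Groth.Agent.Helper8.FC.withBot_nat_add_cancel 1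
        rw [add_comm, h1]
        push_cast
        ring
      haveI : IsDomain (A ⧸ p') := Ideal.Quotient.isDomain p'
      have hUC' : CAlg.IsUniversallyCatenary (A ⧸ p') :=
        Groth.Agent.Helper8.HensEq.isUniversallyCatenary_of_finiteType A (A ⧸ p') hUC
      have heq' : EGA4.IsEquidim (EGA4.Cpl (A ⧸ p')) := ih (A ⧸ p') hUC' hdim'
      have heq'' : EGA4.IsEquidim (EGA4.Cpl A ⧸ p'.map (algebraMap A (EGA4.Cpl A))) :=
        Groth.Agent.Helper8.FC.isEquidim_of_ringEquiv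
          (Groth.Agent.Helper8.FC.quotCplEquiv A p').symm heq'
      rw [Ideal.minimalPrimes_eq_comap] at hmin
      obtain ⟨q, hq, hqP'⟩ := hmin
      have h2 := heq'' q hq
      rw [Groth.Agent.Helper8.FC.dim_quot_quot, hqP',
        Groth.Agent.Helper8.FC.ringKrullDim_quot_map, hdim'] at h2
      have h3 := ringKrullDim_quotient_add_one_le Q P' hlt
      rw [h2] at h3
      exact_mod_cast h3

/-- **Ratliff's theorem**: a universally catenary Noetherian local domain is formally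
equidimensional. -/
theorem isFormallyEquidim_of_isUniversallyCatenary (A : Type u) [CommRing A] [IsDomain A]
    [IsNoetherianRing A] [IsLocalRing A] (hUC : CAlg.IsUniversallyCatenary A) :
    EGA4.IsFormallyEquidim A := by
  have hfin : ringKrullDim A < ⊤ := ringKrullDim_lt_top
  have hpos : (0 : WithBot ℕ∞) ≤ ringKrullDim A := ringKrullDim_nonneg_of_nontrivial
  obtain ⟨n, hn⟩ : ∃ n : ℕ, ringKrullDim A = n := by
    cases h : ringKrullDim A with
    | bot => rw [h] at hpos; exact absurd hpos (by simp)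
    | coe x =>
      cases hx : x with
      | top => rw [h, hx] at hfin; exact absurd hfin (lt_irrefl _)
      | coe m => exact ⟨m, rfl⟩
  exact isEquidim_cpl_aux n A hUC hn

/-- **Ratliff's theorem**: a universally catenary Noetherian local ring is formally catenary. -/
theorem isFormallyCatenary_of_isUniversallyCatenary (A : Type u) [CommRing A]
    [IsNoetherianRing A] [IsLocalRing A] (hUC : CAlg.IsUniversallyCatenary A) :
    EGA4.IsFormallyCatenary A := by
  intro p _
  haveI : IsDomain (A ⧸ p) := Ideal.Quotient.isDomain p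
  exact isFormallyEquidim_of_isUniversallyCatenary (A ⧸ p)
    (Groth.Agent.Helper8.HensEq.isUniversallyCatenary_of_finiteType A (A ⧸ p) hUC)

end main

end Groth.Agent.Helper8.Ratliff
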