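import Mathlib
import Groth.Prelude
import Groth.Agent.Lib.Helper8.Mult1
import Groth.Agent.Lib.Helper8.Ratliff3

/-!
# Samuel multiplicities: vanishing below the top dimension and localization lengths
-/

set_option autoImplicit false

universe u

namespace Groth.Agent.Helper8.Mult

open IsLocalRing Filter Topology Groth.Agent.Helper8.KoszulLib

section vanish

variable {A : Type u} [CommRing A] [IsNoetherianRing A] [IsLocalRing A] (I : Ideal A)

/-- The normalized Samuel function. -/
noncomputable def sam (N : Type u) [AddCommGroup N] [Module A N] (d : ℕ) (t : ℕ) : ℝ :=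
  (d.factorial : ℝ) * ((Module.length A (N ⧸ (I ^ t • (⊤ : Submodule A N)))).toNat : ℝ) /
    (t : ℝ) ^ d

omit [IsNoetherianRing A] [IsLocalRing A] in
theorem sam_of_subsingleton (N : Type u) [AddCommGroup N] [Module A N] [Subsingleton N]
    (d t : ℕ) : sam I N d t = 0 := by
  unfold sam
  rw [Module.length_eq_zero, ENat.toNat_zero, Nat.cast_zero, mul_zero, zero_div]

/-- The Samuel multiplicity in degree `d` vanishes for modules of dimension `< d`. -/
theorem tendsto_sam_zero (hI : ∃ n : ℕ, maximalIdeal A ^ n ≤ I) (N : Type u) [AddCommGroup N]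
    [Module A N] [Module.Finite A N] (d : ℕ) (h : Module.supportDim A N < d) :
    Tendsto (sam I N d) atTop (𝓝 0) := by
  classical
  cases d with
  | zero =>
    have h0 : Module.supportDim A N = ⊥ := by
      have h1 : Module.supportDim A N < 0 := by exact_mod_cast h
      generalize Module.supportDim A N = x at h1
      induction x using WithBot.recBotCoe with
      | bot => rfl
      | coe y => exact absurd h1 (by simp)
    haveI : Subsingleton N := (Module.supportDim_eq_bot_iff_subsingleton A N).mp h0
    refine tendsto_const_nhds.congr (fun t => (sam_of_subsingleton I N 0 t).symm)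
  | succ δ =>
    have hδ : Module.supportDim A N ≤ (δ : WithBot ℕ∞) := by
      generalize Module.supportDim A N = x at h
      induction x using WithBot.recBotCoe with
      | bot => exact bot_le
      | coe y =>
        have h1 : y < ((δ + 1 : ℕ) : ℕ∞) := by exact_mod_cast h
        have h2 : y ≤ (δ : ℕ∞) := by
          have : y < (δ : ℕ∞) + 1 := by exact_mod_cast h1
          exact (ENat.lt_add_one_iff (ENat.natCast_ne_top δ)).mp this
        exact_mod_cast h2
    obtain ⟨l, hl, hlj, hfl⟩ := exists_parameters_of_supportDim_le δ N hδ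
    obtain ⟨C, hC⟩ := exists_samuel_le N l hfl
    obtain ⟨n₀, hn₀⟩ := hI
    have hlm : Ideal.ofList l ≤ maximalIdeal A := by
      rw [Ideal.ofList, Ideal.span_le]
      intro a ha
      have := hlj a ha
      rwa [IsLocalRing.ringJacobson_eq_maximalIdeal] at this
    have hle : ∀ t : ℕ, Ideal.ofList l ^ ((n₀ + 1) * t) ≤ I ^ t := by
      intro t
      calc Ideal.ofList l ^ ((n₀ + 1) * t) ≤ maximalIdeal A ^ ((n₀ + 1) * t) :=
            Ideal.pow_right_mono hlm _
        _ = (maximalIdeal A ^ (n₀ + 1)) ^ t := pow_mul _ _ _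
        _ ≤ I ^ t := Ideal.pow_right_mono ((Ideal.pow_le_pow_right (Nat.le_succ n₀)).trans hn₀) _
    have hfin : ∀ t, Module.length A (N ⧸ Ideal.ofList l ^ t • (⊤ : Submodule A N)) ≠ ⊤ :=
      fun t => Gen.length_quotient_pow_ne_top N _ hfl t
    have hbound : ∀ t : ℕ, 1 ≤ t →
        (Module.length A (N ⧸ (I ^ t • (⊤ : Submodule A N)))).toNat ≤
          C * ((n₀ + 1) * t) ^ δ := by
      intro t ht
      have h1 : 1 ≤ (n₀ + 1) * t := Nat.one_le_iff_ne_zero.mpr (by positivity)
      refine le_trans ?_ (hl ▸ hC ((n₀ + 1) * t) h1)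
      refine ENat.toNat_le_toNat (length_quotient_smul_le_of_le ?_) (hfin _)
      exact Submodule.smul_mono (hle t) le_rfl
    -- squeeze
    have hlim : Tendsto (fun t : ℕ => ((δ + 1).factorial : ℝ) * (C : ℝ) * ((n₀ : ℝ) + 1) ^ δ /
        (t : ℝ)) atTop (𝓝 0) := tendsto_const_div_atTop_nhds_zero_nat _
    refine squeeze_zero' (Eventually.of_forall fun t => ?_) ?_ hlim
    · unfold sam
      positivity
    · filter_upwards [eventually_ge_atTop 1] with t ht
      have ht0 : (0 : ℝ) < (t : ℝ) := by exact_mod_cast ht
      have hb : ((Module.length A (N ⧸ (I ^ t • (⊤ : Submodule A N)))).toNat : ℝ) ≤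
          (C : ℝ) * (((n₀ : ℝ) + 1) * (t : ℝ)) ^ δ := by
        exact_mod_cast hbound t ht
      unfold sam
      rw [div_le_div_iff₀ (by positivity) ht0]
      calc ((δ + 1).factorial : ℝ) *
            ((Module.length A (N ⧸ (I ^ t • (⊤ : Submodule A N)))).toNat : ℝ) * (t : ℝ)
          ≤ ((δ + 1).factorial : ℝ) * ((C : ℝ) * (((n₀ : ℝ) + 1) * (t : ℝ)) ^ δ) * (t : ℝ) := by
            gcongr
        _ = ((δ + 1).factorial : ℝ) * (C : ℝ) * ((n₀ : ℝ) + 1) ^ δ * (t : ℝ) ^ (δ + 1) := by
            rw [mul_pow, pow_succ]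
            ring

end vanish

section loc

variable {A : Type u} [CommRing A]

/-- `(A/q)_p = 0` when `q ⊄ p`. -/
theorem subsingleton_localizedModule_quotient (q p : Ideal A) [p.IsPrime] (h : ¬ q ≤ p) :
    Subsingleton (LocalizedModule p.primeCompl (A ⧸ q)) := by
  rw [LocalizedModule.subsingleton_iff]
  obtain ⟨s, hs, hsp⟩ := Set.not_subset.mp h
  intro m
  refine ⟨s, hsp, ?_⟩
  obtain ⟨a, rfl⟩ := Ideal.Quotient.mk_surjective m
  rw [Algebra.smul_def, Ideal.Quotient.algebraMap_eq, ← map_mul, Ideal.Quotient.eq_zero_iff_mem]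
  exact q.mul_mem_right _ hs

/-- `(A/p)_p` has length one over `A_p`. -/
theorem length_localizedModule_quotient_self (p : Ideal A) [p.IsPrime] :
    Module.length (Localization.AtPrime p) (LocalizedModule p.primeCompl (A ⧸ p)) = 1 := by
  set x₀ : LocalizedModule p.primeCompl (A ⧸ p) := LocalizedModule.mk 1 1 with hx₀def
  have hx₀ : x₀ ≠ 0 := by
    intro h0
    rw [hx₀def, ← LocalizedModule.zero_mk (1 : p.primeCompl), LocalizedModule.mk_eq] at h0
    obtain ⟨u, hu⟩ := h0
    rw [one_smul, one_smul, smul_zero, Submonoid.smul_def, Algebra.smul_def, mul_one,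
      Ideal.Quotient.algebraMap_eq, Ideal.Quotient.eq_zero_iff_mem] at hu
    exact u.2 hu
  let φ : Localization.AtPrime p →ₗ[Localization.AtPrime p]
      LocalizedModule p.primeCompl (A ⧸ p) :=
    LinearMap.toSpanSingleton (Localization.AtPrime p) _ x₀
  have hφ : ∀ a, φ a = a • x₀ := fun a => rfl
  have hsurj : Function.Surjective φ := by
    intro y
    induction y using LocalizedModule.induction_on with
    | h m s =>
      obtain ⟨a, rfl⟩ := Ideal.Quotient.mk_surjective m
      refine ⟨Localization.mk a s, ?_⟩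
      rw [hφ, hx₀def, LocalizedModule.mk_smul_mk, mul_one, Algebra.smul_def, mul_one,
        Ideal.Quotient.algebraMap_eq]
  have hker : maximalIdeal (Localization.AtPrime p) ≤ LinearMap.ker φ := by
    intro a ha
    obtain ⟨r, s, rfl⟩ := IsLocalization.exists_mk'_eq p.primeCompl a
    have hr : r ∈ p := (IsLocalization.AtPrime.mk'_mem_maximal_iff _ p r s).mp ha
    rw [LinearMap.mem_ker, hφ, hx₀def, ← Localization.mk_eq_mk', LocalizedModule.mk_smul_mk,
      Algebra.smul_def, mul_one,
      Ideal.Quotient.algebraMap_eq, Ideal.Quotient.eq_zero_iff_mem.mpr hr, LocalizedModule.zero_mk]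
  have h1 : Module.length (Localization.AtPrime p)
      (LocalizedModule p.primeCompl (A ⧸ p)) ≤ 1 := by
    let ψ : (Localization.AtPrime p ⧸ maximalIdeal (Localization.AtPrime p))
        →ₗ[Localization.AtPrime p] LocalizedModule p.primeCompl (A ⧸ p) :=
      Submodule.liftQ _ φ hker
    have hψ : Function.Surjective ψ := by
      intro y
      obtain ⟨a, ha⟩ := hsurj y
      exact ⟨Submodule.Quotient.mk a, ha⟩
    have h2 := Module.length_le_of_surjective ψ hψ
    haveI : IsSimpleModule (Localization.AtPrime p)
        (Localization.AtPrime p ⧸ maximalIdeal (Localization.AtPrime p)) :=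
      isSimpleModule_iff_isCoatom.mpr
        (Ideal.isMaximal_def.mp (maximalIdeal.isMaximal (Localization.AtPrime p)))
    have h3 : Module.length (Localization.AtPrime p)
        (Localization.AtPrime p ⧸ maximalIdeal (Localization.AtPrime p)) = 1 :=
      Module.length_eq_one _ _
    rw [h3] at h2
    exact h2
  have h2 : 1 ≤ Module.length (Localization.AtPrime p)
      (LocalizedModule p.primeCompl (A ⧸ p)) := by
    haveI : Nontrivial (LocalizedModule p.primeCompl (A ⧸ p)) := ⟨⟨x₀, 0, hx₀⟩⟩
    exact Order.one_le_iff_pos.mpr Module.length_pos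
  exact le_antisymm h1 h2

/-- Additivity of the localized lengths along short exact sequences. -/
theorem length_localizedModule_add (p : Ideal A) [p.IsPrime] {N₁ N₂ N₃ : Type u}
    [AddCommGroup N₁] [Module A N₁] [AddCommGroup N₂] [Module A N₂] [AddCommGroup N₃]
    [Module A N₃] (f : N₁ →ₗ[A] N₂) (g : N₂ →ₗ[A] N₃) (hf : Function.Injective f)
    (hg : Function.Surjective g) (hfg : Function.Exact f g) :
    Module.length (Localization.AtPrime p) (LocalizedModule p.primeCompl N₂) =
      Module.length (Localization.AtPrime p) (LocalizedModule p.primeCompl N₁) +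
        Module.length (Localization.AtPrime p) (LocalizedModule p.primeCompl N₃) :=
  Module.length_eq_add_of_exact (LocalizedModule.map p.primeCompl f)
    (LocalizedModule.map p.primeCompl g) (LocalizedModule.map_injective _ f hf)
    (LocalizedModule.map_surjective _ g hg) (LocalizedModule.map_exact p.primeCompl f g hfg)

end loc

end Groth.Agent.Helper8.Mult
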