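import Mathlib

/-!
# The universal idempotent matrix algebra
-/

set_option autoImplicit false
universe u

namespace Groth.Agent.Helper8.SmQ

open MvPolynomial

variable (R : Type u) [CommRing R] (n : ℕ)

/-- The generic `n × n` matrix of indeterminates. -/
noncomputable def genMat : Matrix (Fin n) (Fin n) (MvPolynomial (Fin n × Fin n) R) :=
  Matrix.of fun i j => X (i, j)

/-- The ideal of relations `Z * Z = Z`. -/
noncomputable def idemIdeal : Ideal (MvPolynomial (Fin n × Fin n) R) :=
  Ideal.span (Set.range fun ij : Fin n × Fin n => (genMat R n * genMat R n - genMat R n) ij.1 ij.2)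

/-- The universal idempotent matrix algebra. -/
abbrev Idem : Type u := MvPolynomial (Fin n × Fin n) R ⧸ idemIdeal R n

/-- The universal idempotent matrix. -/
noncomputable def univIdem : Matrix (Fin n) (Fin n) (Idem R n) :=
  (Ideal.Quotient.mk (idemIdeal R n)).mapMatrix (genMat R n)

theorem univIdem_mul_self : univIdem R n * univIdem R n = univIdem R n := by
  rw [univIdem, ← map_mul, ← sub_eq_zero, ← map_sub]
  refine Matrix.ext fun i j => ?_
  rw [RingHom.mapMatrix_apply, Matrix.map_apply, Matrix.zero_apply,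
    Ideal.Quotient.eq_zero_iff_mem]
  exact Ideal.subset_span ⟨(i, j), rfl⟩

instance : Algebra.FinitePresentation R (Idem R n) :=
  Algebra.FinitePresentation.quotient (Submodule.fg_span (Set.finite_range _))

variable {R n}

/-- The universal property. -/
theorem exists_algHom_of_idempotent {B : Type*} [CommRing B] [Algebra R B]
    (e : Matrix (Fin n) (Fin n) B) (he : e * e = e) :
    ∃ f : Idem R n →ₐ[R] B, ∀ i j, f (univIdem R n i j) = e i j := by
  let f₀ : MvPolynomial (Fin n × Fin n) R →ₐ[R] B := aeval fun ij => e ij.1 ij.2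
  have hf₀ : f₀.mapMatrix (genMat R n) = e := by
    refine Matrix.ext fun i j => ?_
    simp [f₀, genMat]
  have hker : ∀ a ∈ idemIdeal R n, f₀ a = 0 := by
    intro a ha
    have : idemIdeal R n ≤ RingHom.ker f₀.toRingHom := by
      rw [idemIdeal, Ideal.span_le]
      rintro _ ⟨⟨i, j⟩, rfl⟩
      rw [SetLike.mem_coe, RingHom.mem_ker]
      change f₀ ((genMat R n * genMat R n - genMat R n) i j) = 0
      have h1 : f₀ ((genMat R n * genMat R n - genMat R n) i j) =
          (f₀.mapMatrix (genMat R n * genMat R n - genMat R n)) i j := rfl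
      rw [h1, map_sub, map_mul, hf₀, he, sub_self, Matrix.zero_apply]
    exact this ha
  refine ⟨Ideal.Quotient.liftₐ _ f₀ hker, fun i j => ?_⟩
  have : univIdem R n i j = Ideal.Quotient.mk _ (X (i, j)) := rfl
  rw [this]
  change f₀ (X (i, j)) = _
  simp [f₀]

theorem algHom_ext_idem {B : Type*} [CommRing B] [Algebra R B] (f g : Idem R n →ₐ[R] B)
    (h : ∀ i j, f (univIdem R n i j) = g (univIdem R n i j)) : f = g := by
  apply Ideal.Quotient.algHom_ext
  apply MvPolynomial.algHom_ext
  rintro ⟨i, j⟩
  exact h i j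

/-- Idempotent matrices lift along square-zero extensions. -/
theorem exists_idempotent_lift {B : Type*} [CommRing B] (J : Ideal B) (hJ : J ^ 2 = ⊥)
    (e : Matrix (Fin n) (Fin n) (B ⧸ J)) (he : e * e = e) :
    ∃ e' : Matrix (Fin n) (Fin n) B, e' * e' = e' ∧ (Ideal.Quotient.mk J).mapMatrix e' = e := by
  let F : Matrix (Fin n) (Fin n) B →+* Matrix (Fin n) (Fin n) (B ⧸ J) :=
    (Ideal.Quotient.mk J).mapMatrix
  have hnil : ∀ x ∈ RingHom.ker F, IsNilpotent x := by
    intro x hx
    refine ⟨2, ?_⟩
    have hxJ : ∀ i j, x i j ∈ J := by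
      intro i j
      have h0 : F x = 0 := hx
      have h1 : F x i j = Ideal.Quotient.mk J (x i j) := rfl
      have h2 : F x i j = 0 := by rw [h0]; rfl
      rw [h1, Ideal.Quotient.eq_zero_iff_mem] at h2
      exact h2
    rw [pow_two]
    refine Matrix.ext fun i j => ?_
    rw [Matrix.mul_apply, Matrix.zero_apply]
    refine Finset.sum_eq_zero fun k _ => ?_
    have : x i k * x k j ∈ J ^ 2 := by
      rw [pow_two]; exact Ideal.mul_mem_mul (hxJ i k) (hxJ k j)
    rwa [hJ, Ideal.mem_bot] at this
  have hrange : e ∈ F.range := by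
    choose e₀ he₀ using fun i j => Ideal.Quotient.mk_surjective (e i j)
    refine ⟨Matrix.of e₀, Matrix.ext fun i j => ?_⟩
    simp [F, he₀]
  obtain ⟨e', he', hFe'⟩ := exists_isIdempotentElem_eq_of_ker_isNilpotent F hnil e hrange he
  exact ⟨e', he', hFe'⟩

instance : Algebra.FormallySmooth R (Idem R n) := by
  refine Algebra.FormallySmooth.of_comp_surjective fun B _ _ J hJ g => ?_
  let e : Matrix (Fin n) (Fin n) (B ⧸ J) := g.mapMatrix (univIdem R n)
  have he : e * e = e := by
    rw [← map_mul, univIdem_mul_self]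
  obtain ⟨e', he', hee'⟩ := exists_idempotent_lift J hJ e he
  obtain ⟨f, hf⟩ := exists_algHom_of_idempotent (R := R) e' he'
  refine ⟨f, algHom_ext_idem _ _ fun i j => ?_⟩
  rw [AlgHom.comp_apply, hf]
  have := congrFun (congrFun hee' i) j
  exact this

instance : Algebra.Smooth R (Idem R n) := ⟨inferInstance, inferInstance⟩

end Groth.Agent.Helper8.SmQ
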