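import Mathlib

/-!
# Lifting smooth algebras along a quotient, I: Cayley–Hamilton and a lifting criterion
-/

set_option autoImplicit false
universe u v

namespace Groth.Agent.Helper8.SmQ

open Polynomial

/-- Cayley–Hamilton trick: an endomorphism of a finite module congruent to the identity modulo `J`
is invertible up to an element of `1 + J`. -/
theorem exists_mul_eq_smul_one {A M : Type*} [CommRing A] [AddCommGroup M] [Module A M]
    [Module.Finite A M] (J : Ideal A) (u : Module.End A M)
    (hu : ∀ m, u m - m ∈ J • (⊤ : Submodule A M)) :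
    ∃ (t : A) (u' : Module.End A M), t - 1 ∈ J ∧ u' * u = t • 1 ∧ u * u' = t • 1 := by
  let w : Module.End A M := 1 - u
  have hw : LinearMap.range w ≤ J • (⊤ : Submodule A M) := by
    rintro _ ⟨m, rfl⟩
    have : w m = -(u m - m) := by simp [w]
    rw [this]
    exact Submodule.neg_mem _ (hu m)
  obtain ⟨p, hmonic, -, hcoeff, hp⟩ :=
    LinearMap.exists_monic_and_natDegree_eq_and_coeff_mem_pow_and_aeval_eq_zero A w J hw
  obtain ⟨q, hq⟩ := Polynomial.X_sub_C_dvd_sub_C_eval (a := (1 : A)) (p := p)
  refine ⟨p.eval 1, aeval w q, ?_, ?_, ?_⟩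
  · -- `p.eval 1 ≡ 1 mod J`
    rw [Polynomial.eval_eq_sum_range, Finset.sum_range_succ, hmonic.coeff_natDegree]
    simp only [one_pow, mul_one, add_sub_cancel_right]
    refine Ideal.sum_mem _ fun k hk => ?_
    have hk' : k < p.natDegree := Finset.mem_range.mp hk
    exact Ideal.pow_le_self (by omega) (hcoeff k)
  · have h1 := congrArg (aeval w) hq
    simp only [map_sub, map_mul, aeval_X, aeval_C, hp, Algebra.algebraMap_eq_smul_one,
      zero_sub] at h1
    have hcomm : (w - (1 : A) • 1) * aeval w q = aeval w q * (w - (1 : A) • 1) := by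
      have : w - (1 : A) • (1 : Module.End A M) = aeval w (X - C (1 : A)) := by
        simp [Algebra.algebraMap_eq_smul_one]
      rw [this, ← map_mul, ← map_mul, mul_comm]
    have hu' : u = -(w - (1 : A) • 1) := by simp [w]
    rw [hu', mul_neg, ← hcomm, ← h1, neg_neg]
  · have h1 := congrArg (aeval w) hq
    simp only [map_sub, map_mul, aeval_X, aeval_C, hp, Algebra.algebraMap_eq_smul_one,
      zero_sub] at h1
    have hu' : u = -(w - (1 : A) • 1) := by simp [w]
    rw [hu', neg_mul, ← h1, neg_neg]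

open KaehlerDifferential in
/-- A lifting criterion: formal smoothness of an étale (or just formally smooth) algebra `T` over
`E ⧸ L`, where `E` is formally smooth over `R` and the ideal `L` is the image of a linear map `s`
which is "transversal" in the sense of the hypothesis `h`. -/
theorem formallySmooth_of_data {R E : Type u} [CommRing R] [CommRing E] [Algebra R E]
    [Algebra.FormallySmooth R E] {W : Type*} [AddCommGroup W] [Module E W]
    (L : Ideal E) (s : W →ₗ[E] E) (hsL : ∀ w, s w ∈ L) (hLs : ∀ l ∈ L, ∃ w, s w = l)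
    (r : Ω[E⁄R] →ₗ[E] W) (u : W →ₗ[E] W) (t : E)
    (h : ∀ w, u (r (D R E (s w))) - t • w ∈ L • (⊤ : Submodule E W))
    (T : Type u) [CommRing T] [Algebra R T] [Algebra (E ⧸ L) T]
    [IsScalarTower R (E ⧸ L) T] [Algebra.FormallySmooth (E ⧸ L) T]
    (ht : IsUnit (algebraMap (E ⧸ L) T (Ideal.Quotient.mk L t))) :
    Algebra.FormallySmooth R T := by
  refine Algebra.FormallySmooth.of_comp_surjective fun B _ _ J hJ g => ?_
  -- Step 1: lift `E → T → B ⧸ J` to `E → B`.
  let ι : E →ₐ[R] T := (IsScalarTower.toAlgHom R (E ⧸ L) T).comp (Ideal.Quotient.mkₐ R L)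
  obtain ⟨h0, hh0⟩ := Algebra.FormallySmooth.comp_surjective R E J hJ (g.comp ι)
  letI : Algebra E B := h0.toRingHom.toAlgebra
  haveI : IsScalarTower R E B := IsScalarTower.of_algebraMap_eq fun x => (h0.commutes x).symm
  have halg : ∀ x : E, algebraMap E B x = h0 x := fun x => rfl
  have hmk : ∀ x : E, Ideal.Quotient.mk J (h0 x) = g (ι x) := fun x => congr($hh0 x)
  -- `h0 t` is a unit
  have hunit : IsUnit (h0 t) := by
    apply (IsNilpotent.isUnit_quotient_mk_iff (I := J) ⟨2, hJ⟩).mp
    rw [hmk]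
    exact ht.map g
  obtain ⟨v, hv⟩ := hunit.exists_left_inv
  -- elements of `L` go to `J`
  have hLJ : ∀ l ∈ L, h0 l ∈ J := by
    intro l hl
    rw [← Ideal.Quotient.eq_zero_iff_mem, hmk]
    have : ι l = 0 := by
      simp only [ι, AlgHom.comp_apply, Ideal.Quotient.mkₐ_eq_mk]
      rw [Ideal.Quotient.eq_zero_iff_mem.mpr hl, map_zero]
    rw [this, map_zero]
  -- the linear map `W → J`
  let lam : W →ₗ[E] J :=
    { toFun := fun w => ⟨v * h0 (s w), J.mul_mem_left _ (hLJ _ (hsL w))⟩
      map_add' := fun w w' => by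
        apply Subtype.ext
        simp [mul_add]
      map_smul' := fun e w => by
        apply Subtype.ext
        simp only [map_smul, smul_eq_mul, map_mul, RingHom.id_apply, Submodule.coe_smul_of_tower,
          Algebra.smul_def, halg]
        ring }
  have hlamL : ∀ x ∈ L • (⊤ : Submodule E W), lam x = 0 := by
    intro x hx
    refine Submodule.smul_induction_on hx (fun l hl w _ => ?_) (fun x y hx hy => ?_)
    · apply Subtype.ext
      have h1 : h0 l * h0 (s w) ∈ J ^ 2 := by
        rw [pow_two]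
        exact Ideal.mul_mem_mul (hLJ l hl) (hLJ _ (hsL w))
      rw [hJ, Ideal.mem_bot] at h1
      rw [map_smul]
      simp only [lam, LinearMap.coe_mk, AddHom.coe_mk, Submodule.coe_smul_of_tower,
        Algebra.smul_def, halg, Submodule.coe_zero]
      rw [mul_left_comm, h1, mul_zero]
    · rw [map_add, hx, hy, add_zero]
  -- the derivation
  let δ : Derivation R E J := (lam ∘ₗ u ∘ₗ r).compDer (D R E)
  let h1 : E →ₐ[R] B := liftOfDerivationToSquareZero J hJ (-δ)
  have h1apply : ∀ x, h1 x = -(δ x : B) + h0 x := by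
    intro x
    simp [h1, liftOfDerivationToSquareZero_apply, halg]
  have h1L : ∀ l ∈ L, h1 l = 0 := by
    intro l hl
    obtain ⟨w, rfl⟩ := hLs l hl
    rw [h1apply]
    have h2 : δ (s w) = lam (u (r (D R E (s w)))) := rfl
    have h3 : u (r (D R E (s w))) = (u (r (D R E (s w))) - t • w) + t • w := by abel
    rw [h2, h3, map_add, hlamL _ (h w), zero_add, map_smul]
    simp only [lam, LinearMap.coe_mk, AddHom.coe_mk, Submodule.coe_smul_of_tower, Algebra.smul_def,
      halg]
    rw [← mul_assoc, mul_comm (h0 t), hv, one_mul, neg_add_cancel]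
  -- Step 3: descend to the quotient
  let h2 : E ⧸ L →ₐ[R] B := Ideal.Quotient.liftₐ L h1 h1L
  have h2mk : ∀ x : E, h2 (Ideal.Quotient.mk L x) = h1 x := fun x => rfl
  have hmk1 : ∀ x : E, Ideal.Quotient.mk J (h1 x) = g (ι x) := by
    intro x
    rw [h1apply, map_add, map_neg, Ideal.Quotient.eq_zero_iff_mem.mpr (δ x).2, neg_zero, zero_add,
      hmk]
  letI : Algebra (E ⧸ L) B := h2.toRingHom.toAlgebra
  haveI : IsScalarTower R (E ⧸ L) B := IsScalarTower.of_algebraMap_eq fun x => (h2.commutes x).symm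
  have halg2 : ∀ x : E ⧸ L, algebraMap (E ⧸ L) B x = h2 x := fun x => rfl
  let gE : T →ₐ[E ⧸ L] B ⧸ J :=
    { g.toRingHom with
      commutes' := fun x => by
        obtain ⟨x, rfl⟩ := Ideal.Quotient.mk_surjective x
        change g (algebraMap (E ⧸ L) T (Ideal.Quotient.mk L x)) = _
        have h3 : algebraMap (E ⧸ L) (B ⧸ J) (Ideal.Quotient.mk L x) =
            Ideal.Quotient.mk J (algebraMap (E ⧸ L) B (Ideal.Quotient.mk L x)) := rfl
        rw [h3, halg2, h2mk, hmk1]
        rfl }
  obtain ⟨g', hg'⟩ := Algebra.FormallySmooth.comp_surjective (E ⧸ L) T J hJ gE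
  refine ⟨g'.restrictScalars R, ?_⟩
  ext x
  exact congr($hg' x)

open KaehlerDifferential in
/-- Producing the data needed in `formallySmooth_of_data` from a retraction modulo `K`. -/
theorem exists_data {R E : Type u} [CommRing R] [CommRing E] [Algebra R E] {W : Type*}
    [AddCommGroup W] [Module E W] [Module.Finite E W] [Module.Projective E W] (L K : Ideal E)
    (s : W →ₗ[E] E) (hsL : ∀ w, s w ∈ L) (r : Ω[E⁄R] →ₗ[E] W)
    (h : ∀ w, r (D R E (s w)) - w ∈ K • (⊤ : Submodule E W)) :
    ∃ (t : E) (u : W →ₗ[E] W), t - 1 ∈ K ∧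
      ∀ w, u (r (D R E (s w))) - t • w ∈ L • (⊤ : Submodule E W) := by
  let N : Submodule E W := L • ⊤
  have hkey : ∀ (e : E) (w : W), r (D R E (s (e • w))) = e • r (D R E (s w)) + s w • r (D R E e) := by
    intro e w
    rw [map_smul, smul_eq_mul, Derivation.leibniz, map_add, map_smul, map_smul]
  have hmemN : ∀ (w : W) (y : W), s w • y ∈ N := fun w y =>
    Submodule.smul_mem_smul (hsL w) Submodule.mem_top
  let c : W →ₗ[E] W ⧸ N :=
    { toFun := fun w => N.mkQ (r (D R E (s w)))
      map_add' := fun w w' => by simp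
      map_smul' := fun e w => by
        rw [hkey, map_add, map_smul, RingHom.id_apply]
        have : N.mkQ (s w • r (D R E e)) = 0 := by
          rw [Submodule.mkQ_apply, Submodule.Quotient.mk_eq_zero]
          exact hmemN w _
        rw [this, add_zero] }
  have hc : N ≤ LinearMap.ker c := by
    intro x hx
    refine Submodule.smul_induction_on hx (fun l hl w _ => ?_) (fun x y hx hy => ?_)
    · rw [LinearMap.mem_ker]
      change N.mkQ (r (D R E (s (l • w)))) = 0
      rw [hkey, Submodule.mkQ_apply, Submodule.Quotient.mk_eq_zero]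
      exact N.add_mem (Submodule.smul_mem_smul hl Submodule.mem_top) (hmemN w _)
    · exact (LinearMap.ker c).add_mem hx hy
  let ubar : Module.End E (W ⧸ N) := N.liftQ c hc
  have hubar : ∀ w, ubar (N.mkQ w) = N.mkQ (r (D R E (s w))) := fun w => rfl
  have hu : ∀ m, ubar m - m ∈ K • (⊤ : Submodule E (W ⧸ N)) := by
    intro m
    obtain ⟨w, rfl⟩ := N.mkQ_surjective m
    rw [hubar, ← map_sub]
    have h1 : (K • (⊤ : Submodule E W)).map N.mkQ = K • (⊤ : Submodule E (W ⧸ N)) := by
      rw [Submodule.map_smul'', Submodule.map_top, LinearMap.range_eq_top.mpr N.mkQ_surjective]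
    rw [← h1]
    exact Submodule.mem_map_of_mem (h w)
  obtain ⟨t, u', ht, hu'u, -⟩ := exists_mul_eq_smul_one K ubar hu
  obtain ⟨u, hu''⟩ := Module.projective_lifting_property N.mkQ (u' ∘ₗ N.mkQ) N.mkQ_surjective
  refine ⟨t, u, ht, fun w => ?_⟩
  rw [← Submodule.Quotient.mk_eq_zero, ← Submodule.mkQ_apply, map_sub, map_smul]
  have h1 : N.mkQ (u (r (D R E (s w)))) = u' (N.mkQ (r (D R E (s w)))) := congr($hu'' _)
  rw [h1, ← hubar]
  have h2 : u' (ubar (N.mkQ w)) = t • N.mkQ w := congr($hu'u (N.mkQ w))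
  rw [h2, sub_self]

end Groth.Agent.Helper8.SmQ
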