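import Mathlib
import Groth.Agent.Lib.Helper8.SmQ1

/-!
# Lifting smooth algebras along a quotient, II: the key theorem
-/

set_option autoImplicit false
universe u

namespace Groth.Agent.Helper8.SmQ

open KaehlerDifferential

/-- Key theorem, smoothness part. -/
theorem exists_smooth_localization {R E : Type u} [CommRing R] [CommRing E] [Algebra R E]
    [Algebra.Smooth R E] {W : Type*} [AddCommGroup W] [Module E W] [Module.Finite E W]
    [Module.Projective E W] (L K : Ideal E) (s : W →ₗ[E] E) (hsL : ∀ w, s w ∈ L)
    (hLs : ∀ l ∈ L, ∃ w, s w = l) (r : Ω[E⁄R] →ₗ[E] W)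
    (h : ∀ w, r (D R E (s w)) - w ∈ K • (⊤ : Submodule E W)) :
    ∃ t : E, t - 1 ∈ K ∧
      ∀ t' : E, Algebra.Smooth R (Localization.Away (Ideal.Quotient.mk L (t * t'))) := by
  obtain ⟨t, u, ht, hu⟩ := exists_data L K s hsL r h
  refine ⟨t, ht, fun t' => ?_⟩
  haveI : Algebra.FormallySmooth R E := (inferInstance : Algebra.Smooth R E).1
  haveI : Algebra.FinitePresentation R E := (inferInstance : Algebra.Smooth R E).2
  have hLfg : L.FG := by
    have : L = (⊤ : Submodule E W).map s := by
      ext x
      constructor
      · intro hx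
        obtain ⟨w, rfl⟩ := hLs x hx
        exact ⟨w, Submodule.mem_top, rfl⟩
      · rintro ⟨w, -, rfl⟩
        exact hsL w
    rw [this]
    exact (Module.Finite.fg_top).map s
  haveI : Algebra.FinitePresentation R (E ⧸ L) := Algebra.FinitePresentation.quotient hLfg
  let x : E ⧸ L := Ideal.Quotient.mk L (t * t')
  haveI : Algebra.FormallySmooth (E ⧸ L) (Localization.Away x) :=
    Algebra.FormallySmooth.of_isLocalization (Submonoid.powers x)
  haveI : Algebra.FinitePresentation (E ⧸ L) (Localization.Away x) :=
    IsLocalization.Away.finitePresentation x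
  have hunit : IsUnit (algebraMap (E ⧸ L) (Localization.Away x) (Ideal.Quotient.mk L t)) := by
    have h1 : IsUnit (algebraMap (E ⧸ L) (Localization.Away x) x) :=
      IsLocalization.Away.algebraMap_isUnit x
    have h2 : x = Ideal.Quotient.mk L t * Ideal.Quotient.mk L t' := map_mul _ _ _
    rw [h2, map_mul] at h1
    exact isUnit_of_mul_isUnit_left h1
  refine ⟨formallySmooth_of_data L s hsL hLs r u t hu (Localization.Away x) hunit, ?_⟩
  exact Algebra.FinitePresentation.trans R (E ⧸ L) (Localization.Away x)

end Groth.Agent.Helper8.SmQ
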