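import Mathlib

/-!
# Lifting smooth algebras along a quotient, III: the reduction modulo `I`
-/

set_option autoImplicit false
universe u

namespace Groth.Agent.Helper8.SmQ

/-- Nakayama: if `K ≤ L ⊔ J ⊔ K²` and `K` is finitely generated modulo `L ⊔ J`, some
`t₁ ∈ 1 + K` multiplies `K` into `L ⊔ J`. -/
theorem exists_mul_mem_sup {E : Type*} [CommRing E] (K L J : Ideal E) (S : Finset E)
    (hS : K ≤ Ideal.span (S : Set E) ⊔ (L ⊔ J)) (hSK : (S : Set E) ⊆ K)
    (hK : K ≤ L ⊔ J ⊔ K ^ 2) :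
    ∃ t₁ : E, t₁ - 1 ∈ K ∧ ∀ k ∈ K, t₁ * k ∈ L ⊔ J := by
  let P : Ideal E := L ⊔ J
  let N : Submodule E (E ⧸ P) := Submodule.map (Submodule.mkQ P) K
  have hNfg : N.FG := by
    have : N = Submodule.map (Submodule.mkQ P) (Submodule.span E (S : Set E)) := by
      apply le_antisymm
      · rintro _ ⟨k, hk, rfl⟩
        have h1 := hS hk
        rw [Submodule.mem_sup] at h1
        obtain ⟨y, hy, z, hz, rfl⟩ := h1
        have : Submodule.mkQ P (y + z) = Submodule.mkQ P y := by
          rw [map_add]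
          have : Submodule.mkQ P z = 0 := by
            rw [Submodule.mkQ_apply, Submodule.Quotient.mk_eq_zero]
            exact hz
          rw [this, add_zero]
        rw [this]
        exact Submodule.mem_map_of_mem hy
      · refine Submodule.map_mono ?_
        rw [Submodule.span_le]
        exact hSK
    rw [this]
    exact (Submodule.fg_span S.finite_toSet).map _
  have hN : N ≤ K • N := by
    rintro _ ⟨k, hk, rfl⟩
    have h1 := hK hk
    rw [Submodule.mem_sup] at h1
    obtain ⟨y, hy, z, hz, rfl⟩ := h1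
    have h2 : Submodule.mkQ P (y + z) = Submodule.mkQ P z := by
      rw [map_add]
      have : Submodule.mkQ P y = 0 := by
        rw [Submodule.mkQ_apply, Submodule.Quotient.mk_eq_zero]
        exact hy
      rw [this, zero_add]
    rw [h2]
    have h3 : (K ^ 2 : Ideal E) = K • (K : Submodule E E) := by
      rw [pow_two]; rfl
    have h4 : Submodule.mkQ P z ∈ Submodule.map (Submodule.mkQ P) (K • (K : Submodule E E)) :=
      Submodule.mem_map_of_mem (h3 ▸ hz)
    rwa [Submodule.map_smul''] at h4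
  obtain ⟨t₁, ht₁, hkill⟩ :=
    Submodule.exists_sub_one_mem_and_smul_eq_zero_of_fg_of_le_smul K N hNfg hN
  refine ⟨t₁, ht₁, fun k hk => ?_⟩
  have h1 := hkill (Submodule.mkQ P k) (Submodule.mem_map_of_mem hk)
  rw [← map_smul, Submodule.mkQ_apply, Submodule.Quotient.mk_eq_zero, smul_eq_mul] at h1
  exact h1

/-- The reduction modulo `I` of the localized quotient `(E ⧸ L)_x` is `A₀`. -/
theorem nonempty_quotient_equiv {R E A₀ : Type u} [CommRing R] [CommRing E] [Algebra R E]
    (I : Ideal R) [CommRing A₀] [Algebra R A₀] [Algebra (R ⧸ I) A₀] [IsScalarTower R (R ⧸ I) A₀]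
    (π : E →ₐ[R] A₀) (hπ : Function.Surjective π) (L : Ideal E)
    (hLK : L ≤ RingHom.ker π.toRingHom) (x : E) (hx : π x = 1)
    (hxK : ∀ k ∈ RingHom.ker π.toRingHom, x * k ∈ L ⊔ I.map (algebraMap R E)) :
    Nonempty ((Localization.Away (Ideal.Quotient.mk L x) ⧸
      I.map (algebraMap R (Localization.Away (Ideal.Quotient.mk L x)))) ≃ₐ[R ⧸ I] A₀) := by
  let xb : E ⧸ L := Ideal.Quotient.mk L x
  let T := Localization.Away xb
  let πb : E ⧸ L →ₐ[R] A₀ := Ideal.Quotient.liftₐ L π (fun l hl => hLK hl)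
  have hπb : ∀ e : E, πb (Ideal.Quotient.mk L e) = π e := fun e => rfl
  have hunit : IsUnit (πb.toRingHom xb) := by
    change IsUnit (πb xb)
    rw [hπb, hx]
    exact isUnit_one
  let Φ₀ : T →+* A₀ := IsLocalization.Away.lift xb hunit
  have hΦ₀ : ∀ y : E ⧸ L, Φ₀ (algebraMap (E ⧸ L) T y) = πb y := fun y =>
    IsLocalization.Away.lift_eq xb hunit y
  let Φ : T →ₐ[R] A₀ :=
    { Φ₀ with
      commutes' := fun c => by
        change Φ₀ (algebraMap R T c) = _
        rw [IsScalarTower.algebraMap_apply R (E ⧸ L) T, hΦ₀, AlgHom.commutes] }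
  have hΦ : ∀ y : E ⧸ L, Φ (algebraMap (E ⧸ L) T y) = πb y := hΦ₀
  have hI0 : ∀ i ∈ I, algebraMap R A₀ i = 0 := by
    intro i hi
    rw [IsScalarTower.algebraMap_apply R (R ⧸ I) A₀, Ideal.Quotient.algebraMap_eq,
      Ideal.Quotient.eq_zero_iff_mem.mpr hi, map_zero]
  have hΦI : ∀ z ∈ I.map (algebraMap R T), Φ z = 0 := by
    intro z hz
    have : I.map (algebraMap R T) ≤ RingHom.ker Φ.toRingHom := by
      rw [Ideal.map_le_iff_le_comap]
      intro i hi
      rw [Ideal.mem_comap, RingHom.mem_ker]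
      change Φ (algebraMap R T i) = 0
      rw [AlgHom.commutes, hI0 i hi]
    exact this hz
  let Ψ : (T ⧸ I.map (algebraMap R T)) →ₐ[R] A₀ := Ideal.Quotient.liftₐ _ Φ hΦI
  have hΨ : ∀ z : T, Ψ (Ideal.Quotient.mk _ z) = Φ z := fun z => rfl
  let Ψ' : (T ⧸ I.map (algebraMap R T)) →ₐ[R ⧸ I] A₀ :=
    { Ψ.toRingHom with
      commutes' := fun c => by
        obtain ⟨c, rfl⟩ := Ideal.Quotient.mk_surjective c
        change Ψ (Ideal.Quotient.mk _ (algebraMap R T c)) = _
        rw [hΨ, AlgHom.commutes, IsScalarTower.algebraMap_apply R (R ⧸ I) A₀]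
        rfl }
  have hΨ' : ∀ z, Ψ' z = Ψ z := fun z => rfl
  have hsurj : Function.Surjective Ψ' := by
    intro a
    obtain ⟨e, rfl⟩ := hπ a
    exact ⟨Ideal.Quotient.mk _ (algebraMap (E ⧸ L) T (Ideal.Quotient.mk L e)), by
      rw [hΨ', hΨ, hΦ, hπb]⟩
  have hinj : Function.Injective Ψ' := by
    rw [injective_iff_map_eq_zero]
    intro y hy
    obtain ⟨z, rfl⟩ := Ideal.Quotient.mk_surjective y
    rw [hΨ', hΨ] at hy
    rw [Ideal.Quotient.eq_zero_iff_mem]
    obtain ⟨⟨eb, ⟨_, n, rfl⟩⟩, hz⟩ := IsLocalization.surj (Submonoid.powers xb) z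
    obtain ⟨e, rfl⟩ := Ideal.Quotient.mk_surjective eb
    simp only at hz
    -- `π e = 0`
    have h1 : π e = 0 := by
      have h2 := congrArg Φ hz
      rw [map_mul, hΦ, hΦ, hy, zero_mul] at h2
      rw [← hπb, ← h2]
    have h3 := hxK e h1
    -- the image of `x * e` in `T` lies in `I T`
    have h4 : algebraMap (E ⧸ L) T (Ideal.Quotient.mk L (x * e)) ∈ I.map (algebraMap R T) := by
      rw [Submodule.mem_sup] at h3
      obtain ⟨l, hl, j, hj, hlj⟩ := h3
      rw [← hlj, map_add, Ideal.Quotient.eq_zero_iff_mem.mpr hl, zero_add]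
      have h5 : (I.map (algebraMap R E)).map
          ((algebraMap (E ⧸ L) T).comp (Ideal.Quotient.mk L)) ≤ I.map (algebraMap R T) := by
        rw [Ideal.map_map]
        apply le_of_eq
        congr 1
      exact h5 (Ideal.mem_map_of_mem _ hj)
    have hxu : IsUnit (algebraMap (E ⧸ L) T xb) := IsLocalization.Away.algebraMap_isUnit xb
    have hxun : IsUnit (algebraMap (E ⧸ L) T (xb ^ n)) := by
      rw [map_pow]; exact hxu.pow n
    have h6 : algebraMap (E ⧸ L) T (Ideal.Quotient.mk L e) ∈ I.map (algebraMap R T) := by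
      rw [map_mul, map_mul] at h4
      obtain ⟨v, hv⟩ := hxu.exists_left_inv
      have := Ideal.mul_mem_left _ v h4
      rwa [← mul_assoc, hv, one_mul] at this
    rw [← hz] at h6
    obtain ⟨v, hv⟩ := hxun.exists_left_inv
    have := Ideal.mul_mem_left _ v h6
    rwa [mul_comm z, ← mul_assoc, hv, one_mul] at this
  exact ⟨AlgEquiv.ofBijective Ψ' ⟨hinj, hsurj⟩⟩

end Groth.Agent.Helper8.SmQ
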