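import Mathlib

/-!
# Lifting smooth algebras along a quotient, V: differentials of a quotient
-/

set_option autoImplicit false
universe u

namespace Groth.Agent.Helper8.SmQ

open KaehlerDifferential TensorProduct

/-- M1: differentials do not change when the base is replaced by a quotient of it. -/
theorem map_injective_of_surjective (R R₀ A₀ : Type*) [CommRing R] [CommRing R₀] [CommRing A₀]
    [Algebra R R₀] [Algebra R A₀] [Algebra R₀ A₀] [IsScalarTower R R₀ A₀]
    (h : Function.Surjective (algebraMap R R₀)) :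
    Function.Injective (KaehlerDifferential.map R R₀ A₀ A₀) := by
  haveI : Subsingleton (Ω[R₀⁄R]) := KaehlerDifferential.subsingleton_of_surjective R R₀ h
  have h0 : ∀ x : A₀ ⊗[R₀] Ω[R₀⁄R], x = 0 := by
    intro x
    induction x with
    | zero => rfl
    | tmul a m => rw [Subsingleton.elim m 0, tmul_zero]
    | add a b ha hb => rw [ha, hb, add_zero]
  rw [injective_iff_map_eq_zero]
  intro x hx
  obtain ⟨y, rfl⟩ := (KaehlerDifferential.exact_mapBaseChange_map R R₀ A₀ x).mp hx
  rw [h0 y, map_zero]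

/-- An element `x` with `1 ⊗ x = 0` in `A₀ ⊗[E] M` lies in `K • M`, where `K` is the kernel of
the surjection `E → A₀`. -/
theorem mem_smul_top_of_tmul_eq_zero {E A₀ M : Type*} [CommRing E] [CommRing A₀] [Algebra E A₀]
    [AddCommGroup M] [Module E M] (hsurj : Function.Surjective (algebraMap E A₀)) (x : M)
    (hx : (1 : A₀) ⊗ₜ[E] x = 0) :
    x ∈ (RingHom.ker (algebraMap E A₀)) • (⊤ : Submodule E M) := by
  let K := RingHom.ker (algebraMap E A₀)
  let e₀ : (E ⧸ K) ≃ₐ[E] A₀ :=
    Ideal.quotientKerAlgEquivOfSurjective (f := Algebra.ofId E A₀) hsurj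
  let e₁ : (E ⧸ K) ⊗[E] M ≃ₗ[E] A₀ ⊗[E] M :=
    TensorProduct.congr e₀.toLinearEquiv (LinearEquiv.refl E M)
  have h1 : e₁ ((1 : E ⧸ K) ⊗ₜ[E] x) = (1 : A₀) ⊗ₜ[E] x := by
    simp [e₁]
  have h2 : (1 : E ⧸ K) ⊗ₜ[E] x = 0 := by
    apply e₁.injective
    rw [h1, hx, map_zero]
  have h3 := congrArg (TensorProduct.quotTensorEquivQuotSMul M K) h2
  rw [TensorProduct.quotTensorEquivQuotSMul_mk_one_tmul, map_zero,
    Submodule.Quotient.mk_eq_zero] at h3
  exact h3

/-- M2: exactness in the middle of the conormal sequence, elementwise. -/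
theorem exists_sub_D_mem_smul {R E A₀ : Type*} [CommRing R] [CommRing E] [CommRing A₀]
    [Algebra R E] [Algebra R A₀] [Algebra E A₀] [IsScalarTower R E A₀]
    (hsurj : Function.Surjective (algebraMap E A₀)) (ω : Ω[E⁄R])
    (hω : KaehlerDifferential.map R R E A₀ ω = 0) :
    ∃ k ∈ RingHom.ker (algebraMap E A₀),
      ω - D R E k ∈ (RingHom.ker (algebraMap E A₀)) • (⊤ : Submodule E Ω[E⁄R]) := by
  have h1 : KaehlerDifferential.mapBaseChange R E A₀ ((1 : A₀) ⊗ₜ[E] ω) = 0 := by
    rw [KaehlerDifferential.mapBaseChange_tmul, hω, smul_zero]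
  obtain ⟨c, hc⟩ :=
    (KaehlerDifferential.exact_kerCotangentToTensor_mapBaseChange R E A₀ hsurj _).mp h1
  obtain ⟨k, rfl⟩ := Ideal.toCotangent_surjective _ c
  rw [KaehlerDifferential.kerCotangentToTensor_toCotangent] at hc
  refine ⟨k.1, k.2, ?_⟩
  apply mem_smul_top_of_tmul_eq_zero hsurj
  rw [tmul_sub, hc, sub_self]

/-- M4: the differential of an element of `K ^ 2 ⊔ I E` lies in `K Ω`. -/
theorem D_mem_smul_top_of_mem_sq_sup {R E : Type*} [CommRing R] [CommRing E] [Algebra R E]
    (I : Ideal R) (K : Ideal E) (hIK : I.map (algebraMap R E) ≤ K) (k : E)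
    (hk : k ∈ K ^ 2 ⊔ I.map (algebraMap R E)) :
    D R E k ∈ K • (⊤ : Submodule E Ω[E⁄R]) := by
  rw [Submodule.mem_sup] at hk
  obtain ⟨a, ha, b, hb, rfl⟩ := hk
  rw [map_add]
  refine Submodule.add_mem _ ?_ ?_
  · rw [pow_two] at ha
    refine Submodule.mul_induction_on ha (fun x hx y hy => ?_) (fun x y hx hy => ?_)
    · rw [Derivation.leibniz]
      exact Submodule.add_mem _ (Submodule.smul_mem_smul hx Submodule.mem_top)
        (Submodule.smul_mem_smul hy Submodule.mem_top)
    · rw [map_add]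
      exact Submodule.add_mem _ hx hy
  · rw [Ideal.map, Ideal.span] at hb
    refine Submodule.span_induction (p := fun b _ => D R E b ∈ K • (⊤ : Submodule E Ω[E⁄R]))
      ?_ ?_ ?_ ?_ hb
    · rintro _ ⟨i, hi, rfl⟩
      rw [Derivation.map_algebraMap]
      exact Submodule.zero_mem _
    · rw [map_zero]; exact Submodule.zero_mem _
    · intro x y _ _ hx hy
      rw [map_add]; exact Submodule.add_mem _ hx hy
    · intro c x hx hDx
      rw [smul_eq_mul, Derivation.leibniz]
      refine Submodule.add_mem _ (Submodule.smul_mem _ _ hDx) ?_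
      exact Submodule.smul_mem_smul (hIK (Ideal.subset_span hx |> fun h => by
        simpa [Ideal.map, Ideal.span] using h)) Submodule.mem_top
  
end Groth.Agent.Helper8.SmQ
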