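import Mathlib

/-!
# Lifting smooth algebras along a quotient, VI: the retraction coming from smoothness of `A₀`
-/

set_option autoImplicit false
universe u

namespace Groth.Agent.Helper8.SmQ

open KaehlerDifferential

/-- M3: if `A₀` is formally smooth over `R ⧸ I` and `π : E → A₀` is a surjection of `R`-algebras
with kernel `K`, then there is an `E`-linear map `ℓ : Ω[E⁄R] → E ⧸ (K² + I E)` with values in the
image of `K` and with `ℓ (d k) = [k]` for `k ∈ K`. -/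
theorem exists_retraction_mod {R E A₀ : Type u} [CommRing R] [CommRing E] [CommRing A₀]
    [Algebra R E] (I : Ideal R) [Algebra R A₀] [Algebra (R ⧸ I) A₀] [IsScalarTower R (R ⧸ I) A₀]
    [Algebra.FormallySmooth (R ⧸ I) A₀] (π : E →ₐ[R] A₀) (hπ : Function.Surjective π) :
    ∃ ℓ : Ω[E⁄R] →ₗ[E] E ⧸ ((RingHom.ker π.toRingHom) ^ 2 ⊔ I.map (algebraMap R E)),
      (∀ k ∈ RingHom.ker π.toRingHom, ℓ (D R E k) = Ideal.Quotient.mk _ k) ∧
      (∀ ω, ∃ k ∈ RingHom.ker π.toRingHom, ℓ ω = Ideal.Quotient.mk _ k) := by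
  set K := RingHom.ker π.toRingHom with hK
  set P := K ^ 2 ⊔ I.map (algebraMap R E) with hP
  have hI0 : ∀ i ∈ I, algebraMap R A₀ i = 0 := by
    intro i hi
    rw [IsScalarTower.algebraMap_apply R (R ⧸ I) A₀, Ideal.Quotient.algebraMap_eq,
      Ideal.Quotient.eq_zero_iff_mem.mpr hi, map_zero]
  have hIK : I.map (algebraMap R E) ≤ K := by
    rw [Ideal.map_le_iff_le_comap]
    intro i hi
    rw [Ideal.mem_comap, hK, RingHom.mem_ker]
    change π (algebraMap R E i) = 0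
    rw [AlgHom.commutes, hI0 i hi]
  have hPK : P ≤ K := sup_le (Ideal.pow_le_self two_ne_zero) hIK
  have hIP : I ≤ Ideal.comap (algebraMap R E) P := Ideal.map_le_iff_le_comap.mp le_sup_right
  letI : Algebra (R ⧸ I) (E ⧸ P) := Ideal.Quotient.algebraQuotientOfLEComap hIP
  haveI : IsScalarTower R (R ⧸ I) (E ⧸ P) := IsScalarTower.of_algebraMap_eq (fun x => rfl)
  let g₀ : E ⧸ P →ₐ[R] A₀ := Ideal.Quotient.liftₐ P π (fun a ha => hPK ha)
  have hg₀ : ∀ e : E, g₀ (Ideal.Quotient.mk P e) = π e := fun e => rfl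
  let g : E ⧸ P →ₐ[R ⧸ I] A₀ :=
    { g₀.toRingHom with
      commutes' := fun c => by
        obtain ⟨c, rfl⟩ := Ideal.Quotient.mk_surjective c
        change g₀ (Ideal.Quotient.mk P (algebraMap R E c)) = _
        rw [hg₀, AlgHom.commutes, IsScalarTower.algebraMap_apply R (R ⧸ I) A₀]
        rfl }
  have hg : ∀ e : E, g (Ideal.Quotient.mk P e) = π e := fun e => rfl
  have hgsurj : Function.Surjective g := by
    intro a
    obtain ⟨e, rfl⟩ := hπ a
    exact ⟨Ideal.Quotient.mk P e, hg e⟩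
  have hkerg : ∀ y ∈ RingHom.ker (g : E ⧸ P →+* A₀), ∃ k ∈ K, y = Ideal.Quotient.mk P k := by
    intro y hy
    obtain ⟨e, rfl⟩ := Ideal.Quotient.mk_surjective y
    refine ⟨e, ?_, rfl⟩
    rw [hK, RingHom.mem_ker]
    exact hy
  have hsq : (RingHom.ker (g : E ⧸ P →+* A₀)) ^ 2 = ⊥ := by
    rw [eq_bot_iff, pow_two, Ideal.mul_le]
    intro x hx y hy
    obtain ⟨a, ha, rfl⟩ := hkerg x hx
    obtain ⟨b, hb, rfl⟩ := hkerg y hy
    rw [Ideal.mem_bot, ← map_mul, Ideal.Quotient.eq_zero_iff_mem]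
    refine Ideal.mem_sup_left ?_
    rw [pow_two]
    exact Ideal.mul_mem_mul ha hb
  have hnil : IsNilpotent (RingHom.ker (g : E ⧸ P →+* A₀)) := ⟨2, hsq⟩
  let σ : A₀ →ₐ[R ⧸ I] E ⧸ P :=
    Algebra.FormallySmooth.liftOfSurjective (AlgHom.id (R ⧸ I) A₀) g hgsurj hnil
  have hσ : ∀ a, g (σ a) = a := fun a =>
    Algebra.FormallySmooth.liftOfSurjective_apply (AlgHom.id (R ⧸ I) A₀) g hgsurj hnil a
  let f₁ : E →ₐ[R] E ⧸ P := (σ.restrictScalars R).comp π
  have hf₁ : ∀ e, f₁ e = σ (π e) := fun e => rfl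
  have he : (Ideal.Quotient.mkₐ R (RingHom.ker (g : E ⧸ P →+* A₀))).comp f₁ =
      IsScalarTower.toAlgHom R E ((E ⧸ P) ⧸ RingHom.ker (g : E ⧸ P →+* A₀)) := by
    ext e
    simp only [AlgHom.comp_apply, Ideal.Quotient.mkₐ_eq_mk, IsScalarTower.coe_toAlgHom']
    rw [IsScalarTower.algebraMap_apply E (E ⧸ P) ((E ⧸ P) ⧸ RingHom.ker (g : E ⧸ P →+* A₀)),
      Ideal.Quotient.algebraMap_eq, Ideal.Quotient.algebraMap_eq, Ideal.Quotient.eq,
      RingHom.mem_ker, map_sub, hf₁]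
    change g (σ (π e)) - g (Ideal.Quotient.mk P e) = 0
    rw [hσ, hg, sub_self]
  let d : Derivation R E (RingHom.ker (g : E ⧸ P →+* A₀)) :=
    derivationToSquareZeroOfLift (RingHom.ker (g : E ⧸ P →+* A₀)) hsq f₁ he
  have hd : ∀ e, ((d e : RingHom.ker (g : E ⧸ P →+* A₀)) : E ⧸ P) =
      f₁ e - Ideal.Quotient.mk P e := fun e => rfl
  let ℓ₀ : Ω[E⁄R] →ₗ[E] RingHom.ker (g : E ⧸ P →+* A₀) := d.liftKaehlerDifferential
  let incl : RingHom.ker (g : E ⧸ P →+* A₀) →ₗ[E] E ⧸ P :=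
    (Submodule.subtype _).restrictScalars E
  refine ⟨-(incl ∘ₗ ℓ₀), ?_, ?_⟩
  · intro k hk
    simp only [LinearMap.neg_apply, LinearMap.comp_apply, ℓ₀, Derivation.liftKaehlerDifferential_comp_D]
    change -((d k : RingHom.ker (g : E ⧸ P →+* A₀)) : E ⧸ P) = _
    rw [hd, hf₁]
    have : π k = 0 := hk
    rw [this, map_zero, zero_sub, neg_neg]
  · intro ω
    obtain ⟨k, hk, hk'⟩ := hkerg _ (ℓ₀ ω).2
    refine ⟨-k, K.neg_mem hk, ?_⟩
    simp only [LinearMap.neg_apply, LinearMap.comp_apply, map_neg]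
    congr 1

end Groth.Agent.Helper8.SmQ
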