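import Mathlib
import Groth.Agent.Lib.Helper8.SmQ2
import Groth.Agent.Lib.Helper8.SmQ3
import Groth.Agent.Lib.Helper8.SmQ5
import Groth.Agent.Lib.Helper8.SmQ6

/-!
# Lifting smooth algebras along a quotient, VII: the abstract lifting theorem
-/

set_option autoImplicit false
universe u

namespace Groth.Agent.Helper8.SmQ

open KaehlerDifferential

/-- Finite generation of the kernel modulo `I E`. -/
theorem exists_finset_ker_le {R E A₀ : Type u} [CommRing R] [CommRing E] [CommRing A₀]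
    [Algebra R E] [Algebra.FinitePresentation R E] (I : Ideal R) [Algebra R A₀]
    [Algebra (R ⧸ I) A₀] [IsScalarTower R (R ⧸ I) A₀] [Algebra.FinitePresentation (R ⧸ I) A₀]
    (π : E →ₐ[R] A₀) (hπ : Function.Surjective π) :
    ∃ S : Finset E, (S : Set E) ⊆ RingHom.ker π.toRingHom ∧
      RingHom.ker π.toRingHom ≤ Ideal.span (S : Set E) ⊔ I.map (algebraMap R E) := by
  set K := RingHom.ker π.toRingHom with hK
  let J := I.map (algebraMap R E)
  haveI : Algebra.FinitePresentation (R ⧸ I) (E ⧸ J) :=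
    Algebra.FinitePresentation.equiv (Algebra.TensorProduct.quotIdealMapEquivQuotTensor E I).symm
  have hI0 : ∀ i ∈ I, algebraMap R A₀ i = 0 := by
    intro i hi
    rw [IsScalarTower.algebraMap_apply R (R ⧸ I) A₀, Ideal.Quotient.algebraMap_eq,
      Ideal.Quotient.eq_zero_iff_mem.mpr hi, map_zero]
  have hJK : J ≤ K := by
    rw [Ideal.map_le_iff_le_comap]
    intro i hi
    rw [Ideal.mem_comap, hK, RingHom.mem_ker]
    change π (algebraMap R E i) = 0
    rw [AlgHom.commutes, hI0 i hi]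
  let g₀ : E ⧸ J →ₐ[R] A₀ := Ideal.Quotient.liftₐ J π (fun a ha => hJK ha)
  have hg₀ : ∀ e : E, g₀ (Ideal.Quotient.mk J e) = π e := fun e => rfl
  let g : E ⧸ J →ₐ[R ⧸ I] A₀ :=
    { g₀.toRingHom with
      commutes' := fun c => by
        obtain ⟨c, rfl⟩ := Ideal.Quotient.mk_surjective c
        change g₀ (Ideal.Quotient.mk J (algebraMap R E c)) = _
        rw [hg₀, AlgHom.commutes, IsScalarTower.algebraMap_apply R (R ⧸ I) A₀]
        rfl }
  have hg : ∀ e : E, g (Ideal.Quotient.mk J e) = π e := fun e => rfl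
  have hgsurj : Function.Surjective g := by
    intro a
    obtain ⟨e, rfl⟩ := hπ a
    exact ⟨Ideal.Quotient.mk J e, hg e⟩
  obtain ⟨Sb, hSb⟩ := Algebra.FinitePresentation.ker_fG_of_surjective g hgsurj
  classical
  choose lift hlift using fun y : E ⧸ J => Ideal.Quotient.mk_surjective y
  refine ⟨Sb.image lift, ?_, ?_⟩
  · intro e he
    rw [Finset.coe_image] at he
    obtain ⟨y, hy, rfl⟩ := he
    have h1 : y ∈ RingHom.ker g.toRingHom := by
      rw [← hSb]; exact Ideal.subset_span hy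
    rw [SetLike.mem_coe, hK, RingHom.mem_ker]
    change π (lift y) = 0
    rw [← hg, hlift]
    exact h1
  · intro k hk
    have h1 : Ideal.Quotient.mk J k ∈ Ideal.span (Sb : Set (E ⧸ J)) := by
      rw [hSb, RingHom.mem_ker]
      change g (Ideal.Quotient.mk J k) = 0
      rw [hg]
      exact hk
    have h2 : Ideal.span (Sb : Set (E ⧸ J)) =
        (Ideal.span ((Sb.image lift : Finset E) : Set E)).map (Ideal.Quotient.mk J) := by
      rw [Ideal.map_span, Finset.coe_image, Set.image_image]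
      congr 1
      ext y
      simp [hlift]
    rw [h2, Ideal.mem_map_iff_of_surjective _ Ideal.Quotient.mk_surjective] at h1
    obtain ⟨y, hy, hyk⟩ := h1
    have h3 : k - y ∈ J := by
      rw [← Ideal.Quotient.eq, hyk]
    have : k = y + (k - y) := by ring
    rw [this]
    exact Submodule.add_mem _ (Ideal.mem_sup_left hy) (Ideal.mem_sup_right h3)

/-- The abstract lifting theorem. -/
theorem exists_smooth_lift_of_data {R E A₀ : Type u} [CommRing R] [CommRing E] [CommRing A₀]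
    [Algebra R E] [Algebra.Smooth R E] (I : Ideal R) [Algebra R A₀] [Algebra (R ⧸ I) A₀]
    [IsScalarTower R (R ⧸ I) A₀] [Algebra.Smooth (R ⧸ I) A₀] [Algebra E A₀] [IsScalarTower R E A₀]
    (hsurj : Function.Surjective (algebraMap E A₀))
    {Q : Type u} [AddCommGroup Q] [Module E Q] [Module R Q] [IsScalarTower R E Q]
    [Module.Finite E Q] [Module.Projective E Q]
    (ψ : Q →ₗ[E] Ω[A₀⁄R]) (δ : Derivation R E Q)
    (h1 : ∀ e, ψ (δ e) = D R A₀ (algebraMap E A₀ e))
    (h2 : Submodule.span E (Set.range δ) = ⊤)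
    (h3 : ∀ q, ψ q = 0 → q ∈ (RingHom.ker (algebraMap E A₀)) • (⊤ : Submodule E Q)) :
    ∃ (A : Type u) (_ : CommRing A) (_ : Algebra R A), Algebra.Smooth R A ∧
      Nonempty ((A ⧸ I.map (algebraMap R A)) ≃ₐ[R ⧸ I] A₀) := by
  haveI : Algebra.FormallySmooth R E := (inferInstance : Algebra.Smooth R E).1
  haveI : Algebra.FinitePresentation R E := (inferInstance : Algebra.Smooth R E).2
  haveI : Algebra.FormallySmooth (R ⧸ I) A₀ := (inferInstance : Algebra.Smooth (R ⧸ I) A₀).1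
  haveI : Algebra.FinitePresentation (R ⧸ I) A₀ := (inferInstance : Algebra.Smooth (R ⧸ I) A₀).2
  let π : E →ₐ[R] A₀ := IsScalarTower.toAlgHom R E A₀
  have hπ : Function.Surjective π := hsurj
  set K : Ideal E := RingHom.ker (algebraMap E A₀) with hK
  have hKπ : RingHom.ker π.toRingHom = K := rfl
  have hI0 : ∀ i ∈ I, algebraMap R A₀ i = 0 := by
    intro i hi
    rw [IsScalarTower.algebraMap_apply R (R ⧸ I) A₀, Ideal.Quotient.algebraMap_eq,
      Ideal.Quotient.eq_zero_iff_mem.mpr hi, map_zero]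
  have hIK : I.map (algebraMap R E) ≤ K := by
    rw [Ideal.map_le_iff_le_comap]
    intro i hi
    rw [Ideal.mem_comap, hK, RingHom.mem_ker, ← IsScalarTower.algebraMap_apply, hI0 i hi]
  -- the surjection `φ`
  let φ : Ω[E⁄R] →ₗ[E] Q := δ.liftKaehlerDifferential
  have hφD : ∀ e, φ (D R E e) = δ e := fun e => Derivation.liftKaehlerDifferential_comp_D δ e
  have hφsurj : Function.Surjective φ := by
    rw [← LinearMap.range_eq_top, _root_.eq_top_iff, ← h2, Submodule.span_le]
    rintro _ ⟨e, rfl⟩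
    exact ⟨D R E e, hφD e⟩
  have hψφ : ∀ ω, ψ (φ ω) = KaehlerDifferential.map R R E A₀ ω := by
    intro ω
    have : ψ ∘ₗ φ = KaehlerDifferential.map R R E A₀ := by
      apply Derivation.liftKaehlerDifferential_unique
      ext e
      change ψ (φ (D R E e)) = KaehlerDifferential.map R R E A₀ (D R E e)
      rw [hφD, h1, KaehlerDifferential.map_D]
    exact congr($this ω)
  obtain ⟨ξ, hξ⟩ := Module.projective_lifting_property φ LinearMap.id hφsurj
  have hξ' : ∀ q, φ (ξ q) = q := fun q => congr($hξ q)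
  -- the module `W`
  let W : Submodule E Ω[E⁄R] := LinearMap.ker φ
  let r : Ω[E⁄R] →ₗ[E] W := (LinearMap.id - ξ ∘ₗ φ).codRestrict W (fun ω => by
    rw [LinearMap.mem_ker, LinearMap.sub_apply, LinearMap.id_apply, LinearMap.comp_apply, map_sub,
      hξ', sub_self])
  have hr : ∀ ω, (r ω : Ω[E⁄R]) = ω - ξ (φ ω) := fun ω => rfl
  have hrW : ∀ w : W, r w = w := by
    intro w
    apply Subtype.ext
    rw [hr, LinearMap.mem_ker.mp w.2, map_zero, sub_zero]
  haveI : Module.Finite E Ω[E⁄R] := inferInstance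
  haveI : Module.Finite E W := Module.Finite.of_surjective r (fun w => ⟨w, hrW w⟩)
  haveI : Module.Projective E W :=
    Module.Projective.of_split W.subtype r (LinearMap.ext fun w => hrW w)
  -- the retraction `ℓ`
  set P : Ideal E := K ^ 2 ⊔ I.map (algebraMap R E) with hP
  obtain ⟨ℓ, hℓ1, hℓ2⟩ : ∃ ℓ : Ω[E⁄R] →ₗ[E] E ⧸ P,
      (∀ k ∈ K, ℓ (D R E k) = Ideal.Quotient.mk P k) ∧
      (∀ ω, ∃ k ∈ K, ℓ ω = Ideal.Quotient.mk P k) := exists_retraction_mod I π hπ
  have hℓK : ∀ ω ∈ K • (⊤ : Submodule E Ω[E⁄R]), ℓ ω = 0 := by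
    intro ω hω
    refine Submodule.smul_induction_on hω (fun k hk ω' _ => ?_) (fun x y hx hy => ?_)
    · obtain ⟨k', hk', hk''⟩ := hℓ2 ω'
      rw [map_smul, hk'', Algebra.smul_def, Ideal.Quotient.algebraMap_eq, ← map_mul,
        Ideal.Quotient.eq_zero_iff_mem]
      refine Ideal.mem_sup_left ?_
      rw [pow_two]
      exact Ideal.mul_mem_mul hk hk'
    · rw [map_add, hx, hy, add_zero]
  -- `φ (d k) ∈ K Q` for `k ∈ K`
  have hφK : ∀ k ∈ K, φ (D R E k) ∈ K • (⊤ : Submodule E Q) := by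
    intro k hk
    apply h3
    rw [hφD, h1, RingHom.mem_ker.mp hk, map_zero]
  have hξK : ∀ q ∈ K • (⊤ : Submodule E Q), ξ q ∈ K • (⊤ : Submodule E Ω[E⁄R]) := by
    intro q hq
    refine Submodule.smul_induction_on hq (fun k hk q' _ => ?_) (fun x y hx hy => ?_)
    · rw [map_smul]
      exact Submodule.smul_mem_smul hk Submodule.mem_top
    · rw [map_add]
      exact Submodule.add_mem _ hx hy
  -- the map `s`
  let κ : K →ₗ[E] E ⧸ P := (Submodule.mkQ P) ∘ₗ K.subtype
  have hκ : ∀ k : K, κ k = Ideal.Quotient.mk P k.1 := fun k => rfl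
  let N : Submodule E (E ⧸ P) := LinearMap.range κ
  let ℓW : W →ₗ[E] N := (ℓ ∘ₗ W.subtype).codRestrict N (fun w => by
    obtain ⟨k, hk, hk'⟩ := hℓ2 w.1
    exact ⟨⟨k, hk⟩, hk'.symm⟩)
  obtain ⟨s', hs'⟩ := Module.projective_lifting_property κ.rangeRestrict ℓW
    (LinearMap.surjective_rangeRestrict κ)
  let s : W →ₗ[E] E := K.subtype ∘ₗ s'
  have hsK : ∀ w, s w ∈ K := fun w => (s' w).2
  have hsℓ : ∀ w : W, Ideal.Quotient.mk P (s w) = ℓ w.1 := by
    intro w
    have := congr($hs' w)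
    have h4 : (κ.rangeRestrict (s' w) : E ⧸ P) = (ℓW w : E ⧸ P) := congrArg Subtype.val this
    exact h4
  -- (C1): `φ ω = 0` and `ℓ ω = 0` imply `ω ∈ K Ω`
  have hC1 : ∀ ω : Ω[E⁄R], φ ω = 0 → ℓ ω = 0 → ω ∈ K • (⊤ : Submodule E Ω[E⁄R]) := by
    intro ω hφω hℓω
    have h4 : KaehlerDifferential.map R R E A₀ ω = 0 := by rw [← hψφ, hφω, map_zero]
    obtain ⟨k, hk, hkω⟩ := exists_sub_D_mem_smul hsurj ω h4
    have h5 : ℓ (D R E k) = 0 := by
      have : ω = (ω - D R E k) + D R E k := by abel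
      rw [this, map_add, hℓK _ hkω, zero_add] at hℓω
      exact hℓω
    rw [hℓ1 k hk, Ideal.Quotient.eq_zero_iff_mem] at h5
    have h6 := D_mem_smul_top_of_mem_sq_sup I K hIK k h5
    have : ω = (ω - D R E k) + D R E k := by abel
    rw [this]
    exact Submodule.add_mem _ hkω h6
  have hrK : ∀ ω ∈ K • (⊤ : Submodule E Ω[E⁄R]), r ω ∈ K • (⊤ : Submodule E W) := by
    intro ω hω
    refine Submodule.smul_induction_on hω (fun k hk ω' _ => ?_) (fun x y hx hy => ?_)
    · rw [map_smul]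
      exact Submodule.smul_mem_smul hk Submodule.mem_top
    · rw [map_add]
      exact Submodule.add_mem _ hx hy
  -- (F2)
  have hF2 : ∀ w : W, r (D R E (s w)) - w ∈ K • (⊤ : Submodule E W) := by
    intro w
    set x : W := r (D R E (s w)) - w with hx
    have hxval : (x : Ω[E⁄R]) = D R E (s w) - ξ (φ (D R E (s w))) - w.1 := by
      rw [hx, Submodule.coe_sub, hr]
    have h4 : ℓ (x : Ω[E⁄R]) = 0 := by
      rw [hxval, map_sub, map_sub, hℓ1 _ (hsK w), hsℓ w,
        hℓK _ (hξK _ (hφK _ (hsK w))), sub_zero, sub_self]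
    have h5 : φ (x : Ω[E⁄R]) = 0 := LinearMap.mem_ker.mp x.2
    have h6 := hrK _ (hC1 _ h5 h4)
    rwa [hrW] at h6
  -- the ideal `L`
  let L : Ideal E := LinearMap.range s
  have hsL : ∀ w, s w ∈ L := fun w => ⟨w, rfl⟩
  have hLs : ∀ l ∈ L, ∃ w, s w = l := fun l hl => hl
  have hLK : L ≤ K := by
    rintro _ ⟨w, rfl⟩
    exact hsK w
  -- (F3)
  have hF3 : K ≤ L ⊔ I.map (algebraMap R E) ⊔ K ^ 2 := by
    intro k hk
    have h4 : Ideal.Quotient.mk P k = Ideal.Quotient.mk P (s (r (D R E k))) := by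
      rw [hsℓ, hr, map_sub, hℓ1 k hk, hℓK _ (hξK _ (hφK k hk)), sub_zero]
    rw [Ideal.Quotient.eq] at h4
    have : k = s (r (D R E k)) + (k - s (r (D R E k))) := by ring
    rw [this]
    refine Submodule.add_mem _ (Ideal.mem_sup_left (Ideal.mem_sup_left (hsL _))) ?_
    rw [hP] at h4
    rw [Submodule.mem_sup] at h4
    obtain ⟨y, hy, z, hz, hyz⟩ := h4
    rw [← hyz]
    exact Submodule.add_mem _ (Ideal.mem_sup_right hy) (Ideal.mem_sup_left (Ideal.mem_sup_right hz))
  -- the key theorem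
  obtain ⟨t, htK, hsmooth⟩ := exists_smooth_localization L K s hsL hLs r hF2
  -- Nakayama
  obtain ⟨S, hSK, hKS⟩ := exists_finset_ker_le I π hπ
  have hKS' : K ≤ Ideal.span (S : Set E) ⊔ (L ⊔ I.map (algebraMap R E)) := by
    refine hKS.trans (sup_le_sup_left le_sup_right _)
  obtain ⟨t₁, ht₁K, ht₁⟩ := exists_mul_mem_sup K L (I.map (algebraMap R E)) S hKS' hSK hF3
  have hπ1 : ∀ y : E, y - 1 ∈ K → π y = 1 := by
    intro y hy
    have : π (y - 1) = 0 := hy
    rw [map_sub, map_one, sub_eq_zero] at this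
    exact this
  refine ⟨Localization.Away (Ideal.Quotient.mk L (t * t₁)), inferInstance, inferInstance,
    hsmooth t₁, ?_⟩
  refine nonempty_quotient_equiv I π hπ L hLK (t * t₁) ?_ ?_
  · rw [map_mul, hπ1 t htK, hπ1 t₁ ht₁K, one_mul]
  · intro k hk
    rw [mul_assoc]
    exact Ideal.mul_mem_left _ _ (ht₁ k hk)

end Groth.Agent.Helper8.SmQ
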