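import Mathlib
import Groth.Agent.Lib.Helper8.SmQ4
import Groth.Agent.Lib.Helper8.SmQ7

/-!
# Lifting smooth algebras along a quotient, VIII: construction of the data
-/

set_option autoImplicit false
universe u

namespace Groth.Agent.Helper8.SmQ

open KaehlerDifferential MvPolynomial

/-- Stage A: generators of `A₀` whose differentials are the image of a split surjection, encoded
by an idempotent matrix. -/
theorem exists_generators_idempotent {R A₀ : Type u} [CommRing R] (I : Ideal R) [CommRing A₀]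
    [Algebra R A₀] [Algebra (R ⧸ I) A₀] [IsScalarTower R (R ⧸ I) A₀]
    [Algebra.Smooth (R ⧸ I) A₀] :
    ∃ (n : ℕ) (f : MvPolynomial (Fin n) R →ₐ[R] A₀) (_ : Function.Surjective f)
      (fΩ : (Fin n → A₀) →ₗ[A₀] Ω[A₀⁄R]) (gΩ : Ω[A₀⁄R] →ₗ[A₀] (Fin n → A₀)),
      (∀ v, fΩ v = ∑ i, v i • D R A₀ (f (X i))) ∧ (∀ ω, fΩ (gΩ ω) = ω) := by
  haveI : Algebra.FormallySmooth (R ⧸ I) A₀ := (inferInstance : Algebra.Smooth (R ⧸ I) A₀).1
  haveI : Algebra.FinitePresentation (R ⧸ I) A₀ := (inferInstance : Algebra.Smooth (R ⧸ I) A₀).2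
  have hRsurj : Function.Surjective (algebraMap R (R ⧸ I)) := Ideal.Quotient.mk_surjective
  let eΩ : Ω[A₀⁄R] ≃ₗ[A₀] Ω[A₀⁄(R ⧸ I)] :=
    LinearEquiv.ofBijective (KaehlerDifferential.map R (R ⧸ I) A₀ A₀)
      ⟨map_injective_of_surjective R (R ⧸ I) A₀ hRsurj,
        KaehlerDifferential.map_surjective R (R ⧸ I) A₀⟩
  haveI : Module.Projective A₀ Ω[A₀⁄R] := Module.Projective.of_equiv eΩ.symm
  haveI : Algebra.FiniteType R (R ⧸ I) :=
    Algebra.FiniteType.of_surjective (Algebra.ofId R (R ⧸ I)) hRsurj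
  haveI : Algebra.FiniteType R A₀ :=
    Algebra.FiniteType.trans (inferInstance : Algebra.FiniteType R (R ⧸ I)) inferInstance
  obtain ⟨n, f, hf⟩ := Algebra.FiniteType.iff_quotient_mvPolynomial''.mp
    (inferInstance : Algebra.FiniteType R A₀)
  let G₀ : Algebra.Generators R A₀ (Fin n) := Algebra.Generators.ofAlgHom f hf
  have hG₀val : ∀ i, G₀.val i = f (X i) := fun i => rfl
  let fΩ : (Fin n → A₀) →ₗ[A₀] Ω[A₀⁄R] := Fintype.linearCombination A₀ (fun i => D R A₀ (f (X i)))
  have hfΩ : ∀ v, fΩ v = ∑ i, v i • D R A₀ (f (X i)) := fun v => rfl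
  have hfΩsurj : Function.Surjective fΩ := by
    rw [← LinearMap.range_eq_top, Fintype.range_linearCombination]
    have h1 : Submodule.span A₀ (Set.range G₀.cotangentSpaceBasis) = ⊤ :=
      G₀.cotangentSpaceBasis.span_eq
    have h2 := congrArg (Submodule.map G₀.toExtension.toKaehler) h1
    rw [Submodule.map_span, Submodule.map_top,
      LinearMap.range_eq_top.mpr G₀.toExtension.toKaehler_surjective, ← Set.range_comp] at h2
    rw [← h2]
    congr 2
    funext i
    simp only [Function.comp_apply, Algebra.Generators.toKaehler_cotangentSpaceBasis, hG₀val]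
  obtain ⟨gΩ, hgΩ⟩ := Module.projective_lifting_property fΩ LinearMap.id hfΩsurj
  exact ⟨n, f, hf, fΩ, gΩ, hfΩ, fun ω => congr($hgΩ ω)⟩

end Groth.Agent.Helper8.SmQ
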