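import Mathlib
import Groth.Agent.Lib.Helper8.SmQ8

/-!
# Lifting smooth algebras along a quotient, IX: the lift
-/

set_option autoImplicit false
universe u

namespace Groth.Agent.Helper8.SmQ

open KaehlerDifferential MvPolynomial

/-- Stage B: from generators and an idempotent matrix over a smooth `R`-algebra `Dm` to the lift. -/
theorem exists_smooth_lift_of_idempotent {R Dm A₀ : Type u} [CommRing R] [CommRing Dm]
    [CommRing A₀] [Algebra R Dm] [Algebra.Smooth R Dm] (I : Ideal R) [Algebra R A₀]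
    [Algebra (R ⧸ I) A₀] [IsScalarTower R (R ⧸ I) A₀] [Algebra.Smooth (R ⧸ I) A₀]
    [Algebra Dm A₀] [IsScalarTower R Dm A₀] {n : ℕ} (xb : Fin n → A₀)
    (hsurj : Function.Surjective (aeval xb : MvPolynomial (Fin n) Dm →ₐ[Dm] A₀))
    (Z : Matrix (Fin n) (Fin n) Dm) (hZ : Z * Z = Z)
    (fΩ : (Fin n → A₀) →ₗ[A₀] Ω[A₀⁄R]) (gΩ : Ω[A₀⁄R] →ₗ[A₀] (Fin n → A₀))
    (hfΩ : ∀ v, fΩ v = ∑ i, v i • D R A₀ (xb i)) (hgΩ : ∀ ω, fΩ (gΩ ω) = ω)
    (hZg : ∀ v, (Z.map (algebraMap Dm A₀)).mulVec v = gΩ (fΩ v)) :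
    ∃ (A : Type u) (_ : CommRing A) (_ : Algebra R A), Algebra.Smooth R A ∧
      Nonempty ((A ⧸ I.map (algebraMap R A)) ≃ₐ[R ⧸ I] A₀) := by
  let E := MvPolynomial (Fin n) Dm
  let πD : E →ₐ[Dm] A₀ := aeval xb
  letI : Algebra E A₀ := πD.toRingHom.toAlgebra
  have halg : ∀ e : E, algebraMap E A₀ e = πD e := fun e => rfl
  haveI : IsScalarTower Dm E A₀ := IsScalarTower.of_algebraMap_eq fun d => by
    rw [halg, MvPolynomial.algebraMap_eq, aeval_C]
  haveI : IsScalarTower R E A₀ := IsScalarTower.of_algebraMap_eq fun r => by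
    rw [IsScalarTower.algebraMap_apply R Dm A₀, IsScalarTower.algebraMap_apply R Dm E,
      ← IsScalarTower.algebraMap_apply Dm E A₀]
  haveI : Algebra.Smooth Dm E := ⟨inferInstance, inferInstance⟩
  haveI : Algebra.Smooth R E := Algebra.Smooth.comp R Dm E
  -- the idempotent matrix over `E`
  let ZE : Matrix (Fin n) (Fin n) E := Z.map (C : Dm →+* E)
  have hZE : ZE * ZE = ZE := by
    rw [← Matrix.map_mul, hZ]
  let Zlin : (Fin n → E) →ₗ[E] (Fin n → E) := Matrix.toLin' ZE
  have hZlinv : ∀ v, Zlin v = ZE.mulVec v := fun v => Matrix.toLin'_apply ZE v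
  have hZlin : ∀ v, Zlin (Zlin v) = Zlin v := by
    intro v
    rw [hZlinv, hZlinv, Matrix.mulVec_mulVec, hZE]
  let Qm : Submodule E (Fin n → E) := LinearMap.range Zlin
  have hQm : ∀ y : Qm, Zlin y.1 = y.1 := by
    rintro ⟨_, v, rfl⟩
    exact hZlin v
  haveI : Module.Projective E Qm :=
    Module.Projective.of_split Qm.subtype Zlin.rangeRestrict
      (LinearMap.ext fun y => Subtype.ext (hQm y))
  haveI : Module.Finite E Qm := Module.Finite.range Zlin
  -- compatibility with `π`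
  let πv : (Fin n → E) → (Fin n → A₀) := fun v i => πD (v i)
  have hπZ : ∀ v, πv (Zlin v) = gΩ (fΩ (πv v)) := by
    intro v
    rw [← hZg]
    funext i
    have h1 := RingHom.map_mulVec (πD : E →+* A₀) ZE v i
    have h2 : ZE.map (πD : E →+* A₀) = Z.map (algebraMap Dm A₀) := by
      refine Matrix.ext fun a b => ?_
      simp only [ZE, Matrix.map_apply, RingHom.coe_coe, πD]
      exact aeval_C _ _
    rw [h2] at h1
    rw [hZlinv]
    exact h1
  -- the map `ψ`
  let ψt : (Fin n → E) →ₗ[E] Ω[A₀⁄R] := Fintype.linearCombination E (fun i => D R A₀ (xb i))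
  have hψt : ∀ v, ψt v = fΩ (πv v) := by
    intro v
    rw [hfΩ, Fintype.linearCombination_apply]
    refine Finset.sum_congr rfl fun i _ => ?_
    rw [← algebraMap_smul A₀ (v i) (D R A₀ (xb i))]
    rfl
  have hψtZ : ∀ v, ψt (Zlin v) = ψt v := by
    intro v
    rw [hψt, hψt, hπZ, hgΩ]
  let ψ : Qm →ₗ[E] Ω[A₀⁄R] := ψt ∘ₗ Qm.subtype
  have hψ : ∀ y : Qm, ψ y = ψt y.1 := fun y => rfl
  let q : Fin n → Qm := fun i => Zlin.rangeRestrict (Pi.single i 1)
  have hψq : ∀ i, ψ (q i) = D R A₀ (xb i) := by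
    intro i
    rw [hψ]
    change ψt (Zlin (Pi.single i 1)) = _
    rw [hψtZ, Fintype.linearCombination_apply_single, one_smul]
  have hyq : ∀ y : Qm, y = ∑ i, y.1 i • q i := by
    intro y
    apply Subtype.ext
    rw [Submodule.coe_sum]
    conv_lhs => rw [← hQm y, LinearMap.pi_apply_eq_sum_univ Zlin y.1]
    refine Finset.sum_congr rfl fun i _ => ?_
    rw [Submodule.coe_smul]
    have hsingle : (fun j => if i = j then (1 : E) else 0) = Pi.single i 1 := by
      funext j
      rw [Pi.single_apply]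
      by_cases h : i = j
      · rw [if_pos h, if_pos h.symm]
      · rw [if_neg h, if_neg (Ne.symm h)]
    rw [hsingle]
    rfl
  -- `ψ` is surjective
  have hψsurj : Function.Surjective ψ := by
    intro ω
    choose v hv using fun i => hsurj (gΩ ω i)
    refine ⟨Zlin.rangeRestrict v, ?_⟩
    rw [hψ]
    change ψt (Zlin v) = ω
    rw [hψtZ, hψt]
    have : πv v = gΩ ω := funext hv
    rw [this, hgΩ]
  -- h3
  have h3 : ∀ y : Qm, ψ y = 0 →
      y ∈ (RingHom.ker (algebraMap E A₀)) • (⊤ : Submodule E Qm) := by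
    intro y hy
    rw [hψ, hψt] at hy
    have h4 : πv y.1 = 0 := by
      rw [← hQm y, hπZ, hy, map_zero]
    rw [hyq y]
    refine Submodule.sum_mem _ fun i _ => ?_
    refine Submodule.smul_mem_smul ?_ Submodule.mem_top
    rw [RingHom.mem_ker, halg]
    exact congrFun h4 i
  -- the derivation
  obtain ⟨φ₀, hφ₀⟩ := Module.projective_lifting_property ψ (KaehlerDifferential.map R R E A₀)
    hψsurj
  let δ₀ : Derivation R E Qm := φ₀.compDer (D R E)
  have hδ₀ : ∀ e, ψ (δ₀ e) = D R A₀ (algebraMap E A₀ e) := by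
    intro e
    change ψ (φ₀ (D R E e)) = _
    have := congr($hφ₀ (D R E e))
    rw [LinearMap.comp_apply] at this
    rw [this, KaehlerDifferential.map_D]
  let δ₁ : Derivation Dm E Qm := mkDerivation Dm (fun i => q i - δ₀ (X i))
  have hδ₁X : ∀ i, δ₁ (X i) = q i - δ₀ (X i) := fun i => mkDerivation_X _ _ _
  have hδ₁ : ∀ e, ψ (δ₁ e) = 0 := by
    intro e
    induction e using MvPolynomial.induction_on with
    | C d => rw [MvPolynomial.derivation_C, map_zero]
    | add p q' hp hq => rw [map_add, map_add, hp, hq, add_zero]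
    | mul_X p i hp =>
      rw [Derivation.leibniz, map_add, map_smul, map_smul, hp, smul_zero, add_zero, hδ₁X,
        map_sub, hψq, hδ₀, halg]
      have : πD (X i) = xb i := aeval_X _ _
      rw [this, sub_self, smul_zero]
  let δ : Derivation R E Qm := δ₀ + δ₁.restrictScalars R
  have hδ : ∀ e, δ e = δ₀ e + δ₁ e := fun e => rfl
  refine exists_smooth_lift_of_data (E := E) I hsurj ψ δ ?_ ?_ h3
  · intro e
    rw [hδ, map_add, hδ₁, add_zero, hδ₀]
  · rw [_root_.eq_top_iff]
    rintro y -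
    rw [hyq y]
    refine Submodule.sum_mem _ fun i _ => ?_
    refine Submodule.smul_mem _ _ (Submodule.subset_span ⟨X i, ?_⟩)
    rw [hδ, hδ₁X]
    abel

/-- A smooth algebra over `R ⧸ I` lifts to a smooth algebra over `R`. -/
theorem exists_smooth_lift {R A₀ : Type u} [CommRing R] (I : Ideal R) [CommRing A₀]
    [Algebra R A₀] [Algebra (R ⧸ I) A₀] [IsScalarTower R (R ⧸ I) A₀]
    [Algebra.Smooth (R ⧸ I) A₀] :
    ∃ (A : Type u) (_ : CommRing A) (_ : Algebra R A), Algebra.Smooth R A ∧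
      Nonempty ((A ⧸ I.map (algebraMap R A)) ≃ₐ[R ⧸ I] A₀) := by
  obtain ⟨n, f, hf, fΩ, gΩ, hfΩ, hgΩ⟩ := exists_generators_idempotent (A₀ := A₀) I
  let xb : Fin n → A₀ := fun i => f (X i)
  let eb : Matrix (Fin n) (Fin n) A₀ := LinearMap.toMatrix' (gΩ ∘ₗ fΩ)
  have hebv : ∀ v, eb.mulVec v = gΩ (fΩ v) := by
    intro v
    rw [LinearMap.toMatrix'_mulVec]
    rfl
  have heb : eb * eb = eb := by
    rw [← LinearMap.toMatrix'_comp]
    congr 1
    refine LinearMap.ext fun v => ?_
    simp only [LinearMap.comp_apply, hgΩ]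
  obtain ⟨γ, hγ⟩ := exists_algHom_of_idempotent (R := R) eb heb
  letI : Algebra (Idem R n) A₀ := γ.toRingHom.toAlgebra
  haveI : IsScalarTower R (Idem R n) A₀ := by
    have h := IsScalarTower.of_algebraMap_eq (R := R) (S := Idem R n) (A := A₀)
      fun r => (γ.commutes r).symm
    exact h
  have hγalg : ∀ d, algebraMap (Idem R n) A₀ d = γ d := fun d => rfl
  refine exists_smooth_lift_of_idempotent (Dm := Idem R n) I xb ?_ (univIdem R n)
    (univIdem_mul_self R n) fΩ gΩ hfΩ hgΩ ?_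
  · intro a
    obtain ⟨p, rfl⟩ := hf a
    refine ⟨MvPolynomial.map (algebraMap R (Idem R n)) p, ?_⟩
    rw [aeval_map_algebraMap]
    have : f = aeval xb := aeval_unique f
    rw [this]
  · intro v
    rw [← hebv]
    congr 1
    refine Matrix.ext fun i j => ?_
    rw [Matrix.map_apply, hγalg, hγ]

end Groth.Agent.Helper8.SmQ
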