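import Groth.Agent.Lib.Helper8.LD16

/-!
# The annihilator theorem for local cohomology over a Gorenstein local ring
-/

set_option autoImplicit false
universe u

namespace Groth.Agent.Helper8.LD

open CategoryTheory Abelian IsLocalRing LocCoh localCohomology InjHull
open Groth.Agent.Helper8.LC Groth.Agent.Helper8.ExtLoc

variable (S : Type u) [CommRing S] [IsGorensteinLocalRing S]

/-- numerical data at a prime of a Gorenstein local ring. -/
lemma exists_dims (n : ℕ) (hn : ringKrullDim S = n) (q : Ideal S) [q.IsPrime] :
    ∃ t d : ℕ, ringKrullDim (S ⧸ q) = t ∧ ringKrullDim (Localization.AtPrime q) = d ∧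
      d + t = n := by
  have hCM : IsCohenMacaulayLocalRing S :=
    Groth.Agent.Helper8.Goren.isCohenMacaulayLocalRing_of_isGorensteinLocalRing S
  have hq : q ≠ ⊤ := Ideal.IsPrime.ne_top ‹_›
  have h1 := cm_height_add_dim_quotient_ideal S q hq
  have hnt : Nontrivial (S ⧸ q) := Ideal.Quotient.nontrivial_iff.mpr hq
  obtain ⟨t, ht⟩ := exists_nat_eq (ringKrullDim (S ⧸ q)) ringKrullDim_nonneg_of_nontrivial
    (lt_of_le_of_lt (ringKrullDim_quotient_le q) (by rw [hn]; exact natCast_lt_top n))
  obtain ⟨h, hh⟩ := ENat.ne_top_iff_exists.mp (Ideal.height_ne_top hq)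
  rw [ht, hn, ← hh] at h1
  refine ⟨t, h, ht, ?_, by exact_mod_cast h1⟩
  rw [IsLocalization.AtPrime.ringKrullDim_eq_height q (Localization.AtPrime q), ← hh]
  rfl

/-- the localization of a Gorenstein local ring at a prime is Gorenstein. -/
lemma isGorensteinLocalRing_atPrime (q : Ideal S) [q.IsPrime] :
    IsGorensteinLocalRing (Localization.AtPrime q) :=
  isGorensteinLocalRing_localization q IsGorensteinLocalRing.exists_hasInjectiveDimensionLT

/-- the condition at a prime `q` in terms of `Ext` over the localization. -/
lemma forall_subsingleton_H_iff_ext (n : ℕ) (hn : ringKrullDim S = n)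
    (N : Type u) [AddCommGroup N] [Module S N] [Module.Finite S N] (i k : ℕ) (hik : i + k = n)
    (q : Ideal S) [q.IsPrime] :
    (∀ j : ℕ, (j : WithBot ℕ∞) + ringKrullDim (S ⧸ q) = i →
      Subsingleton (H (maximalIdeal (Localization.AtPrime q)) j
        (LocalizedModule q.primeCompl N))) ↔
    Subsingleton (Ext ((locF q.primeCompl).obj (ModuleCat.of S N))
      ((locF q.primeCompl).obj (ModuleCat.of S S)) k) := by
  obtain ⟨t, d, ht, hd, hdt⟩ := exists_dims S n hn q
  haveI := isGorensteinLocalRing_atPrime S q
  haveI : Module.Finite (Localization.AtPrime q) (LocalizedModule q.primeCompl N) :=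
    Module.Finite.of_isLocalizedModule q.primeCompl (LocalizedModule.mkLinearMap q.primeCompl N)
  rw [ht]
  by_cases hti : t ≤ i
  · have hjk : (i - t) + k = d := by omega
    have hB := subsingleton_H_iff_subsingleton_ext (Localization.AtPrime q) d hd
      (LocalizedModule q.primeCompl N) (i - t) k hjk
    constructor
    · intro h
      exact hB.mp (h (i - t) (by
        have : (i - t) + t = i := by omega
        exact_mod_cast this))
    · intro h j hj
      have hj' : j + t = i := by exact_mod_cast hj
      have : j = i - t := by omega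
      subst this
      exact hB.mpr h
  · constructor
    · intro _
      have h1 := (Groth.Agent.Helper8.Goren.exists_injectiveDimension_eq_dim
        (Localization.AtPrime q) d hd).1
      exact HasInjectiveDimensionLT.subsingleton
        (ModuleCat.of (Localization.AtPrime q) (Localization.AtPrime q)) (d + 1) k (by omega) _
    · intro _ j hj
      have hj' : j + t = i := by exact_mod_cast hj
      omega

/-- **Annihilator theorem over a Gorenstein local ring.** -/
theorem le_radical_annihilator_H_iff_of_gorenstein
    (N : Type u) [AddCommGroup N] [Module S N] [Module.Finite S N] (J : Ideal S) (i : ℕ) :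
    J ≤ (Module.annihilator S (H (maximalIdeal S) i N)).radical ↔
      ∀ (q : Ideal S) [q.IsPrime], ¬ J ≤ q →
        ∀ j : ℕ, (j : WithBot ℕ∞) + ringKrullDim (S ⧸ q) = i →
          Subsingleton (H (maximalIdeal (Localization.AtPrime q)) j
            (LocalizedModule q.primeCompl N)) := by
  obtain ⟨n, hn⟩ := exists_nat_eq (ringKrullDim S) ringKrullDim_nonneg_of_nontrivial
    ringKrullDim_lt_top
  by_cases hin : i ≤ n
  · obtain ⟨k, hik⟩ : ∃ k, i + k = n := ⟨n - i, by omega⟩
    rw [annihilator_H_eq_annihilator_ext S n hn N i k hik, le_radical_annihilator_iff]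
    refine forall_congr' fun q => forall_congr' fun hq => forall_congr' fun hJq => ?_
    rw [forall_subsingleton_H_iff_ext S n hn N i k hik q, subsingleton_ext_loc_iff,
      LocalizedModule.subsingleton_iff]
    constructor
    · intro h x
      obtain ⟨r, hr, hx⟩ := h x
      exact ⟨⟨r, hr⟩, hx⟩
    · intro h x
      obtain ⟨r, hx⟩ := h x
      exact ⟨r, r.2, hx⟩
  · have h0 : Subsingleton (H (maximalIdeal S) i N) := by
      apply subsingleton_of_supportDim_lt
      refine lt_of_le_of_lt (Module.supportDim_le_ringKrullDim S N) ?_
      rw [hn]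
      exact_mod_cast not_le.mp hin
    constructor
    · intro _ q hq hJq j hj
      obtain ⟨t, d, ht, hd, hdt⟩ := exists_dims S n hn q
      rw [ht] at hj
      have hj' : j + t = i := by exact_mod_cast hj
      apply subsingleton_of_supportDim_lt
      refine lt_of_le_of_lt (Module.supportDim_le_ringKrullDim _ _) ?_
      rw [hd]
      have : d < j := by omega
      exact_mod_cast this
    · intro _
      have : Module.annihilator S (H (maximalIdeal S) i N) = ⊤ := by
        rw [Module.annihilator_eq_top_iff]
        exact h0
      rw [this, Ideal.radical_top]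
      exact le_top

end Groth.Agent.Helper8.LD
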