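import Groth.Agent.Lib.Helper8.LC14

set_option autoImplicit false
universe u
open CategoryTheory CategoryTheory.Limits Opposite

namespace Groth.Agent.Helper8.LC

variable {R : Type u} [CommRing R]

open Abelian localCohomology LocCoh

section Linear

variable (J : Ideal R) (i : ℕ)

lemma map_smul_id (M : ModuleCat.{u} R) (r : R) (x : (localCohomology J i).obj M) :
    ((localCohomology J i).map (r • 𝟙 M)) x = r • x := by
  obtain ⟨n, e, rfl⟩ := ι_rep J i M x
  rw [ι_map, ← Ext.smul_eq_comp_mk₀, map_smul]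

lemma map_zero' (M M' : ModuleCat.{u} R) (x : (localCohomology J i).obj M) :
    ((localCohomology J i).map (0 : M ⟶ M')) x = 0 := by
  obtain ⟨n, e, rfl⟩ := ι_rep J i M x
  rw [ι_map, Ext.mk₀_zero, Ext.comp_zero, map_zero]

end Linear

section TorsionSubCompare

variable (a J : Ideal R) {X : Type u} [AddCommGroup X] [Module R X]

lemma torsionSub_sup_eq (hX : IsPowerTorsion J X) :
    DRing.torsionSub (a ⊔ J) X = DRing.torsionSub a X := by
  ext x
  constructor
  · rintro ⟨n, hn⟩
    exact ⟨n, fun r hr => hn r (Ideal.pow_right_mono le_sup_left n hr)⟩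
  · rintro ⟨n, hn⟩
    obtain ⟨m, hm⟩ := hX x
    refine ⟨n + m, fun r hr => ?_⟩
    have h1 := Ideal.sup_pow_add_le_pow_sup_pow (I := a) (J := J) (n := n) (m := m) hr
    obtain ⟨r₁, hr₁, r₂, hr₂, rfl⟩ := Submodule.mem_sup.mp h1
    rw [add_smul, hn r₁ hr₁, hm r₂ hr₂, add_zero]

end TorsionSubCompare

section Key

variable [IsNoetherianRing R] (a J : Ideal R)

/-- For a `J`-power torsion module, vanishing of `H^i_a` implies vanishing of `H^i_{a ⊔ J}`. -/
theorem subsingleton_sup_of_isPowerTorsion (i : ℕ) (hi : 0 < i) (T : Type u) [AddCommGroup T]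
    [Module R T] (hT : IsPowerTorsion J T) (h : Subsingleton (H a i T)) :
    Subsingleton (H (a ⊔ J) i T) := by
  obtain ⟨j, rfl⟩ : ∃ j, i = j + 1 := ⟨i - 1, by omega⟩
  clear hi
  induction j generalizing T with
  | zero =>
    obtain ⟨E, _, _, _, f, hf, hE⟩ := exists_torsion_embedding J T hT
    have hS := sesQuot_shortExact f hf
    haveI : Injective (ModuleCat.of R E) := Module.injective_object_of_injective_module R E
    have hE1 : Subsingleton ((localCohomology (a ⊔ J) 1).obj (ModuleCat.of R E)) :=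
      subsingleton_of_injective (a ⊔ J) 1 _ Nat.one_pos
    have hC : IsPowerTorsion J (E ⧸ LinearMap.range f) := isPowerTorsion_quotient J _ hE
    let C : ModuleCat.{u} R := (sesQuot f).X₃
    -- surjectivity on `a`-torsion
    have hsurj : ∀ c' : E ⧸ LinearMap.range f, c' ∈ DRing.torsionSub a (E ⧸ LinearMap.range f) →
        ∃ e : E, e ∈ DRing.torsionSub a E ∧ (LinearMap.range f).mkQ e = c' := by
      intro c' hc'
      obtain ⟨y, hy⟩ := exists_ev0_eq a C c' hc'
      have hδ : δ a 0 hS y = 0 := Subsingleton.elim _ _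
      obtain ⟨x, hx⟩ := (exact_g_δ a 0 hS y).mp hδ
      refine ⟨ev0 a (ModuleCat.of R E) x, ev0_mem a _ x, ?_⟩
      have := ev0_map a (sesQuot f).g x
      rw [hx, hy] at this
      exact this.symm
    refine ⟨fun x y => ?_⟩
    suffices h' : ∀ z : H (a ⊔ J) (0 + 1) T, z = 0 by rw [h' x, h' y]
    intro z
    have h1 : ((localCohomology (a ⊔ J) (0 + 1)).map (sesQuot f).f) z = 0 := Subsingleton.elim _ _
    obtain ⟨y, rfl⟩ := (exact_δ_f (a ⊔ J) 0 hS z).mp h1
    have hy1 : ev0 (a ⊔ J) C y ∈ DRing.torsionSub a (E ⧸ LinearMap.range f) := by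
      rw [← torsionSub_sup_eq a J hC]
      exact ev0_mem (a ⊔ J) C y
    obtain ⟨e, he, hec⟩ := hsurj _ hy1
    have he' : e ∈ DRing.torsionSub (a ⊔ J) E := by
      rw [torsionSub_sup_eq a J hE]; exact he
    obtain ⟨x, hx⟩ := exists_ev0_eq (a ⊔ J) (ModuleCat.of R E) e he'
    have h2 : ((localCohomology (a ⊔ J) 0).map (sesQuot f).g) x = y := by
      apply ev0_injective (a ⊔ J) C
      rw [ev0_map, hx]
      exact hec
    rw [← h2]
    exact (exact_g_δ (a ⊔ J) 0 hS _).mpr ⟨x, rfl⟩
  | succ j ih =>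
    obtain ⟨E, _, _, _, f, hf, hE⟩ := exists_torsion_embedding J T hT
    have hS := sesQuot_shortExact f hf
    haveI : Injective (ModuleCat.of R E) := Module.injective_object_of_injective_module R E
    have hE1 : Subsingleton ((localCohomology (a ⊔ J) (j + 1 + 1)).obj (ModuleCat.of R E)) :=
      subsingleton_of_injective (a ⊔ J) (j + 1 + 1) _ (Nat.succ_pos _)
    have hE2 : Subsingleton ((localCohomology a (j + 1)).obj (ModuleCat.of R E)) :=
      subsingleton_of_injective a (j + 1) _ (Nat.succ_pos _)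
    have hC : IsPowerTorsion J (E ⧸ LinearMap.range f) := isPowerTorsion_quotient J _ hE
    -- `H^{j+1}_a(C)` injects into `H^{j+2}_a(T) = 0`
    have hCa : Subsingleton (H a (j + 1) (E ⧸ LinearMap.range f)) := by
      refine ⟨fun x y => ?_⟩
      suffices h' : ∀ z : H a (j + 1) (E ⧸ LinearMap.range f), z = 0 by rw [h' x, h' y]
      intro z
      have hz : δ a (j + 1) hS z = 0 := Subsingleton.elim _ _
      obtain ⟨w, rfl⟩ := (exact_g_δ a (j + 1) hS z).mp hz
      have hw : w = 0 := Subsingleton.elim _ _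
      rw [hw, map_zero]
    have hC1 := ih (E ⧸ LinearMap.range f) hC hCa
    refine ⟨fun x y => ?_⟩
    suffices h' : ∀ z : H (a ⊔ J) (j + 1 + 1) T, z = 0 by rw [h' x, h' y]
    intro z
    have h1 : ((localCohomology (a ⊔ J) (j + 1 + 1)).map (sesQuot f).f) z = 0 :=
      Subsingleton.elim _ _
    obtain ⟨y, rfl⟩ := (exact_δ_f (a ⊔ J) (j + 1) hS z).mp h1
    have hy : y = 0 := Subsingleton.elim _ _
    rw [hy, map_zero]

end Key

end Groth.Agent.Helper8.LC
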