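import Groth.Agent.Lib.Helper8.LC15

set_option autoImplicit false
universe u
open CategoryTheory CategoryTheory.Limits Opposite

namespace Groth.Agent.Helper8.LC

variable {R : Type u} [CommRing R] [IsNoetherianRing R]

open Abelian localCohomology LocCoh

lemma subsingleton_of_forall_eq_zero {α : Type*} [Zero α] (h : ∀ z : α, z = 0) : Subsingleton α :=
  ⟨fun x y => by rw [h x, h y]⟩

/-- if `b` acts injectively on `H^i_c(M)` and `b ∈ c` then `H^i_c(M) = 0`. -/
lemma subsingleton_of_smul_injective (c : Ideal R) (b : R) (hb : b ∈ c) (i : ℕ)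
    (M : ModuleCat.{u} R)
    (hinj : ∀ z : (localCohomology c i).obj M, b • z = 0 → z = 0) :
    Subsingleton ((localCohomology c i).obj M) := by
  apply subsingleton_of_forall_eq_zero
  intro z
  obtain ⟨n, hn⟩ := isPowerTorsion c i M z
  have h1 : b ^ n • z = 0 := hn _ (Ideal.pow_mem_pow hb n)
  clear hn
  induction n with
  | zero => simpa using h1
  | succ k ih =>
    apply ih
    apply hinj
    rw [← mul_smul, ← pow_succ']
    exact h1

omit [IsNoetherianRing R] in
lemma torsionSub_quotient_eq_bot (b : R) (M : Type u) [AddCommGroup M] [Module R M] :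
    DRing.torsionSub (Ideal.span {b}) (M ⧸ DRing.torsionSub (Ideal.span {b}) M) = ⊥ := by
  rw [eq_bot_iff]
  rintro x ⟨n, hn⟩
  obtain ⟨m, rfl⟩ := Submodule.Quotient.mk_surjective _ x
  have h1 : b ^ n ∈ Ideal.span {b} ^ n := Ideal.pow_mem_pow (Ideal.mem_span_singleton_self b) n
  have h2 := hn _ h1
  rw [← Submodule.Quotient.mk_smul, Submodule.Quotient.mk_eq_zero] at h2
  obtain ⟨k, hk⟩ := h2
  have h3 : b ^ k ∈ Ideal.span {b} ^ k := Ideal.pow_mem_pow (Ideal.mem_span_singleton_self b) k
  have h4 : b ^ k • b ^ n • m = 0 := hk _ h3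
  rw [Submodule.mem_bot, Submodule.Quotient.mk_eq_zero]
  refine ⟨k + n, fun t ht => ?_⟩
  rw [Ideal.span_singleton_pow, Ideal.mem_span_singleton] at ht
  obtain ⟨t', rfl⟩ := ht
  have h5 : (b ^ (k + n) * t') • m = t' • (b ^ k • b ^ n • m) := by
    rw [smul_smul, smul_smul]
    congr 1
    ring
  rw [h5, h4, smul_zero]

omit [IsNoetherianRing R] in
lemma lsmul_injective_of_torsionSub_eq_bot (b : R) (M' : Type u) [AddCommGroup M'] [Module R M']
    (h : DRing.torsionSub (Ideal.span {b}) M' = ⊥) :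
    Function.Injective (LinearMap.lsmul R M' b) := by
  rw [injective_iff_map_eq_zero]
  intro x hx
  have hx' : b • x = 0 := hx
  have : x ∈ DRing.torsionSub (Ideal.span {b}) M' := by
    refine ⟨1, fun t ht => ?_⟩
    rw [pow_one, Ideal.mem_span_singleton] at ht
    obtain ⟨t', rfl⟩ := ht
    rw [mul_comm, mul_smul, hx', smul_zero]
  rw [h] at this
  exact this

omit [IsNoetherianRing R] in
lemma isPowerTorsion_quotient_range_lsmul (b : R) (M' : Type u) [AddCommGroup M'] [Module R M'] :
    IsPowerTorsion (Ideal.span {b}) (M' ⧸ LinearMap.range (LinearMap.lsmul R M' b)) := by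
  intro x
  obtain ⟨m, rfl⟩ := Submodule.Quotient.mk_surjective _ x
  refine ⟨1, fun t ht => ?_⟩
  rw [pow_one, Ideal.mem_span_singleton] at ht
  obtain ⟨t', rfl⟩ := ht
  rw [← Submodule.Quotient.mk_smul, Submodule.Quotient.mk_eq_zero]
  refine ⟨t' • m, ?_⟩
  rw [LinearMap.lsmul_apply, smul_smul]

/-- vanishing for modules on which `b` is a nonzerodivisor. -/
theorem subsingleton_sup_span_of_torsionFree (a : Ideal R) (b : R) (r : ℕ) (ha : CdLE R a r)
    (M' : Type u) [AddCommGroup M'] [Module R M']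
    (h : DRing.torsionSub (Ideal.span {b}) M' = ⊥) (k : ℕ) (hk : r < k) :
    Subsingleton (H (a ⊔ Ideal.span {b}) (k + 1) M') := by
  have hbc : b ∈ a ⊔ Ideal.span {b} := Ideal.mem_sup_right (Ideal.mem_span_singleton_self b)
  have hk0 : 0 < k := by omega
  have hf := lsmul_injective_of_torsionSub_eq_bot b M' h
  have hS := sesQuot_shortExact _ hf
  have hQ := isPowerTorsion_quotient_range_lsmul b M'
  have hQ1 : Subsingleton (H (a ⊔ Ideal.span {b}) k _) :=
    subsingleton_sup_of_isPowerTorsion a (Ideal.span {b}) k hk0 _ hQ (ha _ k hk)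
  apply subsingleton_of_smul_injective (a ⊔ Ideal.span {b}) b hbc (k + 1) (ModuleCat.of R M')
  intro z hz
  have h1 : ((localCohomology (a ⊔ Ideal.span {b}) (k + 1)).map
      (sesQuot (LinearMap.lsmul R M' b)).f) z = 0 := by
    have : (sesQuot (LinearMap.lsmul R M' b)).f = b • 𝟙 (ModuleCat.of R M') := rfl
    rw [this, map_smul_id]
    exact hz
  obtain ⟨y, rfl⟩ := (exact_δ_f (a ⊔ Ideal.span {b}) k hS z).mp h1
  have hy : y = 0 := Subsingleton.elim _ _
  rw [hy, map_zero]

theorem cdLE_sup_span (a : Ideal R) (b : R) (r : ℕ) (ha : CdLE R a r) :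
    CdLE R (a ⊔ Ideal.span {b}) (r + 1) := by
  intro M _ _ i hi
  obtain ⟨k, rfl⟩ : ∃ k, i = k + 1 := ⟨i - 1, by omega⟩
  have hk : r < k := by omega
  -- the torsion part
  have hΓ : Subsingleton (H (a ⊔ Ideal.span {b}) (k + 1) (DRing.torsionSub (Ideal.span {b}) M)) :=
    subsingleton_sup_of_isPowerTorsion a (Ideal.span {b}) (k + 1) (Nat.succ_pos k) _
      (isPowerTorsion_torsionSub (Ideal.span {b}) M) (ha _ (k + 1) (by omega))
  -- the torsion free part
  have hM' : Subsingleton (H (a ⊔ Ideal.span {b}) (k + 1)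
      (M ⧸ DRing.torsionSub (Ideal.span {b}) M)) :=
    subsingleton_sup_span_of_torsionFree a b r ha _ (torsionSub_quotient_eq_bot b M) k hk
  have hS := sesSub_shortExact (DRing.torsionSub (Ideal.span {b}) M)
  apply subsingleton_of_forall_eq_zero
  intro z
  have h1 : ((localCohomology (a ⊔ Ideal.span {b}) (k + 1)).map
      (sesSub (DRing.torsionSub (Ideal.span {b}) M)).g) z = 0 :=
    Subsingleton.elim _ _
  obtain ⟨y, rfl⟩ := (exact_f_g (a ⊔ Ideal.span {b}) (k + 1) hS z).mp h1
  have hy : y = 0 := Subsingleton.elim _ _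
  rw [hy, map_zero]

theorem cdLE_bot : CdLE R (⊥ : Ideal R) 0 := by
  intro M _ _ i hi
  apply subsingleton_of_isPowerTorsion ⊥ i hi M
  intro m
  refine ⟨1, fun a ha => ?_⟩
  rw [pow_one, Ideal.mem_bot] at ha
  rw [ha, zero_smul]

theorem cdLE_span_finset (s : Finset R) : CdLE R (Ideal.span (s : Set R)) s.card := by
  classical
  induction s using Finset.induction_on with
  | empty =>
    rw [Finset.coe_empty, Ideal.span_empty, Finset.card_empty]
    exact cdLE_bot
  | insert b s hb ih =>
    rw [Finset.coe_insert, Ideal.span_insert, Finset.card_insert_of_notMem hb, sup_comm]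
    exact cdLE_sup_span _ b _ ih

end Groth.Agent.Helper8.LC
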