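import Groth.Agent.Lib.Helper8.LC32

set_option autoImplicit false
universe u
open CategoryTheory CategoryTheory.Limits Opposite

namespace Groth.Agent.Helper8.LC

open Abelian localCohomology LocCoh

variable {R : Type u} [CommRing R] [IsNoetherianRing R]

/-- if an element of the ideal acts bijectively on the module, local cohomology vanishes. -/
lemma subsingleton_of_smul_bijective (c : Ideal R) (b : R) (hb : b ∈ c) (i : ℕ)
    (N : Type u) [AddCommGroup N] [Module R N]
    (hbij : Function.Bijective (fun n : N => b • n)) : Subsingleton (H c i N) := by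
  apply subsingleton_of_smul_injective c b hb i (ModuleCat.of R N)
  intro z hz
  let e : N ≃ₗ[R] N := LinearEquiv.ofBijective (LinearMap.lsmul R N b) hbij
  have h1 : ModuleCat.ofHom e.symm.toLinearMap ≫ (b • 𝟙 (ModuleCat.of R N)) =
      𝟙 (ModuleCat.of R N) := by
    apply ModuleCat.hom_ext
    apply LinearMap.ext
    intro n
    change b • e.symm n = n
    exact e.apply_symm_apply n
  have h2 : (b • 𝟙 (ModuleCat.of R N)) ≫ ModuleCat.ofHom e.symm.toLinearMap =
      𝟙 (ModuleCat.of R N) := by
    apply ModuleCat.hom_ext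
    apply LinearMap.ext
    intro n
    change e.symm (b • n) = n
    exact e.symm_apply_apply n
  have h3 : z = ((localCohomology c i).map (ModuleCat.ofHom e.symm.toLinearMap))
      (((localCohomology c i).map (b • 𝟙 (ModuleCat.of R N))) z) := by
    have := congrArg (fun α => ((localCohomology c i).map α) z) h2
    simp only [Functor.map_comp, CategoryTheory.Functor.map_id] at this
    exact this.symm
  rw [h3, map_smul_id, hz, map_zero]

end Groth.Agent.Helper8.LC

namespace Groth.Agent.Helper8.LC

open Abelian localCohomology LocCoh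

variable {R : Type u} [CommRing R] [IsNoetherianRing R]

lemma mem_torsionSub_span_singleton_iff (a : R) {M : Type u} [AddCommGroup M] [Module R M]
    (m : M) : m ∈ DRing.torsionSub (Ideal.span {a}) M ↔ ∃ n : ℕ, a ^ n • m = 0 := by
  constructor
  · rintro ⟨n, hn⟩
    exact ⟨n, hn _ (Ideal.pow_mem_pow (Ideal.mem_span_singleton_self a) n)⟩
  · rintro ⟨n, hn⟩
    refine ⟨n, fun r hr => ?_⟩
    rw [Ideal.span_singleton_pow, Ideal.mem_span_singleton'] at hr
    obtain ⟨t, rfl⟩ := hr
    rw [mul_smul, hn, smul_zero]

lemma ker_mkLinearMap_powers (a : R) (M : Type u) [AddCommGroup M] [Module R M] :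
    LinearMap.ker (LocalizedModule.mkLinearMap (Submonoid.powers a) M) =
      DRing.torsionSub (Ideal.span {a}) M := by
  ext m
  rw [LocalizedModule.mem_ker_mkLinearMap_iff, mem_torsionSub_span_singleton_iff]
  constructor
  · rintro ⟨r, ⟨n, rfl⟩, hr⟩
    exact ⟨n, hr⟩
  · rintro ⟨n, hn⟩
    exact ⟨a ^ n, ⟨n, rfl⟩, hn⟩

lemma smul_bijective_localizedModule (a : R) (M : Type u) [AddCommGroup M] [Module R M] :
    Function.Bijective (fun x : LocalizedModule (Submonoid.powers a) M => a • x) := by
  have h := IsLocalizedModule.map_units (LocalizedModule.mkLinearMap (Submonoid.powers a) M)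
    ⟨a, Submonoid.mem_powers a⟩
  exact (Module.End.isUnit_iff _).mp h

theorem nonempty_coker_mkLinearMap_equiv (a : R) (M : Type u) [AddCommGroup M] [Module R M] :
    Nonempty ((LocalizedModule (Submonoid.powers a) M ⧸
      LinearMap.range (LocalizedModule.mkLinearMap (Submonoid.powers a) M)) ≃ₗ[R]
      LocCoh.H (Ideal.span {a}) 1 M) := by
  let J : Ideal R := Ideal.span {a}
  let S := Submonoid.powers a
  let ℓ := LocalizedModule.mkLinearMap S M
  let T := DRing.torsionSub J M
  have hker : LinearMap.ker ℓ = T := ker_mkLinearMap_powers a M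
  let ℓ' : (M ⧸ T) →ₗ[R] LocalizedModule S M := T.liftQ ℓ hker.ge
  have hℓ'inj : Function.Injective ℓ' := by
    rw [← LinearMap.ker_eq_bot]
    exact Submodule.ker_liftQ_eq_bot' T ℓ hker.symm
  have hrange : LinearMap.range ℓ' = LinearMap.range ℓ := Submodule.range_liftQ T ℓ hker.ge
  let g := (LinearMap.range ℓ).mkQ
  have hgf : g ∘ₗ ℓ' = 0 := by
    apply LinearMap.ext
    intro x
    change (LinearMap.range ℓ).mkQ (ℓ' x) = 0
    rw [Submodule.mkQ_apply, Submodule.Quotient.mk_eq_zero, ← hrange]
    exact ⟨x, rfl⟩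
  have hS : (ModuleCat.shortComplexOfCompEqZero ℓ' g hgf).ShortExact := by
    apply ModuleCat.shortComplex_shortExact
    · intro x
      change (LinearMap.range ℓ).mkQ x = 0 ↔ x ∈ Set.range ℓ'
      rw [Submodule.mkQ_apply, Submodule.Quotient.mk_eq_zero]
      have : x ∈ LinearMap.range ℓ' ↔ x ∈ LinearMap.range ℓ := by rw [hrange]
      exact this.symm
    · exact hℓ'inj
    · exact Submodule.mkQ_surjective _
  have haJ : a ∈ J := Ideal.mem_span_singleton_self a
  have hMa : ∀ i, Subsingleton (H J i (LocalizedModule S M)) := fun i =>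
    subsingleton_of_smul_bijective J a haJ i _ (smul_bijective_localizedModule a M)
  -- the cokernel is power torsion
  have hC : IsPowerTorsion J (LocalizedModule S M ⧸ LinearMap.range ℓ) := by
    intro c
    obtain ⟨x, rfl⟩ := Submodule.Quotient.mk_surjective _ c
    induction x using LocalizedModule.induction_on with
    | h m s =>
      obtain ⟨k, hk⟩ := s.2
      refine ⟨k, fun r hr => ?_⟩
      rw [Ideal.span_singleton_pow, Ideal.mem_span_singleton'] at hr
      obtain ⟨t, rfl⟩ := hr
      rw [← Submodule.Quotient.mk_smul, Submodule.Quotient.mk_eq_zero, mul_smul]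
      apply Submodule.smul_mem
      refine ⟨m, ?_⟩
      change LocalizedModule.mk m 1 = a ^ k • LocalizedModule.mk m s
      have hs : a ^ k = (s : R) := hk
      rw [hs, LocalizedModule.smul'_mk]
      exact (LocalizedModule.mk_cancel s m).symm
  obtain ⟨⟨e1⟩, -⟩ := torsion_h0_and_vanishing J _ hC
  have hδ : Function.Bijective (δ J 0 hS) := by
    constructor
    · rw [injective_iff_map_eq_zero]
      intro z hz
      obtain ⟨y, rfl⟩ := (exact_g_δ J 0 hS z).mp hz
      have : y = 0 := (hMa 0).elim _ _
      rw [this, map_zero]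
    · intro w
      have h1 : ((localCohomology J (0 + 1)).map
          (ModuleCat.shortComplexOfCompEqZero ℓ' g hgf).f) w = 0 := (hMa 1).elim _ _
      exact (exact_δ_f J 0 hS w).mp h1
  let e2 := LinearEquiv.ofBijective (δ J 0 hS) hδ
  let e3 := LinearEquiv.ofBijective _ (bijective_map_mkQ_torsionSub J M 1 Nat.one_pos)
  exact ⟨e1.symm.trans (e2.trans e3.symm)⟩

end Groth.Agent.Helper8.LC
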