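import Mathlib
import Groth.Prelude
import Groth.Agent.S0507
import Groth.Agent.S0510
import Groth.Agent.S0511
import Groth.Agent.Lib.Helper7.SHens.NoethMain
import Groth.Agent.Lib.Helper8.AdicReg1
import Groth.Agent.Lib.Helper8.HensGU9

/-!
# The map from the henselization to the completion is flat
-/

set_option autoImplicit false

universe u

namespace Groth.Agent.Helper8.HensCpl

open TensorProduct IsLocalRing

section flat

variable (A S : Type u) [CommRing A] [IsLocalRing A] [IsNoetherianRing A] [CommRing S]
  [IsLocalRing S] [Algebra A S] [IsLocalHom (algebraMap A S)] [Hensel.IsHenselization A S]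
  (ψ : S →+* AdicCompletion (maximalIdeal A) A)
  (hψ : ψ.comp (algebraMap A S) = algebraMap A (AdicCompletion (maximalIdeal A) A))

theorem maximalIdeal_pow_eq_map (n : ℕ) :
    (maximalIdeal S) ^ n = ((maximalIdeal A) ^ n).map (algebraMap A S) := by
  rw [Ideal.map_pow, Groth.Agent.S0507.result A S]

include hψ in
theorem map_psi_maximalIdeal_pow (n : ℕ) :
    ((maximalIdeal S) ^ n).map ψ =
      ((maximalIdeal A) ^ n).map (algebraMap A (AdicCompletion (maximalIdeal A) A)) := by
  rw [maximalIdeal_pow_eq_map A S, Ideal.map_map, hψ]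

theorem mem_map_pow_iff (n : ℕ) (y : AdicCompletion (maximalIdeal A) A) :
    y ∈ ((maximalIdeal A) ^ n).map (algebraMap A (AdicCompletion (maximalIdeal A) A)) ↔
      AdicCompletion.eval (maximalIdeal A) A n y = 0 := by
  rw [← LinearMap.mem_ker,
    ← AdicCompletion.pow_smul_top_eq_ker_eval (maximalIdeal A).fg_of_isNoetherianRing,
    Ideal.smul_top_eq_map]
  rfl

include hψ in
/-- The canonical map from the henselization to the completion is flat. -/
theorem flat_psi : ψ.Flat := by
  letI : Algebra S (AdicCompletion (maximalIdeal A) A) := ψ.toAlgebra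
  haveI : IsScalarTower A S (AdicCompletion (maximalIdeal A) A) :=
    IsScalarTower.of_algebraMap_eq fun a => (RingHom.congr_fun hψ a).symm
  haveI : IsNoetherianRing S := (Groth.Agent.S0511.result A S).mp inferInstance
  haveI : IsNoetherianRing (AdicCompletion (maximalIdeal A) A) :=
    Groth.Agent.Helper8.AdicReg.isNoetherianRing A _
  show Module.Flat S (AdicCompletion (maximalIdeal A) A)
  apply Groth.Agent.Helper7.SHens.flat_of_forall_flat_quotient_pow (R := S)
    (S := AdicCompletion (maximalIdeal A) A) (maximalIdeal S)
  · show (maximalIdeal S).map ψ ≠ ⊤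
    have := map_psi_maximalIdeal_pow A S ψ hψ 1
    rw [pow_one, pow_one] at this
    rw [this, ← AdicCompletion.maximalIdeal_eq_map]
    exact (maximalIdeal.isMaximal _).ne_top
  · intro n _
    let f : S →ₗ[S] AdicCompletion (maximalIdeal A) A := Algebra.linearMap S _
    have hmem : ∀ y : AdicCompletion (maximalIdeal A) A,
        y ∈ (maximalIdeal S) ^ n • (⊤ : Submodule S (AdicCompletion (maximalIdeal A) A)) ↔
          AdicCompletion.eval (maximalIdeal A) A n y = 0 := by
      intro y
      rw [Ideal.smul_top_eq_map, Submodule.restrictScalars_mem, ← mem_map_pow_iff]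
      show y ∈ ((maximalIdeal S) ^ n).map ψ ↔ _
      rw [map_psi_maximalIdeal_pow A S ψ hψ n]
    have hb : Function.Bijective (f.lTensor (S ⧸ (maximalIdeal S) ^ n)) := by
      apply Groth.Agent.Helper7.SHens.lTensor_quotient_bijective ((maximalIdeal S) ^ n) f
      · intro x hx
        rw [hmem] at hx
        rw [Ideal.smul_top_eq_map, Submodule.restrictScalars_mem, Algebra.algebraMap_self,
          Ideal.map_id, maximalIdeal_pow_eq_map A S]
        obtain ⟨a, ha⟩ := (Groth.Agent.S0510.result A S n).2
          (Ideal.Quotient.mk _ x)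
        obtain ⟨a, rfl⟩ := Ideal.Quotient.mk_surjective a
        rw [Ideal.quotientMap_mk, Ideal.Quotient.eq] at ha
        -- `ha : algebraMap a - x ∈ m_A^n S`
        have h1 : ψ (algebraMap A S a - x) ∈
            ((maximalIdeal A) ^ n).map (algebraMap A (AdicCompletion (maximalIdeal A) A)) := by
          rw [← map_psi_maximalIdeal_pow A S ψ hψ n, maximalIdeal_pow_eq_map A S]
          exact Ideal.mem_map_of_mem ψ ha
        rw [mem_map_pow_iff, map_sub, map_sub] at h1
        have h2 : AdicCompletion.eval (maximalIdeal A) A n (ψ x) = 0 := hx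
        rw [h2, sub_zero] at h1
        have h3 : ψ (algebraMap A S a) = algebraMap A _ a := RingHom.congr_fun hψ a
        rw [h3] at h1
        have h4 : a ∈ (maximalIdeal A) ^ n := by
          have : AdicCompletion.eval (maximalIdeal A) A n
              (algebraMap A (AdicCompletion (maximalIdeal A) A) a) =
              Submodule.mkQ ((maximalIdeal A) ^ n • (⊤ : Submodule A A)) a := rfl
          rw [this, Submodule.mkQ_apply, Submodule.Quotient.mk_eq_zero,
            smul_eq_mul, Ideal.mul_top] at h1
          exact h1
        have h5 : x = algebraMap A S a - (algebraMap A S a - x) := by ring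
        rw [h5]
        exact Ideal.sub_mem _ (Ideal.mem_map_of_mem _ h4) ha
      · intro y
        obtain ⟨a, ha⟩ := Submodule.mkQ_surjective _ (AdicCompletion.eval (maximalIdeal A) A n y)
        refine ⟨algebraMap A S a, ?_⟩
        rw [hmem, map_sub, sub_eq_zero]
        have h3 : f (algebraMap A S a) = algebraMap A _ a := RingHom.congr_fun hψ a
        rw [h3, ← ha]
        rfl
    have hb' : Function.Bijective (f.baseChange (S ⧸ (maximalIdeal S) ^ n)) := by
      rw [LinearMap.baseChange_eq_ltensor]
      exact hb
    exact Module.Flat.of_linearEquiv (LinearEquiv.ofBijective _ hb').symm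

include hψ in
theorem isLocalHom_psi : IsLocalHom ψ := by
  apply ((IsLocalRing.local_hom_TFAE ψ).out 0 2).mpr
  have := map_psi_maximalIdeal_pow A S ψ hψ 1
  rw [pow_one, pow_one] at this
  rw [this, ← AdicCompletion.maximalIdeal_eq_map]

include hψ in
theorem faithfullyFlat_psi :
    letI : Algebra S (AdicCompletion (maximalIdeal A) A) := ψ.toAlgebra
    Module.FaithfullyFlat S (AdicCompletion (maximalIdeal A) A) := by
  letI : Algebra S (AdicCompletion (maximalIdeal A) A) := ψ.toAlgebra
  haveI : Module.Flat S (AdicCompletion (maximalIdeal A) A) := flat_psi A S ψ hψ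
  haveI : IsLocalHom (algebraMap S (AdicCompletion (maximalIdeal A) A)) :=
    isLocalHom_psi A S ψ hψ
  exact Module.FaithfullyFlat.of_flat_of_isLocalHom

end flat

section goingDown

variable (R T : Type*) [CommRing R] [CommRing T] [Algebra R T] [Algebra.HasGoingDown R T]

/-- Under going-down, minimal primes contract to minimal primes. -/
theorem comap_mem_minimalPrimes_of_hasGoingDown (q : Ideal T) (hq : q ∈ minimalPrimes T) :
    q.comap (algebraMap R T) ∈ minimalPrimes R := by
  haveI := hq.1.1
  haveI : (q.comap (algebraMap R T)).IsPrime := Ideal.IsPrime.comap _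
  refine ⟨⟨inferInstance, bot_le⟩, ?_⟩
  rintro p' ⟨hp', -⟩ hle
  haveI : q.LiesOver (q.comap (algebraMap R T)) := ⟨rfl⟩
  obtain ⟨P, hPq, hPprime, hPover⟩ :=
    Ideal.exists_ideal_le_liesOver_of_le (p := p') (q := q.comap (algebraMap R T)) q hle
  have hqP : q ≤ P := hq.2 ⟨hPprime, bot_le⟩ hPq
  have : P = q := le_antisymm hPq hqP
  rw [hPover.over, this]

end goingDown

section main

variable (A S : Type u) [CommRing A] [IsLocalRing A] [IsNoetherianRing A] [CommRing S]
  [IsLocalRing S] [Algebra A S] [IsLocalHom (algebraMap A S)] [Hensel.IsHenselization A S]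
  (ψ : S →+* AdicCompletion (maximalIdeal A) A)
  (hψ : ψ.comp (algebraMap A S) = algebraMap A (AdicCompletion (maximalIdeal A) A))

include hψ in
theorem mapsTo_surjOn_minimalPrimes :
    Set.MapsTo (Ideal.comap ψ) (minimalPrimes (AdicCompletion (maximalIdeal A) A))
        (minimalPrimes S) ∧
      Set.SurjOn (Ideal.comap ψ) (minimalPrimes (AdicCompletion (maximalIdeal A) A))
        (minimalPrimes S) := by
  letI : Algebra S (AdicCompletion (maximalIdeal A) A) := ψ.toAlgebra
  haveI : Module.FaithfullyFlat S (AdicCompletion (maximalIdeal A) A) :=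
    faithfullyFlat_psi A S ψ hψ
  constructor
  · intro q hq
    exact comap_mem_minimalPrimes_of_hasGoingDown S (AdicCompletion (maximalIdeal A) A) q hq
  · exact Groth.Agent.Helper8.HensGU.minimalPrimes_subset_image_comap S
      (AdicCompletion (maximalIdeal A) A)

end main

end Groth.Agent.Helper8.HensCpl
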