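import Mathlib
import Groth.Prelude
import Groth.Agent.S0506
import Groth.Agent.S0537
import Groth.Agent.S0540
import Groth.Agent.S12237
import Groth.Agent.Lib.Helper5.WEt.Basic
import Groth.Agent.Lib.Helper6.IndEtWeakly
import Groth.Agent.Lib.Helper8.GRing3
import Groth.Agent.Lib.Helper8.HensCpl1
import Groth.Agent.Lib.Helper8.HensGU13

/-!
# Branches of the completion: `numBranches A ≤ numBranches Â`, `numGeomBranches A ≤ numGeomBranches Â`
-/

set_option autoImplicit false

universe u

namespace Groth.Agent.Helper8.HensCpl

open TensorProduct IsLocalRing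

section self

variable (R : Type u) [CommRing R] [HenselianLocalRing R]

theorem isLocalHom_algebraMap_self : IsLocalHom (algebraMap R R) := ⟨fun _ h => h⟩

/-- A henselian local ring is its own henselization. -/
theorem isHenselization_self :
    haveI := isLocalHom_algebraMap_self R
    Hensel.IsHenselization R R := by
  haveI := isLocalHom_algebraMap_self R
  refine ⟨inferInstance, fun T _ _ f _ => ⟨f, ?_, ?_⟩⟩
  · ext x
    rfl
  · intro g hg
    rw [← hg]
    ext x
    rfl

end self

section card

theorem encard_le_of_subset_image {α β : Type*} (f : α → β) (s : Set α) (t : Set β)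
    (h : t ⊆ f '' s) : ENat.card t ≤ ENat.card s := by
  rw [ENat.card_coe_set_eq, ENat.card_coe_set_eq]
  exact (Set.encard_le_encard h).trans (Set.encard_image_le f s)

end card

section strictMap

variable (A B S T : Type u) [CommRing A] [IsLocalRing A] [CommRing B] [IsLocalRing B]
  [Algebra A B] [IsLocalHom (algebraMap A B)]
  [CommRing S] [IsLocalRing S] [Algebra A S] [IsLocalHom (algebraMap A S)]
  [Hensel.IsStrictHenselization A S]
  [CommRing T] [IsLocalRing T] [Algebra B T] [IsLocalHom (algebraMap B T)]
  [Hensel.IsStrictHenselization B T]

/-- A local map `A → B` induces a local map of strict henselizations. -/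
theorem exists_map_strictHenselization :
    ∃ g : S →+* T, g.comp (algebraMap A S) = (algebraMap B T).comp (algebraMap A B) ∧
      IsLocalHom g := by
  haveI : HenselianLocalRing T := Hensel.IsStrictHenselization.henselian B
  haveI hT : IsSepClosure (ResidueField B) (ResidueField T) :=
    Hensel.IsStrictHenselization.isSepClosure
  haveI hS : IsSepClosure (ResidueField A) (ResidueField S) :=
    Hensel.IsStrictHenselization.isSepClosure
  haveI : IsSepClosed (ResidueField T) := hT.sep_closed
  haveI : Algebra.IsSeparable (ResidueField A) (ResidueField S) := hS.separable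
  let f : A →+* T := (algebraMap B T).comp (algebraMap A B)
  haveI : IsLocalHom f := RingHom.isLocalHom_comp _ _
  letI : Algebra (ResidueField A) (ResidueField T) := (ResidueField.map f).toAlgebra
  let τ : ResidueField S →ₐ[ResidueField A] ResidueField T := IsSepClosed.lift
  have hτ : τ.toRingHom.comp (ResidueField.map (algebraMap A S)) = ResidueField.map f := by
    ext x
    obtain ⟨a, rfl⟩ := residue_surjective x
    exact τ.commutes (residue A a)
  obtain ⟨g, ⟨hg1, hg2⟩, -⟩ := Hensel.IsStrictHenselization.universal (R := A) (S := S) T f
    τ.toRingHom hτ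
  refine ⟨g, hg1, ⟨fun x hx => ?_⟩⟩
  by_contra hx'
  have h1 : residue S x = 0 := (residue_eq_zero_iff x).mpr hx'
  have h2 : residue T (g x) = 0 := by rw [hg2, h1, map_zero]
  exact ((residue_eq_zero_iff _).mp h2) hx

/-- The induced map of strict henselizations is flat when `A → B` is. -/
theorem flat_map_strictHenselization [Module.Flat A B] (g : S →+* T)
    (hg : g.comp (algebraMap A S) = (algebraMap B T).comp (algebraMap A B)) : g.Flat := by
  letI : Algebra S T := g.toAlgebra
  letI : Algebra A T := ((algebraMap B T).comp (algebraMap A B)).toAlgebra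
  haveI : IsScalarTower A B T := IsScalarTower.of_algebraMap_eq fun a => rfl
  haveI : IsScalarTower A S T :=
    IsScalarTower.of_algebraMap_eq fun a => (RingHom.congr_fun hg a).symm
  haveI : Module.FaithfullyFlat B T := Groth.Agent.S0539.result B T
  haveI : Module.Flat A T := Module.Flat.trans A B T
  haveI : Algebra.WeaklyEtale A S :=
    Groth.Agent.Lib.Helper6.IndEt.weaklyEtale_of_isIndEtale A S (Groth.Agent.S12237.result A S)
  exact Helper5.WEt.flat_of_flat_lmul' A S (Algebra.WeaklyEtale.flat_lmul' A S) T

/-- The induced map of strict henselizations is faithfully flat when `A → B` is flat. -/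
theorem card_minimalPrimes_strictHenselization_le [Module.Flat A B] :
    ENat.card (minimalPrimes S) ≤ ENat.card (minimalPrimes T) := by
  obtain ⟨g, hg, hgloc⟩ := exists_map_strictHenselization A B S T
  have hflat := flat_map_strictHenselization A B S T g hg
  letI : Algebra S T := g.toAlgebra
  haveI : Module.Flat S T := hflat
  haveI : IsLocalHom (algebraMap S T) := hgloc
  haveI : Module.FaithfullyFlat S T := Module.FaithfullyFlat.of_flat_of_isLocalHom
  exact encard_le_of_subset_image _ _ _
    (Groth.Agent.Helper8.HensGU.minimalPrimes_subset_image_comap S T)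

end strictMap

section main

variable (A : Type u) [CommRing A] [IsLocalRing A] [IsNoetherianRing A]

theorem numBranches_le_completion :
    Brnch.numBranches A ≤ Brnch.numBranches (AdicCompletion (maximalIdeal A) A) ∧
      Brnch.numGeomBranches A ≤
        Brnch.numGeomBranches (AdicCompletion (maximalIdeal A) A) := by
  constructor
  · obtain ⟨S, _, _, _, _, hS⟩ := Groth.Agent.S0506.result A
    haveI : HenselianLocalRing (AdicCompletion (maximalIdeal A) A) :=
      Groth.Agent.Helper8.GRing.henselianLocalRing_of_isAdicComplete _
    obtain ⟨ψ, hψ, -⟩ := Hensel.IsHenselization.universal (R := A) (S := S)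
      (AdicCompletion (maximalIdeal A) A) (algebraMap A (AdicCompletion (maximalIdeal A) A))
      inferInstance
    rw [← Groth.Agent.Helper8.HensGU.card_minimalPrimes_henselization A S]
    haveI := isLocalHom_algebraMap_self (AdicCompletion (maximalIdeal A) A)
    haveI := isHenselization_self (AdicCompletion (maximalIdeal A) A)
    rw [← Groth.Agent.Helper8.HensGU.card_minimalPrimes_henselization
      (AdicCompletion (maximalIdeal A) A) (AdicCompletion (maximalIdeal A) A)]
    exact encard_le_of_subset_image _ _ _ (mapsTo_surjOn_minimalPrimes A S ψ hψ).2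
  · obtain ⟨S, _, _, _, _, hS⟩ := Groth.Agent.S0537.result A
    obtain ⟨T, _, _, _, _, hT⟩ :=
      Groth.Agent.S0537.result (AdicCompletion (maximalIdeal A) A)
    rw [← Groth.Agent.Helper8.HensGU.card_minimalPrimes_strictHenselization A S,
      ← Groth.Agent.Helper8.HensGU.card_minimalPrimes_strictHenselization
        (AdicCompletion (maximalIdeal A) A) T]
    exact card_minimalPrimes_strictHenselization_le A (AdicCompletion (maximalIdeal A) A) S T

end main

end Groth.Agent.Helper8.HensCpl
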