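import Mathlib
import Groth.Prelude
import Groth.Agent.Lib.Helper8.HensCpl2

/-!
# `numBranches A = numBranches Â` iff radicals of extended minimal primes of `A^h` are prime
-/

set_option autoImplicit false

universe u

namespace Groth.Agent.Helper8.HensCpl

open TensorProduct IsLocalRing

section general

variable {R T : Type*} [CommRing R] [CommRing T] [Algebra R T] [Module.Flat R T]

/-- For a flat algebra, injectivity of contraction on minimal primes is equivalent to primality
of the radicals of the extended minimal primes. -/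
theorem injOn_comap_minimalPrimes_iff
    (hsurj : Set.SurjOn (Ideal.comap (algebraMap R T)) (minimalPrimes T) (minimalPrimes R)) :
    Set.InjOn (Ideal.comap (algebraMap R T)) (minimalPrimes T) ↔
      ∀ q ∈ minimalPrimes R, (Ideal.map (algebraMap R T) q).radical.IsPrime := by
  constructor
  · intro hinj q hq
    obtain ⟨Q, hQ, hQq⟩ := hsurj hq
    haveI := hQ.1.1
    haveI := hq.1.1
    have : (Ideal.map (algebraMap R T) q).radical = Q := by
      apply le_antisymm
      · rw [Ideal.IsPrime.radical_le_iff inferInstance, Ideal.map_le_iff_le_comap, hQq]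
      · rw [Ideal.radical_eq_sInf, le_sInf_iff]
        rintro P ⟨hqP, hP⟩
        haveI : P.LiesOver (P.comap (algebraMap R T)) := ⟨rfl⟩
        haveI : (P.comap (algebraMap R T)).IsPrime := Ideal.IsPrime.comap _
        have hle : q ≤ P.comap (algebraMap R T) := Ideal.map_le_iff_le_comap.mp hqP
        obtain ⟨P', hP'P, hP'prime, hP'over⟩ :=
          Ideal.exists_ideal_le_liesOver_of_le (p := q) (q := P.comap (algebraMap R T)) P hle
        obtain ⟨Q', hQ', hQ'P'⟩ := Ideal.exists_minimalPrimes_le (bot_le : (⊥ : Ideal T) ≤ P')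
        haveI := hQ'.1.1
        have h1 : Q'.comap (algebraMap R T) ≤ q := by
          rw [hP'over.over]
          exact Ideal.comap_mono hQ'P'
        have h2 : Q'.comap (algebraMap R T) = q :=
          le_antisymm h1 (hq.2 ⟨Ideal.IsPrime.comap _, bot_le⟩ h1)
        have h3 : Q' = Q := hinj hQ' hQ (h2.trans hQq.symm)
        rw [← h3]
        exact hQ'P'.trans hP'P
    rw [this]
    infer_instance
  · intro h Q₁ hQ₁ Q₂ hQ₂ heq
    haveI := hQ₁.1.1
    haveI := hQ₂.1.1
    have hq : Q₁.comap (algebraMap R T) ∈ minimalPrimes R :=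
      comap_mem_minimalPrimes_of_hasGoingDown R T Q₁ hQ₁
    have hP := h _ hq
    have h1 : (Ideal.map (algebraMap R T) (Q₁.comap (algebraMap R T))).radical ≤ Q₁ := by
      rw [Ideal.IsPrime.radical_le_iff inferInstance]
      exact Ideal.map_comap_le
    have h2 : (Ideal.map (algebraMap R T) (Q₁.comap (algebraMap R T))).radical ≤ Q₂ := by
      rw [Ideal.IsPrime.radical_le_iff inferInstance]
      have : Ideal.map (algebraMap R T) (Q₁.comap (algebraMap R T)) =
          Ideal.map (algebraMap R T) (Q₂.comap (algebraMap R T)) := congrArg _ heq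
      rw [this]
      exact Ideal.map_comap_le
    have e1 := le_antisymm h1 (hQ₁.2 ⟨hP, bot_le⟩ h1)
    have e2 := le_antisymm h2 (hQ₂.2 ⟨hP, bot_le⟩ h2)
    rw [← e1, ← e2]

end general

section card

theorem encard_eq_iff_injOn {α β : Type*} (f : α → β) (s : Set α) (t : Set β) (hs : s.Finite)
    (h1 : Set.MapsTo f s t) (h2 : Set.SurjOn f s t) :
    ENat.card t = ENat.card s ↔ Set.InjOn f s := by
  rw [ENat.card_coe_set_eq, ENat.card_coe_set_eq, ← h2.image_eq_of_mapsTo h1]
  exact ⟨fun h => hs.injOn_of_encard_image_eq h, fun h => h.encard_image⟩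

end card

section main

variable (A S : Type u) [CommRing A] [IsLocalRing A] [IsNoetherianRing A] [CommRing S]
  [IsLocalRing S] [Algebra A S] [IsLocalHom (algebraMap A S)] [Hensel.IsHenselization A S]
  (ψ : S →+* AdicCompletion (maximalIdeal A) A)
  (hψ : ψ.comp (algebraMap A S) = algebraMap A (AdicCompletion (maximalIdeal A) A))

include hψ in
theorem numBranches_eq_iff :
    Brnch.numBranches A = Brnch.numBranches (AdicCompletion (maximalIdeal A) A) ↔
      ∀ q ∈ minimalPrimes S, (Ideal.map ψ q).radical.IsPrime := by
  haveI : HenselianLocalRing (AdicCompletion (maximalIdeal A) A) :=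
    Groth.Agent.Helper8.GRing.henselianLocalRing_of_isAdicComplete _
  rw [← Groth.Agent.Helper8.HensGU.card_minimalPrimes_henselization A S]
  haveI := isLocalHom_algebraMap_self (AdicCompletion (maximalIdeal A) A)
  haveI := isHenselization_self (AdicCompletion (maximalIdeal A) A)
  rw [← Groth.Agent.Helper8.HensGU.card_minimalPrimes_henselization
    (AdicCompletion (maximalIdeal A) A) (AdicCompletion (maximalIdeal A) A)]
  haveI : IsNoetherianRing (AdicCompletion (maximalIdeal A) A) :=
    Groth.Agent.Helper8.AdicReg.isNoetherianRing A _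
  obtain ⟨h1, h2⟩ := mapsTo_surjOn_minimalPrimes A S ψ hψ
  rw [encard_eq_iff_injOn (Ideal.comap ψ) _ _
    (minimalPrimes.finite_of_isNoetherianRing _) h1 h2]
  letI : Algebra S (AdicCompletion (maximalIdeal A) A) := ψ.toAlgebra
  haveI : Module.Flat S (AdicCompletion (maximalIdeal A) A) := flat_psi A S ψ hψ
  exact injOn_comap_minimalPrimes_iff (R := S) (T := AdicCompletion (maximalIdeal A) A) h2

end main

end Groth.Agent.Helper8.HensCpl
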