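import Mathlib
import Groth.Prelude

/-!
# One-dimensional henselian local domains are analytically irreducible up to nilpotents

Let `D` be a Noetherian henselian local domain of dimension one and `D → C` a flat local map to a
Noetherian local ring inducing surjections `D → C / 𝔪ⁿ C`.  Then `C` has a unique minimal prime.
-/

set_option autoImplicit false

universe u

namespace Groth.Agent.Helper8.DimOneUB

open IsLocalRing Polynomial

section idem

theorem eq_zero_or_one_of_isIdempotentElem {C : Type*} [CommRing C] [IsLocalRing C] {c : C}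
    (hc : IsIdempotentElem c) : c = 0 ∨ c = 1 := by
  have h : c * (1 - c) = 0 := by
    rw [mul_sub, mul_one, hc.eq, sub_self]
  rcases IsLocalRing.isUnit_or_isUnit_one_sub_self c with hu | hu
  · right
    have := hu.mul_right_eq_zero.mp h
    exact (sub_eq_zero.mp this).symm
  · left
    exact hu.mul_left_eq_zero.mp h

end idem

section D0

variable (D C : Type u) [CommRing D] [IsDomain D] [HenselianLocalRing D] [IsNoetherianRing D]
  [CommRing C] [IsLocalRing C] [IsNoetherianRing C] [Algebra D C] [Module.Flat D C]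
  [IsLocalHom (algebraMap D C)]

variable (hdim : ∀ P : Ideal D, P.IsPrime → P ≠ ⊥ → P = maximalIdeal D)
  (hsurj : ∀ (n : ℕ) (c : C), ∃ d : D,
    c - algebraMap D C d ∈ ((maximalIdeal D) ^ n).map (algebraMap D C))

include hdim in
theorem exists_pow_le_span {x : D} (hx : x ≠ 0) :
    ∃ K : ℕ, (maximalIdeal D) ^ K ≤ Ideal.span {x} := by
  apply Ideal.exists_pow_le_of_le_radical_of_fg _ (maximalIdeal D).fg_of_isNoetherianRing
  rw [Ideal.radical_eq_sInf]
  apply le_sInf
  rintro P ⟨hxP, hP⟩
  have hne : P ≠ ⊥ := by
    rintro rfl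
    exact hx (by simpa using hxP (Ideal.mem_span_singleton_self x))
  rw [hdim P hP hne]

omit [IsDomain D] [IsNoetherianRing D] [IsNoetherianRing C] [Module.Flat D C] in
theorem map_maximalIdeal_le :
    (maximalIdeal D).map (algebraMap D C) ≤ maximalIdeal C := by
  have h : IsLocalHom (algebraMap D C) := inferInstance
  exact ((IsLocalRing.local_hom_TFAE (algebraMap D C)).out 0 2).mp h

include hsurj in
theorem map_maximalIdeal_eq :
    (maximalIdeal D).map (algebraMap D C) = maximalIdeal C := by
  apply le_antisymm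
  · exact map_maximalIdeal_le D C
  · intro c hc
    obtain ⟨d, hd⟩ := hsurj 1 c
    rw [pow_one] at hd
    have h1 : algebraMap D C d ∈ maximalIdeal C := by
      have : algebraMap D C d = c - (c - algebraMap D C d) := by ring
      rw [this]
      exact Ideal.sub_mem _ hc (map_maximalIdeal_le D C hd)
    have h2 : d ∈ maximalIdeal D := by
      by_contra hd'
      have : IsUnit d := by
        by_contra hu
        exact hd' ((IsLocalRing.mem_maximalIdeal d).mpr hu)
      exact (IsLocalRing.mem_maximalIdeal _).mp h1 (this.map _)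
    have : c = (c - algebraMap D C d) + algebraMap D C d := by ring
    rw [this]
    exact Ideal.add_mem _ hd (Ideal.mem_map_of_mem _ h2)

include hdim hsurj in
/-- A prime of `C` containing a nonzero element of `D` is the maximal ideal. -/
theorem eq_maximalIdeal_of_mem {x : D} (hx : x ≠ 0) (P : Ideal C) [P.IsPrime]
    (hxP : algebraMap D C x ∈ P) : P = maximalIdeal C := by
  obtain ⟨K, hK⟩ := exists_pow_le_span D hdim hx
  have h1 : ((maximalIdeal D).map (algebraMap D C)) ^ K ≤ P := by
    rw [← Ideal.map_pow]
    refine (Ideal.map_mono hK).trans ?_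
    rw [Ideal.map_span, Set.image_singleton, Ideal.span_singleton_le_iff_mem]
    exact hxP
  have h2 : (maximalIdeal D).map (algebraMap D C) ≤ P := Ideal.IsPrime.le_of_pow_le h1
  rw [map_maximalIdeal_eq D C hsurj] at h2
  exact ((IsLocalRing.maximalIdeal.isMaximal C).eq_of_le Ideal.IsPrime.ne_top' h2).symm

include hdim hsurj in
/-- Every prime of `C` other than the maximal ideal is a minimal prime. -/
theorem mem_minimalPrimes_of_ne {x : D} (hx : x ≠ 0) (hxm : x ∈ maximalIdeal D)
    (P : Ideal C) [P.IsPrime] (hP : P ≠ maximalIdeal C) : P ∈ minimalPrimes C := by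
  have hmin : maximalIdeal C ∈ (Ideal.span {algebraMap D C x}).minimalPrimes := by
    refine ⟨⟨inferInstance, ?_⟩, ?_⟩
    · rw [Ideal.span_singleton_le_iff_mem, ← map_maximalIdeal_eq D C hsurj]
      exact Ideal.mem_map_of_mem _ hxm
    · rintro Q ⟨hQ, hxQ⟩ -
      haveI := hQ
      rw [eq_maximalIdeal_of_mem D C hdim hsurj hx Q
        ((Ideal.span_singleton_le_iff_mem _).mp hxQ)]
  have hht : (maximalIdeal C).height ≤ 1 :=
    Ideal.height_le_one_of_isPrincipal_of_mem_minimalPrimes _ _ hmin
  obtain ⟨Q, hQ, hQP⟩ := Ideal.exists_minimalPrimes_le (bot_le : (⊥ : Ideal C) ≤ P)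
  haveI := hQ.1.1
  by_cases hQeq : Q = P
  · rw [← hQeq]; exact hQ
  · exfalso
    have h1 : Q < P := lt_of_le_of_ne hQP hQeq
    have h2 : P < maximalIdeal C :=
      lt_of_le_of_ne (IsLocalRing.le_maximalIdeal Ideal.IsPrime.ne_top') hP
    have h3 := Ideal.height_add_one_le_of_lt_of_isPrime h1
    have h4 := Ideal.height_add_one_le_of_lt_of_isPrime h2
    have h5 : (2 : ℕ∞) ≤ 1 := by
      calc (2 : ℕ∞) = 0 + 1 + 1 := by norm_num
        _ ≤ Q.height + 1 + 1 := by gcongr; exact zero_le
        _ ≤ P.height + 1 := by gcongr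
        _ ≤ (maximalIdeal C).height := h4
        _ ≤ 1 := hht
    exact absurd h5 (by decide)

end D0

end Groth.Agent.Helper8.DimOneUB
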