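import Mathlib
import Groth.Prelude
import Groth.Agent.Lib.Helper8.DimOneUB1

/-!
# One-dimensional henselian local domains: uniqueness of the minimal prime of a formally
isomorphic flat extension
-/

set_option autoImplicit false

universe u

namespace Groth.Agent.Helper8.DimOneUB

open IsLocalRing Polynomial

section approx

variable {D : Type u} [CommRing D] [IsDomain D] [HenselianLocalRing D]

/-- In a henselian local domain, a solution of `c² - c y = y³ δ` is a multiple of `y`. -/
theorem exists_eq_mul_of_sq_sub (c y δ : D) (hy : y ∈ maximalIdeal D)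
    (h : c ^ 2 - c * y = δ * y ^ 3) : ∃ r : D, c = y * r := by
  let f : D[X] := X ^ 2 - (X + C (y * δ))
  have hmonic : f.Monic := by
    apply Polynomial.monic_X_pow_sub
    refine lt_of_le_of_lt (Polynomial.degree_add_le _ _) ?_
    refine max_lt ?_ ?_
    · rw [Polynomial.degree_X]; norm_num
    · exact lt_of_le_of_lt Polynomial.degree_C_le (by norm_num)
  have h0 : f.eval 0 ∈ maximalIdeal D := by
    simp only [f, eval_sub, eval_pow, eval_X, eval_add, eval_C]
    have : (0 : D) ^ 2 - (0 + y * δ) = -(y * δ) := by ring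
    rw [this]
    exact Ideal.neg_mem_iff _ |>.mpr (Ideal.mul_mem_right _ _ hy)
  have h1 : IsUnit (f.derivative.eval 0) := by
    simp only [f, derivative_sub, derivative_X_pow, derivative_add, derivative_X, derivative_C,
      eval_sub, eval_mul, eval_C, eval_pow, eval_X, eval_add, eval_one, eval_zero]
    norm_num
  obtain ⟨r, hr, -⟩ := HenselianLocalRing.is_henselian f hmonic 0 h0 h1
  have hr' : r ^ 2 - (r + y * δ) = 0 := by
    have := hr
    simp only [f, IsRoot.def, eval_sub, eval_pow, eval_X, eval_add, eval_C] at this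
    exact this
  have hprod : (c - y * r) * (c + y * r - y) = 0 := by
    have e1 : (c - y * r) * (c + y * r - y) = (c ^ 2 - c * y) - y ^ 2 * (r ^ 2 - r) := by ring
    have e2 : r ^ 2 - r = y * δ := by linear_combination hr'
    rw [e1, h, e2]
    ring
  rcases mul_eq_zero.mp hprod with h' | h'
  · exact ⟨r, by linear_combination h'⟩
  · exact ⟨1 - r, by linear_combination h'⟩

end approx

section D0

variable (D C : Type u) [CommRing D] [IsDomain D] [HenselianLocalRing D] [IsNoetherianRing D]
  [CommRing C] [IsLocalRing C] [IsNoetherianRing C] [Algebra D C] [Module.Flat D C]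
  [IsLocalHom (algebraMap D C)]

variable (hdim : ∀ P : Ideal D, P.IsPrime → P ≠ ⊥ → P = maximalIdeal D)
  (hsurj : ∀ (n : ℕ) (c : C), ∃ d : D,
    c - algebraMap D C d ∈ ((maximalIdeal D) ^ n).map (algebraMap D C))

include hdim hsurj in
/-- A solution of `c² = c y` in `C` with `y ∈ 𝔪_D` nonzero is a multiple of `y`. -/
theorem exists_eq_mul_of_sq_eq (y : D) (hy0 : y ≠ 0) (hy : y ∈ maximalIdeal D) (c : C)
    (hc : c ^ 2 = c * algebraMap D C y) : ∃ c' : C, c = algebraMap D C y * c' := by
  haveI : Module.FaithfullyFlat D C := Module.FaithfullyFlat.of_flat_of_isLocalHom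
  obtain ⟨K, hK⟩ := exists_pow_le_span D hdim (pow_ne_zero 3 hy0)
  obtain ⟨c₀, hc₀⟩ := hsurj K c
  have h1 : c - algebraMap D C c₀ ∈ Ideal.span {algebraMap D C y ^ 3} := by
    have := Ideal.map_mono (f := algebraMap D C) hK hc₀
    rwa [Ideal.map_span, Set.image_singleton, map_pow] at this
  obtain ⟨z, hz⟩ := Ideal.mem_span_singleton'.mp h1
  set y' := algebraMap D C y with hy'
  have hφ : algebraMap D C c₀ = c - z * y' ^ 3 := by rw [hz]; ring
  have h2 : algebraMap D C (c₀ ^ 2 - c₀ * y) ∈ (Ideal.span {y ^ 3}).map (algebraMap D C) := by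
    rw [Ideal.map_span, Set.image_singleton, map_pow, ← hy', Ideal.mem_span_singleton']
    refine ⟨-2 * c * z + y' ^ 3 * z ^ 2 + y' * z, ?_⟩
    rw [map_sub, map_mul, map_pow, hφ, ← hy']
    linear_combination (-1 : C) * hc
  have h3 : c₀ ^ 2 - c₀ * y ∈ Ideal.span {y ^ 3} := by
    have : c₀ ^ 2 - c₀ * y ∈
        ((Ideal.span {y ^ 3}).map (algebraMap D C)).comap (algebraMap D C) := h2
    rwa [Ideal.comap_map_eq_self_of_faithfullyFlat] at this
  obtain ⟨δ, hδ⟩ := Ideal.mem_span_singleton'.mp h3
  obtain ⟨r, hr⟩ := exists_eq_mul_of_sq_sub c₀ y δ hy hδ.symm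
  refine ⟨algebraMap D C r + y' ^ 2 * z, ?_⟩
  have : c = algebraMap D C c₀ + z * y' ^ 3 := by rw [hφ]; ring
  rw [this, hr, map_mul, ← hy']
  ring

end D0

end Groth.Agent.Helper8.DimOneUB
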