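import Mathlib
import Groth.Prelude
import Groth.Agent.Lib.Helper8.DimOneUB2

/-!
# One-dimensional henselian local domains: uniqueness of the minimal prime of a formally
isomorphic flat extension (main statement)
-/

set_option autoImplicit false

universe u

namespace Groth.Agent.Helper8.DimOneUB

open IsLocalRing Polynomial

section D0

variable (D C : Type u) [CommRing D] [IsDomain D] [HenselianLocalRing D] [IsNoetherianRing D]
  [CommRing C] [IsLocalRing C] [IsNoetherianRing C] [Algebra D C] [Module.Flat D C]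
  [IsLocalHom (algebraMap D C)]

variable (hdim : ∀ P : Ideal D, P.IsPrime → P ≠ ⊥ → P = maximalIdeal D)
  (hsurj : ∀ (n : ℕ) (c : C), ∃ d : D,
    c - algebraMap D C d ∈ ((maximalIdeal D) ^ n).map (algebraMap D C))
  (hnf : maximalIdeal D ≠ ⊥)

include hdim hsurj hnf in
theorem unique_minimalPrime (Q₁ Q₂ : Ideal C) (h₁ : Q₁ ∈ minimalPrimes C)
    (h₂ : Q₂ ∈ minimalPrimes C) : Q₁ = Q₂ := by
  by_contra hne
  haveI := h₁.1.1
  haveI := h₂.1.1
  obtain ⟨x, hxm, hx0⟩ := Submodule.exists_mem_ne_zero_of_ne_bot hnf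
  set x' := algebraMap D C x with hx'
  have hregD : IsSMulRegular D x := fun a b h => mul_left_cancel₀ hx0 h
  have hreg : IsSMulRegular C x' := IsSMulRegular.of_flat hregD
  have hnzd : ∀ n : ℕ, ∀ c : C, x' ^ n * c = 0 → c = 0 := by
    intro n c hc
    have : IsSMulRegular C (x' ^ n) := hreg.pow n
    exact this (by simpa using hc)
  have hx'm : x' ∈ maximalIdeal C := by
    rw [← map_maximalIdeal_eq D C hsurj]
    exact Ideal.mem_map_of_mem _ hxm
  -- minimal primes do not contain `x'`
  have hnot : ∀ Q ∈ minimalPrimes C, ∀ Q' ∈ minimalPrimes C, Q ≠ Q' → x' ∉ Q := by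
    intro Q hQ Q' hQ' hQQ' hxQ
    haveI := hQ.1.1
    haveI := hQ'.1.1
    have := eq_maximalIdeal_of_mem D C hdim hsurj hx0 Q hxQ
    have hle : Q' ≤ Q := by rw [this]; exact IsLocalRing.le_maximalIdeal Ideal.IsPrime.ne_top'
    exact hQQ' (le_antisymm (hQ.2 ⟨inferInstance, bot_le⟩ hle) hle)
  have hx1 : x' ∉ Q₁ := hnot Q₁ h₁ Q₂ h₂ hne
  have hx2 : x' ∉ Q₂ := hnot Q₂ h₂ Q₁ h₁ (Ne.symm hne)
  let Cx := Localization.Away x'
  have hdisj : ∀ P : Ideal C, P.IsPrime → x' ∉ P →
      Disjoint (Submonoid.powers x' : Set C) (P : Set C) := by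
    intro P hP hxP
    rw [Set.disjoint_left]
    rintro _ ⟨n, rfl⟩ hmem
    exact hxP (hP.mem_of_pow_mem n hmem)
  -- `Cx` is zero-dimensional
  have hprime_min : ∀ J : Ideal Cx, J.IsPrime → J.under C ∈ minimalPrimes C := by
    intro J hJ
    have h := (IsLocalization.isPrime_iff_isPrime_disjoint (Submonoid.powers x') Cx J).mp hJ
    haveI := h.1
    refine mem_minimalPrimes_of_ne D C hdim hsurj hx0 hxm _ ?_
    intro heq
    have : x' ∈ J.under C := by rw [heq]; exact hx'm
    exact Set.disjoint_left.mp h.2 ⟨1, pow_one _⟩ this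
  haveI hK0 : Ring.KrullDimLE 0 Cx := by
    refine Ring.KrullDimLE.mk₀ fun J hJ => ?_
    refine ⟨⟨hJ.ne_top, fun J' hlt => ?_⟩⟩
    by_contra hJ'
    obtain ⟨𝔐, h𝔐, hJ'𝔐⟩ := Ideal.exists_le_maximal J' hJ'
    have hP := hprime_min J hJ
    have hP' := hprime_min 𝔐 h𝔐.isPrime
    have hle : J.under C ≤ 𝔐.under C := Ideal.comap_mono (hlt.le.trans hJ'𝔐)
    have heq : J.under C = 𝔐.under C := le_antisymm hle (hP'.2 hP.1 hle)
    have : J = 𝔐 := by
      rw [← IsLocalization.map_under (Submonoid.powers x') Cx J,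
        ← IsLocalization.map_under (Submonoid.powers x') Cx 𝔐, heq]
    rw [this] at hlt
    exact absurd hJ'𝔐 (not_le_of_gt hlt)
  haveI : IsArtinianRing Cx := isArtinianRing_iff_krullDimLE_zero.mpr hK0
  -- the two primes of `Cx`
  have hP₁ : (Q₁.map (algebraMap C Cx)).IsPrime :=
    IsLocalization.isPrime_of_isPrime_disjoint (Submonoid.powers x') Cx Q₁ inferInstance
      (hdisj Q₁ inferInstance hx1)
  have hP₂ : (Q₂.map (algebraMap C Cx)).IsPrime :=
    IsLocalization.isPrime_of_isPrime_disjoint (Submonoid.powers x') Cx Q₂ inferInstance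
      (hdisj Q₂ inferInstance hx2)
  have hPne : Q₂.map (algebraMap C Cx) ≠ Q₁.map (algebraMap C Cx) := by
    intro heq
    have e1 := IsLocalization.under_map_of_isPrime_disjoint (Submonoid.powers x') Cx
      (I := Q₁) inferInstance (hdisj Q₁ inferInstance hx1)
    have e2 := IsLocalization.under_map_of_isPrime_disjoint (Submonoid.powers x') Cx
      (I := Q₂) inferInstance (hdisj Q₂ inferInstance hx2)
    rw [heq, e1] at e2
    exact hne e2
  obtain ⟨e, heP₁, hidem, hall⟩ :=
    IsArtinianRing.exists_not_mem_forall_mem_of_ne (Q₁.map (algebraMap C Cx))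
  have heP₂ : e ∈ Q₂.map (algebraMap C Cx) := hall _ hP₂ hPne
  have he0 : e ≠ 0 := fun h => heP₁ (h ▸ Ideal.zero_mem _)
  have he1 : e ≠ 1 := fun h => hP₂.ne_top ((Ideal.eq_top_iff_one _).mpr (h ▸ heP₂))
  -- write `e = c / x'^(n+1)`
  obtain ⟨n, c, hc⟩ := IsLocalization.Away.surj x' e
  have hinj : Function.Injective (algebraMap C Cx) := by
    apply IsLocalization.injective Cx (M := Submonoid.powers x')
    rintro _ ⟨k, rfl⟩
    rw [mem_nonZeroDivisors_iff_right]
    intro c hc
    exact hnzd k c (by rw [mul_comm]; exact hc)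
  set y := x ^ (n + 1) with hy
  have hy0 : y ≠ 0 := pow_ne_zero _ hx0
  have hym : y ∈ maximalIdeal D := Ideal.pow_mem_of_mem _ hxm _ (Nat.succ_pos n)
  have hyx : algebraMap D C y = x' ^ (n + 1) := by rw [hy, map_pow]
  have hce : e * algebraMap C Cx (algebraMap D C y) = algebraMap C Cx (c * x') := by
    rw [hyx, map_pow, map_mul, ← hc, pow_succ]
    ring
  have hsq : (c * x') ^ 2 = (c * x') * algebraMap D C y := by
    apply hinj
    rw [map_pow, map_mul (algebraMap C Cx) (c * x'), ← hce]
    have : e ^ 2 = e := by rw [pow_two]; exact hidem.eq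
    calc (e * algebraMap C Cx (algebraMap D C y)) ^ 2
        = e ^ 2 * algebraMap C Cx (algebraMap D C y) ^ 2 := by ring
      _ = e * algebraMap C Cx (algebraMap D C y) * algebraMap C Cx (algebraMap D C y) := by
          rw [this]; ring
  obtain ⟨c', hc'⟩ := exists_eq_mul_of_sq_eq D C hdim hsurj y hy0 hym (c * x') hsq
  have hc'idem : IsIdempotentElem c' := by
    have h1 : x' ^ (2 * (n + 1)) * (c' * c' - c') = 0 := by
      have := hsq
      rw [hc', hyx] at this
      have e1 : x' ^ (2 * (n + 1)) = x' ^ (n + 1) * x' ^ (n + 1) := by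
        rw [two_mul, pow_add]
      rw [e1]
      linear_combination this
    have := hnzd _ _ h1
    exact sub_eq_zero.mp this
  have hunit : IsUnit (algebraMap C Cx (algebraMap D C y)) := by
    rw [hyx, map_pow]
    exact (IsLocalization.Away.algebraMap_isUnit x').pow _
  have hec' : e = algebraMap C Cx c' := by
    have : e * algebraMap C Cx (algebraMap D C y) =
        algebraMap C Cx c' * algebraMap C Cx (algebraMap D C y) := by
      rw [hce, hc', map_mul]
      ring
    exact hunit.mul_left_injective this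
  rcases eq_zero_or_one_of_isIdempotentElem hc'idem with h | h
  · exact he0 (by rw [hec', h, map_zero])
  · exact he1 (by rw [hec', h, map_one])

end D0

end Groth.Agent.Helper8.DimOneUB
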