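import Mathlib
import Groth.Prelude
import Groth.Agent.S0505
import Groth.Agent.Lib.Helper8.GorFlat1
import Groth.Agent.Lib.Helper8.DimOneUB3

/-!
# One-dimensional henselian local rings: contraction is injective on minimal primes of a
formally isomorphic flat extension
-/

set_option autoImplicit false

universe u

namespace Groth.Agent.Helper8.DimOneUB

open IsLocalRing Polynomial Groth.Agent.Helper8.GorFlat

section D1

variable (D C : Type u) [CommRing D] [HenselianLocalRing D] [IsNoetherianRing D]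
  [CommRing C] [IsLocalRing C] [IsNoetherianRing C] [Algebra D C] [Module.Flat D C]
  [IsLocalHom (algebraMap D C)]

variable (hdim : ringKrullDim D = 1)
  (hsurj : ∀ (n : ℕ) (c : C), ∃ d : D,
    c - algebraMap D C d ∈ ((maximalIdeal D) ^ n).map (algebraMap D C))

include hdim in
theorem eq_maximalIdeal_of_lt (p P : Ideal D) [p.IsPrime] [P.IsPrime] (h : p < P) :
    P = maximalIdeal D := by
  haveI : Ring.KrullDimLE 1 D := Ring.krullDimLE_iff.mpr (by rw [hdim]; rfl)
  rcases (Ring.krullDimLE_one_iff.mp inferInstance) P inferInstance with hP | hP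
  · exact absurd (hP.2 ⟨inferInstance, bot_le⟩ h.le) (not_le_of_gt h)
  · exact IsLocalRing.eq_maximalIdeal hP

include hdim in
theorem ne_maximalIdeal_of_mem_minimalPrimes (p : Ideal D) (hp : p ∈ minimalPrimes D) :
    p ≠ maximalIdeal D := by
  intro heq
  have h0 : Ring.KrullDimLE 0 D := by
    refine Ring.KrullDimLE.mk₀ fun I hI => ?_
    have hle : I ≤ p := heq ▸ IsLocalRing.le_maximalIdeal hI.ne_top
    have : I = maximalIdeal D := heq ▸ le_antisymm hle (hp.2 ⟨hI, bot_le⟩ hle)
    rw [this]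
    infer_instance
  have := Ring.krullDimLE_iff.mp h0
  rw [hdim] at this
  exact absurd this (by decide)

include hdim hsurj in
theorem injOn_comap_minimalPrimes :
    Set.InjOn (Ideal.comap (algebraMap D C)) (minimalPrimes C) := by
  intro Q₁ h₁ Q₂ h₂ heq
  haveI := h₁.1.1
  haveI := h₂.1.1
  set p := Q₁.comap (algebraMap D C) with hp
  have hpmin : p ∈ minimalPrimes D := by
    haveI : Q₁.LiesOver p := ⟨rfl⟩
    refine ⟨⟨Ideal.IsPrime.comap _, bot_le⟩, ?_⟩
    rintro p' ⟨hp', -⟩ hle
    haveI := hp'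
    haveI : p.IsPrime := Ideal.IsPrime.comap _
    obtain ⟨P, hPQ, hPprime, hPover⟩ :=
      Ideal.exists_ideal_le_liesOver_of_le (p := p') (q := p) Q₁ hle
    have : P = Q₁ := le_antisymm hPQ (h₁.2 ⟨hPprime, bot_le⟩ hPQ)
    rw [hPover.over, this]
  haveI hpprime : p.IsPrime := hpmin.1.1
  have hple : p ≤ maximalIdeal D := IsLocalRing.le_maximalIdeal hpprime.ne_top
  have hpC : p.map (algebraMap D C) ≤ maximalIdeal C :=
    (Ideal.map_mono hple).trans (map_maximalIdeal_le D C)
  -- the quotient rings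
  haveI : IsLocalRing (D ⧸ p) := isLocalRing_quot p hple
  haveI : IsLocalRing (C ⧸ p.map (algebraMap D C)) := isLocalRing_quot _ hpC
  haveI : HenselianLocalRing (D ⧸ p) := Groth.Agent.S0505.result D (D ⧸ p)
  haveI : Module.Flat (D ⧸ p) (C ⧸ p.map (algebraMap D C)) :=
    Module.Flat.of_linearEquiv
      (Algebra.TensorProduct.quotIdealMapEquivQuotTensor C p).toLinearEquiv
  haveI : IsLocalHom (algebraMap (D ⧸ p) (C ⧸ p.map (algebraMap D C))) := by
    haveI := isLocalHom_mk _ hpC
    constructor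
    intro a ha
    obtain ⟨a, rfl⟩ := Ideal.Quotient.mk_surjective a
    have h1 : IsUnit (Ideal.Quotient.mk (p.map (algebraMap D C)) (algebraMap D C a)) := ha
    have h2 : IsUnit (algebraMap D C a) := isUnit_of_map_unit _ _ h1
    exact (isUnit_of_map_unit (algebraMap D C) a h2).map _
  have hmaxq : maximalIdeal (D ⧸ p) = (maximalIdeal D).map (Ideal.Quotient.mk p) :=
    (maximalIdeal_quot p).symm
  have hdim' : ∀ P : Ideal (D ⧸ p), P.IsPrime → P ≠ ⊥ → P = maximalIdeal (D ⧸ p) := by
    intro P hP hP0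
    haveI := hP
    have hlt : p < P.comap (Ideal.Quotient.mk p) := by
      refine lt_of_le_of_ne ?_ ?_
      · intro a ha
        rw [Ideal.mem_comap, Ideal.Quotient.eq_zero_iff_mem.mpr ha]
        exact Ideal.zero_mem _
      · intro h
        apply hP0
        rw [eq_bot_iff]
        intro a ha
        obtain ⟨a, rfl⟩ := Ideal.Quotient.mk_surjective a
        have : a ∈ P.comap (Ideal.Quotient.mk p) := ha
        rw [← h] at this
        rw [Ideal.mem_bot, Ideal.Quotient.eq_zero_iff_mem]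
        exact this
    have := eq_maximalIdeal_of_lt D hdim p (P.comap (Ideal.Quotient.mk p)) hlt
    rw [hmaxq, ← this, Ideal.map_comap_of_surjective _ Ideal.Quotient.mk_surjective]
  have hnf' : maximalIdeal (D ⧸ p) ≠ ⊥ := by
    intro h
    apply ne_maximalIdeal_of_mem_minimalPrimes D hdim p hpmin
    apply le_antisymm hple
    intro a ha
    have : Ideal.Quotient.mk p a ∈ maximalIdeal (D ⧸ p) := by
      rw [hmaxq]; exact Ideal.mem_map_of_mem _ ha
    rw [h, Ideal.mem_bot, Ideal.Quotient.eq_zero_iff_mem] at this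
    exact this
  have hsurj' : ∀ (n : ℕ) (c : C ⧸ p.map (algebraMap D C)), ∃ d : D ⧸ p,
      c - algebraMap (D ⧸ p) (C ⧸ p.map (algebraMap D C)) d ∈
        ((maximalIdeal (D ⧸ p)) ^ n).map
          (algebraMap (D ⧸ p) (C ⧸ p.map (algebraMap D C))) := by
    intro n c
    obtain ⟨c, rfl⟩ := Ideal.Quotient.mk_surjective c
    obtain ⟨d, hd⟩ := hsurj n c
    refine ⟨Ideal.Quotient.mk p d, ?_⟩
    have h1 : Ideal.Quotient.mk (p.map (algebraMap D C)) (c - algebraMap D C d) ∈
        (((maximalIdeal D) ^ n).map (algebraMap D C)).map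
          (Ideal.Quotient.mk (p.map (algebraMap D C))) := Ideal.mem_map_of_mem _ hd
    rw [Ideal.map_map] at h1
    have h2 : (Ideal.Quotient.mk (p.map (algebraMap D C))).comp (algebraMap D C) =
        (algebraMap (D ⧸ p) (C ⧸ p.map (algebraMap D C))).comp (Ideal.Quotient.mk p) := by
      ext a; rfl
    rw [h2, ← Ideal.map_map, Ideal.map_pow, ← hmaxq, map_sub] at h1
    exact h1
  -- the two minimal primes of the quotient
  have hmem : ∀ Q ∈ minimalPrimes C, Q.comap (algebraMap D C) = p →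
      Q ∈ (p.map (algebraMap D C)).minimalPrimes := by
    intro Q hQ hQp
    refine ⟨⟨hQ.1.1, ?_⟩, fun Q' hQ' hle => hQ.2 ⟨hQ'.1, bot_le⟩ hle⟩
    rw [Ideal.map_le_iff_le_comap, hQp]
  have hm₁ := hmem Q₁ h₁ rfl
  have hm₂ := hmem Q₂ h₂ heq.symm
  rw [Ideal.minimalPrimes_eq_comap] at hm₁ hm₂
  obtain ⟨R₁, hR₁, e₁⟩ := hm₁
  obtain ⟨R₂, hR₂, e₂⟩ := hm₂
  have := unique_minimalPrime (D ⧸ p) (C ⧸ p.map (algebraMap D C)) hdim' hsurj' hnf'
    R₁ R₂ hR₁ hR₂
  rw [← e₁, ← e₂, this]

end D1

end Groth.Agent.Helper8.DimOneUB
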