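import Mathlib
import Groth.Prelude
import Groth.Agent.S0512
import Groth.Agent.S0538
import Groth.Agent.S0541
import Groth.Agent.Lib.Helper8.HensCpl3
import Groth.Agent.Lib.Helper8.DimOneUB4

/-!
# Dimension one: the completion has the same number of (geometric) branches
-/

set_option autoImplicit false

universe u

namespace Groth.Agent.Helper8.HensCpl

open TensorProduct IsLocalRing

section approx

variable (A : Type u) [CommRing A] [IsLocalRing A] [IsNoetherianRing A]

theorem exists_sub_mem_map_pow (n : ℕ) (y : AdicCompletion (maximalIdeal A) A) :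
    ∃ a : A, y - algebraMap A (AdicCompletion (maximalIdeal A) A) a ∈
      ((maximalIdeal A) ^ n).map (algebraMap A (AdicCompletion (maximalIdeal A) A)) := by
  obtain ⟨a, ha⟩ := Submodule.mkQ_surjective _ (AdicCompletion.eval (maximalIdeal A) A n y)
  refine ⟨a, ?_⟩
  rw [mem_map_pow_iff, map_sub, sub_eq_zero, ← ha]
  rfl

theorem residue_algebraMap_surjective :
    Function.Surjective (algebraMap (ResidueField A)
      (ResidueField (AdicCompletion (maximalIdeal A) A))) := by
  intro x
  obtain ⟨x, rfl⟩ := residue_surjective x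
  obtain ⟨a, ha⟩ := exists_sub_mem_map_pow A 1 x
  rw [pow_one, ← AdicCompletion.maximalIdeal_eq_map] at ha
  refine ⟨residue A a, ?_⟩
  rw [ResidueField.algebraMap_residue]
  symm
  rw [← sub_eq_zero, ← map_sub, residue_eq_zero_iff]
  exact ha

end approx

section powers

variable {S T : Type*} [CommRing S] [CommRing T] (g : S →+* T) (𝔪 : Ideal S)

/-- Surjectivity modulo `𝔪` implies surjectivity modulo all powers. -/
theorem exists_sub_mem_map_pow_of_one (h1 : ∀ t : T, ∃ s : S, t - g s ∈ 𝔪.map g) (n : ℕ)
    (t : T) : ∃ s : S, t - g s ∈ (𝔪 ^ n).map g := by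
  induction n generalizing t with
  | zero => exact ⟨0, by rw [pow_zero, Ideal.one_eq_top, Ideal.map_top]; trivial⟩
  | succ n ih =>
    -- the ideal of elements approximable by elements of `𝔪 ^ n`
    let P : Ideal T :=
      { carrier := {x | ∃ s ∈ 𝔪 ^ n, x - g s ∈ (𝔪 ^ (n + 1)).map g}
        add_mem' := by
          rintro x y ⟨s, hs, hx⟩ ⟨s', hs', hy⟩
          refine ⟨s + s', Ideal.add_mem _ hs hs', ?_⟩
          have : x + y - g (s + s') = (x - g s) + (y - g s') := by rw [map_add]; ring
          rw [this]
          exact Ideal.add_mem _ hx hy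
        zero_mem' := ⟨0, Ideal.zero_mem _, by simp⟩
        smul_mem' := by
          rintro r x ⟨s, hs, hx⟩
          obtain ⟨sr, hsr⟩ := h1 r
          refine ⟨sr * s, Ideal.mul_mem_left _ _ hs, ?_⟩
          have : r • x - g (sr * s) = r * (x - g s) + (r - g sr) * g s := by
            rw [map_mul, smul_eq_mul]; ring
          rw [this]
          refine Ideal.add_mem _ (Ideal.mul_mem_left _ _ hx) ?_
          rw [pow_succ', Ideal.map_mul]
          exact Ideal.mul_mem_mul hsr (Ideal.mem_map_of_mem _ hs) }
    have hP : (𝔪 ^ n).map g ≤ P := by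
      rw [Ideal.map_le_iff_le_comap]
      intro μ hμ
      exact ⟨μ, hμ, by simp⟩
    obtain ⟨s₀, hs₀⟩ := ih t
    obtain ⟨s₁, -, hs₁⟩ := hP hs₀
    refine ⟨s₀ + s₁, ?_⟩
    have : t - g (s₀ + s₁) = t - g s₀ - g s₁ := by rw [map_add]; ring
    rw [this]
    exact hs₁

end powers

section strictRes

variable (A B S T : Type u) [CommRing A] [IsLocalRing A] [CommRing B] [IsLocalRing B]
  [Algebra A B] [IsLocalHom (algebraMap A B)]
  [CommRing S] [IsLocalRing S] [Algebra A S] [IsLocalHom (algebraMap A S)]
  [Hensel.IsStrictHenselization A S]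
  [CommRing T] [IsLocalRing T] [Algebra B T] [IsLocalHom (algebraMap B T)]
  [Hensel.IsStrictHenselization B T]

/-- If `A → B` is surjective on residue fields, the induced map of strict henselizations is
surjective on residue fields. -/
theorem exists_sub_mem_maximalIdeal
    (hres : Function.Surjective (algebraMap (ResidueField A) (ResidueField B)))
    (g : S →+* T) (hg : g.comp (algebraMap A S) = (algebraMap B T).comp (algebraMap A B))
    (hgl : IsLocalHom g) (t : T) : ∃ s : S, t - g s ∈ maximalIdeal T := by
  letI : Algebra S T := g.toAlgebra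
  letI : Algebra A T := ((algebraMap B T).comp (algebraMap A B)).toAlgebra
  haveI : IsScalarTower A B T := IsScalarTower.of_algebraMap_eq fun a => rfl
  haveI : IsScalarTower A S T :=
    IsScalarTower.of_algebraMap_eq fun a => (RingHom.congr_fun hg a).symm
  haveI : IsLocalHom (algebraMap S T) := hgl
  haveI : IsLocalHom (algebraMap A T) :=
    RingHom.isLocalHom_comp (algebraMap B T) (algebraMap A B)
  haveI hT : IsSepClosure (ResidueField B) (ResidueField T) :=
    Hensel.IsStrictHenselization.isSepClosure
  haveI hS : IsSepClosure (ResidueField A) (ResidueField S) :=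
    Hensel.IsStrictHenselization.isSepClosure
  haveI : IsSepClosed (ResidueField S) := hS.sep_closed
  haveI : Algebra.IsSeparable (ResidueField B) (ResidueField T) := hT.separable
  haveI : Algebra.IsSeparable (ResidueField A) (ResidueField B) :=
    ⟨fun x => by
      obtain ⟨a, rfl⟩ := hres x
      exact isSeparable_algebraMap a⟩
  haveI : Algebra.IsSeparable (ResidueField A) (ResidueField T) :=
    Algebra.IsSeparable.trans (ResidueField A) (ResidueField B) (ResidueField T)
  haveI : Algebra.IsSeparable (ResidueField S) (ResidueField T) :=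
    Algebra.isSeparable_tower_top_of_isSeparable (ResidueField A) (ResidueField S)
      (ResidueField T)
  obtain ⟨s, hs⟩ := IsSepClosed.algebraMap_surjective (ResidueField S) (ResidueField T)
    (residue T t)
  obtain ⟨s, rfl⟩ := residue_surjective s
  refine ⟨s, ?_⟩
  rw [← residue_eq_zero_iff, map_sub, sub_eq_zero, ← hs]
  rfl

end strictRes

section main

variable (A : Type u) [CommRing A] [IsLocalRing A] [IsNoetherianRing A]

theorem numBranches_completion_eq_of_dim_one (hA : ringKrullDim A = 1) :
    Brnch.numBranches (AdicCompletion (maximalIdeal A) A) = Brnch.numBranches A := by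
  obtain ⟨S, _, _, _, _, hS⟩ := Groth.Agent.S0506.result A
  haveI : HenselianLocalRing (AdicCompletion (maximalIdeal A) A) :=
    Groth.Agent.Helper8.GRing.henselianLocalRing_of_isAdicComplete _
  obtain ⟨ψ, hψ, -⟩ := Hensel.IsHenselization.universal (R := A) (S := S)
    (AdicCompletion (maximalIdeal A) A) (algebraMap A (AdicCompletion (maximalIdeal A) A))
    inferInstance
  rw [← Groth.Agent.Helper8.HensGU.card_minimalPrimes_henselization A S]
  haveI := isLocalHom_algebraMap_self (AdicCompletion (maximalIdeal A) A)
  haveI := isHenselization_self (AdicCompletion (maximalIdeal A) A)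
  rw [← Groth.Agent.Helper8.HensGU.card_minimalPrimes_henselization
    (AdicCompletion (maximalIdeal A) A) (AdicCompletion (maximalIdeal A) A)]
  haveI : IsNoetherianRing (AdicCompletion (maximalIdeal A) A) :=
    Groth.Agent.Helper8.AdicReg.isNoetherianRing A _
  obtain ⟨h1, h2⟩ := mapsTo_surjOn_minimalPrimes A S ψ hψ
  symm
  rw [encard_eq_iff_injOn (Ideal.comap ψ) _ _
    (minimalPrimes.finite_of_isNoetherianRing _) h1 h2]
  letI : Algebra S (AdicCompletion (maximalIdeal A) A) := ψ.toAlgebra
  haveI : Module.Flat S (AdicCompletion (maximalIdeal A) A) := flat_psi A S ψ hψ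
  haveI : IsLocalHom (algebraMap S (AdicCompletion (maximalIdeal A) A)) :=
    isLocalHom_psi A S ψ hψ
  haveI : HenselianLocalRing S := Hensel.IsHenselization.henselian A
  haveI : IsNoetherianRing S := (Groth.Agent.S0511.result A S).mp inferInstance
  refine Groth.Agent.Helper8.DimOneUB.injOn_comap_minimalPrimes S
    (AdicCompletion (maximalIdeal A) A) ?_ ?_
  · rw [Groth.Agent.S0512.result A S, hA]
  · intro n c
    obtain ⟨a, ha⟩ := exists_sub_mem_map_pow A n c
    refine ⟨algebraMap A S a, ?_⟩
    show c - ψ (algebraMap A S a) ∈ ((maximalIdeal S) ^ n).map ψ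
    rw [map_psi_maximalIdeal_pow A S ψ hψ n]
    have : ψ (algebraMap A S a) = algebraMap A _ a := RingHom.congr_fun hψ a
    rw [this]
    exact ha

theorem numGeomBranches_completion_eq_of_dim_one (hA : ringKrullDim A = 1) :
    Brnch.numGeomBranches (AdicCompletion (maximalIdeal A) A) = Brnch.numGeomBranches A := by
  obtain ⟨S, _, _, _, _, hS⟩ := Groth.Agent.S0537.result A
  obtain ⟨T, _, _, _, _, hT⟩ :=
    Groth.Agent.S0537.result (AdicCompletion (maximalIdeal A) A)
  rw [← Groth.Agent.Helper8.HensGU.card_minimalPrimes_strictHenselization A S,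
    ← Groth.Agent.Helper8.HensGU.card_minimalPrimes_strictHenselization
      (AdicCompletion (maximalIdeal A) A) T]
  obtain ⟨g, hg, hgloc⟩ :=
    exists_map_strictHenselization A (AdicCompletion (maximalIdeal A) A) S T
  have hflat := flat_map_strictHenselization A (AdicCompletion (maximalIdeal A) A) S T g hg
  haveI : IsNoetherianRing (AdicCompletion (maximalIdeal A) A) :=
    Groth.Agent.Helper8.AdicReg.isNoetherianRing A _
  haveI : IsNoetherianRing S := (Groth.Agent.S0540.result A S).mp inferInstance
  haveI : IsNoetherianRing T :=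
    (Groth.Agent.S0540.result (AdicCompletion (maximalIdeal A) A) T).mp inferInstance
  haveI : HenselianLocalRing S := Hensel.IsStrictHenselization.henselian A
  have hmax : (maximalIdeal S).map g = maximalIdeal T := by
    rw [← Groth.Agent.S0538.result A S, Ideal.map_map, hg, ← Ideal.map_map,
      ← AdicCompletion.maximalIdeal_eq_map,
      Groth.Agent.S0538.result (AdicCompletion (maximalIdeal A) A) T]
  have h1 : ∀ t : T, ∃ s : S, t - g s ∈ (maximalIdeal S).map g := by
    intro t
    rw [hmax]
    exact exists_sub_mem_maximalIdeal A (AdicCompletion (maximalIdeal A) A) S T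
      (residue_algebraMap_surjective A) g hg hgloc t
  letI : Algebra S T := g.toAlgebra
  haveI : Module.Flat S T := hflat
  haveI : IsLocalHom (algebraMap S T) := hgloc
  haveI : Module.FaithfullyFlat S T := Module.FaithfullyFlat.of_flat_of_isLocalHom
  have hinj : Set.InjOn (Ideal.comap (algebraMap S T)) (minimalPrimes T) := by
    refine Groth.Agent.Helper8.DimOneUB.injOn_comap_minimalPrimes S T ?_ ?_
    · rw [Groth.Agent.S0541.result A S, hA]
    · intro n c
      exact exists_sub_mem_map_pow_of_one g (maximalIdeal S) h1 n c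
  symm
  rw [encard_eq_iff_injOn (Ideal.comap (algebraMap S T)) _ _
    (minimalPrimes.finite_of_isNoetherianRing _)
    (fun Q hQ => comap_mem_minimalPrimes_of_hasGoingDown S T Q hQ)
    (Groth.Agent.Helper8.HensGU.minimalPrimes_subset_image_comap S T)]
  exact hinj

end main

end Groth.Agent.Helper8.HensCpl
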