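import Mathlib
import Groth.Prelude
import Groth.Agent.Lib.Helper8.HensCpl4

/-!
# Maximal ideals of the normalization and minimal primes of the completion in dimension one
-/

set_option autoImplicit false
universe u

namespace Groth.Agent.Helper8.NormBr

open IsLocalRing

/-- A ring isomorphism preserves the number of maximal ideals. -/
theorem encard_maximal_of_ringEquiv {B C : Type*} [CommRing B] [CommRing C] (e : B ≃+* C) :
    {P : Ideal B | P.IsMaximal}.encard = {P : Ideal C | P.IsMaximal}.encard := by
  have hsurj : Function.Surjective (e.symm : C →+* B) := e.symm.surjective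
  refine Set.encard_congr (Equiv.ofBijective
    (fun P : {P : Ideal B | P.IsMaximal} => (⟨P.1.comap (e.symm : C →+* B),
      haveI : P.1.IsMaximal := P.2
      Ideal.comap_isMaximal_of_surjective _ hsurj⟩ : {P : Ideal C | P.IsMaximal})) ⟨?_, ?_⟩)
  · intro P P' h
    have h' : P.1.comap (e.symm : C →+* B) = P'.1.comap (e.symm : C →+* B) :=
      congrArg Subtype.val h
    exact Subtype.ext (Ideal.comap_injective_of_surjective _ hsurj h')
  · intro Q
    haveI : Q.1.IsMaximal := Q.2
    refine ⟨⟨Q.1.comap (e : B →+* C), Ideal.comap_isMaximal_of_surjective _ e.surjective⟩, ?_⟩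
    apply Subtype.ext
    show (Q.1.comap (e : B →+* C)).comap (e.symm : C →+* B) = Q.1
    rw [Ideal.comap_comap]
    have : (e : B →+* C).comp (e.symm : C →+* B) = RingHom.id C := by
      ext x; simp
    rw [this, Ideal.comap_id]

/-- A ring isomorphism `A ≃ B` induces an isomorphism of the integral closures in the total
fraction rings. -/
noncomputable def integralClosureEquiv {A B : Type u} [CommRing A] [CommRing B] (e : A ≃+* B) :
    integralClosure A (FractionRing A) ≃+* integralClosure B (FractionRing B) := by
  let E : FractionRing A ≃+* FractionRing B := IsFractionRing.ringEquivOfRingEquiv e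
  have hE : ∀ a : A, E (algebraMap A (FractionRing A) a) = algebraMap B (FractionRing B) (e a) :=
    fun a => IsFractionRing.ringEquivOfRingEquiv_algebraMap e a
  have hE' : ∀ b : B, E.symm (algebraMap B (FractionRing B) b) =
      algebraMap A (FractionRing A) (e.symm b) := by
    intro b
    rw [RingEquiv.symm_apply_eq, hE, RingEquiv.apply_symm_apply]
  have h1 : ∀ x : FractionRing A, IsIntegral A x → IsIntegral B (E x) := by
    intro x hx
    exact hx.map_of_comp_eq (e : A →+* B) (E : FractionRing A →+* FractionRing B)
      (by ext a; exact (hE a).symm)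
  have h2 : ∀ y : FractionRing B, IsIntegral B y → IsIntegral A (E.symm y) := by
    intro y hy
    exact hy.map_of_comp_eq (e.symm : B →+* A) (E.symm : FractionRing B →+* FractionRing A)
      (by ext b; exact (hE' b).symm)
  exact
    { toFun := fun x => ⟨E x.1, h1 x.1 x.2⟩
      invFun := fun y => ⟨E.symm y.1, h2 y.1 y.2⟩
      left_inv := fun x => Subtype.ext (E.symm_apply_apply x.1)
      right_inv := fun y => Subtype.ext (E.apply_symm_apply y.1)
      map_mul' := fun x y => Subtype.ext (map_mul E x.1 y.1)
      map_add' := fun x y => Subtype.ext (map_add E x.1 y.1) }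


/-- **S12529.** -/
theorem ncard_maximal_eq (A : Type u) [CommRing A] [IsNoetherianRing A] [IsLocalRing A]
    [IsReduced A] (hdim : ringKrullDim A = 1) :
    {P : Ideal (integralClosure A (FractionRing A)) | P.IsMaximal}.ncard =
      (minimalPrimes (AdicCompletion (maximalIdeal A) A)).ncard := by
  have key : {P : Ideal (integralClosure A (FractionRing A)) | P.IsMaximal}.encard =
      (minimalPrimes (AdicCompletion (maximalIdeal A) A)).encard := by
    haveI : HenselianLocalRing (AdicCompletion (maximalIdeal A) A) :=
      Groth.Agent.Helper8.GRing.henselianLocalRing_of_isAdicComplete _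
    haveI := Groth.Agent.Helper8.HensCpl.isLocalHom_algebraMap_self
      (AdicCompletion (maximalIdeal A) A)
    haveI := Groth.Agent.Helper8.HensCpl.isHenselization_self
      (AdicCompletion (maximalIdeal A) A)
    have h1 : ENat.card (minimalPrimes (AdicCompletion (maximalIdeal A) A)) =
        Brnch.numBranches (AdicCompletion (maximalIdeal A) A) :=
      Groth.Agent.Helper8.HensGU.card_minimalPrimes_henselization
        (AdicCompletion (maximalIdeal A) A) (AdicCompletion (maximalIdeal A) A)
    have h2 := Groth.Agent.Helper8.HensCpl.numBranches_completion_eq_of_dim_one A hdim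
    have h3 : Brnch.numBranches A = ENat.card (MaximalSpectrum (CAlg2.normRed A)) := by
      unfold Brnch.numBranches
      rw [if_pos (minimalPrimes.finite_of_isNoetherianRing A)]
    have hinj : Function.Injective (Ideal.Quotient.mk (nilradical A)) := by
      rw [RingHom.injective_iff_ker_eq_bot, Ideal.mk_ker]
      exact nilradical_eq_zero A
    let e : A ≃+* CAlg2.red A :=
      RingEquiv.ofBijective (Ideal.Quotient.mk (nilradical A))
        ⟨hinj, Ideal.Quotient.mk_surjective⟩
    have h4 := encard_maximal_of_ringEquiv (integralClosureEquiv e)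
    have h5 : ENat.card (MaximalSpectrum (CAlg2.normRed A)) =
        {P : Ideal (CAlg2.normRed A) | P.IsMaximal}.encard :=
      ENat.card_congr (MaximalSpectrum.equivSubtype _)
    rw [h4, ← h5, ← h3, ← h2, ← h1]
    rfl
  unfold Set.ncard
  rw [key]

end Groth.Agent.Helper8.NormBr
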