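import Mathlib
import Groth.Prelude
import Groth.Agent.S0507
import Groth.Agent.S0508

/-!
# A strict henselization of `A` is a strict henselization of the henselization of `A`
-/

set_option autoImplicit false

universe u

namespace Groth.Agent.Helper8.SHExt

open IsLocalRing

theorem isLocalHom_hens_to_strict (A Ah Ash : Type u) [CommRing A] [IsLocalRing A]
    [CommRing Ah] [IsLocalRing Ah] [Algebra A Ah] [IsLocalHom (algebraMap A Ah)]
    [Hensel.IsHenselization A Ah]
    [CommRing Ash] [IsLocalRing Ash] [Algebra A Ash] [IsLocalHom (algebraMap A Ash)]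
    [Algebra Ah Ash] [IsScalarTower A Ah Ash] : IsLocalHom (algebraMap Ah Ash) := by
  have hloc : IsLocalHom (algebraMap A Ash) := inferInstance
  have h : (maximalIdeal Ah).map (algebraMap Ah Ash) ≤ maximalIdeal Ash := by
    rw [← Groth.Agent.S0507.result A Ah, Ideal.map_map, ← IsScalarTower.algebraMap_eq]
    exact ((IsLocalRing.local_hom_TFAE (algebraMap A Ash)).out 0 2).mp hloc
  exact ((IsLocalRing.local_hom_TFAE (algebraMap Ah Ash)).out 0 2).mpr h

theorem isStrictHenselization_hens (A Ah Ash : Type u) [CommRing A] [IsLocalRing A]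
    [CommRing Ah] [IsLocalRing Ah] [Algebra A Ah] [IsLocalHom (algebraMap A Ah)]
    [Hensel.IsHenselization A Ah]
    [CommRing Ash] [IsLocalRing Ash] [Algebra A Ash] [IsLocalHom (algebraMap A Ash)]
    [Algebra Ah Ash] [IsScalarTower A Ah Ash] [IsLocalHom (algebraMap Ah Ash)]
    [Hensel.IsStrictHenselization A Ash] : Hensel.IsStrictHenselization Ah Ash where
  henselian := Hensel.IsStrictHenselization.henselian A
  isSepClosure := by
    have h : IsSepClosure (ResidueField A) (ResidueField Ash) :=
      Hensel.IsStrictHenselization.isSepClosure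
    haveI := h.separable
    exact ⟨h.sep_closed, Algebra.isSeparable_tower_top_of_isSeparable (ResidueField A) _ _⟩
  universal := by
    intro T _ _ f _ τ hτ
    have hτ' : τ.comp (IsLocalRing.ResidueField.map (algebraMap A Ash)) =
        IsLocalRing.ResidueField.map (f.comp (algebraMap A Ah)) := by
      ext x
      obtain ⟨a, rfl⟩ := IsLocalRing.residue_surjective x
      have h1 := RingHom.congr_fun hτ (residue Ah (algebraMap A Ah a))
      simp only [RingHom.comp_apply, IsLocalRing.ResidueField.map_residue] at h1 ⊢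
      rw [IsScalarTower.algebraMap_apply A Ah Ash]
      exact h1
    obtain ⟨g, ⟨hg1, hg2⟩, hguniq⟩ :=
      Hensel.IsStrictHenselization.universal (R := A) (S := Ash) T (f.comp (algebraMap A Ah)) τ hτ'
    obtain ⟨g₀, -, hg₀uniq⟩ :=
      Hensel.IsHenselization.universal (R := A) (S := Ah) T (f.comp (algebraMap A Ah))
        inferInstance
    refine ⟨g, ⟨?_, hg2⟩, ?_⟩
    · have e1 : g.comp (algebraMap Ah Ash) = g₀ := by
        apply hg₀uniq
        rw [RingHom.comp_assoc, ← IsScalarTower.algebraMap_eq]
        exact hg1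
      have e2 : f = g₀ := hg₀uniq f rfl
      rw [e1, e2]
    · rintro g' ⟨hg'1, hg'2⟩
      apply hguniq
      refine ⟨?_, hg'2⟩
      rw [IsScalarTower.algebraMap_eq A Ah Ash, ← RingHom.comp_assoc, hg'1]

end Groth.Agent.Helper8.SHExt
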