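import Mathlib
import Groth.Prelude
import Groth.Agent.Lib.Helper8.SHExt1
import Groth.Agent.Lib.Helper8.HensCpl3
import Groth.Agent.Lib.Helper8.HensGU13
import Groth.Agent.Lib.Helper8.NormBr1
import Groth.Agent.Lib.Helper4.BranchSum2
import Groth.Agent.Lib.Helper7.SHens.BaseChangeReduced
import Groth.Agent.S0511
import Groth.Agent.S0540
import Groth.Agent.S0539

/-!
# Purely inseparable residue fields of the normalization and minimal primes of `A^sh`
-/

set_option autoImplicit false
set_option synthInstance.maxHeartbeats 400000

universe u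

namespace Groth.Agent.Helper8.SHExt

open IsLocalRing TensorProduct
open Groth.Agent.Lib.Helper4.GeomBranch2 Groth.Agent.Lib.Helper4.BranchSum1
  Groth.Agent.Lib.Helper4.BranchSum2

section general

/-- For a faithfully flat algebra with radical extended minimal primes: every minimal prime
upstairs is extended iff contraction is injective on minimal primes. -/
theorem forall_eq_map_comap_iff {R T : Type u} [CommRing R] [CommRing T] [Algebra R T]
    [Module.FaithfullyFlat R T]
    (hred : ∀ q ∈ minimalPrimes R, (Ideal.map (algebraMap R T) q).IsRadical) :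
    (∀ Q ∈ minimalPrimes T, Q = Ideal.map (algebraMap R T) (Q.comap (algebraMap R T))) ↔
      Set.InjOn (Ideal.comap (algebraMap R T)) (minimalPrimes T) := by
  have hsurj : Set.SurjOn (Ideal.comap (algebraMap R T)) (minimalPrimes T) (minimalPrimes R) :=
    Groth.Agent.Helper8.HensGU.minimalPrimes_subset_image_comap R T
  rw [Groth.Agent.Helper8.HensCpl.injOn_comap_minimalPrimes_iff hsurj]
  constructor
  · intro h q hq
    obtain ⟨Q, hQ, hQq⟩ := hsurj hq
    rw [(hred q hq).radical, ← hQq, ← h Q hQ]
    exact hQ.1.1
  · intro h Q hQ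
    haveI := hQ.1.1
    have hq : Q.comap (algebraMap R T) ∈ minimalPrimes R :=
      Groth.Agent.Helper8.HensCpl.comap_mem_minimalPrimes_of_hasGoingDown R T Q hQ
    have hP := h _ hq
    rw [(hred _ hq).radical] at hP
    have h1 : Ideal.map (algebraMap R T) (Q.comap (algebraMap R T)) ≤ Q := Ideal.map_comap_le
    exact le_antisymm (hQ.2 ⟨hP, bot_le⟩ h1) h1

theorem card_sigma_eq_card_iff {I : Type*} (F : I → Type*) [Finite I] [Finite (Σ i, F i)]
    [∀ i, Nonempty (F i)] :
    ENat.card (Σ i, F i) = ENat.card I ↔ ∀ i, Subsingleton (F i) := by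
  constructor
  · intro h i
    have hn : Nat.card (Σ i, F i) = Nat.card I := by
      have h' := h
      rw [ENat.card_eq_coe_natCard, ENat.card_eq_coe_natCard] at h'
      exact_mod_cast h'
    obtain ⟨e⟩ := (Finite.card_eq).mp hn
    have hsurj : Function.Surjective (Sigma.fst : (Σ i, F i) → I) := fun i =>
      ⟨⟨i, Classical.arbitrary _⟩, rfl⟩
    have hinj : Function.Injective (Sigma.fst : (Σ i, F i) → I) :=
      (Finite.injective_iff_surjective_of_equiv e).mpr hsurj
    constructor
    intro x y
    have := @hinj ⟨i, x⟩ ⟨i, y⟩ rfl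
    exact eq_of_heq (Sigma.mk.inj this).2
  · intro h
    haveI : ∀ i, Unique (F i) := fun i => ⟨⟨Classical.arbitrary _⟩, fun _ => Subsingleton.elim _ _⟩
    exact ENat.card_congr (Equiv.sigmaUnique I F)

end general

section theta

variable (A : Type u) [CommRing A] [IsReduced A]

/-- `A ≃ A_red` for reduced `A`. -/
noncomputable def redEquiv : A ≃+* CAlg2.red A :=
  RingEquiv.ofBijective (Ideal.Quotient.mk (nilradical A)) ⟨by
    rw [injective_iff_map_eq_zero]
    intro a ha
    rw [Ideal.Quotient.eq_zero_iff_mem, nilradical_eq_zero] at ha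
    exact ha, Ideal.Quotient.mk_surjective⟩

theorem redEquiv_apply (a : A) : redEquiv A a = Ideal.Quotient.mk (nilradical A) a := rfl

/-- the normalization of the reduction of a reduced ring is its normalization -/
noncomputable def thetaEquiv : CAlg2.normRed A ≃+* integralClosure A (FractionRing A) :=
  (Groth.Agent.Helper8.NormBr.integralClosureEquiv (redEquiv A)).symm

theorem thetaEquiv_algebraMap (a : A) :
    thetaEquiv A (algebraMap (CAlg2.red A) (CAlg2.normRed A) (Ideal.Quotient.mk (nilradical A) a)) =
      algebraMap A (integralClosure A (FractionRing A)) a := by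
  unfold thetaEquiv
  rw [RingEquiv.symm_apply_eq]
  apply Subtype.ext
  exact (IsFractionRing.ringEquivOfRingEquiv_algebraMap (redEquiv A) a).symm

end theta

end Groth.Agent.Helper8.SHExt
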