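import Mathlib
import Groth.Prelude
import Groth.Agent.Lib.Helper8.SHExt2

/-!
# Purely inseparable residue fields of the normalization and minimal primes of `A^sh`: main
-/

set_option autoImplicit false
set_option synthInstance.maxHeartbeats 400000

universe u

namespace Groth.Agent.Helper8.SHExt

open IsLocalRing TensorProduct
open Groth.Agent.Lib.Helper4.GeomBranch2 Groth.Agent.Lib.Helper4.BranchSum1
  Groth.Agent.Lib.Helper4.BranchSum2

theorem main (A Ah Ash : Type u) [CommRing A] [IsLocalRing A] [IsReduced A] [IsNoetherianRing A]
    [CommRing Ah] [IsLocalRing Ah] [Algebra A Ah] [IsLocalHom (algebraMap A Ah)]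
    [Hensel.IsHenselization A Ah]
    [CommRing Ash] [IsLocalRing Ash] [Algebra A Ash] [IsLocalHom (algebraMap A Ash)]
    [Hensel.IsStrictHenselization A Ash] [Algebra Ah Ash] [IsScalarTower A Ah Ash] :
    (∀ (M : Ideal (integralClosure A (FractionRing A))) [M.IsMaximal],
      ∀ x : (integralClosure A (FractionRing A)) ⧸ M, ∃ n : ℕ,
        x ^ (ringExpChar ((integralClosure A (FractionRing A)) ⧸ M)) ^ n ∈
          ((Ideal.Quotient.mk M).comp
            (algebraMap A (integralClosure A (FractionRing A)))).range) ↔
      (∀ Q ∈ minimalPrimes Ash,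
        Q = Ideal.map (algebraMap Ah Ash) (Q.comap (algebraMap Ah Ash))) := by
  haveI hloc := isLocalHom_hens_to_strict A Ah Ash
  haveI hsh := isStrictHenselization_hens A Ah Ash
  haveI : IsNoetherianRing Ah := (Groth.Agent.S0511.result A Ah).mp inferInstance
  haveI : IsNoetherianRing Ash := (Groth.Agent.S0540.result A Ash).mp inferInstance
  haveI : Module.FaithfullyFlat Ah Ash := Groth.Agent.S0539.result Ah Ash
  have hfin : (minimalPrimes A).Finite := minimalPrimes.finite_of_isNoetherianRing A
  have hred : ∀ q ∈ minimalPrimes Ah, (Ideal.map (algebraMap Ah Ash) q).IsRadical := by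
    intro q hq
    haveI := hq.1.1
    rw [Ideal.isRadical_iff_quotient_reduced]
    haveI : IsReduced ((Ah ⧸ q) ⊗[Ah] Ash) :=
      Groth.Agent.Helper7.SHens.isReduced_tensor_of_isStrictHenselization Ah Ash (Ah ⧸ q)
    let e := Algebra.TensorProduct.quotIdealMapEquivQuotTensor Ash q
    exact isReduced_of_injective e.toAlgHom e.injective
  rw [forall_eq_map_comap_iff hred]
  have hmaps : Set.MapsTo (Ideal.comap (algebraMap Ah Ash)) (minimalPrimes Ash)
      (minimalPrimes Ah) := fun Q hQ =>
    Groth.Agent.Helper8.HensCpl.comap_mem_minimalPrimes_of_hasGoingDown Ah Ash Q hQ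
  have hsurj : Set.SurjOn (Ideal.comap (algebraMap Ah Ash)) (minimalPrimes Ash)
      (minimalPrimes Ah) :=
    Groth.Agent.Helper8.HensGU.minimalPrimes_subset_image_comap Ah Ash
  rw [← Groth.Agent.Helper8.HensCpl.encard_eq_iff_injOn _ _ _
    (minimalPrimes.finite_of_isNoetherianRing Ash) hmaps hsurj]
  letI algN := normRedAlgebra A
  have hB1 : ENat.card (minimalPrimes Ah) =
      ENat.card (MaximalSpectrum (integralClosure A (FractionRing A))) := by
    rw [Groth.Agent.Helper8.HensGU.card_minimalPrimes_henselization A Ah]
    unfold Brnch.numBranches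
    rw [if_pos hfin]
    exact ENat.card_congr (maxSpecEquiv (thetaEquiv A))
  have hB2 : ENat.card (minimalPrimes Ash) =
      ENat.card (Σ m' : MaximalSpectrum (integralClosure A (FractionRing A)),
        {σ : (integralClosure A (FractionRing A)) ⧸ m'.asIdeal →+*
            AlgebraicClosure (ResidueField A) //
          σ.comp ((Ideal.Quotient.mk m'.asIdeal).comp
            (algebraMap A (integralClosure A (FractionRing A)))) = Brnch.toClosure A}) := by
    rw [Groth.Agent.Helper8.HensGU.card_minimalPrimes_strictHenselization A Ash,
      numGeomBranches_eq_card_hom A hfin,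
      card_sig_eq_card_hom A (integralClosure A (FractionRing A))]
    exact ENat.card_congr (homTransport (thetaEquiv A)
      (RingEquiv.refl (AlgebraicClosure (ResidueField A))) (RingHom.id A)
      Function.surjective_id (algebraMap A (CAlg2.normRed A)) (Brnch.toClosure A)
      (algebraMap A (integralClosure A (FractionRing A))) (Brnch.toClosure A)
      (RingHom.ext fun a => thetaEquiv_algebraMap A a) rfl)
  rw [hB1, hB2]
  haveI : Finite (MaximalSpectrum (integralClosure A (FractionRing A))) := by
    rw [← ENat.card_lt_top, ← hB1, ENat.card_lt_top]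
    exact (minimalPrimes.finite_of_isNoetherianRing Ah).to_subtype
  haveI : Finite (Σ m' : MaximalSpectrum (integralClosure A (FractionRing A)),
        {σ : (integralClosure A (FractionRing A)) ⧸ m'.asIdeal →+*
            AlgebraicClosure (ResidueField A) //
          σ.comp ((Ideal.Quotient.mk m'.asIdeal).comp
            (algebraMap A (integralClosure A (FractionRing A)))) = Brnch.toClosure A}) := by
    rw [← ENat.card_lt_top, ← hB2, ENat.card_lt_top]
    exact (minimalPrimes.finite_of_isNoetherianRing Ash).to_subtype
  haveI : ∀ m' : MaximalSpectrum (integralClosure A (FractionRing A)),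
      Nonempty {σ : (integralClosure A (FractionRing A)) ⧸ m'.asIdeal →+*
            AlgebraicClosure (ResidueField A) //
          σ.comp ((Ideal.Quotient.mk m'.asIdeal).comp
            (algebraMap A (integralClosure A (FractionRing A)))) = Brnch.toClosure A} :=
    fun m' => haveI := m'.isMaximal
      nonempty_emb A (integralClosure A (FractionRing A)) m'.asIdeal
  rw [eq_comm, card_sigma_eq_card_iff]
  constructor
  · intro h m'
    haveI := m'.isMaximal
    exact (subsingleton_emb_iff A (integralClosure A (FractionRing A)) m'.asIdeal).mpr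
      (h m'.asIdeal)
  · intro h M hM
    exact (subsingleton_emb_iff A (integralClosure A (FractionRing A)) M).mp (h ⟨M, hM⟩)

end Groth.Agent.Helper8.SHExt
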