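import Mathlib
import Groth.Agent.Lib.Helper8.RS2
import Groth.Agent.Lib.Helper1.LocalCrit

/-!
# Transversally regular elements and the closed fibre (EGA 0_IV 15.1.16)
-/

set_option autoImplicit false

namespace Groth.Agent.Helper8.TransReg

open RingTheory.Sequence IsLocalRing
open Groth.Agent.Helper8.RS2 (Reg)

universe u

section general

variable {C : Type*} [CommRing C]

theorem isWeaklyRegular_iff_reg (rs : List C) :
    IsWeaklyRegular C rs ↔ ∀ i (h : i < rs.length), Reg (Ideal.ofList (rs.take i)) rs[i] := by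
  rw [isWeaklyRegular_iff]
  refine forall_congr' fun i => forall_congr' fun h => ?_
  exact RS2.isSMulRegular_quot_iff _ _

theorem reg_map_mk_iff (K I : Ideal C) (a : C) :
    Reg (I.map (Ideal.Quotient.mk K)) (Ideal.Quotient.mk K a) ↔ Reg (I ⊔ K) a := by
  have hmem : ∀ x : C, Ideal.Quotient.mk K x ∈ I.map (Ideal.Quotient.mk K) ↔ x ∈ I ⊔ K := by
    intro x
    rw [← Ideal.mem_comap, Ideal.comap_map_of_surjective _ Ideal.Quotient.mk_surjective,
      ← RingHom.ker_eq_comap_bot, Ideal.mk_ker]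
  constructor
  · intro h c hc
    rw [← hmem]
    apply h
    rw [← map_mul, hmem]
    exact hc
  · intro h c hc
    obtain ⟨c, rfl⟩ := Ideal.Quotient.mk_surjective c
    rw [← map_mul, hmem] at hc
    rw [hmem]
    exact h c hc

/-- Weak regularity on the quotient `C ⧸ K` in terms of `C`. -/
theorem isWeaklyRegular_map_mk_iff (K : Ideal C) (rs : List C) :
    IsWeaklyRegular (C ⧸ K) (rs.map (Ideal.Quotient.mk K)) ↔
      ∀ i (h : i < rs.length), Reg (Ideal.ofList (rs.take i) ⊔ K) rs[i] := by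
  rw [isWeaklyRegular_iff_reg]
  constructor
  · intro H i h
    have h' : i < (rs.map (Ideal.Quotient.mk K)).length := by rw [List.length_map]; exact h
    have := H i h'
    rw [← List.map_take, ← Ideal.map_ofList, List.getElem_map, reg_map_mk_iff] at this
    exact this
  · intro H i h
    have h' : i < rs.length := by rw [List.length_map] at h; exact h
    rw [← List.map_take, ← Ideal.map_ofList, List.getElem_map, reg_map_mk_iff]
    exact H i h'

theorem smul_top_quotient (I J : Ideal C) :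
    (J • (⊤ : Submodule C (C ⧸ I))) = Submodule.map (Submodule.mkQ I) J := by
  have h1 : (⊤ : Submodule C (C ⧸ I)) = Submodule.map (Submodule.mkQ I) ⊤ := by
    rw [Submodule.map_top, Submodule.range_mkQ]
  rw [h1, ← Submodule.map_smul'', smul_eq_mul, Ideal.mul_top]

theorem mk_mem_smul_top_iff (I J : Ideal C) (c : C) :
    (Ideal.Quotient.mk I c) ∈ (J • (⊤ : Submodule C (C ⧸ I))) ↔ c ∈ I ⊔ J := by
  rw [smul_top_quotient]
  have : Ideal.Quotient.mk I c = Submodule.mkQ I c := rfl
  rw [this, ← Submodule.mem_comap, Submodule.comap_map_mkQ]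

end general

section alg

variable {A : Type*} [CommRing A] {C : Type*} [CommRing C] [Algebra A C]

theorem mk_mem_smul_top_iff' (𝔞 : Ideal A) (I : Ideal C) (c : C) :
    (Ideal.Quotient.mk I c) ∈ (𝔞 • (⊤ : Submodule A (C ⧸ I))) ↔
      c ∈ I ⊔ 𝔞.map (algebraMap A C) := by
  rw [← mk_mem_smul_top_iff]
  have h : ((𝔞.map (algebraMap A C)) • (⊤ : Submodule C (C ⧸ I))).restrictScalars A =
      𝔞 • (⊤ : Submodule A (C ⧸ I)) := by
    rw [Ideal.smul_restrictScalars, Submodule.restrictScalars_top]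
  rw [← h]
  rfl

/-- Multiplication by `f` on `C ⧸ I`, as an `A`-linear map. -/
noncomputable def mulQ (I : Ideal C) (f : C) : (C ⧸ I) →ₗ[A] (C ⧸ I) :=
  (LinearMap.lsmul C (C ⧸ I) f).restrictScalars A

theorem mulQ_mk (I : Ideal C) (f c : C) :
    mulQ (A := A) I f (Ideal.Quotient.mk I c) = Ideal.Quotient.mk I (f * c) := rfl

theorem mulQ_injective_iff (I : Ideal C) (f : C) :
    Function.Injective (mulQ (A := A) I f) ↔ Reg I f := by
  rw [injective_iff_map_eq_zero]
  constructor
  · intro h c hc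
    have := h (Ideal.Quotient.mk I c) (by rw [mulQ_mk]; exact Ideal.Quotient.eq_zero_iff_mem.2 hc)
    exact Ideal.Quotient.eq_zero_iff_mem.1 this
  · intro h x hx
    obtain ⟨c, rfl⟩ := Ideal.Quotient.mk_surjective x
    rw [mulQ_mk] at hx
    exact Ideal.Quotient.eq_zero_iff_mem.2 (h c (Ideal.Quotient.eq_zero_iff_mem.1 hx))

theorem range_mulQ (I : Ideal C) (f : C) :
    LinearMap.range (mulQ (A := A) I f) =
      (Submodule.map (Submodule.mkQ I) (Ideal.span {f})).restrictScalars A := by
  ext x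
  obtain ⟨c, rfl⟩ := Ideal.Quotient.mk_surjective x
  rw [LinearMap.mem_range, Submodule.restrictScalars_mem]
  have : Ideal.Quotient.mk I c = Submodule.mkQ I c := rfl
  rw [this, ← Submodule.mem_comap, Submodule.comap_map_mkQ]
  constructor
  · rintro ⟨y, hy⟩
    obtain ⟨d, rfl⟩ := Ideal.Quotient.mk_surjective y
    rw [mulQ_mk] at hy
    have h1 : f * d - c ∈ I := Ideal.Quotient.eq.1 hy
    have h2 : c = -(f * d - c) + f * d := by ring
    rw [h2]
    exact Submodule.add_mem_sup (I.neg_mem h1)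
      (Ideal.mul_mem_right _ _ (Ideal.mem_span_singleton_self f))
  · intro hc
    obtain ⟨i, hi, j, hj, rfl⟩ := Submodule.mem_sup.1 hc
    obtain ⟨d, rfl⟩ := Ideal.mem_span_singleton'.1 hj
    refine ⟨Ideal.Quotient.mk I d, ?_⟩
    rw [mulQ_mk, ← this, Ideal.Quotient.eq]
    have : f * d - (i + d * f) = -i := by ring
    rw [this]
    exact I.neg_mem hi

/-- The cokernel of multiplication by `f` on `C ⧸ I` is `C ⧸ (I ⊔ (f))`. -/
noncomputable def cokerEquiv (I : Ideal C) (f : C) :
    ((C ⧸ I) ⧸ LinearMap.range (mulQ (A := A) I f)) ≃ₗ[A] (C ⧸ (I ⊔ Ideal.span {f})) :=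
  (Submodule.quotEquivOfEq _ _ (range_mulQ I f)) ≪≫ₗ
    (Submodule.Quotient.restrictScalarsEquiv A
      (Submodule.map (Submodule.mkQ I) (Ideal.span {f}))) ≪≫ₗ
    (Submodule.quotientQuotientEquivQuotientSup I (Ideal.span {f})).restrictScalars A

end alg

end Groth.Agent.Helper8.TransReg
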