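import Mathlib
import Groth.Agent.Lib.Helper8.TransReg1

/-!
# Spreading out regular sequences generating an ideal
-/

set_option autoImplicit false

namespace Groth.Agent.Helper8.CILoc

open RingTheory.Sequence IsLocalRing
open Groth.Agent.Helper8.RS2 (Reg)
open Groth.Agent.Helper8.TransReg

universe u

section spread

variable {R : Type u} [CommRing R]

/-- An inclusion of localized ideals at `P` is witnessed by a single denominator. -/
theorem exists_mul_mem_of_map_le (I I' : Ideal R) (hI : I.FG) (P : Ideal R) [P.IsPrime]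
    (h : I.map (algebraMap R (Localization.AtPrime P)) ≤
      I'.map (algebraMap R (Localization.AtPrime P))) :
    ∃ s ∉ P, ∀ x ∈ I, s * x ∈ I' := by
  classical
  obtain ⟨S, hS⟩ := hI
  have h1 : ∀ x ∈ S, ∃ s ∉ P, s * x ∈ I' := by
    intro x hx
    have hxI : x ∈ I := by rw [← hS]; exact Submodule.subset_span hx
    have := h (Ideal.mem_map_of_mem _ hxI)
    rw [IsLocalization.algebraMap_mem_map_algebraMap_iff P.primeCompl] at this
    obtain ⟨m, hm, hmx⟩ := this
    exact ⟨m, hm, hmx⟩
  choose! σ hσP hσ using h1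
  refine ⟨∏ y ∈ S, σ y, ?_, ?_⟩
  · intro hmem
    obtain ⟨y, hy, hyP⟩ := (Ideal.IsPrime.prod_mem_iff (hp := inferInstance)).1 hmem
    exact hσP y hy hyP
  · have hle : I ≤ I'.colon {∏ y ∈ S, σ y} := by
      rw [← hS]
      change Ideal.span (S : Set R) ≤ _
      rw [Ideal.span_le]
      intro x hx
      rw [SetLike.mem_coe, Submodule.mem_colon_singleton, smul_eq_mul,
        ← Finset.mul_prod_erase S σ hx]
      have : x * (σ x * ∏ y ∈ S.erase x, σ y) = (∏ y ∈ S.erase x, σ y) * (σ x * x) := by ring
      rw [this]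
      exact Ideal.mul_mem_left _ _ (hσ x hx)
    intro x hx
    have := hle hx
    rw [Submodule.mem_colon_singleton, smul_eq_mul, mul_comm] at this
    exact this

/-- Conversely a denominator outside `Q` gives the inclusion at `Q`. -/
theorem map_le_of_mul_mem (I I' : Ideal R) (Q : Ideal R) [Q.IsPrime] (s : R) (hs : s ∉ Q)
    (h : ∀ x ∈ I, s * x ∈ I') :
    I.map (algebraMap R (Localization.AtPrime Q)) ≤
      I'.map (algebraMap R (Localization.AtPrime Q)) := by
  rw [Ideal.map_le_iff_le_comap]
  intro x hx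
  rw [Ideal.mem_comap, IsLocalization.algebraMap_mem_map_algebraMap_iff Q.primeCompl]
  exact ⟨s, hs, h x hx⟩

/-- Regularity of `a` modulo `J` at `P` is witnessed by a single denominator. -/
theorem exists_mul_mem_of_reg [IsNoetherianRing R] (J : Ideal R) (a : R) (P : Ideal R)
    [P.IsPrime]
    (h : Reg (J.map (algebraMap R (Localization.AtPrime P)))
      (algebraMap R (Localization.AtPrime P) a)) :
    ∃ s ∉ P, ∀ x, a * x ∈ J → s * x ∈ J := by
  have hle : (J.colon {a}).map (algebraMap R (Localization.AtPrime P)) ≤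
      J.map (algebraMap R (Localization.AtPrime P)) := by
    rw [Ideal.map_le_iff_le_comap]
    intro x hx
    rw [Submodule.mem_colon_singleton, smul_eq_mul] at hx
    rw [Ideal.mem_comap]
    apply h
    rw [← map_mul, mul_comm]
    exact Ideal.mem_map_of_mem _ hx
  obtain ⟨s, hs, hsx⟩ := exists_mul_mem_of_map_le (J.colon {a}) J (IsNoetherian.noetherian _) P hle
  refine ⟨s, hs, fun x hx => hsx x ?_⟩
  rw [Submodule.mem_colon_singleton, smul_eq_mul, mul_comm]
  exact hx

/-- Conversely a denominator outside `Q` gives regularity at `Q`. -/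
theorem reg_of_mul_mem (J : Ideal R) (a : R) (Q : Ideal R) [Q.IsPrime] (s : R) (hs : s ∉ Q)
    (h : ∀ x, a * x ∈ J → s * x ∈ J) :
    Reg (J.map (algebraMap R (Localization.AtPrime Q)))
      (algebraMap R (Localization.AtPrime Q) a) := by
  intro y hy
  obtain ⟨x, t, rfl⟩ := IsLocalization.exists_mk'_eq Q.primeCompl y
  rw [IsLocalization.mk'_mem_map_algebraMap_iff]
  have h1 : algebraMap R (Localization.AtPrime Q) a * IsLocalization.mk' _ x t =
      IsLocalization.mk' (Localization.AtPrime Q) (a * x) t := by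
    rw [IsLocalization.mul_mk'_eq_mk'_of_mul]
  rw [h1, IsLocalization.mk'_mem_map_algebraMap_iff] at hy
  obtain ⟨u, hu, hux⟩ := hy
  have h2 : a * (u * x) ∈ J := by
    have : a * (u * x) = u * (a * x) := by ring
    rw [this]; exact hux
  refine ⟨s * u, Q.primeCompl.mul_mem hs hu, ?_⟩
  rw [mul_assoc]
  exact h _ h2

end spread

end Groth.Agent.Helper8.CILoc
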