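import Mathlib
import Groth.Agent.Lib.Helper8.CILoc1

/-!
# The locus where an ideal is generated by a regular sequence is open
-/

set_option autoImplicit false

namespace Groth.Agent.Helper8.CILoc

open RingTheory.Sequence IsLocalRing
open Groth.Agent.Helper8.RS2 (Reg)
open Groth.Agent.Helper8.TransReg

universe u

section units

variable {S : Type*} [CommRing S]

theorem ofList_map_unit (l : List S) (u : S → S) (hu : ∀ r, IsUnit (u r)) :
    Ideal.ofList (l.map fun r => u r * r) = Ideal.ofList l := by
  unfold Ideal.ofList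
  apply le_antisymm
  · rw [Ideal.span_le]
    intro y hy
    obtain ⟨r, hr, rfl⟩ := List.mem_map.1 hy
    exact Ideal.mul_mem_left _ _ (Ideal.subset_span hr)
  · rw [Ideal.span_le]
    intro r hr
    obtain ⟨v, hv⟩ := (hu r).exists_left_inv
    have h1 : r = v * (u r * r) := by rw [← mul_assoc, hv, one_mul]
    rw [SetLike.mem_coe, h1]
    exact Ideal.mul_mem_left _ _ (Ideal.subset_span (List.mem_map.2 ⟨r, hr, rfl⟩))

theorem reg_unit_mul_iff (J : Ideal S) (u a : S) (hu : IsUnit u) : Reg J (u * a) ↔ Reg J a := by
  obtain ⟨v, hv⟩ := hu.exists_left_inv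
  constructor
  · intro h c hc
    apply h
    rw [mul_assoc]
    exact Ideal.mul_mem_left _ _ hc
  · intro h c hc
    apply h
    have : a * c = v * (u * a * c) := by
      rw [← mul_assoc, ← mul_assoc, hv, one_mul]
    rw [this]
    exact Ideal.mul_mem_left _ _ hc

/-- Multiplying the terms of a weakly regular sequence by units gives a weakly regular
sequence. -/
theorem isWeaklyRegular_map_unit (rs : List S) (u : S → S) (hu : ∀ r, IsUnit (u r))
    (h : IsWeaklyRegular S rs) : IsWeaklyRegular S (rs.map fun r => u r * r) := by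
  rw [isWeaklyRegular_iff_reg] at h ⊢
  intro i hi
  have hi' : i < rs.length := by rw [List.length_map] at hi; exact hi
  rw [← List.map_take, ofList_map_unit _ u hu, List.getElem_map, reg_unit_mul_iff _ _ _ (hu _)]
  exact h i hi'

end units

section good

variable {R : Type u} [CommRing R]

/-- `s` witnesses that `I` is generated by the weakly regular sequence `f` on `D(s)`. -/
def Good (I : Ideal R) (f : List R) (s : R) : Prop :=
  (∀ x ∈ I, s * x ∈ Ideal.ofList f) ∧ (∀ x ∈ Ideal.ofList f, s * x ∈ I) ∧
    ∀ i (h : i < f.length), ∀ x, f[i] * x ∈ Ideal.ofList (f.take i) →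
      s * x ∈ Ideal.ofList (f.take i)

/-- `I` is generated at `Q` by a weakly regular sequence. -/
def GenReg (R : Type u) [CommRing R] (I : Ideal R) (Q : Ideal R) [Q.IsPrime] : Prop :=
  ∃ rs : List (Localization.AtPrime Q),
    Ideal.ofList rs = I.map (algebraMap R (Localization.AtPrime Q)) ∧
      IsWeaklyRegular (Localization.AtPrime Q) rs

theorem genReg_of_good (I : Ideal R) (f : List R) (s : R) (hg : Good I f s) (Q : Ideal R)
    [Q.IsPrime] (hs : s ∉ Q) : GenReg R I Q := by
  obtain ⟨h1, h2, h3⟩ := hg
  refine ⟨f.map (algebraMap R (Localization.AtPrime Q)), ?_, ?_⟩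
  · rw [← Ideal.map_ofList]
    exact le_antisymm (map_le_of_mul_mem _ _ Q s hs h2) (map_le_of_mul_mem _ _ Q s hs h1)
  · rw [isWeaklyRegular_iff_reg]
    intro i hi
    have hi' : i < f.length := by rw [List.length_map] at hi; exact hi
    rw [← List.map_take, ← Ideal.map_ofList, List.getElem_map]
    exact reg_of_mul_mem _ _ Q s hs (h3 i hi')

theorem exists_good [IsNoetherianRing R] (I : Ideal R) (f : List R) (P : Ideal R) [P.IsPrime]
    (hI : (Ideal.ofList f).map (algebraMap R (Localization.AtPrime P)) =
      I.map (algebraMap R (Localization.AtPrime P)))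
    (hreg : IsWeaklyRegular (Localization.AtPrime P)
      (f.map (algebraMap R (Localization.AtPrime P)))) :
    ∃ s ∉ P, Good I f s := by
  obtain ⟨s₁, hs₁, h₁⟩ := exists_mul_mem_of_map_le I (Ideal.ofList f) (IsNoetherian.noetherian _)
    P hI.ge
  obtain ⟨s₂, hs₂, h₂⟩ := exists_mul_mem_of_map_le (Ideal.ofList f) I (IsNoetherian.noetherian _)
    P hI.le
  rw [isWeaklyRegular_iff_reg] at hreg
  have key : ∀ n, ∃ s ∉ P, ∀ i (h : i < f.length), i < n → ∀ x,
      f[i] * x ∈ Ideal.ofList (f.take i) → s * x ∈ Ideal.ofList (f.take i) := by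
    intro n
    induction n with
    | zero => exact ⟨1, fun h => (Ideal.ne_top_iff_one P).1 (Ideal.IsPrime.ne_top inferInstance) h,
        fun i _ hi => absurd hi (Nat.not_lt_zero i)⟩
    | succ n ih =>
      obtain ⟨s, hs, hprop⟩ := ih
      by_cases hn : n < f.length
      · have hn' : n < (f.map (algebraMap R (Localization.AtPrime P))).length := by
          rw [List.length_map]; exact hn
        have h := hreg n hn'
        rw [← List.map_take, ← Ideal.map_ofList, List.getElem_map] at h
        obtain ⟨t, ht, htprop⟩ := exists_mul_mem_of_reg _ _ P h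
        refine ⟨s * t, fun hst => ?_, fun i h hi x hx => ?_⟩
        · rcases (Ideal.IsPrime.mem_or_mem inferInstance hst) with h | h
          · exact hs h
          · exact ht h
        · rcases Nat.lt_succ_iff_lt_or_eq.1 hi with hlt | rfl
          · rw [mul_comm s t, mul_assoc]
            exact Ideal.mul_mem_left _ _ (hprop i h hlt x hx)
          · rw [mul_assoc]
            exact Ideal.mul_mem_left _ _ (htprop x hx)
      · refine ⟨s, hs, fun i h hi x hx => ?_⟩
        have : i < n := lt_of_lt_of_le h (Nat.le_of_not_lt hn)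
        exact hprop i h this x hx
  obtain ⟨s₃, hs₃, h₃⟩ := key f.length
  refine ⟨s₁ * s₂ * s₃, fun h => ?_, ?_, ?_, ?_⟩
  · rcases (Ideal.IsPrime.mem_or_mem inferInstance h) with h | h
    · rcases (Ideal.IsPrime.mem_or_mem inferInstance h) with h | h
      · exact hs₁ h
      · exact hs₂ h
    · exact hs₃ h
  · intro x hx
    have : s₁ * s₂ * s₃ * x = (s₂ * s₃) * (s₁ * x) := by ring
    rw [this]
    exact Ideal.mul_mem_left _ _ (h₁ x hx)
  · intro x hx
    have : s₁ * s₂ * s₃ * x = (s₁ * s₃) * (s₂ * x) := by ring
    rw [this]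
    exact Ideal.mul_mem_left _ _ (h₂ x hx)
  · intro i h x hx
    have : s₁ * s₂ * s₃ * x = (s₁ * s₂) * (s₃ * x) := by ring
    rw [this]
    exact Ideal.mul_mem_left _ _ (h₃ i h h x hx)

/-- Lifting a list of elements of a localization to numerators. -/
theorem exists_lift_list (P : Ideal R) [P.IsPrime] (rs : List (Localization.AtPrime P)) :
    ∃ (f : List R) (u : Localization.AtPrime P → Localization.AtPrime P),
      (∀ r, IsUnit (u r)) ∧
        f.map (algebraMap R (Localization.AtPrime P)) = rs.map fun r => u r * r := by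
  have h : ∀ r : Localization.AtPrime P, ∃ (x : R) (t : P.primeCompl),
      r * algebraMap R (Localization.AtPrime P) t = algebraMap R (Localization.AtPrime P) x := by
    intro r
    obtain ⟨⟨x, t⟩, h⟩ := IsLocalization.surj P.primeCompl r
    exact ⟨x, t, h⟩
  choose x t hxt using h
  refine ⟨rs.map x, fun r => algebraMap R (Localization.AtPrime P) (t r),
    fun r => IsLocalization.map_units _ (t r), ?_⟩
  rw [List.map_map]
  apply List.map_congr_left
  intro r _
  rw [Function.comp_apply, ← hxt r, mul_comm]

/-- **Openness**: the set of primes at which `I` is generated by a weakly regular sequence is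
open. -/
theorem isOpen_genReg [IsNoetherianRing R] (I : Ideal R) :
    IsOpen {Q : PrimeSpectrum R | GenReg R I Q.asIdeal} := by
  rw [isOpen_iff_forall_mem_open]
  rintro Q₀ ⟨rs, hof, hreg⟩
  obtain ⟨f, u, hu, hf⟩ := exists_lift_list Q₀.asIdeal rs
  have hI : (Ideal.ofList f).map (algebraMap R (Localization.AtPrime Q₀.asIdeal)) =
      I.map (algebraMap R (Localization.AtPrime Q₀.asIdeal)) := by
    rw [Ideal.map_ofList, hf, ofList_map_unit _ u hu, hof]
  have hreg' : IsWeaklyRegular (Localization.AtPrime Q₀.asIdeal)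
      (f.map (algebraMap R (Localization.AtPrime Q₀.asIdeal))) := by
    rw [hf]; exact isWeaklyRegular_map_unit rs u hu hreg
  obtain ⟨s, hs, hgood⟩ := exists_good I f Q₀.asIdeal hI hreg'
  refine ⟨PrimeSpectrum.basicOpen s, ?_, (PrimeSpectrum.basicOpen s).isOpen, hs⟩
  intro Q hQ
  exact genReg_of_good I f s hgood Q.asIdeal hQ

end good

end Groth.Agent.Helper8.CILoc
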