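import Mathlib
import Groth.Prelude
import Groth.Agent.Lib.Helper8.CILoc2
import Groth.Agent.Lib.Helper8.CIPres5

/-!
# The complete intersection locus of a quotient of a regular ring is open
-/

set_option autoImplicit false

namespace Groth.Agent.Helper8.CILoc

open RingTheory.Sequence IsLocalRing AlgebraicGeometry

universe u

/-- A regular local ring is a complete intersection. -/
theorem isCompleteIntersection_of_isRegularLocalRing (A : Type u) [CommRing A]
    [IsRegularLocalRing A] : Pi1.IsCompleteIntersection A := by
  haveI : IsRegularLocalRing (EGA4.Cpl A) :=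
    (AdicReg.isRegularLocalRing_iff A (maximalIdeal A) (maximalIdeal.isMaximal A).ne_top).1
      inferInstance
  refine ⟨EGA4.Cpl A, inferInstance, inferInstance, [], by simp, ?_, ⟨?_⟩⟩
  · exact IsRegular.of_isWeaklyRegular_of_mem_maximalIdeal (EGA4.Cpl A) (by simp)
      (IsWeaklyRegular.nil _ _)
  · have h : Ideal.span {r : EGA4.Cpl A | r ∈ ([] : List (EGA4.Cpl A))} = ⊥ := by simp
    exact (RingEquiv.quotientBot (EGA4.Cpl A)).symm.trans (Ideal.quotEquivOfEq h.symm)

section loc

variable (R : Type u) [CommRing R] (I : Ideal R)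

/-- The localization of `R ⧸ I` at `p` is the quotient of the localization of `R` at the preimage
of `p`. -/
theorem nonempty_locQuotEquiv (p : Ideal (R ⧸ I)) [p.IsPrime] :
    Nonempty (Localization.AtPrime p ≃+*
      (Localization.AtPrime (p.comap (Ideal.Quotient.mk I)) ⧸
        I.map (algebraMap R (Localization.AtPrime (p.comap (Ideal.Quotient.mk I)))))) := by
  have inst : IsLocalization
      (Algebra.algebraMapSubmonoid (R ⧸ I) (p.comap (Ideal.Quotient.mk I)).primeCompl)
      (Localization.AtPrime (p.comap (Ideal.Quotient.mk I)) ⧸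
        I.map (algebraMap R (Localization.AtPrime (p.comap (Ideal.Quotient.mk I))))) :=
    inferInstance
  have h : Algebra.algebraMapSubmonoid (R ⧸ I) (p.comap (Ideal.Quotient.mk I)).primeCompl =
      p.primeCompl := by
    ext y
    obtain ⟨a, rfl⟩ := Ideal.Quotient.mk_surjective y
    constructor
    · rintro ⟨s, hs, hsa⟩
      have : Ideal.Quotient.mk I s = Ideal.Quotient.mk I a := hsa
      rw [← this]
      exact hs
    · intro ha
      exact ⟨a, ha, rfl⟩
  rw [h] at inst
  exact ⟨(IsLocalization.algEquiv p.primeCompl (Localization.AtPrime p) _).toRingEquiv⟩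

variable [IsRegularRing R]

/-- Complete intersection points of `R ⧸ I` for `R` regular. -/
theorem isCompleteIntersection_localization_iff (p : Ideal (R ⧸ I)) [p.IsPrime] :
    Pi1.IsCompleteIntersection (Localization.AtPrime p) ↔
      GenReg R I (p.comap (Ideal.Quotient.mk I)) := by
  set P := p.comap (Ideal.Quotient.mk I) with hP
  haveI : IsNoetherianRing R := inferInstance
  obtain ⟨e⟩ := nonempty_locQuotEquiv R I p
  have hIP : I ≤ P := by
    intro x hx
    rw [hP, Ideal.mem_comap, Ideal.Quotient.eq_zero_iff_mem.2 hx]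
    exact Ideal.zero_mem _
  have hIm : I.map (algebraMap R (Localization.AtPrime P)) ≤
      maximalIdeal (Localization.AtPrime P) := by
    rw [← Localization.AtPrime.map_eq_maximalIdeal]
    exact Ideal.map_mono hIP
  have hItop : I.map (algebraMap R (Localization.AtPrime P)) ≠ ⊤ := fun h =>
    (maximalIdeal.isMaximal _).ne_top (top_le_iff.1 (h ▸ hIm))
  haveI : Nontrivial (Localization.AtPrime P ⧸ I.map (algebraMap R (Localization.AtPrime P))) :=
    Ideal.Quotient.nontrivial_iff.2 hItop
  have h1 : Pi1.IsCompleteIntersection (Localization.AtPrime p) ↔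
      Pi1.IsCompleteIntersection
        (Localization.AtPrime P ⧸ I.map (algebraMap R (Localization.AtPrime P))) :=
    ⟨CIPres.isCompleteIntersection_of_ringEquiv e,
      CIPres.isCompleteIntersection_of_ringEquiv e.symm⟩
  rw [h1, CIPres.isCompleteIntersection_quotient_iff (Localization.AtPrime P) _ hItop]
  constructor
  · rintro ⟨rs, hof, hreg⟩
    exact ⟨rs, hof, hreg.toIsWeaklyRegular⟩
  · rintro ⟨rs, hof, hreg⟩
    refine ⟨rs, hof, IsRegular.of_isWeaklyRegular_of_mem_maximalIdeal _ ?_ hreg⟩
    intro r hr
    apply hIm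
    rw [← hof]
    exact Ideal.subset_span hr

/-- The complete intersection locus of `Spec (R ⧸ I)`, `R` regular, is open. -/
theorem isOpen_ciLocus :
    IsOpen {x : PrimeSpectrum (R ⧸ I) |
      Pi1.IsCompleteIntersection (Localization.AtPrime x.asIdeal)} := by
  haveI : IsNoetherianRing R := inferInstance
  have h : {x : PrimeSpectrum (R ⧸ I) |
      Pi1.IsCompleteIntersection (Localization.AtPrime x.asIdeal)} =
      (PrimeSpectrum.comap (Ideal.Quotient.mk I)) ⁻¹'
        {Q : PrimeSpectrum R | GenReg R I Q.asIdeal} := by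
    ext x
    exact isCompleteIntersection_localization_iff R I x.asIdeal
  rw [h]
  exact (isOpen_genReg I).preimage (PrimeSpectrum.continuous_comap _)

end loc

end Groth.Agent.Helper8.CILoc
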