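import Mathlib
import Groth.Prelude
import Groth.Agent.Lib.Helper8.FlatReg6

/-!
# Unramified + equal dimension + regular base + Cohen–Macaulay ⟹ étale
-/

set_option autoImplicit false
universe u v

namespace Groth.Agent.Helper8.FlatReg

open IsLocalRing TensorProduct LocCoh Algebra

attribute [local instance] Algebra.FormallyEtale.of_formallyUnramified_of_field in
theorem isEtaleAt_of_isUnramifiedAt_of_dim_eq (A B : Type u) [CommRing A] [CommRing B]
    [Algebra A B] [IsNoetherianRing A] [IsNoetherianRing B] [Algebra.FiniteType A B]
    (q : Ideal B) [q.IsPrime]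
    (hdim : ringKrullDim (Localization.AtPrime (q.under A)) = ringKrullDim (Localization.AtPrime q))
    [IsRegularLocalRing (Localization.AtPrime (q.under A))]
    [IsCohenMacaulayLocalRing (Localization.AtPrime q)]
    [Algebra.IsUnramifiedAt A q] : Algebra.IsEtaleAt A q := by
  have hfp : Algebra.FinitePresentation A B :=
    Algebra.FinitePresentation.of_finiteType.mp inferInstance
  have hlo : q.LiesOver (q.under A) := ⟨rfl⟩
  let Rp := Localization.AtPrime (q.under A)
  let Sp := Localization (algebraMapSubmonoid B (q.under A).primeCompl)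
  let Sq := Localization.AtPrime q
  let := Localization.AtPrime.algebraOfLiesOver (q.under A) q
  let f : Sp →ₐ[B] Sq := IsLocalization.liftAlgHom
        (M := algebraMapSubmonoid B (q.under A).primeCompl)
        (f := Algebra.ofId _ _) (by
      rintro ⟨_, x, hx, rfl⟩
      simpa using! IsLocalization.map_units (M := q.primeCompl) Sq ⟨algebraMap _ _ x,
        by simp_all⟩)
  algebraize [f.toRingHom]
  have : IsScalarTower A Sp Sq := .to₁₃₄ _ B _ _
  have : IsScalarTower Rp Sp Sq := .of_algebraMap_eq' <| by
    apply IsLocalization.ringHom_ext (q.under A).primeCompl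
    simp only [RingHom.comp_assoc, ← IsScalarTower.algebraMap_eq]
  have : IsLocalization (algebraMapSubmonoid Sp q.primeCompl) Sq :=
    .isLocalization_of_submonoid_le _ _ (algebraMapSubmonoid B (q.under A).primeCompl) _
    (by rintro _ ⟨x, hx, rfl⟩; simp_all)
  have : FinitePresentation Rp Sp := by
    have : Algebra.IsPushout A Rp B Sp :=
      .symm <| Algebra.isPushout_of_isLocalization (q.under A).primeCompl _ _ _
    exact .equiv (Algebra.IsPushout.equiv A Rp B Sp)
  have : EssFiniteType Rp Sq := .of_comp A _ _
  have : FormallyUnramified Rp Sq := .of_restrictScalars A _ _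
  have hmap := FormallyUnramified.map_maximalIdeal (R := Rp) (S := Sq)
  have hflat : Module.Flat Rp Sq := by
    refine miracle_flatness ?_
    rw [hmap]
    have : ringKrullDim (Sq ⧸ maximalIdeal Sq) = 0 :=
      ringKrullDim_eq_zero_of_isField
        ((Ideal.Quotient.maximal_ideal_iff_isField_quotient _).mp (maximalIdeal.isMaximal Sq))
    rw [this, add_zero]
    exact hdim.symm
  have : FormallySmooth (ResidueField Rp) (ResidueField Rp ⊗[Rp] Sq) := inferInstance
  have := FormallySmooth.of_formallySmooth_residueField_tensor
    (R := Rp) (S := Sq) (P := Sp) (algebraMapSubmonoid _ q.primeCompl)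
  have : FormallySmooth A Sq := .comp A Rp Sq
  exact FormallyEtale.iff_formallyUnramified_and_formallySmooth.mpr ⟨inferInstance, this⟩

end Groth.Agent.Helper8.FlatReg
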