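import Mathlib
import Groth.Prelude.Def_CAlgX
import Groth.Agent.Lib.Helper8.AdicFS6
import Groth.Agent.Lib.Helper8.AdicFS7

/-!
# Artinian local algebras formally smooth over a field are fields
-/

set_option autoImplicit false

namespace Groth.Agent.Helper8.ArtFS

open CAlgX IsLocalRing

universe u v

/-- An Artinian regular local ring has zero maximal ideal. -/
theorem maximalIdeal_eq_bot_of_isRegularLocalRing (C : Type u) [CommRing C] [IsArtinianRing C]
    [IsRegularLocalRing C] : maximalIdeal C = ⊥ := by
  have h1 : ((maximalIdeal C).spanFinrank : WithBot ℕ∞) = ringKrullDim C :=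
    IsRegularLocalRing.spanFinrank_maximalIdeal
  rw [(ringKrullDimZero_iff_ringKrullDim_eq_zero (R := C)).1 inferInstance] at h1
  have h2 : (maximalIdeal C).spanFinrank = 0 := by exact_mod_cast h1
  exact (Submodule.spanFinrank_eq_zero_iff_eq_bot (IsNoetherian.noetherian _)).1 h2

/-- An Artinian local algebra which is formally smooth over a field (in the same universe) has
zero maximal ideal. -/
theorem maximalIdeal_eq_bot_of_formallySmooth_field' (k C : Type u) [Field k] [CommRing C]
    [IsLocalRing C] [IsArtinianRing C] [Algebra k C] [Algebra.FormallySmooth k C] :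
    maximalIdeal C = ⊥ := by
  have h : IsAdicFormallySmooth k C (maximalIdeal C) :=
    Groth.Agent.Helper8.AdicFS.of_formallySmooth _
  haveI := (Groth.Agent.Helper8.AdicFS.regular_and_ringEquiv h).1
  exact maximalIdeal_eq_bot_of_isRegularLocalRing C

/-- An Artinian local algebra which is formally smooth over a field has zero maximal ideal. -/
theorem maximalIdeal_eq_bot_of_formallySmooth_field (k : Type u) (C : Type v) [Field k]
    [CommRing C] [IsLocalRing C] [IsArtinianRing C] [Algebra k C] [Algebra.FormallySmooth k C] :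
    maximalIdeal C = ⊥ := by
  let ek : ULift.{v} k ≃+* k := ULift.ringEquiv
  let eC : ULift.{u} C ≃+* C := ULift.ringEquiv
  letI : Algebra k (ULift.{v} k) := ULift.algebra
  letI : Algebra k (ULift.{u} C) := ULift.algebra
  letI : Algebra (ULift.{v} k) (ULift.{u} C) :=
    (eC.symm.toRingHom.comp ((algebraMap k C).comp ek.toRingHom)).toAlgebra
  haveI := IsScalarTower.of_algebraMap_eq (R := k) (S := ULift.{v} k) (A := ULift.{u} C)
    (fun a => rfl)
  haveI : IsLocalRing (ULift.{u} C) := eC.symm.isLocalRing
  haveI : IsArtinianRing (ULift.{u} C) := eC.symm.isArtinianRing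
  haveI : Algebra.FormallySmooth k (ULift.{u} C) :=
    Algebra.FormallySmooth.of_equiv (ULift.algEquiv (R := k) (A := C)).symm
  haveI : Algebra.FormallyUnramified k (ULift.{v} k) :=
    Algebra.FormallyUnramified.of_equiv (ULift.algEquiv (R := k) (A := k)).symm
  haveI : Algebra.FormallySmooth (ULift.{v} k) (ULift.{u} C) :=
    Algebra.FormallySmooth.of_restrictScalars k (ULift.{v} k) (ULift.{u} C)
  have h := maximalIdeal_eq_bot_of_formallySmooth_field' (ULift.{v} k) (ULift.{u} C)
  rw [eq_bot_iff]
  intro x hx
  have h1 : eC.symm x ∈ maximalIdeal (ULift.{u} C) := by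
    rw [mem_maximalIdeal, mem_nonunits_iff] at hx ⊢
    intro hu
    apply hx
    have := hu.map eC
    rwa [RingEquiv.apply_symm_apply] at this
  rw [h, Ideal.mem_bot] at h1
  rw [Ideal.mem_bot]
  have h2 := congrArg eC h1
  rwa [RingEquiv.apply_symm_apply, map_zero] at h2

end Groth.Agent.Helper8.ArtFS
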