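import Mathlib
import Groth.Prelude
import Groth.Agent.Lib.Helper8.UnivCpl3
import Groth.Agent.Lib.Helper5.TensorAss.FlatAss
import Groth.Agent.Lib.Helper2.CM.Unmixed

/-!
# Associated primes of a flat algebra with Cohen–Macaulay fibres are minimal in their fibres
-/

set_option autoImplicit false

universe u

namespace Groth.Agent.Helper8.GSF

open TensorProduct

attribute [local instance] Algebra.TensorProduct.rightAlgebra

/-- an associated prime of a projective module is an associated prime of the ring -/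
theorem mem_associatedPrimes_self_of_projective {R : Type u} [CommRing R] [IsNoetherianRing R]
    (M : Type u) [AddCommGroup M] [Module R M] [hM : Module.Projective R M] (𝔓 : Ideal R)
    (h : 𝔓 ∈ associatedPrimes R M) : 𝔓 ∈ associatedPrimes R R := by
  classical
  obtain ⟨s, hs⟩ := hM.out
  have hinj : Function.Injective s := hs.injective
  have h2 : 𝔓 ∈ associatedPrimes R (M →₀ R) := associatedPrimes.subset_of_injective hinj h
  obtain ⟨hp, x, hx⟩ := (isAssociatedPrime_iff).mp h2
  have hle : (x.support.inf fun i => (Submodule.colon (⊥ : Submodule R R) {x i} : Ideal R)) ≤ 𝔓 := by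
    intro r hr
    rw [hx, Submodule.mem_colon_singleton, Submodule.mem_bot]
    ext i
    by_cases hi : i ∈ x.support
    · have h3 : r ∈ (Submodule.colon (⊥ : Submodule R R) {x i} : Ideal R) :=
        (Finset.inf_le hi : (x.support.inf fun i =>
          (Submodule.colon (⊥ : Submodule R R) {x i} : Ideal R)) ≤ _) hr
      rw [Submodule.mem_colon_singleton, Submodule.mem_bot] at h3
      rw [Finsupp.smul_apply, Finsupp.zero_apply]
      exact h3
    · rw [Finsupp.notMem_support_iff] at hi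
      rw [Finsupp.smul_apply, Finsupp.zero_apply, hi, smul_zero]
  obtain ⟨i, hi, hile⟩ := (Ideal.IsPrime.inf_le' hp).mp hle
  refine (isAssociatedPrime_iff).mpr ⟨hp, x i, le_antisymm ?_ hile⟩
  intro r hr
  rw [hx, Submodule.mem_colon_singleton, Submodule.mem_bot] at hr
  rw [Submodule.mem_colon_singleton, Submodule.mem_bot]
  have h4 := DFunLike.congr_fun hr i
  rw [Finsupp.smul_apply, Finsupp.zero_apply] at h4
  exact h4

/-- associated primes lie in the support -/
theorem mem_support_of_mem_associatedPrimes {R : Type u} [CommRing R] [IsNoetherianRing R]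
    {M : Type u} [AddCommGroup M] [Module R M] (𝔓 : PrimeSpectrum R)
    (h : 𝔓.asIdeal ∈ associatedPrimes R M) : 𝔓 ∈ Module.support R M := by
  obtain ⟨hp, x, hx⟩ := (isAssociatedPrime_iff).mp h
  rw [Module.mem_support_iff']
  refine ⟨x, fun r hr h0 => hr ?_⟩
  rw [hx, Submodule.mem_colon_singleton, Submodule.mem_bot]
  exact h0

/-- in a Cohen–Macaulay ring, the associated primes of the ring are minimal -/
theorem mem_minimalPrimes_of_mem_associatedPrimes_of_CM {F : Type u} [CommRing F]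
    (hCM : LocCoh.IsCohenMacaulayRing F) (Q : Ideal F) (hQ : Q ∈ associatedPrimes F F) :
    Q ∈ minimalPrimes F := by
  haveI := hCM
  haveI : IsNoetherianRing F := inferInstance
  haveI : Q.IsPrime := hQ.isPrime
  let e : (F ⧸ Ideal.ofList ([] : List F)) ≃ₗ[F] F :=
    Submodule.quotEquivOfEqBot _ Ideal.ofList_nil
  have hQ' : Q ∈ associatedPrimes F (F ⧸ Ideal.ofList ([] : List F)) :=
    associatedPrimes.subset_of_injective (f := e.symm.toLinearMap) e.symm.injective hQ
  have h1 := Groth.Agent.Helper2.CM.height_eq_of_mem_associatedPrimes_ofList hCM [] (by simp)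
    Q hQ'
  rw [← Ideal.height_eq_zero_iff]
  simpa using h1

/-- the prime of the fibre ring attached to a prime lying over `p` -/
theorem fiberIdeal_isPrime_and_mem_iff {R S : Type u} [CommRing R] [CommRing S] [Algebra R S]
    (p : Ideal R) [p.IsPrime] (q : Ideal S) [q.IsPrime] [hpq : q.LiesOver p] :
    (FlatCA.fiberIdeal p q).IsPrime ∧
      ∀ s : S, ((1 : p.ResidueField) ⊗ₜ[R] s : p.Fiber S) ∈ FlatCA.fiberIdeal p q ↔ s ∈ q := by
  let φ : p.Fiber S →ₐ[R] q.ResidueField :=
    Algebra.TensorProduct.lift (Ideal.ResidueField.mapₐ p q (Algebra.ofId _ _) hpq.over)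
      (IsScalarTower.toAlgHom _ _ _) fun _ _ => .all _ _
  have hφ : ∀ s : S, φ ((1 : p.ResidueField) ⊗ₜ[R] s) = algebraMap S q.ResidueField s := by
    intro s
    simp [φ]
  have hker : RingHom.ker φ.toRingHom = FlatCA.fiberIdeal p q := by
    apply Groth.Agent.Helper8.UnivCpl.fiberIdeal_eq_of_forall
    intro s
    rw [RingHom.mem_ker]
    change φ _ = 0 ↔ _
    rw [hφ, Ideal.algebraMap_residueField_eq_zero]
  constructor
  · rw [← hker]
    exact RingHom.ker_isPrime _
  · intro s
    rw [← hker, RingHom.mem_ker]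
    change φ _ = 0 ↔ _
    rw [hφ, Ideal.algebraMap_residueField_eq_zero]

/-- Let `A → P` be flat, both Noetherian, with Cohen–Macaulay fibre rings.  An associated prime of
`P` is minimal among the primes of `P` with the same contraction to `A`. -/
theorem eq_of_le_of_mem_associatedPrimes {A P : Type u} [CommRing A] [CommRing P] [Algebra A P]
    [Module.Flat A P] [IsNoetherianRing A] [IsNoetherianRing P]
    (𝔓 : Ideal P) (h𝔓 : 𝔓 ∈ associatedPrimes P P)
    (hCM : ∀ (p : Ideal A) [p.IsPrime], LocCoh.IsCohenMacaulayRing (p.Fiber P))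
    (𝔔 : Ideal P) [𝔔.IsPrime] (hle : 𝔔 ≤ 𝔓)
    (hc : 𝔔.comap (algebraMap A P) = 𝔓.comap (algebraMap A P)) : 𝔔 = 𝔓 := by
  haveI h𝔓p : 𝔓.IsPrime := h𝔓.isPrime
  obtain ⟨p, hp⟩ : ∃ p : Ideal A, p = 𝔓.under A := ⟨_, rfl⟩
  haveI : p.IsPrime := hp ▸ inferInstance
  haveI : 𝔓.LiesOver p := ⟨hp⟩
  haveI : 𝔔.LiesOver p := ⟨hp.trans hc.symm⟩
  obtain ⟨-, h2⟩ := Groth.Agent.Lib.Helper5.TensorAss.under_mem_associatedPrimes
    (A := A) (B := P) 𝔓 h𝔓
  rw [← hp] at h2
  let eP := (Algebra.TensorProduct.quotIdealMapEquivTensorQuot P p).toLinearEquiv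
  have h3 : 𝔓 ∈ associatedPrimes P (P ⊗[A] (A ⧸ p)) :=
    associatedPrimes.subset_of_injective (f := eP.toLinearMap) eP.injective h2
  have h4 := Groth.Agent.Helper8.UnivCpl.fiberIdeal_mem_associatedPrimes p P 𝔓 h3
  let e : FlatCA.fiberMod p P P ≃ₗ[p.Fiber P] p.Fiber P :=
    TensorProduct.AlgebraTensorModule.rid P (p.Fiber P) (p.Fiber P)
  have h5 : FlatCA.fiberIdeal p 𝔓 ∈ associatedPrimes (p.Fiber P) (p.Fiber P) :=
    associatedPrimes.subset_of_injective (f := e.toLinearMap) e.injective h4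
  have h6 : Minimal (fun q : Ideal (p.Fiber P) => q.IsPrime ∧ ⊥ ≤ q) (FlatCA.fiberIdeal p 𝔓) :=
    mem_minimalPrimes_of_mem_associatedPrimes_of_CM (hCM p) _ h5
  obtain ⟨hJp, hJ⟩ := fiberIdeal_isPrime_and_mem_iff p 𝔔
  have hle' : FlatCA.fiberIdeal p 𝔔 ≤ FlatCA.fiberIdeal p 𝔓 := Ideal.map_mono hle
  have heq : FlatCA.fiberIdeal p 𝔓 ≤ FlatCA.fiberIdeal p 𝔔 := h6.2 ⟨hJp, bot_le⟩ hle'
  apply le_antisymm hle
  intro s hs
  rw [← hJ s]
  apply heq
  exact Ideal.mem_map_of_mem _ hs

end Groth.Agent.Helper8.GSF
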