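import Mathlib
import Groth.Prelude

/-! helper8: universal purity along a fibre versus purity of all base changes (formal). -/

set_option autoImplicit false
universe u

namespace Groth.Agent.Helper8.PureBC

open FlatCA

/-- Impurities compose with base changes. -/
theorem impurity_trans {A B : Type u} [CommRing A] [CommRing B] [Algebra A B] (N : Type u)
    [AddCommGroup N] [Module B N] (p : Ideal A) [p.IsPrime]
    (A' B' N' : Type u) [CommRing A'] [CommRing B'] [Algebra A A'] [Algebra B B'] [Algebra A' B']
    [Algebra A B'] [IsScalarTower A B B'] [IsScalarTower A A' B'] [Algebra.IsPushout A B A' B']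
    [AddCommGroup N'] [Module B' N'] [Module B N'] [IsScalarTower B B' N'] (g : N →ₗ[B] N')
    (hg : IsBaseChange B' g) (p' : Ideal A') [p'.IsPrime] (hp' : p'.LiesOver p)
    (A'' B'' N'' : Type u) [CommRing A''] [CommRing B''] [Algebra A' A''] [Algebra B' B'']
    [Algebra A'' B''] [Algebra A' B''] [IsScalarTower A' B' B''] [IsScalarTower A' A'' B'']
    [AddCommGroup N''] [Module B'' N''] [Module B' N''] [IsScalarTower B' B'' N''] [Module A'' N'']
    [IsScalarTower A'' B'' N''] (f' : N' →ₗ[B'] N'') (t' t : Ideal A'') [t'.IsPrime] [t.IsPrime]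
    (P : Ideal B'') [P.IsPrime] (himp : IsImpurity A' B' N' p' A'' B'' N'' f' t' t P)
    [Algebra A A''] [Algebra B B''] [Algebra A B''] [IsScalarTower A A' A'']
    [IsScalarTower B B' B''] [IsScalarTower A B B''] [IsScalarTower A A'' B'']
    [IsScalarTower A B' B'']
    [Module B N''] [IsScalarTower B B'' N''] [IsScalarTower B B' N''] :
    IsImpurity A B N p A'' B'' N'' ((f'.restrictScalars B).comp g) t' t P := by
  obtain ⟨h1, h2, h3, h4, h5, h6, h7⟩ := himp
  refine ⟨?_, hg.comp h2, h3, ?_, h5, h6, h7⟩
  · haveI : Algebra.IsPushout A A' B B' := Algebra.IsPushout.symm inferInstance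
    have h1' : Algebra.IsPushout A' A'' B' B'' := Algebra.IsPushout.symm h1
    have := (Algebra.IsPushout.comp_iff A A' B B' (T := A'') (T' := B'')).mpr h1'
    exact Algebra.IsPushout.symm this
  · haveI := h4
    exact Ideal.LiesOver.trans t p' p

/-- Universally pure along `p` implies every base change is pure along every prime over `p`. -/
theorem isPureAlong_of_isUnivPureAlong {A B : Type u} [CommRing A] [CommRing B] [Algebra A B]
    (N : Type u) [AddCommGroup N] [Module B N] (p : Ideal A) [p.IsPrime]
    (h : IsUnivPureAlong A B N p)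
    (A' B' N' : Type u) [CommRing A'] [CommRing B'] [Algebra A A'] [Algebra B B'] [Algebra A' B']
    [Algebra A B'] [IsScalarTower A B B'] [IsScalarTower A A' B'] [Algebra.IsPushout A B A' B']
    [AddCommGroup N'] [Module B' N'] [Module B N'] [IsScalarTower B B' N'] (g : N →ₗ[B] N')
    (hg : IsBaseChange B' g) (p' : Ideal A') [p'.IsPrime] (hp' : p'.LiesOver p) :
    IsPureAlong A' B' N' p' := by
  intro A'' B'' N'' _ _ _ _ _ _ _ _ _ _ _ _ _ _ f' t' t _ _ P _ _ himp
  letI iAA'' : Algebra A A'' := ((algebraMap A' A'').comp (algebraMap A A')).toAlgebra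
  letI iBB'' : Algebra B B'' := ((algebraMap B' B'').comp (algebraMap B B')).toAlgebra
  letI iAB'' : Algebra A B'' := ((algebraMap A'' B'').comp (algebraMap A A'')).toAlgebra
  haveI : IsScalarTower A A' A'' := IsScalarTower.of_algebraMap_eq' rfl
  haveI : IsScalarTower B B' B'' := IsScalarTower.of_algebraMap_eq' rfl
  haveI : IsScalarTower A A'' B'' := IsScalarTower.of_algebraMap_eq' rfl
  have key : ∀ a : A, algebraMap A B'' a = algebraMap B' B'' (algebraMap A B' a) := by
    intro a
    change algebraMap A'' B'' (algebraMap A' A'' (algebraMap A A' a)) = _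
    rw [← IsScalarTower.algebraMap_apply A' A'' B'', IsScalarTower.algebraMap_apply A' B' B'',
      ← IsScalarTower.algebraMap_apply A A' B']
  haveI : IsScalarTower A B' B'' := IsScalarTower.of_algebraMap_eq key
  haveI : IsScalarTower A B B'' := IsScalarTower.of_algebraMap_eq (fun a => by
    rw [key, IsScalarTower.algebraMap_apply A B B']
    rfl)
  letI : Module B N'' := Module.compHom N'' (algebraMap B B')
  haveI : IsScalarTower B B' N'' := ⟨fun b b' n => by
    change (b • b') • n = (algebraMap B B' b) • (b' • n)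
    rw [Algebra.smul_def, mul_smul]⟩
  haveI : IsScalarTower B B'' N'' := ⟨fun b b'' n => by
    change (b • b'') • n = (algebraMap B B' b) • (b'' • n)
    rw [Algebra.smul_def, mul_smul]
    change (algebraMap B' B'' (algebraMap B B' b)) • (b'' • n) = _
    rw [algebraMap_smul]⟩
  exact h A'' B'' N'' ((f'.restrictScalars B).comp g) t' t P
    (impurity_trans N p A' B' N' g hg p' hp' A'' B'' N'' f' t' t P himp)

/-- The identity is an elementary etale neighbourhood. -/
theorem isEtaleNhd_self (R : Type u) [CommRing R] (t : Ideal R) [t.IsPrime] :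
    IsEtaleNhd R R t t := by
  refine ⟨inferInstance, ⟨⟨rfl⟩, ?_⟩⟩
  have hs : Function.Surjective ((Algebra.ofId R R : R →ₐ[R] R).toRingHom) := fun x => ⟨x, rfl⟩
  exact (RingHom.surjectiveOnStalks_of_surjective hs).residueFieldMap_bijective t t _

/-- An impurity, seen over its own base change. -/
theorem impurity_self {A B : Type u} [CommRing A] [CommRing B] [Algebra A B] (N : Type u)
    [AddCommGroup N] [Module B N] (p : Ideal A) [p.IsPrime]
    (A' B' N' : Type u) [CommRing A'] [CommRing B'] [Algebra A A'] [Algebra B B'] [Algebra A' B']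
    [Algebra A B'] [IsScalarTower A B B'] [IsScalarTower A A' B']
    [AddCommGroup N'] [Module B' N'] [Module B N'] [IsScalarTower B B' N'] [Module A' N']
    [IsScalarTower A' B' N'] (f : N →ₗ[B] N') (t' t : Ideal A') [t'.IsPrime] [t.IsPrime]
    (P : Ideal B') [P.IsPrime] (himp : IsImpurity A B N p A' B' N' f t' t P) :
    IsImpurity A' B' N' t A' B' N' LinearMap.id t' t P := by
  obtain ⟨h1, h2, h3, h4, h5, h6, h7⟩ := himp
  refine ⟨inferInstance, ?_, h3, ⟨rfl⟩, h5, h6, h7⟩
  exact IsBaseChange.of_equiv (TensorProduct.lid B' N') (fun x => by simp)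

end Groth.Agent.Helper8.PureBC
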