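import Mathlib
import Groth.Prelude

/-! helper8: a module which is projective over the base is universally pure
(determinant trick on a free cover). -/

set_option autoImplicit false
universe u

namespace Groth.Agent.Helper8.PureProj

open FlatCA TensorProduct Matrix

attribute [local instance] Algebra.TensorProduct.rightAlgebra

/-- Coordinates of elements of `t • ⊤` in a free module lie in `t`. -/
theorem coord_mem {R : Type*} [CommRing R] {ι : Type*} (t : Ideal R) (x : ι →₀ R)
    (hx : x ∈ t • (⊤ : Submodule R (ι →₀ R))) (i : ι) : x i ∈ t := by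
  refine Submodule.smul_induction_on hx ?_ ?_
  · intro r hr n _
    rw [Finsupp.smul_apply, smul_eq_mul]
    exact t.mul_mem_right _ hr
  · intro a b ha hb
    rw [Finsupp.add_apply]
    exact t.add_mem ha hb

/-- Linear maps preserve `t • ⊤`. -/
theorem map_mem_smul_top {R : Type*} [CommRing R] {P Q : Type*} [AddCommGroup P] [Module R P]
    [AddCommGroup Q] [Module R Q] (t : Ideal R) (σ : P →ₗ[R] Q) (y : P)
    (hy : y ∈ t • (⊤ : Submodule R P)) : σ y ∈ t • (⊤ : Submodule R Q) := by
  refine Submodule.smul_induction_on hy ?_ ?_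
  · intro r hr n _
    rw [map_smul]
    exact Submodule.smul_mem_smul hr Submodule.mem_top
  · intro a b ha hb
    rw [map_add]
    exact Submodule.add_mem _ ha hb

/-- The free case: an endomorphism of a free module congruent to a scalar `s ∉ t` modulo the
prime `t` stays injective after base change to any field in which elements outside `t` are
nonzero. -/
theorem free_inj {R : Type*} [CommRing R] (t : Ideal R) [t.IsPrime]
    (κ : Type*) [Field κ] [Algebra R κ] (hκ : ∀ r : R, algebraMap R κ r = 0 → r ∈ t)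
    {ι : Type*} (s : R) (hs : s ∉ t) (ψ : (ι →₀ R) →ₗ[R] (ι →₀ R))
    (hψ : ∀ x i, (ψ x - s • x) i ∈ t) :
    Function.Injective (ψ.lTensor κ) := by
  classical
  rw [injective_iff_map_eq_zero]
  intro z hz
  obtain ⟨e, he⟩ : ∃ e : κ ⊗[R] (ι →₀ R) ≃ₗ[R] ι →₀ κ, e = TensorProduct.finsuppScalarRight R R κ ι :=
    ⟨_, rfl⟩
  obtain ⟨a, ha⟩ : ∃ a : ι → ι → R, a = fun i j => ψ (Finsupp.single j 1) i := ⟨_, rfl⟩
  -- coordinate formula
  have hC : ∀ (w : ι →₀ κ) (i : ι), e ((ψ.lTensor κ) (e.symm w)) i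
      = w.sum (fun j c => a i j • c) := by
    intro w i
    induction w using Finsupp.induction_linear with
    | zero => simp
    | add f g hf hg =>
      rw [map_add, map_add, map_add, Finsupp.add_apply, hf, hg]
      rw [Finsupp.sum_add_index']
      · intro j; simp
      · intro j c1 c2; rw [smul_add]
    | single j c =>
      rw [Finsupp.sum_single_index (by simp)]
      rw [he, TensorProduct.finsuppScalarRight_symm_apply_single, LinearMap.lTensor_tmul,
        TensorProduct.finsuppScalarRight_apply_tmul_apply, ha]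
  obtain ⟨w, hw⟩ : ∃ w : ι →₀ κ, w = e z := ⟨_, rfl⟩
  have hzw : z = e.symm w := by rw [hw, e.symm_apply_apply]
  have hrow : ∀ i, w.sum (fun j c => a i j • c) = 0 := by
    intro i
    rw [← hC w i, ← hzw, hz, map_zero, Finsupp.zero_apply]
  -- the finite matrix
  obtain ⟨J, hJ⟩ : ∃ J : Finset ι, J = w.support := ⟨_, rfl⟩
  obtain ⟨M₀, hM₀⟩ : ∃ M₀ : Matrix J J R, M₀ = Matrix.of (fun i j : J => a (i : ι) (j : ι)) := ⟨_, rfl⟩
  have hdet : (M₀.map (algebraMap R κ)).det ≠ 0 := by
    intro h0
    have h1 : (M₀.map (algebraMap R κ)).det = algebraMap R κ M₀.det := by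
      rw [RingHom.map_det, RingHom.mapMatrix_apply]
    rw [h1] at h0
    have h2 := hκ _ h0
    have h3 : M₀.map (Ideal.Quotient.mk t) = (Ideal.Quotient.mk t s) • (1 : Matrix J J (R ⧸ t)) := by
      ext i j
      rw [Matrix.map_apply, Matrix.smul_apply, hM₀, Matrix.of_apply, ha]
      have h4 := hψ (Finsupp.single (j : ι) 1) (i : ι)
      rw [Finsupp.sub_apply, Finsupp.smul_apply, smul_eq_mul] at h4
      have h5 := (Ideal.Quotient.mk_eq_mk_iff_sub_mem _ _).mpr h4
      rw [h5, map_mul, smul_eq_mul]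
      by_cases hij : i = j
      · subst hij
        rw [Matrix.one_apply_eq, Finsupp.single_eq_same, map_one]
      · rw [Matrix.one_apply_ne hij]
        have : (i : ι) ≠ (j : ι) := fun h => hij (Subtype.ext h)
        rw [Finsupp.single_eq_of_ne this, map_zero]
    have h6 : Ideal.Quotient.mk t M₀.det = (Ideal.Quotient.mk t s) ^ (Fintype.card J) := by
      rw [RingHom.map_det, RingHom.mapMatrix_apply, h3, Matrix.det_smul, Matrix.det_one, mul_one]
    have h7 : (Ideal.Quotient.mk t s) ^ (Fintype.card J) = 0 := by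
      rw [← h6]
      exact Ideal.Quotient.eq_zero_iff_mem.mpr h2
    rw [← map_pow] at h7
    exact hs (Ideal.IsPrime.mem_of_pow_mem inferInstance _ (Ideal.Quotient.eq_zero_iff_mem.mp h7))
  have hmul : (M₀.map (algebraMap R κ)) *ᵥ (fun j : J => w (j : ι)) = 0 := by
    funext i
    have h1 := hrow (i : ι)
    rw [Finsupp.sum, ← hJ] at h1
    rw [Pi.zero_apply, ← h1]
    simp only [Matrix.mulVec, dotProduct, Matrix.map_apply]
    rw [← Finset.sum_coe_sort J (fun j => a (i : ι) j • w j)]
    refine Finset.sum_congr rfl (fun j _ => ?_)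
    rw [hM₀, Matrix.of_apply, Algebra.smul_def]
  have hv := Matrix.eq_zero_of_mulVec_eq_zero hdet hmul
  have hw0 : w = 0 := by
    by_contra hne
    obtain ⟨j, hj⟩ := Finsupp.support_nonempty_iff.mpr hne
    have hjJ : j ∈ J := by rw [hJ]; exact hj
    have := congrFun hv ⟨j, hjJ⟩
    exact (Finsupp.mem_support_iff.mp hj) this
  rw [hzw, hw0, map_zero]

/-- The projective case. -/
theorem proj_inj {R : Type*} [CommRing R] (t : Ideal R) [t.IsPrime]
    (κ : Type*) [Field κ] [Algebra R κ] (hκ : ∀ r : R, algebraMap R κ r = 0 → r ∈ t)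
    {P : Type*} [AddCommGroup P] [Module R P] [Module.Projective R P]
    (s : R) (hs : s ∉ t) (φ : P →ₗ[R] P)
    (hφ : ∀ x, φ x - s • x ∈ t • (⊤ : Submodule R P)) :
    Function.Injective (φ.lTensor κ) := by
  obtain ⟨σ, hσ⟩ := (Module.projective_def' (R := R) (P := P)).mp inferInstance
  obtain ⟨π, hπ⟩ : ∃ π : (P →₀ R) →ₗ[R] P, π = Finsupp.linearCombination R id := ⟨_, rfl⟩
  rw [← hπ] at hσ
  obtain ⟨ψ, hψ⟩ : ∃ ψ : (P →₀ R) →ₗ[R] (P →₀ R),
      ψ = σ ∘ₗ φ ∘ₗ π + s • (LinearMap.id - σ ∘ₗ π) := ⟨_, rfl⟩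
  have hπσ : ∀ y, π (σ y) = y := fun y => by
    have := LinearMap.congr_fun hσ y
    simpa using this
  have h1 : ∀ x i, (ψ x - s • x) i ∈ t := by
    intro x i
    have h2 : ψ x - s • x = σ (φ (π x) - s • π x) := by
      rw [hψ]
      simp only [LinearMap.add_apply, LinearMap.comp_apply, LinearMap.smul_apply,
        LinearMap.sub_apply, LinearMap.id_apply, map_sub, map_smul, smul_sub]
      abel
    rw [h2]
    exact coord_mem t _ (map_mem_smul_top t σ _ (hφ (π x))) i
  have hinj := free_inj t κ hκ s hs ψ h1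
  have h3 : ψ ∘ₗ σ = σ ∘ₗ φ := by
    ext y : 1
    rw [hψ]
    simp only [LinearMap.add_apply, LinearMap.comp_apply, LinearMap.smul_apply,
      LinearMap.sub_apply, LinearMap.id_apply, hπσ, sub_self, smul_zero, add_zero]
  rw [injective_iff_map_eq_zero]
  intro z hz
  have h4 : (ψ.lTensor κ) ((σ.lTensor κ) z) = 0 := by
    rw [← LinearMap.comp_apply, ← LinearMap.lTensor_comp, h3, LinearMap.lTensor_comp,
      LinearMap.comp_apply, hz, map_zero]
  have h5 : (σ.lTensor κ) z = 0 := (injective_iff_map_eq_zero _).mp hinj _ h4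
  have h6 : (π.lTensor κ) ((σ.lTensor κ) z) = z := by
    rw [← LinearMap.comp_apply, ← LinearMap.lTensor_comp, hσ, LinearMap.lTensor_id,
      LinearMap.id_apply]
  rw [← h6, h5, map_zero]

/-- Elements of the extended ideal act into `t • ⊤`. -/
theorem smul_mem_of_mem_map {A' B' N' : Type*} [CommRing A'] [CommRing B'] [Algebra A' B']
    [AddCommGroup N'] [Module B' N'] [Module A' N'] [IsScalarTower A' B' N'] (t : Ideal A')
    (b : B') (hb : b ∈ t.map (algebraMap A' B')) (y : N') :
    b • y ∈ t • (⊤ : Submodule A' N') := by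
  rw [Ideal.map] at hb
  revert y
  induction hb using Submodule.span_induction with
  | mem x hx =>
    intro y
    obtain ⟨a, ha, rfl⟩ := hx
    rw [algebraMap_smul]
    exact Submodule.smul_mem_smul ha Submodule.mem_top
  | zero => intro y; rw [zero_smul]; exact Submodule.zero_mem _
  | add x y _ _ hx hy => intro z; rw [add_smul]; exact Submodule.add_mem _ (hx z) (hy z)
  | smul c x _ hx =>
    intro y
    rw [smul_eq_mul, mul_comm, mul_smul]
    exact hx (c • y)

theorem main {A B : Type u} [CommRing A] [CommRing B] [Algebra A B] (N : Type u)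
    [AddCommGroup N] [Module B N] [Module A N] [IsScalarTower A B N] [Module.Projective A N] :
    FlatCA.IsUnivPure A B N := by
  intro p _ A' B' N' _ _ _ _ _ _ _ _ _ _ _ _ _ _ f t' t _ _ P _ himp
  obtain ⟨hpush, hbc, hle, hover, hPover, hass, hno⟩ := himp
  -- Step 1: N' is projective over A'
  haveI : Algebra.IsPushout A A' B B' := hpush.symm
  haveI hproj : Module.Projective A' N' :=
    Module.Projective.of_equiv'
      ((Algebra.IsPushout.cancelBaseChange A A' B B' N).symm ≪≫ₗ hbc.equiv.restrictScalars A')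
  -- Step 2: s and g
  obtain ⟨s, hs, g, hg, hsg⟩ : ∃ s : A', s ∉ t ∧ ∃ g ∈ P,
      algebraMap A' B' s - g ∈ t.map (algebraMap A' B') := by
    by_contra hcon
    push_neg at hcon
    obtain ⟨φ, hφ⟩ : ∃ φ : A' →+* B' ⧸ P, φ = (Ideal.Quotient.mk P).comp (algebraMap A' B') :=
      ⟨_, rfl⟩
    have hcm : (t.map φ).comap φ = t := by
      refine le_antisymm ?_ Ideal.le_comap_map
      intro s hs'
      by_contra hst
      have h1 : φ s ∈ (t.map (algebraMap A' B')).map (Ideal.Quotient.mk P) := by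
        rw [Ideal.map_map, ← hφ]
        exact hs'
      obtain ⟨y, hy, hy2⟩ :=
        (Ideal.mem_map_iff_of_surjective _ Ideal.Quotient.mk_surjective).mp h1
      have h3 : algebraMap A' B' s - y ∈ P := by
        rw [← Ideal.Quotient.mk_eq_mk_iff_sub_mem]
        rw [hy2, hφ]
        rfl
      exact hcon s hst (algebraMap A' B' s - y) h3 (by rw [sub_sub_cancel]; exact hy)
    obtain ⟨q, hq, hqt⟩ := (Ideal.comap_map_eq_self_iff_of_isPrime t).mp hcm
    haveI := hq
    refine hno (q.comap (Ideal.Quotient.mk P)) ?_ ⟨?_⟩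
    · intro x hx
      rw [Ideal.mem_comap, Ideal.Quotient.eq_zero_iff_mem.mpr hx]
      exact q.zero_mem
    · rw [Ideal.under_def, Ideal.comap_comap, ← hφ, hqt]
  -- Step 3: the annihilated element
  obtain ⟨hprime, x, hx⟩ := hass
  obtain ⟨x', hx'⟩ : ∃ x' : (t'.Fiber B') ⊗[B'] N', x' = x := ⟨x, rfl⟩
  have hx0 : x' ≠ 0 := by
    intro h0
    apply hprime.ne_top
    rw [hx, Ideal.eq_top_iff_one]
    apply Ideal.le_radical
    rw [Submodule.mem_colon_singleton, ← hx', h0]
    show (1 : t'.Fiber B') • (0 : (t'.Fiber B') ⊗[B'] N') ∈ _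
    rw [smul_zero]
    exact Submodule.zero_mem _
  have hG : ((1 : t'.ResidueField) ⊗ₜ[A'] g : t'.Fiber B') ∈ fiberIdeal t' P :=
    Ideal.mem_map_of_mem _ hg
  rw [hx] at hG
  obtain ⟨n, hn⟩ := hG
  rw [Submodule.mem_colon_singleton, Submodule.mem_bot, Algebra.TensorProduct.tmul_pow,
    one_pow] at hn
  have hn' : ((1 : t'.ResidueField) ⊗ₜ[A'] (g ^ n) : t'.Fiber B') • x' = 0 := by
    rw [hx']; exact hn
  -- Step 4: injectivity of multiplication
  have hsn : s ^ n ∉ t := fun h => hs (Ideal.IsPrime.mem_of_pow_mem inferInstance _ h)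
  have hsgn : algebraMap A' B' (s ^ n) - g ^ n ∈ t.map (algebraMap A' B') := by
    rw [← Ideal.Quotient.mk_eq_mk_iff_sub_mem, map_pow, map_pow, map_pow,
      (Ideal.Quotient.mk_eq_mk_iff_sub_mem _ _).mpr hsg]
  obtain ⟨μ, hμ⟩ : ∃ μ : N' →ₗ[A'] N', μ = (LinearMap.lsmul B' N' (g ^ n)).restrictScalars A' :=
    ⟨_, rfl⟩
  have hμa : ∀ y, μ y = (g ^ n) • y := fun y => by rw [hμ]; rfl
  have hμt : ∀ y, μ y - (s ^ n) • y ∈ t • (⊤ : Submodule A' N') := by
    intro y
    have h1 : μ y - (s ^ n) • y = (-(algebraMap A' B' (s ^ n) - g ^ n)) • y := by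
      rw [hμa, neg_sub, sub_smul, algebraMap_smul]
    rw [h1]
    exact smul_mem_of_mem_map t _ (Ideal.neg_mem_iff _ |>.mpr hsgn) y
  have hκ : ∀ r : A', algebraMap A' t'.ResidueField r = 0 → r ∈ t := fun r hr =>
    hle (Ideal.algebraMap_residueField_eq_zero.mp hr)
  have hinj := proj_inj t t'.ResidueField hκ (s ^ n) hsn μ hμt
  -- Step 5: transport
  obtain ⟨c, hc⟩ : ∃ c : (t'.Fiber B') ⊗[B'] N' ≃ₗ[t'.ResidueField] t'.ResidueField ⊗[A'] N',
      c = Algebra.IsPushout.cancelBaseChange A' t'.ResidueField B' (t'.Fiber B') N' := ⟨_, rfl⟩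
  have hcomp : ∀ z : t'.ResidueField ⊗[A'] N',
      ((1 : t'.ResidueField) ⊗ₜ[A'] (g ^ n) : t'.Fiber B') • c.symm z
        = c.symm ((μ.lTensor t'.ResidueField) z) := by
    intro z
    induction z using TensorProduct.induction_on with
    | zero => simp
    | add z1 z2 h1 h2 => rw [map_add, map_add, smul_add, h1, h2, map_add]
    | tmul k m =>
      rw [LinearMap.lTensor_tmul, hc, Algebra.IsPushout.cancelBaseChange_symm_tmul,
        Algebra.IsPushout.cancelBaseChange_symm_tmul, hμa, TensorProduct.smul_tmul',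
        ← TensorProduct.smul_tmul, smul_eq_mul, Algebra.smul_def]
      rfl
  have h9 : (μ.lTensor t'.ResidueField) (c x') = 0 := by
    have := hcomp (c x')
    rw [c.symm_apply_apply, hn'] at this
    have h10 := congrArg c this
    rw [map_zero, c.apply_symm_apply] at h10
    exact h10.symm
  have h11 : c x' = 0 := (injective_iff_map_eq_zero _).mp hinj _ h9
  exact hx0 (by simpa using h11)

end Groth.Agent.Helper8.PureProj
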