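import Mathlib
import Groth.Prelude

/-!
# Archimedean properties of discrete valuation subrings of a field
-/

set_option autoImplicit false
universe u

namespace Groth.Agent.Helper8.MN

open IsLocalRing

section arch

variable {K : Type*} [Field K] (V : ValuationSubring K) [IsDiscreteValuationRing V]

omit [IsDiscreteValuationRing V] in
theorem nonunits_mul_mem {x y : K} (hx : x ∈ V.nonunits) (hy : y ∈ V) : x * y ∈ V.nonunits := by
  obtain ⟨hxV, hxm⟩ := ValuationSubring.mem_nonunits_iff_exists_mem_maximalIdeal.mp hx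
  rw [ValuationSubring.mem_nonunits_iff_exists_mem_maximalIdeal]
  refine ⟨V.mul_mem _ _ hxV hy, ?_⟩
  exact Ideal.mul_mem_right (⟨y, hy⟩ : V) _ hxm

omit [IsDiscreteValuationRing V] in
theorem inv_notMem_of_mem_nonunits {x : K} (hx : x ∈ V.nonunits) (hx0 : x ≠ 0) : x⁻¹ ∉ V := by
  rcases (V.mem_nonunits_iff_or).mp hx with h | h
  · exact absurd h hx0
  · exact h

omit [IsDiscreteValuationRing V] in
theorem mem_nonunits_of_notMem_inv {x : K} (hx : x⁻¹ ∉ V) : x ∈ V.nonunits :=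
  (V.mem_nonunits_iff_or).mpr (Or.inr hx)

omit [IsDiscreteValuationRing V] in
theorem mem_of_mem_nonunits {x : K} (hx : x ∈ V.nonunits) : x ∈ V :=
  ValuationSubring.nonunits_subset hx

/-- Every nonunit is divisible by a uniformizer. -/
theorem exists_eq_uniformizer_mul (ϖ : V) (hϖ : Irreducible ϖ) {x : K} (hx : x ∈ V.nonunits) :
    ∃ w : K, w ∈ V ∧ x = (ϖ : K) * w := by
  obtain ⟨hxV, hxm⟩ := ValuationSubring.mem_nonunits_iff_exists_mem_maximalIdeal.mp hx
  rw [hϖ.maximalIdeal_eq, Ideal.mem_span_singleton'] at hxm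
  obtain ⟨w, hw⟩ := hxm
  refine ⟨w, w.2, ?_⟩
  have := congrArg (Subtype.val) hw
  simp only [MulMemClass.coe_mul] at this
  rw [← this, mul_comm]

/-- A product of `n` nonunits is divisible by the `n`-th power of a uniformizer. -/
theorem exists_prod_eq_pow_mul (ϖ : V) (hϖ : Irreducible ϖ) (l : List K)
    (hl : ∀ x ∈ l, x ∈ V.nonunits) : ∃ w : K, w ∈ V ∧ l.prod = (ϖ : K) ^ l.length * w := by
  induction l with
  | nil => exact ⟨1, V.one_mem, by simp⟩
  | cons x l ih =>
    obtain ⟨w, hw, hlw⟩ := ih fun y hy => hl y (List.mem_cons_of_mem _ hy)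
    obtain ⟨w', hw', hxw⟩ := exists_eq_uniformizer_mul V ϖ hϖ (hl x List.mem_cons_self)
    refine ⟨w' * w, V.mul_mem _ _ hw' hw, ?_⟩
    rw [List.prod_cons, List.length_cons, hlw, hxw]
    ring

/-- **Archimedean property**, for lists. -/
theorem exists_forall_prod_mul_mem (y : K) :
    ∃ m : ℕ, ∀ l : List K, (∀ x ∈ l, x ∈ V.nonunits) → m ≤ l.length → l.prod * y ∈ V := by
  obtain ⟨ϖ, hϖ⟩ := IsDiscreteValuationRing.exists_irreducible V
  rcases V.mem_or_inv_mem y with hy | hy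
  · refine ⟨0, fun l hl _ => ?_⟩
    obtain ⟨w, hw, hlw⟩ := exists_prod_eq_pow_mul V ϖ hϖ l hl
    rw [hlw]
    exact V.mul_mem _ _ (V.mul_mem _ _ (pow_mem ϖ.2 _) hw) hy
  · by_cases hy0 : y = 0
    · exact ⟨0, fun l _ _ => by rw [hy0, mul_zero]; exact V.zero_mem⟩
    have hne : (⟨y⁻¹, hy⟩ : V) ≠ 0 := by
      intro h
      have := congrArg Subtype.val h
      simp only [ZeroMemClass.coe_zero, inv_eq_zero] at this
      exact hy0 this
    obtain ⟨m, u, hu⟩ := IsDiscreteValuationRing.eq_unit_mul_pow_irreducible hne hϖ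
    have hu' : y⁻¹ = (u : V) * (ϖ : K) ^ m := by
      have := congrArg Subtype.val hu
      simpa using this
    have hu0 : ((u : V) : K) ≠ 0 := by
      intro h
      have : (u : V) = 0 := Subtype.ext h
      exact u.ne_zero this
    have hϖ0 : (ϖ : K) ≠ 0 := by
      intro h
      have : ϖ = 0 := Subtype.ext h
      exact hϖ.ne_zero this
    have hy' : (ϖ : K) ^ m * y = ((u⁻¹ : Vˣ) : V) := by
      have h1 : ((u⁻¹ : Vˣ) : V) * (u : V) = 1 := by
        rw [← Units.val_mul, inv_mul_cancel, Units.val_one]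
      have h2 : (((u⁻¹ : Vˣ) : V) : K) * ((u : V) : K) = 1 := by
        have := congrArg (Subtype.val : V → K) h1
        rw [MulMemClass.coe_mul] at this
        exact this
      have h3 : y = ((u : V) * (ϖ : K) ^ m)⁻¹ := by rw [← hu', inv_inv]
      have h4 : (ϖ : K) ^ m ≠ 0 := pow_ne_zero _ hϖ0
      have h5 : (((u : V) : K))⁻¹ = (((u⁻¹ : Vˣ) : V) : K) :=
        (eq_inv_of_mul_eq_one_left h2).symm
      rw [h3, mul_inv, h5]
      field_simp
    refine ⟨m, fun l hl hml => ?_⟩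
    obtain ⟨w, hw, hlw⟩ := exists_prod_eq_pow_mul V ϖ hϖ l hl
    obtain ⟨k, hk⟩ := Nat.exists_eq_add_of_le hml
    rw [hlw, hk, pow_add]
    have : (ϖ : K) ^ m * (ϖ : K) ^ k * w * y = (ϖ : K) ^ k * w * ((ϖ : K) ^ m * y) := by ring
    rw [this, hy']
    exact V.mul_mem _ _ (V.mul_mem _ _ (pow_mem ϖ.2 _) hw) (SetLike.coe_mem _)

/-- **Archimedean property.** -/
theorem exists_pow_mul_mem {x : K} (hx : x ∈ V.nonunits) (y : K) : ∃ N : ℕ, x ^ N * y ∈ V := by
  obtain ⟨m, hm⟩ := exists_forall_prod_mul_mem V y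
  refine ⟨m, ?_⟩
  have := hm (List.replicate m x) (fun z hz => by rw [List.eq_of_mem_replicate hz]; exact hx)
    (by rw [List.length_replicate])
  rwa [List.prod_replicate] at this

/-- Discrete valuation rings are completely integrally closed. -/
theorem mem_of_forall_mul_pow_mem {c z : K} (hc : c ≠ 0) (h : ∀ n : ℕ, c * z ^ n ∈ V) : z ∈ V := by
  by_contra hz
  have hz0 : z ≠ 0 := by
    rintro rfl
    exact hz V.zero_mem
  have hzi : z⁻¹ ∈ V.nonunits := by
    apply mem_nonunits_of_notMem_inv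
    rwa [inv_inv]
  obtain ⟨N, hN⟩ := exists_pow_mul_mem V hzi c⁻¹
  have h1 := V.mul_mem _ _ (h (N + 1)) hN
  have h2 : c * z ^ (N + 1) * (z⁻¹ ^ N * c⁻¹) = z := by
    rw [pow_succ, inv_pow]
    have hzN : z ^ N ≠ 0 := pow_ne_zero _ hz0
    field_simp
  rw [h2] at h1
  exact hz h1

/-- Krull's intersection theorem in elementary form. -/
theorem eq_zero_of_forall_pow_dvd {t q : K} (ht : t ∈ V.nonunits)
    (h : ∀ n : ℕ, ∃ w : K, w ∈ V ∧ q = t ^ n * w) : q = 0 := by
  by_contra hq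
  by_cases ht0 : t = 0
  · obtain ⟨w, -, hw⟩ := h 1
    rw [ht0, pow_one, zero_mul] at hw
    exact hq hw
  obtain ⟨N, hN⟩ := exists_pow_mul_mem V ht q⁻¹
  obtain ⟨w, hw, hqw⟩ := h (N + 1)
  have hw0 : w ≠ 0 := by
    rintro rfl
    rw [mul_zero] at hqw
    exact hq hqw
  have h1 : t ^ N * q⁻¹ * w = t⁻¹ := by
    rw [hqw, pow_succ]
    field_simp
  have h2 : t⁻¹ ∈ V := by
    rw [← h1]
    exact V.mul_mem _ _ hN hw
  exact inv_notMem_of_mem_nonunits V ht ht0 h2

end arch

end Groth.Agent.Helper8.MN
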