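import Mathlib
import Groth.Prelude
import Groth.Agent.Lib.Helper8.MN1

/-!
# Krull families of discrete valuation subrings: centers and localizations
-/

set_option autoImplicit false
universe u

namespace Groth.Agent.Helper8.MN

open IsLocalRing

section family

variable {K : Type*} [Field K] {D : Type*} [CommRing D] [Algebra D K]
  {Λ : Type*} (W : Λ → ValuationSubring K)

/-- A family of discrete valuation subrings of `K` defining `D` with finite character. -/
structure IsKrullFamily (D : Type*) [CommRing D] [Algebra D K] (W : Λ → ValuationSubring K) :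
    Prop where
  mem_iff : ∀ x : K, x ∈ Set.range (algebraMap D K) ↔ ∀ ν, x ∈ W ν
  finite : ∀ x : K, x ≠ 0 → {ν | x ∉ W ν}.Finite

variable {W}

theorem IsKrullFamily.algebraMap_mem (h : IsKrullFamily D W) (d : D) (ν : Λ) :
    algebraMap D K d ∈ W ν := (h.mem_iff _).mp ⟨d, rfl⟩ ν

/-- The ring map `D → W ν`. -/
noncomputable def IsKrullFamily.toW (h : IsKrullFamily D W) (ν : Λ) : D →+* W ν :=
  (algebraMap D K).codRestrict (W ν).toSubring fun d => h.algebraMap_mem d ν

/-- The center of `W ν` on `D`. -/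
noncomputable def IsKrullFamily.center (h : IsKrullFamily D W) (ν : Λ) : Ideal D :=
  (maximalIdeal (W ν)).comap (h.toW ν)

instance IsKrullFamily.center_isPrime (h : IsKrullFamily D W) (ν : Λ) : (h.center ν).IsPrime :=
  Ideal.comap_isPrime _ _

theorem IsKrullFamily.mem_center_iff (h : IsKrullFamily D W) (ν : Λ) (d : D) :
    d ∈ h.center ν ↔ algebraMap D K d ∈ (W ν).nonunits := by
  unfold IsKrullFamily.center
  rw [Ideal.mem_comap, ← ValuationSubring.coe_mem_nonunits_iff]
  rfl

theorem IsKrullFamily.inv_mem_of_notMem_center (h : IsKrullFamily D W) (ν : Λ) {d : D}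
    (hd : d ∉ h.center ν) : (algebraMap D K d)⁻¹ ∈ W ν := by
  rw [h.mem_center_iff, ValuationSubring.mem_nonunits_iff_or, not_or, not_not] at hd
  exact hd.2

/-- Membership in the localization of `D` at a prime, inside `K`. -/
def InLoc (P : Ideal D) (x : K) : Prop :=
  ∃ s : D, s ∉ P ∧ algebraMap D K s * x ∈ Set.range (algebraMap D K)

theorem inLoc_of_mem_range (P : Ideal D) [P.IsPrime] {x : K}
    (hx : x ∈ Set.range (algebraMap D K)) : InLoc P x :=
  ⟨1, P.one_notMem, by rw [map_one, one_mul]; exact hx⟩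

theorem InLoc.mul {P : Ideal D} [P.IsPrime] {x y : K} (hx : InLoc P x) (hy : InLoc P y) :
    InLoc P (x * y) := by
  obtain ⟨s, hs, d, hd⟩ := hx
  obtain ⟨s', hs', d', hd'⟩ := hy
  refine ⟨s * s', fun hss => (Ideal.IsPrime.mem_or_mem inferInstance hss).elim hs hs', d * d', ?_⟩
  rw [map_mul, map_mul, hd, hd']
  ring

theorem InLoc.mem_W [IsDomain D] [IsFractionRing D K] (h : IsKrullFamily D W) {P : Ideal D} {x : K} (hx : InLoc P x) (ν : Λ)
    (hν : h.center ν ≤ P) : x ∈ W ν := by
  obtain ⟨s, hs, d, hd⟩ := hx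
  have hs' : s ∉ h.center ν := fun hmem => hs (hν hmem)
  have hinv := h.inv_mem_of_notMem_center ν hs'
  have hs0 : algebraMap D K s ≠ 0 := by
    intro h0
    apply hs
    have : s = 0 := (IsFractionRing.injective D K) (by rw [h0, map_zero])
    rw [this]
    exact zero_mem _
  have : x = (algebraMap D K s)⁻¹ * algebraMap D K d := by
    rw [hd]
    field_simp
  rw [this]
  exact (W ν).mul_mem _ _ hinv (h.algebraMap_mem d ν)

/-- **Localization of a Krull family**: an element lying in all the `W ν` centered inside `P`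
lies in the localization at `P`. -/
theorem inLoc_of_forall (h : IsKrullFamily D W) [∀ ν, IsDiscreteValuationRing (W ν)]
    (P : Ideal D) [P.IsPrime] (x : K)
    (hx : ∀ ν, h.center ν ≤ P → x ∈ W ν) : InLoc P x := by
  classical
  by_cases hx0 : x = 0
  · exact ⟨1, P.one_notMem, 0, by rw [hx0, mul_zero, map_zero]⟩
  have hfin := h.finite x hx0
  -- for each bad index choose `s ν ^ N ν`
  have hchoice : ∀ ν : Λ, x ∉ W ν → ∃ r : D, r ∉ P ∧ algebraMap D K r * x ∈ W ν := by
    intro ν hν
    have hnot : ¬ h.center ν ≤ P := fun hle => hν (hx ν hle)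
    obtain ⟨s, hsc, hsP⟩ := Set.not_subset.mp hnot
    have hsn : algebraMap D K s ∈ (W ν).nonunits := (h.mem_center_iff ν s).mp hsc
    obtain ⟨N, hN⟩ := exists_pow_mul_mem (W ν) hsn x
    refine ⟨s ^ N, fun hmem => hsP (Ideal.IsPrime.mem_of_pow_mem inferInstance N hmem), ?_⟩
    rw [map_pow]
    exact hN
  choose! r hrP hrW using hchoice
  refine ⟨∏ ν ∈ hfin.toFinset, r ν, ?_, ?_⟩
  · intro hmem
    rw [Ideal.IsPrime.prod_mem_iff] at hmem
    obtain ⟨ν, hν, hνP⟩ := hmem
    exact hrP ν ((Set.Finite.mem_toFinset hfin).mp hν) hνP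
  · rw [h.mem_iff]
    intro μ
    by_cases hμ : x ∈ W μ
    · exact (W μ).mul_mem _ _ (h.algebraMap_mem _ μ) hμ
    · have hμ' : μ ∈ hfin.toFinset := (Set.Finite.mem_toFinset hfin).mpr hμ
      rw [← Finset.mul_prod_erase _ _ hμ', map_mul]
      have : algebraMap D K (r μ) * algebraMap D K (∏ ν ∈ hfin.toFinset.erase μ, r ν) * x =
          algebraMap D K (∏ ν ∈ hfin.toFinset.erase μ, r ν) * (algebraMap D K (r μ) * x) := by
        ring
      rw [this]
      exact (W μ).mul_mem _ _ (h.algebraMap_mem _ μ) (hrW μ hμ)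

end family

end Groth.Agent.Helper8.MN
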