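import Mathlib
import Groth.Prelude
import Groth.Agent.Lib.Helper8.MN2

/-!
# Krull families: primes minimal over a conductor ideal are of height one with principal
localization
-/

set_option autoImplicit false
universe u

namespace Groth.Agent.Helper8.MN

open IsLocalRing

section core

variable {K : Type*} [Field K] {D : Type*} [CommRing D] [IsDomain D] [Algebra D K]
  [IsFractionRing D K] {Λ : Type*} {W : Λ → ValuationSubring K}

/-- The conductor ideal `(b : a)`. -/
def colonI (a b : D) : Ideal D where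
  carrier := {d | b ∣ d * a}
  add_mem' := by
    intro d d' hd hd'
    change b ∣ (d + d') * a
    rw [add_mul]
    exact dvd_add hd hd'
  zero_mem' := by
    change b ∣ 0 * a
    rw [zero_mul]
    exact dvd_zero b
  smul_mem' := by
    intro c d hd
    change b ∣ (c * d) * a
    rw [mul_assoc]
    exact Dvd.dvd.mul_left hd c

omit [IsDomain D] in
theorem mem_colonI (a b d : D) : d ∈ colonI a b ↔ b ∣ d * a := Iff.rfl

/-- Height one from the principal property. -/
theorem height_eq_one_of_principal (h : IsKrullFamily D W) [∀ ν, IsDiscreteValuationRing (W ν)]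
    (P : Ideal D) [P.IsPrime] (hP0 : P ≠ ⊥) (t : D) (ht : t ∈ P)
    (hprin : ∀ x ∈ P, ∃ s : D, s ∉ P ∧ t ∣ s * x) : P.height = 1 := by
  have hinj := IsFractionRing.injective D K
  have key : ∀ Q : Ideal D, Q.IsPrime → Q < P → Q = ⊥ := by
    intro Q hQ hQP
    by_contra hQ0
    obtain ⟨q, hqQ, hq0⟩ := Submodule.exists_mem_ne_zero_of_ne_bot hQ0
    have htQ : t ∉ Q := by
      intro htQ
      apply hQP.not_ge
      intro x hx
      obtain ⟨s, hs, hdvd⟩ := hprin x hx
      have h1 : s * x ∈ Q := Ideal.mem_of_dvd Q hdvd htQ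
      rcases hQ.mem_or_mem h1 with h2 | h2
      · exact absurd (hQP.le h2) hs
      · exact h2
    have hpow : ∀ n : ℕ, ∃ s : D, s ∉ P ∧ t ^ n ∣ s * q := by
      intro n
      induction n with
      | zero => exact ⟨1, P.one_notMem, by rw [pow_zero]; exact one_dvd _⟩
      | succ n ih =>
        obtain ⟨s, hs, d, hd⟩ := ih
        have hdQ : d ∈ Q := by
          have h1 : t ^ n * d ∈ Q := by
            rw [← hd]
            exact Ideal.mul_mem_left _ _ hqQ
          rcases hQ.mem_or_mem h1 with h2 | h2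
          · exact absurd (hQ.mem_of_pow_mem n h2) htQ
          · exact h2
        obtain ⟨s', hs', d', hd'⟩ := hprin d (hQP.le hdQ)
        refine ⟨s' * s, fun hmem => (Ideal.IsPrime.mem_or_mem inferInstance hmem).elim hs' hs,
          d', ?_⟩
        rw [mul_assoc, hd, pow_succ]
        calc s' * (t ^ n * d) = t ^ n * (s' * d) := by ring
          _ = t ^ n * (t * d') := by rw [hd']
          _ = t ^ n * t * d' := by ring
    have ht0 : t ≠ 0 := by
      rintro rfl
      exact htQ (zero_mem _)
    have hnotloc : ¬ InLoc P (algebraMap D K t)⁻¹ := by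
      rintro ⟨s, hs, d, hd⟩
      apply hs
      have hφt : algebraMap D K t ≠ 0 := by
        rw [Ne, map_eq_zero_iff _ hinj]
        exact ht0
      have : s = d * t := by
        apply hinj
        rw [map_mul, hd]
        field_simp
      rw [this]
      exact Ideal.mul_mem_left _ _ ht
    have hex : ∃ ν, h.center ν ≤ P ∧ (algebraMap D K t)⁻¹ ∉ W ν := by
      by_contra hcon
      push Not at hcon
      exact hnotloc (inLoc_of_forall h P _ hcon)
    obtain ⟨ν, hνP, hνt⟩ := hex
    have htn : algebraMap D K t ∈ (W ν).nonunits := mem_nonunits_of_notMem_inv (W ν) hνt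
    have hq : algebraMap D K q = 0 := by
      apply eq_zero_of_forall_pow_dvd (W ν) htn
      intro n
      obtain ⟨s, hs, d, hd⟩ := hpow n
      have hs' : s ∉ h.center ν := fun hmem => hs (hνP hmem)
      have hsinv := h.inv_mem_of_notMem_center ν hs'
      have hs0 : algebraMap D K s ≠ 0 := by
        rw [Ne, map_eq_zero_iff _ hinj]
        rintro rfl
        exact hs (zero_mem _)
      refine ⟨algebraMap D K d * (algebraMap D K s)⁻¹,
        (W ν).mul_mem _ _ (h.algebraMap_mem d ν) hsinv, ?_⟩
      have h1 : algebraMap D K s * algebraMap D K q =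
          algebraMap D K t ^ n * algebraMap D K d := by
        rw [← map_mul, hd, map_mul, map_pow]
      field_simp
      rw [mul_comm, h1]
    exact hq0 (hinj (by rw [hq, map_zero]))
  apply le_antisymm
  · rw [show (1 : ℕ∞) = ((1 : ℕ) : ℕ∞) from rfl, Ideal.height_le_iff]
    intro Q hQ hQP
    rw [key Q hQ hQP, Ideal.height_bot]
    exact zero_lt_one
  · rw [Order.one_le_iff_ne_zero, Ne, Ideal.height_eq_zero_iff_eq_bot]
    exact hP0

/-- **Core lemma**: a prime minimal over a conductor ideal `(b : a)` has height one and its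
localization has a principal maximal ideal; moreover `a / b` is not in the localization. -/
theorem core (h : IsKrullFamily D W) [∀ ν, IsDiscreteValuationRing (W ν)]
    (a b : D) (hb : b ≠ 0) (P : Ideal D) (hP : P ∈ (colonI a b).minimalPrimes) :
    ¬ InLoc P (algebraMap D K a / algebraMap D K b) ∧
      (∃ t ∈ P, ∀ x ∈ P, ∃ s : D, s ∉ P ∧ t ∣ s * x) ∧ P.height = 1 := by
  classical
  haveI hPprime : P.IsPrime := hP.1.1
  have hIP : colonI a b ≤ P := hP.1.2
  have hinj := IsFractionRing.injective D K
  have hφb : algebraMap D K b ≠ 0 := by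
    rw [Ne, map_eq_zero_iff _ hinj]
    exact hb
  set x₀ : K := algebraMap D K a / algebraMap D K b with hx₀
  -- (A)
  have hA : ¬ InLoc P x₀ := by
    rintro ⟨s, hs, d, hd⟩
    apply hs
    apply hIP
    rw [mem_colonI]
    refine ⟨d, hinj ?_⟩
    rw [map_mul, map_mul, hd, hx₀]
    field_simp
  have ha : a ≠ 0 := by
    rintro rfl
    apply hPprime.ne_top
    rw [eq_top_iff]
    refine le_trans ?_ hIP
    intro d _
    rw [mem_colonI, mul_zero]
    exact dvd_zero b
  have hφa : algebraMap D K a ≠ 0 := by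
    rw [Ne, map_eq_zero_iff _ hinj]
    exact ha
  have hx₀0 : x₀ ≠ 0 := div_ne_zero hφa hφb
  have hbP : b ∈ P := hIP (by rw [mem_colonI]; exact Dvd.intro _ rfl)
  have hP0 : P ≠ ⊥ := by
    intro hbot
    rw [hbot, Ideal.mem_bot] at hbP
    exact hb hbP
  -- (C)
  have hC : ∀ ν, x₀ ∉ W ν → colonI a b ≤ h.center ν := by
    intro ν hν d hd
    by_contra hdc
    apply hν
    obtain ⟨c, hc⟩ := (mem_colonI a b d).mp hd
    have hinv := h.inv_mem_of_notMem_center ν hdc
    have hd0 : algebraMap D K d ≠ 0 := by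
      rw [Ne, map_eq_zero_iff _ hinj]
      rintro rfl
      exact hdc (zero_mem _)
    have : x₀ = (algebraMap D K d)⁻¹ * algebraMap D K c := by
      have h1 : algebraMap D K d * algebraMap D K a = algebraMap D K b * algebraMap D K c := by
        rw [← map_mul, hc, map_mul]
      rw [hx₀]
      field_simp
      rw [mul_comm, h1, mul_comm]
    rw [this]
    exact (W ν).mul_mem _ _ hinv (h.algebraMap_mem c ν)
  -- (D)
  have hD : ∀ ν, x₀ ∉ W ν → h.center ν ≤ P → h.center ν = P := by
    intro ν hν hle
    exact le_antisymm hle (hP.2 ⟨inferInstance, hC ν hν⟩ hle)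
  -- (E)
  have hE : ∀ ν : Λ, ∃ m : ℕ, ∀ l : List K, (∀ x ∈ l, x ∈ (W ν).nonunits) → m ≤ l.length →
      l.prod * x₀ ∈ W ν := fun ν => exists_forall_prod_mul_mem (W ν) x₀
  choose m hm using hE
  have hfin := h.finite x₀ hx₀0
  set k : ℕ := ∑ ν ∈ hfin.toFinset, m ν with hk
  -- (F)
  let Q : ℕ → Prop := fun j => ∃ l : List D, (∀ x ∈ l, x ∈ P) ∧ l.length = j ∧
    ¬ InLoc P (algebraMap D K l.prod * x₀)
  have hQk : ¬ Q k := by
    rintro ⟨l, hlP, hlen, hnot⟩
    apply hnot
    apply inLoc_of_forall h P
    intro ν hνP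
    by_cases hν : x₀ ∈ W ν
    · exact (W ν).mul_mem _ _ (h.algebraMap_mem _ ν) hν
    · have hcen := hD ν hν hνP
      have hmk : m ν ≤ k := by
        rw [hk]
        exact Finset.single_le_sum (f := m) (fun _ _ => Nat.zero_le _)
          ((Set.Finite.mem_toFinset hfin).mpr hν)
      have := hm ν (l.map (algebraMap D K)) (by
        intro x hx
        obtain ⟨d, hd, rfl⟩ := List.mem_map.mp hx
        rw [← h.mem_center_iff, hcen]
        exact hlP d hd) (by rw [List.length_map, hlen]; exact hmk)
      rwa [← map_list_prod] at this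
  have hQ0 : Q 0 := ⟨[], by simp, rfl, by simpa using hA⟩
  have hexQ : ∃ j, ¬ Q j := ⟨k, hQk⟩
  have hj1 : Nat.find hexQ ≠ 0 := by
    intro h0
    have := Nat.find_spec hexQ
    rw [h0] at this
    exact this hQ0
  obtain ⟨j, hj⟩ := Nat.exists_eq_succ_of_ne_zero hj1
  have hQj : Q j := by
    by_contra hcon
    have := Nat.find_min' hexQ hcon
    omega
  have hQj1 : ¬ Q (j + 1) := by
    have := Nat.find_spec hexQ
    rwa [hj] at this
  obtain ⟨l, hlP, hlen, hznot⟩ := hQj
  set z : K := algebraMap D K l.prod * x₀ with hz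
  have hzP : ∀ x ∈ P, InLoc P (algebraMap D K x * z) := by
    intro x hx
    by_contra hcon
    apply hQj1
    refine ⟨x :: l, ?_, by rw [List.length_cons, hlen], ?_⟩
    · intro y hy
      rcases List.mem_cons.mp hy with rfl | hy
      · exact hx
      · exact hlP y hy
    · rw [List.prod_cons, map_mul, mul_assoc]
      exact hcon
  -- (G)
  have hprin : ∃ t ∈ P, ∀ x ∈ P, ∃ s : D, s ∉ P ∧ t ∣ s * x := by
    by_cases hcase : ∀ x ∈ P, ∃ s : D, s ∉ P ∧ ∃ d ∈ P,
        algebraMap D K s * (algebraMap D K x * z) = algebraMap D K d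
    · exfalso
      apply hznot
      have hpow : ∀ n : ℕ, ∃ s : D, s ∉ P ∧ ∃ d ∈ P,
          algebraMap D K s * (algebraMap D K b * z ^ n) = algebraMap D K d := by
        intro n
        induction n with
        | zero => exact ⟨1, P.one_notMem, b, hbP, by simp⟩
        | succ n ih =>
          obtain ⟨s, hs, d, hdP, hd⟩ := ih
          obtain ⟨s', hs', d', hd'P, hd'⟩ := hcase d hdP
          refine ⟨s * s', fun hmem => (Ideal.IsPrime.mem_or_mem inferInstance hmem).elim hs hs',
            d', hd'P, ?_⟩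
          rw [← hd', ← hd, map_mul, pow_succ]
          ring
      apply inLoc_of_forall h P
      intro ν hνP
      apply mem_of_forall_mul_pow_mem (W ν) hφb
      intro n
      obtain ⟨s, hs, d, -, hd⟩ := hpow n
      exact InLoc.mem_W h ⟨s, hs, d, hd.symm⟩ ν hνP
    · push Not at hcase
      obtain ⟨t, htP, htn⟩ := hcase
      obtain ⟨s₀, hs₀, u₀, hu₀⟩ := hzP t htP
      have hu₀P : u₀ ∉ P := fun hmem => htn s₀ hs₀ u₀ hmem hu₀.symm
      refine ⟨t, htP, fun x hx => ?_⟩
      obtain ⟨sx, hsx, dx, hdx⟩ := hzP x hx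
      refine ⟨sx * u₀, fun hmem => (Ideal.IsPrime.mem_or_mem inferInstance hmem).elim hsx hu₀P,
        s₀ * dx, hinj ?_⟩
      rw [map_mul, map_mul, map_mul, map_mul, hu₀, hdx]
      ring
  obtain ⟨t, htP, ht⟩ := hprin
  exact ⟨hA, ⟨t, htP, ht⟩, height_eq_one_of_principal h P hP0 t htP ht⟩

end core

end Groth.Agent.Helper8.MN
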