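import Mathlib
import Groth.Prelude
import Groth.Agent.Lib.Helper8.MN3

/-!
# Krull families: height one primes
-/

set_option autoImplicit false
universe u

namespace Groth.Agent.Helper8.MN

open IsLocalRing

section heightOne

variable {K : Type*} [Field K] {D : Type*} [CommRing D] [IsDomain D] [Algebra D K]
  [IsFractionRing D K] {Λ : Type*} {W : Λ → ValuationSubring K}

/-- An element outside `D` is outside the localization at some height one prime. -/
theorem exists_height_one_not_inLoc (h : IsKrullFamily D W) [∀ ν, IsDiscreteValuationRing (W ν)]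
    (x : K) (hx : x ∉ Set.range (algebraMap D K)) :
    ∃ P : Ideal D, P.IsPrime ∧ P.height = 1 ∧ ¬ InLoc P x := by
  obtain ⟨a, b, hb, rfl⟩ := IsFractionRing.div_surjective (A := D) x
  have hb0 : b ≠ 0 := nonZeroDivisors.ne_zero hb
  have hφb : algebraMap D K b ≠ 0 := by
    rw [Ne, map_eq_zero_iff _ (IsFractionRing.injective D K)]
    exact hb0
  have hne : colonI a b ≠ ⊤ := by
    intro htop
    apply hx
    have h1 : (1 : D) ∈ colonI a b := by rw [htop]; trivial
    rw [mem_colonI, one_mul] at h1
    obtain ⟨c, rfl⟩ := h1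
    refine ⟨c, ?_⟩
    rw [map_mul]
    field_simp
  obtain ⟨P, hP⟩ := Ideal.nonempty_minimalPrimes hne
  obtain ⟨h1, -, h3⟩ := core h a b hb0 P hP
  exact ⟨P, hP.1.1, h3, h1⟩

theorem eq_of_le_of_height_one {P Q : Ideal D} [P.IsPrime] [Q.IsPrime] (hP : P.height = 1)
    (hQ0 : Q ≠ ⊥) (hQP : Q ≤ P) : Q = P := by
  by_contra hne
  have hlt : Q < P := lt_of_le_of_ne hQP hne
  haveI : P.FiniteHeight := ⟨Or.inr (by rw [hP]; exact ENat.one_ne_top)⟩
  have h1 : Q.height < P.height := Ideal.height_strict_mono_of_isPrime_of_isPrime hlt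
  rw [hP, Order.lt_one_iff, Ideal.height_eq_zero_iff_eq_bot] at h1
  exact hQ0 h1

theorem mem_minimalPrimes_colonI_one {P : Ideal D} [P.IsPrime] (hP : P.height = 1) {b : D}
    (hb : b ∈ P) (hb0 : b ≠ 0) : P ∈ (colonI 1 b).minimalPrimes := by
  have hle : colonI 1 b ≤ P := by
    intro d hd
    rw [mem_colonI, mul_one] at hd
    exact Ideal.mem_of_dvd P hd hb
  refine ⟨⟨inferInstance, hle⟩, ?_⟩
  rintro Q ⟨hQ, hQle⟩ hQP
  haveI := hQ
  have hQ0 : Q ≠ ⊥ := by
    intro hbot
    have : b ∈ Q := hQle (by rw [mem_colonI, mul_one])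
    rw [hbot, Ideal.mem_bot] at this
    exact hb0 this
  exact (eq_of_le_of_height_one hP hQ0 hQP).ge

/-- Every height one prime is the center of a member of the family. -/
theorem exists_center_eq (h : IsKrullFamily D W) [∀ ν, IsDiscreteValuationRing (W ν)]
    (P : Ideal D) [P.IsPrime] (hP : P.height = 1) : ∃ ν, h.center ν = P := by
  have hP0 : P ≠ ⊥ := Ideal.ne_bot_of_height_eq_one hP
  obtain ⟨b, hbP, hb0⟩ := Submodule.exists_mem_ne_zero_of_ne_bot hP0
  obtain ⟨h1, -, -⟩ := core h 1 b hb0 P (mem_minimalPrimes_colonI_one hP hbP hb0)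
  have hex : ∃ ν, h.center ν ≤ P ∧ (algebraMap D K 1 / algebraMap D K b) ∉ W ν := by
    by_contra hcon
    push Not at hcon
    exact h1 (inLoc_of_forall h P _ hcon)
  obtain ⟨ν, hνP, hν⟩ := hex
  refine ⟨ν, eq_of_le_of_height_one hP ?_ hνP⟩
  intro hbot
  have hbc : b ∈ h.center ν := by
    rw [h.mem_center_iff]
    apply mem_nonunits_of_notMem_inv
    rwa [map_one, one_div] at hν
  rw [hbot, Ideal.mem_bot] at hbc
  exact hb0 hbc

/-- The valuation ring centered at a height one prime is the localization. -/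
theorem mem_W_iff_inLoc (h : IsKrullFamily D W) [∀ ν, IsDiscreteValuationRing (W ν)]
    (P : Ideal D) [P.IsPrime] (hP : P.height = 1) (ν : Λ) (hν : h.center ν = P) (x : K) :
    x ∈ W ν ↔ InLoc P x := by
  refine ⟨fun hx => ?_, fun hx => InLoc.mem_W h hx ν hν.le⟩
  have hinj := IsFractionRing.injective D K
  have hP0 : P ≠ ⊥ := Ideal.ne_bot_of_height_eq_one hP
  obtain ⟨b₀, hb₀P, hb₀0⟩ := Submodule.exists_mem_ne_zero_of_ne_bot hP0
  obtain ⟨-, ⟨t, htP, hprin⟩, -⟩ :=
    core h 1 b₀ hb₀0 P (mem_minimalPrimes_colonI_one hP hb₀P hb₀0)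
  have htn : algebraMap D K t ∈ (W ν).nonunits := by
    rw [← h.mem_center_iff, hν]
    exact htP
  -- structure of the elements of the localization
  have hS : ∀ N : ℕ, ∀ y : K, y ≠ 0 → InLoc P y → (algebraMap D K t) ^ N * y⁻¹ ∈ W ν →
      ∃ n : ℕ, ∃ u : K, InLoc P u ∧ InLoc P u⁻¹ ∧ y = u * (algebraMap D K t) ^ n := by
    intro N
    induction N with
    | zero =>
      intro y hy0 hy hyW
      rw [pow_zero, one_mul] at hyW
      obtain ⟨s, hs, d, hd⟩ := hy
      have hs0 : algebraMap D K s ≠ 0 := by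
        rw [Ne, map_eq_zero_iff _ hinj]
        rintro rfl
        exact hs (zero_mem _)
      by_cases hdP : d ∈ P
      · exfalso
        have hdn : algebraMap D K d ∈ (W ν).nonunits := by
          rw [← h.mem_center_iff, hν]
          exact hdP
        have hsinv : (algebraMap D K s)⁻¹ ∈ W ν :=
          h.inv_mem_of_notMem_center ν (by rw [hν]; exact hs)
        have hyn : y ∈ (W ν).nonunits := by
          have : y = algebraMap D K d * (algebraMap D K s)⁻¹ := by
            rw [hd]
            field_simp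
          rw [this]
          exact nonunits_mul_mem (W ν) hdn hsinv
        exact inv_notMem_of_mem_nonunits (W ν) hyn hy0 hyW
      · refine ⟨0, y, ⟨s, hs, d, hd⟩, ⟨d, hdP, s, ?_⟩, by rw [pow_zero, mul_one]⟩
        rw [hd]
        field_simp
    | succ N ih =>
      intro y hy0 hy hyW
      obtain ⟨s, hs, d, hd⟩ := hy
      have hs0 : algebraMap D K s ≠ 0 := by
        rw [Ne, map_eq_zero_iff _ hinj]
        rintro rfl
        exact hs (zero_mem _)
      by_cases hdP : d ∈ P
      · obtain ⟨s', hs', d', hd'⟩ := hprin d hdP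
        have hs'0 : algebraMap D K s' ≠ 0 := by
          rw [Ne, map_eq_zero_iff _ hinj]
          rintro rfl
          exact hs' (zero_mem _)
        have ht0 : algebraMap D K t ≠ 0 := by
          intro h0
          apply hy0
          have h1 : algebraMap D K s' * algebraMap D K d =
              algebraMap D K t * algebraMap D K d' := by
            rw [← map_mul, hd', map_mul]
          rw [h0, zero_mul] at h1
          have h2 : algebraMap D K d = 0 := by
            rcases mul_eq_zero.mp h1 with h3 | h3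
            · exact absurd h3 hs'0
            · exact h3
          rw [h2] at hd
          rcases mul_eq_zero.mp hd.symm with h3 | h3
          · exact absurd h3 hs0
          · exact h3
        set y₁ : K := algebraMap D K d' / (algebraMap D K s * algebraMap D K s') with hy₁
        have hyy₁ : y = algebraMap D K t * y₁ := by
          have h1 : algebraMap D K s' * algebraMap D K d =
              algebraMap D K t * algebraMap D K d' := by
            rw [← map_mul, hd', map_mul]
          have h2 : y = algebraMap D K d / algebraMap D K s := by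
            rw [hd]
            field_simp
          rw [h2, hy₁]
          field_simp
          rw [mul_comm, h1]
        have hy₁0 : y₁ ≠ 0 := by
          intro h0
          rw [h0, mul_zero] at hyy₁
          exact hy0 hyy₁
        have hy₁loc : InLoc P y₁ := by
          refine ⟨s * s', fun hmem => (Ideal.IsPrime.mem_or_mem inferInstance hmem).elim hs hs',
            d', ?_⟩
          rw [hy₁, map_mul]
          field_simp
        have hy₁W : (algebraMap D K t) ^ N * y₁⁻¹ ∈ W ν := by
          have : (algebraMap D K t) ^ N * y₁⁻¹ = (algebraMap D K t) ^ (N + 1) * y⁻¹ := by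
            rw [hyy₁, pow_succ, mul_inv]
            field_simp
          rw [this]
          exact hyW
        obtain ⟨n, u, hu, hu', hyu⟩ := ih y₁ hy₁0 hy₁loc hy₁W
        refine ⟨n + 1, u, hu, hu', ?_⟩
        rw [hyy₁, hyu, pow_succ]
        ring
      · refine ⟨0, y, ⟨s, hs, d, hd⟩, ⟨d, hdP, s, ?_⟩, by rw [pow_zero, mul_one]⟩
        rw [hd]
        field_simp
  have hS' : ∀ a : D, a ≠ 0 →
      ∃ n : ℕ, ∃ u : K, InLoc P u ∧ InLoc P u⁻¹ ∧ algebraMap D K a = u * (algebraMap D K t) ^ n := by
    intro a ha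
    have ha0 : algebraMap D K a ≠ 0 := by
      rw [Ne, map_eq_zero_iff _ hinj]
      exact ha
    obtain ⟨N, hN⟩ := exists_pow_mul_mem (W ν) htn (algebraMap D K a)⁻¹
    exact hS N _ ha0 (inLoc_of_mem_range P ⟨a, rfl⟩) hN
  by_cases hx0 : x = 0
  · rw [hx0]
    exact inLoc_of_mem_range P ⟨0, map_zero _⟩
  obtain ⟨a, b, hb, rfl⟩ := IsFractionRing.div_surjective (A := D) x
  have hb0 : b ≠ 0 := nonZeroDivisors.ne_zero hb
  have ha0 : a ≠ 0 := by
    rintro rfl
    rw [map_zero, zero_div] at hx0
    exact hx0 rfl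
  obtain ⟨n₁, u₁, hu₁, hu₁', ha⟩ := hS' a ha0
  obtain ⟨n₂, u₂, hu₂, hu₂', hb'⟩ := hS' b hb0
  have hφa : algebraMap D K a ≠ 0 := by
    rw [Ne, map_eq_zero_iff _ hinj]
    exact ha0
  have hφb : algebraMap D K b ≠ 0 := by
    rw [Ne, map_eq_zero_iff _ hinj]
    exact hb0
  have hu₁0 : u₁ ≠ 0 := by
    rintro rfl
    rw [zero_mul] at ha
    exact hφa ha
  have hu₂0 : u₂ ≠ 0 := by
    rintro rfl
    rw [zero_mul] at hb'
    exact hφb hb'
  have ht0 : algebraMap D K t ≠ 0 := by
    intro h0
    have h1 : t = 0 := hinj (by rw [h0, map_zero])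
    -- then `P` would be zero
    apply hP0
    rw [eq_bot_iff]
    intro y hy
    obtain ⟨s, hs, c, hc⟩ := hprin y hy
    rw [h1, zero_mul] at hc
    rcases mul_eq_zero.mp hc with h2 | h2
    · rw [h2] at hs
      exact absurd (zero_mem _) hs
    · rw [h2]
      exact zero_mem _
  rcases le_or_gt n₂ n₁ with hle | hlt
  · obtain ⟨k, rfl⟩ := Nat.exists_eq_add_of_le hle
    have : algebraMap D K a / algebraMap D K b = u₁ * u₂⁻¹ * algebraMap D K (t ^ k) := by
      rw [ha, hb', map_pow, pow_add]
      field_simp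
    rw [this]
    exact (hu₁.mul hu₂').mul (inLoc_of_mem_range P ⟨_, rfl⟩)
  · exfalso
    obtain ⟨k, hk⟩ := Nat.exists_eq_add_of_lt hlt
    have hinv : (algebraMap D K a / algebraMap D K b)⁻¹ =
        algebraMap D K (t ^ (k + 1)) * (u₂ * u₁⁻¹) := by
      rw [ha, hb', map_pow, hk, pow_add, pow_add]
      field_simp
      rw [pow_succ]
    have hnon : (algebraMap D K a / algebraMap D K b)⁻¹ ∈ (W ν).nonunits := by
      rw [hinv]
      apply nonunits_mul_mem
      · rw [← h.mem_center_iff, hν]
        exact Ideal.pow_mem_of_mem P htP _ (Nat.succ_pos k)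
      · exact InLoc.mem_W h (hu₂.mul hu₁') ν hν.le
    have := inv_notMem_of_mem_nonunits (W ν) hnon (inv_ne_zero hx0)
    rw [inv_inv] at this
    exact this hx

end heightOne

end Groth.Agent.Helper8.MN
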