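import Mathlib
import Groth.Prelude
import Groth.Agent.Lib.Helper8.MN4

/-!
# Mori–Nagata, part 12: descending a Krull family along an integral extension with
unique primes above
-/

set_option autoImplicit false
universe u

namespace Groth.Agent.Helper8.MN

section descent

variable {K : Type*} [Field K] {D : Type*} [CommRing D] [IsDomain D] [Algebra D K]
  [IsFractionRing D K] {Λ : Type*} {W : Λ → ValuationSubring K}
  (C : Type*) [CommRing C] [IsDomain C] [Algebra C D] [Algebra.IsIntegral C D] [FaithfulSMul C D]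

omit [IsDomain C] [Algebra.IsIntegral C D] in
theorem comap_bot_eq_bot : (⊥ : Ideal D).comap (algebraMap C D) = ⊥ := by
  rw [← RingHom.ker_eq_comap_bot,
    (RingHom.injective_iff_ker_eq_bot _).mp (FaithfulSMul.algebraMap_injective C D)]

/-- A height one prime which is the only prime over its contraction contracts to a height one
prime. -/
theorem height_comap_eq_one_of_unique (P : Ideal D) [P.IsPrime] (hP : P.height = 1)
    (hU : ∀ P' : Ideal D, P'.IsPrime →
      P'.comap (algebraMap C D) = P.comap (algebraMap C D) → P' = P) :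
    (P.comap (algebraMap C D)).height = 1 := by
  haveI : (P.comap (algebraMap C D)).IsPrime := Ideal.comap_isPrime _ _
  apply le_antisymm
  · rw [show (1 : ℕ∞) = ((1 : ℕ) : ℕ∞) from rfl, Ideal.height_le_iff]
    intro q hq hlt
    haveI := hq
    obtain ⟨Q, -, hQp, hQ⟩ := Ideal.exists_ideal_over_prime_of_isIntegral q (⊥ : Ideal D) (by
      rw [comap_bot_eq_bot]
      exact bot_le)
    haveI := hQp
    obtain ⟨P', hQP', hP'p, hP'⟩ := Ideal.exists_ideal_over_prime_of_isIntegral_of_isPrime
      (P.comap (algebraMap C D)) Q (by rw [hQ]; exact hlt.le)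
    have hPP := hU P' hP'p hP'
    rw [hPP] at hQP'
    have hQ0 : Q = ⊥ := by
      by_contra hne
      have h1 := eq_of_le_of_height_one hP hne hQP'
      rw [h1] at hQ
      exact hlt.ne hQ.symm
    rw [hQ0, comap_bot_eq_bot] at hQ
    rw [← hQ, Nat.cast_one, Order.lt_one_iff, Ideal.height_eq_zero_iff_eq_bot]
  · rw [Order.one_le_iff_pos, pos_iff_ne_zero, Ne, Ideal.height_eq_zero_iff_eq_bot]
    exact Ideal.IsIntegral.comap_ne_bot C (Ideal.ne_bot_of_height_eq_one hP)

/-- A prime lying over a height one prime has height one. -/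
theorem height_eq_one_of_comap (P : Ideal D) [P.IsPrime] (p : Ideal C) [p.IsPrime]
    (hp : p.height = 1) (hPp : P.comap (algebraMap C D) = p) : P.height = 1 := by
  apply le_antisymm
  · rw [show (1 : ℕ∞) = ((1 : ℕ) : ℕ∞) from rfl, Ideal.height_le_iff]
    intro Q hQ hlt
    haveI := hQ
    have h1 : Q.comap (algebraMap C D) < P.comap (algebraMap C D) :=
      Ideal.IsIntegral.comap_lt_comap hlt
    rw [hPp] at h1
    have h2 : Q.comap (algebraMap C D) = ⊥ := by
      by_contra hne
      exact h1.ne (eq_of_le_of_height_one hp hne h1.le)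
    have h3 : Q = ⊥ := Ideal.IsIntegral.eq_bot_of_comap_eq_bot C h2
    rw [h3, Nat.cast_one, Order.lt_one_iff, Ideal.height_eq_zero_iff_eq_bot]
  · rw [Order.one_le_iff_pos, pos_iff_ne_zero, Ne, Ideal.height_eq_zero_iff_eq_bot]
    intro h0
    rw [h0, comap_bot_eq_bot] at hPp
    exact Ideal.ne_bot_of_height_eq_one hp hPp.symm

variable (hU : ∀ P : Ideal D, P.IsPrime → P.height = 1 → ∀ P' : Ideal D, P'.IsPrime →
      P'.comap (algebraMap C D) = P.comap (algebraMap C D) → P' = P)

include hU in
/-- Each height one prime of `C` has an attached member of the family, which is the localization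
of `D` at that prime. -/
theorem exists_W_iff (h : IsKrullFamily D W) [∀ ν, IsDiscreteValuationRing (W ν)]
    (p : Ideal C) [p.IsPrime] (hp : p.height = 1) :
    ∃ ν, ∀ x : K, x ∈ W ν ↔ ∃ s : C, s ∉ p ∧
      algebraMap D K (algebraMap C D s) * x ∈ Set.range (algebraMap D K) := by
  obtain ⟨P, -, hPp, hP⟩ := Ideal.exists_ideal_over_prime_of_isIntegral p (⊥ : Ideal D) (by
    rw [comap_bot_eq_bot]
    exact bot_le)
  haveI := hPp
  have hP1 : P.height = 1 := height_eq_one_of_comap C P p hp hP
  obtain ⟨ν, hν⟩ := exists_center_eq h P hP1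
  refine ⟨ν, fun x => ?_⟩
  rw [mem_W_iff_inLoc h P hP1 ν hν x]
  constructor
  · rintro ⟨d, hd, hdx⟩
    have hsing : p.primesOver D = {P} := by
      ext P'
      simp only [Set.mem_singleton_iff]
      constructor
      · rintro ⟨hP'p, hP'o⟩
        exact hU P hPp hP1 P' hP'p (by rw [hP]; exact hP'o.over.symm)
      · rintro rfl
        exact ⟨hPp, ⟨hP.symm⟩⟩
    obtain ⟨r, hr, d', hd'⟩ :=
      Ideal.exists_notMem_dvd_algebraMap_of_primesOver_eq_singleton hsing d hd
    refine ⟨r, hr, ?_⟩
    obtain ⟨y, hy⟩ := hdx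
    refine ⟨d' * y, ?_⟩
    rw [hd', map_mul, map_mul, hy]
    ring
  · rintro ⟨s, hs, hsx⟩
    refine ⟨algebraMap C D s, ?_, hsx⟩
    intro hmem
    apply hs
    rw [← hP]
    exact hmem

include hU in
/-- `D` is the intersection of its localizations at the primes over height one primes of `C`. -/
theorem mem_range_iff_forall (h : IsKrullFamily D W) [∀ ν, IsDiscreteValuationRing (W ν)]
    (x : K) : x ∈ Set.range (algebraMap D K) ↔
      ∀ p : Ideal C, p.IsPrime → p.height = 1 → ∃ s : C, s ∉ p ∧
        algebraMap D K (algebraMap C D s) * x ∈ Set.range (algebraMap D K) := by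
  constructor
  · intro hx p hp _
    exact ⟨1, p.one_notMem, by rw [map_one, map_one, one_mul]; exact hx⟩
  · intro hall
    by_contra hx
    obtain ⟨P, hPp, hP1, hnot⟩ := exists_height_one_not_inLoc h x hx
    haveI := hPp
    have hp1 : (P.comap (algebraMap C D)).height = 1 :=
      height_comap_eq_one_of_unique C P hP1 (hU P hPp hP1)
    obtain ⟨s, hs, hsx⟩ := hall (P.comap (algebraMap C D)) (Ideal.comap_isPrime _ _) hp1
    exact hnot ⟨algebraMap C D s, hs, hsx⟩

end descent

end Groth.Agent.Helper8.MN
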