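import Mathlib
import Groth.Prelude
import Groth.Agent.Lib.Helper8.MN4
import Groth.Agent.Lib.Helper8.NH4

/-!
# Noetherian normal domains: the valuation subrings of the height one primes
-/

set_option autoImplicit false
universe u

namespace Groth.Agent.Helper8.MN

open IsLocalRing

section hartogs

variable (T : Type u) [CommRing T] [IsDomain T] [IsNoetherianRing T] [IsIntegrallyClosed T]
  (L' : Type u) [Field L'] [Algebra T L'] [IsFractionRing T L']

/-- A Noetherian normal domain is the intersection of its localizations at height one primes. -/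
theorem mem_range_of_forall_height_one (y : L')
    (h : ∀ (P : Ideal T) [P.IsPrime], P.height = 1 → y ∈ Groth.Agent.Helper8.NH.locSub T L' P) :
    y ∈ Set.range (algebraMap T L') := by
  obtain ⟨a, b, hb, rfl⟩ := IsFractionRing.div_surjective (A := T) y
  have hb0 : b ≠ 0 := nonZeroDivisors.ne_zero hb
  have hφb : algebraMap T L' b ≠ 0 := by
    rw [Ne, map_eq_zero_iff _ (IsFractionRing.injective T L')]
    exact hb0
  have hnor : ∀ (p : Ideal T) [p.IsPrime],
      IsDomain (Localization.AtPrime p) ∧ IsIntegrallyClosed (Localization.AtPrime p) := by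
    intro p _
    exact ⟨IsLocalization.isDomain_localization p.primeCompl_le_nonZeroDivisors,
      isIntegrallyClosed_of_isLocalization _ p.primeCompl p.primeCompl_le_nonZeroDivisors⟩
  have hS2 := Groth.Agent.Helper8.Serre.hasSk_two_of_normal _ hnor
  have hass := (Groth.Agent.Helper8.Depth.hasSk_two_iff_associatedPrimes_height_one _).mp hS2 b hb0
  refine Groth.Agent.Helper8.NH.mem_range_of_forall_associatedPrimes T L' b hb0 _
    ⟨a, by field_simp⟩ fun P hP => ?_
  haveI : P.IsPrime := hP.isPrime
  have h2 := h P (hass P hP)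
  obtain ⟨c, s, hs, hcs⟩ := (Groth.Agent.Helper8.NH.mem_locSub_iff T L' P _).mp h2
  exact ⟨c, s, hs, hcs⟩

/-- The valuation subring of a height one prime. -/
noncomputable def valSub (P : Ideal T) [P.IsPrime] (hP : P.height = 1) : ValuationSubring L' :=
  ValuationSubring.ofSubring (Groth.Agent.Helper8.NH.locSub T L' P).toSubring (by
    intro y
    haveI := Groth.Agent.Helper8.NH.isDiscreteValuationRing_locSub T L' P hP
    rcases ValuationRing.isInteger_or_isInteger (Groth.Agent.Helper8.NH.locSub T L' P) y with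
      ⟨a, ha⟩ | ⟨a, ha⟩
    · left
      rw [← ha]
      exact a.2
    · right
      rw [← ha]
      exact a.2)

theorem mem_valSub_iff (P : Ideal T) [P.IsPrime] (hP : P.height = 1) (y : L') :
    y ∈ valSub T L' P hP ↔ y ∈ Groth.Agent.Helper8.NH.locSub T L' P := Iff.rfl

instance isDiscreteValuationRing_valSub (P : Ideal T) [P.IsPrime] (hP : P.height = 1) :
    IsDiscreteValuationRing (valSub T L' P hP) :=
  Groth.Agent.Helper8.NH.isDiscreteValuationRing_locSub T L' P hP

theorem algebraMap_mem_valSub (P : Ideal T) [P.IsPrime] (hP : P.height = 1) (c : T) :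
    algebraMap T L' c ∈ valSub T L' P hP :=
  (Groth.Agent.Helper8.NH.locSub T L' P).algebraMap_mem c

/-- The nonunits of the valuation subring of a height one prime, on elements of `T`. -/
theorem algebraMap_mem_nonunits_valSub_iff (P : Ideal T) [P.IsPrime] (hP : P.height = 1) (c : T) :
    algebraMap T L' c ∈ (valSub T L' P hP).nonunits ↔ c ∈ P := by
  have hinj := IsFractionRing.injective T L'
  rw [ValuationSubring.mem_nonunits_iff_or]
  constructor
  · rintro (h0 | hinv)
    · have : c = 0 := hinj (by rw [h0, map_zero])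
      rw [this]
      exact zero_mem _
    · by_contra hc
      apply hinv
      rw [mem_valSub_iff, Groth.Agent.Helper8.NH.mem_locSub_iff]
      exact ⟨1, c, hc, by rw [map_one, one_mul]⟩
  · intro hc
    by_cases hc0 : c = 0
    · left
      rw [hc0, map_zero]
    right
    intro hmem
    rw [mem_valSub_iff, Groth.Agent.Helper8.NH.mem_locSub_iff] at hmem
    obtain ⟨a, s, hs, has⟩ := hmem
    have hφc : algebraMap T L' c ≠ 0 := by
      rw [Ne, map_eq_zero_iff _ hinj]
      exact hc0
    have hφs : algebraMap T L' s ≠ 0 := by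
      rw [Ne, map_eq_zero_iff _ hinj]
      rintro rfl
      exact hs (zero_mem _)
    have h1 : s = a * c := by
      apply hinj
      rw [map_mul]
      field_simp at has
      rw [has, mul_comm]
    apply hs
    rw [h1]
    exact Ideal.mul_mem_left _ _ hc

end hartogs

section comapDVR

variable {K : Type*} [Field K] {L' : Type*} [Field L'] (V : ValuationSubring L')
  [IsDiscreteValuationRing V] (φ : K →+* L')

/-- The restriction of a discrete valuation to a subfield is discrete or trivial. -/
theorem isDiscreteValuationRing_comap (hnt : ∃ x : K, x ∉ V.comap φ) :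
    IsDiscreteValuationRing (V.comap φ) := by
  classical
  have hmem : ∀ x : K, x ∈ V.comap φ ↔ φ x ∈ V := fun x => Iff.rfl
  let ψ : V.comap φ → V := fun x => ⟨φ x, (hmem x).mp x.2⟩
  have hψ0 : ∀ x : V.comap φ, x ≠ 0 → ψ x ≠ 0 := by
    intro x hx h0
    apply hx
    have h1 : φ (x : K) = 0 := congrArg Subtype.val h0
    have h2 : (x : K) = 0 := (map_eq_zero φ).mp h1
    exact Subtype.ext h2
  have hpid : IsPrincipalIdealRing (V.comap φ) := by
    refine ⟨fun I => ?_⟩
    by_cases hI : I = ⊥
    · rw [hI]
      exact ⟨0, by rw [Submodule.span_zero_singleton]⟩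
    let S : Set ℕ∞ := {n | ∃ x ∈ I, x ≠ 0 ∧ IsDiscreteValuationRing.addVal V (ψ x) = n}
    have hS : S.Nonempty := by
      obtain ⟨x, hxI, hx0⟩ := Submodule.exists_mem_ne_zero_of_ne_bot hI
      exact ⟨_, x, hxI, hx0, rfl⟩
    have hwf : WellFounded ((· < ·) : ℕ∞ → ℕ∞ → Prop) := wellFounded_lt
    obtain ⟨x₀, hx₀I, hx₀0, hx₀⟩ := hwf.min_mem S hS
    have hmin : ∀ y ∈ I, y ≠ 0 → IsDiscreteValuationRing.addVal V (ψ x₀) ≤
        IsDiscreteValuationRing.addVal V (ψ y) := by
      intro y hy hy0
      have hy' : IsDiscreteValuationRing.addVal V (ψ y) ∈ S := ⟨y, hy, hy0, rfl⟩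
      have hnl := hwf.not_lt_min S hy'
      rw [hx₀]
      exact not_lt.mp hnl
    refine ⟨x₀, le_antisymm ?_ ?_⟩
    · intro y hy
      by_cases hy0 : y = 0
      · rw [hy0]
        exact zero_mem _
      have hdvd := IsDiscreteValuationRing.addVal_le_iff_dvd.mp (hmin y hy hy0)
      obtain ⟨w, hw⟩ := hdvd
      have hw' : φ (y : K) = φ (x₀ : K) * (w : L') := by
        have := congrArg Subtype.val hw
        exact this
      have hx₀K : (x₀ : K) ≠ 0 := fun h0 => hx₀0 (Subtype.ext h0)
      have hφx₀ : φ (x₀ : K) ≠ 0 := (map_ne_zero φ).mpr hx₀K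
      have hq : ((y : K) / (x₀ : K)) ∈ V.comap φ := by
        rw [hmem, map_div₀, hw']
        have : φ (x₀ : K) * (w : L') / φ (x₀ : K) = (w : L') := by field_simp
        rw [this]
        exact w.2
      rw [Submodule.mem_span_singleton]
      refine ⟨⟨_, hq⟩, Subtype.ext ?_⟩
      change (y : K) / (x₀ : K) * (x₀ : K) = (y : K)
      field_simp
    · rw [Submodule.span_singleton_le_iff_mem]
      exact hx₀I
  refine { toIsPrincipalIdealRing := hpid, toIsLocalRing := inferInstance, not_a_field' := ?_ }
  obtain ⟨x, hx⟩ := hnt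
  have hxinv : x⁻¹ ∈ V.comap φ := ((V.comap φ).mem_or_inv_mem x).resolve_left hx
  have hx0 : x ≠ 0 := by
    rintro rfl
    exact hx (V.comap φ).zero_mem
  intro hbot
  have hnon : x⁻¹ ∈ (V.comap φ).nonunits := by
    rw [ValuationSubring.mem_nonunits_iff_or]
    right
    rwa [inv_inv]
  obtain ⟨hm, hm'⟩ := ValuationSubring.mem_nonunits_iff_exists_mem_maximalIdeal.mp hnon
  rw [hbot, Ideal.mem_bot] at hm'
  have : x⁻¹ = 0 := congrArg Subtype.val hm'
  exact hx0 (inv_eq_zero.mp this)

end comapDVR

end Groth.Agent.Helper8.MN
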