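import Mathlib
import Groth.Prelude
import Groth.Agent.Lib.Helper8.MN5

/-!
# The Krull family attached to a finite system of Noetherian normal domains detecting integrality
-/

set_option autoImplicit false
universe u

namespace Groth.Agent.Helper8.MN

open IsLocalRing

section family

variable {ι : Type u} (T : ι → Type u) (L : ι → Type u)
  [∀ q, CommRing (T q)] [∀ q, IsDomain (T q)] [∀ q, IsNoetherianRing (T q)]
  [∀ q, IsIntegrallyClosed (T q)] [∀ q, Field (L q)] [∀ q, Algebra (T q) (L q)]
  [∀ q, IsFractionRing (T q) (L q)]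
  (A : Type u) [CommRing A] (α : ∀ q, A →+* T q)

/-- The index set: height one primes of the members of the system lying over a nonzero prime. -/
abbrev Lam : Type u :=
  Σ q : ι, {P : Ideal (T q) // P.IsPrime ∧ P.height = 1 ∧ ∃ a : A, a ≠ 0 ∧ α q a ∈ P}

variable {T A α}

instance Lam.isPrime (l : Lam T A α) : l.2.1.IsPrime := l.2.2.1

omit [∀ q, IsDomain (T q)] [∀ q, IsNoetherianRing (T q)] [∀ q, IsIntegrallyClosed (T q)] in
theorem Lam.height (l : Lam T A α) : l.2.1.height = 1 := l.2.2.2.1

variable (K : Type u) [Field K] (φ : ∀ q, K →+* L q)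

/-- The family of valuation subrings. -/
noncomputable def Wfam (l : Lam T A α) : ValuationSubring K :=
  (valSub (T l.1) (L l.1) l.2.1 l.height).comap (φ l.1)

theorem mem_Wfam_iff (l : Lam T A α) (x : K) :
    x ∈ Wfam L K φ l ↔ φ l.1 x ∈ valSub (T l.1) (L l.1) l.2.1 l.height := Iff.rfl

variable [IsDomain A] [Algebra A K] [IsFractionRing A K]
  (hα : ∀ q, Function.Injective (α q))
  (hφ : ∀ q a, φ q (algebraMap A K a) = algebraMap (T q) (L q) (α q a))

include hα in
omit [∀ q, IsDomain (T q)] [∀ q, IsNoetherianRing (T q)] [∀ q, IsIntegrallyClosed (T q)]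
  [IsDomain A] in
theorem algebraMap_alpha_ne_zero (q : ι) {a : A} (ha : a ≠ 0) :
    algebraMap (T q) (L q) (α q a) ≠ 0 := by
  rw [Ne, map_eq_zero_iff _ (IsFractionRing.injective (T q) (L q)),
    map_eq_zero_iff _ (hα q)]
  exact ha

include hα hφ in
omit [IsDomain A] [IsFractionRing A K] in
theorem isDiscreteValuationRing_Wfam (l : Lam T A α) :
    IsDiscreteValuationRing (Wfam L K φ l) := by
  unfold Wfam
  apply isDiscreteValuationRing_comap
  obtain ⟨a, ha0, haP⟩ := l.2.2.2.2
  refine ⟨(algebraMap A K a)⁻¹, ?_⟩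
  change ¬ (φ l.1 (algebraMap A K a)⁻¹ ∈ valSub (T l.1) (L l.1) l.2.1 l.height)
  rw [map_inv₀, hφ]
  apply inv_notMem_of_mem_nonunits
  · rw [algebraMap_mem_nonunits_valSub_iff]
    exact haP
  · exact algebraMap_alpha_ne_zero L hα l.1 ha0

include hφ in
omit [IsDomain A] [IsFractionRing A K] in
/-- A fraction with denominator outside the prime lies in the valuation subring. -/
theorem div_mem_Wfam (l : Lam T A α) (a b : A) (hb : α l.1 b ∉ l.2.1) :
    algebraMap A K a / algebraMap A K b ∈ Wfam L K φ l := by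
  rw [mem_Wfam_iff, map_div₀, hφ, hφ, mem_valSub_iff,
    Groth.Agent.Helper8.NH.mem_locSub_iff]
  exact ⟨_, _, hb, by rw [div_eq_mul_inv]⟩

include hφ in
omit [IsDomain A] [IsFractionRing A K] in
theorem algebraMap_mem_Wfam (l : Lam T A α) (a : A) : algebraMap A K a ∈ Wfam L K φ l := by
  rw [mem_Wfam_iff, hφ]
  exact algebraMap_mem_valSub _ _ _ _ _

include hφ in
omit [IsDomain A] [IsFractionRing A K] in
/-- The center on `A`. -/
theorem algebraMap_mem_nonunits_Wfam_iff (l : Lam T A α) (a : A) :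
    algebraMap A K a ∈ (Wfam L K φ l).nonunits ↔ α l.1 a ∈ l.2.1 := by
  rw [← algebraMap_mem_nonunits_valSub_iff (T l.1) (L l.1) l.2.1 l.height, ← hφ,
    ValuationSubring.mem_nonunits_iff_or, ValuationSubring.mem_nonunits_iff_or, mem_Wfam_iff,
    map_inv₀, map_eq_zero (φ l.1)]

omit [IsDomain A] [IsFractionRing A K] in
theorem range_algebraMap_integralClosure (x : K) :
    x ∈ Set.range (algebraMap (integralClosure A K) K) ↔ IsIntegral A x := by
  constructor
  · rintro ⟨y, rfl⟩
    exact y.2
  · intro hx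
    exact ⟨⟨x, hx⟩, rfl⟩

variable [Finite ι]
  (hint : ∀ x : K, IsIntegral A x ↔ ∀ q, φ q x ∈ Set.range (algebraMap (T q) (L q)))

include hα hφ hint in
/-- **The Krull family of the integral closure.** -/
theorem isKrullFamily_Wfam : IsKrullFamily (integralClosure A K) (Wfam (T := T) (α := α) L K φ) := by
  classical
  refine ⟨fun x => ?_, fun x hx0 => ?_⟩
  · rw [range_algebraMap_integralClosure, hint]
    constructor
    · intro h l
      rw [mem_Wfam_iff]
      obtain ⟨y, hy⟩ := h l.1
      rw [← hy]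
      exact algebraMap_mem_valSub _ _ _ _ y
    · intro h q
      apply mem_range_of_forall_height_one (T q) (L q)
      intro P hPp hP1
      by_cases hex : ∃ a : A, a ≠ 0 ∧ α q a ∈ P
      · exact h ⟨q, P, hPp, hP1, hex⟩
      · push Not at hex
        obtain ⟨a, b, hb, rfl⟩ := IsFractionRing.div_surjective (A := A) x
        have hb0 : b ≠ 0 := nonZeroDivisors.ne_zero hb
        rw [map_div₀, hφ, hφ, Groth.Agent.Helper8.NH.mem_locSub_iff]
        exact ⟨_, _, hex b hb0, by rw [div_eq_mul_inv]⟩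
  · obtain ⟨a, b, hb, rfl⟩ := IsFractionRing.div_surjective (A := A) x
    have hb0 : b ≠ 0 := nonZeroDivisors.ne_zero hb
    have hsub : {l : Lam T A α | algebraMap A K a / algebraMap A K b ∉ Wfam L K φ l} ⊆
        ⋃ q : ι, (Sigma.mk q) '' {P' | α q b ∈ P'.1} := by
      rintro ⟨q, P'⟩ hl
      rw [Set.mem_iUnion]
      refine ⟨q, P', ?_, rfl⟩
      by_contra hbP
      exact hl (div_mem_Wfam L K φ hφ ⟨q, P'⟩ a b hbP)
    refine Set.Finite.subset (Set.finite_iUnion fun q => Set.Finite.image _ ?_) hsub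
    have hfin : ((Ideal.span {α q b}).minimalPrimes).Finite :=
      Ideal.finite_minimalPrimes_of_isNoetherianRing _ _
    have hpre : {P' : {P : Ideal (T q) // P.IsPrime ∧ P.height = 1 ∧
        ∃ a : A, a ≠ 0 ∧ α q a ∈ P} | α q b ∈ P'.1} ⊆
        Subtype.val ⁻¹' ((Ideal.span {α q b}).minimalPrimes) := by
      rintro ⟨P, hPp, hP1, hPa⟩ hbP
      haveI := hPp
      change P ∈ (Ideal.span {α q b}).minimalPrimes
      have hle : Ideal.span {α q b} ≤ P := by
        rw [Ideal.span_singleton_le_iff_mem]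
        exact hbP
      refine ⟨⟨hPp, hle⟩, ?_⟩
      rintro Q ⟨hQ, hQle⟩ hQP
      haveI := hQ
      have hQ0 : Q ≠ ⊥ := by
        intro hbot
        have : α q b ∈ Q := hQle (Ideal.mem_span_singleton_self _)
        rw [hbot, Ideal.mem_bot, map_eq_zero_iff _ (hα q)] at this
        exact hb0 this
      exact (eq_of_le_of_height_one hP1 hQ0 hQP).ge
    exact Set.Finite.subset (Set.Finite.preimage Subtype.val_injective.injOn hfin) hpre

end family

end Groth.Agent.Helper8.MN
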