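import Mathlib
import Groth.Prelude
import Groth.Agent.Lib.Helper8.NH5

/-!
# Flat descent of ideal membership at a prime, and an integrality criterion
-/

set_option autoImplicit false
universe u

namespace Groth.Agent.Helper8.MN

open IsLocalRing Polynomial

section descent

variable {A Ah : Type u} [CommRing A] [CommRing Ah] [Algebra A Ah] [Module.Flat A Ah]

/-- **Flat descent at a prime.** -/
theorem exists_mul_mem_of_flat (𝔮 : Ideal Ah) [𝔮.IsPrime] (J : Ideal A) (x : A) (γ : Ah)
    (hγ : γ ∉ 𝔮) (h : γ * algebraMap A Ah x ∈ J.map (algebraMap A Ah)) :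
    ∃ s : A, s ∉ 𝔮.comap (algebraMap A Ah) ∧ s * x ∈ J := by
  set p := 𝔮.comap (algebraMap A Ah) with hp
  haveI : p.IsPrime := Ideal.comap_isPrime _ _
  have hflat : (algebraMap A Ah).Flat := RingHom.flat_algebraMap_iff.mpr inferInstance
  have hfl := RingHom.Flat.localRingHom hflat 𝔮 p rfl
  set f := Localization.localRingHom p 𝔮 (algebraMap A Ah) rfl with hf
  haveI : IsLocalHom f := Localization.isLocalHom_localRingHom p 𝔮 (algebraMap A Ah) rfl
  algebraize [f]
  haveI : Module.Flat (Localization.AtPrime p) (Localization.AtPrime 𝔮) := hfl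
  haveI : Module.FaithfullyFlat (Localization.AtPrime p) (Localization.AtPrime 𝔮) :=
    Module.FaithfullyFlat.of_flat_of_isLocalHom
  set JR := J.map (algebraMap A (Localization.AtPrime p)) with hJR
  have hcomm : ∀ y : A, f (algebraMap A (Localization.AtPrime p) y) =
      algebraMap Ah (Localization.AtPrime 𝔮) (algebraMap A Ah y) := fun y =>
    Localization.localRingHom_to_map p 𝔮 (algebraMap A Ah) rfl y
  have hmap : JR.map f = (J.map (algebraMap A Ah)).map (algebraMap Ah (Localization.AtPrime 𝔮)) := by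
    rw [hJR, Ideal.map_map, Ideal.map_map]
    congr 1
    exact RingHom.ext hcomm
  have hx : algebraMap A (Localization.AtPrime p) x ∈ JR := by
    rw [← Ideal.comap_map_eq_self_of_faithfullyFlat (B := Localization.AtPrime 𝔮) JR,
      Ideal.mem_comap]
    change f (algebraMap A (Localization.AtPrime p) x) ∈ JR.map f
    rw [hcomm, hmap]
    have h1 := Ideal.mem_map_of_mem (algebraMap Ah (Localization.AtPrime 𝔮)) h
    rw [map_mul] at h1
    have hu : IsUnit (algebraMap Ah (Localization.AtPrime 𝔮) γ) :=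
      IsLocalization.map_units (Localization.AtPrime 𝔮) (⟨γ, hγ⟩ : 𝔮.primeCompl)
    exact (Ideal.unit_mul_mem_iff_mem _ hu).mp h1
  rw [hJR, IsLocalization.mem_map_algebraMap_iff p.primeCompl] at hx
  obtain ⟨⟨⟨j, hj⟩, s⟩, hjs⟩ := hx
  simp only at hjs
  rw [← map_mul, IsLocalization.eq_iff_exists p.primeCompl] at hjs
  obtain ⟨s', hs'⟩ := hjs
  refine ⟨s' * s, fun hmem => ?_, ?_⟩
  · rcases Ideal.IsPrime.mem_or_mem inferInstance hmem with h1 | h1
    · exact s'.2 h1
    · exact s.2 h1
  · have : (s' : A) * s * x = s' * j := by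
      rw [← hs']
      ring
    rw [this]
    exact Ideal.mul_mem_left _ _ hj

end descent

section expansion

variable {R : Type*} [CommRing R]

/-- The binomial expansion of a nilpotent difference. -/
theorem pow_mul_pow_mem_of_sub_pow_eq_zero (a b c d : R) (k : ℕ) (h : (c * a - d * b) ^ k = 0) :
    d ^ k * b ^ k ∈ Ideal.span (Set.range fun i : Fin k => a ^ (k - (i : ℕ)) * b ^ (i : ℕ)) := by
  have h1 : (-(d * b) + c * a) ^ k = 0 := by
    rw [← h]
    congr 1
    ring
  rw [add_pow, Finset.sum_range_succ] at h1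
  simp only [Nat.sub_self, pow_zero, mul_one, Nat.choose_self, Nat.cast_one] at h1
  have h2 : (-(d * b)) ^ k = -(∑ m ∈ Finset.range k,
      (-(d * b)) ^ m * (c * a) ^ (k - m) * (k.choose m : R)) := by
    rw [eq_neg_iff_add_eq_zero, add_comm]
    exact h1
  have h3 : d ^ k * b ^ k = (-1) ^ k * (-(d * b)) ^ k := by
    rw [← mul_pow, ← mul_pow]
    congr 1
    ring
  rw [h3, h2]
  refine Ideal.mul_mem_left _ _ (neg_mem (Ideal.sum_mem _ fun m hm => ?_))
  have hm' : m < k := Finset.mem_range.mp hm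
  have h4 : (-(d * b)) ^ m * (c * a) ^ (k - m) * (k.choose m : R) =
      ((-d) ^ m * c ^ (k - m) * (k.choose m : R)) *
        (a ^ (k - ((⟨m, hm'⟩ : Fin k) : ℕ)) * b ^ ((⟨m, hm'⟩ : Fin k) : ℕ)) := by
    rw [neg_mul_eq_neg_mul, mul_pow, mul_pow]
    ring
  rw [h4]
  exact Ideal.mul_mem_left _ _ (Ideal.subset_span ⟨⟨m, hm'⟩, rfl⟩)

end expansion

section integral

variable {A Ah : Type u} [CommRing A] [IsDomain A] [CommRing Ah] [Algebra A Ah] [Module.Flat A Ah]
  (K : Type u) [Field K] [Algebra A K] [IsFractionRing A K]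

omit [IsDomain A] in
/-- **Integrality of an inverse from a nilpotent relation in a flat overring.** -/
theorem exists_isIntegral_smul_inv (𝔮 : Ideal Ah) [𝔮.IsPrime] (a b : A) (ha : a ≠ 0)
    (c d : Ah) (hd : d ∉ 𝔮)
    (hnil : IsNilpotent (c * algebraMap A Ah a - d * algebraMap A Ah b)) :
    ∃ s : A, s ∉ 𝔮.comap (algebraMap A Ah) ∧
      IsIntegral A (algebraMap A K s * (algebraMap A K b / algebraMap A K a)) := by
  obtain ⟨k₀, hk₀⟩ := hnil
  obtain ⟨k, hk⟩ : ∃ k : ℕ, (c * algebraMap A Ah a - d * algebraMap A Ah b) ^ (k + 1) = 0 :=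
    ⟨k₀, by rw [pow_succ, hk₀, zero_mul]⟩
  generalize hkk : k + 1 = k' at hk
  have hk'pos : 0 < k' := by omega
  clear hkk k hk₀ k₀
  rename' k' => k
  have h1 := pow_mul_pow_mem_of_sub_pow_eq_zero (algebraMap A Ah a) (algebraMap A Ah b) c d k hk
  set J : Ideal A := Ideal.span (Set.range fun i : Fin k => a ^ (k - (i : ℕ)) * b ^ (i : ℕ)) with hJ
  have h2 : d ^ k * algebraMap A Ah (b ^ k) ∈ J.map (algebraMap A Ah) := by
    rw [hJ, Ideal.map_span, map_pow]
    convert h1 using 2
    ext y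
    constructor
    · rintro ⟨_, ⟨i, rfl⟩, rfl⟩
      exact ⟨i, by simp⟩
    · rintro ⟨i, rfl⟩
      exact ⟨_, ⟨i, rfl⟩, by simp⟩
  obtain ⟨s, hs, hsJ⟩ := exists_mul_mem_of_flat 𝔮 J (b ^ k) (d ^ k)
    (fun hmem => hd (Ideal.IsPrime.mem_of_pow_mem inferInstance k hmem)) h2
  refine ⟨s, hs, ?_⟩
  obtain ⟨r, hr⟩ := (Ideal.mem_span_range_iff_exists_fun).mp hsJ
  have hφa : algebraMap A K a ≠ 0 := by
    rw [Ne, map_eq_zero_iff _ (IsFractionRing.injective A K)]
    exact ha
  have hint := Groth.Agent.Helper8.NH.isIntegral_div_of_pow_eq_sum A K (s * b) a hφa k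
    (fun i => r i * s ^ (k - 1 - (i : ℕ))) (by
      have hk1 : ∀ i : Fin k, k = (k - 1 - (i : ℕ)) + (i : ℕ) + 1 := fun i => by
        have := i.2
        omega
      calc (s * b) ^ k = s ^ (k - 1) * (s * b ^ k) := by
            obtain ⟨k', rfl⟩ := Nat.exists_eq_succ_of_ne_zero (Nat.pos_iff_ne_zero.mp hk'pos)
            rw [mul_pow, Nat.succ_sub_one, pow_succ s k']
            ring
        _ = s ^ (k - 1) * ∑ i : Fin k, r i * (a ^ (k - (i : ℕ)) * b ^ (i : ℕ)) := by
            rw [← hr]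
        _ = ∑ i : Fin k, r i * s ^ (k - 1 - (i : ℕ)) * ((s * b) ^ (i : ℕ) * a ^ (k - (i : ℕ))) := by
            rw [Finset.mul_sum]
            refine Finset.sum_congr rfl fun i _ => ?_
            have h3 : s ^ (k - 1) = s ^ (k - 1 - (i : ℕ)) * s ^ (i : ℕ) := by
              rw [← pow_add]
              congr 1
              have := i.2
              omega
            rw [h3, mul_pow]
            ring)
  rw [map_mul] at hint
  rw [mul_div_assoc] at hint
  exact hint

end integral

end Groth.Agent.Helper8.MN
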