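import Mathlib
import Groth.Prelude
import Groth.Agent.Lib.Helper8.MN7
import Groth.Agent.Lib.Helper8.MN8

/-!
# Branch systems: members not containing the conductor have a unique prime below
-/

set_option autoImplicit false
universe u

namespace Groth.Agent.Helper8.MN

open IsLocalRing Polynomial

section system

variable {ι : Type u} (T : ι → Type u) (L : ι → Type u)
  [∀ q, CommRing (T q)] [∀ q, IsDomain (T q)] [∀ q, IsNoetherianRing (T q)]
  [∀ q, IsIntegrallyClosed (T q)] [∀ q, Field (L q)] [∀ q, Algebra (T q) (L q)]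
  [∀ q, IsFractionRing (T q) (L q)]
  (A : Type u) [CommRing A] [IsDomain A] (K : Type u) [Field K] [Algebra A K] [IsFractionRing A K]
  (Ah : Type u) [CommRing Ah] [Algebra A Ah]
  (π : ∀ q, Ah →+* T q) (φ : ∀ q, K →+* L q)

/-- The maps `A → T q`. -/
def alph (q : ι) : A →+* T q := (π q).comp (algebraMap A Ah)

/-- A finite system of Noetherian normal domains over a flat `A`-algebra detecting integrality
over `A`, with conductor elements. -/
structure IsBranchSystem : Prop where
  hφ : ∀ q a, φ q (algebraMap A K a) = algebraMap (T q) (L q) (alph T A Ah π q a)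
  inj : ∀ q, Function.Injective (alph T A Ah π q)
  hint : ∀ x : K, IsIntegral A x ↔ ∀ q, φ q x ∈ Set.range (algebraMap (T q) (L q))
  nil : ∀ x : Ah, (∀ q, π q x = 0) → IsNilpotent x
  cond : ∀ q, ∃ f : Ah, π q f ≠ 0 ∧ (∀ q', q' ≠ q → π q' f = 0) ∧
    ∀ y : T q, ∃ a : Ah, π q f * y = π q a

variable {T L A K Ah π φ} (hS : IsBranchSystem T L A K Ah π φ)

/-- The conductor element of a branch. -/
noncomputable def IsBranchSystem.f (q : ι) : Ah := Classical.choose (hS.cond q)

omit [∀ q, IsDomain (T q)] [∀ q, IsNoetherianRing (T q)] [∀ q, IsIntegrallyClosed (T q)]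
  [∀ q, IsFractionRing (T q) (L q)] [IsDomain A] [IsFractionRing A K] in
include hS in
theorem IsBranchSystem.f_ne_zero (q : ι) : π q (hS.f q) ≠ 0 :=
  (Classical.choose_spec (hS.cond q)).1

omit [∀ q, IsDomain (T q)] [∀ q, IsNoetherianRing (T q)] [∀ q, IsIntegrallyClosed (T q)]
  [∀ q, IsFractionRing (T q) (L q)] [IsDomain A] [IsFractionRing A K] in
include hS in
theorem IsBranchSystem.f_eq_zero (q q' : ι) (h : q' ≠ q) : π q' (hS.f q) = 0 :=
  (Classical.choose_spec (hS.cond q)).2.1 q' h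

omit [∀ q, IsDomain (T q)] [∀ q, IsNoetherianRing (T q)] [∀ q, IsIntegrallyClosed (T q)]
  [∀ q, IsFractionRing (T q) (L q)] [IsDomain A] [IsFractionRing A K] in
include hS in
theorem IsBranchSystem.f_mul (q : ι) (y : T q) : ∃ a : Ah, π q (hS.f q) * y = π q a :=
  (Classical.choose_spec (hS.cond q)).2.2 y

omit [∀ q, IsDomain (T q)] [∀ q, IsNoetherianRing (T q)] [∀ q, IsIntegrallyClosed (T q)]
  [∀ q, IsFractionRing (T q) (L q)] [IsDomain A] [IsFractionRing A K] in
include hS in
theorem IsBranchSystem.isNilpotent_f_mul (q : ι) (x : Ah) (hx : π q x = 0) :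
    IsNilpotent (hS.f q * x) := by
  apply hS.nil
  intro q'
  by_cases h : q' = q
  · subst h
    rw [map_mul, hx, mul_zero]
  · rw [map_mul, hS.f_eq_zero q q' h, zero_mul]

/-- **Inverses in the localization**, for a member of the family not containing the conductor. -/
theorem IsBranchSystem.exists_isIntegral_smul_inv [Module.Flat A Ah]
    (l : Lam T A (alph T A Ah π)) (hgood : π l.1 (hS.f l.1) ∉ l.2.1)
    (x : K) (hx0 : x ≠ 0) (hx : φ l.1 x ∈ valSub (T l.1) (L l.1) l.2.1 l.height)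
    (hx' : (φ l.1 x)⁻¹ ∈ valSub (T l.1) (L l.1) l.2.1 l.height) :
    ∃ s : A, alph T A Ah π l.1 s ∉ l.2.1 ∧ IsIntegral A (algebraMap A K s * x⁻¹) := by
  obtain ⟨q, P, hPp, hP1, hPa⟩ := l
  haveI := hPp
  change π q (hS.f q) ∉ P at hgood
  change φ q x ∈ valSub (T q) (L q) P hP1 at hx
  change (φ q x)⁻¹ ∈ valSub (T q) (L q) P hP1 at hx'
  change ∃ s : A, alph T A Ah π q s ∉ P ∧ IsIntegral A (algebraMap A K s * x⁻¹)
  obtain ⟨a, b, hb, rfl⟩ := IsFractionRing.div_surjective (A := A) x
  have hb0 : b ≠ 0 := nonZeroDivisors.ne_zero hb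
  have ha0 : a ≠ 0 := by
    rintro rfl
    rw [map_zero, zero_div] at hx0
    exact hx0 rfl
  have hinjT := IsFractionRing.injective (T q) (L q)
  have haL : algebraMap (T q) (L q) (alph T A Ah π q a) ≠ 0 := by
    rw [Ne, map_eq_zero_iff _ hinjT, map_eq_zero_iff _ (hS.inj q)]
    exact ha0
  have hbL : algebraMap (T q) (L q) (alph T A Ah π q b) ≠ 0 := by
    rw [Ne, map_eq_zero_iff _ hinjT, map_eq_zero_iff _ (hS.inj q)]
    exact hb0
  rw [map_div₀, hS.hφ, hS.hφ, mem_valSub_iff, Groth.Agent.Helper8.NH.mem_locSub_iff] at hx hx'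
  obtain ⟨c, s₁, hs₁, hτ⟩ := hx
  obtain ⟨c', s₂, hs₂, hτ'⟩ := hx'
  have hs₁0 : algebraMap (T q) (L q) s₁ ≠ 0 := by
    rw [Ne, map_eq_zero_iff _ hinjT]
    rintro rfl
    exact hs₁ (zero_mem _)
  have hs₂0 : algebraMap (T q) (L q) s₂ ≠ 0 := by
    rw [Ne, map_eq_zero_iff _ hinjT]
    rintro rfl
    exact hs₂ (zero_mem _)
  have e1 : alph T A Ah π q a * s₁ = alph T A Ah π q b * c := by
    apply hinjT
    rw [map_mul, map_mul]
    field_simp at hτ
    rw [hτ]
  have e2 : c * c' = s₁ * s₂ := by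
    apply hinjT
    rw [map_mul, map_mul]
    have h1 : algebraMap (T q) (L q) (alph T A Ah π q a) / algebraMap (T q) (L q) (alph T A Ah π q b) *
        (algebraMap (T q) (L q) (alph T A Ah π q a) /
          algebraMap (T q) (L q) (alph T A Ah π q b))⁻¹ = 1 :=
      mul_inv_cancel₀ (div_ne_zero haL hbL)
    rw [hτ'] at h1
    rw [hτ] at h1
    field_simp at h1
    exact h1
  have hc : c ∉ P := by
    intro hcP
    have : s₁ * s₂ ∈ P := by
      rw [← e2]
      exact Ideal.mul_mem_right _ _ hcP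
    rcases Ideal.IsPrime.mem_or_mem inferInstance this with h | h
    · exact hs₁ h
    · exact hs₂ h
  obtain ⟨α₀, hα₀⟩ := hS.f_mul q c
  obtain ⟨β₀, hβ₀⟩ := hS.f_mul q s₁
  have hker : π q (β₀ * algebraMap A Ah a - α₀ * algebraMap A Ah b) = 0 := by
    rw [map_sub, map_mul, map_mul, ← hβ₀, ← hα₀]
    have ea : π q (algebraMap A Ah a) = alph T A Ah π q a := rfl
    have eb : π q (algebraMap A Ah b) = alph T A Ah π q b := rfl
    rw [ea, eb]
    linear_combination (π q (hS.f q)) * e1
  have hnil := hS.isNilpotent_f_mul q _ hker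
  have hd : hS.f q * α₀ ∉ P.comap (π q) := by
    rw [Ideal.mem_comap, map_mul, ← hα₀]
    intro hmem
    rcases Ideal.IsPrime.mem_or_mem inferInstance hmem with h | h
    · exact hgood h
    · rcases Ideal.IsPrime.mem_or_mem inferInstance h with h' | h'
      · exact hgood h'
      · exact hc h'
  haveI : (P.comap (π q)).IsPrime := Ideal.comap_isPrime _ _
  obtain ⟨s, hs, hint⟩ := _root_.Groth.Agent.Helper8.MN.exists_isIntegral_smul_inv K (P.comap (π q)) a b ha0
    (hS.f q * β₀) (hS.f q * α₀) hd (by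
      have : hS.f q * β₀ * algebraMap A Ah a - hS.f q * α₀ * algebraMap A Ah b =
          hS.f q * (β₀ * algebraMap A Ah a - α₀ * algebraMap A Ah b) := by ring
      rw [this]
      exact hnil)
  refine ⟨s, hs, ?_⟩
  rw [inv_div]
  exact hint

end system

end Groth.Agent.Helper8.MN
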