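import Mathlib
import Groth.Prelude
import Groth.Agent.Lib.Helper8.MN9

/-!
# Branch systems: uniqueness of the prime of the integral closure below a good member
-/

set_option autoImplicit false
universe u

namespace Groth.Agent.Helper8.MN

open IsLocalRing Polynomial

section system

variable {ι : Type u} {T : ι → Type u} {L : ι → Type u}
  [∀ q, CommRing (T q)] [∀ q, IsDomain (T q)] [∀ q, IsNoetherianRing (T q)]
  [∀ q, IsIntegrallyClosed (T q)] [∀ q, Field (L q)] [∀ q, Algebra (T q) (L q)]
  [∀ q, IsFractionRing (T q) (L q)]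
  {A : Type u} [CommRing A] [IsDomain A] {K : Type u} [Field K] [Algebra A K] [IsFractionRing A K]
  {Ah : Type u} [CommRing Ah] [Algebra A Ah]
  {π : ∀ q, Ah →+* T q} {φ : ∀ q, K →+* L q}

omit [∀ q, IsDomain (T q)] [∀ q, IsIntegrallyClosed (T q)] [∀ q, IsNoetherianRing (T q)] in
/-- Finitely many members of the family contain a given family of nonzero elements. -/
theorem finite_setOf_mem_Lam [∀ q, IsDomain (T q)] [∀ q, IsNoetherianRing (T q)] [Finite ι]
    (α : ∀ q, A →+* T q) (c : ∀ q, T q)
    (hc : ∀ q, c q ≠ 0) : {l : Lam T A α | c l.1 ∈ l.2.1}.Finite := by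
  classical
  have hsub : {l : Lam T A α | c l.1 ∈ l.2.1} ⊆
      ⋃ q : ι, (Sigma.mk q) '' {P' | c q ∈ P'.1} := by
    rintro ⟨q, P'⟩ hl
    rw [Set.mem_iUnion]
    exact ⟨q, P', hl, rfl⟩
  refine Set.Finite.subset (Set.finite_iUnion fun q => Set.Finite.image _ ?_) hsub
  have hfin : ((Ideal.span {c q}).minimalPrimes).Finite :=
    Ideal.finite_minimalPrimes_of_isNoetherianRing _ _
  have hpre : {P' : {P : Ideal (T q) // P.IsPrime ∧ P.height = 1 ∧
      ∃ a : A, a ≠ 0 ∧ α q a ∈ P} | c q ∈ P'.1} ⊆
      Subtype.val ⁻¹' ((Ideal.span {c q}).minimalPrimes) := by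
    rintro ⟨P, hPp, hP1, hPa⟩ hbP
    haveI := hPp
    change P ∈ (Ideal.span {c q}).minimalPrimes
    have hle : Ideal.span {c q} ≤ P := by
      rw [Ideal.span_singleton_le_iff_mem]
      exact hbP
    refine ⟨⟨hPp, hle⟩, ?_⟩
    rintro Q ⟨hQ, hQle⟩ hQP
    haveI := hQ
    have hQ0 : Q ≠ ⊥ := by
      intro hbot
      have : c q ∈ Q := hQle (Ideal.mem_span_singleton_self _)
      rw [hbot, Ideal.mem_bot] at this
      exact hc q this
    exact (eq_of_le_of_height_one hP1 hQ0 hQP).ge
  exact Set.Finite.subset (Set.Finite.preimage Subtype.val_injective.injOn hfin) hpre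

variable (hS : IsBranchSystem T L A K Ah π φ)

include hS in
/-- Finitely many members of the family contain the conductor. -/
theorem IsBranchSystem.finite_bad [Finite ι] :
    {l : Lam T A (alph T A Ah π) | π l.1 (hS.f l.1) ∈ l.2.1}.Finite :=
  finite_setOf_mem_Lam (alph T A Ah π) (fun q => π q (hS.f q)) (fun q => hS.f_ne_zero q)

/-- **Uniqueness below a good member**, one inclusion. -/
theorem IsBranchSystem.le_of_comap_eq [Module.Flat A Ah]
    (l : Lam T A (alph T A Ah π)) (hgood : π l.1 (hS.f l.1) ∉ l.2.1)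
    (P₁ P₂ : Ideal (integralClosure A K)) [P₁.IsPrime] [P₂.IsPrime]
    (h₁ : P₁.comap (algebraMap A (integralClosure A K)) = l.2.1.comap (alph T A Ah π l.1))
    (h₂ : P₂.comap (algebraMap A (integralClosure A K)) = l.2.1.comap (alph T A Ah π l.1)) :
    P₁ ≤ P₂ := by
  by_contra hnle
  obtain ⟨e₁, he₁, he₁'⟩ := Set.not_subset.mp hnle
  have hinjK := IsFractionRing.injective A K
  obtain ⟨g, hg, hg0⟩ := (Algebra.IsIntegral.isIntegral (R := A) e₁ : IsIntegral A e₁)
  set J : Ideal (integralClosure A K) := P₂ ⊔ Ideal.span {e₁} with hJ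
  have hIJ : P₂ ≤ J := le_sup_left
  have hr : e₁ ∈ (J : Set (integralClosure A K)) \ P₂ :=
    ⟨Ideal.mem_sup_right (Ideal.mem_span_singleton_self _), he₁'⟩
  haveI : (P₂.comap (algebraMap A (integralClosure A K))).IsPrime := Ideal.comap_isPrime _ _
  have hne : g.map (Ideal.Quotient.mk (P₂.comap (algebraMap A (integralClosure A K)))) ≠ 0 :=
    (hg.map _).ne_zero
  obtain ⟨i, hi, hi'⟩ := Ideal.exists_coeff_mem_comap_sdiff_comap_of_root_mem_sdiff hIJ hr hne
    (by rw [hg0]; exact zero_mem _)
  set s := g.coeff i with hs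
  obtain ⟨y, hy, z, hz, hyz⟩ := Submodule.mem_sup.mp hi
  obtain ⟨d, rfl⟩ := Ideal.mem_span_singleton'.mp hz
  -- the data of the member
  obtain ⟨q, P, hPp, hP1, hPa⟩ := l
  haveI := hPp
  change π q (hS.f q) ∉ P at hgood
  change P₁.comap (algebraMap A (integralClosure A K)) = P.comap (alph T A Ah π q) at h₁
  change P₂.comap (algebraMap A (integralClosure A K)) = P.comap (alph T A Ah π q) at h₂
  have hsP : alph T A Ah π q s ∉ P := by
    intro hmem
    apply hi'
    change s ∈ P₂.comap (algebraMap A (integralClosure A K))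
    rw [h₂]
    exact hmem
  have hs0 : s ≠ 0 := by
    rintro h0
    rw [h0, map_zero] at hsP
    exact hsP (zero_mem _)
  have hsK : algebraMap A K s ≠ 0 := by
    rw [Ne, map_eq_zero_iff _ hinjK]
    exact hs0
  have hyzK : (y : K) + ((d * e₁ : integralClosure A K) : K) = algebraMap A K s := by
    have := congrArg (Subtype.val : integralClosure A K → K) hyz
    exact this
  have hde0 : ((d * e₁ : integralClosure A K) : K) ≠ 0 := by
    intro h0
    apply hi'
    have h1 : d * e₁ = 0 := Subtype.ext h0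
    rw [h1, add_zero] at hyz
    change algebraMap A (integralClosure A K) s ∈ P₂
    rw [← hyz]
    exact hy
  set V := valSub (T q) (L q) P hP1 with hV
  have hrangeV : ∀ w : integralClosure A K, φ q (w : K) ∈ V := by
    intro w
    obtain ⟨t, ht⟩ := (hS.hint (w : K)).mp w.2 q
    rw [← ht]
    exact algebraMap_mem_valSub _ _ _ _ t
  have hsV : (φ q (algebraMap A K s))⁻¹ ∈ V := by
    rw [hS.hφ, hV, mem_valSub_iff, Groth.Agent.Helper8.NH.mem_locSub_iff]
    exact ⟨1, _, hsP, by rw [map_one, one_mul]⟩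
  set x : K := ((d * e₁ : integralClosure A K) : K) / algebraMap A K s with hx
  have hx0 : x ≠ 0 := div_ne_zero hde0 hsK
  have hxV : φ q x ∈ V := by
    rw [hx, map_div₀, div_eq_mul_inv]
    exact V.mul_mem _ _ (hrangeV _) hsV
  let l' : Lam T A (alph T A Ah π) := ⟨q, P, hPp, hP1, hPa⟩
  by_cases hcase : (φ q x)⁻¹ ∈ V
  · obtain ⟨s', hs', hint⟩ := hS.exists_isIntegral_smul_inv l' hgood x hx0 hxV hcase
    change alph T A Ah π q s' ∉ P at hs'
    have hmem : algebraMap A (integralClosure A K) (s' * s) ∈ P₁ := by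
      have : algebraMap A (integralClosure A K) (s' * s) =
          (⟨algebraMap A K s' * x⁻¹, hint⟩ : integralClosure A K) * (d * e₁) := by
        apply Subtype.ext
        change algebraMap A K (s' * s) = algebraMap A K s' * x⁻¹ *
          ((d * e₁ : integralClosure A K) : K)
        rw [hx, map_mul, inv_div]
        field_simp
      rw [this, ← mul_assoc]
      exact Ideal.mul_mem_left _ _ he₁
    have h3 : s' * s ∈ P₁.comap (algebraMap A (integralClosure A K)) := hmem
    rw [h₁, Ideal.mem_comap, map_mul] at h3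
    rcases Ideal.IsPrime.mem_or_mem inferInstance h3 with h | h
    · exact hs' h
    · exact hsP h
  · have hnon : φ q x ∈ V.nonunits := mem_nonunits_of_notMem_inv V hcase
    have hx1 : (1 : K) - x ≠ 0 := by
      intro h0
      have : x = 1 := (sub_eq_zero.mp h0).symm
      rw [this, map_one] at hnon
      have := inv_notMem_of_mem_nonunits V hnon one_ne_zero
      rw [inv_one] at this
      exact this V.one_mem
    have hx1V : φ q (1 - x) ∈ V := by
      rw [map_sub, map_one]
      exact sub_mem V.one_mem hxV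
    have hx1V' : (φ q (1 - x))⁻¹ ∈ V := by
      by_contra hcon
      have h1 : φ q (1 - x) ∈ V.nonunits := mem_nonunits_of_notMem_inv V hcon
      have h2 : (1 : L q) ∈ V.nonunits := by
        have := V.nonunits.add_mem hnon h1
        rwa [map_sub, map_one, add_sub_cancel] at this
      have := inv_notMem_of_mem_nonunits V h2 one_ne_zero
      rw [inv_one] at this
      exact this V.one_mem
    obtain ⟨s', hs', hint⟩ := hS.exists_isIntegral_smul_inv l' hgood (1 - x) hx1 hx1V hx1V'
    change alph T A Ah π q s' ∉ P at hs'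
    have hx1eq : 1 - x = (y : K) / algebraMap A K s := by
      rw [hx, eq_div_iff hsK, sub_mul, one_mul, div_mul_cancel₀ _ hsK, ← hyzK]
      ring
    have hy0 : (y : K) ≠ 0 := by
      intro h0
      rw [hx1eq, h0, zero_div] at hx1
      exact hx1 rfl
    have hmem : algebraMap A (integralClosure A K) (s' * s) ∈ P₂ := by
      have : algebraMap A (integralClosure A K) (s' * s) =
          (⟨algebraMap A K s' * (1 - x)⁻¹, hint⟩ : integralClosure A K) * y := by
        apply Subtype.ext
        change algebraMap A K (s' * s) = algebraMap A K s' * (1 - x)⁻¹ * (y : K)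
        rw [hx1eq, map_mul, inv_div]
        field_simp
      rw [this]
      exact Ideal.mul_mem_left _ _ hy
    have h3 : s' * s ∈ P₂.comap (algebraMap A (integralClosure A K)) := hmem
    rw [h₂, Ideal.mem_comap, map_mul] at h3
    rcases Ideal.IsPrime.mem_or_mem inferInstance h3 with h | h
    · exact hs' h
    · exact hsP h

/-- **Uniqueness below a good member.** -/
theorem IsBranchSystem.eq_of_comap_eq [Module.Flat A Ah]
    (l : Lam T A (alph T A Ah π)) (hgood : π l.1 (hS.f l.1) ∉ l.2.1)
    (P₁ P₂ : Ideal (integralClosure A K)) [P₁.IsPrime] [P₂.IsPrime]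
    (h₁ : P₁.comap (algebraMap A (integralClosure A K)) = l.2.1.comap (alph T A Ah π l.1))
    (h₂ : P₂.comap (algebraMap A (integralClosure A K)) = l.2.1.comap (alph T A Ah π l.1)) :
    P₁ = P₂ :=
  le_antisymm (hS.le_of_comap_eq l hgood P₁ P₂ h₁ h₂) (hS.le_of_comap_eq l hgood P₂ P₁ h₂ h₁)

end system

end Groth.Agent.Helper8.MN
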