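import Mathlib
import Groth.Prelude
import Groth.Agent.S0499

/-!
# Domains integral over henselian local rings are local; minimal primes under injective maps
-/

set_option autoImplicit false
universe u

namespace Groth.Agent.Helper8.IntClSemi

theorem isLocalRing_of_finite_domain (A : Type u) [CommRing A] [HenselianLocalRing A]
    (C : Type u) [CommRing C] [IsDomain C] [Algebra A C] [Module.Finite A C] : IsLocalRing C := by
  classical
  obtain ⟨ι, hι, B, hB, hloc, ⟨ψ⟩⟩ := Groth.Agent.S0499.result A C
  haveI := hloc
  have hne : Nonempty ι := by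
    by_contra hempty
    rw [not_nonempty_iff] at hempty
    have : (1 : C) = 0 := ψ.injective (Subsingleton.elim _ _)
    exact one_ne_zero this
  have hsub : Subsingleton ι := by
    constructor
    intro i j
    by_contra hij
    have h1 : (Pi.single i (1 : B i) : ∀ k, B k) * Pi.single j (1 : B j) = 0 := by
      ext k
      by_cases hk : k = i
      · subst hk
        simp [Pi.single_eq_of_ne hij]
      · simp [Pi.single_eq_of_ne hk]
    have h2 : ψ.symm (Pi.single i (1 : B i)) * ψ.symm (Pi.single j (1 : B j)) = 0 := by
      rw [← map_mul, h1, map_zero]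
    rcases mul_eq_zero.mp h2 with h3 | h3
    · have h4 := congrArg ψ h3
      rw [RingEquiv.apply_symm_apply, map_zero] at h4
      have h5 := congrFun h4 i
      simp at h5
    · have h4 := congrArg ψ h3
      rw [RingEquiv.apply_symm_apply, map_zero] at h4
      have h5 := congrFun h4 j
      simp at h5
  obtain ⟨i₀⟩ := hne
  haveI : Unique ι := ⟨⟨i₀⟩, fun j => Subsingleton.elim _ _⟩
  exact RingEquiv.isLocalRing (ψ.trans (RingEquiv.piUnique B)).symm

theorem isLocalRing_of_integral_domain (R : Type u) [CommRing R] [HenselianLocalRing R]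
    (D : Type u) [CommRing D] [IsDomain D] [Algebra R D] [Algebra.IsIntegral R D] :
    IsLocalRing D := by
  apply IsLocalRing.of_isUnit_or_isUnit_one_sub_self
  intro x
  let Dx : Subalgebra R D := Algebra.adjoin R {x}
  haveI : Module.Finite R Dx :=
    Module.Finite.of_fg (Algebra.IsIntegral.isIntegral x).fg_adjoin_singleton
  haveI : IsLocalRing Dx := isLocalRing_of_finite_domain R Dx
  let x' : Dx := ⟨x, Algebra.subset_adjoin (Set.mem_singleton x)⟩
  rcases IsLocalRing.isUnit_or_isUnit_one_sub_self x' with h | h
  · left
    exact h.map Dx.val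
  · right
    have := h.map Dx.val
    simpa [x'] using this

theorem finite_minimalPrimes_of_injective {T W : Type*} [CommRing T] [CommRing W]
    [IsNoetherianRing W] (f : T →+* W) (hf : Function.Injective f) :
    (minimalPrimes T).Finite := by
  refine ((minimalPrimes.finite_of_isNoetherianRing W).image (Ideal.comap f)).subset ?_
  intro Q hQ
  have hQ' : Q ∈ ((⊥ : Ideal W).comap f).minimalPrimes := by
    rwa [Ideal.comap_bot_of_injective f hf]
  obtain ⟨Q', hQ'min, hQ'eq⟩ := Ideal.exists_minimalPrimes_comap_eq f Q hQ'
  exact ⟨Q', hQ'min, hQ'eq⟩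

end Groth.Agent.Helper8.IntClSemi
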