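import Mathlib
import Groth.Prelude

/-!
# Noetherianity of the tensor product of a Noetherian algebra with a finite extension of the fraction field
-/

set_option autoImplicit false
universe u

namespace Groth.Agent.Helper8.IntClSemi

open TensorProduct

theorem isNoetherianRing_tensor (A : Type*) [CommRing A] [IsDomain A] (R : Type*) [CommRing R]
    [Algebra A R] [IsNoetherianRing R] (K' : Type*) [Field K'] [Algebra A K']
    [Algebra (FractionRing A) K'] [IsScalarTower A (FractionRing A) K']
    [FiniteDimensional (FractionRing A) K'] : IsNoetherianRing (R ⊗[A] K') := by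
  classical
  haveI : IsNoetherianRing (R ⊗[A] FractionRing A) :=
    IsLocalization.isNoetherianRing (Algebra.algebraMapSubmonoid R (nonZeroDivisors A)) _
      inferInstance
  let g : R ⊗[A] FractionRing A →ₐ[A] R ⊗[A] K' :=
    Algebra.TensorProduct.map (AlgHom.id A R) (IsScalarTower.toAlgHom A (FractionRing A) K')
  letI : Algebra (R ⊗[A] FractionRing A) (R ⊗[A] K') := g.toRingHom.toAlgebra
  have hsmul : ∀ (n : R ⊗[A] FractionRing A) (w : R ⊗[A] K'), n • w = g n * w := fun _ _ => rfl
  obtain ⟨d, b, hb⟩ := Module.Finite.exists_fin (R := FractionRing A) (M := K')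
  haveI : Module.Finite (R ⊗[A] FractionRing A) (R ⊗[A] K') := by
    refine ⟨⟨Finset.univ.image fun i => (1 : R) ⊗ₜ[A] b i, ?_⟩⟩
    rw [eq_top_iff]
    intro w hw
    clear hw
    induction w using TensorProduct.induction_on with
    | zero => exact Submodule.zero_mem _
    | add x y hx hy => exact Submodule.add_mem _ hx hy
    | tmul r x =>
      have hx : x ∈ Submodule.span (FractionRing A) (Set.range b) := by rw [hb]; trivial
      induction hx using Submodule.span_induction with
      | zero => rw [TensorProduct.tmul_zero]; exact Submodule.zero_mem _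
      | add y z _ _ hy hz => rw [TensorProduct.tmul_add]; exact Submodule.add_mem _ hy hz
      | mem y hy =>
        obtain ⟨i, rfl⟩ := hy
        have h1 : r ⊗ₜ[A] b i = (r ⊗ₜ[A] (1 : FractionRing A)) • ((1 : R) ⊗ₜ[A] b i) := by
          rw [hsmul]
          simp [g]
        rw [h1]
        refine Submodule.smul_mem _ _ (Submodule.subset_span ?_)
        simp
      | smul c y _ hy =>
        have h1 : r ⊗ₜ[A] (c • y) = ((1 : R) ⊗ₜ[A] c) • (r ⊗ₜ[A] y) := by
          rw [hsmul]
          simp [g, Algebra.smul_def]
        rw [h1]
        exact Submodule.smul_mem _ _ hy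
  exact Algebra.FiniteType.isNoetherianRing (R ⊗[A] FractionRing A) (R ⊗[A] K')

end Groth.Agent.Helper8.IntClSemi
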