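import Mathlib
import Groth.Prelude
import Groth.Agent.Lib.Helper8.IntClSemi1
import Groth.Agent.Lib.Helper8.IntClSemi2
import Groth.Agent.Lib.Helper8.AdicReg1
import Groth.Agent.Lib.Helper8.GRing3

/-!
# The integral closure of a Noetherian local domain in a finite extension is semi-local
-/

set_option autoImplicit false
universe u

namespace Groth.Agent.Helper8.IntClSemi

open TensorProduct IsLocalRing

section

variable (A : Type u) [CommRing A] [IsDomain A] [IsLocalRing A] [IsNoetherianRing A]
  (K' : Type u) [Field K'] [Algebra A K'] [Algebra (FractionRing A) K']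
  [IsScalarTower A (FractionRing A) K'] [FiniteDimensional (FractionRing A) K']

theorem finite_minimalPrimes_tensor :
    (minimalPrimes (AdicCompletion (maximalIdeal A) A ⊗[A] integralClosure A K')).Finite := by
  haveI : IsNoetherianRing (AdicCompletion (maximalIdeal A) A) :=
    Groth.Agent.Helper8.AdicReg.isNoetherianRing A _
  haveI : IsNoetherianRing (AdicCompletion (maximalIdeal A) A ⊗[A] K') :=
    isNoetherianRing_tensor A _ K'
  let jr : AdicCompletion (maximalIdeal A) A ⊗[A] integralClosure A K' →ₐ[A]
      AdicCompletion (maximalIdeal A) A ⊗[A] K' :=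
    Algebra.TensorProduct.map (AlgHom.id A _) (integralClosure A K').val
  have hjr : Function.Injective jr := by
    have := Module.Flat.lTensor_preserves_injective_linearMap
      (M := AdicCompletion (maximalIdeal A) A) (integralClosure A K').val.toLinearMap
      Subtype.val_injective
    exact this
  exact finite_minimalPrimes_of_injective jr.toRingHom hjr

/-- Lying over for maximal ideals along `A' → Â ⊗ A'`. -/
theorem exists_maximal_comap_eq (n' : Ideal (integralClosure A K')) [n'.IsMaximal] :
    ∃ M : Ideal (AdicCompletion (maximalIdeal A) A ⊗[A] integralClosure A K'), M.IsMaximal ∧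
      M.comap (Algebra.TensorProduct.includeRight :
        integralClosure A K' →ₐ[A] AdicCompletion (maximalIdeal A) A ⊗[A] integralClosure A K').toRingHom
        = n' := by
  haveI : Module.FaithfullyFlat A (AdicCompletion (maximalIdeal A) A) :=
    Module.FaithfullyFlat.of_flat_of_isLocalHom
  obtain ⟨M₁, hM₁⟩ := PrimeSpectrum.comap_surjective_of_faithfullyFlat
    (A := integralClosure A K')
    (B := integralClosure A K' ⊗[A] AdicCompletion (maximalIdeal A) A) ⟨n', inferInstance⟩
  let c := (Algebra.TensorProduct.comm A (AdicCompletion (maximalIdeal A) A)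
    (integralClosure A K')).toAlgHom.toRingHom
  let M' := M₁.asIdeal.comap c
  haveI : M'.IsPrime := Ideal.comap_isPrime c _
  have hM' : M'.comap (Algebra.TensorProduct.includeRight :
        integralClosure A K' →ₐ[A] AdicCompletion (maximalIdeal A) A ⊗[A] integralClosure A K').toRingHom
        = n' := by
    have h1 : (PrimeSpectrum.comap (algebraMap (integralClosure A K')
        (integralClosure A K' ⊗[A] AdicCompletion (maximalIdeal A) A)) M₁).asIdeal = n' :=
      congrArg PrimeSpectrum.asIdeal hM₁
    rw [← h1]
    ext a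
    simp only [M', Ideal.mem_comap]
    rfl
  obtain ⟨M, hMmax, hMle⟩ := Ideal.exists_le_maximal M' (Ideal.IsPrime.ne_top inferInstance)
  refine ⟨M, hMmax, ?_⟩
  have hle : n' ≤ M.comap (Algebra.TensorProduct.includeRight :
        integralClosure A K' →ₐ[A] AdicCompletion (maximalIdeal A) A ⊗[A] integralClosure A K').toRingHom := by
    rw [← hM']
    exact Ideal.comap_mono hMle
  have hne : M.comap (Algebra.TensorProduct.includeRight :
        integralClosure A K' →ₐ[A] AdicCompletion (maximalIdeal A) A ⊗[A] integralClosure A K').toRingHom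
        ≠ ⊤ := Ideal.comap_ne_top _ hMmax.ne_top
  exact ((inferInstance : n'.IsMaximal).eq_of_le hne hle).symm

/-- The quotient of `Â ⊗ A'` by a prime is a local domain. -/
theorem isLocalRing_quotient
    (Q : Ideal (AdicCompletion (maximalIdeal A) A ⊗[A] integralClosure A K')) [Q.IsPrime] :
    IsLocalRing ((AdicCompletion (maximalIdeal A) A ⊗[A] integralClosure A K') ⧸ Q) := by
  haveI : HenselianLocalRing (AdicCompletion (maximalIdeal A) A) :=
    Groth.Agent.Helper8.GRing.henselianLocalRing_of_isAdicComplete _
  haveI : Algebra.IsIntegral (AdicCompletion (maximalIdeal A) A)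
      ((AdicCompletion (maximalIdeal A) A ⊗[A] integralClosure A K') ⧸ Q) :=
    Algebra.IsIntegral.of_surjective
      (A := AdicCompletion (maximalIdeal A) A ⊗[A] integralClosure A K')
      (Ideal.Quotient.mkₐ (AdicCompletion (maximalIdeal A) A) Q) Ideal.Quotient.mk_surjective
  exact isLocalRing_of_integral_domain (AdicCompletion (maximalIdeal A) A)
    ((AdicCompletion (maximalIdeal A) A ⊗[A] integralClosure A K') ⧸ Q)

theorem finite_maximal : {m : Ideal (integralClosure A K') | m.IsMaximal}.Finite := by
  classical
  have hfin := finite_minimalPrimes_tensor A K'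
  let ι' := (Algebra.TensorProduct.includeRight :
        integralClosure A K' →ₐ[A] AdicCompletion (maximalIdeal A) A ⊗[A] integralClosure A K').toRingHom
  let F : ∀ Q ∈ minimalPrimes (AdicCompletion (maximalIdeal A) A ⊗[A] integralClosure A K'),
      Ideal (integralClosure A K') := fun Q hQ =>
    haveI : Q.IsPrime := hQ.isPrime
    haveI := isLocalRing_quotient A K' Q
    (maximalIdeal ((AdicCompletion (maximalIdeal A) A ⊗[A] integralClosure A K') ⧸ Q)).comap
      ((Ideal.Quotient.mk Q).comp ι')
  refine (Set.Finite.dependent_image hfin F).subset ?_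
  intro n' hn'
  haveI : n'.IsMaximal := hn'
  obtain ⟨M, hMmax, hM⟩ := exists_maximal_comap_eq A K' n'
  obtain ⟨Q, hQ, hQM⟩ := Ideal.exists_minimalPrimes_le (bot_le : ⊥ ≤ M)
  refine ⟨Q, hQ, ?_⟩
  haveI : Q.IsPrime := hQ.isPrime
  haveI := isLocalRing_quotient A K' Q
  have hcm : (M.map (Ideal.Quotient.mk Q)).comap (Ideal.Quotient.mk Q) = M := by
    rw [Ideal.comap_map_of_surjective _ Ideal.Quotient.mk_surjective,
      ← RingHom.ker_eq_comap_bot, Ideal.mk_ker, sup_eq_left.mpr hQM]
  have hne : M.map (Ideal.Quotient.mk Q) ≠ ⊤ := by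
    intro h
    rw [h, Ideal.comap_top] at hcm
    exact hMmax.ne_top hcm.symm
  have hmax : (M.map (Ideal.Quotient.mk Q)).IsMaximal :=
    (Ideal.map_eq_top_or_isMaximal_of_surjective _ Ideal.Quotient.mk_surjective hMmax).resolve_left
      hne
  have h1 : M.map (Ideal.Quotient.mk Q) =
      maximalIdeal ((AdicCompletion (maximalIdeal A) A ⊗[A] integralClosure A K') ⧸ Q) :=
    IsLocalRing.eq_maximalIdeal
      (R := (AdicCompletion (maximalIdeal A) A ⊗[A] integralClosure A K') ⧸ Q) hmax
  show Ideal.comap ((Ideal.Quotient.mk Q).comp ι')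
    (maximalIdeal ((AdicCompletion (maximalIdeal A) A ⊗[A] integralClosure A K') ⧸ Q)) = n'
  rw [← h1, ← Ideal.comap_comap, hcm, hM]

end

end Groth.Agent.Helper8.IntClSemi
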