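import Mathlib
import Groth.Prelude
import Groth.Agent.Lib.Helper8.IntClSemi3

/-!
# Mori–Nagata, part 11: finitely many primes of the integral closure over a given prime
-/

set_option autoImplicit false
universe u

namespace Groth.Agent.Helper8.MN

section

variable (R : Type u) [CommRing R] [IsDomain R] [IsLocalRing R] [IsNoetherianRing R]
  (K : Type u) [Field K] [Algebra R K] [IsFractionRing R K]

/-- `IntClSemi.finite_maximal` for an abstract fraction field. -/
theorem finite_maximal_fractionField :
    {m : Ideal (integralClosure R K) | m.IsMaximal}.Finite := by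
  haveI : FaithfulSMul R K :=
    (faithfulSMul_iff_algebraMap_injective _ _).mpr (IsFractionRing.injective _ K)
  letI : Algebra (FractionRing R) K := FractionRing.liftAlgebra R K
  haveI : IsScalarTower R (FractionRing R) K := FractionRing.isScalarTower_liftAlgebra R K
  haveI : FiniteDimensional (FractionRing R) K := by
    apply Module.Finite.of_surjective (Algebra.linearMap (FractionRing R) K)
    intro x
    obtain ⟨a, b, hb, rfl⟩ := IsFractionRing.div_surjective (A := R) x
    refine ⟨algebraMap R _ a / algebraMap R _ b, ?_⟩
    have key : ∀ c : R, algebraMap (FractionRing R) K (algebraMap R (FractionRing R) c) =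
          algebraMap R K c := fun c =>
      IsFractionRing.lift_algebraMap (FaithfulSMul.algebraMap_injective _ K) c
    change algebraMap (FractionRing R) K _ = _
    rw [map_div₀, key, key]
  exact Groth.Agent.Helper8.IntClSemi.finite_maximal R K

end

section

variable (A : Type u) [CommRing A] [IsDomain A]
  (K : Type u) [Field K] [Algebra A K] [IsFractionRing A K] (p : Ideal A) [p.IsPrime]
  (Ap : Type u) [CommRing Ap] [Algebra A Ap] [IsLocalization.AtPrime Ap p] [Algebra Ap K]
  [IsScalarTower A Ap K]

theorem finite_primes_over_aux
    (hfin : {m : Ideal (integralClosure Ap K) | m.IsMaximal}.Finite) :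
    {P : Ideal (integralClosure A K) |
      P.IsPrime ∧ P.comap (algebraMap A (integralClosure A K)) = p}.Finite := by
  classical
  have hunits : ∀ y : p.primeCompl, IsUnit (algebraMap A K y) := fun y => by
    apply IsUnit.mk0
    rw [Ne, map_eq_zero_iff _ (IsFractionRing.injective A K)]
    rintro h0
    exact y.2 (h0 ▸ zero_mem _)
  haveI : IsLocalRing Ap := IsLocalization.AtPrime.isLocalRing Ap p
  let ι : integralClosure A K →+* integralClosure Ap K :=
    { toFun := fun x => ⟨x.1, IsIntegral.tower_top x.2⟩
      map_one' := rfl
      map_mul' := fun _ _ => rfl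
      map_zero' := rfl
      map_add' := fun _ _ => rfl }
  letI : Algebra (integralClosure A K) (integralClosure Ap K) := ι.toAlgebra
  haveI : IsScalarTower (integralClosure A K) (integralClosure Ap K) K :=
    IsScalarTower.of_algebraMap_eq (fun x => rfl)
  haveI : IsScalarTower A (integralClosure A K) (integralClosure Ap K) :=
    IsScalarTower.of_algebraMap_eq (fun x => Subtype.ext (by
      change algebraMap A K x = algebraMap A K x
      rfl))
  haveI : IsLocalization (Algebra.algebraMapSubmonoid K p.primeCompl) K :=
    IsLocalization.of_le_isUnit (by
      rintro _ ⟨s, hs, rfl⟩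
      exact hunits ⟨s, hs⟩)
  haveI hloc := IsLocalization.integralClosure (R := A) (S := K) (Rf := Ap)
    (Sf := K) p.primeCompl
  have hdisj : ∀ P : Ideal (integralClosure A K),
      P.comap (algebraMap A (integralClosure A K)) = p →
      Disjoint (Algebra.algebraMapSubmonoid (integralClosure A K) p.primeCompl :
        Set (integralClosure A K)) P := by
    intro P hP
    rw [Set.disjoint_left]
    rintro _ ⟨s, hs, rfl⟩ hmem
    apply hs
    rw [← hP]
    exact hmem
  refine Set.Finite.of_finite_image (f := fun P => P.map ι) (hfin.subset ?_) ?_
  · rintro _ ⟨P, ⟨hPp, hP⟩, rfl⟩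
    haveI := hPp
    have hprime : (P.map ι).IsPrime :=
      IsLocalization.isPrime_of_isPrime_disjoint
        (Algebra.algebraMapSubmonoid (integralClosure A K) p.primeCompl)
        (integralClosure Ap K) P hPp (hdisj P hP)
    haveI := hprime
    -- the contraction to `A_p` is the maximal ideal
    have hle : IsLocalRing.maximalIdeal Ap ≤
        (P.map ι).comap (algebraMap Ap (integralClosure Ap K)) := by
      rw [← IsLocalization.AtPrime.map_eq_maximalIdeal p Ap, Ideal.map_le_iff_le_comap]
      intro a ha
      rw [Ideal.mem_comap, Ideal.mem_comap]
      have : algebraMap Ap (integralClosure Ap K)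
          (algebraMap A Ap a) = ι (algebraMap A (integralClosure A K) a) := by
        apply Subtype.ext
        change algebraMap Ap K (algebraMap A Ap a) = algebraMap A K a
        rw [← IsScalarTower.algebraMap_apply]
      rw [this]
      apply Ideal.mem_map_of_mem
      rw [← hP] at ha
      exact ha
    have hmax : ((P.map ι).comap (algebraMap Ap (integralClosure Ap K))).IsMaximal := by
      have hne : (P.map ι).comap (algebraMap Ap (integralClosure Ap K)) ≠ ⊤ :=
        Ideal.comap_ne_top _ hprime.ne_top
      rw [← (IsLocalRing.maximalIdeal.isMaximal _).eq_of_le hne hle]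
      infer_instance
    exact Ideal.isMaximal_of_isIntegral_of_isMaximal_comap (R := Ap) _ hmax
  · rintro P ⟨hPp, hP⟩ P' ⟨hPp', hP'⟩ h
    have h1 : (P.map ι).comap ι = P :=
      IsLocalization.under_map_of_isPrime_disjoint
        (Algebra.algebraMapSubmonoid (integralClosure A K) p.primeCompl)
        (integralClosure Ap K) hPp (hdisj P hP)
    have h2 : (P'.map ι).comap ι = P' :=
      IsLocalization.under_map_of_isPrime_disjoint
        (Algebra.algebraMapSubmonoid (integralClosure A K) p.primeCompl)
        (integralClosure Ap K) hPp' (hdisj P' hP')
    rw [← h1, ← h2]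
    exact congrArg _ h

end

section

variable (A : Type u) [CommRing A] [IsDomain A] [IsNoetherianRing A]
  (K : Type u) [Field K] [Algebra A K] [IsFractionRing A K] (p : Ideal A) [p.IsPrime]

/-- Only finitely many primes of the integral closure of a Noetherian domain lie over a given
prime. -/
theorem finite_primes_over :
    {P : Ideal (integralClosure A K) |
      P.IsPrime ∧ P.comap (algebraMap A (integralClosure A K)) = p}.Finite := by
  have hunits : ∀ y : p.primeCompl, IsUnit (algebraMap A K y) := fun y => by
    apply IsUnit.mk0
    rw [Ne, map_eq_zero_iff _ (IsFractionRing.injective A K)]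
    rintro h0
    exact y.2 (h0 ▸ zero_mem _)
  letI alg : Algebra (Localization.AtPrime p) K :=
    (IsLocalization.lift (M := p.primeCompl) (S := Localization.AtPrime p) hunits).toAlgebra
  haveI : IsScalarTower A (Localization.AtPrime p) K :=
    IsScalarTower.of_algebraMap_eq (fun x => (IsLocalization.lift_eq hunits x).symm)
  haveI : IsFractionRing (Localization.AtPrime p) K :=
    IsFractionRing.isFractionRing_of_isDomain_of_isLocalization p.primeCompl
      (Localization.AtPrime p) K
  exact finite_primes_over_aux A K p (Localization.AtPrime p)
    (finite_maximal_fractionField (Localization.AtPrime p) K)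

end

end Groth.Agent.Helper8.MN
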