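import Mathlib
import Groth.Prelude
import Groth.Agent.Lib.Helper8.MN10
import Groth.Agent.Lib.Helper8.MN11

/-!
# Mori–Nagata, part 13: a finite subalgebra separating the primes over the bad members
-/

set_option autoImplicit false
universe u

namespace Groth.Agent.Helper8.MN

open IsLocalRing Polynomial

section system

variable {ι : Type u} {T : ι → Type u} {L : ι → Type u}
  [∀ q, CommRing (T q)] [∀ q, IsDomain (T q)] [∀ q, IsNoetherianRing (T q)]
  [∀ q, IsIntegrallyClosed (T q)] [∀ q, Field (L q)] [∀ q, Algebra (T q) (L q)]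
  [∀ q, IsFractionRing (T q) (L q)]
  {A : Type u} [CommRing A] [IsDomain A] {K : Type u} [Field K] [Algebra A K] [IsFractionRing A K]
  {Ah : Type u} [CommRing Ah] [Algebra A Ah]
  {π : ∀ q, Ah →+* T q} {φ : ∀ q, K →+* L q}

variable (hS : IsBranchSystem T L A K Ah π φ)

include hS in
/-- The Krull family of the integral closure attached to a branch system. -/
theorem IsBranchSystem.isKrullFamily [Finite ι] :
    IsKrullFamily (integralClosure A K) (Wfam (T := T) (α := alph T A Ah π) L K φ) :=
  isKrullFamily_Wfam L K φ hS.inj hS.hφ hS.hint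

include hS in
/-- The center of a member on `A`. -/
theorem IsBranchSystem.comap_center [Finite ι] (l : Lam T A (alph T A Ah π)) :
    (hS.isKrullFamily.center l).comap (algebraMap A (integralClosure A K)) =
      l.2.1.comap (alph T A Ah π l.1) := by
  ext a
  rw [Ideal.mem_comap, hS.isKrullFamily.mem_center_iff, Ideal.mem_comap,
    ← algebraMap_mem_nonunits_Wfam_iff L K φ hS.hφ l a]
  rfl

/-- For a prime `P` of the integral closure there is an element of `P` lying in no other prime with
the same contraction to `A`. -/
theorem exists_mem_forall_eq [IsNoetherianRing A] (P : Ideal (integralClosure A K)) [P.IsPrime] :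
    ∃ e : integralClosure A K, e ∈ P ∧ ∀ P' : Ideal (integralClosure A K), P'.IsPrime →
      P'.comap (algebraMap A (integralClosure A K)) =
        P.comap (algebraMap A (integralClosure A K)) → e ∈ P' → P' = P := by
  classical
  haveI : (P.comap (algebraMap A (integralClosure A K))).IsPrime := Ideal.comap_isPrime _ _
  have hfin := finite_primes_over A K (P.comap (algebraMap A (integralClosure A K)))
  by_contra hcon
  push Not at hcon
  have hsub : (P : Set (integralClosure A K)) ⊆
      ⋃ P' ∈ ((hfin.toFinset.erase P : Finset (Ideal (integralClosure A K))) :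
        Set (Ideal (integralClosure A K))), ((id P' : Ideal (integralClosure A K)) :
          Set (integralClosure A K)) := by
    intro e he
    obtain ⟨P', hP'p, hP'c, heP', hne⟩ := hcon e he
    simp only [Set.mem_iUnion]
    refine ⟨P', ?_, heP'⟩
    rw [Finset.mem_coe, Finset.mem_erase]
    exact ⟨hne, (Set.Finite.mem_toFinset hfin).mpr ⟨hP'p, hP'c⟩⟩
  rw [Ideal.subset_union_prime (f := id) ⊥ ⊥
    (fun i hi _ _ => ((Set.Finite.mem_toFinset hfin).mp (Finset.mem_of_mem_erase hi)).1)] at hsub
  obtain ⟨P', hP'mem, hle⟩ := hsub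
  rw [Finset.mem_erase, Set.Finite.mem_toFinset] at hP'mem
  obtain ⟨hne, hP'p, hP'c⟩ := hP'mem
  haveI := hP'p
  have hlt : P < P' := lt_of_le_of_ne hle (Ne.symm hne)
  have h1 := Ideal.IsIntegral.comap_lt_comap (R := A) hlt
  rw [hP'c] at h1
  exact lt_irrefl _ h1

include hS in
/-- **The separating subalgebra.** -/
theorem IsBranchSystem.exists_separating_subalgebra [IsNoetherianRing A] [Finite ι]
    [Module.Flat A Ah] :
    ∃ C : Subalgebra A K, C ≤ integralClosure A K ∧ C.toSubmodule.FG ∧
      ∀ P P' : Ideal (integralClosure A K), P.IsPrime → P.height = 1 → P'.IsPrime →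
        (∀ c : integralClosure A K, (c : K) ∈ C → (c ∈ P' ↔ c ∈ P)) → P' = P := by
  classical
  haveI : IsFractionRing (integralClosure A K) K :=
    integralClosure.isFractionRing_of_finite_extension K K
  haveI : ∀ l : Lam T A (alph T A Ah π), IsDiscreteValuationRing (Wfam L K φ l) := fun l =>
    isDiscreteValuationRing_Wfam L K φ hS.inj hS.hφ l
  have hK := hS.isKrullFamily
  have hbad := hS.finite_bad
  have hchoose : ∀ P : Ideal (integralClosure A K), ∃ e : integralClosure A K,
      P.IsPrime → (e ∈ P ∧ ∀ P' : Ideal (integralClosure A K), P'.IsPrime →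
      P'.comap (algebraMap A (integralClosure A K)) =
        P.comap (algebraMap A (integralClosure A K)) → e ∈ P' → P' = P) := by
    intro P
    by_cases hP : P.IsPrime
    · haveI := hP
      obtain ⟨e, he⟩ := exists_mem_forall_eq (A := A) (K := K) P
      exact ⟨e, fun _ => he⟩
    · exact ⟨0, fun h => absurd h hP⟩
  choose e he using hchoose
  set Pbad : Set (Ideal (integralClosure A K)) :=
    (fun l => hK.center l) '' {l : Lam T A (alph T A Ah π) | π l.1 (hS.f l.1) ∈ l.2.1} with hPbad
  have hPbadfin : Pbad.Finite := hbad.image _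
  set gens : Set K := (fun P => ((e P : integralClosure A K) : K)) '' Pbad with hgens
  refine ⟨Algebra.adjoin A gens, ?_, ?_, ?_⟩
  · apply Algebra.adjoin_le
    rintro _ ⟨P, -, rfl⟩
    exact (e P).2
  · apply fg_adjoin_of_finite (hPbadfin.image _)
    rintro _ ⟨P, -, rfl⟩
    exact (e P).2
  · intro P P' hPp hP1 hP'p hiff
    haveI := hPp
    haveI := hP'p
    obtain ⟨l, hl⟩ := exists_center_eq hK P hP1
    have hcomap : P'.comap (algebraMap A (integralClosure A K)) =
        P.comap (algebraMap A (integralClosure A K)) := by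
      ext a
      rw [Ideal.mem_comap, Ideal.mem_comap]
      exact hiff _ ((Algebra.adjoin A gens).algebraMap_mem a)
    by_cases hgood : π l.1 (hS.f l.1) ∈ l.2.1
    · have hPmem : P ∈ Pbad := ⟨l, hgood, hl⟩
      have heP := he P hPp
      have hegen : ((e P : integralClosure A K) : K) ∈ Algebra.adjoin A gens :=
        Algebra.subset_adjoin ⟨P, hPmem, rfl⟩
      exact heP.2 P' hP'p hcomap ((hiff _ hegen).mpr heP.1)
    · have h2 : P.comap (algebraMap A (integralClosure A K)) =
          l.2.1.comap (alph T A Ah π l.1) := by
        rw [← hl]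
        exact hS.comap_center l
      exact hS.eq_of_comap_eq l hgood P' P (hcomap.trans h2) h2

end system

end Groth.Agent.Helper8.MN
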