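import Mathlib
import Groth.Prelude
import Groth.Agent.Lib.Helper8.MN12
import Groth.Agent.Lib.Helper8.MN13

/-!
# Mori–Nagata, part 14: the theorem for a branch system
-/

set_option autoImplicit false
universe u

namespace Groth.Agent.Helper8.MN

open IsLocalRing Polynomial

section system

variable {ι : Type u} {T : ι → Type u} {L : ι → Type u}
  [∀ q, CommRing (T q)] [∀ q, IsDomain (T q)] [∀ q, IsNoetherianRing (T q)]
  [∀ q, IsIntegrallyClosed (T q)] [∀ q, Field (L q)] [∀ q, Algebra (T q) (L q)]
  [∀ q, IsFractionRing (T q) (L q)]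
  {A : Type u} [CommRing A] [IsDomain A] {K : Type u} [Field K] [Algebra A K] [IsFractionRing A K]
  {Ah : Type u} [CommRing Ah] [Algebra A Ah]
  {π : ∀ q, Ah →+* T q} {φ : ∀ q, K →+* L q}

variable (hS : IsBranchSystem T L A K Ah π φ)

include hS in
/-- **Mori–Nagata for a branch system.** -/
theorem IsBranchSystem.mori_nagata [IsNoetherianRing A] [Finite ι] [Module.Flat A Ah] :
    ∃ C : Subalgebra A K, Module.Finite A C ∧
      (∀ (p : Ideal C) [p.IsPrime], p.height = 1 →
        ∃ V : ValuationSubring K, IsDiscreteValuationRing V ∧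
          ∀ x : K, x ∈ V ↔ ∃ s : C, s ∉ p ∧ IsIntegral C ((s : K) * x)) ∧
      (∀ x : K, x ∈ integralClosure A K ↔
        ∀ (p : Ideal C) [p.IsPrime], p.height = 1 →
          ∃ s : C, s ∉ p ∧ IsIntegral C ((s : K) * x)) ∧
      (∀ x : K, {p : Ideal C | p.IsPrime ∧ p.height = 1 ∧
        ¬ ∃ s : C, s ∉ p ∧ IsIntegral C ((s : K) * x)}.Finite) := by
  classical
  obtain ⟨C, hCD, hfg, hU⟩ := hS.exists_separating_subalgebra
  haveI hfin : Module.Finite A C := Module.Finite.iff_fg.mpr hfg
  haveI : IsNoetherianRing C := IsNoetherianRing.of_finite A C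
  haveI : IsFractionRing (integralClosure A K) K :=
    integralClosure.isFractionRing_of_finite_extension K K
  haveI : ∀ l : Lam T A (alph T A Ah π), IsDiscreteValuationRing (Wfam L K φ l) := fun l =>
    isDiscreteValuationRing_Wfam L K φ hS.inj hS.hφ l
  have hK := hS.isKrullFamily
  letI : Algebra C (integralClosure A K) := (Subalgebra.inclusion hCD).toRingHom.toAlgebra
  haveI : IsScalarTower A C (integralClosure A K) := IsScalarTower.of_algebraMap_eq (fun a => rfl)
  haveI : Algebra.IsIntegral C (integralClosure A K) :=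
    ⟨fun d => IsIntegral.tower_top (R := A) (Algebra.IsIntegral.isIntegral d)⟩
  haveI : FaithfulSMul C (integralClosure A K) :=
    (faithfulSMul_iff_algebraMap_injective C (integralClosure A K)).mpr
      (Subalgebra.inclusion_injective hCD)
  haveI : Algebra.IsIntegral A C := ⟨fun c => by
    have h1 : IsIntegral A (c : K) := hCD c.2
    exact (isIntegral_algebraMap_iff (B := K) Subtype.val_injective).mp h1⟩
  have hint : ∀ y : K, IsIntegral C y ↔ y ∈ Set.range (algebraMap (integralClosure A K) K) := by
    intro y
    rw [range_algebraMap_integralClosure K]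
    constructor
    · intro hy
      exact isIntegral_trans (R := A) y hy
    · intro hy
      exact hy.tower_top
  have hU' : ∀ P : Ideal (integralClosure A K), P.IsPrime → P.height = 1 →
      ∀ P' : Ideal (integralClosure A K), P'.IsPrime →
      P'.comap (algebraMap C (integralClosure A K)) =
        P.comap (algebraMap C (integralClosure A K)) → P' = P := by
    intro P hPp hP1 P' hP'p hcomap
    apply hU P P' hPp hP1 hP'p
    intro c hc
    have hc' : c = algebraMap C (integralClosure A K) ⟨c, hc⟩ := Subtype.ext rfl
    rw [hc', ← Ideal.mem_comap, ← Ideal.mem_comap, hcomap]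
  have hval : ∀ s : C, algebraMap (integralClosure A K) K
      (algebraMap C (integralClosure A K) s) = (s : K) := fun s => rfl
  refine ⟨C, hfin, ?_, ?_, ?_⟩
  · intro p hp hp1
    obtain ⟨ν, hν⟩ := exists_W_iff C hU' hK p hp1
    refine ⟨Wfam L K φ ν, inferInstance, fun x => ?_⟩
    rw [hν x]
    constructor
    · rintro ⟨s, hs, h⟩
      exact ⟨s, hs, (hint _).mpr h⟩
    · rintro ⟨s, hs, h⟩
      exact ⟨s, hs, (hint _).mp h⟩
  · intro x
    have h1 : x ∈ integralClosure A K ↔ x ∈ Set.range (algebraMap (integralClosure A K) K) :=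
      (range_algebraMap_integralClosure K x).symm
    rw [h1, mem_range_iff_forall C hU' hK x]
    constructor
    · intro h p hp hp1
      obtain ⟨s, hs, h'⟩ := h p hp hp1
      exact ⟨s, hs, (hint _).mpr h'⟩
    · intro h p hp hp1
      obtain ⟨s, hs, h'⟩ := @h p hp hp1
      exact ⟨s, hs, (hint _).mp h'⟩
  · intro x
    obtain ⟨a, b, hb, rfl⟩ := IsFractionRing.div_surjective (A := A) x
    have hb0 : b ≠ 0 := nonZeroDivisors.ne_zero hb
    have hbK : algebraMap A K b ≠ 0 := by
      rw [Ne, map_eq_zero_iff _ (IsFractionRing.injective A K)]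
      exact hb0
    have hbC : algebraMap A C b ≠ 0 := by
      intro h0
      apply hbK
      have := congrArg (Subtype.val : C → K) h0
      exact this
    have hfinm : ((Ideal.span {algebraMap A C b}).minimalPrimes).Finite :=
      Ideal.finite_minimalPrimes_of_isNoetherianRing _ _
    refine hfinm.subset ?_
    rintro p ⟨hpp, hp1, hnot⟩
    haveI := hpp
    have hbp : algebraMap A C b ∈ p := by
      by_contra hbp
      apply hnot
      refine ⟨algebraMap A C b, hbp, ?_⟩
      have : ((algebraMap A C b : C) : K) * (algebraMap A K a / algebraMap A K b) =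
          algebraMap A K a := by
        change algebraMap A K b * (algebraMap A K a / algebraMap A K b) = algebraMap A K a
        field_simp
      rw [this]
      exact isIntegral_algebraMap.tower_top
    have hle : Ideal.span {algebraMap A C b} ≤ p := by
      rw [Ideal.span_singleton_le_iff_mem]
      exact hbp
    refine ⟨⟨hpp, hle⟩, ?_⟩
    rintro Q ⟨hQ, hQle⟩ hQp
    haveI := hQ
    have hQ0 : Q ≠ ⊥ := by
      intro hbot
      have : algebraMap A C b ∈ Q := hQle (Ideal.mem_span_singleton_self _)
      rw [hbot, Ideal.mem_bot] at this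
      exact hbC this
    exact (eq_of_le_of_height_one hp1 hQ0 hQp).ge

end system

end Groth.Agent.Helper8.MN
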