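import Mathlib
import Groth.Prelude

/-!
# Mori–Nagata, part 15: conductor elements and separation of minimal primes
-/

set_option autoImplicit false
universe u

namespace Groth.Agent.Helper8.MN

section conductor

variable (R0 : Type*) (L0 : Type*) [CommRing R0] [IsDomain R0] [Field L0] [Algebra R0 L0]
  [IsFractionRing R0 L0] (B : Subalgebra R0 L0) [Module.Finite R0 B]

/-- A finite subalgebra of the fraction field has a common denominator. -/
theorem exists_conductor_elt :
    ∃ d : R0, d ≠ 0 ∧ ∀ y : B, ∃ r : R0, algebraMap R0 L0 d * (y : L0) = algebraMap R0 L0 r := by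
  classical
  obtain ⟨s, hs⟩ := Module.Finite.fg_top (R := R0) (M := B)
  obtain ⟨b, hb⟩ := IsLocalization.exist_integer_multiples_of_finset (nonZeroDivisors R0)
    (s.image (Subtype.val : B → L0))
  refine ⟨b, nonZeroDivisors.ne_zero b.2, fun y => ?_⟩
  have hy : y ∈ Submodule.span R0 (s : Set B) := by
    rw [hs]
    exact Submodule.mem_top
  induction hy using Submodule.span_induction with
  | mem y hy =>
    obtain ⟨r, hr⟩ := hb y.1 (Finset.mem_image_of_mem _ hy)
    refine ⟨r, ?_⟩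
    rw [hr, Algebra.smul_def]
  | zero => exact ⟨0, by simp⟩
  | add y z _ _ hy hz =>
    obtain ⟨r, hr⟩ := hy
    obtain ⟨r', hr'⟩ := hz
    refine ⟨r + r', ?_⟩
    rw [Subalgebra.coe_add, mul_add, hr, hr', map_add]
  | smul c y _ hy =>
    obtain ⟨r, hr⟩ := hy
    refine ⟨c * r, ?_⟩
    rw [Subalgebra.coe_smul, Algebra.smul_def, map_mul, ← hr]
    ring

end conductor

section minimal

variable (R : Type u) [CommRing R] [Finite (minimalPrimes R)]
  (T : minimalPrimes R → Type u) [∀ q, CommRing (T q)] [∀ q, IsDomain (T q)]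
  (π : ∀ q, R →+* T q)
  (hker : ∀ q x, π q x = 0 ↔ x ∈ q.1)

include hker in
omit [Finite (minimalPrimes R)] [∀ q, IsDomain (T q)] in
theorem isNilpotent_of_forall_eq_zero (x : R) (hx : ∀ q, π q x = 0) : IsNilpotent x := by
  rw [← mem_nilradical]
  change x ∈ (⊥ : Ideal R).radical
  rw [← Ideal.sInf_minimalPrimes, Ideal.mem_sInf]
  intro q hq
  exact (hker ⟨q, hq⟩ x).mp (hx ⟨q, hq⟩)

omit [∀ q, IsDomain (T q)] in
theorem exists_separating_elt (q : minimalPrimes R) :
    ∃ ε : R, ε ∉ q.1 ∧ ∀ q' : minimalPrimes R, q' ≠ q → ε ∈ q'.1 := by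
  classical
  haveI : Fintype (minimalPrimes R) := Fintype.ofFinite _
  by_contra hcon
  push Not at hcon
  have hle : (Finset.univ.erase q).inf (fun q' : minimalPrimes R => q'.1) ≤ q.1 := by
    intro ε hε
    by_contra hεq
    obtain ⟨q', hne, hq'⟩ := hcon ε hεq
    apply hq'
    exact (Finset.inf_le (Finset.mem_erase.mpr ⟨hne, Finset.mem_univ _⟩) :
      (Finset.univ.erase q).inf (fun q' : minimalPrimes R => q'.1) ≤ q'.1) hε
  rw [Ideal.IsPrime.inf_le' q.2.1.1] at hle
  obtain ⟨q', hq'mem, hq'le⟩ := hle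
  have h1 : q.1 ≤ q'.1 := q.2.2 ⟨q'.2.1.1, bot_le⟩ hq'le
  exact (Finset.mem_erase.mp hq'mem).1 (Subtype.ext (le_antisymm hq'le h1))

include hker in
theorem exists_conductor_of_den
    (hden : ∀ q, ∃ d : R, π q d ≠ 0 ∧ ∀ y : T q, ∃ a : R, π q d * y = π q a)
    (q : minimalPrimes R) :
    ∃ f : R, π q f ≠ 0 ∧ (∀ q', q' ≠ q → π q' f = 0) ∧
      ∀ y : T q, ∃ a : R, π q f * y = π q a := by
  obtain ⟨ε, hεq, hε⟩ := exists_separating_elt R q
  obtain ⟨d, hd0, hd⟩ := hden q
  refine ⟨ε * d, ?_, ?_, ?_⟩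
  · rw [map_mul]
    apply mul_ne_zero _ hd0
    rw [Ne, hker]
    exact hεq
  · intro q' hq'
    rw [map_mul, (hker q' ε).mpr (hε q' hq'), zero_mul]
  · intro y
    obtain ⟨a, ha⟩ := hd y
    refine ⟨ε * a, ?_⟩
    rw [map_mul, mul_assoc, ha, map_mul]

end minimal

end Groth.Agent.Helper8.MN
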