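import Mathlib
import Groth.Prelude
import Groth.Agent.Lib.Helper8.MN5
import Groth.Agent.Lib.Helper8.NH6

/-!
# The Krull family of the integral closure of a Noetherian local domain
-/

set_option autoImplicit false
universe u

namespace Groth.Agent.Helper8.MN

open IsLocalRing

section branches

variable (A : Type u) [CommRing A] [IsDomain A] [IsNoetherianRing A] [IsLocalRing A]

/-- The minimal primes of the completion. -/
abbrev MinP : Type u := ↥(minimalPrimes (EGA4.Cpl A))

instance minP_isPrime (q : MinP A) : q.1.IsPrime := q.2.1.1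

instance minP_finite : Finite (MinP A) := by
  haveI : IsNoetherianRing (EGA4.Cpl A) := Groth.Agent.Helper8.AdicReg.isNoetherianRing A _
  exact (minimalPrimes.finite_of_isNoetherianRing (EGA4.Cpl A)).to_subtype

/-- A branch of the completion. -/
abbrev Rq (q : MinP A) : Type u := EGA4.Cpl A ⧸ q.1

/-- The fraction field of a branch. -/
abbrev Lq (q : MinP A) : Type u := FractionRing (Rq A q)

/-- The normalization of a branch. -/
abbrev Bq (q : MinP A) : Type u := integralClosure (Rq A q) (Lq A q)

instance bq_finite (q : MinP A) : Module.Finite (Rq A q) (Bq A q) := by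
  haveI : IsNoetherianRing (EGA4.Cpl A) := Groth.Agent.Helper8.AdicReg.isNoetherianRing A _
  haveI : IsAdicComplete (maximalIdeal (Rq A q)) (Rq A q) :=
    Groth.Agent.Helper8.CohenFact.isAdicComplete_of_surjective (Ideal.Quotient.mk _)
      Ideal.Quotient.mk_surjective
  have hN2 : CAlg.IsN2 (Rq A q) := Groth.Agent.Helper8.Nag.isN2_of_complete_domain _
  exact hN2 (Lq A q) inferInstance

instance bq_noeth (q : MinP A) : IsNoetherianRing (Bq A q) := by
  haveI : IsNoetherianRing (EGA4.Cpl A) := Groth.Agent.Helper8.AdicReg.isNoetherianRing A _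
  exact IsNoetherianRing.of_finite (Rq A q) _

instance bq_intClosed (q : MinP A) : IsIntegrallyClosed (Bq A q) :=
  integralClosure.isIntegrallyClosedOfFiniteExtension (Lq A q)

instance bq_fraction (q : MinP A) : IsFractionRing (Bq A q) (Lq A q) :=
  integralClosure.isFractionRing_of_finite_extension (Lq A q) (Lq A q)

variable (K : Type u) [Field K] [Algebra A K] [IsFractionRing A K]

/-- The embedding of the fraction field into the fraction field of a branch. -/
noncomputable def branch (q : MinP A) : K →+* Lq A q :=
  (Groth.Agent.Helper8.NH.branchMap A A K q.1 q.2).toRingHom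

theorem branch_algebraMap (q : MinP A) (a : A) :
    branch A K q (algebraMap A K a) = algebraMap (Bq A q) (Lq A q) (algebraMap A (Bq A q) a) := by
  unfold branch
  change Groth.Agent.Helper8.NH.branchMap A A K q.1 q.2 (algebraMap A K a) = _
  rw [Groth.Agent.Helper8.NH.branchMap_algebraMap]
  rfl

theorem algebraMap_bq_injective (q : MinP A) : Function.Injective (algebraMap A (Bq A q)) := by
  intro a b hab
  have h1 := Groth.Agent.Helper8.NH.injective_algebraMap_cpl_quot A q.1 q.2
  have h2 := IsFractionRing.injective (Rq A q) (Lq A q)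
  apply h1
  apply h2
  have := congrArg (algebraMap (Bq A q) (Lq A q)) hab
  exact this

/-- Integrality over `A` is detected on the branches. -/
theorem isIntegral_iff_forall_branch (x : K) :
    IsIntegral A x ↔ ∀ q : MinP A, branch A K q x ∈ Set.range (algebraMap (Bq A q) (Lq A q)) := by
  constructor
  · intro hx q
    have h1 : IsIntegral A (Groth.Agent.Helper8.NH.branchMap A A K q.1 q.2 x) := hx.map _
    have h2 : IsIntegral (Rq A q) (Groth.Agent.Helper8.NH.branchMap A A K q.1 q.2 x) :=
      h1.tower_top
    exact ⟨⟨_, h2⟩, rfl⟩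
  · intro h
    refine Groth.Agent.Helper8.NH.isIntegral_of_forall_minimalPrimes A K x fun q hq => ?_
    haveI : q.IsPrime := hq.1.1
    refine ⟨FractionRing (EGA4.Cpl A ⧸ q), inferInstance, inferInstance,
      (Groth.Agent.Helper8.NH.branchMap A A K q hq).toRingHom, IsFractionRing.injective _ _,
      fun c => ?_, ?_⟩
    · change Groth.Agent.Helper8.NH.branchMap A A K q hq (algebraMap A K c) = _
      rw [Groth.Agent.Helper8.NH.branchMap_algebraMap]
      rfl
    · obtain ⟨y, hy⟩ := h ⟨q, hq⟩
      have : (Groth.Agent.Helper8.NH.branchMap A A K q hq).toRingHom x = (y : Lq A ⟨q, hq⟩) :=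
        hy.symm
      rw [this]
      exact y.2

end branches

end Groth.Agent.Helper8.MN
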