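import Mathlib
import Groth.Prelude
import Groth.Agent.Lib.Helper8.MN6
import Groth.Agent.Lib.Helper8.MN14
import Groth.Agent.Lib.Helper8.MN15

/-!
# Mori–Nagata, part 16: the branch system of the completion of a Noetherian local domain
-/

set_option autoImplicit false
universe u

namespace Groth.Agent.Helper8.MN

open IsLocalRing

section concrete

variable (A : Type u) [CommRing A] [IsDomain A] [IsNoetherianRing A] [IsLocalRing A]

/-- The projection of the completion to a normalized branch. -/
noncomputable def piq (q : MinP A) : EGA4.Cpl A →+* Bq A q :=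
  (algebraMap (Rq A q) (Bq A q)).comp (Ideal.Quotient.mk q.1)

theorem piq_eq_zero_iff (q : MinP A) (x : EGA4.Cpl A) : piq A q x = 0 ↔ x ∈ q.1 := by
  unfold piq
  rw [RingHom.comp_apply, ← Ideal.Quotient.eq_zero_iff_mem]
  constructor
  · intro h
    have h2 := IsFractionRing.injective (Rq A q) (Lq A q)
    apply h2
    rw [map_zero]
    have := congrArg (algebraMap (Bq A q) (Lq A q)) h
    rw [map_zero] at this
    exact this
  · intro h
    rw [h, map_zero]

theorem piq_den (q : MinP A) :
    ∃ d : EGA4.Cpl A, piq A q d ≠ 0 ∧ ∀ y : Bq A q, ∃ a : EGA4.Cpl A, piq A q d * y = piq A q a := by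
  obtain ⟨d, hd0, hd⟩ := exists_conductor_elt (Rq A q) (Lq A q) (integralClosure (Rq A q) (Lq A q))
  obtain ⟨d', rfl⟩ := Ideal.Quotient.mk_surjective d
  refine ⟨d', ?_, fun y => ?_⟩
  · rw [Ne, piq_eq_zero_iff, ← Ideal.Quotient.eq_zero_iff_mem]
    exact hd0
  · obtain ⟨r, hr⟩ := hd y
    obtain ⟨r', rfl⟩ := Ideal.Quotient.mk_surjective r
    refine ⟨r', ?_⟩
    apply Subtype.ext
    exact hr

variable (K : Type u) [Field K] [Algebra A K] [IsFractionRing A K]

/-- **The branch system of the completion.** -/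
theorem isBranchSystem_cpl :
    IsBranchSystem (fun q : MinP A => Bq A q) (fun q : MinP A => Lq A q) A K (EGA4.Cpl A)
      (piq A) (branch A K) where
  hφ := fun q a => by
    rw [branch_algebraMap]
    rfl
  inj := fun q => algebraMap_bq_injective A q
  hint := isIntegral_iff_forall_branch A K
  nil := fun x hx => isNilpotent_of_forall_eq_zero (EGA4.Cpl A) (fun q : MinP A => Bq A q)
    (piq A) (piq_eq_zero_iff A) x hx
  cond := fun q => exists_conductor_of_den (EGA4.Cpl A) (fun q : MinP A => Bq A q) (piq A)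
    (piq_eq_zero_iff A) (piq_den A) q

/-- **Mori–Nagata**, local form. -/
theorem mori_nagata_local :
    ∃ C : Subalgebra A K, Module.Finite A C ∧
      (∀ (p : Ideal C) [p.IsPrime], p.height = 1 →
        ∃ V : ValuationSubring K, IsDiscreteValuationRing V ∧
          ∀ x : K, x ∈ V ↔ ∃ s : C, s ∉ p ∧ IsIntegral C ((s : K) * x)) ∧
      (∀ x : K, x ∈ integralClosure A K ↔
        ∀ (p : Ideal C) [p.IsPrime], p.height = 1 →
          ∃ s : C, s ∉ p ∧ IsIntegral C ((s : K) * x)) ∧
      (∀ x : K, {p : Ideal C | p.IsPrime ∧ p.height = 1 ∧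
        ¬ ∃ s : C, s ∉ p ∧ IsIntegral C ((s : K) * x)}.Finite) :=
  (isBranchSystem_cpl A K).mori_nagata

end concrete

end Groth.Agent.Helper8.MN
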