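import Mathlib
import Groth.Agent.Lib.Helper8.ABS15

/-!
# `Ext` into a regular ring of finite dimension detects projective dimension
-/

set_option autoImplicit false
universe u

namespace Groth.Agent.Helper8.ABS

open CategoryTheory Abelian IsLocalRing

theorem hasProjectiveDimensionLT_iff_forall_maximal {A : Type u} [CommRing A] [IsNoetherianRing A]
    (M : Type u) [AddCommGroup M] [Module A M] [Module.Finite A M] (n : ℕ) :
    HasProjectiveDimensionLT (ModuleCat.of A M) (n + 1) ↔
      ∀ p : MaximalSpectrum A, HasProjectiveDimensionLT
        (ModuleCat.of (Localization.AtPrime p.asIdeal)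
          (LocalizedModule p.asIdeal.primeCompl M)) (n + 1) := by
  have key := ModuleCat.hasProjectiveDimensionLE_iff_forall_maximalSpectrum n (ModuleCat.of A M)
  have hiso : ∀ p : MaximalSpectrum A,
      ((ModuleCat.of A M).localizedModule p.asIdeal.primeCompl) ≅
        ModuleCat.of (Localization.AtPrime p.asIdeal) (LocalizedModule p.asIdeal.primeCompl M) :=
    fun p => (Shrink.linearEquiv (Localization p.asIdeal.primeCompl)
      (LocalizedModule p.asIdeal.primeCompl M)).toModuleIso
  constructor
  · intro h p
    have h1 := key.mp h p
    exact hasProjectiveDimensionLT_of_iso (hiso p) (n + 1)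
  · intro h
    refine key.mpr fun p => ?_
    have := h p
    exact hasProjectiveDimensionLT_of_iso (hiso p).symm (n + 1)

theorem hasProjectiveDimensionLT_of_ext_into_ring_vanish (A : Type u) [CommRing A]
    [IsNoetherianRing A]
    (hreg : ∀ m : MaximalSpectrum A, IsRegularLocalRing (Localization.AtPrime m.asIdeal))
    (hdim : ringKrullDim A < ⊤) (M : Type u) [AddCommGroup M] [Module A M] [Module.Finite A M]
    (d : ℕ)
    (h : ∀ i : ℕ, d < i → Subsingleton (Ext (ModuleCat.of A M) (ModuleCat.of A A) i)) :
    HasProjectiveDimensionLT (ModuleCat.of A M) (d + 1) := by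
  rcases subsingleton_or_nontrivial A with hA | hA
  · have : Subsingleton M := Module.subsingleton A M
    have hz : Limits.IsZero (ModuleCat.of A M) := ModuleCat.isZero_of_subsingleton _
    have := hz.hasProjectiveDimensionLT_zero
    exact hasProjectiveDimensionLT_of_ge _ 0 (d + 1) (by omega)
  obtain ⟨N, hN⟩ : ∃ N : ℕ, ringKrullDim A = N := by
    have h0 : (0 : WithBot ℕ∞) ≤ ringKrullDim A := ringKrullDim_nonneg_of_nontrivial
    generalize ringKrullDim A = D at hdim h0
    induction D with
    | bot => simp at h0
    | coe D =>
      induction D with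
      | top => exact absurd hdim (lt_irrefl _)
      | coe n => exact ⟨n, rfl⟩
  have hfin : HasProjectiveDimensionLT (ModuleCat.of A M) (N + 1) := by
    rw [hasProjectiveDimensionLT_iff_forall_maximal]
    intro m
    have := hreg m
    obtain ⟨N', hN', hlt⟩ := exists_hasProjectiveDimensionLT_of_regular
      (Localization.AtPrime m.asIdeal) (LocalizedModule m.asIdeal.primeCompl M)
    have hle : N' ≤ N := by
      have h1 : ringKrullDim (Localization.AtPrime m.asIdeal) ≤ ringKrullDim A := by
        rw [IsLocalization.AtPrime.ringKrullDim_eq_height m.asIdeal]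
        exact Ideal.height_le_ringKrullDim_of_isPrime
      rw [hN', hN] at h1
      exact_mod_cast h1
    exact hasProjectiveDimensionLT_of_ge _ (N' + 1) (N + 1) (by omega)
  exact hasProjectiveDimensionLT_of_forall_ext_self M (N + 1) d hfin h

end Groth.Agent.Helper8.ABS
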