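import Mathlib
import Groth.Agent.Lib.Helper8.ABS15
import Groth.Agent.Lib.Helper8.RegularLocal6

/-!
# Codimension of the support of `Ext^i(M, A)` over a regular local ring
-/

set_option autoImplicit false
universe u

namespace Groth.Agent.Helper8.ABS

open CategoryTheory Abelian IsLocalRing

theorem coheight_add_le_dim_of_ext_nontrivial (A : Type u) [CommRing A] [IsRegularLocalRing A]
    (M : Type u) [AddCommGroup M] [Module A M] [Module.Finite A M] (i : ℕ) (p : Ideal A)
    [p.IsPrime]
    (h : Nontrivial (Ext
      (ModuleCat.of (Localization.AtPrime p) (LocalizedModule p.primeCompl M))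
      (ModuleCat.of (Localization.AtPrime p) (Localization.AtPrime p)) i)) :
    ringKrullDim (A ⧸ p) + (i : WithBot ℕ∞) ≤ ringKrullDim A := by
  have hreg := isRegularLocalRing_localization A p
  obtain ⟨N', hN', hlt⟩ := exists_hasProjectiveDimensionLT_of_regular
    (Localization.AtPrime p) (LocalizedModule p.primeCompl M)
  have hi : i ≤ N' := by
    by_contra hcon
    push Not at hcon
    have := HasProjectiveDimensionLT.subsingleton
      (ModuleCat.of (Localization.AtPrime p) (LocalizedModule p.primeCompl M)) (N' + 1) i
      (by omega) (ModuleCat.of (Localization.AtPrime p) (Localization.AtPrime p))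
    exact not_subsingleton _ this
  have hht : (p.height : WithBot ℕ∞) = N' := by
    rw [← IsLocalization.AtPrime.ringKrullDim_eq_height p (Localization.AtPrime p), hN']
  have h1 := RLR.height_add_dim_quotient_le p
  rw [hht] at h1
  calc ringKrullDim (A ⧸ p) + (i : WithBot ℕ∞)
      ≤ ringKrullDim (A ⧸ p) + (N' : WithBot ℕ∞) := by gcongr
    _ = (N' : WithBot ℕ∞) + ringKrullDim (A ⧸ p) := add_comm _ _
    _ ≤ ringKrullDim A := h1

end Groth.Agent.Helper8.ABS
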