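import Mathlib
import Groth.Agent.Lib.Helper8.ABS19
import Groth.Agent.Lib.Helper8.ABS15
import Groth.Agent.Lib.Helper8.ABS9
import Groth.Agent.Lib.Helper8.ABS4

/-!
# Ideals with reduced quotient in a two-dimensional regular local ring
-/

set_option autoImplicit false
universe u

namespace Groth.Agent.Helper8.ABS

open CategoryTheory Abelian Limits IsLocalRing LocCoh Depth

theorem ideal_free_of_pd_quotient (A : Type u) [CommRing A] [IsLocalRing A] [IsNoetherianRing A]
    (I : Ideal A) (h : HasProjectiveDimensionLT (ModuleCat.of A (A ⧸ I)) 2) :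
    Module.Free A I := by
  have hS := idealShortComplex_shortExact A I
  have h2 : HasProjectiveDimensionLT (idealShortComplex A I).X₂ 1 := by
    have : Projective (ModuleCat.of A A) :=
      (IsProjective.iff_projective _).mp (inferInstance : Module.Projective A A)
    exact projective_iff_hasProjectiveDimensionLT_one.mp this
  have h3 : HasProjectiveDimensionLT (idealShortComplex A I).X₃ (1 + 1) := h
  have h1 : HasProjectiveDimensionLT (ModuleCat.of A I) 1 := hS.hasProjectiveDimensionLT_X₁ 1 h2 h3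
  exact free_of_projective_local h1

theorem isPrincipal_of_free (A : Type u) [CommRing A] [Nontrivial A] (I : Ideal A)
    [Module.Free A I] : I.IsPrincipal := by
  rw [← Submodule.rank_le_one_iff_isPrincipal]
  calc Module.rank A I ≤ Module.rank A A := Submodule.rank_le I
    _ = 1 := CommSemiring.rank_self A

theorem one_le_depth_quotient_of_isReduced (A : Type u) [CommRing A] [IsLocalRing A]
    [IsNoetherianRing A] (I : Ideal A) (hI : I ≤ maximalIdeal A) (hne : I ≠ maximalIdeal A)
    [IsReduced (A ⧸ I)] : 1 ≤ depth A (A ⧸ I) := by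
  rw [Order.one_le_iff_ne_zero]
  intro h0
  rw [depth_eq_zero_iff] at h0
  obtain ⟨-, x, hx⟩ := (isAssociatedPrime_iff (R := A) (M := A ⧸ I)).mp h0
  obtain ⟨x, rfl⟩ := Ideal.Quotient.mk_surjective x
  have hmem : ∀ y : A, y ∈ maximalIdeal A ↔ y * x ∈ I := by
    intro y
    rw [hx, Submodule.mem_colon_singleton, Submodule.mem_bot, ← Ideal.Quotient.eq_zero_iff_mem,
      map_mul]
    rfl
  by_cases hxm : x ∈ maximalIdeal A
  · have h1 : x * x ∈ I := (hmem x).mp hxm
    have h2 : (Ideal.Quotient.mk I x) * (Ideal.Quotient.mk I x) = 0 := by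
      rw [← map_mul]; exact Ideal.Quotient.eq_zero_iff_mem.mpr h1
    have h3 : Ideal.Quotient.mk I x = 0 := by
      have : IsNilpotent (Ideal.Quotient.mk I x) := ⟨2, by rw [pow_two]; exact h2⟩
      exact this.eq_zero
    have h4 : (1 : A) ∈ maximalIdeal A := by
      rw [hx, Submodule.mem_colon_singleton, Submodule.mem_bot, one_smul]
      exact h3
    exact (Ideal.ne_top_iff_one _).mp (maximalIdeal.isMaximal A).ne_top h4
  · have hu : IsUnit x := by
      by_contra hnu
      exact hxm ((mem_maximalIdeal x).mpr hnu)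
    apply hne
    refine le_antisymm hI fun y hy => ?_
    have h1 : y * x ∈ I := (hmem y).mp hy
    obtain ⟨u, rfl⟩ := hu
    have : y = (y * u) * (u⁻¹ : Aˣ) := by rw [mul_assoc, Units.mul_inv, mul_one]
    rw [this]
    exact I.mul_mem_right _ h1

theorem dim_two_reduced_quotient (A : Type u) [CommRing A] [IsRegularLocalRing A]
    (hdim : ringKrullDim A = 2)
    (I : Ideal A) (hI : I ≤ maximalIdeal A) [IsReduced (A ⧸ I)] :
    I = ⊥ ∨ I = maximalIdeal A ∨
      ∃ f ∈ maximalIdeal A, f ≠ 0 ∧ I = Ideal.span {f} := by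
  by_cases h0 : I = ⊥
  · exact Or.inl h0
  by_cases hm : I = maximalIdeal A
  · exact Or.inr (Or.inl hm)
  refine Or.inr (Or.inr ?_)
  have hdepth := one_le_depth_quotient_of_isReduced A I hI hm
  have hnt : Nontrivial (A ⧸ I) :=
    Ideal.Quotient.nontrivial_iff.mpr (ne_top_of_le_ne_top (maximalIdeal.isMaximal A).ne_top hI)
  obtain ⟨N, hN, hpd⟩ := exists_hasProjectiveDimensionLT_of_regular A (A ⧸ I)
  obtain ⟨e, -, he⟩ := exists_projectiveDimension_eq (A ⧸ I) N hpd
  have hab := auslander_buchsbaum A (A ⧸ I) e he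
  have hdA : ((depth A A : ℕ∞) : WithBot ℕ∞) = 2 := by rw [depth_eq_dim_of_regular, hdim]
  have hdA' : depth A A = 2 := by
    have : ((depth A A : ℕ∞) : WithBot ℕ∞) = ((2 : ℕ∞) : WithBot ℕ∞) := hdA
    exact WithBot.coe_injective this
  have he1 : e ≤ 1 := by
    rw [hdA'] at hab
    have h2 : (e : ℕ∞) + 1 ≤ 2 := by
      rw [hab]; exact add_le_add_right hdepth _
    have h3 : ((e + 1 : ℕ) : ℕ∞) ≤ ((2 : ℕ) : ℕ∞) := by exact_mod_cast h2
    have := Nat.cast_le.mp h3
    omega
  have hpd2 : HasProjectiveDimensionLT (ModuleCat.of A (A ⧸ I)) 2 := by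
    have hle : projectiveDimension (ModuleCat.of A (A ⧸ I)) ≤ (1 : ℕ) := by
      rw [he]; exact_mod_cast he1
    exact (projectiveDimension_le_iff _ 1).mp hle
  have hfree := ideal_free_of_pd_quotient A I hpd2
  have hprinc := isPrincipal_of_free A I
  obtain ⟨f, hf⟩ := hprinc.principal
  have hf' : I = Ideal.span {f} := hf
  refine ⟨f, hI (hf' ▸ Ideal.subset_span rfl), ?_, hf'⟩
  rintro rfl
  apply h0
  rw [hf']
  simp

end Groth.Agent.Helper8.ABS
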