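import Mathlib.RingTheory.Ideal.KrullsHeightTheorem
import Mathlib.RingTheory.Ideal.MinimalPrime.Noetherian
import Mathlib.RingTheory.Ideal.Height

namespace Groth.Agent.Helper8

/-- Elements `f_1, …, f_r` of `I` such that every prime containing them but not `I`
has height at least `r`. -/
theorem exists_fin_height_ge {R : Type*} [CommRing R] [IsNoetherianRing R] (I : Ideal R) (r : ℕ) :
    ∃ f : Fin r → R, (∀ i, f i ∈ I) ∧ ∀ (p : Ideal R) [p.IsPrime],
      Ideal.span (Set.range f) ≤ p → ¬ I ≤ p → (r : ℕ∞) ≤ p.height := by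
  classical
  induction r with
  | zero => exact ⟨Fin.elim0, fun i => i.elim0, fun p _ _ _ => by simp⟩
  | succ r ih =>
    obtain ⟨f, hfI, hf⟩ := ih
    have hfin : (Ideal.span (Set.range f)).minimalPrimes.Finite :=
      Ideal.finite_minimalPrimes_of_isNoetherianRing R _
    let Q : Finset (Ideal R) := hfin.toFinset.filter fun q => ¬ I ≤ q
    have hav : ¬ ((I : Set R) ⊆ ⋃ q ∈ (Q : Set (Ideal R)), (q : Set R)) := by
      intro h
      obtain ⟨q, hq, hIq⟩ := (Ideal.subset_union_prime (R := R) (s := Q) (f := fun q => q) ⊥ ⊥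
        (fun q hq _ _ => by
          have := (Finset.mem_filter.1 hq).1
          rw [Set.Finite.mem_toFinset] at this
          exact this.isPrime) (I := I)).1 h
      exact (Finset.mem_filter.1 hq).2 hIq
    rw [Set.not_subset] at hav
    obtain ⟨g, hgI, hg⟩ := hav
    have hg' : ∀ q ∈ (Ideal.span (Set.range f)).minimalPrimes, ¬ I ≤ q → g ∉ q := by
      intro q hq hIq hgq
      apply hg
      simp only [Set.mem_iUnion]
      refine ⟨q, ?_, hgq⟩
      simp only [Finset.coe_filter, Set.mem_ofPred_eq, Q]
      exact ⟨by simpa using hq, hIq⟩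
    refine ⟨Fin.snoc f g, ?_, ?_⟩
    · intro i
      refine Fin.lastCases ?_ (fun j => ?_) i
      · simpa using hgI
      · simpa using hfI j
    · intro p hp hle hIp
      have hfp : Ideal.span (Set.range f) ≤ p := by
        refine le_trans (Ideal.span_mono ?_) hle
        rintro _ ⟨j, rfl⟩
        exact ⟨Fin.castSucc j, by simp⟩
      have hgp : g ∈ p := hle (Ideal.subset_span ⟨Fin.last r, by simp⟩)
      obtain ⟨q, hq, hqp⟩ := Ideal.exists_minimalPrimes_le hfp
      have : q.IsPrime := hq.isPrime
      have hIq : ¬ I ≤ q := fun h => hIp (h.trans hqp)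
      have hlt : q < p := lt_of_le_of_ne hqp (by
        rintro rfl
        exact hg' q hq hIq hgp)
      have h1 : (r : ℕ∞) ≤ q.height := hf q hq.1.2 hIq
      have h2 : q.height < p.height := Ideal.height_strict_mono_of_isPrime_of_isPrime hlt
      calc ((r + 1 : ℕ) : ℕ∞) = (r : ℕ∞) + 1 := by push_cast; rfl
        _ ≤ q.height + 1 := by gcongr
        _ ≤ p.height := Order.add_one_le_of_lt h2

end Groth.Agent.Helper8
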