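import Mathlib
import Groth.Prelude
import Groth.Agent.Lib.Helper8.MinRes2
import Groth.Agent.Lib.Helper8.Depth28
import Groth.Agent.Lib.Helper8.Depth6
import Groth.Agent.Lib.Helper8.Depth3
import Groth.Agent.Lib.Helper8.Acyc1

/-!
# The acyclicity lemma: depth of the top non-vanishing homology
-/

set_option autoImplicit false
universe u

namespace Groth.Agent.Helper8.Acyc

open CategoryTheory LocCoh IsLocalRing Depth

variable {R : Type u} [CommRing R] [IsLocalRing R] [IsNoetherianRing R]

theorem le_depth_of_cases (C : ChainComplex (ModuleCat.{u} R) ℕ) (e : ℕ)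
    (hzero : ∀ j, e < j → Limits.IsZero (C.X j))
    (hdepth : ∀ j, j ≤ e → (j : ℕ∞) ≤ depth R (C.X j)) (j : ℕ) :
    (j : ℕ∞) ≤ depth R (C.X j) := by
  by_cases h : j ≤ e
  · exact hdepth j h
  · have hsub : Subsingleton (C.X j) := ModuleCat.subsingleton_of_isZero (hzero j (by omega))
    rw [depth_eq_top_of_subsingleton]
    exact le_top

theorem le_depth_range (C : ChainComplex (ModuleCat.{u} R) ℕ) (e : ℕ)
    (hzero : ∀ j, e < j → Limits.IsZero (C.X j)) (hfin : ∀ j, Module.Finite R (C.X j))
    (hdepth : ∀ j, j ≤ e → (j : ℕ∞) ≤ depth R (C.X j)) (i : ℕ)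
    (habove : ∀ j, i < j → C.ExactAt j) :
    ∀ t j, e ≤ j + t → i ≤ j →
      ((j + 1 : ℕ) : ℕ∞) ≤ depth R (LinearMap.range (C.d (j + 1) j).hom) := by
  intro t
  induction t with
  | zero =>
    intro j hj _
    have hsub : Subsingleton (C.X (j + 1)) :=
      ModuleCat.subsingleton_of_isZero (hzero _ (by omega))
    have : Subsingleton (LinearMap.range (C.d (j + 1) j).hom) := by
      refine ⟨fun x y => ?_⟩
      obtain ⟨x, a, rfl⟩ := x
      obtain ⟨y, b, rfl⟩ := y
      rw [Subsingleton.elim a b]
    rw [depth_eq_top_of_subsingleton]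
    exact le_top
  | succ t ih =>
    intro j hj hij
    by_cases hje : e ≤ j
    · have hsub : Subsingleton (C.X (j + 1)) :=
        ModuleCat.subsingleton_of_isZero (hzero _ (by omega))
      have : Subsingleton (LinearMap.range (C.d (j + 1) j).hom) := by
        refine ⟨fun x y => ?_⟩
        obtain ⟨x, a, rfl⟩ := x
        obtain ⟨y, b, rfl⟩ := y
        rw [Subsingleton.elim a b]
      rw [depth_eq_top_of_subsingleton]
      exact le_top
    · have h1 := ih (j + 1) (by omega) (by omega)
      have hex := habove (j + 1) (by omega)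
      rw [HomologicalComplex.exactAt_iff_isZero_homology] at hex
      have hker := MinRes.ker_eq_range_of_isZero_homology C j hex
      rw [← hker] at h1
      haveI := hfin (j + 1)
      haveI := hfin j
      have h2 := idealDepth_right_ge (maximalIdeal R)
        (LinearMap.ker (C.d (j + 1) j).hom).subtype
        (LinearMap.rangeRestrict (C.d (j + 1) j).hom)
        (Submodule.subtype_injective _) (LinearMap.surjective_rangeRestrict _)
        (by
          intro x
          constructor
          · intro hx
            refine ⟨⟨x, ?_⟩, rfl⟩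
            rw [LinearMap.mem_ker]
            have := congrArg Subtype.val hx
            simpa using this
          · rintro ⟨y, rfl⟩
            apply Subtype.ext
            simp)
      refine le_trans (le_min ?_ ?_) h2
      · have := le_depth_of_cases C e hzero hdepth (j + 1)
        exact this
      · exact nat_le_sub_one h1

/-- S2064: the acyclicity lemma. -/
theorem one_le_depth_homology (C : ChainComplex (ModuleCat.{u} R) ℕ) (e : ℕ)
    (hzero : ∀ j, e < j → Limits.IsZero (C.X j)) (hfin : ∀ j, Module.Finite R (C.X j))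
    (hdepth : ∀ j, j ≤ e → (j : ℕ∞) ≤ depth R (C.X j)) (i : ℕ) (hi : 0 < i)
    (habove : ∀ j, i < j → C.ExactAt j) :
    1 ≤ depth R (C.homology i) := by
  obtain ⟨b, rfl⟩ : ∃ b, i = b + 1 := ⟨i - 1, by omega⟩
  haveI := hfin (b + 1)
  haveI := hfin (b + 1 + 1)
  let S := C.sc' (b + 1 + 1) (b + 1) b
  haveI : Module.Finite R S.X₂ := hfin (b + 1)
  haveI : Module.Finite R S.X₁ := hfin (b + 1 + 1)
  let eH : C.homology (b + 1) ≃ₗ[R]
      (LinearMap.ker S.g.hom ⧸ LinearMap.range S.moduleCatToCycles) :=
    ((C.homologyIsoSc' (b + 1 + 1) (b + 1) b (by simp) (by simp)) ≪≫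
      S.moduleCatHomologyIso).toLinearEquiv
  unfold LocCoh.depth
  rw [idealDepth_congr eH]
  -- the boundaries
  have hB : ((b + 1 + 1 : ℕ) : ℕ∞) ≤ idealDepth (maximalIdeal R) (LinearMap.range S.f.hom) :=
    le_depth_range C e hzero hfin hdepth (b + 1) habove e (b + 1) (by omega) le_rfl
  have hmap : (LinearMap.range S.moduleCatToCycles).map (LinearMap.ker S.g.hom).subtype =
      LinearMap.range S.f.hom := by
    rw [← LinearMap.range_comp]
    rfl
  let eB : LinearMap.range S.moduleCatToCycles ≃ₗ[R] LinearMap.range S.f.hom :=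
    (Submodule.equivMapOfInjective (LinearMap.ker S.g.hom).subtype
      (Submodule.subtype_injective _) (LinearMap.range S.moduleCatToCycles)).trans
      (LinearEquiv.ofEq _ _ hmap)
  rw [← idealDepth_congr eB] at hB
  have hZ1 : 1 ≤ idealDepth (maximalIdeal R) (LinearMap.ker S.g.hom) := by
    apply one_le_idealDepth_of_injective (maximalIdeal R) (LinearMap.ker S.g.hom).subtype
      (Submodule.subtype_injective _)
    have h1 : ((b + 1 : ℕ) : ℕ∞) ≤ idealDepth (maximalIdeal R) S.X₂ :=
      le_depth_of_cases C e hzero hdepth (b + 1)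
    refine le_trans ?_ h1
    exact_mod_cast Nat.le_add_left 1 b
  have h2 := idealDepth_right_ge (maximalIdeal R) (LinearMap.range S.moduleCatToCycles).subtype
    (LinearMap.range S.moduleCatToCycles).mkQ
    (Submodule.subtype_injective _) (Submodule.mkQ_surjective _)
    (LinearMap.exact_subtype_mkQ (LinearMap.range S.moduleCatToCycles))
  refine le_trans (le_min hZ1 ?_) h2
  have h3 : ((b + 1 : ℕ) : ℕ∞) ≤
      idealDepth (maximalIdeal R) (LinearMap.range S.moduleCatToCycles) - 1 := nat_le_sub_one hB
  refine le_trans ?_ h3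
  exact_mod_cast Nat.le_add_left 1 b

end Groth.Agent.Helper8.Acyc
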