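import Mathlib
import Groth.Agent.Lib.Helper8.Acyc1
import Groth.Agent.Lib.Helper8.ABS9
import Groth.Agent.Lib.Helper1.MiscL

/-!
# Peskine–Szpiro acyclicity for a complex of matrices (restricted hypotheses)
-/

set_option autoImplicit false
universe u

namespace Groth.Agent.Helper8.Acyc6

open LocCoh IsLocalRing Depth Acyc

variable {R : Type u} [CommRing R] [IsLocalRing R] [IsNoetherianRing R]

section Complex

variable (g : ℕ) (X : ℕ → Type u) [∀ i, AddCommGroup (X i)] [∀ i, Module R (X i)]
  [∀ i, Module.Finite R (X i)] (d : ∀ i, X i →ₗ[R] X (i + 1))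
  (hdd : ∀ i (x : X i), d (i + 1) (d i x) = 0)

theorem acyclicity_aux' (hdepth : ∀ i, i < g → (g : ℕ∞) ≤ depth R (X i))
    (h0 : IsFiniteLength R (LinearMap.ker (d 0)))
    (hH : ∀ i, i + 1 < g → IsFiniteLength R
      (LinearMap.ker (d (i + 1)) ⧸ LinearMap.range (toCyc X d hdd i))) :
    ∀ i, i < g → LinearMap.ker (d 0) = ⊥ ∧ (∀ j, j < i → LinearMap.range (toCyc X d hdd j) = ⊤) ∧
      ((g - i : ℕ) : ℕ∞) ≤ depth R (LinearMap.range (toCyc X d hdd i)) := by
  intro i
  induction i with
  | zero =>
    intro hg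
    have h1g : (1 : ℕ∞) ≤ g := by exact_mod_cast hg
    have h1 : 1 ≤ depth R (LinearMap.ker (d 0)) :=
      one_le_idealDepth_of_injective (maximalIdeal R) (LinearMap.ker (d 0)).subtype
        (Submodule.injective_subtype _) (h1g.trans (hdepth 0 hg))
    have hsub := subsingleton_of_isFiniteLength_of_one_le_depth _ h0 h1
    have hbot : LinearMap.ker (d 0) = ⊥ := by
      rw [Submodule.eq_bot_iff]
      intro x hx
      have := Subsingleton.elim (⟨x, hx⟩ : LinearMap.ker (d 0)) 0
      exact congrArg Subtype.val this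
    refine ⟨hbot, fun j hj => absurd hj (by omega), ?_⟩
    have hinj : Function.Injective (toCyc X d hdd 0) := by
      rw [← LinearMap.ker_eq_bot, LinearMap.ker_codRestrict]
      exact hbot
    have e := LinearEquiv.ofInjective (toCyc X d hdd 0) hinj
    have : depth R (X 0) = depth R (LinearMap.range (toCyc X d hdd 0)) :=
      idealDepth_congr (I := maximalIdeal R) e
    rw [← this]
    simpa using hdepth 0 hg
  | succ i ih =>
    intro hg
    obtain ⟨hbot, hex, hdep⟩ := ih (by omega)
    set B := LinearMap.range (toCyc X d hdd i) with hB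
    have h1g : (1 : ℕ∞) ≤ g := by
      have : 1 ≤ g := by omega
      exact_mod_cast this
    have hZ1 : 1 ≤ depth R (LinearMap.ker (d (i + 1))) :=
      one_le_idealDepth_of_injective (maximalIdeal R) (LinearMap.ker (d (i + 1))).subtype
        (Submodule.injective_subtype _) (h1g.trans (hdepth (i + 1) hg))
    have hB2 : (2 : ℕ∞) ≤ depth R B := by
      refine le_trans ?_ hdep
      have : 2 ≤ g - i := by omega
      exact_mod_cast this
    have hright := idealDepth_right_ge (maximalIdeal R) B.subtype B.mkQ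
      (Submodule.injective_subtype _) (Submodule.mkQ_surjective _) (LinearMap.exact_subtype_mkQ B)
    have hH1 : 1 ≤ depth R (LinearMap.ker (d (i + 1)) ⧸ B) := by
      refine le_trans (le_min hZ1 ?_) hright
      have : ((1 + 1 : ℕ) : ℕ∞) ≤ depth R B := by exact_mod_cast hB2
      exact_mod_cast nat_le_sub_one this
    have hsub := subsingleton_of_isFiniteLength_of_one_le_depth _ (hH i hg) hH1
    have hBtop : B = ⊤ := by
      rw [← Submodule.Quotient.subsingleton_iff]
      exact hsub
    have hex' : ∀ j, j < i + 1 → LinearMap.range (toCyc X d hdd j) = ⊤ := by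
      intro j hj
      rcases Nat.lt_succ_iff_lt_or_eq.mp hj with hj' | rfl
      · exact hex j hj'
      · exact hBtop
    refine ⟨hbot, hex', ?_⟩
    have hZdep : ((g - i : ℕ) : ℕ∞) ≤ depth R (LinearMap.ker (d (i + 1))) := by
      have e : B ≃ₗ[R] LinearMap.ker (d (i + 1)) := LinearEquiv.ofTop B hBtop
      have : depth R B = depth R (LinearMap.ker (d (i + 1))) :=
        idealDepth_congr (I := maximalIdeal R) e
      rw [← this]; exact hdep
    have hexact : Function.Exact (LinearMap.ker (d (i + 1))).subtype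
        (toCyc X d hdd (i + 1)).rangeRestrict := by
      intro x
      constructor
      · intro hx
        have h1 := congrArg Subtype.val hx
        have h2 : ((toCyc X d hdd (i + 1)) x : X (i + 1 + 1)) = 0 := by
          have h3 := congrArg Subtype.val h1
          exact h3
        have h3 : d (i + 1) x = 0 := h2
        exact ⟨⟨x, h3⟩, rfl⟩
      · rintro ⟨⟨y, hy⟩, rfl⟩
        apply Subtype.ext
        apply Subtype.ext
        exact hy
    have hright2 := idealDepth_right_ge (maximalIdeal R) (LinearMap.ker (d (i + 1))).subtype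
      (toCyc X d hdd (i + 1)).rangeRestrict (Submodule.injective_subtype _)
      (LinearMap.surjective_rangeRestrict _) hexact
    refine le_trans (le_min ?_ ?_) hright2
    · refine le_trans ?_ (hdepth (i + 1) hg)
      exact_mod_cast Nat.sub_le g (i + 1)
    · apply nat_le_sub_one
      have : g - (i + 1) + 1 = g - i := by omega
      rw [this]
      exact hZdep

theorem acyclicity' (hdepth : ∀ i, i < g → (g : ℕ∞) ≤ depth R (X i))
    (h0 : IsFiniteLength R (LinearMap.ker (d 0)))
    (hH : ∀ i, i + 1 < g → IsFiniteLength R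
      (LinearMap.ker (d (i + 1)) ⧸ LinearMap.range (toCyc X d hdd i))) :
    (0 < g → LinearMap.ker (d 0) = ⊥) ∧
      ∀ i, i + 1 < g → LinearMap.range (d i) = LinearMap.ker (d (i + 1)) := by
  constructor
  · intro hg
    exact (acyclicity_aux' g X d hdd hdepth h0 hH 0 hg).1
  · intro i hi
    have h := (acyclicity_aux' g X d hdd hdepth h0 hH (i + 1) hi).2.1 i (by omega)
    apply le_antisymm
    · rintro _ ⟨x, rfl⟩
      exact hdd i x
    · intro y hy
      have : (⟨y, hy⟩ : LinearMap.ker (d (i + 1))) ∈ LinearMap.range (toCyc X d hdd i) := by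
        rw [h]; trivial
      obtain ⟨x, hx⟩ := this
      exact ⟨x, congrArg Subtype.val hx⟩

end Complex

section Loc

theorem exists_smul_eq_zero {p : Ideal R} [p.IsPrime] {N : ℕ} (v : Fin N → R)
    (h : ∀ k, algebraMap R (Localization.AtPrime p) (v k) = 0) :
    ∃ s ∈ p.primeCompl, s • v = 0 := by
  classical
  have h' : ∀ k, ∃ m : p.primeCompl, (m : R) * v k = 0 := fun k =>
    (IsLocalization.map_eq_zero_iff p.primeCompl (Localization.AtPrime p) (v k)).mp (h k)
  choose s hs using h'
  refine ⟨∏ k, (s k : R), Submonoid.prod_mem _ (fun k _ => (s k).2), ?_⟩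
  funext k
  rw [Pi.smul_apply, smul_eq_mul, Pi.zero_apply,
    ← Finset.mul_prod_erase Finset.univ (fun k => (s k : R)) (Finset.mem_univ k)]
  rw [mul_comm ((s k : R)) _, mul_assoc, hs k, mul_zero]

theorem comp_mulVec {p : Ideal R} [p.IsPrime] {M N : ℕ} (B : Matrix (Fin M) (Fin N) R)
    (v : Fin N → R) :
    (B.map (algebraMap R (Localization.AtPrime p))).mulVec
        ((algebraMap R (Localization.AtPrime p)) ∘ v)
      = (algebraMap R (Localization.AtPrime p)) ∘ (B.mulVec v) := by
  funext i
  exact (RingHom.map_mulVec (algebraMap R (Localization.AtPrime p)) B v i).symm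

theorem lift_range {p : Ideal R} [p.IsPrime] {M N : ℕ} (C : Matrix (Fin M) (Fin N) R)
    (v : Fin M → R)
    (h : (algebraMap R (Localization.AtPrime p)) ∘ v ∈
      LinearMap.range ((C.map (algebraMap R (Localization.AtPrime p))).mulVecLin)) :
    ∃ s ∈ p.primeCompl, ∃ w : Fin N → R, C.mulVec w = s • v := by
  obtain ⟨w', hw'⟩ := h
  rw [Matrix.mulVecLin_apply] at hw'
  obtain ⟨t, ht⟩ := IsLocalization.exist_integer_multiples_of_finite p.primeCompl w'
  have ht' : ∀ i, ∃ r : R, algebraMap R (Localization.AtPrime p) r = (t : R) • w' i :=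
    fun i => RingHom.mem_rangeS.mp (ht i)
  choose w hw using ht'
  have e1 : (algebraMap R (Localization.AtPrime p)) ∘ w = (t : R) • w' := funext hw
  have e2 : (algebraMap R (Localization.AtPrime p)) ∘ (C.mulVec w) =
      (t : R) • ((algebraMap R (Localization.AtPrime p)) ∘ v) := by
    rw [← comp_mulVec, e1, Matrix.mulVec_smul, hw']
  have h2 : ∀ k, algebraMap R (Localization.AtPrime p) ((C.mulVec w - (t : R) • v) k) = 0 := by
    intro k
    have hk : algebraMap R (Localization.AtPrime p) (C.mulVec w k) =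
        (t : R) • algebraMap R (Localization.AtPrime p) (v k) := congrFun e2 k
    rw [Pi.sub_apply, Pi.smul_apply, map_sub, hk, smul_eq_mul, map_mul, Algebra.smul_def,
      sub_self]
  obtain ⟨s, hs, hsv⟩ := exists_smul_eq_zero (p := p) _ h2
  refine ⟨s * t, p.primeCompl.mul_mem hs t.2, s • w, ?_⟩
  rw [Matrix.mulVec_smul, mul_smul]
  rw [smul_sub, sub_eq_zero] at hsv
  exact hsv

theorem ker_finiteLength {M N : ℕ} (B : Matrix (Fin M) (Fin N) R)
    (hloc : ∀ (p : Ideal R) [p.IsPrime], p ≠ maximalIdeal R →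
      LinearMap.ker ((B.map (algebraMap R (Localization.AtPrime p))).mulVecLin) = ⊥) :
    IsFiniteLength R (LinearMap.ker B.mulVecLin) := by
  refine (Groth.Agent.Helper1.MiscL.support_maximal_iff_isFiniteLength R _).mp ?_
  intro q hq
  by_contra hmax
  have hne : q.asIdeal ≠ maximalIdeal R :=
    fun h => hmax (by rw [h]; exact maximalIdeal.isMaximal R)
  refine (Module.notMem_support_iff.mpr ?_) hq
  rw [LocalizedModule.subsingleton_iff]
  rintro ⟨v, hv⟩
  have hv' : B.mulVec v = 0 := by
    rw [LinearMap.mem_ker, Matrix.mulVecLin_apply] at hv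
    exact hv
  have h1 : (algebraMap R (Localization.AtPrime q.asIdeal)) ∘ v ∈
      LinearMap.ker ((B.map (algebraMap R (Localization.AtPrime q.asIdeal))).mulVecLin) := by
    rw [LinearMap.mem_ker, Matrix.mulVecLin_apply, comp_mulVec, hv']
    funext i
    simp
  rw [hloc q.asIdeal hne, Submodule.mem_bot] at h1
  obtain ⟨s, hs, hsv⟩ := exists_smul_eq_zero (p := q.asIdeal) v (fun k => congrFun h1 k)
  exact ⟨s, hs, Subtype.ext hsv⟩

theorem homology_finiteLength {L M N : ℕ} (B : Matrix (Fin L) (Fin M) R)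
    (C : Matrix (Fin M) (Fin N) R)
    (hBC : ∀ x, B.mulVecLin (C.mulVecLin x) = 0)
    (hloc : ∀ (p : Ideal R) [p.IsPrime], p ≠ maximalIdeal R →
      LinearMap.ker ((B.map (algebraMap R (Localization.AtPrime p))).mulVecLin) =
        LinearMap.range ((C.map (algebraMap R (Localization.AtPrime p))).mulVecLin)) :
    IsFiniteLength R (LinearMap.ker B.mulVecLin ⧸ LinearMap.range
      (C.mulVecLin.codRestrict (LinearMap.ker B.mulVecLin)
        (fun x => LinearMap.mem_ker.mpr (hBC x)))) := by
  refine (Groth.Agent.Helper1.MiscL.support_maximal_iff_isFiniteLength R _).mp ?_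
  intro q hq
  by_contra hmax
  have hne : q.asIdeal ≠ maximalIdeal R :=
    fun h => hmax (by rw [h]; exact maximalIdeal.isMaximal R)
  refine (Module.notMem_support_iff.mpr ?_) hq
  rw [LocalizedModule.subsingleton_iff]
  intro x
  obtain ⟨⟨v, hv⟩, rfl⟩ := Submodule.Quotient.mk_surjective _ x
  have hv' : B.mulVec v = 0 := by
    rw [LinearMap.mem_ker, Matrix.mulVecLin_apply] at hv
    exact hv
  have h1 : (algebraMap R (Localization.AtPrime q.asIdeal)) ∘ v ∈
      LinearMap.ker ((B.map (algebraMap R (Localization.AtPrime q.asIdeal))).mulVecLin) := by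
    rw [LinearMap.mem_ker, Matrix.mulVecLin_apply, comp_mulVec, hv']
    funext i
    simp
  rw [hloc q.asIdeal hne] at h1
  obtain ⟨s, hs, w, hw⟩ := lift_range (p := q.asIdeal) C v h1
  refine ⟨s, hs, ?_⟩
  rw [← Submodule.Quotient.mk_smul, Submodule.Quotient.mk_eq_zero]
  refine ⟨w, Subtype.ext ?_⟩
  exact hw

end Loc

section Main

theorem depth_pi_ge {g : ℕ∞} (hg : g ≤ depth R R) (k : ℕ) : g ≤ depth R (Fin k → R) := by
  rcases Nat.eq_zero_or_pos k with h | h
  · subst h
    haveI : Subsingleton (Fin 0 → R) := ⟨fun a b => funext fun k => k.elim0⟩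
    rw [depth_eq_top_of_subsingleton R (Fin 0 → R)]
    exact le_top
  · haveI : Nonempty (Fin k) := ⟨⟨0, h⟩⟩
    haveI : Nontrivial (Fin k → R) := inferInstance
    rw [Groth.Agent.Helper8.ABS.depth_of_free]
    exact hg

variable (n : ℕ → ℕ) (A : (i : ℕ) → Matrix (Fin (n i)) (Fin (n (i + 1))) R)

/-- the differential out of degree `m` (lowering the index) -/
noncomputable def D : (m : ℕ) → (Fin (n m) → R) →ₗ[R] (Fin (n (Nat.pred m)) → R)
  | 0 => 0
  | (j + 1) => (A j).mulVecLin

theorem D_comp (e' : ℕ) (hA : ∀ i, i + 2 ≤ e' + 1 → A i * A (i + 1) = 0) :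
    ∀ m, m ≤ e' + 1 → ∀ x : Fin (n m) → R, D n A (Nat.pred m) (D n A m x) = 0
  | 0, _, x => map_zero (D n A (Nat.pred 0))
  | 1, _, x => LinearMap.zero_apply _
  | (j + 2), hm, x => by
      show (A j).mulVecLin ((A (j + 1)).mulVecLin x) = 0
      rw [Matrix.mulVecLin_apply, Matrix.mulVecLin_apply, Matrix.mulVec_mulVec, hA j hm,
        Matrix.zero_mulVec]

/-- finite length of the homology at `pred m` -/
def HFL (m : ℕ) : Prop :=
  ∀ (h : ∀ x : Fin (n m) → R, D n A (Nat.pred m) (D n A m x) = 0),
    IsFiniteLength R (LinearMap.ker (D n A (Nat.pred m)) ⧸ LinearMap.range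
      ((D n A m).codRestrict (LinearMap.ker (D n A (Nat.pred m)))
        (fun x => LinearMap.mem_ker.mpr (h x))))

/-- exactness at `pred m` -/
def EX (m : ℕ) : Prop := LinearMap.range (D n A m) = LinearMap.ker (D n A (Nat.pred m))

theorem HFL_of (j : ℕ)
    (hloc : ∀ (p : Ideal R) [p.IsPrime], p ≠ maximalIdeal R →
      LinearMap.ker (((A j).map (algebraMap R (Localization.AtPrime p))).mulVecLin) =
        LinearMap.range (((A (j + 1)).map (algebraMap R (Localization.AtPrime p))).mulVecLin)) :
    HFL n A (j + 2) := by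
  intro h
  exact homology_finiteLength (A j) (A (j + 1)) h hloc

/-- the cochain-indexed modules -/
abbrev XX (R : Type u) [CommRing R] (n : ℕ → ℕ) (e' : ℕ) (i : ℕ) : Type u :=
  Fin (n (e' + 1 - i)) → R

/-- the cochain-indexed differentials -/
noncomputable abbrev dd (e' : ℕ) (i : ℕ) : XX R n e' i →ₗ[R] XX R n e' (i + 1) :=
  D n A (e' + 1 - i)

theorem main (e' : ℕ) (hA : ∀ i, i + 2 ≤ e' + 1 → A i * A (i + 1) = 0)
    (hdepthR : ((e' + 1 : ℕ) : ℕ∞) ≤ depth R R)
    (hloc : ∀ (p : Ideal R) [p.IsPrime], p ≠ maximalIdeal R →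
      LinearMap.ker ((A e').map (algebraMap R (Localization.AtPrime p))).mulVecLin = ⊥ ∧
        ∀ i, i + 2 ≤ e' + 1 →
          LinearMap.ker ((A i).map (algebraMap R (Localization.AtPrime p))).mulVecLin =
            LinearMap.range
              ((A (i + 1)).map (algebraMap R (Localization.AtPrime p))).mulVecLin) :
    LinearMap.ker (A e').mulVecLin = ⊥ ∧
      ∀ i, i + 2 ≤ e' + 1 →
        LinearMap.ker (A i).mulVecLin = LinearMap.range (A (i + 1)).mulVecLin := by
  have hdd : ∀ i (x : XX R n e' i), dd n A e' (i + 1) (dd n A e' i x) = 0 := fun i x =>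
    D_comp n A e' hA (e' + 1 - i) (Nat.sub_le _ _) x
  have hdepth : ∀ i, i < e' + 1 → ((e' + 1 : ℕ) : ℕ∞) ≤ depth R (XX R n e' i) := fun i _ =>
    depth_pi_ge hdepthR _
  have h0 : IsFiniteLength R (LinearMap.ker (dd n A e' 0)) :=
    ker_finiteLength (A e') (fun p _ hp => (hloc p hp).1)
  have hH : ∀ i, i + 1 < e' + 1 → IsFiniteLength R
      (LinearMap.ker (dd n A e' (i + 1)) ⧸
        LinearMap.range (toCyc (XX R n e') (dd n A e') hdd i)) := by
    intro i hi
    obtain ⟨j, hj⟩ : ∃ j, e' + 1 - i = j + 2 := ⟨e' - 1 - i, by omega⟩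
    have key : HFL n A (e' + 1 - i) := by
      rw [hj]
      exact HFL_of n A j (fun p _ hp => (hloc p hp).2 j (by omega))
    exact key (hdd i)
  obtain ⟨hker, hex⟩ := acyclicity' (e' + 1) (XX R n e') (dd n A e') hdd hdepth h0 hH
  refine ⟨hker (Nat.succ_pos _), ?_⟩
  intro j hj
  have hi : (e' - 1 - j) + 1 < e' + 1 := by omega
  have h := hex (e' - 1 - j) hi
  have key : EX n A (e' + 1 - (e' - 1 - j)) := h
  have hm : e' + 1 - (e' - 1 - j) = j + 2 := by omega
  rw [hm] at key
  exact key.symm

end Main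

end Groth.Agent.Helper8.Acyc6
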