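import Mathlib
import Groth.Prelude.Def_CAlgX
import Groth.Agent.Lib.Helper8.AdicFS1

/-!
# Formal smoothness for an adic topology: lifting derivations with values in `B/J`-modules
-/

set_option autoImplicit false

namespace Groth.Agent.Helper8.AdicDer

open CAlgX

universe u

variable {A B : Type u} [CommRing A] [CommRing B] [Algebra A B] {J : Ideal B}

/-- If `B` is formally smooth over `A` for the `J`-adic topology, `A`-derivations of `B` with
values in `B/J`-modules lift along surjections of `B/J`-modules. -/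
theorem exists_derivation_lift (h : IsAdicFormallySmooth A B J)
    {M N : Type u} [AddCommGroup M] [AddCommGroup N]
    [Module A M] [Module B M] [Module (B ⧸ J) M] [IsScalarTower A B M] [IsScalarTower B (B ⧸ J) M]
    [Module A N] [Module B N] [Module (B ⧸ J) N] [IsScalarTower A B N] [IsScalarTower B (B ⧸ J) N]
    (u : M →ₗ[B ⧸ J] N) (hu : Function.Surjective u) (D : Derivation A B N) :
    ∃ D' : Derivation A B M, ∀ b, u (D' b) = D b := by
  classical
  letI opM : Module (B ⧸ J)ᵐᵒᵖ M :=
    Module.compHom M ((RingHom.id (B ⧸ J)).fromOpposite (fun _ _ => mul_comm _ _))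
  haveI : IsCentralScalar (B ⧸ J) M := ⟨fun c m => rfl⟩
  letI opN : Module (B ⧸ J)ᵐᵒᵖ N :=
    Module.compHom N ((RingHom.id (B ⧸ J)).fromOpposite (fun _ _ => mul_comm _ _))
  haveI : IsCentralScalar (B ⧸ J) N := ⟨fun c m => rfl⟩
  have hopM : ∀ (c : B ⧸ J) (m : M), MulOpposite.op c • m = c • m := fun c m => rfl
  have hopN : ∀ (c : B ⧸ J) (m : N), MulOpposite.op c • m = c • m := fun c m => rfl
  have hmkM : ∀ (b : B) (m : M), (Ideal.Quotient.mk J b) • m = b • m := fun b m =>
    IsScalarTower.algebraMap_smul (B ⧸ J) b m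
  have hmkN : ∀ (b : B) (m : N), (Ideal.Quotient.mk J b) • m = b • m := fun b m =>
    IsScalarTower.algebraMap_smul (B ⧸ J) b m
  letI algM : Algebra A (TrivSqZeroExt (B ⧸ J) M) :=
    ((TrivSqZeroExt.inlHom (B ⧸ J) M).comp (algebraMap A (B ⧸ J))).toAlgebra
  letI algN : Algebra A (TrivSqZeroExt (B ⧸ J) N) :=
    ((TrivSqZeroExt.inlHom (B ⧸ J) N).comp (algebraMap A (B ⧸ J))).toAlgebra
  have halgM : ∀ a : A, algebraMap A (TrivSqZeroExt (B ⧸ J) M) a =
      TrivSqZeroExt.inl (algebraMap A (B ⧸ J) a) := fun a => rfl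
  have halgN : ∀ a : A, algebraMap A (TrivSqZeroExt (B ⧸ J) N) a =
      TrivSqZeroExt.inl (algebraMap A (B ⧸ J) a) := fun a => rfl
  -- the surjection
  let p : TrivSqZeroExt (B ⧸ J) M →ₐ[A] TrivSqZeroExt (B ⧸ J) N :=
    { (TrivSqZeroExt.map u).toRingHom with
      commutes' := fun a => by
        show TrivSqZeroExt.map u (algebraMap A _ a) = algebraMap A _ a
        rw [halgM, halgN, TrivSqZeroExt.map_inl] }
  have hp_apply : ∀ e, p e = TrivSqZeroExt.map u e := fun e => rfl
  have hp : Function.Surjective p := by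
    intro e
    obtain ⟨m, hm⟩ := hu e.snd
    refine ⟨TrivSqZeroExt.inl e.fst + TrivSqZeroExt.inr m, ?_⟩
    rw [hp_apply, map_add, TrivSqZeroExt.map_inl, TrivSqZeroExt.map_inr, hm]
    exact TrivSqZeroExt.inl_fst_add_inr_snd_eq e
  have hker : ∀ e, e ∈ RingHom.ker p → e.fst = 0 := by
    intro e he
    rw [RingHom.mem_ker] at he
    have : (p e).fst = 0 := by rw [he]; rfl
    rwa [hp_apply, TrivSqZeroExt.fst_map] at this
  have hsq : RingHom.ker p ^ 2 = ⊥ := by
    rw [eq_bot_iff, pow_two]
    intro z hz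
    refine Submodule.mul_induction_on hz ?_ ?_
    · intro a ha b hb
      rw [Ideal.mem_bot]
      apply TrivSqZeroExt.ext
      · rw [TrivSqZeroExt.fst_mul, hker a ha, zero_mul, TrivSqZeroExt.fst_zero]
      · rw [TrivSqZeroExt.snd_mul, hker a ha, hker b hb, zero_smul, hopM, zero_smul, add_zero,
          TrivSqZeroExt.snd_zero]
    · intro a b ha hb
      exact Ideal.add_mem _ ha hb
  -- the homomorphism attached to the derivation
  let ψ₀ : B →+* TrivSqZeroExt (B ⧸ J) N :=
    { toFun := fun b => TrivSqZeroExt.inl (Ideal.Quotient.mk J b) + TrivSqZeroExt.inr (D b)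
      map_one' := by
        rw [map_one, Derivation.map_one_eq_zero, TrivSqZeroExt.inr_zero, add_zero]
        rfl
      map_zero' := by
        rw [map_zero, map_zero, TrivSqZeroExt.inr_zero, add_zero, TrivSqZeroExt.inl_zero]
      map_add' := fun x y => by
        rw [map_add, map_add, TrivSqZeroExt.inl_add, TrivSqZeroExt.inr_add]
        abel
      map_mul' := fun x y => by
        apply TrivSqZeroExt.ext
        · simp
        · simp only [TrivSqZeroExt.snd_add, TrivSqZeroExt.snd_inl, TrivSqZeroExt.snd_inr,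
            zero_add, TrivSqZeroExt.snd_mul, TrivSqZeroExt.fst_add, TrivSqZeroExt.fst_inl,
            TrivSqZeroExt.fst_inr, add_zero, Derivation.leibniz, hopN, hmkN] }
  have hψ₀ : ∀ b, ψ₀ b = TrivSqZeroExt.inl (Ideal.Quotient.mk J b) + TrivSqZeroExt.inr (D b) :=
    fun b => rfl
  let ψ : B →ₐ[A] TrivSqZeroExt (B ⧸ J) N :=
    { ψ₀ with
      commutes' := fun a => by
        show ψ₀ (algebraMap A B a) = algebraMap A _ a
        rw [hψ₀, halgN, Derivation.map_algebraMap, TrivSqZeroExt.inr_zero, add_zero]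
        rfl }
  have hψ : ∀ b, ψ b = TrivSqZeroExt.inl (Ideal.Quotient.mk J b) + TrivSqZeroExt.inr (D b) :=
    fun b => rfl
  have hψJ : ∀ x ∈ J ^ 2, ψ x = 0 := by
    intro x hx
    rw [pow_two] at hx
    refine Submodule.mul_induction_on hx ?_ ?_
    · intro a ha b hb
      rw [map_mul, hψ, hψ, Ideal.Quotient.eq_zero_iff_mem.2 ha,
        Ideal.Quotient.eq_zero_iff_mem.2 hb, TrivSqZeroExt.inl_zero, zero_add, zero_add,
        TrivSqZeroExt.inr_mul_inr]
    · intro a b ha hb
      rw [map_add, ha, hb, add_zero]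
  obtain ⟨v, hv, -⟩ := AdicFS.exists_lift_surjective h p hp hsq ψ ⟨2, hψJ⟩
  have hv' : ∀ b, TrivSqZeroExt.map u (v b) = ψ b := fun b => AlgHom.congr_fun hv b
  have hfst : ∀ b, (v b).fst = Ideal.Quotient.mk J b := by
    intro b
    have := congrArg TrivSqZeroExt.fst (hv' b)
    rw [TrivSqZeroExt.fst_map, hψ] at this
    simpa using this
  have hsnd : ∀ b, u (v b).snd = D b := by
    intro b
    have := congrArg TrivSqZeroExt.snd (hv' b)
    rw [TrivSqZeroExt.snd_map, hψ] at this
    simpa using this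
  let dl : B →ₗ[A] M :=
    { toFun := fun b => (v b).snd
      map_add' := fun a b => by rw [map_add, TrivSqZeroExt.snd_add]
      map_smul' := fun a b => by
        rw [Algebra.smul_def, map_mul, AlgHom.commutes, halgM, TrivSqZeroExt.snd_mul,
          TrivSqZeroExt.fst_inl,
          TrivSqZeroExt.snd_inl, smul_zero, add_zero, RingHom.id_apply,
          IsScalarTower.algebraMap_apply A B (B ⧸ J), Ideal.Quotient.algebraMap_eq, hmkM,
          algebraMap_smul] }
  refine ⟨Derivation.mk' dl (fun a b => ?_), fun b => hsnd b⟩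
  show (v (a * b)).snd = a • (v b).snd + b • (v a).snd
  rw [map_mul, TrivSqZeroExt.snd_mul, hfst, hfst, hopM, hmkM, hmkM]

end Groth.Agent.Helper8.AdicDer
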