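import Mathlib
import Groth.Prelude.Def_CAlgX

/-!
# Sections of `B/J^m → B/J` for a formally smooth quotient, and the derivation `B → J/J²`
-/

set_option autoImplicit false

namespace Groth.Agent.Helper8.AdicDer

universe u

variable (A : Type u) {B : Type u} [CommRing A] [CommRing B] [Algebra A B] (J : Ideal B)

theorem map_mk_pow_eq_bot (m : ℕ) : (J.map (Ideal.Quotient.mk (J ^ m))) ^ m = ⊥ := by
  rw [← Ideal.map_pow, Ideal.map_quotient_self]

/-- When `B/J` is formally smooth over `A`, the projection `B/J^m → B/J` has a section. -/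
theorem exists_section [Algebra.FormallySmooth A (B ⧸ J)] (m : ℕ) (hm : m ≠ 0) :
    ∃ σ : (B ⧸ J) →ₐ[A] (B ⧸ J ^ m),
      ∀ c, Ideal.Quotient.factor (Ideal.pow_le_self hm : J ^ m ≤ J) (σ c) = c := by
  have hsurj : Function.Surjective (Ideal.Quotient.factorₐ A (Ideal.pow_le_self hm : J ^ m ≤ J)) :=
    Ideal.Quotient.factor_surjective (Ideal.pow_le_self hm : J ^ m ≤ J)
  have hnil : IsNilpotent (RingHom.ker
      (Ideal.Quotient.factorₐ A (Ideal.pow_le_self hm : J ^ m ≤ J) : (B ⧸ J ^ m) →+* (B ⧸ J))) := by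
    refine ⟨m, ?_⟩
    rw [Ideal.Quotient.coe_factorₐ, Ideal.Quotient.factor_ker, map_mk_pow_eq_bot]
    rfl
  refine ⟨Algebra.FormallySmooth.liftOfSurjective (AlgHom.id A (B ⧸ J)) _ hsurj hnil, fun c => ?_⟩
  exact Algebra.FormallySmooth.liftOfSurjective_apply (AlgHom.id A (B ⧸ J)) _ hsurj hnil c

theorem sub_section_mem {m : ℕ} (hm : m ≠ 0) (σ : (B ⧸ J) →ₐ[A] (B ⧸ J ^ m))
    (hσ : ∀ c, Ideal.Quotient.factor (Ideal.pow_le_self hm : J ^ m ≤ J) (σ c) = c) (y : B ⧸ J ^ m) :
    y - σ (Ideal.Quotient.factor (Ideal.pow_le_self hm : J ^ m ≤ J) y) ∈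
      J.map (Ideal.Quotient.mk (J ^ m)) := by
  rw [← Ideal.Quotient.factor_ker (Ideal.pow_le_self hm : J ^ m ≤ J), RingHom.mem_ker, map_sub, hσ,
    sub_self]

/-- When `B/J` is formally smooth over `A`, there is an `A`-derivation `B → J/J²` restricting to
the canonical map on `J`. -/
theorem exists_derivation_cotangent [Algebra.FormallySmooth A (B ⧸ J)] :
    ∃ d : Derivation A B J.Cotangent, ∀ x : ↥J, d x = J.toCotangent x := by
  classical
  obtain ⟨σ, hσ⟩ := exists_section A J 2 two_ne_zero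
  have hJ2 : ∀ y z : B ⧸ J ^ 2, y ∈ J.map (Ideal.Quotient.mk (J ^ 2)) →
      z ∈ J.map (Ideal.Quotient.mk (J ^ 2)) → y * z = 0 := by
    intro y z hy hz
    have : y * z ∈ (J.map (Ideal.Quotient.mk (J ^ 2))) ^ 2 := by
      have h9 := Ideal.mul_mem_mul hy hz
      rwa [← pow_two] at h9
    have h0 : (J.map (Ideal.Quotient.mk (J ^ 2))) ^ 2 = ⊥ := map_mk_pow_eq_bot J 2
    exact (h0 ▸ this : y * z ∈ (⊥ : Ideal (B ⧸ J ^ 2)))
  -- the element `mk b - σ (mk b)` lies in the image of the cotangent space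
  have hex : ∀ b : B, ∃ p : J.Cotangent, J.cotangentToQuotientSquare p =
      Ideal.Quotient.mk (J ^ 2) b - σ (Ideal.Quotient.mk J b) := by
    intro b
    have h1 := sub_section_mem A J two_ne_zero σ hσ (Ideal.Quotient.mk (J ^ 2) b)
    rw [Ideal.Quotient.factor_mk] at h1
    have h2 : Ideal.Quotient.mk (J ^ 2) b - σ (Ideal.Quotient.mk J b) ∈
        LinearMap.range J.cotangentToQuotientSquare := by
      rw [Ideal.range_cotangentToQuotientSquare]
      show _ ∈ J.cotangentIdeal
      have h3 : J.cotangentIdeal = J.map (Ideal.Quotient.mk (J ^ 2)) :=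
        (Ideal.map_eq_submodule_map _ _).symm
      rw [h3]
      exact h1
    exact h2
  choose d hd using hex
  have hinj := J.cotangentToQuotientSquare_injective
  have hsmul : ∀ (b : B) (p : J.Cotangent), J.cotangentToQuotientSquare (b • p) =
      Ideal.Quotient.mk (J ^ 2) b * J.cotangentToQuotientSquare p := by
    intro b p
    rw [map_smul]
    rfl
  have hmem : ∀ b : B, Ideal.Quotient.mk (J ^ 2) b - σ (Ideal.Quotient.mk J b) ∈
      J.map (Ideal.Quotient.mk (J ^ 2)) := by
    intro b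
    have h1 := sub_section_mem A J two_ne_zero σ hσ (Ideal.Quotient.mk (J ^ 2) b)
    rwa [Ideal.Quotient.factor_mk] at h1
  let dl : B →ₗ[A] J.Cotangent :=
    { toFun := d
      map_add' := fun a b => by
        apply hinj
        rw [map_add, hd, hd, hd, map_add, map_add, map_add]
        ring
      map_smul' := fun a b => by
        apply hinj
        rw [RingHom.id_apply, LinearMap.map_smul_of_tower, hd, hd, Algebra.smul_def, map_mul,
          map_mul, map_mul, Algebra.smul_def]
        have e1 : Ideal.Quotient.mk (J ^ 2) (algebraMap A B a) = algebraMap A (B ⧸ J ^ 2) a := rfl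
        have e2 : Ideal.Quotient.mk J (algebraMap A B a) = algebraMap A (B ⧸ J) a := rfl
        rw [e1, e2, AlgHom.commutes]
        ring }
  have hdl : ∀ b, dl b = d b := fun b => rfl
  refine ⟨Derivation.mk' dl (fun a b => ?_), fun x => ?_⟩
  · apply hinj
    rw [hdl, hdl, hdl, map_add, hsmul, hsmul, hd, hd, hd, map_mul, map_mul, map_mul]
    have := hJ2 _ _ (hmem a) (hmem b)
    linear_combination (-1 : B ⧸ J ^ 2) * this
  · show d x = J.toCotangent x
    apply hinj
    rw [hd, Ideal.toCotangent_to_quotient_square, Ideal.Quotient.eq_zero_iff_mem.2 x.2, map_zero,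
      sub_zero]
    rfl

end Groth.Agent.Helper8.AdicDer
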