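import Mathlib
import Groth.Prelude.Def_CAlgX
import Groth.Agent.Lib.Helper8.AdicFS1

/-!
# Formal smoothness for an adic topology: extending derivations of the base ring
-/

set_option autoImplicit false

namespace Groth.Agent.Helper8.AdicDer

open CAlgX

universe u

variable {Λ A B : Type u} [CommRing Λ] [CommRing A] [CommRing B] [Algebra Λ A] [Algebra A B]
  [Algebra Λ B] [IsScalarTower Λ A B] {J : Ideal B}

/-- If `B` is formally smooth over `A` for the `J`-adic topology, every `Λ`-derivation of `A` with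
values in a `B/J`-module extends to `B`. -/
theorem exists_derivation_extension (h : IsAdicFormallySmooth A B J)
    {N : Type u} [AddCommGroup N] [Module Λ N] [Module A N] [Module B N] [Module (B ⧸ J) N]
    [IsScalarTower Λ A N] [IsScalarTower A B N] [IsScalarTower B (B ⧸ J) N]
    (δ : Derivation Λ A N) :
    ∃ δ' : Derivation Λ B N, ∀ a : A, δ' (algebraMap A B a) = δ a := by
  classical
  letI opN : Module (B ⧸ J)ᵐᵒᵖ N :=
    Module.compHom N ((RingHom.id (B ⧸ J)).fromOpposite (fun _ _ => mul_comm _ _))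
  haveI : IsCentralScalar (B ⧸ J) N := ⟨fun c m => rfl⟩
  have hopN : ∀ (c : B ⧸ J) (m : N), MulOpposite.op c • m = c • m := fun c m => rfl
  have hmkN : ∀ (b : B) (m : N), (Ideal.Quotient.mk J b) • m = b • m := fun b m =>
    IsScalarTower.algebraMap_smul (B ⧸ J) b m
  have hAN : ∀ (a : A) (m : N), (algebraMap A (B ⧸ J) a) • m = a • m := by
    intro a m
    rw [IsScalarTower.algebraMap_apply A B (B ⧸ J), Ideal.Quotient.algebraMap_eq, hmkN,
      algebraMap_smul]
  -- the twisted algebra structure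
  let θ : A →+* TrivSqZeroExt (B ⧸ J) N :=
    { toFun := fun a => TrivSqZeroExt.inl (algebraMap A (B ⧸ J) a) + TrivSqZeroExt.inr (δ a)
      map_one' := by
        rw [map_one, Derivation.map_one_eq_zero, TrivSqZeroExt.inr_zero, add_zero]
        rfl
      map_zero' := by
        rw [map_zero, map_zero, TrivSqZeroExt.inr_zero, add_zero, TrivSqZeroExt.inl_zero]
      map_add' := fun x y => by
        rw [map_add, map_add, TrivSqZeroExt.inl_add, TrivSqZeroExt.inr_add]
        abel
      map_mul' := fun x y => by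
        apply TrivSqZeroExt.ext
        · simp
        · simp only [TrivSqZeroExt.snd_add, TrivSqZeroExt.snd_inl, TrivSqZeroExt.snd_inr,
            zero_add, TrivSqZeroExt.snd_mul, TrivSqZeroExt.fst_add, TrivSqZeroExt.fst_inl,
            TrivSqZeroExt.fst_inr, add_zero, Derivation.leibniz, hopN, hAN] }
  have hθ : ∀ a, θ a = TrivSqZeroExt.inl (algebraMap A (B ⧸ J) a) + TrivSqZeroExt.inr (δ a) :=
    fun a => rfl
  letI algE : Algebra A (TrivSqZeroExt (B ⧸ J) N) := θ.toAlgebra
  have halg : ∀ a, algebraMap A (TrivSqZeroExt (B ⧸ J) N) a = θ a := fun a => rfl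
  obtain ⟨K, hK⟩ : ∃ K : Ideal (TrivSqZeroExt (B ⧸ J) N),
      K = RingHom.ker (TrivSqZeroExt.fstHom (B ⧸ J) (B ⧸ J) N).toRingHom := ⟨_, rfl⟩
  have hmemK : ∀ z, z ∈ K ↔ z.fst = 0 := fun z => by rw [hK]; exact RingHom.mem_ker
  have hK2 : K ^ 2 = ⊥ := by
    rw [eq_bot_iff, pow_two]
    intro z hz
    refine Submodule.mul_induction_on hz ?_ ?_
    · intro a ha b hb
      rw [hmemK] at ha hb
      rw [Ideal.mem_bot]
      apply TrivSqZeroExt.ext
      · rw [TrivSqZeroExt.fst_mul, ha, zero_mul, TrivSqZeroExt.fst_zero]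
      · rw [TrivSqZeroExt.snd_mul, ha, hb, zero_smul, hopN, zero_smul, add_zero,
          TrivSqZeroExt.snd_zero]
    · intro a b ha hb
      exact Ideal.add_mem _ ha hb
  let ψ₀ : B →+* TrivSqZeroExt (B ⧸ J) N ⧸ K :=
    (Ideal.Quotient.mk K).comp ((TrivSqZeroExt.inlHom (B ⧸ J) N).comp (Ideal.Quotient.mk J))
  have hψ₀ : ∀ b, ψ₀ b = Ideal.Quotient.mk K (TrivSqZeroExt.inl (Ideal.Quotient.mk J b)) :=
    fun b => rfl
  let ψ : B →ₐ[A] TrivSqZeroExt (B ⧸ J) N ⧸ K :=
    { ψ₀ with
      commutes' := fun a => by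
        show ψ₀ (algebraMap A B a) = Ideal.Quotient.mk K (θ a)
        rw [hψ₀, Ideal.Quotient.eq, hmemK, hθ]
        simp only [TrivSqZeroExt.fst_sub, TrivSqZeroExt.fst_inl, TrivSqZeroExt.fst_add,
          TrivSqZeroExt.fst_inr, add_zero]
        rw [IsScalarTower.algebraMap_apply A B (B ⧸ J), Ideal.Quotient.algebraMap_eq, sub_self] }
  have hψ : ∀ b, ψ b = Ideal.Quotient.mk K (TrivSqZeroExt.inl (Ideal.Quotient.mk J b)) :=
    fun b => rfl
  obtain ⟨χ, hχ⟩ := h _ K hK2 ψ ⟨1, fun x hx => by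
    rw [pow_one] at hx
    rw [hψ, Ideal.Quotient.eq_zero_iff_mem.2 hx, TrivSqZeroExt.inl_zero, map_zero]⟩
  have hχfst : ∀ b, (χ b).fst = Ideal.Quotient.mk J b := by
    intro b
    have h1 : Ideal.Quotient.mk K (χ b) = ψ b := AlgHom.congr_fun hχ b
    rw [hψ, Ideal.Quotient.eq, hmemK, TrivSqZeroExt.fst_sub, TrivSqZeroExt.fst_inl,
      sub_eq_zero] at h1
    exact h1
  have hΛN : ∀ (l : Λ) (m : N), (algebraMap Λ A l) • m = l • m := fun l m => algebraMap_smul A l m
  let dl : B →ₗ[Λ] N :=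
    { toFun := fun b => (χ b).snd
      map_add' := fun a b => by rw [map_add, TrivSqZeroExt.snd_add]
      map_smul' := fun l b => by
        rw [Algebra.smul_def, IsScalarTower.algebraMap_apply Λ A B, map_mul, AlgHom.commutes,
          halg, hθ, Derivation.map_algebraMap, TrivSqZeroExt.inr_zero, add_zero,
          TrivSqZeroExt.snd_mul, TrivSqZeroExt.fst_inl, TrivSqZeroExt.snd_inl, smul_zero,
          add_zero, hAN, hΛN, RingHom.id_apply] }
  refine ⟨Derivation.mk' dl (fun a b => ?_), fun a => ?_⟩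
  · show (χ (a * b)).snd = a • (χ b).snd + b • (χ a).snd
    rw [map_mul, TrivSqZeroExt.snd_mul, hχfst, hχfst, hopN, hmkN, hmkN]
  · show (χ (algebraMap A B a)).snd = δ a
    rw [χ.commutes, halg, hθ]
    simp

end Groth.Agent.Helper8.AdicDer
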