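import Mathlib
import Groth.Prelude.Def_CAlgX
import Groth.Agent.Lib.Helper8.AdicFS1

/-!
# The Jacobian criterion for formal smoothness for an adic topology: the small step
-/

set_option autoImplicit false

namespace Groth.Agent.Helper8.AdicDer

open CAlgX KaehlerDifferential TensorProduct

universe u

variable {Λ A B : Type u} [CommRing Λ] [CommRing A] [CommRing B] [Algebra Λ A] [Algebra A B]
  [Algebra Λ B] [IsScalarTower Λ A B] (J : Ideal B)

/-- If `B` is formally smooth over `Λ` for the `J`-adic topology and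
`B/J ⊗ Ω_{A/Λ} → B/J ⊗ Ω_{B/Λ}` has a retraction, then `A`-algebra maps from `B` lift along
square-zero extensions whose kernel is killed by `J`. -/
theorem exists_lift_of_retraction_small (h₀ : IsAdicFormallySmooth Λ B J)
    (r : (B ⧸ J) ⊗[B] Ω[B⁄Λ] →ₗ[B ⧸ J] (B ⧸ J) ⊗[B] (B ⊗[A] Ω[A⁄Λ]))
    (hr : r ∘ₗ (LinearMap.baseChange (B ⧸ J) (mapBaseChange Λ A B)) = LinearMap.id)
    (E : Type u) [CommRing E] [Algebra A E] (K : Ideal E) (hK : K ^ 2 = ⊥)
    (ψ : B →ₐ[A] E ⧸ K) (hcont : ∃ k : ℕ, ∀ x ∈ J ^ k, ψ x = 0)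
    (hkill : ∀ x ∈ J, ∀ e : E, Ideal.Quotient.mk K e = ψ x → ∀ κ ∈ K, e * κ = 0) :
    ∃ χ : B →ₐ[A] E, (Ideal.Quotient.mkₐ A K).comp χ = ψ := by
  classical
  have hKK : ∀ a ∈ K, ∀ b ∈ K, a * b = 0 := by
    intro a ha b hb
    have h1 : a * b ∈ K ^ 2 := by rw [pow_two]; exact Ideal.mul_mem_mul ha hb
    rw [hK] at h1
    exact h1
  letI algΛE : Algebra Λ E := ((algebraMap A E).comp (algebraMap Λ A)).toAlgebra
  haveI : IsScalarTower Λ A E := IsScalarTower.of_algebraMap_eq' rfl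
  let ψ₀ : B →ₐ[Λ] E ⧸ K := ψ.restrictScalars Λ
  obtain ⟨χ₀, hχ₀⟩ := h₀ E K hK ψ₀ hcont
  have hχ₀' : ∀ b, Ideal.Quotient.mk K (χ₀ b) = ψ b := fun b => AlgHom.congr_fun hχ₀ b
  -- the difference of the two structure maps
  have hδmem : ∀ a : A, algebraMap A E a - χ₀ (algebraMap A B a) ∈ K := by
    intro a
    rw [← Ideal.Quotient.eq, hχ₀', AlgHom.commutes]
    rfl
  -- module structures on `K`
  letI algBE : Algebra B E := χ₀.toRingHom.toAlgebra
  have hsmulB : ∀ (b : B) (κ : K), ((b • κ : K) : E) = χ₀ b * κ := fun b κ => rfl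
  have hsmulA : ∀ (a : A) (κ : K), ((a • κ : K) : E) = algebraMap A E a * κ := fun a κ =>
    Algebra.smul_def a (κ : E)
  have hsmulΛ : ∀ (l : Λ) (κ : K), ((l • κ : K) : E) = algebraMap Λ E l * κ := fun l κ =>
    Algebra.smul_def l (κ : E)
  have hAK : ∀ (a : A) (κ : K), algebraMap A E a * κ = χ₀ (algebraMap A B a) * κ := by
    intro a κ
    have h1 := hKK _ (hδmem a) κ κ.2
    linear_combination h1
  haveI : IsScalarTower A B K := ⟨fun a b κ => by
    apply Subtype.ext
    rw [hsmulB, hsmulA, hsmulB, Algebra.smul_def, map_mul, mul_assoc]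
    exact (hAK a ⟨χ₀ b * κ, Ideal.mul_mem_left _ _ κ.2⟩).symm⟩
  haveI : IsScalarTower Λ B K := ⟨fun l b κ => by
    apply Subtype.ext
    rw [hsmulB, hsmulΛ, hsmulB, Algebra.smul_def, map_mul, mul_assoc, AlgHom.commutes]⟩
  have htors : Module.IsTorsionBySet B K (J : Set B) := by
    intro κ x
    apply Subtype.ext
    rw [hsmulB]
    exact hkill x x.2 (χ₀ x) (hχ₀' x) κ κ.2
  letI modC : Module (B ⧸ J) K := htors.module
  haveI : IsScalarTower B (B ⧸ J) K := htors.isScalarTower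
  -- the derivation of `A`
  let δl : A →ₗ[Λ] K :=
    { toFun := fun a => ⟨algebraMap A E a - χ₀ (algebraMap A B a), hδmem a⟩
      map_add' := fun x y => by
        apply Subtype.ext
        show algebraMap A E (x + y) - χ₀ (algebraMap A B (x + y)) =
          (algebraMap A E x - χ₀ (algebraMap A B x)) + (algebraMap A E y - χ₀ (algebraMap A B y))
        rw [map_add, map_add, map_add]
        ring
      map_smul' := fun l x => by
        apply Subtype.ext
        rw [RingHom.id_apply, hsmulΛ]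
        show algebraMap A E (l • x) - χ₀ (algebraMap A B (l • x)) =
          algebraMap Λ E l * (algebraMap A E x - χ₀ (algebraMap A B x))
        rw [Algebra.smul_def, map_mul, map_mul, map_mul, ← IsScalarTower.algebraMap_apply Λ A E,
          ← IsScalarTower.algebraMap_apply Λ A B, AlgHom.commutes]
        ring }
  have hδl : ∀ a, ((δl a : K) : E) = algebraMap A E a - χ₀ (algebraMap A B a) := fun a => rfl
  let δ : Derivation Λ A K := Derivation.mk' δl (fun x y => by
    apply Subtype.ext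
    rw [Submodule.coe_add, hsmulA, hsmulA, hδl, hδl, hδl, map_mul, map_mul, map_mul]
    have h1 := hKK _ (hδmem x) _ (hδmem y)
    linear_combination (-1 : E) * h1)
  have hδ : ∀ a, ((δ a : K) : E) = algebraMap A E a - χ₀ (algebraMap A B a) := fun a => rfl
  -- extension to `B`
  let f₁ : B ⊗[A] Ω[A⁄Λ] →ₗ[B] K := LinearMap.liftBaseChange B δ.liftKaehlerDifferential
  let f₂ : (B ⧸ J) ⊗[B] (B ⊗[A] Ω[A⁄Λ]) →ₗ[B ⧸ J] K := LinearMap.liftBaseChange (B ⧸ J) f₁
  let g : (B ⧸ J) ⊗[B] Ω[B⁄Λ] →ₗ[B ⧸ J] K := f₂ ∘ₗ r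
  let δ' : Derivation Λ B K :=
    ((g.restrictScalars B) ∘ₗ (TensorProduct.mk B (B ⧸ J) Ω[B⁄Λ] 1)).compDer (D Λ B)
  have hδ'def : ∀ b, δ' b = g ((1 : B ⧸ J) ⊗ₜ[B] D Λ B b) := fun b => rfl
  have hδ' : ∀ a : A, δ' (algebraMap A B a) = δ a := by
    intro a
    have h1 : LinearMap.baseChange (B ⧸ J) (mapBaseChange Λ A B)
        ((1 : B ⧸ J) ⊗ₜ[B] ((1 : B) ⊗ₜ[A] D Λ A a)) =
        (1 : B ⧸ J) ⊗ₜ[B] D Λ B (algebraMap A B a) := by
      rw [LinearMap.baseChange_tmul, mapBaseChange_tmul, one_smul, KaehlerDifferential.map_D]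
    rw [hδ'def, ← h1]
    show f₂ (r (LinearMap.baseChange (B ⧸ J) (mapBaseChange Λ A B)
      ((1 : B ⧸ J) ⊗ₜ[B] ((1 : B) ⊗ₜ[A] D Λ A a)))) = δ a
    have h2 := LinearMap.congr_fun hr ((1 : B ⧸ J) ⊗ₜ[B] ((1 : B) ⊗ₜ[A] D Λ A a))
    rw [LinearMap.comp_apply] at h2
    rw [h2, LinearMap.id_apply]
    show LinearMap.liftBaseChange (B ⧸ J) f₁ _ = _
    rw [LinearMap.liftBaseChange_tmul, one_smul]
    show LinearMap.liftBaseChange B δ.liftKaehlerDifferential _ = _
    rw [LinearMap.liftBaseChange_tmul, one_smul, Derivation.liftKaehlerDifferential_comp_D]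
  -- the corrected lift
  let χr : B →+* E :=
    { toFun := fun b => χ₀ b + (δ' b : E)
      map_one' := by
        rw [map_one, Derivation.map_one_eq_zero, Submodule.coe_zero, add_zero]
      map_zero' := by
        rw [map_zero, map_zero, Submodule.coe_zero, add_zero]
      map_add' := fun a b => by
        rw [map_add, map_add, Submodule.coe_add]
        ring
      map_mul' := fun a b => by
        rw [map_mul, Derivation.leibniz, Submodule.coe_add, hsmulB, hsmulB]
        have h1 := hKK _ (δ' a).2 _ (δ' b).2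
        linear_combination -h1 }
  have hχr : ∀ b, χr b = χ₀ b + (δ' b : E) := fun b => rfl
  refine ⟨{ χr with
    commutes' := fun a => by
      show χr (algebraMap A B a) = algebraMap A E a
      rw [hχr, hδ', hδ]
      ring }, ?_⟩
  apply AlgHom.ext
  intro b
  show Ideal.Quotient.mk K (χr b) = ψ b
  rw [hχr, map_add, hχ₀', Ideal.Quotient.eq_zero_iff_mem.2 (δ' b).2, add_zero]

end Groth.Agent.Helper8.AdicDer
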