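import Mathlib
import Groth.Prelude.Def_CAlgX
import Groth.Agent.Lib.Helper8.AdicDer4
import Groth.Agent.Lib.Helper8.AdicFS9

/-!
# The Jacobian criterion for formal smoothness for an adic topology
-/

set_option autoImplicit false

namespace Groth.Agent.Helper8.AdicDer

open CAlgX KaehlerDifferential TensorProduct

universe u

variable {Λ A B : Type u} [CommRing Λ] [CommRing A] [CommRing B] [Algebra Λ A] [Algebra A B]
  [Algebra Λ B] [IsScalarTower Λ A B] (J : Ideal B)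

/-- The small step, for a surjection with square-zero kernel. -/
theorem exists_lift_of_retraction_small' (h₀ : IsAdicFormallySmooth Λ B J)
    (r : (B ⧸ J) ⊗[B] Ω[B⁄Λ] →ₗ[B ⧸ J] (B ⧸ J) ⊗[B] (B ⊗[A] Ω[A⁄Λ]))
    (hr : r ∘ₗ (LinearMap.baseChange (B ⧸ J) (mapBaseChange Λ A B)) = LinearMap.id)
    {C' C'' : Type u} [CommRing C'] [Algebra A C'] [CommRing C''] [Algebra A C'']
    (p : C' →ₐ[A] C'') (hp : Function.Surjective p) (hsq : RingHom.ker p ^ 2 = ⊥)
    (u : B →ₐ[A] C'') (hu : ∃ k : ℕ, ∀ x ∈ J ^ k, u x = 0)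
    (hkill : ∀ x ∈ J, ∀ c : C', p c = u x → ∀ κ ∈ RingHom.ker p, c * κ = 0) :
    ∃ v : B →ₐ[A] C', p.comp v = u ∧ ∃ k : ℕ, ∀ x ∈ J ^ k, v x = 0 := by
  obtain ⟨k, hk⟩ := hu
  let e := Ideal.quotientKerAlgEquivOfSurjective hp
  have he : ∀ c, e (Ideal.Quotient.mk _ c) = p c := fun c =>
    Ideal.quotientKerAlgEquivOfSurjective_mk hp c
  obtain ⟨v, hv⟩ := exists_lift_of_retraction_small J h₀ r hr C' (RingHom.ker p) hsq
    (e.symm.toAlgHom.comp u) ⟨k, fun x hx => by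
      show e.symm (u x) = 0
      rw [hk x hx, map_zero]⟩ (by
      intro x hx c hc κ hκ
      apply hkill x hx c _ κ hκ
      have h1 : e (Ideal.Quotient.mk _ c) = u x := by
        rw [hc]
        show e (e.symm (u x)) = u x
        exact e.apply_symm_apply _
      rw [← h1, he])
  have hpv : p.comp v = u := by
    ext b
    have h1 : Ideal.Quotient.mk (RingHom.ker p) (v b) = e.symm (u b) := AlgHom.congr_fun hv b
    have h2 : e (Ideal.Quotient.mk _ (v b)) = u b := by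
      rw [h1]; exact e.apply_symm_apply _
    rw [← h2, he]
    rfl
  exact ⟨v, hpv, 2 * k, AdicFS.continuous_of_comp_eq J p hsq u v hpv k hk⟩

/-- The ideal of `E` of elements whose class lies in the ideal generated by the image of `J`. -/
def bIdeal {E : Type u} [CommRing E] [Algebra A E] (N : Ideal E) (ψ : B →ₐ[A] E ⧸ N) : Ideal E :=
  (J.map (ψ : B →+* E ⧸ N)).comap (Ideal.Quotient.mk N)

theorem exists_lift_of_bIdeal_pow (h₀ : IsAdicFormallySmooth Λ B J)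
    (r : (B ⧸ J) ⊗[B] Ω[B⁄Λ] →ₗ[B ⧸ J] (B ⧸ J) ⊗[B] (B ⊗[A] Ω[A⁄Λ]))
    (hr : r ∘ₗ (LinearMap.baseChange (B ⧸ J) (mapBaseChange Λ A B)) = LinearMap.id)
    (E : Type u) [CommRing E] [Algebra A E] (s : ℕ) :
    ∀ (N : Ideal E) (ψ : B →ₐ[A] E ⧸ N), N ^ 2 = ⊥ → (∃ k : ℕ, ∀ x ∈ J ^ k, ψ x = 0) →
      (bIdeal J N ψ) ^ s * N = ⊥ → ∃ χ : B →ₐ[A] E, (Ideal.Quotient.mkₐ A N).comp χ = ψ := by
  induction s with
  | zero =>
    intro N ψ _ _ hb
    rw [pow_zero, one_mul] at hb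
    subst hb
    refine ⟨(AlgEquiv.quotientBot A E).toAlgHom.comp ψ, ?_⟩
    ext b
    obtain ⟨c, hc⟩ := Ideal.Quotient.mk_surjective (ψ b)
    show Ideal.Quotient.mk ⊥ (AlgEquiv.quotientBot A E (ψ b)) = ψ b
    rw [← hc, AlgEquiv.quotientBot_mk]
  | succ s ih =>
    intro N ψ hN hcont hb
    have hle : bIdeal J N ψ * N ≤ N := Ideal.mul_le_right
    have hkerp : RingHom.ker (Ideal.Quotient.factorₐ A hle) =
        N.map (Ideal.Quotient.mk (bIdeal J N ψ * N)) := Ideal.Quotient.factor_ker hle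
    obtain ⟨ψ₁, hψ₁, hcont₁⟩ := exists_lift_of_retraction_small' J h₀ r hr
      (Ideal.Quotient.factorₐ A hle) (Ideal.Quotient.factor_surjective hle) (by
        rw [hkerp]
        have h2 := Ideal.map_pow (Ideal.Quotient.mk (bIdeal J N ψ * N)) N 2
        rw [← h2, hN, Ideal.map_bot]) ψ hcont (by
        intro x hx c hc κ hκ
        rw [hkerp] at hκ
        obtain ⟨n, hn, rfl⟩ := Ideal.mem_image_of_mem_map_of_surjective _
          Ideal.Quotient.mk_surjective hκ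
        obtain ⟨e, rfl⟩ := Ideal.Quotient.mk_surjective c
        rw [← map_mul, Ideal.Quotient.eq_zero_iff_mem]
        apply Ideal.mul_mem_mul _ hn
        show Ideal.Quotient.mk N e ∈ J.map (ψ : B →+* E ⧸ N)
        have h3 : Ideal.Quotient.mk N e = ψ x := hc
        rw [h3]
        exact Ideal.mem_map_of_mem _ hx)
    have hψ₁' : ∀ b, Ideal.Quotient.factor hle (ψ₁ b) = ψ b := fun b => AlgHom.congr_fun hψ₁ b
    have hb₁ : bIdeal J (bIdeal J N ψ * N) ψ₁ ≤ bIdeal J N ψ := by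
      intro x hx
      have h1 : Ideal.Quotient.mk (bIdeal J N ψ * N) x ∈
          J.map (ψ₁ : B →+* E ⧸ (bIdeal J N ψ * N)) := hx
      have h2 := Ideal.mem_map_of_mem (Ideal.Quotient.factor hle) h1
      rw [Ideal.map_map, Ideal.Quotient.factor_mk] at h2
      have h3 : (Ideal.Quotient.factor hle).comp (ψ₁ : B →+* E ⧸ (bIdeal J N ψ * N)) =
          (ψ : B →+* E ⧸ N) := RingHom.ext hψ₁'
      rw [h3] at h2
      exact h2
    obtain ⟨χ, hχ⟩ := ih (bIdeal J N ψ * N) ψ₁ (by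
        rw [eq_bot_iff, ← hN]
        exact Ideal.pow_right_mono hle 2) hcont₁ (by
        rw [eq_bot_iff, ← hb, pow_succ, mul_assoc]
        exact Ideal.mul_mono (Ideal.pow_right_mono hb₁ s) le_rfl)
    refine ⟨χ, ?_⟩
    rw [← hψ₁, ← hχ, ← AlgHom.comp_assoc, Ideal.Quotient.factorₐ_comp_mk]

/-- **Jacobian criterion**: if `B` is formally smooth over `Λ` for the `J`-adic topology and
`B/J ⊗ Ω_{A/Λ} → B/J ⊗ Ω_{B/Λ}` has a retraction, `B` is formally smooth over `A` for the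
`J`-adic topology. -/
theorem isAdicFormallySmooth_of_retraction (h₀ : IsAdicFormallySmooth Λ B J)
    (r : (B ⧸ J) ⊗[B] Ω[B⁄Λ] →ₗ[B ⧸ J] (B ⧸ J) ⊗[B] (B ⊗[A] Ω[A⁄Λ]))
    (hr : r ∘ₗ (LinearMap.baseChange (B ⧸ J) (mapBaseChange Λ A B)) = LinearMap.id) :
    IsAdicFormallySmooth A B J := by
  intro E _ _ N hN ψ ⟨k, hk⟩
  apply exists_lift_of_bIdeal_pow J h₀ r hr E k N ψ hN ⟨k, hk⟩
  rw [eq_bot_iff, ← hN, pow_two]
  apply Ideal.mul_mono _ le_rfl
  have h1 : (J.map (ψ : B →+* E ⧸ N)) ^ k = ⊥ := by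
    rw [← Ideal.map_pow, Ideal.map_eq_bot_iff_le_ker]
    intro x hx
    exact RingHom.mem_ker.2 (hk x hx)
  calc bIdeal J N ψ ^ k ≤ ((J.map (ψ : B →+* E ⧸ N)) ^ k).comap (Ideal.Quotient.mk N) :=
        Ideal.le_comap_pow _ k
    _ = N := by rw [h1, ← RingHom.ker_eq_comap_bot, Ideal.mk_ker]

end Groth.Agent.Helper8.AdicDer
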