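import Mathlib
import Groth.Prelude.Def_CAlgX
import Groth.Agent.Lib.Helper8.AdicDer1
import Groth.Agent.Lib.Helper8.AdicDer3

/-!
# Formal smoothness for an adic topology: the module of differentials modulo `J`
-/

set_option autoImplicit false

namespace Groth.Agent.Helper8.AdicDer

open CAlgX KaehlerDifferential TensorProduct

universe u

section delta

variable {A B : Type u} [CommRing A] [CommRing B] [Algebra A B] {J : Ideal B}

/-- If `B` is formally smooth over `A` for the `J`-adic topology, `B/J ⊗ Ω_{B/A}` is a projective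
`B/J`-module. -/
theorem projective_tensor_kaehler (h : IsAdicFormallySmooth A B J) :
    Module.Projective (B ⧸ J) ((B ⧸ J) ⊗[B] Ω[B⁄A]) := by
  apply Module.Projective.of_lifting_property''
  intro f hf
  let D₀ : Derivation A B ((B ⧸ J) ⊗[B] Ω[B⁄A]) :=
    (TensorProduct.mk B (B ⧸ J) Ω[B⁄A] 1).compDer (D A B)
  have hD₀ : ∀ b, D₀ b = (1 : B ⧸ J) ⊗ₜ[B] D A B b := fun b => rfl
  obtain ⟨D', hD'⟩ := exists_derivation_lift h f hf D₀
  refine ⟨LinearMap.liftBaseChange (B ⧸ J) D'.liftKaehlerDifferential, ?_⟩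
  have h1 : (f.restrictScalars B) ∘ₗ D'.liftKaehlerDifferential =
      TensorProduct.mk B (B ⧸ J) Ω[B⁄A] 1 := by
    apply Derivation.liftKaehlerDifferential_unique
    ext b
    show f (D'.liftKaehlerDifferential (D A B b)) = (1 : B ⧸ J) ⊗ₜ[B] D A B b
    rw [Derivation.liftKaehlerDifferential_comp_D, hD', hD₀]
  apply LinearMap.ext
  intro x
  induction x using TensorProduct.induction_on with
  | zero => rw [map_zero, map_zero]
  | add x y hx hy => rw [map_add, map_add, hx, hy]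
  | tmul c ω =>
    rw [LinearMap.comp_apply, LinearMap.liftBaseChange_tmul, map_smul, LinearMap.id_apply]
    have h2 := LinearMap.congr_fun h1 ω
    rw [LinearMap.comp_apply] at h2
    have h3 : f (D'.liftKaehlerDifferential ω) = (1 : B ⧸ J) ⊗ₜ[B] ω := h2
    rw [h3, TensorProduct.smul_tmul', smul_eq_mul, mul_one]

end delta

section gamma

variable {Λ A B : Type u} [CommRing Λ] [CommRing A] [CommRing B] [Algebra Λ A] [Algebra A B]
  [Algebra Λ B] [IsScalarTower Λ A B]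

omit [Algebra Λ B] [IsScalarTower Λ A B] in
/-- Two linear maps on `C ⊗ (B ⊗ Ω_{A/Λ})` agreeing on the elements `1 ⊗ (1 ⊗ da)` are equal. -/
theorem linearMap_ext_of_D {C N : Type*} [CommRing C] [Algebra B C] [AddCommGroup N] [Module C N]
    [Module B N] [IsScalarTower B C N]
    (l l' : C ⊗[B] (B ⊗[A] Ω[A⁄Λ]) →ₗ[C] N)
    (hl : ∀ a : A, l ((1 : C) ⊗ₜ[B] ((1 : B) ⊗ₜ[A] D Λ A a)) =
      l' ((1 : C) ⊗ₜ[B] ((1 : B) ⊗ₜ[A] D Λ A a))) : l = l' := by
  have e1 : ∀ (b : B) (m : B ⊗[A] Ω[A⁄Λ]),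
      ((algebraMap B C b) ⊗ₜ[B] m : C ⊗[B] (B ⊗[A] Ω[A⁄Λ])) = (1 : C) ⊗ₜ[B] (b • m) := by
    intro b m
    rw [Algebra.algebraMap_eq_smul_one, TensorProduct.smul_tmul]
  have e2 : ∀ (b : B) (ω : Ω[A⁄Λ]), b • ((1 : B) ⊗ₜ[A] ω) = b ⊗ₜ[A] ω := by
    intro b ω
    rw [TensorProduct.smul_tmul', smul_eq_mul, mul_one]
  have e3 : ∀ (c : C) (m : B ⊗[A] Ω[A⁄Λ]),
      c • ((1 : C) ⊗ₜ[B] m : C ⊗[B] (B ⊗[A] Ω[A⁄Λ])) = c ⊗ₜ[B] m := by
    intro c m
    rw [TensorProduct.smul_tmul', smul_eq_mul, mul_one]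
  have h₂ : ∀ ω : Ω[A⁄Λ], l ((1 : C) ⊗ₜ[B] ((1 : B) ⊗ₜ[A] ω)) =
      l' ((1 : C) ⊗ₜ[B] ((1 : B) ⊗ₜ[A] ω)) := by
    intro ω
    have hω : ω ∈ Submodule.span A (Set.range (D Λ A)) := by
      rw [KaehlerDifferential.span_range_derivation]; trivial
    induction hω using Submodule.span_induction with
    | mem ω hω =>
      obtain ⟨x, rfl⟩ := hω
      exact hl x
    | zero => rw [TensorProduct.tmul_zero, TensorProduct.tmul_zero, map_zero, map_zero]
    | add x y _ _ hx hy =>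
      rw [TensorProduct.tmul_add, TensorProduct.tmul_add, map_add, map_add, hx, hy]
    | smul r x _ hx =>
      have h3 : ((1 : C) ⊗ₜ[B] ((1 : B) ⊗ₜ[A] (r • x)) : C ⊗[B] (B ⊗[A] Ω[A⁄Λ])) =
          (algebraMap B C (algebraMap A B r)) • ((1 : C) ⊗ₜ[B] ((1 : B) ⊗ₜ[A] x)) := by
        rw [e3, e1, e2, TensorProduct.tmul_smul, TensorProduct.smul_tmul', Algebra.smul_def,
          mul_one]
      rw [h3, map_smul, map_smul, hx]
  have h₁ : ∀ m : B ⊗[A] Ω[A⁄Λ], l ((1 : C) ⊗ₜ[B] m) = l' ((1 : C) ⊗ₜ[B] m) := by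
    intro m
    induction m using TensorProduct.induction_on with
    | zero => rw [TensorProduct.tmul_zero, map_zero, map_zero]
    | add x y hx hy => rw [TensorProduct.tmul_add, map_add, map_add, hx, hy]
    | tmul b ω =>
      have h3 : ((1 : C) ⊗ₜ[B] (b ⊗ₜ[A] ω) : C ⊗[B] (B ⊗[A] Ω[A⁄Λ])) =
          (algebraMap B C b) • ((1 : C) ⊗ₜ[B] ((1 : B) ⊗ₜ[A] ω)) := by
        rw [e3, e1, e2]
      rw [h3, map_smul, map_smul, h₂]
  apply LinearMap.ext
  intro y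
  induction y using TensorProduct.induction_on with
  | zero => rw [map_zero, map_zero]
  | add x y hx hy => rw [map_add, map_add, hx, hy]
  | tmul c m =>
    have h3 : (c ⊗ₜ[B] m : C ⊗[B] (B ⊗[A] Ω[A⁄Λ])) = c • ((1 : C) ⊗ₜ[B] m) := by
      rw [e3]
    rw [h3, map_smul, map_smul, h₁]

variable {J : Ideal B}

/-- If `B` is formally smooth over `A` for the `J`-adic topology, the map
`B/J ⊗ Ω_{A/Λ} → B/J ⊗ Ω_{B/Λ}` has a retraction. -/
theorem exists_retraction (h : IsAdicFormallySmooth A B J) :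
    ∃ r : (B ⧸ J) ⊗[B] Ω[B⁄Λ] →ₗ[B ⧸ J] (B ⧸ J) ⊗[B] (B ⊗[A] Ω[A⁄Λ]),
      r ∘ₗ (LinearMap.baseChange (B ⧸ J) (mapBaseChange Λ A B)) = LinearMap.id := by
  let δ : Derivation Λ A ((B ⧸ J) ⊗[B] (B ⊗[A] Ω[A⁄Λ])) :=
    (((TensorProduct.mk B (B ⧸ J) (B ⊗[A] Ω[A⁄Λ]) 1).restrictScalars A) ∘ₗ
      (TensorProduct.mk A B Ω[A⁄Λ] 1)).compDer (D Λ A)
  have hδ : ∀ a, δ a = (1 : B ⧸ J) ⊗ₜ[B] ((1 : B) ⊗ₜ[A] D Λ A a) := fun a => rfl
  obtain ⟨δ', hδ'⟩ := exists_derivation_extension h δ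
  refine ⟨LinearMap.liftBaseChange (B ⧸ J) δ'.liftKaehlerDifferential, ?_⟩
  apply linearMap_ext_of_D
  intro a
  rw [LinearMap.comp_apply, LinearMap.id_apply, LinearMap.baseChange_tmul, mapBaseChange_tmul,
    one_smul, KaehlerDifferential.map_D, LinearMap.liftBaseChange_tmul, one_smul,
    Derivation.liftKaehlerDifferential_comp_D, hδ', hδ]

end gamma

end Groth.Agent.Helper8.AdicDer
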