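import Mathlib
import Groth.Prelude.Def_PP16
import Groth.Agent.Lib.Helper8.SymPow4

/-!
# The polynomial model of the symmetric powers of `J/J²`: the maps `ρ`, `ε`
-/

set_option autoImplicit false

namespace Groth.Agent.Helper8.SymPow

universe u

open PP16

variable (R : Type u) [CommRing R] (J : Ideal R)
  (s : J.Cotangent →ₗ[R ⧸ J] (↥J →₀ R ⧸ J))

/-- Linear forms attached to elements of the free module. -/
noncomputable def Lf : (↥J →₀ R ⧸ J) →ₗ[R ⧸ J] PolyS R J :=
  Finsupp.linearCombination (R ⧸ J) (fun x : ↥J => (MvPolynomial.X x : PolyS R J))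

theorem Lf_apply (f : ↥J →₀ R ⧸ J) :
    Lf R J f = ∑ x ∈ f.support, f x • (MvPolynomial.X x : PolyS R J) := by
  unfold Lf
  rw [Finsupp.linearCombination_apply]
  rfl

/-- The linear form attached to an element of `J/J²` through the section `s`. -/
noncomputable def ell : J.Cotangent →ₗ[R] PolyS R J :=
  ((Lf R J) ∘ₗ s).restrictScalars R

theorem ell_apply (p : J.Cotangent) : ell R J s p = Lf R J (s p) := rfl

theorem ell_mem (p : J.Cotangent) : ell R J s p ∈ MvPolynomial.idealOfVars ↥J (R ⧸ J) := by
  rw [ell_apply, Lf_apply]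
  apply Ideal.sum_mem
  intro x _
  rw [Algebra.smul_def]
  exact Ideal.mul_mem_left _ _ (Ideal.subset_span ⟨x, rfl⟩)

section rho

variable (ι : Type u) [Fintype ι]

/-- `(p_i) ↦ ∏ ℓ(p_i)`. -/
noncomputable def rhoMulti : MultilinearMap R (fun _ : ι => J.Cotangent) (PolyS R J) :=
  (MultilinearMap.mkPiAlgebra R ι (PolyS R J)).compLinearMap (fun _ => ell R J s)

theorem rhoMulti_apply (v : ι → J.Cotangent) : rhoMulti R J s ι v = ∏ i, ell R J s (v i) := by
  simp [rhoMulti]

/-- The map from the symmetric power to the polynomial ring. -/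
noncomputable def rho : SymmetricPower R ι J.Cotangent →ₗ[R] PolyS R J :=
  lift (rhoMulti R J s ι) (fun e v => by
    rw [rhoMulti_apply, rhoMulti_apply]
    exact Equiv.prod_comp e (fun i => ell R J s (v i)))

theorem rho_tprod (v : ι → J.Cotangent) :
    rho R J s ι (SymmetricPower.tprod R v) = ∏ i, ell R J s (v i) := by
  rw [rho, lift_tprod, rhoMulti_apply]

variable [Nonempty ι]

/-- `θ ∘ ρ = id`. -/
theorem theta_rho (hs : (piJ R J) ∘ₗ s = LinearMap.id) (t : SymmetricPower R ι J.Cotangent) :
    theta R J ι (rho R J s ι t) = t := by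
  classical
  suffices h : (theta R J ι) ∘ₗ (rho R J s ι) = LinearMap.id from LinearMap.congr_fun h t
  apply hom_ext
  intro v
  rw [LinearMap.comp_apply, rho_tprod, LinearMap.id_apply]
  -- lifts of the coefficients
  let c : ι → ↥J → R := fun i x => Function.surjInv Ideal.Quotient.mk_surjective (s (v i) x)
  have hc : ∀ i x, Ideal.Quotient.mk J (c i x) = s (v i) x := fun i x =>
    Function.surjInv_eq Ideal.Quotient.mk_surjective _
  have h1 : ∀ i, ell R J s (v i) =
      ∑ x ∈ (s (v i)).support, c i x • (MvPolynomial.X x : PolyS R J) := by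
    intro i
    rw [ell_apply, Lf_apply]
    apply Finset.sum_congr rfl
    intro x _
    rw [← hc i x]
    rfl
  simp_rw [h1]
  rw [Finset.prod_univ_sum, map_sum]
  have h2 : ∀ w ∈ Fintype.piFinset (fun i => (s (v i)).support),
      theta R J ι (∏ i, c i (w i) • (MvPolynomial.X (w i) : PolyS R J)) =
        SymmetricPower.tprod R (fun i => c i (w i) • J.toCotangent (w i)) := by
    intro w _
    rw [Finset.prod_smul, theta_prod_X, MultilinearMap.map_smul_univ]
  rw [Finset.sum_congr rfl h2]
  rw [← MultilinearMap.map_sum_finset (SymmetricPower.tprod R)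
    (fun i x => c i x • J.toCotangent x) (fun i => (s (v i)).support)]
  congr 1
  funext i
  have h3 := LinearMap.congr_fun hs (v i)
  rw [LinearMap.comp_apply, LinearMap.id_apply] at h3
  conv_rhs => rw [← h3]
  unfold piJ
  rw [Finsupp.linearCombination_apply, Finsupp.sum]
  apply Finset.sum_congr rfl
  intro x _
  rw [← hc i x]
  rfl

theorem rho_injective (hs : (piJ R J) ∘ₗ s = LinearMap.id) :
    Function.Injective (rho R J s ι) :=
  Function.LeftInverse.injective (theta_rho R J s ι hs)

end rho

section eps

/-- The idempotent endomorphism of the polynomial ring attached to the section `s`. -/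
noncomputable def eps : PolyS R J →ₐ[R ⧸ J] PolyS R J :=
  MvPolynomial.aeval (fun x : ↥J => ell R J s (J.toCotangent x))

theorem eps_X (x : ↥J) : eps R J s (MvPolynomial.X x) = ell R J s (J.toCotangent x) := by
  unfold eps
  rw [MvPolynomial.aeval_X]

theorem eps_Lf (f : ↥J →₀ R ⧸ J) : eps R J s (Lf R J f) = Lf R J (s (piJ R J f)) := by
  induction f using Finsupp.induction_linear with
  | zero => simp
  | add f g hf hg => rw [map_add, map_add, map_add, map_add, map_add, hf, hg]
  | single x c =>
    rw [piJ_single, map_smul, map_smul]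
    unfold Lf
    rw [Finsupp.linearCombination_single, map_smul, eps_X, ell_apply]
    rfl

theorem eps_ell (hs : (piJ R J) ∘ₗ s = LinearMap.id) (p : J.Cotangent) :
    eps R J s (ell R J s p) = ell R J s p := by
  rw [ell_apply, eps_Lf]
  have h3 := LinearMap.congr_fun hs p
  rw [LinearMap.comp_apply, LinearMap.id_apply] at h3
  rw [h3]

theorem eps_eps (hs : (piJ R J) ∘ₗ s = LinearMap.id) (f : PolyS R J) :
    eps R J s (eps R J s f) = eps R J s f := by
  suffices h : (eps R J s).comp (eps R J s) = eps R J s from AlgHom.congr_fun h f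
  apply MvPolynomial.algHom_ext
  intro x
  rw [AlgHom.comp_apply, eps_X, eps_ell R J s hs]

end eps

end Groth.Agent.Helper8.SymPow
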