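import Mathlib
import Groth.Prelude.Def_PP16
import Groth.Agent.Lib.Helper8.SymPow5

/-!
# The polynomial model of the symmetric powers of `J/J²`: `ρ ∘ θ = ε` in degree `n`
-/

set_option autoImplicit false

namespace Groth.Agent.Helper8.SymPow

universe u

open PP16 MvPolynomial

variable (R : Type u) [CommRing R] (J : Ideal R)
  (s : J.Cotangent →ₗ[R ⧸ J] (↥J →₀ R ⧸ J))

theorem smul_eq_C_mul (r : R) (f : PolyS R J) : r • f = C (Ideal.Quotient.mk J r) * f := by
  rw [Algebra.smul_def, IsScalarTower.algebraMap_apply R (R ⧸ J) (PolyS R J),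
    MvPolynomial.algebraMap_eq]
  rfl

theorem ell_isHomogeneous (p : J.Cotangent) : (ell R J s p).IsHomogeneous 1 := by
  rw [ell_apply, Lf_apply]
  apply IsHomogeneous.sum
  intro x _
  rw [MvPolynomial.smul_eq_C_mul]
  exact isHomogeneous_C_mul_X _ _

theorem eps_isHomogeneous {f : PolyS R J} {n : ℕ} (hf : f.IsHomogeneous n) :
    (eps R J s f).IsHomogeneous n := by
  have := hf.aeval (fun x : ↥J => ell R J s (J.toCotangent x)) (n := 1)
    (fun x => ell_isHomogeneous R J s _)
  rwa [one_mul] at this

theorem homogeneousComponent_monomial (n : ℕ) (μ : ↥J →₀ ℕ) (c : R ⧸ J) :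
    homogeneousComponent n (monomial μ c : PolyS R J) =
      if Finsupp.degree μ = n then monomial μ c else 0 := by
  rw [homogeneousComponent_of_mem (isHomogeneous_monomial c rfl)]
  by_cases h : Finsupp.degree μ = n
  · rw [if_pos h, if_pos h.symm]
  · rw [if_neg h, if_neg (Ne.symm h)]

theorem eps_homogeneousComponent (n : ℕ) (f : PolyS R J) :
    eps R J s (homogeneousComponent n f) = homogeneousComponent n (eps R J s f) := by
  induction f using MvPolynomial.induction_on' with
  | monomial μ c =>
    rw [homogeneousComponent_monomial,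
      homogeneousComponent_of_mem (eps_isHomogeneous R J s (isHomogeneous_monomial c rfl))]
    by_cases h : Finsupp.degree μ = n
    · rw [if_pos h, if_pos h.symm]
    · rw [if_neg h, if_neg (Ne.symm h), map_zero]
  | add p q hp hq => rw [map_add, map_add, map_add, map_add, hp, hq]

section

variable (ι : Type u) [Fintype ι] [Nonempty ι]

theorem rho_theta_monomial (μ : ↥J →₀ ℕ) (c : R ⧸ J) :
    rho R J s ι (theta R J ι (monomial μ c)) =
      eps R J s (homogeneousComponent (Fintype.card ι) (monomial μ c)) := by
  obtain ⟨r, rfl⟩ := Ideal.Quotient.mk_surjective c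
  rw [homogeneousComponent_monomial, theta_monomial]
  by_cases h : Finsupp.degree μ = Fintype.card ι
  · rw [if_pos h]
    obtain ⟨w, rfl⟩ := exists_word μ h
    rw [tmon_expo, map_smul, rho_tprod]
    have h1 : (monomial (expo w) (Ideal.Quotient.mk J r) : PolyS R J) =
        C (Ideal.Quotient.mk J r) * monomial (expo w) 1 := by
      rw [C_mul_monomial, mul_one]
    rw [h1, map_mul, monomial_expo, map_prod, smul_eq_C_mul]
    congr 1
    · exact ((eps R J s).commutes _).symm
    · apply Finset.prod_congr rfl
      intro i _
      rw [eps_X]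
  · rw [if_neg h, tmon_of_ne R J ι μ h, smul_zero, map_zero, map_zero]

theorem rho_theta (f : PolyS R J) :
    rho R J s ι (theta R J ι f) = eps R J s (homogeneousComponent (Fintype.card ι) f) := by
  induction f using MvPolynomial.induction_on' with
  | monomial μ c => exact rho_theta_monomial R J s ι μ c
  | add p q hp hq => rw [map_add, map_add, map_add, map_add, hp, hq]

end

end Groth.Agent.Helper8.SymPow
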