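import Mathlib
import Groth.Prelude.Def_PP16
import Groth.Agent.Lib.Helper8.SymPow6
import Groth.Agent.Lib.Helper8.AdicFS1
import Groth.Agent.Lib.Helper8.AdicDer2

/-!
# The map from the polynomial model to `B/J^m`
-/

set_option autoImplicit false

namespace Groth.Agent.Helper8.SymPow

universe u

open PP16 MvPolynomial CAlgX

variable {A B : Type u} [CommRing A] [CommRing B] [Algebra A B] (J : Ideal B)
  (m : ℕ) (σ : (B ⧸ J) →ₐ[A] (B ⧸ J ^ m))

/-- The homomorphism from the polynomial model to `B/J^m`: `X_x ↦ x`, coefficients through `σ`. -/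
noncomputable def Phi0 : PolyS B J →ₐ[A] (B ⧸ J ^ m) :=
  { MvPolynomial.eval₂Hom (σ : (B ⧸ J) →+* (B ⧸ J ^ m))
      (fun x : ↥J => Ideal.Quotient.mk (J ^ m) (x : B)) with
    commutes' := fun a => by
      show MvPolynomial.eval₂Hom (σ : (B ⧸ J) →+* (B ⧸ J ^ m))
        (fun x : ↥J => Ideal.Quotient.mk (J ^ m) (x : B)) (algebraMap A (PolyS B J) a) = _
      rw [MvPolynomial.algebraMap_apply, MvPolynomial.eval₂Hom_C]
      exact σ.commutes a }

theorem Phi0_C (c : B ⧸ J) : Phi0 J m σ (C c) = σ c := by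
  show MvPolynomial.eval₂Hom (σ : (B ⧸ J) →+* (B ⧸ J ^ m)) _ (C c) = _
  rw [MvPolynomial.eval₂Hom_C]
  rfl

theorem Phi0_X (x : ↥J) : Phi0 J m σ (X x) = Ideal.Quotient.mk (J ^ m) (x : B) := by
  show MvPolynomial.eval₂Hom (σ : (B ⧸ J) →+* (B ⧸ J ^ m)) _ (X x) = _
  rw [MvPolynomial.eval₂Hom_X']

attribute [irreducible] Phi0

/-- The ideal `J/J^m` of `B/J^m`. -/
abbrev jm : Ideal (B ⧸ J ^ m) := J.map (Ideal.Quotient.mk (J ^ m))

theorem Phi0_mem_of_mem (f : PolyS B J) (hf : f ∈ idealOfVars ↥J (B ⧸ J)) :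
    Phi0 J m σ f ∈ jm J m := by
  have h1 : idealOfVars ↥J (B ⧸ J) ≤ (jm J m).comap (Phi0 J m σ) := by
    apply Ideal.span_le.2
    rintro _ ⟨x, rfl⟩
    show Phi0 J m σ (X x) ∈ jm J m
    rw [Phi0_X]
    exact Ideal.mem_map_of_mem _ x.2
  exact h1 hf

theorem Phi0_mem_pow (i : ℕ) (f : PolyS B J) (hf : f ∈ (idealOfVars ↥J (B ⧸ J)) ^ i) :
    Phi0 J m σ f ∈ (jm J m) ^ i :=
  AdicFS.map_pow_mem (Phi0 J m σ : PolyS B J →+* (B ⧸ J ^ m))
    (fun f hf => Phi0_mem_of_mem J m σ f hf) i f hf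

variable (hm : m ≠ 0)
  (hσ : ∀ c, Ideal.Quotient.factor (Ideal.pow_le_self hm : J ^ m ≤ J) (σ c) = c)

include hσ in
theorem factor_Phi0 (f : PolyS B J) :
    Ideal.Quotient.factor (Ideal.pow_le_self hm : J ^ m ≤ J) (Phi0 J m σ f) = constantCoeff f := by
  suffices h : (Ideal.Quotient.factor (Ideal.pow_le_self hm : J ^ m ≤ J)).comp
      (Phi0 J m σ : PolyS B J →+* (B ⧸ J ^ m)) = constantCoeff from RingHom.congr_fun h f
  apply MvPolynomial.ringHom_ext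
  · intro c
    show Ideal.Quotient.factor (Ideal.pow_le_self hm : J ^ m ≤ J) (Phi0 J m σ (C c)) =
      constantCoeff (C c)
    rw [Phi0_C, hσ, constantCoeff_C]
  · intro x
    show Ideal.Quotient.factor (Ideal.pow_le_self hm : J ^ m ≤ J) (Phi0 J m σ (X x)) =
      constantCoeff (X x)
    rw [Phi0_X, Ideal.Quotient.factor_mk, constantCoeff_X, Ideal.Quotient.eq_zero_iff_mem.2 x.2]

theorem mem_pow_of_mk_mem (i : ℕ) (hi : i ≤ m) (b : B)
    (hb : Ideal.Quotient.mk (J ^ m) b ∈ (jm J m) ^ i) : b ∈ J ^ i := by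
  have h1 : (jm J m) ^ i = (J ^ i).map (Ideal.Quotient.mk (J ^ m)) :=
    (Ideal.map_pow (Ideal.Quotient.mk (J ^ m)) J i).symm
  rw [h1, Ideal.mem_quotient_iff_mem_sup, sup_eq_left.2 (Ideal.pow_le_pow_right hi)] at hb
  exact hb

theorem exists_mk_eq_of_mem_pow (i : ℕ) (y : B ⧸ J ^ m) (hy : y ∈ (jm J m) ^ i) :
    ∃ b ∈ J ^ i, Ideal.Quotient.mk (J ^ m) b = y := by
  have h1 : (jm J m) ^ i = (J ^ i).map (Ideal.Quotient.mk (J ^ m)) :=
    (Ideal.map_pow (Ideal.Quotient.mk (J ^ m)) J i).symm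
  rw [h1] at hy
  exact Ideal.mem_image_of_mem_map_of_surjective _ Ideal.Quotient.mk_surjective hy

theorem mk_mem_jm_pow (i : ℕ) (b : B) (hb : b ∈ J ^ i) :
    Ideal.Quotient.mk (J ^ m) b ∈ (jm J m) ^ i := by
  have h1 : (jm J m) ^ i = (J ^ i).map (Ideal.Quotient.mk (J ^ m)) :=
    (Ideal.map_pow (Ideal.Quotient.mk (J ^ m)) J i).symm
  rw [h1]
  exact Ideal.mem_map_of_mem _ hb

end Groth.Agent.Helper8.SymPow
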