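import Mathlib
import Groth.Prelude.Def_PP16
import Groth.Agent.Lib.Helper8.SymPow9

/-!
# The map from the polynomial model to `B/J^m` and the canonical map `φ`
-/

set_option autoImplicit false

namespace Groth.Agent.Helper8.SymPow

universe u

open PP16 MvPolynomial CAlgX

variable {A B : Type u} [CommRing A] [CommRing B] [Algebra A B] (J : Ideal B)
  (m : ℕ) (σ : (B ⧸ J) →ₐ[A] (B ⧸ J ^ m)) (hm : m ≠ 0)
  (hσ : ∀ c, Ideal.Quotient.factor (Ideal.pow_le_self hm : J ^ m ≤ J) (σ c) = c)
  (ι : Type u) [Fintype ι] [Nonempty ι]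

include hσ in
/-- `φ(θ f)` is represented by the degree `n` part of `Φ⁰ f`, modulo `J^(n+1)`. -/
theorem exists_rep (f : PolyS B J) :
    ∃ (b : B) (hb : b ∈ J ^ Fintype.card ι),
      phi B J ι (theta B J ι f) = (Submodule.Quotient.mk ⟨b, hb⟩ : grJ B J (Fintype.card ι)) ∧
      Ideal.Quotient.mk (J ^ m) b - Phi0 J m σ (homogeneousComponent (Fintype.card ι) f) ∈
        (jm J m) ^ (Fintype.card ι + 1) := by
  classical
  induction f using MvPolynomial.induction_on' with
  | monomial μ c =>
    obtain ⟨r, rfl⟩ := Ideal.Quotient.mk_surjective c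
    rw [homogeneousComponent_monomial]
    by_cases h : Finsupp.degree μ = Fintype.card ι
    · rw [if_pos h]
      obtain ⟨w, rfl⟩ := exists_word μ h
      have hmem : r * ∏ i, (w i : B) ∈ J ^ Fintype.card ι :=
        Ideal.mul_mem_left _ _ (by
          simpa using prod_mem_pow J Finset.univ (fun i => (w i : B)) (fun i _ => (w i).2))
      refine ⟨r * ∏ i, (w i : B), hmem, ?_, ?_⟩
      · rw [theta_monomial, tmon_expo, map_smul, phi_tprod]
        rfl
      · have h1 : (monomial (expo w) (Ideal.Quotient.mk J r) : PolyS B J) =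
            C (Ideal.Quotient.mk J r) * ∏ i, X (w i) := by
          rw [← monomial_expo, C_mul_monomial, mul_one]
        have h2 : Phi0 J m σ (C (Ideal.Quotient.mk J r) * ∏ i, X (w i)) =
            σ (Ideal.Quotient.mk J r) * ∏ i, Ideal.Quotient.mk (J ^ m) (w i : B) := by
          rw [map_mul, map_prod, Phi0_C]
          simp_rw [Phi0_X]
        have h3 : Ideal.Quotient.mk (J ^ m) (r * ∏ i, (w i : B)) =
            Ideal.Quotient.mk (J ^ m) r * ∏ i, Ideal.Quotient.mk (J ^ m) (w i : B) := by
          rw [map_mul, map_prod]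
        rw [h1, h2, h3, ← sub_mul, pow_succ']
        apply Ideal.mul_mem_mul
        · have := AdicDer.sub_section_mem A J hm σ hσ (Ideal.Quotient.mk (J ^ m) r)
          rwa [Ideal.Quotient.factor_mk] at this
        · have := prod_mem_pow (jm J m) Finset.univ
            (fun i => Ideal.Quotient.mk (J ^ m) (w i : B))
            (fun i _ => Ideal.mem_map_of_mem _ (w i).2)
          simpa using this
    · rw [if_neg h]
      refine ⟨0, Submodule.zero_mem _, ?_, ?_⟩
      · rw [theta_monomial_of_ne B J ι μ _ h, map_zero]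
        rfl
      · rw [map_zero, map_zero, sub_zero]
        exact Submodule.zero_mem _
  | add p q hp hq =>
    obtain ⟨bp, hbp, hp1, hp2⟩ := hp
    obtain ⟨bq, hbq, hq1, hq2⟩ := hq
    refine ⟨bp + bq, Ideal.add_mem _ hbp hbq, ?_, ?_⟩
    · rw [map_add, map_add, hp1, hq1]
      rfl
    · rw [map_add, map_add, map_add]
      have e : Ideal.Quotient.mk (J ^ m) bp + Ideal.Quotient.mk (J ^ m) bq -
          (Phi0 J m σ (homogeneousComponent (Fintype.card ι) p) +
            Phi0 J m σ (homogeneousComponent (Fintype.card ι) q)) =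
          (Ideal.Quotient.mk (J ^ m) bp - Phi0 J m σ (homogeneousComponent (Fintype.card ι) p)) +
          (Ideal.Quotient.mk (J ^ m) bq - Phi0 J m σ (homogeneousComponent (Fintype.card ι) q)) := by
        ring
      rw [e]
      exact Ideal.add_mem _ hp2 hq2

end Groth.Agent.Helper8.SymPow
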