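import Mathlib
import Groth.Prelude.Def_PP16
import Groth.Agent.Lib.Helper8.SymPow10

/-!
# The map `Φ = Φ⁰ ∘ ε` from the polynomial model to `B/J^m`: surjectivity and kernel
-/

set_option autoImplicit false

namespace Groth.Agent.Helper8.SymPow

universe u

open PP16 MvPolynomial CAlgX

variable {A B : Type u} [CommRing A] [CommRing B] [Algebra A B] (J : Ideal B)
  (m : ℕ) (σ : (B ⧸ J) →ₐ[A] (B ⧸ J ^ m)) (hm : m ≠ 0)
  (hσ : ∀ c, Ideal.Quotient.factor (Ideal.pow_le_self hm : J ^ m ≤ J) (σ c) = c)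
  (s : J.Cotangent →ₗ[B ⧸ J] (↥J →₀ B ⧸ J)) (hs : (piJ B J) ∘ₗ s = LinearMap.id)

/-- `ε` as an `A`-algebra homomorphism. -/
noncomputable def epsA : PolyS B J →ₐ[A] PolyS B J := (eps B J s).restrictScalars A

theorem epsA_apply (f : PolyS B J) : epsA (A := A) J s f = eps B J s f := rfl

/-- `Φ = Φ⁰ ∘ ε`. -/
noncomputable def Phi : PolyS B J →ₐ[A] (B ⧸ J ^ m) := (Phi0 J m σ).comp (epsA J s)

theorem Phi_apply (f : PolyS B J) : Phi J m σ s f = Phi0 J m σ (eps B J s f) := rfl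

include hs in
theorem Phi_eps (f : PolyS B J) : Phi J m σ s (eps B J s f) = Phi J m σ s f := by
  rw [Phi_apply, Phi_apply, eps_eps B J s hs]

include hs in
theorem eps_rho (ι : Type u) [Fintype ι] (t : SymmetricPower B ι J.Cotangent) :
    eps B J s (rho B J s ι t) = rho B J s ι t := by
  induction t using induction_on with
  | h0 => rw [map_zero, map_zero]
  | hadd x y hx hy => rw [map_add, map_add, hx, hy]
  | hsmul r v =>
    rw [map_smul, rho_tprod, smul_eq_C_mul, map_mul, map_prod]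
    congr 1
    · exact (eps B J s).commutes _
    · exact Finset.prod_congr rfl (fun i _ => eps_ell B J s hs (v i))

theorem eps_mem_pow (i : ℕ) (f : PolyS B J) (hf : f ∈ (idealOfVars ↥J (B ⧸ J)) ^ i) :
    eps B J s f ∈ (idealOfVars ↥J (B ⧸ J)) ^ i := by
  have h1 : idealOfVars ↥J (B ⧸ J) ≤ (idealOfVars ↥J (B ⧸ J)).comap (eps B J s) := by
    apply Ideal.span_le.2
    rintro _ ⟨x, rfl⟩
    show eps B J s (X x) ∈ idealOfVars ↥J (B ⧸ J)
    rw [eps_X]
    exact ell_mem B J s _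
  exact AdicFS.map_pow_mem (eps B J s : PolyS B J →+* PolyS B J)
    (fun f hf => Ideal.mem_comap.1 (h1 hf)) i f hf

include hσ in
theorem approx0 (y : B ⧸ J ^ m) : ∃ f : PolyS B J, y - Phi J m σ s f ∈ jm J m := by
  refine ⟨C (Ideal.Quotient.factor (Ideal.pow_le_self hm : J ^ m ≤ J) y), ?_⟩
  have h1 : eps B J s (C (Ideal.Quotient.factor (Ideal.pow_le_self hm : J ^ m ≤ J) y)) =
      C (Ideal.Quotient.factor (Ideal.pow_le_self hm : J ^ m ≤ J) y) := (eps B J s).commutes _
  rw [Phi_apply, h1, Phi0_C]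
  exact AdicDer.sub_section_mem A J hm σ hσ y

include hσ hs in
theorem approx (ι : Type u) [Fintype ι] [Nonempty ι] (y : B ⧸ J ^ m)
    (hy : y ∈ (jm J m) ^ Fintype.card ι) :
    ∃ f : PolyS B J, y - Phi J m σ s f ∈ (jm J m) ^ (Fintype.card ι + 1) := by
  obtain ⟨b', hb', rfl⟩ := exists_mk_eq_of_mem_pow J m _ y hy
  obtain ⟨t, ht⟩ := phi_surjective B J ι (Submodule.Quotient.mk ⟨b', hb'⟩)
  obtain ⟨b'', hb'', h1, h2⟩ := exists_rep J m σ hm hσ ι (rho B J s ι t)
  rw [theta_rho B J s ι hs, ht] at h1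
  refine ⟨homogeneousComponent (Fintype.card ι) (rho B J s ι t), ?_⟩
  rw [Phi_apply, eps_homogeneousComponent, eps_rho J s hs]
  have h3 : b' - b'' ∈ J ^ (Fintype.card ι + 1) := by
    have e : (Submodule.Quotient.mk ⟨b' - b'', Ideal.sub_mem _ hb' hb''⟩ :
        grJ B J (Fintype.card ι)) =
        Submodule.Quotient.mk ⟨b', hb'⟩ - Submodule.Quotient.mk ⟨b'', hb''⟩ := rfl
    have h4 : (Submodule.Quotient.mk ⟨b' - b'', Ideal.sub_mem _ hb' hb''⟩ :
        grJ B J (Fintype.card ι)) = 0 := by rw [e, h1, sub_self]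
    rw [Submodule.Quotient.mk_eq_zero] at h4
    exact h4
  have e2 : Ideal.Quotient.mk (J ^ m) b' -
      Phi0 J m σ (homogeneousComponent (Fintype.card ι) (rho B J s ι t)) =
      Ideal.Quotient.mk (J ^ m) (b' - b'') + (Ideal.Quotient.mk (J ^ m) b'' -
        Phi0 J m σ (homogeneousComponent (Fintype.card ι) (rho B J s ι t))) := by
    rw [map_sub]; ring
  rw [e2]
  exact Ideal.add_mem _ (mk_mem_jm_pow J m _ _ h3) h2

theorem exists_type_card (k : ℕ) (hk : k ≠ 0) :
    ∃ (ι : Type u) (_ : Fintype ι) (_ : Nonempty ι), Fintype.card ι = k := by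
  refine ⟨ULift (Fin k), inferInstance, ?_, by simp⟩
  haveI : NeZero k := ⟨hk⟩
  exact ⟨⟨0⟩⟩

include hσ hs in
theorem Phi_surjective : Function.Surjective (Phi J m σ s) := by
  have key : ∀ j, j ≤ m → ∀ y ∈ (jm J m) ^ (m - j), ∃ f, Phi J m σ s f = y := by
    intro j
    induction j with
    | zero =>
      intro _ y hy
      rw [Nat.sub_zero, AdicDer.map_mk_pow_eq_bot J m, Ideal.mem_bot] at hy
      exact ⟨0, by rw [map_zero, hy]⟩
    | succ j ih =>
      intro hj y hy
      have hstep : ∃ f₁, y - Phi J m σ s f₁ ∈ (jm J m) ^ (m - j) := by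
        by_cases hk : m - (j + 1) = 0
        · obtain ⟨f₁, hf₁⟩ := approx0 J m σ hm hσ s y
          refine ⟨f₁, ?_⟩
          have : m - j = 1 := by omega
          rw [this, pow_one]
          exact hf₁
        · obtain ⟨ι, _, _, hcard⟩ := exists_type_card.{u} (m - (j + 1)) hk
          rw [← hcard] at hy
          obtain ⟨f₁, hf₁⟩ := approx J m σ hm hσ s hs ι y hy
          refine ⟨f₁, ?_⟩
          have : m - j = Fintype.card ι + 1 := by omega
          rw [this]
          exact hf₁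
      obtain ⟨f₁, hf₁⟩ := hstep
      obtain ⟨f₂, hf₂⟩ := ih (by omega) _ hf₁
      exact ⟨f₁ + f₂, by rw [map_add, hf₂]; ring⟩
  intro y
  have := key m le_rfl y (by rw [Nat.sub_self, pow_zero, Ideal.one_eq_top]; trivial)
  exact this

end Groth.Agent.Helper8.SymPow
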