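import Mathlib
import Groth.Prelude.Def_PP16
import Groth.Agent.Lib.Helper8.SymPow11

/-!
# Projectivity of `J/J²` and bijectivity of `Sym^n(J/J²) → J^n/J^(n+1)` imply formal smoothness
for the `J`-adic topology (when `B/J` is formally smooth)
-/

set_option autoImplicit false

namespace Groth.Agent.Helper8.SymPow

universe u

open PP16 MvPolynomial CAlgX

variable {A B : Type u} [CommRing A] [CommRing B] [Algebra A B] (J : Ideal B)
  (m : ℕ) (σ : (B ⧸ J) →ₐ[A] (B ⧸ J ^ m)) (hm : m ≠ 0)
  (hσ : ∀ c, Ideal.Quotient.factor (Ideal.pow_le_self hm : J ^ m ≤ J) (σ c) = c)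
  (s : J.Cotangent →ₗ[B ⧸ J] (↥J →₀ B ⧸ J)) (hs : (piJ B J) ∘ₗ s = LinearMap.id)
  (hφ : ∀ (ι : Type u) [Fintype ι] [Nonempty ι], Function.Injective (phi B J ι))

theorem sub_homogeneousComponent_mem (i : ℕ) (g : PolyS B J)
    (hg : g ∈ (idealOfVars ↥J (B ⧸ J)) ^ i) :
    g - homogeneousComponent i g ∈ (idealOfVars ↥J (B ⧸ J)) ^ (i + 1) := by
  rw [mem_pow_idealOfVars_iff'] at hg ⊢
  intro μ hμ
  rw [coeff_sub, coeff_homogeneousComponent]
  by_cases h : Finsupp.degree μ = i
  · rw [if_pos h, sub_self]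
  · rw [if_neg h, sub_zero]
    exact hg μ (by omega)

theorem mem_pow_succ_of_homogeneousComponent_eq_zero (i : ℕ) (g : PolyS B J)
    (hg : g ∈ (idealOfVars ↥J (B ⧸ J)) ^ i) (h0 : homogeneousComponent i g = 0) :
    g ∈ (idealOfVars ↥J (B ⧸ J)) ^ (i + 1) := by
  have := sub_homogeneousComponent_mem J i g hg
  rwa [h0, sub_zero] at this

include hσ hφ in
/-- An element fixed by `ε` and killed by `Φ⁰` lies in `(X)^m`. -/
theorem mem_pow_of_Phi0_eq_zero (g : PolyS B J) (hg : eps B J s g = g)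
    (h0 : Phi0 J m σ g = 0) : ∀ i, i ≤ m → g ∈ (idealOfVars ↥J (B ⧸ J)) ^ i := by
  intro i
  induction i with
  | zero =>
    intro _
    rw [pow_zero, Ideal.one_eq_top]
    trivial
  | succ i ih =>
    intro hi
    have hgi := ih (by omega)
    apply mem_pow_succ_of_homogeneousComponent_eq_zero J i g hgi
    by_cases hi0 : i = 0
    · subst hi0
      rw [homogeneousComponent_zero]
      have h1 := factor_Phi0 J m σ hm hσ g
      rw [h0, map_zero] at h1
      have h2 : coeff 0 g = constantCoeff g := rfl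
      rw [h2, ← h1, map_zero]
    · obtain ⟨ι, _, _, hcard⟩ := exists_type_card.{u} i hi0
      subst hcard
      obtain ⟨b, hb, h1, h2⟩ := exists_rep J m σ hm hσ ι g
      have h3 : Phi0 J m σ (homogeneousComponent (Fintype.card ι) g) ∈
          (jm J m) ^ (Fintype.card ι + 1) := by
        have h4 := Phi0_mem_pow J m σ _ _ (sub_homogeneousComponent_mem J _ g hgi)
        rw [map_sub, h0, zero_sub] at h4
        exact (Ideal.neg_mem_iff _).1 h4
      have h5 : Ideal.Quotient.mk (J ^ m) b ∈ (jm J m) ^ (Fintype.card ι + 1) := by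
        have := Ideal.add_mem _ h2 h3
        rwa [sub_add_cancel] at this
      have h6 : b ∈ J ^ (Fintype.card ι + 1) := mem_pow_of_mk_mem J m _ hi b h5
      have h7 : phi B J ι (theta B J ι g) = 0 := by
        rw [h1, Submodule.Quotient.mk_eq_zero]
        exact h6
      have h8 : theta B J ι g = 0 := by
        apply hφ ι
        rw [h7, map_zero]
      have h9 := rho_theta B J s ι g
      rw [h8, map_zero, eps_homogeneousComponent, hg] at h9
      exact h9.symm

include hσ hs hφ in
/-- The kernel of `Φ` is contained in `ker ε + (X)^m`. -/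
theorem exists_decomp_of_Phi_eq_zero (f : PolyS B J) (hf : Phi J m σ s f = 0) :
    eps B J s (f - eps B J s f) = 0 ∧ eps B J s f ∈ (idealOfVars ↥J (B ⧸ J)) ^ m := by
  refine ⟨by rw [map_sub, eps_eps B J s hs, sub_self], ?_⟩
  exact mem_pow_of_Phi0_eq_zero J m σ hm hσ s hφ (eps B J s f) (eps_eps B J s hs f) hf m le_rfl

end Groth.Agent.Helper8.SymPow
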