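import Mathlib
import Groth.Prelude.Def_PP16
import Groth.Agent.Lib.Helper8.SymPow6
import Groth.Agent.Lib.Helper8.AdicDer1
import Groth.Agent.Lib.Helper8.AdicDer2

/-!
# Formal smoothness for the `J`-adic topology implies projectivity of `J/J²` and bijectivity of
`Sym^n(J/J²) → J^n/J^(n+1)` (when `B/J` is formally smooth)
-/

set_option autoImplicit false

namespace Groth.Agent.Helper8.SymPow

universe u

open PP16 MvPolynomial CAlgX

section prodlemma

variable {R' : Type u} [CommRing R'] (I : Ideal R')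

theorem prod_sub_prod_mem {ι : Type u} (s : Finset ι) (a a' : ι → R')
    (ha : ∀ i, a i ∈ I) (ha' : ∀ i, a' i ∈ I) (h : ∀ i, a i - a' i ∈ I ^ 2) :
    ∏ i ∈ s, a i - ∏ i ∈ s, a' i ∈ I ^ (s.card + 1) := by
  classical
  induction s using Finset.induction_on with
  | empty => simp
  | insert j s hj ih =>
    rw [Finset.prod_insert hj, Finset.prod_insert hj, Finset.card_insert_of_notMem hj]
    have e : a j * ∏ i ∈ s, a i - a' j * ∏ i ∈ s, a' i =
        (a j - a' j) * ∏ i ∈ s, a i + a' j * (∏ i ∈ s, a i - ∏ i ∈ s, a' i) := by ring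
    rw [e]
    apply Ideal.add_mem
    · have h1 : (a j - a' j) * ∏ i ∈ s, a i ∈ I ^ 2 * I ^ s.card :=
        Ideal.mul_mem_mul (h j) (prod_mem_pow I s a (fun i _ => ha i))
      rw [← pow_add] at h1
      have h2 : I ^ (2 + s.card) = I ^ (s.card + 1 + 1) := by congr 1; omega
      rwa [h2] at h1
    · have h1 : a' j * (∏ i ∈ s, a i - ∏ i ∈ s, a' i) ∈ I * I ^ (s.card + 1) :=
        Ideal.mul_mem_mul (ha' j) ih
      rwa [← pow_succ'] at h1

end prodlemma

variable {A B : Type u} [CommRing A] [CommRing B] [Algebra A B] (J : Ideal B)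

/-- The truncated polynomial ring `S/(X)^(n+1)`. -/
abbrev Tn (n : ℕ) : Type u := PolyS B J ⧸ (idealOfVars ↥J (B ⧸ J)) ^ (n + 1)

theorem Lf_mem (f : ↥J →₀ B ⧸ J) : Lf B J f ∈ idealOfVars ↥J (B ⧸ J) := by
  rw [Lf_apply]
  apply Ideal.sum_mem
  intro x _
  rw [Algebra.smul_def]
  exact Ideal.mul_mem_left _ _ (Ideal.subset_span ⟨x, rfl⟩)

section psi1

variable (D : Derivation A B (↥J →₀ B ⧸ J))

theorem Lf_smul (b : B) (f : ↥J →₀ B ⧸ J) :
    Lf B J (b • f) = C (Ideal.Quotient.mk J b) * Lf B J f := by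
  have : b • f = (Ideal.Quotient.mk J b) • f := (IsScalarTower.algebraMap_smul (B ⧸ J) b f).symm
  rw [this, map_smul, MvPolynomial.smul_eq_C_mul]

/-- The homomorphism `B → S/(X)²` attached to a derivation with values in the free module. -/
noncomputable def psi1 : B →ₐ[A] Tn J 1 :=
  { toFun := fun b => Ideal.Quotient.mk _ (C (Ideal.Quotient.mk J b) + Lf B J (D b))
    map_one' := by
      rw [Derivation.map_one_eq_zero, map_zero, add_zero, map_one, map_one, map_one]
    map_zero' := by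
      rw [map_zero, map_zero, map_zero, map_zero, add_zero, map_zero]
    map_add' := fun a b => by
      rw [← map_add]
      congr 1
      rw [map_add, map_add, map_add, map_add]
      ring
    map_mul' := fun a b => by
      rw [← map_mul, Ideal.Quotient.eq]
      rw [Derivation.leibniz, map_add, Lf_smul, Lf_smul, map_mul, map_mul]
      have h1 : Lf B J (D a) * Lf B J (D b) ∈ (idealOfVars ↥J (B ⧸ J)) ^ (1 + 1) := by
        rw [pow_two]
        exact Ideal.mul_mem_mul (Lf_mem J _) (Lf_mem J _)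
      have e : C (Ideal.Quotient.mk J a) * C (Ideal.Quotient.mk J b) +
          (C (Ideal.Quotient.mk J a) * Lf B J (D b) + C (Ideal.Quotient.mk J b) * Lf B J (D a)) -
          (C (Ideal.Quotient.mk J a) + Lf B J (D a)) * (C (Ideal.Quotient.mk J b) + Lf B J (D b)) =
          -(Lf B J (D a) * Lf B J (D b)) := by ring
      rw [e]
      exact Ideal.neg_mem_iff _ |>.2 h1
    commutes' := fun a => by
      rw [Derivation.map_algebraMap, map_zero, add_zero]
      rfl }

theorem psi1_apply (b : B) :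
    psi1 J D b = Ideal.Quotient.mk _ (C (Ideal.Quotient.mk J b) + Lf B J (D b)) := rfl

attribute [irreducible] psi1

end psi1

section tower

variable (D : Derivation A B (↥J →₀ B ⧸ J))

theorem map_mk_idealOfVars_pow (n : ℕ) :
    ((idealOfVars ↥J (B ⧸ J)).map (Ideal.Quotient.mk ((idealOfVars ↥J (B ⧸ J)) ^ (n + 1)))) ^ (n + 1)
      = ⊥ :=
  AdicDer.map_mk_pow_eq_bot (idealOfVars ↥J (B ⧸ J)) (n + 1)

theorem idealOfVars_pow_le (k : ℕ) :
    (idealOfVars ↥J (B ⧸ J)) ^ (k + 1 + 1) ≤ (idealOfVars ↥J (B ⧸ J)) ^ (1 + 1) :=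
  Ideal.pow_le_pow_right (by omega)

theorem psi1_mem (x : B) (hx : x ∈ J) :
    psi1 J D x ∈ (idealOfVars ↥J (B ⧸ J)).map
      (Ideal.Quotient.mk ((idealOfVars ↥J (B ⧸ J)) ^ (1 + 1))) := by
  rw [psi1_apply, Ideal.Quotient.eq_zero_iff_mem.2 hx, map_zero, zero_add]
  exact Ideal.mem_map_of_mem _ (Lf_mem J _)

theorem psi1_eq_zero (x : B) (hx : x ∈ J ^ 2) : psi1 J D x = 0 := by
  rw [pow_two] at hx
  refine Submodule.mul_induction_on hx ?_ ?_
  · intro a ha b hb
    rw [map_mul, psi1_apply, psi1_apply, Ideal.Quotient.eq_zero_iff_mem.2 ha,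
      Ideal.Quotient.eq_zero_iff_mem.2 hb, map_zero, zero_add, zero_add, ← map_mul,
      Ideal.Quotient.eq_zero_iff_mem, pow_two]
    exact Ideal.mul_mem_mul (Lf_mem J _) (Lf_mem J _)
  · intro a b ha hb
    rw [map_add, ha, hb, add_zero]

/-- The successive liftings of `ψ₁` to the truncated polynomial rings. -/
theorem exists_chi (h : IsAdicFormallySmooth A B J) (k : ℕ) :
    ∃ χ : B →ₐ[A] Tn J (k + 1),
      (∀ b, Ideal.Quotient.factor (idealOfVars_pow_le J k) (χ b) = psi1 J D b) ∧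
        ∃ m : ℕ, ∀ x ∈ J ^ m, χ x = 0 := by
  induction k with
  | zero =>
    refine ⟨psi1 J D, fun b => ?_, 2, fun x hx => ?_⟩
    · rw [Ideal.Quotient.factor_eq]; rfl
    · exact psi1_eq_zero J D x hx
  | succ k ih =>
    obtain ⟨χ, hχ, hcont⟩ := ih
    have hle : (idealOfVars ↥J (B ⧸ J)) ^ (k + 1 + 1 + 1) ≤ (idealOfVars ↥J (B ⧸ J)) ^ (k + 1 + 1) :=
      Ideal.pow_le_pow_right (Nat.le_succ _)
    obtain ⟨g', hg'⟩ := AdicFS.exists_step h (idealOfVars ↥J (B ⧸ J)) (k + 1) ⟨χ, hcont⟩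
    refine ⟨g'.1, fun b => ?_, g'.2⟩
    have h2 : Ideal.Quotient.factor hle (g'.1 b) = χ b := AlgHom.congr_fun hg' b
    rw [← hχ b, ← h2, Ideal.Quotient.factor_comp_apply]

end tower

end Groth.Agent.Helper8.SymPow
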