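import Mathlib
import Groth.Prelude.Def_PP16
import Groth.Agent.Lib.Helper8.SymPow7

/-!
# Formal smoothness for the `J`-adic topology implies projectivity of `J/J²` and bijectivity of
`Sym^n(J/J²) → J^n/J^(n+1)` (when `B/J` is formally smooth): the main argument
-/

set_option autoImplicit false

namespace Groth.Agent.Helper8.SymPow

universe u

open PP16 MvPolynomial CAlgX

variable {A B : Type u} [CommRing A] [CommRing B] [Algebra A B] (J : Ideal B)

/-- The section of `C^(J) → J/J²` attached to a derivation lifting the canonical derivation. -/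
theorem exists_section_of_derivation (D : Derivation A B (↥J →₀ B ⧸ J))
    (hD : ∀ x : ↥J, piJ B J (D x) = J.toCotangent x) :
    ∃ s : J.Cotangent →ₗ[B ⧸ J] (↥J →₀ B ⧸ J),
      (piJ B J) ∘ₗ s = LinearMap.id ∧ ∀ x : ↥J, s (J.toCotangent x) = D x := by
  have hkill : ∀ (x : B) (f : ↥J →₀ B ⧸ J), x ∈ J → x • f = 0 := by
    intro x f hx
    rw [← IsScalarTower.algebraMap_smul (B ⧸ J) x f, Ideal.Quotient.algebraMap_eq,
      Ideal.Quotient.eq_zero_iff_mem.2 hx, zero_smul]
  let s₀ : ↥J →ₗ[B] (↥J →₀ B ⧸ J) :=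
    { toFun := fun x => D x
      map_add' := fun x y => by
        show D ((x + y : ↥J) : B) = _
        rw [Submodule.coe_add, map_add]
      map_smul' := fun b x => by
        show D ((b • x : ↥J) : B) = b • D x
        rw [Submodule.coe_smul, smul_eq_mul, Derivation.leibniz, hkill _ _ x.2, add_zero] }
  have hs₀ : ∀ x y : ↥J, s₀ (x * y) = 0 := by
    intro x y
    show D ((x * y : ↥J) : B) = 0
    have : ((x * y : ↥J) : B) = (x : B) * (y : B) := rfl
    rw [this, Derivation.leibniz, hkill _ _ x.2, hkill _ _ y.2, add_zero]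
  let s₁ : J.Cotangent →ₗ[B] (↥J →₀ B ⧸ J) := Ideal.Cotangent.lift s₀ hs₀
  have hs₁ : ∀ x : ↥J, s₁ (J.toCotangent x) = D x := fun x => rfl
  refine ⟨s₁.extendScalarsOfSurjective Ideal.Quotient.mk_surjective, ?_, fun x => hs₁ x⟩
  apply LinearMap.ext
  intro p
  obtain ⟨x, rfl⟩ := J.toCotangent_surjective p
  rw [LinearMap.comp_apply, LinearMap.id_apply, LinearMap.extendScalarsOfSurjective_apply, hs₁, hD]

section injective

variable (s : J.Cotangent →ₗ[B ⧸ J] (↥J →₀ B ⧸ J)) (hs : (piJ B J) ∘ₗ s = LinearMap.id)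
  (D : Derivation A B (↥J →₀ B ⧸ J)) (hsD : ∀ x : ↥J, s (J.toCotangent x) = D x)
  (ι : Type u) [Fintype ι] [Nonempty ι] (n : ℕ) (hn : Fintype.card ι = n)
  (χ : B →ₐ[A] Tn J n)
  (hχ : ∀ b, ∃ g ∈ (idealOfVars ↥J (B ⧸ J)) ^ 2,
    χ b = Ideal.Quotient.mk _ (C (Ideal.Quotient.mk J b) + Lf B J (D b) + g))

include hχ in
theorem chi_mem (x : B) (hx : x ∈ J) :
    χ x ∈ (idealOfVars ↥J (B ⧸ J)).map
      (Ideal.Quotient.mk ((idealOfVars ↥J (B ⧸ J)) ^ (n + 1))) := by
  obtain ⟨g, hg, h1⟩ := hχ x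
  rw [h1, Ideal.Quotient.eq_zero_iff_mem.2 hx, map_zero, zero_add]
  apply Ideal.mem_map_of_mem
  exact Ideal.add_mem _ (Lf_mem J _) (Ideal.pow_le_self two_ne_zero hg)

omit [Algebra A B] in
theorem eq_zero_of_mem_pow {T : Type u} [CommRing T] (I : Ideal T) (n : ℕ)
    (χ : B →+* T ⧸ I ^ (n + 1)) (h : ∀ x ∈ J, χ x ∈ I.map (Ideal.Quotient.mk (I ^ (n + 1))))
    (x : B) (hx : x ∈ J ^ (n + 1)) : χ x = 0 := by
  have h1 := AdicFS.map_pow_mem χ h (n + 1) x hx
  rw [AdicDer.map_mk_pow_eq_bot I (n + 1)] at h1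
  exact h1

include hχ in
theorem chi_eq_zero (x : B) (hx : x ∈ J ^ (n + 1)) : χ x = 0 :=
  eq_zero_of_mem_pow J (idealOfVars ↥J (B ⧸ J)) n (χ : B →+* Tn J n)
    (fun x hx => chi_mem J D n χ hχ x hx) x hx

include hsD hn hχ in
theorem mk_rho_eq_chi (t : SymmetricPower B ι J.Cotangent) :
    ∀ (b : B) (hb : b ∈ J ^ Fintype.card ι),
      phi B J ι t = (Submodule.Quotient.mk ⟨b, hb⟩ : grJ B J (Fintype.card ι)) →
      Ideal.Quotient.mk ((idealOfVars ↥J (B ⧸ J)) ^ (n + 1)) (rho B J s ι t) = χ b := by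
  classical
  have hquot : ∀ (b : B) (hb : b ∈ J ^ Fintype.card ι),
      (Submodule.Quotient.mk ⟨b, hb⟩ : grJ B J (Fintype.card ι)) = 0 → b ∈ J ^ (n + 1) := by
    intro b hb h0
    rw [Submodule.Quotient.mk_eq_zero] at h0
    rw [← hn]
    exact h0
  induction t using induction_on with
  | h0 =>
    intro b hb hphi
    rw [map_zero] at hphi
    rw [map_zero, map_zero, chi_eq_zero J D n χ hχ b (hquot b hb hphi.symm)]
  | hadd t₁ t₂ ih₁ ih₂ =>
    intro b hb hphi
    obtain ⟨⟨b₁, hb₁⟩, h1⟩ := Submodule.Quotient.mk_surjective _ (phi B J ι t₁)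
    have hb₂ : b - b₁ ∈ J ^ Fintype.card ι := Ideal.sub_mem _ hb hb₁
    have h2 : phi B J ι t₂ = (Submodule.Quotient.mk ⟨b - b₁, hb₂⟩ : grJ B J (Fintype.card ι)) := by
      have e : (Submodule.Quotient.mk ⟨b - b₁, hb₂⟩ : grJ B J (Fintype.card ι)) =
          Submodule.Quotient.mk ⟨b, hb⟩ - Submodule.Quotient.mk ⟨b₁, hb₁⟩ := rfl
      rw [e, ← hphi, h1, map_add, add_sub_cancel_left]
    rw [map_add, map_add, ih₁ b₁ hb₁ h1.symm, ih₂ (b - b₁) hb₂ h2, ← map_add]
    congr 1
    ring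
  | hsmul r v =>
    intro b hb hphi
    obtain ⟨x, rfl⟩ := exists_lift_fun B J ι v
    rw [map_smul, phi_tprod] at hphi
    have hmem : r * ∏ i, (x i : B) ∈ J ^ Fintype.card ι :=
      Ideal.mul_mem_left _ _ (by
        simpa using prod_mem_pow J Finset.univ (fun i => (x i : B)) (fun i _ => (x i).2))
    have e1 : r • zetaJ B J x =
        (Submodule.Quotient.mk ⟨r * ∏ i, (x i : B), hmem⟩ : grJ B J (Fintype.card ι)) := rfl
    rw [e1] at hphi
    have hdiff : b - r * ∏ i, (x i : B) ∈ J ^ (n + 1) := by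
      apply hquot _ (Ideal.sub_mem _ hb hmem)
      have e : (Submodule.Quotient.mk ⟨b - r * ∏ i, (x i : B), Ideal.sub_mem _ hb hmem⟩ :
          grJ B J (Fintype.card ι)) =
          Submodule.Quotient.mk ⟨b, hb⟩ - Submodule.Quotient.mk ⟨r * ∏ i, (x i : B), hmem⟩ := rfl
      rw [e, hphi, sub_self]
    have h3 : χ b = χ (r * ∏ i, (x i : B)) := by
      rw [← sub_eq_zero, ← map_sub]
      exact chi_eq_zero J D n χ hχ _ hdiff
    -- representatives
    obtain ⟨g₀, hg₀, hr⟩ := hχ r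
    choose g hg hx using fun i => hχ (x i : B)
    have hx' : ∀ i, χ (x i : B) = Ideal.Quotient.mk _ (ell B J s (J.toCotangent (x i)) + g i) := by
      intro i
      rw [hx i, Ideal.Quotient.eq_zero_iff_mem.2 (x i).2, map_zero, zero_add, ell_apply, hsD]
    have hR : χ (r * ∏ i, (x i : B)) = Ideal.Quotient.mk ((idealOfVars ↥J (B ⧸ J)) ^ (n + 1))
        ((C (Ideal.Quotient.mk J r) + Lf B J (D r) + g₀) *
          ∏ i, (ell B J s (J.toCotangent (x i)) + g i)) := by
      rw [map_mul, map_prod, hr, map_mul, map_prod]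
      congr 1
      exact Finset.prod_congr rfl (fun i _ => hx' i)
    rw [h3, hR, map_smul, rho_tprod, smul_eq_C_mul, Ideal.Quotient.eq]
    set I := idealOfVars ↥J (B ⧸ J) with hI
    set a : ι → PolyS B J := fun i => ell B J s (J.toCotangent (x i)) + g i with ha
    set a' : ι → PolyS B J := fun i => ell B J s (J.toCotangent (x i)) with ha'
    have hmem_a' : ∀ i, a' i ∈ I := fun i => ell_mem B J s _
    have hmem_a : ∀ i, a i ∈ I := fun i =>
      Ideal.add_mem _ (ell_mem B J s _) (Ideal.pow_le_self two_ne_zero (hg i))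
    have hsub : ∀ i, a i - a' i ∈ I ^ 2 := fun i => by
      simp only [ha, ha', add_sub_cancel_left]
      exact hg i
    have h4 := prod_sub_prod_mem I Finset.univ a a' hmem_a hmem_a' hsub
    rw [Finset.card_univ, hn] at h4
    have h5 : ∏ i, a i ∈ I ^ n := by
      have := prod_mem_pow I Finset.univ a (fun i _ => hmem_a i)
      rwa [Finset.card_univ, hn] at this
    have h6 : (Lf B J (D r) + g₀) * ∏ i, a i ∈ I ^ (n + 1) := by
      rw [pow_succ']
      exact Ideal.mul_mem_mul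
        (Ideal.add_mem _ (Lf_mem J _) (Ideal.pow_le_self two_ne_zero hg₀)) h5
    have e : C (Ideal.Quotient.mk J r) * ∏ i, a' i -
        (C (Ideal.Quotient.mk J r) + Lf B J (D r) + g₀) * ∏ i, a i =
        -(C (Ideal.Quotient.mk J r) * (∏ i, a i - ∏ i, a' i)) -
          (Lf B J (D r) + g₀) * ∏ i, a i := by ring
    rw [e]
    exact Ideal.sub_mem _ (Ideal.neg_mem_iff _ |>.2 (Ideal.mul_mem_left _ _ h4)) h6

include hs hsD hn hχ in
theorem phi_injective_of_chi : Function.Injective (phi B J ι) := by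
  rw [injective_iff_map_eq_zero]
  intro t ht
  have h1 := mk_rho_eq_chi J s D hsD ι n hn χ hχ t 0 (Submodule.zero_mem _) (by
    rw [ht]; rfl)
  rw [map_zero, Ideal.Quotient.eq_zero_iff_mem, ← hn] at h1
  rw [← theta_rho B J s ι hs t, theta_eq_zero_of_mem B J ι _ h1]

end injective

/-- **Formal smoothness for the adic topology implies (α) and (β)**: if `B/J` is formally smooth
over `A` and `B` is formally smooth over `A` for the `J`-adic topology, then `J/J²` is projective
and the canonical maps `Sym^n(J/J²) → J^n/J^(n+1)` are bijective. -/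
theorem projective_and_symGrBijective [Algebra.FormallySmooth A (B ⧸ J)]
    (h : IsAdicFormallySmooth A B J) :
    Module.Projective (B ⧸ J) J.Cotangent ∧ SymGrBijective B J := by
  obtain ⟨d, hd⟩ := AdicDer.exists_derivation_cotangent A J
  obtain ⟨D, hD⟩ := AdicDer.exists_derivation_lift h (piJ B J) (piJ_surjective B J) d
  obtain ⟨s, hs, hsD⟩ := exists_section_of_derivation J D (fun x => by rw [hD, hd])
  refine ⟨Module.Projective.of_split s (piJ B J) hs, ?_⟩
  rw [symGrBijective_iff]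
  intro ι _ _
  obtain ⟨k, hk⟩ : ∃ k, Fintype.card ι = k + 1 :=
    Nat.exists_eq_succ_of_ne_zero Fintype.card_ne_zero
  obtain ⟨χ, hχ, -⟩ := exists_chi J D h k
  apply phi_injective_of_chi J s hs D hsD ι (k + 1) hk χ
  intro b
  obtain ⟨f, hf⟩ := Ideal.Quotient.mk_surjective (χ b)
  have h1 := hχ b
  rw [← hf, Ideal.Quotient.factor_mk, psi1_apply, Ideal.Quotient.eq] at h1
  refine ⟨f - (C (Ideal.Quotient.mk J b) + Lf B J (D b)), h1, ?_⟩
  rw [← hf]
  congr 1
  ring

end Groth.Agent.Helper8.SymPow
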