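import Mathlib
import Groth.Prelude.Def_PP16
import Groth.Agent.Lib.Helper8.SymPow12
import Groth.Agent.Lib.Helper8.SymPow8

/-!
# Formal smoothness for the `J`-adic topology, in terms of `J/J²` and the graded ring
-/

set_option autoImplicit false

namespace Groth.Agent.Helper8.SymPow

universe u

open PP16 MvPolynomial CAlgX

variable {A B : Type u} [CommRing A] [CommRing B] [Algebra A B] (J : Ideal B)

/-- **(α) and (β) imply formal smoothness for the adic topology**, when `B/J` is formally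
smooth. -/
theorem isAdicFormallySmooth_of_projective_of_symGrBijective [Algebra.FormallySmooth A (B ⧸ J)]
    (hP : Module.Projective (B ⧸ J) J.Cotangent) (hβ : SymGrBijective B J) :
    IsAdicFormallySmooth A B J := by
  classical
  rw [symGrBijective_iff] at hβ
  obtain ⟨s, hs⟩ := Module.projective_lifting_property (piJ B J) LinearMap.id (piJ_surjective B J)
  haveI : Algebra.FormallySmooth A (PolyS B J) := Algebra.FormallySmooth.comp A (B ⧸ J) (PolyS B J)
  intro E _ _ N hN ψ ⟨k₀, hk₀⟩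
  -- we may assume `k ≥ 1`
  obtain ⟨k, hk1, hk⟩ : ∃ k : ℕ, k ≠ 0 ∧ ∀ x ∈ J ^ k, ψ x = 0 :=
    ⟨k₀ + 1, Nat.succ_ne_zero _, fun x hx => hk₀ x (Ideal.pow_le_pow_right (Nat.le_succ _) hx)⟩
  have hm : 2 * k ≠ 0 := by omega
  obtain ⟨σ, hσ⟩ := AdicDer.exists_section A J (2 * k) hm
  -- the map induced by `ψ` on `B/J^m`
  have hψker : ∀ x ∈ J ^ (2 * k), ψ x = 0 := fun x hx =>
    hk x (Ideal.pow_le_pow_right (by omega) hx)
  let ψbar : (B ⧸ J ^ (2 * k)) →ₐ[A] E ⧸ N := Ideal.Quotient.liftₐ (J ^ (2 * k)) ψ hψker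
  have hψbar : ∀ b, ψbar (Ideal.Quotient.mk (J ^ (2 * k)) b) = ψ b := fun b => rfl
  have hψbar_zero : ∀ y ∈ (jm J (2 * k)) ^ k, ψbar y = 0 := by
    intro y hy
    obtain ⟨b, hb, rfl⟩ := exists_mk_eq_of_mem_pow J (2 * k) k y hy
    rw [hψbar, hk b hb]
  -- lift to the polynomial ring
  obtain ⟨l, hl⟩ := Algebra.FormallySmooth.exists_lift N ⟨2, hN⟩ (ψbar.comp (Phi J (2 * k) σ s))
  have hl' : ∀ f, Ideal.Quotient.mk N (l f) = ψbar (Phi J (2 * k) σ s f) := fun f =>
    AlgHom.congr_fun hl f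
  let l' : PolyS B J →ₐ[A] E := l.comp (epsA J s)
  have hl'_apply : ∀ f, l' f = l (eps B J s f) := fun f => rfl
  have hmk_l' : ∀ f, Ideal.Quotient.mk N (l' f) = ψbar (Phi J (2 * k) σ s f) := by
    intro f
    rw [hl'_apply, hl', Phi_eps J (2 * k) σ s hs]
  -- `l'` maps `(X)^k` into `N`
  have hl'N : ∀ f ∈ (idealOfVars ↥J (B ⧸ J)) ^ k, l' f ∈ N := by
    intro f hf
    rw [← Ideal.Quotient.eq_zero_iff_mem, hmk_l', Phi_apply]
    exact hψbar_zero _ (Phi0_mem_pow J (2 * k) σ k _ (eps_mem_pow J s k f hf))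
  have hl'zero : ∀ f ∈ (idealOfVars ↥J (B ⧸ J)) ^ (2 * k), l' f = 0 := by
    intro f hf
    have h1 : (idealOfVars ↥J (B ⧸ J)) ^ (2 * k) = ((idealOfVars ↥J (B ⧸ J)) ^ k) ^ 2 := by
      rw [← pow_mul, mul_comm]
    rw [h1] at hf
    have h2 := AdicFS.map_pow_mem (l' : PolyS B J →+* E) hl'N 2 f hf
    rw [hN] at h2
    exact h2
  -- `l'` kills the kernel of `Φ`
  have hker : ∀ f, Phi J (2 * k) σ s f = 0 → l' f = 0 := by
    intro f hf
    obtain ⟨h1, h2⟩ := exists_decomp_of_Phi_eq_zero J (2 * k) σ hm hσ s hs hβ f hf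
    have e : f = (f - eps B J s f) + eps B J s f := by ring
    rw [e, map_add, hl'_apply (f - eps B J s f), h1, map_zero, zero_add]
    exact hl'zero _ h2
  have hsurj := Phi_surjective J (2 * k) σ hm hσ s hs
  -- descend `l'` to `B/J^m`
  let e := Ideal.quotientKerAlgEquivOfSurjective hsurj
  let lbar : (PolyS B J ⧸ RingHom.ker (Phi J (2 * k) σ s)) →ₐ[A] E :=
    Ideal.Quotient.liftₐ (RingHom.ker (Phi J (2 * k) σ s)) l'
      (fun f hf => hker f (RingHom.mem_ker.1 hf))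
  have hlbar : ∀ f, lbar (Ideal.Quotient.mk _ f) = l' f := fun f => rfl
  let χbar : (B ⧸ J ^ (2 * k)) →ₐ[A] E := lbar.comp e.symm.toAlgHom
  have hχbar : ∀ f, χbar (Phi J (2 * k) σ s f) = l' f := by
    intro f
    have h1 : e.symm (Phi J (2 * k) σ s f) = Ideal.Quotient.mk _ f := by
      rw [AlgEquiv.symm_apply_eq]
      exact (Ideal.quotientKerAlgEquivOfSurjective_mk hsurj f).symm
    show lbar (e.symm (Phi J (2 * k) σ s f)) = l' f
    rw [h1, hlbar]
  refine ⟨χbar.comp (Ideal.Quotient.mkₐ A (J ^ (2 * k))), ?_⟩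
  apply AlgHom.ext
  intro b
  obtain ⟨f, hf⟩ := hsurj (Ideal.Quotient.mk (J ^ (2 * k)) b)
  show Ideal.Quotient.mk N (χbar (Ideal.Quotient.mk (J ^ (2 * k)) b)) = ψ b
  rw [← hf, hχbar, hmk_l', hf, hψbar]

/-- **Formal smoothness for the `J`-adic topology** of an algebra `B` with `B/J` formally smooth
is equivalent to: `J/J²` projective and `Sym^n(J/J²) → J^n/J^(n+1)` bijective. -/
theorem isAdicFormallySmooth_iff [Algebra.FormallySmooth A (B ⧸ J)] :
    IsAdicFormallySmooth A B J ↔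
      (Module.Projective (B ⧸ J) J.Cotangent ∧ SymGrBijective B J) :=
  ⟨fun h => projective_and_symGrBijective J h,
    fun h => isAdicFormallySmooth_of_projective_of_symGrBijective J h.1 h.2⟩

end Groth.Agent.Helper8.SymPow
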