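import Mathlib
import Groth.Prelude.Def_PP16
import Groth.Agent.Lib.Helper8.AdicDer5
import Groth.Agent.Lib.Helper8.AdicDer6
import Groth.Agent.Lib.Helper8.AdicFS5
import Groth.Agent.Lib.Helper8.SymPow13

/-!
# The Jacobian conditions for formal smoothness for an adic topology (EGA 0_IV 22.6)
-/

set_option autoImplicit false

namespace Groth.Agent.Helper8.AdicDer

open CAlgX KaehlerDifferential TensorProduct

universe u

variable {Λ A B : Type u} [CommRing Λ] [CommRing A] [CommRing B] [Algebra Λ A] [Algebra A B]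
  [Algebra Λ B] [IsScalarTower Λ A B] (J : Ideal B)

/-- A retraction from injectivity and projectivity of the cokernel. -/
theorem exists_retraction_of_injective_of_projective
    (hγ : Function.Injective ((mapBaseChange Λ A B).lTensor (B ⧸ J)))
    (hδ : Module.Projective (B ⧸ J) ((B ⧸ J) ⊗[B] Ω[B⁄A])) :
    ∃ r : (B ⧸ J) ⊗[B] Ω[B⁄Λ] →ₗ[B ⧸ J] (B ⧸ J) ⊗[B] (B ⊗[A] Ω[A⁄Λ]),
      r ∘ₗ (LinearMap.baseChange (B ⧸ J) (mapBaseChange Λ A B)) = LinearMap.id := by
  have hex : Function.Exact (LinearMap.baseChange (B ⧸ J) (mapBaseChange Λ A B))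
      (LinearMap.baseChange (B ⧸ J) (KaehlerDifferential.map Λ A B B)) :=
    lTensor_exact (B ⧸ J) (exact_mapBaseChange_map Λ A B) (KaehlerDifferential.map_surjective Λ A B)
  have hsurj : Function.Surjective
      (LinearMap.baseChange (B ⧸ J) (KaehlerDifferential.map Λ A B B)) :=
    LinearMap.lTensor_surjective (B ⧸ J) (KaehlerDifferential.map_surjective Λ A B)
  obtain ⟨τ, hτ⟩ := Module.projective_lifting_property
    (LinearMap.baseChange (B ⧸ J) (KaehlerDifferential.map Λ A B B)) LinearMap.id hsurj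
  have hinj : Function.Injective (LinearMap.baseChange (B ⧸ J) (mapBaseChange Λ A B)) := hγ
  exact (((hex.split_tfae').out 0 1 rfl rfl).1 ⟨hinj, τ, hτ⟩).2

/-- **EGA 0_IV 22.6.1 (i)**. -/
theorem isAdicFormallySmooth_of_jacobian [Algebra.FormallySmooth Λ (B ⧸ J)]
    (hα : Module.Projective (B ⧸ J) J.Cotangent) (hβ : PP16.SymGrBijective B J)
    (hγ : Function.Injective ((mapBaseChange Λ A B).lTensor (B ⧸ J)))
    (hδ : Module.Projective (B ⧸ J) ((B ⧸ J) ⊗[B] Ω[B⁄A])) :
    IsAdicFormallySmooth A B J := by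
  have h₀ : IsAdicFormallySmooth Λ B J :=
    SymPow.isAdicFormallySmooth_of_projective_of_symGrBijective J hα hβ
  obtain ⟨r, hr⟩ := exists_retraction_of_injective_of_projective J hγ hδ
  exact isAdicFormallySmooth_of_retraction J h₀ r hr

/-- **EGA 0_IV 22.6.1 (ii)**. -/
theorem jacobian_of_isAdicFormallySmooth [Algebra.FormallySmooth Λ (B ⧸ J)]
    [Algebra.FormallySmooth Λ A] (h : IsAdicFormallySmooth A B J) :
    Module.Projective (B ⧸ J) J.Cotangent ∧ PP16.SymGrBijective B J ∧
      Function.Injective ((mapBaseChange Λ A B).lTensor (B ⧸ J)) ∧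
      Module.Projective (B ⧸ J) ((B ⧸ J) ⊗[B] Ω[B⁄A]) := by
  have h₀ : IsAdicFormallySmooth Λ B J := AdicFS.trans h
  obtain ⟨hα, hβ⟩ := SymPow.projective_and_symGrBijective J h₀
  refine ⟨hα, hβ, ?_, projective_tensor_kaehler h⟩
  obtain ⟨r, hr⟩ := exists_retraction (Λ := Λ) h
  have hinj : Function.Injective (LinearMap.baseChange (B ⧸ J) (mapBaseChange Λ A B)) :=
    Function.LeftInverse.injective (g := r) (fun x => LinearMap.congr_fun hr x)
  exact hinj

end Groth.Agent.Helper8.AdicDer
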