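import Mathlib
import Groth.Prelude.Def_CAlgX
import Groth.Agent.Lib.Helper8.AdicDer5

/-!
# The Jacobian criterion for formal smoothness for an adic topology, with differentials over a
smaller base ring `Z`
-/

set_option autoImplicit false

namespace Groth.Agent.Helper8.AdicDer

open CAlgX KaehlerDifferential TensorProduct

universe u

variable {Λ A B : Type u} [CommRing Λ] [CommRing A] [CommRing B] [Algebra Λ A] [Algebra A B]
  [Algebra Λ B] [IsScalarTower Λ A B] (J : Ideal B)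

local notation "Z" => ℤ

/-- If `B` is formally smooth over `Λ` for the `J`-adic topology and
`B/J ⊗ Ω_{A/Λ} → B/J ⊗ Ω_{B/Λ}` has a retraction, then `A`-algebra maps from `B` lift along
square-zero extensions whose kernel is killed by `J`. -/
theorem exists_lift_of_retraction_smallG (h₀ : IsAdicFormallySmooth Λ B J)
    (r : (B ⧸ J) ⊗[B] Ω[B⁄Z] →ₗ[B ⧸ J] (B ⧸ J) ⊗[B] (B ⊗[A] Ω[A⁄Z]))
    (hr : r ∘ₗ (LinearMap.baseChange (B ⧸ J) (mapBaseChange Z A B)) = LinearMap.id)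
    (E : Type u) [CommRing E] [Algebra A E] (K : Ideal E) (hK : K ^ 2 = ⊥)
    (ψ : B →ₐ[A] E ⧸ K) (hcont : ∃ k : ℕ, ∀ x ∈ J ^ k, ψ x = 0)
    (hkill : ∀ x ∈ J, ∀ e : E, Ideal.Quotient.mk K e = ψ x → ∀ κ ∈ K, e * κ = 0) :
    ∃ χ : B →ₐ[A] E, (Ideal.Quotient.mkₐ A K).comp χ = ψ := by
  classical
  have hKK : ∀ a ∈ K, ∀ b ∈ K, a * b = 0 := by
    intro a ha b hb
    have h1 : a * b ∈ K ^ 2 := by rw [pow_two]; exact Ideal.mul_mem_mul ha hb
    rw [hK] at h1
    exact h1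
  letI algΛE : Algebra Λ E := ((algebraMap A E).comp (algebraMap Λ A)).toAlgebra
  haveI : IsScalarTower Λ A E := IsScalarTower.of_algebraMap_eq' rfl
  let ψ₀ : B →ₐ[Λ] E ⧸ K := ψ.restrictScalars Λ
  obtain ⟨χ₀, hχ₀⟩ := h₀ E K hK ψ₀ hcont
  have hχ₀' : ∀ b, Ideal.Quotient.mk K (χ₀ b) = ψ b := fun b => AlgHom.congr_fun hχ₀ b
  -- the difference of the two structure maps
  have hδmem : ∀ a : A, algebraMap A E a - χ₀ (algebraMap A B a) ∈ K := by
    intro a
    rw [← Ideal.Quotient.eq, hχ₀', AlgHom.commutes]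
    rfl
  -- module structures on `K`
  letI algBE : Algebra B E := χ₀.toRingHom.toAlgebra
  have hsmulB : ∀ (b : B) (κ : K), ((b • κ : K) : E) = χ₀ b * κ := fun b κ => rfl
  have hsmulA : ∀ (a : A) (κ : K), ((a • κ : K) : E) = algebraMap A E a * κ := fun a κ =>
    Algebra.smul_def a (κ : E)
  have hsmulΛ : ∀ (l : Λ) (κ : K), ((l • κ : K) : E) = algebraMap Λ E l * κ := fun l κ =>
    Algebra.smul_def l (κ : E)
  have hAK : ∀ (a : A) (κ : K), algebraMap A E a * κ = χ₀ (algebraMap A B a) * κ := by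
    intro a κ
    have h1 := hKK _ (hδmem a) κ κ.2
    linear_combination h1
  haveI : IsScalarTower A B K := ⟨fun a b κ => by
    apply Subtype.ext
    rw [hsmulB, hsmulA, hsmulB, Algebra.smul_def, map_mul, mul_assoc]
    exact (hAK a ⟨χ₀ b * κ, Ideal.mul_mem_left _ _ κ.2⟩).symm⟩
  haveI : IsScalarTower Λ B K := ⟨fun l b κ => by
    apply Subtype.ext
    rw [hsmulB, hsmulΛ, hsmulB, Algebra.smul_def, map_mul, mul_assoc, AlgHom.commutes]⟩
  have htors : Module.IsTorsionBySet B K (J : Set B) := by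
    intro κ x
    apply Subtype.ext
    rw [hsmulB]
    exact hkill x x.2 (χ₀ x) (hχ₀' x) κ κ.2
  letI modC : Module (B ⧸ J) K := htors.module
  haveI : IsScalarTower B (B ⧸ J) K := htors.isScalarTower
  -- the derivation of `A`
  let δa : A →+ K :=
    { toFun := fun a => ⟨algebraMap A E a - χ₀ (algebraMap A B a), hδmem a⟩
      map_zero' := by
        apply Subtype.ext
        show algebraMap A E 0 - χ₀ (algebraMap A B 0) = 0
        rw [map_zero, map_zero, map_zero, sub_zero]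
      map_add' := fun x y => by
        apply Subtype.ext
        show algebraMap A E (x + y) - χ₀ (algebraMap A B (x + y)) =
          (algebraMap A E x - χ₀ (algebraMap A B x)) + (algebraMap A E y - χ₀ (algebraMap A B y))
        rw [map_add, map_add, map_add]
        ring }
  let δl : A →ₗ[ℤ] K := δa.toIntLinearMap
  have hδl : ∀ a, ((δl a : K) : E) = algebraMap A E a - χ₀ (algebraMap A B a) := fun a => rfl
  let δ : Derivation Z A K := Derivation.mk' δl (fun x y => by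
    apply Subtype.ext
    rw [Submodule.coe_add, hsmulA, hsmulA, hδl, hδl, hδl, map_mul, map_mul, map_mul]
    have h1 := hKK _ (hδmem x) _ (hδmem y)
    linear_combination (-1 : E) * h1)
  have hδ : ∀ a, ((δ a : K) : E) = algebraMap A E a - χ₀ (algebraMap A B a) := fun a => rfl
  -- extension to `B`
  let f₁ : B ⊗[A] Ω[A⁄Z] →ₗ[B] K := LinearMap.liftBaseChange B δ.liftKaehlerDifferential
  let f₂ : (B ⧸ J) ⊗[B] (B ⊗[A] Ω[A⁄Z]) →ₗ[B ⧸ J] K := LinearMap.liftBaseChange (B ⧸ J) f₁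
  let g : (B ⧸ J) ⊗[B] Ω[B⁄Z] →ₗ[B ⧸ J] K := f₂ ∘ₗ r
  let δ' : Derivation Z B K :=
    ((g.restrictScalars B) ∘ₗ (TensorProduct.mk B (B ⧸ J) Ω[B⁄Z] 1)).compDer (D Z B)
  have hδ'def : ∀ b, δ' b = g ((1 : B ⧸ J) ⊗ₜ[B] D Z B b) := fun b => rfl
  have hδ' : ∀ a : A, δ' (algebraMap A B a) = δ a := by
    intro a
    have h1 : LinearMap.baseChange (B ⧸ J) (mapBaseChange Z A B)
        ((1 : B ⧸ J) ⊗ₜ[B] ((1 : B) ⊗ₜ[A] D Z A a)) =
        (1 : B ⧸ J) ⊗ₜ[B] D Z B (algebraMap A B a) := by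
      rw [LinearMap.baseChange_tmul, mapBaseChange_tmul, one_smul, KaehlerDifferential.map_D]
    rw [hδ'def, ← h1]
    show f₂ (r (LinearMap.baseChange (B ⧸ J) (mapBaseChange Z A B)
      ((1 : B ⧸ J) ⊗ₜ[B] ((1 : B) ⊗ₜ[A] D Z A a)))) = δ a
    have h2 := LinearMap.congr_fun hr ((1 : B ⧸ J) ⊗ₜ[B] ((1 : B) ⊗ₜ[A] D Z A a))
    rw [LinearMap.comp_apply] at h2
    rw [h2, LinearMap.id_apply]
    show LinearMap.liftBaseChange (B ⧸ J) f₁ _ = _
    rw [LinearMap.liftBaseChange_tmul, one_smul]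
    show LinearMap.liftBaseChange B δ.liftKaehlerDifferential _ = _
    rw [LinearMap.liftBaseChange_tmul, one_smul, Derivation.liftKaehlerDifferential_comp_D]
  -- the corrected lift
  let χr : B →+* E :=
    { toFun := fun b => χ₀ b + (δ' b : E)
      map_one' := by
        rw [map_one, Derivation.map_one_eq_zero, Submodule.coe_zero, add_zero]
      map_zero' := by
        rw [map_zero, map_zero, Submodule.coe_zero, add_zero]
      map_add' := fun a b => by
        rw [map_add, map_add, Submodule.coe_add]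
        ring
      map_mul' := fun a b => by
        rw [map_mul, Derivation.leibniz, Submodule.coe_add, hsmulB, hsmulB]
        have h1 := hKK _ (δ' a).2 _ (δ' b).2
        linear_combination -h1 }
  have hχr : ∀ b, χr b = χ₀ b + (δ' b : E) := fun b => rfl
  refine ⟨{ χr with
    commutes' := fun a => by
      show χr (algebraMap A B a) = algebraMap A E a
      rw [hχr, hδ', hδ]
      ring }, ?_⟩
  apply AlgHom.ext
  intro b
  show Ideal.Quotient.mk K (χr b) = ψ b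
  rw [hχr, map_add, hχ₀', Ideal.Quotient.eq_zero_iff_mem.2 (δ' b).2, add_zero]

/-- The small step, for a surjection with square-zero kernel. -/
theorem exists_lift_of_retraction_smallG' (h₀ : IsAdicFormallySmooth Λ B J)
    (r : (B ⧸ J) ⊗[B] Ω[B⁄Z] →ₗ[B ⧸ J] (B ⧸ J) ⊗[B] (B ⊗[A] Ω[A⁄Z]))
    (hr : r ∘ₗ (LinearMap.baseChange (B ⧸ J) (mapBaseChange Z A B)) = LinearMap.id)
    {C' C'' : Type u} [CommRing C'] [Algebra A C'] [CommRing C''] [Algebra A C'']
    (p : C' →ₐ[A] C'') (hp : Function.Surjective p) (hsq : RingHom.ker p ^ 2 = ⊥)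
    (u : B →ₐ[A] C'') (hu : ∃ k : ℕ, ∀ x ∈ J ^ k, u x = 0)
    (hkill : ∀ x ∈ J, ∀ c : C', p c = u x → ∀ κ ∈ RingHom.ker p, c * κ = 0) :
    ∃ v : B →ₐ[A] C', p.comp v = u ∧ ∃ k : ℕ, ∀ x ∈ J ^ k, v x = 0 := by
  obtain ⟨k, hk⟩ := hu
  let e := Ideal.quotientKerAlgEquivOfSurjective hp
  have he : ∀ c, e (Ideal.Quotient.mk _ c) = p c := fun c =>
    Ideal.quotientKerAlgEquivOfSurjective_mk hp c
  obtain ⟨v, hv⟩ := exists_lift_of_retraction_smallG J h₀ r hr C' (RingHom.ker p) hsq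
    (e.symm.toAlgHom.comp u) ⟨k, fun x hx => by
      show e.symm (u x) = 0
      rw [hk x hx, map_zero]⟩ (by
      intro x hx c hc κ hκ
      apply hkill x hx c _ κ hκ
      have h1 : e (Ideal.Quotient.mk _ c) = u x := by
        rw [hc]
        show e (e.symm (u x)) = u x
        exact e.apply_symm_apply _
      rw [← h1, he])
  have hpv : p.comp v = u := by
    ext b
    have h1 : Ideal.Quotient.mk (RingHom.ker p) (v b) = e.symm (u b) := AlgHom.congr_fun hv b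
    have h2 : e (Ideal.Quotient.mk _ (v b)) = u b := by
      rw [h1]; exact e.apply_symm_apply _
    rw [← h2, he]
    rfl
  exact ⟨v, hpv, 2 * k, AdicFS.continuous_of_comp_eq J p hsq u v hpv k hk⟩

theorem exists_lift_of_bIdeal_powG (h₀ : IsAdicFormallySmooth Λ B J)
    (r : (B ⧸ J) ⊗[B] Ω[B⁄Z] →ₗ[B ⧸ J] (B ⧸ J) ⊗[B] (B ⊗[A] Ω[A⁄Z]))
    (hr : r ∘ₗ (LinearMap.baseChange (B ⧸ J) (mapBaseChange Z A B)) = LinearMap.id)
    (E : Type u) [CommRing E] [Algebra A E] (s : ℕ) :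
    ∀ (N : Ideal E) (ψ : B →ₐ[A] E ⧸ N), N ^ 2 = ⊥ → (∃ k : ℕ, ∀ x ∈ J ^ k, ψ x = 0) →
      (bIdeal J N ψ) ^ s * N = ⊥ → ∃ χ : B →ₐ[A] E, (Ideal.Quotient.mkₐ A N).comp χ = ψ := by
  induction s with
  | zero =>
    intro N ψ _ _ hb
    rw [pow_zero, one_mul] at hb
    subst hb
    refine ⟨(AlgEquiv.quotientBot A E).toAlgHom.comp ψ, ?_⟩
    ext b
    obtain ⟨c, hc⟩ := Ideal.Quotient.mk_surjective (ψ b)
    show Ideal.Quotient.mk ⊥ (AlgEquiv.quotientBot A E (ψ b)) = ψ b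
    rw [← hc, AlgEquiv.quotientBot_mk]
  | succ s ih =>
    intro N ψ hN hcont hb
    have hle : bIdeal J N ψ * N ≤ N := Ideal.mul_le_right
    have hkerp : RingHom.ker (Ideal.Quotient.factorₐ A hle) =
        N.map (Ideal.Quotient.mk (bIdeal J N ψ * N)) := Ideal.Quotient.factor_ker hle
    obtain ⟨ψ₁, hψ₁, hcont₁⟩ := exists_lift_of_retraction_smallG' J h₀ r hr
      (Ideal.Quotient.factorₐ A hle) (Ideal.Quotient.factor_surjective hle) (by
        rw [hkerp]
        have h2 := Ideal.map_pow (Ideal.Quotient.mk (bIdeal J N ψ * N)) N 2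
        rw [← h2, hN, Ideal.map_bot]) ψ hcont (by
        intro x hx c hc κ hκ
        rw [hkerp] at hκ
        obtain ⟨n, hn, rfl⟩ := Ideal.mem_image_of_mem_map_of_surjective _
          Ideal.Quotient.mk_surjective hκ
        obtain ⟨e, rfl⟩ := Ideal.Quotient.mk_surjective c
        rw [← map_mul, Ideal.Quotient.eq_zero_iff_mem]
        apply Ideal.mul_mem_mul _ hn
        show Ideal.Quotient.mk N e ∈ J.map (ψ : B →+* E ⧸ N)
        have h3 : Ideal.Quotient.mk N e = ψ x := hc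
        rw [h3]
        exact Ideal.mem_map_of_mem _ hx)
    have hψ₁' : ∀ b, Ideal.Quotient.factor hle (ψ₁ b) = ψ b := fun b => AlgHom.congr_fun hψ₁ b
    have hb₁ : bIdeal J (bIdeal J N ψ * N) ψ₁ ≤ bIdeal J N ψ := by
      intro x hx
      have h1 : Ideal.Quotient.mk (bIdeal J N ψ * N) x ∈
          J.map (ψ₁ : B →+* E ⧸ (bIdeal J N ψ * N)) := hx
      have h2 := Ideal.mem_map_of_mem (Ideal.Quotient.factor hle) h1
      rw [Ideal.map_map, Ideal.Quotient.factor_mk] at h2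
      have h3 : (Ideal.Quotient.factor hle).comp (ψ₁ : B →+* E ⧸ (bIdeal J N ψ * N)) =
          (ψ : B →+* E ⧸ N) := RingHom.ext hψ₁'
      rw [h3] at h2
      exact h2
    obtain ⟨χ, hχ⟩ := ih (bIdeal J N ψ * N) ψ₁ (by
        rw [eq_bot_iff, ← hN]
        exact Ideal.pow_right_mono hle 2) hcont₁ (by
        rw [eq_bot_iff, ← hb, pow_succ, mul_assoc]
        exact Ideal.mul_mono (Ideal.pow_right_mono hb₁ s) le_rfl)
    refine ⟨χ, ?_⟩
    rw [← hψ₁, ← hχ, ← AlgHom.comp_assoc, Ideal.Quotient.factorₐ_comp_mk]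

/-- **Jacobian criterion**: if `B` is formally smooth over `Λ` for the `J`-adic topology and
`B/J ⊗ Ω_{A/Λ} → B/J ⊗ Ω_{B/Λ}` has a retraction, `B` is formally smooth over `A` for the
`J`-adic topology. -/
theorem isAdicFormallySmooth_of_retractionG (h₀ : IsAdicFormallySmooth Λ B J)
    (r : (B ⧸ J) ⊗[B] Ω[B⁄Z] →ₗ[B ⧸ J] (B ⧸ J) ⊗[B] (B ⊗[A] Ω[A⁄Z]))
    (hr : r ∘ₗ (LinearMap.baseChange (B ⧸ J) (mapBaseChange Z A B)) = LinearMap.id) :
    IsAdicFormallySmooth A B J := by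
  intro E _ _ N hN ψ ⟨k, hk⟩
  apply exists_lift_of_bIdeal_powG J h₀ r hr E k N ψ hN ⟨k, hk⟩
  rw [eq_bot_iff, ← hN, pow_two]
  apply Ideal.mul_mono _ le_rfl
  have h1 : (J.map (ψ : B →+* E ⧸ N)) ^ k = ⊥ := by
    rw [← Ideal.map_pow, Ideal.map_eq_bot_iff_le_ker]
    intro x hx
    exact RingHom.mem_ker.2 (hk x hx)
  calc bIdeal J N ψ ^ k ≤ ((J.map (ψ : B →+* E ⧸ N)) ^ k).comap (Ideal.Quotient.mk N) :=
        Ideal.le_comap_pow _ k
    _ = N := by rw [h1, ← RingHom.ker_eq_comap_bot, Ideal.mk_ker]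

end Groth.Agent.Helper8.AdicDer
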