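import Mathlib
import Groth.Prelude.Def_PP16
import Groth.Agent.Lib.Helper8.AdicDer8
import Groth.Agent.Lib.Helper8.Cartier3
import Groth.Agent.Lib.Helper8.SymPow13

/-!
# Formal smoothness over a field of a local algebra: graded ring and absolute differentials
-/

set_option autoImplicit false

namespace Groth.Agent.Helper8.AdicDer

open CAlgX KaehlerDifferential TensorProduct IsLocalRing

universe u

variable {k A : Type u} [Field k] [CommRing A] [IsLocalRing A] [Algebra k A]

theorem field_forward (h : IsAdicFormallySmooth k A (maximalIdeal A)) :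
    PP16.SymGrBijective A (maximalIdeal A) ∧
      Function.Injective ((mapBaseChange ℤ k A).lTensor (ResidueField A)) := by
  refine ⟨?_, Cartier.injective_of_isAdicFormallySmooth h⟩
  haveI : Algebra.FormallySmooth (⊥ : Subfield k) k := Cartier.formallySmooth_bot_subfield k k
  have h₀ : IsAdicFormallySmooth (⊥ : Subfield k) A (maximalIdeal A) := AdicFS.trans h
  haveI : Algebra.FormallySmooth (⊥ : Subfield k) (A ⧸ maximalIdeal A) :=
    Cartier.formallySmooth_bot_subfield k (ResidueField A)
  exact (SymPow.projective_and_symGrBijective (maximalIdeal A) h₀).2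

theorem field_backward (hβ : PP16.SymGrBijective A (maximalIdeal A))
    (hγ : Function.Injective ((mapBaseChange ℤ k A).lTensor (ResidueField A))) :
    IsAdicFormallySmooth k A (maximalIdeal A) := by
  haveI : Algebra.FormallySmooth (⊥ : Subfield k) (A ⧸ maximalIdeal A) :=
    Cartier.formallySmooth_bot_subfield k (ResidueField A)
  have hα : Module.Projective (A ⧸ maximalIdeal A) (maximalIdeal A).Cotangent :=
    inferInstanceAs (Module.Projective (ResidueField A) (CotangentSpace A))
  have h₀ : IsAdicFormallySmooth (⊥ : Subfield k) A (maximalIdeal A) :=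
    SymPow.isAdicFormallySmooth_of_projective_of_symGrBijective (maximalIdeal A) hα hβ
  have hinj : Function.Injective (LinearMap.baseChange (ResidueField A) (mapBaseChange ℤ k A)) :=
    hγ
  obtain ⟨r, hr⟩ := LinearMap.exists_leftInverse_of_injective _ (LinearMap.ker_eq_bot.2 hinj)
  exact isAdicFormallySmooth_of_retractionG (Λ := (⊥ : Subfield k)) (maximalIdeal A) h₀ r hr

end Groth.Agent.Helper8.AdicDer
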