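import Mathlib
import Groth.Prelude.Def_CAlgX
import Groth.Agent.Lib.Helper8.AdicFS1

/-!
# Formal smoothness for an adic topology and the conormal modules of the standard presentations
of a discrete quotient
-/

set_option autoImplicit false

namespace Groth.Agent.Helper8.AdicFS

open CAlgX Algebra MvPolynomial

universe u

/-- If `B` is formally smooth over `A` for the `𝔫`-adic topology and `K` is a `B`-algebra killed by
`𝔫`, then the map on conormal modules of the standard presentations `A[K] → K`, `B[K] → K` is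
injective. -/
theorem cotangent_map_injective {A B K : Type u} [CommRing A] [CommRing B] [CommRing K]
    [Algebra A B] [Algebra A K] [Algebra B K] [IsScalarTower A B K] {𝔫 : Ideal B}
    (hfs : IsAdicFormallySmooth A B 𝔫) (h𝔫 : ∀ x ∈ 𝔫, algebraMap B K x = 0) :
    Function.Injective (Extension.Cotangent.map
      ((Generators.defaultHom (Generators.self A K) (Generators.self B K)).toExtensionHom)) := by
  classical
  set P₁ := (Generators.self A K).toExtension with hP₁
  set P₂ := (Generators.self B K).toExtension with hP₂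
  set f : P₁.Hom P₂ :=
    (Generators.defaultHom (Generators.self A K) (Generators.self B K)).toExtensionHom with hf
  -- the square-zero extension
  have hkill : ∀ t : P₁.Ring, t ∈ P₁.ker ^ 2 → (IsScalarTower.toAlgHom A P₁.Ring K) t = 0 := by
    intro t ht
    have h1 : t ∈ P₁.ker := Ideal.pow_le_self two_ne_zero ht
    exact h1
  let π : (P₁.Ring ⧸ P₁.ker ^ 2) →ₐ[A] K :=
    Ideal.Quotient.liftₐ (P₁.ker ^ 2) (IsScalarTower.toAlgHom A P₁.Ring K) hkill
  have hπmk : ∀ t : P₁.Ring, π (Ideal.Quotient.mk _ t) = algebraMap P₁.Ring K t := fun t => rfl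
  have hπ : Function.Surjective π := by
    intro κ
    obtain ⟨t, rfl⟩ := P₁.algebraMap_surjective κ
    exact ⟨Ideal.Quotient.mk _ t, hπmk t⟩
  have hkerπ : RingHom.ker (π : (P₁.Ring ⧸ P₁.ker ^ 2) →+* K) =
      P₁.ker.map (Ideal.Quotient.mk (P₁.ker ^ 2)) := by
    apply le_antisymm
    · intro z hz
      obtain ⟨t, rfl⟩ := Ideal.Quotient.mk_surjective z
      have h1 : algebraMap P₁.Ring K t = 0 := hz
      exact Ideal.mem_map_of_mem _ h1
    · rw [Ideal.map_le_iff_le_comap]
      intro t ht
      rw [Ideal.mem_comap, RingHom.mem_ker]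
      exact ht
  have hsq : RingHom.ker (π : (P₁.Ring ⧸ P₁.ker ^ 2) →+* K) ^ 2 = ⊥ := by
    rw [hkerπ, ← Ideal.map_pow, Ideal.map_quotient_self]
  obtain ⟨φ, hφ, -⟩ := exists_lift_surjective hfs π hπ hsq (IsScalarTower.toAlgHom A B K)
    ⟨1, fun x hx => by
      rw [pow_one] at hx
      exact h𝔫 x hx⟩
  have hπφ : ∀ b, π (φ b) = algebraMap B K b := fun b => AlgHom.congr_fun hφ b
  let g : P₂.Ring →+* (P₁.Ring ⧸ P₁.ker ^ 2) :=
    MvPolynomial.eval₂Hom (φ : B →+* (P₁.Ring ⧸ P₁.ker ^ 2))
      (fun κ : K => Ideal.Quotient.mk (P₁.ker ^ 2) (X κ : MvPolynomial K A))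
  have hgC : ∀ b : B, g (C b) = φ b := fun b => MvPolynomial.eval₂Hom_C _ _ b
  have hgX : ∀ κ : K, g (X κ) = Ideal.Quotient.mk (P₁.ker ^ 2) (X κ : MvPolynomial K A) :=
    fun κ => MvPolynomial.eval₂Hom_X' _ _ κ
  have hgf : ∀ t : P₁.Ring, g (f.toRingHom t) = Ideal.Quotient.mk (P₁.ker ^ 2) t := by
    have h0 : g.comp (f.toRingHom) = Ideal.Quotient.mk (P₁.ker ^ 2) := by
      apply MvPolynomial.ringHom_ext
      · intro a
        have h1 : f.toRingHom (C a) = C (algebraMap A B a) := by
          have : f.toRingHom (algebraMap A P₁.Ring a) = algebraMap A P₂.Ring a :=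
            f.toAlgHom.commutes a
          exact this
        exact (congrArg g h1).trans ((hgC _).trans (φ.commutes a))
      · intro κ
        have h1 : f.toRingHom (X κ) = X κ := by
          show MvPolynomial.aeval _ (X κ) = X κ
          rw [MvPolynomial.aeval_X]
          rfl
        exact (congrArg g h1).trans (hgX κ)
    intro t
    exact RingHom.congr_fun h0 t
  have hπg : ∀ y : P₂.Ring, π (g y) = algebraMap P₂.Ring K y := by
    have h0 : (π : (P₁.Ring ⧸ P₁.ker ^ 2) →+* K).comp g = algebraMap P₂.Ring K := by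
      apply MvPolynomial.ringHom_ext
      · intro b
        have h1 : π (g (C b)) = algebraMap B K b := (congrArg π (hgC b)).trans (hπφ b)
        have h2 : algebraMap P₂.Ring K (C b) = algebraMap B K b := by
          show MvPolynomial.aeval (Generators.self B K).val (C b) = _
          rw [MvPolynomial.aeval_C]
        exact h1.trans h2.symm
      · intro κ
        have h1 : π (g (X κ)) = algebraMap P₁.Ring K (X κ) :=
          (congrArg π (hgX κ)).trans (hπmk _)
        have h2 : algebraMap P₁.Ring K (X κ) = κ := by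
          show MvPolynomial.aeval (Generators.self A K).val (X κ) = _
          rw [MvPolynomial.aeval_X]
          rfl
        have h3 : algebraMap P₂.Ring K (X κ) = κ := by
          show MvPolynomial.aeval (Generators.self B K).val (X κ) = _
          rw [MvPolynomial.aeval_X]
          rfl
        exact h1.trans (h2.trans h3.symm)
    intro y
    exact RingHom.congr_fun h0 y
  have hgker : P₂.ker.map g ≤ RingHom.ker (π : (P₁.Ring ⧸ P₁.ker ^ 2) →+* K) := by
    rw [Ideal.map_le_iff_le_comap]
    intro y hy
    rw [Ideal.mem_comap, RingHom.mem_ker]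
    show π (g y) = 0
    rw [hπg y]
    exact hy
  rw [injective_iff_map_eq_zero]
  intro z hz
  obtain ⟨x, rfl⟩ := Extension.Cotangent.mk_surjective z
  rw [Extension.Cotangent.map_mk, Extension.Cotangent.mk_eq_zero_iff] at hz
  rw [Extension.Cotangent.mk_eq_zero_iff]
  have h1 : g (f.toRingHom x.1) ∈ (P₂.ker ^ 2).map g := Ideal.mem_map_of_mem g hz
  rw [Ideal.map_pow] at h1
  have h2 := Ideal.pow_right_mono hgker 2 h1
  rw [hsq, Ideal.mem_bot] at h2
  have h3 := hgf x.1
  rw [h2] at h3
  exact Ideal.Quotient.eq_zero_iff_mem.1 h3.symm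

end Groth.Agent.Helper8.AdicFS
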