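import Mathlib
import Groth.Prelude
import Groth.Agent.Lib.Helper8.CplIso2
import Groth.Agent.Lib.Helper8.LocTarget1
import Groth.Agent.Lib.Helper8.CompFib3
import Groth.Agent.Lib.Helper8.DescFib2
import Groth.Agent.Lib.Helper8.AdicFS17
import Groth.Agent.Lib.Helper8.Fib5

/-!
# The fibres of an adic completion from the formal fibres of the local rings
-/

set_option autoImplicit false
universe u

namespace Groth.Agent.Helper8.AdicFib

open TensorProduct IsLocalRing Groth.Agent.Helper8.CplIso

/-- A local property of rings which ascends along flat homomorphisms with fibres having the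
property, descends along faithfully flat homomorphisms and holds for regular rings passes from the
formal fibres of the local rings of a Noetherian ring `A` to the fibres of any adic completion of
`A`. -/
theorem adic_fibre (P : ∀ (R : Type u) [CommRing R], Prop)
    (hiso : ∀ (R S : Type u) [CommRing R] [CommRing S], (R ≃+* S) → P R → P S)
    (hasc : ∀ (R S : Type u) [CommRing R] [CommRing S] [Algebra R S] [IsNoetherianRing R]
      [IsNoetherianRing S] [Module.Flat R S], P R →
      (∀ (Q : Ideal R) [Q.IsPrime], P (Q.Fiber S)) → P S)
    (hdesc : ∀ (R S : Type u) [CommRing R] [CommRing S] [Algebra R S]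
      [Module.FaithfullyFlat R S], P S → P R)
    (hloc : Groth.Agent.Helper8.LocTarget.IsLocalProp P)
    (hreg : ∀ (T : Type u) [CommRing T], IsRegularRing T → P T)
    (A : Type u) [CommRing A] [IsNoetherianRing A] (I : Ideal A)
    (H : ∀ (𝔭 : Ideal A) [𝔭.IsPrime] (q : Ideal (Localization.AtPrime 𝔭)) [q.IsPrime]
      (K : Type u) [Field K] [Algebra q.ResidueField K], Module.Finite q.ResidueField K →
      P (K ⊗[q.ResidueField] q.Fiber (EGA4.Cpl (Localization.AtPrime 𝔭))))
    (p : Ideal A) [p.IsPrime] (K : Type u) [Field K] [Algebra p.ResidueField K]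
    [Module.Finite p.ResidueField K] :
    P (K ⊗[p.ResidueField] p.Fiber (AdicCompletion I A)) := by
  haveI : IsNoetherianRing (AdicCompletion I A) :=
    Groth.Agent.Helper8.AdicReg.isNoetherianRing A I
  haveI : IsNoetherianRing (p.Fiber (AdicCompletion I A)) :=
    Groth.Agent.Helper8.Fib.isNoetherianRing_fiber p
  haveI : IsNoetherianRing (K ⊗[p.ResidueField] p.Fiber (AdicCompletion I A)) :=
    Groth.Agent.Helper8.CompFib.isNoetherianRing_tensor_of_finite _ _ _
  refine Groth.Agent.Helper8.LocTarget.local_fibre A (AdicCompletion I A) P hiso hloc p K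
    (fun m' hm' => ?_)
  haveI := hm'
  haveI : m'.IsPrime := hm'.isPrime
  letI := algLoc A I m'
  haveI := isScalarTower_algLoc A I m'
  haveI := isLocalHom_algLoc A I m'
  haveI := flat_algLoc A I m'
  haveI : IsNoetherianRing (Localization.AtPrime m') :=
    IsLocalization.isNoetherianRing m'.primeCompl _ inferInstance
  haveI : IsNoetherianRing
      (Localization.AtPrime (m'.comap (algebraMap A (AdicCompletion I A)))) :=
    IsLocalization.isNoetherianRing
      (m'.comap (algebraMap A (AdicCompletion I A))).primeCompl _ inferInstance
  haveI : IsNoetherianRing (p.Fiber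
      (Localization.AtPrime (m'.comap (algebraMap A (AdicCompletion I A))))) :=
    Groth.Agent.Helper8.Fib.isNoetherianRing_fiber p
  haveI : IsNoetherianRing (p.Fiber (Localization.AtPrime m')) :=
    Groth.Agent.Helper8.Fib.isNoetherianRing_fiber p
  refine Groth.Agent.Helper8.CompFib.comp_fibre
    (Localization.AtPrime (m'.comap (algebraMap A (AdicCompletion I A))))
    (Localization.AtPrime m') A P hiso hasc p K ?_ ?_
  · haveI : Algebra.FormallySmooth A
        (Localization.AtPrime (m'.comap (algebraMap A (AdicCompletion I A)))) :=
      Algebra.FormallySmooth.of_isLocalization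
        (m'.comap (algebraMap A (AdicCompletion I A))).primeCompl
    have hAR := Groth.Agent.Helper8.AdicFS.isRegularHom_of_formallySmooth A
      (Localization.AtPrime (m'.comap (algebraMap A (AdicCompletion I A))))
    exact hreg _ ((hAR.2 p).2 K inferInstance)
  · intro q _ K' _ _ hfin
    let e := cplEquiv (Localization.AtPrime (m'.comap (algebraMap A (AdicCompletion I A))))
      (Localization.AtPrime m') (map_maximalIdeal_algLoc A I m')
      (exists_sub_mem_maximalIdeal_algLoc A I m')
    have h1 := H (m'.comap (algebraMap A (AdicCompletion I A))) q K' hfin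
    have h2 : P (K' ⊗[q.ResidueField] q.Fiber (EGA4.Cpl (Localization.AtPrime m'))) :=
      hiso _ _ (Algebra.TensorProduct.congr (AlgEquiv.refl : K' ≃ₐ[K'] K')
        (Algebra.TensorProduct.congr (AlgEquiv.refl : q.ResidueField ≃ₐ[q.ResidueField] _)
          e)).toRingEquiv h1
    haveI : Module.FaithfullyFlat (Localization.AtPrime m')
        (EGA4.Cpl (Localization.AtPrime m')) := Module.FaithfullyFlat.of_flat_of_isLocalHom
    exact Groth.Agent.Helper8.DescFib.descent_fibre
      (Localization.AtPrime (m'.comap (algebraMap A (AdicCompletion I A))))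
      (Localization.AtPrime m') (EGA4.Cpl (Localization.AtPrime m')) P hiso hdesc q K' h2

end Groth.Agent.Helper8.AdicFib
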