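import Mathlib
import Groth.Prelude
import Groth.Agent.Lib.Helper8.AdicFib1
import Groth.Agent.Lib.Helper8.CompFib4

/-!
# Regular, normal and reduced homomorphisms to adic completions
-/

set_option autoImplicit false
universe u

namespace Groth.Agent.Helper8.AdicFib

open TensorProduct IsLocalRing

variable (A : Type u) [CommRing A] [IsNoetherianRing A] (I : Ideal A)

/-- **S0600.** -/
theorem isRegularHom_adicCompletion
    (hA : ∀ (𝔭 : Ideal A) [𝔭.IsPrime], CAlg.IsRegularHom (Localization.AtPrime 𝔭)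
      (EGA4.Cpl (Localization.AtPrime 𝔭))) :
    CAlg.IsRegularHom A (AdicCompletion I A) := by
  haveI : IsNoetherianRing (AdicCompletion I A) :=
    Groth.Agent.Helper8.AdicReg.isNoetherianRing A I
  refine ⟨inferInstance, fun p _ => ⟨Groth.Agent.Helper8.Fib.isNoetherianRing_fiber p, ?_⟩⟩
  intro K _ _ hfin
  haveI := hfin
  exact adic_fibre (fun R _ => IsRegularRing R)
    (fun R S _ _ e h => @IsRegularRing.of_ringEquiv R _ S _ e h)
    (fun R S _ _ _ _ _ _ hR hfib =>
      Groth.Agent.Helper8.CompFib.isRegularRing_of_flat_of_fibres R S hR hfib)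
    (fun R S _ _ _ _ h => Groth.Agent.Helper8.DescFib.isRegularRing_of_faithfullyFlat R S h)
    Groth.Agent.Helper8.LocTarget.isLocalProp_isRegularRing
    (fun T _ h => h) A I
    (fun 𝔭 _ q _ K' _ _ hfin' => ((hA 𝔭).2 q).2 K' hfin') p K

/-- **S2686.** -/
theorem isNormalHom_adicCompletion
    (hA : ∀ (𝔭 : Ideal A) [𝔭.IsPrime],
      EGA4.HasGeomNormalFormalFibres (Localization.AtPrime 𝔭)) :
    EGA4.IsNormalHom A (AdicCompletion I A) := by
  refine ⟨inferInstance, fun p _ => ?_⟩
  intro K _ _ hfin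
  haveI := hfin
  exact adic_fibre (fun R _ => EGA4.IsNormalRing R)
    (fun _ _ _ _ e h => Groth.Agent.Helper8.Cpl.isNormalRing_of_ringEquiv e h)
    (fun R S _ _ _ _ _ _ hR hfib =>
      Groth.Agent.Helper8.Cpl.isNormalRing_of_flat_of_fibres R S hR hfib)
    (fun R S _ _ _ _ h => Groth.Agent.Helper8.Cpl.isNormalRing_of_faithfullyFlat R S h)
    Groth.Agent.Helper8.LocTarget.isLocalProp_isNormalRing
    (fun T _ h => @Groth.Agent.Helper8.CompFib.isNormalRing_of_isRegularRing T _ h) A I
    (fun 𝔭 _ q _ K' _ _ hfin' => hA 𝔭 q K' hfin') p K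

/-- **S2687.** -/
theorem isGeometricallyReduced_fiber_adicCompletion
    (hA : ∀ (𝔭 : Ideal A) [𝔭.IsPrime],
      EGA4.HasGeomReducedFormalFibres (Localization.AtPrime 𝔭)) :
    Module.Flat A (AdicCompletion I A) ∧
      ∀ (p : Ideal A) [p.IsPrime],
        Algebra.IsGeometricallyReduced p.ResidueField (p.Fiber (AdicCompletion I A)) := by
  refine ⟨inferInstance, fun p _ => ?_⟩
  apply Groth.Agent.Helper8.CompFib.isGeometricallyReduced_of_forall_finite
  intro K _ _ hfin
  haveI := hfin
  exact adic_fibre (fun R _ => IsReduced R)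
    (fun R S _ _ e h => @isReduced_of_injective S R _ _ _ _ _ e.symm e.symm.injective h)
    (fun R S _ _ _ _ _ _ hR hfib =>
      @Groth.Agent.Helper8.Cpl.isReduced_of_flat_of_fibres R S _ _ _ _ _ hR
        (fun p _ _ => hfib p))
    (fun R S _ _ _ _ h => @isReduced_of_injective R S _ _ _ _ _ (algebraMap R S)
      (FaithfulSMul.algebraMap_injective R S) h)
    Groth.Agent.Helper8.LocTarget.isLocalProp_isReduced
    (fun T _ h => @Groth.Agent.Helper8.CompFib.isReduced_of_isRegularRing T _ h) A I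
    (fun 𝔭 _ q _ K' _ _ hfin' => by
      haveI := hA 𝔭 q
      haveI := hfin'
      exact Groth.Agent.Helper8.CompFib.isReduced_tensor_of_isGeometricallyReduced
        q.ResidueField _ K') p K

end Groth.Agent.Helper8.AdicFib
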