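import Mathlib
import Groth.Agent.Lib.Helper8.AdicDer6

/-!
# Change of base ring in the Jacobian map `C ⊗ (B ⊗ Ω_{A/Λ}) → C ⊗ Ω_{B/Λ}`
-/

set_option autoImplicit false

namespace Groth.Agent.Helper8.AdmFS

open KaehlerDifferential TensorProduct

universe u

section square

variable {Λ Λ' A B C : Type u} [CommRing Λ] [CommRing Λ'] [CommRing A] [CommRing B] [CommRing C]
  [Algebra Λ Λ'] [Algebra Λ A] [Algebra Λ' A] [IsScalarTower Λ Λ' A]
  [Algebra A B] [Algebra Λ B] [Algebra Λ' B] [IsScalarTower Λ A B] [IsScalarTower Λ' A B]
  [IsScalarTower Λ Λ' B] [Algebra B C]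

/-- The square comparing the Jacobian maps over `Λ` and over `Λ'` commutes. -/
theorem square :
    (LinearMap.baseChange C (KaehlerDifferential.map Λ Λ' B B)) ∘ₗ
        (LinearMap.baseChange C (mapBaseChange Λ A B)) =
      (LinearMap.baseChange C (mapBaseChange Λ' A B)) ∘ₗ
        (LinearMap.baseChange C (LinearMap.baseChange B (KaehlerDifferential.map Λ Λ' A A))) := by
  apply Groth.Agent.Helper8.AdicDer.linearMap_ext_of_D
  intro a
  rw [LinearMap.comp_apply, LinearMap.comp_apply, LinearMap.baseChange_tmul,
    LinearMap.baseChange_tmul, LinearMap.baseChange_tmul, LinearMap.baseChange_tmul,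
    LinearMap.baseChange_tmul, mapBaseChange_tmul, mapBaseChange_tmul, one_smul, one_smul,
    KaehlerDifferential.map_D, KaehlerDifferential.map_D, KaehlerDifferential.map_D,
    KaehlerDifferential.map_D]
  rfl

/-- If `Λ → Λ'` is surjective, `Ω_{B/Λ} → Ω_{B/Λ'}` is bijective. -/
theorem map_bijective_of_surjective (hs : Function.Surjective (algebraMap Λ Λ')) :
    Function.Bijective (KaehlerDifferential.map Λ Λ' B B) := by
  refine ⟨?_, KaehlerDifferential.map_surjective Λ Λ' B⟩
  rw [← LinearMap.ker_eq_bot, eq_bot_iff]
  intro x hx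
  obtain ⟨y, rfl⟩ := (KaehlerDifferential.exact_mapBaseChange_map Λ Λ' B x).1 hx
  haveI : Subsingleton (Ω[Λ'⁄Λ]) := KaehlerDifferential.subsingleton_of_surjective Λ Λ' hs
  haveI : Subsingleton (B ⊗[Λ'] Ω[Λ'⁄Λ]) := by
    constructor
    intro u v
    have h0 : ∀ w : B ⊗[Λ'] Ω[Λ'⁄Λ], w = 0 := by
      intro w
      induction w using TensorProduct.induction_on with
      | zero => rfl
      | add x y hx hy => rw [hx, hy, add_zero]
      | tmul b ω => rw [Subsingleton.elim ω 0, TensorProduct.tmul_zero]
    rw [h0 u, h0 v]
  rw [Subsingleton.elim y 0, map_zero]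
  exact Submodule.zero_mem _

/-- Injectivity of the Jacobian map only depends on the image of the base ring. -/
theorem injective_of_surjective_algebraMap (hs : Function.Surjective (algebraMap Λ Λ'))
    (h : Function.Injective (LinearMap.baseChange C (mapBaseChange Λ A B))) :
    Function.Injective (LinearMap.baseChange C (mapBaseChange Λ' A B)) := by
  have hsq := square (Λ := Λ) (Λ' := Λ') (A := A) (B := B) (C := C)
  have ha : Function.Surjective
      (LinearMap.baseChange C (LinearMap.baseChange B (KaehlerDifferential.map Λ Λ' A A))) := by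
    apply LinearMap.lTensor_surjective
    apply LinearMap.lTensor_surjective
    exact KaehlerDifferential.map_surjective Λ Λ' A
  have hb : Function.Injective (LinearMap.baseChange C (KaehlerDifferential.map Λ Λ' B B)) := by
    let e : Ω[B⁄Λ] ≃ₗ[B] Ω[B⁄Λ'] :=
      LinearEquiv.ofBijective (KaehlerDifferential.map Λ Λ' B B) (map_bijective_of_surjective hs)
    exact (LinearEquiv.lTensor C e).injective
  rw [injective_iff_map_eq_zero]
  intro y hy
  obtain ⟨x, rfl⟩ := ha y
  have h1 := LinearMap.congr_fun hsq x
  rw [LinearMap.comp_apply, LinearMap.comp_apply, hy] at h1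
  have h2 : LinearMap.baseChange C (mapBaseChange Λ A B) x = 0 := by
    apply hb
    rw [h1, map_zero]
  rw [h (h2.trans (map_zero _).symm), map_zero]

end square

section cancel

variable {k A L M M' : Type*} [CommRing k] [CommRing A] [CommRing L] [Algebra k A] [Algebra A L]
  [Algebra k L] [IsScalarTower k A L] [AddCommGroup M] [Module k M] [AddCommGroup M'] [Module k M']

/-- Naturality of `cancelBaseChange`. -/
theorem cancelBaseChange_baseChange (f : M →ₗ[k] M') (z : L ⊗[A] (A ⊗[k] M)) :
    TensorProduct.AlgebraTensorModule.cancelBaseChange k A L L M'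
        (LinearMap.baseChange L (LinearMap.baseChange A f) z) =
      LinearMap.baseChange L f (TensorProduct.AlgebraTensorModule.cancelBaseChange k A L L M z) := by
  induction z using TensorProduct.induction_on with
  | zero => rw [map_zero, map_zero, map_zero, map_zero]
  | add x y hx hy => rw [map_add, map_add, map_add, map_add, hx, hy]
  | tmul l w =>
    induction w using TensorProduct.induction_on with
    | zero => rw [TensorProduct.tmul_zero, map_zero, map_zero, map_zero, map_zero]
    | add x y hx hy =>
      rw [TensorProduct.tmul_add, map_add, map_add, map_add, map_add, hx, hy]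
    | tmul a m =>
      rw [LinearMap.baseChange_tmul, LinearMap.baseChange_tmul,
        TensorProduct.AlgebraTensorModule.cancelBaseChange_tmul,
        TensorProduct.AlgebraTensorModule.cancelBaseChange_tmul, LinearMap.baseChange_tmul]

end cancel

end Groth.Agent.Helper8.AdmFS
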