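import Mathlib
import Groth.Agent.Lib.Helper8.AdmFS1
import Groth.Agent.Lib.Helper2.AdmSub4

/-!
# Injectivity of the absolute Jacobian map from injectivity over a directed family of subfields
-/

set_option autoImplicit false

namespace Groth.Agent.Helper8.AdmFS

open KaehlerDifferential TensorProduct EGA41 Groth.Agent.Helper2.PBasis Groth.Agent.Helper2.AdmSub

universe u

variable (p : ℕ) [hp : Fact p.Prime] {k₀ k A L : Type u} [Field k₀] [Field k] [Algebra k₀ k]
  [CharP k p] [CommRing A] [Algebra k A] [Algebra k₀ A] [IsScalarTower k₀ k A]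
  [Field L] [Algebra A L] [Algebra k L] [IsScalarTower k A L]

theorem injective_of_family {ι : Type u} [Preorder ι] [IsDirected ι (· ≤ ·)] [Nonempty ι]
    (E : ι → IntermediateField k₀ k) (hE : Antitone E)
    (hI : (⨅ i, E i ⊔ PP p) = PP (k₀ := k₀) (K := k) p)
    (hinj : ∀ i, Function.Injective (LinearMap.baseChange L (mapBaseChange (E i) k A))) :
    Function.Injective (LinearMap.baseChange L (mapBaseChange k₀ k A)) := by
  classical
  rw [injective_iff_map_eq_zero]
  intro z hz
  set c := TensorProduct.AlgebraTensorModule.cancelBaseChange k A L L (Ω[k⁄k₀]) with hc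
  obtain ⟨κ, X, f, -, -, hX⟩ := exists_isPBasis_extension p
    (k := k₀) (fun e : PEmpty.{u+1} => (e.elim : k))
    ((isPIndependent_iff p _).mpr (pInd_of_isEmpty p _))
  obtain ⟨b, hb⟩ := exists_basis_D_of_isPBasis p hX
  set S := ((b.baseChange L).repr (c z)).support with hS
  have hxind : IsPIndependent p k₀ (fun j : S => X j) :=
    PInd.comp hp.out.pos ((isPIndependent_iff p X).mp hX.1) Subtype.val Subtype.val_injective
  obtain ⟨i, hi⟩ := exists_isPIndependent p E hE hI _ hxind
  have h1 : LinearMap.baseChange L (LinearMap.baseChange A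
      ((KaehlerDifferential.map k₀ (E i) k k).restrictScalars k)) z = 0 := by
    apply hinj i
    rw [map_zero]
    have h := LinearMap.congr_fun (square (Λ := k₀) (Λ' := E i) (A := k) (B := A) (C := L)) z
    rw [LinearMap.comp_apply, LinearMap.comp_apply, hz, map_zero] at h
    exact h.symm
  have h2 : LinearMap.baseChange L ((KaehlerDifferential.map k₀ (E i) k k).restrictScalars k)
      (c z) = 0 := by
    rw [hc, ← cancelBaseChange_baseChange, h1, map_zero]
  have hω : c z = 0 := injOn_of_isPIndependent p X b hb S (E i) hi (c z)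
    (fun j hj => Finsupp.notMem_support_iff.mp hj) h2
  exact c.map_eq_zero_iff.mp hω

end Groth.Agent.Helper8.AdmFS
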