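import Mathlib
import Groth.Agent.Lib.Helper8.AdmFS2
import Groth.Agent.Lib.Helper8.AdicDer9

/-!
# Formal smoothness over a field of characteristic `p` via a directed family of subfields
-/

set_option autoImplicit false

namespace Groth.Agent.Helper8.AdmFS

open KaehlerDifferential TensorProduct EGA41 IsLocalRing Groth.Agent.Helper2.AdmSub CAlgX

universe u

section conv

variable {k : Type u} [Field k] (p : ℕ) [hp : Fact p.Prime] [CharP k p]

/-- The subfield `kα`, as an intermediate field over the prime field. -/
def toIF (F : Subfield k) : IntermediateField (⊥ : Subfield k) k :=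
  F.toIntermediateField (fun x => (bot_le : (⊥ : Subfield k) ≤ F) x.2)

theorem toIF_toSubfield (F : Subfield k) : (toIF F).toSubfield = F := rfl

theorem PP_toSubfield :
    (PP (k₀ := (⊥ : Subfield k)) (K := k) p).toSubfield = (frobenius k p).fieldRange := by
  apply le_antisymm
  · have h : PP (k₀ := (⊥ : Subfield k)) (K := k) p ≤ toIF (frobenius k p).fieldRange := by
      rw [IntermediateField.adjoin_le_iff]
      rintro _ ⟨y, rfl⟩
      exact ⟨y, rfl⟩
    exact h
  · rintro _ ⟨y, rfl⟩
    exact IntermediateField.subset_adjoin _ _ ⟨y, rfl⟩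

theorem iInf_toIF_sup {ι : Type u} (kα : ι → Subfield k)
    (hint : ⨅ α, (kα α ⊔ (frobenius k p).fieldRange) = (frobenius k p).fieldRange) :
    (⨅ i, toIF (kα i) ⊔ PP p) = PP (k₀ := (⊥ : Subfield k)) (K := k) p := by
  apply IntermediateField.toSubfield_injective
  rw [IntermediateField.iInf_toSubfield]
  simp_rw [IntermediateField.sup_toSubfield, toIF_toSubfield, PP_toSubfield]
  exact hint

end conv

section bridge

variable {k A : Type u} [Field k] [CommRing A] [IsLocalRing A] [Algebra k A]

theorem injective_toIF (F : Subfield k)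
    (h : Function.Injective ((mapBaseChange F k A).lTensor (ResidueField A))) :
    Function.Injective
      (LinearMap.baseChange (ResidueField A) (mapBaseChange (toIF F) k A)) := by
  let φ : F →+* toIF F := RingHom.codRestrict F.subtype (toIF F) (fun x => x.2)
  letI : Algebra F (toIF F) := φ.toAlgebra
  haveI : IsScalarTower F (toIF F) k := IsScalarTower.of_algebraMap_eq (fun x => rfl)
  haveI : IsScalarTower F (toIF F) A := IsScalarTower.of_algebraMap_eq (fun x => rfl)
  have hs : Function.Surjective (algebraMap F (toIF F)) := by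
    intro y
    exact ⟨⟨y.1, y.2⟩, rfl⟩
  have h' : Function.Injective
      (LinearMap.baseChange (ResidueField A) (mapBaseChange F k A)) := h
  exact injective_of_surjective_algebraMap hs h'

end bridge

section main

variable {k A : Type u} [Field k] (p : ℕ) [hp : Fact p.Prime] [CharP k p] [CommRing A]
  [IsLocalRing A] [Algebra k A]
  {ι : Type u} [Preorder ι] [IsDirected ι (fun a b => a ≤ b)] [Nonempty ι] (kα : ι → Subfield k)

omit hp [CharP k p] [IsDirected ι fun a b => a ≤ b] in
theorem family_forward (h : IsAdicFormallySmooth k A (maximalIdeal A)) :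
    PP16.SymGrBijective A (maximalIdeal A) ∧ ∃ α₀ : ι, ∀ α : ι, α₀ ≤ α →
      Function.Injective ((mapBaseChange (kα α) k A).lTensor (ResidueField A)) := by
  refine ⟨(AdicDer.field_forward h).1, Classical.arbitrary ι, fun α _ => ?_⟩
  obtain ⟨r, hr⟩ := AdicDer.exists_retraction (Λ := kα α) h
  have hinj : Function.Injective
      (LinearMap.baseChange (A ⧸ maximalIdeal A) (mapBaseChange (kα α) k A)) :=
    Function.LeftInverse.injective (g := r) (fun x => LinearMap.congr_fun hr x)
  exact hinj

include hp in
omit [Nonempty ι] in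
theorem family_backward (hanti : Antitone kα)
    (hint : ⨅ α, (kα α ⊔ (frobenius k p).fieldRange) = (frobenius k p).fieldRange)
    (hβ : PP16.SymGrBijective A (maximalIdeal A)) (α₀ : ι)
    (hγ : ∀ α : ι, α₀ ≤ α →
      Function.Injective ((mapBaseChange (kα α) k A).lTensor (ResidueField A))) :
    IsAdicFormallySmooth k A (maximalIdeal A) := by
  haveI : Algebra.FormallySmooth (⊥ : Subfield k) (A ⧸ maximalIdeal A) :=
    Cartier.formallySmooth_bot_subfield k (ResidueField A)
  have hα : Module.Projective (A ⧸ maximalIdeal A) (maximalIdeal A).Cotangent :=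
    inferInstanceAs (Module.Projective (ResidueField A) (CotangentSpace A))
  have h₀ : IsAdicFormallySmooth (⊥ : Subfield k) A (maximalIdeal A) :=
    SymPow.isAdicFormallySmooth_of_projective_of_symGrBijective (maximalIdeal A) hα hβ
  have hmono : ∀ {α β : ι}, α ≤ β → toIF (kα β) ≤ toIF (kα α) := by
    intro α β hαβ x hx
    exact hanti hαβ hx
  haveI : Nonempty {α : ι // α₀ ≤ α} := ⟨⟨α₀, le_rfl⟩⟩
  haveI : IsDirected {α : ι // α₀ ≤ α} (· ≤ ·) := by
    constructor
    intro a b
    obtain ⟨c, hac, hbc⟩ := directed_of (· ≤ ·) a.1 b.1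
    exact ⟨⟨c, a.2.trans hac⟩, hac, hbc⟩
  have hI := iInf_toIF_sup p kα hint
  have hI' : (⨅ a : {α : ι // α₀ ≤ α}, toIF (kα a.1) ⊔ PP p) =
      PP (k₀ := (⊥ : Subfield k)) (K := k) p := by
    apply le_antisymm
    · conv_rhs => rw [← hI]
      refine le_iInf fun α => ?_
      obtain ⟨β, hαβ, hα₀β⟩ := directed_of (· ≤ ·) α α₀
      exact (iInf_le _ (⟨β, hα₀β⟩ : {α : ι // α₀ ≤ α})).trans (sup_le_sup_right (hmono hαβ) _)
    · exact le_iInf fun _ => le_sup_right
  have hinj : Function.Injective
      (LinearMap.baseChange (ResidueField A) (mapBaseChange (⊥ : Subfield k) k A)) :=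
    injective_of_family p (fun a : {α : ι // α₀ ≤ α} => toIF (kα a.1))
      (fun a b hab => hmono hab) hI' (fun a => injective_toIF (kα a.1) (hγ a.1 a.2))
  obtain ⟨r, hr⟩ := LinearMap.exists_leftInverse_of_injective _ (LinearMap.ker_eq_bot.2 hinj)
  exact AdicDer.isAdicFormallySmooth_of_retraction (Λ := (⊥ : Subfield k)) (maximalIdeal A) h₀ r hr

end main

end Groth.Agent.Helper8.AdmFS
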