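import Mathlib

/-! helper8: a ring property that is invariant under isomorphism, stable under principal
localization and glues along finite principal covers holds on every affine open of a scheme as
soon as it holds on the members of some affine open cover. -/

namespace Groth.Agent.Helper8.AffLoc
open AlgebraicGeometry
universe u

/-- version with a predicate on affine opens -/
theorem affine_of_cover (X : Scheme.{u}) (P : X.affineOpens → Prop)
    (hloc : ∀ (U : X.affineOpens) (f : Γ(X, U)), P U → P (X.affineBasicOpen f))
    (hglue : ∀ (U : X.affineOpens) (s : Finset Γ(X, U)), Ideal.span (s : Set Γ(X, U)) = ⊤ →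
      (∀ f : s, P (X.affineBasicOpen f.1)) → P U)
    {ι : Type*} (U : ι → X.Opens) (hU : iSup U = ⊤) (haff : ∀ i, IsAffineOpen (U i))
    (hP : ∀ i, P ⟨U i, haff i⟩) (V : X.affineOpens) : P V := by
  let W : ι → X.affineOpens := fun i => ⟨U i, haff i⟩
  have hS : (⨆ i, (W i : X.Opens)) = ⊤ := hU
  induction V using of_affine_open_cover W hS with
  | basicOpen U f hN => exact hloc U f hN
  | openCover U s hs hN => exact hglue U s hs hN
  | hU i => exact hP i

/-- version with a ring property -/
theorem affine_of_local (R : ∀ (A : Type u) [CommRing A], Prop)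
    (hiso : ∀ (B W : Type u) [CommRing B] [CommRing W] (χ : B ≃+* W), R W → R B)
    (hloc : ∀ (A : Type u) [CommRing A] (f : A), R A → R (Localization.Away f))
    (hglue : ∀ (A : Type u) [CommRing A] (s : Finset A), Ideal.span (s : Set A) = ⊤ →
      (∀ i ∈ s, R (Localization.Away i)) → R A)
    (X : Scheme.{u}) {ι : Type*} (U : ι → X.Opens) (hU : iSup U = ⊤)
    (haff : ∀ i, IsAffineOpen (U i)) (hP : ∀ i, R Γ(X, U i))
    (V : X.Opens) (hV : IsAffineOpen V) : R Γ(X, V) := by
  refine affine_of_cover X (fun V => R Γ(X, V)) ?_ ?_ U hU haff hP ⟨V, hV⟩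
  · intro U f hN
    have := U.prop.isLocalization_basicOpen f
    let e := IsLocalization.algEquiv (.powers f) (Localization.Away f) Γ(X, X.basicOpen f)
    exact hiso _ _ e.symm.toRingEquiv (hloc _ f hN)
  · intro U s hs hN
    apply hglue _ s hs
    intro f hf
    have h1 : R Γ(X, X.basicOpen f) := hN ⟨f, hf⟩
    have := U.prop.isLocalization_basicOpen f
    let e := IsLocalization.algEquiv (.powers f) (Localization.Away f) Γ(X, X.basicOpen f)
    exact hiso _ _ e.toRingEquiv h1

end Groth.Agent.Helper8.AffLoc
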