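import Mathlib
import Groth.Prelude.Def_Found
import Groth.Agent.Lib.Helper6.Japanese
import Groth.Agent.Lib.Helper8.Tate2
import Groth.Agent.S9398

/-! helper8: universally Japanese glues along finite principal covers. -/

namespace Groth.Agent.Helper8.AffLoc
open Groth.Agent.Lib.Helper6.Japanese
universe u

theorem span_range_filter_ne_zero {A S : Type*} [CommRing A] [CommRing S] [Algebra A S]
    (s : Finset A) (hs : Ideal.span (s : Set A) = ⊤) :
    Ideal.span (Set.range (fun i : {i : A // i ∈ s ∧ algebraMap A S i ≠ 0} =>
      algebraMap A S i.1)) = ⊤ := by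
  have h1 : Ideal.map (algebraMap A S) (Ideal.span (s : Set A)) = ⊤ := by
    rw [hs, Ideal.map_top]
  rw [Ideal.map_span] at h1
  rw [eq_top_iff, ← h1, Ideal.span_le]
  rintro _ ⟨a, ha, rfl⟩
  by_cases h0 : algebraMap A S a = 0
  · rw [h0]; exact Ideal.zero_mem _
  · exact Ideal.subset_span ⟨⟨a, ha, h0⟩, rfl⟩

theorem uj_glue (A : Type u) [CommRing A] (s : Finset A) (hs : Ideal.span (s : Set A) = ⊤)
    (h : ∀ i ∈ s, CAlg.IsUniversallyJapanese (Localization.Away i)) :
    CAlg.IsUniversallyJapanese A := by
  intro S _ _ _ hft
  let ι := {i : A // i ∈ s ∧ algebraMap A S i ≠ 0}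
  haveI : Finite ι :=
    Finite.of_injective (fun i : ι => (⟨i.1, i.2.1⟩ : s)) (fun a b hab => by
      apply Subtype.ext
      exact congrArg (fun x : s => (x : A)) hab)
  let g : ι → S := fun i => algebraMap A S i.1
  have hg : Ideal.span (Set.range g) = ⊤ := span_range_filter_ne_zero (S := S) s hs
  haveI : ∀ i : ι, IsDomain (Localization.Away (g i)) := fun i =>
    IsLocalization.isDomain_localization (powers_le_nonZeroDivisors_of_noZeroDivisors i.2.2)
  refine n2_cover S g hg (fun i => Localization.Away (g i)) (fun i => ?_)
  letI : Algebra (Localization.Away i.1) (Localization.Away (g i)) :=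
    (IsLocalization.Away.map (Localization.Away i.1) (Localization.Away (g i))
      (algebraMap A S) i.1).toAlgebra
  haveI : IsScalarTower A (Localization.Away i.1) (Localization.Away (g i)) :=
    IsScalarTower.of_algebraMap_eq fun a => by
      rw [RingHom.algebraMap_toAlgebra, IsLocalization.Away.map, IsLocalization.map_eq,
        ← IsScalarTower.algebraMap_apply]
  haveI : Algebra.FiniteType A (Localization.Away (g i)) := inferInstance
  exact h i.1 i.2.1 (Localization.Away (g i))
    (Algebra.FiniteType.of_restrictScalars_finiteType A _ _)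

end Groth.Agent.Helper8.AffLoc
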