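import Mathlib
import Groth.Prelude.Def_Found

/-!
# Geometric regularity over an algebraically closed field is regularity
-/

set_option autoImplicit false

namespace Groth.Agent.Helper8.AlgClosedReg

open TensorProduct

universe u

/-- Over an algebraically closed field, geometric regularity is regularity. -/
theorem isGeometricallyRegular_iff_isRegularRing (k C : Type u) [Field k] [IsAlgClosed k]
    [CommRing C] [Algebra k C] :
    CAlg.IsGeometricallyRegular k C ↔ IsRegularRing C := by
  constructor
  · intro h
    haveI := h k (Module.Finite.self k)
    exact IsRegularRing.of_ringEquiv (Algebra.TensorProduct.lid k C).toRingEquiv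
  · intro h k' _ _ hfin
    haveI := h
    haveI := hfin
    haveI : Algebra.IsIntegral k k' := Algebra.IsIntegral.of_finite k k'
    have hbij : Function.Bijective (algebraMap k k') :=
      IsAlgClosed.algebraMap_bijective_of_isIntegral
    let e : k ≃ₐ[k] k' := AlgEquiv.ofBijective (Algebra.ofId k k') hbij
    let e₁ : k ⊗[k] C ≃ₐ[k] k' ⊗[k] C := Algebra.TensorProduct.congr e AlgEquiv.refl
    exact IsRegularRing.of_ringEquiv
      (((Algebra.TensorProduct.lid k C).symm.trans e₁).toRingEquiv)

end Groth.Agent.Helper8.AlgClosedReg
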