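import Mathlib

/-! Annihilator conditions for the sequence `a_i t_i` in a polynomial ring `P₀[t]`, deduced from
conditions in `P₀` by looking at coefficients. -/

namespace Groth.Agent.Helper8.InsB

open MvPolynomial

variable {P₀ : Type*} [CommRing P₀] {d : ℕ} (a : Fin d → P₀) (e : ℕ)

/-- the indices before `i` whose exponent is at least `e` -/
def TT (i : Fin d) (α : Fin d →₀ ℕ) : Finset (Fin d) :=
  Finset.univ.filter (fun j => (j : ℕ) < (i : ℕ) ∧ e ≤ α j)

/-- the ideal generated by the `e`-th powers of the `a_j`, `j ∈ T` -/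
def IT (T : Finset (Fin d)) : Ideal P₀ := Ideal.span ((fun j => a j ^ e) '' (T : Set (Fin d)))

/-- the elements `a_i t_i` -/
noncomputable def gam (i : Fin d) : MvPolynomial (Fin d) P₀ := monomial (Finsupp.single i 1) (a i)

/-- the ideal generated by the `e`-th powers of the previous `a_j t_j` -/
noncomputable def JJ (i : Fin d) : Ideal (MvPolynomial (Fin d) P₀) :=
  Ideal.span (Set.range fun j : {j : Fin d // (j : ℕ) < (i : ℕ)} => gam a j ^ e)

theorem gam_eq (i : Fin d) : gam a i = C (a i) * X i := C_mul_X_eq_monomial.symm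

theorem gam_pow (i : Fin d) (m : ℕ) : gam a i ^ m = monomial (Finsupp.single i m) (a i ^ m) := by
  rw [gam, monomial_pow, Finsupp.smul_single, smul_eq_mul, mul_one]

theorem IT_mono {T T' : Finset (Fin d)} (h : T ⊆ T') : IT a e T ≤ IT a e T' :=
  Ideal.span_mono (Set.image_mono (Finset.coe_subset.mpr h))

theorem TT_mono (i : Fin d) {α β : Fin d →₀ ℕ} (h : α ≤ β) : TT e i α ⊆ TT e i β := by
  intro j hj
  simp only [TT, Finset.mem_filter, Finset.mem_univ, true_and] at hj ⊢
  exact ⟨hj.1, hj.2.trans (h j)⟩

theorem monomial_mem_JJ (i : Fin d) (v : Fin d →₀ ℕ) (c : P₀) (hc : c ∈ IT a e (TT e i v)) :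
    monomial v c ∈ JJ a e i := by
  classical
  unfold IT at hc
  induction hc using Submodule.span_induction with
  | mem x hx =>
    obtain ⟨j, hj, rfl⟩ := hx
    have hj' : (j : ℕ) < (i : ℕ) ∧ e ≤ v j := by
      have := Finset.mem_coe.mp hj
      simpa [TT] using this
    have hle : Finsupp.single j e ≤ v := by
      intro k
      by_cases hk : k = j
      · subst hk; rw [Finsupp.single_eq_same]; exact hj'.2
      · rw [Finsupp.single_eq_of_ne hk]; exact Nat.zero_le _
    have h1 : monomial v (a j ^ e) = monomial (v - Finsupp.single j e) 1 * gam a j ^ e := by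
      rw [gam_pow, monomial_mul, one_mul, tsub_add_cancel_of_le hle]
    rw [h1]
    exact Ideal.mul_mem_left _ _ (Ideal.subset_span ⟨⟨j, hj'.1⟩, rfl⟩)
  | zero => rw [monomial_zero]; exact Ideal.zero_mem _
  | add x y _ _ hx hy => rw [map_add]; exact Ideal.add_mem _ hx hy
  | smul r x _ hx =>
    rw [smul_eq_mul, ← C_mul_monomial]
    exact Ideal.mul_mem_left _ _ hx

theorem mem_JJ_iff (i : Fin d) (p : MvPolynomial (Fin d) P₀) :
    p ∈ JJ a e i ↔ ∀ α, coeff α p ∈ IT a e (TT e i α) := by
  classical
  constructor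
  · intro hp
    unfold JJ at hp
    induction hp using Submodule.span_induction with
    | mem x hx =>
      obtain ⟨j, rfl⟩ := hx
      intro α
      change coeff α (gam a (j : Fin d) ^ e) ∈ _
      rw [gam_pow, coeff_monomial]
      split_ifs with h
      · apply Ideal.subset_span
        refine ⟨j, ?_, rfl⟩
        rw [Finset.mem_coe]
        simp only [TT, Finset.mem_filter, Finset.mem_univ, true_and]
        refine ⟨j.2, ?_⟩
        rw [← h, Finsupp.single_eq_same]
      · exact Ideal.zero_mem _
    | zero => intro α; rw [coeff_zero]; exact Ideal.zero_mem _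
    | add x y _ _ hx hy => intro α; rw [coeff_add]; exact Ideal.add_mem _ (hx α) (hy α)
    | smul q x _ hx =>
      intro α
      rw [smul_eq_mul, coeff_mul]
      refine Ideal.sum_mem _ (fun b hb => ?_)
      have hle : b.2 ≤ α := by
        have hb' : b.1 + b.2 = α := by simpa using hb
        rw [← hb']
        exact le_add_self
      exact Ideal.mul_mem_left _ _ (IT_mono a e (TT_mono e i hle) (hx b.2))
  · intro h
    rw [as_sum p]
    exact Ideal.sum_mem _ (fun v _ => monomial_mem_JJ a e i v _ (h v))

/-- **Annihilator conditions in `P₀[t]` from conditions in `P₀`.** -/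
theorem ann_gam (hP : ∀ i : Fin d, ∀ T : Finset (Fin d), (∀ j ∈ T, (j : ℕ) < (i : ℕ)) →
      ∀ z : P₀, a i ^ 2 * z ∈ IT a e T → a i * z ∈ IT a e T)
    (i : Fin d) (z : MvPolynomial (Fin d) P₀) (hz : gam a i ^ 2 * z ∈ JJ a e i) :
    gam a i * z ∈ JJ a e i := by
  classical
  rw [mem_JJ_iff] at hz ⊢
  intro α
  rw [gam, coeff_monomial_mul']
  split_ifs with hle
  · set β := α - Finsupp.single i 1 with hβ
    have h1 := hz (Finsupp.single i 2 + β)
    rw [gam_pow, coeff_monomial_mul] at h1
    have hT : TT e i (Finsupp.single i 2 + β) = TT e i α := by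
      ext j
      simp only [TT, Finset.mem_filter, Finset.mem_univ, true_and]
      constructor
      · rintro ⟨hji, hj⟩
        refine ⟨hji, ?_⟩
        have hne : j ≠ i := fun h => by rw [h] at hji; exact lt_irrefl _ hji
        rw [Finsupp.add_apply, Finsupp.single_eq_of_ne hne, zero_add, hβ,
          Finsupp.tsub_apply, Finsupp.single_eq_of_ne hne, tsub_zero] at hj
        exact hj
      · rintro ⟨hji, hj⟩
        refine ⟨hji, ?_⟩
        have hne : j ≠ i := fun h => by rw [h] at hji; exact lt_irrefl _ hji
        rw [Finsupp.add_apply, Finsupp.single_eq_of_ne hne, zero_add, hβ,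
          Finsupp.tsub_apply, Finsupp.single_eq_of_ne hne, tsub_zero]
        exact hj
    rw [hT] at h1
    refine hP i (TT e i α) ?_ _ h1
    intro j hj
    simp only [TT, Finset.mem_filter, Finset.mem_univ, true_and] at hj
    exact hj.1
  · exact Ideal.zero_mem _

end Groth.Agent.Helper8.InsB
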