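import Mathlib
import Groth.Agent.Lib.Helper3.AnnPi2
import Groth.Agent.Lib.Helper8.InsB10

/-! Regular parameters in a Noetherian ring (locally at a prime) satisfying the annihilator
conditions for all sub-families of the earlier parameters. -/

namespace Groth.Agent.Helper8.InsB

open IsLocalRing RingTheory.Sequence Groth.Agent.Helper3.AnnPi

universe u

section

variable {Λ : Type u} [CommRing Λ] [IsNoetherianRing Λ] (q : Ideal Λ) [q.IsPrime]

/-- the core of `exists_mul_ann_eq`, with the auxiliary element and exponent given -/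
theorem mul_ann_eq_core (J : Ideal Λ) (π : Λ)
    (hnzd : ∀ z, π * z ∈ J → ∃ s, s ∉ q ∧ s * z ∈ J)
    (s : Λ) (hs : ∀ z, (∃ s', s' ∉ q ∧ s' * z ∈ J) → s * z ∈ J)
    (m : ℕ) (hm : ∀ k z, s ^ k * z ∈ J → s ^ m * z ∈ J) :
    ∀ z, (s ^ m * π) ^ 2 * z ∈ J → (s ^ m * π) * z ∈ J := by
  intro z hz
  have h1 : π * (π * ((s ^ m) ^ 2 * z)) ∈ J := by
    have : π * (π * ((s ^ m) ^ 2 * z)) = (s ^ m * π) ^ 2 * z := by ring
    rw [this]; exact hz
  obtain ⟨s₁, hs₁, h2⟩ := hnzd _ h1
  have h3 : π * (s₁ * ((s ^ m) ^ 2 * z)) ∈ J := by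
    have : π * (s₁ * ((s ^ m) ^ 2 * z)) = s₁ * (π * ((s ^ m) ^ 2 * z)) := by ring
    rw [this]; exact h2
  obtain ⟨s₂, hs₂, h4⟩ := hnzd _ h3
  have h5 : s * ((s ^ m) ^ 2 * z) ∈ J := by
    apply hs
    refine ⟨s₂ * s₁, fun h => ?_, ?_⟩
    · rcases Ideal.IsPrime.mem_or_mem inferInstance h with h | h
      · exact hs₂ h
      · exact hs₁ h
    · rw [mul_assoc]; exact h4
  have h6 : s ^ (2 * m + 1) * z ∈ J := by
    have : s ^ (2 * m + 1) * z = s * ((s ^ m) ^ 2 * z) := by ring
    rw [this]; exact h5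
  have h7 := hm _ _ h6
  have : s ^ m * π * z = π * (s ^ m * z) := by ring
  rw [this]
  exact J.mul_mem_left π h7

/-- simultaneous version of `exists_mul_ann_eq` for finitely many ideals -/
theorem exists_mul_ann_eq_finset (𝒥 : Finset (Ideal Λ)) (π : Λ)
    (hnzd : ∀ J ∈ 𝒥, ∀ z, π * z ∈ J → ∃ s, s ∉ q ∧ s * z ∈ J) :
    ∃ t, t ∉ q ∧ ∀ J ∈ 𝒥, ∀ z, (t * π) ^ 2 * z ∈ J → (t * π) * z ∈ J := by
  classical
  choose σ hσ1 hσ2 using fun J : Ideal Λ => exists_sat q J
  let s : Λ := ∏ J ∈ 𝒥, σ J
  have hsq : s ∉ q := by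
    intro h
    obtain ⟨J, _, hJq⟩ := (Ideal.IsPrime.prod_mem_iff).mp h
    exact hσ1 J hJq
  have hs : ∀ J ∈ 𝒥, ∀ z, (∃ s', s' ∉ q ∧ s' * z ∈ J) → s * z ∈ J := by
    intro J hJ z hz
    obtain ⟨c, hc⟩ := Finset.dvd_prod_of_mem σ hJ
    change s = σ J * c at hc
    rw [hc, mul_comm (σ J) c, mul_assoc]
    exact J.mul_mem_left c (hσ2 J z hz)
  choose μ hμ1 hμ using fun J : Ideal Λ => exists_stab J s
  let m : ℕ := ∑ J ∈ 𝒥, μ J
  have hm : ∀ J ∈ 𝒥, ∀ k z, s ^ k * z ∈ J → s ^ m * z ∈ J := by
    intro J hJ k z hz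
    have h1 := hμ J k z hz
    have hle : μ J ≤ m := Finset.single_le_sum (f := μ) (fun _ _ => Nat.zero_le _) hJ
    obtain ⟨c, hc⟩ := Nat.exists_eq_add_of_le hle
    rw [hc, pow_add, mul_comm (s ^ μ J), mul_assoc]
    exact J.mul_mem_left _ h1
  refine ⟨s ^ m, fun h => hsq (Ideal.IsPrime.mem_of_pow_mem inferInstance m h), ?_⟩
  intro J hJ
  exact mul_ann_eq_core q J π (hnzd J hJ) s (hs J hJ) m (hm J hJ)

theorem IT_update {d : ℕ} (a : Fin d → Λ) (e : ℕ) (i₀ : Fin d) (x : Λ) (T : Finset (Fin d))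
    (hT : i₀ ∉ T) : IT (Function.update a i₀ x) e T = IT a e T := by
  classical
  unfold IT
  congr 1
  refine Set.image_congr fun j hj => ?_
  have hne : j ≠ i₀ := fun h => hT (h ▸ Finset.mem_coe.mp hj)
  simp only [Function.update_of_ne hne]

theorem nzd_of_regular_subset [IsRegularLocalRing (Localization.AtPrime q)] {d : ℕ}
    (hd : ringKrullDim (Localization.AtPrime q) = d) (a : Fin d → Λ)
    (ha : Ideal.span (Set.range fun i => algebraMap Λ (Localization.AtPrime q) (a i)) =
      maximalIdeal (Localization.AtPrime q))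
    (e : ℕ) (he : 0 < e) (i : Fin d) (T : Finset (Fin d)) (hT : i ∉ T) (z : Λ)
    (hz : a i * z ∈ IT a e T) : ∃ s, s ∉ q ∧ s * z ∈ IT a e T := by
  classical
  apply exists_mul_mem q
  let S := Localization.AtPrime q
  let x : Fin d → S := fun i => algebraMap Λ S (a i)
  have hreg := Groth.Agent.Helper8.RLR.isRegular_of_span_eq S d hd x ha
  let v : Fin d → ℕ := fun j => if j ∈ T then e else 1
  have hv : ∀ j, 1 ≤ v j := by
    intro j
    simp only [v]
    split_ifs <;> omega
  have hw := Groth.Agent.Helper8.RegPow.isWeaklyRegular_ofFn_pow d S x v hv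
    hreg.toIsWeaklyRegular
  let f : Fin d → S := fun j => x j ^ v j
  have hxm : ∀ j, x j ∈ maximalIdeal S := by
    intro j
    rw [← ha]
    exact Ideal.subset_span ⟨j, rfl⟩
  let rest : Finset (Fin d) := Finset.univ \ insert i T
  let idx : List (Fin d) := T.toList ++ i :: rest.toList
  have hnodup : idx.Nodup := by
    rw [List.nodup_append]
    refine ⟨T.nodup_toList, ?_, ?_⟩
    · rw [List.nodup_cons]
      refine ⟨?_, rest.nodup_toList⟩
      rw [Finset.mem_toList]
      simp [rest]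
    · intro j hj j' hj'
      rw [Finset.mem_toList] at hj
      rw [List.mem_cons, Finset.mem_toList] at hj'
      rcases hj' with rfl | hj'
      · intro h; exact hT (h ▸ hj)
      · intro h
        rw [← h] at hj'
        simp [rest] at hj'
        exact hj'.2 hj
  have hperm : (List.finRange d).Perm idx := by
    refine List.perm_of_nodup_nodup_toFinset_eq (List.nodup_finRange d) hnodup ?_
    ext j
    simp only [idx, List.toFinset_finRange, Finset.mem_univ, List.toFinset_append,
      List.toFinset_cons, Finset.toList_toFinset, Finset.mem_union, Finset.mem_insert, true_iff,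
      rest, Finset.mem_sdiff]
    by_cases h1 : j ∈ T
    · exact Or.inl h1
    · by_cases h2 : j = i
      · exact Or.inr (Or.inl h2)
      · exact Or.inr (Or.inr ⟨trivial, fun h => h.elim h2 h1⟩)
  have hw' : IsWeaklyRegular S (idx.map f) := by
    refine IsLocalRing.isWeaklyRegular_of_perm_of_subset_maximalIdeal (rs := List.ofFn f) hw ?_ ?_
    · rw [List.ofFn_eq_map]
      exact hperm.map f
    · intro r hr
      rw [List.mem_ofFn] at hr
      obtain ⟨j, rfl⟩ := hr
      exact Ideal.pow_mem_of_mem _ (hxm j) _ (hv j)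
  have hsplit : idx.map f = T.toList.map f ++ (f i :: rest.toList.map f) := by
    simp only [idx, List.map_append, List.map_cons]
  rw [hsplit, isWeaklyRegular_append_iff] at hw'
  have h2 := ((isWeaklyRegular_cons_iff _ _ _).mp hw'.2).1
  rw [Groth.Agent.Helper3.ColimReg.isSMulRegular_quot_iff] at h2
  have hI : Ideal.ofList (T.toList.map f) = (IT a e T).map (algebraMap Λ S) := by
    unfold Ideal.ofList IT
    rw [Ideal.map_span]
    congr 1
    ext r
    simp only [Set.mem_ofPred_eq, List.mem_map, Finset.mem_toList, Set.mem_image, Finset.mem_coe]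
    constructor
    · rintro ⟨j, hj, rfl⟩
      refine ⟨a j ^ e, ⟨j, hj, rfl⟩, ?_⟩
      simp only [f, v, x, if_pos hj, map_pow]
    · rintro ⟨_, ⟨j, hj, rfl⟩, rfl⟩
      refine ⟨j, hj, ?_⟩
      simp only [f, v, x, if_pos hj, map_pow]
  have hfi : f i = x i := by
    simp only [f, v, if_neg hT, pow_one]
  rw [hI, hfi] at h2
  apply h2
  change algebraMap Λ S (a i) * algebraMap Λ S z ∈ _
  rw [← map_mul]
  exact Ideal.mem_map_of_mem _ hz

/-- **Good parameters**: regular parameters at `q` such that for each `i` and each set `T` of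
earlier indices, the annihilators of `a i` and `a i ^ 2` modulo `(a j ^ e : j ∈ T)` agree. -/
theorem exists_goodP [IsRegularLocalRing (Localization.AtPrime q)] {d : ℕ}
    (hd : ringKrullDim (Localization.AtPrime q) = d) (e : ℕ) (he : 0 < e)
    (a₀ : Fin d → Λ)
    (ha₀ : Ideal.span (Set.range fun i => algebraMap Λ (Localization.AtPrime q) (a₀ i)) =
      maximalIdeal (Localization.AtPrime q)) (m : ℕ) (hm : m ≤ d) :
    ∃ a : Fin d → Λ,
      Ideal.span (Set.range fun i => algebraMap Λ (Localization.AtPrime q) (a i)) =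
        maximalIdeal (Localization.AtPrime q) ∧
      ∀ i : Fin d, (i : ℕ) < m → ∀ T : Finset (Fin d), (∀ j ∈ T, (j : ℕ) < (i : ℕ)) →
        ∀ z, a i ^ 2 * z ∈ IT a e T → a i * z ∈ IT a e T := by
  classical
  induction m with
  | zero => exact ⟨a₀, ha₀, fun i hi => absurd hi (Nat.not_lt_zero _)⟩
  | succ m ih =>
    obtain ⟨a, h1, h3⟩ := ih (Nat.le_of_succ_le hm)
    let i₀ : Fin d := ⟨m, hm⟩
    let 𝒯 : Finset (Finset (Fin d)) :=
      (Finset.univ.filter fun j : Fin d => (j : ℕ) < (i₀ : ℕ)).powerset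
    have h𝒯 : ∀ T : Finset (Fin d), (∀ j ∈ T, (j : ℕ) < (i₀ : ℕ)) → T ∈ 𝒯 := by
      intro T hT
      rw [Finset.mem_powerset]
      intro j hj
      rw [Finset.mem_filter]
      exact ⟨Finset.mem_univ _, hT j hj⟩
    have h𝒯' : ∀ T ∈ 𝒯, i₀ ∉ T := by
      intro T hT hi
      rw [Finset.mem_powerset] at hT
      have := hT hi
      rw [Finset.mem_filter] at this
      exact lt_irrefl _ this.2
    obtain ⟨t, htq, ht⟩ := exists_mul_ann_eq_finset q (𝒯.image fun T => IT a e T) (a i₀) (by
      intro J hJ z hz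
      rw [Finset.mem_image] at hJ
      obtain ⟨T, hT, rfl⟩ := hJ
      exact nzd_of_regular_subset q hd a h1 e he i₀ T (h𝒯' T hT) z hz)
    refine ⟨Function.update a i₀ (t * a i₀), ?_, ?_⟩
    · have hu : IsUnit (algebraMap Λ (Localization.AtPrime q) t) :=
        IsLocalization.map_units (Localization.AtPrime q) (⟨t, htq⟩ : q.primeCompl)
      obtain ⟨u, hu⟩ := hu
      have := span_range_update_unit (fun i => algebraMap Λ (Localization.AtPrime q) (a i)) i₀ u
      rw [h1] at this
      rw [← this]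
      congr 2
      funext i
      by_cases h : i = i₀
      · subst h; simp [hu]
      · simp [Function.update_of_ne h]
    · intro i hi T hT z hz
      have hiT : i₀ ∉ T → IT (Function.update a i₀ (t * a i₀)) e T = IT a e T :=
        fun h => IT_update a e i₀ _ T h
      by_cases h : i = i₀
      · subst h
        have hT' : i₀ ∉ T := fun hh => lt_irrefl _ (hT i₀ hh)
        rw [Function.update_self, hiT hT'] at hz ⊢
        exact ht _ (Finset.mem_image_of_mem _ (h𝒯 T hT)) z hz
      · have hi' : (i : ℕ) < m := by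
          have : (i : ℕ) ≠ m := fun hh => h (Fin.ext hh)
          omega
        have hT' : i₀ ∉ T := by
          intro hh
          have := hT i₀ hh
          change m < (i : ℕ) at this
          omega
        rw [Function.update_of_ne h, hiT hT'] at hz ⊢
        exact h3 i hi' T hT z hz

end

end Groth.Agent.Helper8.InsB
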