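import Mathlib
import Groth.Agent.Lib.Helper3.AnnPi2

/-! The choice of the elements `δ_i` and `λ_ij` (the `2N`-trick) on the `Λ`-side. -/

namespace Groth.Agent.Helper8.InsB

open IsLocalRing Groth.Agent.Helper3.AnnPi

universe u

section

variable {Λ : Type u} [CommRing Λ] [IsNoetherianRing Λ] (q : Ideal Λ) [q.IsPrime]

/-- version of `exists_good` carrying a general predicate stable under multiplication by elements
outside of `q` -/
theorem exists_good_pred [IsRegularLocalRing (Localization.AtPrime q)] {d : ℕ}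
    (hd : ringKrullDim (Localization.AtPrime q) = d) (e : ℕ) (he : 0 < e)
    (Pred : Fin d → Λ → Prop) (hPred : ∀ i x t, t ∉ q → Pred i x → Pred i (t * x))
    (π₀ : Fin d → Λ)
    (hπ₀ : Ideal.span (Set.range fun i => algebraMap Λ (Localization.AtPrime q) (π₀ i)) =
      maximalIdeal (Localization.AtPrime q))
    (hP₀ : ∀ i, Pred i (π₀ i)) (m : ℕ) (hm : m ≤ d) :
    ∃ π : Fin d → Λ,
      Ideal.span (Set.range fun i => algebraMap Λ (Localization.AtPrime q) (π i)) =
        maximalIdeal (Localization.AtPrime q) ∧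
      (∀ i, Pred i (π i)) ∧
      ∀ i : Fin d, (i : ℕ) < m → ∀ z, π i ^ 2 * z ∈ Jpow π e i → π i * z ∈ Jpow π e i := by
  classical
  induction m with
  | zero => exact ⟨π₀, hπ₀, hP₀, fun i hi => absurd hi (Nat.not_lt_zero _)⟩
  | succ m ih =>
    obtain ⟨π, h1, h2, h3⟩ := ih (Nat.le_of_succ_le hm)
    let i₀ : Fin d := ⟨m, hm⟩
    obtain ⟨t, htq, ht⟩ := exists_mul_ann_eq q (Jpow π e i₀) (π i₀)
      (nzd_of_regular q hd π h1 e he i₀)
    refine ⟨Function.update π i₀ (t * π i₀), ?_, ?_, ?_⟩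
    · have hu : IsUnit (algebraMap Λ (Localization.AtPrime q) t) :=
        IsLocalization.map_units (Localization.AtPrime q) (⟨t, htq⟩ : q.primeCompl)
      obtain ⟨u, hu⟩ := hu
      have := span_range_update_unit (fun i => algebraMap Λ (Localization.AtPrime q) (π i)) i₀ u
      rw [h1] at this
      rw [← this]
      congr 2
      funext i
      by_cases h : i = i₀
      · subst h; simp [hu]
      · simp [Function.update_of_ne h]
    · intro i
      by_cases h : i = i₀
      · subst h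
        rw [Function.update_self]
        exact hPred _ _ _ htq (h2 _)
      · rw [Function.update_of_ne h]
        exact h2 i
    · intro i hi z hz
      by_cases h : i = i₀
      · subst h
        rw [Function.update_self, Jpow_update π e _ _ le_rfl] at hz ⊢
        exact ht z hz
      · have hi' : (i : ℕ) < m := by
          have : (i : ℕ) ≠ m := fun hh => h (Fin.ext hh)
          omega
        have hle : (i : ℕ) ≤ (i₀ : ℕ) := Nat.le_of_lt hi'
        rw [Function.update_of_ne h, Jpow_update π e i₀ i hle] at hz ⊢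
        exact h3 i hi' z hz

/-- the `2N`-trick for a single element -/
theorem exists_lam {r : ℕ} (h : Fin r → Λ) (N n : ℕ) (hN : 0 < N) (hNn : N ≤ n)
    (hpow : (q ^ N).map (algebraMap Λ (Localization.AtPrime q)) ≤
      (Ideal.span (Set.range h)).map (algebraMap Λ (Localization.AtPrime q)))
    (a : Λ) (ha : a ∈ q)
    (μ : Fin r → Localization.AtPrime q ⧸ maximalIdeal (Localization.AtPrime q) ^ n)
    (hμ : Ideal.Quotient.mk _ (algebraMap Λ (Localization.AtPrime q) a) ^ N =
      ∑ j, μ j * Ideal.Quotient.mk _ (algebraMap Λ (Localization.AtPrime q) (h j))) :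
    ∃ δ, δ ∉ q ∧ ∃ lam : Fin r → Λ, (δ * a) ^ (2 * N) = ∑ j, lam j * h j ∧
      ∀ j, Ideal.Quotient.mk (maximalIdeal (Localization.AtPrime q) ^ n)
          (algebraMap Λ (Localization.AtPrime q) (lam j)) =
        Ideal.Quotient.mk _ (algebraMap Λ (Localization.AtPrime q) δ) ^ (2 * N) *
          Ideal.Quotient.mk _ (algebraMap Λ (Localization.AtPrime q) a) ^ N * μ j := by
  classical
  let S := Localization.AtPrime q
  let 𝔪 := maximalIdeal S
  let al : Λ →+* S := algebraMap Λ S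
  have ham : al a ∈ 𝔪 := (IsLocalization.AtPrime.to_map_mem_maximal_iff S q a).mpr ha
  -- lift the `μ j`
  choose ξ hξ using fun j => Ideal.Quotient.mk_surjective (μ j)
  have hx : al a ^ N - ∑ j, ξ j * al (h j) ∈ 𝔪 ^ n := by
    rw [← Ideal.Quotient.eq_zero_iff_mem, map_sub, map_pow, map_sum, sub_eq_zero, hμ]
    refine Finset.sum_congr rfl fun j _ => ?_
    rw [map_mul, hξ]
  -- `𝔪 ^ n ≤ 𝔪 ^ (n - N) * (h)`
  have hle : 𝔪 ^ n ≤ 𝔪 ^ (n - N) • Submodule.span S (Set.range fun j => al (h j)) := by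
    have h1 : 𝔪 ^ n = 𝔪 ^ (n - N) * 𝔪 ^ N := by
      rw [← pow_add, Nat.sub_add_cancel hNn]
    have h2 : 𝔪 ^ N ≤ Ideal.span (Set.range fun j => al (h j)) := by
      have h3 : (Ideal.span (Set.range h)).map al = Ideal.span (Set.range fun j => al (h j)) := by
        rw [Ideal.map_span, ← Set.range_comp]
        rfl
      rw [← h3]
      refine le_trans ?_ hpow
      rw [Ideal.map_pow, Localization.AtPrime.map_eq_maximalIdeal]
    rw [h1]
    exact Ideal.mul_mono_right h2
  obtain ⟨ν₀, hν₀, hsum⟩ := (Submodule.mem_ideal_smul_span_iff_exists_sum _ _ _).mp (hle hx)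
  let ν : Fin r → S := fun j => ν₀ j
  have hν : ∀ j, ν j ∈ 𝔪 ^ (n - N) := fun j => hν₀ j
  have hsum' : al a ^ N - ∑ j, ξ j * al (h j) = ∑ j, ν j * al (h j) := by
    rw [← hsum, Finsupp.sum_fintype]
    · rfl
    · intro i
      exact zero_smul _ _
  -- the elements `λ'_j`
  let lam' : Fin r → S := fun j => al a ^ N * (ξ j + ν j)
  have hlam' : al a ^ (2 * N) = ∑ j, lam' j * al (h j) := by
    have h1 : al a ^ N = ∑ j, ξ j * al (h j) + ∑ j, ν j * al (h j) := by
      rw [← hsum']; ring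
    have h2 : ∑ j, lam' j * al (h j) = al a ^ N * (∑ j, ξ j * al (h j) + ∑ j, ν j * al (h j)) := by
      rw [← Finset.sum_add_distrib, Finset.mul_sum]
      refine Finset.sum_congr rfl fun j _ => ?_
      simp only [lam']
      ring
    rw [h2, ← h1, two_mul, pow_add]
  have hmk : ∀ j, Ideal.Quotient.mk (𝔪 ^ n) (lam' j) =
      Ideal.Quotient.mk (𝔪 ^ n) (al a) ^ N * μ j := by
    intro j
    have h1 : al a ^ N * ν j ∈ 𝔪 ^ n := by
      have h2 : 𝔪 ^ n = 𝔪 ^ N * 𝔪 ^ (n - N) := by
        rw [← pow_add, Nat.add_sub_cancel' hNn]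
      rw [h2]
      exact Ideal.mul_mem_mul (Ideal.pow_mem_pow ham N) (hν j)
    have h3 : lam' j = al a ^ N * ξ j + al a ^ N * ν j := by
      simp only [lam']; ring
    rw [h3, map_add, (Ideal.Quotient.eq_zero_iff_mem).mpr h1, add_zero, map_mul, map_pow, hξ]
  -- clear denominators
  obtain ⟨⟨σ, hσ⟩, hint⟩ := IsLocalization.exist_integer_multiples q.primeCompl
    (Finset.univ : Finset (Fin r)) lam'
  have hint' : ∀ j, ∃ l : Λ, al l = al σ * lam' j := by
    intro j
    obtain ⟨l, hl⟩ := hint j (Finset.mem_univ j)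
    refine ⟨l, ?_⟩
    rw [hl, Algebra.smul_def]
  choose l hl using hint'
  have heq : al (σ * a ^ (2 * N)) = al (∑ j, l j * h j) := by
    rw [map_mul, map_pow, hlam', map_sum, Finset.mul_sum]
    refine Finset.sum_congr rfl fun j _ => ?_
    rw [map_mul, hl]
    ring
  obtain ⟨⟨τ, hτ⟩, hτeq⟩ := (IsLocalization.eq_iff_exists q.primeCompl S).mp heq
  simp only at hτeq
  let δ : Λ := τ * σ
  have hδ : δ ∉ q := fun hh => (Ideal.IsPrime.mem_or_mem inferInstance hh).elim hτ hσ
  obtain ⟨M, hM⟩ : ∃ M, 2 * N = M + 1 := ⟨2 * N - 1, by omega⟩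
  rw [hM]
  refine ⟨δ, hδ, fun j => δ ^ M * τ * l j, ?_, ?_⟩
  · have h1 : (δ * a) ^ (M + 1) = δ ^ M * (τ * (σ * a ^ (M + 1))) := by
      simp only [δ]
      ring
    rw [hM] at hτeq
    rw [h1, hτeq, Finset.mul_sum, Finset.mul_sum]
    refine Finset.sum_congr rfl fun j _ => ?_
    ring
  · intro j
    have h1 : al (δ ^ M * τ * l j) = al δ ^ (M + 1) * lam' j := by
      rw [map_mul, map_mul, map_pow, hl]
      simp only [δ, map_mul]
      ring
    change Ideal.Quotient.mk (𝔪 ^ n) (al (δ ^ M * τ * l j)) = _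
    rw [h1, map_mul, map_pow, hmk, mul_assoc]

/-- **The choice of `δ_i` and `λ_ij`.** -/
theorem exists_delta [IsRegularLocalRing (Localization.AtPrime q)] {d : ℕ}
    (hd : ringKrullDim (Localization.AtPrime q) = d) (e : ℕ) (he : 0 < e)
    {r : ℕ} (h : Fin r → Λ) (N n : ℕ) (hN : 0 < N) (hNn : N ≤ n)
    (hpow : (q ^ N).map (algebraMap Λ (Localization.AtPrime q)) ≤
      (Ideal.span (Set.range h)).map (algebraMap Λ (Localization.AtPrime q)))
    (a : Fin d → Λ)
    (ha : Ideal.span (Set.range fun i => algebraMap Λ (Localization.AtPrime q) (a i)) =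
      maximalIdeal (Localization.AtPrime q))
    (μ : Fin d → Fin r → Localization.AtPrime q ⧸ maximalIdeal (Localization.AtPrime q) ^ n)
    (hμ : ∀ i, Ideal.Quotient.mk _ (algebraMap Λ (Localization.AtPrime q) (a i)) ^ N =
      ∑ j, μ i j * Ideal.Quotient.mk _ (algebraMap Λ (Localization.AtPrime q) (h j))) :
    ∃ (δ : Fin d → Λ) (lam : Fin d → Fin r → Λ), (∀ i, δ i ∉ q) ∧
      (∀ i, (δ i * a i) ^ (2 * N) = ∑ j, lam i j * h j) ∧
      (∀ i j, Ideal.Quotient.mk (maximalIdeal (Localization.AtPrime q) ^ n)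
          (algebraMap Λ (Localization.AtPrime q) (lam i j)) =
        Ideal.Quotient.mk _ (algebraMap Λ (Localization.AtPrime q) (δ i)) ^ (2 * N) *
          Ideal.Quotient.mk _ (algebraMap Λ (Localization.AtPrime q) (a i)) ^ N * μ i j) ∧
      Ideal.span (Set.range fun i => algebraMap Λ (Localization.AtPrime q) (δ i * a i)) =
        maximalIdeal (Localization.AtPrime q) ∧
      ∀ i : Fin d, ∀ z, (δ i * a i) ^ 2 * z ∈ Jpow (fun i => δ i * a i) e i →
        (δ i * a i) * z ∈ Jpow (fun i => δ i * a i) e i := by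
  classical
  let S := Localization.AtPrime q
  let al : Λ →+* S := algebraMap Λ S
  have haq : ∀ i, a i ∈ q := by
    intro i
    have h6 : al (a i) ∈ maximalIdeal S := by
      rw [← ha]
      exact Ideal.subset_span ⟨i, rfl⟩
    exact (IsLocalization.AtPrime.to_map_mem_maximal_iff S q (a i)).mp h6
  let Pred : Fin d → Λ → Prop := fun i x => ∃ δ, δ ∉ q ∧ x = δ * a i ∧
    ∃ lam : Fin r → Λ, x ^ (2 * N) = ∑ j, lam j * h j ∧
      ∀ j, Ideal.Quotient.mk (maximalIdeal S ^ n) (al (lam j)) =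
        Ideal.Quotient.mk _ (al δ) ^ (2 * N) * Ideal.Quotient.mk _ (al (a i)) ^ N * μ i j
  have hPred : ∀ i x t, t ∉ q → Pred i x → Pred i (t * x) := by
    rintro i x t ht ⟨δ, hδ, rfl, lam, h1, h2⟩
    refine ⟨t * δ, fun hh => (Ideal.IsPrime.mem_or_mem inferInstance hh).elim ht hδ,
      (mul_assoc _ _ _).symm, fun j => t ^ (2 * N) * lam j, ?_, ?_⟩
    · rw [mul_pow, h1, Finset.mul_sum]
      refine Finset.sum_congr rfl fun j _ => ?_
      ring
    · intro j
      rw [map_mul, map_mul, map_pow, map_pow, h2, map_mul, map_mul, mul_pow]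
      ring
  have hex : ∀ i, ∃ x, Pred i x ∧ ∃ δ, δ ∉ q ∧ x = δ * a i := by
    intro i
    obtain ⟨δ, hδ, lam, h1, h2⟩ := exists_lam q h N n hN hNn hpow (a i) (haq i) (μ i) (hμ i)
    exact ⟨δ * a i, ⟨δ, hδ, rfl, lam, h1, h2⟩, δ, hδ, rfl⟩
  choose π₀ hπ₀P δ₀ hδ₀ hπ₀δ using hex
  have hπ₀ : Ideal.span (Set.range fun i => al (π₀ i)) = maximalIdeal S := by
    have hu : ∀ i, IsUnit (al (δ₀ i)) := fun i =>
      IsLocalization.map_units S (⟨δ₀ i, hδ₀ i⟩ : q.primeCompl)
    choose u hu using hu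
    rw [← ha, ← span_range_unit_mul (fun i => al (a i)) u]
    congr 2
    funext i
    rw [hπ₀δ, map_mul, hu]
  obtain ⟨π, h3, h4, h5⟩ := exists_good_pred q hd e he Pred hPred π₀ hπ₀ hπ₀P d le_rfl
  choose δ hδ hπδ lam hlam1 hlam2 using h4
  have hπeq : π = fun i => δ i * a i := funext hπδ
  refine ⟨δ, lam, hδ, ?_, hlam2, ?_, ?_⟩
  · intro i
    rw [← hπδ]
    exact hlam1 i
  · rw [← h3]
    congr 2
    funext i
    rw [hπδ]
  · intro i z hz
    rw [← hπeq, ← hπδ] at hz ⊢
    exact h5 i i.2 z hz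

end

end Groth.Agent.Helper8.InsB
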