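import Mathlib

/-! The derivation trick: elements admitting dual derivations are part of a regular system of
parameters (linear independence in the cotangent space) of a localized quotient. -/

namespace Groth.Agent.Helper8.DifB

open IsLocalRing

section Trick

variable {C : Type*} [CommRing C] (𝔑 : Ideal C) [h𝔑 : 𝔑.IsPrime] (G : Set C) {m : ℕ}
  (z : Fin m → C) (hz : ∀ i, z i ∈ 𝔑) (D : Fin m → C → C)
  (hadd : ∀ j x y, D j (x + y) = D j x + D j y)
  (hmul : ∀ j x y, D j (x * y) = x * D j y + y * D j x)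
  (hI : ∀ j, ∀ x ∈ G, x ∈ 𝔑 ∧ D j x ∈ 𝔑)
  (hDz : ∀ i j, D j (z i) - (if i = j then 1 else 0) ∈ 𝔑)

include hz hadd hmul hI hDz

theorem mem_of_mul_sum_mem (t : C) (ht : t ∉ 𝔑) (c : Fin m → C)
    (h : t * ∑ i, c i * z i ∈ 𝔑 ^ 2 ⊔ Ideal.span G) (j : Fin m) : c j ∈ 𝔑 := by
  classical
  have hzero : D j 0 = 0 := by
    have := hadd j 0 0
    rw [add_zero] at this
    exact left_eq_add.mp this
  let Dh : C →+ C := AddMonoidHom.mk' (D j) (hadd j)
  have hDh : ∀ x, Dh x = D j x := fun x => rfl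
  let 𝔑D : Ideal C :=
    { carrier := {x | x ∈ 𝔑 ∧ D j x ∈ 𝔑}
      add_mem' := fun {x y} hx hy => ⟨𝔑.add_mem hx.1 hy.1, by
        rw [hadd]; exact 𝔑.add_mem hx.2 hy.2⟩
      zero_mem' := ⟨𝔑.zero_mem, by rw [hzero]; exact 𝔑.zero_mem⟩
      smul_mem' := fun c x hx => ⟨𝔑.mul_mem_left c hx.1, by
        rw [smul_eq_mul, hmul]
        exact 𝔑.add_mem (𝔑.mul_mem_left c hx.2) (𝔑.mul_mem_right _ hx.1)⟩ }
  have h1 : 𝔑 ^ 2 ≤ 𝔑D := by
    rw [pow_two, Ideal.mul_le]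
    intro x hx y hy
    refine ⟨𝔑.mul_mem_left x hy, ?_⟩
    rw [hmul]
    exact 𝔑.add_mem (𝔑.mul_mem_right _ hx) (𝔑.mul_mem_right _ hy)
  have h2 : Ideal.span G ≤ 𝔑D := Ideal.span_le.mpr (fun x hx => hI j x hx)
  have h3 : D j (t * ∑ i, c i * z i) ∈ 𝔑 := (sup_le h1 h2 h).2
  have hsum : (∑ i, c i * z i) ∈ 𝔑 := 𝔑.sum_mem (fun i _ => 𝔑.mul_mem_left _ (hz i))
  rw [hmul] at h3
  have h4 : t * D j (∑ i, c i * z i) ∈ 𝔑 := by
    have := 𝔑.sub_mem h3 (𝔑.mul_mem_right (D j t) hsum)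
    simpa using this
  have h5 : D j (∑ i, c i * z i) ∈ 𝔑 := (h𝔑.mem_or_mem h4).resolve_left ht
  have h6 : D j (∑ i, c i * z i) - c j ∈ 𝔑 := by
    rw [← hDh, map_sum]
    have h7 : ∀ i, Dh (c i * z i) - (if i = j then c i else 0) ∈ 𝔑 := by
      intro i
      rw [hDh, hmul]
      have h8 := 𝔑.mul_mem_left (c i) (hDz i j)
      have h9 := 𝔑.mul_mem_right (D j (c i)) (hz i)
      have : c i * D j (z i) + z i * D j (c i) - (if i = j then c i else 0) =
          c i * (D j (z i) - if i = j then 1 else 0) + z i * D j (c i) := by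
        split_ifs <;> ring
      rw [this]
      exact 𝔑.add_mem h8 h9
    have h10 : ∑ i, Dh (c i * z i) - c j = ∑ i, (Dh (c i * z i) - (if i = j then c i else 0)) := by
      rw [Finset.sum_sub_distrib, Finset.sum_ite_eq' Finset.univ j]
      simp
    rw [h10]
    exact 𝔑.sum_mem (fun i _ => h7 i)
  have := 𝔑.sub_mem h5 h6
  simpa using this

end Trick

end Groth.Agent.Helper8.DifB
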