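import Mathlib
import Groth.Agent.Lib.Helper8.DifB2

/-! Transfer of the derivation trick to the cotangent space of a localized quotient. -/

namespace Groth.Agent.Helper8.DifB

open IsLocalRing

/-- the maximal ideal of a local quotient of a local ring -/
theorem maximalIdeal_quotient_eq {B : Type*} [CommRing B] [IsLocalRing B] (J₀ : Ideal B)
    [IsLocalRing (B ⧸ J₀)] :
    maximalIdeal (B ⧸ J₀) = (maximalIdeal B).map (Ideal.Quotient.mk J₀) := by
  have hJ₀le : J₀ ≤ maximalIdeal B := by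
    by_contra hcon
    have htop : J₀ = ⊤ := by
      by_contra hne
      exact hcon (IsLocalRing.le_maximalIdeal hne)
    have : Subsingleton (B ⧸ J₀) := Ideal.Quotient.subsingleton_iff.mpr htop
    exact not_subsingleton (B ⧸ J₀) this
  apply le_antisymm
  · intro l hl
    obtain ⟨b, rfl⟩ := Ideal.Quotient.mk_surjective l
    refine Ideal.mem_map_of_mem _ ?_
    rw [mem_maximalIdeal] at hl ⊢
    intro hb
    exact hl (hb.map (Ideal.Quotient.mk J₀))
  · rw [Ideal.map_le_iff_le_comap]
    intro b hb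
    rw [Ideal.mem_comap, mem_maximalIdeal]
    intro hu
    obtain ⟨l', hl'⟩ := hu.exists_right_inv
    obtain ⟨b', rfl⟩ := Ideal.Quotient.mk_surjective l'
    rw [← map_mul, ← map_one (Ideal.Quotient.mk J₀), Ideal.Quotient.eq] at hl'
    have h1 : b * b' - 1 ∈ maximalIdeal B := hJ₀le hl'
    have h2 : b * b' ∈ maximalIdeal B := Ideal.mul_mem_right _ _ hb
    have h3 : (1 : B) ∈ maximalIdeal B := by
      have := Ideal.sub_mem _ h2 h1
      simpa using this
    exact (maximalIdeal.isMaximal B).ne_top ((Ideal.eq_top_iff_one _).mpr h3)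

set_option maxHeartbeats 1600000 in
theorem linearIndependent_cotangent {C : Type*} [CommRing C] (𝔑 : Ideal C) [h𝔑 : 𝔑.IsPrime]
    (I : Ideal C) {m : ℕ} (z : Fin m → C)
    (hkey : ∀ (t : C), t ∉ 𝔑 → ∀ c : Fin m → C, t * ∑ i, c i * z i ∈ 𝔑 ^ 2 ⊔ I →
      ∀ j, c j ∈ 𝔑)
    [IsLocalRing (Localization.AtPrime 𝔑 ⧸ I.map (algebraMap C (Localization.AtPrime 𝔑)))]
    (x : Fin m → maximalIdeal
      (Localization.AtPrime 𝔑 ⧸ I.map (algebraMap C (Localization.AtPrime 𝔑))))
    (hx : ∀ i, (x i : Localization.AtPrime 𝔑 ⧸ I.map (algebraMap C (Localization.AtPrime 𝔑))) =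
      Ideal.Quotient.mk _ (algebraMap C (Localization.AtPrime 𝔑) (z i))) :
    LinearIndependent
      (ResidueField (Localization.AtPrime 𝔑 ⧸ I.map (algebraMap C (Localization.AtPrime 𝔑))))
      (fun i => (maximalIdeal
        (Localization.AtPrime 𝔑 ⧸ I.map (algebraMap C (Localization.AtPrime 𝔑)))).toCotangent
          (x i)) := by
  classical
  set B := Localization.AtPrime 𝔑 with hB
  set J₀ : Ideal B := I.map (algebraMap C B) with hJ₀
  have hmkL : Function.Surjective (Ideal.Quotient.mk J₀) := Ideal.Quotient.mk_surjective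
  have hmL := maximalIdeal_quotient_eq J₀
  rw [Fintype.linearIndependent_iff]
  intro g hg j
  -- lift the coefficients
  choose l hl using fun i => IsLocalRing.residue_surjective (g i)
  choose b hb using fun i => hmkL (l i)
  obtain ⟨⟨t, ht⟩, htb⟩ := IsLocalization.exist_integer_multiples 𝔑.primeCompl Finset.univ b
  choose c hc using fun i => htb i (Finset.mem_univ i)
  have hc' : ∀ i, algebraMap C B (c i) = algebraMap C B t * b i := fun i => by
    rw [hc i, Algebra.smul_def]
  -- the relation in the cotangent space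
  have h1 : ((∑ i, l i • x i : maximalIdeal (B ⧸ J₀)) : B ⧸ J₀) ∈ maximalIdeal (B ⧸ J₀) ^ 2 := by
    rw [← Ideal.toCotangent_eq_zero, map_sum, ← hg]
    refine Finset.sum_congr rfl (fun i _ => ?_)
    rw [map_smul, ← hl i]
    exact (algebraMap_smul (ResidueField (B ⧸ J₀)) (l i) _).symm
  have h2 : ((∑ i, l i • x i : maximalIdeal (B ⧸ J₀)) : B ⧸ J₀) =
      Ideal.Quotient.mk J₀ (∑ i, b i * algebraMap C B (z i)) := by
    rw [AddSubmonoidClass.coe_finset_sum, map_sum]
    refine Finset.sum_congr rfl (fun i _ => ?_)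
    rw [Submodule.coe_smul, smul_eq_mul, hx, ← hb i, map_mul]
  rw [h2, hmL, ← Ideal.map_pow, Ideal.mem_map_iff_of_surjective _ hmkL] at h1
  obtain ⟨y, hy, hy'⟩ := h1
  have h3 : (∑ i, b i * algebraMap C B (z i)) ∈ (𝔑 ^ 2 ⊔ I).map (algebraMap C B) := by
    rw [Ideal.map_sup, Ideal.map_pow, Localization.AtPrime.map_eq_maximalIdeal]
    have h4 : (∑ i, b i * algebraMap C B (z i)) - y ∈ J₀ := by
      rw [← Ideal.Quotient.eq, hy']
    have : (∑ i, b i * algebraMap C B (z i)) = y + ((∑ i, b i * algebraMap C B (z i)) - y) := by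
      ring
    rw [this]
    exact Ideal.add_mem _ (Ideal.mem_sup_left hy) (Ideal.mem_sup_right h4)
  have h5 : algebraMap C B (∑ i, c i * z i) ∈ (𝔑 ^ 2 ⊔ I).map (algebraMap C B) := by
    have : algebraMap C B (∑ i, c i * z i) =
        algebraMap C B t * ∑ i, b i * algebraMap C B (z i) := by
      rw [map_sum, Finset.mul_sum]
      refine Finset.sum_congr rfl (fun i _ => ?_)
      rw [map_mul, hc' i, mul_assoc]
    rw [this]
    exact Ideal.mul_mem_left _ _ h3
  rw [IsLocalization.mem_map_algebraMap_iff 𝔑.primeCompl] at h5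
  obtain ⟨⟨⟨a, ha⟩, ⟨s, hs⟩⟩, has⟩ := h5
  simp only at has
  rw [← map_mul, IsLocalization.eq_iff_exists 𝔑.primeCompl] at has
  obtain ⟨⟨s', hs'⟩, hs''⟩ := has
  simp only at hs''
  have h6 : (s' * s) * ∑ i, c i * z i ∈ 𝔑 ^ 2 ⊔ I := by
    have : (s' * s) * ∑ i, c i * z i = s' * a := by
      rw [← hs'']; ring
    rw [this]
    exact Ideal.mul_mem_left _ _ ha
  have h7 : c j ∈ 𝔑 := hkey (s' * s) (fun h => (h𝔑.mem_or_mem h).elim hs' hs) c h6 j
  have h8 : b j ∈ maximalIdeal B := by
    have h9 : algebraMap C B (c j) ∈ maximalIdeal B :=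
      (IsLocalization.AtPrime.to_map_mem_maximal_iff B 𝔑 (c j)).mpr h7
    rw [hc' j] at h9
    have hu : IsUnit (algebraMap C B t) := IsLocalization.map_units B ⟨t, ht⟩
    exact ((maximalIdeal.isMaximal B).isPrime.mem_or_mem h9).resolve_left
      (fun h => (mem_maximalIdeal _).mp h hu)
  rw [← hl j, IsLocalRing.residue_eq_zero_iff, ← hb j, hmL]
  exact Ideal.mem_map_of_mem _ h8

end Groth.Agent.Helper8.DifB
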