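import Mathlib
import Groth.Prelude.Def_Smoothing
import Groth.Agent.Lib.Helper7.Field.SmoothSub

/-!
# Separable residue fields, I: separable field extensions are ind-smooth; resolving via ind-smooth
-/

set_option autoImplicit false
universe u

namespace Groth.Agent.Helper8.SepR

open Smoothing

/-- A geometrically reduced (separable) field extension is ind-smooth. -/
theorem indSmooth_of_isGeometricallyReduced (k K : Type u) [Field k] [Field K] [Algebra k K]
    [Algebra.IsGeometricallyReduced k K] : Smoothing.IndSmooth k K := by
  classical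
  intro A _ _ hfp f
  haveI := hfp
  obtain ⟨s, hs⟩ := (inferInstance : Algebra.FiniteType k A).out
  obtain ⟨B, hEB, hBsm⟩ := Groth.Agent.Helper7.SepSmooth.exists_smooth_subalgebra k K (s.image f)
  have hrange : ∀ a : A, f a ∈ B := by
    intro a
    have ha : a ∈ Algebra.adjoin k (s : Set A) := by rw [hs]; trivial
    induction ha using Algebra.adjoin_induction with
    | mem x hx =>
      apply hEB
      rw [Finset.coe_image]
      exact ⟨x, hx, rfl⟩
    | algebraMap r =>
      rw [f.commutes]
      exact B.algebraMap_mem r
    | add x y _ _ hx hy =>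
      rw [map_add]
      exact B.add_mem hx hy
    | mul x y _ _ hx hy =>
      rw [map_mul]
      exact B.mul_mem hx hy
  refine ⟨B, inferInstance, inferInstance, hBsm, f.codRestrict B hrange, B.val, ?_⟩
  ext a
  rfl

/-- The singular ideal of a smooth algebra is the unit ideal. -/
theorem singularIdeal_eq_top_of_smooth (R B : Type u) [CommRing R] [CommRing B] [Algebra R B]
    [Algebra.Smooth R B] : Smoothing.singularIdeal R B = ⊤ := by
  unfold Smoothing.singularIdeal
  have h : Algebra.smoothLocus R B = Set.univ := Algebra.smoothLocus_eq_univ_iff.mpr inferInstance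
  rw [h, Set.compl_univ, PrimeSpectrum.vanishingIdeal_empty]

/-- A problem whose target is ind-smooth can be resolved at any prime. -/
theorem resolvable_of_indSmooth {R A Λ : Type u} [CommRing R] [CommRing A] [Algebra R A]
    [Algebra.FinitePresentation R A] [CommRing Λ] [Algebra R Λ] (h : Smoothing.IndSmooth R Λ)
    (φ : A →ₐ[R] Λ) (𝔮 : Ideal Λ) [𝔮.IsPrime] : Smoothing.Resolvable R φ 𝔮 := by
  obtain ⟨B, _, _, hsm, g, h', hcomp⟩ := h A inferInstance φ
  haveI := hsm
  haveI : Algebra.FinitePresentation R B := hsm.finitePresentation
  have htop : Smoothing.singRad R h' = ⊤ := by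
    unfold Smoothing.singRad
    rw [singularIdeal_eq_top_of_smooth, Ideal.map_top, Ideal.radical_top]
  refine ⟨B, inferInstance, inferInstance, inferInstance, g, h', hcomp, ?_, ?_⟩
  · rw [htop]
    exact le_top
  · rw [htop]
    intro hcon
    exact (inferInstance : 𝔮.IsPrime).ne_top (top_le_iff.mp hcon)

end Groth.Agent.Helper8.SepR
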