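import Mathlib
import Groth.Prelude
import Groth.Agent.Lib.Helper2.SepMain
import Groth.Agent.Lib.Helper8.SepR1

/-! Differential bases of finitely generated field extensions and separability over the subfield
they generate. -/

namespace Groth.Agent.Helper8.InsB

universe u

/-- The differentials of a generating family span the module of differentials. -/
theorem span_D_generators {k F : Type*} [Field k] [Field F] [Algebra k F] {ι : Type*}
    (g : ι → F) (hg : IntermediateField.adjoin k (Set.range g) = ⊤) :
    Submodule.span F (Set.range fun l => KaehlerDifferential.D k F (g l)) = ⊤ := by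
  classical
  set W : Submodule F Ω[F⁄k] :=
    Submodule.span F (Set.range fun l => KaehlerDifferential.D k F (g l)) with hW
  let T : IntermediateField k F :=
    { carrier := {x | KaehlerDifferential.D k F x ∈ W}
      mul_mem' := by
        intro x y hx hy
        change KaehlerDifferential.D k F (x * y) ∈ W
        rw [Derivation.leibniz]
        exact W.add_mem (W.smul_mem _ hy) (W.smul_mem _ hx)
      one_mem' := by
        change KaehlerDifferential.D k F 1 ∈ W
        rw [Derivation.map_one_eq_zero]
        exact W.zero_mem
      add_mem' := by
        intro x y hx hy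
        change KaehlerDifferential.D k F (x + y) ∈ W
        rw [map_add]
        exact W.add_mem hx hy
      zero_mem' := by
        change KaehlerDifferential.D k F 0 ∈ W
        rw [map_zero]
        exact W.zero_mem
      algebraMap_mem' := by
        intro a
        change KaehlerDifferential.D k F (algebraMap k F a) ∈ W
        rw [Derivation.map_algebraMap]
        exact W.zero_mem
      inv_mem' := by
        intro x hx
        change KaehlerDifferential.D k F x⁻¹ ∈ W
        by_cases hx0 : x = 0
        · rw [hx0, inv_zero, map_zero]
          exact W.zero_mem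
        · have h1 : KaehlerDifferential.D k F (x * x⁻¹) = 0 := by
            rw [mul_inv_cancel₀ hx0, Derivation.map_one_eq_zero]
          rw [Derivation.leibniz] at h1
          have h2 : KaehlerDifferential.D k F x⁻¹ =
              -(x⁻¹ • (x⁻¹ • KaehlerDifferential.D k F x)) := by
            have h3 : x • KaehlerDifferential.D k F x⁻¹ = -(x⁻¹ • KaehlerDifferential.D k F x) :=
              eq_neg_of_add_eq_zero_left h1
            rw [← smul_neg, ← h3, smul_smul, inv_mul_cancel₀ hx0, one_smul]
          rw [h2]
          exact W.neg_mem (W.smul_mem _ (W.smul_mem _ hx)) }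
  have hT : ∀ x, x ∈ T ↔ KaehlerDifferential.D k F x ∈ W := fun x => Iff.rfl
  have hle : IntermediateField.adjoin k (Set.range g) ≤ T := by
    rw [IntermediateField.adjoin_le_iff]
    rintro _ ⟨l, rfl⟩
    exact Submodule.subset_span ⟨l, rfl⟩
  rw [hg] at hle
  rw [eq_top_iff, ← KaehlerDifferential.span_range_derivation, Submodule.span_le]
  rintro _ ⟨x, rfl⟩
  exact (hT x).mp (hle (IntermediateField.mem_top))

/-- A finitely generated field extension has a differential basis among any finite family of
generators. -/
theorem exists_differential_basis {k F : Type*} [Field k] [Field F] [Algebra k F] {r : ℕ}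
    (g : Fin r → F) (hg : IntermediateField.adjoin k (Set.range g) = ⊤) :
    ∃ (t : ℕ) (J : Fin t → Fin r),
      LinearIndependent F (fun j => KaehlerDifferential.D k F (g (J j))) ∧
      Submodule.span F (Set.range fun j => KaehlerDifferential.D k F (g (J j))) = ⊤ := by
  classical
  obtain ⟨κ, a, ha, hsp, hli⟩ := exists_linearIndependent' F
    (fun l => KaehlerDifferential.D k F (g l))
  haveI : Finite κ := Finite.of_injective a ha
  haveI : Fintype κ := Fintype.ofFinite κ
  let eqv := Fintype.equivFin κ
  refine ⟨Fintype.card κ, a ∘ eqv.symm, ?_, ?_⟩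
  · exact hli.comp eqv.symm eqv.symm.injective
  · rw [← span_D_generators g hg, ← hsp]
    congr 1
    ext x
    constructor
    · rintro ⟨j, rfl⟩
      exact ⟨eqv.symm j, rfl⟩
    · rintro ⟨j, rfl⟩
      exact ⟨eqv j, by simp⟩

/-- A finitely generated field extension is formally smooth (indeed finite separable) over any
subfield containing a family whose differentials span. -/
theorem formallySmooth_of_span_D {k κ F : Type u} [Field k] [Field κ] [Field F] [Algebra k F]
    [Algebra k κ] [Algebra κ F] [IsScalarTower k κ F] {r : ℕ}
    (g : Fin r → F) (hg : IntermediateField.adjoin k (Set.range g) = ⊤) {t : ℕ}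
    (y : Fin t → F)
    (hy : Submodule.span F (Set.range fun j => KaehlerDifferential.D k F (y j)) = ⊤)
    (hκ : ∀ j, y j ∈ Set.range (algebraMap κ F)) : Algebra.FormallySmooth κ F := by
  classical
  -- the differentials over `κ` vanish
  haveI hsub : Subsingleton Ω[F⁄κ] := by
    have hmap : ∀ w : Ω[F⁄k], KaehlerDifferential.map k κ F F w = 0 := by
      intro w
      have hw : w ∈ Submodule.span F (Set.range fun j => KaehlerDifferential.D k F (y j)) := by
        rw [hy]; trivial
      induction hw using Submodule.span_induction with
      | mem x hx =>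
        obtain ⟨j, rfl⟩ := hx
        obtain ⟨c, hc⟩ := hκ j
        rw [KaehlerDifferential.map_D, ← hc]
        change KaehlerDifferential.D κ F (algebraMap κ F c) = 0
        exact Derivation.map_algebraMap _ _
      | zero => exact map_zero _
      | add x z _ _ hx hz => rw [map_add, hx, hz, add_zero]
      | smul a x _ hx => rw [map_smul, hx, smul_zero]
    have htop : (⊤ : Submodule F Ω[F⁄κ]) = ⊥ := by
      rw [← KaehlerDifferential.span_range_derivation, Submodule.span_eq_bot]
      rintro _ ⟨x, rfl⟩
      have h1 := hmap (KaehlerDifferential.D k F x)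
      rw [KaehlerDifferential.map_D] at h1
      exact h1
    refine ⟨fun a b => ?_⟩
    have ha : a ∈ (⊤ : Submodule F Ω[F⁄κ]) := trivial
    have hb : b ∈ (⊤ : Submodule F Ω[F⁄κ]) := trivial
    rw [htop, Submodule.mem_bot] at ha hb
    rw [ha, hb]
  haveI : Algebra.FormallyUnramified κ F := ⟨hsub⟩
  haveI : Algebra.EssFiniteType k F := by
    rw [← IntermediateField.fg_top_iff]
    refine ⟨Finset.univ.image g, ?_⟩
    rw [Finset.coe_image, Finset.coe_univ, Set.image_univ]
    exact hg
  haveI : Algebra.EssFiniteType κ F := Algebra.EssFiniteType.of_comp k κ F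
  haveI : Algebra.IsSeparable κ F := Algebra.FormallyUnramified.isSeparable κ F
  haveI : Algebra.FormallyEtale κ F := Algebra.FormallyEtale.of_isSeparable κ F
  infer_instance

/-- In the situation of `formallySmooth_of_span_D` the extension is ind-smooth. -/
theorem indSmooth_of_span_D {k κ F : Type u} [Field k] [Field κ] [Field F] [Algebra k F]
    [Algebra k κ] [Algebra κ F] [IsScalarTower k κ F] {r : ℕ}
    (g : Fin r → F) (hg : IntermediateField.adjoin k (Set.range g) = ⊤) {t : ℕ}
    (y : Fin t → F)
    (hy : Submodule.span F (Set.range fun j => KaehlerDifferential.D k F (y j)) = ⊤)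
    (hκ : ∀ j, y j ∈ Set.range (algebraMap κ F)) : Smoothing.IndSmooth κ F := by
  haveI := formallySmooth_of_span_D g hg y hy hκ
  haveI : Algebra.IsGeometricallyReduced κ F :=
    (Groth.Agent.Helper2.Sep.formallySmooth_iff_isGeometricallyReduced κ F).mp inferInstance
  exact Groth.Agent.Helper8.SepR.indSmooth_of_isGeometricallyReduced κ F

end Groth.Agent.Helper8.InsB
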