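import Mathlib
import Groth.Agent.S2032

/-!
# Lifting standard smooth algebras along a surjection of base rings
-/

set_option autoImplicit false
universe u

namespace Groth.Agent.Helper8.SmLift

open MvPolynomial

/-- A standard smooth algebra over a quotient `Rb` of `R` lifts to a standard smooth `R`-algebra. -/
theorem exists_lift_isStandardSmooth {R Rb Bb : Type u} [CommRing R] [CommRing Rb] [CommRing Bb]
    [Algebra R Rb] [Algebra Rb Bb] [Algebra R Bb] [IsScalarTower R Rb Bb]
    (hR : Function.Surjective (algebraMap R Rb)) [hstd : Algebra.IsStandardSmooth Rb Bb] :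
    ∃ (B : Type u) (_ : CommRing B) (_ : Algebra R B), Algebra.IsStandardSmooth R B ∧
      ∃ q : B →ₐ[R] Bb, Function.Surjective q ∧
        RingHom.ker q = (RingHom.ker (algebraMap R Rb)).map (algebraMap R B) := by
  classical
  obtain ⟨ι, σ, hσ, hι, ⟨P₀⟩⟩ := hstd.out
  haveI := Fintype.ofFinite ι
  haveI := Fintype.ofFinite σ
  let n := Fintype.card ι
  let c := Fintype.card σ
  let P : Algebra.SubmersivePresentation Rb Bb (Fin n) (Fin c) :=
    P₀.reindex (Fintype.equivFin ι).symm (Fintype.equivFin σ).symm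
  -- lift the relations
  have hmapsurj : Function.Surjective (MvPolynomial.map (σ := Fin n) (algebraMap R Rb)) :=
    MvPolynomial.map_surjective _ hR
  choose v hv using fun j : Fin c => hmapsurj (P.relation j)
  let 𝔞 : Ideal (MvPolynomial (Fin n) R) := Ideal.span (Set.range v)
  let Cq := MvPolynomial (Fin n) R ⧸ 𝔞
  let Δ : MvPolynomial (Fin n) R := Matrix.det (Matrix.of fun j k : Fin c => pderiv (P.map k) (v j))
  let b : Cq := Ideal.Quotient.mk 𝔞 Δ
  let T := Localization.Away b
  have hstdT : Algebra.IsStandardSmooth R T := by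
    refine Groth.Agent.S2032.isStandardSmooth_of_naive v P.map P.map_inj T b ?_
    exact IsLocalization.Away.algebraMap_isUnit b
  -- the map to `Bb`
  let q₀ : MvPolynomial (Fin n) R →ₐ[R] Bb := aeval P.val
  have hq₀ : ∀ p, q₀ p = algebraMap P.Ring Bb (MvPolynomial.map (algebraMap R Rb) p) := by
    intro p
    rw [Algebra.Generators.algebraMap_apply]
    exact (MvPolynomial.aeval_map_algebraMap (R := R) (A := Rb) (B := Bb) P.val p).symm
  have hq₀v : ∀ j, q₀ (v j) = 0 := by
    intro j
    rw [hq₀, hv]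
    have : P.relation j ∈ P.ker := P.relation_mem_ker j
    exact this
  have h𝔞 : 𝔞 ≤ RingHom.ker q₀ := by
    rw [Ideal.span_le]
    rintro _ ⟨j, rfl⟩
    exact hq₀v j
  let q₁ : Cq →ₐ[R] Bb := Ideal.Quotient.liftₐ 𝔞 q₀ h𝔞
  have hq₁ : ∀ p, q₁ (Ideal.Quotient.mk 𝔞 p) = q₀ p := fun p => rfl
  have hunit : IsUnit (q₁ b) := by
    rw [hq₁, hq₀]
    have hj := P.jacobian_isUnit
    rw [Algebra.PreSubmersivePresentation.jacobian_eq_jacobiMatrix_det] at hj
    convert hj using 2
    rw [RingHom.map_det, ← Matrix.det_transpose]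
    congr 1
    refine Matrix.ext fun i j => ?_
    simp only [RingHom.mapMatrix_apply, Matrix.map_apply, Matrix.of_apply, Matrix.transpose_apply,
      Algebra.PreSubmersivePresentation.jacobiMatrix_apply]
    rw [← hv, MvPolynomial.pderiv_map]
  let q : T →ₐ[R] Bb := IsLocalization.liftAlgHom (M := Submonoid.powers b) (f := q₁) (by
    rintro ⟨_, k, rfl⟩
    rw [map_pow]
    exact hunit.pow k)
  have hqalg : ∀ x : Cq, q (algebraMap Cq T x) = q₁ x := fun x => by
    simp [q]
  have hsurj₀ : Function.Surjective q₀ := by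
    intro y
    obtain ⟨p', hp'⟩ := P.algebraMap_surjective y
    obtain ⟨p, rfl⟩ := hmapsurj p'
    exact ⟨p, (hq₀ p).trans hp'⟩
  refine ⟨T, inferInstance, inferInstance, hstdT, q, ?_, ?_⟩
  · intro y
    obtain ⟨p, rfl⟩ := hsurj₀ y
    exact ⟨algebraMap Cq T (Ideal.Quotient.mk 𝔞 p), by rw [hqalg, hq₁]⟩
  · apply le_antisymm
    · intro x hx
      rw [RingHom.mem_ker] at hx
      obtain ⟨x', ⟨_, k, rfl⟩, rfl⟩ := IsLocalization.exists_mk'_eq (Submonoid.powers b) x
      have h1 : q₁ x' = 0 := by
        have h2 := IsLocalization.mk'_spec T x' ⟨b ^ k, Submonoid.pow_mem _ (Submonoid.mem_powers b) k⟩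
        have h3 := congrArg q h2
        rw [map_mul, hx, zero_mul, hqalg] at h3
        exact h3.symm
      obtain ⟨p, rfl⟩ := Ideal.Quotient.mk_surjective x'
      rw [hq₁, hq₀] at h1
      have h4 : MvPolynomial.map (algebraMap R Rb) p ∈ Ideal.span (Set.range P.relation) := by
        rw [P.span_range_relation_eq_ker]
        exact h1
      have h5 : Ideal.span (Set.range P.relation) =
          𝔞.map (MvPolynomial.map (σ := Fin n) (algebraMap R Rb)) := by
        rw [Ideal.map_span, ← Set.range_comp]
        congr 2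
        funext j
        exact (hv j).symm
      rw [h5, Ideal.mem_map_iff_of_surjective _ hmapsurj] at h4
      obtain ⟨p', hp', hpp'⟩ := h4
      have h6 : p - p' ∈ RingHom.ker (MvPolynomial.map (σ := Fin n) (algebraMap R Rb)) := by
        rw [RingHom.mem_ker, map_sub, hpp', sub_self]
      rw [MvPolynomial.ker_map] at h6
      have h7 : Ideal.Quotient.mk 𝔞 p = Ideal.Quotient.mk 𝔞 (p - p') := by
        rw [map_sub, Ideal.Quotient.eq_zero_iff_mem.mpr hp', sub_zero]
      have h8 : Ideal.Quotient.mk 𝔞 p ∈ (RingHom.ker (algebraMap R Rb)).map (algebraMap R Cq) := by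
        rw [h7]
        have : algebraMap R Cq = (Ideal.Quotient.mk 𝔞).comp (C : R →+* MvPolynomial (Fin n) R) := by
          ext r
          rfl
        rw [this, ← Ideal.map_map]
        exact Ideal.mem_map_of_mem _ h6
      have h9 : algebraMap R T = (algebraMap Cq T).comp (algebraMap R Cq) :=
        IsScalarTower.algebraMap_eq R Cq T
      rw [h9, ← Ideal.map_map, IsLocalization.mk'_mem_map_algebraMap_iff (Submonoid.powers b)]
      exact ⟨1, one_mem _, by simpa using h8⟩
    · rw [Ideal.map_le_iff_le_comap]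
      intro r hr
      rw [Ideal.mem_comap, RingHom.mem_ker, AlgHom.commutes, IsScalarTower.algebraMap_apply R Rb Bb,
        (RingHom.mem_ker).mp hr, map_zero]

end Groth.Agent.Helper8.SmLift
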