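import Mathlib
import Groth.Prelude.Def_Smoothing
import Groth.Agent.Lib.Helper8.SmLift1
import Groth.Agent.Lib.Helper7.SymTrick.Main

/-!
# Lifting once: factorization through a quotient of a smooth algebra
-/

set_option autoImplicit false
universe u

namespace Groth.Agent.Helper8.SmLift

open MvPolynomial TensorProduct

/-- An ind-smooth algebra (factorization form) has the factorization property through standard
smooth algebras. -/
theorem exists_factor_isStandardSmooth {Rb Λb : Type u} [CommRing Rb] [CommRing Λb] [Algebra Rb Λb]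
    (h : Smoothing.IndSmooth Rb Λb) (Ab : Type u) [CommRing Ab] [Algebra Rb Ab]
    [Algebra.FinitePresentation Rb Ab] (f : Ab →ₐ[Rb] Λb) :
    ∃ (Bb : Type u) (_ : CommRing Bb) (_ : Algebra Rb Bb), Algebra.IsStandardSmooth Rb Bb ∧
      ∃ (g : Ab →ₐ[Rb] Bb) (k : Bb →ₐ[Rb] Λb), k.comp g = f := by
  obtain ⟨B₁, _, _, hsm, g₁, k₁, hk₁⟩ := h Ab inferInstance f
  obtain ⟨Bb, _, _, _, _, _, ⟨ρ⟩, hstd⟩ :=
    Groth.Agent.Helper7.SymTrick.exists_smooth_retract_isStandardSmooth Rb B₁
  refine ⟨Bb, inferInstance, inferInstance, hstd, (IsScalarTower.toAlgHom Rb B₁ Bb).comp g₁,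
    k₁.comp (ρ.restrictScalars Rb), ?_⟩
  ext x
  simp only [AlgHom.comp_apply, IsScalarTower.coe_toAlgHom', AlgHom.coe_restrictScalars',
    AlgHom.commutes]
  rw [← hk₁]
  rfl

/-- Elements of an extended ideal are finite combinations, with a common finite set of
coefficients from the ideal. -/
theorem exists_finset_sum_of_mem_map {R Λ : Type u} [CommRing R] [CommRing Λ] [Algebra R Λ]
    (I : Ideal R) {n : ℕ} (δ : Fin n → Λ) (hδ : ∀ i, δ i ∈ I.map (algebraMap R Λ)) :
    ∃ (t : Finset R) (l : Fin n → R → Λ), (∀ r ∈ t, r ∈ I) ∧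
      ∀ i, δ i = ∑ r ∈ t, algebraMap R Λ r * l i r := by
  classical
  have h1 : ∀ i, ∃ c : R →₀ Λ, c ∈ Finsupp.supported Λ Λ (I : Set R) ∧
      Finsupp.linearCombination Λ (algebraMap R Λ) c = δ i := by
    intro i
    have := hδ i
    rw [Ideal.map, Ideal.span] at this
    exact (Finsupp.mem_span_image_iff_linearCombination Λ).mp this
  choose c hc1 hc2 using h1
  refine ⟨Finset.univ.biUnion (fun i => (c i).support), fun i r => c i r, ?_, ?_⟩
  · intro r hr
    rw [Finset.mem_biUnion] at hr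
    obtain ⟨i, -, hi⟩ := hr
    exact (Finsupp.mem_supported Λ (c i)).mp (hc1 i) hi
  · intro i
    rw [← hc2 i, Finsupp.linearCombination_apply, Finsupp.sum]
    rw [Finset.sum_subset (s₁ := (c i).support)
      (s₂ := Finset.univ.biUnion (fun i => (c i).support))]
    · refine Finset.sum_congr rfl fun r _ => ?_
      rw [smul_eq_mul, mul_comm]
    · exact Finset.subset_biUnion_of_mem (fun i => (c i).support) (Finset.mem_univ i)
    · intro r _ hr
      rw [Finsupp.notMem_support_iff] at hr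
      rw [hr, zero_smul]

/-- Lifting once, for a general thickening `R → Rb`, `Λ → Λb` with square-zero kernels `I`, `IΛ`. -/
theorem lift_once {R Rb Λ Λb A : Type u} [CommRing R] [CommRing Rb] [CommRing Λ] [CommRing Λb]
    [Algebra R Rb] [Algebra R Λ] [Algebra Rb Λb] [Algebra R Λb] [IsScalarTower R Rb Λb]
    (I : Ideal R) (hI : I ^ 2 = ⊥)
    (hR : Function.Surjective (algebraMap R Rb)) (hkerR : RingHom.ker (algebraMap R Rb) = I)
    (p : Λ →ₐ[R] Λb) (hp : Function.Surjective p)
    (hkerp : RingHom.ker p = I.map (algebraMap R Λ))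
    (h : Smoothing.IndSmooth Rb Λb)
    [CommRing A] [Algebra R A] [Algebra.FinitePresentation R A] (φ : A →ₐ[R] Λ) :
    ∃ (B : Type u) (_ : CommRing B) (_ : Algebra R B), Algebra.Smooth R B ∧
      ∃ J : Ideal B, J ≤ I.map (algebraMap R B) ∧ J.FG ∧
        ∃ (g : A →ₐ[R] B ⧸ J) (k : (B ⧸ J) →ₐ[R] Λ), k.comp g = φ := by
  classical
  let φb : Rb ⊗[R] A →ₐ[Rb] Λb :=
    Algebra.TensorProduct.lift (Algebra.ofId Rb Λb) (p.comp φ) (fun _ _ => Commute.all _ _)
  have hφb : ∀ a, φb (1 ⊗ₜ a) = p (φ a) := fun a => by simp [φb]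
  obtain ⟨Bb, _, _, hstd, gb, kb, hkg⟩ := exists_factor_isStandardSmooth h (Rb ⊗[R] A) φb
  letI : Algebra R Bb := Algebra.compHom Bb (algebraMap R Rb)
  haveI : IsScalarTower R Rb Bb := IsScalarTower.of_algebraMap_eq (fun _ => rfl)
  obtain ⟨B₁, _, _, hstd₁, q, hq, hkerq⟩ :=
    exists_lift_isStandardSmooth (R := R) (Rb := Rb) (Bb := Bb) hR
  rw [hkerR] at hkerq
  haveI : Algebra.Smooth R B₁ := inferInstance
  have hnil : IsNilpotent (RingHom.ker (p : Λ →+* Λb)) := by
    refine ⟨2, ?_⟩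
    have : RingHom.ker (p : Λ →+* Λb) = I.map (algebraMap R Λ) := hkerp
    rw [this, ← Ideal.map_pow, hI, Ideal.map_bot]
    rfl
  let ψ : B₁ →ₐ[R] Λ :=
    Algebra.FormallySmooth.liftOfSurjective ((kb.restrictScalars R).comp q) p hp hnil
  have hψ : ∀ x, p (ψ x) = kb (q x) := fun x =>
    congr($(Algebra.FormallySmooth.comp_liftOfSurjective ((kb.restrictScalars R).comp q) p hp hnil) x)
  obtain ⟨n, θ, hθ, hfg⟩ := Algebra.FinitePresentation.out (R := R) (A := A)
  let a : Fin n → A := fun i => θ (X i)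
  choose b hb using fun i => hq (gb (1 ⊗ₜ a i))
  have hδ : ∀ i, φ (a i) - ψ (b i) ∈ I.map (algebraMap R Λ) := by
    intro i
    rw [← hkerp, RingHom.mem_ker, map_sub, hψ, hb, ← hφb, ← hkg]
    simp
  obtain ⟨t, l, ht, hl⟩ := exists_finset_sum_of_mem_map I _ hδ
  let B := MvPolynomial (Fin n × ↥t) B₁
  haveI : Algebra.Smooth B₁ B := ⟨inferInstance, inferInstance⟩
  haveI : Algebra.Smooth R B := Algebra.Smooth.comp R B₁ B
  letI : Algebra B₁ Λ := ψ.toRingHom.toAlgebra
  haveI : IsScalarTower R B₁ Λ := IsScalarTower.of_algebraMap_eq (fun r => (ψ.commutes r).symm)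
  let ψ' : B →ₐ[R] Λ :=
    (MvPolynomial.aeval (fun ir : Fin n × ↥t => l ir.1 ir.2.1) : B →ₐ[B₁] Λ).restrictScalars R
  let b' : Fin n → B := fun i => C (b i) + ∑ r : ↥t, algebraMap R B r.1 * X (i, r)
  have hψ'b' : ∀ i, ψ' (b' i) = φ (a i) := by
    intro i
    have h1 : ψ' (C (b i)) = ψ (b i) :=
      (MvPolynomial.aeval_C (fun ir : Fin n × ↥t => l ir.1 ir.2.1) (b i)).trans rfl
    have h2 : ∀ r : ↥t, ψ' (algebraMap R B r.1 * X (i, r)) = algebraMap R Λ r.1 * l i r.1 := by
      intro r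
      rw [map_mul, AlgHom.commutes]
      congr 1
      exact MvPolynomial.aeval_X (fun ir : Fin n × ↥t => l ir.1 ir.2.1) (i, r)
    simp only [b', map_add, map_sum, h1, h2]
    rw [Finset.sum_coe_sort t (fun r => algebraMap R Λ r * l i r), ← hl i]
    ring
  let θB : MvPolynomial (Fin n) R →ₐ[R] B := aeval b'
  let J : Ideal B := (RingHom.ker θ).map θB
  have hJfg : J.FG := Ideal.FG.map hfg _
  have hcomp : ψ'.comp θB = φ.comp θ := by
    apply MvPolynomial.algHom_ext
    intro i
    simp only [AlgHom.comp_apply, θB, aeval_X, hψ'b']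
    rfl
  have hJle : J ≤ I.map (algebraMap R B) := by
    let γ : MvPolynomial (Fin n) R →ₐ[R] Bb := aeval (fun i => q (b i))
    have hγ : γ = ((gb.restrictScalars R).comp
        (Algebra.TensorProduct.includeRight : A →ₐ[R] Rb ⊗[R] A)).comp θ := by
      apply MvPolynomial.algHom_ext
      intro i
      simp only [γ, aeval_X, hb, AlgHom.comp_apply, AlgHom.coe_restrictScalars',
        Algebra.TensorProduct.includeRight_apply]
      rfl
    have hcomp2 : (MvPolynomial.mapAlgHom (σ := Fin n × ↥t) q).comp θB =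
        (IsScalarTower.toAlgHom R Bb (MvPolynomial (Fin n × ↥t) Bb)).comp γ := by
      apply MvPolynomial.algHom_ext
      intro i
      have h3 : ∀ r : ↥t, algebraMap R (MvPolynomial (Fin n × ↥t) Bb) r.1 = 0 := by
        intro r
        rw [IsScalarTower.algebraMap_apply R Bb, IsScalarTower.algebraMap_apply R Rb Bb]
        have : algebraMap R Rb r.1 = 0 := by
          rw [← RingHom.mem_ker, hkerR]
          exact ht r.1 r.2
        rw [this, map_zero, map_zero]
      have h5 : ∀ r : ↥t, (MvPolynomial.mapAlgHom (σ := Fin n × ↥t) q)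
          (algebraMap R B r.1 * X (i, r)) = 0 := by
        intro r
        rw [map_mul, AlgHom.commutes, h3, zero_mul]
      have h6 : (MvPolynomial.mapAlgHom (σ := Fin n × ↥t) q) (C (b i)) = C (q (b i)) := by
        simp [MvPolynomial.mapAlgHom_apply]
      simp only [AlgHom.comp_apply, θB, γ, aeval_X, b', map_add, map_sum, h5, h6,
        Finset.sum_const_zero, add_zero, IsScalarTower.coe_toAlgHom']
      rw [MvPolynomial.algebraMap_eq]
    have hker : RingHom.ker (MvPolynomial.mapAlgHom (σ := Fin n × ↥t) q) =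
        I.map (algebraMap R B) := by
      rw [MvPolynomial.ker_mapAlgHom, hkerq, Ideal.map_map]
      congr 1
    rw [← hker, Ideal.map_le_iff_le_comap]
    intro f hf
    rw [Ideal.mem_comap, RingHom.mem_ker]
    have := congr($hcomp2 f)
    simp only [AlgHom.comp_apply] at this
    rw [this, hγ]
    simp only [AlgHom.comp_apply]
    rw [(RingHom.mem_ker).mp hf]
    simp
  have hJker : J ≤ RingHom.ker ψ' := by
    rw [Ideal.map_le_iff_le_comap]
    intro f hf
    rw [Ideal.mem_comap, RingHom.mem_ker]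
    have := congr($hcomp f)
    simp only [AlgHom.comp_apply] at this
    rw [this, (RingHom.mem_ker).mp hf, map_zero]
  let k : B ⧸ J →ₐ[R] Λ := Ideal.Quotient.liftₐ J ψ' hJker
  let e := Ideal.quotientKerAlgEquivOfSurjective hθ
  let g₀ : (MvPolynomial (Fin n) R ⧸ RingHom.ker θ) →ₐ[R] B ⧸ J :=
    Ideal.Quotient.liftₐ _ ((Ideal.Quotient.mkₐ R J).comp θB) (by
      intro f hf
      simp only [AlgHom.comp_apply, Ideal.Quotient.mkₐ_eq_mk]
      rw [Ideal.Quotient.eq_zero_iff_mem]
      exact Ideal.mem_map_of_mem _ hf)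
  refine ⟨B, inferInstance, inferInstance, inferInstance, J, hJle, hJfg, g₀.comp e.symm.toAlgHom,
    k, ?_⟩
  ext x
  obtain ⟨f, rfl⟩ := hθ x
  have h4 : e.symm (θ f) = Ideal.Quotient.mk _ f := by
    rw [AlgEquiv.symm_apply_eq]
    rfl
  simp only [AlgHom.comp_apply, AlgEquiv.coe_toAlgHom, h4]
  have := congr($hcomp f)
  simp only [AlgHom.comp_apply] at this
  rw [← this]
  rfl

end Groth.Agent.Helper8.SmLift
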