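import Mathlib
import Groth.Prelude.Def_Smoothing
import Groth.Agent.Lib.Helper8.SmLift2

/-!
# Lifting twice: killing a finitely generated ideal contained in `IB`
-/

set_option autoImplicit false
universe u

namespace Groth.Agent.Helper8.SmLift

open MvPolynomial TensorProduct

theorem map_mul_eq_zero_of_sq_zero {R C : Type*} [CommRing R] [CommRing C] [Algebra R C]
    (I : Ideal R) (hI : I ^ 2 = ⊥) {r : R} (hr : r ∈ I) {z : C}
    (hz : z ∈ I.map (algebraMap R C)) : algebraMap R C r * z = 0 := by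
  have h1 : algebraMap R C r * z ∈ I.map (algebraMap R C) * I.map (algebraMap R C) :=
    Ideal.mul_mem_mul (Ideal.mem_map_of_mem _ hr) hz
  rw [← Ideal.map_mul, ← pow_two, hI, Ideal.map_bot] at h1
  exact h1

theorem isNilpotent_ker_of_sq_zero {R C D : Type*} [CommRing R] [CommRing C] [CommRing D]
    [Algebra R C] [Algebra R D]
    (I : Ideal R) (hI : I ^ 2 = ⊥) (q : C →ₐ[R] D)
    (hq : RingHom.ker q = I.map (algebraMap R C)) : IsNilpotent (RingHom.ker (q : C →+* D)) := by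
  refine ⟨2, ?_⟩
  have : RingHom.ker (q : C →+* D) = I.map (algebraMap R C) := hq
  rw [this, ← Ideal.map_pow, hI, Ideal.map_bot]
  rfl

/-- Lifting twice, for a general thickening `R → Rb`, `Λ → Λb` with square-zero kernels. -/
theorem lift_twice {R Rb Λ Λb B : Type u} [CommRing R] [CommRing Rb] [CommRing Λ] [CommRing Λb]
    [Algebra R Rb] [Algebra R Λ] [Algebra Rb Λb] [Algebra R Λb] [IsScalarTower R Rb Λb]
    [Module.Flat R Λ]
    (I : Ideal R) (hI : I ^ 2 = ⊥)
    (hR : Function.Surjective (algebraMap R Rb)) (hkerR : RingHom.ker (algebraMap R Rb) = I)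
    (p : Λ →ₐ[R] Λb) (hp : Function.Surjective p)
    (hkerp : RingHom.ker p = I.map (algebraMap R Λ))
    (h : Smoothing.IndSmooth Rb Λb)
    [CommRing B] [Algebra R B] [Algebra.Smooth R B] (φ : B →ₐ[R] Λ) (J : Ideal B)
    (hJ : J ≤ I.map (algebraMap R B)) (hJfg : J.FG) (hφJ : ∀ x ∈ J, φ x = 0) :
    ∃ (B' : Type u) (_ : CommRing B') (_ : Algebra R B'), Algebra.Smooth R B' ∧
      ∃ (α : B →ₐ[R] B') (β : B' →ₐ[R] Λ), (∀ x ∈ J, α x = 0) ∧
        ∀ b : B, β (α b) - φ b ∈ I.map (algebraMap R Λ) := by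
  classical
  obtain ⟨m, jgen, hjgen⟩ := Submodule.fg_iff_exists_fin_generating_family.mp hJfg
  have hjmem : ∀ l, jgen l ∈ J := fun l => hjgen ▸ Ideal.subset_span ⟨l, rfl⟩
  obtain ⟨t, c, ht, hc⟩ := exists_finset_sum_of_mem_map I jgen (fun l => hJ (hjmem l))
  -- the relations in `Λ`
  have hrel : ∀ l, ∑ r : ↥t, r.1 • φ (c l r.1) = 0 := by
    intro l
    have h1 := hφJ _ (hjmem l)
    rw [hc l, map_sum] at h1
    rw [← h1, ← Finset.sum_coe_sort t (fun r => φ (algebraMap R B r * c l r))]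
    refine Finset.sum_congr rfl fun r _ => ?_
    rw [map_mul, AlgHom.commutes, Algebra.smul_def]
  have htriv : ∀ l, Module.IsTrivialRelation (fun r : ↥t => r.1) (fun r : ↥t => φ (c l r.1)) :=
    fun l => Module.Flat.isTrivialRelation_of_sum_smul_eq_zero (R := R) (M := Λ) (hrel l)
  choose k a y hy ha using htriv
  replace hy : ∀ (l : Fin m) (r : ↥t), φ (c l r.1) = ∑ j, a l r j • y l j := hy
  replace ha : ∀ (l : Fin m) (j : Fin (k l)), ∑ r : ↥t, r.1 * a l r j = 0 := ha
  -- the finitely presented `Rb`-algebra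
  let σ := Σ l : Fin m, Fin (k l)
  let Pb := MvPolynomial σ (Rb ⊗[R] B)
  let rel : Fin m × ↥t → Pb := fun lr =>
    C (1 ⊗ₜ c lr.1 lr.2.1) - ∑ j : Fin (k lr.1), algebraMap Rb Pb (algebraMap R Rb (a lr.1 lr.2 j)) * X ⟨lr.1, j⟩
  let 𝔯 : Ideal Pb := Ideal.span (Set.range rel)
  let Db := Pb ⧸ 𝔯
  haveI : Algebra.FinitePresentation (Rb ⊗[R] B) Pb := inferInstance
  haveI : Algebra.FinitePresentation Rb Pb := Algebra.FinitePresentation.trans Rb (Rb ⊗[R] B) Pb
  haveI : Algebra.FinitePresentation Rb Db :=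
    Algebra.FinitePresentation.quotient (Submodule.fg_span (Set.finite_range rel))
  -- the map to `Λb`
  let φBb : Rb ⊗[R] B →ₐ[Rb] Λb :=
    Algebra.TensorProduct.lift (Algebra.ofId Rb Λb) (p.comp φ) (fun _ _ => Commute.all _ _)
  have hφBb : ∀ b, φBb (1 ⊗ₜ b) = p (φ b) := fun b => by simp [φBb]
  letI : Algebra (Rb ⊗[R] B) Λb := φBb.toRingHom.toAlgebra
  haveI : IsScalarTower Rb (Rb ⊗[R] B) Λb :=
    IsScalarTower.of_algebraMap_eq (fun r => (φBb.commutes r).symm)
  let φP : Pb →ₐ[Rb] Λb :=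
    (MvPolynomial.aeval (fun lj : σ => p (y lj.1 lj.2)) : Pb →ₐ[Rb ⊗[R] B] Λb).restrictScalars Rb
  have hφPC : ∀ x : Rb ⊗[R] B, φP (C x) = φBb x := fun x =>
    (MvPolynomial.aeval_C (fun lj : σ => p (y lj.1 lj.2)) x).trans rfl
  have hφPX : ∀ lj : σ, φP (X lj) = p (y lj.1 lj.2) := fun lj =>
    MvPolynomial.aeval_X (fun lj : σ => p (y lj.1 lj.2)) lj
  have hφPrel : ∀ lr, φP (rel lr) = 0 := by
    rintro ⟨l, r⟩
    simp only [rel, map_sub, map_sum, map_mul, hφPC, hφPX, hφBb, AlgHom.commutes]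
    rw [hy l r, map_sum, sub_eq_zero]
    refine Finset.sum_congr rfl fun j _ => ?_
    rw [map_smul, Algebra.smul_def, IsScalarTower.algebraMap_apply R Rb Λb]
  have h𝔯 : 𝔯 ≤ RingHom.ker φP := by
    rw [Ideal.span_le]
    rintro _ ⟨lr, rfl⟩
    exact hφPrel lr
  let φD : Db →ₐ[Rb] Λb := Ideal.Quotient.liftₐ 𝔯 φP h𝔯
  obtain ⟨Cb, _, _, hstd, gC, kC, hkg⟩ := exists_factor_isStandardSmooth h Db φD
  letI : Algebra R Cb := Algebra.compHom Cb (algebraMap R Rb)
  haveI : IsScalarTower R Rb Cb := IsScalarTower.of_algebraMap_eq (fun _ => rfl)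
  obtain ⟨C', _, _, hstdC, q, hq, hkerq⟩ :=
    exists_lift_isStandardSmooth (R := R) (Rb := Rb) (Bb := Cb) hR
  rw [hkerR] at hkerq
  haveI : Algebra.Smooth R C' := inferInstance
  let ι : B →ₐ[R] Db := ((Ideal.Quotient.mkₐ R 𝔯).comp (IsScalarTower.toAlgHom R (Rb ⊗[R] B) Pb)).comp
    (Algebra.TensorProduct.includeRight : B →ₐ[R] Rb ⊗[R] B)
  have hι : ∀ b, ι b = Ideal.Quotient.mk 𝔯 (C (1 ⊗ₜ b)) := fun b => rfl
  have hnilq := isNilpotent_ker_of_sq_zero I hI q hkerq
  have hnilp := isNilpotent_ker_of_sq_zero I hI p hkerp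
  let α : B →ₐ[R] C' :=
    Algebra.FormallySmooth.liftOfSurjective ((gC.restrictScalars R).comp ι) q hq hnilq
  have hα : ∀ b, q (α b) = gC (ι b) := fun b =>
    congr($(Algebra.FormallySmooth.comp_liftOfSurjective ((gC.restrictScalars R).comp ι) q hq hnilq) b)
  let β : C' →ₐ[R] Λ :=
    Algebra.FormallySmooth.liftOfSurjective ((kC.restrictScalars R).comp q) p hp hnilp
  have hβ : ∀ x, p (β x) = kC (q x) := fun x =>
    congr($(Algebra.FormallySmooth.comp_liftOfSurjective ((kC.restrictScalars R).comp q) p hp hnilp) x)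
  refine ⟨C', inferInstance, inferInstance, inferInstance, α, β, ?_, ?_⟩
  · -- `α` kills `J`
    choose c' hc' using fun (l : Fin m) (j : Fin (k l)) =>
      hq (gC (Ideal.Quotient.mk 𝔯 (X (⟨l, j⟩ : σ))))
    have hz : ∀ (l : Fin m) (r : ↥t),
        α (c l r.1) - ∑ j, algebraMap R C' (a l r j) * c' l j ∈ I.map (algebraMap R C') := by
      intro l r
      rw [← hkerq, RingHom.mem_ker, map_sub, map_sum, hα, hι]
      have h1 : ∀ j, q (algebraMap R C' (a l r j) * c' l j) =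
          gC (Ideal.Quotient.mk 𝔯 (algebraMap Rb Pb (algebraMap R Rb (a l r j)) * X ⟨l, j⟩)) := by
        intro j
        rw [map_mul, AlgHom.commutes, hc', map_mul, map_mul]
        congr 1
        rw [IsScalarTower.algebraMap_apply R Rb Cb, ← gC.commutes]
        rfl
      simp only [h1]
      rw [← map_sum, ← map_sum, ← map_sub, ← map_sub]
      have h2 : Ideal.Quotient.mk 𝔯 (rel (l, r)) = 0 :=
        Ideal.Quotient.eq_zero_iff_mem.mpr (Ideal.subset_span ⟨(l, r), rfl⟩)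
      rw [show (C (1 ⊗ₜ[R] c l r.1) - ∑ j, algebraMap Rb Pb (algebraMap R Rb (a l r j)) * X ⟨l, j⟩ : Pb)
        = rel (l, r) from rfl, h2, map_zero]
    have hgen : ∀ l, α (jgen l) = 0 := by
      intro l
      rw [hc l, map_sum, ← Finset.sum_coe_sort t (fun r => α (algebraMap R B r * c l r))]
      have h3 : ∀ r : ↥t, α (algebraMap R B r.1 * c l r.1) =
          ∑ j, algebraMap R C' (r.1 * a l r j) * c' l j := by
        intro r
        rw [map_mul, AlgHom.commutes]
        have h4 := map_mul_eq_zero_of_sq_zero I hI (ht r.1 r.2) (hz l r)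
        rw [mul_sub, sub_eq_zero] at h4
        rw [h4, Finset.mul_sum]
        refine Finset.sum_congr rfl fun j _ => ?_
        rw [map_mul, mul_assoc]
      simp only [h3]
      rw [Finset.sum_comm]
      refine Finset.sum_eq_zero fun j _ => ?_
      rw [← Finset.sum_mul, ← map_sum, ha l j, map_zero, zero_mul]
    intro x hx
    rw [← hjgen] at hx
    have hle : Ideal.span (Set.range jgen) ≤ RingHom.ker α := by
      rw [Ideal.span_le]
      rintro _ ⟨l, rfl⟩
      exact hgen l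
    exact hle hx
  · intro b
    rw [← hkerp, RingHom.mem_ker, map_sub, hβ, hα, sub_eq_zero]
    have h5 := congr($hkg (ι b))
    rw [AlgHom.comp_apply] at h5
    rw [h5, hι]
    show φP (C (1 ⊗ₜ b)) = _
    rw [hφPC, hφBb]

end Groth.Agent.Helper8.SmLift
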