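import Mathlib
import Groth.Prelude.Def_Smoothing
import Groth.Agent.Lib.Helper8.SmLift3

/-!
# Square-zero deformation step for ind-smoothness
-/

set_option autoImplicit false
universe u

namespace Groth.Agent.Helper8.SmLift

open MvPolynomial TensorProduct

/-- An `R`-derivation of `B` preserves the extension of an ideal of `R`. -/
theorem derivation_mem_map {R B : Type*} [CommRing R] [CommRing B] [Algebra R B] (I : Ideal R)
    (θ : Derivation R B B) {x : B} (hx : x ∈ I.map (algebraMap R B)) :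
    θ x ∈ I.map (algebraMap R B) := by
  rw [Ideal.map, Ideal.span] at hx
  induction hx using Submodule.span_induction with
  | mem x hx =>
    obtain ⟨r, -, rfl⟩ := hx
    rw [Derivation.map_algebraMap]
    exact Ideal.zero_mem _
  | zero => rw [map_zero]; exact Ideal.zero_mem _
  | add x y _ _ hx hy => rw [map_add]; exact Ideal.add_mem _ hx hy
  | smul b x hx' hx =>
    rw [smul_eq_mul, Derivation.leibniz]
    refine Ideal.add_mem _ (Ideal.mul_mem_left _ _ hx) ?_
    rw [smul_eq_mul]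
    exact Ideal.mul_mem_right _ _ hx'

theorem algHom_mem_map {R B B' : Type*} [CommRing R] [CommRing B] [CommRing B'] [Algebra R B]
    [Algebra R B'] (I : Ideal R) (α : B →ₐ[R] B') {x : B} (hx : x ∈ I.map (algebraMap R B)) :
    α x ∈ I.map (algebraMap R B') := by
  have h1 : (I.map (algebraMap R B)).map (α : B →+* B') = I.map (algebraMap R B') := by
    rw [Ideal.map_map, AlgHom.comp_algebraMap]
  rw [← h1]
  exact Ideal.mem_map_of_mem _ hx

/-- The correction step: an approximate factorization killing `J ⊆ IB` can be made exact. -/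
theorem exists_exact_factor {R Λ B B' : Type u} [CommRing R] [CommRing Λ] [Algebra R Λ]
    (I : Ideal R) (hI : I ^ 2 = ⊥)
    [CommRing B] [Algebra R B] [Algebra.Smooth R B] [CommRing B'] [Algebra R B']
    [Algebra.Smooth R B']
    (φ : B →ₐ[R] Λ) (J : Ideal B) (hJ : J ≤ I.map (algebraMap R B))
    (α : B →ₐ[R] B') (β : B' →ₐ[R] Λ) (hα : ∀ x ∈ J, α x = 0)
    (hβ : ∀ b, β (α b) - φ b ∈ I.map (algebraMap R Λ)) :
    ∃ (B'' : Type u) (_ : CommRing B'') (_ : Algebra R B''), Algebra.Smooth R B'' ∧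
      ∃ (α' : B →ₐ[R] B'') (β' : B'' →ₐ[R] Λ), (∀ x ∈ J, α' x = 0) ∧ β'.comp α' = φ := by
  classical
  letI : Algebra B Λ := (β.comp α).toRingHom.toAlgebra
  haveI : IsScalarTower R B Λ :=
    IsScalarTower.of_algebraMap_eq (fun r => ((β.comp α).commutes r).symm)
  have halg : ∀ b : B, algebraMap B Λ b = β (α b) := fun b => rfl
  let IΛ : Ideal Λ := I.map (algebraMap R Λ)
  have hIΛ : IΛ ^ 2 = ⊥ := by rw [← Ideal.map_pow, hI, Ideal.map_bot]
  have he : (Ideal.Quotient.mkₐ R IΛ).comp φ = IsScalarTower.toAlgHom R B (Λ ⧸ IΛ) := by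
    ext b
    simp only [AlgHom.comp_apply, Ideal.Quotient.mkₐ_eq_mk, IsScalarTower.coe_toAlgHom']
    rw [IsScalarTower.algebraMap_apply B Λ (Λ ⧸ IΛ), halg, Ideal.Quotient.algebraMap_eq,
      Ideal.Quotient.eq, ← neg_sub]
    exact Ideal.neg_mem_iff _ |>.mpr (hβ b)
  let D : Derivation R B IΛ := derivationToSquareZeroOfLift IΛ hIΛ φ he
  have hD : ∀ b, (D b : Λ) = φ b - β (α b) := fun b => rfl
  let Dl : Ω[B⁄R] →ₗ[B] IΛ := D.liftKaehlerDifferential
  obtain ⟨N, f, g, -, -, hfg⟩ := Module.Finite.exists_comp_eq_id_of_projective B Ω[B⁄R]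
  let θ : Fin N → Derivation R B B :=
    fun k => (LinearMap.proj k ∘ₗ g).compDer (KaehlerDifferential.D R B)
  have hθ : ∀ k b, θ k b = g (KaehlerDifferential.D R B b) k := fun k b => rfl
  let μ : Fin N → Λ := fun k => (Dl (f (Pi.single k 1)) : Λ)
  have hμ : ∀ k, μ k ∈ IΛ := fun k => (Dl _).2
  have hDsum : ∀ b, φ b - β (α b) = ∑ k, β (α (θ k b)) * μ k := by
    intro b
    rw [← hD, ← Derivation.liftKaehlerDifferential_comp_D D b]
    have h1 : KaehlerDifferential.D R B b = f (g (KaehlerDifferential.D R B b)) := by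
      rw [← LinearMap.comp_apply, hfg, LinearMap.id_apply]
    have h2 : g (KaehlerDifferential.D R B b) =
        ∑ k, g (KaehlerDifferential.D R B b) k • (Pi.single k 1 : Fin N → B) := by
      ext j
      simp [Finset.sum_apply, Pi.single_apply]
    rw [h1, h2, map_sum, map_sum]
    simp only [map_smul, Submodule.coe_sum, Submodule.coe_smul_of_tower]
    refine Finset.sum_congr rfl fun k _ => ?_
    rw [Algebra.smul_def, halg, hθ]
  obtain ⟨t, l, ht, hl⟩ := exists_finset_sum_of_mem_map I μ hμ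
  let B'' := MvPolynomial (Fin N × ↥t) B'
  haveI : Algebra.Smooth B' B'' := ⟨inferInstance, inferInstance⟩
  haveI : Algebra.Smooth R B'' := Algebra.Smooth.comp R B' B''
  let α₀ : B →ₐ[R] B'' := (IsScalarTower.toAlgHom R B' B'').comp α
  have hα₀ : ∀ b, α₀ b = C (α b) := fun b => rfl
  letI : Algebra B B'' := α₀.toRingHom.toAlgebra
  haveI : IsScalarTower R B B'' := IsScalarTower.of_algebraMap_eq (fun r => (α₀.commutes r).symm)
  have halg'' : ∀ b : B, algebraMap B B'' b = C (α b) := fun b => rfl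
  let I'' : Ideal B'' := I.map (algebraMap R B'')
  have hI'' : I'' ^ 2 = ⊥ := by rw [← Ideal.map_pow, hI, Ideal.map_bot]
  let e : Fin N × ↥t → I'' := fun kr =>
    ⟨algebraMap R B'' kr.2.1 * X kr, Ideal.mul_mem_right _ _ (Ideal.mem_map_of_mem _ (ht _ kr.2.2))⟩
  let L : (Fin N → B) →ₗ[B] I'' :=
    ∑ kr : Fin N × ↥t, (LinearMap.toSpanSingleton B I'' (e kr)) ∘ₗ LinearMap.proj kr.1
  let δ : Derivation R B I'' := (L ∘ₗ g).compDer (KaehlerDifferential.D R B)
  have hδ : ∀ b, (δ b : B'') =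
      ∑ kr : Fin N × ↥t, C (α (θ kr.1 b)) * (algebraMap R B'' kr.2.1 * X kr) := by
    intro b
    show ((L (g (KaehlerDifferential.D R B b)) : I'') : B'') = _
    simp only [L, LinearMap.sum_apply, LinearMap.comp_apply, LinearMap.proj_apply,
      LinearMap.toSpanSingleton_apply, Submodule.coe_sum, Submodule.coe_smul_of_tower, e]
    refine Finset.sum_congr rfl fun kr _ => ?_
    rw [Algebra.smul_def, halg'', hθ]
  let α' : B →ₐ[R] B'' := liftOfDerivationToSquareZero I'' hI'' δ
  have hα' : ∀ b, α' b = (δ b : B'') + C (α b) := fun b =>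
    liftOfDerivationToSquareZero_apply I'' hI'' δ b
  letI : Algebra B' Λ := β.toRingHom.toAlgebra
  haveI : IsScalarTower R B' Λ := IsScalarTower.of_algebraMap_eq (fun r => (β.commutes r).symm)
  let β' : B'' →ₐ[R] Λ :=
    (MvPolynomial.aeval (fun kr : Fin N × ↥t => l kr.1 kr.2.1) : B'' →ₐ[B'] Λ).restrictScalars R
  have hβ'C : ∀ x : B', β' (C x) = β x := fun x =>
    (MvPolynomial.aeval_C (fun kr : Fin N × ↥t => l kr.1 kr.2.1) x).trans rfl
  have hβ'X : ∀ kr : Fin N × ↥t, β' (X kr) = l kr.1 kr.2.1 := fun kr =>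
    MvPolynomial.aeval_X (fun kr : Fin N × ↥t => l kr.1 kr.2.1) kr
  refine ⟨B'', inferInstance, inferInstance, inferInstance, α', β', ?_, ?_⟩
  · intro x hx
    rw [hα', hα x hx, map_zero, add_zero, hδ]
    refine Finset.sum_eq_zero fun kr _ => ?_
    have h3 : C (α (θ kr.1 x)) ∈ I.map (algebraMap R B'') := by
      have h4 := algHom_mem_map I α (derivation_mem_map I (θ kr.1) (hJ hx))
      exact algHom_mem_map I (IsScalarTower.toAlgHom R B' B'') h4
    rw [← mul_assoc, mul_comm (C _), map_mul_eq_zero_of_sq_zero I hI (ht _ kr.2.2) h3, zero_mul]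
  · ext b
    rw [AlgHom.comp_apply, hα', map_add, hβ'C, hδ, map_sum]
    have h5 : ∀ kr : Fin N × ↥t, β' (C (α (θ kr.1 b)) * (algebraMap R B'' kr.2.1 * X kr)) =
        β (α (θ kr.1 b)) * (algebraMap R Λ kr.2.1 * l kr.1 kr.2.1) := by
      intro kr
      rw [map_mul, map_mul, hβ'C, hβ'X, AlgHom.commutes]
    simp only [h5]
    rw [Fintype.sum_prod_type]
    have h6 : ∀ k : Fin N, ∑ r : ↥t, β (α (θ k b)) * (algebraMap R Λ r.1 * l k r.1) =
        β (α (θ k b)) * μ k := by
      intro k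
      rw [← Finset.mul_sum, hl k, ← Finset.sum_coe_sort t (fun r => algebraMap R Λ r * l k r)]
    simp only [h6]
    rw [← hDsum b]
    ring

/-- The square-zero step: a flat algebra which is ind-smooth modulo a square-zero ideal is
ind-smooth. -/
theorem indSmooth_of_sq_zero {R Rb Λ Λb : Type u} [CommRing R] [CommRing Rb] [CommRing Λ]
    [CommRing Λb]
    [Algebra R Rb] [Algebra R Λ] [Algebra Rb Λb] [Algebra R Λb] [IsScalarTower R Rb Λb]
    [Module.Flat R Λ]
    (I : Ideal R) (hI : I ^ 2 = ⊥)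
    (hR : Function.Surjective (algebraMap R Rb)) (hkerR : RingHom.ker (algebraMap R Rb) = I)
    (p : Λ →ₐ[R] Λb) (hp : Function.Surjective p)
    (hkerp : RingHom.ker p = I.map (algebraMap R Λ))
    (h : Smoothing.IndSmooth Rb Λb) : Smoothing.IndSmooth R Λ := by
  intro A _ _ hfp φ
  haveI := hfp
  obtain ⟨B, _, _, hB, J, hJ, hJfg, g, k, hkg⟩ := lift_once I hI hR hkerR p hp hkerp h φ
  haveI := hB
  let φB : B →ₐ[R] Λ := k.comp (Ideal.Quotient.mkₐ R J)
  have hφBJ : ∀ x ∈ J, φB x = 0 := by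
    intro x hx
    simp only [φB, AlgHom.comp_apply, Ideal.Quotient.mkₐ_eq_mk]
    rw [Ideal.Quotient.eq_zero_iff_mem.mpr hx, map_zero]
  obtain ⟨B', _, _, hB', α, β, hα, hβ⟩ :=
    lift_twice I hI hR hkerR p hp hkerp h φB J hJ hJfg hφBJ
  haveI := hB'
  obtain ⟨B'', _, _, hB'', α', β', hα', hβα⟩ := exists_exact_factor I hI φB J hJ α β hα hβ
  let αq : B ⧸ J →ₐ[R] B'' := Ideal.Quotient.liftₐ J α' (fun x hx => hα' x hx)
  refine ⟨B'', inferInstance, inferInstance, hB'', αq.comp g, β', ?_⟩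
  have h1 : β'.comp αq = k := by
    apply Ideal.Quotient.algHom_ext
    ext b
    exact congr($hβα b)
  rw [← AlgHom.comp_assoc, h1, hkg]

end Groth.Agent.Helper8.SmLift
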