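import Mathlib
import Groth.Prelude.Def_Smoothing
import Groth.Agent.Lib.Helper8.SmLift4

/-!
# Ind-smoothness of flat deformations along nilpotent ideals
-/

set_option autoImplicit false
universe u

namespace Groth.Agent.Helper8.SmLift

/-- A flat algebra which is ind-smooth modulo a nilpotent ideal is ind-smooth (general
thickening form, by induction on the order of nilpotency). -/
theorem indSmooth_of_pow_eq_bot (n : ℕ) : ∀ {R Rb Λ Λb : Type u} [CommRing R] [CommRing Rb]
    [CommRing Λ] [CommRing Λb]
    [Algebra R Rb] [Algebra R Λ] [Algebra Rb Λb] [Algebra R Λb] [IsScalarTower R Rb Λb]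
    [Module.Flat R Λ]
    (I : Ideal R) (_ : I ^ n = ⊥)
    (_ : Function.Surjective (algebraMap R Rb)) (_ : RingHom.ker (algebraMap R Rb) = I)
    (p : Λ →ₐ[R] Λb) (_ : Function.Surjective p)
    (_ : RingHom.ker p = I.map (algebraMap R Λ))
    (_ : Smoothing.IndSmooth Rb Λb), Smoothing.IndSmooth R Λ := by
  induction n using Nat.strong_induction_on with
  | _ n ih =>
  intro R Rb Λ Λb _ _ _ _ _ _ _ _ _ _ I hI hR hkerR p hp hkerp h
  by_cases hn : n ≤ 2
  · have hI2 : I ^ 2 = ⊥ := le_bot_iff.mp (hI ▸ Ideal.pow_le_pow_right hn)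
    exact indSmooth_of_sq_zero I hI2 hR hkerR p hp hkerp h
  · have hn3 : 3 ≤ n := by omega
    let J : Ideal R := I ^ (n - 1)
    have hJ2 : J ^ 2 = ⊥ := by
      rw [← pow_mul]
      exact le_bot_iff.mp (hI ▸ Ideal.pow_le_pow_right (by omega))
    have hJI : J ≤ I := Ideal.pow_le_self (by omega)
    let R' := R ⧸ J
    let Λ' := Λ ⧸ J.map (algebraMap R Λ)
    haveI : Module.Flat R' Λ' :=
      Module.Flat.of_linearEquiv (Algebra.TensorProduct.quotIdealMapEquivQuotTensor Λ J).toLinearEquiv
    have hle : ∀ a ∈ J, algebraMap R Rb a = 0 := fun a ha => by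
      rw [← RingHom.mem_ker, hkerR]
      exact hJI ha
    let f' : R' →+* Rb := Ideal.Quotient.lift J (algebraMap R Rb) hle
    letI : Algebra R' Rb := f'.toAlgebra
    haveI : IsScalarTower R R' Rb := IsScalarTower.of_algebraMap_eq (fun r => rfl)
    letI : Algebra R' Λb := Algebra.compHom Λb (algebraMap R' Rb)
    haveI : IsScalarTower R' Rb Λb := IsScalarTower.of_algebraMap_eq (fun _ => rfl)
    have hle' : ∀ a ∈ J.map (algebraMap R Λ), p a = 0 := by
      intro a ha
      rw [← RingHom.mem_ker, hkerp]
      exact Ideal.map_mono hJI ha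
    let p₀ : Λ' →+* Λb := Ideal.Quotient.lift (J.map (algebraMap R Λ)) (p : Λ →+* Λb) hle'
    let p' : Λ' →ₐ[R'] Λb :=
      { p₀ with
        commutes' := by
          intro r'
          obtain ⟨r, rfl⟩ := Ideal.Quotient.mk_surjective r'
          show p₀ (algebraMap R' Λ' (Ideal.Quotient.mk J r)) = _
          rw [Ideal.Quotient.algebraMap_quotient_map_quotient]
          show p (algebraMap R Λ r) = algebraMap Rb Λb (algebraMap R Rb r)
          rw [AlgHom.commutes, IsScalarTower.algebraMap_apply R Rb Λb] }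
    let I' : Ideal R' := I.map (Ideal.Quotient.mk J)
    have hI' : I' ^ (n - 1) = ⊥ := by
      rw [← Ideal.map_pow]
      exact Ideal.map_quotient_self J
    have hR' : Function.Surjective (algebraMap R' Rb) :=
      Ideal.Quotient.lift_surjective_of_surjective J hle hR
    have hkerR' : RingHom.ker (algebraMap R' Rb) = I' := by
      have hle2 : J ≤ RingHom.ker (algebraMap R Rb) := fun a ha => (RingHom.mem_ker).mpr (hle a ha)
      have := Ideal.ker_quotient_lift (algebraMap R Rb) hle2
      rw [hkerR] at this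
      exact this
    have hp' : Function.Surjective p' :=
      Ideal.Quotient.lift_surjective_of_surjective _ hle' hp
    have hkerp' : RingHom.ker p' = I'.map (algebraMap R' Λ') := by
      have hle2 : J.map (algebraMap R Λ) ≤ RingHom.ker (p : Λ →+* Λb) :=
        fun a ha => (RingHom.mem_ker).mpr (hle' a ha)
      have h3 := Ideal.ker_quotient_lift (p : Λ →+* Λb) hle2
      have : RingHom.ker (p : Λ →+* Λb) = I.map (algebraMap R Λ) := hkerp
      rw [this, Ideal.map_map] at h3
      refine Eq.trans h3 ?_
      rw [Ideal.map_map]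
      congr 1
    have h' : Smoothing.IndSmooth R' Λ' :=
      ih (n - 1) (by omega) I' hI' hR' hkerR' p' hp' hkerp' h
    exact indSmooth_of_sq_zero J hJ2 Ideal.Quotient.mk_surjective Ideal.mk_ker
      (Ideal.Quotient.mkₐ R (J.map (algebraMap R Λ))) Ideal.Quotient.mk_surjective
      (Ideal.Quotient.mkₐ_ker R _) h'

end Groth.Agent.Helper8.SmLift
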