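import Mathlib
import Groth.Prelude
import Groth.Agent.Lib.Helper8.InsB3
import Groth.Agent.Lib.Helper8.SmLift5
import Groth.Agent.Lib.Helper8.Equidim3
import Groth.Agent.Lib.Helper8.Fib4
import Groth.Agent.Lib.Helper8.DifB3

/-! The form `D'` of the Artinian quotient is ind-smooth over the Artinian quotient of the local
ring of the polynomial ring. -/

namespace Groth.Agent.Helper8.InsB

open IsLocalRing

universe u

/-- field generators from essential finite type -/
theorem exists_field_generators (k F : Type*) [Field k] [Field F] [Algebra k F]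
    [Algebra.EssFiniteType k F] :
    ∃ (r : ℕ) (g : Fin r → F), IntermediateField.adjoin k (Set.range g) = ⊤ := by
  classical
  obtain ⟨s, hs⟩ := (IntermediateField.fg_top_iff).mpr (inferInstance : Algebra.EssFiniteType k F)
  refine ⟨s.card, fun i => (s.equivFin.symm i : F), ?_⟩
  rw [← hs]
  congr 1
  ext x
  constructor
  · rintro ⟨i, rfl⟩
    exact (s.equivFin.symm i).2
  · intro hx
    exact ⟨s.equivFin ⟨x, hx⟩, by simp⟩

set_option maxHeartbeats 1600000 in
set_option synthInstance.maxHeartbeats 200000 in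
theorem indSmooth_form {k P Λ : Type u} [Field k] [CommRing P] [Algebra k P] [CommRing Λ]
    [Algebra k Λ] [Algebra P Λ] [IsScalarTower k P Λ] (𝔮 : Ideal Λ) [𝔮.IsPrime]
    [Algebra (Localization.AtPrime (𝔮.under P)) (Localization.AtPrime 𝔮)]
    [Localization.AtPrime.IsLiesOverAlgebra (𝔮.under P) 𝔮]
    [Module.Flat P (Localization.AtPrime 𝔮)]
    (hmax : (𝔮.under P).map (algebraMap P (Localization.AtPrime 𝔮)) =
      maximalIdeal (Localization.AtPrime 𝔮))
    (n : ℕ) (hn : 0 < n) (I : Ideal (Localization.AtPrime 𝔮))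
    (hI : I = (maximalIdeal (Localization.AtPrime (𝔮.under P)) ^ n).map
      (algebraMap (Localization.AtPrime (𝔮.under P)) (Localization.AtPrime 𝔮)))
    [IsLocalRing (Localization.AtPrime 𝔮 ⧸ I)]
    (D' : Subalgebra k (Localization.AtPrime 𝔮 ⧸ I)) [IsLocalRing D']
    [Module.Flat D' (Localization.AtPrime 𝔮 ⧸ I)]
    (hD'max : (maximalIdeal D').map (algebraMap D' (Localization.AtPrime 𝔮 ⧸ I)) =
      maximalIdeal (Localization.AtPrime 𝔮 ⧸ I))
    (hPD : ∀ x : P, Ideal.Quotient.mk I (algebraMap P (Localization.AtPrime 𝔮) x) ∈ D')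
    [Algebra.EssFiniteType k (ResidueField D')]
    {t : ℕ} (y : Fin t → P)
    (hy : Submodule.span (ResidueField D') (Set.range fun j =>
      KaehlerDifferential.D k (ResidueField D') (residue D' ⟨_, hPD (y j)⟩)) = ⊤) :
    ∃ ψ : (Localization.AtPrime (𝔮.under P) ⧸
        maximalIdeal (Localization.AtPrime (𝔮.under P)) ^ n) →+* D',
      (∀ x : P, ((ψ (Ideal.Quotient.mk _ (algebraMap P _ x)) : D') :
          Localization.AtPrime 𝔮 ⧸ I) =
        Ideal.Quotient.mk I (algebraMap P (Localization.AtPrime 𝔮) x)) ∧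
      (letI := ψ.toAlgebra
       Smoothing.IndSmooth (Localization.AtPrime (𝔮.under P) ⧸
        maximalIdeal (Localization.AtPrime (𝔮.under P)) ^ n) D') := by
  classical
  subst hI
  let 𝔭 : Ideal P := 𝔮.under P
  let Pp := Localization.AtPrime 𝔭
  let S := Localization.AtPrime 𝔮
  let Kn : Ideal Pp := maximalIdeal Pp ^ n
  let I : Ideal S := Kn.map (algebraMap Pp S)
  let Sb := S ⧸ I
  let R₁ := Pp ⧸ Kn
  let mkI : S →+* Sb := Ideal.Quotient.mk I
  have hKnle : Kn ≤ maximalIdeal Pp := Ideal.pow_le_self hn.ne'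
  -- maximal ideals
  have hmPS : (maximalIdeal Pp).map (algebraMap Pp S) = maximalIdeal S := by
    rw [← Localization.AtPrime.map_eq_maximalIdeal, Ideal.map_map,
      ← IsScalarTower.algebraMap_eq, hmax]
  have hmSb : maximalIdeal Sb = (maximalIdeal S).map mkI :=
    Groth.Agent.Helper8.DifB.maximalIdeal_quotient_eq I
  -- flatness
  haveI hflat1 : Module.Flat Pp S :=
    (Module.flat_iff_of_isLocalization Pp 𝔭.primeCompl S).mpr inferInstance
  haveI hflat2 : Module.Flat R₁ Sb := Groth.Agent.Helper8.Equidim.flat_quot Pp S Kn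
  -- `D' → Sb` is a local homomorphism
  haveI hloc : IsLocalHom (algebraMap D' Sb) := by
    constructor
    intro x hx
    by_contra hnu
    have h1 : x ∈ maximalIdeal D' := (mem_maximalIdeal x).mpr hnu
    have h2 : algebraMap D' Sb x ∈ maximalIdeal Sb := by
      rw [← hD'max]
      exact Ideal.mem_map_of_mem _ h1
    exact (mem_maximalIdeal _).mp h2 hx
  haveI hflat0 : @Module.Flat D' Sb _ _ Algebra.toModule := ‹Module.Flat D' (Localization.AtPrime 𝔮 ⧸ I)›
  haveI hff : @Module.FaithfullyFlat D' Sb _ _ Algebra.toModule :=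
    Module.FaithfullyFlat.of_flat_of_isLocalHom
  -- the map `P → D'`
  let f₀ : P →ₐ[k] Sb := (Ideal.Quotient.mkₐ k I).comp (IsScalarTower.toAlgHom k P S)
  have hf₀ : ∀ x : P, f₀ x = mkI (algebraMap P S x) := fun x => rfl
  let ψ₀ : P →ₐ[k] D' := f₀.codRestrict D' hPD
  have hψ₀ : ∀ x : P, ((ψ₀ x : D') : Sb) = mkI (algebraMap P S x) := fun x => rfl
  have hunit : ∀ s : 𝔭.primeCompl, IsUnit ((ψ₀ : P →+* D') s) := by
    intro s
    have h1 : IsUnit (algebraMap P S (s : P)) := by
      rw [IsScalarTower.algebraMap_apply P Λ S]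
      exact IsLocalization.map_units S (⟨algebraMap P Λ s, s.2⟩ : 𝔮.primeCompl)
    have h2 : IsUnit (algebraMap D' Sb (ψ₀ s)) := h1.map mkI
    exact hloc.map_nonunit _ h2
  let ψ₁ : Pp →+* D' := IsLocalization.lift (M := 𝔭.primeCompl) (g := (ψ₀ : P →+* D')) hunit
  have hψ₁ : ∀ x : P, ψ₁ (algebraMap P Pp x) = ψ₀ x := fun x => IsLocalization.lift_eq _ x
  have hcomp : ∀ z : Pp, ((ψ₁ z : D') : Sb) = mkI (algebraMap Pp S z) := by
    have h1 : (D'.val : D' →+* Sb).comp ψ₁ = mkI.comp (algebraMap Pp S) := by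
      apply IsLocalization.ringHom_ext 𝔭.primeCompl
      ext x
      simp only [RingHom.comp_apply]
      rw [hψ₁, ← IsScalarTower.algebraMap_apply P Pp S]
      rfl
    intro z
    exact congrFun (congrArg DFunLike.coe h1) z
  have hkill : ∀ z ∈ Kn, ψ₁ z = 0 := by
    intro z hz
    apply Subtype.ext
    rw [hcomp]
    change mkI _ = 0
    rw [Ideal.Quotient.eq_zero_iff_mem]
    exact Ideal.mem_map_of_mem _ hz
  let ψ : R₁ →+* D' := Ideal.Quotient.lift Kn ψ₁ hkill
  have hψmk : ∀ z : Pp, ψ (Ideal.Quotient.mk Kn z) = ψ₁ z := fun z => rfl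
  refine ⟨ψ, ?_, ?_⟩
  · intro x
    rw [hψmk, hcomp, ← IsScalarTower.algebraMap_apply]
  letI algR₁D : Algebra R₁ D' := ψ.toAlgebra
  haveI tow : IsScalarTower R₁ D' Sb := by
    refine IsScalarTower.of_algebraMap_eq (R := R₁) (S := D') (A := Sb) (fun z => ?_)
    obtain ⟨z, rfl⟩ := Ideal.Quotient.mk_surjective z
    rw [Ideal.Quotient.algebraMap_quotient_map_quotient]
    exact (hcomp z).symm
  haveI hflat3 : Module.Flat R₁ D' := Groth.Agent.Helper8.Fib.flat_of_faithfullyFlat_comp R₁ D' Sb
  -- `ψ₁` is a local homomorphism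
  haveI hlocψ : IsLocalHom ψ₁ := by
    constructor
    intro z hz
    by_contra hnu
    have h1 : z ∈ maximalIdeal Pp := (mem_maximalIdeal z).mpr hnu
    have h2 : algebraMap Pp S z ∈ maximalIdeal S := by
      rw [← hmPS]
      exact Ideal.mem_map_of_mem _ h1
    have h3 : mkI (algebraMap Pp S z) ∈ maximalIdeal Sb := by
      rw [hmSb]
      exact Ideal.mem_map_of_mem _ h2
    have h4 : IsUnit (algebraMap D' Sb (ψ₁ z)) := hz.map _
    have h5 : algebraMap D' Sb (ψ₁ z) = mkI (algebraMap Pp S z) := hcomp z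
    rw [h5] at h4
    exact (mem_maximalIdeal _).mp h3 h4
  -- the residue fields
  let κ := ResidueField Pp
  let F := ResidueField D'
  let ρ₁ : R₁ →+* κ := Ideal.Quotient.lift Kn (residue Pp) (fun z hz => by
    rw [residue_eq_zero_iff]
    exact hKnle hz)
  letI algR₁κ : Algebra R₁ κ := ρ₁.toAlgebra
  letI algκF : Algebra κ F := (ResidueField.map ψ₁).toAlgebra
  letI algR₁F : Algebra R₁ F := ((residue D').comp ψ).toAlgebra
  haveI tow2 : IsScalarTower R₁ κ F := by
    refine IsScalarTower.of_algebraMap_eq (fun z => ?_)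
    obtain ⟨z, rfl⟩ := Ideal.Quotient.mk_surjective z
    change residue D' (ψ₁ z) = ResidueField.map ψ₁ (residue Pp z)
    rw [ResidueField.map_residue]
  haveI tow3 : IsScalarTower k κ F := by
    refine IsScalarTower.of_algebraMap_eq (fun c => ?_)
    change algebraMap k F c = ResidueField.map ψ₁ (algebraMap k κ c)
    rw [IsScalarTower.algebraMap_apply k Pp κ, ResidueField.algebraMap_eq,
      ResidueField.map_residue, IsScalarTower.algebraMap_apply k P Pp, hψ₁, ψ₀.commutes,
      IsScalarTower.algebraMap_apply k D' F, ResidueField.algebraMap_eq]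
  let 𝔪₁ : Ideal R₁ := (maximalIdeal Pp).map (Ideal.Quotient.mk Kn)
  have h𝔪₁pow : 𝔪₁ ^ n = ⊥ := by
    change ((maximalIdeal Pp).map (Ideal.Quotient.mk Kn)) ^ n = ⊥
    rw [← Ideal.map_pow, Ideal.map_quotient_self]
  have hsurj : Function.Surjective (algebraMap R₁ κ) := by
    intro x
    obtain ⟨z, rfl⟩ := residue_surjective x
    exact ⟨Ideal.Quotient.mk Kn z, rfl⟩
  have hker : RingHom.ker (algebraMap R₁ κ) = 𝔪₁ := by
    apply le_antisymm
    · intro z hz
      obtain ⟨z, rfl⟩ := Ideal.Quotient.mk_surjective z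
      rw [RingHom.mem_ker] at hz
      have h1 : residue Pp z = 0 := hz
      rw [residue_eq_zero_iff] at h1
      exact Ideal.mem_map_of_mem _ h1
    · change (maximalIdeal Pp).map (Ideal.Quotient.mk Kn) ≤ _
      rw [Ideal.map_le_iff_le_comap]
      intro z hz
      rw [Ideal.mem_comap, RingHom.mem_ker]
      change residue Pp z = 0
      rw [residue_eq_zero_iff]
      exact hz
  let pA : D' →ₐ[R₁] F := { residue D' with commutes' := fun z => rfl }
  have hp : Function.Surjective pA := residue_surjective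
  have hkerp : RingHom.ker pA = 𝔪₁.map (algebraMap R₁ D') := by
    have h1 : RingHom.ker pA = maximalIdeal D' := IsLocalRing.ker_residue (R := D')
    rw [h1]
    apply Ideal.map_injective_of_faithfullyFlat (B := Sb)
    rw [hD'max, Ideal.map_map, ← IsScalarTower.algebraMap_eq]
    change _ = ((maximalIdeal Pp).map (Ideal.Quotient.mk Kn)).map (algebraMap R₁ Sb)
    rw [Ideal.map_map, hmSb, ← hmPS, Ideal.map_map]
    congr 1
  -- the residue field extension is ind-smooth
  have hInd : Smoothing.IndSmooth κ F := by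
    obtain ⟨r, g, hg⟩ := exists_field_generators k F
    refine indSmooth_of_span_D g hg
      (fun j => residue D' ⟨_, hPD (y j)⟩) hy ?_
    intro j
    refine ⟨residue Pp (algebraMap P Pp (y j)), ?_⟩
    change ResidueField.map ψ₁ (residue Pp (algebraMap P Pp (y j))) = _
    rw [ResidueField.map_residue, hψ₁]
    rfl
  exact Groth.Agent.Helper8.SmLift.indSmooth_of_pow_eq_bot n 𝔪₁ h𝔪₁pow hsurj hker pA hp hkerp hInd

end Groth.Agent.Helper8.InsB
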