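import Mathlib

/-!
# The Jacobian criterion at a prime: injectivity of the conormal map on the fibre
-/

set_option autoImplicit false
universe u

namespace Groth.Agent.Helper8.JacPt

open TensorProduct Algebra KaehlerDifferential

/-- If `A` is smooth at `q` over `R`, then for a presentation of `A` by generators the cotangent
complex is injective after base change to the residue field at `q`. -/
theorem injective_cotangentComplex_baseChange_residueField {R A : Type u} [CommRing R] [CommRing A]
    [Algebra R A] {ι : Type*} (G : Generators R A ι) (q : Ideal A) [q.IsPrime]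
    [Algebra.IsSmoothAt R q] :
    Function.Injective (G.toExtension.cotangentComplex.baseChange q.ResidueField) := by
  let E := G.toExtension
  let T := Localization.AtPrime q
  let κ := q.ResidueField
  let d := E.cotangentComplex
  have h1 : Function.Exact (E.h1Cotangentι.baseChange T) (d.baseChange T) :=
    Module.Flat.lTensor_exact T (LinearMap.exact_subtype_ker_map _)
  haveI : Algebra.FormallySmooth R T := ‹Algebra.IsSmoothAt R q›
  haveI : Subsingleton (T ⊗[A] E.H1Cotangent) := by
    have e1 : T ⊗[A] E.H1Cotangent ≃ₗ[A] T ⊗[A] H1Cotangent R A :=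
      TensorProduct.congr (LinearEquiv.refl A T) G.equivH1Cotangent
    have e2 := Algebra.tensorH1CotangentOfIsLocalization R (S := A) T q.primeCompl
    exact (e1.toEquiv.trans e2.toEquiv).subsingleton
  have hinj : Function.Injective (d.baseChange T) := by
    rw [injective_iff_map_eq_zero]
    intro x hx
    obtain ⟨y, rfl⟩ := (h1 x).mp hx
    rw [Subsingleton.elim y 0, map_zero]
  have h2 : Function.Exact (d.baseChange T) (E.toKaehler.baseChange T) :=
    lTensor_exact T E.exact_cotangentComplex_toKaehler E.toKaehler_surjective
  have hsurj : Function.Surjective (E.toKaehler.baseChange T) :=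
    LinearMap.lTensor_surjective T E.toKaehler_surjective
  haveI : Module.Projective T (T ⊗[A] Ω[A⁄R]) := by
    haveI : Algebra.FormallyEtale A T := Algebra.FormallyEtale.of_isLocalization q.primeCompl
    exact Module.Projective.of_equiv (tensorKaehlerEquivOfFormallyEtale R A T).symm
  obtain ⟨ρ, hρ⟩ := ((h2.split_tfae'.out 0 1 rfl rfl).mp
    ⟨hinj, Module.projective_lifting_property _ _ hsurj⟩).2
  -- pass to the residue field
  let c1 := AlgebraTensorModule.cancelBaseChange A T κ κ E.Cotangent
  let c2 := AlgebraTensorModule.cancelBaseChange A T κ κ E.CotangentSpace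
  let ρκ : κ ⊗[A] E.CotangentSpace →ₗ[κ] κ ⊗[A] E.Cotangent :=
    c1.toLinearMap ∘ₗ ρ.baseChange κ ∘ₗ c2.symm.toLinearMap
  have hleft : ρκ ∘ₗ d.baseChange κ = LinearMap.id := by
    ext n
    simp only [AlgebraTensorModule.curry_apply, curry_apply, LinearMap.coe_restrictScalars,
      LinearMap.comp_apply, LinearMap.baseChange_tmul, LinearMap.id_apply, ρκ, LinearEquiv.coe_coe,
      c2, AlgebraTensorModule.cancelBaseChange_symm_tmul]
    have h3 : ρ (1 ⊗ₜ[A] d n) = 1 ⊗ₜ[A] n := by
      have := congr($hρ (1 ⊗ₜ[A] n))
      simpa using this
    rw [h3]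
    simp [c1]
  exact Function.LeftInverse.injective (g := ρκ) (fun x => congr($hleft x))

end Groth.Agent.Helper8.JacPt
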