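import Mathlib
import Groth.Agent.Lib.Helper1.Minors

/-!
# A matrix with independent rows over a field has a nonvanishing maximal minor
-/

set_option autoImplicit false
universe u

namespace Groth.Agent.Helper8.JacPt

open Matrix

/-- If the rows of a `c × n` matrix over a field are linearly independent, then some maximal minor
(with distinct columns) is non-zero. -/
theorem exists_cols_det_ne_zero {K : Type u} [Field K] {c n : ℕ} (M : Matrix (Fin c) (Fin n) K)
    (hM : LinearIndependent K M.row) :
    ∃ cols : Fin c ↪ Fin n, (M.submatrix id cols).det ≠ 0 := by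
  have hinj : Function.Injective (Matrix.toLin' Mᵀ) := by
    have : Function.Injective Mᵀ.mulVec := by
      rw [Matrix.mulVec_injective_iff]
      exact hM
    exact this
  obtain ⟨g, hg⟩ := LinearMap.exists_leftInverse_of_injective (Matrix.toLin' Mᵀ)
    (LinearMap.ker_eq_bot.mpr hinj)
  have h1 : LinearMap.toMatrix' g * Mᵀ = 1 := by
    have := congrArg LinearMap.toMatrix' hg
    rwa [LinearMap.toMatrix'_comp, LinearMap.toMatrix'_toLin', LinearMap.toMatrix'_id] at this
  have h2 := Groth.Agent.Helper1.Minors.weak_cauchy_binet (LinearMap.toMatrix' g) Mᵀ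
  rw [h1, Matrix.det_one] at h2
  have h3 : ∃ k : Fin c → Fin n, (Mᵀ.submatrix k id).det ≠ 0 := by
    by_contra hcon
    push_neg at hcon
    rw [Finset.sum_eq_zero (fun k _ => by rw [hcon k, mul_zero])] at h2
    exact one_ne_zero h2
  obtain ⟨k, hk⟩ := h3
  have hkinj : Function.Injective k := by
    intro i j hij
    by_contra hne
    exact hk (Matrix.det_zero_of_row_eq hne (by ext l; simp [hij]))
  refine ⟨⟨k, hkinj⟩, ?_⟩
  rw [← Matrix.det_transpose, Matrix.transpose_submatrix]
  exact hk

end Groth.Agent.Helper8.JacPt
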