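import Mathlib
import Groth.Agent.Lib.Helper8.JacPt1
import Groth.Agent.Lib.Helper8.JacPt2

/-!
# The Jacobian criterion at a prime: choosing relations and variables
-/

set_option autoImplicit false
universe u

namespace Groth.Agent.Helper8.JacPt

open TensorProduct Algebra KaehlerDifferential MvPolynomial

/-- Nakayama at a prime via supports: if the elements `1 ⊗ x j` span `κ(q) ⊗ N` then some `u ∉ q`
multiplies `N` into the span of the `x j`. -/
theorem exists_notMem_smul_mem_span {A : Type u} [CommRing A] {N : Type*} [AddCommGroup N]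
    [Module A N] [Module.Finite A N] (q : Ideal A) [q.IsPrime] {ι : Type*} (x : ι → N)
    (hx : Submodule.span q.ResidueField
      (Set.range fun j => (1 : q.ResidueField) ⊗ₜ[A] x j) = ⊤) :
    ∃ u : A, u ∉ q ∧ ∀ y : N, u • y ∈ Submodule.span A (Set.range x) := by
  let N₀ := Submodule.span A (Set.range x)
  let Q := N ⧸ N₀
  have hsub : Subsingleton (q.ResidueField ⊗[A] Q) := by
    have hsurj : Function.Surjective (N₀.mkQ.baseChange q.ResidueField) :=
      LinearMap.lTensor_surjective _ N₀.mkQ_surjective
    have hzero : N₀.mkQ.baseChange q.ResidueField = 0 := by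
      have htop : (⊤ : Submodule q.ResidueField (q.ResidueField ⊗[A] N)) ≤
          LinearMap.ker (N₀.mkQ.baseChange q.ResidueField) := by
        rw [← hx, Submodule.span_le]
        rintro _ ⟨j, rfl⟩
        simp only [SetLike.mem_coe, LinearMap.mem_ker, LinearMap.baseChange_tmul]
        have : N₀.mkQ (x j) = 0 := by
          rw [Submodule.mkQ_apply, Submodule.Quotient.mk_eq_zero]
          exact Submodule.subset_span ⟨j, rfl⟩
        rw [this, tmul_zero]
      refine LinearMap.ext fun y => ?_
      exact htop (Submodule.mem_top (x := y))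
    refine ⟨fun a b => ?_⟩
    obtain ⟨a', rfl⟩ := hsurj a
    obtain ⟨b', rfl⟩ := hsurj b
    rw [hzero]; rfl
  have hns : (⟨q, inferInstance⟩ : PrimeSpectrum A) ∉ Module.support A Q := by
    rw [Module.mem_support_iff_nontrivial_residueField_tensorProduct]
    exact not_nontrivial_iff_subsingleton.mpr hsub
  rw [Module.mem_support_iff_of_finite, SetLike.not_le_iff_exists] at hns
  obtain ⟨u, hu, huq⟩ := hns
  refine ⟨u, huq, fun y => ?_⟩
  have := Module.mem_annihilator.mp hu (N₀.mkQ y)
  rwa [← map_smul, Submodule.mkQ_apply, Submodule.Quotient.mk_eq_zero] at this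

/-- From a relation in the conormal module back to the polynomial ring. -/
theorem mul_mem_span_sup_ker_sq {R S : Type*} [CommRing R] [CommRing S] [Algebra R S]
    (P : Algebra.Extension R S) {m c : ℕ} (f : Fin m → P.Ring) (hf : ∀ j, f j ∈ P.ker)
    (rows : Fin c → Fin m) (u : P.Ring) (ℓ : Fin m)
    (h : algebraMap P.Ring S u • Extension.Cotangent.mk (P := P) ⟨f ℓ, hf ℓ⟩ ∈
      Submodule.span S (Set.range fun j : Fin c =>
        Extension.Cotangent.mk (P := P) ⟨f (rows j), hf (rows j)⟩)) :
    u * f ℓ ∈ Ideal.span (Set.range (f ∘ rows)) ⊔ P.ker ^ 2 := by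
  rw [Submodule.mem_span_range_iff_exists_fun] at h
  obtain ⟨cf, hcf⟩ := h
  choose g hg using fun j => P.algebraMap_surjective (cf j)
  have h2 : Extension.Cotangent.mk (P := P)
      (∑ j, g j • (⟨f (rows j), hf (rows j)⟩ : P.ker)) =
      Extension.Cotangent.mk (P := P) (u • (⟨f ℓ, hf ℓ⟩ : P.ker)) := by
    rw [map_sum, map_smul]
    simp only [map_smul]
    rw [← algebraMap_smul S u, ← hcf]
    refine Finset.sum_congr rfl fun j _ => ?_
    rw [← algebraMap_smul S (g j), hg]
  rw [Extension.Cotangent.mk_eq_mk_iff_sub_mem] at h2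
  have h3 : u * f ℓ = ∑ j, g j * f (rows j) -
      ((∑ j, g j • (⟨f (rows j), hf (rows j)⟩ : P.ker)).val - (u • (⟨f ℓ, hf ℓ⟩ : P.ker)).val) := by
    rw [Submodule.coe_sum]
    simp only [Submodule.coe_smul, smul_eq_mul]
    ring
  rw [h3]
  refine Submodule.sub_mem _ (Submodule.mem_sup_left ?_) (Submodule.mem_sup_right h2)
  exact Ideal.sum_mem _ fun j _ => Ideal.mul_mem_left _ _ (Ideal.subset_span ⟨j, rfl⟩)

/-- The Jacobian criterion at a prime at which the algebra is smooth: one can choose `c` relations
and `c` variables such that the corresponding minor of the Jacobian matrix does not vanish at `q`,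
and such that the chosen relations generate the conormal module near `q`. -/
theorem exists_rows_cols {R A : Type u} [CommRing R] [CommRing A] [Algebra R A] {n m : ℕ}
    (G : Generators R A (Fin n)) (f : Fin m → MvPolynomial (Fin n) R)
    (hker : Ideal.span (Set.range f) = G.ker)
    (q : Ideal A) [q.IsPrime] [Algebra.IsSmoothAt R q] :
    ∃ (c : ℕ) (rows : Fin c ↪ Fin m) (cols : Fin c ↪ Fin n) (u : MvPolynomial (Fin n) R),
      aeval G.val u ∉ q ∧
      aeval G.val (Matrix.det (Matrix.of fun j k : Fin c => pderiv (cols k) (f (rows j)))) ∉ q ∧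
      ∀ ℓ, u * f ℓ ∈ Ideal.span (Set.range (f ∘ rows)) ⊔ Ideal.span (Set.range f) ^ 2 := by
  have hf : ∀ j, f j ∈ G.toExtension.ker := fun j => hker.le (Ideal.subset_span ⟨j, rfl⟩)
  have hxspan := Extension.Cotangent.span_eq_top_of_span_eq_ker (P := G.toExtension) f hker
  set x : Fin m → G.toExtension.Cotangent := fun j => Extension.Cotangent.mk ⟨f j, hf j⟩ with hx
  let κ := q.ResidueField
  let v : Fin m → κ ⊗[A] G.toExtension.Cotangent := fun j => 1 ⊗ₜ x j
  have hvspan : Submodule.span κ (Set.range v) = ⊤ := by
    have h1 := Submodule.baseChange_span (R := A) κ (Set.range x)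
    rw [hxspan, Submodule.baseChange_top, ← Set.range_comp] at h1
    exact h1.symm
  obtain ⟨T, a, ha, hspan, hli⟩ := exists_linearIndependent' κ v
  haveI : Finite T := Finite.of_injective a ha
  haveI := Fintype.ofFinite T
  let e : Fin (Fintype.card T) ≃ T := (Fintype.equivFin T).symm
  let rows : Fin (Fintype.card T) ↪ Fin m := ⟨a ∘ e, ha.comp e.injective⟩
  have hli' : LinearIndependent κ (v ∘ rows) := hli.comp e e.injective
  have hspan' : Submodule.span κ (Set.range (v ∘ rows)) = ⊤ := by
    rw [← hvspan, ← hspan]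
    congr 1
    exact e.surjective.range_comp (v ∘ a)
  -- the differential on the fibre
  have hdinj := injective_cotangentComplex_baseChange_residueField G q
  have hli2 : LinearIndependent κ ((G.toExtension.cotangentComplex.baseChange κ) ∘ (v ∘ rows)) :=
    hli'.map' _ (LinearMap.ker_eq_bot.mpr hdinj)
  let b : Module.Basis (Fin n) κ (κ ⊗[A] G.toExtension.CotangentSpace) :=
    G.cotangentSpaceBasis.baseChange κ
  let M : Matrix (Fin (Fintype.card T)) (Fin n) κ := fun j k =>
    b.repr (G.toExtension.cotangentComplex.baseChange κ (v (rows j))) k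
  have hM : LinearIndependent κ M.row := by
    have := hli2.map' b.equivFun.toLinearMap (LinearMap.ker_eq_bot.mpr b.equivFun.injective)
    exact this
  obtain ⟨cols, hcols⟩ := exists_cols_det_ne_zero M hM
  have hMentry : ∀ j k, M j k =
      algebraMap A κ (aeval G.val (pderiv k (f (rows j)))) := by
    intro j k
    simp only [M, v, x, b, LinearMap.baseChange_tmul, Extension.cotangentComplex_mk,
      Module.Basis.baseChange_repr_tmul]
    rw [Algebra.algebraMap_eq_smul_one]
    congr 1
    exact G.cotangentSpaceBasis_repr_one_tmul (f (rows j)) k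
  have hminor : aeval G.val (Matrix.det (Matrix.of fun j k : Fin (Fintype.card T) =>
      pderiv (cols k) (f (rows j)))) ∉ q := by
    intro hmem
    apply hcols
    have h1 : M.submatrix _root_.id cols = ((algebraMap A κ).comp
        (aeval G.val : MvPolynomial (Fin n) R →ₐ[R] A).toRingHom).mapMatrix
        (Matrix.of fun j k : Fin (Fintype.card T) => pderiv (cols k) (f (rows j))) := by
      refine Matrix.ext fun j k => ?_
      simp [hMentry]
    rw [h1, ← RingHom.map_det]
    simp only [RingHom.comp_apply, AlgHom.toRingHom_eq_coe, RingHom.coe_coe]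
    exact Ideal.algebraMap_residueField_eq_zero.mpr hmem
  -- Nakayama
  haveI : Module.Finite A G.toExtension.Cotangent := by
    apply Extension.Cotangent.finite
    have hfg : (Ideal.span (Set.range f)).FG := Submodule.fg_span (Set.finite_range f)
    rw [hker] at hfg
    exact hfg
  obtain ⟨u₀, hu₀, hu₀'⟩ := exists_notMem_smul_mem_span q (x ∘ rows) hspan'
  have hsurj : ∀ y : A, ∃ z : G.toExtension.Ring, algebraMap G.toExtension.Ring A z = y :=
    G.algebraMap_surjective
  obtain ⟨u, hu⟩ := hsurj u₀
  refine ⟨Fintype.card T, rows, cols, u, ?_, hminor, fun ℓ => ?_⟩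
  · have : aeval G.val u = u₀ := by rw [← hu]; exact (Generators.algebraMap_apply G u).symm
    rw [this]
    exact hu₀
  · have h1 := hu₀' (x ℓ)
    rw [← hu] at h1
    have h2 := mul_mem_span_sup_ker_sq G.toExtension f hf rows u ℓ h1
    rw [hker]
    exact h2

end Groth.Agent.Helper8.JacPt
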