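import Mathlib
import Groth.Agent.S2108

/-!
# The lifting lemma (Stacks 16.5.1), I: presentations modulo `π²` and charts
-/

set_option autoImplicit false
universe u

namespace Groth.Agent.Helper8.LiftA

open MvPolynomial Smoothing

section Red

variable {R : Type u} [CommRing R] (π : R) (n : ℕ)

/-- Reduction of polynomials modulo `π²`. -/
noncomputable def red :
    MvPolynomial (Fin n) R →ₐ[R] MvPolynomial (Fin n) (R ⧸ Ideal.span {π ^ 2}) :=
  MvPolynomial.mapAlgHom (Ideal.Quotient.mkₐ R (Ideal.span {π ^ 2}))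

theorem red_apply (p : MvPolynomial (Fin n) R) :
    red π n p = MvPolynomial.map (Ideal.Quotient.mk (Ideal.span {π ^ 2})) p := rfl

theorem red_surjective : Function.Surjective (red π n) :=
  MvPolynomial.map_surjective _ Ideal.Quotient.mk_surjective

theorem ker_red : RingHom.ker (red π n).toRingHom = Ideal.span {C (π ^ 2)} := by
  have h : (red π n).toRingHom = MvPolynomial.map (Ideal.Quotient.mk (Ideal.span {π ^ 2})) := rfl
  rw [h, MvPolynomial.ker_map, Ideal.mk_ker, Ideal.map_span, Set.image_singleton]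

theorem red_pderiv (i : Fin n) (p : MvPolynomial (Fin n) R) :
    red π n (pderiv i p) = pderiv i (red π n p) := by
  rw [red_apply, red_apply, MvPolynomial.pderiv_map]

theorem red_jacobianMinor {m c : ℕ} (f : Fin m → MvPolynomial (Fin n) R) (rows : Fin c → Fin m)
    (cols : Fin c → Fin n) :
    red π n (jacobianMinor f rows cols) = jacobianMinor (fun j => red π n (f j)) rows cols := by
  unfold jacobianMinor
  rw [AlgHom.map_det]
  congr 1
  refine Matrix.ext fun j k => ?_
  simp only [AlgHom.mapMatrix_apply, Matrix.map_apply, Matrix.of_apply]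
  exact red_pderiv π n _ _

theorem mem_sup_of_red_mem (I : Ideal (MvPolynomial (Fin n) R)) (p : MvPolynomial (Fin n) R)
    (h : red π n p ∈ I.map (red π n).toRingHom) : p ∈ I ⊔ Ideal.span {C (π ^ 2)} := by
  rw [Ideal.mem_map_iff_of_surjective (red π n).toRingHom (red_surjective π n)] at h
  obtain ⟨y, hy, hyp⟩ := h
  have h1 : p - y ∈ RingHom.ker (red π n).toRingHom := by
    rw [RingHom.mem_ker, map_sub, sub_eq_zero]
    exact hyp.symm
  rw [ker_red] at h1
  have h2 : p = y + (p - y) := by ring
  rw [h2]
  exact Submodule.add_mem_sup hy h1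

end Red

section HomC

variable {R : Type u} [CommRing R] (π : R) {n : ℕ}
  {Cb : Type u} [CommRing Cb] [Algebra R Cb] [Algebra (R ⧸ Ideal.span {π ^ 2}) Cb]
  [IsScalarTower R (R ⧸ Ideal.span {π ^ 2}) Cb]
  (φ : MvPolynomial (Fin n) (R ⧸ Ideal.span {π ^ 2}) →ₐ[R ⧸ Ideal.span {π ^ 2}] Cb)

/-- The induced presentation `R[x] → C`. -/
noncomputable def homC : MvPolynomial (Fin n) R →ₐ[R] Cb :=
  (φ.restrictScalars R).comp (red π n)

theorem homC_apply (p : MvPolynomial (Fin n) R) : homC π φ p = φ (red π n p) := rfl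

theorem homC_surjective (hφ : Function.Surjective φ) : Function.Surjective (homC π φ) :=
  hφ.comp (red_surjective π n)

variable {m : ℕ} (f : Fin m → MvPolynomial (Fin n) R)

theorem homC_f (hker : RingHom.ker φ.toRingHom = Ideal.span (Set.range (fun j => red π n (f j))))
    (j : Fin m) : homC π φ (f j) = 0 := by
  rw [homC_apply]
  have : red π n (f j) ∈ RingHom.ker φ.toRingHom := by
    rw [hker]
    exact Ideal.subset_span ⟨j, rfl⟩
  exact this

theorem homC_pi_sq : homC π φ (C (π ^ 2)) = 0 := by
  rw [homC_apply, red_apply, MvPolynomial.map_C]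
  have : Ideal.Quotient.mk (Ideal.span {π ^ 2}) (π ^ 2) = 0 :=
    Ideal.Quotient.eq_zero_iff_mem.mpr (Ideal.mem_span_singleton_self _)
  rw [this, map_zero, map_zero]

theorem homC_eq_zero_of_mem
    (hker : RingHom.ker φ.toRingHom = Ideal.span (Set.range (fun j => red π n (f j))))
    (p : MvPolynomial (Fin n) R) (hp : p ∈ Ideal.span (Set.range f)) : homC π φ p = 0 := by
  have hle : Ideal.span (Set.range f) ≤ RingHom.ker (homC π φ).toRingHom := by
    rw [Ideal.span_le]
    rintro _ ⟨j, rfl⟩
    exact homC_f π φ f hker j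
  exact hle hp

theorem ker_homC (hker : RingHom.ker φ.toRingHom = Ideal.span (Set.range (fun j => red π n (f j)))) :
    RingHom.ker (homC π φ).toRingHom = Ideal.span (Set.range f) ⊔ Ideal.span {C (π ^ 2)} := by
  apply le_antisymm
  · intro p hp
    apply mem_sup_of_red_mem
    have h1 : red π n p ∈ RingHom.ker φ.toRingHom := hp
    rw [hker] at h1
    rw [Ideal.map_span, ← Set.range_comp]
    exact h1
  · rw [sup_le_iff, Ideal.span_le, Ideal.span_le]
    constructor
    · rintro _ ⟨j, rfl⟩
      exact homC_f π φ f hker j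
    · rintro _ rfl
      exact homC_pi_sq π φ

end HomC

end Groth.Agent.Helper8.LiftA
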