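import Mathlib
import Groth.Agent.Lib.Helper8.LiftA1

/-!
# The lifting lemma (Stacks 16.5.1), II: charts
-/

set_option autoImplicit false
universe u

namespace Groth.Agent.Helper8.LiftA

open MvPolynomial Smoothing

section Chart

variable {R : Type u} [CommRing R] (π : R) {n m : ℕ} (f : Fin m → MvPolynomial (Fin n) R)

/-- A chart: a choice of `c` relations and `c` variables and an element `a` with
`a f_ℓ = ∑ h_{ℓ j} f_{rows j} + π² g_ℓ`, normalised on the chosen rows. -/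
structure Chart where
  c : ℕ
  rows : Fin c ↪ Fin m
  cols : Fin c ↪ Fin n
  a : MvPolynomial (Fin n) R
  h : Fin m → Fin c → MvPolynomial (Fin n) R
  g : Fin m → MvPolynomial (Fin n) R
  rel : ∀ ℓ, a * f ℓ = ∑ j, h ℓ j * f (rows j) + C (π ^ 2) * g ℓ
  normh : ∀ j₀ j, h (rows j₀) j = if j = j₀ then a else 0
  normg : ∀ j₀, g (rows j₀) = 0

variable {π f}

/-- Normalising a chart datum. -/
noncomputable def Chart.ofRel {c : ℕ} (rows : Fin c ↪ Fin m) (cols : Fin c ↪ Fin n)
    (a : MvPolynomial (Fin n) R) (h : Fin m → Fin c → MvPolynomial (Fin n) R)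
    (g : Fin m → MvPolynomial (Fin n) R)
    (rel : ∀ ℓ, a * f ℓ = ∑ j, h ℓ j * f (rows j) + C (π ^ 2) * g ℓ) : Chart π f := by
  classical
  refine { c := c, rows := rows, cols := cols, a := a
           h := fun ℓ j => if ℓ ∈ Set.range rows then (if ℓ = rows j then a else 0) else h ℓ j
           g := fun ℓ => if ℓ ∈ Set.range rows then 0 else g ℓ
           rel := ?_, normh := ?_, normg := ?_ }
  · intro ℓ
    by_cases hℓ : ℓ ∈ Set.range rows
    · obtain ⟨j₀, rfl⟩ := hℓ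
      simp only [Set.mem_range, exists_apply_eq_apply, if_true, mul_zero, add_zero,
        EmbeddingLike.apply_eq_iff_eq]
      rw [Finset.sum_eq_single j₀]
      · simp
      · intro j _ hj
        rw [if_neg (Ne.symm hj), zero_mul]
      · intro h0
        exact absurd (Finset.mem_univ _) h0
    · simp only [if_neg hℓ]
      exact rel ℓ
  · intro j₀ j
    simp only [Set.mem_range, exists_apply_eq_apply, if_true, EmbeddingLike.apply_eq_iff_eq]
    by_cases hj : j = j₀
    · rw [if_pos hj, if_pos hj.symm]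
    · rw [if_neg hj, if_neg (Ne.symm hj)]
  · intro j₀
    simp

@[simp] theorem Chart.ofRel_c {c : ℕ} (rows : Fin c ↪ Fin m) (cols : Fin c ↪ Fin n)
    (a : MvPolynomial (Fin n) R) (h : Fin m → Fin c → MvPolynomial (Fin n) R)
    (g : Fin m → MvPolynomial (Fin n) R)
    (rel : ∀ ℓ, a * f ℓ = ∑ j, h ℓ j * f (rows j) + C (π ^ 2) * g ℓ) :
    (Chart.ofRel rows cols a h g rel).c = c := rfl

@[simp] theorem Chart.ofRel_a {c : ℕ} (rows : Fin c ↪ Fin m) (cols : Fin c ↪ Fin n)
    (a : MvPolynomial (Fin n) R) (h : Fin m → Fin c → MvPolynomial (Fin n) R)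
    (g : Fin m → MvPolynomial (Fin n) R)
    (rel : ∀ ℓ, a * f ℓ = ∑ j, h ℓ j * f (rows j) + C (π ^ 2) * g ℓ) :
    (Chart.ofRel rows cols a h g rel).a = a := rfl

@[simp] theorem Chart.ofRel_rows {c : ℕ} (rows : Fin c ↪ Fin m) (cols : Fin c ↪ Fin n)
    (a : MvPolynomial (Fin n) R) (h : Fin m → Fin c → MvPolynomial (Fin n) R)
    (g : Fin m → MvPolynomial (Fin n) R)
    (rel : ∀ ℓ, a * f ℓ = ∑ j, h ℓ j * f (rows j) + C (π ^ 2) * g ℓ) :
    (Chart.ofRel rows cols a h g rel).rows = rows := rfl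

@[simp] theorem Chart.ofRel_cols {c : ℕ} (rows : Fin c ↪ Fin m) (cols : Fin c ↪ Fin n)
    (a : MvPolynomial (Fin n) R) (h : Fin m → Fin c → MvPolynomial (Fin n) R)
    (g : Fin m → MvPolynomial (Fin n) R)
    (rel : ∀ ℓ, a * f ℓ = ∑ j, h ℓ j * f (rows j) + C (π ^ 2) * g ℓ) :
    (Chart.ofRel rows cols a h g rel).cols = cols := rfl

end Chart

section Exists

variable {R : Type u} [CommRing R] (π : R) {n m : ℕ} (f : Fin m → MvPolynomial (Fin n) R)
  {Cb : Type u} [CommRing Cb] [Algebra R Cb] [Algebra (R ⧸ Ideal.span {π ^ 2}) Cb]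
  [IsScalarTower R (R ⧸ Ideal.span {π ^ 2}) Cb]
  (φ : MvPolynomial (Fin n) (R ⧸ Ideal.span {π ^ 2}) →ₐ[R ⧸ Ideal.span {π ^ 2}] Cb)

/-- The adjugate trick: from `a₁ f_ℓ = ∑ h⁰ f_rows + ∑ Y f + π² g⁰` with `Y` in the ideal of
relations, get a clean relation for `a₁ * det (a₁ - Y)`. -/
theorem exists_rel_of_sq {c : ℕ} (rows : Fin c → Fin m) (a₁ : MvPolynomial (Fin n) R)
    (h0 : Fin m → Fin c → MvPolynomial (Fin n) R) (Y : Fin m → Fin m → MvPolynomial (Fin n) R)
    (g0 : Fin m → MvPolynomial (Fin n) R)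
    (hrel : ∀ ℓ, a₁ * f ℓ = ∑ j, h0 ℓ j * f (rows j) + ∑ l, Y ℓ l * f l + C (π ^ 2) * g0 ℓ) :
    ∃ (h : Fin m → Fin c → MvPolynomial (Fin n) R) (g : Fin m → MvPolynomial (Fin n) R),
      ∀ ℓ, (a₁ * Matrix.det (a₁ • (1 : Matrix (Fin m) (Fin m) (MvPolynomial (Fin n) R))
          - Matrix.of Y)) * f ℓ = ∑ j, h ℓ j * f (rows j) + C (π ^ 2) * g ℓ := by
  classical
  set N : Matrix (Fin m) (Fin m) (MvPolynomial (Fin n) R) := a₁ • 1 - Matrix.of Y with hN
  set bv : Fin m → MvPolynomial (Fin n) R :=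
    fun ℓ => ∑ j, h0 ℓ j * f (rows j) + C (π ^ 2) * g0 ℓ with hbv
  have h1 : N.mulVec f = bv := by
    funext ℓ
    rw [hN, Matrix.sub_mulVec, Matrix.smul_mulVec, Matrix.one_mulVec]
    simp only [Pi.sub_apply, Pi.smul_apply, smul_eq_mul, Matrix.mulVec, dotProduct, Matrix.of_apply]
    rw [hrel ℓ, hbv]
    ring
  have h2 : N.adjugate.mulVec bv = N.det • f := by
    rw [← h1, Matrix.mulVec_mulVec, Matrix.adjugate_mul, Matrix.smul_mulVec, Matrix.one_mulVec]
  refine ⟨fun ℓ j => a₁ * ∑ l, N.adjugate ℓ l * h0 l j, fun ℓ => a₁ * ∑ l, N.adjugate ℓ l * g0 l,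
    fun ℓ => ?_⟩
  have h3 : N.det * f ℓ = ∑ l, N.adjugate ℓ l * bv l := by
    have := congrFun h2 ℓ
    simp only [Matrix.mulVec, dotProduct, Pi.smul_apply, smul_eq_mul] at this
    exact this.symm
  rw [mul_assoc, h3, hbv]
  simp only [mul_add, Finset.sum_add_distrib, Finset.mul_sum, Finset.sum_mul]
  congr 1
  · rw [Finset.sum_comm]
    refine Finset.sum_congr rfl fun l _ => Finset.sum_congr rfl fun j _ => ?_
    ring
  · refine Finset.sum_congr rfl fun l _ => ?_
    ring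

theorem homC_det_sub (hker : RingHom.ker φ.toRingHom = Ideal.span (Set.range (fun j => red π n (f j))))
    (a₁ : MvPolynomial (Fin n) R) (Y : Fin m → Fin m → MvPolynomial (Fin n) R)
    (hY : ∀ ℓ l, Y ℓ l ∈ Ideal.span (Set.range f)) :
    homC π φ (Matrix.det (a₁ • (1 : Matrix (Fin m) (Fin m) (MvPolynomial (Fin n) R))
      - Matrix.of Y)) = homC π φ a₁ ^ m := by
  classical
  rw [AlgHom.map_det]
  have h1 : (homC π φ).mapMatrix (a₁ • (1 : Matrix (Fin m) (Fin m) (MvPolynomial (Fin n) R))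
      - Matrix.of Y) = homC π φ a₁ • (1 : Matrix (Fin m) (Fin m) Cb) := by
    refine Matrix.ext fun i j => ?_
    simp only [AlgHom.mapMatrix_apply, Matrix.map_apply, Matrix.sub_apply, Matrix.smul_apply,
      Matrix.of_apply, smul_eq_mul, map_sub, map_mul]
    rw [homC_eq_zero_of_mem π φ f hker _ (hY i j), sub_zero]
    by_cases hij : i = j
    · subst hij
      simp
    · simp [Matrix.one_apply_ne hij]
  rw [h1, Matrix.det_smul, Matrix.det_one, mul_one, Fintype.card_fin]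

theorem exists_chart (hφ : Function.Surjective φ)
    (hker : RingHom.ker φ.toRingHom = Ideal.span (Set.range (fun j => red π n (f j))))
    (q : Ideal Cb) [q.IsPrime] [Algebra.IsSmoothAt (R ⧸ Ideal.span {π ^ 2}) q] :
    ∃ ch : Chart π f, homC π φ ch.a ∉ q ∧
      homC π φ ch.a ∈ Ideal.span {homC π φ (jacobianMinor f ch.rows ch.cols)} := by
  classical
  obtain ⟨ab, habq, c, rows, cols, ab', hab, hmem⟩ :=
    Groth.Agent.S2108.result (fun j => red π n (f j)) φ hφ hker q
  obtain ⟨a₁, ha₁⟩ := homC_surjective π φ hφ ab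
  have hm1 : ∀ ℓ, a₁ * f ℓ ∈ (Ideal.span (Set.range (f ∘ rows)) ⊔ Ideal.span (Set.range f) ^ 2) ⊔
      Ideal.span {C (π ^ 2)} := by
    intro ℓ
    apply mem_sup_of_red_mem
    rw [Ideal.map_sup, Ideal.map_pow, Ideal.map_span, Ideal.map_span, ← Set.range_comp,
      ← Set.range_comp, map_mul]
    exact hmem (red π n a₁) ha₁ ℓ
  have hm2 : ∀ ℓ, ∃ (h0 : Fin c → MvPolynomial (Fin n) R) (Y : Fin m → MvPolynomial (Fin n) R)
      (g0 : MvPolynomial (Fin n) R), (∀ l, Y l ∈ Ideal.span (Set.range f)) ∧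
      a₁ * f ℓ = ∑ j, h0 j * f (rows j) + ∑ l, Y l * f l + C (π ^ 2) * g0 := by
    intro ℓ
    obtain ⟨st, hst, u, hu, hstu⟩ := Submodule.mem_sup.mp (hm1 ℓ)
    obtain ⟨s, hs, t, ht, hst2⟩ := Submodule.mem_sup.mp hst
    obtain ⟨h0, hh0⟩ := (Ideal.mem_span_range_iff_exists_fun).mp hs
    obtain ⟨g0, hg0⟩ := Ideal.mem_span_singleton'.mp hu
    have ht' : t ∈ Ideal.span (Set.range f) • Submodule.span (MvPolynomial (Fin n) R) (Set.range f) := by
      rw [pow_two] at ht
      exact ht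
    obtain ⟨Y, hY, hYt⟩ := (Submodule.mem_ideal_smul_span_iff_exists_sum _ f t).mp ht'
    refine ⟨h0, fun l => Y l, g0, hY, ?_⟩
    have hsum : (Y.sum fun i c => c • f i) = ∑ l, Y l * f l := by
      rw [Finsupp.sum_fintype Y (fun i c => c • f i) (fun i => zero_smul _ _)]
      simp only [smul_eq_mul]
    rw [← hstu, ← hst2, ← hh0, ← hg0, ← hYt, hsum]
    simp only [Function.comp_apply]
    ring
  choose h0 Y g0 hY hrel using hm2
  obtain ⟨h, g, hfin⟩ := exists_rel_of_sq π f rows a₁ h0 Y g0 hrel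
  refine ⟨Chart.ofRel rows cols _ h g hfin, ?_, ?_⟩
  · rw [Chart.ofRel_a, map_mul, homC_det_sub π f φ hker a₁ Y hY, ha₁]
    intro hmem'
    rcases Ideal.IsPrime.mem_or_mem inferInstance hmem' with h' | h'
    · exact habq h'
    · exact habq (Ideal.IsPrime.mem_of_pow_mem inferInstance _ h')
  · rw [Chart.ofRel_a, Chart.ofRel_rows, Chart.ofRel_cols, map_mul,
      homC_det_sub π f φ hker a₁ Y hY, ha₁, Ideal.mem_span_singleton']
    refine ⟨ab' * ab ^ m, ?_⟩
    rw [homC_apply, red_jacobianMinor]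
    have e1 : ab' * ab ^ m * φ (jacobianMinor (fun j => red π n (f j)) rows cols) =
        (ab' * φ (jacobianMinor (fun j => red π n (f j)) rows cols)) * ab ^ m := by ring
    exact e1.trans (by rw [← hab])

theorem exists_charts [IsNoetherianRing Cb] (hφ : Function.Surjective φ)
    (hker : RingHom.ker φ.toRingHom = Ideal.span (Set.range (fun j => red π n (f j)))) :
    ∃ (r : ℕ) (ch : Fin r → Chart π f),
      (∀ k, homC π φ (ch k).a ∈
        Ideal.span {homC π φ (jacobianMinor f (ch k).rows (ch k).cols)}) ∧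
      ∀ (q : Ideal Cb) [q.IsPrime], Algebra.IsSmoothAt (R ⧸ Ideal.span {π ^ 2}) q →
        ∃ k, homC π φ (ch k).a ∉ q := by
  classical
  set S : Set Cb := {x | ∃ ch : Chart π f, homC π φ ch.a = x ∧
    x ∈ Ideal.span {homC π φ (jacobianMinor f ch.rows ch.cols)}} with hS
  have hfg : (Submodule.span Cb S).FG := IsNoetherian.noetherian _
  obtain ⟨t, htS, hts⟩ := (Submodule.fg_span_iff_fg_span_finset_subset S).mp hfg
  have hch : ∀ x : t, ∃ ch : Chart π f, homC π φ ch.a = x.1 ∧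
      x.1 ∈ Ideal.span {homC π φ (jacobianMinor f ch.rows ch.cols)} := fun x => htS x.2
  choose ch0 hch1 hch2 using hch
  refine ⟨t.card, fun k => ch0 (t.equivFin.symm k), fun k => ?_, fun q _ hq => ?_⟩
  · rw [hch1]
    exact hch2 _
  · haveI := hq
    obtain ⟨ch, hchq, hchm⟩ := exists_chart π f φ hφ hker q
    by_contra hcon
    push Not at hcon
    apply hchq
    have h1 : homC π φ ch.a ∈ Submodule.span Cb S := Submodule.subset_span ⟨ch, rfl, hchm⟩
    rw [hts] at h1
    have hle : Submodule.span Cb (t : Set Cb) ≤ q := by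
      rw [Submodule.span_le]
      intro x hx
      have := hcon (t.equivFin ⟨x, hx⟩)
      rw [Equiv.symm_apply_apply, hch1] at this
      exact this
    exact hle h1

end Exists

end Groth.Agent.Helper8.LiftA
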