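import Mathlib
import Groth.Agent.Lib.Helper8.LiftA2

/-!
# The lifting lemma (Stacks 16.5.1), III: the algebra `D`
-/

set_option autoImplicit false
universe u

namespace Groth.Agent.Helper8.LiftA

open MvPolynomial Smoothing

section DefD

variable {R : Type u} [CommRing R] (π : R) {n m r : ℕ} (f : Fin m → MvPolynomial (Fin n) R)
  (ch : Fin r → Chart π f)

/-- The relations of `D`. -/
noncomputable def relD : Fin m ⊕ (Fin r × Fin m) → MvPolynomial (Fin n ⊕ Fin m) R
  | Sum.inl j => rename Sum.inl (f j) - C π * X (Sum.inr j)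
  | Sum.inr (k, ℓ) => rename Sum.inl (ch k).a * X (Sum.inr ℓ)
      - ∑ j, rename Sum.inl ((ch k).h ℓ j) * X (Sum.inr ((ch k).rows j))
      - C π * rename Sum.inl ((ch k).g ℓ)

/-- The algebra `D = R[x, z]/(f_j - π z_j, p_{k,ℓ})`. -/
abbrev DD : Type u := MvPolynomial (Fin n ⊕ Fin m) R ⧸ Ideal.span (Set.range (relD π f ch))

/-- The map `R[x] → D`. -/
noncomputable def incD : MvPolynomial (Fin n) R →ₐ[R] DD π f ch :=
  (Ideal.Quotient.mkₐ R _).comp (rename Sum.inl)

/-- The class of `z_j` in `D`. -/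
noncomputable def zD (j : Fin m) : DD π f ch := Ideal.Quotient.mk _ (X (Sum.inr j))

theorem incD_apply (p : MvPolynomial (Fin n) R) :
    incD π f ch p = Ideal.Quotient.mk _ (rename Sum.inl p) := rfl

theorem incD_f (j : Fin m) : incD π f ch (f j) = algebraMap R _ π * zD π f ch j := by
  have h : relD π f ch (Sum.inl j) ∈ Ideal.span (Set.range (relD π f ch)) :=
    Ideal.subset_span ⟨_, rfl⟩
  rw [← Ideal.Quotient.eq_zero_iff_mem] at h
  simp only [relD, map_sub, map_mul] at h
  rw [sub_eq_zero] at h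
  rw [incD_apply, h, zD]
  rfl

theorem incD_p (k : Fin r) (ℓ : Fin m) :
    incD π f ch (ch k).a * zD π f ch ℓ =
      ∑ j, incD π f ch ((ch k).h ℓ j) * zD π f ch ((ch k).rows j)
        + algebraMap R _ π * incD π f ch ((ch k).g ℓ) := by
  have h : relD π f ch (Sum.inr (k, ℓ)) ∈ Ideal.span (Set.range (relD π f ch)) :=
    Ideal.subset_span ⟨_, rfl⟩
  rw [← Ideal.Quotient.eq_zero_iff_mem] at h
  simp only [relD, map_sub, map_mul, map_sum] at h
  rw [sub_eq_zero, sub_eq_iff_eq_add'] at h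
  simp only [incD_apply, zD]
  rw [h]
  rfl

variable {S : Type u} [CommRing S] [Algebra R S] (x : Fin n → S) (z : Fin m → S)

theorem aeval_relD_inl (j : Fin m) :
    aeval (Sum.elim x z) (relD π f ch (Sum.inl j)) = aeval x (f j) - algebraMap R S π * z j := by
  simp only [relD, map_sub, map_mul, aeval_rename, aeval_X, aeval_C, Sum.elim_inr]
  rfl

theorem aeval_relD_inr (k : Fin r) (ℓ : Fin m) :
    aeval (Sum.elim x z) (relD π f ch (Sum.inr (k, ℓ))) =
      aeval x (ch k).a * z ℓ - ∑ j, aeval x ((ch k).h ℓ j) * z ((ch k).rows j)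
        - algebraMap R S π * aeval x ((ch k).g ℓ) := by
  simp only [relD, map_sub, map_mul, map_sum, aeval_rename, aeval_X, aeval_C, Sum.elim_inr]
  rfl

/-- Criterion for a family of values to kill the relations of `D`. -/
theorem aeval_relD_eq_zero (h1 : ∀ j, aeval x (f j) = algebraMap R S π * z j)
    (h2 : ∀ k ℓ, aeval x (ch k).a * z ℓ = ∑ j, aeval x ((ch k).h ℓ j) * z ((ch k).rows j)
        + algebraMap R S π * aeval x ((ch k).g ℓ)) :
    ∀ o, aeval (Sum.elim x z) (relD π f ch o) = 0 := by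
  rintro (j | ⟨k, ℓ⟩)
  · rw [aeval_relD_inl, h1, sub_self]
  · rw [aeval_relD_inr, h2]
    ring

theorem aeval_rename_inl (p : MvPolynomial (Fin n) R) :
    aeval (Sum.elim x z) (rename Sum.inl p) = aeval x p := by
  rw [aeval_rename]
  rfl

end DefD

section Delta

variable {R Λ : Type u} [CommRing R] [CommRing Λ] [Algebra R Λ] (π : R)
  {n m r : ℕ} (f : Fin m → MvPolynomial (Fin n) R) (ch : Fin r → Chart π f)

theorem exists_delta (hΛ : ∀ x : Λ, π ^ 2 • x = 0 → π • x = 0) (lam : Fin n → Λ)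
    (hf : ∀ j, aeval lam (f j) ∈ Ideal.span {algebraMap R Λ (π ^ 2)}) :
    ∃ δ : DD π f ch →ₐ[R] Λ, ∀ p, δ (incD π f ch p) = aeval lam p := by
  classical
  have hμ : ∀ j, ∃ μ : Λ, μ * algebraMap R Λ (π ^ 2) = aeval lam (f j) :=
    fun j => Ideal.mem_span_singleton'.mp (hf j)
  choose μ hμ using hμ
  set z : Fin m → Λ := fun j => algebraMap R Λ π * μ j with hz
  have h1 : ∀ j, aeval lam (f j) = algebraMap R Λ π * z j := by
    intro j
    rw [← hμ j, hz, map_pow]
    ring
  have h2 : ∀ k ℓ, aeval lam (ch k).a * z ℓ = ∑ j, aeval lam ((ch k).h ℓ j) * z ((ch k).rows j)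
        + algebraMap R Λ π * aeval lam ((ch k).g ℓ) := by
    intro k ℓ
    have key : aeval lam (ch k).a * aeval lam (f ℓ) =
        ∑ j, aeval lam ((ch k).h ℓ j) * aeval lam (f ((ch k).rows j))
          + algebraMap R Λ (π ^ 2) * aeval lam ((ch k).g ℓ) := by
      have := congrArg (aeval lam) ((ch k).rel ℓ)
      simpa only [map_add, map_mul, map_sum, aeval_C] using this
    simp only [← hμ] at key
    set t : Λ := aeval lam (ch k).a * μ ℓ - ∑ j, aeval lam ((ch k).h ℓ j) * μ ((ch k).rows j)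
      - aeval lam ((ch k).g ℓ) with ht
    have e1 : ∑ j, aeval lam ((ch k).h ℓ j) * (μ ((ch k).rows j) * algebraMap R Λ (π ^ 2)) =
        algebraMap R Λ (π ^ 2) * ∑ j, aeval lam ((ch k).h ℓ j) * μ ((ch k).rows j) := by
      rw [Finset.mul_sum]
      exact Finset.sum_congr rfl fun j _ => by ring
    have ht0 : π ^ 2 • t = 0 := by
      rw [Algebra.smul_def, ht]
      rw [e1] at key
      linear_combination key
    have ht1 : algebraMap R Λ π * t = 0 := by
      rw [← Algebra.smul_def]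
      exact hΛ t ht0
    have e2 : ∑ j, aeval lam ((ch k).h ℓ j) * z ((ch k).rows j) =
        algebraMap R Λ π * ∑ j, aeval lam ((ch k).h ℓ j) * μ ((ch k).rows j) := by
      rw [Finset.mul_sum]
      exact Finset.sum_congr rfl fun j _ => by rw [hz]; ring
    rw [e2, hz]
    rw [ht] at ht1
    linear_combination ht1
  have h0 := aeval_relD_eq_zero π f ch lam z h1 h2
  have h0' : ∀ q ∈ Ideal.span (Set.range (relD π f ch)),
      (aeval (Sum.elim lam z) : MvPolynomial (Fin n ⊕ Fin m) R →ₐ[R] Λ) q = 0 := by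
    intro q hq
    have hle : Ideal.span (Set.range (relD π f ch)) ≤
        RingHom.ker (aeval (Sum.elim lam z) : MvPolynomial (Fin n ⊕ Fin m) R →ₐ[R] Λ).toRingHom := by
      rw [Ideal.span_le]
      rintro _ ⟨o, rfl⟩
      exact h0 o
    exact hle hq
  refine ⟨Ideal.Quotient.liftₐ _ (aeval (Sum.elim lam z)) h0', fun p => ?_⟩
  rw [incD_apply]
  change aeval (Sum.elim lam z) (rename Sum.inl p) = _
  exact aeval_rename_inl lam z p

end Delta

section Gen

theorem exists_lift_quot {R A B D : Type u} [CommRing R] [CommRing A] [CommRing B] [CommRing D]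
    [Algebra R A] [Algebra R B] [Algebra R D] (hom : A →ₐ[R] B) (hs : Function.Surjective hom)
    (inc : A →ₐ[R] D) (I : Ideal D) (H : ∀ a, hom a = 0 → inc a ∈ I) :
    ∃ ψ : B →ₐ[R] D ⧸ I, ∀ a, ψ (hom a) = Ideal.Quotient.mk I (inc a) := by
  have H' : RingHom.ker hom.toRingHom ≤
      RingHom.ker ((Ideal.Quotient.mkₐ R I).comp inc).toRingHom := by
    intro a ha
    rw [RingHom.mem_ker]
    change Ideal.Quotient.mk I (inc a) = 0
    rw [Ideal.Quotient.eq_zero_iff_mem]
    exact H a ha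
  refine ⟨AlgHom.liftOfSurjective hom hs _ H', fun a => ?_⟩
  rw [AlgHom.liftOfSurjective_apply]
  rfl

end Gen

section Psi

variable {R : Type u} [CommRing R] (π : R) {n m r : ℕ} (f : Fin m → MvPolynomial (Fin n) R)
  (ch : Fin r → Chart π f)
  {Cb : Type u} [CommRing Cb] [Algebra R Cb] [Algebra (R ⧸ Ideal.span {π ^ 2}) Cb]
  [IsScalarTower R (R ⧸ Ideal.span {π ^ 2}) Cb]
  (φ : MvPolynomial (Fin n) (R ⧸ Ideal.span {π ^ 2}) →ₐ[R ⧸ Ideal.span {π ^ 2}] Cb)

theorem exists_psi (hφ : Function.Surjective φ)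
    (hker : RingHom.ker φ.toRingHom = Ideal.span (Set.range (fun j => red π n (f j)))) :
    ∃ ψ : Cb →ₐ[R] DD π f ch ⧸ Ideal.span {algebraMap R (DD π f ch) π},
      ∀ p, ψ (homC π φ p) = Ideal.Quotient.mk _ (incD π f ch p) := by
  refine exists_lift_quot (homC π φ) (homC_surjective π φ hφ) (incD π f ch) _ ?_
  intro a ha
  have ha' : a ∈ RingHom.ker (homC π φ).toRingHom := ha
  rw [ker_homC π φ f hker] at ha'
  have hle : Ideal.span (Set.range f) ⊔ Ideal.span {C (π ^ 2)} ≤
      (Ideal.span {algebraMap R (DD π f ch) π}).comap (incD π f ch).toRingHom := by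
    rw [sup_le_iff, Ideal.span_le, Ideal.span_le]
    constructor
    · rintro _ ⟨j, rfl⟩
      rw [SetLike.mem_coe, Ideal.mem_comap]
      change incD π f ch (f j) ∈ _
      rw [incD_f]
      exact Ideal.mul_mem_right _ _ (Ideal.mem_span_singleton_self _)
    · rintro _ rfl
      rw [SetLike.mem_coe, Ideal.mem_comap]
      change incD π f ch (C (π ^ 2)) ∈ _
      have : incD π f ch (C (π ^ 2)) = algebraMap R (DD π f ch) π * algebraMap R (DD π f ch) π := by
        rw [← map_mul, ← pow_two]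
        exact (incD π f ch).commutes (π ^ 2)
      rw [this]
      exact Ideal.mul_mem_right _ _ (Ideal.mem_span_singleton_self _)
  exact hle ha'

theorem compat {Λ : Type u} [CommRing Λ] [Algebra R Λ] (hφ : Function.Surjective φ)
    (g : Cb →ₐ[R] Λ ⧸ Ideal.span {algebraMap R Λ (π ^ 2)}) (lam : Fin n → Λ)
    (hlam : ∀ i, Ideal.Quotient.mk (Ideal.span {algebraMap R Λ (π ^ 2)}) (lam i) =
      g (homC π φ (X i)))
    (δ : DD π f ch →ₐ[R] Λ) (hδ : ∀ p, δ (incD π f ch p) = aeval lam p)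
    (ψ : Cb →ₐ[R] DD π f ch ⧸ Ideal.span {algebraMap R (DD π f ch) π})
    (hψ : ∀ p, ψ (homC π φ p) = Ideal.Quotient.mk _ (incD π f ch p)) :
    ∀ (c : Cb) (d : DD π f ch) (l : Λ),
      Ideal.Quotient.mk (Ideal.span {algebraMap R (DD π f ch) π}) d = ψ c →
      Ideal.Quotient.mk (Ideal.span {algebraMap R Λ (π ^ 2)}) l = g c →
        δ d - l ∈ Ideal.span {algebraMap R Λ π} := by
  intro c d l hd hl
  obtain ⟨p, rfl⟩ := homC_surjective π φ hφ c
  have hg : ∀ p, g (homC π φ p) =
      Ideal.Quotient.mk (Ideal.span {algebraMap R Λ (π ^ 2)}) (aeval lam p) := by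
    intro p
    have : g.comp (homC π φ) = (Ideal.Quotient.mkₐ R _).comp (aeval lam) := by
      refine MvPolynomial.algHom_ext fun i => ?_
      simp only [AlgHom.comp_apply, aeval_X, Ideal.Quotient.mkₐ_eq_mk]
      exact (hlam i).symm
    exact DFunLike.congr_fun this p
  rw [hψ, Ideal.Quotient.eq, Ideal.mem_span_singleton'] at hd
  obtain ⟨e, he⟩ := hd
  rw [hg, Ideal.Quotient.eq, Ideal.mem_span_singleton'] at hl
  obtain ⟨e', he'⟩ := hl
  have h1 : δ d - aeval lam p = δ e * algebraMap R Λ π := by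
    rw [← hδ, ← map_sub, ← he, map_mul, AlgHom.commutes]
  have h2 : δ d - l = (δ e - e' * algebraMap R Λ π) * algebraMap R Λ π := by
    have : δ d - l = (δ d - aeval lam p) - (l - aeval lam p) := by ring
    rw [this, h1, ← he', map_pow]
    ring
  rw [h2]
  exact Ideal.mul_mem_left _ _ (Ideal.mem_span_singleton_self _)

end Psi

end Groth.Agent.Helper8.LiftA
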