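import Mathlib

/-!
# Local tricks for smoothing, II: homogenization of a polynomial
-/

set_option autoImplicit false
universe u v w

namespace Groth.Agent.Helper8.LocTr

open MvPolynomial

/-- Homogenization of `r` to degree `d`, with the new variable `none`. -/
noncomputable def homog {A : Type u} [CommRing A] {σ : Type v} (d : ℕ) (r : MvPolynomial σ A) :
    MvPolynomial (Option σ) A :=
  ∑ m ∈ r.support,
    monomial (m.mapDomain some + Finsupp.single none (d - m.sum fun _ e => e)) (r.coeff m)

theorem eval₂_homog {A : Type u} [CommRing A] {σ : Type v} (d : ℕ) (r : MvPolynomial σ A)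
    (hd : r.totalDegree ≤ d) {T : Type w} [CommRing T] (α : A →+* T) (y : σ → T) (t t' : T)
    (h : t * t' = 1) :
    eval₂ α (fun o : Option σ => o.elim t y) (homog d r) =
      t ^ d * eval₂ α (fun i => y i * t') r := by
  classical
  conv_rhs => rw [← support_sum_monomial_coeff r]
  rw [homog, eval₂_sum, eval₂_sum, Finset.mul_sum]
  refine Finset.sum_congr rfl fun m hm => ?_
  have hmd : (m.sum fun _ e => e) ≤ d := (le_totalDegree hm).trans hd
  rw [eval₂_monomial, eval₂_monomial]
  rw [Finsupp.prod_add_index' (by intro a; exact pow_zero _) (by intro a b₁ b₂; exact pow_add _ _ _),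
    Finsupp.prod_mapDomain_index (by intro a; exact pow_zero _)
      (by intro a b₁ b₂; exact pow_add _ _ _),
    Finsupp.prod_single_index (h := fun (n : Option σ) (e : ℕ) => n.elim t y ^ e) (pow_zero _)]
  simp only [Option.elim_some, Option.elim_none]
  have h1 : (m.prod fun i e => (y i * t') ^ e) =
      (m.prod fun i e => y i ^ e) * t' ^ (m.sum fun _ e => e) := by
    simp only [Finsupp.prod, Finsupp.sum, mul_pow, Finset.prod_mul_distrib,
      Finset.prod_pow_eq_pow_sum]
  rw [h1]
  have h2 : t ^ d = t ^ (d - m.sum fun _ e => e) * t ^ (m.sum fun _ e => e) := by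
    rw [← pow_add, Nat.sub_add_cancel hmd]
  have h3 : t ^ (m.sum fun _ e => e) * t' ^ (m.sum fun _ e => e) = 1 := by
    rw [← mul_pow, h, one_pow]
  calc α (coeff m r) * ((m.prod fun a b => y a ^ b) * t ^ (d - m.sum fun _ e => e))
      = α (coeff m r) * ((m.prod fun a b => y a ^ b) * t ^ (d - m.sum fun _ e => e)) *
          (t ^ (m.sum fun _ e => e) * t' ^ (m.sum fun _ e => e)) := by rw [h3, mul_one]
    _ = t ^ d * (α (coeff m r) * ((m.prod fun i e => y i ^ e) * t' ^ m.sum fun _ e => e)) := by
        rw [h2]; ring

end Groth.Agent.Helper8.LocTr
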