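import Mathlib
import Groth.Agent.Lib.Helper8.LocTr2

/-!
# Local tricks for smoothing, III: the homogenized algebra and its smoothness
-/

set_option autoImplicit false
universe u

namespace Groth.Agent.Helper8.LocTr

open MvPolynomial

/-- A retract of a formally smooth algebra is formally smooth. -/
theorem formallySmooth_of_retract {R S P : Type u} [CommRing R] [CommRing S] [CommRing P]
    [Algebra R S] [Algebra R P] [Algebra.FormallySmooth R P] (Φ : S →ₐ[R] P) (Ψ : P →ₐ[R] S)
    (h : Ψ.comp Φ = AlgHom.id R S) : Algebra.FormallySmooth R S := by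
  refine Algebra.FormallySmooth.of_comp_surjective fun B _ _ I hI g => ?_
  obtain ⟨v, hv⟩ := Algebra.FormallySmooth.comp_surjective R P I hI (g.comp Ψ)
  refine ⟨v.comp Φ, ?_⟩
  rw [← AlgHom.comp_assoc, hv, AlgHom.comp_assoc, h, AlgHom.comp_id]

section

variable {A : Type u} [CommRing A] {k l : ℕ} (r : Fin l → MvPolynomial (Fin k) A) (a : A) (d : ℕ)

/-- The algebra `A[y]/(r)`. -/
abbrev C₁ : Type u := MvPolynomial (Fin k) A ⧸ Ideal.span (Set.range r)

/-- The relations `x₀ * (homogenization of r j)`. -/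
noncomputable def rel (j : Fin l) : MvPolynomial (Option (Option (Fin k))) A :=
  X none * rename some (homog d (r j))

/-- The algebra `A[x₀, w, y]/(x₀ * r_j^h)`. -/
abbrev Cc : Type u := MvPolynomial (Option (Option (Fin k))) A ⧸ Ideal.span (Set.range (rel r d))

/-- The element `x₀ * w * a`. -/
noncomputable def bb : Cc r d := Ideal.Quotient.mk _ (X none * X (some none) * C a)

/-- Evaluation of the relations. -/
theorem eval₂_rel (hd : ∀ j, (r j).totalDegree ≤ d) {T : Type u} [CommRing T] (α : A →+* T)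
    (x₀ t t' : T) (y : Fin k → T) (h : t * t' = 1) (j : Fin l) :
    eval₂ α (fun o : Option (Option (Fin k)) => o.elim x₀ (fun o' => o'.elim t y)) (rel r d j) =
      x₀ * (t ^ d * eval₂ α (fun i => y i * t') (r j)) := by
  rw [rel, eval₂_mul, eval₂_X, eval₂_rename, ← eval₂_homog d (r j) (hd j) α y t t' h]
  rfl

end

/-- The localization of `A[x₀, w, y]/(x₀ * r_j^h)` at `x₀ * w * a` is formally smooth over `R` as soon
as `(A[y]/(r))_a` is. -/
theorem formallySmooth_away_bb {R A : Type u} [CommRing R] [CommRing A] [Algebra R A] {k l : ℕ}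
    (r : Fin l → MvPolynomial (Fin k) A) (a : A) (d : ℕ) (hd : ∀ j, (r j).totalDegree ≤ d)
    [Algebra.FormallySmooth R (Localization.Away (algebraMap A (C₁ r) a))] :
    Algebra.FormallySmooth R (Localization.Away (bb r a d)) := by
  classical
  -- the target of the retraction
  let E := Localization.Away (algebraMap A (C₁ r) a)
  let F := MvPolynomial (Fin 2) E
  let F' := Localization.Away (X 0 * X 1 : F)
  let Cb := Localization.Away (bb r a d)
  haveI : Algebra.FormallySmooth R F := Algebra.FormallySmooth.comp R E F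
  haveI : Algebra.FormallySmooth R F' := Algebra.FormallySmooth.comp R F F'
  -- elements of `Cb`
  let cmk : MvPolynomial (Option (Option (Fin k))) A →ₐ[A] Cb :=
    (IsScalarTower.toAlgHom A (Cc r d) Cb).comp (Ideal.Quotient.mkₐ A _)
  let x₀b : Cb := cmk (X none)
  let wb : Cb := cmk (X (some none))
  let yb : Fin k → Cb := fun i => cmk (X (some (some i)))
  have hbunit : IsUnit (algebraMap (Cc r d) Cb (bb r a d)) :=
    IsLocalization.Away.algebraMap_isUnit _
  have hbb : algebraMap (Cc r d) Cb (bb r a d) = x₀b * wb * algebraMap A Cb a := by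
    change cmk (X none * X (some none) * C a) = _
    rw [map_mul, map_mul, ← MvPolynomial.algebraMap_eq, cmk.commutes]
  rw [hbb] at hbunit
  have hx₀ : IsUnit x₀b := isUnit_of_mul_isUnit_left (isUnit_of_mul_isUnit_left hbunit)
  have hw : IsUnit wb := isUnit_of_mul_isUnit_right (isUnit_of_mul_isUnit_left hbunit)
  have ha : IsUnit (algebraMap A Cb a) := isUnit_of_mul_isUnit_right hbunit
  obtain ⟨wb', hwb'⟩ : ∃ wb' : Cb, wb * wb' = 1 := ⟨_, hw.mul_val_inv⟩
  have hcmk : ∀ p, cmk p = eval₂ (algebraMap A Cb)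
      (fun o : Option (Option (Fin k)) => o.elim x₀b (fun o' => o'.elim wb yb)) p := by
    intro p
    have : cmk = aeval (fun o : Option (Option (Fin k)) => o.elim x₀b (fun o' => o'.elim wb yb)) := by
      refine MvPolynomial.algHom_ext fun o => ?_
      rw [aeval_X]
      rcases o with _ | _ | i <;> rfl
    rw [this]
    rfl
  have hrel0 : ∀ j, eval₂ (algebraMap A Cb) (fun i => yb i * wb') (r j) = 0 := by
    intro j
    have h1 : cmk (rel r d j) = 0 := by
      change algebraMap (Cc r d) Cb (Ideal.Quotient.mk _ (rel r d j)) = 0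
      have h0 : Ideal.Quotient.mk (Ideal.span (Set.range (rel r d))) (rel r d j) = 0 :=
        Ideal.Quotient.eq_zero_iff_mem.mpr (Ideal.subset_span ⟨j, rfl⟩)
      rw [h0, map_zero]
    rw [hcmk, eval₂_rel r d hd _ _ _ _ _ hwb'] at h1
    have h2 := (hx₀.mul_right_eq_zero).mp h1
    exact ((hw.pow d).mul_right_eq_zero).mp h2
  -- the map `Ψ`
  let Ψ₁' : MvPolynomial (Fin k) A →ₐ[A] Cb := aeval (fun i => yb i * wb')
  have hΨ₁' : ∀ p ∈ Ideal.span (Set.range r), Ψ₁' p = 0 := by
    intro p hp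
    have hle : Ideal.span (Set.range r) ≤ RingHom.ker Ψ₁'.toRingHom := by
      rw [Ideal.span_le]
      rintro _ ⟨j, rfl⟩
      rw [SetLike.mem_coe, RingHom.mem_ker]
      exact hrel0 j
    exact hle hp
  let Ψ₁ : C₁ r →ₐ[A] Cb := Ideal.Quotient.liftₐ _ Ψ₁' hΨ₁'
  have hΨ₁a : IsUnit (Ψ₁ (algebraMap A (C₁ r) a)) := by
    rw [Ψ₁.commutes]
    exact ha
  let ΨE : E →ₐ[A] Cb := IsLocalization.Away.liftAlgHom (algebraMap A (C₁ r) a) (f := Ψ₁) hΨ₁a
  have hΨE : ∀ c : C₁ r, ΨE (algebraMap (C₁ r) E c) = Ψ₁ c := fun c =>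
    IsLocalization.Away.lift_eq _ hΨ₁a c
  let Ψ₀ : F →ₐ[A] Cb := aevalTower ΨE ![x₀b, wb]
  have hΨ₀u : IsUnit (Ψ₀ (X 0 * X 1)) := by
    rw [map_mul, aevalTower_X, aevalTower_X]
    exact hx₀.mul hw
  let Ψ : F' →ₐ[A] Cb := IsLocalization.Away.liftAlgHom (X 0 * X 1 : F) (f := Ψ₀) hΨ₀u
  have hΨ : ∀ c : F, Ψ (algebraMap F F' c) = Ψ₀ c := fun c =>
    IsLocalization.Away.lift_eq _ hΨ₀u c
  -- the map `Φ`
  have hXu : IsUnit (algebraMap F F' (X 0 * X 1)) := IsLocalization.Away.algebraMap_isUnit _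
  rw [map_mul] at hXu
  have hX0 : IsUnit (algebraMap F F' (X 0)) := isUnit_of_mul_isUnit_left hXu
  have hX1 : IsUnit (algebraMap F F' (X 1)) := isUnit_of_mul_isUnit_right hXu
  obtain ⟨X1', hX1'⟩ : ∃ t : F', algebraMap F F' (X 1) * t = 1 := ⟨_, hX1.mul_val_inv⟩
  let χ : C₁ r →ₐ[A] F' := (IsScalarTower.toAlgHom A F F').comp
    ((IsScalarTower.toAlgHom A E F).comp (IsScalarTower.toAlgHom A (C₁ r) E))
  have hχ : ∀ c, χ c = algebraMap F F' (algebraMap E F (algebraMap (C₁ r) E c)) := fun c => rfl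
  let valsΦ : Option (Option (Fin k)) → F' := fun o => o.elim (algebraMap F F' (X 0))
    (fun o' => o'.elim (algebraMap F F' (X 1))
      (fun i => χ (Ideal.Quotient.mk _ (X i)) * algebraMap F F' (X 1)))
  let Φ₀' : MvPolynomial (Option (Option (Fin k))) A →ₐ[A] F' := aeval valsΦ
  have hΦ₀' : ∀ p ∈ Ideal.span (Set.range (rel r d)), Φ₀' p = 0 := by
    intro p hp
    have hle : Ideal.span (Set.range (rel r d)) ≤ RingHom.ker Φ₀'.toRingHom := by
      rw [Ideal.span_le]
      rintro _ ⟨j, rfl⟩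
      rw [SetLike.mem_coe, RingHom.mem_ker]
      change aeval valsΦ (rel r d j) = 0
      rw [aeval_def, eval₂_rel r d hd _ _ _ _ _ hX1']
      have h1 : (fun i => χ (Ideal.Quotient.mk _ (X i)) * algebraMap F F' (X 1) * X1') =
          fun i => χ (Ideal.Quotient.mk _ (X i)) := by
        funext i
        rw [mul_assoc, hX1', mul_one]
      rw [h1]
      have h2 : eval₂ (algebraMap A F') (fun i => χ (Ideal.Quotient.mk _ (X i))) (r j) =
          χ (Ideal.Quotient.mk _ (r j)) := by
        have : (aeval (fun i => χ (Ideal.Quotient.mk _ (X i))) : MvPolynomial (Fin k) A →ₐ[A] F') =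
            χ.comp (Ideal.Quotient.mkₐ A _) := by
          refine MvPolynomial.algHom_ext fun i => ?_
          rw [aeval_X]
          rfl
        exact congr($this (r j))
      have h3 : Ideal.Quotient.mk (Ideal.span (Set.range r)) (r j) = 0 :=
        Ideal.Quotient.eq_zero_iff_mem.mpr (Ideal.subset_span ⟨j, rfl⟩)
      rw [h2, h3, map_zero, mul_zero, mul_zero]
    exact hle hp
  let Φ₀ : Cc r d →ₐ[A] F' := Ideal.Quotient.liftₐ _ Φ₀' hΦ₀'
  have hΦ₀b : IsUnit (Φ₀ (bb r a d)) := by
    change IsUnit (Φ₀' (X none * X (some none) * C a))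
    rw [map_mul, map_mul, ← MvPolynomial.algebraMap_eq, Φ₀'.commutes]
    have e1 : Φ₀' (X none) = algebraMap F F' (X 0) := aeval_X _ _
    have e2 : Φ₀' (X (some none)) = algebraMap F F' (X 1) := aeval_X _ _
    rw [e1, e2]
    refine (hX0.mul hX1).mul ?_
    have : algebraMap A F' a = χ (algebraMap A (C₁ r) a) := (χ.commutes a).symm
    rw [this, hχ]
    have hu : IsUnit (algebraMap (C₁ r) E (algebraMap A (C₁ r) a)) :=
      IsLocalization.Away.algebraMap_isUnit _
    exact (hu.map (algebraMap E F)).map (algebraMap F F')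
  let Φ : Cb →ₐ[A] F' := IsLocalization.Away.liftAlgHom (bb r a d) (f := Φ₀) hΦ₀b
  have hΦ : ∀ c : Cc r d, Φ (algebraMap (Cc r d) Cb c) = Φ₀ c := fun c =>
    IsLocalization.Away.lift_eq _ hΦ₀b c
  -- `Ψ ∘ Φ = id`
  have hcomp : Ψ.comp Φ = AlgHom.id A Cb := by
    refine IsLocalization.algHom_ext (Submonoid.powers (bb r a d)) ?_
    refine Ideal.Quotient.algHom_ext _ ?_
    refine MvPolynomial.algHom_ext fun o => ?_
    change Ψ (Φ (algebraMap (Cc r d) Cb (Ideal.Quotient.mk _ (X o)))) = cmk (X o)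
    rw [hΦ]
    change Ψ (Φ₀' (X o)) = cmk (X o)
    have e0 : Φ₀' (X o) = valsΦ o := aeval_X _ _
    rw [e0]
    rcases o with _ | _ | i
    · change Ψ (algebraMap F F' (X 0)) = x₀b
      rw [hΨ, aevalTower_X]
      rfl
    · change Ψ (algebraMap F F' (X 1)) = wb
      rw [hΨ, aevalTower_X]
      rfl
    · change Ψ (χ (Ideal.Quotient.mk _ (X i)) * algebraMap F F' (X 1)) = yb i
      rw [map_mul, hΨ, hχ, hΨ, aevalTower_algebraMap, hΨE, aevalTower_X]
      change Ψ₁' (X i) * wb = yb i
      have e1 : Ψ₁' (X i) = yb i * wb' := aeval_X _ _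
      rw [e1, mul_assoc, mul_comm wb' wb, hwb', mul_one]
  have hcompR : (Ψ.restrictScalars R).comp (Φ.restrictScalars R) = AlgHom.id R Cb := by
    refine AlgHom.ext fun x => ?_
    exact congr($hcomp x)
  exact formallySmooth_of_retract (Φ.restrictScalars R) (Ψ.restrictScalars R) hcompR

end Groth.Agent.Helper8.LocTr
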