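import Mathlib
import Groth.Agent.Lib.Helper8.LocTr3

/-!
# Local tricks for smoothing, V: the dimension zero trick
-/

set_option autoImplicit false
universe u

namespace Groth.Agent.Helper8.LocTr

open MvPolynomial

section Helpers

variable {A : Type u} [CommRing A] {σ : Type} {ι : Type} (rel : ι → MvPolynomial σ A)
  (p : MvPolynomial σ A)

/-- Maps out of a principal localization of a presented algebra. -/
theorem exists_algHom_away {S : Type u} [CommRing S] [Algebra A S] (vals : σ → S)
    (hrel : ∀ j, aeval vals (rel j) = 0) (hu : IsUnit (aeval vals p)) :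
    ∃ Φ : Localization.Away (Ideal.Quotient.mk (Ideal.span (Set.range rel)) p) →ₐ[A] S,
      ∀ q, Φ (algebraMap _ _ (Ideal.Quotient.mk (Ideal.span (Set.range rel)) q)) = aeval vals q := by
  have h0 : ∀ q ∈ Ideal.span (Set.range rel), aeval vals q = 0 := by
    intro q hq
    have hle : Ideal.span (Set.range rel) ≤ RingHom.ker (aeval vals : MvPolynomial σ A →ₐ[A] S).toRingHom := by
      rw [Ideal.span_le]
      rintro _ ⟨j, rfl⟩
      rw [SetLike.mem_coe, RingHom.mem_ker]
      exact hrel j
    exact hle hq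
  let Φ₀ : (MvPolynomial σ A ⧸ Ideal.span (Set.range rel)) →ₐ[A] S :=
    Ideal.Quotient.liftₐ _ (aeval vals) h0
  have hu' : IsUnit (Φ₀ (Ideal.Quotient.mk (Ideal.span (Set.range rel)) p)) := hu
  refine ⟨IsLocalization.Away.liftAlgHom _ (f := Φ₀) hu', fun q => ?_⟩
  exact IsLocalization.Away.lift_eq _ hu' _

/-- Extensionality for maps out of a principal localization of a presented algebra. -/
theorem algHom_ext_away {S : Type u} [CommRing S] [Algebra A S]
    {f g : Localization.Away (Ideal.Quotient.mk (Ideal.span (Set.range rel)) p) →ₐ[A] S}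
    (h : ∀ o, f (algebraMap _ _ (Ideal.Quotient.mk (Ideal.span (Set.range rel)) (X o))) =
      g (algebraMap _ _ (Ideal.Quotient.mk (Ideal.span (Set.range rel)) (X o)))) : f = g := by
  refine IsLocalization.algHom_ext
    (Submonoid.powers (Ideal.Quotient.mk (Ideal.span (Set.range rel)) p)) ?_
  refine Ideal.Quotient.algHom_ext _ ?_
  refine MvPolynomial.algHom_ext fun o => ?_
  exact h o

end Helpers

section Dim0

variable {A : Type u} [CommRing A] {σ : Type} {m ρ : ℕ}

/-- The variables `x`, `y`, `z`, `t`. -/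
abbrev Var2 (σ : Type) (ρ m : ℕ) : Type := (σ ⊕ Fin ρ) ⊕ (Unit ⊕ Fin ρ × Fin m)

/-- The variable `x_o`. -/
def vx (o : σ) : Var2 σ ρ m := Sum.inl (Sum.inl o)
/-- The variable `y_i`. -/
def vy (i : Fin ρ) : Var2 σ ρ m := Sum.inl (Sum.inr i)
/-- The variable `z`. -/
def vz : Var2 σ ρ m := Sum.inr (Sum.inl ())
/-- The variable `t_{ij}`. -/
def vt (i : Fin ρ) (j : Fin m) : Var2 σ ρ m := Sum.inr (Sum.inr (i, j))

variable (ρ) (f : Fin m → MvPolynomial σ A)

/-- The relations `f_j - ∑ y_i t_{ij}` and `z y_i`. -/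
noncomputable def rel2 : Fin m ⊕ Fin ρ → MvPolynomial (Var2 σ ρ m) A
  | Sum.inl j => rename vx (f j) - ∑ i, X (vy i) * X (vt i j)
  | Sum.inr i => X vz * X (vy i)

/-- The algebra `A[x, y, z, t]/(f_j - ∑ y_i t_{ij}, z y_i)`. -/
abbrev B2 : Type u := MvPolynomial (Var2 σ ρ m) A ⧸ Ideal.span (Set.range (rel2 ρ f))

/-- The element `y_i * a`. -/
noncomputable def elY (i : Fin ρ) (a : A) : MvPolynomial (Var2 σ ρ m) A := X (vy i) * C a

/-- The element `z * c`. -/
noncomputable def elZ (c : MvPolynomial σ A) : MvPolynomial (Var2 σ ρ m) A := X vz * rename vx c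

theorem formallySmooth_away_y {R : Type u} [CommRing R] [Algebra R A] (a : A)
    [Algebra.FormallySmooth R (Localization.Away a)] (i : Fin ρ) :
    Algebra.FormallySmooth R (Localization.Away
      (Ideal.Quotient.mk (Ideal.span (Set.range (rel2 ρ f))) (elY ρ (m := m) i a))) := by
  classical
  let Aa := Localization.Away a
  let F := MvPolynomial (Var2 σ ρ m) Aa
  let F' := Localization.Away (X (vy i) : F)
  let Bb := Localization.Away
    (Ideal.Quotient.mk (Ideal.span (Set.range (rel2 ρ f))) (elY ρ (m := m) i a))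
  haveI : Algebra.FormallySmooth R F := Algebra.FormallySmooth.comp R Aa F
  haveI : Algebra.FormallySmooth R F' := Algebra.FormallySmooth.comp R F F'
  -- generators of `Bb`
  let cmk : MvPolynomial (Var2 σ ρ m) A →ₐ[A] Bb :=
    (IsScalarTower.toAlgHom A (B2 ρ f) Bb).comp (Ideal.Quotient.mkₐ A _)
  let gen : Var2 σ ρ m → Bb := fun v => cmk (X v)
  have hbunit : IsUnit (cmk (elY ρ i a)) :=
    IsLocalization.Away.algebraMap_isUnit
      (Ideal.Quotient.mk (Ideal.span (Set.range (rel2 ρ f))) (elY ρ (m := m) i a))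
  have hcC : ∀ x : A, cmk (C x) = algebraMap A Bb x := fun x => cmk.commutes x
  have hbb : cmk (elY ρ i a) = gen (vy i) * algebraMap A Bb a := by
    change cmk (X (vy i) * C a) = _
    rw [map_mul cmk, hcC]
  rw [hbb] at hbunit
  have hyu : IsUnit (gen (vy i)) := isUnit_of_mul_isUnit_left hbunit
  have hau : IsUnit (algebraMap A Bb a) := isUnit_of_mul_isUnit_right hbunit
  have hrelb : ∀ k, cmk (rel2 ρ f k) = 0 := by
    intro k
    change algebraMap (B2 ρ f) Bb (Ideal.Quotient.mk _ (rel2 ρ f k)) = 0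
    have h0 : Ideal.Quotient.mk (Ideal.span (Set.range (rel2 ρ f))) (rel2 ρ f k) = 0 :=
      Ideal.Quotient.eq_zero_iff_mem.mpr (Ideal.subset_span ⟨k, rfl⟩)
    rw [h0, map_zero]
  have hzb : gen vz = 0 := by
    have h1 := hrelb (Sum.inr i)
    change cmk (X vz * X (vy i)) = 0 at h1
    rw [map_mul] at h1
    exact (hyu.mul_left_eq_zero).mp h1
  -- the map `Ψ`
  let ΨA : Aa →ₐ[A] Bb := IsLocalization.Away.liftAlgHom a (f := Algebra.ofId A Bb) hau
  let Ψ₀ : F →ₐ[A] Bb := aevalTower ΨA gen
  have hΨ₀y : IsUnit (Ψ₀ (X (vy i))) := by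
    rw [aevalTower_X]
    exact hyu
  let Ψ : F' →ₐ[A] Bb := IsLocalization.Away.liftAlgHom (X (vy i) : F) (f := Ψ₀) hΨ₀y
  have hΨ : ∀ c : F, Ψ (algebraMap F F' c) = Ψ₀ c := fun c =>
    IsLocalization.Away.lift_eq _ hΨ₀y c
  -- the canonical map `Θ`
  let Θ : MvPolynomial (Var2 σ ρ m) A →ₐ[A] F' := aeval (fun v => algebraMap F F' (X v))
  have hΨΘ : ∀ q, Ψ (Θ q) = cmk q := by
    intro q
    have : Ψ.comp Θ = cmk := by
      refine MvPolynomial.algHom_ext fun v => ?_
      change Ψ (Θ (X v)) = cmk (X v)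
      have e0 : Θ (X v) = algebraMap F F' (X v) := aeval_X _ _
      rw [e0, hΨ, aevalTower_X]
    exact congr($this q)
  -- the map `Φ`
  have hYu : IsUnit (algebraMap F F' (X (vy i))) := IsLocalization.Away.algebraMap_isUnit _
  obtain ⟨Yinv, hYinv⟩ : ∃ t : F', algebraMap F F' (X (vy i)) * t = 1 := ⟨_, hYu.mul_val_inv⟩
  let S' : Fin m → F' := fun j => ∑ i', algebraMap F F' (X (vy i')) * algebraMap F F' (X (vt i' j))
  let T : Fin m → F' := fun j => Yinv * (Θ (rename vx (f j)) -
    (S' j - algebraMap F F' (X (vy i)) * algebraMap F F' (X (vt i j))))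
  let vals : Var2 σ ρ m → F' := fun v => match v with
    | Sum.inl w => algebraMap F F' (X (Sum.inl w))
    | Sum.inr (Sum.inl _) => 0
    | Sum.inr (Sum.inr (i', j)) => if i' = i then T j else algebraMap F F' (X (vt i' j))
  have hvx : ∀ o, vals (vx o) = algebraMap F F' (X (vx o)) := fun o => rfl
  have hvy : ∀ i', vals (vy i') = algebraMap F F' (X (vy i')) := fun i' => rfl
  have hvz : vals vz = 0 := rfl
  have hvt : ∀ i' j, vals (vt i' j) = if i' = i then T j else algebraMap F F' (X (vt i' j)) :=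
    fun i' j => rfl
  have hvalsf : ∀ j, aeval vals (rename vx (f j)) = Θ (rename vx (f j)) := by
    intro j
    rw [aeval_rename, aeval_rename]
    rfl
  have hrelΦ : ∀ k, aeval vals (rel2 ρ f k) = 0 := by
    rintro (j | i')
    · change aeval vals (rename vx (f j) - ∑ i', X (vy i') * X (vt i' j)) = 0
      rw [map_sub, hvalsf, map_sum]
      have h1 : ∀ i' : Fin ρ, aeval vals (X (vy i') * X (vt i' j) : MvPolynomial (Var2 σ ρ m) A) =
          algebraMap F F' (X (vy i')) * algebraMap F F' (X (vt i' j)) +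
            (if i' = i then algebraMap F F' (X (vy i)) * (T j - algebraMap F F' (X (vt i j)))
              else 0) := by
        intro i'
        rw [map_mul, aeval_X, aeval_X, hvy, hvt]
        by_cases hi : i' = i
        · subst hi
          rw [if_pos rfl, if_pos rfl]
          ring
        · rw [if_neg hi, if_neg hi, add_zero]
      rw [Finset.sum_congr rfl (fun i' _ => h1 i'), Finset.sum_add_distrib, Finset.sum_ite_eq'
        , if_pos (Finset.mem_univ i)]
      change Θ (rename vx (f j)) - (S' j + algebraMap F F' (X (vy i)) * (T j - _)) = 0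
      have h2 : algebraMap F F' (X (vy i)) * T j = Θ (rename vx (f j)) -
          (S' j - algebraMap F F' (X (vy i)) * algebraMap F F' (X (vt i j))) := by
        change algebraMap F F' (X (vy i)) * (Yinv * _) = _
        rw [← mul_assoc, hYinv, one_mul]
      rw [mul_sub, h2]
      ring
    · change aeval vals (X vz * X (vy i')) = 0
      rw [map_mul, aeval_X, hvz, zero_mul]
  have huΦ : IsUnit (aeval vals (elY ρ (m := m) i a)) := by
    change IsUnit (aeval vals (X (vy i) * C a))
    rw [map_mul, aeval_X, aeval_C, hvy]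
    refine hYu.mul ?_
    have hu : IsUnit (algebraMap A Aa a) := IsLocalization.Away.algebraMap_isUnit _
    have e1 : algebraMap A F' a = algebraMap F F' (algebraMap Aa F (algebraMap A Aa a)) := by
      rw [← IsScalarTower.algebraMap_apply A Aa F, ← IsScalarTower.algebraMap_apply A F F']
    rw [e1]
    exact (hu.map (algebraMap Aa F)).map (algebraMap F F')
  obtain ⟨Φ, hΦ⟩ := exists_algHom_away (rel2 ρ f) (elY ρ i a) vals hrelΦ huΦ
  have hΨYinv : Ψ Yinv * gen (vy i) = 1 := by
    have h1 : Ψ (algebraMap F F' (X (vy i))) = gen (vy i) := by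
      rw [hΨ, aevalTower_X]
    rw [← h1, ← map_mul, mul_comm, hYinv, map_one]
  have hcomp : Ψ.comp Φ = AlgHom.id A Bb := by
    refine algHom_ext_away (rel2 ρ f) (elY ρ i a) fun v => ?_
    change Ψ (Φ (algebraMap _ _ (Ideal.Quotient.mk _ (X v)))) = gen v
    rw [hΦ, aeval_X]
    rcases v with w | ⟨⟨⟩⟩ | ⟨i', j⟩
    · change Ψ (algebraMap F F' (X (Sum.inl w))) = _
      rw [hΨ, aevalTower_X]
    · change Ψ 0 = gen vz
      rw [map_zero, hzb]
    · change Ψ (if i' = i then T j else algebraMap F F' (X (vt i' j))) = gen (vt i' j)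
      by_cases hi : i' = i
      · subst hi
        rw [if_pos rfl]
        change Ψ (Yinv * (Θ (rename vx (f j)) -
          (S' j - algebraMap F F' (X (vy i')) * algebraMap F F' (X (vt i' j))))) = _
        have hS' : Ψ (S' j) = cmk (∑ i'', X (vy i'') * X (vt i'' j)) := by
          change Ψ (∑ i'', algebraMap F F' (X (vy i'')) * algebraMap F F' (X (vt i'' j))) = _
          rw [map_sum, map_sum]
          refine Finset.sum_congr rfl fun i'' _ => ?_
          rw [map_mul, hΨ, hΨ, aevalTower_X, aevalTower_X, map_mul]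
        have hrel := hrelb (Sum.inl j)
        change cmk (rename vx (f j) - ∑ i'', X (vy i'') * X (vt i'' j)) = 0 at hrel
        rw [map_sub, sub_eq_zero] at hrel
        rw [map_mul, map_sub, map_sub, hΨΘ, hS', hrel, map_mul, hΨ, hΨ, aevalTower_X,
          aevalTower_X, sub_sub_cancel, ← mul_assoc, hΨYinv, one_mul]
      · rw [if_neg hi, hΨ, aevalTower_X]
  have hcompR : (Ψ.restrictScalars R).comp (Φ.restrictScalars R) = AlgHom.id R Bb := by
    refine AlgHom.ext fun x => ?_
    exact congr($hcomp x)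
  exact formallySmooth_of_retract (Φ.restrictScalars R) (Ψ.restrictScalars R) hcompR

theorem formallySmooth_away_z {R : Type u} [CommRing R] [Algebra R A] (c : MvPolynomial σ A)
    [Algebra.FormallySmooth R
      (Localization.Away (Ideal.Quotient.mk (Ideal.span (Set.range f)) c))] :
    Algebra.FormallySmooth R (Localization.Away
      (Ideal.Quotient.mk (Ideal.span (Set.range (rel2 ρ f))) (elZ ρ (m := m) c))) := by
  classical
  let C₀ := MvPolynomial σ A ⧸ Ideal.span (Set.range f)
  let Cc' := Localization.Away (Ideal.Quotient.mk (Ideal.span (Set.range f)) c)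
  let F := MvPolynomial (Unit ⊕ Fin ρ × Fin m) Cc'
  let F' := Localization.Away (X (Sum.inl ()) : F)
  let Bb := Localization.Away
    (Ideal.Quotient.mk (Ideal.span (Set.range (rel2 ρ f))) (elZ ρ (m := m) c))
  haveI : Algebra.FormallySmooth R F := Algebra.FormallySmooth.comp R Cc' F
  haveI : Algebra.FormallySmooth R F' := Algebra.FormallySmooth.comp R F F'
  -- generators of `Bb`
  let cmk : MvPolynomial (Var2 σ ρ m) A →ₐ[A] Bb :=
    (IsScalarTower.toAlgHom A (B2 ρ f) Bb).comp (Ideal.Quotient.mkₐ A _)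
  let gen : Var2 σ ρ m → Bb := fun v => cmk (X v)
  have hbunit : IsUnit (cmk (elZ ρ c)) :=
    IsLocalization.Away.algebraMap_isUnit
      (Ideal.Quotient.mk (Ideal.span (Set.range (rel2 ρ f))) (elZ ρ (m := m) c))
  have hbb : cmk (elZ ρ c) = gen vz * cmk (rename vx c) := by
    change cmk (X vz * rename vx c) = _
    rw [map_mul cmk]
  rw [hbb] at hbunit
  have hzu : IsUnit (gen vz) := isUnit_of_mul_isUnit_left hbunit
  have hcu : IsUnit (cmk (rename vx c)) := isUnit_of_mul_isUnit_right hbunit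
  have hrelb : ∀ k, cmk (rel2 ρ f k) = 0 := by
    intro k
    change algebraMap (B2 ρ f) Bb (Ideal.Quotient.mk _ (rel2 ρ f k)) = 0
    have h0 : Ideal.Quotient.mk (Ideal.span (Set.range (rel2 ρ f))) (rel2 ρ f k) = 0 :=
      Ideal.Quotient.eq_zero_iff_mem.mpr (Ideal.subset_span ⟨k, rfl⟩)
    rw [h0, map_zero]
  have hyb : ∀ i, gen (vy i) = 0 := by
    intro i
    have h1 := hrelb (Sum.inr i)
    change cmk (X vz * X (vy i)) = 0 at h1
    rw [map_mul cmk] at h1
    exact (hzu.mul_right_eq_zero).mp h1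
  have hcmkx : ∀ q : MvPolynomial σ A, cmk (rename vx q) = aeval (fun o => gen (vx o)) q := by
    intro q
    have : cmk.comp (rename vx) = aeval (fun o => gen (vx o)) := by
      refine MvPolynomial.algHom_ext fun o => ?_
      rw [AlgHom.comp_apply, rename_X, aeval_X]
    exact congr($this q)
  -- the map `Ψ`
  have hΨC0 : ∀ q ∈ Ideal.span (Set.range f), aeval (fun o => gen (vx o)) q = 0 := by
    intro q hq
    have hle : Ideal.span (Set.range f) ≤
        RingHom.ker (aeval (fun o => gen (vx o)) : MvPolynomial σ A →ₐ[A] Bb).toRingHom := by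
      rw [Ideal.span_le]
      rintro _ ⟨j, rfl⟩
      rw [SetLike.mem_coe, RingHom.mem_ker]
      change aeval (fun o => gen (vx o)) (f j) = 0
      rw [← hcmkx]
      have hrel := hrelb (Sum.inl j)
      change cmk (rename vx (f j) - ∑ i, X (vy i) * X (vt i j)) = 0 at hrel
      rw [map_sub, sub_eq_zero] at hrel
      rw [hrel, map_sum]
      refine Finset.sum_eq_zero fun i _ => ?_
      rw [map_mul cmk]
      change gen (vy i) * _ = 0
      rw [hyb, zero_mul]
    exact hle hq
  let ΨC : C₀ →ₐ[A] Bb := Ideal.Quotient.liftₐ _ (aeval (fun o => gen (vx o))) hΨC0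
  have hΨCc : IsUnit (ΨC (Ideal.Quotient.mk (Ideal.span (Set.range f)) c)) := by
    change IsUnit (aeval (fun o => gen (vx o)) c)
    rw [← hcmkx]
    exact hcu
  let ΨCc : Cc' →ₐ[A] Bb := IsLocalization.Away.liftAlgHom _ (f := ΨC) hΨCc
  have hΨCc' : ∀ x : C₀, ΨCc (algebraMap C₀ Cc' x) = ΨC x := fun x =>
    IsLocalization.Away.lift_eq _ hΨCc x
  let Ψ₀ : F →ₐ[A] Bb := aevalTower ΨCc (fun w => gen (Sum.inr w))
  have hΨ₀z : IsUnit (Ψ₀ (X (Sum.inl ()))) := by
    rw [aevalTower_X]
    exact hzu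
  let Ψ : F' →ₐ[A] Bb := IsLocalization.Away.liftAlgHom (X (Sum.inl ()) : F) (f := Ψ₀) hΨ₀z
  have hΨ : ∀ x : F, Ψ (algebraMap F F' x) = Ψ₀ x := fun x =>
    IsLocalization.Away.lift_eq _ hΨ₀z x
  -- the map `Φ`
  let χ : C₀ →ₐ[A] F' := (IsScalarTower.toAlgHom A F F').comp
    ((IsScalarTower.toAlgHom A Cc' F).comp (IsScalarTower.toAlgHom A C₀ Cc'))
  have hχ : ∀ x, χ x = algebraMap F F' (algebraMap Cc' F (algebraMap C₀ Cc' x)) := fun x => rfl
  let vals : Var2 σ ρ m → F' := fun v => match v with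
    | Sum.inl (Sum.inl o) => χ (Ideal.Quotient.mk _ (X o))
    | Sum.inl (Sum.inr _) => 0
    | Sum.inr w => algebraMap F F' (X w)
  have hvalsx : ∀ q : MvPolynomial σ A, aeval vals (rename vx q) = χ (Ideal.Quotient.mk _ q) := by
    intro q
    have : (aeval vals).comp (rename vx) = χ.comp (Ideal.Quotient.mkₐ A (Ideal.span (Set.range f))) := by
      refine MvPolynomial.algHom_ext fun o => ?_
      rw [AlgHom.comp_apply, rename_X, aeval_X]
      rfl
    exact congr($this q)
  have hrelΦ : ∀ k, aeval vals (rel2 ρ f k) = 0 := by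
    rintro (j | i)
    · change aeval vals (rename vx (f j) - ∑ i, X (vy i) * X (vt i j)) = 0
      rw [map_sub, hvalsx, map_sum]
      have h3 : Ideal.Quotient.mk (Ideal.span (Set.range f)) (f j) = 0 :=
        Ideal.Quotient.eq_zero_iff_mem.mpr (Ideal.subset_span ⟨j, rfl⟩)
      rw [h3, map_zero, zero_sub, neg_eq_zero]
      refine Finset.sum_eq_zero fun i _ => ?_
      rw [map_mul, aeval_X]
      change (0 : F') * _ = 0
      rw [zero_mul]
    · change aeval vals (X vz * X (vy i)) = 0
      rw [map_mul, aeval_X, aeval_X]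
      change _ * (0 : F') = 0
      rw [mul_zero]
  have hXu : IsUnit (algebraMap F F' (X (Sum.inl ()))) := IsLocalization.Away.algebraMap_isUnit _
  have huΦ : IsUnit (aeval vals (elZ ρ (m := m) c)) := by
    change IsUnit (aeval vals (X vz * rename vx c))
    rw [map_mul, aeval_X, hvalsx]
    refine IsUnit.mul hXu ?_
    rw [hχ]
    have hu : IsUnit (algebraMap C₀ Cc' (Ideal.Quotient.mk (Ideal.span (Set.range f)) c)) :=
      IsLocalization.Away.algebraMap_isUnit _
    exact (hu.map (algebraMap Cc' F)).map (algebraMap F F')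
  obtain ⟨Φ, hΦ⟩ := exists_algHom_away (rel2 ρ f) (elZ ρ c) vals hrelΦ huΦ
  have hcomp : Ψ.comp Φ = AlgHom.id A Bb := by
    refine algHom_ext_away (rel2 ρ f) (elZ ρ c) fun v => ?_
    change Ψ (Φ (algebraMap _ _ (Ideal.Quotient.mk _ (X v)))) = gen v
    rw [hΦ, aeval_X]
    rcases v with (o | i) | w
    · change Ψ (χ (Ideal.Quotient.mk _ (X o))) = gen (vx o)
      rw [hχ, hΨ, aevalTower_algebraMap, hΨCc']
      change aeval (fun o => gen (vx o)) (X o) = _
      rw [aeval_X]
    · change Ψ 0 = gen (vy i)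
      rw [map_zero, hyb]
    · change Ψ (algebraMap F F' (X w)) = _
      rw [hΨ, aevalTower_X]
  have hcompR : (Ψ.restrictScalars R).comp (Φ.restrictScalars R) = AlgHom.id R Bb := by
    refine AlgHom.ext fun x => ?_
    exact congr($hcomp x)
  exact formallySmooth_of_retract (Φ.restrictScalars R) (Ψ.restrictScalars R) hcompR

end Dim0

end Groth.Agent.Helper8.LocTr
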