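import Mathlib
import Groth.Agent.Lib.Helper8.LiftA3
import Groth.Agent.Lib.Helper8.LocTr5

/-!
# The lifting lemma (Stacks 16.5.1), IV: smoothness away from `π`
-/

set_option autoImplicit false
universe u

namespace Groth.Agent.Helper8.LiftA

open MvPolynomial Smoothing

section PartB

variable {R : Type u} [CommRing R] (π : R) {n m r : ℕ} (f : Fin m → MvPolynomial (Fin n) R)
  (ch : Fin r → Chart π f)

theorem aeval_algebraMap_X {T : Type u} [CommRing T] [Algebra R T]
    [Algebra (MvPolynomial (Fin n) R) T] [IsScalarTower R (MvPolynomial (Fin n) R) T]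
    (p : MvPolynomial (Fin n) R) :
    aeval (fun i => algebraMap (MvPolynomial (Fin n) R) T (X i)) p =
      algebraMap (MvPolynomial (Fin n) R) T p := by
  have : (aeval (fun i => algebraMap (MvPolynomial (Fin n) R) T (X i)) :
      MvPolynomial (Fin n) R →ₐ[R] T) = IsScalarTower.toAlgHom R (MvPolynomial (Fin n) R) T := by
    refine MvPolynomial.algHom_ext fun i => ?_
    rw [aeval_X]
    rfl
  exact DFunLike.congr_fun this p

theorem formallySmooth_away_pi :
    Algebra.FormallySmooth R (Localization.Away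
      (Ideal.Quotient.mk (Ideal.span (Set.range (relD π f ch))) (C π))) := by
  classical
  let P := MvPolynomial (Fin n) R
  let T := Localization.Away (C π : P)
  haveI : Algebra.FormallySmooth P T :=
    Algebra.FormallySmooth.of_isLocalization (Submonoid.powers (C π : P))
  haveI : Algebra.FormallySmooth R T := Algebra.FormallySmooth.comp R P T
  let Dπ := Localization.Away (Ideal.Quotient.mk (Ideal.span (Set.range (relD π f ch))) (C π))
  let ι : P →+* T := algebraMap P T
  let u : T := IsLocalization.Away.invSelf (C π : P)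
  have hu : ι (C π) * u = 1 := IsLocalization.Away.mul_invSelf (C π : P)
  have hιC : ∀ a : R, ι (C a) = algebraMap R T a := fun a =>
    (IsScalarTower.algebraMap_apply R P T a).symm
  let xT : Fin n → T := fun i => ι (X i)
  let zT : Fin m → T := fun j => ι (f j) * u
  have hx : ∀ p : P, aeval xT p = ι p := fun p => aeval_algebraMap_X p
  have h1 : ∀ j, aeval xT (f j) = algebraMap R T π * zT j := by
    intro j
    rw [hx, ← hιC]
    change _ = ι (C π) * (ι (f j) * u)
    linear_combination (-(ι (f j))) * hu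
  have h2 : ∀ k ℓ, aeval xT (ch k).a * zT ℓ = ∑ j, aeval xT ((ch k).h ℓ j) * zT ((ch k).rows j)
        + algebraMap R T π * aeval xT ((ch k).g ℓ) := by
    intro k ℓ
    have key : ι (ch k).a * ι (f ℓ) = ∑ j, ι ((ch k).h ℓ j) * ι (f ((ch k).rows j))
        + ι (C π) * ι (C π) * ι ((ch k).g ℓ) := by
      have := congrArg ι ((ch k).rel ℓ)
      simpa only [map_add, map_mul, map_sum, map_pow, pow_two] using this
    simp only [hx, ← hιC]
    change ι (ch k).a * (ι (f ℓ) * u) = ∑ j, ι ((ch k).h ℓ j) * (ι (f ((ch k).rows j)) * u) + _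
    have e1 : ∑ j, ι ((ch k).h ℓ j) * (ι (f ((ch k).rows j)) * u) =
        u * ∑ j, ι ((ch k).h ℓ j) * ι (f ((ch k).rows j)) := by
      rw [Finset.mul_sum]
      exact Finset.sum_congr rfl fun j _ => by ring
    rw [e1]
    linear_combination u * key + (ι (C π) * ι ((ch k).g ℓ)) * hu
  have h0 := aeval_relD_eq_zero π f ch xT zT h1 h2
  have hunit : IsUnit (aeval (Sum.elim xT zT) (C π : MvPolynomial (Fin n ⊕ Fin m) R)) := by
    rw [aeval_C, ← hιC]
    exact IsLocalization.Away.algebraMap_isUnit (C π : P)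
  obtain ⟨Φ, hΦ⟩ := LocTr.exists_algHom_away (relD π f ch) (C π) (Sum.elim xT zT) h0 hunit
  -- the map back
  let am : DD π f ch →ₐ[R] Dπ := IsScalarTower.toAlgHom R (DD π f ch) Dπ
  have hCπ : incD π f ch (C π) = Ideal.Quotient.mk _ (C π) := by
    rw [incD_apply, rename_C]
  have hΨu : IsUnit ((am.comp (incD π f ch)) (C π)) := by
    change IsUnit (algebraMap (DD π f ch) Dπ (incD π f ch (C π)))
    rw [hCπ]
    exact IsLocalization.Away.algebraMap_isUnit _
  let Ψ : T →ₐ[R] Dπ := IsLocalization.Away.liftAlgHom (C π : P) (f := am.comp (incD π f ch)) hΨu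
  have hΨ : ∀ p : P, Ψ (ι p) = algebraMap (DD π f ch) Dπ (incD π f ch p) := fun p =>
    IsLocalization.Away.lift_eq _ hΨu p
  refine LocTr.formallySmooth_of_retract Φ Ψ ?_
  refine LocTr.algHom_ext_away (relD π f ch) (C π) fun o => ?_
  rw [AlgHom.comp_apply, hΦ, aeval_X, AlgHom.id_apply]
  rcases o with i | j
  · change Ψ (ι (X i)) = _
    rw [hΨ, incD_apply, rename_X]
  · change Ψ (ι (f j) * u) = _
    have hΨu1 : Ψ (ι (C π)) * Ψ u = 1 := by rw [← map_mul, hu, map_one]
    rw [hΨ, hCπ] at hΨu1
    rw [map_mul, hΨ, incD_f, map_mul]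
    have e2 : algebraMap R (DD π f ch) π = Ideal.Quotient.mk _ (C π) := rfl
    rw [e2]
    change _ = algebraMap (DD π f ch) Dπ (zD π f ch j)
    linear_combination (algebraMap (DD π f ch) Dπ (zD π f ch j)) * hΨu1

end PartB

end Groth.Agent.Helper8.LiftA
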