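import Mathlib
import Groth.Agent.Lib.Helper1.Minors

/-!
# Desingularization lemma, I: first order Taylor expansion, Cramer's rule for maximal minors,
annihilators in flat modules
-/

set_option autoImplicit false
universe u

namespace Groth.Agent.Helper8.DesA

open MvPolynomial

/-- First order Taylor expansion of a polynomial in several variables. -/
theorem aeval_add_sub_mem_sq {R T : Type*} [CommRing R] [CommRing T] [Algebra R T] {σ : Type*}
    [Fintype σ] [DecidableEq σ] (a b : σ → T) (f : MvPolynomial σ R) :
    aeval (a + b) f - aeval a f - ∑ i, aeval a (pderiv i f) * b i ∈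
      (Ideal.span (Set.range b)) ^ 2 := by
  induction f using MvPolynomial.induction_on with
  | C r =>
    simp only [aeval_C, pderiv_C, map_zero, zero_mul, Finset.sum_const_zero, sub_self]
    exact Ideal.zero_mem _
  | add p q hp hq =>
    have : aeval (a + b) (p + q) - aeval a (p + q) - ∑ i, aeval a (pderiv i (p + q)) * b i =
        (aeval (a + b) p - aeval a p - ∑ i, aeval a (pderiv i p) * b i) +
        (aeval (a + b) q - aeval a q - ∑ i, aeval a (pderiv i q) * b i) := by
      simp only [map_add, add_mul, Finset.sum_add_distrib]
      ring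
    rw [this]
    exact Ideal.add_mem _ hp hq
  | mul_X p k hp =>
    have hb : ∀ i, b i ∈ Ideal.span (Set.range b) := fun i => Ideal.subset_span ⟨i, rfl⟩
    have hsum : ∑ i, aeval a (pderiv i (p * X k)) * b i =
        (∑ i, aeval a (pderiv i p) * b i) * a k + aeval a p * b k := by
      have h1 : ∀ i, aeval a (pderiv i (p * X k)) * b i =
          aeval a (pderiv i p) * b i * a k + (if i = k then aeval a p * b k else 0) := by
        intro i
        rw [Derivation.leibniz, pderiv_X]
        by_cases hik : i = k
        · subst hik
          simp only [smul_eq_mul, map_add, map_mul, aeval_X, Pi.single_eq_same, map_one, if_true]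
          ring
        · have hki : k ≠ i := fun h => hik h.symm
          simp only [smul_eq_mul, map_add, map_mul, aeval_X, Pi.single_eq_of_ne hki, map_zero,
            if_neg hik]
          ring
      simp only [h1, Finset.sum_add_distrib, Finset.sum_ite_eq', Finset.mem_univ, if_true,
        Finset.sum_mul]
    have : aeval (a + b) (p * X k) - aeval a (p * X k) - ∑ i, aeval a (pderiv i (p * X k)) * b i =
        (aeval (a + b) p - aeval a p - ∑ i, aeval a (pderiv i p) * b i) * (a k + b k) +
        ∑ i, (aeval a (pderiv i p)) * (b i * b k) := by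
      rw [hsum]
      simp only [map_mul, aeval_X, Pi.add_apply]
      have h2 : ∑ i, (aeval a (pderiv i p)) * (b i * b k) =
          (∑ i, aeval a (pderiv i p) * b i) * b k := by
        rw [Finset.sum_mul]
        refine Finset.sum_congr rfl fun i _ => ?_
        ring
      rw [h2]
      ring
    rw [this]
    refine Ideal.add_mem _ (Ideal.mul_mem_right _ _ hp) (Ideal.sum_mem _ fun i _ => ?_)
    refine Ideal.mul_mem_left _ _ ?_
    rw [pow_two]
    exact Ideal.mul_mem_mul (hb i) (hb k)

/-- Cramer's rule for a combination of maximal minors. -/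
theorem exists_mul_eq_smul_one {S : Type u} [CommRing S] {c n : ℕ}
    (M : Matrix (Fin c) (Fin n) S) (coef : (Fin c → Fin n) → S) :
    ∃ N : Matrix (Fin n) (Fin c) S,
      M * N = (∑ cols, coef cols * (M.submatrix id cols).det) • (1 : Matrix (Fin c) (Fin c) S) := by
  have hB : ∀ cols : Fin c → Fin n, ∃ B : Matrix (Fin c) (Fin n) S,
      B * M.transpose = (M.submatrix id cols).det • (1 : Matrix (Fin c) (Fin c) S) := by
    intro cols
    obtain ⟨B, hB⟩ := Groth.Agent.Helper1.Minors.exists_left_inv_of_minor M.transpose cols id
    refine ⟨B, ?_⟩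
    rw [hB, ← Matrix.transpose_submatrix, Matrix.det_transpose]
  choose B hB using hB
  refine ⟨∑ cols, coef cols • (B cols).transpose, ?_⟩
  rw [Matrix.mul_sum, Finset.sum_smul]
  refine Finset.sum_congr rfl fun cols _ => ?_
  rw [Matrix.mul_smul]
  have h1 : M * (B cols).transpose = (B cols * M.transpose).transpose := by
    rw [Matrix.transpose_mul, Matrix.transpose_transpose]
  rw [h1, hB, Matrix.transpose_smul, Matrix.transpose_one, smul_smul]

/-- In a flat module, an element killed by `a` is killed by everything that kills the
annihilator of `a`. -/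
theorem smul_eq_zero_of_flat {R F : Type*} [CommRing R] [AddCommGroup F] [Module R F]
    [Module.Flat R F] (a r' : R) (h : ∀ x : R, a * x = 0 → r' * x = 0) (η : F)
    (hη : a • η = 0) : r' • η = 0 := by
  have h0 : ∑ i : Fin 1, (fun _ : Fin 1 => a) i • (fun _ : Fin 1 => η) i = 0 := by
    simpa using hη
  obtain ⟨k, α, y, h1, h2⟩ := Module.Flat.isTrivialRelation_of_sum_smul_eq_zero h0
  have h3 := h1 0
  simp only at h3
  rw [h3, Finset.smul_sum]
  refine Finset.sum_eq_zero fun j _ => ?_
  have h4 := h2 j
  rw [Fin.sum_univ_one] at h4
  rw [smul_smul, h _ h4, zero_smul]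

end Groth.Agent.Helper8.DesA
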