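import Mathlib
import Groth.Agent.Lib.Helper8.LiftA3
import Groth.Agent.Lib.Helper8.DesA1

/-!
# The lifting lemma (Stacks 16.5.1), V: generic lemmas for smoothness over smooth points
-/

set_option autoImplicit false
universe u

namespace Groth.Agent.Helper8.LiftA

open MvPolynomial Smoothing

section Generic

variable {R : Type u} [CommRing R] (π : R) {n m : ℕ} (f : Fin m → MvPolynomial (Fin n) R)
  {F : Type u} [CommRing F] [Algebra R F] (ρ : MvPolynomial (Fin n) R →ₐ[R] F)

/-- Jacobian criterion modulo `π`: a syzygy modulo `π²` among the chosen relations has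
coefficients divisible by `π` where the Jacobian minor is invertible. -/
theorem rho_mem_span_of_sum_eq {c : ℕ} (rows : Fin c → Fin m) (cols : Fin c → Fin n)
    (w : Fin c → F) (hw : ∀ j, ρ (f (rows j)) = algebraMap R F π * w j)
    (hM : IsUnit (ρ (jacobianMinor f rows cols)))
    (N : Fin c → MvPolynomial (Fin n) R) (G : MvPolynomial (Fin n) R)
    (hN : ∑ j, N j * f (rows j) = C (π ^ 2) * G) (j : Fin c) :
    ρ (N j) ∈ Ideal.span {algebraMap R F π} := by
  classical
  set J : Matrix (Fin c) (Fin c) (MvPolynomial (Fin n) R) :=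
    Matrix.of fun j k => pderiv (cols k) (f (rows j)) with hJ
  set JF : Matrix (Fin c) (Fin c) F := ρ.mapMatrix J with hJF
  have hdet : JF.det = ρ (jacobianMinor f rows cols) := by
    rw [hJF, ← AlgHom.map_det]
    rfl
  set e : Fin c → F := fun i => algebraMap R F π * ρ (pderiv (cols i) G)
    - ∑ j, ρ (pderiv (cols i) (N j)) * w j with he
  set Nv : Fin c → F := fun j => ρ (N j) with hNv
  have h1 : Matrix.vecMul Nv JF = algebraMap R F π • e := by
    funext i
    have hd := congrArg (fun p => ρ (pderiv (cols i) p)) hN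
    simp only [map_sum, Derivation.leibniz, smul_eq_mul, map_add, map_mul, pderiv_C, mul_zero,
      add_zero, hw] at hd
    have hρC : ρ (C (π ^ 2)) = algebraMap R F π * algebraMap R F π := by
      rw [← map_mul, ← pow_two]
      exact ρ.commutes _
    rw [hρC, Finset.sum_add_distrib] at hd
    simp only [Matrix.vecMul, dotProduct, Pi.smul_apply, smul_eq_mul, hNv, hJF, hJ,
      AlgHom.mapMatrix_apply, Matrix.map_apply, Matrix.of_apply, he]
    have e1 : ∑ x, algebraMap R F π * w x * ρ (pderiv (cols i) (N x)) =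
        algebraMap R F π * ∑ x, ρ (pderiv (cols i) (N x)) * w x := by
      rw [Finset.mul_sum]
      exact Finset.sum_congr rfl fun x _ => by ring
    rw [e1] at hd
    linear_combination hd
  have h2 : JF.det • Nv = algebraMap R F π • Matrix.vecMul e JF.adjugate := by
    have : Matrix.vecMul (Matrix.vecMul Nv JF) JF.adjugate = JF.det • Nv := by
      rw [Matrix.vecMul_vecMul, Matrix.mul_adjugate, Matrix.vecMul_smul, Matrix.vecMul_one]
    rw [← this, h1, Matrix.smul_vecMul]
  obtain ⟨um, hum⟩ := hM.exists_left_inv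
  have h3 := congrFun h2 j
  simp only [Pi.smul_apply, smul_eq_mul, hdet] at h3
  have h4 : ρ (N j) = (um * Matrix.vecMul e JF.adjugate j) * algebraMap R F π := by
    have : ρ (N j) = um * (ρ (jacobianMinor f rows cols) * Nv j) := by
      rw [← mul_assoc, hum, one_mul]
    rw [this, h3]
    ring
  rw [h4]
  exact Ideal.mul_mem_left _ _ (Ideal.mem_span_singleton_self _)

/-- Torsion lemma: in a flat algebra, an element of `πF` killed by `π` vanishes. -/
theorem eq_zero_of_flat [Module.Flat R F] (hR : ∀ r : R, π ^ 2 * r = 0 → π * r = 0) (η : F)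
    (h1 : algebraMap R F π * η = 0) (h2 : η ∈ Ideal.span {algebraMap R F π}) : η = 0 := by
  obtain ⟨ζ, rfl⟩ := Ideal.mem_span_singleton'.mp h2
  have h3 : (π ^ 2) • ζ = 0 := by
    rw [Algebra.smul_def, map_pow]
    linear_combination h1
  have h4 := DesA.smul_eq_zero_of_flat (π ^ 2) π hR ζ h3
  rw [Algebra.smul_def] at h4
  rw [mul_comm]
  exact h4

end Generic

section GenericC

variable {R : Type u} [CommRing R] (π : R) {n m r : ℕ} (f : Fin m → MvPolynomial (Fin n) R)
  (ch : Fin r → Chart π f)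
  {F : Type u} [CommRing F] [Algebra R F] (ρ : MvPolynomial (Fin n) R →ₐ[R] F)
  (k : Fin r) (w : Fin (ch k).c → F) (ua : F)

/-- The value of `z_ℓ` in the chart algebra. -/
noncomputable def zF (ℓ : Fin m) : F :=
  ua * (∑ j, ρ ((ch k).h ℓ j) * w j + algebraMap R F π * ρ ((ch k).g ℓ))

theorem zF_rows (hua : ρ (ch k).a * ua = 1) (j₀ : Fin (ch k).c) :
    zF π f ch ρ k w ua ((ch k).rows j₀) = w j₀ := by
  classical
  unfold zF
  rw [(ch k).normg, map_zero, mul_zero, add_zero]
  simp only [(ch k).normh]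
  rw [Finset.sum_eq_single j₀]
  · rw [if_pos rfl]
    linear_combination w j₀ * hua
  · intro j _ hj
    rw [if_neg hj, map_zero, zero_mul]
  · intro h0
    exact absurd (Finset.mem_univ _) h0

theorem rho_rel (k' : Fin r) (ℓ : Fin m) :
    ρ (ch k').a * ρ (f ℓ) = ∑ j, ρ ((ch k').h ℓ j) * ρ (f ((ch k').rows j))
      + algebraMap R F π * algebraMap R F π * ρ ((ch k').g ℓ) := by
  have := congrArg ρ ((ch k').rel ℓ)
  have hρC : ρ (C (π ^ 2)) = algebraMap R F π * algebraMap R F π := by
    rw [← map_mul, ← pow_two]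
    exact ρ.commutes _
  simpa only [map_add, map_mul, map_sum, hρC] using this

theorem rho_a_mul_zF (hua : ρ (ch k).a * ua = 1) (ℓ : Fin m) :
    ρ (ch k).a * zF π f ch ρ k w ua ℓ =
      ∑ j, ρ ((ch k).h ℓ j) * w j + algebraMap R F π * ρ ((ch k).g ℓ) := by
  unfold zF
  rw [← mul_assoc, hua, one_mul]

theorem rho_f (hw : ∀ j, ρ (f ((ch k).rows j)) = algebraMap R F π * w j)
    (hua : ρ (ch k).a * ua = 1) (ℓ : Fin m) :
    ρ (f ℓ) = algebraMap R F π * zF π f ch ρ k w ua ℓ := by
  have key := rho_rel π f ch ρ k ℓ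
  simp only [hw] at key
  have e1 : ∑ j, ρ ((ch k).h ℓ j) * (algebraMap R F π * w j) =
      algebraMap R F π * ∑ j, ρ ((ch k).h ℓ j) * w j := by
    rw [Finset.mul_sum]
    exact Finset.sum_congr rfl fun j _ => by ring
  rw [e1] at key
  unfold zF
  linear_combination ua * key - ρ (f ℓ) * hua

theorem syzygy (k' : Fin r) (ℓ : Fin m) :
    ∑ j, ((ch k').a * (ch k).h ℓ j - ∑ j', (ch k').h ℓ j' * (ch k).h ((ch k').rows j') j) *
        f ((ch k).rows j) =
      C (π ^ 2) * ((ch k).a * (ch k').g ℓ - (ch k').a * (ch k).g ℓ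
        + ∑ j', (ch k').h ℓ j' * (ch k).g ((ch k').rows j')) := by
  have r1 := (ch k).rel ℓ
  have r2 := (ch k').rel ℓ
  have r3 : ∀ j', ∑ j, (ch k).h ((ch k').rows j') j * f ((ch k).rows j) =
      (ch k).a * f ((ch k').rows j') - C (π ^ 2) * (ch k).g ((ch k').rows j') := by
    intro j'
    rw [(ch k).rel ((ch k').rows j')]
    ring
  have e1 : ∑ j, ((ch k').a * (ch k).h ℓ j - ∑ j', (ch k').h ℓ j' * (ch k).h ((ch k').rows j') j) *
        f ((ch k).rows j) =
      (ch k').a * ∑ j, (ch k).h ℓ j * f ((ch k).rows j) -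
        ∑ j', (ch k').h ℓ j' * ∑ j, (ch k).h ((ch k').rows j') j * f ((ch k).rows j) := by
    simp only [sub_mul, Finset.sum_sub_distrib, Finset.mul_sum, Finset.sum_mul]
    congr 1
    · exact Finset.sum_congr rfl fun j _ => by ring
    · rw [Finset.sum_comm]
      exact Finset.sum_congr rfl fun j' _ => Finset.sum_congr rfl fun j _ => by ring
  rw [e1]
  simp only [r3]
  have e2 : ∑ j', (ch k').h ℓ j' * ((ch k).a * f ((ch k').rows j')
        - C (π ^ 2) * (ch k).g ((ch k').rows j')) =
      (ch k).a * ∑ j', (ch k').h ℓ j' * f ((ch k').rows j')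
        - C (π ^ 2) * ∑ j', (ch k').h ℓ j' * (ch k).g ((ch k').rows j') := by
    simp only [mul_sub, Finset.sum_sub_distrib, Finset.mul_sum]
    congr 1
    · exact Finset.sum_congr rfl fun j' _ => by ring
    · exact Finset.sum_congr rfl fun j' _ => by ring
  rw [e2]
  linear_combination (-(ch k').a) * r1 + (ch k).a * r2

theorem rho_p [Module.Flat R F] (hR : ∀ r : R, π ^ 2 * r = 0 → π * r = 0)
    (hw : ∀ j, ρ (f ((ch k).rows j)) = algebraMap R F π * w j)
    (hua : ρ (ch k).a * ua = 1) (hM : IsUnit (ρ (jacobianMinor f (ch k).rows (ch k).cols)))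
    (k' : Fin r) (ℓ : Fin m) :
    ρ (ch k').a * zF π f ch ρ k w ua ℓ =
      ∑ j', ρ ((ch k').h ℓ j') * zF π f ch ρ k w ua ((ch k').rows j')
        + algebraMap R F π * ρ ((ch k').g ℓ) := by
  classical
  set z := zF π f ch ρ k w ua with hz
  set η : F := ρ (ch k').a * z ℓ - ∑ j', ρ ((ch k').h ℓ j') * z ((ch k').rows j')
      - algebraMap R F π * ρ ((ch k').g ℓ) with hη
  suffices h : η = 0 by
    rw [hη] at h
    linear_combination h
  apply eq_zero_of_flat π hR
  · -- `π η = 0`
    have key := rho_rel π f ch ρ k' ℓ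
    simp only [rho_f π f ch ρ k w ua hw hua] at key
    have e1 : ∑ j', ρ ((ch k').h ℓ j') * (algebraMap R F π * z ((ch k').rows j')) =
        algebraMap R F π * ∑ j', ρ ((ch k').h ℓ j') * z ((ch k').rows j') := by
      rw [Finset.mul_sum]
      exact Finset.sum_congr rfl fun j _ => by ring
    rw [e1] at key
    rw [hη]
    linear_combination key
  · -- `η ∈ πF`
    have hη2 : η = ua * (ρ (ch k).a * η) := by
      rw [← mul_assoc, mul_comm ua, hua, one_mul]
    rw [hη2]
    apply Ideal.mul_mem_left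
    have hS : ∀ ℓ, ρ (ch k).a * z ℓ =
        ∑ j, ρ ((ch k).h ℓ j) * w j + algebraMap R F π * ρ ((ch k).g ℓ) :=
      rho_a_mul_zF π f ch ρ k w ua hua
    set N : Fin (ch k).c → MvPolynomial (Fin n) R := fun j =>
      (ch k').a * (ch k).h ℓ j - ∑ j', (ch k').h ℓ j' * (ch k).h ((ch k').rows j') j with hN
    have hNmem : ∀ j, ρ (N j) ∈ Ideal.span {algebraMap R F π} := fun j =>
      rho_mem_span_of_sum_eq π f ρ (ch k).rows (ch k).cols w hw hM N _ (syzygy π f ch k k' ℓ) j
    have e3 : ρ (ch k).a * η = ∑ j, ρ (N j) * w j + algebraMap R F π *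
        (ρ (ch k').a * ρ ((ch k).g ℓ) - ∑ j', ρ ((ch k').h ℓ j') * ρ ((ch k).g ((ch k').rows j'))
          - ρ (ch k).a * ρ ((ch k').g ℓ)) := by
      have e4 : ρ (ch k).a * η = ρ (ch k').a * (ρ (ch k).a * z ℓ)
          - ∑ j', ρ ((ch k').h ℓ j') * (ρ (ch k).a * z ((ch k').rows j'))
          - algebraMap R F π * (ρ (ch k).a * ρ ((ch k').g ℓ)) := by
        rw [hη]
        simp only [mul_sub, Finset.mul_sum]
        congr 1
        congr 1
        · ring
        · exact Finset.sum_congr rfl fun j' _ => by ring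
        · ring
      rw [e4]
      simp only [hS, hN, map_sub, map_mul, map_sum, sub_mul, mul_add, mul_sub,
        Finset.sum_sub_distrib, Finset.sum_add_distrib, Finset.mul_sum, Finset.sum_mul]
      have e5 : ∑ x, ∑ i, ρ ((ch k').h ℓ x) * (ρ ((ch k).h ((ch k').rows x) i) * w i) =
          ∑ x, ∑ i, ρ ((ch k').h ℓ i) * ρ ((ch k).h ((ch k').rows i) x) * w x := by
        rw [Finset.sum_comm]
        exact Finset.sum_congr rfl fun j _ => Finset.sum_congr rfl fun j' _ => by ring
      have e6 : ∑ x, ρ (ch k').a * (ρ ((ch k).h ℓ x) * w x) =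
          ∑ x, ρ (ch k').a * ρ ((ch k).h ℓ x) * w x :=
        Finset.sum_congr rfl fun j _ => by ring
      have e7 : ∑ x, ρ ((ch k').h ℓ x) * (algebraMap R F π * ρ ((ch k).g ((ch k').rows x))) =
          ∑ x, algebraMap R F π * (ρ ((ch k').h ℓ x) * ρ ((ch k).g ((ch k').rows x))) :=
        Finset.sum_congr rfl fun j _ => by ring
      rw [e5, e6, e7]
      ring
    rw [e3]
    refine Ideal.add_mem _ (Ideal.sum_mem _ fun j _ => Ideal.mul_mem_right _ _ (hNmem j)) ?_
    exact Ideal.mul_mem_right _ _ (Ideal.mem_span_singleton_self _)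

end GenericC

end Groth.Agent.Helper8.LiftA
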