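import Mathlib
import Groth.Agent.Lib.Helper8.LiftA5
import Groth.Agent.Lib.Helper8.LocTr5
import Groth.Agent.S2032

/-!
# The lifting lemma (Stacks 16.5.1), VI: smoothness over smooth points
-/

set_option autoImplicit false
universe u

namespace Groth.Agent.Helper8.LiftA

open MvPolynomial Smoothing

section PartC

variable {R : Type u} [CommRing R] (π : R) {n m r : ℕ} (f : Fin m → MvPolynomial (Fin n) R)
  (ch : Fin r → Chart π f) (k : Fin r)

/-- Relations of the chart algebra `R[x, w]/(f_{rows j} - π w_j)`. -/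
noncomputable def relF : Fin (ch k).c → MvPolynomial (Fin (n + (ch k).c)) R := fun j =>
  rename (Fin.castAdd (ch k).c) (f ((ch k).rows j)) - C π * X (Fin.natAdd n j)

theorem det_pderiv_relF :
    Matrix.det (Matrix.of fun j k' : Fin (ch k).c =>
      pderiv (Fin.castAdd (ch k).c ((ch k).cols k')) (relF π f ch k j)) =
    rename (Fin.castAdd (ch k).c) (jacobianMinor f (ch k).rows (ch k).cols) := by
  classical
  unfold jacobianMinor
  rw [AlgHom.map_det]
  congr 1
  refine Matrix.ext fun j k' => ?_
  simp only [AlgHom.mapMatrix_apply, Matrix.map_apply, Matrix.of_apply, relF, map_sub]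
  rw [pderiv_rename (Fin.castAdd_injective n (ch k).c), Derivation.leibniz, pderiv_C,
    pderiv_X_of_ne, smul_zero, smul_zero, add_zero, sub_zero]
  intro h
  have := congrArg Fin.val h
  simp only [Fin.val_natAdd, Fin.val_castAdd] at this
  have h2 := ((ch k).cols k').isLt
  omega

theorem aeval_eq_of_X {S : Type u} [CommRing S] [Algebra R S] (x : Fin n → S)
    (ρ : MvPolynomial (Fin n) R →ₐ[R] S) (h : ∀ i, ρ (X i) = x i) (p : MvPolynomial (Fin n) R) :
    aeval x p = ρ p := by
  have : (aeval x : MvPolynomial (Fin n) R →ₐ[R] S) = ρ := by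
    refine MvPolynomial.algHom_ext fun i => ?_
    rw [aeval_X, h]
  exact DFunLike.congr_fun this p

theorem formallySmooth_away_chart (hR : ∀ r : R, π ^ 2 * r = 0 → π * r = 0) :
    Algebra.FormallySmooth R (Localization.Away
      (Ideal.Quotient.mk (Ideal.span (Set.range (relD π f ch)))
        (rename Sum.inl ((ch k).a * jacobianMinor f (ch k).rows (ch k).cols)))) := by
  classical
  let c := (ch k).c
  let M := jacobianMinor f (ch k).rows (ch k).cols
  let v := relF π f ch k
  let pF : MvPolynomial (Fin (n + c)) R := rename (Fin.castAdd c) ((ch k).a * M)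
  let F₀ := MvPolynomial (Fin (n + c)) R ⧸ Ideal.span (Set.range v)
  let bF : F₀ := Ideal.Quotient.mk _ pF
  let F := Localization.Away bF
  let pD : MvPolynomial (Fin n ⊕ Fin m) R := rename Sum.inl ((ch k).a * M)
  let Dd := Localization.Away (Ideal.Quotient.mk (Ideal.span (Set.range (relD π f ch))) pD)
  -- the map `ρ`
  let ρ : MvPolynomial (Fin n) R →ₐ[R] F :=
    (IsScalarTower.toAlgHom R F₀ F).comp ((Ideal.Quotient.mkₐ R _).comp (rename (Fin.castAdd c)))
  have hρ : ∀ p, ρ p = algebraMap F₀ F (Ideal.Quotient.mk _ (rename (Fin.castAdd c) p)) :=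
    fun p => rfl
  let w : Fin c → F := fun j => algebraMap F₀ F (Ideal.Quotient.mk _ (X (Fin.natAdd n j)))
  have hw : ∀ j, ρ (f ((ch k).rows j)) = algebraMap R F π * w j := by
    intro j
    have h : v j ∈ Ideal.span (Set.range v) := Ideal.subset_span ⟨j, rfl⟩
    rw [← Ideal.Quotient.eq_zero_iff_mem] at h
    have h' : Ideal.Quotient.mk (Ideal.span (Set.range v))
        (rename (Fin.castAdd c) (f ((ch k).rows j))) =
        Ideal.Quotient.mk (Ideal.span (Set.range v)) (C π) *
          Ideal.Quotient.mk (Ideal.span (Set.range v)) (X (Fin.natAdd n j)) := by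
      rw [← map_mul, ← sub_eq_zero, ← map_sub]
      exact h
    rw [hρ, h', map_mul]
    rfl
  have hunit : IsUnit (ρ ((ch k).a * M)) := IsLocalization.Away.algebraMap_isUnit bF
  rw [map_mul] at hunit
  have hau : IsUnit (ρ (ch k).a) := isUnit_of_mul_isUnit_left hunit
  have hMu : IsUnit (ρ M) := isUnit_of_mul_isUnit_right hunit
  obtain ⟨ua, hua⟩ := hau.exists_right_inv
  -- `F` is standard smooth
  have hα : Function.Injective (fun k' : Fin c => Fin.castAdd c ((ch k).cols k')) :=
    (Fin.castAdd_injective n c).comp (ch k).cols.injective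
  haveI hstd : Algebra.IsStandardSmooth R F := by
    refine Groth.Agent.S2032.isStandardSmooth_of_naive v
      (fun k' : Fin c => Fin.castAdd c ((ch k).cols k')) hα F bF ?_
    rw [det_pderiv_relF π f ch k]
    exact hMu
  haveI : Algebra.Smooth R F := inferInstance
  haveI : Module.Flat R F := inferInstance
  haveI : Algebra.FormallySmooth R F := inferInstance
  -- the map `Φ`
  let xF : Fin n → F := fun i => ρ (X i)
  have hx : ∀ p, aeval xF p = ρ p := aeval_eq_of_X xF ρ (fun i => rfl)
  let z := zF π f ch ρ k w ua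
  have h1 : ∀ j, aeval xF (f j) = algebraMap R F π * z j := by
    intro j
    rw [hx]
    exact rho_f π f ch ρ k w ua hw hua j
  have h2 : ∀ k' ℓ, aeval xF (ch k').a * z ℓ = ∑ j, aeval xF ((ch k').h ℓ j) * z ((ch k').rows j)
        + algebraMap R F π * aeval xF ((ch k').g ℓ) := by
    intro k' ℓ
    simp only [hx]
    exact rho_p π f ch ρ k w ua hR hw hua hMu k' ℓ
  have h0 := aeval_relD_eq_zero π f ch xF z h1 h2
  have hunitΦ : IsUnit (aeval (Sum.elim xF z) pD) := by
    rw [aeval_rename_inl, hx, map_mul]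
    exact hunit
  obtain ⟨Φ, hΦ⟩ := LocTr.exists_algHom_away (relD π f ch) pD (Sum.elim xF z) h0 hunitΦ
  -- the map `Ψ`
  let am : DD π f ch →ₐ[R] Dd := IsScalarTower.toAlgHom R (DD π f ch) Dd
  let valsΨ : Fin (n + c) → Dd := Fin.addCases (fun i => am (incD π f ch (X i)))
    (fun j => am (zD π f ch ((ch k).rows j)))
  have hvals : ∀ p : MvPolynomial (Fin n) R,
      aeval valsΨ (rename (Fin.castAdd c) p) = am (incD π f ch p) := by
    intro p
    rw [aeval_rename]
    refine aeval_eq_of_X _ (am.comp (incD π f ch)) (fun i => ?_) p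
    simp only [Function.comp_apply, valsΨ, Fin.addCases_left]
    rfl
  have hrelΨ : ∀ j, aeval valsΨ (v j) = 0 := by
    intro j
    change aeval valsΨ (rename (Fin.castAdd c) (f ((ch k).rows j)) - C π * X (Fin.natAdd n j)) = 0
    rw [map_sub, hvals, map_mul, aeval_C, aeval_X, incD_f, map_mul, AlgHom.commutes]
    simp only [valsΨ, Fin.addCases_right]
    exact sub_self _
  have hunitΨ : IsUnit (aeval valsΨ pF) := by
    rw [hvals]
    exact IsLocalization.Away.algebraMap_isUnit
      (Ideal.Quotient.mk (Ideal.span (Set.range (relD π f ch))) pD)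
  obtain ⟨Ψ, hΨ⟩ := LocTr.exists_algHom_away v pF valsΨ hrelΨ hunitΨ
  have hΨρ : ∀ p, Ψ (ρ p) = am (incD π f ch p) := by
    intro p
    rw [hρ, hΨ, hvals]
  have hΨw : ∀ j, Ψ (w j) = am (zD π f ch ((ch k).rows j)) := by
    intro j
    change Ψ (algebraMap F₀ F (Ideal.Quotient.mk _ (X (Fin.natAdd n j)))) = _
    rw [hΨ, aeval_X]
    simp only [valsΨ, Fin.addCases_right]
  refine LocTr.formallySmooth_of_retract Φ Ψ ?_
  refine LocTr.algHom_ext_away (relD π f ch) pD fun o => ?_
  rw [AlgHom.comp_apply, hΦ, aeval_X, AlgHom.id_apply]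
  rcases o with i | ℓ
  · change Ψ (ρ (X i)) = _
    rw [hΨρ, incD_apply, rename_X]
    rfl
  · change Ψ (zF π f ch ρ k w ua ℓ) = _
    have hΨu1 : am (incD π f ch (ch k).a) * Ψ ua = 1 := by
      rw [← hΨρ, ← map_mul, hua, map_one]
    unfold zF
    simp only [map_mul, map_add, map_sum, hΨρ, hΨw, AlgHom.commutes]
    have e1 : ∑ j, am (incD π f ch ((ch k).h ℓ j)) * am (zD π f ch ((ch k).rows j))
        + algebraMap R Dd π * am (incD π f ch ((ch k).g ℓ)) =
        am (incD π f ch (ch k).a * zD π f ch ℓ) := by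
      rw [incD_p π f ch k ℓ]
      simp only [map_mul, map_add, map_sum, AlgHom.commutes]
    rw [e1, map_mul]
    change _ = am (zD π f ch ℓ)
    linear_combination (am (zD π f ch ℓ)) * hΨu1

end PartC

end Groth.Agent.Helper8.LiftA
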