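import Mathlib
import Groth.Agent.Lib.Helper8.LiftA4
import Groth.Agent.Lib.Helper8.LiftA6

/-!
# The lifting lemma (Stacks 16.5.1), VII: assembly
-/

set_option autoImplicit false
universe u

namespace Groth.Agent.Helper8.LiftA

open MvPolynomial Smoothing

theorem isSmoothAt_of_formallySmooth_away {R A : Type u} [CommRing R] [CommRing A] [Algebra R A]
    [Algebra.FinitePresentation R A] (d : A) (h : Algebra.FormallySmooth R (Localization.Away d))
    (Q : Ideal A) [Q.IsPrime] (hd : d ∉ Q) : Algebra.IsSmoothAt R Q := by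
  have h1 := Algebra.basicOpen_subset_smoothLocus_iff.mpr h
  exact h1 (show (⟨Q, inferInstance⟩ : PrimeSpectrum A) ∈ PrimeSpectrum.basicOpen d from hd)

theorem finitePresentation_DD {R : Type u} [CommRing R] (π : R) {n m r : ℕ}
    (f : Fin m → MvPolynomial (Fin n) R) (ch : Fin r → Chart π f) :
    Algebra.FinitePresentation R (DD π f ch) := by
  refine Algebra.FinitePresentation.quotient ?_
  exact Submodule.fg_span (Set.finite_range _)

theorem lifting_main {R Λ Cb : Type u} [CommRing R] [IsNoetherianRing R] [CommRing Λ]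
    [Algebra R Λ] (π : R) (hR : ∀ r : R, π ^ 2 * r = 0 → π * r = 0)
    (hΛ : ∀ x : Λ, π ^ 2 • x = 0 → π • x = 0) [CommRing Cb] [Algebra R Cb]
    [Algebra (R ⧸ Ideal.span {π ^ 2}) Cb] [IsScalarTower R (R ⧸ Ideal.span {π ^ 2}) Cb]
    [Algebra.FinitePresentation (R ⧸ Ideal.span {π ^ 2}) Cb]
    (g : Cb →ₐ[R] Λ ⧸ Ideal.span {algebraMap R Λ (π ^ 2)}) :
    ∃ (D : Type u) (_ : CommRing D) (_ : Algebra R D), Algebra.FinitePresentation R D ∧
      ∃ (δ : D →ₐ[R] Λ) (ψ : Cb →ₐ[R] D ⧸ Ideal.span {algebraMap R D π}),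
        (∀ (c : Cb) (d : D) (l : Λ), Ideal.Quotient.mk (Ideal.span {algebraMap R D π}) d = ψ c →
          Ideal.Quotient.mk (Ideal.span {algebraMap R Λ (π ^ 2)}) l = g c →
            δ d - l ∈ Ideal.span {algebraMap R Λ π}) ∧
        (∀ (Q : Ideal D) [Q.IsPrime], algebraMap R D π ∉ Q → Algebra.IsSmoothAt R Q) ∧
        (∀ (Q : Ideal (D ⧸ Ideal.span {algebraMap R D π})) [Q.IsPrime],
          Algebra.IsSmoothAt (R ⧸ Ideal.span {π ^ 2}) (Q.comap ψ) →
            Algebra.IsSmoothAt R (Q.comap (Ideal.Quotient.mk (Ideal.span {algebraMap R D π})))) := by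
  classical
  obtain ⟨n, φ, hφ, hfg⟩ :=
    (Algebra.FinitePresentation.out : ∃ (n : ℕ)
      (φ : MvPolynomial (Fin n) (R ⧸ Ideal.span {π ^ 2}) →ₐ[R ⧸ Ideal.span {π ^ 2}] Cb),
      Function.Surjective φ ∧ (RingHom.ker φ.toRingHom).FG)
  obtain ⟨m, fb, hfb⟩ := Submodule.fg_iff_exists_fin_generating_family.mp hfg
  have hlift : ∀ j, ∃ p, red π n p = fb j := fun j => red_surjective π n (fb j)
  choose f hf using hlift
  have hker : RingHom.ker φ.toRingHom = Ideal.span (Set.range (fun j => red π n (f j))) := by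
    rw [← hfb]
    congr 2
    funext j
    exact (hf j).symm
  haveI : IsNoetherianRing (R ⧸ Ideal.span {π ^ 2}) := inferInstance
  haveI : IsNoetherianRing Cb := Algebra.FiniteType.isNoetherianRing (R ⧸ Ideal.span {π ^ 2}) Cb
  obtain ⟨r, ch, hminor, hcover⟩ := exists_charts π f φ hφ hker
  -- the map to `Λ`
  have hlam : ∀ i, ∃ l : Λ, Ideal.Quotient.mk (Ideal.span {algebraMap R Λ (π ^ 2)}) l =
      g (homC π φ (X i)) := fun i => Ideal.Quotient.mk_surjective _
  choose lam hlam using hlam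
  have hg : ∀ p, g (homC π φ p) =
      Ideal.Quotient.mk (Ideal.span {algebraMap R Λ (π ^ 2)}) (aeval lam p) := by
    intro p
    have : g.comp (homC π φ) = (Ideal.Quotient.mkₐ R _).comp (aeval lam) := by
      refine MvPolynomial.algHom_ext fun i => ?_
      simp only [AlgHom.comp_apply, aeval_X, Ideal.Quotient.mkₐ_eq_mk]
      exact (hlam i).symm
    exact DFunLike.congr_fun this p
  have hflam : ∀ j, aeval lam (f j) ∈ Ideal.span {algebraMap R Λ (π ^ 2)} := by
    intro j
    rw [← Ideal.Quotient.eq_zero_iff_mem, ← hg, homC_f π φ f hker, map_zero]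
  obtain ⟨δ, hδ⟩ := exists_delta π f ch hΛ lam hflam
  obtain ⟨ψ, hψ⟩ := exists_psi π f ch φ hφ hker
  haveI hfp : Algebra.FinitePresentation R (DD π f ch) := finitePresentation_DD π f ch
  refine ⟨DD π f ch, inferInstance, inferInstance, hfp, δ, ψ,
    compat π f ch φ hφ g lam hlam δ hδ ψ hψ, ?_, ?_⟩
  · intro Q _ hQ
    refine isSmoothAt_of_formallySmooth_away
      (Ideal.Quotient.mk (Ideal.span (Set.range (relD π f ch))) (C π))
      (formallySmooth_away_pi π f ch) Q hQ
  · intro Q _ hQ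
    obtain ⟨k, hk⟩ := hcover (Q.comap ψ) hQ
    have hmk : ∀ p, homC π φ p ∉ Q.comap ψ → incD π f ch p ∉
        Q.comap (Ideal.Quotient.mk (Ideal.span {algebraMap R (DD π f ch) π})) := by
      intro p hp hcon
      apply hp
      rw [Ideal.mem_comap, hψ]
      exact hcon
    have hM : homC π φ (jacobianMinor f (ch k).rows (ch k).cols) ∉ Q.comap ψ := by
      intro hcon
      apply hk
      obtain ⟨c', hc'⟩ := Ideal.mem_span_singleton'.mp (hminor k)
      rw [← hc']
      exact Ideal.mul_mem_left _ _ hcon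
    have hd : incD π f ch ((ch k).a * jacobianMinor f (ch k).rows (ch k).cols) ∉
        Q.comap (Ideal.Quotient.mk (Ideal.span {algebraMap R (DD π f ch) π})) := by
      rw [map_mul]
      intro hcon
      rcases Ideal.IsPrime.mem_or_mem inferInstance hcon with h' | h'
      · exact hmk _ hk h'
      · exact hmk _ hM h'
    exact isSmoothAt_of_formallySmooth_away _ (formallySmooth_away_chart π f ch k hR) _ hd

end Groth.Agent.Helper8.LiftA
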