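import Mathlib
import Groth.Prelude.Def_Smoothing
import Groth.Agent.Lib.Helper8.LocTr5

/-!
# Local tricks for smoothing, VII: resolving when the local ring has dimension zero
-/

set_option autoImplicit false
universe u

namespace Groth.Agent.Helper8.LocTr

open MvPolynomial

/-- Membership in the singular ideal from smoothness of the principal localization. -/
theorem mem_singularIdeal_of_formallySmooth {R C : Type u} [CommRing R] [CommRing C] [Algebra R C]
    [Algebra.FinitePresentation R C] (c : C) (h : Algebra.FormallySmooth R (Localization.Away c)) :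
    c ∈ Smoothing.singularIdeal R C := by
  have hsub := Algebra.basicOpen_subset_smoothLocus_iff.mpr h
  rw [Smoothing.singularIdeal, PrimeSpectrum.mem_vanishingIdeal]
  intro P hP
  by_contra hcP
  exact hP (hsub hcP)

/-- Smoothness of the principal localization from membership in the singular ideal. -/
theorem formallySmooth_of_mem_singularIdeal {R C : Type u} [CommRing R] [CommRing C] [Algebra R C]
    [Algebra.FinitePresentation R C] (c : C) (h : c ∈ Smoothing.singularIdeal R C) :
    Algebra.FormallySmooth R (Localization.Away c) := by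
  refine Algebra.basicOpen_subset_smoothLocus_iff.mp fun P hP => ?_
  by_contra hPn
  rw [Smoothing.singularIdeal, PrimeSpectrum.mem_vanishingIdeal] at h
  exact hP (h P hPn)

/-- The dimension zero trick. -/
theorem resolvable_of_dim_zero {R A Λ Λq : Type u} [CommRing R] [IsNoetherianRing R] [CommRing A]
    [Algebra R A] [Algebra.FinitePresentation R A] [CommRing Λ] [Algebra R Λ] (φ : A →ₐ[R] Λ)
    (𝔮 : Ideal Λ) [𝔮.IsPrime] (hle : Smoothing.singRad R φ ≤ 𝔮) [CommRing Λq] [Algebra Λ Λq]
    [IsLocalization.AtPrime Λq 𝔮] (hdim : ringKrullDim Λq = 0) {k l : ℕ}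
    (r : Fin l → MvPolynomial (Fin k) A) (d : ℕ) (a : A) (h₁ : Cc r d →ₐ[R] Λ)
    (hcomp : h₁.comp (IsScalarTower.toAlgHom R A (Cc r d)) = φ)
    (hfs : Algebra.FormallySmooth R (Localization.Away (bb r a d))) (hq : h₁ (bb r a d) ∉ 𝔮) :
    Smoothing.Resolvable R φ 𝔮 := by
  classical
  -- generators of the singular ideal
  haveI : IsNoetherianRing A := Algebra.FiniteType.isNoetherianRing R A
  obtain ⟨ρ, aa, haa⟩ := Submodule.fg_iff_exists_fin_generating_family.mp
    (IsNoetherian.noetherian (Smoothing.singularIdeal R A))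
  have haa' : Ideal.span (Set.range aa) = Smoothing.singularIdeal R A := haa
  have haamem : ∀ i, aa i ∈ Smoothing.singularIdeal R A := fun i => by
    rw [← haa']
    exact Ideal.subset_span ⟨i, rfl⟩
  have hφaa : ∀ i, φ (aa i) ∈ 𝔮 := fun i =>
    hle (Ideal.le_radical (Ideal.mem_map_of_mem _ (haamem i)))
  -- nilpotence in `Λq`
  haveI : IsLocalRing Λq := IsLocalization.AtPrime.isLocalRing Λq 𝔮
  haveI : Ring.KrullDimLE 0 Λq := by
    rw [Ring.krullDimLE_iff, hdim]
    rfl
  have hnil : ∀ i, ∃ N : ℕ, ∃ mm : 𝔮.primeCompl, mm.1 * φ (aa i) ^ N = 0 := by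
    intro i
    have h1 : algebraMap Λ Λq (φ (aa i)) ∈ IsLocalRing.maximalIdeal Λq := by
      rw [← IsLocalization.AtPrime.map_eq_maximalIdeal 𝔮 Λq]
      exact Ideal.mem_map_of_mem _ (hφaa i)
    obtain ⟨N, hN⟩ := Ring.KrullDimLE.isNilpotent_iff_mem_maximalIdeal.mpr h1
    rw [← map_pow] at hN
    exact ⟨N, (IsLocalization.map_eq_zero_iff 𝔮.primeCompl Λq _).mp hN⟩
  choose Ni mi hmi using hnil
  let N : ℕ := Finset.univ.sup Ni
  let lam : Λ := ∏ i, (mi i).1
  have hlam : lam ∉ 𝔮 := by
    have : lam ∈ 𝔮.primeCompl := Submonoid.prod_mem _ fun i _ => (mi i).2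
    exact this
  have hlamN : ∀ i, lam * φ (aa i) ^ N = 0 := by
    intro i
    have h1 : lam = (∏ i' ∈ Finset.univ.erase i, (mi i').1) * (mi i).1 := by
      rw [Finset.prod_erase_mul _ _ (Finset.mem_univ i)]
    have h2 : Ni i ≤ N := Finset.le_sup (f := Ni) (Finset.mem_univ i)
    have h3 : φ (aa i) ^ N = φ (aa i) ^ Ni i * φ (aa i) ^ (N - Ni i) := by
      rw [← pow_add, Nat.add_sub_cancel' h2]
    rw [h1, h3, mul_assoc, ← mul_assoc (mi i).1, hmi, zero_mul, mul_zero]
  -- the algebra `B`
  let f : Fin l → MvPolynomial (Option (Option (Fin k))) A := rel r d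
  let ct : MvPolynomial (Option (Option (Fin k))) A := X none * X (some none) * C a
  have hbbct : bb r a d = Ideal.Quotient.mk (Ideal.span (Set.range f)) ct := rfl
  haveI : Algebra.FinitePresentation R (B2 ρ f) :=
    Algebra.FinitePresentation.quotient (Submodule.fg_span (Set.finite_range (rel2 ρ f)))
  haveI : Algebra.FinitePresentation R (Cc r d) :=
    Algebra.FinitePresentation.quotient (Submodule.fg_span (Set.finite_range (rel r d)))
  -- evaluation through `h₁`
  have hh₁C : ∀ x : A, h₁ (Ideal.Quotient.mk (Ideal.span (Set.range f)) (C x)) = φ x := by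
    intro x
    exact congr($hcomp x)
  have hh₁eval : ∀ q : MvPolynomial (Option (Option (Fin k))) A,
      eval₂ (φ : A →+* Λ) (fun o => h₁ (Ideal.Quotient.mk (Ideal.span (Set.range f)) (X o))) q =
        h₁ (Ideal.Quotient.mk (Ideal.span (Set.range f)) q) := by
    intro q
    have : eval₂Hom (φ : A →+* Λ)
        (fun o => h₁ (Ideal.Quotient.mk (Ideal.span (Set.range f)) (X o))) =
        (h₁ : Cc r d →+* Λ).comp (Ideal.Quotient.mk (Ideal.span (Set.range f))) := by
      refine MvPolynomial.ringHom_ext (fun x => ?_) (fun o => ?_)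
      · rw [eval₂Hom_C, RingHom.comp_apply]
        exact (hh₁C x).symm
      · rw [eval₂Hom_X', RingHom.comp_apply]
        rfl
    exact congr($this q)
  let valsB : Var2 (Option (Option (Fin k))) ρ l → Λ := fun v => match v with
    | Sum.inl (Sum.inl o) => h₁ (Ideal.Quotient.mk (Ideal.span (Set.range f)) (X o))
    | Sum.inl (Sum.inr i) => φ (aa i) ^ N
    | Sum.inr (Sum.inl _) => lam
    | Sum.inr (Sum.inr _) => 0
  let hB₀ : MvPolynomial (Var2 (Option (Option (Fin k))) ρ l) A →ₐ[R] Λ := aevalTower φ valsB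
  have hhB₀ : ∀ q, hB₀ q = eval₂ (φ : A →+* Λ) valsB q := fun q => rfl
  have hhB₀x : ∀ q : MvPolynomial (Option (Option (Fin k))) A,
      hB₀ (rename vx q) = h₁ (Ideal.Quotient.mk (Ideal.span (Set.range f)) q) := by
    intro q
    rw [hhB₀, eval₂_rename, ← hh₁eval]
    rfl
  have hhB₀rel : ∀ q ∈ Ideal.span (Set.range (rel2 ρ f)), hB₀ q = 0 := by
    intro q hq
    have hle' : Ideal.span (Set.range (rel2 ρ f)) ≤ RingHom.ker hB₀.toRingHom := by
      rw [Ideal.span_le]
      rintro _ ⟨(j | i), rfl⟩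
      · rw [SetLike.mem_coe, RingHom.mem_ker]
        change hB₀ (rename vx (f j) - ∑ i, X (vy i) * X (vt i j)) = 0
        rw [map_sub, hhB₀x, map_sum]
        have h3 : Ideal.Quotient.mk (Ideal.span (Set.range f)) (f j) = 0 :=
          Ideal.Quotient.eq_zero_iff_mem.mpr (Ideal.subset_span ⟨j, rfl⟩)
        rw [h3, map_zero, zero_sub, neg_eq_zero]
        refine Finset.sum_eq_zero fun i _ => ?_
        rw [map_mul]
        have e2 : hB₀ (X (vt i j)) = 0 := aevalTower_X _ _ _
        rw [e2, mul_zero]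
      · rw [SetLike.mem_coe, RingHom.mem_ker]
        change hB₀ (X vz * X (vy i)) = 0
        rw [map_mul]
        have e1 : hB₀ (X vz) = lam := aevalTower_X _ _ _
        have e2 : hB₀ (X (vy i)) = φ (aa i) ^ N := aevalTower_X _ _ _
        rw [e1, e2, hlamN]
    exact hle' hq
  let hB : B2 ρ f →ₐ[R] Λ := Ideal.Quotient.liftₐ _ hB₀ hhB₀rel
  let gB : A →ₐ[R] B2 ρ f := IsScalarTower.toAlgHom R A (B2 ρ f)
  have hBg : hB.comp gB = φ := by
    refine AlgHom.ext fun x => ?_
    change hB₀ (C x) = φ x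
    exact aevalTower_C _ _ _
  refine ⟨B2 ρ f, inferInstance, inferInstance, inferInstance, gB, hB, hBg, ?_, ?_⟩
  · -- `singRad φ ≤ singRad hB`
    unfold Smoothing.singRad
    rw [Ideal.radical_le_radical_iff, ← haa', Ideal.map_span, Ideal.span_le]
    rintro _ ⟨_, ⟨i, rfl⟩, rfl⟩
    haveI : Algebra.FormallySmooth R (Localization.Away (aa i)) :=
      formallySmooth_of_mem_singularIdeal (aa i) (haamem i)
    have h1 := mem_singularIdeal_of_formallySmooth _ (formallySmooth_away_y (R := R) ρ f (aa i) i)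
    have h2 : hB (Ideal.Quotient.mk _ (elY ρ (m := l) i (aa i))) = φ (aa i) ^ (N + 1) := by
      change hB₀ (X (vy i) * C (aa i)) = _
      rw [map_mul]
      have e1 : hB₀ (X (vy i)) = φ (aa i) ^ N := aevalTower_X _ _ _
      have e2 : hB₀ (C (aa i)) = φ (aa i) := aevalTower_C _ _ _
      rw [e1, e2, pow_succ]
    refine ⟨N + 1, ?_⟩
    change φ (aa i) ^ (N + 1) ∈ _
    rw [← h2]
    exact Ideal.mem_map_of_mem _ h1
  · -- `singRad hB` is not contained in `𝔮`
    intro hcon
    haveI : Algebra.FormallySmooth R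
        (Localization.Away (Ideal.Quotient.mk (Ideal.span (Set.range f)) ct)) := hfs
    have h1 := mem_singularIdeal_of_formallySmooth _ (formallySmooth_away_z (R := R) ρ f ct)
    have h2 : hB (Ideal.Quotient.mk _ (elZ ρ (m := l) ct)) = lam * h₁ (bb r a d) := by
      change hB₀ (X vz * rename vx ct) = _
      rw [map_mul, hhB₀x]
      have e1 : hB₀ (X vz) = lam := aevalTower_X _ _ _
      rw [e1, hbbct]
    have h3 : lam * h₁ (bb r a d) ∈ 𝔮 := by
      rw [← h2]
      exact hcon (Ideal.le_radical (Ideal.mem_map_of_mem _ h1))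
    rcases Ideal.IsPrime.mem_or_mem inferInstance h3 with h4 | h4
    · exact hlam h4
    · exact hq h4

end Groth.Agent.Helper8.LocTr
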