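import Mathlib
import Groth.Agent.Lib.Helper8.DesA1

/-!
# Desingularization lemma, II: the substitution `x_i = r_i + π² ∑ s_ik v_k + π³ w_i`
-/

set_option autoImplicit false
universe u

namespace Groth.Agent.Helper8.DesA

open MvPolynomial

variable {R : Type u} [CommRing R] {n m c : ℕ}

/-- The variable `v_k`. -/
noncomputable def vv (n : ℕ) (k : Fin c) : MvPolynomial (Fin (c + n)) R := X (Fin.castAdd n k)

/-- The variable `w_i`. -/
noncomputable def ww (c : ℕ) (i : Fin n) : MvPolynomial (Fin (c + n)) R := X (Fin.natAdd c i)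

variable (f : Fin m → MvPolynomial (Fin n) R) (rows : Fin c → Fin m) (π u : R) (r : Fin n → R)
  (s : Fin n → Fin c → R)

/-- `∑ s_ik v_k + π w_i`. -/
noncomputable def lam (i : Fin n) : MvPolynomial (Fin (c + n)) R :=
  ∑ k, C (s i k) * vv n k + C π * ww c i

/-- `π² ∑ s_ik v_k + π³ w_i`. -/
noncomputable def bb (i : Fin n) : MvPolynomial (Fin (c + n)) R := C (π ^ 2) * lam π s i

/-- `r_i + π² ∑ s_ik v_k + π³ w_i`. -/
noncomputable def xi (i : Fin n) : MvPolynomial (Fin (c + n)) R := C (r i) + bb π s i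

/-- The substitution. -/
noncomputable def sub : MvPolynomial (Fin n) R →ₐ[R] MvPolynomial (Fin (c + n)) R :=
  aeval (xi π r s)

/-- Evaluation at `r`. -/
noncomputable def ev : MvPolynomial (Fin n) R →ₐ[R] R := aeval r

theorem aeval_C_comp (q : MvPolynomial (Fin n) R) :
    aeval (fun i => (C (r i) : MvPolynomial (Fin (c + n)) R)) q = C (ev r q) := by
  have := comp_aeval_apply (f := r) (Algebra.ofId R (MvPolynomial (Fin (c + n)) R)) q
  exact this.symm

theorem bb_mem (i : Fin n) : bb π s i ∈ Ideal.span {(C (π ^ 2) : MvPolynomial (Fin (c + n)) R)} :=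
  Ideal.mem_span_singleton.mpr ⟨_, rfl⟩

/-- Taylor expansion of the substituted relation. -/
theorem exists_rem (p : MvPolynomial (Fin n) R) : ∃ q : MvPolynomial (Fin (c + n)) R,
    sub π r s p = C (ev r p) + ∑ i, C (ev r (pderiv i p)) * bb π s i + C (π ^ 4) * q := by
  classical
  have h1 := aeval_add_sub_mem_sq (R := R)
    (fun i => (C (r i) : MvPolynomial (Fin (c + n)) R)) (bb π s) p
  have hle : (Ideal.span (Set.range (bb π s))) ^ 2 ≤
      Ideal.span {(C (π ^ 4) : MvPolynomial (Fin (c + n)) R)} := by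
    have h2 : Ideal.span (Set.range (bb π s)) ≤
        Ideal.span {(C (π ^ 2) : MvPolynomial (Fin (c + n)) R)} := by
      rw [Ideal.span_le]
      rintro _ ⟨i, rfl⟩
      exact bb_mem π s i
    refine (Ideal.pow_right_mono h2 2).trans ?_
    rw [Ideal.span_singleton_pow, ← map_pow, ← pow_mul]
  obtain ⟨q, hq⟩ := Ideal.mem_span_singleton'.mp (hle h1)
  refine ⟨q, ?_⟩
  simp only [aeval_C_comp] at hq
  have h3 : sub π r s p = aeval ((fun i => (C (r i) : MvPolynomial (Fin (c + n)) R)) + bb π s) p :=
    rfl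
  rw [h3]
  linear_combination -hq

section Data

variable (β : Fin m → R) (q : Fin m → MvPolynomial (Fin (c + n)) R)

/-- The element `b_j` with `f_j(ξ) = π² b_j`. -/
noncomputable def bq (j : Fin m) : MvPolynomial (Fin (c + n)) R :=
  C (π ^ 2) * C (β j) + ∑ i, C (ev r (pderiv i (f j))) * lam π s i + C (π ^ 2) * q j

/-- The element `g_j` with `f_{rows j}(ξ) = π³ g_j`. -/
noncomputable def gg (j : Fin c) : MvPolynomial (Fin (c + n)) R :=
  C u * vv n j + ∑ i, C (ev r (pderiv i (f (rows j)))) * ww c i +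
    C π * (C (β (rows j)) + q (rows j))

variable (hβ : ∀ j, ev r (f j) = π ^ 4 * β j)
  (hq : ∀ j, sub π r s (f j) = C (ev r (f j)) + ∑ i, C (ev r (pderiv i (f j))) * bb π s i +
    C (π ^ 4) * q j)

include hβ hq in
theorem sub_eq_bq (j : Fin m) : sub π r s (f j) = C (π ^ 2) * bq f π r s β q j := by
  rw [hq j, hβ j]
  unfold bq bb
  simp only [map_mul, map_pow, mul_add, Finset.mul_sum]
  have : ∀ i, C (ev r (pderiv i (f j))) * (C π ^ 2 * lam π s i) =
      C π ^ 2 * (C (ev r (pderiv i (f j))) * lam π s i) := fun i => by ring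
  simp only [this]
  ring

variable (hs : ∀ j k : Fin c, ∑ i, ev r (pderiv i (f (rows j))) * s i k = if j = k then u * π else 0)

include hs in
theorem bq_rows (j : Fin c) : bq f π r s β q (rows j) = C π * gg f rows π u r β q j := by
  classical
  unfold bq gg lam
  have h1 : ∑ i, C (ev r (pderiv i (f (rows j)))) *
      (∑ k, C (s i k) * vv n k + C π * ww c i) =
      C (u * π) * vv n j + C π * ∑ i, C (ev r (pderiv i (f (rows j)))) * ww c i := by
    simp only [mul_add, Finset.sum_add_distrib, Finset.mul_sum]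
    congr 1
    · rw [Finset.sum_comm]
      have h2 : ∀ k, ∑ i, C (ev r (pderiv i (f (rows j)))) * (C (s i k) * vv n k) =
          C (∑ i, ev r (pderiv i (f (rows j))) * s i k) * vv n k := by
        intro k
        rw [map_sum, Finset.sum_mul]
        refine Finset.sum_congr rfl fun i _ => ?_
        rw [map_mul]
        ring
      simp only [h2, hs]
      simp only [apply_ite (C : R → MvPolynomial (Fin (c + n)) R), map_zero, ite_mul, zero_mul,
        Finset.sum_ite_eq, Finset.mem_univ, if_true]
    · refine Finset.sum_congr rfl fun i _ => ?_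
      ring
  rw [h1]
  simp only [map_mul, map_pow]
  ring

include hβ hq hs in
theorem sub_eq_gg (j : Fin c) :
    sub π r s (f (rows j)) = C (π ^ 3) * gg f rows π u r β q j := by
  rw [sub_eq_bq f π r s β q hβ hq, bq_rows f rows π u r s β q hs]
  simp only [map_pow]
  ring

/-- The Jacobian matrix of the `g_j` with respect to the `v_k` is `u` modulo `π`. -/
theorem pderiv_gg (j k : Fin c) : ∃ t : MvPolynomial (Fin (c + n)) R,
    pderiv (Fin.castAdd n k) (gg f rows π u r β q j) =
      (if j = k then C u else 0) + C π * t := by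
  classical
  refine ⟨pderiv (Fin.castAdd n k) (C (β (rows j)) + q (rows j)), ?_⟩
  unfold gg vv ww
  simp only [map_add, Derivation.leibniz, pderiv_C, pderiv_X, smul_eq_mul,
    map_sum, zero_add]
  have h1 : ∀ i : Fin n, (Pi.single (Fin.castAdd n k) (1 : MvPolynomial (Fin (c + n)) R) :
      Fin (c + n) → MvPolynomial (Fin (c + n)) R) (Fin.natAdd c i) = 0 := by
    intro i
    refine Pi.single_eq_of_ne ?_ _
    intro h
    have := congrArg Fin.val h
    simp at this
    omega
  simp only [h1, mul_zero, Finset.sum_const_zero, add_zero]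
  congr 1
  by_cases hjk : j = k
  · subst hjk
    simp
  · have : (Fin.castAdd n j : Fin (c + n)) ≠ Fin.castAdd n k := fun h =>
      hjk (Fin.castAdd_injective _ _ h)
    simp [hjk]

/-- Evaluation of `g_j` at `v = 0`, `w = π λ`. -/
theorem aeval_gg {Λ : Type*} [CommRing Λ] [Algebra R Λ] (l : Fin n → Λ) (j : Fin c) :
    ∃ t : Λ, aeval (Fin.append (fun _ : Fin c => (0 : Λ)) (fun i => π • l i))
      (gg f rows π u r β q j) = π • t := by
  refine ⟨∑ i, ev r (pderiv i (f (rows j))) • l i + algebraMap R Λ (β (rows j)) +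
    aeval (Fin.append (fun _ : Fin c => (0 : Λ)) (fun i => π • l i)) (q (rows j)), ?_⟩
  unfold gg vv ww
  simp only [map_add, map_mul, map_sum, aeval_C, aeval_X, Fin.append_left, Fin.append_right,
    mul_zero, zero_add, Algebra.smul_def]
  have hsum : ∑ x, (algebraMap R Λ) ((ev r) ((pderiv x) (f (rows j)))) *
      ((algebraMap R Λ) π * l x) =
      (algebraMap R Λ) π * ∑ x, (algebraMap R Λ) ((ev r) ((pderiv x) (f (rows j)))) * l x := by
    rw [Finset.mul_sum]
    refine Finset.sum_congr rfl fun i _ => ?_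
    ring
  rw [hsum]
  ring

end Data

end Groth.Agent.Helper8.DesA
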