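import Mathlib
import Groth.Agent.Lib.Helper8.DesA2
import Groth.Agent.Lib.Helper8.LocTr5

/-!
# Desingularization lemma, III: the algebra `B = R[v, w]/(g_j, f_j(ξ))` and its maps
-/

set_option autoImplicit false
universe u

namespace Groth.Agent.Helper8.DesA

open MvPolynomial

variable {R : Type u} [CommRing R] {n m c : ℕ}
variable (f : Fin m → MvPolynomial (Fin n) R) (rows : Fin c → Fin m) (π u : R) (r : Fin n → R)
  (s : Fin n → Fin c → R) (β : Fin m → R) (q : Fin m → MvPolynomial (Fin (c + n)) R)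

/-- The relations `g_j`, `f_j(ξ)`. -/
noncomputable def rels : Fin c ⊕ Fin m → MvPolynomial (Fin (c + n)) R :=
  Sum.elim (gg f rows π u r β q) (fun j => sub π r s (f j))

/-- The algebra `B`. -/
abbrev Bq : Type u :=
  MvPolynomial (Fin (c + n)) R ⧸ Ideal.span (Set.range (rels f rows π u r s β q))

theorem gg_mem (j : Fin c) : gg f rows π u r β q j ∈ Ideal.span (Set.range (rels f rows π u r s β q)) :=
  Ideal.subset_span ⟨Sum.inl j, rfl⟩

theorem sub_mem (j : Fin m) :
    sub π r s (f j) ∈ Ideal.span (Set.range (rels f rows π u r s β q)) :=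
  Ideal.subset_span ⟨Sum.inr j, rfl⟩

instance : Algebra.FinitePresentation R (Bq f rows π u r s β q) :=
  Algebra.FinitePresentation.quotient (Submodule.fg_span (Set.finite_range _))

section Alpha

variable {A : Type u} [CommRing A] [Algebra R A] (hom : MvPolynomial (Fin n) R →ₐ[R] A)
  (hsurj : Function.Surjective hom)
  (hker : RingHom.ker hom.toRingHom = Ideal.span (Set.range f))

include hker in
theorem ker_le_ker_sub : RingHom.ker hom.toRingHom ≤
    RingHom.ker ((Ideal.Quotient.mkₐ R (Ideal.span (Set.range (rels f rows π u r s β q)))).comp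
      (sub π r s)).toRingHom := by
  rw [hker, Ideal.span_le]
  rintro _ ⟨j, rfl⟩
  rw [SetLike.mem_coe, RingHom.mem_ker]
  exact Ideal.Quotient.eq_zero_iff_mem.mpr (sub_mem f rows π u r s β q j)

/-- The map `A → B`. -/
noncomputable def alphaHom : A →ₐ[R] Bq f rows π u r s β q :=
  AlgHom.liftOfSurjective hom hsurj _ (ker_le_ker_sub f rows π u r s β q hom hker)

theorem alphaHom_apply (p : MvPolynomial (Fin n) R) :
    alphaHom f rows π u r s β q hom hsurj hker (hom p) =
      Ideal.Quotient.mk _ (sub π r s p) :=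
  AlgHom.liftOfSurjective_apply hom hsurj _ _ p

end Alpha

section Beta

variable {Λ : Type u} [CommRing Λ] [Algebra R Λ]

theorem smul_eq_zero_of_pow_smul (hΛ : ∀ x : Λ, π ^ 2 • x = 0 → π • x = 0) (k : ℕ) (x : Λ)
    (h : π ^ (k + 1) • x = 0) : π • x = 0 := by
  induction k generalizing x with
  | zero => simpa using h
  | succ k ih =>
    apply ih
    have h1 : π ^ (k + 1 + 1) • x = π ^ 2 • (π ^ k • x) := by
      rw [smul_smul]
      congr 1
      ring
    rw [h1] at h
    have h2 := hΛ _ h
    rw [smul_smul] at h2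
    have h3 : π * π ^ k = π ^ (k + 1) := by ring
    rw [h3] at h2
    exact h2

variable (l : Fin n → Λ)

/-- The values `v ↦ 0`, `w ↦ π λ`. -/
noncomputable def betaVals : Fin (c + n) → Λ := Fin.append (fun _ : Fin c => (0 : Λ)) (fun i => π • l i)

theorem aeval_betaVals_xi (i : Fin n) :
    aeval (betaVals (c := c) π l) (xi π r s i) = algebraMap R Λ (r i) + π ^ 4 • l i := by
  unfold xi bb lam vv ww betaVals
  simp only [map_add, map_mul, map_sum, aeval_C, aeval_X, Fin.append_left, Fin.append_right,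
    mul_zero, Finset.sum_const_zero, zero_add, Algebra.smul_def, map_pow]
  ring

variable (φ' : MvPolynomial (Fin n) R →ₐ[R] Λ)
  (hφ' : ∀ i, φ' (X i) = algebraMap R Λ (r i) + π ^ 4 • l i)

include hφ' in
theorem aeval_betaVals_sub (p : MvPolynomial (Fin n) R) :
    aeval (betaVals (c := c) π l) (sub π r s p) = φ' p := by
  have h1 : (aeval (betaVals (c := c) π l)).comp (sub π r s) = φ' := by
    refine MvPolynomial.algHom_ext fun i => ?_
    change aeval (betaVals (c := c) π l) (sub π r s (X i)) = φ' (X i)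
    unfold sub
    rw [aeval_X, aeval_betaVals_xi, hφ']
  exact congrArg (fun ψ : MvPolynomial (Fin n) R →ₐ[R] Λ => ψ p) h1

variable (hΛ : ∀ x : Λ, π ^ 2 • x = 0 → π • x = 0) (hφ'f : ∀ j, φ' (f j) = 0)
  (hβ : ∀ j, ev r (f j) = π ^ 4 * β j)
  (hq : ∀ j, sub π r s (f j) = C (ev r (f j)) + ∑ i, C (ev r (pderiv i (f j))) * bb π s i +
    C (π ^ 4) * q j)
  (hs : ∀ j k : Fin c, ∑ i, ev r (pderiv i (f (rows j))) * s i k = if j = k then u * π else 0)

include hφ' hΛ hφ'f hβ hq hs in
theorem aeval_betaVals_gg (j : Fin c) :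
    aeval (betaVals (c := c) π l) (gg f rows π u r β q j) = 0 := by
  obtain ⟨t, ht⟩ := aeval_gg f rows π u r β q l j
  change aeval (betaVals (c := c) π l) (gg f rows π u r β q j) = π • t at ht
  rw [ht]
  apply smul_eq_zero_of_pow_smul π hΛ 3
  have h1 := aeval_betaVals_sub π r s l φ' hφ' (f (rows j))
  rw [sub_eq_gg f rows π u r s β q hβ hq hs, map_mul, aeval_C, ht, hφ'f] at h1
  rw [← h1, Algebra.smul_def, Algebra.smul_def, map_pow, map_pow]
  ring

include hφ' hΛ hφ'f hβ hq hs in
/-- The map `B → Λ`. -/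
theorem exists_betaHom : ∃ βh : Bq f rows π u r s β q →ₐ[R] Λ,
    ∀ p, βh (Ideal.Quotient.mk _ p) = aeval (betaVals (c := c) π l) p := by
  have h0 : ∀ p ∈ Ideal.span (Set.range (rels f rows π u r s β q)),
      aeval (betaVals (c := c) π l) p = 0 := by
    intro p hp
    have hle : Ideal.span (Set.range (rels f rows π u r s β q)) ≤
        RingHom.ker (aeval (betaVals (c := c) π l) :
          MvPolynomial (Fin (c + n)) R →ₐ[R] Λ).toRingHom := by
      rw [Ideal.span_le]
      rintro _ ⟨j | j, rfl⟩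
      · rw [SetLike.mem_coe, RingHom.mem_ker]
        exact aeval_betaVals_gg f rows π u r s β q l φ' hφ' hΛ hφ'f hβ hq hs j
      · rw [SetLike.mem_coe, RingHom.mem_ker]
        change aeval (betaVals (c := c) π l) (sub π r s (f j)) = 0
        rw [aeval_betaVals_sub π r s l φ' hφ', hφ'f]
    exact hle hp
  exact ⟨Ideal.Quotient.liftₐ _ (aeval (betaVals (c := c) π l)) h0, fun p => rfl⟩

end Beta

end Groth.Agent.Helper8.DesA
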