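import Mathlib
import Groth.Agent.Lib.Helper8.DesA3

/-!
# Desingularization lemma, IV: smoothness of `B` away from `π`
-/

set_option autoImplicit false
universe u

namespace Groth.Agent.Helper8.DesA

open MvPolynomial

variable {R : Type u} [CommRing R] {n m c : ℕ}
variable (f : Fin m → MvPolynomial (Fin n) R) (rows : Fin c → Fin m) (π u : R) (r : Fin n → R)
  (s : Fin n → Fin c → R) (β : Fin m → R) (q : Fin m → MvPolynomial (Fin (c + n)) R)
variable {A : Type u} [CommRing A] [Algebra R A] (hom : MvPolynomial (Fin n) R →ₐ[R] A)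
  (hsurj : Function.Surjective hom)
  (hker : RingHom.ker hom.toRingHom = Ideal.span (Set.range f))
  (hβ : ∀ j, ev r (f j) = π ^ 4 * β j)
  (hq : ∀ j, sub π r s (f j) = C (ev r (f j)) + ∑ i, C (ev r (pderiv i (f j))) * bb π s i +
    C (π ^ 4) * q j)
  (hs : ∀ j k : Fin c, ∑ i, ev r (pderiv i (f (rows j))) * s i k = if j = k then u * π else 0)

include hsurj hker hβ hq hs in
theorem formallySmooth_away_pi
    [Algebra.FormallySmooth R (Localization.Away (algebraMap R A π))] :
    Algebra.FormallySmooth R (Localization.Away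
      (Ideal.Quotient.mk (Ideal.span (Set.range (rels f rows π u r s β q))) (C π))) := by
  classical
  let Aπ := Localization.Away (algebraMap R A π)
  let P := MvPolynomial (Fin c) Aπ
  let B := Bq f rows π u r s β q
  let Bπ := Localization.Away
    (Ideal.Quotient.mk (Ideal.span (Set.range (rels f rows π u r s β q))) (C π))
  haveI : Algebra.FormallySmooth R P := Algebra.FormallySmooth.comp R Aπ P
  let mkπ : MvPolynomial (Fin (c + n)) R →ₐ[R] Bπ :=
    (IsScalarTower.toAlgHom R B Bπ).comp (Ideal.Quotient.mkₐ R _)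
  have hmkπC : ∀ a : R, mkπ (C a) = algebraMap R Bπ a := fun a => mkπ.commutes a
  have hmkπ0 : ∀ p ∈ Ideal.span (Set.range (rels f rows π u r s β q)), mkπ p = 0 := by
    intro p hp
    change algebraMap B Bπ (Ideal.Quotient.mk _ p) = 0
    rw [Ideal.Quotient.eq_zero_iff_mem.mpr hp, map_zero]
  -- the inverse of `π` in `A_π`
  have hπu : IsUnit (algebraMap A Aπ (algebraMap R A π)) :=
    IsLocalization.Away.algebraMap_isUnit _
  obtain ⟨πinv, hπinv⟩ : ∃ πinv : Aπ, algebraMap R Aπ π * πinv = 1 := by
    refine ⟨↑(hπu.unit⁻¹), ?_⟩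
    rw [IsScalarTower.algebraMap_apply R A Aπ]
    exact hπu.mul_val_inv
  let xbar : Fin n → Aπ := fun i => algebraMap A Aπ (hom (X i))
  -- the map `Φ`
  let vals : Fin (c + n) → P := Fin.append (fun k => X k)
    (fun i => C (πinv ^ 3) * (C (xbar i) - C (algebraMap R Aπ (r i)) -
      C (algebraMap R Aπ (π ^ 2)) * ∑ k, C (algebraMap R Aπ (s i k)) * X k))
  have hvC : ∀ a : R, aeval vals (C a) = C (algebraMap R Aπ a) := by
    intro a
    rw [aeval_C]
    rfl
  have hvxi : ∀ i, aeval vals (xi π r s i) = C (xbar i) := by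
    intro i
    unfold xi bb lam vv ww
    simp only [map_add, map_mul, map_sum, hvC, aeval_X]
    have h1 : ∀ k : Fin c, vals (Fin.castAdd n k) = X k := fun k => by simp [vals]
    have h2 : vals (Fin.natAdd c i) = C (πinv ^ 3) * (C (xbar i) - C (algebraMap R Aπ (r i)) -
        C (algebraMap R Aπ (π ^ 2)) * ∑ k, C (algebraMap R Aπ (s i k)) * X k) := by
      simp [vals]
    simp only [h1, h2]
    have h3 : (C (algebraMap R Aπ (π ^ 2)) : P) * (C (algebraMap R Aπ π) * C (πinv ^ 3)) = 1 := by
      rw [← map_mul, ← map_mul, ← map_one (C : Aπ →+* P)]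
      congr 1
      rw [map_pow]
      calc algebraMap R Aπ π ^ 2 * (algebraMap R Aπ π * πinv ^ 3)
          = (algebraMap R Aπ π * πinv) ^ 3 := by ring
        _ = 1 := by rw [hπinv, one_pow]
    linear_combination (C (xbar i) - C (algebraMap R Aπ (r i)) -
        C (algebraMap R Aπ (π ^ 2)) * ∑ k, C (algebraMap R Aπ (s i k)) * X k) * h3
  have hvsub : ∀ p, aeval vals (sub π r s p) = C (algebraMap A Aπ (hom p)) := by
    intro p
    let ψ₁ : MvPolynomial (Fin n) R →ₐ[R] P := (aeval vals).comp (sub π r s)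
    let ψ₂ : MvPolynomial (Fin n) R →ₐ[R] P :=
      ((IsScalarTower.toAlgHom R Aπ P).comp (IsScalarTower.toAlgHom R A Aπ)).comp hom
    have h1 : ψ₁ = ψ₂ := by
      refine MvPolynomial.algHom_ext fun i => ?_
      change aeval vals (sub π r s (X i)) = C (algebraMap A Aπ (hom (X i)))
      unfold sub
      rw [aeval_X, hvxi]
    exact congrArg (fun ψ : MvPolynomial (Fin n) R →ₐ[R] P => ψ p) h1
  have hCπu : IsUnit (C (algebraMap R Aπ π) : P) := by
    refine IsUnit.map C ?_
    exact IsUnit.of_mul_eq_one _ hπinv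
  have hrel : ∀ j, aeval vals (rels f rows π u r s β q j) = 0 := by
    rintro (j | j)
    · change aeval vals (gg f rows π u r β q j) = 0
      have h1 := hvsub (f (rows j))
      rw [sub_eq_gg f rows π u r s β q hβ hq hs, map_mul, hvC] at h1
      have h2 : hom (f (rows j)) = 0 := by
        have : f (rows j) ∈ RingHom.ker hom.toRingHom := by
          rw [hker]
          exact Ideal.subset_span ⟨_, rfl⟩
        exact this
      rw [h2, map_zero, map_zero, map_pow, map_pow] at h1
      exact ((hCπu.pow 3).mul_right_eq_zero).mp h1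
    · change aeval vals (sub π r s (f j)) = 0
      rw [hvsub]
      have h2 : hom (f j) = 0 := by
        have : f j ∈ RingHom.ker hom.toRingHom := by
          rw [hker]
          exact Ideal.subset_span ⟨_, rfl⟩
        exact this
      rw [h2, map_zero, map_zero]
  have hu : IsUnit (aeval vals (C π)) := by
    rw [hvC]
    exact hCπu
  obtain ⟨Φ, hΦ⟩ := Groth.Agent.Helper8.LocTr.exists_algHom_away (A := R)
    (rels f rows π u r s β q) (C π) vals hrel hu
  -- the map `Ψ`
  let α := alphaHom f rows π u r s β q hom hsurj hker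
  let α' : A →ₐ[R] Bπ := (IsScalarTower.toAlgHom R B Bπ).comp α
  have hα' : ∀ p, α' (hom p) = mkπ (sub π r s p) := by
    intro p
    change algebraMap B Bπ (α (hom p)) = _
    rw [alphaHom_apply]
    rfl
  have hα'u : IsUnit (α' (algebraMap R A π)) := by
    rw [AlgHom.commutes, ← hmkπC]
    exact IsLocalization.Away.algebraMap_isUnit
      (Ideal.Quotient.mk (Ideal.span (Set.range (rels f rows π u r s β q))) (C π))
  let ψA : Aπ →ₐ[R] Bπ := IsLocalization.Away.liftAlgHom (algebraMap R A π) (f := α') hα'u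
  have hψA : ∀ a : A, ψA (algebraMap A Aπ a) = α' a := fun a =>
    IsLocalization.Away.lift_eq _ hα'u a
  let Ψ : P →ₐ[R] Bπ := aevalTower ψA (fun k => mkπ (vv n k))
  have hΨC : ∀ a : Aπ, Ψ (C a) = ψA a := fun a => aevalTower_C _ _ a
  have hΨX : ∀ k, Ψ (X k) = mkπ (vv n k) := fun k => aevalTower_X _ _ k
  have hinv : ψA πinv * mkπ (C π) = 1 := by
    rw [hmkπC, ← ψA.commutes, ← map_mul, mul_comm, hπinv, map_one]
  have hR : Ψ.comp Φ = AlgHom.id R Bπ := by
    refine Groth.Agent.Helper8.LocTr.algHom_ext_away (rels f rows π u r s β q) (C π) fun o => ?_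
    change Ψ (Φ (algebraMap B Bπ (Ideal.Quotient.mk _ (X o)))) =
      algebraMap B Bπ (Ideal.Quotient.mk _ (X o))
    rw [hΦ, aeval_X]
    induction o using Fin.addCases with
    | left k =>
      have h1 : vals (Fin.castAdd n k) = X k := by simp [vals]
      rw [h1, hΨX]
      rfl
    | right i =>
      have h2 : vals (Fin.natAdd c i) = C (πinv ^ 3) * (C (xbar i) - C (algebraMap R Aπ (r i)) -
          C (algebraMap R Aπ (π ^ 2)) * ∑ k, C (algebraMap R Aπ (s i k)) * X k) := by
        simp [vals]
      rw [h2]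
      simp only [map_mul, map_sub, map_sum, hΨC, hΨX, AlgHom.commutes, map_pow]
      have h3 : ψA (xbar i) = mkπ (xi π r s i) := by
        change ψA (algebraMap A Aπ (hom (X i))) = _
        rw [hψA, hα']
        unfold sub
        rw [aeval_X]
      rw [h3]
      unfold xi bb lam
      simp only [map_add, map_mul, map_sum, hmkπC, map_pow]
      change _ = mkπ (ww c i)
      have h4 : ψA πinv * algebraMap R Bπ π = 1 := by
        rw [← hmkπC]
        exact hinv
      calc ψA πinv ^ 3 * (algebraMap R Bπ (r i) + algebraMap R Bπ π ^ 2 *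
            (∑ k, algebraMap R Bπ (s i k) * mkπ (vv n k) + algebraMap R Bπ π * mkπ (ww c i)) -
            algebraMap R Bπ (r i) -
            algebraMap R Bπ π ^ 2 * ∑ k, algebraMap R Bπ (s i k) * mkπ (vv n k))
          = (ψA πinv * algebraMap R Bπ π) ^ 3 * mkπ (ww c i) := by ring
        _ = mkπ (ww c i) := by rw [h4, one_pow, one_mul]
  exact Groth.Agent.Helper8.LocTr.formallySmooth_of_retract Φ Ψ hR

end Groth.Agent.Helper8.DesA
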