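import Mathlib
import Groth.Agent.Lib.Helper8.DesA3
import Groth.Agent.S2032

/-!
# Desingularization lemma, V: smoothness of `B` near `V(π)`
-/

set_option autoImplicit false
universe u

namespace Groth.Agent.Helper8.DesA

open MvPolynomial

variable {R : Type u} [CommRing R] {n m c : ℕ}
variable (f : Fin m → MvPolynomial (Fin n) R) (rows : Fin c → Fin m) (π u : R) (r : Fin n → R)
  (s : Fin n → Fin c → R) (β : Fin m → R) (q : Fin m → MvPolynomial (Fin (c + n)) R)
  (hβ : ∀ j, ev r (f j) = π ^ 4 * β j)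
  (hq : ∀ j, sub π r s (f j) = C (ev r (f j)) + ∑ i, C (ev r (pderiv i (f j))) * bb π s i +
    C (π ^ 4) * q j)
  (hs : ∀ j k : Fin c, ∑ i, ev r (pderiv i (f (rows j))) * s i k = if j = k then u * π else 0)

/-- The ideal `(g_1, …, g_c)`. -/
noncomputable def Ig : Ideal (MvPolynomial (Fin (c + n)) R) :=
  Ideal.span (Set.range (gg f rows π u r β q))

include hβ hq hs in
theorem sub_mem_Ig_of_mem {y : MvPolynomial (Fin n) R}
    (hy : y ∈ Ideal.span (Set.range (f ∘ rows))) : sub π r s y ∈ Ig f rows π u r β q := by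
  have hle : Ideal.span (Set.range (f ∘ rows)) ≤ (Ig f rows π u r β q).comap (sub π r s) := by
    rw [Ideal.span_le]
    rintro _ ⟨j, rfl⟩
    rw [SetLike.mem_coe, Ideal.mem_comap]
    change sub π r s (f (rows j)) ∈ _
    rw [sub_eq_gg f rows π u r s β q hβ hq hs]
    exact Ideal.mul_mem_left _ _ (Ideal.subset_span ⟨j, rfl⟩)
  exact hle hy

include hβ hq in
theorem sub_mem_span_of_mem {y : MvPolynomial (Fin n) R}
    (hy : y ∈ Ideal.span (Set.range f)) :
    sub π r s y ∈ Ideal.span {(C (π ^ 2) : MvPolynomial (Fin (c + n)) R)} := by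
  have hle : Ideal.span (Set.range f) ≤
      (Ideal.span {(C (π ^ 2) : MvPolynomial (Fin (c + n)) R)}).comap (sub π r s) := by
    rw [Ideal.span_le]
    rintro _ ⟨j, rfl⟩
    rw [SetLike.mem_coe, Ideal.mem_comap, sub_eq_bq f π r s β q hβ hq]
    exact Ideal.mem_span_singleton.mpr ⟨_, rfl⟩
  exact hle hy

include hβ hq hs in
/-- The matrix relation `π (1 - π C) F ∈ (g)`. -/
theorem exists_matrix_rel
    (htail : ∀ j, C π * f j ∈ Ideal.span (Set.range (f ∘ rows)) ⊔ Ideal.span (Set.range f) ^ 2) :
    ∃ cm : Matrix (Fin m) (Fin m) (MvPolynomial (Fin (c + n)) R),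
      ∀ j, C π * ((1 - (C π : MvPolynomial (Fin (c + n)) R) • cm).mulVec
        (fun l => sub π r s (f l))) j ∈ Ig f rows π u r β q := by
  classical
  have key : ∀ j, ∃ cj : Fin m → MvPolynomial (Fin (c + n)) R,
      C π * (sub π r s (f j) - C π * ∑ l, cj l * sub π r s (f l)) ∈ Ig f rows π u r β q := by
    intro j
    obtain ⟨y, hy, z, hz, hyz⟩ := Submodule.mem_sup.mp (htail j)
    rw [pow_two] at hz
    have hz' : z ∈ Ideal.span (Set.range f) • Submodule.span (MvPolynomial (Fin n) R)
        (Set.range f) := hz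
    rw [Submodule.mem_ideal_smul_span_iff_exists_sum] at hz'
    obtain ⟨a, haJ, haz⟩ := hz'
    rw [Finsupp.sum_fintype a (fun i c => c • f i) (fun i => zero_smul _ _)] at haz
    have hc : ∀ l, ∃ cl : MvPolynomial (Fin (c + n)) R, sub π r s (a l) = C (π ^ 2) * cl := by
      intro l
      obtain ⟨cl, hcl⟩ := Ideal.mem_span_singleton'.mp
        (sub_mem_span_of_mem f π r s β q hβ hq (haJ l))
      exact ⟨cl, by rw [← hcl, mul_comm]⟩
    choose cj hcj using hc
    refine ⟨cj, ?_⟩
    have h1 : C π * (sub π r s (f j) - C π * ∑ l, cj l * sub π r s (f l)) = sub π r s y := by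
      have h2 : sub π r s (C π * f j) = sub π r s y + sub π r s z := by
        rw [← hyz, map_add]
      rw [← haz, map_sum] at h2
      simp only [smul_eq_mul, map_mul, hcj] at h2
      have h3 : sub π r s (C π) = C π := by
        unfold sub
        rw [aeval_C]
        rfl
      rw [h3] at h2
      rw [mul_sub, h2, Finset.mul_sum, Finset.mul_sum]
      have h4 : ∀ l, C π * (C π * (cj l * sub π r s (f l))) =
          C (π ^ 2) * cj l * sub π r s (f l) := by
        intro l
        rw [map_pow]
        ring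
      simp only [h4]
      ring
    rw [h1]
    exact sub_mem_Ig_of_mem f rows π u r s β q hβ hq hs hy
  choose cm hcm using key
  refine ⟨Matrix.of cm, fun j => ?_⟩
  have h1 : ((1 - (C π : MvPolynomial (Fin (c + n)) R) • Matrix.of cm).mulVec
      (fun l => sub π r s (f l))) j =
      sub π r s (f j) - C π * ∑ l, cm j l * sub π r s (f l) := by
    rw [Matrix.sub_mulVec, Matrix.one_mulVec, Matrix.smul_mulVec, Pi.sub_apply, Pi.smul_apply,
      smul_eq_mul]
    rfl
  rw [h1]
  exact hcm j

theorem det_sub_one_mem (cm : Matrix (Fin m) (Fin m) (MvPolynomial (Fin (c + n)) R)) :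
    (1 - (C π : MvPolynomial (Fin (c + n)) R) • cm).det - 1 ∈
      Ideal.span {(C π : MvPolynomial (Fin (c + n)) R)} := by
  rw [← Ideal.Quotient.eq, RingHom.map_det, map_one]
  have h1 : (Ideal.Quotient.mk (Ideal.span {(C π : MvPolynomial (Fin (c + n)) R)})).mapMatrix
      (1 - (C π : MvPolynomial (Fin (c + n)) R) • cm) = 1 := by
    ext i j
    simp only [RingHom.mapMatrix_apply, Matrix.map_apply, Matrix.sub_apply, Matrix.smul_apply,
      smul_eq_mul, map_sub, map_mul]
    have h2 : Ideal.Quotient.mk (Ideal.span {(C π : MvPolynomial (Fin (c + n)) R)}) (C π) = 0 :=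
      Ideal.Quotient.eq_zero_iff_mem.mpr (Ideal.mem_span_singleton_self _)
    rw [h2, zero_mul, sub_zero]
    by_cases hij : i = j
    · subst hij
      simp
    · simp [hij]
  rw [h1, Matrix.det_one]

/-- The Jacobian matrix of `g` with respect to `v`. -/
noncomputable def Jac : Matrix (Fin c) (Fin c) (MvPolynomial (Fin (c + n)) R) :=
  Matrix.of fun j k : Fin c => pderiv (Fin.castAdd n k) (gg f rows π u r β q j)

theorem detJac_sub_one_mem (hu : ∃ t, u = 1 + π * t) :
    (Jac f rows π u r β q).det - 1 ∈ Ideal.span {(C π : MvPolynomial (Fin (c + n)) R)} := by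
  classical
  rw [← Ideal.Quotient.eq, RingHom.map_det, map_one]
  have h2 : Ideal.Quotient.mk (Ideal.span {(C π : MvPolynomial (Fin (c + n)) R)}) (C π) = 0 :=
    Ideal.Quotient.eq_zero_iff_mem.mpr (Ideal.mem_span_singleton_self _)
  have h1 : (Ideal.Quotient.mk (Ideal.span {(C π : MvPolynomial (Fin (c + n)) R)})).mapMatrix
      (Jac f rows π u r β q) = 1 := by
    ext j k
    obtain ⟨t, ht⟩ := pderiv_gg f rows π u r β q j k
    simp only [RingHom.mapMatrix_apply, Matrix.map_apply, Jac, Matrix.of_apply]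
    rw [ht, map_add, map_mul, h2, zero_mul, add_zero]
    by_cases hjk : j = k
    · subst hjk
      obtain ⟨t₀, ht₀⟩ := hu
      simp only [if_true, Matrix.one_apply_eq]
      rw [ht₀, map_add, map_one, map_mul (C : R →+* _), map_add, map_mul, h2, zero_mul, add_zero,
        map_one]
    · simp [hjk]
  rw [h1, Matrix.det_one]

end Groth.Agent.Helper8.DesA
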