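import Mathlib
import Groth.Agent.Lib.Helper8.DesA5

/-!
# Desingularization lemma, VI: smoothness of `B` near `V(π)`, continued
-/

set_option autoImplicit false
universe u

namespace Groth.Agent.Helper8.DesA

open MvPolynomial

variable {R : Type u} [CommRing R] {n m c : ℕ}
variable (f : Fin m → MvPolynomial (Fin n) R) (rows : Fin c → Fin m) (π u : R) (r : Fin n → R)
  (s : Fin n → Fin c → R) (β : Fin m → R) (q : Fin m → MvPolynomial (Fin (c + n)) R)
  (hβ : ∀ j, ev r (f j) = π ^ 4 * β j)
  (hq : ∀ j, sub π r s (f j) = C (ev r (f j)) + ∑ i, C (ev r (pderiv i (f j))) * bb π s i +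
    C (π ^ 4) * q j)
  (hs : ∀ j k : Fin c, ∑ i, ev r (pderiv i (f (rows j))) * s i k = if j = k then u * π else 0)
  (cm : Matrix (Fin m) (Fin m) (MvPolynomial (Fin (c + n)) R))
  (hcm : ∀ j, C π * ((1 - (C π : MvPolynomial (Fin (c + n)) R) • cm).mulVec
        (fun l => sub π r s (f l))) j ∈ Ig f rows π u r β q)

include hcm in
theorem mul_det_mul_sub_mem (i : Fin m) :
    C π * (1 - (C π : MvPolynomial (Fin (c + n)) R) • cm).det * sub π r s (f i) ∈
      Ig f rows π u r β q := by
  set Mat := (1 - (C π : MvPolynomial (Fin (c + n)) R) • cm) with hMat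
  have h1 : Mat.det • (fun l => sub π r s (f l)) =
      Mat.adjugate.mulVec (Mat.mulVec (fun l => sub π r s (f l))) := by
    rw [Matrix.mulVec_mulVec, Matrix.adjugate_mul, Matrix.smul_mulVec, Matrix.one_mulVec]
  have h2 := congrFun h1 i
  rw [Pi.smul_apply, smul_eq_mul] at h2
  rw [mul_assoc, h2]
  change C π * ∑ j, Mat.adjugate i j * (Mat.mulVec (fun l => sub π r s (f l))) j ∈ _
  rw [Finset.mul_sum]
  refine Ideal.sum_mem _ fun j _ => ?_
  have h3 : C π * (Mat.adjugate i j * (Mat.mulVec (fun l => sub π r s (f l))) j) =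
      Mat.adjugate i j * (C π * (Mat.mulVec (fun l => sub π r s (f l))) j) := by ring
  rw [h3]
  exact Ideal.mul_mem_left _ _ (hcm j)

/-- The element `r₀ Δ det(J)` to be inverted. -/
noncomputable def dd (r₀ : R) : MvPolynomial (Fin (c + n)) R :=
  C r₀ * (1 - (C π : MvPolynomial (Fin (c + n)) R) • cm).det * (Jac f rows π u r β q).det

include hβ hq hcm in
theorem formallySmooth_away_dd (r₀ : R) (hr₀ : ∀ x : R, π ^ 2 * x = 0 → π * (r₀ * x) = 0) :
    Algebra.FormallySmooth R (Localization.Away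
      (Ideal.Quotient.mk (Ideal.span (Set.range (rels f rows π u r s β q)))
        (dd f rows π u r β q cm r₀))) := by
  classical
  let T := MvPolynomial (Fin (c + n)) R
  let g := gg f rows π u r β q
  let Δ : T := (1 - (C π : MvPolynomial (Fin (c + n)) R) • cm).det
  let dJ : T := (Jac f rows π u r β q).det
  let d : T := dd f rows π u r β q cm r₀
  let B' := T ⧸ Ideal.span (Set.range g)
  let F := Localization.Away (Ideal.Quotient.mk (Ideal.span (Set.range g)) d)
  let τ' : T →ₐ[R] F := (IsScalarTower.toAlgHom R B' F).comp (Ideal.Quotient.mkₐ R _)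
  have hτ'C : ∀ a : R, τ' (C a) = algebraMap R F a := fun a => τ'.commutes a
  have hτ'0 : ∀ p ∈ Ig f rows π u r β q, τ' p = 0 := by
    intro p hp
    have hp' : p ∈ Ideal.span (Set.range g) := hp
    change algebraMap B' F (Ideal.Quotient.mk _ p) = 0
    rw [Ideal.Quotient.eq_zero_iff_mem.mpr hp', map_zero]
  have hdu : IsUnit (τ' d) :=
    IsLocalization.Away.algebraMap_isUnit (Ideal.Quotient.mk (Ideal.span (Set.range g)) d)
  have hd : τ' d = τ' (C r₀) * τ' Δ * τ' dJ := by
    change τ' (C r₀ * Δ * dJ) = _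
    rw [map_mul, map_mul]
  rw [hd] at hdu
  have hdJu : IsUnit (τ' dJ) := isUnit_of_mul_isUnit_right hdu
  have hrΔu : IsUnit (τ' (C r₀) * τ' Δ) := isUnit_of_mul_isUnit_left hdu
  have hΔu : IsUnit (τ' Δ) := isUnit_of_mul_isUnit_right hrΔu
  have hr₀u : IsUnit (τ' (C r₀)) := isUnit_of_mul_isUnit_left hrΔu
  -- `F` is standard smooth, hence flat
  haveI hstd : Algebra.IsStandardSmooth R F :=
    Groth.Agent.S2032.isStandardSmooth_of_naive g (Fin.castAdd n) (Fin.castAdd_injective c n) F
      (Ideal.Quotient.mk (Ideal.span (Set.range g)) d) hdJu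
  haveI : Module.Flat R F := inferInstance
  -- the relations `f_j(ξ)` vanish in `F`
  have hsub0 : ∀ j, τ' (sub π r s (f j)) = 0 := by
    intro j
    let η : F := τ' (Δ * bq f π r s β q j)
    have h1 : (π ^ 3) • η = 0 := by
      have h2 := hτ'0 _ (mul_det_mul_sub_mem f rows π u r s β q cm hcm j)
      rw [sub_eq_bq f π r s β q hβ hq] at h2
      rw [Algebra.smul_def, ← hτ'C, ← map_mul, ← h2]
      congr 1
      rw [map_pow, map_pow]
      ring
    have h3 : (r₀ ^ 2 * π) • η = 0 := by
      refine smul_eq_zero_of_flat (π ^ 3) (r₀ ^ 2 * π) (fun x hx => ?_) η h1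
      have e1 : π ^ 2 * (π * x) = 0 := by rw [← hx]; ring
      have e2 := hr₀ _ e1
      have e3 : π ^ 2 * (r₀ * x) = 0 := by rw [← e2]; ring
      have e4 := hr₀ _ e3
      rw [← e4]
      ring
    have h4 : τ' (C r₀) ^ 2 * τ' Δ * τ' (sub π r s (f j)) = 0 := by
      rw [sub_eq_bq f π r s β q hβ hq]
      have h5 : τ' (C r₀) ^ 2 * τ' Δ * τ' (C (π ^ 2) * bq f π r s β q j) =
          algebraMap R F π * ((r₀ ^ 2 * π) • η) := by
        have e1 : (r₀ ^ 2 * π) • η = τ' (C r₀) ^ 2 * τ' (C π) * (τ' Δ * τ' (bq f π r s β q j)) := by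
          rw [Algebra.smul_def, map_mul, map_pow, ← hτ'C, ← hτ'C]
          change _ * τ' (Δ * bq f π r s β q j) = _
          rw [map_mul]
        rw [e1, ← hτ'C, map_mul, map_pow, map_pow]
        ring
      rw [h5, h3, mul_zero]
    exact (((hr₀u.pow 2).mul hΔu).mul_right_eq_zero).mp h4
  -- the retraction
  let Bd := Localization.Away
    (Ideal.Quotient.mk (Ideal.span (Set.range (rels f rows π u r s β q))) d)
  have hrelF : ∀ j, aeval (fun o => τ' (X o)) (rels f rows π u r s β q j) = 0 := by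
    have hτ'eq : ∀ p, aeval (fun o => τ' (X o)) p = τ' p := by
      intro p
      have := aeval_unique τ'
      exact (congrArg (fun φ : T →ₐ[R] F => φ p) this).symm
    rintro (j | j)
    · rw [hτ'eq]
      exact hτ'0 _ (Ideal.subset_span ⟨j, rfl⟩)
    · rw [hτ'eq]
      exact hsub0 j
  have hτ'eq : ∀ p, aeval (fun o => τ' (X o)) p = τ' p := by
    intro p
    have := aeval_unique τ'
    exact (congrArg (fun φ : T →ₐ[R] F => φ p) this).symm
  have huF : IsUnit (aeval (fun o => τ' (X o)) d) := by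
    rw [hτ'eq]
    exact IsLocalization.Away.algebraMap_isUnit (Ideal.Quotient.mk (Ideal.span (Set.range g)) d)
  obtain ⟨Φ, hΦ⟩ := Groth.Agent.Helper8.LocTr.exists_algHom_away (A := R)
    (rels f rows π u r s β q) d (fun o => τ' (X o)) hrelF huF
  let τd : T →ₐ[R] Bd := (IsScalarTower.toAlgHom R (Bq f rows π u r s β q) Bd).comp
    (Ideal.Quotient.mkₐ R _)
  have hτdeq : ∀ p, aeval (fun o => τd (X o)) p = τd p := by
    intro p
    have := aeval_unique τd
    exact (congrArg (fun φ : T →ₐ[R] Bd => φ p) this).symm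
  have hrelB : ∀ j, aeval (fun o => τd (X o)) (g j) = 0 := by
    intro j
    rw [hτdeq]
    change algebraMap (Bq f rows π u r s β q) Bd (Ideal.Quotient.mk _ (g j)) = 0
    rw [Ideal.Quotient.eq_zero_iff_mem.mpr (gg_mem f rows π u r s β q j), map_zero]
  have huB : IsUnit (aeval (fun o => τd (X o)) d) := by
    rw [hτdeq]
    exact IsLocalization.Away.algebraMap_isUnit
      (Ideal.Quotient.mk (Ideal.span (Set.range (rels f rows π u r s β q))) d)
  obtain ⟨Ψ, hΨ⟩ := Groth.Agent.Helper8.LocTr.exists_algHom_away (A := R) g d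
    (fun o => τd (X o)) hrelB huB
  have hR : Ψ.comp Φ = AlgHom.id R Bd := by
    refine Groth.Agent.Helper8.LocTr.algHom_ext_away (rels f rows π u r s β q) d fun o => ?_
    change Ψ (Φ (algebraMap (Bq f rows π u r s β q) Bd (Ideal.Quotient.mk _ (X o)))) =
      algebraMap (Bq f rows π u r s β q) Bd (Ideal.Quotient.mk _ (X o))
    rw [hΦ, aeval_X]
    change Ψ (algebraMap B' F (Ideal.Quotient.mk _ (X o))) = _
    rw [hΨ, aeval_X]
    rfl
  haveI : Algebra.FormallySmooth R F := inferInstance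
  exact Groth.Agent.Helper8.LocTr.formallySmooth_of_retract Φ Ψ hR

end Groth.Agent.Helper8.DesA
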