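import Mathlib
import Groth.Agent.Lib.Helper1.Minors

/-!
# Strictly standard elements: the localization is smooth with stably free differentials
-/

set_option autoImplicit false
universe u

namespace Groth.Agent.Helper8.StrStd

open TensorProduct Algebra KaehlerDifferential MvPolynomial

/-- From a relation in the polynomial ring to the conormal module. -/
theorem smul_mk_mem_span {R S : Type*} [CommRing R] [CommRing S] [Algebra R S]
    (P : Algebra.Extension R S) {m c : ℕ} (f : Fin m → P.Ring) (hf : ∀ j, f j ∈ P.ker)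
    (rows : Fin c → Fin m) (u : P.Ring) (ℓ : Fin m)
    (h : u * f ℓ ∈ Ideal.span (Set.range (f ∘ rows)) ⊔ P.ker ^ 2) :
    algebraMap P.Ring S u • Extension.Cotangent.mk (P := P) ⟨f ℓ, hf ℓ⟩ ∈
      Submodule.span S (Set.range fun j : Fin c =>
        Extension.Cotangent.mk (P := P) ⟨f (rows j), hf (rows j)⟩) := by
  rw [Submodule.mem_sup] at h
  obtain ⟨y, hy, z, hz, hyz⟩ := h
  rw [Ideal.span, Submodule.mem_span_range_iff_exists_fun] at hy
  obtain ⟨g, hg⟩ := hy
  have hyker : y ∈ P.ker := by
    rw [← hg]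
    exact Ideal.sum_mem _ fun j _ => Ideal.mul_mem_left _ _ (hf (rows j))
  have hzker : z ∈ P.ker := Ideal.pow_le_self two_ne_zero hz
  have h1 : u • (⟨f ℓ, hf ℓ⟩ : P.ker) = ⟨y, hyker⟩ + ⟨z, hzker⟩ := by
    apply Subtype.ext
    simp [hyz]
  rw [algebraMap_smul, ← map_smul, h1, map_add]
  have h2 : Extension.Cotangent.mk (P := P) ⟨z, hzker⟩ = 0 := by
    rw [Extension.Cotangent.mk_eq_zero_iff]
    exact hz
  rw [h2, add_zero]
  have h3 : (⟨y, hyker⟩ : P.ker) = ∑ j, g j • (⟨f (rows j), hf (rows j)⟩ : P.ker) := by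
    apply Subtype.ext
    rw [Submodule.coe_sum]
    simp only [Submodule.coe_smul, smul_eq_mul]
    rw [← hg]
    rfl
  rw [h3, map_sum]
  refine Submodule.sum_mem _ fun j _ => ?_
  rw [map_smul, ← algebraMap_smul S (g j)]
  exact Submodule.smul_mem _ _ (Submodule.subset_span ⟨j, rfl⟩)

/-- If a unit is a linear combination of the maximal minors of a `c × n` matrix `J`, then `J` has
a one-sided inverse: there is `B` with `B * Jᵀ = 1`. -/
theorem exists_mul_transpose_eq_one {S : Type u} [CommRing S] {c n : ℕ}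
    (J : Matrix (Fin c) (Fin n) S) (a : S) (ha : IsUnit a)
    (h : a ∈ Ideal.span (Set.range fun cols : Fin c → Fin n => (J.submatrix id cols).det)) :
    ∃ B : Matrix (Fin c) (Fin n) S, B * J.transpose = 1 := by
  rw [Ideal.span, Submodule.mem_span_range_iff_exists_fun] at h
  obtain ⟨coef, hcoef⟩ := h
  have hB : ∀ cols : Fin c → Fin n, ∃ B : Matrix (Fin c) (Fin n) S,
      B * J.transpose = (J.submatrix id cols).det • (1 : Matrix (Fin c) (Fin c) S) := by
    intro cols
    obtain ⟨B, hB⟩ := Groth.Agent.Helper1.Minors.exists_left_inv_of_minor J.transpose cols id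
    refine ⟨B, ?_⟩
    rw [hB, ← Matrix.transpose_submatrix, Matrix.det_transpose]
  choose B hB using hB
  obtain ⟨a', ha'⟩ := ha.exists_left_inv
  refine ⟨a' • ∑ cols, coef cols • B cols, ?_⟩
  rw [Matrix.smul_mul, Matrix.sum_mul]
  simp only [Matrix.smul_mul, hB, smul_smul]
  rw [← Finset.sum_smul]
  simp only [smul_eq_mul] at hcoef
  rw [hcoef, smul_smul, ha', one_smul]

end Groth.Agent.Helper8.StrStd
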