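import Mathlib
import Groth.Agent.Lib.Helper8.StrStd1

/-!
# Strictly standard elements: the localization is smooth with stably free differentials (main)
-/

set_option autoImplicit false
universe u

namespace Groth.Agent.Helper8.StrStd

open TensorProduct Algebra KaehlerDifferential MvPolynomial

theorem smooth_away {R A : Type u} [CommRing R] [CommRing A] [Algebra R A] {n m c : ℕ}
    (G : Generators R A (Fin n)) (f : Fin m → MvPolynomial (Fin n) R)
    (hker : Ideal.span (Set.range f) = G.ker) (rows : Fin c → Fin m) (a : A)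
    (S : Type u) [CommRing S] [Algebra A S] [Algebra R S] [IsScalarTower R A S]
    [IsLocalization.Away a S]
    (h1 : a ∈ Ideal.span (Set.range fun cols : Fin c → Fin n =>
        aeval G.val (Matrix.det (Matrix.of fun j k : Fin c => pderiv (cols k) (f (rows j))))))
    (h2 : ∀ ℓ, ∃ a' : MvPolynomial (Fin n) R, aeval G.val a' = a ∧
        a' * f ℓ ∈ Ideal.span (Set.range (f ∘ rows)) ⊔ Ideal.span (Set.range f) ^ 2) :
    Algebra.FormallySmooth R S ∧ Nonempty ((Ω[S⁄R] × (Fin c → S)) ≃ₗ[S] (Fin n → S)) := by
  have hf : ∀ j, f j ∈ G.toExtension.ker := fun j => hker.le (Ideal.subset_span ⟨j, rfl⟩)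
  have hxspan := Extension.Cotangent.span_eq_top_of_span_eq_ker (P := G.toExtension) f hker
  set x : Fin m → G.toExtension.Cotangent := fun j => Extension.Cotangent.mk ⟨f j, hf j⟩ with hx
  let v : Fin m → S ⊗[A] G.toExtension.Cotangent := fun j => 1 ⊗ₜ x j
  have hvspan : Submodule.span S (Set.range v) = ⊤ := by
    have h1 := Submodule.baseChange_span (R := A) S (Set.range x)
    rw [hxspan, Submodule.baseChange_top, ← Set.range_comp] at h1
    exact h1.symm
  have haS : IsUnit (algebraMap A S a) := IsLocalization.Away.algebraMap_isUnit a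
  -- the map from the free module
  let α : (Fin c → S) →ₗ[S] S ⊗[A] G.toExtension.Cotangent :=
    Fintype.linearCombination S (fun j => v (rows j))
  have hα : ∀ j, α (Pi.single j 1) = v (rows j) := by
    intro j
    simp [α, Fintype.linearCombination_apply_single]
  have hαrange : LinearMap.range α = Submodule.span S (Set.range fun j => v (rows j)) :=
    Fintype.range_linearCombination S _
  have hαsurj : Function.Surjective α := by
    rw [← LinearMap.range_eq_top, _root_.eq_top_iff, ← hvspan, Submodule.span_le, hαrange]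
    rintro _ ⟨ℓ, rfl⟩
    obtain ⟨a', ha', hmem⟩ := h2 ℓ
    rw [hker] at hmem
    have h3 := smul_mk_mem_span G.toExtension f hf rows a' ℓ hmem
    have h4 : algebraMap G.toExtension.Ring A a' = a := by
      rw [← ha']; exact Generators.algebraMap_apply G a'
    rw [h4] at h3
    -- pass to the tensor product
    have h5 : (1 : S) ⊗ₜ[A] (a • x ℓ) ∈
        Submodule.span S (Set.range fun j => v (rows j)) := by
      have h6 : ∀ y ∈ Submodule.span A (Set.range fun j : Fin c => x (rows j)),
          (1 : S) ⊗ₜ[A] y ∈ Submodule.span S (Set.range fun j => v (rows j)) := by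
        intro y hy
        induction hy using Submodule.span_induction with
        | mem y hy =>
          obtain ⟨j, rfl⟩ := hy
          exact Submodule.subset_span ⟨j, rfl⟩
        | zero => rw [tmul_zero]; exact Submodule.zero_mem _
        | add y z _ _ hy hz => rw [tmul_add]; exact Submodule.add_mem _ hy hz
        | smul r y _ hy =>
          have : (1 : S) ⊗ₜ[A] (r • y) = (r • (1 : S)) • ((1 : S) ⊗ₜ[A] y) := by
            rw [smul_tmul', smul_eq_mul, mul_one, smul_tmul]
          rw [this]
          exact Submodule.smul_mem _ _ hy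
      exact h6 _ h3
    obtain ⟨b, hb⟩ := haS.exists_left_inv
    have h7 : v ℓ = b • ((1 : S) ⊗ₜ[A] (a • x ℓ)) := by
      rw [← smul_tmul, smul_tmul', smul_eq_mul, Algebra.smul_def, mul_one, hb]
    rw [SetLike.mem_coe, h7]
    exact Submodule.smul_mem _ _ h5
  -- the Jacobian matrix
  let dS := G.toExtension.cotangentComplex.baseChange S
  let b : Module.Basis (Fin n) S (S ⊗[A] G.toExtension.CotangentSpace) :=
    G.cotangentSpaceBasis.baseChange S
  let J : Matrix (Fin c) (Fin n) S := fun j k => b.repr (dS (v (rows j))) k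
  have hJentry : ∀ j k, J j k = algebraMap A S (aeval G.val (pderiv k (f (rows j)))) := by
    intro j k
    simp only [J, v, x, b, dS, LinearMap.baseChange_tmul, Extension.cotangentComplex_mk,
      Module.Basis.baseChange_repr_tmul]
    rw [Algebra.algebraMap_eq_smul_one]
    congr 1
    exact G.cotangentSpaceBasis_repr_one_tmul (f (rows j)) k
  have hJminor : ∀ cols : Fin c → Fin n, (J.submatrix id cols).det =
      algebraMap A S (aeval G.val
        (Matrix.det (Matrix.of fun j k : Fin c => pderiv (cols k) (f (rows j))))) := by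
    intro cols
    have h1 : J.submatrix _root_.id cols = ((algebraMap A S).comp
        (aeval G.val : MvPolynomial (Fin n) R →ₐ[R] A).toRingHom).mapMatrix
        (Matrix.of fun j k : Fin c => pderiv (cols k) (f (rows j))) := by
      refine Matrix.ext fun j k => ?_
      simp [hJentry]
    rw [h1, ← RingHom.map_det]
    simp only [RingHom.comp_apply, AlgHom.toRingHom_eq_coe, RingHom.coe_coe]
  have hamem : algebraMap A S a ∈
      Ideal.span (Set.range fun cols : Fin c → Fin n => (J.submatrix id cols).det) := by
    have h3 := Ideal.mem_map_of_mem (algebraMap A S) h1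
    rw [Ideal.map_span, ← Set.range_comp] at h3
    convert h3 using 3
    funext cols
    exact hJminor cols
  obtain ⟨B, hB⟩ := exists_mul_transpose_eq_one J _ haS hamem
  let ρ : S ⊗[A] G.toExtension.CotangentSpace →ₗ[S] (Fin c → S) :=
    B.mulVecLin ∘ₗ b.equivFun.toLinearMap
  have hρ : ρ ∘ₗ dS ∘ₗ α = LinearMap.id := by
    refine (Pi.basisFun S (Fin c)).ext fun j => ?_
    simp only [Pi.basisFun_apply, LinearMap.comp_apply, hα, LinearMap.id_apply, ρ,
      LinearEquiv.coe_coe, Matrix.mulVecLin_apply]
    have h3 : b.equivFun (dS (v (rows j))) = J j := by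
      funext k
      simp [J, Module.Basis.equivFun_apply]
    rw [h3]
    funext k
    have h4 := congrFun (congrFun hB k) j
    rw [Matrix.mul_apply] at h4
    simp only [Matrix.transpose_apply] at h4
    rw [Matrix.mulVec, dotProduct, h4, Matrix.one_apply, Pi.single_apply]
  have hαinj : Function.Injective α := by
    intro y z hyz
    have h3 : ∀ w, ρ (dS (α w)) = w := fun w => congr($hρ w)
    rw [← h3 y, ← h3 z, hyz]
  let αe : (Fin c → S) ≃ₗ[S] S ⊗[A] G.toExtension.Cotangent :=
    LinearEquiv.ofBijective α ⟨hαinj, hαsurj⟩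
  have hleft : (α ∘ₗ ρ) ∘ₗ dS = LinearMap.id := by
    refine LinearMap.ext fun y => ?_
    obtain ⟨w, rfl⟩ := hαsurj y
    simp only [LinearMap.comp_apply, LinearMap.id_apply]
    rw [show ρ (dS (α w)) = w from congr($hρ w)]
  have hdinj : Function.Injective dS := by
    intro y z hyz
    have h3 : ∀ w, (α ∘ₗ ρ) (dS w) = w := fun w => congr($hleft w)
    rw [← h3 y, ← h3 z, hyz]
  -- the exact sequence
  have hexact : Function.Exact dS (G.toExtension.toKaehler.baseChange S) :=
    lTensor_exact S G.toExtension.exact_cotangentComplex_toKaehler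
      G.toExtension.toKaehler_surjective
  have hsurj : Function.Surjective (G.toExtension.toKaehler.baseChange S) :=
    LinearMap.lTensor_surjective S G.toExtension.toKaehler_surjective
  obtain ⟨esplit, -⟩ := hexact.splitInjectiveEquiv hsurj ⟨α ∘ₗ ρ, hleft⟩
  haveI : Algebra.FormallyEtale A S := Algebra.FormallyEtale.of_isLocalization (Submonoid.powers a)
  let eΩ : S ⊗[A] Ω[A⁄R] ≃ₗ[S] Ω[S⁄R] := tensorKaehlerEquivOfFormallyEtale R A S
  let etot : (Ω[S⁄R] × (Fin c → S)) ≃ₗ[S] (Fin n → S) :=
    ((b.equivFun.symm.trans esplit).trans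
      ((αe.symm.prodCongr eΩ).trans (LinearEquiv.prodComm S _ _))).symm
  refine ⟨⟨?_, ?_⟩, ⟨etot⟩⟩
  · -- projectivity
    refine Module.Projective.of_split (etot.toLinearMap ∘ₗ LinearMap.inl S _ _)
      (LinearMap.fst S _ _ ∘ₗ etot.symm.toLinearMap) ?_
    refine LinearMap.ext fun y => ?_
    simp
  · -- vanishing of H1
    haveI : Module.Flat A S := IsLocalization.flat S (Submonoid.powers a)
    have hex : Function.Exact (G.toExtension.h1Cotangentι.baseChange S) dS :=
      Module.Flat.lTensor_exact S (LinearMap.exact_subtype_ker_map _)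
    have hιinj : Function.Injective (G.toExtension.h1Cotangentι.baseChange S) :=
      Module.Flat.lTensor_preserves_injective_linearMap _
        G.toExtension.h1Cotangentι_injective
    haveI : Subsingleton (S ⊗[A] G.toExtension.H1Cotangent) := by
      refine ⟨fun y z => hιinj (hdinj ?_)⟩
      rw [hex.apply_apply_eq_zero, hex.apply_apply_eq_zero]
    have e1 : S ⊗[A] G.toExtension.H1Cotangent ≃ₗ[A] S ⊗[A] H1Cotangent R A :=
      TensorProduct.congr (LinearEquiv.refl A S) G.equivH1Cotangent
    have e2 := Algebra.tensorH1CotangentOfIsLocalization R (S := A) S (Submonoid.powers a)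
    exact (e1.toEquiv.trans e2.toEquiv).symm.subsingleton

end Groth.Agent.Helper8.StrStd
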