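import Mathlib
import Groth.Agent.Lib.Helper8.DesA4
import Groth.Agent.Lib.Helper8.DesA6
import Groth.Agent.S2030

/-!
# Desingularization lemma, VII: assembly
-/

set_option autoImplicit false
universe u

namespace Groth.Agent.Helper8.DesA

open MvPolynomial

theorem desingularize_main {R Λ A : Type u} [CommRing R] [CommRing Λ]
    [Algebra R Λ] (π : R) (hΛ : ∀ x : Λ, π ^ 2 • x = 0 → π • x = 0) [CommRing A] [Algebra R A]
    (φ : A →ₐ[R] Λ)
    (hπ : Smoothing.IsStrictlyStandard R A (algebraMap R A π))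
    (ρ : A →ₐ[R] R ⧸ Ideal.span {π ^ 4})
    (hρ : ∀ (a : A) (r : R), Ideal.Quotient.mk (Ideal.span {π ^ 4}) r = ρ a →
      algebraMap R Λ r - φ a ∈ Ideal.span {algebraMap R Λ (π ^ 4)}) :
    ∃ (B : Type u) (_ : CommRing B) (_ : Algebra R B), Algebra.FinitePresentation R B ∧
      ∃ (α : A →ₐ[R] B) (β : B →ₐ[R] Λ), β.comp α = φ ∧
        ∀ r : R, (∀ x : R, π ^ 2 * x = 0 → π * (r * x) = 0) →
          algebraMap R B r ∈ Smoothing.singularIdeal R B := by
  classical
  haveI hsm : Algebra.FormallySmooth R (Localization.Away (algebraMap R A π)) :=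
    (Groth.Agent.S2030.result (algebraMap R A π) hπ).1.formallySmooth
  obtain ⟨P, hmem, htail⟩ := hπ
  obtain ⟨n, m, c, hcn, hcm, f, hom, hsurj, hker⟩ := P
  simp only at hmem htail
  let rows : Fin c → Fin m := Fin.castLE hcm
  -- the point `r`
  have hrex : ∀ i, ∃ ri : R, Ideal.Quotient.mk (Ideal.span {π ^ 4}) ri = ρ (hom (X i)) := fun i =>
    Ideal.Quotient.mk_surjective _
  choose r hr using hrex
  have hev : ∀ p, ρ (hom p) = Ideal.Quotient.mk (Ideal.span {π ^ 4}) (ev r p) := by
    intro p
    have h1 : ρ.comp hom = (Ideal.Quotient.mkₐ R (Ideal.span {π ^ 4})).comp (ev r) := by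
      refine MvPolynomial.algHom_ext fun i => ?_
      change ρ (hom (X i)) = Ideal.Quotient.mk _ (ev r (X i))
      unfold ev
      rw [aeval_X, hr]
    exact congrArg (fun ψ : MvPolynomial (Fin n) R →ₐ[R] _ => ψ p) h1
  have hf0 : ∀ j, hom (f j) = 0 := by
    intro j
    have : f j ∈ RingHom.ker hom.toRingHom := by
      rw [hker]
      exact Ideal.subset_span ⟨j, rfl⟩
    exact this
  have hβex : ∀ j, ∃ b : R, ev r (f j) = π ^ 4 * b := by
    intro j
    have h1 := hev (f j)
    rw [hf0, map_zero] at h1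
    obtain ⟨b, hb⟩ := Ideal.mem_span_singleton'.mp (Ideal.Quotient.eq_zero_iff_mem.mp h1.symm)
    exact ⟨b, by rw [← hb, mul_comm]⟩
  choose β hβ using hβex
  -- the minors
  obtain ⟨coefA, hcoefA⟩ := Ideal.mem_span_range_iff_exists_fun.mp hmem
  have hcoefRex : ∀ cols, ∃ a : R, Ideal.Quotient.mk (Ideal.span {π ^ 4}) a = ρ (coefA cols) :=
    fun cols => Ideal.Quotient.mk_surjective _
  choose coefR hcoefR using hcoefRex
  let M : Matrix (Fin c) (Fin n) R := Matrix.of fun j i => ev r (pderiv i (f (rows j)))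
  have hminor : ∀ cols, ev r (Smoothing.jacobianMinor f rows cols) = (M.submatrix id cols).det := by
    intro cols
    unfold Smoothing.jacobianMinor
    rw [AlgHom.map_det]
    rfl
  obtain ⟨t', ht'⟩ : ∃ t' : R, t' * π ^ 4 = π - ∑ cols, coefR cols * (M.submatrix id cols).det := by
    apply Ideal.mem_span_singleton'.mp
    rw [← Ideal.Quotient.eq, map_sum]
    have h1 := congrArg ρ hcoefA
    rw [map_sum, AlgHom.commutes] at h1
    rw [Ideal.Quotient.algebraMap_eq] at h1
    rw [← h1]
    refine Finset.sum_congr rfl fun cols _ => ?_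
    rw [map_mul, map_mul, hev, hcoefR, hminor]
  let u : R := 1 - π ^ 3 * t'
  have hsumu : ∑ cols, coefR cols * (M.submatrix id cols).det = u * π := by
    have : ∑ cols, coefR cols * (M.submatrix id cols).det = π - t' * π ^ 4 := by
      rw [ht']
      ring
    rw [this]
    ring
  obtain ⟨N, hN⟩ := exists_mul_eq_smul_one M coefR
  rw [hsumu] at hN
  let s : Fin n → Fin c → R := fun i k => N i k
  have hs : ∀ j k : Fin c, ∑ i, ev r (pderiv i (f (rows j))) * s i k =
      if j = k then u * π else 0 := by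
    intro j k
    have h1 := congrFun (congrFun hN j) k
    rw [Matrix.mul_apply, Matrix.smul_apply, Matrix.one_apply, smul_eq_mul, mul_ite, mul_one,
      mul_zero] at h1
    exact h1
  have hu : ∃ t, u = 1 + π * t := ⟨-(π ^ 2 * t'), by ring⟩
  -- the remainders
  have hqex := fun j => exists_rem (c := c) π r s (f j)
  choose q hq using hqex
  -- the values in `Λ`
  have hlex : ∀ i, ∃ l : Λ, φ (hom (X i)) = algebraMap R Λ (r i) + π ^ 4 • l := by
    intro i
    obtain ⟨a, ha⟩ := Ideal.mem_span_singleton'.mp (hρ (hom (X i)) (r i) (hr i))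
    refine ⟨-a, ?_⟩
    rw [Algebra.smul_def, mul_neg, mul_comm, ha]
    ring
  choose l hl using hlex
  let φ' : MvPolynomial (Fin n) R →ₐ[R] Λ := φ.comp hom
  have hφ' : ∀ i, φ' (X i) = algebraMap R Λ (r i) + π ^ 4 • l i := hl
  have hφ'f : ∀ j, φ' (f j) = 0 := by
    intro j
    change φ (hom (f j)) = 0
    rw [hf0, map_zero]
  -- the tail condition
  have htailAll : ∀ j, C π * f j ∈
      Ideal.span (Set.range (f ∘ rows)) ⊔ Ideal.span (Set.range f) ^ 2 := by
    intro j
    by_cases hj : c ≤ (j : ℕ)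
    · have h1 := htail (C π) (by
        change hom (algebraMap R _ π) = _
        rw [AlgHom.commutes]) j hj
      have hle : Ideal.span (f '' {j' : Fin m | (j' : ℕ) < c}) ≤
          Ideal.span (Set.range (f ∘ rows)) := by
        refine Ideal.span_mono ?_
        rintro _ ⟨j', hj', rfl⟩
        exact ⟨⟨j', hj'⟩, rfl⟩
      exact (sup_le_sup hle le_rfl) h1
    · push Not at hj
      refine Ideal.mem_sup_left (Ideal.mul_mem_left _ _ (Ideal.subset_span ⟨⟨j, hj⟩, ?_⟩))
      rfl
  obtain ⟨cm, hcmrel⟩ := exists_matrix_rel f rows π u r s β q hβ hq hs htailAll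
  -- the algebra
  let α := alphaHom f rows π u r s β q hom hsurj hker
  obtain ⟨βh, hβh⟩ := exists_betaHom f rows π u r s β q l φ' hφ' hΛ hφ'f hβ hq hs
  refine ⟨Bq f rows π u r s β q, inferInstance, inferInstance, inferInstance, α, βh, ?_, ?_⟩
  · refine AlgHom.ext fun a => ?_
    obtain ⟨p, rfl⟩ := hsurj a
    change βh (α (hom p)) = φ (hom p)
    rw [alphaHom_apply, hβh, aeval_betaVals_sub π r s l φ' hφ']
    rfl
  · intro r₀ hr₀
    rw [Smoothing.singularIdeal, PrimeSpectrum.mem_vanishingIdeal]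
    intro Q hQ
    by_contra hr₀Q
    apply hQ
    let mkB := Ideal.Quotient.mk (Ideal.span (Set.range (rels f rows π u r s β q)))
    by_cases hπQ : mkB (C π) ∈ Q.asIdeal
    · have hsub := Algebra.basicOpen_subset_smoothLocus_iff.mpr
        (formallySmooth_away_dd f rows π u r s β q hβ hq cm hcmrel r₀ hr₀)
      apply hsub
      change mkB (dd f rows π u r β q cm r₀) ∉ Q.asIdeal
      have hone : ∀ x : MvPolynomial (Fin (c + n)) R,
          x - 1 ∈ Ideal.span {(C π : MvPolynomial (Fin (c + n)) R)} → mkB x ∉ Q.asIdeal := by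
        intro x hx hxQ
        obtain ⟨y, hy⟩ := Ideal.mem_span_singleton'.mp hx
        have h1 : mkB x - 1 = mkB y * mkB (C π) := by
          rw [← map_mul, hy, map_sub, map_one]
        have h2 : mkB x - 1 ∈ Q.asIdeal := by
          rw [h1]
          exact Ideal.mul_mem_left _ _ hπQ
        have h3 : (1 : Bq f rows π u r s β q) ∈ Q.asIdeal := by
          have := Q.asIdeal.sub_mem hxQ h2
          rwa [sub_sub_cancel] at this
        exact Q.isPrime.ne_top ((Ideal.eq_top_iff_one _).mpr h3)
      intro hmem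
      unfold dd at hmem
      rw [map_mul, map_mul] at hmem
      rcases Q.isPrime.mem_or_mem hmem with h1 | h1
      · rcases Q.isPrime.mem_or_mem h1 with h2 | h2
        · exact hr₀Q h2
        · exact hone _ (det_sub_one_mem π cm) h2
      · exact hone _ (detJac_sub_one_mem f rows π u r β q hu) h1
    · have hsub := Algebra.basicOpen_subset_smoothLocus_iff.mpr
        (formallySmooth_away_pi f rows π u r s β q hom hsurj hker hβ hq hs)
      exact hsub hπQ

end Groth.Agent.Helper8.DesA
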