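import Mathlib
import Groth.Agent.Lib.Helper8.DesA7
import Groth.Agent.S6829

/-!
# The desingularization lemma (Stacks 16.7.1)
-/

set_option autoImplicit false
universe u

namespace Groth.Agent.Helper8.DesB

open MvPolynomial TensorProduct Groth.Agent.Helper8.DesA

/-- Near a smooth point of `D` over `R` the annihilators of `π²` and `π` in `D` agree. -/
theorem exists_notMem_ann {R D : Type u} [CommRing R] [CommRing D] [Algebra R D]
    [Algebra.FinitePresentation R D] [IsNoetherianRing D] (π : R)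
    (hR : ∀ r : R, π ^ 2 * r = 0 → π * r = 0) (𝔮 : Ideal D) [𝔮.IsPrime]
    [Algebra.IsSmoothAt R 𝔮] :
    ∃ r ∉ 𝔮, ∀ x : D, (algebraMap R D π) ^ 2 * x = 0 → algebraMap R D π * (r * x) = 0 := by
  classical
  obtain ⟨g, hg, hsm⟩ := Algebra.IsSmoothAt.exists_notMem_smooth R 𝔮
  haveI := hsm
  haveI : Module.Flat R (Localization.Away g) := inferInstance
  let π' : D := algebraMap R D π
  let K₂ : Ideal D := LinearMap.ker (LinearMap.mulLeft D (π' ^ 2))
  have hK₂ : ∀ x, x ∈ K₂ ↔ π' ^ 2 * x = 0 := fun x => by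
    simp [K₂, LinearMap.mem_ker]
  obtain ⟨S, hS⟩ : K₂.FG := IsNoetherian.noetherian K₂
  have hkey : ∀ x ∈ K₂, ∃ k : ℕ, g ^ k * (π' * x) = 0 := by
    intro x hx
    rw [hK₂] at hx
    have h1 : (π ^ 2) • (algebraMap D (Localization.Away g) x) = 0 := by
      rw [Algebra.smul_def, IsScalarTower.algebraMap_apply R D (Localization.Away g), ← map_mul,
        map_pow, hx, map_zero]
    have h2 := smul_eq_zero_of_flat (π ^ 2) π hR _ h1
    rw [Algebra.smul_def, IsScalarTower.algebraMap_apply R D (Localization.Away g), ← map_mul,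
      IsLocalization.map_eq_zero_iff (Submonoid.powers g)] at h2
    obtain ⟨⟨_, k, rfl⟩, hk⟩ := h2
    exact ⟨k, hk⟩
  let kf : D → ℕ := fun x => if h : ∃ k : ℕ, g ^ k * (π' * x) = 0 then Classical.choose h else 0
  have hkf : ∀ x ∈ K₂, g ^ (kf x) * (π' * x) = 0 := by
    intro x hx
    have h := hkey x hx
    simp only [kf, dif_pos h]
    exact Classical.choose_spec h
  let K : ℕ := S.sup kf
  refine ⟨g ^ K, fun h => hg (Ideal.IsPrime.mem_of_pow_mem inferInstance K h), fun x hx => ?_⟩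
  have hx' : x ∈ K₂ := (hK₂ x).mpr hx
  rw [← hS] at hx'
  have hall : ∀ y ∈ Ideal.span (S : Set D), π' * (g ^ K * y) = 0 := by
    intro y hy
    refine Submodule.span_induction ?_ ?_ ?_ ?_ hy
    · intro z hz
      have hzK : z ∈ K₂ := by
        rw [← hS]
        exact Ideal.subset_span hz
      have h1 := hkf z hzK
      have h2 : kf z ≤ K := Finset.le_sup hz
      have h3 : π' * (g ^ K * z) = g ^ (K - kf z) * (g ^ (kf z) * (π' * z)) := by
        rw [← mul_assoc (g ^ (K - kf z)), ← pow_add, Nat.sub_add_cancel h2]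
        ring
      rw [h3, h1, mul_zero]
    · simp
    · intro a b _ _ ha hb
      rw [mul_add, mul_add, ha, hb, add_zero]
    · intro a b _ hb
      rw [smul_eq_mul]
      have : π' * (g ^ K * (a * b)) = a * (π' * (g ^ K * b)) := by ring
      rw [this, hb, mul_zero]
  exact hall x hx'

/-- Smoothness at a prime is transitive. -/
theorem isSmoothAt_comp {R D B : Type u} [CommRing R] [CommRing D] [CommRing B] [Algebra R D]
    [Algebra R B] [Algebra D B] [IsScalarTower R D B] (Q : Ideal B) [Q.IsPrime]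
    (h1 : Algebra.IsSmoothAt R (Q.comap (algebraMap D B))) (h2 : Algebra.IsSmoothAt D Q) :
    Algebra.IsSmoothAt R Q := by
  let 𝔮 : Ideal D := Q.comap (algebraMap D B)
  haveI : 𝔮.IsPrime := Ideal.comap_isPrime _ _
  letI alg : Algebra (Localization.AtPrime 𝔮) (Localization.AtPrime Q) :=
    (Localization.localRingHom 𝔮 Q (algebraMap D B) rfl).toAlgebra
  haveI t1 : IsScalarTower D (Localization.AtPrime 𝔮) (Localization.AtPrime Q) :=
    IsScalarTower.of_algebraMap_eq fun d => by
      change _ = Localization.localRingHom 𝔮 Q (algebraMap D B) rfl (algebraMap D _ d)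
      rw [Localization.localRingHom_to_map]
      exact IsScalarTower.algebraMap_apply D B (Localization.AtPrime Q) d
  haveI t2 : IsScalarTower R (Localization.AtPrime 𝔮) (Localization.AtPrime Q) :=
    IsScalarTower.of_algebraMap_eq fun r => by
      rw [IsScalarTower.algebraMap_apply R D (Localization.AtPrime 𝔮),
        ← IsScalarTower.algebraMap_apply D (Localization.AtPrime 𝔮) (Localization.AtPrime Q),
        IsScalarTower.algebraMap_apply D B (Localization.AtPrime Q),
        ← IsScalarTower.algebraMap_apply R D B,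
        ← IsScalarTower.algebraMap_apply R B (Localization.AtPrime Q)]
  haveI : Algebra.FormallySmooth D (Localization.AtPrime Q) := h2
  haveI : Algebra.FormallySmooth R (Localization.AtPrime 𝔮) := h1
  haveI : Algebra.FormallySmooth (Localization.AtPrime 𝔮) (Localization.AtPrime Q) :=
    Algebra.FormallySmooth.localization_base 𝔮.primeCompl
  exact Algebra.FormallySmooth.comp R (Localization.AtPrime 𝔮) (Localization.AtPrime Q)

theorem desingularize_strictly_standard {R Λ A D : Type u} [CommRing R] [IsNoetherianRing R]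
    [CommRing Λ] [Algebra R Λ] (π : R) (hR : ∀ r : R, π ^ 2 * r = 0 → π * r = 0)
    (hΛ : ∀ x : Λ, π ^ 2 • x = 0 → π • x = 0) [CommRing A] [Algebra R A]
    [Algebra.FinitePresentation R A] [CommRing D] [Algebra R D] [Algebra.FinitePresentation R D]
    (φ : A →ₐ[R] Λ) (δ : D →ₐ[R] Λ) (hπ : Smoothing.IsStrictlyStandard R A (algebraMap R A π))
    (ψ : A →ₐ[R] D ⧸ Ideal.span {algebraMap R D (π ^ 4)})
    (hψ : ∀ (a : A) (d : D), Ideal.Quotient.mk (Ideal.span {algebraMap R D (π ^ 4)}) d = ψ a →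
      δ d - φ a ∈ Ideal.span {algebraMap R Λ (π ^ 4)}) :
    ∃ (B : Type u) (_ : CommRing B) (_ : Algebra R B) (_ : Algebra D B) (_ : IsScalarTower R D B),
      Algebra.FinitePresentation R B ∧
      ∃ (α : A →ₐ[R] B) (β : B →ₐ[R] Λ), β.comp α = φ ∧
        β.comp (IsScalarTower.toAlgHom R D B) = δ ∧
        (Smoothing.singularIdeal R D).map (algebraMap D B) ≤ Smoothing.singularIdeal D B ∧
        (Smoothing.singularIdeal R D).map (algebraMap D B) ≤ Smoothing.singularIdeal R B := by
  classical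
  haveI : IsNoetherianRing D := Algebra.FiniteType.isNoetherianRing R D
  letI algDΛ : Algebra D Λ := δ.toRingHom.toAlgebra
  haveI towerΛ : IsScalarTower R D Λ := IsScalarTower.of_algebraMap_eq fun r => (δ.commutes r).symm
  have hδ : ∀ d : D, algebraMap D Λ d = δ d := fun d => rfl
  let π' : D := algebraMap R D π
  have hsmul : ∀ (k : ℕ) (x : Λ), (π' ^ k) • x = (π ^ k) • x := by
    intro k x
    rw [Algebra.smul_def, Algebra.smul_def, hδ, ← map_pow, AlgHom.commutes]
  have hΛ' : ∀ x : Λ, π' ^ 2 • x = 0 → π' • x = 0 := by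
    intro x hx
    have h1 := hsmul 2 x
    have h2 := hsmul 1 x
    rw [pow_one, pow_one] at h2
    rw [h2]
    apply hΛ
    rw [← h1]
    exact hx
  -- the map from `D ⊗ A`
  let φ' : D ⊗[R] A →ₐ[D] Λ := Algebra.TensorProduct.lift (Algebra.ofId D Λ) φ
    (fun _ _ => Commute.all _ _)
  have hφ' : ∀ (d : D) (a : A), φ' (d ⊗ₜ a) = δ d * φ a := fun d a => by
    simp [φ', Algebra.TensorProduct.lift_tmul, Algebra.ofId_apply, hδ]
  -- strict standardness
  have hπ' : Smoothing.IsStrictlyStandard D (D ⊗[R] A) (algebraMap D (D ⊗[R] A) π') := by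
    have h1 := (Groth.Agent.S6829.result (R := R) (A := A) (R' := D) (algebraMap R A π)).2 hπ
    have h2 : algebraMap D (D ⊗[R] A) π' = (1 : D) ⊗ₜ[R] (algebraMap R A π) := by
      rw [Algebra.TensorProduct.algebraMap_apply, Algebra.algebraMap_eq_smul_one (A := A) π]
      change (algebraMap R D π) ⊗ₜ[R] (1 : A) = (1 : D) ⊗ₜ[R] (π • (1 : A))
      rw [Algebra.algebraMap_eq_smul_one (A := D) π, TensorProduct.smul_tmul]
    rw [h2]
    exact h1
  -- the section
  have hpow : Ideal.span {algebraMap R D (π ^ 4)} = Ideal.span {π' ^ 4} := by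
    rw [map_pow]
  let eq4 : (D ⧸ Ideal.span {algebraMap R D (π ^ 4)}) ≃ₐ[D] (D ⧸ Ideal.span {π' ^ 4}) :=
    Ideal.quotientEquivAlgOfEq D hpow
  let ψ' : A →ₐ[R] D ⧸ Ideal.span {π' ^ 4} := (eq4.toAlgHom.restrictScalars R).comp ψ
  let ρ' : D ⊗[R] A →ₐ[D] D ⧸ Ideal.span {π' ^ 4} :=
    Algebra.TensorProduct.lift (Algebra.ofId D _) ψ' (fun _ _ => Commute.all _ _)
  have hρ'tmul : ∀ (d : D) (a : A), ρ' (d ⊗ₜ a) = Ideal.Quotient.mk _ d * ψ' a := fun d a => by
    simp [ρ', Algebra.TensorProduct.lift_tmul, Algebra.ofId_apply]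
  -- the induced map on quotients
  have hle : Ideal.span {π' ^ 4} ≤ (Ideal.span {algebraMap R Λ (π ^ 4)}).comap δ.toRingHom := by
    rw [Ideal.span_le]
    intro x hx
    rw [Set.mem_singleton_iff] at hx
    rw [SetLike.mem_coe, Ideal.mem_comap, hx]
    change δ (π' ^ 4) ∈ _
    rw [← map_pow, AlgHom.commutes]
    exact Ideal.mem_span_singleton_self _
  let δbar : D ⧸ Ideal.span {π' ^ 4} →+* Λ ⧸ Ideal.span {algebraMap R Λ (π ^ 4)} :=
    Ideal.quotientMap _ δ.toRingHom hle
  have hδbar : ∀ d, δbar (Ideal.Quotient.mk _ d) = Ideal.Quotient.mk _ (δ d) := fun d =>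
    Ideal.quotientMap_mk
  have hψ'bar : ∀ a : A, δbar (ψ' a) = Ideal.Quotient.mk _ (φ a) := by
    intro a
    obtain ⟨d, hd⟩ := Ideal.Quotient.mk_surjective (ψ a)
    have h1 : ψ' a = Ideal.Quotient.mk _ d := by
      change eq4 (ψ a) = _
      rw [← hd]
      rfl
    rw [h1, hδbar, Ideal.Quotient.eq]
    exact hψ a d hd
  have hagree : ∀ t : D ⊗[R] A, δbar (ρ' t) = Ideal.Quotient.mk _ (φ' t) := by
    intro t
    induction t using TensorProduct.induction_on with
    | zero => simp
    | tmul d a => rw [hρ'tmul, hφ', map_mul, map_mul, hδbar, hψ'bar]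
    | add x y hx hy => rw [map_add, map_add, map_add, map_add, hx, hy]
  have hρ' : ∀ (t : D ⊗[R] A) (d : D), Ideal.Quotient.mk (Ideal.span {π' ^ 4}) d = ρ' t →
      algebraMap D Λ d - φ' t ∈ Ideal.span {algebraMap D Λ (π' ^ 4)} := by
    intro t d hd
    have h1 : algebraMap D Λ (π' ^ 4) = algebraMap R Λ (π ^ 4) := by
      rw [hδ, ← map_pow, AlgHom.commutes]
    rw [h1, hδ, ← Ideal.Quotient.eq, ← hδbar, hd, hagree]
  obtain ⟨B, instB, algDB, hfp, α', β', hβα, hsing⟩ :=
    desingularize_main (R := D) (Λ := Λ) (A := D ⊗[R] A) π' hΛ' φ' hπ' ρ' hρ'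
  letI := instB
  letI := algDB
  letI algRB : Algebra R B := ((algebraMap D B).comp (algebraMap R D)).toAlgebra
  haveI towerB : IsScalarTower R D B := IsScalarTower.of_algebraMap_eq fun r => rfl
  haveI := hfp
  haveI fpRB : Algebra.FinitePresentation R B := Algebra.FinitePresentation.trans R D B
  let α : A →ₐ[R] B := (α'.restrictScalars R).comp Algebra.TensorProduct.includeRight
  let β : B →ₐ[R] Λ := β'.restrictScalars R
  have hsingD : (Smoothing.singularIdeal R D).map (algebraMap D B) ≤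
      Smoothing.singularIdeal D B := by
    rw [Ideal.map_le_iff_le_comap]
    intro h hh
    rw [Ideal.mem_comap, Smoothing.singularIdeal, PrimeSpectrum.mem_vanishingIdeal]
    intro Q hQ
    by_contra hhQ
    apply hQ
    -- the prime of `D`
    let 𝔮 : Ideal D := Q.asIdeal.comap (algebraMap D B)
    haveI : 𝔮.IsPrime := Ideal.comap_isPrime _ _
    have hh𝔮 : h ∉ 𝔮 := hhQ
    have hsm𝔮 : (⟨𝔮, inferInstance⟩ : PrimeSpectrum D) ∈ Algebra.smoothLocus R D := by
      by_contra hns
      rw [Smoothing.singularIdeal, PrimeSpectrum.mem_vanishingIdeal] at hh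
      exact hh𝔮 (hh _ hns)
    haveI : Algebra.IsSmoothAt R 𝔮 := hsm𝔮
    obtain ⟨r₀, hr₀𝔮, hr₀⟩ := exists_notMem_ann π hR 𝔮
    have h1 := hsing r₀ hr₀
    rw [Smoothing.singularIdeal, PrimeSpectrum.mem_vanishingIdeal] at h1
    by_contra hns
    exact hr₀𝔮 (h1 Q hns)
  refine ⟨B, instB, algRB, algDB, towerB, fpRB, α, β, ?_, ?_, hsingD, ?_⟩
  · refine AlgHom.ext fun a => ?_
    change β' (α' ((1 : D) ⊗ₜ[R] a)) = φ a
    have h1 := congrArg (fun χ : D ⊗[R] A →ₐ[D] Λ => χ ((1 : D) ⊗ₜ[R] a)) hβα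
    simp only [AlgHom.comp_apply] at h1
    rw [h1, hφ', map_one, one_mul]
  · refine AlgHom.ext fun d => ?_
    change β' (algebraMap D B d) = δ d
    rw [AlgHom.commutes]
    rfl
  · -- smoothness over `R`
    rw [Ideal.map_le_iff_le_comap]
    intro h hh
    rw [Ideal.mem_comap, Smoothing.singularIdeal, PrimeSpectrum.mem_vanishingIdeal]
    intro Q hQ
    by_contra hhQ
    apply hQ
    let 𝔮 : Ideal D := Q.asIdeal.comap (algebraMap D B)
    haveI : 𝔮.IsPrime := Ideal.comap_isPrime _ _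
    have hh𝔮 : h ∉ 𝔮 := hhQ
    have hsm𝔮 : (⟨𝔮, inferInstance⟩ : PrimeSpectrum D) ∈ Algebra.smoothLocus R D := by
      by_contra hns
      rw [Smoothing.singularIdeal, PrimeSpectrum.mem_vanishingIdeal] at hh
      exact hh𝔮 (hh _ hns)
    have hsmQ : Q ∈ Algebra.smoothLocus D B := by
      by_contra hns
      have h2 := hsingD (Ideal.mem_map_of_mem _ hh)
      rw [Smoothing.singularIdeal, PrimeSpectrum.mem_vanishingIdeal] at h2
      exact hhQ (h2 Q hns)
    -- composition of formally smooth local rings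
    exact isSmoothAt_comp Q.asIdeal hsm𝔮 hsmQ

end Groth.Agent.Helper8.DesB
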