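import Mathlib
import Groth.Agent.Lib.Helper8.LiftA7
import Groth.Agent.Lib.Helper8.LocTr7
import Groth.Agent.S2028

/-!
# Stacks 16.8 (07CT): lifting modulo `π⁸` and desingularising
-/

set_option autoImplicit false
universe u

namespace Groth.Agent.Helper8.LiftB

open MvPolynomial Smoothing

theorem not_le_of_isSmoothAt {R A : Type u} [CommRing R] [CommRing A] [Algebra R A]
    [Algebra.FinitePresentation R A] (Q : Ideal A) [Q.IsPrime] (h : Algebra.IsSmoothAt R Q) :
    ¬ Smoothing.singularIdeal R A ≤ Q := by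
  haveI := h
  obtain ⟨f, hfQ, hf⟩ := Algebra.IsSmoothAt.exists_notMem_smooth R Q
  intro hle
  exact hfQ (hle (LocTr.mem_singularIdeal_of_formallySmooth f hf.1))

theorem isSmoothAt_of_not_le {R A : Type u} [CommRing R] [CommRing A] [Algebra R A]
    (Q : Ideal A) [Q.IsPrime] (h : ¬ Smoothing.singularIdeal R A ≤ Q) :
    Algebra.IsSmoothAt R Q := by
  by_contra hcon
  apply h
  intro x hx
  rw [Smoothing.singularIdeal, PrimeSpectrum.mem_vanishingIdeal] at hx
  exact hx ⟨Q, inferInstance⟩ hcon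

theorem lifting_main' {R Λ Cb : Type u} [CommRing R] [IsNoetherianRing R] [CommRing Λ]
    [Algebra R Λ] (π p : R) (hp : p = π ^ 2) (hR : ∀ r : R, π ^ 2 * r = 0 → π * r = 0)
    (hΛ : ∀ x : Λ, π ^ 2 • x = 0 → π • x = 0) [CommRing Cb] [Algebra R Cb]
    [Algebra (R ⧸ Ideal.span {p}) Cb] [IsScalarTower R (R ⧸ Ideal.span {p}) Cb]
    [Algebra.FinitePresentation (R ⧸ Ideal.span {p}) Cb]
    (g : Cb →ₐ[R] Λ ⧸ Ideal.span {algebraMap R Λ p}) :
    ∃ (D : Type u) (_ : CommRing D) (_ : Algebra R D), Algebra.FinitePresentation R D ∧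
      ∃ (δ : D →ₐ[R] Λ) (ψ : Cb →ₐ[R] D ⧸ Ideal.span {algebraMap R D π}),
        (∀ (c : Cb) (d : D) (l : Λ), Ideal.Quotient.mk (Ideal.span {algebraMap R D π}) d = ψ c →
          Ideal.Quotient.mk (Ideal.span {algebraMap R Λ p}) l = g c →
            δ d - l ∈ Ideal.span {algebraMap R Λ π}) ∧
        (∀ (Q : Ideal D) [Q.IsPrime], algebraMap R D π ∉ Q → Algebra.IsSmoothAt R Q) ∧
        (∀ (Q : Ideal (D ⧸ Ideal.span {algebraMap R D π})) [Q.IsPrime],
          Algebra.IsSmoothAt (R ⧸ Ideal.span {p}) (Q.comap ψ) →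
            Algebra.IsSmoothAt R (Q.comap (Ideal.Quotient.mk (Ideal.span {algebraMap R D π})))) := by
  subst hp
  exact LiftA.lifting_main π hR hΛ g

theorem ann_pow {M : Type*} [CommRing M] (a : M) (h : ∀ x : M, a ^ 2 * x = 0 → a * x = 0) :
    ∀ (k : ℕ) (x : M), a ^ (k + 1) * x = 0 → a * x = 0 := by
  intro k
  induction k with
  | zero => intro x hx; simpa using hx
  | succ k ih =>
    intro x hx
    apply ih
    have h1 : a ^ 2 * (a ^ k * x) = 0 := by
      rw [← hx]
      ring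
    have h2 := h _ h1
    rw [← h2]
    ring

theorem lifting_pi8 {R Λ A C : Type u} [CommRing R] [IsNoetherianRing R] [CommRing Λ]
    [Algebra R Λ] (π : R) (hR : ∀ r : R, π ^ 2 * r = 0 → π * r = 0)
    (hΛ : ∀ x : Λ, π ^ 2 • x = 0 → π • x = 0) [CommRing A] [Algebra R A]
    [Algebra.FinitePresentation R A] (φ : A →ₐ[R] Λ)
    (hπ : Smoothing.IsStrictlyStandard R A (algebraMap R A π))
    [CommRing C] [Algebra R C] [Algebra (R ⧸ Ideal.span {π ^ 8}) C]
    [IsScalarTower R (R ⧸ Ideal.span {π ^ 8}) C]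
    [Algebra.FinitePresentation (R ⧸ Ideal.span {π ^ 8}) C]
    (γ : A →ₐ[R] C) (g : C →ₐ[R] Λ ⧸ Ideal.span {algebraMap R Λ (π ^ 8)})
    (hfac : ∀ a : A, g (γ a) = Ideal.Quotient.mk (Ideal.span {algebraMap R Λ (π ^ 8)}) (φ a)) :
    ∃ (B : Type u) (_ : CommRing B) (_ : Algebra R B), Algebra.FinitePresentation R B ∧
      ∃ (α : A →ₐ[R] B) (β : B →ₐ[R] Λ), β.comp α = φ ∧
        (∀ (Q : Ideal B) [Q.IsPrime], algebraMap R B π ∉ Q → Algebra.IsSmoothAt R Q) ∧
        (Smoothing.singularIdeal (R ⧸ Ideal.span {π ^ 8}) C).map g ≤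
          ((Smoothing.singularIdeal R B).map β).radical.map
            (Ideal.Quotient.mk (Ideal.span {algebraMap R Λ (π ^ 8)})) := by
  classical
  -- annihilator conditions for `π⁴`
  have hR4 : ∀ r : R, (π ^ 4) ^ 2 * r = 0 → π ^ 4 * r = 0 := by
    intro r hr
    have h1 : π ^ (7 + 1) * r = 0 := by rw [← hr]; ring
    have h2 := ann_pow π hR 7 r h1
    have : π ^ 4 * r = π ^ 3 * (π * r) := by ring
    rw [this, h2, mul_zero]
  have hΛ' : ∀ x : Λ, algebraMap R Λ π ^ 2 * x = 0 → algebraMap R Λ π * x = 0 := by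
    intro x hx
    have := hΛ x (by rw [Algebra.smul_def, map_pow]; exact hx)
    rwa [Algebra.smul_def] at this
  have hΛ4 : ∀ x : Λ, (π ^ 4) ^ 2 • x = 0 → (π ^ 4) • x = 0 := by
    intro x hx
    rw [Algebra.smul_def, map_pow, map_pow] at hx
    have h1 : algebraMap R Λ π ^ (7 + 1) * x = 0 := by rw [← hx]; ring
    have h2 := ann_pow (algebraMap R Λ π) hΛ' 7 x h1
    rw [Algebra.smul_def, map_pow]
    have : algebraMap R Λ π ^ 4 * x = algebraMap R Λ π ^ 3 * (algebraMap R Λ π * x) := by ring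
    rw [this, h2, mul_zero]
  obtain ⟨D, _, _, hfpD, δ, ψC, hcompat, hsmD, hsmC⟩ :=
    lifting_main' (π ^ 4) (π ^ 8) (by ring) hR4 hΛ4 g
  haveI := hfpD
  have hψ : ∀ (a : A) (d : D),
      Ideal.Quotient.mk (Ideal.span {algebraMap R D (π ^ 4)}) d = (ψC.comp γ) a →
        δ d - φ a ∈ Ideal.span {algebraMap R Λ (π ^ 4)} := by
    intro a d hd
    exact hcompat (γ a) d (φ a) hd (hfac a).symm
  obtain ⟨B, _, _, _, _, hfpB, α, β, hβα, hβδ, -, hs2⟩ :=
    Groth.Agent.S2028.result π hR hΛ φ δ hπ (ψC.comp γ) hψ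
  haveI := hfpB
  have hβδ' : ∀ d : D, β (algebraMap D B d) = δ d := fun d => DFunLike.congr_fun hβδ d
  -- smoothness of `B` away from `π`
  have hsmB : ∀ (Q : Ideal B) [Q.IsPrime], algebraMap R B π ∉ Q → Algebra.IsSmoothAt R Q := by
    intro Q _ hQ
    apply isSmoothAt_of_not_le
    have hπ4 : algebraMap R D (π ^ 4) ∉ Q.comap (algebraMap D B) := by
      rw [Ideal.mem_comap, ← IsScalarTower.algebraMap_apply, map_pow]
      exact fun h => hQ (Ideal.IsPrime.mem_of_pow_mem inferInstance _ h)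
    have h1 := not_le_of_isSmoothAt _ (hsmD (Q.comap (algebraMap D B)) hπ4)
    intro hle
    apply h1
    intro x hx
    rw [Ideal.mem_comap]
    exact hle (hs2 (Ideal.mem_map_of_mem _ hx))
  -- `π` lies in the radical of the singular ideal of `B`
  have hπrad : algebraMap R B π ∈ (Smoothing.singularIdeal R B).radical := by
    rw [Ideal.radical_eq_sInf, Ideal.mem_sInf]
    rintro Q ⟨hQle, hQp⟩
    haveI := hQp
    by_contra hcon
    exact not_le_of_isSmoothAt Q (hsmB Q hcon) hQle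
  have hπradΛ : algebraMap R Λ π ∈ ((Smoothing.singularIdeal R B).map β).radical := by
    obtain ⟨N, hN⟩ := hπrad
    refine ⟨N, ?_⟩
    have := Ideal.mem_map_of_mem β hN
    rwa [map_pow, AlgHom.commutes] at this
  refine ⟨B, inferInstance, inferInstance, hfpB, α, β, hβα, hsmB, ?_⟩
  rw [Ideal.map_le_iff_le_comap]
  intro x hx
  rw [Ideal.mem_comap]
  obtain ⟨l, hl⟩ := Ideal.Quotient.mk_surjective (g x)
  obtain ⟨d, hd⟩ := Ideal.Quotient.mk_surjective (ψC x)
  -- `d` lies in the radical of the singular ideal of `D`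
  have hdrad : d ∈ (Smoothing.singularIdeal R D).radical := by
    rw [Ideal.radical_eq_sInf, Ideal.mem_sInf]
    rintro Q' ⟨hQle, hQp⟩
    haveI := hQp
    have hπ4 : algebraMap R D (π ^ 4) ∈ Q' := by
      by_contra hcon
      exact not_le_of_isSmoothAt Q' (hsmD Q' hcon) hQle
    have hker : RingHom.ker (Ideal.Quotient.mk (Ideal.span {algebraMap R D (π ^ 4)})) ≤ Q' := by
      rw [Ideal.mk_ker, Ideal.span_le]
      rintro _ rfl
      exact hπ4
    haveI hQprime : (Q'.map (Ideal.Quotient.mk (Ideal.span {algebraMap R D (π ^ 4)}))).IsPrime :=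
      Ideal.map_isPrime_of_surjective Ideal.Quotient.mk_surjective hker
    have hcomap : (Q'.map (Ideal.Quotient.mk (Ideal.span {algebraMap R D (π ^ 4)}))).comap
        (Ideal.Quotient.mk (Ideal.span {algebraMap R D (π ^ 4)})) = Q' := by
      rw [Ideal.comap_map_of_surjective _ Ideal.Quotient.mk_surjective, sup_eq_left]
      exact hker
    have hns : ¬ Algebra.IsSmoothAt (R ⧸ Ideal.span {π ^ 8})
        ((Q'.map (Ideal.Quotient.mk (Ideal.span {algebraMap R D (π ^ 4)}))).comap ψC) := by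
      intro hsm
      have h2 := not_le_of_isSmoothAt _ (hsmC _ hsm)
      rw [hcomap] at h2
      exact h2 hQle
    have hle : Smoothing.singularIdeal (R ⧸ Ideal.span {π ^ 8}) C ≤
        (Q'.map (Ideal.Quotient.mk (Ideal.span {algebraMap R D (π ^ 4)}))).comap ψC := by
      by_contra hcon
      exact hns (isSmoothAt_of_not_le _ hcon)
    have h3 := hle hx
    rw [Ideal.mem_comap, ← hd, ← Ideal.mem_comap, hcomap] at h3
    exact h3
  have hδd : δ d ∈ ((Smoothing.singularIdeal R B).map β).radical := by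
    obtain ⟨N, hN⟩ := hdrad
    refine ⟨N, ?_⟩
    rw [← map_pow, ← hβδ']
    exact Ideal.mem_map_of_mem β (hs2 (Ideal.mem_map_of_mem _ hN))
  have hl2 : δ d - l ∈ Ideal.span {algebraMap R Λ (π ^ 4)} := hcompat x d l hd hl
  obtain ⟨t, ht⟩ := Ideal.mem_span_singleton'.mp hl2
  have hlrad : l ∈ ((Smoothing.singularIdeal R B).map β).radical := by
    have : l = δ d - t * algebraMap R Λ (π ^ 4) := by rw [ht]; ring
    rw [this, map_pow]
    refine Ideal.sub_mem _ hδd (Ideal.mul_mem_left _ _ ?_)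
    exact Ideal.pow_mem_of_mem _ hπradΛ 4 (by norm_num)
  rw [← hl]
  exact Ideal.mem_map_of_mem _ hlrad

end Groth.Agent.Helper8.LiftB
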