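import Mathlib
import Groth.Agent.Lib.Helper8.LiftB1

/-!
# Stacks 16.8 in model-flexible form: base rings up to isomorphism
-/

set_option autoImplicit false
universe u

namespace Groth.Agent.Helper8.LiftB

open Smoothing

section BaseIso

variable {R₁ R₂ C : Type u} [CommRing R₁] [CommRing R₂] [CommRing C] [Algebra R₁ R₂]
  [Algebra R₁ C] [Algebra R₂ C] [IsScalarTower R₁ R₂ C]

theorem finitePresentation_of_bijective (hbij : Function.Bijective (algebraMap R₁ R₂))
    [Algebra.FinitePresentation R₂ C] : Algebra.FinitePresentation R₁ C := by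
  haveI : Algebra.FinitePresentation R₁ R₂ := by
    refine Algebra.FinitePresentation.of_surjective (f := Algebra.ofId R₁ R₂) hbij.2 ?_
    have : RingHom.ker (Algebra.ofId R₁ R₂).toRingHom = ⊥ :=
      (RingHom.injective_iff_ker_eq_bot _).mp hbij.1
    rw [this]
    exact Submodule.fg_bot
  exact Algebra.FinitePresentation.trans R₁ R₂ C

theorem formallySmooth_iff_of_bijective (hbij : Function.Bijective (algebraMap R₁ R₂))
    (S : Type u) [CommRing S] [Algebra R₁ S] [Algebra R₂ S] [IsScalarTower R₁ R₂ S] :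
    Algebra.FormallySmooth R₁ S ↔ Algebra.FormallySmooth R₂ S := by
  haveI : Algebra.FormallyUnramified R₁ R₂ :=
    Algebra.FormallyUnramified.of_surjective (Algebra.ofId R₁ R₂) hbij.2
  haveI : Algebra.FormallySmooth R₁ R₂ :=
    Algebra.FormallySmooth.of_equiv (AlgEquiv.ofBijective (Algebra.ofId R₁ R₂) hbij)
  constructor
  · intro h
    exact Algebra.FormallySmooth.of_restrictScalars R₁ R₂ S
  · intro h
    exact Algebra.FormallySmooth.comp R₁ R₂ S

theorem singularIdeal_eq_of_bijective (hbij : Function.Bijective (algebraMap R₁ R₂)) :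
    Smoothing.singularIdeal R₁ C = Smoothing.singularIdeal R₂ C := by
  unfold Smoothing.singularIdeal
  congr 2
  ext p
  simp only [Algebra.smoothLocus, Set.mem_ofPred_eq]
  exact formallySmooth_iff_of_bijective hbij _

end BaseIso

section Model

theorem lifting_pi8_model {R Λ A C Rb Λb : Type u} [CommRing R] [IsNoetherianRing R] [CommRing Λ]
    [Algebra R Λ] (π : R) (hR : ∀ r : R, π ^ 2 * r = 0 → π * r = 0)
    (hΛ : ∀ x : Λ, π ^ 2 • x = 0 → π • x = 0) [CommRing A] [Algebra R A]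
    [Algebra.FinitePresentation R A] (φ : A →ₐ[R] Λ)
    (hπ : Smoothing.IsStrictlyStandard R A (algebraMap R A π))
    [CommRing Rb] [Algebra R Rb] (hRb1 : Function.Surjective (algebraMap R Rb))
    (hRb2 : RingHom.ker (algebraMap R Rb) = Ideal.span {π ^ 8})
    [CommRing Λb] [Algebra Λ Λb] [Algebra R Λb] [IsScalarTower R Λ Λb]
    (hΛb1 : Function.Surjective (algebraMap Λ Λb))
    (hΛb2 : RingHom.ker (algebraMap Λ Λb) = Ideal.span {algebraMap R Λ (π ^ 8)})
    [CommRing C] [Algebra R C] [Algebra Rb C] [IsScalarTower R Rb C]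
    [Algebra.FinitePresentation Rb C]
    (γ : A →ₐ[R] C) (g : C →ₐ[R] Λb)
    (hfac : ∀ a : A, g (γ a) = algebraMap Λ Λb (φ a)) :
    ∃ (B : Type u) (_ : CommRing B) (_ : Algebra R B), Algebra.FinitePresentation R B ∧
      ∃ (α : A →ₐ[R] B) (β : B →ₐ[R] Λ), β.comp α = φ ∧
        (∀ (Q : Ideal B) [Q.IsPrime], algebraMap R B π ∉ Q → Algebra.IsSmoothAt R Q) ∧
        ∀ x ∈ Smoothing.singularIdeal Rb C,
          ∃ l ∈ ((Smoothing.singularIdeal R B).map β).radical, algebraMap Λ Λb l = g x := by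
  classical
  -- the base ring model
  let ρ₁ : (R ⧸ Ideal.span {π ^ 8}) →+* Rb :=
    Ideal.Quotient.lift _ (algebraMap R Rb) (fun a ha => by
      rw [← hRb2] at ha
      exact ha)
  have hρ₁mk : ∀ r, ρ₁ (Ideal.Quotient.mk _ r) = algebraMap R Rb r := fun r => rfl
  have hρ₁bij : Function.Bijective ρ₁ := by
    constructor
    · exact RingHom.lift_injective_of_ker_le_ideal _ _ (le_of_eq hRb2)
    · intro y
      obtain ⟨r, rfl⟩ := hRb1 y
      exact ⟨Ideal.Quotient.mk _ r, rfl⟩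
  letI algR₁Rb : Algebra (R ⧸ Ideal.span {π ^ 8}) Rb := ρ₁.toAlgebra
  letI algR₁C : Algebra (R ⧸ Ideal.span {π ^ 8}) C := ((algebraMap Rb C).comp ρ₁).toAlgebra
  haveI tow1 : IsScalarTower (R ⧸ Ideal.span {π ^ 8}) Rb C :=
    IsScalarTower.of_algebraMap_eq (fun x => rfl)
  haveI tow2 : IsScalarTower R (R ⧸ Ideal.span {π ^ 8}) C := by
    refine IsScalarTower.of_algebraMap_eq (fun r => ?_)
    change algebraMap R C r = algebraMap Rb C (ρ₁ (Ideal.Quotient.mk _ r))
    rw [hρ₁mk, ← IsScalarTower.algebraMap_apply]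
  have hbij : Function.Bijective (algebraMap (R ⧸ Ideal.span {π ^ 8}) Rb) := hρ₁bij
  haveI hfpC : Algebra.FinitePresentation (R ⧸ Ideal.span {π ^ 8}) C :=
    finitePresentation_of_bijective hbij
  have hsing : Smoothing.singularIdeal (R ⧸ Ideal.span {π ^ 8}) C =
      Smoothing.singularIdeal Rb C := singularIdeal_eq_of_bijective hbij
  -- the model of `Λ/π⁸Λ`
  let ρ₂ : (Λ ⧸ Ideal.span {algebraMap R Λ (π ^ 8)}) →+* Λb :=
    Ideal.Quotient.lift _ (algebraMap Λ Λb) (fun a ha => by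
      rw [← hΛb2] at ha
      exact ha)
  have hρ₂mk : ∀ l, ρ₂ (Ideal.Quotient.mk _ l) = algebraMap Λ Λb l := fun l => rfl
  have hρ₂bij : Function.Bijective ρ₂ := by
    constructor
    · exact RingHom.lift_injective_of_ker_le_ideal _ _ (le_of_eq hΛb2)
    · intro y
      obtain ⟨l, rfl⟩ := hΛb1 y
      exact ⟨Ideal.Quotient.mk _ l, rfl⟩
  let e₂ : (Λ ⧸ Ideal.span {algebraMap R Λ (π ^ 8)}) ≃+* Λb := RingEquiv.ofBijective ρ₂ hρ₂bij
  have he₂mk : ∀ l, e₂.symm (algebraMap Λ Λb l) = Ideal.Quotient.mk _ l := by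
    intro l
    rw [RingEquiv.symm_apply_eq]
    rfl
  let g' : C →ₐ[R] Λ ⧸ Ideal.span {algebraMap R Λ (π ^ 8)} :=
    { toRingHom := e₂.symm.toRingHom.comp g.toRingHom
      commutes' := by
        intro r
        change e₂.symm (g (algebraMap R C r)) = _
        rw [g.commutes, IsScalarTower.algebraMap_apply R Λ Λb, he₂mk]
        rfl }
  have hg' : ∀ x, g' x = e₂.symm (g x) := fun x => rfl
  have hfac' : ∀ a : A, g' (γ a) =
      Ideal.Quotient.mk (Ideal.span {algebraMap R Λ (π ^ 8)}) (φ a) := by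
    intro a
    rw [hg', hfac, he₂mk]
  obtain ⟨B, _, _, hfpB, α, β, hβα, hsm, hle⟩ := lifting_pi8 π hR hΛ φ hπ γ g' hfac'
  refine ⟨B, inferInstance, inferInstance, hfpB, α, β, hβα, hsm, ?_⟩
  intro x hx
  rw [← hsing] at hx
  have h1 := hle (Ideal.mem_map_of_mem g' hx)
  rw [Ideal.mem_map_iff_of_surjective _ Ideal.Quotient.mk_surjective] at h1
  obtain ⟨l, hl, hlx⟩ := h1
  refine ⟨l, hl, ?_⟩
  rw [← hρ₂mk, hlx, hg']
  exact e₂.apply_symm_apply (g x)

end Model

end Groth.Agent.Helper8.LiftB
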