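import Mathlib
import Groth.Agent.Lib.Helper8.LiftB2
import Groth.Agent.S6829

/-!
# Stacks 16.9.1: resolving modulo powers of a sequence of elements
-/

set_option autoImplicit false
universe u

namespace Groth.Agent.Helper8.LiftB

open Smoothing TensorProduct

/-- The problem `R → A → Λ ⊇ 𝔮` can be resolved modulo the ideal `K` (in a form flexible with
respect to the models of `R/K` and `Λ/KΛ`). -/
def ResMod {R A Λ : Type u} [CommRing R] [CommRing A] [Algebra R A] [CommRing Λ] [Algebra R Λ]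
    (φ : A →ₐ[R] Λ) (𝔮 : Ideal Λ) (K : Ideal R) : Prop :=
  ∃ (Rb Λb C : Type u) (_ : CommRing Rb) (_ : CommRing Λb) (_ : CommRing C) (_ : Algebra R Rb)
    (_ : Algebra Λ Λb) (_ : Algebra R Λb) (_ : IsScalarTower R Λ Λb) (_ : Algebra R C)
    (_ : Algebra Rb C) (_ : IsScalarTower R Rb C),
    Function.Surjective (algebraMap R Rb) ∧ RingHom.ker (algebraMap R Rb) = K ∧
    Function.Surjective (algebraMap Λ Λb) ∧
    RingHom.ker (algebraMap Λ Λb) = K.map (algebraMap R Λ) ∧
    Algebra.FinitePresentation Rb C ∧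
    ∃ (γ : A →ₐ[R] C) (g : C →ₐ[R] Λb), (∀ a, g (γ a) = algebraMap Λ Λb (φ a)) ∧
      (∀ a ∈ Smoothing.singularIdeal R A,
        algebraMap Λ Λb (φ a) ∈ ((Smoothing.singularIdeal Rb C).map g).radical) ∧
      ¬ (Smoothing.singularIdeal Rb C).map g ≤ 𝔮.map (algebraMap Λ Λb)

section Step

variable {R A Λ : Type u} [CommRing R] [CommRing A] [Algebra R A] [CommRing Λ] [Algebra R Λ]

theorem ker_lift_eq_span {S T : Type u} [CommRing S] [CommRing T] (K : Ideal S) (p : S)
    (f : S →+* T) (hf : RingHom.ker f = K ⊔ Ideal.span {p}) (H : ∀ a ∈ K, f a = 0) :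
    RingHom.ker (Ideal.Quotient.lift K f H) = Ideal.span {Ideal.Quotient.mk K p} := by
  ext x
  obtain ⟨r, rfl⟩ := Ideal.Quotient.mk_surjective x
  rw [RingHom.mem_ker, Ideal.Quotient.lift_mk, ← RingHom.mem_ker, hf]
  have h1 : Ideal.span {Ideal.Quotient.mk K p} = (Ideal.span {p}).map (Ideal.Quotient.mk K) := by
    rw [Ideal.map_span, Set.image_singleton]
  rw [h1, Ideal.mem_quotient_iff_mem_sup, sup_comm]

theorem resMod_step [IsNoetherianRing R] [Algebra.FinitePresentation R A] (φ : A →ₐ[R] Λ)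
    (𝔮 : Ideal Λ) [𝔮.IsPrime] (K : Ideal R) (π : R)
    (hK𝔮 : K.map (algebraMap R Λ) ≤ 𝔮)
    (hR : ∀ x : R, π ^ 2 * x ∈ K → π * x ∈ K)
    (hΛ : ∀ x : Λ, algebraMap R Λ π ^ 2 * x ∈ K.map (algebraMap R Λ) →
      algebraMap R Λ π * x ∈ K.map (algebraMap R Λ))
    (hstd : Smoothing.IsStrictlyStandard R A (algebraMap R A π))
    (h : ResMod φ 𝔮 (K ⊔ Ideal.span {π ^ 8})) : ResMod φ 𝔮 K := by
  classical
  obtain ⟨Rb, Λb, C, _, _, _, _, _, _, _, _, _, _, hRb1, hRb2, hΛb1, hΛb2, hfpC, γ, g, hfac,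
    hs1, hs2⟩ := h
  haveI := hfpC
  -- notation
  let R' := R ⧸ K
  let Λ' := Λ ⧸ K.map (algebraMap R Λ)
  let A' := R' ⊗[R] A
  let π' : R' := Ideal.Quotient.mk K π
  -- the annihilator conditions
  have hR' : ∀ x : R', π' ^ 2 * x = 0 → π' * x = 0 := by
    intro x hx
    obtain ⟨r, rfl⟩ := Ideal.Quotient.mk_surjective x
    rw [← map_pow, ← map_mul, Ideal.Quotient.eq_zero_iff_mem] at hx
    rw [← map_mul, Ideal.Quotient.eq_zero_iff_mem]
    exact hR r hx
  have hπ'Λ : algebraMap R' Λ' π' = Ideal.Quotient.mk _ (algebraMap R Λ π) := rfl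
  have hΛ' : ∀ x : Λ', π' ^ 2 • x = 0 → π' • x = 0 := by
    intro x hx
    obtain ⟨l, rfl⟩ := Ideal.Quotient.mk_surjective x
    rw [Algebra.smul_def, map_pow, hπ'Λ, ← map_pow, ← map_mul, Ideal.Quotient.eq_zero_iff_mem] at hx
    rw [Algebra.smul_def, hπ'Λ, ← map_mul, Ideal.Quotient.eq_zero_iff_mem]
    exact hΛ l hx
  -- strictly standard after base change
  have hstd' : Smoothing.IsStrictlyStandard R' A' (algebraMap R' A' π') := by
    have h1 := (Groth.Agent.S6829.result (R := R) (A := A) (R' := R') (algebraMap R A π)).2 hstd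
    have h2 : algebraMap R' A' π' = (1 : R') ⊗ₜ[R] algebraMap R A π := by
      rw [Algebra.TensorProduct.algebraMap_apply, Algebra.algebraMap_eq_smul_one (A := A) π,
        TensorProduct.tmul_smul, TensorProduct.smul_tmul']
      congr 1
      change π' = π • (1 : R')
      rw [Algebra.smul_def, mul_one]
      rfl
    rw [h2]
    exact h1
  -- the map `A' → Λ'`
  let φ' : A' →ₐ[R'] Λ' :=
    Algebra.TensorProduct.lift (Algebra.ofId R' Λ') ((Ideal.Quotient.mkₐ R _).comp φ)
      (fun _ _ => Commute.all _ _)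
  have hφ' : ∀ a : A, φ' ((1 : R') ⊗ₜ[R] a) = Ideal.Quotient.mk _ (φ a) := by
    intro a
    change Algebra.TensorProduct.lift (Algebra.ofId R' Λ') ((Ideal.Quotient.mkₐ R _).comp φ)
      (fun _ _ => Commute.all _ _) ((1 : R') ⊗ₜ[R] a) = _
    rw [Algebra.TensorProduct.lift_tmul, map_one, one_mul]
    rfl
  -- `Rb` as a model over `R'`
  have hKle : ∀ a ∈ K, algebraMap R Rb a = 0 := by
    intro a ha
    have : a ∈ RingHom.ker (algebraMap R Rb) := by rw [hRb2]; exact Ideal.mem_sup_left ha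
    exact this
  let ρ : R' →+* Rb := Ideal.Quotient.lift K (algebraMap R Rb) hKle
  letI algR'Rb : Algebra R' Rb := ρ.toAlgebra
  have hρsurj : Function.Surjective (algebraMap R' Rb) := by
    intro y
    obtain ⟨r, rfl⟩ := hRb1 y
    exact ⟨Ideal.Quotient.mk K r, rfl⟩
  have hρker : RingHom.ker (algebraMap R' Rb) = Ideal.span {π' ^ 8} := by
    have := ker_lift_eq_span K (π ^ 8) (algebraMap R Rb) hRb2 hKle
    rw [map_pow] at this
    exact this
  letI algR'C : Algebra R' C := ((algebraMap Rb C).comp ρ).toAlgebra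
  haveI tow1 : IsScalarTower R' Rb C := IsScalarTower.of_algebraMap_eq (fun x => rfl)
  haveI tow2 : IsScalarTower R R' C := by
    refine IsScalarTower.of_algebraMap_eq (fun r => ?_)
    change algebraMap R C r = algebraMap Rb C (algebraMap R Rb r)
    rw [← IsScalarTower.algebraMap_apply]
  -- `Λb` as a model over `Λ'`
  have hKΛle : ∀ a ∈ K.map (algebraMap R Λ), algebraMap Λ Λb a = 0 := by
    intro a ha
    have : a ∈ RingHom.ker (algebraMap Λ Λb) := by
      rw [hΛb2, Ideal.map_sup]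
      exact Ideal.mem_sup_left ha
    exact this
  let ρΛ : Λ' →+* Λb := Ideal.Quotient.lift _ (algebraMap Λ Λb) hKΛle
  letI algΛ'Λb : Algebra Λ' Λb := ρΛ.toAlgebra
  letI algR'Λb : Algebra R' Λb := ((algebraMap Λ' Λb).comp (algebraMap R' Λ')).toAlgebra
  haveI tow3 : IsScalarTower R' Λ' Λb := IsScalarTower.of_algebraMap_eq (fun x => rfl)
  have hρΛmk : ∀ l : Λ, algebraMap Λ' Λb (Ideal.Quotient.mk _ l) = algebraMap Λ Λb l := fun l => rfl
  have hρΛsurj : Function.Surjective (algebraMap Λ' Λb) := by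
    intro y
    obtain ⟨l, rfl⟩ := hΛb1 y
    exact ⟨Ideal.Quotient.mk _ l, rfl⟩
  have hρΛker : RingHom.ker (algebraMap Λ' Λb) = Ideal.span {algebraMap R' Λ' (π' ^ 8)} := by
    have h1 : RingHom.ker (algebraMap Λ Λb) =
        K.map (algebraMap R Λ) ⊔ Ideal.span {algebraMap R Λ (π ^ 8)} := by
      rw [hΛb2, Ideal.map_sup, Ideal.map_span, Set.image_singleton]
    have := ker_lift_eq_span (K.map (algebraMap R Λ)) (algebraMap R Λ (π ^ 8))
      (algebraMap Λ Λb) h1 hKΛle
    have h2 : algebraMap R' Λ' (π' ^ 8) =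
        Ideal.Quotient.mk (K.map (algebraMap R Λ)) (algebraMap R Λ (π ^ 8)) := by
      rw [map_pow, map_pow, map_pow]
      rfl
    rw [h2]
    exact this
  -- the maps
  let γ' : A' →ₐ[R'] C :=
    Algebra.TensorProduct.lift (Algebra.ofId R' C) γ (fun _ _ => Commute.all _ _)
  have hγ' : ∀ a : A, γ' ((1 : R') ⊗ₜ[R] a) = γ a := by
    intro a
    change Algebra.TensorProduct.lift (Algebra.ofId R' C) γ
      (fun _ _ => Commute.all _ _) ((1 : R') ⊗ₜ[R] a) = _
    rw [Algebra.TensorProduct.lift_tmul, map_one, one_mul]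
  let g' : C →ₐ[R'] Λb :=
    { toRingHom := g.toRingHom
      commutes' := by
        intro x
        obtain ⟨r, rfl⟩ := Ideal.Quotient.mk_surjective x
        change g (algebraMap Rb C (algebraMap R Rb r)) = algebraMap Λ Λb (algebraMap R Λ r)
        rw [← IsScalarTower.algebraMap_apply, g.commutes, ← IsScalarTower.algebraMap_apply] }
  have hg' : ∀ x, g' x = g x := fun x => rfl
  have hfac' : ∀ a' : A', g' (γ' a') = algebraMap Λ' Λb (φ' a') := by
    intro a'
    induction a' using TensorProduct.induction_on with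
    | zero => simp
    | tmul r' a =>
      have h1 : r' ⊗ₜ[R] a = algebraMap R' A' r' * ((1 : R') ⊗ₜ[R] a) := by
        rw [Algebra.TensorProduct.algebraMap_apply, Algebra.TensorProduct.tmul_mul_tmul,
          one_mul]
        congr 1
        exact (mul_one _).symm
      rw [h1, map_mul, map_mul, map_mul, map_mul, AlgHom.commutes, AlgHom.commutes,
        AlgHom.commutes, hγ', hφ', hg', hfac, hρΛmk, ← IsScalarTower.algebraMap_apply]
    | add x y hx hy => rw [map_add, map_add, map_add, map_add, hx, hy]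
  obtain ⟨B', _, _, hfpB', α', β', hβα', hsm', hx'⟩ :=
    lifting_pi8_model (R := R') (Λ := Λ') π' hR' hΛ' φ' hstd' hρsurj hρker hρΛsurj hρΛker
      γ' g' hfac'
  haveI := hfpB'
  have hβα'' : ∀ a', β' (α' a') = φ' a' := fun a' => DFunLike.congr_fun hβα' a'
  -- the radical of the extended singular ideal of `B'`
  set 𝔯 : Ideal Λ' := ((Smoothing.singularIdeal R' B').map β').radical with h𝔯
  have hπrad : algebraMap R' B' π' ∈ (Smoothing.singularIdeal R' B').radical := by
    rw [Ideal.radical_eq_sInf, Ideal.mem_sInf]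
    rintro Q ⟨hQle, hQp⟩
    haveI := hQp
    by_contra hcon
    exact not_le_of_isSmoothAt Q (hsm' Q hcon) hQle
  have hπ𝔯 : algebraMap R' Λ' π' ∈ 𝔯 := by
    obtain ⟨N, hN⟩ := hπrad
    refine ⟨N, ?_⟩
    have := Ideal.mem_map_of_mem β' hN
    rwa [map_pow, AlgHom.commutes] at this
  have hker𝔯 : RingHom.ker (algebraMap Λ' Λb) ≤ 𝔯 := by
    rw [hρΛker, Ideal.span_le]
    rintro _ rfl
    rw [map_pow]
    exact Ideal.pow_mem_of_mem _ hπ𝔯 8 (by norm_num)
  have hCle : (Smoothing.singularIdeal Rb C).map g ≤ 𝔯.map (algebraMap Λ' Λb) := by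
    rw [Ideal.map_le_iff_le_comap]
    intro x hx
    obtain ⟨l, hl, hlx⟩ := hx' x hx
    rw [Ideal.mem_comap, ← hg', ← hlx]
    exact Ideal.mem_map_of_mem _ hl
  -- the `R`-algebra structure on `B'`
  letI algRB' : Algebra R B' := ((algebraMap R' B').comp (algebraMap R R')).toAlgebra
  haveI towB' : IsScalarTower R R' B' := IsScalarTower.of_algebraMap_eq (fun x => rfl)
  let γo : A →ₐ[R] B' :=
    (α'.restrictScalars R).comp (Algebra.TensorProduct.includeRight : A →ₐ[R] A')
  let go : B' →ₐ[R] Λ' := β'.restrictScalars R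
  have hmap : (Smoothing.singularIdeal R' B').map go = (Smoothing.singularIdeal R' B').map β' := rfl
  refine ⟨R', Λ', B', inferInstance, inferInstance, inferInstance, inferInstance, inferInstance,
    inferInstance, inferInstance, algRB', inferInstance, towB', Ideal.Quotient.mk_surjective,
    Ideal.mk_ker, Ideal.Quotient.mk_surjective, Ideal.mk_ker, hfpB', γo, go, ?_, ?_, ?_⟩
  · intro a
    change β' (α' ((1 : R') ⊗ₜ[R] a)) = _
    rw [hβα'', hφ']
    rfl
  · intro a ha
    rw [hmap]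
    obtain ⟨N, hN⟩ := hs1 a ha
    have h1 := hCle hN
    rw [Ideal.mem_map_iff_of_surjective _ hρΛsurj] at h1
    obtain ⟨l', hl', hl'x⟩ := h1
    have h2 : (Ideal.Quotient.mk (K.map (algebraMap R Λ)) (φ a)) ^ N - l' ∈
        RingHom.ker (algebraMap Λ' Λb) := by
      rw [RingHom.mem_ker, map_sub, map_pow, hρΛmk, hl'x, sub_self]
    have h3 : (Ideal.Quotient.mk (K.map (algebraMap R Λ)) (φ a)) ^ N ∈ 𝔯 := by
      have := Ideal.add_mem _ (hker𝔯 h2) hl'
      rwa [sub_add_cancel] at this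
    have h4 : Ideal.Quotient.mk (K.map (algebraMap R Λ)) (φ a) ∈ 𝔯.radical := ⟨N, h3⟩
    rw [h𝔯, Ideal.radical_idem] at h4
    exact h4
  · rw [hmap]
    intro hcon
    apply hs2
    haveI hq'prime : (𝔮.map (Ideal.Quotient.mk (K.map (algebraMap R Λ)))).IsPrime := by
      refine Ideal.map_isPrime_of_surjective Ideal.Quotient.mk_surjective ?_
      rw [Ideal.mk_ker]
      exact hK𝔮
    have h𝔯le : 𝔯 ≤ 𝔮.map (algebraMap Λ Λ') := by
      rw [h𝔯]
      exact (Ideal.IsPrime.radical_le_iff hq'prime).mpr hcon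
    refine hCle.trans ?_
    have h5 : 𝔮.map (algebraMap Λ Λb) = (𝔮.map (algebraMap Λ Λ')).map (algebraMap Λ' Λb) := by
      rw [Ideal.map_map]
      rfl
    rw [h5]
    exact Ideal.map_mono h𝔯le

end Step

end Groth.Agent.Helper8.LiftB
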