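import Mathlib
import Groth.Agent.Lib.Helper8.LiftB3

/-!
# Stacks 16.9.1: initial and final steps
-/

set_option autoImplicit false
universe u

namespace Groth.Agent.Helper8.LiftB

open Smoothing TensorProduct

section Final

variable {R A Λ : Type u} [CommRing R] [CommRing A] [Algebra R A] [CommRing Λ] [Algebra R Λ]

theorem resolvable_of_resMod_bot (φ : A →ₐ[R] Λ) (𝔮 : Ideal Λ) (h : ResMod φ 𝔮 ⊥) :
    Smoothing.Resolvable R φ 𝔮 := by
  classical
  obtain ⟨Rb, Λb, C, _, _, _, _, _, _, _, _, _, _, hRb1, hRb2, hΛb1, hΛb2, hfpC, γ, g, hfac,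
    hs1, hs2⟩ := h
  haveI := hfpC
  have hbijR : Function.Bijective (algebraMap R Rb) :=
    ⟨(RingHom.injective_iff_ker_eq_bot _).mpr hRb2, hRb1⟩
  have hbijΛ : Function.Bijective (algebraMap Λ Λb) := by
    refine ⟨(RingHom.injective_iff_ker_eq_bot _).mpr ?_, hΛb1⟩
    rw [hΛb2, Ideal.map_bot]
  haveI hfp : Algebra.FinitePresentation R C := finitePresentation_of_bijective hbijR
  have hsing : Smoothing.singularIdeal R C = Smoothing.singularIdeal Rb C :=
    singularIdeal_eq_of_bijective hbijR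
  let e : Λ ≃+* Λb := RingEquiv.ofBijective (algebraMap Λ Λb) hbijΛ
  have he : ∀ l, e l = algebraMap Λ Λb l := fun l => rfl
  have hesymm : ∀ l, e.symm (algebraMap Λ Λb l) = l := fun l => e.symm_apply_apply l
  let h : C →ₐ[R] Λ :=
    { toRingHom := e.symm.toRingHom.comp g.toRingHom
      commutes' := by
        intro r
        change e.symm (g (algebraMap R C r)) = _
        rw [g.commutes, IsScalarTower.algebraMap_apply R Λ Λb, hesymm] }
  have hh : ∀ x, h x = e.symm (g x) := fun x => rfl
  have heh : ∀ x, algebraMap Λ Λb (h x) = g x := by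
    intro x
    rw [hh, ← he]
    exact e.apply_symm_apply _
  have hmapg : (Smoothing.singularIdeal Rb C).map g =
      ((Smoothing.singularIdeal R C).map h).map (algebraMap Λ Λb) := by
    change Ideal.map g.toRingHom _ = Ideal.map (algebraMap Λ Λb) (Ideal.map h.toRingHom _)
    rw [Ideal.map_map, hsing]
    congr 1
    ext x
    exact (heh x).symm
  refine ⟨C, inferInstance, inferInstance, hfp, γ, h, ?_, ?_, ?_⟩
  · ext a
    change h (γ a) = φ a
    rw [hh, hfac, hesymm]
  · unfold Smoothing.singRad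
    rw [Ideal.radical_le_radical_iff, Ideal.map_le_iff_le_comap]
    intro a ha
    rw [Ideal.mem_comap]
    obtain ⟨N, hN⟩ := hs1 a ha
    refine ⟨N, ?_⟩
    rw [hmapg, ← map_pow, Ideal.mem_map_iff_of_surjective _ hΛb1] at hN
    obtain ⟨l, hl, hlN⟩ := hN
    have := hbijΛ.1 hlN
    rw [← this]
    exact hl
  · unfold Smoothing.singRad
    intro hcon
    apply hs2
    rw [hmapg]
    exact Ideal.map_mono (Ideal.le_radical.trans hcon)

end Final

section BaseChange

variable {R A : Type u} [CommRing R] [CommRing A] [Algebra R A] (K : Ideal R)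

/-- Formal smoothness of a local ring passes to the quotient by an ideal of the base. -/
theorem formallySmooth_quotient_atPrime (P : Ideal (A ⧸ K.map (algebraMap R A))) [P.IsPrime]
    (h : Algebra.FormallySmooth R
      (Localization.AtPrime (P.comap (Ideal.Quotient.mk (K.map (algebraMap R A)))))) :
    Algebra.FormallySmooth (R ⧸ K) (Localization.AtPrime P) := by
  classical
  let Ab := A ⧸ K.map (algebraMap R A)
  let P' := P.comap (Ideal.Quotient.mk (K.map (algebraMap R A)))
  let S' := Localization.AtPrime P'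
  let S := Localization.AtPrime P
  -- the canonical map `A_{P'} → Ā_P`
  let ι₀ : S' →+* S := Localization.localRingHom P' P (Ideal.Quotient.mk _) rfl
  have hι₀ : ∀ a : A, ι₀ (algebraMap A S' a) = algebraMap Ab S (Ideal.Quotient.mk _ a) :=
    fun a => Localization.localRingHom_to_map P' P _ rfl a
  let ι : S' →ₐ[R] S :=
    { toRingHom := ι₀
      commutes' := by
        intro r
        change ι₀ (algebraMap R S' r) = algebraMap R S r
        rw [IsScalarTower.algebraMap_apply R A S', hι₀, IsScalarTower.algebraMap_apply R Ab S]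
        rfl }
  refine Algebra.FormallySmooth.of_comp_surjective fun T _ _ J hJ f => ?_
  letI algRT : Algebra R T := ((algebraMap (R ⧸ K) T).comp (algebraMap R (R ⧸ K))).toAlgebra
  haveI towT : IsScalarTower R (R ⧸ K) T := IsScalarTower.of_algebraMap_eq (fun x => rfl)
  obtain ⟨ℓ, hℓ⟩ := Algebra.FormallySmooth.comp_surjective R S' J hJ
    ((f.restrictScalars R).comp ι)
  have hℓ' : ∀ s, Ideal.Quotient.mk J (ℓ s) = f (ι s) := fun s => DFunLike.congr_fun hℓ s
  -- the induced map on the quotient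
  have hkill : ∀ a ∈ K.map (algebraMap R A),
      ((ℓ.comp (IsScalarTower.toAlgHom R A S')) : A →ₐ[R] T) a = 0 := by
    intro a ha
    have hle : K.map (algebraMap R A) ≤
        RingHom.ker (ℓ.comp (IsScalarTower.toAlgHom R A S')).toRingHom := by
      rw [Ideal.map_le_iff_le_comap]
      intro k hk
      rw [Ideal.mem_comap, RingHom.mem_ker]
      change (ℓ.comp (IsScalarTower.toAlgHom R A S')) (algebraMap R A k) = 0
      rw [AlgHom.commutes]
      change algebraMap (R ⧸ K) T (Ideal.Quotient.mk K k) = 0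
      rw [Ideal.Quotient.eq_zero_iff_mem.mpr hk, map_zero]
    exact hle ha
  let m₀ : Ab →ₐ[R] T := Ideal.Quotient.liftₐ _ (ℓ.comp (IsScalarTower.toAlgHom R A S')) hkill
  have hm₀ : ∀ a : A, m₀ (Ideal.Quotient.mk _ a) = ℓ (algebraMap A S' a) := fun a => rfl
  let m : Ab →ₐ[R ⧸ K] T :=
    { toRingHom := m₀.toRingHom
      commutes' := by
        intro x
        obtain ⟨r, rfl⟩ := Ideal.Quotient.mk_surjective x
        change m₀ (algebraMap R Ab r) = algebraMap R T r
        exact m₀.commutes r }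
  have hm : ∀ a : A, m (Ideal.Quotient.mk _ a) = ℓ (algebraMap A S' a) := fun a => rfl
  have hunit : ∀ y : P.primeCompl, IsUnit (m y) := by
    rintro ⟨y, hy⟩
    obtain ⟨a, rfl⟩ := Ideal.Quotient.mk_surjective y
    change IsUnit (m (Ideal.Quotient.mk _ a))
    rw [hm]
    refine IsUnit.map ℓ ?_
    exact IsLocalization.map_units S' (⟨a, hy⟩ : P'.primeCompl)
  let m' : S →ₐ[R ⧸ K] T := IsLocalization.liftAlgHom (M := P.primeCompl) (f := m) hunit
  have hm' : ∀ y : Ab, m' (algebraMap Ab S y) = m y := fun y =>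
    IsLocalization.lift_eq _ y
  refine ⟨m', ?_⟩
  refine IsLocalization.algHom_ext P.primeCompl ?_
  refine AlgHom.ext fun y => ?_
  obtain ⟨a, rfl⟩ := Ideal.Quotient.mk_surjective y
  change Ideal.Quotient.mk J (m' (algebraMap Ab S (Ideal.Quotient.mk _ a))) =
    f (algebraMap Ab S (Ideal.Quotient.mk _ a))
  rw [hm', hm, hℓ']
  change f (ι₀ (algebraMap A S' a)) = _
  rw [hι₀]

theorem mk_mem_singularIdeal_quotient (a : A) (ha : a ∈ Smoothing.singularIdeal R A) :
    Ideal.Quotient.mk (K.map (algebraMap R A)) a ∈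
      Smoothing.singularIdeal (R ⧸ K) (A ⧸ K.map (algebraMap R A)) := by
  rw [Smoothing.singularIdeal, PrimeSpectrum.mem_vanishingIdeal]
  intro P hP
  by_contra hcon
  apply hP
  change Algebra.FormallySmooth (R ⧸ K) (Localization.AtPrime P.asIdeal)
  apply formallySmooth_quotient_atPrime
  rw [Smoothing.singularIdeal, PrimeSpectrum.mem_vanishingIdeal] at ha
  by_contra hns
  apply hcon
  have := ha ⟨P.asIdeal.comap (Ideal.Quotient.mk (K.map (algebraMap R A))), inferInstance⟩ hns
  exact this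

end BaseChange

section Initial

variable {R A Λ : Type u} [CommRing R] [CommRing A] [Algebra R A] [CommRing Λ] [Algebra R Λ]

theorem resMod_of_resolvable (φ : A →ₐ[R] Λ) (𝔮 : Ideal Λ) [𝔮.IsPrime] (K : Ideal R)
    (hK𝔮 : K.map (algebraMap R Λ) ≤ 𝔮)
    (φK : (A ⧸ K.map (algebraMap R A)) →ₐ[R ⧸ K] (Λ ⧸ K.map (algebraMap R Λ)))
    (hφK : ∀ a : A, φK (Ideal.Quotient.mk _ a) = Ideal.Quotient.mk _ (φ a))
    (hres : Smoothing.Resolvable (R ⧸ K) φK
      (𝔮.map (Ideal.Quotient.mk (K.map (algebraMap R Λ))))) :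
    ResMod φ 𝔮 K := by
  classical
  obtain ⟨B, _, _, hfpB, g₀, h₀, hcomp, hle, hnle⟩ := hres
  letI algRB : Algebra R B := ((algebraMap (R ⧸ K) B).comp (algebraMap R (R ⧸ K))).toAlgebra
  haveI towB : IsScalarTower R (R ⧸ K) B := IsScalarTower.of_algebraMap_eq (fun x => rfl)
  let γ : A →ₐ[R] B := (g₀.restrictScalars R).comp (Ideal.Quotient.mkₐ R (K.map (algebraMap R A)))
  let g : B →ₐ[R] (Λ ⧸ K.map (algebraMap R Λ)) := h₀.restrictScalars R
  have hmap : (Smoothing.singularIdeal (R ⧸ K) B).map g =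
      (Smoothing.singularIdeal (R ⧸ K) B).map h₀ := rfl
  have hcomp' : ∀ x, h₀ (g₀ x) = φK x := fun x => DFunLike.congr_fun hcomp x
  haveI hq'prime : (𝔮.map (Ideal.Quotient.mk (K.map (algebraMap R Λ)))).IsPrime := by
    refine Ideal.map_isPrime_of_surjective Ideal.Quotient.mk_surjective ?_
    rw [Ideal.mk_ker]
    exact hK𝔮
  refine ⟨R ⧸ K, Λ ⧸ K.map (algebraMap R Λ), B, inferInstance, inferInstance, inferInstance,
    inferInstance, inferInstance, inferInstance, inferInstance, algRB, inferInstance, towB,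
    Ideal.Quotient.mk_surjective, Ideal.mk_ker, Ideal.Quotient.mk_surjective, Ideal.mk_ker,
    hfpB, γ, g, ?_, ?_, ?_⟩
  · intro a
    change h₀ (g₀ (Ideal.Quotient.mk _ a)) = _
    rw [hcomp', hφK]
    rfl
  · intro a ha
    rw [hmap]
    have h1 := mk_mem_singularIdeal_quotient K a ha
    have h2 : φK (Ideal.Quotient.mk _ a) ∈ Smoothing.singRad (R ⧸ K) φK :=
      Ideal.le_radical (Ideal.mem_map_of_mem φK h1)
    have h3 := hle h2
    rw [hφK] at h3
    exact h3
  · rw [hmap]
    intro hcon
    apply hnle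
    unfold Smoothing.singRad
    exact (Ideal.IsPrime.radical_le_iff hq'prime).mpr hcon

end Initial

end Groth.Agent.Helper8.LiftB
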