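import Mathlib
import Groth.Agent.Lib.Helper8.LiftB4

/-!
# Stacks 16.9.1: the induction
-/

set_option autoImplicit false
universe u

namespace Groth.Agent.Helper8.LiftB

open Smoothing

section Induction

variable {R : Type u} [CommRing R] {r : ℕ} (π : Fin r → R)

/-- The ideal generated by the eighth powers of the first `s` elements. -/
def Kid (s : ℕ) : Ideal R := Ideal.span ((fun j : Fin r => π j ^ 8) '' {j | (j : ℕ) < s})

theorem Kid_zero : Kid π 0 = ⊥ := by
  unfold Kid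
  simp

theorem Kid_top : Kid π r = Ideal.span (Set.range fun j : Fin r => π j ^ 8) := by
  unfold Kid
  have : {j : Fin r | (j : ℕ) < r} = Set.univ := by
    ext j
    simp [j.isLt]
  rw [this, Set.image_univ]

theorem Kid_succ (i : Fin r) : Kid π ((i : ℕ) + 1) = Kid π i ⊔ Ideal.span {π i ^ 8} := by
  unfold Kid
  have : {j : Fin r | (j : ℕ) < (i : ℕ) + 1} = {j : Fin r | (j : ℕ) < (i : ℕ)} ∪ {i} := by
    ext j
    simp only [Set.mem_ofPred_eq, Set.mem_union, Set.mem_singleton_iff, Fin.ext_iff]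
    omega
  rw [this, Set.image_union, Ideal.span_union, Set.image_singleton]

theorem Kid_eq_range (i : Fin r) :
    Ideal.span (Set.range fun j : {j : Fin r // (j : ℕ) < (i : ℕ)} => π j ^ 8) = Kid π i := by
  unfold Kid
  congr 1
  ext x
  simp only [Set.mem_range, Set.mem_image, Set.mem_ofPred_eq, Subtype.exists, exists_prop]

theorem Kid_map_eq_range {Λ : Type u} [CommRing Λ] [Algebra R Λ] (i : Fin r) :
    Ideal.span (Set.range fun j : {j : Fin r // (j : ℕ) < (i : ℕ)} => algebraMap R Λ (π j) ^ 8) =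
      (Kid π i).map (algebraMap R Λ) := by
  rw [← Kid_eq_range, Ideal.map_span, ← Set.range_comp]
  congr 2
  funext j
  simp only [Function.comp_apply, map_pow]

theorem Kid_map_le {Λ : Type u} [CommRing Λ] [Algebra R Λ] (𝔮 : Ideal Λ)
    (hπ𝔮 : ∀ i, algebraMap R Λ (π i) ∈ 𝔮) (s : ℕ) : (Kid π s).map (algebraMap R Λ) ≤ 𝔮 := by
  unfold Kid
  rw [Ideal.map_span, Ideal.span_le]
  rintro _ ⟨_, ⟨j, _, rfl⟩, rfl⟩
  rw [SetLike.mem_coe, map_pow]
  exact Ideal.pow_mem_of_mem _ (hπ𝔮 j) 8 (by norm_num)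

theorem resolve_sequence {R A Λ : Type u} [CommRing R] [IsNoetherianRing R]
    [CommRing A] [Algebra R A] [Algebra.FinitePresentation R A] [CommRing Λ] [Algebra R Λ]
    (φ : A →ₐ[R] Λ) (𝔮 : Ideal Λ) [𝔮.IsPrime] {r : ℕ} (π : Fin r → R)
    (hπ𝔮 : ∀ i, algebraMap R Λ (π i) ∈ 𝔮)
    (hR : ∀ i : Fin r, ∀ x : R ⧸ Ideal.span (Set.range fun j : {j : Fin r // (j : ℕ) < (i : ℕ)} => π j ^ 8),
      Ideal.Quotient.mk _ (π i) ^ 2 * x = 0 → Ideal.Quotient.mk _ (π i) * x = 0)
    (hΛ : ∀ i : Fin r, ∀ x : Λ ⧸ Ideal.span (Set.range fun j : {j : Fin r // (j : ℕ) < (i : ℕ)} =>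
        algebraMap R Λ (π j) ^ 8),
      Ideal.Quotient.mk _ (algebraMap R Λ (π i)) ^ 2 * x = 0 → Ideal.Quotient.mk _ (algebraMap R Λ (π i)) * x = 0)
    (hstd : ∀ i, Smoothing.IsStrictlyStandard R A (algebraMap R A (π i)))
    (K : Ideal R) (hK : K = Ideal.span (Set.range fun i => π i ^ 8))
    (φK : (A ⧸ K.map (algebraMap R A)) →ₐ[R ⧸ K] (Λ ⧸ K.map (algebraMap R Λ)))
    (hφK : ∀ a : A, φK (Ideal.Quotient.mk _ a) = Ideal.Quotient.mk _ (φ a))
    (hres : Smoothing.Resolvable (R ⧸ K) φK (𝔮.map (Ideal.Quotient.mk (K.map (algebraMap R Λ))))) :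
    Smoothing.Resolvable R φ 𝔮 := by
  classical
  have hKtop : K = Kid π r := by rw [hK, Kid_top]
  have hK𝔮 : K.map (algebraMap R Λ) ≤ 𝔮 := by
    rw [hKtop]
    exact Kid_map_le π 𝔮 hπ𝔮 r
  have h0 : ResMod φ 𝔮 K := resMod_of_resolvable φ 𝔮 K hK𝔮 φK hφK hres
  -- ideal forms of the annihilator conditions
  have hR' : ∀ i : Fin r, ∀ x : R, π i ^ 2 * x ∈ Kid π i → π i * x ∈ Kid π i := by
    intro i x hx
    have h1 := hR i (Ideal.Quotient.mk _ x) (by
      rw [← map_pow, ← map_mul, Ideal.Quotient.eq_zero_iff_mem, Kid_eq_range]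
      exact hx)
    rw [← map_mul, Ideal.Quotient.eq_zero_iff_mem, Kid_eq_range] at h1
    exact h1
  have hΛ' : ∀ i : Fin r, ∀ x : Λ, algebraMap R Λ (π i) ^ 2 * x ∈ (Kid π i).map (algebraMap R Λ) →
      algebraMap R Λ (π i) * x ∈ (Kid π i).map (algebraMap R Λ) := by
    intro i x hx
    have h1 := hΛ i (Ideal.Quotient.mk _ x) (by
      rw [← map_pow, ← map_mul, Ideal.Quotient.eq_zero_iff_mem, Kid_map_eq_range]
      exact hx)
    rw [← map_mul, Ideal.Quotient.eq_zero_iff_mem, Kid_map_eq_range] at h1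
    exact h1
  -- downward induction
  have hind : ∀ t : ℕ, t ≤ r → ResMod φ 𝔮 (Kid π (r - t)) := by
    intro t
    induction t with
    | zero =>
      intro _
      rw [Nat.sub_zero, ← hKtop]
      exact h0
    | succ t ih =>
      intro ht
      have ih' := ih (by omega)
      let i : Fin r := ⟨r - (t + 1), by omega⟩
      have hi : r - t = (i : ℕ) + 1 := by
        change r - t = r - (t + 1) + 1
        omega
      rw [hi, Kid_succ] at ih'
      exact resMod_step φ 𝔮 (Kid π i) (π i) (Kid_map_le π 𝔮 hπ𝔮 _) (hR' i) (hΛ' i) (hstd i) ih'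
  have hfin := hind r le_rfl
  rw [Nat.sub_self, Kid_zero] at hfin
  exact resolvable_of_resMod_bot φ 𝔮 hfin

end Induction

end Groth.Agent.Helper8.LiftB
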