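import Mathlib

/-!
# Separable residue fields, II: powers of variables are nonzerodivisors modulo powers of the others
-/

set_option autoImplicit false
universe u

namespace Groth.Agent.Helper8.SepR

open MvPolynomial

section Monomial

variable {k : Type u} [CommRing k] {σ : Type} [DecidableEq σ]

theorem span_X_pow_eq (S : Set σ) (e : ℕ) :
    Ideal.span ((fun j : σ => (X j : MvPolynomial σ k) ^ e) '' S) =
      Ideal.span ((fun s => monomial s (1 : k)) '' ((fun j : σ => Finsupp.single j e) '' S)) := by
  rw [Set.image_image]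
  congr 1
  ext p
  simp only [Set.mem_image, X_pow_eq_monomial]

/-- `X_i^m` is a nonzerodivisor modulo the ideal generated by `e`-th powers of other variables. -/
theorem mem_of_X_pow_mul_mem (S : Set σ) (e : ℕ) (i : σ) (hi : i ∉ S) (m : ℕ)
    (p : MvPolynomial σ k)
    (h : (X i : MvPolynomial σ k) ^ m * p ∈
      Ideal.span ((fun j : σ => (X j : MvPolynomial σ k) ^ e) '' S)) :
    p ∈ Ideal.span ((fun j : σ => (X j : MvPolynomial σ k) ^ e) '' S) := by
  rw [span_X_pow_eq, mem_ideal_span_monomial_image] at h ⊢
  intro s hs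
  have h1 : Finsupp.single i m + s ∈ ((X i : MvPolynomial σ k) ^ m * p).support := by
    rw [mem_support_iff, X_pow_eq_monomial, coeff_monomial_mul, one_mul]
    exact mem_support_iff.mp hs
  obtain ⟨si, ⟨j, hj, rfl⟩, hle⟩ := h _ h1
  refine ⟨_, ⟨j, hj, rfl⟩, ?_⟩
  have hji : j ≠ i := fun hc => hi (hc ▸ hj)
  intro a
  have := hle a
  by_cases haj : a = j
  · subst haj
    simpa [Finsupp.single_apply, hji, Ne.symm hji] using this
  · simp [Finsupp.single_apply, Ne.symm haj]

end Monomial

end Groth.Agent.Helper8.SepR
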