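import Mathlib
import Groth.Agent.Lib.Helper1.Minors

/-!
# Towards the converse: smooth localizations with stably free differentials
-/

set_option autoImplicit false
universe u

namespace Groth.Agent.Helper8.StrStd

open TensorProduct Algebra KaehlerDifferential MvPolynomial

/-- If a localization `S` of `A` is formally smooth over `R`, the localized conormal sequence of
any presentation of `A` is split injective. -/
theorem exists_retraction_of_formallySmooth_localization {R A : Type u} [CommRing R] [CommRing A]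
    [Algebra R A] {ι : Type*} (G : Generators R A ι) (M : Submonoid A)
    (S : Type u) [CommRing S] [Algebra A S] [Algebra R S] [IsScalarTower R A S]
    [IsLocalization M S] [Algebra.FormallySmooth R S] :
    ∃ ρ : S ⊗[A] G.toExtension.CotangentSpace →ₗ[S] S ⊗[A] G.toExtension.Cotangent,
      ρ ∘ₗ (G.toExtension.cotangentComplex.baseChange S) = LinearMap.id := by
  let E := G.toExtension
  let d := E.cotangentComplex
  haveI : Module.Flat A S := IsLocalization.flat S M
  have h1 : Function.Exact (E.h1Cotangentι.baseChange S) (d.baseChange S) :=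
    Module.Flat.lTensor_exact S (LinearMap.exact_subtype_ker_map _)
  haveI : Subsingleton (S ⊗[A] E.H1Cotangent) := by
    have e1 : S ⊗[A] E.H1Cotangent ≃ₗ[A] S ⊗[A] H1Cotangent R A :=
      TensorProduct.congr (LinearEquiv.refl A S) G.equivH1Cotangent
    have e2 := Algebra.tensorH1CotangentOfIsLocalization R (S := A) S M
    exact (e1.toEquiv.trans e2.toEquiv).subsingleton
  have hinj : Function.Injective (d.baseChange S) := by
    rw [injective_iff_map_eq_zero]
    intro x hx
    obtain ⟨y, rfl⟩ := (h1 x).mp hx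
    rw [Subsingleton.elim y 0, map_zero]
  have h2 : Function.Exact (d.baseChange S) (E.toKaehler.baseChange S) :=
    lTensor_exact S E.exact_cotangentComplex_toKaehler E.toKaehler_surjective
  have hsurj : Function.Surjective (E.toKaehler.baseChange S) :=
    LinearMap.lTensor_surjective S E.toKaehler_surjective
  haveI : Module.Projective S (S ⊗[A] Ω[A⁄R]) := by
    haveI : Algebra.FormallyEtale A S := Algebra.FormallyEtale.of_isLocalization M
    exact Module.Projective.of_equiv (tensorKaehlerEquivOfFormallyEtale R A S).symm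
  exact ((h2.split_tfae'.out 0 1 rfl rfl).mp
    ⟨hinj, Module.projective_lifting_property _ _ hsurj⟩).2

/-- Clearing denominators in a localized quotient: if the elements `1 ⊗ x j` span `A_a ⊗ N`, then
every element of `N` is multiplied into the span of the `x j` by a power of `a`. -/
theorem exists_pow_smul_mem_span {A : Type u} [CommRing A] {N : Type*} [AddCommGroup N]
    [Module A N] (a : A) (S : Type u) [CommRing S] [Algebra A S] [IsLocalization.Away a S]
    {ι : Type*} (x : ι → N)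
    (hx : Submodule.span S (Set.range fun j => (1 : S) ⊗ₜ[A] x j) = ⊤) (y : N) :
    ∃ k : ℕ, a ^ k • y ∈ Submodule.span A (Set.range x) := by
  let N₀ := Submodule.span A (Set.range x)
  have hzero : N₀.mkQ.baseChange S = 0 := by
    have htop : (⊤ : Submodule S (S ⊗[A] N)) ≤ LinearMap.ker (N₀.mkQ.baseChange S) := by
      rw [← hx, Submodule.span_le]
      rintro _ ⟨j, rfl⟩
      simp only [SetLike.mem_coe, LinearMap.mem_ker, LinearMap.baseChange_tmul]
      have : N₀.mkQ (x j) = 0 := by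
        rw [Submodule.mkQ_apply, Submodule.Quotient.mk_eq_zero]
        exact Submodule.subset_span ⟨j, rfl⟩
      rw [this, tmul_zero]
    refine LinearMap.ext fun y => ?_
    exact htop (Submodule.mem_top (x := y))
  have h1 : (1 : S) ⊗ₜ[A] (N₀.mkQ y) = 0 := by
    have := congr($hzero ((1 : S) ⊗ₜ[A] y))
    simpa using this
  have h2 : TensorProduct.mk A S (N ⧸ N₀) 1 (N₀.mkQ y) = 0 := h1
  rw [IsLocalizedModule.eq_zero_iff (Submonoid.powers a)] at h2
  obtain ⟨⟨_, k, rfl⟩, hk⟩ := h2
  refine ⟨k, ?_⟩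
  have hk' : a ^ k • N₀.mkQ y = 0 := hk
  rwa [← map_smul, Submodule.mkQ_apply, Submodule.Quotient.mk_eq_zero] at hk'

/-- Module theory: the kernel of a surjection `S^{n₀} × S^q → Ω` vanishing on the second factor is
free of rank `n₀ + p` whenever `Ω × S^p ≃ S^q` and `Ω` is projective. -/
theorem nonempty_ker_equiv_of_stablyFree {S : Type u} [CommRing S] {n₀ p q : ℕ} {Ω : Type*}
    [AddCommGroup Ω] [Module S Ω] [Module.Projective S Ω]
    (e : (Ω × (Fin p → S)) ≃ₗ[S] (Fin q → S))
    (π : ((Fin n₀ → S) × (Fin q → S)) →ₗ[S] Ω) (hπ : Function.Surjective π)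
    (hπ0 : ∀ w, π (0, w) = 0) :
    Nonempty (LinearMap.ker π ≃ₗ[S] (Fin (n₀ + p) → S)) := by
  let π₀ : (Fin n₀ → S) →ₗ[S] Ω := π ∘ₗ LinearMap.inl S _ _
  have hπeq : ∀ u w, π (u, w) = π₀ u := by
    intro u w
    have : (u, w) = (u, 0) + (0, w) := by simp
    rw [this, map_add, hπ0, add_zero]
    rfl
  have hπ₀ : Function.Surjective π₀ := by
    intro ω
    obtain ⟨⟨u, w⟩, h⟩ := hπ ω
    exact ⟨u, by rw [← h, hπeq]⟩
  obtain ⟨σ, hσ⟩ := Module.projective_lifting_property π₀ LinearMap.id hπ₀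
  have hσ' : ∀ ω, π₀ (σ ω) = ω := fun ω => congr($hσ ω)
  let f : LinearMap.ker π →ₗ[S] (Fin n₀ → S) × (Fin p → S) :=
    (((LinearMap.fst S _ _) + σ ∘ₗ (LinearMap.fst S _ _) ∘ₗ e.symm.toLinearMap ∘ₗ
      (LinearMap.snd S _ _)).prod
      ((LinearMap.snd S _ _) ∘ₗ e.symm.toLinearMap ∘ₗ (LinearMap.snd S _ _))) ∘ₗ
      (LinearMap.ker π).subtype
  let g₀ : (Fin n₀ → S) × (Fin p → S) →ₗ[S] (Fin n₀ → S) × (Fin q → S) :=
    ((LinearMap.fst S _ _) - σ ∘ₗ π₀ ∘ₗ (LinearMap.fst S _ _)).prod
      (e.toLinearMap ∘ₗ ((π₀ ∘ₗ (LinearMap.fst S _ _)).prod (LinearMap.snd S _ _)))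
  have hf_apply : ∀ z : LinearMap.ker π,
      f z = (z.1.1 + σ (e.symm z.1.2).1, (e.symm z.1.2).2) := fun z => rfl
  have hg₀_apply : ∀ u v, g₀ (u, v) = (u - σ (π₀ u), e (π₀ u, v)) := fun _ _ => rfl
  have hg₀ : ∀ z, g₀ z ∈ LinearMap.ker π := by
    rintro ⟨u, v⟩
    rw [LinearMap.mem_ker, hg₀_apply, hπeq, map_sub, hσ', sub_self]
  let g : (Fin n₀ → S) × (Fin p → S) →ₗ[S] LinearMap.ker π := g₀.codRestrict _ hg₀
  have hg_apply : ∀ z, (g z).1 = g₀ z := fun z => rfl
  have hfg : f ∘ₗ g = LinearMap.id := by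
    refine LinearMap.ext fun z => ?_
    obtain ⟨u, v⟩ := z
    rw [LinearMap.comp_apply, hf_apply, hg_apply, hg₀_apply, LinearMap.id_apply]
    simp only [LinearEquiv.symm_apply_apply]
    rw [sub_add_cancel]
  have hgf : g ∘ₗ f = LinearMap.id := by
    refine LinearMap.ext fun z => ?_
    obtain ⟨⟨u, w⟩, hz⟩ := z
    have hu : π₀ u = 0 := by rw [← hπeq u w]; exact hz
    apply Subtype.ext
    rw [LinearMap.comp_apply, hg_apply, hf_apply, hg₀_apply, LinearMap.id_apply]
    simp only [map_add, hu, hσ', zero_add, add_sub_cancel_right, Prod.mk.eta,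
      LinearEquiv.apply_symm_apply]
  let e1 : LinearMap.ker π ≃ₗ[S] (Fin n₀ → S) × (Fin p → S) := LinearEquiv.ofLinearMap f g hfg hgf
  let e2 : ((Fin n₀ → S) × (Fin p → S)) ≃ₗ[S] (Fin n₀ ⊕ Fin p → S) :=
    (LinearEquiv.sumArrowLequivProdArrow (Fin n₀) (Fin p) S S).symm
  let e3 : (Fin n₀ ⊕ Fin p → S) ≃ₗ[S] (Fin (n₀ + p) → S) :=
    LinearEquiv.funCongrLeft S S finSumFinEquiv.symm
  exact ⟨e1.trans (e2.trans e3)⟩

end Groth.Agent.Helper8.StrStd
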