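import Mathlib
import Groth.Agent.Lib.Helper8.StrStd3

/-!
# Freeness of the localized conormal module after adding variables
-/

set_option autoImplicit false
universe u

namespace Groth.Agent.Helper8.StrStd

open TensorProduct Algebra KaehlerDifferential MvPolynomial

theorem nonempty_cotangent_equiv {R A : Type u} [CommRing R] [CommRing A] [Algebra R A]
    {n₀ p q : ℕ} (G : Generators R A (Fin (n₀ + q)))
    (hval0 : ∀ k : Fin q, G.val (Fin.natAdd n₀ k) = 0) (a : A)
    (S : Type u) [CommRing S] [Algebra A S] [Algebra R S] [IsScalarTower R A S]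
    [IsLocalization.Away a S] [Algebra.FormallySmooth R S]
    (e : (Ω[S⁄R] × (Fin p → S)) ≃ₗ[S] (Fin q → S)) :
    Nonempty (S ⊗[A] G.toExtension.Cotangent ≃ₗ[S] (Fin (n₀ + p) → S)) := by
  obtain ⟨ρ, hρ⟩ := exists_retraction_of_formallySmooth_localization G (Submonoid.powers a) S
  let dS := G.toExtension.cotangentComplex.baseChange S
  have hdinj : Function.Injective dS := by
    intro y z hyz
    have h3 : ∀ w, ρ (dS w) = w := fun w => congr($hρ w)
    rw [← h3 y, ← h3 z, hyz]
  have hexact : Function.Exact dS (G.toExtension.toKaehler.baseChange S) :=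
    lTensor_exact S G.toExtension.exact_cotangentComplex_toKaehler
      G.toExtension.toKaehler_surjective
  have hsurj : Function.Surjective (G.toExtension.toKaehler.baseChange S) :=
    LinearMap.lTensor_surjective S G.toExtension.toKaehler_surjective
  haveI : Algebra.FormallyEtale A S := Algebra.FormallyEtale.of_isLocalization (Submonoid.powers a)
  let eΩ : S ⊗[A] Ω[A⁄R] ≃ₗ[S] Ω[S⁄R] := tensorKaehlerEquivOfFormallyEtale R A S
  let b : Module.Basis (Fin (n₀ + q)) S (S ⊗[A] G.toExtension.CotangentSpace) :=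
    G.cotangentSpaceBasis.baseChange S
  let b' : Module.Basis (Fin n₀ ⊕ Fin q) S (S ⊗[A] G.toExtension.CotangentSpace) :=
    b.reindex finSumFinEquiv.symm
  let Ψ : S ⊗[A] G.toExtension.CotangentSpace ≃ₗ[S] (Fin n₀ → S) × (Fin q → S) :=
    b'.equivFun.trans (LinearEquiv.sumArrowLequivProdArrow (Fin n₀) (Fin q) S S)
  let πS : S ⊗[A] G.toExtension.CotangentSpace →ₗ[S] Ω[S⁄R] :=
    eΩ.toLinearMap ∘ₗ G.toExtension.toKaehler.baseChange S
  let π : ((Fin n₀ → S) × (Fin q → S)) →ₗ[S] Ω[S⁄R] := πS ∘ₗ Ψ.symm.toLinearMap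
  have hπsurj : Function.Surjective π :=
    (eΩ.surjective.comp hsurj).comp Ψ.symm.surjective
  have hb'inr : ∀ k : Fin q, πS (b' (Sum.inr k)) = 0 := by
    intro k
    have h1 : b' (Sum.inr k) = (1 : S) ⊗ₜ[A] G.cotangentSpaceBasis (Fin.natAdd n₀ k) := by
      simp [b', b, Module.Basis.baseChange_apply]
    rw [h1]
    simp only [πS, LinearMap.comp_apply, LinearMap.baseChange_tmul,
      Generators.toKaehler_cotangentSpaceBasis, hval0, map_zero, tmul_zero]
  have hπ0 : ∀ w, π (0, w) = 0 := by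
    intro w
    have h1 : Ψ.symm (0, w) = ∑ k, w k • b' (Sum.inr k) := by
      simp only [Ψ, LinearEquiv.trans_symm, LinearEquiv.trans_apply]
      rw [Module.Basis.equivFun_symm_apply, Fintype.sum_sum_type]
      simp [LinearEquiv.sumArrowLequivProdArrow]
    simp only [π, LinearMap.comp_apply, LinearEquiv.coe_coe, h1, map_sum, map_smul, hb'inr,
      smul_zero, Finset.sum_const_zero]
  obtain ⟨efree⟩ := nonempty_ker_equiv_of_stablyFree e π hπsurj hπ0
  -- `S ⊗ N ≃ ker π`
  have hker : LinearMap.ker πS = LinearMap.range dS := by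
    rw [← LinearMap.exact_iff.mp hexact]
    exact LinearEquiv.ker_comp _ _
  let e1 : S ⊗[A] G.toExtension.Cotangent ≃ₗ[S] LinearMap.range dS :=
    LinearEquiv.ofInjective dS hdinj
  let e2 : LinearMap.range dS ≃ₗ[S] LinearMap.ker πS := LinearEquiv.ofEq _ _ hker.symm
  let e3 : LinearMap.ker πS ≃ₗ[S] (LinearMap.ker πS).map Ψ.toLinearMap :=
    Ψ.submoduleMap (LinearMap.ker πS)
  have hmap : (LinearMap.ker πS).map Ψ.toLinearMap = LinearMap.ker π := by
    ext z
    simp only [Submodule.mem_map, LinearMap.mem_ker, π, LinearMap.comp_apply, LinearEquiv.coe_coe]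
    constructor
    · rintro ⟨y, hy, rfl⟩
      rwa [LinearEquiv.symm_apply_apply]
    · intro hz
      exact ⟨Ψ.symm z, hz, LinearEquiv.apply_symm_apply _ _⟩
  let e4 : (LinearMap.ker πS).map Ψ.toLinearMap ≃ₗ[S] LinearMap.ker π := LinearEquiv.ofEq _ _ hmap
  exact ⟨e1.trans (e2.trans (e3.trans (e4.trans efree)))⟩

end Groth.Agent.Helper8.StrStd
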