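import Mathlib
import Groth.Agent.Lib.Helper8.StrStd4

/-!
# Choosing relations giving a basis of the localized conormal module
-/

set_option autoImplicit false
universe u

namespace Groth.Agent.Helper8.StrStd

open TensorProduct Algebra KaehlerDifferential MvPolynomial

/-- With the notation of `nonempty_cotangent_equiv`: there are `c ≤ n₀ + q` and elements
`f_1, …, f_c` of the kernel whose classes form a basis of the localized conormal module. -/
theorem exists_basis_of_relations {R A : Type u} [CommRing R] [CommRing A] [Algebra R A]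
    {n₀ p q : ℕ} (G : Generators R A (Fin (n₀ + q)))
    (hval0 : ∀ k : Fin q, G.val (Fin.natAdd n₀ k) = 0) (a : A)
    (S : Type u) [CommRing S] [Algebra A S] [Algebra R S] [IsScalarTower R A S]
    [IsLocalization.Away a S] [Algebra.FormallySmooth R S]
    (e : (Ω[S⁄R] × (Fin p → S)) ≃ₗ[S] (Fin q → S)) :
    ∃ (c : ℕ) (_ : c ≤ n₀ + q) (f : Fin c → G.toExtension.ker)
      (β : Module.Basis (Fin c) S (S ⊗[A] G.toExtension.Cotangent)),
      ∀ j, β j = (1 : S) ⊗ₜ[A] Extension.Cotangent.mk (f j) := by
  -- first the rank and a basis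
  obtain ⟨c, hcn, ⟨β₀⟩⟩ : ∃ c : ℕ, c ≤ n₀ + q ∧
      Nonempty (S ⊗[A] G.toExtension.Cotangent ≃ₗ[S] (Fin c → S)) := by
    rcases subsingleton_or_nontrivial S with hS | hS
    · refine ⟨0, Nat.zero_le _, ⟨?_⟩⟩
      haveI : Subsingleton (S ⊗[A] G.toExtension.Cotangent) := Module.subsingleton S _
      exact
        { toFun := fun _ => 0
          invFun := fun _ => 0
          map_add' := fun _ _ => by simp
          map_smul' := fun _ _ => by simp
          left_inv := fun _ => Subsingleton.elim _ _
          right_inv := fun _ => Subsingleton.elim _ _ }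
    · refine ⟨n₀ + p, ?_, nonempty_cotangent_equiv G hval0 a S e⟩
      have hinj : Function.Injective (e.toLinearMap ∘ₗ LinearMap.inr S Ω[S⁄R] (Fin p → S)) :=
        e.injective.comp LinearMap.inr_injective
      have := le_of_fin_injective S _ hinj
      omega
  let β : Module.Basis (Fin c) S (S ⊗[A] G.toExtension.Cotangent) := Module.Basis.ofEquivFun β₀
  have hsurj : ∀ j, ∃ (k : ℕ) (f : G.toExtension.ker),
      algebraMap A S (a ^ k) • β j = (1 : S) ⊗ₜ[A] Extension.Cotangent.mk f := by
    intro j
    obtain ⟨⟨x, ⟨_, k, rfl⟩⟩, h⟩ := IsLocalizedModule.surj (Submonoid.powers a)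
      (TensorProduct.mk A S G.toExtension.Cotangent 1) (β j)
    obtain ⟨f, rfl⟩ := Extension.Cotangent.mk_surjective x
    refine ⟨k, f, ?_⟩
    rw [algebraMap_smul]
    exact h
  choose k f hkf using hsurj
  have hunit : ∀ j, IsUnit (algebraMap A S (a ^ k j)) := fun j =>
    IsLocalization.map_units S (⟨a ^ k j, k j, rfl⟩ : Submonoid.powers a)
  let β' : Module.Basis (Fin c) S (S ⊗[A] G.toExtension.Cotangent) :=
    β.unitsSMul fun j => (hunit j).unit
  refine ⟨c, hcn, f, β', fun j => ?_⟩
  rw [← hkf j]
  simp [β', Module.Basis.unitsSMul_apply, Units.smul_def]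

end Groth.Agent.Helper8.StrStd
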