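import Mathlib
import Groth.Prelude.Def_Smoothing
import Groth.Agent.Lib.Helper8.StrStd5
import Groth.Agent.Lib.Helper8.JacPt3

/-!
# Powers of `a` are strictly standard when `A_a` is smooth with stably free differentials
-/

set_option autoImplicit false
universe u

namespace Groth.Agent.Helper8.StrStd

open TensorProduct Algebra KaehlerDifferential MvPolynomial Smoothing

/-- A unit ideal after localizing at `a` contains a power of `a`. -/
theorem exists_pow_mem_of_map_eq_top {A : Type u} [CommRing A] (a : A) (S : Type u) [CommRing S]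
    [Algebra A S] [IsLocalization.Away a S] (I : Ideal A)
    (h : (1 : S) ∈ I.map (algebraMap A S)) : ∃ k : ℕ, a ^ k ∈ I := by
  rw [IsLocalization.mem_map_algebraMap_iff (Submonoid.powers a)] at h
  obtain ⟨⟨⟨i, hi⟩, ⟨_, k, rfl⟩⟩, h⟩ := h
  rw [one_mul] at h
  obtain ⟨⟨_, k', rfl⟩, hc⟩ := (IsLocalization.eq_iff_exists (Submonoid.powers a) S).mp h
  refine ⟨k' + k, ?_⟩
  rw [pow_add]
  simp only at hc
  rw [hc]
  exact I.mul_mem_left _ hi

/-- The maximal minors of the matrix of a split injection between free modules generate the unit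
ideal. -/
theorem one_mem_span_minors {S : Type u} [CommRing S] {N F : Type*} [AddCommGroup N] [Module S N]
    [AddCommGroup F] [Module S F] {c n : ℕ} (β : Module.Basis (Fin c) S N)
    (b : Module.Basis (Fin n) S F) (d : N →ₗ[S] F) (ρ : F →ₗ[S] N) (hρ : ρ ∘ₗ d = LinearMap.id) :
    (1 : S) ∈ Ideal.span (Set.range fun cols : Fin c → Fin n =>
      (Matrix.submatrix (fun j i => b.repr (d (β j)) i : Matrix (Fin c) (Fin n) S) id cols).det) := by
  let J : Matrix (Fin c) (Fin n) S := fun j i => b.repr (d (β j)) i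
  let B : Matrix (Fin c) (Fin n) S := fun k i => β.repr (ρ (b i)) k
  have hBJ : B * J.transpose = 1 := by
    refine Matrix.ext fun k j => ?_
    rw [Matrix.mul_apply]
    have h0 : ∀ i, B k i * J.transpose i j = β.repr (ρ (b i)) k * b.repr (d (β j)) i :=
      fun i => rfl
    simp only [h0]
    have h1 : ρ (d (β j)) = β j := congr($hρ (β j))
    have h2 : d (β j) = ∑ i, b.repr (d (β j)) i • b i := (b.sum_repr _).symm
    have h3 : β.repr (ρ (d (β j))) k = ∑ i, β.repr (ρ (b i)) k * b.repr (d (β j)) i := by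
      conv_lhs => rw [h2]
      simp only [map_sum, map_smul, Finsupp.coe_finsetSum, Finsupp.coe_smul, Finset.sum_apply,
        Pi.smul_apply, smul_eq_mul]
      exact Finset.sum_congr rfl fun i _ => mul_comm _ _
    rw [← h3, h1, Module.Basis.repr_self, Finsupp.single_apply, Matrix.one_apply]
    simp only [eq_comm]
  have h2 := Groth.Agent.Helper1.Minors.weak_cauchy_binet B J.transpose
  rw [hBJ, Matrix.det_one] at h2
  rw [h2]
  refine Ideal.sum_mem _ fun cols _ => Ideal.mul_mem_left _ _ (Ideal.subset_span ⟨cols, ?_⟩)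
  change (J.submatrix id cols).det = _
  rw [← Matrix.det_transpose, Matrix.transpose_submatrix]

/-- Main theorem: if `A_a` is smooth over `R` with stably free differentials, large powers of `a`
are strictly standard. -/
theorem exists_pow_isStrictlyStandard {R A : Type u} [CommRing R] [CommRing A] [Algebra R A]
    [Algebra.FinitePresentation R A] (a : A) (S : Type u) [CommRing S] [Algebra A S] [Algebra R S]
    [IsScalarTower R A S] [IsLocalization.Away a S] [Algebra.FormallySmooth R S] (p q : ℕ)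
    (e : (Ω[S⁄R] × (Fin p → S)) ≃ₗ[S] (Fin q → S)) :
    ∃ e₀ : ℕ, ∀ n, e₀ ≤ n → IsStrictlyStandard R A (a ^ n) := by
  obtain ⟨n₀, φ₀, hφ₀, -⟩ := Algebra.FinitePresentation.out (R := R) (A := A)
  let val : Fin (n₀ + q) → A := Fin.append (fun i => φ₀ (X i)) (fun _ => 0)
  let φ : MvPolynomial (Fin (n₀ + q)) R →ₐ[R] A := aeval val
  have hφ : Function.Surjective φ := by
    intro y
    obtain ⟨x, rfl⟩ := hφ₀ y
    refine ⟨rename (Fin.castAdd q) x, ?_⟩
    simp only [φ, aeval_rename]
    have : val ∘ Fin.castAdd q = fun i => φ₀ (X i) := by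
      funext i
      simp [val, Fin.append_left]
    rw [this]
    exact congr($((MvPolynomial.aeval_unique φ₀).symm) x)
  have hfg : (RingHom.ker φ.toRingHom).FG := Algebra.FinitePresentation.ker_fG_of_surjective φ hφ
  let G : Algebra.Generators R A (Fin (n₀ + q)) := Algebra.Generators.ofAlgHom φ hφ
  have hval : MvPolynomial.aeval G.val = φ := by
    apply MvPolynomial.algHom_ext
    intro i
    simp [G, Algebra.Generators.ofAlgHom]
  have hGker : G.ker = RingHom.ker φ.toRingHom := Algebra.Generators.ker_ofAlgHom φ hφ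
  have hval0 : ∀ k : Fin q, G.val (Fin.natAdd n₀ k) = 0 := by
    intro k
    change φ (X (Fin.natAdd n₀ k)) = 0
    simp [φ, val, Fin.append_right]
  obtain ⟨c, hcn, f, β, hβ⟩ := exists_basis_of_relations G hval0 a S e
  obtain ⟨l, g, hg⟩ := Submodule.fg_iff_exists_fin_generating_family.mp hfg
  let f' : Fin c → MvPolynomial (Fin (n₀ + q)) R := fun j => (f j).1
  let rel : Fin (c + l) → MvPolynomial (Fin (n₀ + q)) R := Fin.append f' g
  have hrelL : ∀ j, rel (Fin.castAdd l j) = (f j).1 := fun j => Fin.append_left f' g j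
  have hrelR : ∀ j, rel (Fin.natAdd c j) = g j := fun j => Fin.append_right f' g j
  have hrelker : Ideal.span (Set.range rel) = G.ker := by
    rw [hGker]
    apply le_antisymm
    · rw [Ideal.span_le]
      rintro _ ⟨i, rfl⟩
      refine Fin.addCases (fun j => ?_) (fun j => ?_) i
      · rw [hrelL]
        have h0 : (f j).1 ∈ G.ker := (f j).2
        rw [hGker] at h0
        exact h0
      · rw [hrelR, SetLike.mem_coe, ← hg]
        exact Submodule.subset_span ⟨j, rfl⟩
    · rw [← hg]
      refine Submodule.span_mono ?_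
      rintro _ ⟨j, rfl⟩
      exact ⟨Fin.natAdd c j, hrelR j⟩
  have hf : ∀ ℓ, rel ℓ ∈ G.toExtension.ker := fun ℓ => hrelker.le (Ideal.subset_span ⟨ℓ, rfl⟩)
  let x' : Fin (c + l) → G.toExtension.Cotangent := fun ℓ => Extension.Cotangent.mk ⟨rel ℓ, hf ℓ⟩
  have hx'rows : ∀ j, x' (Fin.castAdd l j) = Extension.Cotangent.mk (f j) := by
    intro j
    simp only [x']
    congr 1
    exact Subtype.ext (hrelL j)
  have hβ' : ∀ j, β j = (1 : S) ⊗ₜ[A] x' (Fin.castAdd l j) := by
    intro j
    rw [hβ, hx'rows]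
  have hspan : Submodule.span S (Set.range fun j : Fin c => (1 : S) ⊗ₜ[A] x' (Fin.castAdd l j)) =
      ⊤ := by
    rw [← β.span_eq]
    congr 1
    ext y
    simp only [Set.mem_range, hβ']
  -- exponents for the tail condition
  have hk : ∀ ℓ, ∃ k : ℕ, a ^ k • x' ℓ ∈
      Submodule.span A (Set.range fun j : Fin c => x' (Fin.castAdd l j)) := fun ℓ =>
    exists_pow_smul_mem_span a S (fun j : Fin c => x' (Fin.castAdd l j)) hspan (x' ℓ)
  choose kk hkk using hk
  obtain ⟨a₀, ha₀⟩ := hφ a
  have htail : ∀ n, Finset.univ.sup kk ≤ n → ∀ ℓ, a₀ ^ n * rel ℓ ∈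
      Ideal.span (Set.range (rel ∘ Fin.castAdd l)) ⊔ Ideal.span (Set.range rel) ^ 2 := by
    intro n hn ℓ
    have hkn : kk ℓ ≤ n := (Finset.le_sup (Finset.mem_univ ℓ)).trans hn
    have h1 : a ^ n • x' ℓ ∈
        Submodule.span A (Set.range fun j : Fin c => x' (Fin.castAdd l j)) := by
      obtain ⟨d, rfl⟩ := Nat.exists_eq_add_of_le hkn
      rw [pow_add, mul_comm, mul_smul]
      exact Submodule.smul_mem _ _ (hkk ℓ)
    have h2 : algebraMap G.toExtension.Ring A (a₀ ^ n) = a ^ n := by
      have h0 : algebraMap G.toExtension.Ring A (a₀ ^ n) = φ (a₀ ^ n) := by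
        rw [← hval]
        exact Generators.algebraMap_apply G (a₀ ^ n)
      rw [h0, map_pow, ha₀]
    rw [← h2] at h1
    have h3 := Groth.Agent.Helper8.JacPt.mul_mem_span_sup_ker_sq G.toExtension rel hf
      (Fin.castAdd l) (a₀ ^ n) ℓ h1
    rw [hrelker]
    exact h3
  -- the minors
  obtain ⟨ρ, hρ⟩ := exists_retraction_of_formallySmooth_localization G (Submonoid.powers a) S
  let dS := G.toExtension.cotangentComplex.baseChange S
  let b : Module.Basis (Fin (n₀ + q)) S (S ⊗[A] G.toExtension.CotangentSpace) :=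
    G.cotangentSpaceBasis.baseChange S
  have hone := one_mem_span_minors β b dS ρ hρ
  have hJentry : ∀ j k, b.repr (dS (β j)) k =
      algebraMap A S (φ (pderiv k (rel (Fin.castAdd l j)))) := by
    intro j k
    rw [hβ' j]
    simp only [x', b, dS, LinearMap.baseChange_tmul, Extension.cotangentComplex_mk,
      Module.Basis.baseChange_repr_tmul]
    rw [Algebra.algebraMap_eq_smul_one, ← hval]
    congr 1
    exact G.cotangentSpaceBasis_repr_one_tmul (rel (Fin.castAdd l j)) k
  have hJminor : ∀ cols : Fin c → Fin (n₀ + q),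
      (Matrix.submatrix (fun j i => b.repr (dS (β j)) i : Matrix (Fin c) (Fin (n₀ + q)) S)
        id cols).det = algebraMap A S (φ (jacobianMinor rel (Fin.castAdd l) cols)) := by
    intro cols
    have h1 : Matrix.submatrix (fun j i => b.repr (dS (β j)) i : Matrix (Fin c) (Fin (n₀ + q)) S)
        id cols = ((algebraMap A S).comp φ.toRingHom).mapMatrix
        (Matrix.of fun j k : Fin c => pderiv (cols k) (rel (Fin.castAdd l j))) := by
      refine Matrix.ext fun j k => ?_
      change b.repr (dS (β j)) (cols k) = _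
      rw [hJentry]
      simp
    rw [h1, ← RingHom.map_det]
    rfl
  let 𝔞 : Ideal A := Ideal.span (Set.range fun cols : Fin c → Fin (n₀ + q) =>
    φ (jacobianMinor rel (Fin.castAdd l) cols))
  have hmap : (1 : S) ∈ 𝔞.map (algebraMap A S) := by
    rw [Ideal.map_span, ← Set.range_comp]
    convert hone using 3
    funext cols
    exact (hJminor cols).symm
  obtain ⟨e₁, he₁⟩ := exists_pow_mem_of_map_eq_top a S 𝔞 hmap
  refine ⟨max e₁ (Finset.univ.sup kk), fun n hn => ?_⟩
  have hn1 : e₁ ≤ n := (le_max_left _ _).trans hn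
  have hn2 : Finset.univ.sup kk ≤ n := (le_max_right _ _).trans hn
  have hkereq : RingHom.ker φ.toRingHom = Ideal.span (Set.range rel) := by
    rw [hrelker, hGker]
  let P : MarkedPresentation R A :=
    { n := n₀ + q
      m := c + l
      c := c
      hcn := hcn
      hcm := Nat.le_add_right c l
      rel := rel
      hom := φ
      surj := hφ
      ker_eq := hkereq }
  refine ⟨P, ?_, ?_⟩
  · change a ^ n ∈ 𝔞
    obtain ⟨d, rfl⟩ := Nat.exists_eq_add_of_le hn1
    rw [pow_add, mul_comm]
    exact Ideal.mul_mem_left _ _ he₁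
  · intro a₁ ha₁ j hj
    change a₁ * rel j ∈ Ideal.span (rel '' {j' : Fin (c + l) | (j' : ℕ) < c}) ⊔
      Ideal.span (Set.range rel) ^ 2
    have h4 : rel '' {j' : Fin (c + l) | (j' : ℕ) < c} = Set.range (rel ∘ Fin.castAdd l) := by
      ext y
      constructor
      · rintro ⟨j', hj', rfl⟩
        exact ⟨⟨j', hj'⟩, by simp⟩
      · rintro ⟨j, rfl⟩
        exact ⟨Fin.castAdd l j, by simp, rfl⟩
    rw [h4]
    have h5 : a₁ - a₀ ^ n ∈ Ideal.span (Set.range rel) := by
      rw [← hkereq, RingHom.mem_ker]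
      change φ (a₁ - a₀ ^ n) = 0
      have : φ a₁ = a ^ n := ha₁
      rw [map_sub, map_pow, ha₀, this, sub_self]
    have h6 : a₁ * rel j = (a₁ - a₀ ^ n) * rel j + a₀ ^ n * rel j := by ring
    rw [h6]
    refine Submodule.add_mem _ (Submodule.mem_sup_right ?_) (htail n hn2 j)
    rw [pow_two]
    exact Ideal.mul_mem_mul h5 (Ideal.subset_span ⟨j, rfl⟩)

end Groth.Agent.Helper8.StrStd
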