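import Mathlib
import Groth.Agent.Lib.Helper8.SepR2
import Groth.Agent.Lib.Helper8.LocTr7
import Groth.Agent.S2031

/-!
# Separable residue fields, X: auxiliary lemmas for the main argument
-/

set_option autoImplicit false
universe u

namespace Groth.Agent.Helper8.SepR

open MvPolynomial IsLocalRing

/-- The kernel of evaluation at the origin is generated by the variables. -/
theorem ker_aeval_zero (k : Type u) [CommRing k] (σ : Type) :
    RingHom.ker (aeval (0 : σ → k) : MvPolynomial σ k →ₐ[k] k).toRingHom =
      Ideal.span (Set.range (X : σ → MvPolynomial σ k)) := by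
  classical
  ext p
  rw [← Set.image_univ, mem_ideal_span_X_image, RingHom.mem_ker]
  change aeval (0 : σ → k) p = 0 ↔ _
  rw [aeval_zero, Algebra.algebraMap_self, RingHom.id_apply, constantCoeff_eq]
  constructor
  · intro h m hm
    have hm0 : m ≠ 0 := by
      rintro rfl
      exact (mem_support_iff.mp hm) h
    by_contra hcon
    push Not at hcon
    apply hm0
    ext i
    exact hcon i (Set.mem_univ i)
  · intro h
    by_contra hcon
    obtain ⟨i, -, hi⟩ := h 0 (mem_support_iff.mpr hcon)
    exact hi rfl

/-- The annihilator condition on the polynomial ring for powers of the variables. -/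
theorem hR_poly (k : Type u) [CommRing k] (d c : ℕ) (i : Fin d)
    (x : MvPolynomial (Fin d) k ⧸ Ideal.span (Set.range
      fun j : {j : Fin d // (j : ℕ) < (i : ℕ)} => ((X (j : Fin d) : MvPolynomial (Fin d) k) ^ c) ^ 8))
    (h : Ideal.Quotient.mk _ ((X i : MvPolynomial (Fin d) k) ^ c) ^ 2 * x = 0) :
    Ideal.Quotient.mk _ ((X i : MvPolynomial (Fin d) k) ^ c) * x = 0 := by
  classical
  obtain ⟨p, rfl⟩ := Ideal.Quotient.mk_surjective x
  have hset : (Set.range fun j : {j : Fin d // (j : ℕ) < (i : ℕ)} =>
      ((X (j : Fin d) : MvPolynomial (Fin d) k) ^ c) ^ 8) =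
      (fun j : Fin d => (X j : MvPolynomial (Fin d) k) ^ (c * 8)) '' {j | (j : ℕ) < (i : ℕ)} := by
    ext q
    constructor
    · rintro ⟨⟨j, hj⟩, rfl⟩
      exact ⟨j, hj, (pow_mul _ _ _)⟩
    · rintro ⟨j, hj, rfl⟩
      exact ⟨⟨j, hj⟩, (pow_mul _ _ _).symm⟩
  rw [← map_pow, ← map_mul, Ideal.Quotient.eq_zero_iff_mem, hset] at h
  rw [← map_mul, Ideal.Quotient.eq_zero_iff_mem, hset]
  rw [← pow_mul] at h
  have hi : i ∉ {j : Fin d | (j : ℕ) < (i : ℕ)} := fun hc => lt_irrefl (i : ℕ) hc
  exact Ideal.mul_mem_left _ _ (mem_of_X_pow_mul_mem _ (c * 8) i hi (c * 2) p h)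

/-- Smoothness over `R` implies smoothness over `k` when `R` is formally smooth over `k`. -/
theorem singularIdeal_le_of_formallySmooth (k R D : Type u) [CommRing k] [CommRing R]
    [Algebra k R] [CommRing D] [Algebra R D] [Algebra k D] [IsScalarTower k R D]
    [Algebra.FormallySmooth k R] :
    Smoothing.singularIdeal R D ≤ Smoothing.singularIdeal k D := by
  unfold Smoothing.singularIdeal
  apply PrimeSpectrum.vanishingIdeal_anti_mono
  rw [Set.compl_subset_compl]
  intro P hP
  have h1 : Algebra.FormallySmooth R (Localization.AtPrime P.asIdeal) := hP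
  change Algebra.FormallySmooth k (Localization.AtPrime P.asIdeal)
  exact Algebra.FormallySmooth.comp k R (Localization.AtPrime P.asIdeal)

/-- A resolution over `R` of a problem `R → C → Λ` gives a resolution over `k` of a problem
`k → A → Λ` factoring through it, provided the singular ideal of `A` lands in the singular radical
of `C`. -/
theorem resolvable_of_resolvable_over {k R A C Λ : Type u} [CommRing k] [CommRing R]
    [Algebra k R] [Algebra.FinitePresentation k R] [Algebra.FormallySmooth k R]
    [CommRing A] [Algebra k A] [CommRing C] [Algebra R C] [Algebra k C] [IsScalarTower k R C]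
    [CommRing Λ] [Algebra k Λ] [Algebra R Λ] [IsScalarTower k R Λ]
    (φ : A →ₐ[k] Λ) (α : A →ₐ[k] C) (φC : C →ₐ[R] Λ) (hcomp : ∀ a, φC (α a) = φ a)
    (𝔮 : Ideal Λ) (hsing : (Smoothing.singularIdeal k A).map φ ≤ Smoothing.singRad R φC)
    (h : Smoothing.Resolvable R φC 𝔮) : Smoothing.Resolvable k φ 𝔮 := by
  obtain ⟨D, _, _, hfp, g, h', hc, hle, hnot⟩ := h
  letI algkD : Algebra k D := ((algebraMap R D).comp (algebraMap k R)).toAlgebra
  haveI towkRD : IsScalarTower k R D := IsScalarTower.of_algebraMap_eq (fun _ => rfl)
  haveI hfpD : Algebra.FinitePresentation k D := Algebra.FinitePresentation.trans k R D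
  have hmono : Smoothing.singRad R h' ≤ Smoothing.singRad k (h'.restrictScalars k) := by
    unfold Smoothing.singRad
    apply Ideal.radical_mono
    have h1 : (Smoothing.singularIdeal R D).map h' ≤ (Smoothing.singularIdeal k D).map h' :=
      Ideal.map_mono (singularIdeal_le_of_formallySmooth k R D)
    exact h1
  refine ⟨D, inferInstance, algkD, hfpD, (g.restrictScalars k).comp α, h'.restrictScalars k,
    ?_, ?_, ?_⟩
  · refine AlgHom.ext fun x => ?_
    change h' (g (α x)) = φ x
    rw [← hcomp]
    exact DFunLike.congr_fun hc (α x)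
  · have h1 : Smoothing.singRad k φ ≤ Smoothing.singRad R φC := by
      unfold Smoothing.singRad at hsing ⊢
      rw [← Ideal.radical_idem ((Smoothing.singularIdeal R C).map φC)]
      exact Ideal.radical_mono hsing
    exact h1.trans (hle.trans hmono)
  · intro hcon
    exact hnot (hmono.trans hcon)

/-- If `C_c` is formally smooth over `R` with free module of differentials, then large powers of
`c` are strictly standard. -/
theorem exists_strictlyStandard_pow {R C : Type u} [CommRing R] [CommRing C] [Algebra R C]
    [Algebra.FinitePresentation R C] (c : C)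
    (hsm : Algebra.FormallySmooth R (Localization.Away c))
    (hfree : Module.Free (Localization.Away c) Ω[Localization.Away c⁄R]) :
    ∃ e₀ : ℕ, ∀ m : ℕ, e₀ ≤ m → Smoothing.IsStrictlyStandard R C (c ^ m) := by
  haveI : Algebra.FinitePresentation C (Localization.Away c) :=
    IsLocalization.Away.finitePresentation c
  haveI : Algebra.FinitePresentation R (Localization.Away c) :=
    Algebra.FinitePresentation.trans R C (Localization.Away c)
  haveI : Algebra.Smooth R (Localization.Away c) := ⟨hsm, inferInstance⟩
  haveI : Module.Finite (Localization.Away c) Ω[Localization.Away c⁄R] := inferInstance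
  rcases subsingleton_or_nontrivial (Localization.Away c) with hs | hn
  · haveI : Subsingleton Ω[Localization.Away c⁄R] := Module.subsingleton (Localization.Away c) _
    let e : (Ω[Localization.Away c⁄R] × (Fin 0 → Localization.Away c)) ≃ₗ[Localization.Away c]
        (Fin 0 → Localization.Away c) :=
      LinearEquiv.ofSubsingleton _ _
    exact Groth.Agent.S2031.result c 0 0 e
  · let b := Module.finBasis (Localization.Away c) Ω[Localization.Away c⁄R]
    let e : (Ω[Localization.Away c⁄R] × (Fin 0 → Localization.Away c)) ≃ₗ[Localization.Away c]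
        (Fin (Module.finrank (Localization.Away c) Ω[Localization.Away c⁄R]) →
          Localization.Away c) :=
      LinearEquiv.prodUnique.trans b.equivFun
    exact Groth.Agent.S2031.result c 0 _ e

/-- The map induced on quotients by an extended ideal. -/
noncomputable def quotAlgHom {R A Λ : Type u} [CommRing R] [CommRing A] [Algebra R A]
    [CommRing Λ] [Algebra R Λ] (φ : A →ₐ[R] Λ) (K : Ideal R) :
    (A ⧸ K.map (algebraMap R A)) →ₐ[R ⧸ K] (Λ ⧸ K.map (algebraMap R Λ)) :=
  { Ideal.quotientMap (K.map (algebraMap R Λ)) φ.toRingHom (by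
      rw [Ideal.map_le_iff_le_comap]
      intro r hr
      rw [Ideal.mem_comap, Ideal.mem_comap]
      change φ (algebraMap R A r) ∈ _
      rw [φ.commutes]
      exact Ideal.mem_map_of_mem _ hr) with
    commutes' := fun r => by
      obtain ⟨r, rfl⟩ := Ideal.Quotient.mk_surjective r
      change Ideal.quotientMap _ φ.toRingHom _ (algebraMap (R ⧸ K) _ (Ideal.Quotient.mk K r)) = _
      rw [Ideal.Quotient.algebraMap_quotient_map_quotient, Ideal.quotientMap_mk,
        Ideal.Quotient.algebraMap_quotient_map_quotient]
      change Ideal.Quotient.mk _ (φ (algebraMap R A r)) = _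
      rw [φ.commutes] }

theorem quotAlgHom_mk {R A Λ : Type u} [CommRing R] [CommRing A] [Algebra R A]
    [CommRing Λ] [Algebra R Λ] (φ : A →ₐ[R] Λ) (K : Ideal R) (a : A) :
    quotAlgHom φ K (Ideal.Quotient.mk _ a) = Ideal.Quotient.mk _ (φ a) := rfl

end Groth.Agent.Helper8.SepR
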