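import Mathlib
import Groth.Agent.Lib.Helper8.SepR10
import Groth.Agent.Lib.Helper8.LiftB5
import Groth.Agent.Lib.Helper8.LocTr7
import Groth.Agent.S6829

/-! The main argument over a general smooth base `R` receiving the polynomial ring `k[x]`. -/

set_option autoImplicit false
universe u

namespace Groth.Agent.Helper8.InsB

open MvPolynomial IsLocalRing TensorProduct Groth.Agent.Helper8.SepR

set_option maxHeartbeats 1600000 in
set_option synthInstance.maxHeartbeats 200000 in
theorem main_aux2 {k A Λ R : Type u} [Field k] [CommRing A] [Algebra k A]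
    [Algebra.FinitePresentation k A] [CommRing Λ] [Algebra k Λ]
    (φ : A →ₐ[k] Λ) (𝔮 : Ideal Λ) [𝔮.IsPrime]
    [CommRing R] [IsNoetherianRing R] [Algebra k R] [Algebra.FinitePresentation k R]
    [Algebra.FormallySmooth k R] [Algebra R Λ] [IsScalarTower k R Λ]
    (d : ℕ) [Algebra (MvPolynomial (Fin d) k) R] [IsScalarTower k (MvPolynomial (Fin d) k) R]
    [Algebra (MvPolynomial (Fin d) k) Λ] [IsScalarTower (MvPolynomial (Fin d) k) R Λ]
    (r : ℕ) (a : Fin r → A) (ha : Ideal.span (Set.range a) = Smoothing.singularIdeal k A)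
    (B : Type u) [CommRing B] [Algebra k B] [Algebra A B] [Algebra (MvPolynomial (Fin d) k) B]
    [IsScalarTower k A B] [IsScalarTower k (MvPolynomial (Fin d) k) B]
    [Algebra.FinitePresentation (MvPolynomial (Fin d) k) B]
    (hsma : ∀ j, Algebra.FormallySmooth (MvPolynomial (Fin d) k)
      (Localization.Away (algebraMap A B (a j))))
    (C : Type u) [CommRing C] [Algebra B C] [Algebra (MvPolynomial (Fin d) k) C]
    [IsScalarTower (MvPolynomial (Fin d) k) B C] (hftC : Algebra.FiniteType B C)
    (ρ : C →ₐ[B] B)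
    (hC : ∀ b : B, Algebra.Smooth (MvPolynomial (Fin d) k) (Localization.Away b) →
      Module.Free (Localization.Away (algebraMap B C b))
        Ω[Localization.Away (algebraMap B C b)⁄MvPolynomial (Fin d) k] ∧
      Algebra.FormallySmooth (MvPolynomial (Fin d) k)
        (Localization.Away (algebraMap B C b)))
    (β : B →ₐ[MvPolynomial (Fin d) k] Λ) (hβA : ∀ x, β (algebraMap A B x) = φ x)
    (c₀ : ℕ)
    (hstd₀ : ∀ i, Smoothing.IsStrictlyStandard (MvPolynomial (Fin d) k) C
      (algebraMap (MvPolynomial (Fin d) k) C (X i ^ c₀)))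
    (π : Fin d → R) (hπ : ∀ i, π i = algebraMap (MvPolynomial (Fin d) k) R (X i ^ c₀))
    (hπ𝔮 : ∀ i, algebraMap R Λ (π i) ∈ 𝔮)
    (hR : ∀ i : Fin d, ∀ x : R ⧸ Ideal.span
        (Set.range fun j : {j : Fin d // (j : ℕ) < (i : ℕ)} => π j ^ 8),
      Ideal.Quotient.mk _ (π i) ^ 2 * x = 0 → Ideal.Quotient.mk _ (π i) * x = 0)
    (hΛ : ∀ i : Fin d, ∀ x : Λ ⧸ Ideal.span
        (Set.range fun j : {j : Fin d // (j : ℕ) < (i : ℕ)} => algebraMap R Λ (π j) ^ 8),
      Ideal.Quotient.mk _ (algebraMap R Λ (π i)) ^ 2 * x = 0 →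
        Ideal.Quotient.mk _ (algebraMap R Λ (π i)) * x = 0)
    (hres : ∀ φC : R ⊗[MvPolynomial (Fin d) k] C →ₐ[R] Λ,
      (∀ x c, φC (x ⊗ₜ c) = algebraMap R Λ x * β (ρ c)) →
      Smoothing.Resolvable (R ⧸ Ideal.span (Set.range fun i => π i ^ 8))
        (quotAlgHom φC (Ideal.span (Set.range fun i => π i ^ 8)))
        (𝔮.map (Ideal.Quotient.mk ((Ideal.span (Set.range fun i => π i ^ 8)).map
          (algebraMap R Λ))))) :
    Smoothing.Resolvable k φ 𝔮 := by
  classical
  let kx := MvPolynomial (Fin d) k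
  -- `C` is finitely presented over `kx`
  haveI hfpC : Algebra.FinitePresentation kx C := by
    haveI : Algebra.FiniteType kx B := inferInstance
    haveI : Algebra.FiniteType kx C :=
      Algebra.FiniteType.trans (inferInstance : Algebra.FiniteType kx B) hftC
    exact Algebra.FinitePresentation.of_finiteType.mp inferInstance
  have hsmooth_of : ∀ b : B, Algebra.FormallySmooth kx (Localization.Away b) →
      Algebra.Smooth kx (Localization.Away b) := by
    intro b hb
    haveI : Algebra.FinitePresentation B (Localization.Away b) :=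
      IsLocalization.Away.finitePresentation b
    haveI : Algebra.FinitePresentation kx (Localization.Away b) :=
      Algebra.FinitePresentation.trans kx B (Localization.Away b)
    exact ⟨hb, inferInstance⟩
  -- the map `φC`
  let βρ : C →ₐ[kx] Λ := β.comp (ρ.restrictScalars kx)
  have hβρ : ∀ c, βρ c = β (ρ c) := fun c => rfl
  let φC : R ⊗[kx] C →ₐ[R] Λ :=
    Algebra.TensorProduct.lift (Algebra.ofId R Λ) βρ (fun _ _ => Commute.all _ _)
  have hφC : ∀ x c, φC (x ⊗ₜ c) = algebraMap R Λ x * β (ρ c) := by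
    intro x c
    change Algebra.TensorProduct.lift (Algebra.ofId R Λ) βρ _ (x ⊗ₜ c) = _
    rw [Algebra.TensorProduct.lift_tmul, hβρ]
    rfl
  -- moving scalars
  have hmove : ∀ q : kx, (1 : R) ⊗ₜ[kx] algebraMap kx C q = algebraMap kx R q ⊗ₜ[kx] (1 : C) := by
    intro q
    rw [Algebra.algebraMap_eq_smul_one (A := C) q, Algebra.algebraMap_eq_smul_one (A := R) q]
    exact (TensorProduct.smul_tmul q (1 : R) (1 : C)).symm
  -- `k`-algebra structures
  haveI towkRCR : IsScalarTower k R (R ⊗[kx] C) := inferInstance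
  have halgk : ∀ c : k, algebraMap k (R ⊗[kx] C) c = algebraMap k R c ⊗ₜ[kx] (1 : C) :=
    fun c => rfl
  let α₀ : A →+* R ⊗[kx] C :=
    (Algebra.TensorProduct.includeRight : C →ₐ[kx] R ⊗[kx] C).toRingHom.comp
      ((algebraMap B C).comp (algebraMap A B))
  have hα₀ : ∀ x : A, α₀ x = (1 : R) ⊗ₜ[kx] algebraMap B C (algebraMap A B x) := fun x => rfl
  let α : A →ₐ[k] R ⊗[kx] C :=
    { α₀ with
      commutes' := fun c => by
        change α₀ (algebraMap k A c) = algebraMap k (R ⊗[kx] C) c
        rw [halgk, hα₀, ← IsScalarTower.algebraMap_apply k A B,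
          IsScalarTower.algebraMap_apply k kx B,
          ← IsScalarTower.algebraMap_apply kx B C, hmove,
          ← IsScalarTower.algebraMap_apply k kx R] }
  have hαa : ∀ x : A, α x = (1 : R) ⊗ₜ[kx] algebraMap B C (algebraMap A B x) := fun x => rfl
  have hcomp : ∀ x : A, φC (α x) = φ x := by
    intro x
    rw [hαa, hφC, map_one, one_mul, ρ.commutes]
    exact hβA x
  -- apply the lifting lemma
  let K : Ideal R := Ideal.span (Set.range fun i => π i ^ 8)
  have hIspan : (Smoothing.singularIdeal k A).map φ = Ideal.span (Set.range fun j => φ (a j)) := by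
    rw [← ha, Ideal.map_span, ← Set.range_comp]
    rfl
  refine resolvable_of_resolvable_over φ α φC hcomp 𝔮 ?_ ?_
  · rw [hIspan, Ideal.span_le]
    rintro _ ⟨j, rfl⟩
    change φ (a j) ∈ Smoothing.singRad R φC
    rw [← hcomp]
    apply Ideal.le_radical
    apply Ideal.mem_map_of_mem
    rw [hαa]
    haveI hfs : Algebra.FormallySmooth kx
        (Localization.Away (algebraMap B C (algebraMap A B (a j)))) :=
      (hC (algebraMap A B (a j)) (hsmooth_of _ (hsma j))).2
    refine LocTr.mem_singularIdeal_of_formallySmooth _ ?_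
    exact Algebra.FormallySmooth.of_equiv
      (IsLocalization.Away.tensorProductEquivTMulRight kx R
        (algebraMap B C (algebraMap A B (a j)))
        (Localization.Away (algebraMap B C (algebraMap A B (a j)))))
  · refine LiftB.resolve_sequence φC 𝔮 π hπ𝔮 hR hΛ ?_ K rfl (quotAlgHom φC K)
      (quotAlgHom_mk φC K) (hres φC hφC)
    intro i
    have h1 := (Groth.Agent.S6829.result (R := kx) (A := C) (R' := R)
      (algebraMap kx C (X i ^ c₀))).2 (hstd₀ i)
    rw [hmove] at h1
    rw [hπ]
    exact h1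

end Groth.Agent.Helper8.InsB
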