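import Mathlib
import Groth.Agent.Lib.Helper8.LiftB1

/-! Small general lemmas for the inseparable case. -/

set_option autoImplicit false
universe u

namespace Groth.Agent.Helper8.InsB

open IsLocalRing

/-- pigeonhole: a high power of a finitely generated ideal lies in the ideal of powers of the
generators -/
theorem pow_le_span_pow_finset {T ι : Type*} [CommRing T] [DecidableEq ι] (x : ι → T) (e : ℕ)
    (s : Finset ι) :
    (Ideal.span (x '' (s : Set ι))) ^ (s.card * e + 1) ≤
      Ideal.span ((fun i => x i ^ e) '' (s : Set ι)) := by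
  induction s using Finset.induction_on with
  | empty => simp
  | insert a s ha ih =>
    rw [Finset.coe_insert, Set.image_insert_eq, Set.image_insert_eq, Ideal.span_insert,
      Ideal.span_insert, Finset.card_insert_of_notMem ha]
    have h1 : (s.card + 1) * e + 1 = e + (s.card * e + 1) := by ring
    rw [h1]
    refine Ideal.sup_pow_add_le_pow_sup_pow.trans ?_
    refine sup_le_sup ?_ ih
    rw [Ideal.span_singleton_pow]

theorem pow_le_span_pow {T : Type*} [CommRing T] {d : ℕ} (x : Fin d → T) (e : ℕ) :
    (Ideal.span (Set.range x)) ^ (d * e + 1) ≤ Ideal.span (Set.range fun i => x i ^ e) := by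
  classical
  have h := pow_le_span_pow_finset x e (Finset.univ : Finset (Fin d))
  rw [Finset.coe_univ, Set.image_univ, Set.image_univ, Finset.card_univ, Fintype.card_fin] at h
  exact h

/-- descent of membership in a finitely generated ideal along a faithfully flat map -/
theorem exists_coeff_of_faithfullyFlat {D T : Type*} [CommRing D] [CommRing T] [Algebra D T]
    [Module.FaithfullyFlat D T] {r : ℕ} (h : Fin r → D) (x : D)
    (hx : algebraMap D T x ∈ Ideal.span (Set.range fun j => algebraMap D T (h j))) :
    ∃ μ : Fin r → D, x = ∑ j, μ j * h j := by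
  have h1 : x ∈ ((Ideal.span (Set.range h)).map (algebraMap D T)).comap (algebraMap D T) := by
    rw [Ideal.mem_comap, Ideal.map_span, ← Set.range_comp]
    exact hx
  rw [Ideal.comap_map_eq_self_of_faithfullyFlat, Ideal.mem_span_range_iff_exists_fun] at h1
  obtain ⟨μ, hμ⟩ := h1
  exact ⟨μ, hμ.symm⟩

/-- a flat local homomorphism with zero-dimensional closed fibre preserves the dimension -/
theorem ringKrullDim_eq_of_flat (A B : Type*) [CommRing A] [CommRing B] [IsLocalRing A]
    [IsNoetherianRing A]
    [IsLocalRing B] [IsNoetherianRing B] [Algebra A B] [Module.Flat A B]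
    (hmax : (maximalIdeal A).map (algebraMap A B) = maximalIdeal B) :
    ringKrullDim A = ringKrullDim B := by
  haveI : IsLocalHom (algebraMap A B) :=
    ((IsLocalRing.local_hom_TFAE (algebraMap A B)).out 0 2).mpr hmax.le
  have h1 := Ideal.height_eq_height_add_of_liesOver_of_hasGoingDown (maximalIdeal A)
    (maximalIdeal B)
  rw [hmax, Ideal.map_quotient_self, Ideal.height_bot, add_zero] at h1
  rw [← IsLocalRing.maximalIdeal_height_eq_ringKrullDim,
    ← IsLocalRing.maximalIdeal_height_eq_ringKrullDim, h1]

/-- annihilator conditions for powers, in ideal form -/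
theorem ann_pow_ideal {T : Type*} [CommRing T] (J : Ideal T) (x : T) (c : ℕ) (hc : 0 < c)
    (h : ∀ z, x ^ 2 * z ∈ J → x * z ∈ J) : ∀ z, (x ^ c) ^ 2 * z ∈ J → x ^ c * z ∈ J := by
  intro z hz
  have hann := LiftB.ann_pow (M := T ⧸ J) (Ideal.Quotient.mk J x) (by
    intro y hy
    obtain ⟨w, rfl⟩ := Ideal.Quotient.mk_surjective y
    rw [← map_pow, ← map_mul, Ideal.Quotient.eq_zero_iff_mem] at hy
    rw [← map_mul, Ideal.Quotient.eq_zero_iff_mem]
    exact h w hy)
  have h7 : (Ideal.Quotient.mk J x) ^ (c * 2 - 1 + 1) * Ideal.Quotient.mk J z = 0 := by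
    rw [Nat.sub_add_cancel (by omega), ← map_pow, ← map_mul, Ideal.Quotient.eq_zero_iff_mem,
      pow_mul]
    exact hz
  have h8 := hann _ _ h7
  rw [← map_mul, Ideal.Quotient.eq_zero_iff_mem] at h8
  have h9 : x ^ c * z = x ^ (c - 1) * (x * z) := by
    rw [← mul_assoc, ← pow_succ, Nat.sub_add_cancel hc]
  rw [h9]
  exact Ideal.mul_mem_left _ _ h8

end Groth.Agent.Helper8.InsB
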