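import Mathlib

/-!
# Local tricks for smoothing, I: spreading out smoothness from a localization of the base
-/

set_option autoImplicit false
universe u

namespace Groth.Agent.Helper8.LocTr

open PrimeSpectrum

/-- Spreading out smoothness: if a localization of the finitely presented `R`-algebra `C` at the
image of a submonoid `M` of `R` is formally smooth over `R`, then some `C_s`, `s ∈ M`, is smooth
over `R`. -/
theorem exists_smooth_away_of_isLocalization {R C B : Type u} [CommRing R] [CommRing C]
    [Algebra R C] [Algebra.FinitePresentation R C] (M : Submonoid R) [CommRing B] [Algebra C B]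
    [Algebra R B] [IsScalarTower R C B] [IsLocalization (Algebra.algebraMapSubmonoid C M) B]
    [Algebra.FormallySmooth R B] :
    ∃ s ∈ M, Algebra.Smooth R (Localization.Away (algebraMap R C s)) := by
  set Mb : Submonoid C := Algebra.algebraMapSubmonoid C M with hMb
  -- every prime disjoint from `Mb` is a smooth point
  have hsm : ∀ P : PrimeSpectrum C, Disjoint (Mb : Set C) (P.asIdeal : Set C) →
      P ∈ Algebra.smoothLocus R C := by
    intro P hP
    haveI := P.isPrime
    have hP'prime : (P.asIdeal.map (algebraMap C B)).IsPrime :=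
      IsLocalization.isPrime_of_isPrime_disjoint Mb B P.asIdeal P.isPrime hP
    have hcomap : (P.asIdeal.map (algebraMap C B)).comap (algebraMap C B) = P.asIdeal :=
      IsLocalization.under_map_of_isPrime_disjoint Mb B P.isPrime hP
    haveI : IsLocalization.AtPrime (Localization.AtPrime (P.asIdeal.map (algebraMap C B)))
        ((P.asIdeal.map (algebraMap C B)).comap (algebraMap C B)) :=
      IsLocalization.isLocalization_isLocalization_atPrime_isLocalization Mb _
        (P.asIdeal.map (algebraMap C B))
    haveI : IsLocalization.AtPrime (Localization.AtPrime (P.asIdeal.map (algebraMap C B)))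
        P.asIdeal := by
      have key : ∀ (Q : Ideal C) [Q.IsPrime], Q = P.asIdeal →
          IsLocalization.AtPrime (Localization.AtPrime (P.asIdeal.map (algebraMap C B))) Q →
          IsLocalization.AtPrime (Localization.AtPrime (P.asIdeal.map (algebraMap C B)))
            P.asIdeal := by
        intro Q _ hQ h
        subst hQ
        exact h
      exact key _ hcomap this
    haveI : Algebra.FormallySmooth R (Localization.AtPrime (P.asIdeal.map (algebraMap C B))) :=
      Algebra.FormallySmooth.comp R B _
    change Algebra.FormallySmooth R (Localization.AtPrime P.asIdeal)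
    exact Algebra.FormallySmooth.of_equiv
      ((IsLocalization.algEquiv P.asIdeal.primeCompl
        (Localization.AtPrime (P.asIdeal.map (algebraMap C B)))
        (Localization.AtPrime P.asIdeal)).restrictScalars R)
  -- the singular ideal meets `Mb`
  set H : Ideal C := vanishingIdeal (Algebra.smoothLocus R C)ᶜ with hH
  have hmeet : ¬ Disjoint (Mb : Set C) (H : Set C) := by
    intro hdis
    obtain ⟨P, hPprime, hHP, hPdis⟩ := Ideal.exists_le_prime_disjoint H Mb hdis.symm
    have hPsm := hsm ⟨P, hPprime⟩ hPdis.symm
    have hclosed : IsClosed (Algebra.smoothLocus R C)ᶜ :=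
      Algebra.isOpen_smoothLocus.isClosed_compl
    have hmem : (⟨P, hPprime⟩ : PrimeSpectrum C) ∈ zeroLocus (H : Set C) := hHP
    rw [hH, zeroLocus_vanishingIdeal_eq_closure, hclosed.closure_eq] at hmem
    exact hmem hPsm
  rw [Set.not_disjoint_iff] at hmeet
  obtain ⟨_, ⟨s, hs, rfl⟩, hsH⟩ := hmeet
  refine ⟨s, hs, Algebra.basicOpen_subset_smoothLocus_iff_smooth.mp ?_⟩
  intro P hP
  by_contra hPn
  have : algebraMap R C s ∈ P.asIdeal := by
    rw [hH, SetLike.mem_coe, mem_vanishingIdeal] at hsH
    exact hsH P hPn
  exact hP this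

attribute [local instance] MvPolynomial.algebraMvPolynomial in
/-- Descent of a finitely presented algebra over a localization: it is a localization of a finitely
presented algebra over the original ring. -/
theorem exists_descent_of_isLocalization {A A' B : Type u} [CommRing A] (MA : Submonoid A)
    [CommRing A'] [Algebra A A'] [IsLocalization MA A'] [CommRing B] [Algebra A' B] [Algebra A B]
    [IsScalarTower A A' B] [Algebra.FinitePresentation A' B] :
    ∃ (k l : ℕ) (r : Fin l → MvPolynomial (Fin k) A)
      (ι : (MvPolynomial (Fin k) A ⧸ Ideal.span (Set.range r)) →ₐ[A] B),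
      @IsLocalization _ _ (Algebra.algebraMapSubmonoid
        (MvPolynomial (Fin k) A ⧸ Ideal.span (Set.range r)) MA) B _ ι.toRingHom.toAlgebra := by
  classical
  obtain ⟨k, f, hf, hfg⟩ := Algebra.FinitePresentation.out (R := A') (A := B)
  obtain ⟨l, r₀, hr₀⟩ := Submodule.fg_iff_exists_fin_generating_family.mp hfg
  have hr₀' : RingHom.ker f.toRingHom = Ideal.span (Set.range r₀) := hr₀.symm
  haveI : IsLocalization (MA.map (MvPolynomial.C (σ := Fin k))) (MvPolynomial (Fin k) A') :=
    MvPolynomial.isLocalization MA A'
  obtain ⟨b, hb⟩ := IsLocalization.exist_integer_multiples_of_finite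
    (MA.map (MvPolynomial.C (σ := Fin k))) r₀
  choose r hr using hb
  set I : Ideal (MvPolynomial (Fin k) A) := Ideal.span (Set.range r) with hI
  let φ₀ : MvPolynomial (Fin k) A →ₐ[A] B := MvPolynomial.aeval (fun i => f (MvPolynomial.X i))
  have hφ₀ : ∀ p, φ₀ p = f (algebraMap (MvPolynomial (Fin k) A) (MvPolynomial (Fin k) A') p) := by
    intro p
    have : (φ₀ : MvPolynomial (Fin k) A →+* B) =
        (f : MvPolynomial (Fin k) A' →+* B).comp
          (algebraMap (MvPolynomial (Fin k) A) (MvPolynomial (Fin k) A')) := by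
      refine MvPolynomial.ringHom_ext (fun a => ?_) (fun i => ?_)
      · simp only [RingHom.coe_coe, RingHom.comp_apply, φ₀, MvPolynomial.algebraMap_def,
          MvPolynomial.map_C, MvPolynomial.aeval_C]
        rw [← MvPolynomial.algebraMap_eq, f.commutes, ← IsScalarTower.algebraMap_apply]
      · simp only [RingHom.coe_coe, RingHom.comp_apply, φ₀, MvPolynomial.algebraMap_def,
          MvPolynomial.map_X, MvPolynomial.aeval_X]
    exact congr($this p)
  have hbunit : IsUnit (algebraMap (MvPolynomial (Fin k) A) (MvPolynomial (Fin k) A') b.1) :=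
    IsLocalization.map_units _ b
  have hker : ∀ a ∈ I, φ₀ a = 0 := by
    intro a ha
    have hle : I ≤ RingHom.ker φ₀.toRingHom := by
      rw [hI, Ideal.span_le]
      rintro _ ⟨i, rfl⟩
      rw [SetLike.mem_coe, RingHom.mem_ker]
      change φ₀ (r i) = 0
      rw [hφ₀, hr i, Algebra.smul_def, map_mul]
      have : r₀ i ∈ RingHom.ker f.toRingHom := by
        rw [hr₀']
        exact Ideal.subset_span ⟨i, rfl⟩
      have h0 : f (r₀ i) = 0 := this
      rw [h0, mul_zero]
    exact hle ha
  let ι : (MvPolynomial (Fin k) A ⧸ I) →ₐ[A] B := Ideal.Quotient.liftₐ I φ₀ hker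
  refine ⟨k, l, r, ι, ?_⟩
  letI : Algebra (MvPolynomial (Fin k) A ⧸ I) B := ι.toRingHom.toAlgebra
  have hloc := IsLocalization.of_surjective (MA.map (MvPolynomial.C (σ := Fin k)))
    (MvPolynomial (Fin k) A') (Ideal.Quotient.mk I) Ideal.Quotient.mk_surjective
    (f : MvPolynomial (Fin k) A' →+* B) hf (by
      refine RingHom.ext fun p => ?_
      rw [RingHom.comp_apply, RingHom.comp_apply]
      change f _ = ι (Ideal.Quotient.mk I p)
      rw [← hφ₀]
      rfl) (by
      rw [Ideal.mk_ker, hI, Ideal.map_span]
      change RingHom.ker f.toRingHom ≤ _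
      rw [hr₀', Ideal.span_le]
      rintro _ ⟨i, rfl⟩
      have h1 : algebraMap (MvPolynomial (Fin k) A) (MvPolynomial (Fin k) A') (r i) ∈
          Ideal.span ((algebraMap (MvPolynomial (Fin k) A) (MvPolynomial (Fin k) A')) ''
            Set.range r) := Ideal.subset_span ⟨r i, ⟨i, rfl⟩, rfl⟩
      rw [hr i, Algebra.smul_def] at h1
      exact (Ideal.unit_mul_mem_iff_mem _ hbunit).mp h1)
  have hsub : (MA.map (MvPolynomial.C (σ := Fin k))).map (Ideal.Quotient.mk I) =
      Algebra.algebraMapSubmonoid (MvPolynomial (Fin k) A ⧸ I) MA := by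
    ext x
    constructor
    · rintro ⟨_, ⟨a, ha, rfl⟩, rfl⟩
      exact ⟨a, ha, rfl⟩
    · rintro ⟨a, ha, rfl⟩
      exact ⟨_, ⟨a, ha, rfl⟩, rfl⟩
  rw [hsub] at hloc
  exact hloc

end Groth.Agent.Helper8.LocTr
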