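import Mathlib
import Groth.Prelude.Def_Smoothing
import Groth.Agent.Lib.Helper8.LocTr1
import Groth.Agent.Lib.Helper8.LocTr3

/-!
# Local tricks for smoothing, VI: explicit form of the factorization; extraction from resolvability
-/

set_option autoImplicit false
universe u

namespace Groth.Agent.Helper8.LocTr

open MvPolynomial TensorProduct

/-- The factorization lemma, with the explicit form of the algebra. -/
theorem exists_factorization_explicit {R A Λ Λq A' B : Type u} [CommRing R] [CommRing A]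
    [Algebra R A] [Algebra.FinitePresentation R A] [CommRing Λ] [Algebra R Λ] (φ : A →ₐ[R] Λ)
    (𝔮 : Ideal Λ) [𝔮.IsPrime] [CommRing Λq] [Algebra Λ Λq] [IsLocalization.AtPrime Λq 𝔮]
    (M : Submonoid R) (hM : ∀ s ∈ M, algebraMap R Λ s ∉ 𝔮) [CommRing A'] [Algebra A A']
    [IsLocalization (Algebra.algebraMapSubmonoid A M) A'] [CommRing B] [Algebra A' B]
    [Algebra A B] [IsScalarTower A A' B] [Algebra.FinitePresentation A' B] [Algebra R B]
    [IsScalarTower R A B] [Algebra.FormallySmooth R B] (h : B →+* Λq)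
    (hh : ∀ x : A, h (algebraMap A B x) = algebraMap Λ Λq (φ x)) :
    ∃ (k l : ℕ) (r : Fin l → MvPolynomial (Fin k) A) (d : ℕ) (a : A) (h' : Cc r d →ₐ[R] Λ),
      h'.comp (IsScalarTower.toAlgHom R A (Cc r d)) = φ ∧
      Algebra.FormallySmooth R (Localization.Away (bb r a d)) ∧ h' (bb r a d) ∉ 𝔮 := by
  classical
  -- descent
  obtain ⟨k, l, r, ι, hloc⟩ := exists_descent_of_isLocalization (A := A) (A' := A') (B := B)
    (Algebra.algebraMapSubmonoid A M)
  letI algC₁B : Algebra (C₁ r) B := ι.toRingHom.toAlgebra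
  haveI : IsScalarTower R (C₁ r) B := by
    have h0 := IsScalarTower.of_algebraMap_eq (R := R) (S := C₁ r) (A := B) fun x => by
      change algebraMap R B x = ι (algebraMap R (C₁ r) x)
      rw [IsScalarTower.algebraMap_apply R A (C₁ r), ι.commutes, ← IsScalarTower.algebraMap_apply]
    exact h0
  haveI : IsLocalization (Algebra.algebraMapSubmonoid (C₁ r) M) B := by
    have hsub : Algebra.algebraMapSubmonoid (C₁ r) (Algebra.algebraMapSubmonoid A M) =
        Algebra.algebraMapSubmonoid (C₁ r) M := by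
      ext x
      constructor
      · rintro ⟨_, ⟨s, hs, rfl⟩, rfl⟩
        exact ⟨s, hs, IsScalarTower.algebraMap_apply R A (C₁ r) s⟩
      · rintro ⟨s, hs, rfl⟩
        exact ⟨_, ⟨s, hs, rfl⟩, (IsScalarTower.algebraMap_apply R A (C₁ r) s).symm⟩
    rw [← hsub]
    exact hloc
  haveI : Algebra.FinitePresentation R (C₁ r) :=
    Algebra.FinitePresentation.quotient (Submodule.fg_span (Set.finite_range r))
  -- spreading out
  obtain ⟨s, hsM, hsm⟩ := exists_smooth_away_of_isLocalization (R := R) (C := C₁ r) (B := B) M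
  haveI hfs : Algebra.FormallySmooth R
      (Localization.Away (algebraMap A (C₁ r) (algebraMap R A s))) := hsm.1
  -- the map to `Λq`
  let θ : C₁ r →+* Λq := h.comp ι.toRingHom
  have hθA : ∀ x : A, θ (algebraMap A (C₁ r) x) = algebraMap Λ Λq (φ x) := by
    intro x
    change h (ι (algebraMap A (C₁ r) x)) = _
    rw [ι.commutes, hh]
  let ψ : A →+* Λq := (algebraMap Λ Λq).comp φ.toRingHom
  have hθeval : ∀ p : MvPolynomial (Fin k) A,
      eval₂ ψ (fun i => θ (Ideal.Quotient.mk _ (X i))) p = θ (Ideal.Quotient.mk _ p) := by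
    intro p
    have : (eval₂Hom ψ (fun i => θ (Ideal.Quotient.mk _ (X i)))) =
        θ.comp (Ideal.Quotient.mk (Ideal.span (Set.range r))) := by
      refine MvPolynomial.ringHom_ext (fun x => ?_) (fun i => ?_)
      · rw [eval₂Hom_C, RingHom.comp_apply]
        exact (hθA x).symm
      · rw [eval₂Hom_X', RingHom.comp_apply]
        rfl
    exact congr($this p)
  -- common denominator
  obtain ⟨lam, hlam⟩ := IsLocalization.exist_integer_multiples_of_finite 𝔮.primeCompl
    (fun i : Fin k => θ (Ideal.Quotient.mk _ (X i)))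
  choose μ hμ using hlam
  have hlamu : IsUnit (algebraMap Λ Λq lam.1) := IsLocalization.map_units Λq lam
  obtain ⟨lam', hlam'⟩ : ∃ t : Λq, algebraMap Λ Λq lam.1 * t = 1 := ⟨_, hlamu.mul_val_inv⟩
  have hμ' : ∀ i, algebraMap Λ Λq (μ i) * lam' = θ (Ideal.Quotient.mk _ (X i)) := by
    intro i
    rw [hμ i, Algebra.smul_def, mul_comm, ← mul_assoc, mul_comm lam', hlam', one_mul]
  -- the degree
  let d : ℕ := Finset.univ.sup fun j => (r j).totalDegree
  have hd : ∀ j, (r j).totalDegree ≤ d := fun j =>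
    Finset.le_sup (f := fun j => (r j).totalDegree) (Finset.mem_univ j)
  -- the relations hold in `Λq`
  let Ej : Fin l → Λ := fun j =>
    eval₂ φ.toRingHom (fun o : Option (Fin k) => o.elim lam.1 μ) (homog d (r j))
  have hEj : ∀ j, algebraMap Λ Λq (Ej j) = 0 := by
    intro j
    change algebraMap Λ Λq (eval₂ φ.toRingHom _ (homog d (r j))) = 0
    rw [eval₂_comp_left]
    have h1 : (algebraMap Λ Λq ∘ fun o : Option (Fin k) => o.elim lam.1 μ) =
        fun o : Option (Fin k) => o.elim (algebraMap Λ Λq lam.1) (fun i => algebraMap Λ Λq (μ i)) := by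
      funext o
      rcases o with _ | i <;> rfl
    rw [h1, eval₂_homog d (r j) (hd j) _ _ _ _ hlam']
    have h2 : (fun i => algebraMap Λ Λq (μ i) * lam') =
        fun i => θ (Ideal.Quotient.mk _ (X i)) := funext hμ'
    rw [h2]
    change _ * eval₂ ψ _ (r j) = 0
    have h3 : Ideal.Quotient.mk (Ideal.span (Set.range r)) (r j) = 0 :=
      Ideal.Quotient.eq_zero_iff_mem.mpr (Ideal.subset_span ⟨j, rfl⟩)
    rw [hθeval, h3, map_zero, mul_zero]
  have hEj' : ∀ j, ∃ m : 𝔮.primeCompl, m.1 * Ej j = 0 := fun j =>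
    (IsLocalization.map_eq_zero_iff 𝔮.primeCompl Λq (Ej j)).mp (hEj j)
  choose mj hmj using hEj'
  let lam₀ : Λ := ∏ j, (mj j).1
  have hlam₀ : lam₀ ∉ 𝔮 := by
    have : lam₀ ∈ 𝔮.primeCompl := Submonoid.prod_mem _ fun j _ => (mj j).2
    exact this
  have hlam₀E : ∀ j, lam₀ * Ej j = 0 := by
    intro j
    have : lam₀ = (∏ j' ∈ Finset.univ.erase j, (mj j').1) * (mj j).1 := by
      rw [Finset.prod_erase_mul _ _ (Finset.mem_univ j)]
    rw [this, mul_assoc, hmj, mul_zero]
  -- the algebra `C`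
  haveI : Algebra.FinitePresentation R (Cc r d) :=
    Algebra.FinitePresentation.quotient (Submodule.fg_span (Set.finite_range (rel r d)))
  let valsΛ : Option (Option (Fin k)) → Λ := fun o => o.elim lam₀ (fun o' => o'.elim lam.1 μ)
  let h₀ : MvPolynomial (Option (Option (Fin k))) A →ₐ[R] Λ := aevalTower φ valsΛ
  have hh₀ : ∀ p, h₀ p = eval₂ φ.toRingHom valsΛ p := fun p => rfl
  have hh₀rel : ∀ p ∈ Ideal.span (Set.range (rel r d)), h₀ p = 0 := by
    intro p hp
    have hle : Ideal.span (Set.range (rel r d)) ≤ RingHom.ker h₀.toRingHom := by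
      rw [Ideal.span_le]
      rintro _ ⟨j, rfl⟩
      rw [SetLike.mem_coe, RingHom.mem_ker]
      change h₀ (rel r d j) = 0
      rw [hh₀, rel, eval₂_mul, eval₂_X, eval₂_rename]
      exact hlam₀E j
    exact hle hp
  let h' : Cc r d →ₐ[R] Λ := Ideal.Quotient.liftₐ _ h₀ hh₀rel
  refine ⟨k, l, r, d, algebraMap R A s, h', ?_,
    formallySmooth_away_bb r (algebraMap R A s) d hd, ?_⟩
  · refine AlgHom.ext fun x => ?_
    change h₀ (C x) = φ x
    exact aevalTower_C _ _ _
  · change h₀ (X none * X (some none) * C (algebraMap R A s)) ∉ 𝔮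
    rw [map_mul, map_mul]
    have e1 : h₀ (X none) = lam₀ := aevalTower_X _ _ _
    have e2 : h₀ (X (some none)) = lam.1 := aevalTower_X _ _ _
    have e3 : h₀ (C (algebraMap R A s)) = algebraMap R Λ s := by
      rw [aevalTower_C, φ.commutes]
    rw [e1, e2, e3]
    intro hmem
    rcases (Ideal.IsPrime.mem_or_mem inferInstance hmem) with h1 | h1
    · rcases (Ideal.IsPrime.mem_or_mem inferInstance h1) with h2 | h2
      · exact hlam₀ h2
      · exact lam.2 h2
    · exact hM s hsM h1

/-- From resolvability of the localized problem to an explicit factorization. -/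
theorem exists_explicit_of_resolvable {R A Λ Rₚ Λq : Type u} [CommRing R] [CommRing A]
    [Algebra R A] [Algebra.FinitePresentation R A] [CommRing Λ] [Algebra R Λ] (φ : A →ₐ[R] Λ)
    (𝔮 : Ideal Λ) [𝔮.IsPrime]
    [CommRing Rₚ] [Algebra R Rₚ] [IsLocalization.AtPrime Rₚ (𝔮.comap (algebraMap R Λ))]
    [CommRing Λq] [Algebra Λ Λq] [IsLocalization.AtPrime Λq 𝔮] [Algebra R Λq] [IsScalarTower R Λ Λq]
    [Algebra Rₚ Λq] [IsScalarTower R Rₚ Λq]
    (hres : Smoothing.Resolvable Rₚ
      (Algebra.TensorProduct.lift (Algebra.ofId Rₚ Λq) ((IsScalarTower.toAlgHom R Λ Λq).comp φ)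
        (fun _ _ => Commute.all _ _) : Rₚ ⊗[R] A →ₐ[Rₚ] Λq) (𝔮.map (algebraMap Λ Λq))) :
    ∃ (k l : ℕ) (r : Fin l → MvPolynomial (Fin k) A) (d : ℕ) (a : A) (h' : Cc r d →ₐ[R] Λ),
      h'.comp (IsScalarTower.toAlgHom R A (Cc r d)) = φ ∧
      Algebra.FormallySmooth R (Localization.Away (bb r a d)) ∧ h' (bb r a d) ∉ 𝔮 := by
  classical
  obtain ⟨B', instB', algB', hfp, g', h', hgh, -, hnot⟩ := hres
  haveI := hfp
  set M : Submonoid R := (𝔮.comap (algebraMap R Λ)).primeCompl with hMdef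
  haveI : IsLocalization M Rₚ := (inferInstance : IsLocalization.AtPrime Rₚ (𝔮.comap (algebraMap R Λ)))
  haveI : IsLocalRing Λq := IsLocalization.AtPrime.isLocalRing Λq 𝔮
  have hmax : 𝔮.map (algebraMap Λ Λq) = IsLocalRing.maximalIdeal Λq :=
    IsLocalization.AtPrime.map_eq_maximalIdeal 𝔮 Λq
  have hprime : (𝔮.map (algebraMap Λ Λq)).IsPrime := by
    rw [hmax]
    infer_instance
  -- an element of the singular ideal mapping to a unit
  have hnot' : ¬ (Smoothing.singularIdeal Rₚ B').map h' ≤ 𝔮.map (algebraMap Λ Λq) := by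
    intro hle
    apply hnot
    unfold Smoothing.singRad
    exact (hprime.radical_le_iff).mpr hle
  obtain ⟨b, hb, hbq⟩ : ∃ b ∈ Smoothing.singularIdeal Rₚ B', h' b ∉ 𝔮.map (algebraMap Λ Λq) := by
    by_contra hcon
    push Not at hcon
    apply hnot'
    rw [Ideal.map_le_iff_le_comap]
    intro x hx
    exact hcon x hx
  have hbunit : IsUnit (h' b) := by
    rw [hmax] at hbq
    exact IsLocalRing.notMem_maximalIdeal.mp hbq
  have hsmB : Algebra.Smooth Rₚ (Localization.Away b) := by
    refine Algebra.basicOpen_subset_smoothLocus_iff_smooth.mp fun P hP => ?_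
    by_contra hPn
    rw [Smoothing.singularIdeal, PrimeSpectrum.mem_vanishingIdeal] at hb
    exact hP (hb P hPn)
  -- the `R`-algebra structures
  letI algRB' : Algebra R B' := Algebra.compHom B' (algebraMap R Rₚ)
  haveI : IsScalarTower R Rₚ B' := IsScalarTower.of_algebraMap_eq fun _ => rfl
  let B := Localization.Away b
  haveI : IsScalarTower R Rₚ B := IsScalarTower.of_algebraMap_eq fun x => by
    rw [IsScalarTower.algebraMap_apply R B' B, IsScalarTower.algebraMap_apply R Rₚ B',
      ← IsScalarTower.algebraMap_apply Rₚ B' B]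
  haveI : Algebra.FormallySmooth R Rₚ := Algebra.FormallySmooth.of_isLocalization M
  haveI : Algebra.FormallySmooth Rₚ B := hsmB.1
  haveI : Algebra.FinitePresentation Rₚ B := hsmB.2
  haveI : Algebra.FormallySmooth R B := Algebra.FormallySmooth.comp R Rₚ B
  let h'' : B →ₐ[Rₚ] Λq := IsLocalization.Away.liftAlgHom b (f := h') hbunit
  have hh'' : ∀ x : B', h'' (algebraMap B' B x) = h' x := fun x =>
    IsLocalization.Away.lift_eq _ hbunit x
  let g'' : Rₚ ⊗[R] A →ₐ[Rₚ] B := (IsScalarTower.toAlgHom Rₚ B' B).comp g'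
  -- `A' = Rₚ ⊗ A` as a localization of `A`
  letI algAA' : Algebra A (Rₚ ⊗[R] A) := Algebra.TensorProduct.rightAlgebra
  haveI : IsLocalization (Algebra.algebraMapSubmonoid A M) (Rₚ ⊗[R] A) :=
    IsLocalization.tensorRight (S := A) Rₚ M
  letI algA'B : Algebra (Rₚ ⊗[R] A) B := g''.toRingHom.toAlgebra
  letI algAB : Algebra A B := (g''.toRingHom.comp (algebraMap A (Rₚ ⊗[R] A))).toAlgebra
  haveI : IsScalarTower A (Rₚ ⊗[R] A) B := IsScalarTower.of_algebraMap_eq fun _ => rfl
  haveI : IsScalarTower Rₚ (Rₚ ⊗[R] A) B :=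
    IsScalarTower.of_algebraMap_eq fun x => (g''.commutes x).symm
  haveI : Algebra.FinitePresentation (Rₚ ⊗[R] A) B :=
    Algebra.FinitePresentation.of_restrict_scalars_finitePresentation (R := Rₚ)
      (A := Rₚ ⊗[R] A) (B := B)
  have hAB : ∀ x : A, algebraMap A B x = g'' ((1 : Rₚ) ⊗ₜ[R] x) := fun x => rfl
  haveI : IsScalarTower R A B := IsScalarTower.of_algebraMap_eq fun x => by
    have e1 : (1 : Rₚ) ⊗ₜ[R] (algebraMap R A x) =
        algebraMap Rₚ (Rₚ ⊗[R] A) (algebraMap R Rₚ x) := by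
      rw [Algebra.TensorProduct.algebraMap_apply, Algebra.algebraMap_self, RingHom.id_apply,
        Algebra.algebraMap_eq_smul_one (A := A), Algebra.algebraMap_eq_smul_one (A := Rₚ),
        TensorProduct.smul_tmul]
    rw [hAB, e1, g''.commutes, ← IsScalarTower.algebraMap_apply]
  have hhA : ∀ x : A, h''.toRingHom (algebraMap A B x) = algebraMap Λ Λq (φ x) := by
    intro x
    rw [hAB]
    change h'' (algebraMap B' B (g' (1 ⊗ₜ[R] x))) = _
    rw [hh'']
    have := congr($hgh (1 ⊗ₜ[R] x))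
    rw [AlgHom.comp_apply] at this
    rw [this, Algebra.TensorProduct.lift_tmul, map_one, one_mul]
    rfl
  have hMq : ∀ s ∈ M, algebraMap R Λ s ∉ 𝔮 := fun s hs => hs
  exact exists_factorization_explicit (A' := Rₚ ⊗[R] A) (B := B) φ 𝔮 (Λq := Λq) M hMq
    h''.toRingHom hhA

end Groth.Agent.Helper8.LocTr
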