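import Mathlib
import Groth.Agent.Lib.Helper8.SepR1
import Groth.Agent.Lib.Helper8.SmLift5
import Groth.Agent.S2034

/-!
# Separable residue fields, VIII: resolving the problem over an Artinian base
-/

set_option autoImplicit false
universe u

namespace Groth.Agent.Helper8.SepR

open IsLocalRing TensorProduct

/-- Resolution over an Artinian local base with residue field `k`, when the localisation of the
target is flat with closed fibre an ind-smooth field extension of `k`. -/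
theorem resolvable_artinian {k R₀ C₀ Λ₀ Λq Λb : Type u} [Field k] [CommRing R₀]
    [IsNoetherianRing R₀] [Algebra k R₀] [CommRing C₀] [Algebra R₀ C₀]
    [Algebra.FinitePresentation R₀ C₀] [CommRing Λ₀] [Algebra R₀ Λ₀] (φ₀ : C₀ →ₐ[R₀] Λ₀)
    (𝔮₀ : Ideal Λ₀) [𝔮₀.IsPrime] (ε : R₀ →ₐ[k] k) (N : ℕ)
    (hN : (RingHom.ker ε.toRingHom) ^ N = ⊥)
    [CommRing Λq] [Algebra Λ₀ Λq] [IsLocalization.AtPrime Λq 𝔮₀] [Algebra R₀ Λq]
    [IsScalarTower R₀ Λ₀ Λq] [Module.Flat R₀ Λq]
    [Field Λb] [Algebra k Λb] (p : Λq →+* Λb) (hp : Function.Surjective p)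
    (hkerp : RingHom.ker p = (RingHom.ker ε.toRingHom).map (algebraMap R₀ Λq))
    (hpk : ∀ c : k, p (algebraMap R₀ Λq (algebraMap k R₀ c)) = algebraMap k Λb c)
    (hInd : Smoothing.IndSmooth k Λb) : Smoothing.Resolvable R₀ φ₀ 𝔮₀ := by
  classical
  by_cases hle : Smoothing.singRad R₀ φ₀ ≤ 𝔮₀
  swap
  · exact ⟨C₀, inferInstance, inferInstance, inferInstance, AlgHom.id R₀ C₀, φ₀,
      AlgHom.comp_id φ₀, le_rfl, hle⟩
  let I : Ideal R₀ := RingHom.ker ε.toRingHom
  have hImem : ∀ r : R₀, r - algebraMap k R₀ (ε r) ∈ I := by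
    intro r
    change ε.toRingHom _ = 0
    change ε (r - algebraMap k R₀ (ε r)) = 0
    rw [map_sub, ε.commutes]
    exact sub_self _
  have hInil : ∀ r ∈ I, IsNilpotent r := by
    intro r hr
    refine ⟨N, ?_⟩
    have h1 : r ^ N ∈ I ^ N := Ideal.pow_mem_pow hr N
    rw [hN] at h1
    exact h1
  -- `k` as an `R₀`-algebra
  letI algR₀k : Algebra R₀ k := ε.toRingHom.toAlgebra
  letI algR₀Λb : Algebra R₀ Λb := (p.comp (algebraMap R₀ Λq)).toAlgebra
  have hIker : ∀ r ∈ I, p (algebraMap R₀ Λq r) = 0 := by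
    intro r hr
    rw [← RingHom.mem_ker, hkerp]
    exact Ideal.mem_map_of_mem _ hr
  haveI tow : IsScalarTower R₀ k Λb := by
    refine IsScalarTower.of_algebraMap_eq (fun r => ?_)
    change p (algebraMap R₀ Λq r) = algebraMap k Λb (ε r)
    rw [← hpk, ← sub_eq_zero, ← map_sub, ← map_sub]
    exact hIker _ (hImem r)
  let pA : Λq →ₐ[R₀] Λb := { p with commutes' := fun r => rfl }
  have hsurjε : Function.Surjective (algebraMap R₀ k) := by
    intro c
    exact ⟨algebraMap k R₀ c, ε.commutes c⟩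
  have hIndq : Smoothing.IndSmooth R₀ Λq :=
    SmLift.indSmooth_of_pow_eq_bot N I hN hsurjε rfl pA hp hkerp hInd
  -- the local ring `Λq` has dimension zero
  haveI : IsLocalRing Λq := IsLocalization.AtPrime.isLocalRing Λq 𝔮₀
  have hkermax : (RingHom.ker p).IsMaximal := RingHom.ker_isMaximal_of_surjective p hp
  have hkernil : ∀ x ∈ RingHom.ker p, IsNilpotent x := by
    intro x hx
    refine ⟨N, ?_⟩
    have h1 : x ^ N ∈ (RingHom.ker p) ^ N := Ideal.pow_mem_pow hx N
    rw [hkerp, ← Ideal.map_pow, hN, Ideal.map_bot] at h1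
    exact h1
  haveI hdimle : Ring.KrullDimLE 0 Λq := by
    refine Ring.KrullDimLE.mk₀ fun P hP => ?_
    have hle' : RingHom.ker p ≤ P := by
      intro x hx
      obtain ⟨m, hm⟩ := hkernil x hx
      exact hP.mem_of_pow_mem m (hm ▸ P.zero_mem)
    rw [← hkermax.eq_of_le hP.ne_top hle']
    exact hkermax
  have hdim : ringKrullDim Λq = 0 := ringKrullDimZero_iff_ringKrullDim_eq_zero.mp hdimle
  -- minimality
  have hmin : 𝔮₀ ∈ (Smoothing.singRad R₀ φ₀).minimalPrimes := by
    have h0 : 𝔮₀.height = 0 := by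
      have h1 := IsLocalization.AtPrime.ringKrullDim_eq_height 𝔮₀ Λq
      rw [hdim] at h1
      exact_mod_cast h1.symm
    rw [Ideal.height_eq_zero_iff] at h0
    refine ⟨⟨inferInstance, hle⟩, fun P hP hPq => ?_⟩
    exact h0.2 ⟨hP.1, bot_le⟩ hPq
  -- `R₀` is its own localisation
  have hIle : I ≤ 𝔮₀.comap (algebraMap R₀ Λ₀) := by
    intro r hr
    obtain ⟨m, hm⟩ := hInil r hr
    rw [Ideal.mem_comap]
    apply Ideal.IsPrime.mem_of_pow_mem inferInstance m
    rw [← map_pow, hm, map_zero]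
    exact 𝔮₀.zero_mem
  haveI : IsLocalization.AtPrime R₀ (𝔮₀.comap (algebraMap R₀ Λ₀)) := by
    refine IsLocalization.of_le_isUnit ?_
    intro s hs
    change IsUnit s
    have hεs : ε s ≠ 0 := by
      intro h0
      apply hs
      apply hIle
      exact h0
    have hu : IsUnit (algebraMap k R₀ (ε s)) := (IsUnit.mk0 _ hεs).map (algebraMap k R₀)
    have h2 := IsNilpotent.isUnit_add_left_of_commute (hInil _ (hImem s)) hu (Commute.all _ _)
    rwa [add_sub_cancel] at h2
  haveI : (𝔮₀.map (algebraMap Λ₀ Λq)).IsPrime := by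
    rw [IsLocalization.AtPrime.map_eq_maximalIdeal 𝔮₀ Λq]
    infer_instance
  refine Groth.Agent.S2034.result (Rₚ := R₀) (Λq := Λq) φ₀ 𝔮₀ hmin hdim ?_
  exact resolvable_of_indSmooth hIndq _ _

end Groth.Agent.Helper8.SepR
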