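import Mathlib
import Groth.Agent.Lib.Helper8.SepR8
import Groth.Agent.Lib.Helper8.Equidim3

/-!
# Separable residue fields, IX: the problem modulo powers of the parameters
-/

set_option autoImplicit false
universe u

namespace Groth.Agent.Helper8.SepR

open IsLocalRing

/-- Finite presentation passes to the quotient by an extended ideal, over a Noetherian base. -/
theorem finitePresentation_quot {R C : Type u} [CommRing R] [IsNoetherianRing R] [CommRing C]
    [Algebra R C] [Algebra.FinitePresentation R C] (K : Ideal R) :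
    Algebra.FinitePresentation (R ⧸ K) (C ⧸ K.map (algebraMap R C)) := by
  haveI h1 : Algebra.FiniteType R (C ⧸ K.map (algebraMap R C)) :=
    Algebra.FiniteType.of_surjective (Ideal.Quotient.mkₐ R (K.map (algebraMap R C)))
      (Ideal.Quotient.mkₐ_surjective R _)
  haveI h2 : Algebra.FiniteType (R ⧸ K) (C ⧸ K.map (algebraMap R C)) :=
    Algebra.FiniteType.of_restrictScalars_finiteType R (R ⧸ K) (C ⧸ K.map (algebraMap R C))
  exact Algebra.FinitePresentation.of_finiteType.mp h2

set_option maxHeartbeats 800000 in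
set_option synthInstance.maxHeartbeats 200000 in
/-- The dimension zero problem modulo an ideal `K` of the base containing powers of elements
`x_i` mapping to a regular system of parameters. -/
theorem resolvable_quot {k R C Λ : Type u} [Field k] [CommRing R] [Algebra k R]
    [IsNoetherianRing R] [CommRing C] [Algebra R C] [Algebra.FinitePresentation R C]
    [CommRing Λ] [Algebra R Λ] [Algebra k Λ] [IsScalarTower k R Λ]
    (K : Ideal R) (φK : (C ⧸ K.map (algebraMap R C)) →ₐ[R ⧸ K] (Λ ⧸ K.map (algebraMap R Λ)))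
    (𝔮 : Ideal Λ) [𝔮.IsPrime] (hK𝔮 : K.map (algebraMap R Λ) ≤ 𝔮)
    [Module.Flat R (Localization.AtPrime 𝔮)]
    (ε : R →ₐ[k] k) (hKε : K ≤ RingHom.ker ε.toRingHom) {d : ℕ} (x : Fin d → R)
    (hε : RingHom.ker ε.toRingHom = Ideal.span (Set.range x)) (e : ℕ) (hx : ∀ i, x i ^ e ∈ K)
    (hmax : Ideal.span (Set.range fun i => algebraMap R (Localization.AtPrime 𝔮) (x i)) =
      maximalIdeal (Localization.AtPrime 𝔮))
    (hInd : Smoothing.IndSmooth k 𝔮.ResidueField) :
    Smoothing.Resolvable (R ⧸ K) φK (𝔮.map (Ideal.Quotient.mk (K.map (algebraMap R Λ)))) := by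
  classical
  let S := Localization.AtPrime 𝔮
  let J : Ideal Λ := K.map (algebraMap R Λ)
  let J' : Ideal S := K.map (algebraMap R S)
  let 𝔮₀ : Ideal (Λ ⧸ J) := 𝔮.map (Ideal.Quotient.mk J)
  haveI h𝔮₀ : 𝔮₀.IsPrime := Ideal.map_isPrime_of_surjective Ideal.Quotient.mk_surjective
    (by rw [Ideal.mk_ker]; exact hK𝔮)
  have h𝔮₀comap : 𝔮₀.comap (Ideal.Quotient.mk J) = 𝔮 := by
    change (𝔮.map (Ideal.Quotient.mk J)).comap (Ideal.Quotient.mk J) = 𝔮
    rw [Ideal.comap_map_of_surjective _ Ideal.Quotient.mk_surjective, ← RingHom.ker_eq_comap_bot,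
      Ideal.mk_ker]
    exact sup_eq_left.mpr hK𝔮
  haveI hfpC : Algebra.FinitePresentation (R ⧸ K) (C ⧸ K.map (algebraMap R C)) :=
    finitePresentation_quot K
  -- the localisation of the quotient
  have hJJ' : J.map (algebraMap Λ S) = J' := by
    change (K.map (algebraMap R Λ)).map (algebraMap Λ S) = K.map (algebraMap R S)
    rw [Ideal.map_map, ← IsScalarTower.algebraMap_eq]
  let f : (Λ ⧸ J) →+* (S ⧸ J') := Ideal.Quotient.lift J
    ((Ideal.Quotient.mk J').comp (algebraMap Λ S)) (fun a ha => by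
      rw [RingHom.comp_apply, Ideal.Quotient.eq_zero_iff_mem, ← hJJ']
      exact Ideal.mem_map_of_mem _ ha)
  letI algΛ₀Λq : Algebra (Λ ⧸ J) (S ⧸ J') := f.toAlgebra
  have hfmk : ∀ a : Λ, algebraMap (Λ ⧸ J) (S ⧸ J') (Ideal.Quotient.mk J a) =
      Ideal.Quotient.mk J' (algebraMap Λ S a) := fun a => rfl
  haveI hloc : IsLocalization.AtPrime (S ⧸ J') 𝔮₀ := by
    have h1 : IsLocalization (𝔮.primeCompl.map (Ideal.Quotient.mk J)) (S ⧸ J') := by
      refine IsLocalization.of_surjective 𝔮.primeCompl S (Ideal.Quotient.mk J)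
        Ideal.Quotient.mk_surjective (Ideal.Quotient.mk J') Ideal.Quotient.mk_surjective ?_ ?_
      · ext a
        rfl
      · rw [Ideal.mk_ker, Ideal.mk_ker, hJJ']
    have h2 : 𝔮.primeCompl.map (Ideal.Quotient.mk J) = 𝔮₀.primeCompl := by
      ext y
      constructor
      · rintro ⟨a, ha, rfl⟩
        intro hmem
        apply ha
        rw [← h𝔮₀comap]
        exact hmem
      · intro hy
        obtain ⟨a, rfl⟩ := Ideal.Quotient.mk_surjective y
        refine ⟨a, ?_, rfl⟩
        intro ha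
        apply hy
        rw [← h𝔮₀comap] at ha
        exact ha
    rw [h2] at h1
    exact h1
  haveI htow : IsScalarTower (R ⧸ K) (Λ ⧸ J) (S ⧸ J') := by
    refine IsScalarTower.of_algebraMap_eq (fun r => ?_)
    obtain ⟨r, rfl⟩ := Ideal.Quotient.mk_surjective r
    rw [Ideal.Quotient.algebraMap_quotient_map_quotient,
      Ideal.Quotient.algebraMap_quotient_map_quotient, hfmk, ← IsScalarTower.algebraMap_apply]
  haveI hflat : Module.Flat (R ⧸ K) (S ⧸ J') := Equidim.flat_quot R S K
  -- the augmentation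
  let ε₀ : (R ⧸ K) →ₐ[k] k := Ideal.Quotient.liftₐ K ε (fun a ha => hKε ha)
  have hε₀mk : ∀ a : R, ε₀ (Ideal.Quotient.mk K a) = ε a := fun a => rfl
  have hkerε₀ : RingHom.ker ε₀.toRingHom =
      Ideal.span (Set.range fun i => Ideal.Quotient.mk K (x i)) := by
    apply le_antisymm
    · intro y hy
      obtain ⟨a, rfl⟩ := Ideal.Quotient.mk_surjective y
      have ha : a ∈ RingHom.ker ε.toRingHom := hy
      rw [hε] at ha
      have h1 := Ideal.mem_map_of_mem (Ideal.Quotient.mk K) ha
      rw [Ideal.map_span, ← Set.range_comp] at h1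
      exact h1
    · rw [Ideal.span_le]
      rintro _ ⟨i, rfl⟩
      have h1 : x i ∈ RingHom.ker ε.toRingHom := by
        rw [hε]
        exact Ideal.subset_span ⟨i, rfl⟩
      exact h1
  have hnil : IsNilpotent (RingHom.ker ε₀.toRingHom) := by
    rw [Ideal.FG.isNilpotent_iff_le_nilradical (IsNoetherian.noetherian _), hkerε₀, Ideal.span_le]
    rintro _ ⟨i, rfl⟩
    refine ⟨e, ?_⟩
    rw [← map_pow, Ideal.zero_eq_bot, Ideal.mem_bot, Ideal.Quotient.eq_zero_iff_mem]
    exact hx i
  obtain ⟨N, hN⟩ := hnil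
  rw [Ideal.zero_eq_bot] at hN
  -- the residue map
  have hJ'le : J' ≤ maximalIdeal S := by
    rw [← hJJ', ← Localization.AtPrime.map_eq_maximalIdeal]
    exact Ideal.map_mono hK𝔮
  let p : (S ⧸ J') →+* 𝔮.ResidueField := Ideal.Quotient.lift J' (IsLocalRing.residue S)
    (fun a ha => by
      rw [IsLocalRing.residue_eq_zero_iff]
      exact hJ'le ha)
  have hpmk : ∀ s : S, p (Ideal.Quotient.mk J' s) = IsLocalRing.residue S s := fun s => rfl
  have hp : Function.Surjective p := by
    intro y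
    obtain ⟨s, rfl⟩ := IsLocalRing.residue_surjective y
    exact ⟨Ideal.Quotient.mk J' s, rfl⟩
  have hkerp : RingHom.ker p = (RingHom.ker ε₀.toRingHom).map (algebraMap (R ⧸ K) (S ⧸ J')) := by
    rw [hkerε₀, Ideal.map_span, ← Set.range_comp]
    have h1 : ((algebraMap (R ⧸ K) (S ⧸ J')) ∘ fun i => Ideal.Quotient.mk K (x i)) =
        (Ideal.Quotient.mk J') ∘ fun i => algebraMap R S (x i) := by
      funext i
      simp only [Function.comp_apply]
      rw [Ideal.Quotient.algebraMap_quotient_map_quotient]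
    rw [h1, Set.range_comp, ← Ideal.map_span, hmax]
    apply le_antisymm
    · intro y hy
      obtain ⟨s, rfl⟩ := Ideal.Quotient.mk_surjective y
      rw [RingHom.mem_ker, hpmk, IsLocalRing.residue_eq_zero_iff] at hy
      exact Ideal.mem_map_of_mem _ hy
    · rw [Ideal.map_le_iff_le_comap]
      intro s hs
      rw [Ideal.mem_comap, RingHom.mem_ker, hpmk, IsLocalRing.residue_eq_zero_iff]
      exact hs
  have hpk : ∀ c : k, p (algebraMap (R ⧸ K) (S ⧸ J') (algebraMap k (R ⧸ K) c)) =
      algebraMap k 𝔮.ResidueField c := by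
    intro c
    have h1 : algebraMap k (R ⧸ K) c = Ideal.Quotient.mk K (algebraMap k R c) := rfl
    rw [h1, Ideal.Quotient.algebraMap_quotient_map_quotient, hpmk,
      IsScalarTower.algebraMap_apply k S 𝔮.ResidueField,
      IsScalarTower.algebraMap_apply k R S]
    rfl
  exact resolvable_artinian (Λq := S ⧸ J') (Λb := 𝔮.ResidueField) φK 𝔮₀ ε₀ N hN p hp hkerp hpk hInd

end Groth.Agent.Helper8.SepR
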