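import Mathlib
import Groth.Agent.Lib.Helper8.SepR8
import Groth.Agent.Lib.Helper8.SepR9

/-! Resolving the problem modulo `K` from a smooth factorisation over the localisation of the
base. -/

set_option autoImplicit false
universe u

namespace Groth.Agent.Helper8.InsB

open IsLocalRing TensorProduct Groth.Agent.Helper8.SepR

set_option maxHeartbeats 1600000 in
set_option synthInstance.maxHeartbeats 200000 in
theorem resolvable_quot_of_smooth {R C Λ : Type u} [CommRing R] [IsNoetherianRing R]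
    [CommRing C] [Algebra R C] [Algebra.FinitePresentation R C] [CommRing Λ] [Algebra R Λ]
    (K : Ideal R) (φC : C →ₐ[R] Λ)
    (φK : (C ⧸ K.map (algebraMap R C)) →ₐ[R ⧸ K] (Λ ⧸ K.map (algebraMap R Λ)))
    (hφK : ∀ c : C, φK (Ideal.Quotient.mk _ c) = Ideal.Quotient.mk _ (φC c))
    (𝔮 : Ideal Λ) [𝔮.IsPrime] (hK𝔮 : K.map (algebraMap R Λ) ≤ 𝔮)
    [h𝔮₀ : (𝔮.map (Ideal.Quotient.mk (K.map (algebraMap R Λ)))).IsPrime]
    (n : ℕ) (hn : maximalIdeal (Localization.AtPrime 𝔮) ^ n ≤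
      K.map (algebraMap R (Localization.AtPrime 𝔮)))
    (Rₚ : Type u) [CommRing Rₚ] [Algebra (R ⧸ K) Rₚ]
    [IsLocalization.AtPrime Rₚ ((𝔮.map (Ideal.Quotient.mk (K.map (algebraMap R Λ)))).comap
      (algebraMap (R ⧸ K) (Λ ⧸ K.map (algebraMap R Λ))))]
    (B' : Type u) [CommRing B'] [Algebra Rₚ B'] [Algebra.Smooth Rₚ B']
    (g : C →+* B')
    (hg : ∀ x : R, g (algebraMap R C x) =
      algebraMap Rₚ B' (algebraMap (R ⧸ K) Rₚ (Ideal.Quotient.mk K x)))
    (h : B' →+* (Localization.AtPrime 𝔮 ⧸ K.map (algebraMap R (Localization.AtPrime 𝔮))))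
    (hh : ∀ x : R, h (algebraMap Rₚ B' (algebraMap (R ⧸ K) Rₚ (Ideal.Quotient.mk K x))) =
      Ideal.Quotient.mk _ (algebraMap R (Localization.AtPrime 𝔮) x))
    (hgh : ∀ c : C, h (g c) = Ideal.Quotient.mk _ (algebraMap Λ (Localization.AtPrime 𝔮) (φC c))) :
    Smoothing.Resolvable (R ⧸ K) φK (𝔮.map (Ideal.Quotient.mk (K.map (algebraMap R Λ)))) := by
  classical
  let S := Localization.AtPrime 𝔮
  let J : Ideal Λ := K.map (algebraMap R Λ)
  let J' : Ideal S := K.map (algebraMap R S)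
  let 𝔮₀ : Ideal (Λ ⧸ J) := 𝔮.map (Ideal.Quotient.mk J)
  let 𝔭₀ : Ideal (R ⧸ K) := 𝔮₀.comap (algebraMap (R ⧸ K) (Λ ⧸ J))
  have h𝔮₀comap : 𝔮₀.comap (Ideal.Quotient.mk J) = 𝔮 := by
    change (𝔮.map (Ideal.Quotient.mk J)).comap (Ideal.Quotient.mk J) = 𝔮
    rw [Ideal.comap_map_of_surjective _ Ideal.Quotient.mk_surjective, ← RingHom.ker_eq_comap_bot,
      Ideal.mk_ker]
    exact sup_eq_left.mpr hK𝔮
  by_cases hle : Smoothing.singRad (R ⧸ K) φK ≤ 𝔮₀
  swap
  · haveI hfpC : Algebra.FinitePresentation (R ⧸ K) (C ⧸ K.map (algebraMap R C)) :=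
      finitePresentation_quot K
    exact ⟨C ⧸ K.map (algebraMap R C), inferInstance, inferInstance, inferInstance,
      AlgHom.id (R ⧸ K) _, φK, AlgHom.comp_id φK, le_rfl, hle⟩
  haveI hfpC : Algebra.FinitePresentation (R ⧸ K) (C ⧸ K.map (algebraMap R C)) :=
    finitePresentation_quot K
  -- the localisation of the quotient
  have hJJ' : J.map (algebraMap Λ S) = J' := by
    change (K.map (algebraMap R Λ)).map (algebraMap Λ S) = K.map (algebraMap R S)
    rw [Ideal.map_map, ← IsScalarTower.algebraMap_eq]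
  let f : (Λ ⧸ J) →+* (S ⧸ J') := Ideal.Quotient.lift J
    ((Ideal.Quotient.mk J').comp (algebraMap Λ S)) (fun a ha => by
      rw [RingHom.comp_apply, Ideal.Quotient.eq_zero_iff_mem, ← hJJ']
      exact Ideal.mem_map_of_mem _ ha)
  letI algΛ₀Λq : Algebra (Λ ⧸ J) (S ⧸ J') := f.toAlgebra
  have hfmk : ∀ a : Λ, algebraMap (Λ ⧸ J) (S ⧸ J') (Ideal.Quotient.mk J a) =
      Ideal.Quotient.mk J' (algebraMap Λ S a) := fun a => rfl
  haveI hloc : IsLocalization.AtPrime (S ⧸ J') 𝔮₀ := by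
    have h1 : IsLocalization (𝔮.primeCompl.map (Ideal.Quotient.mk J)) (S ⧸ J') := by
      refine IsLocalization.of_surjective 𝔮.primeCompl S (Ideal.Quotient.mk J)
        Ideal.Quotient.mk_surjective (Ideal.Quotient.mk J') Ideal.Quotient.mk_surjective ?_ ?_
      · ext a
        rfl
      · rw [Ideal.mk_ker, Ideal.mk_ker, hJJ']
    have h2 : 𝔮.primeCompl.map (Ideal.Quotient.mk J) = 𝔮₀.primeCompl := by
      ext y
      constructor
      · rintro ⟨a, ha, rfl⟩
        intro hmem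
        apply ha
        rw [← h𝔮₀comap]
        exact hmem
      · intro hy
        obtain ⟨a, rfl⟩ := Ideal.Quotient.mk_surjective y
        refine ⟨a, ?_, rfl⟩
        intro ha
        apply hy
        rw [← h𝔮₀comap] at ha
        exact ha
    rw [h2] at h1
    exact h1
  haveI htow : IsScalarTower (R ⧸ K) (Λ ⧸ J) (S ⧸ J') := by
    refine IsScalarTower.of_algebraMap_eq (fun r => ?_)
    obtain ⟨r, rfl⟩ := Ideal.Quotient.mk_surjective r
    rw [Ideal.Quotient.algebraMap_quotient_map_quotient,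
      Ideal.Quotient.algebraMap_quotient_map_quotient, hfmk, ← IsScalarTower.algebraMap_apply]
  -- `Rₚ → S ⧸ J'`
  have hunits : ∀ y : 𝔭₀.primeCompl, IsUnit (algebraMap (R ⧸ K) (S ⧸ J') (y : R ⧸ K)) := by
    intro y
    rw [IsScalarTower.algebraMap_apply (R ⧸ K) (Λ ⧸ J) (S ⧸ J')]
    exact IsLocalization.map_units (S ⧸ J')
      (⟨algebraMap (R ⧸ K) (Λ ⧸ J) (y : R ⧸ K), y.2⟩ : 𝔮₀.primeCompl)
  let θ : Rₚ →+* (S ⧸ J') := IsLocalization.lift (M := 𝔭₀.primeCompl)
    (g := algebraMap (R ⧸ K) (S ⧸ J')) hunits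
  have hθ : ∀ y : R ⧸ K, θ (algebraMap (R ⧸ K) Rₚ y) = algebraMap (R ⧸ K) (S ⧸ J') y :=
    fun y => IsLocalization.lift_eq _ y
  letI algRₚΛq : Algebra Rₚ (S ⧸ J') := θ.toAlgebra
  haveI htow2 : IsScalarTower (R ⧸ K) Rₚ (S ⧸ J') :=
    IsScalarTower.of_algebraMap_eq (fun y => (hθ y).symm)
  -- dimension zero
  haveI : IsLocalRing (S ⧸ J') := IsLocalization.AtPrime.isLocalRing (S ⧸ J') 𝔮₀
  have hmaxnil : ∀ x ∈ maximalIdeal (S ⧸ J'), IsNilpotent x := by
    intro x hx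
    obtain ⟨s, rfl⟩ := Ideal.Quotient.mk_surjective x
    have hs : s ∈ maximalIdeal S := by
      by_contra hs
      have hu : IsUnit s := by
        by_contra hnu
        exact hs ((mem_maximalIdeal s).mpr hnu)
      exact (mem_maximalIdeal _).mp hx (hu.map _)
    refine ⟨n, ?_⟩
    rw [← map_pow, Ideal.Quotient.eq_zero_iff_mem]
    exact hn (Ideal.pow_mem_pow hs n)
  haveI hdimle : Ring.KrullDimLE 0 (S ⧸ J') := by
    refine Ring.KrullDimLE.mk₀ fun P hP => ?_
    have hle' : maximalIdeal (S ⧸ J') ≤ P := by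
      intro x hx
      obtain ⟨m, hm⟩ := hmaxnil x hx
      exact hP.mem_of_pow_mem m (hm ▸ P.zero_mem)
    rw [← (maximalIdeal.isMaximal (S ⧸ J')).eq_of_le hP.ne_top hle']
    exact maximalIdeal.isMaximal _
  have hdim : ringKrullDim (S ⧸ J') = 0 := ringKrullDimZero_iff_ringKrullDim_eq_zero.mp hdimle
  -- minimality
  have hmin : 𝔮₀ ∈ (Smoothing.singRad (R ⧸ K) φK).minimalPrimes := by
    have h0 : 𝔮₀.height = 0 := by
      have h1 := IsLocalization.AtPrime.ringKrullDim_eq_height 𝔮₀ (S ⧸ J')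
      rw [hdim] at h1
      exact_mod_cast h1.symm
    rw [Ideal.height_eq_zero_iff] at h0
    refine ⟨⟨inferInstance, hle⟩, fun P hP hPq => ?_⟩
    exact h0.2 ⟨hP.1, bot_le⟩ hPq
  haveI : (𝔮₀.map (algebraMap (Λ ⧸ J) (S ⧸ J'))).IsPrime := by
    rw [IsLocalization.AtPrime.map_eq_maximalIdeal 𝔮₀ (S ⧸ J')]
    infer_instance
  refine Groth.Agent.S2034.result (Rₚ := Rₚ) (Λq := S ⧸ J') φK 𝔮₀ hmin hdim ?_
  -- the smooth factorisation
  letI algR₀B' : Algebra (R ⧸ K) B' := ((algebraMap Rₚ B').comp (algebraMap (R ⧸ K) Rₚ)).toAlgebra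
  haveI towB' : IsScalarTower (R ⧸ K) Rₚ B' := IsScalarTower.of_algebraMap_eq (fun _ => rfl)
  have hgK : ∀ c ∈ K.map (algebraMap R C), g c = 0 := by
    intro c hc
    have hle2 : K.map (algebraMap R C) ≤ RingHom.ker g := by
      rw [Ideal.map_le_iff_le_comap]
      intro x hx
      rw [Ideal.mem_comap, RingHom.mem_ker, hg, (Ideal.Quotient.eq_zero_iff_mem).mpr hx, map_zero,
        map_zero]
    exact hle2 hc
  let g₀ : (C ⧸ K.map (algebraMap R C)) →+* B' := Ideal.Quotient.lift _ g hgK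
  have hg₀mk : ∀ c, g₀ (Ideal.Quotient.mk _ c) = g c := fun c => rfl
  let gK : (C ⧸ K.map (algebraMap R C)) →ₐ[R ⧸ K] B' :=
    { g₀ with
      commutes' := fun y => by
        obtain ⟨x, rfl⟩ := Ideal.Quotient.mk_surjective y
        change g₀ (algebraMap (R ⧸ K) (C ⧸ K.map (algebraMap R C)) (Ideal.Quotient.mk K x)) = _
        rw [Ideal.Quotient.algebraMap_quotient_map_quotient, hg₀mk, hg]
        rfl }
  have hgKmk : ∀ c, gK (Ideal.Quotient.mk _ c) = g c := fun c => rfl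
  let g' : Rₚ ⊗[R ⧸ K] (C ⧸ K.map (algebraMap R C)) →ₐ[Rₚ] B' :=
    Algebra.TensorProduct.lift (Algebra.ofId Rₚ B') gK (fun _ _ => Commute.all _ _)
  have hhcomm : ∀ z : Rₚ, h (algebraMap Rₚ B' z) = algebraMap Rₚ (S ⧸ J') z := by
    have h1 : h.comp (algebraMap Rₚ B') = algebraMap Rₚ (S ⧸ J') := by
      apply IsLocalization.ringHom_ext 𝔭₀.primeCompl
      ext x
      simp only [RingHom.comp_apply]
      rw [hh]
      change _ = θ (algebraMap (R ⧸ K) Rₚ (Ideal.Quotient.mk K x))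
      rw [hθ, Ideal.Quotient.algebraMap_quotient_map_quotient]
    intro z
    exact congrFun (congrArg DFunLike.coe h1) z
  let h' : B' →ₐ[Rₚ] (S ⧸ J') := { h with commutes' := hhcomm }
  have hh' : ∀ b, h' b = h b := fun b => rfl
  haveI : Algebra.FinitePresentation Rₚ B' := Algebra.Smooth.finitePresentation
  have htop : Smoothing.singRad Rₚ h' = ⊤ := by
    unfold Smoothing.singRad
    rw [singularIdeal_eq_top_of_smooth, Ideal.map_top, Ideal.radical_top]
  refine ⟨B', inferInstance, inferInstance, inferInstance, g', h', ?_, ?_, ?_⟩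
  · apply Algebra.TensorProduct.ext'
    intro z c
    obtain ⟨c, rfl⟩ := Ideal.Quotient.mk_surjective c
    rw [AlgHom.comp_apply]
    change h' (Algebra.TensorProduct.lift (Algebra.ofId Rₚ B') gK _ (z ⊗ₜ _)) =
      Algebra.TensorProduct.lift (Algebra.ofId Rₚ (S ⧸ J'))
        ((IsScalarTower.toAlgHom (R ⧸ K) (Λ ⧸ J) (S ⧸ J')).comp φK) _ (z ⊗ₜ _)
    rw [Algebra.TensorProduct.lift_tmul, Algebra.TensorProduct.lift_tmul, map_mul, hgKmk, hh', hh',
      hgh]
    change h (algebraMap Rₚ B' z) * _ = algebraMap Rₚ (S ⧸ J') z *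
      algebraMap (Λ ⧸ J) (S ⧸ J') (φK (Ideal.Quotient.mk _ c))
    rw [hhcomm, hφK, hfmk]
  · rw [htop]
    exact le_top
  · rw [htop]
    intro hcon
    exact (inferInstance : (𝔮₀.map (algebraMap (Λ ⧸ J) (S ⧸ J'))).IsPrime).ne_top
      (top_le_iff.mp hcon)

end Groth.Agent.Helper8.InsB
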