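import Mathlib
import Groth.Agent.Lib.Helper8.LocTr5

/-!
# Separable residue fields, III: algebras over a polynomial ring
-/

set_option autoImplicit false
universe u

namespace Groth.Agent.Helper8.SepR

open MvPolynomial

section OverPoly

variable {k : Type u} [CommRing k] {d : ℕ}

/-- A `k`-algebra map between algebras over `k[x]` is `k[x]`-linear if it respects the `x_i`. -/
theorem commutes_of_X {S P : Type u} [CommRing S] [CommRing P] [Algebra k S] [Algebra k P]
    [Algebra (MvPolynomial (Fin d) k) S] [Algebra (MvPolynomial (Fin d) k) P]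
    [IsScalarTower k (MvPolynomial (Fin d) k) S] [IsScalarTower k (MvPolynomial (Fin d) k) P]
    (f : S →ₐ[k] P)
    (h : ∀ i, f (algebraMap (MvPolynomial (Fin d) k) S (X i)) =
      algebraMap (MvPolynomial (Fin d) k) P (X i)) (p : MvPolynomial (Fin d) k) :
    f (algebraMap (MvPolynomial (Fin d) k) S p) = algebraMap (MvPolynomial (Fin d) k) P p := by
  have : f.comp (IsScalarTower.toAlgHom k (MvPolynomial (Fin d) k) S) =
      IsScalarTower.toAlgHom k (MvPolynomial (Fin d) k) P := by
    refine MvPolynomial.algHom_ext fun i => ?_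
    exact h i
  exact DFunLike.congr_fun this p

/-- Upgrade a `k`-algebra map to a `k[x]`-algebra map. -/
noncomputable def toPolyAlgHom {S P : Type u} [CommRing S] [CommRing P] [Algebra k S]
    [Algebra k P]
    [Algebra (MvPolynomial (Fin d) k) S] [Algebra (MvPolynomial (Fin d) k) P]
    [IsScalarTower k (MvPolynomial (Fin d) k) S] [IsScalarTower k (MvPolynomial (Fin d) k) P]
    (f : S →ₐ[k] P)
    (h : ∀ i, f (algebraMap (MvPolynomial (Fin d) k) S (X i)) =
      algebraMap (MvPolynomial (Fin d) k) P (X i)) : S →ₐ[MvPolynomial (Fin d) k] P :=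
  { toRingHom := f.toRingHom
    commutes' := commutes_of_X f h }

@[simp] theorem toPolyAlgHom_apply {S P : Type u} [CommRing S] [CommRing P] [Algebra k S]
    [Algebra k P]
    [Algebra (MvPolynomial (Fin d) k) S] [Algebra (MvPolynomial (Fin d) k) P]
    [IsScalarTower k (MvPolynomial (Fin d) k) S] [IsScalarTower k (MvPolynomial (Fin d) k) P]
    (f : S →ₐ[k] P)
    (h : ∀ i, f (algebraMap (MvPolynomial (Fin d) k) S (X i)) =
      algebraMap (MvPolynomial (Fin d) k) P (X i)) (s : S) : toPolyAlgHom f h s = f s := rfl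

/-- A polynomial ring over a formally smooth `k`-algebra is formally smooth over `k[x]`, when
the `x_i` are sent to distinct variables. -/
theorem formallySmooth_mvPolynomial_over {S : Type u} [CommRing S] [Algebra k S]
    [Algebra.FormallySmooth k S] {σ : Type} (ι : Fin d → σ) (hι : Function.Injective ι)
    [Algebra (MvPolynomial (Fin d) k) (MvPolynomial σ S)]
    [IsScalarTower k (MvPolynomial (Fin d) k) (MvPolynomial σ S)]
    (hX : ∀ i, algebraMap (MvPolynomial (Fin d) k) (MvPolynomial σ S) (X i) = X (ι i)) :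
    Algebra.FormallySmooth (MvPolynomial (Fin d) k) (MvPolynomial σ S) := by
  classical
  refine Algebra.FormallySmooth.of_comp_surjective fun Q _ _ J hJ g => ?_
  letI algkQ : Algebra k Q :=
    ((algebraMap (MvPolynomial (Fin d) k) Q).comp (algebraMap k (MvPolynomial (Fin d) k))).toAlgebra
  haveI towQ : IsScalarTower k (MvPolynomial (Fin d) k) Q :=
    IsScalarTower.of_algebraMap_eq (fun x => rfl)
  let g₀ : S →ₐ[k] Q ⧸ J :=
    (g.restrictScalars k).comp (IsScalarTower.toAlgHom k S (MvPolynomial σ S))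
  obtain ⟨ℓ₀, hℓ₀⟩ := Algebra.FormallySmooth.comp_surjective k S J hJ g₀
  have hℓ₀' : ∀ s, Ideal.Quotient.mk J (ℓ₀ s) = g (C s) := fun s => DFunLike.congr_fun hℓ₀ s
  have hlift : ∀ o : σ, ∃ y : Q, Ideal.Quotient.mk J y = g (X o) :=
    fun o => Ideal.Quotient.mk_surjective _
  choose y₀ hy₀ using hlift
  let y : σ → Q := fun o =>
    if h : ∃ i, ι i = o then algebraMap (MvPolynomial (Fin d) k) Q (X h.choose) else y₀ o
  have hyι : ∀ i, y (ι i) = algebraMap (MvPolynomial (Fin d) k) Q (X i) := by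
    intro i
    have h : ∃ i', ι i' = ι i := ⟨i, rfl⟩
    simp only [y, dif_pos h]
    rw [hι h.choose_spec]
  have hy : ∀ o, Ideal.Quotient.mk J (y o) = g (X o) := by
    intro o
    by_cases h : ∃ i, ι i = o
    · obtain ⟨i, rfl⟩ := h
      rw [hyι, ← hX, g.commutes]
      rfl
    · simp only [y, dif_neg h]
      exact hy₀ o
  let ℓ : MvPolynomial σ S →ₐ[k] Q := aevalTower ℓ₀ y
  have hℓX : ∀ o, ℓ (X o) = y o := fun o => aevalTower_X _ _ _
  have hℓC : ∀ s, ℓ (C s) = ℓ₀ s := fun s => aevalTower_C _ _ _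
  let ℓ' : MvPolynomial σ S →ₐ[MvPolynomial (Fin d) k] Q :=
    toPolyAlgHom ℓ (fun i => by rw [hX, hℓX, hyι])
  refine ⟨ℓ', ?_⟩
  have h1 : ((Ideal.Quotient.mkₐ (MvPolynomial (Fin d) k) J).comp ℓ').toRingHom = g.toRingHom := by
    refine MvPolynomial.ringHom_ext (fun s => ?_) (fun o => ?_)
    · change Ideal.Quotient.mk J (ℓ (C s)) = g (C s)
      rw [hℓC, hℓ₀']
    · change Ideal.Quotient.mk J (ℓ (X o)) = g (X o)
      rw [hℓX, hy]
  exact AlgHom.ext fun t => RingHom.congr_fun h1 t

end OverPoly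

end Groth.Agent.Helper8.SepR
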