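import Mathlib
import Groth.Agent.Lib.Helper8.SepR3
import Groth.Agent.Lib.Helper8.LiftA7

/-!
# Separable residue fields, IV: the algebra `B = A[x, z]/(x_i^n - ∑ z_ij a_j)`
-/

set_option autoImplicit false
universe u

namespace Groth.Agent.Helper8.SepR

open MvPolynomial

section DefB

variable (k : Type u) [CommRing k] (A : Type u) [CommRing A] [Algebra k A] (d r n : ℕ)
  (a : Fin r → A)

/-- The variables of `B`. -/
abbrev VarB (d r : ℕ) : Type := Fin d ⊕ (Fin d × Fin r)

/-- The relations `x_i^n - ∑ z_ij a_j`. -/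
noncomputable def relB : Fin d → MvPolynomial (VarB d r) A := fun i =>
  X (Sum.inl i) ^ n - ∑ j, X (Sum.inr (i, j)) * C (a j)

/-- The algebra `B`. -/
abbrev BB : Type u := MvPolynomial (VarB d r) A ⧸ Ideal.span (Set.range (relB A d r n a))

/-- The class of `x_i`. -/
noncomputable def xB (i : Fin d) : BB A d r n a := Ideal.Quotient.mk _ (X (Sum.inl i))

/-- The class of `z_ij`. -/
noncomputable def zB (i : Fin d) (j : Fin r) : BB A d r n a :=
  Ideal.Quotient.mk _ (X (Sum.inr (i, j)))

theorem xB_pow (i : Fin d) :
    xB A d r n a i ^ n = ∑ j, zB A d r n a i j * algebraMap A (BB A d r n a) (a j) := by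
  have h : relB A d r n a i ∈ Ideal.span (Set.range (relB A d r n a)) :=
    Ideal.subset_span ⟨i, rfl⟩
  rw [← Ideal.Quotient.eq_zero_iff_mem] at h
  simp only [relB, map_sub, map_pow, map_sum, map_mul] at h
  rw [sub_eq_zero] at h
  exact h

/-- The structure of `k[x]`-algebra on `B`. -/
@[reducible] noncomputable def algPolyBB : Algebra (MvPolynomial (Fin d) k) (BB A d r n a) :=
  (aeval (xB A d r n a) : MvPolynomial (Fin d) k →ₐ[k] BB A d r n a).toRingHom.toAlgebra

theorem towerPolyBB :
    letI := algPolyBB k A d r n a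
    IsScalarTower k (MvPolynomial (Fin d) k) (BB A d r n a) := by
  letI := algPolyBB k A d r n a
  refine IsScalarTower.of_algebraMap_eq (fun c => ?_)
  exact ((aeval (xB A d r n a) : MvPolynomial (Fin d) k →ₐ[k] BB A d r n a).commutes c).symm

theorem algebraMap_polyBB_X (i : Fin d) :
    letI := algPolyBB k A d r n a
    algebraMap (MvPolynomial (Fin d) k) (BB A d r n a) (X i) = xB A d r n a i := by
  letI := algPolyBB k A d r n a
  exact aeval_X _ _

set_option maxHeartbeats 400000 in
set_option synthInstance.maxHeartbeats 200000 in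
theorem formallySmooth_away_a (j : Fin r) [Algebra.FormallySmooth k (Localization.Away (a j))] :
    letI := algPolyBB k A d r n a
    Algebra.FormallySmooth (MvPolynomial (Fin d) k) (Localization.Away
      (Ideal.Quotient.mk (Ideal.span (Set.range (relB A d r n a))) (C (a j)))) := by
  classical
  letI := algPolyBB k A d r n a
  haveI := towerPolyBB k A d r n a
  let Aa := Localization.Away (a j)
  let T := MvPolynomial (VarB d r) Aa
  let Ba := Localization.Away
    (Ideal.Quotient.mk (Ideal.span (Set.range (relB A d r n a))) (C (a j)))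
  -- `T` as a `k[x]`-algebra
  letI algRT : Algebra (MvPolynomial (Fin d) k) T :=
    (aeval (fun i => (X (Sum.inl i) : T)) : MvPolynomial (Fin d) k →ₐ[k] T).toRingHom.toAlgebra
  haveI towRT : IsScalarTower k (MvPolynomial (Fin d) k) T :=
    IsScalarTower.of_algebraMap_eq (fun c =>
      ((aeval (fun i => (X (Sum.inl i) : T)) : MvPolynomial (Fin d) k →ₐ[k] T).commutes c).symm)
  have hXT : ∀ i, algebraMap (MvPolynomial (Fin d) k) T (X i) = X (Sum.inl i) :=
    fun i => aeval_X _ _
  haveI : Algebra.FormallySmooth (MvPolynomial (Fin d) k) T :=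
    formallySmooth_mvPolynomial_over (S := Aa) (σ := VarB d r) Sum.inl Sum.inl_injective hXT
  -- the inverse of `a j`
  let u : Aa := IsLocalization.Away.invSelf (a j)
  have hu : algebraMap A Aa (a j) * u = 1 := IsLocalization.Away.mul_invSelf (a j)
  -- the map `Φ`
  let rest : Fin d → T := fun i => X (Sum.inl i) ^ n -
    ∑ j' ∈ Finset.univ.erase j, X (Sum.inr (i, j')) * C (algebraMap A Aa (a j'))
  let vals : VarB d r → T := fun o => match o with
    | Sum.inl i => X (Sum.inl i)
    | Sum.inr (i, j') => if j' = j then C u * rest i else X (Sum.inr (i, j'))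
  have hC : ∀ x : A, (aeval vals : MvPolynomial (VarB d r) A →ₐ[A] T) (C x) =
      C (algebraMap A Aa x) := by
    intro x
    rw [aeval_C]
    rfl
  have h3 : (C (algebraMap A Aa (a j)) : T) * C u = 1 := by rw [← C_mul, hu, C_1]
  have hrel : ∀ i, aeval vals (relB A d r n a i) = 0 := by
    intro i
    simp only [relB, map_sub, map_pow, map_sum, map_mul, aeval_X, hC]
    rw [← Finset.add_sum_erase Finset.univ _ (Finset.mem_univ j)]
    have h1 : vals (Sum.inr (i, j)) = C u * rest i := by simp [vals]
    have h2 : ∑ j' ∈ Finset.univ.erase j, vals (Sum.inr (i, j')) * C (algebraMap A Aa (a j')) =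
        ∑ j' ∈ Finset.univ.erase j, X (Sum.inr (i, j')) * C (algebraMap A Aa (a j')) := by
      refine Finset.sum_congr rfl fun j' hj' => ?_
      have : j' ≠ j := Finset.ne_of_mem_erase hj'
      simp [vals, this]
    have h4 : vals (Sum.inl i) = X (Sum.inl i) := rfl
    rw [h1, h2, h4]
    have hrest : rest i = X (Sum.inl i) ^ n -
      ∑ j' ∈ Finset.univ.erase j, X (Sum.inr (i, j')) * C (algebraMap A Aa (a j')) := rfl
    rw [hrest]
    linear_combination (-(X (Sum.inl i) ^ n -
      ∑ j' ∈ Finset.univ.erase j, X (Sum.inr (i, j')) * C (algebraMap A Aa (a j')))) * h3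
  have hu' : IsUnit (aeval vals (C (a j) : MvPolynomial (VarB d r) A)) := by
    rw [hC]
    exact (IsLocalization.Away.algebraMap_isUnit (a j)).map C
  obtain ⟨Φ, hΦ⟩ := LocTr.exists_algHom_away (relB A d r n a) (C (a j)) vals hrel hu'
  -- the map `Ψ`
  let am : BB A d r n a →ₐ[A] Ba := IsScalarTower.toAlgHom A (BB A d r n a) Ba
  have haju : IsUnit ((Algebra.ofId A Ba) (a j)) := by
    change IsUnit (algebraMap A Ba (a j))
    rw [IsScalarTower.algebraMap_apply A (BB A d r n a) Ba]
    exact IsLocalization.Away.algebraMap_isUnit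
      (Ideal.Quotient.mk (Ideal.span (Set.range (relB A d r n a))) (C (a j)))
  let ΨA : Aa →ₐ[A] Ba := IsLocalization.Away.liftAlgHom (a j) (f := Algebra.ofId A Ba) haju
  have hΨA : ∀ x : A, ΨA (algebraMap A Aa x) = algebraMap A Ba x := fun x =>
    IsLocalization.Away.lift_eq _ haju x
  let gen : VarB d r → Ba := fun o => am (Ideal.Quotient.mk _ (X o))
  let Ψ : T →ₐ[A] Ba := aevalTower ΨA gen
  have hΨX : ∀ o, Ψ (X o) = gen o := fun o => aevalTower_X _ _ _
  have hΨC : ∀ s, Ψ (C s) = ΨA s := fun s => aevalTower_C _ _ _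
  -- the composite is the identity
  have hgenpow : ∀ i, gen (Sum.inl i) ^ n =
      ∑ j', gen (Sum.inr (i, j')) * algebraMap A Ba (a j') := by
    intro i
    have := congrArg am (xB_pow A d r n a i)
    simp only [map_pow, map_sum, map_mul, AlgHom.commutes] at this
    exact this
  have hcomp : Ψ.comp Φ = AlgHom.id A Ba := by
    refine LocTr.algHom_ext_away (relB A d r n a) (C (a j)) fun o => ?_
    rw [AlgHom.comp_apply, hΦ, aeval_X, AlgHom.id_apply]
    rcases o with i | ⟨i, j'⟩
    · exact hΨX _
    · by_cases hj' : j' = j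
      · subst hj'
        have h1 : vals (Sum.inr (i, j')) = C u * rest i := by simp [vals]
        rw [h1]
        have hrest : rest i = X (Sum.inl i) ^ n -
          ∑ j'' ∈ Finset.univ.erase j', X (Sum.inr (i, j'')) * C (algebraMap A Aa (a j'')) := rfl
        rw [hrest]
        simp only [map_mul, map_sub, map_pow, map_sum, hΨX, hΨC, hΨA]
        have h5 : ΨA u * algebraMap A Ba (a j') = 1 := by
          rw [← hΨA, ← map_mul, mul_comm, hu, map_one]
        have h6 := hgenpow i
        rw [← Finset.add_sum_erase Finset.univ _ (Finset.mem_univ j')] at h6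
        change _ = gen (Sum.inr (i, j'))
        linear_combination (ΨA u) * h6 + (gen (Sum.inr (i, j'))) * h5
      · have h1 : vals (Sum.inr (i, j')) = X (Sum.inr (i, j')) := by simp [vals, hj']
        rw [h1]
        exact hΨX _
  -- upgrade to `k[x]`-algebra maps
  haveI towRBa : IsScalarTower k (MvPolynomial (Fin d) k) Ba := by
    refine IsScalarTower.of_algebraMap_eq (fun c => ?_)
    rw [IsScalarTower.algebraMap_apply (MvPolynomial (Fin d) k) (BB A d r n a) Ba,
      ← IsScalarTower.algebraMap_apply k (MvPolynomial (Fin d) k) (BB A d r n a),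
      ← IsScalarTower.algebraMap_apply k (BB A d r n a) Ba]
  have hRBa : ∀ i, algebraMap (MvPolynomial (Fin d) k) Ba (X i) = gen (Sum.inl i) := by
    intro i
    rw [IsScalarTower.algebraMap_apply (MvPolynomial (Fin d) k) (BB A d r n a) Ba,
      algebraMap_polyBB_X]
    rfl
  let Φ' : Ba →ₐ[MvPolynomial (Fin d) k] T := toPolyAlgHom (Φ.restrictScalars k) (fun i => by
    rw [hRBa, hXT]
    change Φ (algebraMap _ _ (Ideal.Quotient.mk _ (X (Sum.inl i)))) = _
    rw [hΦ, aeval_X])
  let Ψ' : T →ₐ[MvPolynomial (Fin d) k] Ba := toPolyAlgHom (Ψ.restrictScalars k) (fun i => by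
    rw [hRBa, hXT]
    exact hΨX _)
  refine LocTr.formallySmooth_of_retract Φ' Ψ' ?_
  refine AlgHom.ext fun s => ?_
  change Ψ (Φ s) = s
  exact DFunLike.congr_fun hcomp s

theorem finitePresentation_polyBB [Algebra.FinitePresentation k A] :
    letI := algPolyBB k A d r n a
    Algebra.FinitePresentation (MvPolynomial (Fin d) k) (BB A d r n a) := by
  classical
  letI := algPolyBB k A d r n a
  haveI := towerPolyBB k A d r n a
  haveI hfpA : Algebra.FinitePresentation A (BB A d r n a) := by
    refine Algebra.FinitePresentation.quotient ?_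
    exact Submodule.fg_span (Set.finite_range _)
  haveI hfpk : Algebra.FinitePresentation k (BB A d r n a) :=
    Algebra.FinitePresentation.trans k A (BB A d r n a)
  exact Algebra.FinitePresentation.of_restrict_scalars_finitePresentation k
      (MvPolynomial (Fin d) k) (BB A d r n a)

set_option synthInstance.maxHeartbeats 200000 in
theorem formallySmooth_away_x [Algebra.FinitePresentation k A]
    (ha : ∀ j, Algebra.FormallySmooth k (Localization.Away (a j))) (i : Fin d) :
    letI := algPolyBB k A d r n a
    Algebra.FormallySmooth (MvPolynomial (Fin d) k) (Localization.Away (xB A d r n a i)) := by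
  classical
  letI := algPolyBB k A d r n a
  haveI := towerPolyBB k A d r n a
  haveI hfpR : Algebra.FinitePresentation (MvPolynomial (Fin d) k) (BB A d r n a) :=
    finitePresentation_polyBB k A d r n a
  refine Algebra.basicOpen_subset_smoothLocus_iff.mp fun Q hQ => ?_
  have hxQ : xB A d r n a i ∉ Q.asIdeal := hQ
  have hex : ∃ j, algebraMap A (BB A d r n a) (a j) ∉ Q.asIdeal := by
    by_contra hcon
    push Not at hcon
    apply hxQ
    apply Ideal.IsPrime.mem_of_pow_mem Q.isPrime n
    rw [xB_pow]
    exact Ideal.sum_mem _ fun j _ => Ideal.mul_mem_left _ _ (hcon j)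
  obtain ⟨j, hj⟩ := hex
  haveI := ha j
  exact LiftA.isSmoothAt_of_formallySmooth_away _ (formallySmooth_away_a k A d r n a j)
    Q.asIdeal hj

theorem exists_B {k A : Type u} [CommRing k] [CommRing A] [Algebra k A]
    [Algebra.FinitePresentation k A] (d r n : ℕ) (a : Fin r → A)
    (ha : ∀ j, Algebra.FormallySmooth k (Localization.Away (a j))) :
    ∃ (B : Type u) (_ : CommRing B) (_ : Algebra k B) (_ : Algebra A B)
      (_ : Algebra (MvPolynomial (Fin d) k) B) (_ : IsScalarTower k A B)
      (_ : IsScalarTower k (MvPolynomial (Fin d) k) B),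
      Algebra.FinitePresentation (MvPolynomial (Fin d) k) B ∧
      (∀ i, Algebra.FormallySmooth (MvPolynomial (Fin d) k)
        (Localization.Away (algebraMap (MvPolynomial (Fin d) k) B (X i)))) ∧
      ∀ (Λ : Type u) [CommRing Λ] [Algebra k Λ] (φ : A →ₐ[k] Λ) (π : Fin d → Λ)
        (lam : Fin d → Fin r → Λ), (∀ i, π i ^ n = ∑ j, lam i j * φ (a j)) →
        ∃ β : B →ₐ[k] Λ, (∀ x, β (algebraMap A B x) = φ x) ∧
          ∀ p : MvPolynomial (Fin d) k,
            β (algebraMap (MvPolynomial (Fin d) k) B p) = aeval π p := by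
  classical
  letI := algPolyBB k A d r n a
  haveI := towerPolyBB k A d r n a
  refine ⟨BB A d r n a, inferInstance, inferInstance, inferInstance, algPolyBB k A d r n a,
    inferInstance, towerPolyBB k A d r n a, finitePresentation_polyBB k A d r n a, ?_, ?_⟩
  · intro i
    rw [algebraMap_polyBB_X]
    exact formallySmooth_away_x k A d r n a ha i
  · intro Λ _ _ φ π lam hrel
    letI algAΛ : Algebra A Λ := φ.toRingHom.toAlgebra
    haveI towΛ : IsScalarTower k A Λ := IsScalarTower.of_algebraMap_eq (fun c => (φ.commutes c).symm)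
    let vals : VarB d r → Λ := fun o => match o with
      | Sum.inl i => π i
      | Sum.inr (i, j) => lam i j
    have hkill : ∀ q ∈ Ideal.span (Set.range (relB A d r n a)),
        (aeval vals : MvPolynomial (VarB d r) A →ₐ[A] Λ) q = 0 := by
      intro q hq
      have hle : Ideal.span (Set.range (relB A d r n a)) ≤
          RingHom.ker (aeval vals : MvPolynomial (VarB d r) A →ₐ[A] Λ).toRingHom := by
        rw [Ideal.span_le]
        rintro _ ⟨i, rfl⟩
        rw [SetLike.mem_coe, RingHom.mem_ker]
        change aeval vals (relB A d r n a i) = 0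
        simp only [relB, map_sub, map_pow, map_sum, map_mul, aeval_X, aeval_C]
        rw [sub_eq_zero]
        exact hrel i
      exact hle hq
    let β₀ : BB A d r n a →ₐ[A] Λ := Ideal.Quotient.liftₐ _ (aeval vals) hkill
    have hβ₀X : ∀ o, β₀ (Ideal.Quotient.mk _ (X o)) = vals o := fun o => by
      change aeval vals (X o) = _
      rw [aeval_X]
    refine ⟨β₀.restrictScalars k, fun x => ?_, fun p => ?_⟩
    · exact β₀.commutes x
    · have : ((β₀.restrictScalars k).comp
          (IsScalarTower.toAlgHom k (MvPolynomial (Fin d) k) (BB A d r n a))) = aeval π := by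
        refine MvPolynomial.algHom_ext fun i => ?_
        change β₀ (algebraMap (MvPolynomial (Fin d) k) (BB A d r n a) (X i)) = _
        rw [algebraMap_polyBB_X, aeval_X]
        exact hβ₀X (Sum.inl i)
      exact DFunLike.congr_fun this p

end DefB

end Groth.Agent.Helper8.SepR
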