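import Mathlib
import Groth.Agent.Lib.Helper8.SepR4

/-! Ring homomorphisms out of the algebra `B = A[x, z]/(x_i^n - ∑ z_ij a_j)`. -/

set_option autoImplicit false
universe u

namespace Groth.Agent.Helper8.InsB

open MvPolynomial Groth.Agent.Helper8.SepR

variable {A : Type u} [CommRing A] {d r n : ℕ} {a : Fin r → A}

/-- the values of the variables -/
def valsB {T : Type*} (π : Fin d → T) (lam : Fin d → Fin r → T) : VarB d r → T :=
  Sum.elim π (fun ij => lam ij.1 ij.2)

/-- the ring homomorphism out of `B` given by a ring homomorphism on `A` and values for the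
variables satisfying the relations -/
noncomputable def liftBBRing {T : Type*} [CommRing T] (f : A →+* T) (π : Fin d → T)
    (lam : Fin d → Fin r → T) (h : ∀ i, π i ^ n = ∑ j, lam i j * f (a j)) :
    BB A d r n a →+* T :=
  Ideal.Quotient.lift _ (eval₂Hom f (valsB π lam)) (by
    intro q hq
    have hle : Ideal.span (Set.range (relB A d r n a)) ≤
        RingHom.ker (eval₂Hom f (valsB π lam)) := by
      rw [Ideal.span_le]
      rintro _ ⟨i, rfl⟩
      rw [SetLike.mem_coe, RingHom.mem_ker]
      simp only [relB, map_sub, map_pow, map_sum, map_mul, eval₂Hom_X', eval₂Hom_C, valsB,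
        Sum.elim_inl, Sum.elim_inr]
      rw [sub_eq_zero]
      exact h i
    exact hle hq)

theorem liftBBRing_algebraMap {T : Type*} [CommRing T] (f : A →+* T) (π : Fin d → T)
    (lam : Fin d → Fin r → T) (h : ∀ i, π i ^ n = ∑ j, lam i j * f (a j)) (x : A) :
    liftBBRing f π lam h (algebraMap A (BB A d r n a) x) = f x := by
  change eval₂Hom f (valsB π lam) (C x) = f x
  rw [eval₂Hom_C]

theorem liftBBRing_xB {T : Type*} [CommRing T] (f : A →+* T) (π : Fin d → T)
    (lam : Fin d → Fin r → T) (h : ∀ i, π i ^ n = ∑ j, lam i j * f (a j)) (i : Fin d) :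
    liftBBRing f π lam h (xB A d r n a i) = π i := by
  change eval₂Hom f (valsB π lam) (X (Sum.inl i)) = π i
  rw [eval₂Hom_X']
  rfl

theorem liftBBRing_zB {T : Type*} [CommRing T] (f : A →+* T) (π : Fin d → T)
    (lam : Fin d → Fin r → T) (h : ∀ i, π i ^ n = ∑ j, lam i j * f (a j)) (i : Fin d)
    (j : Fin r) : liftBBRing f π lam h (zB A d r n a i j) = lam i j := by
  change eval₂Hom f (valsB π lam) (X (Sum.inr (i, j))) = lam i j
  rw [eval₂Hom_X']
  rfl

theorem ringHom_ext_BB {T : Type*} [CommRing T] (f g : BB A d r n a →+* T)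
    (hA : ∀ x, f (algebraMap A (BB A d r n a) x) = g (algebraMap A (BB A d r n a) x))
    (hx : ∀ i, f (xB A d r n a i) = g (xB A d r n a i))
    (hz : ∀ i j, f (zB A d r n a i j) = g (zB A d r n a i j)) : f = g := by
  apply Ideal.Quotient.ringHom_ext
  apply MvPolynomial.ringHom_ext
  · intro x
    exact hA x
  · intro o
    rcases o with i | ⟨i, j⟩
    · exact hx i
    · exact hz i j

end Groth.Agent.Helper8.InsB
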