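import Mathlib
import Groth.Prelude
import Groth.Agent.Lib.Helper8.InsB14

/-! Factoring the universal algebra with relations `p_i^N = ∑ w_ij a_j` over an ind-smooth
algebra through a smooth one. -/

set_option autoImplicit false
universe u

namespace Groth.Agent.Helper8.InsB

open MvPolynomial TensorProduct Groth.Agent.Helper8.SepR

set_option maxHeartbeats 1600000 in
set_option synthInstance.maxHeartbeats 200000 in
theorem exists_smooth_with_elements {k A R₁ D : Type u} [CommRing k] [CommRing A] [Algebra k A]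
    [Algebra.FinitePresentation k A] [CommRing R₁] [Algebra k R₁] [CommRing D] [Algebra R₁ D]
    [Algebra k D] [IsScalarTower k R₁ D] (hInd : Smoothing.IndSmooth R₁ D) (φb : A →ₐ[k] D)
    {d r : ℕ} (N : ℕ) (aH : Fin r → A) (p : Fin d → R₁) (μ : Fin d → Fin r → D)
    (hμ : ∀ i, algebraMap R₁ D (p i) ^ N = ∑ j, μ i j * φb (aH j)) :
    ∃ (B₁ : Type u) (_ : CommRing B₁) (_ : Algebra R₁ B₁), Algebra.Smooth R₁ B₁ ∧
      ∃ (h₁ : B₁ →ₐ[R₁] D) (f₁ : A →+* B₁) (w : Fin d → Fin r → B₁),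
        (∀ c : k, f₁ (algebraMap k A c) = algebraMap R₁ B₁ (algebraMap k R₁ c)) ∧
        (∀ i, algebraMap R₁ B₁ (p i) ^ N = ∑ j, w i j * f₁ (aH j)) ∧
        (∀ x, h₁ (f₁ x) = φb x) ∧ (∀ i j, h₁ (w i j) = μ i j) := by
  classical
  let kx := MvPolynomial (Fin d) k
  let BN := BB A d r N aH
  letI algkxR₁ : Algebra kx R₁ := (aeval p : kx →ₐ[k] R₁).toRingHom.toAlgebra
  haveI towkkxR₁ : IsScalarTower k kx R₁ :=
    IsScalarTower.of_algebraMap_eq (fun c => ((aeval p : kx →ₐ[k] R₁).commutes c).symm)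
  have hXp : ∀ i, algebraMap kx R₁ (X i) = p i := fun i => aeval_X _ _
  letI algkxBN : Algebra kx BN := algPolyBB k A d r N aH
  haveI towkkxBN : IsScalarTower k kx BN := towerPolyBB k A d r N aH
  haveI fpBN : Algebra.FinitePresentation kx BN := finitePresentation_polyBB k A d r N aH
  have hXx : ∀ i, algebraMap kx BN (X i) = xB A d r N aH i :=
    fun i => algebraMap_polyBB_X k A d r N aH i
  -- `D` as a `kx`-algebra
  letI algkxD : Algebra kx D := ((algebraMap R₁ D).comp (algebraMap kx R₁)).toAlgebra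
  haveI towkxR₁D : IsScalarTower kx R₁ D := IsScalarTower.of_algebraMap_eq (fun _ => rfl)
  -- the map `BN → D`
  let β₀ : BN →+* D := liftBBRing (φb : A →+* D) (fun i => algebraMap R₁ D (p i)) μ hμ
  have hβ₀A : ∀ x, β₀ (algebraMap A BN x) = φb x := fun x => liftBBRing_algebraMap _ _ _ hμ x
  have hβ₀x : ∀ i, β₀ (xB A d r N aH i) = algebraMap R₁ D (p i) :=
    fun i => liftBBRing_xB _ _ _ hμ i
  have hβ₀z : ∀ i j, β₀ (zB A d r N aH i j) = μ i j := fun i j => liftBBRing_zB _ _ _ hμ i j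
  have hβ₀comm : ∀ q : kx, β₀ (algebraMap kx BN q) = algebraMap kx D q := by
    have h1 : β₀.comp (algebraMap kx BN) = algebraMap kx D := by
      apply MvPolynomial.ringHom_ext
      · intro c
        rw [RingHom.comp_apply]
        have h2 : algebraMap kx BN (C c) = algebraMap A BN (algebraMap k A c) := by
          rw [← MvPolynomial.algebraMap_eq, ← IsScalarTower.algebraMap_apply k kx BN,
            IsScalarTower.algebraMap_apply k A BN]
        rw [h2, hβ₀A]
        change φb (algebraMap k A c) = algebraMap R₁ D (algebraMap kx R₁ (C c))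
        rw [φb.commutes, ← MvPolynomial.algebraMap_eq, ← IsScalarTower.algebraMap_apply k kx R₁,
          ← IsScalarTower.algebraMap_apply k R₁ D]
      · intro i
        rw [RingHom.comp_apply, hXx, hβ₀x]
        change _ = algebraMap R₁ D (algebraMap kx R₁ (X i))
        rw [hXp]
    intro q
    exact congrFun (congrArg DFunLike.coe h1) q
  let βN : BN →ₐ[kx] D := { β₀ with commutes' := hβ₀comm }
  have hβN : ∀ b, βN b = β₀ b := fun b => rfl
  let u : (R₁ ⊗[kx] BN) →ₐ[R₁] D := Algebra.TensorProduct.lift (Algebra.ofId R₁ D) βN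
    (fun _ _ => Commute.all _ _)
  have hu : ∀ b : BN, u (1 ⊗ₜ b) = β₀ b := by
    intro b
    change Algebra.TensorProduct.lift (Algebra.ofId R₁ D) βN _ (1 ⊗ₜ b) = _
    rw [Algebra.TensorProduct.lift_tmul, map_one, one_mul, hβN]
  obtain ⟨B₁, _, _, hsm, g₁, h₁, hc⟩ := hInd (R₁ ⊗[kx] BN) inferInstance u
  have hc' : ∀ z, h₁ (g₁ z) = u z := fun z => DFunLike.congr_fun hc z
  let incl : BN →+* (R₁ ⊗[kx] BN) := (Algebra.TensorProduct.includeRight : BN →ₐ[kx] (R₁ ⊗[kx] BN)).toRingHom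
  have hincl : ∀ b, incl b = 1 ⊗ₜ b := fun b => rfl
  let g₁r : (R₁ ⊗[kx] BN) →+* B₁ := g₁.toRingHom
  have hg₁r : ∀ z, g₁ z = g₁r z := fun z => rfl
  have hg₁ : ∀ x : R₁, g₁r (x ⊗ₜ[kx] (1 : BN)) = algebraMap R₁ B₁ x := fun x => g₁.commutes x
  have hmove : ∀ q : kx, (1 : R₁) ⊗ₜ[kx] algebraMap kx BN q =
      algebraMap kx R₁ q ⊗ₜ[kx] (1 : BN) := by
    intro q
    rw [Algebra.algebraMap_eq_smul_one (A := BN) q, Algebra.algebraMap_eq_smul_one (A := R₁) q]
    exact (TensorProduct.smul_tmul q (1 : R₁) (1 : BN)).symm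
  refine ⟨B₁, inferInstance, inferInstance, hsm, h₁,
    g₁r.comp (incl.comp (algebraMap A BN)),
    fun i j => g₁r (1 ⊗ₜ zB A d r N aH i j), ?_, ?_, ?_, ?_⟩
  · intro c
    change g₁r (1 ⊗ₜ algebraMap A BN (algebraMap k A c)) = _
    have h2 : algebraMap A BN (algebraMap k A c) = algebraMap kx BN (algebraMap k kx c) := by
      rw [← IsScalarTower.algebraMap_apply k kx BN, IsScalarTower.algebraMap_apply k A BN]
    rw [h2, hmove, hg₁, ← IsScalarTower.algebraMap_apply k kx R₁]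
  · intro i
    have h1 : (p i) ⊗ₜ[kx] (1 : BN) = (1 : R₁) ⊗ₜ[kx] xB A d r N aH i := by
      rw [← hXx, hmove, hXp]
    rw [← hg₁, h1, ← RingHom.map_pow, Algebra.TensorProduct.tmul_pow, one_pow, xB_pow,
      TensorProduct.tmul_sum, map_sum]
    refine Finset.sum_congr rfl fun j _ => ?_
    change _ = g₁r (1 ⊗ₜ zB A d r N aH i j) * g₁r (1 ⊗ₜ algebraMap A BN (aH j))
    rw [← RingHom.map_mul, Algebra.TensorProduct.tmul_mul_tmul, one_mul]
  · intro x
    change h₁ (g₁r (1 ⊗ₜ algebraMap A BN x)) = _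
    rw [← hg₁r, hc', hu, hβ₀A]
  · intro i j
    change h₁ (g₁r _) = _
    rw [← hg₁r, hc', hu, hβ₀z]

end Groth.Agent.Helper8.InsB
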