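import Mathlib
import Groth.Prelude
import Groth.Agent.Lib.Helper8.InsB15

/-! The local factorisation through a smooth algebra over the localisation of `R ⧸ K`. -/

set_option autoImplicit false
universe u

namespace Groth.Agent.Helper8.InsB

open IsLocalRing TensorProduct Groth.Agent.Helper8.SepR

/-- the localisation of `R ⧸ K` at the prime below `𝔮 / K Λ` -/
abbrev RlocK {R Λ : Type u} [CommRing R] [CommRing Λ] [Algebra R Λ] (K : Ideal R) (𝔮 : Ideal Λ)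
    [(𝔮.map (Ideal.Quotient.mk (K.map (algebraMap R Λ)))).IsPrime] : Type u :=
  Localization.AtPrime ((𝔮.map (Ideal.Quotient.mk (K.map (algebraMap R Λ)))).comap
    (algebraMap (R ⧸ K) (Λ ⧸ K.map (algebraMap R Λ))))

set_option maxHeartbeats 3200000 in
set_option synthInstance.maxHeartbeats 200000 in
theorem exists_local_factor
    {k A P R Λ : Type u} [Field k] [CommRing A] [Algebra k A] [Algebra.FinitePresentation k A]
    [CommRing P] [Algebra k P] [CommRing R] [Algebra k R] [Algebra P R] [IsScalarTower k P R]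
    [CommRing Λ] [Algebra k Λ] [Algebra P Λ] [Algebra R Λ] [IsScalarTower k P Λ]
    [IsScalarTower P R Λ] (𝔮 : Ideal Λ) [𝔮.IsPrime]
    {d r : ℕ} (N : ℕ) (aH : Fin r → A) (π' : Fin d → P) (tt : Fin d → R)
    (htt : ∀ i, algebraMap R Λ (tt i) ∉ 𝔮)
    (e : ℕ) (K : Ideal R) (hK : ∀ i, (algebraMap P R (π' i) * tt i) ^ e ∈ K)
    (hK𝔮 : K.map (algebraMap R Λ) ≤ 𝔮)
    [h𝔮₀ : (𝔮.map (Ideal.Quotient.mk (K.map (algebraMap R Λ)))).IsPrime]
    (n : ℕ)
    (hn1 : maximalIdeal (Localization.AtPrime (𝔮.under P)) ^ n ≤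
      Ideal.span (Set.range fun i => algebraMap P (Localization.AtPrime (𝔮.under P)) (π' i) ^ e))
    (I : Ideal (Localization.AtPrime 𝔮))
    (hIJ : I ≤ K.map (algebraMap R (Localization.AtPrime 𝔮)))
    (D' : Subalgebra k (Localization.AtPrime 𝔮 ⧸ I))
    (ψ : (Localization.AtPrime (𝔮.under P) ⧸
        maximalIdeal (Localization.AtPrime (𝔮.under P)) ^ n) →+* D')
    (hψ : ∀ x : P, ((ψ (Ideal.Quotient.mk _ (algebraMap P _ x)) : D') :
          Localization.AtPrime 𝔮 ⧸ I) =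
        Ideal.Quotient.mk I (algebraMap P (Localization.AtPrime 𝔮) x))
    (hInd : letI := ψ.toAlgebra
      Smoothing.IndSmooth (Localization.AtPrime (𝔮.under P) ⧸
        maximalIdeal (Localization.AtPrime (𝔮.under P)) ^ n) D')
    (φ : A →ₐ[k] Λ)
    (hAD : ∀ a : A, Ideal.Quotient.mk I (algebraMap Λ (Localization.AtPrime 𝔮) (φ a)) ∈ D')
    (μ : Fin d → Fin r → D')
    (hμ : ∀ i, Ideal.Quotient.mk I (algebraMap P (Localization.AtPrime 𝔮) (π' i)) ^ N =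
      ∑ j, (μ i j : Localization.AtPrime 𝔮 ⧸ I) *
        Ideal.Quotient.mk I (algebraMap Λ (Localization.AtPrime 𝔮) (φ (aH j))))
    (lam : Fin d → Fin r → Λ)
    (hlam : ∀ i j, Ideal.Quotient.mk I (algebraMap Λ (Localization.AtPrime 𝔮) (lam i j)) =
      Ideal.Quotient.mk I (algebraMap R (Localization.AtPrime 𝔮) (tt i)) ^ (2 * N) *
        Ideal.Quotient.mk I (algebraMap P (Localization.AtPrime 𝔮) (π' i)) ^ N *
        (μ i j : Localization.AtPrime 𝔮 ⧸ I))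
    (β : BB A d r (2 * N) aH →+* Λ)
    (hβA : ∀ x, β (algebraMap A (BB A d r (2 * N) aH) x) = φ x)
    (hβx : ∀ i, β (xB A d r (2 * N) aH i) = algebraMap R Λ (algebraMap P R (π' i) * tt i))
    (hβz : ∀ i j, β (zB A d r (2 * N) aH i j) = lam i j) :
    ∃ (B' : Type u) (_ : CommRing B') (_ : Algebra (RlocK K 𝔮) B'),
      Algebra.Smooth (RlocK K 𝔮) B' ∧
      ∃ (β' : BB A d r (2 * N) aH →+* B')
        (h : B' →+* (Localization.AtPrime 𝔮 ⧸ K.map (algebraMap R (Localization.AtPrime 𝔮)))),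
        (∀ c : k, β' (algebraMap k (BB A d r (2 * N) aH) c) =
          algebraMap (RlocK K 𝔮) B' (algebraMap (R ⧸ K) (RlocK K 𝔮)
            (Ideal.Quotient.mk K (algebraMap k R c)))) ∧
        (∀ i, β' (xB A d r (2 * N) aH i) =
          algebraMap (RlocK K 𝔮) B' (algebraMap (R ⧸ K) (RlocK K 𝔮)
            (Ideal.Quotient.mk K (algebraMap P R (π' i) * tt i)))) ∧
        (∀ x : R, h (algebraMap (RlocK K 𝔮) B' (algebraMap (R ⧸ K) (RlocK K 𝔮)
            (Ideal.Quotient.mk K x))) =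
          Ideal.Quotient.mk _ (algebraMap R (Localization.AtPrime 𝔮) x)) ∧
        (∀ b, h (β' b) = Ideal.Quotient.mk _ (algebraMap Λ (Localization.AtPrime 𝔮) (β b))) := by
  classical
  let 𝔭 : Ideal P := 𝔮.under P
  let Pp := Localization.AtPrime 𝔭
  let S := Localization.AtPrime 𝔮
  let Kn : Ideal Pp := maximalIdeal Pp ^ n
  let R₁ := Pp ⧸ Kn
  let J : Ideal Λ := K.map (algebraMap R Λ)
  let J' : Ideal S := K.map (algebraMap R S)
  let Q := S ⧸ J'
  let 𝔮₀ : Ideal (Λ ⧸ J) := 𝔮.map (Ideal.Quotient.mk J)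
  let 𝔭₀ : Ideal (R ⧸ K) := 𝔮₀.comap (algebraMap (R ⧸ K) (Λ ⧸ J))
  let Rₚ := Localization.AtPrime 𝔭₀
  let ι : R →+* Rₚ := (algebraMap (R ⧸ K) Rₚ).comp (Ideal.Quotient.mk K)
  let γ : Fin d → R := fun i => algebraMap P R (π' i) * tt i
  let mkI : S →+* S ⧸ I := Ideal.Quotient.mk I
  let mkJ' : S →+* Q := Ideal.Quotient.mk J'
  have h𝔮₀comap : 𝔮₀.comap (Ideal.Quotient.mk J) = 𝔮 := by
    change (𝔮.map (Ideal.Quotient.mk J)).comap (Ideal.Quotient.mk J) = 𝔮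
    rw [Ideal.comap_map_of_surjective _ Ideal.Quotient.mk_surjective, ← RingHom.ker_eq_comap_bot,
      Ideal.mk_ker]
    exact sup_eq_left.mpr hK𝔮
  -- (1) units
  have hmem𝔭₀ : ∀ x : R, algebraMap R Λ x ∉ 𝔮 → Ideal.Quotient.mk K x ∈ 𝔭₀.primeCompl := by
    intro x hx hmem
    apply hx
    have h1 : algebraMap (R ⧸ K) (Λ ⧸ J) (Ideal.Quotient.mk K x) ∈ 𝔮₀ := hmem
    rw [Ideal.Quotient.algebraMap_quotient_map_quotient] at h1
    rw [← h𝔮₀comap]
    exact h1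
  have hιunit : ∀ x : R, algebraMap R Λ x ∉ 𝔮 → IsUnit (ι x) := by
    intro x hx
    exact IsLocalization.map_units Rₚ (⟨Ideal.Quotient.mk K x, hmem𝔭₀ x hx⟩ : 𝔭₀.primeCompl)
  have hιK : ∀ x ∈ K, ι x = 0 := by
    intro x hx
    change algebraMap (R ⧸ K) Rₚ (Ideal.Quotient.mk K x) = 0
    rw [(Ideal.Quotient.eq_zero_iff_mem).mpr hx, map_zero]
  -- (2) `Pp → Rₚ`
  let θ₀ : P →+* Rₚ := ι.comp (algebraMap P R)
  have hunit2 : ∀ s : 𝔭.primeCompl, IsUnit (θ₀ s) := by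
    intro s
    apply hιunit
    rw [← IsScalarTower.algebraMap_apply P R Λ]
    exact s.2
  let θ₁ : Pp →+* Rₚ := IsLocalization.lift (M := 𝔭.primeCompl) (g := θ₀) hunit2
  have hθ₁ : ∀ x : P, θ₁ (algebraMap P Pp x) = ι (algebraMap P R x) :=
    fun x => IsLocalization.lift_eq _ x
  -- (3) `θ₁` kills `Kn`
  have hθ₁kill : ∀ z ∈ Kn, θ₁ z = 0 := by
    intro z hz
    have hle : Ideal.span (Set.range fun i => algebraMap P Pp (π' i) ^ e) ≤ RingHom.ker θ₁ := by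
      rw [Ideal.span_le]
      rintro _ ⟨i, rfl⟩
      rw [SetLike.mem_coe, RingHom.mem_ker, map_pow, hθ₁]
      have h1 : ι (γ i ^ e) = 0 := hιK _ (hK i)
      have h2 : ι (γ i ^ e) = ι (algebraMap P R (π' i)) ^ e * ι (tt i) ^ e := by
        simp only [γ, mul_pow, map_mul, map_pow]
      rw [h2] at h1
      exact (((hιunit _ (htt i)).pow e).mul_left_eq_zero).mp h1
    exact hle (hn1 hz)
  let θ : R₁ →+* Rₚ := Ideal.Quotient.lift Kn θ₁ hθ₁kill
  have hθmk : ∀ z : Pp, θ (Ideal.Quotient.mk Kn z) = θ₁ z := fun z => rfl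
  -- (4) algebra structures
  letI algR₁Rₚ : Algebra R₁ Rₚ := θ.toAlgebra
  letI algR₁D : Algebra R₁ D' := ψ.toAlgebra
  haveI towkR₁D : IsScalarTower k R₁ D' := by
    refine IsScalarTower.of_algebraMap_eq (R := k) (S := R₁) (A := D') (fun c => ?_)
    apply Subtype.ext
    change algebraMap k (S ⧸ I) c = ((ψ (algebraMap k R₁ c) : D') : S ⧸ I)
    have h1 : algebraMap k R₁ c = Ideal.Quotient.mk Kn (algebraMap P Pp (algebraMap k P c)) := by
      rw [← IsScalarTower.algebraMap_apply k P Pp]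
      rfl
    rw [h1, hψ, ← IsScalarTower.algebraMap_apply k P S]
    rfl
  let p : Fin d → R₁ := fun i => Ideal.Quotient.mk Kn (algebraMap P Pp (π' i))
  have hψp : ∀ i, ((algebraMap R₁ D' (p i) : D') : S ⧸ I) = mkI (algebraMap P S (π' i)) :=
    fun i => hψ (π' i)
  have hθp : ∀ i, θ (p i) = ι (algebraMap P R (π' i)) := fun i => by
    rw [hθmk, hθ₁]
  -- (5) the map `A → D'`
  let φb : A →ₐ[k] D' := ((Ideal.Quotient.mkₐ k I).comp
    ((IsScalarTower.toAlgHom k Λ S).comp φ)).codRestrict D' hAD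
  have hφb : ∀ a : A, ((φb a : D') : S ⧸ I) = mkI (algebraMap Λ S (φ a)) := fun a => rfl
  have hμ' : ∀ i, algebraMap R₁ D' (p i) ^ N = ∑ j, μ i j * φb (aH j) := by
    intro i
    apply Subtype.ext
    rw [SubmonoidClass.coe_pow, hψp, AddSubmonoidClass.coe_finsetSum]
    rw [hμ i]
    refine Finset.sum_congr rfl fun j _ => ?_
    rw [MulMemClass.coe_mul, hφb]
  -- (6) the smooth algebra
  obtain ⟨B₁, _, _, hsm, h₁, f₁, w, hf₁k, hw, hh₁f, hh₁w⟩ :=
    exists_smooth_with_elements hInd φb N aH p μ hμ'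
  haveI := hsm
  -- (7) the map `β'`
  have hmove : ∀ (x : Rₚ) (z : R₁), x ⊗ₜ[R₁] algebraMap R₁ B₁ z = (x * θ z) ⊗ₜ[R₁] (1 : B₁) := by
    intro x z
    calc x ⊗ₜ[R₁] algebraMap R₁ B₁ z = x ⊗ₜ[R₁] (z • (1 : B₁)) := by
          rw [Algebra.algebraMap_eq_smul_one]
      _ = (z • x) ⊗ₜ[R₁] (1 : B₁) := (TensorProduct.smul_tmul z x (1 : B₁)).symm
      _ = (x * θ z) ⊗ₜ[R₁] (1 : B₁) := by
          rw [Algebra.smul_def, mul_comm]
          rfl
  have hιγ : ∀ i, ι (γ i) = θ (p i) * ι (tt i) := by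
    intro i
    simp only [γ, map_mul, hθp]
  let inclB : B₁ →+* Rₚ ⊗[R₁] B₁ :=
    (Algebra.TensorProduct.includeRight : B₁ →ₐ[R₁] Rₚ ⊗[R₁] B₁).toRingHom
  have hinclB : ∀ b, inclB b = 1 ⊗ₜ b := fun b => rfl
  have hrel : ∀ i, ((ι (γ i)) ⊗ₜ[R₁] (1 : B₁)) ^ (2 * N) =
      ∑ j, ((ι (tt i) ^ (2 * N) * θ (p i) ^ N) ⊗ₜ[R₁] w i j) * (inclB.comp f₁) (aH j) := by
    intro i
    have h1 : ∀ j, ((ι (tt i) ^ (2 * N) * θ (p i) ^ N) ⊗ₜ[R₁] w i j) * (inclB.comp f₁) (aH j) =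
        (ι (tt i) ^ (2 * N) * θ (p i) ^ N) ⊗ₜ[R₁] (w i j * f₁ (aH j)) := by
      intro j
      change _ * inclB (f₁ (aH j)) = _
      rw [hinclB, Algebra.TensorProduct.tmul_mul_tmul, mul_one]
    rw [Finset.sum_congr rfl (fun j _ => h1 j), ← TensorProduct.tmul_sum, ← hw i,
      ← map_pow (algebraMap R₁ B₁) (p i) N,
      hmove, Algebra.TensorProduct.tmul_pow, one_pow, hιγ, map_pow θ (p i) N]
    congr 1
    ring
  let β' : BB A d r (2 * N) aH →+* Rₚ ⊗[R₁] B₁ :=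
    liftBBRing (inclB.comp f₁) (fun i => (ι (γ i)) ⊗ₜ[R₁] (1 : B₁))
      (fun i j => (ι (tt i) ^ (2 * N) * θ (p i) ^ N) ⊗ₜ[R₁] w i j) hrel
  have hβ'A : ∀ x, β' (algebraMap A (BB A d r (2 * N) aH) x) = 1 ⊗ₜ f₁ x :=
    fun x => liftBBRing_algebraMap _ _ _ hrel x
  have hβ'x : ∀ i, β' (xB A d r (2 * N) aH i) = (ι (γ i)) ⊗ₜ[R₁] (1 : B₁) :=
    fun i => liftBBRing_xB _ _ _ hrel i
  have hβ'z : ∀ i j, β' (zB A d r (2 * N) aH i j) =
      (ι (tt i) ^ (2 * N) * θ (p i) ^ N) ⊗ₜ[R₁] w i j :=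
    fun i j => liftBBRing_zB _ _ _ hrel i j
  -- (8) the map `h`
  have hunitQ : ∀ y : 𝔭₀.primeCompl, IsUnit (algebraMap (R ⧸ K) Q (y : R ⧸ K)) := by
    rintro ⟨y, hy⟩
    obtain ⟨x, rfl⟩ := Ideal.Quotient.mk_surjective y
    change IsUnit (algebraMap (R ⧸ K) Q (Ideal.Quotient.mk K x))
    rw [Ideal.Quotient.algebraMap_quotient_map_quotient]
    have hx : algebraMap R Λ x ∉ 𝔮 := by
      intro hmem
      apply hy
      change algebraMap (R ⧸ K) (Λ ⧸ J) (Ideal.Quotient.mk K x) ∈ 𝔮₀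
      rw [Ideal.Quotient.algebraMap_quotient_map_quotient]
      exact Ideal.mem_map_of_mem _ hmem
    have h1 : IsUnit (algebraMap R S x) := by
      rw [IsScalarTower.algebraMap_apply R Λ S]
      exact IsLocalization.map_units S (⟨algebraMap R Λ x, hx⟩ : 𝔮.primeCompl)
    exact h1.map _
  let θQ : Rₚ →+* Q := IsLocalization.lift (M := 𝔭₀.primeCompl)
    (g := algebraMap (R ⧸ K) Q) hunitQ
  have hθQ : ∀ x : R, θQ (ι x) = mkJ' (algebraMap R S x) := by
    intro x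
    change θQ (algebraMap (R ⧸ K) Rₚ (Ideal.Quotient.mk K x)) = _
    rw [IsLocalization.lift_eq, Ideal.Quotient.algebraMap_quotient_map_quotient]
  letI algRₚQ : Algebra Rₚ Q := θQ.toAlgebra
  letI algR₁Q : Algebra R₁ Q := (θQ.comp θ).toAlgebra
  haveI towR₁RₚQ : IsScalarTower R₁ Rₚ Q := IsScalarTower.of_algebraMap_eq (fun _ => rfl)
  let qI : (S ⧸ I) →+* Q := Ideal.Quotient.factor hIJ
  have hqI : ∀ s : S, qI (mkI s) = mkJ' s := fun s => rfl
  have hqψ : ∀ z : R₁, qI ((ψ z : D') : S ⧸ I) = θQ (θ z) := by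
    have h1 : (qI.comp ((D'.val : D' →+* S ⧸ I).comp ψ)).comp (Ideal.Quotient.mk Kn) =
        (θQ.comp θ).comp (Ideal.Quotient.mk Kn) := by
      apply IsLocalization.ringHom_ext 𝔭.primeCompl
      ext x
      simp only [RingHom.comp_apply]
      change qI ((ψ (Ideal.Quotient.mk Kn (algebraMap P Pp x)) : D') : S ⧸ I) =
        θQ (θ (Ideal.Quotient.mk Kn (algebraMap P Pp x)))
      rw [hψ, hθmk, hθ₁, hθQ, ← IsScalarTower.algebraMap_apply P R S]
      rfl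
    intro z
    obtain ⟨z, rfl⟩ := Ideal.Quotient.mk_surjective z
    exact congrFun (congrArg DFunLike.coe h1) z
  let h₁r : B₁ →+* Q := qI.comp ((D'.val : D' →+* S ⧸ I).comp h₁.toRingHom)
  have hh₁r : ∀ b, h₁r b = qI ((h₁ b : D') : S ⧸ I) := fun b => rfl
  let h₁' : B₁ →ₐ[R₁] Q :=
    { h₁r with
      commutes' := fun z => by
        change h₁r (algebraMap R₁ B₁ z) = θQ (θ z)
        rw [hh₁r, h₁.commutes]
        exact hqψ z }
  have hh₁' : ∀ b, h₁' b = qI ((h₁ b : D') : S ⧸ I) := fun b => rfl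
  let hAlg : Rₚ ⊗[R₁] B₁ →ₐ[Rₚ] Q :=
    Algebra.TensorProduct.lift (Algebra.ofId Rₚ Q) h₁' (fun _ _ => Commute.all _ _)
  have hhAlg : ∀ (x : Rₚ) (b : B₁), hAlg (x ⊗ₜ b) = θQ x * qI ((h₁ b : D') : S ⧸ I) := by
    intro x b
    change Algebra.TensorProduct.lift (Algebra.ofId Rₚ Q) h₁' _ (x ⊗ₜ b) = _
    rw [Algebra.TensorProduct.lift_tmul, hh₁']
    rfl
  refine ⟨Rₚ ⊗[R₁] B₁, inferInstance, inferInstance, inferInstance, β', hAlg.toRingHom,
    ?_, ?_, ?_, ?_⟩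
  · intro c
    have h1 : algebraMap k (BB A d r (2 * N) aH) c =
        algebraMap A (BB A d r (2 * N) aH) (algebraMap k A c) :=
      IsScalarTower.algebraMap_apply k A _ c
    rw [h1, hβ'A, hf₁k, hmove, one_mul]
    change _ = (ι (algebraMap k R c)) ⊗ₜ[R₁] (1 : B₁)
    congr 1
    have h2 : algebraMap k R₁ c = Ideal.Quotient.mk Kn (algebraMap P Pp (algebraMap k P c)) := by
      rw [← IsScalarTower.algebraMap_apply k P Pp]
      rfl
    rw [h2, hθmk, hθ₁, ← IsScalarTower.algebraMap_apply k P R]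
  · intro i
    rw [hβ'x]
    rfl
  · intro x
    change hAlg ((ι x) ⊗ₜ[R₁] (1 : B₁)) = _
    rw [hhAlg, map_one, hθQ]
    change mkJ' _ * qI 1 = _
    rw [map_one, mul_one]
  · have h1 : hAlg.toRingHom.comp β' = (mkJ'.comp (algebraMap Λ S)).comp β := by
      apply ringHom_ext_BB
      · intro x
        simp only [RingHom.comp_apply]
        change hAlg (β' _) = _
        rw [hβ'A, hhAlg, map_one, one_mul, hh₁f, hφb, hqI, hβA]
      · intro i
        simp only [RingHom.comp_apply]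
        change hAlg (β' _) = _
        rw [hβ'x, hhAlg, hθQ, map_one]
        change mkJ' _ * qI 1 = _
        rw [map_one, mul_one, hβx, ← IsScalarTower.algebraMap_apply R Λ S]
      · intro i j
        simp only [RingHom.comp_apply]
        change hAlg (β' _) = _
        have hRHS : mkJ' (algebraMap Λ S (lam i j)) = qI (mkI (algebraMap Λ S (lam i j))) := rfl
        rw [hβ'z, hhAlg, hh₁w, map_mul, map_pow, map_pow, hθQ, hθp, hθQ, hβz, hRHS, hlam,
          map_mul, map_mul, map_pow, map_pow, hqI, hqI,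
          ← IsScalarTower.algebraMap_apply P R S]
    intro b
    exact congrFun (congrArg DFunLike.coe h1) b

end Groth.Agent.Helper8.InsB
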