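import Mathlib
import Groth.Prelude
import Groth.Agent.Lib.Helper8.InsB16
import Groth.Agent.Lib.Helper8.InsB17
import Groth.Agent.Lib.Helper8.SepR10

/-! Resolving the problem modulo `K` in the inseparable case: gluing the local factorisation with
the dimension zero lemma. -/

set_option autoImplicit false
universe u

namespace Groth.Agent.Helper8.InsB

open MvPolynomial IsLocalRing TensorProduct Groth.Agent.Helper8.SepR

attribute [local instance] algPolyBB

set_option maxHeartbeats 3200000 in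
set_option synthInstance.maxHeartbeats 200000 in
theorem resolvable_quot_insep
    {k A P R Λ : Type u} [Field k] [CommRing A] [Algebra k A] [Algebra.FinitePresentation k A]
    [CommRing P] [Algebra k P] [CommRing R] [IsNoetherianRing R] [Algebra k R] [Algebra P R]
    [IsScalarTower k P R]
    [CommRing Λ] [Algebra k Λ] [Algebra P Λ] [Algebra R Λ] [IsScalarTower k P Λ]
    [IsScalarTower P R Λ] (𝔮 : Ideal Λ) [𝔮.IsPrime]
    {d r : ℕ} (N : ℕ) (aH : Fin r → A) (π' : Fin d → P) (tt : Fin d → R)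
    (htt : ∀ i, algebraMap R Λ (tt i) ∉ 𝔮)
    [Algebra (MvPolynomial (Fin d) k) R] [IsScalarTower k (MvPolynomial (Fin d) k) R]
    (hX : ∀ i, algebraMap (MvPolynomial (Fin d) k) R (X i) = algebraMap P R (π' i) * tt i)
    (e : ℕ) (K : Ideal R) (hK : ∀ i, (algebraMap P R (π' i) * tt i) ^ e ∈ K)
    (hK𝔮 : K.map (algebraMap R Λ) ≤ 𝔮)
    (n : ℕ)
    (hn1 : maximalIdeal (Localization.AtPrime (𝔮.under P)) ^ n ≤
      Ideal.span (Set.range fun i => algebraMap P (Localization.AtPrime (𝔮.under P)) (π' i) ^ e))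
    (m : ℕ) (hm : maximalIdeal (Localization.AtPrime 𝔮) ^ m ≤
      K.map (algebraMap R (Localization.AtPrime 𝔮)))
    (I : Ideal (Localization.AtPrime 𝔮))
    (hIJ : I ≤ K.map (algebraMap R (Localization.AtPrime 𝔮)))
    (D' : Subalgebra k (Localization.AtPrime 𝔮 ⧸ I))
    (ψ : (Localization.AtPrime (𝔮.under P) ⧸
        maximalIdeal (Localization.AtPrime (𝔮.under P)) ^ n) →+* D')
    (hψ : ∀ x : P, ((ψ (Ideal.Quotient.mk _ (algebraMap P _ x)) : D') :
          Localization.AtPrime 𝔮 ⧸ I) =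
        Ideal.Quotient.mk I (algebraMap P (Localization.AtPrime 𝔮) x))
    (hInd : letI := ψ.toAlgebra
      Smoothing.IndSmooth (Localization.AtPrime (𝔮.under P) ⧸
        maximalIdeal (Localization.AtPrime (𝔮.under P)) ^ n) D')
    (φ : A →ₐ[k] Λ)
    (hAD : ∀ a : A, Ideal.Quotient.mk I (algebraMap Λ (Localization.AtPrime 𝔮) (φ a)) ∈ D')
    (μ : Fin d → Fin r → D')
    (hμ : ∀ i, Ideal.Quotient.mk I (algebraMap P (Localization.AtPrime 𝔮) (π' i)) ^ N =
      ∑ j, (μ i j : Localization.AtPrime 𝔮 ⧸ I) *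
        Ideal.Quotient.mk I (algebraMap Λ (Localization.AtPrime 𝔮) (φ (aH j))))
    (lam : Fin d → Fin r → Λ)
    (hlam : ∀ i j, Ideal.Quotient.mk I (algebraMap Λ (Localization.AtPrime 𝔮) (lam i j)) =
      Ideal.Quotient.mk I (algebraMap R (Localization.AtPrime 𝔮) (tt i)) ^ (2 * N) *
        Ideal.Quotient.mk I (algebraMap P (Localization.AtPrime 𝔮) (π' i)) ^ N *
        (μ i j : Localization.AtPrime 𝔮 ⧸ I))
    (β : BB A d r (2 * N) aH →+* Λ)
    (hβA : ∀ x, β (algebraMap A (BB A d r (2 * N) aH) x) = φ x)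
    (hβx : ∀ i, β (xB A d r (2 * N) aH i) = algebraMap R Λ (algebraMap P R (π' i) * tt i))
    (hβz : ∀ i j, β (zB A d r (2 * N) aH i j) = lam i j)
    (C : Type u) [CommRing C] [Algebra (BB A d r (2 * N) aH) C] [Algebra (MvPolynomial (Fin d) k) C]
    [IsScalarTower (MvPolynomial (Fin d) k) (BB A d r (2 * N) aH) C]
    [Algebra.FinitePresentation R (R ⊗[MvPolynomial (Fin d) k] C)]
    (ρ : C →ₐ[BB A d r (2 * N) aH] BB A d r (2 * N) aH)
    (φC : R ⊗[MvPolynomial (Fin d) k] C →ₐ[R] Λ)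
    (hφC : ∀ x c, φC (x ⊗ₜ c) = algebraMap R Λ x * β (ρ c)) :
    Smoothing.Resolvable (R ⧸ K) (quotAlgHom φC K)
      (𝔮.map (Ideal.Quotient.mk (K.map (algebraMap R Λ)))) := by
  classical
  let kx := MvPolynomial (Fin d) k
  let BBt := BB A d r (2 * N) aH
  let S := Localization.AtPrime 𝔮
  haveI towBB : IsScalarTower k kx BBt := towerPolyBB k A d r (2 * N) aH
  haveI h𝔮₀ : (𝔮.map (Ideal.Quotient.mk (K.map (algebraMap R Λ)))).IsPrime :=
    Ideal.map_isPrime_of_surjective Ideal.Quotient.mk_surjective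
      (by rw [Ideal.mk_ker]; exact hK𝔮)
  obtain ⟨B', _, _, hsm, β', h, hβ'k, hβ'x, hh, hhβ⟩ :=
    exists_local_factor 𝔮 N aH π' tt htt e K hK hK𝔮 n hn1 I hIJ D' ψ hψ hInd φ hAD μ hμ lam hlam
      β hβA hβx hβz
  haveI := hsm
  let Rₚ := RlocK K 𝔮
  let ι : R →+* Rₚ := (algebraMap (R ⧸ K) Rₚ).comp (Ideal.Quotient.mk K)
  letI algRB' : Algebra R B' := ((algebraMap Rₚ B').comp ι).toAlgebra
  have halgRB' : ∀ x : R, algebraMap R B' x =
      algebraMap Rₚ B' (algebraMap (R ⧸ K) Rₚ (Ideal.Quotient.mk K x)) := fun x => rfl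
  letI algkxB' : Algebra kx B' := ((algebraMap R B').comp (algebraMap kx R)).toAlgebra
  haveI towkxRB' : IsScalarTower kx R B' := IsScalarTower.of_algebraMap_eq (fun _ => rfl)
  have hβ'comm : ∀ q : kx, β' (algebraMap kx BBt q) = algebraMap kx B' q := by
    have h1 : β'.comp (algebraMap kx BBt) = algebraMap kx B' := by
      apply MvPolynomial.ringHom_ext
      · intro c
        rw [RingHom.comp_apply]
        have h2 : algebraMap kx BBt (MvPolynomial.C c) = algebraMap k BBt c := by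
          rw [← MvPolynomial.algebraMap_eq, ← IsScalarTower.algebraMap_apply k kx BBt]
        rw [h2, hβ'k]
        change _ = algebraMap R B' (algebraMap kx R (MvPolynomial.C c))
        rw [halgRB', ← MvPolynomial.algebraMap_eq, ← IsScalarTower.algebraMap_apply k kx R]
      · intro i
        rw [RingHom.comp_apply, algebraMap_polyBB_X, hβ'x]
        change _ = algebraMap R B' (algebraMap kx R (X i))
        rw [halgRB', hX]
    intro q
    exact congrFun (congrArg DFunLike.coe h1) q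
  let β'ₐ : BBt →ₐ[kx] B' := { β' with commutes' := hβ'comm }
  let β'' : C →ₐ[kx] B' := β'ₐ.comp (ρ.restrictScalars kx)
  have hβ'' : ∀ c, β'' c = β' (ρ c) := fun c => rfl
  let gAlg : R ⊗[kx] C →ₐ[R] B' :=
    Algebra.TensorProduct.lift (Algebra.ofId R B') β'' (fun _ _ => Commute.all _ _)
  have hgAlg : ∀ x c, gAlg (x ⊗ₜ c) = algebraMap R B' x * β' (ρ c) := by
    intro x c
    change Algebra.TensorProduct.lift (Algebra.ofId R B') β'' _ (x ⊗ₜ c) = _
    rw [Algebra.TensorProduct.lift_tmul, hβ'']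
    rfl
  refine resolvable_quot_of_smooth K φC (quotAlgHom φC K) (quotAlgHom_mk φC K) 𝔮 hK𝔮 m hm
    (RlocK K 𝔮) B' gAlg.toRingHom ?_ h hh ?_
  · intro x
    exact gAlg.commutes x
  · intro c
    change h (gAlg c) = _
    induction c using TensorProduct.induction_on with
    | zero => simp
    | tmul x c =>
      rw [hgAlg, hφC, map_mul, halgRB', hh, hhβ, map_mul, map_mul,
        ← IsScalarTower.algebraMap_apply R Λ S]
    | add x y hx hy =>
      rw [map_add, map_add, hx, hy, map_add, map_add, map_add]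

end Groth.Agent.Helper8.InsB
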