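import Mathlib
import Groth.Prelude
import Groth.Agent.Lib.Helper8.InsB10
import Groth.Agent.Lib.Helper8.InsB11
import Groth.Agent.Lib.Helper8.InsB12
import Groth.Agent.Lib.Helper8.InsB13
import Groth.Agent.Lib.Helper8.InsB18
import Groth.Agent.Lib.Helper8.InsB19
import Groth.Agent.Lib.Helper8.InsB20
import Groth.Agent.Lib.Helper3.AnnPi3

/-! The inseparable case: the core argument, with the polynomial ring `P` and the form `D'` of the
Artinian quotient given. -/

set_option autoImplicit false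
universe u

namespace Groth.Agent.Helper8.InsB

open MvPolynomial IsLocalRing TensorProduct Groth.Agent.Helper8.SepR Groth.Agent.Helper3.AnnPi

attribute [local instance] algPolyBB

set_option maxHeartbeats 6400000 in
set_option synthInstance.maxHeartbeats 400000 in
theorem main_core {k A Λ P : Type u} [Field k] [CommRing A] [Algebra k A]
    [Algebra.FinitePresentation k A] [CommRing Λ] [Algebra k Λ] [IsNoetherianRing Λ]
    (φ : A →ₐ[k] Λ) (𝔮 : Ideal Λ) [𝔮.IsPrime] [IsRegularLocalRing (Localization.AtPrime 𝔮)]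
    (d : ℕ) (hd : ringKrullDim (Localization.AtPrime 𝔮) = d) (N : ℕ) (hN : 0 < N)
    (hpow : (𝔮 ^ N).map (algebraMap Λ (Localization.AtPrime 𝔮)) ≤
      ((Smoothing.singularIdeal k A).map φ).map (algebraMap Λ (Localization.AtPrime 𝔮)))
    (r : ℕ) (aH : Fin r → A) (ha' : Ideal.span (Set.range aH) = Smoothing.singularIdeal k A)
    (hsm : ∀ j, Algebra.FormallySmooth k (Localization.Away (aH j)))
    (C : Type u) [CommRing C] [Algebra (BB A d r (2 * N) aH) C]
    [Algebra (MvPolynomial (Fin d) k) C]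
    [IsScalarTower (MvPolynomial (Fin d) k) (BB A d r (2 * N) aH) C]
    (hftC : Algebra.FiniteType (BB A d r (2 * N) aH) C)
    (ρ : C →ₐ[BB A d r (2 * N) aH] BB A d r (2 * N) aH)
    (hC : ∀ b : BB A d r (2 * N) aH,
      Algebra.Smooth (MvPolynomial (Fin d) k) (Localization.Away b) →
      Module.Free (Localization.Away (algebraMap (BB A d r (2 * N) aH) C b))
        Ω[Localization.Away (algebraMap (BB A d r (2 * N) aH) C b)⁄MvPolynomial (Fin d) k] ∧
      Algebra.FormallySmooth (MvPolynomial (Fin d) k)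
        (Localization.Away (algebraMap (BB A d r (2 * N) aH) C b)))
    (c₀ : ℕ) (hc₀ : 0 < c₀)
    (hstd₀ : ∀ i, Smoothing.IsStrictlyStandard (MvPolynomial (Fin d) k) C
      (algebraMap (MvPolynomial (Fin d) k) C (X i ^ c₀)))
    [CommRing P] [Algebra k P] [IsNoetherianRing P] [Algebra.FinitePresentation k P]
    [Algebra.FormallySmooth k P] [IsRegularRing P]
    [Algebra P Λ] [IsScalarTower k P Λ] [Module.Flat P (Localization.AtPrime 𝔮)]
    (hmaxP : (𝔮.under P).map (algebraMap P (Localization.AtPrime 𝔮)) =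
      maximalIdeal (Localization.AtPrime 𝔮))
    (n : ℕ) (hn : d * (c₀ * 8) + 1 ≤ n) (hNn : N ≤ n)
    [IsLocalRing (Localization.AtPrime 𝔮 ⧸ maximalIdeal (Localization.AtPrime 𝔮) ^ n)]
    (D' : Subalgebra k (Localization.AtPrime 𝔮 ⧸ maximalIdeal (Localization.AtPrime 𝔮) ^ n))
    [IsLocalRing D']
    [Module.Flat D' (Localization.AtPrime 𝔮 ⧸ maximalIdeal (Localization.AtPrime 𝔮) ^ n)]
    (hD'max : (maximalIdeal D').map (algebraMap D'
        (Localization.AtPrime 𝔮 ⧸ maximalIdeal (Localization.AtPrime 𝔮) ^ n)) =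
      maximalIdeal (Localization.AtPrime 𝔮 ⧸ maximalIdeal (Localization.AtPrime 𝔮) ^ n))
    (hPD : ∀ x : P, Ideal.Quotient.mk (maximalIdeal (Localization.AtPrime 𝔮) ^ n)
      (algebraMap P (Localization.AtPrime 𝔮) x) ∈ D')
    (hAD : ∀ x : A, Ideal.Quotient.mk (maximalIdeal (Localization.AtPrime 𝔮) ^ n)
      (algebraMap Λ (Localization.AtPrime 𝔮) (φ x)) ∈ D')
    [Algebra.EssFiniteType k (ResidueField D')]
    {t : ℕ} (y : Fin t → P)
    (hy : Submodule.span (ResidueField D') (Set.range fun j =>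
      KaehlerDifferential.D k (ResidueField D') (residue D' ⟨_, hPD (y j)⟩)) = ⊤) :
    Smoothing.Resolvable k φ 𝔮 := by
  classical
  let kx := MvPolynomial (Fin d) k
  let BBt := BB A d r (2 * N) aH
  let S := Localization.AtPrime 𝔮
  let e : ℕ := c₀ * 8
  have he : 0 < e := Nat.mul_pos hc₀ (by norm_num)
  have hn0 : 0 < n := by omega
  let I : Ideal S := maximalIdeal S ^ n
  let mkI : S →+* S ⧸ I := Ideal.Quotient.mk I
  haveI towBB : IsScalarTower k kx BBt := towerPolyBB k A d r (2 * N) aH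
  haveI fpBB : Algebra.FinitePresentation kx BBt := finitePresentation_polyBB k A d r (2 * N) aH
  have hsma : ∀ j, Algebra.FormallySmooth kx (Localization.Away (algebraMap A BBt (aH j))) := by
    intro j
    haveI := hsm j
    exact formallySmooth_away_a k A d r (2 * N) aH j
  -- the local ring of `P`
  let 𝔭 : Ideal P := 𝔮.under P
  let Pp := Localization.AtPrime 𝔭
  letI algPpS : Algebra Pp S := Localization.AtPrime.algebraOfLiesOver 𝔭 𝔮
  haveI hlies : Localization.AtPrime.IsLiesOverAlgebra 𝔭 𝔮 := ⟨rfl⟩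
  haveI hflatPp : Module.Flat Pp S :=
    (Module.flat_iff_of_isLocalization Pp 𝔭.primeCompl S).mpr inferInstance
  have hmPS : (maximalIdeal Pp).map (algebraMap Pp S) = maximalIdeal S := by
    rw [← Localization.AtPrime.map_eq_maximalIdeal, Ideal.map_map,
      ← IsScalarTower.algebraMap_eq, hmaxP]
  haveI hregPp : IsRegularLocalRing Pp := inferInstance
  have hdP : ringKrullDim Pp = d := by
    rw [ringKrullDim_eq_of_flat Pp S hmPS, hd]
  -- good parameters in `P`
  obtain ⟨π'₀, hπ'₀, -⟩ := exists_init 𝔭 hdP ⊤ 1 one_pos (by rw [Ideal.map_top]; exact le_top)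
  obtain ⟨π', hπ', hP⟩ := exists_goodP 𝔭 hdP e he π'₀ hπ'₀ d le_rfl
  let a : Fin d → Λ := fun i => algebraMap P Λ (π' i)
  have haS : ∀ i, algebraMap Λ S (a i) = algebraMap P S (π' i) := fun i =>
    (IsScalarTower.algebraMap_apply P Λ S (π' i)).symm
  have haSpan : Ideal.span (Set.range fun i => algebraMap Λ S (a i)) = maximalIdeal S := by
    rw [← hmPS, ← hπ', Ideal.map_span, ← Set.range_comp]
    congr 2
    funext i
    rw [haS, Function.comp_apply, ← IsScalarTower.algebraMap_apply P Pp S]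
  have haq : ∀ i, a i ∈ 𝔮 := by
    intro i
    have h6 : algebraMap Λ S (a i) ∈ maximalIdeal S := by
      rw [← haSpan]
      exact Ideal.subset_span ⟨i, rfl⟩
    exact (IsLocalization.AtPrime.to_map_mem_maximal_iff S 𝔮 (a i)).mp h6
  have hn1 : maximalIdeal Pp ^ n ≤
      Ideal.span (Set.range fun i => algebraMap P Pp (π' i) ^ e) := by
    refine (Ideal.pow_le_pow_right hn).trans ?_
    rw [← hπ']
    exact pow_le_span_pow (fun i => algebraMap P Pp (π' i)) e
  -- the elements `μ`
  haveI hlocD : IsLocalHom (algebraMap D' (S ⧸ I)) := by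
    constructor
    intro x hx
    by_contra hnu
    have h1 : x ∈ maximalIdeal D' := (mem_maximalIdeal x).mpr hnu
    have h2 : algebraMap D' (S ⧸ I) x ∈ maximalIdeal (S ⧸ I) := by
      rw [← hD'max]
      exact Ideal.mem_map_of_mem _ h1
    exact (mem_maximalIdeal _).mp h2 hx
  haveI hflat0 : @Module.Flat D' (S ⧸ I) _ _ Algebra.toModule :=
    ‹Module.Flat D' (Localization.AtPrime 𝔮 ⧸ maximalIdeal (Localization.AtPrime 𝔮) ^ n)›
  haveI hffD : @Module.FaithfullyFlat D' (S ⧸ I) _ _ Algebra.toModule :=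
    Module.FaithfullyFlat.of_flat_of_isLocalHom
  let hb : Fin r → D' := fun j => ⟨mkI (algebraMap Λ S (φ (aH j))), hAD (aH j)⟩
  let ab : Fin d → D' := fun i => ⟨mkI (algebraMap P S (π' i)), hPD (π' i)⟩
  have hIspan : (Smoothing.singularIdeal k A).map φ =
      Ideal.span (Set.range fun j => φ (aH j)) := by
    rw [← ha', Ideal.map_span, ← Set.range_comp]
    rfl
  have hpow' : (𝔮 ^ N).map (algebraMap Λ S) ≤
      (Ideal.span (Set.range fun j => φ (aH j))).map (algebraMap Λ S) := by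
    rw [← hIspan]
    exact hpow
  have hex : ∀ i, ∃ μ : Fin r → D', ab i ^ N = ∑ j, μ j * hb j := by
    intro i
    apply exists_coeff_of_faithfullyFlat (T := S ⧸ I) hb (ab i ^ N)
    have h1 : algebraMap Λ S (a i ^ N) ∈
        (Ideal.span (Set.range fun j => φ (aH j))).map (algebraMap Λ S) :=
      hpow' (Ideal.mem_map_of_mem _ (Ideal.pow_mem_pow (haq i) N))
    have h2 := Ideal.mem_map_of_mem mkI h1
    rw [Ideal.map_map, Ideal.map_span, ← Set.range_comp] at h2
    have h3 : algebraMap D' (S ⧸ I) (ab i ^ N) = mkI (algebraMap Λ S (a i ^ N)) := by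
      rw [map_pow, map_pow, map_pow, haS]
      rfl
    rw [h3]
    exact h2
  choose μ' hμ' using hex
  have hμS : ∀ i, mkI (algebraMap P S (π' i)) ^ N =
      ∑ j, (μ' i j : S ⧸ I) * mkI (algebraMap Λ S (φ (aH j))) := by
    intro i
    have h1 := congrArg (Subtype.val) (hμ' i)
    rw [SubmonoidClass.coe_pow, AddSubmonoidClass.coe_finsetSum] at h1
    rw [show mkI (algebraMap P S (π' i)) = ((ab i : D') : S ⧸ I) from rfl, h1]
    refine Finset.sum_congr rfl fun j _ => ?_
    rw [MulMemClass.coe_mul]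
  -- the elements `δ` and `λ`
  obtain ⟨δ, lam, hδ, heq, hlam, hspanδ, hAnn⟩ := exists_delta 𝔮 hd e he (fun j => φ (aH j)) N n
    hN hNn hpow' a haSpan (fun i j => (μ' i j : S ⧸ I)) (by
      intro i
      rw [haS]
      exact hμS i)
  -- the ring `R`
  let R := MvPolynomial (Fin d) P
  haveI hfpR : Algebra.FinitePresentation k R := Algebra.FinitePresentation.trans k P R
  haveI hfsR : Algebra.FormallySmooth k R := Algebra.FormallySmooth.comp k P R
  letI algRΛ : Algebra R Λ := (aeval δ : MvPolynomial (Fin d) P →ₐ[P] Λ).toRingHom.toAlgebra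
  haveI towPRΛ : IsScalarTower P R Λ :=
    IsScalarTower.of_algebraMap_eq (fun c =>
      ((aeval δ : MvPolynomial (Fin d) P →ₐ[P] Λ).commutes c).symm)
  haveI towkRΛ : IsScalarTower k R Λ := by
    refine IsScalarTower.of_algebraMap_eq (fun c => ?_)
    rw [IsScalarTower.algebraMap_apply k P Λ, IsScalarTower.algebraMap_apply P R Λ,
      ← IsScalarTower.algebraMap_apply k P R]
  have hXδ : ∀ i, algebraMap R Λ (X i) = δ i := fun i => aeval_X _ _
  let γ : Fin d → R := fun i => algebraMap P R (π' i) * X i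
  have hγgam : ∀ i, γ i = gam π' i := fun i => (gam_eq π' i).symm
  letI algkxR : Algebra kx R := (aeval γ : kx →ₐ[k] R).toRingHom.toAlgebra
  haveI towkkxR : IsScalarTower k kx R :=
    IsScalarTower.of_algebraMap_eq (fun c => ((aeval γ : kx →ₐ[k] R).commutes c).symm)
  have hXγ : ∀ i, algebraMap kx R (X i) = γ i := fun i => aeval_X _ _
  letI algkxΛ : Algebra kx Λ := ((algebraMap R Λ).comp (algebraMap kx R)).toAlgebra
  haveI towkxRΛ : IsScalarTower kx R Λ := IsScalarTower.of_algebraMap_eq (fun _ => rfl)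
  have hγΛ : ∀ i, algebraMap R Λ (γ i) = δ i * a i := by
    intro i
    simp only [γ, map_mul, hXδ]
    rw [← IsScalarTower.algebraMap_apply P R Λ, mul_comm]
  -- the map `β`
  let β₀ : BBt →+* Λ := liftBBRing (φ : A →+* Λ) (fun i => δ i * a i) lam heq
  have hβ₀A : ∀ x, β₀ (algebraMap A BBt x) = φ x := fun x => liftBBRing_algebraMap _ _ _ heq x
  have hβ₀x : ∀ i, β₀ (xB A d r (2 * N) aH i) = δ i * a i := fun i => liftBBRing_xB _ _ _ heq i
  have hβ₀z : ∀ i j, β₀ (zB A d r (2 * N) aH i j) = lam i j :=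
    fun i j => liftBBRing_zB _ _ _ heq i j
  have hβ₀comm : ∀ q : kx, β₀ (algebraMap kx BBt q) = algebraMap kx Λ q := by
    have h1 : β₀.comp (algebraMap kx BBt) = algebraMap kx Λ := by
      apply MvPolynomial.ringHom_ext
      · intro c
        rw [RingHom.comp_apply]
        have h2 : algebraMap kx BBt (MvPolynomial.C c) = algebraMap A BBt (algebraMap k A c) := by
          rw [← MvPolynomial.algebraMap_eq, ← IsScalarTower.algebraMap_apply k kx BBt,
            IsScalarTower.algebraMap_apply k A BBt]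
        rw [h2, hβ₀A]
        change φ (algebraMap k A c) = algebraMap R Λ (algebraMap kx R (MvPolynomial.C c))
        rw [φ.commutes, ← MvPolynomial.algebraMap_eq, ← IsScalarTower.algebraMap_apply k kx R,
          ← IsScalarTower.algebraMap_apply k R Λ]
      · intro i
        rw [RingHom.comp_apply, algebraMap_polyBB_X, hβ₀x]
        change _ = algebraMap R Λ (algebraMap kx R (X i))
        rw [hXγ, hγΛ]
    intro q
    exact congrFun (congrArg DFunLike.coe h1) q
  let β : BBt →ₐ[kx] Λ := { β₀ with commutes' := hβ₀comm }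
  have hββ₀ : ∀ b, β b = β₀ b := fun b => rfl
  -- the sequence
  let π : Fin d → R := fun i => algebraMap kx R (X i ^ c₀)
  have hπγ : ∀ i, π i = γ i ^ c₀ := by
    intro i
    simp only [π, map_pow, hXγ]
  have hπΛ : ∀ i, algebraMap R Λ (π i) = (δ i * a i) ^ c₀ := by
    intro i
    rw [hπγ, map_pow, hγΛ]
  have hπ𝔮 : ∀ i, algebraMap R Λ (π i) ∈ 𝔮 := by
    intro i
    rw [hπΛ]
    exact Ideal.pow_mem_of_mem _ (Ideal.mul_mem_left _ _ (haq i)) _ hc₀
  have hR : ∀ i : Fin d, ∀ x : R ⧸ Ideal.span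
        (Set.range fun j : {j : Fin d // (j : ℕ) < (i : ℕ)} => π j ^ 8),
      Ideal.Quotient.mk _ (π i) ^ 2 * x = 0 → Ideal.Quotient.mk _ (π i) * x = 0 := by
    intro i x hx
    obtain ⟨z, rfl⟩ := Ideal.Quotient.mk_surjective x
    have hset : Ideal.span (Set.range fun j : {j : Fin d // (j : ℕ) < (i : ℕ)} => π j ^ 8) =
        JJ π' e i := by
      unfold JJ
      congr 2
      funext j
      rw [hπγ, hγgam, ← pow_mul]
    rw [← map_pow, ← map_mul, Ideal.Quotient.eq_zero_iff_mem, hset, hπγ, hγgam] at hx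
    rw [← map_mul, Ideal.Quotient.eq_zero_iff_mem, hset, hπγ, hγgam]
    exact ann_pow_ideal (JJ π' e i) (gam π' i) c₀ hc₀
      (ann_gam π' e (fun i T hT z hz => hP i i.2 T hT z hz) i) z hx
  have hΛ : ∀ i : Fin d, ∀ x : Λ ⧸ Ideal.span
        (Set.range fun j : {j : Fin d // (j : ℕ) < (i : ℕ)} => algebraMap R Λ (π j) ^ 8),
      Ideal.Quotient.mk _ (algebraMap R Λ (π i)) ^ 2 * x = 0 →
        Ideal.Quotient.mk _ (algebraMap R Λ (π i)) * x = 0 := by
    intro i x hx
    obtain ⟨z, rfl⟩ := Ideal.Quotient.mk_surjective x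
    have hset : Ideal.span (Set.range fun j : {j : Fin d // (j : ℕ) < (i : ℕ)} =>
        algebraMap R Λ (π j) ^ 8) = Jpow (fun i => δ i * a i) e i := by
      unfold Jpow
      congr 2
      funext j
      rw [hπΛ, ← pow_mul]
    rw [← map_pow, ← map_mul, Ideal.Quotient.eq_zero_iff_mem, hset, hπΛ] at hx
    rw [← map_mul, Ideal.Quotient.eq_zero_iff_mem, hset, hπΛ]
    exact ann_pow_ideal (Jpow (fun i => δ i * a i) e i) (δ i * a i) c₀ hc₀ (hAnn i) z hx
  -- the problem modulo `K`
  let K : Ideal R := Ideal.span (Set.range fun i => π i ^ 8)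
  have hK𝔮 : K.map (algebraMap R Λ) ≤ 𝔮 := by
    rw [Ideal.map_span, Ideal.span_le]
    rintro _ ⟨_, ⟨i, rfl⟩, rfl⟩
    rw [map_pow, SetLike.mem_coe]
    exact Ideal.pow_mem_of_mem _ (hπ𝔮 i) 8 (by norm_num)
  have hKγ : ∀ i, (algebraMap P R (π' i) * X i) ^ e ∈ K := by
    intro i
    have h1 : (algebraMap P R (π' i) * X i) ^ e = π i ^ 8 := by
      rw [hπγ, ← pow_mul]
    rw [h1]
    exact Ideal.subset_span ⟨i, rfl⟩
  have hIJ : I ≤ K.map (algebraMap R S) := by
    refine (Ideal.pow_le_pow_right hn).trans ?_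
    rw [← hspanδ]
    refine (pow_le_span_pow _ e).trans ?_
    rw [Ideal.span_le]
    rintro _ ⟨i, rfl⟩
    have h1 : algebraMap Λ S (δ i * a i) ^ e = algebraMap R S (π i ^ 8) := by
      rw [IsScalarTower.algebraMap_apply R Λ S, map_pow (algebraMap R Λ), hπΛ, ← pow_mul, map_pow]
    change algebraMap Λ S (δ i * a i) ^ e ∈ K.map (algebraMap R S)
    rw [h1]
    exact Ideal.mem_map_of_mem _ (Ideal.subset_span ⟨i, rfl⟩)
  have hIeq : I = (maximalIdeal Pp ^ n).map (algebraMap Pp S) := by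
    rw [Ideal.map_pow, hmPS]
  obtain ⟨ψ, hψ, hInd⟩ := indSmooth_form 𝔮 hmaxP n hn0 I hIeq D' hD'max hPD y hy
  have htt : ∀ i, algebraMap R Λ (X i) ∉ 𝔮 := by
    intro i
    rw [hXδ]
    exact hδ i
  have hlam' : ∀ i j, mkI (algebraMap Λ S (lam i j)) =
      mkI (algebraMap R S (X i)) ^ (2 * N) * mkI (algebraMap P S (π' i)) ^ N *
        (μ' i j : S ⧸ I) := by
    intro i j
    rw [IsScalarTower.algebraMap_apply R Λ S, hXδ, ← haS]
    exact hlam i j
  have hβ₀x' : ∀ i, β₀ (xB A d r (2 * N) aH i) = algebraMap R Λ (algebraMap P R (π' i) * X i) :=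
    fun i => (hβ₀x i).trans (hγΛ i).symm
  refine main_aux2 φ 𝔮 d r aH ha' BBt hsma C hftC ρ hC β hβ₀A c₀ hstd₀ π (fun i => rfl) hπ𝔮 hR hΛ ?_
  intro φC hφC
  haveI hfpC : Algebra.FinitePresentation kx C := by
    haveI : Algebra.FiniteType kx BBt := inferInstance
    haveI : Algebra.FiniteType kx C :=
      Algebra.FiniteType.trans (inferInstance : Algebra.FiniteType kx BBt) hftC
    exact Algebra.FinitePresentation.of_finiteType.mp inferInstance
  exact resolvable_quot_insep 𝔮 N aH π' (fun i => X i) htt hXγ e K hKγ hK𝔮 n hn1 n hIJ I hIJ D' ψ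
    hψ hInd φ hAD μ' hμS lam hlam' β₀ hβ₀A hβ₀x' hβ₀z C ρ φC hφC

end Groth.Agent.Helper8.InsB
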