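import Mathlib

/-! Chain rule for polynomials and the consequence for primes of a polynomial ring whose residue
coordinates have linearly independent differentials. -/

namespace Groth.Agent.Helper8.DifB

open MvPolynomial

theorem derivation_aeval {k F M : Type*} [CommRing k] [CommRing F] [Algebra k F]
    [AddCommGroup M] [Module F M] [Module k M] [IsScalarTower k F M] {σ : Type*} [Fintype σ]
    [DecidableEq σ]
    (d : Derivation k F M) (y : σ → F) (f : MvPolynomial σ k) :
    d (aeval y f) = ∑ i, aeval y (pderiv i f) • d (y i) := by
  induction f using MvPolynomial.induction_on with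
  | C a =>
    simp only [aeval_C, Derivation.map_algebraMap, pderiv_C, map_zero, zero_smul,
      Finset.sum_const_zero]
  | add p q hp hq =>
    simp only [map_add, hp, hq, add_smul, Finset.sum_add_distrib]
  | mul_X p j hp =>
    rw [map_mul, Derivation.leibniz, hp, aeval_X]
    have h1 : ∀ i, aeval y (pderiv i (p * X j)) • d (y i) =
        y j • (aeval y (pderiv i p) • d (y i)) + (if i = j then aeval y p • d (y j) else 0) := by
      intro i
      rw [Derivation.leibniz, pderiv_X, smul_eq_mul, smul_eq_mul, map_add, map_mul, map_mul,
        aeval_X, add_smul, add_comm]
      congr 1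
      · rw [mul_smul]
      · by_cases hij : i = j
        · subst hij
          rw [if_pos rfl, Pi.single_eq_same, map_one, mul_one]
        · rw [if_neg hij, Pi.single_eq_of_ne (Ne.symm hij), map_zero, mul_zero, zero_smul]
    rw [Finset.sum_congr rfl (fun i _ => h1 i), Finset.sum_add_distrib, ← Finset.smul_sum,
      Finset.sum_ite_eq' Finset.univ j]
    simp [add_comm]

/-- if the differentials of the coordinates are linearly independent, then a polynomial relation
has all its partial derivatives again relations. -/
theorem aeval_pderiv_eq_zero {k F : Type*} [Field k] [Field F] [Algebra k F] {m : ℕ}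
    (y : Fin m → F)
    (hli : LinearIndependent F (fun i => KaehlerDifferential.D k F (y i)))
    (f : MvPolynomial (Fin m) k) (hf : aeval y f = 0) (j : Fin m) :
    aeval y (pderiv j f) = 0 := by
  classical
  have h1 := derivation_aeval (KaehlerDifferential.D k F) y f
  rw [hf, map_zero] at h1
  exact Fintype.linearIndependent_iff.mp hli _ h1.symm j

end Groth.Agent.Helper8.DifB
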