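import Mathlib

/-! The graph of a map `k[y] → A`: the ring `k[y] ⊗ A`, the evaluation `k[y] ⊗ A → A`, the
elements `y_i ⊗ 1 - 1 ⊗ φ(y_i)` and the partial derivatives. -/

namespace Groth.Agent.Helper8.DifB

open MvPolynomial TensorProduct

universe u

section Graph

variable {k A : Type u} [Field k] [CommRing A] [Algebra k A] {m : ℕ}
  (φ : MvPolynomial (Fin m) k →ₐ[k] A)

/-- evaluation `k[y] ⊗ A → A` -/
noncomputable def ev : MvPolynomial (Fin m) k ⊗[k] A →ₐ[k] A :=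
  Algebra.TensorProduct.lift φ (AlgHom.id k A) (fun _ _ => Commute.all _ _)

@[simp]
theorem ev_tmul (p : MvPolynomial (Fin m) k) (a : A) : ev φ (p ⊗ₜ[k] a) = φ p * a := by
  simp [ev]

theorem ev_algebraMap (p : MvPolynomial (Fin m) k) :
    ev φ (algebraMap (MvPolynomial (Fin m) k) (MvPolynomial (Fin m) k ⊗[k] A) p) = φ p := by
  rw [Algebra.TensorProduct.algebraMap_apply]
  simp

theorem ev_surjective : Function.Surjective (ev φ) := fun a => ⟨1 ⊗ₜ a, by simp⟩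

/-- the elements `y_i ⊗ 1 - 1 ⊗ φ(y_i)` -/
noncomputable def zz (i : Fin m) : MvPolynomial (Fin m) k ⊗[k] A :=
  (X i) ⊗ₜ[k] 1 - 1 ⊗ₜ[k] φ (X i)

theorem ev_zz (i : Fin m) : ev φ (zz φ i) = 0 := by
  simp [zz]

theorem tmul_sub_mem (p : MvPolynomial (Fin m) k) :
    p ⊗ₜ[k] (1 : A) - 1 ⊗ₜ[k] φ p ∈ Ideal.span (Set.range (zz φ)) := by
  set J := Ideal.span (Set.range (zz φ)) with hJ
  let f₁ : MvPolynomial (Fin m) k →ₐ[k] (MvPolynomial (Fin m) k ⊗[k] A) ⧸ J :=
    (Ideal.Quotient.mkₐ k J).comp Algebra.TensorProduct.includeLeft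
  let f₂ : MvPolynomial (Fin m) k →ₐ[k] (MvPolynomial (Fin m) k ⊗[k] A) ⧸ J :=
    ((Ideal.Quotient.mkₐ k J).comp Algebra.TensorProduct.includeRight).comp φ
  have h : f₁ = f₂ := by
    apply MvPolynomial.algHom_ext
    intro i
    change Ideal.Quotient.mk J ((X i) ⊗ₜ[k] 1) = Ideal.Quotient.mk J (1 ⊗ₜ[k] φ (X i))
    rw [Ideal.Quotient.eq]
    exact Ideal.subset_span ⟨i, rfl⟩
  have h2 := AlgHom.congr_fun h p
  change Ideal.Quotient.mk J (p ⊗ₜ[k] 1) = Ideal.Quotient.mk J (1 ⊗ₜ[k] φ p) at h2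
  rwa [Ideal.Quotient.eq] at h2

theorem sub_ev_mem (x : MvPolynomial (Fin m) k ⊗[k] A) :
    x - 1 ⊗ₜ[k] ev φ x ∈ Ideal.span (Set.range (zz φ)) := by
  induction x using TensorProduct.induction_on with
  | zero => simp
  | tmul p a =>
    have h1 := Ideal.mul_mem_right ((1 : MvPolynomial (Fin m) k) ⊗ₜ[k] a) _ (tmul_sub_mem φ p)
    have h2 : (p ⊗ₜ[k] (1 : A) - 1 ⊗ₜ[k] φ p) * ((1 : MvPolynomial (Fin m) k) ⊗ₜ[k] a) =
        p ⊗ₜ[k] a - 1 ⊗ₜ[k] ev φ (p ⊗ₜ[k] a) := by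
      rw [sub_mul, Algebra.TensorProduct.tmul_mul_tmul, Algebra.TensorProduct.tmul_mul_tmul,
        ev_tmul]
      simp
    rwa [h2] at h1
  | add x y hx hy =>
    have : x + y - 1 ⊗ₜ[k] ev φ (x + y) = (x - 1 ⊗ₜ[k] ev φ x) + (y - 1 ⊗ₜ[k] ev φ y) := by
      rw [map_add, TensorProduct.tmul_add]; ring
    rw [this]
    exact Ideal.add_mem _ hx hy

theorem ker_ev : RingHom.ker (ev φ : MvPolynomial (Fin m) k ⊗[k] A →+* A) =
    Ideal.span (Set.range (zz φ)) := by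
  apply le_antisymm
  · intro x hx
    rw [RingHom.mem_ker] at hx
    have h1 := sub_ev_mem φ x
    have h2 : ev φ x = 0 := hx
    rwa [h2, TensorProduct.tmul_zero, sub_zero] at h1
  · rw [Ideal.span_le]
    rintro _ ⟨i, rfl⟩
    exact ev_zz φ i

/-- the partial derivative on `k[y] ⊗ A` -/
noncomputable def DD (j : Fin m) : MvPolynomial (Fin m) k ⊗[k] A →ₗ[k] MvPolynomial (Fin m) k ⊗[k] A :=
  LinearMap.rTensor A ((pderiv j : Derivation k (MvPolynomial (Fin m) k) _) :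
    MvPolynomial (Fin m) k →ₗ[k] MvPolynomial (Fin m) k)

@[simp]
theorem DD_tmul (j : Fin m) (p : MvPolynomial (Fin m) k) (a : A) :
    DD (A := A) j (p ⊗ₜ[k] a) = (pderiv j p) ⊗ₜ[k] a := by
  simp [DD]

theorem DD_mul (j : Fin m) (x y : MvPolynomial (Fin m) k ⊗[k] A) :
    DD j (x * y) = x * DD j y + y * DD j x := by
  induction x using TensorProduct.induction_on with
  | zero => simp
  | tmul p a =>
    induction y using TensorProduct.induction_on with
    | zero => simp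
    | tmul q b =>
      rw [Algebra.TensorProduct.tmul_mul_tmul, DD_tmul, DD_tmul, DD_tmul,
        Algebra.TensorProduct.tmul_mul_tmul, Algebra.TensorProduct.tmul_mul_tmul,
        Derivation.leibniz, smul_eq_mul, smul_eq_mul, TensorProduct.add_tmul, mul_comm b a]
    | add y₁ y₂ h₁ h₂ =>
      rw [mul_add, map_add, h₁, h₂, map_add]; ring
  | add x₁ x₂ h₁ h₂ =>
    rw [add_mul, map_add, h₁, h₂, map_add]; ring

theorem DD_zz (φ : MvPolynomial (Fin m) k →ₐ[k] A) (i j : Fin m) :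
    DD j (zz φ i) = if i = j then 1 else 0 := by
  rw [zz, map_sub, DD_tmul, DD_tmul, pderiv_X, pderiv_one, TensorProduct.zero_tmul, sub_zero]
  by_cases h : i = j
  · subst h
    rw [if_pos rfl, Pi.single_eq_same]; rfl
  · rw [if_neg h, Pi.single_eq_of_ne h, TensorProduct.zero_tmul]

theorem DD_algebraMap (j : Fin m) (p : MvPolynomial (Fin m) k) :
    DD (A := A) j (algebraMap (MvPolynomial (Fin m) k) (MvPolynomial (Fin m) k ⊗[k] A) p) =
      algebraMap (MvPolynomial (Fin m) k) (MvPolynomial (Fin m) k ⊗[k] A) (pderiv j p) := by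
  rw [Algebra.TensorProduct.algebraMap_apply, Algebra.TensorProduct.algebraMap_apply]
  simp

end Graph

end Groth.Agent.Helper8.DifB
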