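import Mathlib
import Groth.Prelude
import Groth.Agent.S2672
import Groth.Agent.Lib.Helper8.Fib1

/-! Regularity of the fibre local rings of `k[y] → k[y] ⊗ A` for `A` geometrically regular. -/

namespace Groth.Agent.Helper8.DifB

open MvPolynomial TensorProduct

universe u

theorem isRegularLocalRing_fibLoc_of_fiber {R S : Type u} [CommRing R] [CommRing S] [Algebra R S]
    (𝔑 : Ideal S) [𝔑.IsPrime]
    (hreg : IsRegularRing ((𝔑.comap (algebraMap R S)).Fiber S)) :
    IsRegularLocalRing (EGA4.FibLocRing R S 𝔑) := by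
  obtain ⟨Q', hQ'prime, hQ'⟩ :=
    Groth.Agent.Helper8.Fib.exists_fiber_prime (𝔑.comap (algebraMap R S)) 𝔑 rfl
  obtain ⟨e2⟩ := Groth.Agent.Helper8.Fib.nonempty_ringEquiv_fibLocRing
    (𝔑.comap (algebraMap R S)) Q' 𝔑 hQ'
  exact IsRegularLocalRing.of_ringEquiv (R := Localization.AtPrime Q') e2

theorem isRegularLocalRing_fibLoc {k A : Type u} [Field k] [CommRing A] [Algebra k A]
    [IsNoetherianRing A] (hA : CAlg.IsGeometricallyRegular k A) {m : ℕ}
    (𝔑 : Ideal (MvPolynomial (Fin m) k ⊗[k] A)) [𝔑.IsPrime] :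
    IsRegularLocalRing
      (EGA4.FibLocRing (MvPolynomial (Fin m) k) (MvPolynomial (Fin m) k ⊗[k] A) 𝔑) := by
  apply isRegularLocalRing_fibLoc_of_fiber
  set 𝔭 : Ideal (MvPolynomial (Fin m) k) :=
    𝔑.comap (algebraMap (MvPolynomial (Fin m) k) (MvPolynomial (Fin m) k ⊗[k] A)) with h𝔭
  have hess : Algebra.EssFiniteType k 𝔭.ResidueField :=
    Algebra.EssFiniteType.comp k (MvPolynomial (Fin m) k) 𝔭.ResidueField
  haveI hreg : IsRegularRing (𝔭.ResidueField ⊗[k] A) :=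
    ((Groth.Agent.S2672.result k A).2.mp hA) 𝔭.ResidueField hess
  let e : 𝔭.Fiber (MvPolynomial (Fin m) k ⊗[k] A) ≃ₐ[𝔭.ResidueField] 𝔭.ResidueField ⊗[k] A :=
    Algebra.TensorProduct.cancelBaseChange k (MvPolynomial (Fin m) k) 𝔭.ResidueField
      𝔭.ResidueField A
  exact IsRegularRing.of_ringEquiv e.symm.toRingEquiv

end Groth.Agent.Helper8.DifB
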