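import Mathlib
import Groth.Agent.Lib.Helper8.RegularLocal5

/-! Part of a regular system of parameters is a regular sequence. -/

namespace Groth.Agent.Helper8.DifB

open IsLocalRing RingTheory.Sequence Groth.Agent.Helper8.RLR

universe u

theorem isWeaklyRegular_of_linearIndependent (R : Type u) [CommRing R] [IsRegularLocalRing R]
    {m : ℕ} (x : Fin m → maximalIdeal R)
    (hli : LinearIndependent (ResidueField R) (fun i => (maximalIdeal R).toCotangent (x i))) :
    IsWeaklyRegular R (List.ofFn (fun i => (x i : R))) := by
  classical
  set n := Module.finrank (ResidueField R) (CotangentSpace R) with hn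
  have hmn : Fintype.card (Fin m) ≤ n := hli.fintype_card_le_finrank
  obtain ⟨y, hy⟩ := exists_extension x hli
  have hcard : Fintype.card (Fin m) = m := Fintype.card_fin m
  have hreg : ((maximalIdeal R).spanFinrank : WithBot ℕ∞) = ringKrullDim R :=
    IsRegularLocalRing.spanFinrank_maximalIdeal
  rw [spanFinrank_maximalIdeal_eq_finrank_cotangentSpace] at hreg
  have hd : ringKrullDim R = ((m + (n - Fintype.card (Fin m)) : ℕ) : WithBot ℕ∞) := by
    rw [← hreg]
    have : n = m + (n - Fintype.card (Fin m)) := by omega
    exact_mod_cast this
  let full : Fin (m + (n - Fintype.card (Fin m))) → R :=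
    Fin.append (fun i => (x i : R)) (fun j => (y j : R))
  have hfull : Ideal.span (Set.range full) = maximalIdeal R := by
    rw [range_append]
    exact hy
  have h := isRegular_castLE R _ hd full hfull m (Nat.le_add_right _ _)
  have heq : (fun i : Fin m => full (Fin.castLE (Nat.le_add_right _ _) i)) =
      fun i => (x i : R) := by
    funext i
    exact Fin.append_left _ _ i
  rw [heq] at h
  exact h.toIsWeaklyRegular

end Groth.Agent.Helper8.DifB
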