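import Mathlib

/-! Localizing a surjection onto a local ring at the preimage of the maximal ideal. -/

namespace Groth.Agent.Helper8.DifB

open IsLocalRing

theorem exists_localized_surjection {C A : Type*} [CommRing C] [CommRing A] [IsLocalRing A]
    (e : C →+* A) (he : Function.Surjective e) :
    ∃ evB : Localization.AtPrime ((maximalIdeal A).comap e) →+* A,
      (∀ c, evB (algebraMap C (Localization.AtPrime ((maximalIdeal A).comap e)) c) = e c) ∧
      Function.Surjective evB ∧
      RingHom.ker evB =
        (RingHom.ker e).map (algebraMap C (Localization.AtPrime ((maximalIdeal A).comap e))) := by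
  set 𝔑 := (maximalIdeal A).comap e with h𝔑
  have hunit : ∀ y : 𝔑.primeCompl, IsUnit (e y) := by
    rintro ⟨y, hy⟩
    by_contra hnu
    exact hy ((mem_maximalIdeal _).mpr hnu)
  let evB : Localization.AtPrime 𝔑 →+* A := IsLocalization.lift (M := 𝔑.primeCompl) hunit
  have hev : ∀ c, evB (algebraMap C (Localization.AtPrime 𝔑) c) = e c := fun c =>
    IsLocalization.lift_eq hunit c
  refine ⟨evB, hev, fun a => ?_, ?_⟩
  · obtain ⟨c, rfl⟩ := he a
    exact ⟨algebraMap C _ c, hev c⟩
  · apply le_antisymm
    · intro b hb
      obtain ⟨c, s, rfl⟩ := IsLocalization.exists_mk'_eq 𝔑.primeCompl b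
      rw [RingHom.mem_ker, IsLocalization.lift_mk'_spec] at hb
      have hc : e c = 0 := by
        have h1 : e c = e s * 0 := by rw [hb]
        rwa [mul_zero] at h1
      have hmem : algebraMap C (Localization.AtPrime 𝔑) c ∈
          (RingHom.ker e).map (algebraMap C (Localization.AtPrime 𝔑)) :=
        Ideal.mem_map_of_mem _ hc
      rw [IsLocalization.mk'_eq_mul_mk'_one]
      exact Ideal.mul_mem_right _ _ hmem
    · rw [Ideal.map_le_iff_le_comap]
      intro c hc
      rw [Ideal.mem_comap, RingHom.mem_ker, hev]
      exact hc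

end Groth.Agent.Helper8.DifB
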