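import Mathlib
import Groth.Prelude
import Groth.Agent.Lib.Helper8.DifB3
import Groth.Agent.Lib.Helper8.DifB6
import Groth.Agent.Lib.Helper8.DifB7
import Groth.Agent.Lib.Helper8.RegularLocal
import Groth.Agent.Lib.Helper8.FlatReg2

/-! Flatness and regular fibre through a flat thickening with regular fibre local ring in which
the kernel is generated by part of a regular system of parameters of the fibre. -/

namespace Groth.Agent.Helper8.DifB

open IsLocalRing RingTheory.Sequence

universe u

set_option maxHeartbeats 3200000 in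
theorem main_aux {R C A : Type u} [CommRing R] [CommRing C] [CommRing A] [IsLocalRing A]
    [Algebra R C] [Module.Flat R C] [IsNoetherianRing C]
    (e : C →+* A) (he : Function.Surjective e) {m : ℕ} (z : Fin m → C)
    (hker : RingHom.ker e = Ideal.span (Set.range z))
    (φ : R →+* A) (hφ : ∀ p, e (algebraMap R C p) = φ p)
    (hFreg : letI : ((maximalIdeal A).comap e).IsPrime := Ideal.comap_isPrime _ _
      IsRegularLocalRing (EGA4.FibLocRing R C ((maximalIdeal A).comap e)))
    (hkey : ∀ (t : C), t ∉ (maximalIdeal A).comap e →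
      ∀ c : Fin m → C, t * ∑ i, c i * z i ∈ ((maximalIdeal A).comap e) ^ 2 ⊔
        (((maximalIdeal A).comap e).comap (algebraMap R C)).map (algebraMap R C) →
      ∀ j, c j ∈ (maximalIdeal A).comap e) :
    letI := φ.toAlgebra
    Module.Flat R A ∧
      IsRegularLocalRing (A ⧸ Ideal.map φ (Ideal.comap φ (maximalIdeal A))) := by
  classical
  letI algPA : Algebra R A := φ.toAlgebra
  have hez : ∀ i, e (z i) = 0 := fun i => by
    have : z i ∈ RingHom.ker e := by rw [hker]; exact Ideal.subset_span ⟨i, rfl⟩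
    exact this
  set 𝔑 : Ideal C := (maximalIdeal A).comap e with h𝔑
  haveI h𝔑prime : 𝔑.IsPrime := Ideal.comap_isPrime _ _
  obtain ⟨evB, hev, hevsurj, hevker⟩ := exists_localized_surjection e he
  have hevker' : RingHom.ker evB = Ideal.span (Set.range
      (fun i => algebraMap C (Localization.AtPrime 𝔑) (z i))) := by
    rw [hevker, hker, Ideal.map_span, ← Set.range_comp]
    rfl
  have hz : ∀ i, z i ∈ 𝔑 := fun i => by
    rw [h𝔑, Ideal.mem_comap, hez]; exact Ideal.zero_mem _
  set 𝔭' : Ideal R := 𝔑.comap (algebraMap R C) with h𝔭'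
  haveI h𝔭'prime : 𝔭'.IsPrime := Ideal.comap_isPrime _ _
  have hmem𝔭' : ∀ f, f ∈ 𝔭' ↔ φ f ∈ maximalIdeal A := fun f => by
    rw [h𝔭', Ideal.mem_comap, h𝔑, Ideal.mem_comap, hφ]
  have h𝔭'eq : 𝔭' = Ideal.comap φ (maximalIdeal A) := by
    ext f; rw [hmem𝔭']; rfl
  set I : Ideal C := 𝔭'.map (algebraMap R C) with hI
  have hIeq : I.map (algebraMap C (Localization.AtPrime 𝔑)) =
      𝔭'.map (algebraMap R (Localization.AtPrime 𝔑)) := by
    rw [hI, Ideal.map_map, ← IsScalarTower.algebraMap_eq]
  haveI hLreg : IsRegularLocalRing (Localization.AtPrime 𝔑 ⧸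
      I.map (algebraMap C (Localization.AtPrime 𝔑))) :=
    IsRegularLocalRing.of_ringEquiv (R := EGA4.FibLocRing R C 𝔑) (Ideal.quotEquivOfEq hIeq.symm)
  set J₀ : Ideal (Localization.AtPrime 𝔑) :=
    I.map (algebraMap C (Localization.AtPrime 𝔑)) with hJ₀
  have hxmem : ∀ i, Ideal.Quotient.mk J₀ (algebraMap C (Localization.AtPrime 𝔑) (z i)) ∈
      maximalIdeal (Localization.AtPrime 𝔑 ⧸ J₀) := by
    intro i
    rw [maximalIdeal_quotient_eq]
    exact Ideal.mem_map_of_mem _
      ((IsLocalization.AtPrime.to_map_mem_maximal_iff (Localization.AtPrime 𝔑) 𝔑 _).mpr (hz i))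
  let x : Fin m → maximalIdeal (Localization.AtPrime 𝔑 ⧸ J₀) := fun i => ⟨_, hxmem i⟩
  have hli := linearIndependent_cotangent 𝔑 I z hkey x (fun i => rfl)
  have hquot := (Groth.Agent.Helper8.RLR.quotient_of_linearIndependent x hli).1
  have hwr := isWeaklyRegular_of_linearIndependent (Localization.AtPrime 𝔑 ⧸ J₀) x hli
  refine ⟨?_, ?_⟩
  · -- flatness
    haveI : 𝔑.LiesOver 𝔭' := ⟨rfl⟩
    letI algLoc : Algebra (Localization.AtPrime 𝔭') (Localization.AtPrime 𝔑) :=
      Localization.AtPrime.algebraOfLiesOver 𝔭' 𝔑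
    haveI : IsLocalHom (algebraMap (Localization.AtPrime 𝔭') (Localization.AtPrime 𝔑)) := by
      rw [RingHom.algebraMap_toAlgebra]
      exact Localization.isLocalHom_localRingHom _ 𝔑 _ Ideal.LiesOver.over
    let fs : List (Localization.AtPrime 𝔑) := List.ofFn
      (fun i => algebraMap C (Localization.AtPrime 𝔑) (z i))
    have hfslen : fs.length = m := List.length_ofFn
    have hmaxeq : (maximalIdeal (Localization.AtPrime 𝔭')).map
        (algebraMap (Localization.AtPrime 𝔭') (Localization.AtPrime 𝔑)) = J₀ := by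
      rw [hIeq, ← Localization.AtPrime.map_eq_maximalIdeal, Ideal.map_map,
        ← IsScalarTower.algebraMap_eq]
    have hfs : IsWeaklyRegular (Localization.AtPrime 𝔑 ⧸
        ((maximalIdeal (Localization.AtPrime 𝔭')).map
          (algebraMap (Localization.AtPrime 𝔭') (Localization.AtPrime 𝔑)) •
          (⊤ : Submodule (Localization.AtPrime 𝔑) (Localization.AtPrime 𝔑)))) fs := by
      have h1 : (List.ofFn fun i => ((x i : maximalIdeal (Localization.AtPrime 𝔑 ⧸ J₀)) :
          Localization.AtPrime 𝔑 ⧸ J₀)) =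
          fs.map (algebraMap (Localization.AtPrime 𝔑) (Localization.AtPrime 𝔑 ⧸ J₀)) := by
        rw [List.map_ofFn]; rfl
      rw [h1, isWeaklyRegular_map_algebraMap_iff] at hwr
      have h2 : (J₀ : Submodule (Localization.AtPrime 𝔑) (Localization.AtPrime 𝔑)) =
          (maximalIdeal (Localization.AtPrime 𝔭')).map
          (algebraMap (Localization.AtPrime 𝔭') (Localization.AtPrime 𝔑)) •
          (⊤ : Submodule (Localization.AtPrime 𝔑) (Localization.AtPrime 𝔑)) := by
        rw [hmaxeq, smul_eq_mul, Ideal.mul_top]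
      exact ((Submodule.quotEquivOfEq _ _ h2).isWeaklyRegular_congr fs).mp hwr
    have hflat := (Groth.Agent.Helper8.FlatReg.isWeaklyRegular_and_flat_of_fibre
      (A := Localization.AtPrime 𝔭') fs (Localization.AtPrime 𝔑) hfs).2 m (le_of_eq hfslen.symm)
    set N : Submodule (Localization.AtPrime 𝔑) (Localization.AtPrime 𝔑) :=
      Ideal.ofList (fs.take m) • (⊤ : Submodule (Localization.AtPrime 𝔑) (Localization.AtPrime 𝔑))
      with hN
    have hNker : N = RingHom.ker evB := by
      rw [hN, List.take_of_length_le (le_of_eq hfslen), Groth.Agent.Helper8.RLR.ofList_ofFn,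
        smul_eq_mul, Ideal.mul_top, hevker']
    haveI : Module.Flat R (Localization.AtPrime 𝔭') :=
      IsLocalization.flat _ 𝔭'.primeCompl
    have hflatP : Module.Flat R (Localization.AtPrime 𝔑 ⧸ N) :=
      Module.Flat.trans R (Localization.AtPrime 𝔭') _
    let ℓ : Localization.AtPrime 𝔑 →ₗ[R] A :=
      { toFun := evB
        map_add' := map_add evB
        map_smul' := fun p b => by
          rw [Algebra.smul_def, map_mul, RingHom.id_apply,
            IsScalarTower.algebraMap_apply R C (Localization.AtPrime 𝔑), hev, hφ,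
            Algebra.smul_def]
          rfl }
    have hℓsurj : Function.Surjective ℓ := hevsurj
    have hkerℓ : N.restrictScalars R = LinearMap.ker ℓ := by
      ext b
      rw [Submodule.restrictScalars_mem, hNker, LinearMap.mem_ker]
      rfl
    exact Module.Flat.of_linearEquiv
      ((ℓ.quotKerEquivOfSurjective hℓsurj).symm ≪≫ₗ
        (Submodule.quotEquivOfEq _ _ hkerℓ).symm ≪≫ₗ
        Submodule.Quotient.restrictScalarsEquiv R N)
  · -- the fibre
    set K₁ : Ideal (Localization.AtPrime 𝔑) := RingHom.ker evB with hK₁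
    let ψ : Localization.AtPrime 𝔑 →+* A ⧸ Ideal.map φ (Ideal.comap φ (maximalIdeal A)) :=
      (Ideal.Quotient.mk _).comp evB
    have hψsurj : Function.Surjective ψ :=
      Ideal.Quotient.mk_surjective.comp hevsurj
    have hcomp : evB.comp (algebraMap R (Localization.AtPrime 𝔑)) = φ := by
      ext p
      simp only [RingHom.comp_apply]
      rw [IsScalarTower.algebraMap_apply R C (Localization.AtPrime 𝔑), hev, hφ]
    have hJ₀map : J₀.map evB = Ideal.map φ (Ideal.comap φ (maximalIdeal A)) := by
      rw [hIeq, Ideal.map_map, hcomp, h𝔭'eq]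
    have hkerψ : RingHom.ker ψ = J₀ ⊔ K₁ := by
      apply le_antisymm
      · intro b hb
        rw [RingHom.mem_ker, RingHom.comp_apply, Ideal.Quotient.eq_zero_iff_mem, ← hJ₀map,
          Ideal.mem_map_iff_of_surjective evB hevsurj] at hb
        obtain ⟨y, hy, hyb⟩ := hb
        have h1 : b - y ∈ K₁ := by
          rw [hK₁, RingHom.mem_ker, map_sub, hyb, sub_self]
        have : b = y + (b - y) := by ring
        rw [this]
        exact Ideal.add_mem _ (Ideal.mem_sup_left hy) (Ideal.mem_sup_right h1)
      · refine sup_le ?_ ?_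
        · intro b hb
          rw [RingHom.mem_ker, RingHom.comp_apply, Ideal.Quotient.eq_zero_iff_mem, ← hJ₀map]
          exact Ideal.mem_map_of_mem _ hb
        · intro b hb
          rw [hK₁, RingHom.mem_ker] at hb
          rw [RingHom.mem_ker, RingHom.comp_apply, hb, map_zero]
    have hspan : Ideal.span (Set.range fun i => ((x i : maximalIdeal (Localization.AtPrime 𝔑 ⧸ J₀)) :
        Localization.AtPrime 𝔑 ⧸ J₀)) = K₁.map (Ideal.Quotient.mk J₀) := by
      rw [hevker', Ideal.map_span, ← Set.range_comp]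
      rfl
    let E1 := Ideal.quotEquivOfEq hspan
    let E2 := DoubleQuot.quotQuotEquivQuotSup J₀ K₁
    let E3 := Ideal.quotEquivOfEq hkerψ.symm
    let E4 := RingHom.quotientKerEquivOfSurjective hψsurj
    haveI := hquot
    exact IsRegularLocalRing.of_ringEquiv
      (R := (Localization.AtPrime 𝔑 ⧸ J₀) ⧸ Ideal.span (Set.range fun i =>
        ((x i : maximalIdeal (Localization.AtPrime 𝔑 ⧸ J₀)) : Localization.AtPrime 𝔑 ⧸ J₀)))
      (E1.trans (E2.trans (E3.trans E4)))

end Groth.Agent.Helper8.DifB
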