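import Mathlib
import Groth.Prelude
import Groth.Agent.Lib.Helper8.DifB1
import Groth.Agent.Lib.Helper8.DifB2
import Groth.Agent.Lib.Helper8.DifB4
import Groth.Agent.Lib.Helper8.DifB5
import Groth.Agent.Lib.Helper8.DifB8

/-! Flatness and regular fibre for `k[y] → A` with `A` geometrically regular (Stacks 16.11.2
type statement). -/

namespace Groth.Agent.Helper8.DifB

open MvPolynomial TensorProduct IsLocalRing

universe u

set_option maxHeartbeats 1600000 in
theorem main {k A : Type u} [Field k] [CommRing A] [IsLocalRing A] [IsNoetherianRing A]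
    [Algebra k A] (hA : CAlg.IsGeometricallyRegular k A) {m : ℕ}
    (φ : MvPolynomial (Fin m) k →ₐ[k] A)
    (hpd : ∀ f : MvPolynomial (Fin m) k, φ f ∈ maximalIdeal A →
      ∀ j, φ (pderiv j f) ∈ maximalIdeal A) :
    letI := φ.toRingHom.toAlgebra
    Module.Flat (MvPolynomial (Fin m) k) A ∧
      IsRegularLocalRing (A ⧸ Ideal.map φ.toRingHom
        (Ideal.comap φ.toRingHom (maximalIdeal A))) := by
  classical
  haveI hCnoeth : IsNoetherianRing (MvPolynomial (Fin m) k ⊗[k] A) := by
    let e1 : MvPolynomial (Fin m) k ⊗[k] A ≃+* A ⊗[k] MvPolynomial (Fin m) k :=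
      (Algebra.TensorProduct.comm k (MvPolynomial (Fin m) k) A).toRingEquiv
    let e2 : A ⊗[k] MvPolynomial (Fin m) k ≃+* MvPolynomial (Fin m) A :=
      (MvPolynomial.algebraTensorAlgEquiv k A).toRingEquiv
    exact isNoetherianRing_of_ringEquiv (MvPolynomial (Fin m) A) (e1.trans e2).symm
  haveI hprime : ((maximalIdeal A).comap (ev φ : MvPolynomial (Fin m) k ⊗[k] A →+* A)).IsPrime :=
    Ideal.comap_isPrime _ _
  have healg : ∀ p, (ev φ : MvPolynomial (Fin m) k ⊗[k] A →+* A)
      (algebraMap (MvPolynomial (Fin m) k) (MvPolynomial (Fin m) k ⊗[k] A) p) = φ p :=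
    ev_algebraMap φ
  have hez : ∀ i, (ev φ : MvPolynomial (Fin m) k ⊗[k] A →+* A) (zz φ i) = 0 := ev_zz φ
  have hz : ∀ i, zz φ i ∈ (maximalIdeal A).comap (ev φ : MvPolynomial (Fin m) k ⊗[k] A →+* A) :=
    fun i => by
      rw [Ideal.mem_comap, hez]; exact Ideal.zero_mem _
  refine main_aux (R := MvPolynomial (Fin m) k) (C := MvPolynomial (Fin m) k ⊗[k] A)
    (ev φ : MvPolynomial (Fin m) k ⊗[k] A →+* A) (ev_surjective φ) (zz φ) (ker_ev φ)
    φ.toRingHom healg (isRegularLocalRing_fibLoc hA _) ?_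
  intro t ht c hc j
  refine mem_of_mul_sum_mem _ _ (zz φ) hz (fun j => ⇑(DD (A := A) j))
    (fun j x y => map_add _ x y) (fun j x y => DD_mul j x y) ?_ ?_ t ht c hc j
  · rintro j _ ⟨f, hf, rfl⟩
    have hf' : φ f ∈ maximalIdeal A := by
      have := hf
      rw [SetLike.mem_coe, Ideal.mem_comap, Ideal.mem_comap, healg] at this
      exact this
    refine ⟨?_, ?_⟩
    · rw [Ideal.mem_comap, healg]; exact hf'
    · rw [DD_algebraMap, Ideal.mem_comap, healg]; exact hpd f hf' j
  · intro i j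
    rw [DD_zz, sub_self]
    exact Ideal.zero_mem _

end Groth.Agent.Helper8.DifB
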