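import Mathlib
import Groth.Agent.Lib.Helper1.LocalCrit
import Groth.Agent.Lib.Helper8.FlatReg2
import Groth.Agent.Lib.Helper8.FlatReg4
import Groth.Agent.Lib.Helper8.RegularLocal5
import Groth.Agent.Lib.Helper8.SepR10

/-! Flatness over a polynomial extension of the base: if `B` is flat over `A₀` and `f` is a
regular sequence on the closed fibre, then `B` is flat over `A₀[y]`, `y ↦ f`. -/

namespace Groth.Agent.Helper8.InsB

open MvPolynomial IsLocalRing TensorProduct RingTheory.Sequence

universe u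

/-- Flatness descends along a surjective ring map. -/
theorem flat_of_surjective_of_flat {A₀ A' M : Type*} [CommRing A₀] [CommRing A'] [Algebra A₀ A']
    (hs : Function.Surjective (algebraMap A₀ A')) [AddCommGroup M] [Module A₀ M] [Module A' M]
    [IsScalarTower A₀ A' M] [Module.Flat A₀ M] : Module.Flat A' M := by
  let ψ : A' ⊗[A₀] M →ₗ[A'] M := (LinearMap.id : M →ₗ[A₀] M).liftBaseChange A'
  have hone : ∀ x : A' ⊗[A₀] M, ∃ m : M, x = (1 : A') ⊗ₜ[A₀] m := by
    intro x
    induction x using TensorProduct.induction_on with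
    | zero => exact ⟨0, (tmul_zero _ _).symm⟩
    | tmul a' m =>
      obtain ⟨a, rfl⟩ := hs a'
      refine ⟨a • m, ?_⟩
      rw [tmul_smul, smul_tmul', Algebra.algebraMap_eq_smul_one]
    | add x y hx hy =>
      obtain ⟨m, rfl⟩ := hx
      obtain ⟨m', rfl⟩ := hy
      exact ⟨m + m', (tmul_add _ _ _).symm⟩
  have hinj : Function.Injective ψ := by
    rw [injective_iff_map_eq_zero]
    intro x hx
    obtain ⟨m, rfl⟩ := hone x
    have h1 : ψ ((1 : A') ⊗ₜ[A₀] m) = m := by
      change (1 : A') • (LinearMap.id : M →ₗ[A₀] M) m = m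
      rw [one_smul]; rfl
    rw [h1] at hx
    rw [hx, tmul_zero]
  have hsurj : Function.Surjective ψ := by
    intro m
    refine ⟨(1 : A') ⊗ₜ[A₀] m, ?_⟩
    change (1 : A') • (LinearMap.id : M →ₗ[A₀] M) m = m
    rw [one_smul]; rfl
  exact Module.Flat.of_linearEquiv (LinearEquiv.ofBijective ψ ⟨hinj, hsurj⟩).symm

set_option maxHeartbeats 1600000 in
set_option synthInstance.maxHeartbeats 200000 in
theorem flat_mvPolynomial_of_regular {A₀ B : Type u} [CommRing A₀] [CommRing B] [IsLocalRing A₀]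
    [IsNoetherianRing A₀] [IsNoetherianRing B] [IsLocalRing B] [Algebra A₀ B]
    [IsLocalHom (algebraMap A₀ B)] [Module.Flat A₀ B] {r : ℕ} (f : Fin r → B)
    (hf : ∀ i, f i ∈ maximalIdeal B)
    (hreg : IsWeaklyRegular
      (B ⧸ ((maximalIdeal A₀).map (algebraMap A₀ B) • (⊤ : Submodule B B))) (List.ofFn f))
    [Algebra (MvPolynomial (Fin r) A₀) B] [IsScalarTower A₀ (MvPolynomial (Fin r) A₀) B]
    (hX : ∀ i, algebraMap (MvPolynomial (Fin r) A₀) B (X i) = f i) :
    Module.Flat (MvPolynomial (Fin r) A₀) B := by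
  classical
  obtain ⟨hregB, hflat⟩ := Groth.Agent.Helper8.FlatReg.isWeaklyRegular_and_flat_of_fibre
    (A := A₀) (List.ofFn f) B hreg
  let Q := MvPolynomial (Fin r) A₀
  let fsQ : List Q := List.ofFn (X : Fin r → Q)
  have hmap : fsQ.map (algebraMap Q B) = List.ofFn f := by
    change (List.ofFn (X : Fin r → Q)).map (algebraMap Q B) = List.ofFn f
    rw [List.map_ofFn]
    congr 1
    funext i
    exact hX i
  have hregQ : IsWeaklyRegular B fsQ := by
    rw [← isWeaklyRegular_map_algebraMap_iff (S := B), hmap]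
    exact hregB
  let I : Ideal Q := Ideal.ofList fsQ
  have hIspan : I = Ideal.span (Set.range (X : Fin r → Q)) :=
    Groth.Agent.Helper8.RLR.ofList_ofFn _
  have hImap : I.map (algebraMap Q B) = Ideal.span (Set.range f) := by
    rw [hIspan, Ideal.map_span, ← Set.range_comp]
    congr 2
    funext i
    exact hX i
  have hI : I.map (algebraMap Q B) ≠ ⊤ := by
    rw [hImap]
    intro h
    have hle : Ideal.span (Set.range f) ≤ maximalIdeal B := by
      rw [Ideal.span_le]
      rintro _ ⟨i, rfl⟩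
      exact hf i
    rw [h] at hle
    exact (maximalIdeal.isMaximal B).ne_top (top_le_iff.mp hle)
  have h1 : Function.Injective (I.subtype.rTensor B) :=
    Groth.Agent.Helper8.FlatReg.rTensor_ofList_injective B fsQ hregQ
  -- the quotient `Q ⧸ I` is a quotient of `A₀`
  have hsurj : Function.Surjective (algebraMap A₀ (Q ⧸ I)) := by
    intro y
    obtain ⟨q, rfl⟩ := Ideal.Quotient.mk_surjective y
    refine ⟨aeval (0 : Fin r → A₀) q, ?_⟩
    rw [IsScalarTower.algebraMap_apply A₀ Q (Q ⧸ I), Ideal.Quotient.algebraMap_eq,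
      Ideal.Quotient.eq, hIspan,
      ← Groth.Agent.Helper8.SepR.ker_aeval_zero A₀ (Fin r), RingHom.mem_ker]
    change aeval (0 : Fin r → A₀) (algebraMap A₀ Q (aeval (0 : Fin r → A₀) q) - q) = 0
    rw [map_sub, AlgHom.commutes, Algebra.algebraMap_self, RingHom.id_apply, sub_self]
  -- flatness of the fibre over `A₀`
  have hflatA₀ : Module.Flat A₀ ((Q ⧸ I) ⊗[Q] B) := by
    have h2 := hflat (List.ofFn f).length le_rfl
    rw [List.take_length] at h2
    let e1 : ((Q ⧸ I) ⊗[Q] B) ≃ₗ[A₀] (B ⧸ (I • (⊤ : Submodule Q B))) :=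
      (quotTensorEquivQuotSMul B I).restrictScalars A₀
    have heq : (I • (⊤ : Submodule Q B)).restrictScalars A₀ =
        (Ideal.ofList (List.ofFn f) • (⊤ : Submodule B B)).restrictScalars A₀ := by
      ext x
      rw [Submodule.restrictScalars_mem, Submodule.restrictScalars_mem, Ideal.smul_top_eq_map,
        Submodule.restrictScalars_mem, hImap, Groth.Agent.Helper8.RLR.ofList_ofFn,
        smul_eq_mul, Ideal.mul_top]
    let e2 : (B ⧸ (I • (⊤ : Submodule Q B))) ≃ₗ[A₀]
        (B ⧸ (Ideal.ofList (List.ofFn f) • (⊤ : Submodule B B))) :=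
      (Submodule.Quotient.restrictScalarsEquiv A₀ (I • (⊤ : Submodule Q B))).symm ≪≫ₗ
        Submodule.quotEquivOfEq _ _ heq ≪≫ₗ
        Submodule.Quotient.restrictScalarsEquiv A₀ _
    exact Module.Flat.of_linearEquiv (e1 ≪≫ₗ e2)
  haveI h2 : Module.Flat (Q ⧸ I) ((Q ⧸ I) ⊗[Q] B) :=
    flat_of_surjective_of_flat (A₀ := A₀) hsurj
  exact Groth.Agent.Helper1.LocalCrit.flat_of_rTensor_injective_of_flat_quotient (S := B) I hI h1

end Groth.Agent.Helper8.InsB
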