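import Mathlib
import Groth.Agent.Lib.Helper8.InsB4

/-! Flatness over a polynomial extension, with a non-local base. -/

namespace Groth.Agent.Helper8.InsB

open MvPolynomial IsLocalRing TensorProduct RingTheory.Sequence

universe u

set_option maxHeartbeats 1600000 in
set_option synthInstance.maxHeartbeats 200000 in
theorem flat_mvPolynomial_of_regular' {A₀ B : Type u} [CommRing A₀] [CommRing B]
    [IsNoetherianRing A₀] [IsNoetherianRing B] [IsLocalRing B] [Algebra A₀ B]
    [Module.Flat A₀ B] {r : ℕ} (f : Fin r → B)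
    (hf : ∀ i, f i ∈ maximalIdeal B)
    (hreg : IsWeaklyRegular
      (B ⧸ (((maximalIdeal B).comap (algebraMap A₀ B)).map (algebraMap A₀ B) •
        (⊤ : Submodule B B))) (List.ofFn f))
    [Algebra (MvPolynomial (Fin r) A₀) B] [IsScalarTower A₀ (MvPolynomial (Fin r) A₀) B]
    (hX : ∀ i, algebraMap (MvPolynomial (Fin r) A₀) B (X i) = f i) :
    Module.Flat (MvPolynomial (Fin r) A₀) B := by
  classical
  let 𝔭₀ : Ideal A₀ := (maximalIdeal B).comap (algebraMap A₀ B)
  haveI : 𝔭₀.IsPrime := Ideal.comap_isPrime _ _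
  let A₁ := Localization.AtPrime 𝔭₀
  have hunits : ∀ y : 𝔭₀.primeCompl, IsUnit (algebraMap A₀ B y) := by
    intro y
    by_contra hnu
    exact y.2 ((IsLocalRing.mem_maximalIdeal _).mpr hnu)
  let ρ : A₁ →+* B := IsLocalization.lift (M := 𝔭₀.primeCompl) hunits
  letI algA₁B : Algebra A₁ B := ρ.toAlgebra
  have hρ : ∀ a : A₀, algebraMap A₁ B (algebraMap A₀ A₁ a) = algebraMap A₀ B a :=
    fun a => IsLocalization.lift_eq hunits a
  haveI tow : IsScalarTower A₀ A₁ B := IsScalarTower.of_algebraMap_eq (fun a => (hρ a).symm)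
  haveI : IsLocalHom (algebraMap A₁ B) := by
    refine ⟨fun x hx => ?_⟩
    obtain ⟨a, s, rfl⟩ := IsLocalization.exists_mk'_eq 𝔭₀.primeCompl x
    have h1 : algebraMap A₁ B (IsLocalization.mk' A₁ a s) * algebraMap A₀ B s = algebraMap A₀ B a := by
      rw [← hρ (s : A₀), ← map_mul, IsLocalization.mk'_spec, hρ]
    have h2 : IsUnit (algebraMap A₀ B a) := by
      rw [← h1]; exact hx.mul (hunits s)
    have h3 : a ∉ 𝔭₀ := by
      intro ha
      exact (IsLocalRing.mem_maximalIdeal _).mp ha h2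
    have h4 : IsUnit (algebraMap A₀ A₁ a) := IsLocalization.map_units A₁ (⟨a, h3⟩ : 𝔭₀.primeCompl)
    have h5 : IsLocalization.mk' A₁ a s * algebraMap A₀ A₁ s = algebraMap A₀ A₁ a :=
      IsLocalization.mk'_spec A₁ a s
    have h6 : IsUnit (IsLocalization.mk' A₁ a s * algebraMap A₀ A₁ s) := by rw [h5]; exact h4
    exact isUnit_of_mul_isUnit_left h6
  haveI : Module.Flat A₁ B := (Module.flat_iff_of_isLocalization A₁ 𝔭₀.primeCompl B).mpr inferInstance
  have hmax : (maximalIdeal A₁).map (algebraMap A₁ B) = 𝔭₀.map (algebraMap A₀ B) := by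
    rw [← Localization.AtPrime.map_eq_maximalIdeal, Ideal.map_map, ← IsScalarTower.algebraMap_eq]
  have hreg' : IsWeaklyRegular
      (B ⧸ ((maximalIdeal A₁).map (algebraMap A₁ B) • (⊤ : Submodule B B))) (List.ofFn f) := by
    rw [hmax]; exact hreg
  obtain ⟨hregB, hflat⟩ := Groth.Agent.Helper8.FlatReg.isWeaklyRegular_and_flat_of_fibre
    (A := A₁) (List.ofFn f) B hreg'
  let Q := MvPolynomial (Fin r) A₀
  let fsQ : List Q := List.ofFn (X : Fin r → Q)
  have hmap : fsQ.map (algebraMap Q B) = List.ofFn f := by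
    change (List.ofFn (X : Fin r → Q)).map (algebraMap Q B) = List.ofFn f
    rw [List.map_ofFn]
    congr 1
    funext i
    exact hX i
  have hregQ : IsWeaklyRegular B fsQ := by
    rw [← isWeaklyRegular_map_algebraMap_iff (S := B), hmap]
    exact hregB
  let I : Ideal Q := Ideal.ofList fsQ
  have hIspan : I = Ideal.span (Set.range (X : Fin r → Q)) :=
    Groth.Agent.Helper8.RLR.ofList_ofFn _
  have hImap : I.map (algebraMap Q B) = Ideal.span (Set.range f) := by
    rw [hIspan, Ideal.map_span, ← Set.range_comp]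
    congr 2
    funext i
    exact hX i
  have hI : I.map (algebraMap Q B) ≠ ⊤ := by
    rw [hImap]
    intro h
    have hle : Ideal.span (Set.range f) ≤ maximalIdeal B := by
      rw [Ideal.span_le]
      rintro _ ⟨i, rfl⟩
      exact hf i
    rw [h] at hle
    exact (maximalIdeal.isMaximal B).ne_top (top_le_iff.mp hle)
  have h1 : Function.Injective (I.subtype.rTensor B) :=
    Groth.Agent.Helper8.FlatReg.rTensor_ofList_injective B fsQ hregQ
  have hsurj : Function.Surjective (algebraMap A₀ (Q ⧸ I)) := by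
    intro y
    obtain ⟨q, rfl⟩ := Ideal.Quotient.mk_surjective y
    refine ⟨aeval (0 : Fin r → A₀) q, ?_⟩
    rw [IsScalarTower.algebraMap_apply A₀ Q (Q ⧸ I), Ideal.Quotient.algebraMap_eq,
      Ideal.Quotient.eq, hIspan,
      ← Groth.Agent.Helper8.SepR.ker_aeval_zero A₀ (Fin r), RingHom.mem_ker]
    change aeval (0 : Fin r → A₀) (algebraMap A₀ Q (aeval (0 : Fin r → A₀) q) - q) = 0
    rw [map_sub, AlgHom.commutes, Algebra.algebraMap_self, RingHom.id_apply, sub_self]
  have hflatA₀ : Module.Flat A₀ ((Q ⧸ I) ⊗[Q] B) := by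
    have h2 := hflat (List.ofFn f).length le_rfl
    rw [List.take_length] at h2
    haveI : Module.Flat A₀ A₁ := IsLocalization.flat A₁ 𝔭₀.primeCompl
    have h3 : Module.Flat A₀ (B ⧸ (Ideal.ofList (List.ofFn f) • (⊤ : Submodule B B))) :=
      Module.Flat.trans A₀ A₁ _
    let e1 : ((Q ⧸ I) ⊗[Q] B) ≃ₗ[A₀] (B ⧸ (I • (⊤ : Submodule Q B))) :=
      (quotTensorEquivQuotSMul B I).restrictScalars A₀
    have heq : (I • (⊤ : Submodule Q B)).restrictScalars A₀ =
        (Ideal.ofList (List.ofFn f) • (⊤ : Submodule B B)).restrictScalars A₀ := by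
      ext x
      rw [Submodule.restrictScalars_mem, Submodule.restrictScalars_mem, Ideal.smul_top_eq_map,
        Submodule.restrictScalars_mem, hImap, Groth.Agent.Helper8.RLR.ofList_ofFn,
        smul_eq_mul, Ideal.mul_top]
    let e2 : (B ⧸ (I • (⊤ : Submodule Q B))) ≃ₗ[A₀]
        (B ⧸ (Ideal.ofList (List.ofFn f) • (⊤ : Submodule B B))) :=
      (Submodule.Quotient.restrictScalarsEquiv A₀ (I • (⊤ : Submodule Q B))).symm ≪≫ₗ
        Submodule.quotEquivOfEq _ _ heq ≪≫ₗ
        Submodule.Quotient.restrictScalarsEquiv A₀ _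
    exact Module.Flat.of_linearEquiv (e1 ≪≫ₗ e2)
  haveI h2 : Module.Flat (Q ⧸ I) ((Q ⧸ I) ⊗[Q] B) :=
    flat_of_surjective_of_flat (A₀ := A₀) hsurj
  exact Groth.Agent.Helper1.LocalCrit.flat_of_rTensor_injective_of_flat_quotient (S := B) I hI h1

end Groth.Agent.Helper8.InsB
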