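import Mathlib
import Groth.Prelude
import Groth.Agent.S9282
import Groth.Agent.S2036

/-! Finiteness of `H₁` of the cotangent complex of the residue field of a geometrically regular
local algebra in characteristic `p`. -/

namespace Groth.Agent.Helper8.InsB

open IsLocalRing

universe u

theorem finite_h1Cotangent_residueField {k S : Type u} [Field k] (p : ℕ) [Fact p.Prime]
    [CharP k p] [CommRing S] [IsLocalRing S] [IsNoetherianRing S] [Algebra k S]
    (hS : CAlg.IsGeometricallyRegular k S) :
    Module.Finite (ResidueField S) (Algebra.H1Cotangent k (ResidueField S)) := by
  classical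
  have hfs := (Groth.Agent.S2036.result (k := k) (A := S) p).mp hS
  haveI : IsLocalHom (algebraMap k S) := by
    refine ⟨fun a ha => ?_⟩
    rw [isUnit_iff_ne_zero]
    rintro rfl
    rw [map_zero] at ha
    exact not_isUnit_zero ha
  have hinj := Groth.Agent.S9282.result k S hfs
  haveI : Algebra.FiniteType S (ResidueField S) :=
    Algebra.FiniteType.of_surjective (Algebra.ofId S (ResidueField S))
      IsLocalRing.residue_surjective
  haveI : Algebra.FinitePresentation S (ResidueField S) :=
    Algebra.FinitePresentation.of_finiteType.mp inferInstance
  haveI : Subsingleton Ω[ResidueField S⁄S] :=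
    KaehlerDifferential.subsingleton_of_surjective S (ResidueField S)
      IsLocalRing.residue_surjective
  haveI : Module.Finite (ResidueField S) (Algebra.H1Cotangent S (ResidueField S)) :=
    inferInstance
  exact Module.Finite.of_injective
    (Algebra.H1Cotangent.map k S (ResidueField S) (ResidueField S)) hinj

end Groth.Agent.Helper8.InsB
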