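import Mathlib
import Groth.Agent.Lib.Helper8.DifB6

/-! Extracting a regular system of parameters from a generating family of the maximal ideal of a
regular local ring. -/

namespace Groth.Agent.Helper8.InsB

open IsLocalRing RingTheory.Sequence

universe u

theorem exists_regular_subfamily (R : Type u) [CommRing R] [IsRegularLocalRing R] {d : ℕ}
    (x : Fin d → R) (hx : Ideal.span (Set.range x) = maximalIdeal R) :
    ∃ (d' : ℕ) (I₀ : Fin d' → Fin d), IsWeaklyRegular R (List.ofFn (x ∘ I₀)) ∧
      Ideal.span (Set.range (x ∘ I₀)) = maximalIdeal R := by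
  classical
  have hmem : ∀ i, x i ∈ maximalIdeal R := fun i => by
    rw [← hx]; exact Ideal.subset_span ⟨i, rfl⟩
  let xm : Fin d → maximalIdeal R := fun i => ⟨x i, hmem i⟩
  let v : Fin d → CotangentSpace R := fun i => (maximalIdeal R).toCotangent (xm i)
  obtain ⟨κ, a, ha, hsp, hli⟩ := exists_linearIndependent' (ResidueField R) v
  haveI : Finite κ := Finite.of_injective a ha
  haveI : Fintype κ := Fintype.ofFinite κ
  let eqv := Fintype.equivFin κ
  let I₀ : Fin (Fintype.card κ) → Fin d := a ∘ eqv.symm
  -- the full family spans the cotangent space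
  have hspan_sub : ∀ (s : Set (maximalIdeal R)), Submodule.span R s = ⊤ ↔
      Ideal.span (Subtype.val '' s) = maximalIdeal R := by
    intro s
    constructor
    · intro h
      have h1 := congrArg (Submodule.map (maximalIdeal R).subtype) h
      rw [Submodule.map_span, Submodule.map_top, Submodule.range_subtype] at h1
      exact h1
    · intro h
      apply Submodule.map_injective_of_injective (maximalIdeal R).injective_subtype
      rw [Submodule.map_span, Submodule.map_top, Submodule.range_subtype]
      exact h
  have hfull : Submodule.span (ResidueField R) (Set.range v) = ⊤ := by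
    have h1 : Set.range v = (maximalIdeal R).toCotangent '' (Set.range xm) := by
      rw [← Set.range_comp]; rfl
    rw [h1, CotangentSpace.span_image_eq_top_iff, hspan_sub, ← Set.range_comp]
    exact hx
  refine ⟨Fintype.card κ, I₀, ?_, ?_⟩
  · have hli' : LinearIndependent (ResidueField R)
        (fun j => (maximalIdeal R).toCotangent ((xm ∘ I₀) j)) := by
      have := hli.comp eqv.symm eqv.symm.injective
      exact this
    exact Groth.Agent.Helper8.DifB.isWeaklyRegular_of_linearIndependent R (xm ∘ I₀) hli'
  · have h1 : Submodule.span (ResidueField R)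
        ((maximalIdeal R).toCotangent '' (Set.range (xm ∘ I₀))) = ⊤ := by
      rw [← hfull, ← hsp, ← Set.range_comp]
      congr 1
      ext w
      constructor
      · rintro ⟨j, rfl⟩
        exact ⟨eqv.symm j, rfl⟩
      · rintro ⟨j, rfl⟩
        exact ⟨eqv j, by simp [I₀, v]⟩
    rw [CotangentSpace.span_image_eq_top_iff, hspan_sub, ← Set.range_comp] at h1
    exact h1

end Groth.Agent.Helper8.InsB
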