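import Mathlib
import Groth.Agent.Lib.Helper2.SepPerfect

/-! Lifting ring homomorphisms out of fields of characteristic `p` along surjections with
nilpotent kernel (formal smoothness over the prime field). -/

namespace Groth.Agent.Helper8.InsA

universe u

/-- ring homs out of `ULift (ZMod p)` are unique -/
theorem ulift_zmod_ringHom_ext {p : ℕ} {B : Type*} [Semiring B]
    (f g : ULift.{u} (ZMod p) →+* B) : f = g := by
  have h : f.comp (ULift.ringEquiv.symm : ZMod p ≃+* ULift.{u} (ZMod p)).toRingHom =
      g.comp (ULift.ringEquiv.symm : ZMod p ≃+* ULift.{u} (ZMod p)).toRingHom :=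
    Subsingleton.elim _ _
  ext x
  have := congrArg (fun h : ZMod p →+* B => h (ULift.ringEquiv x)) h
  simpa using this

/-- a ring homomorphism from a field of characteristic `p` lifts along a surjection with
nilpotent kernel. -/
theorem exists_lift_ringHom (p : ℕ) [Fact p.Prime] {K B B' : Type u} [Field K] [CharP K p]
    [CommRing B] [CommRing B'] (hp : (p : B) = 0) (q : B →+* B')
    (hq : Function.Surjective q) (hnil : IsNilpotent (RingHom.ker q)) (f : K →+* B') :
    ∃ g : K →+* B, q.comp g = f := by
  let P := ULift.{u} (ZMod p)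
  letI : Algebra (ZMod p) K := ZMod.algebra K p
  letI : Algebra P K := ULift.algebra' (ZMod p) K
  let φB : P →+* B :=
    (ZMod.castHom (ringChar.dvd hp) B).comp (ULift.ringEquiv : P ≃+* ZMod p).toRingHom
  letI : Algebra P B := φB.toAlgebra
  letI : Algebra P B' := (q.comp φB).toAlgebra
  haveI : Algebra.FormallySmooth P K := Groth.Agent.Helper2.Sep.formallySmooth_of_perfect p P K
  let qA : B →ₐ[P] B' := { q with commutes' := fun r => rfl }
  let fA : K →ₐ[P] B' :=
    { f with
      commutes' := fun r =>
        congrArg (fun h : P →+* B' => h r)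
          (ulift_zmod_ringHom_ext (f.comp (algebraMap P K)) (algebraMap P B')) }
  have hnil' : IsNilpotent (RingHom.ker (qA : B →+* B')) := hnil
  refine ⟨(Algebra.FormallySmooth.liftOfSurjective fA qA hq hnil' : K →ₐ[P] B).toRingHom, ?_⟩
  ext x
  exact Algebra.FormallySmooth.liftOfSurjective_apply fA qA hq hnil' x

end Groth.Agent.Helper8.InsA
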