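import Mathlib

/-! Correcting a derivation `k → V` by a derivation `K → V`, up to finitely many coordinates,
when `H₁(L_{K/k})` is finite-dimensional. -/

namespace Groth.Agent.Helper8.InsA

open TensorProduct KaehlerDifferential

universe u

/-- over a field, a linear map factors through any map whose kernel it kills -/
theorem exists_factor_of_ker_le {K V₁ V₂ V₃ : Type*} [Field K] [AddCommGroup V₁] [Module K V₁]
    [AddCommGroup V₂] [Module K V₂] [AddCommGroup V₃] [Module K V₃]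
    (μ : V₁ →ₗ[K] V₂) (g : V₁ →ₗ[K] V₃) (h : LinearMap.ker μ ≤ LinearMap.ker g) :
    ∃ ξ : V₂ →ₗ[K] V₃, ξ ∘ₗ μ = g := by
  let μb : (V₁ ⧸ LinearMap.ker μ) →ₗ[K] V₂ := (LinearMap.ker μ).liftQ μ le_rfl
  have hμb : LinearMap.ker μb = ⊥ := Submodule.ker_liftQ_eq_bot _ _ _ le_rfl
  obtain ⟨r, hr⟩ := μb.exists_leftInverse_of_injective hμb
  let gb : (V₁ ⧸ LinearMap.ker μ) →ₗ[K] V₃ := (LinearMap.ker μ).liftQ g h
  refine ⟨gb ∘ₗ r, ?_⟩
  ext x
  have h1 : r (μ x) = Submodule.Quotient.mk x := by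
    have := LinearMap.congr_fun hr (Submodule.Quotient.mk x)
    simpa [μb] using this
  simp only [LinearMap.comp_apply, h1]
  simp [gb]

theorem exists_derivation_correction {k K : Type u} [Field k] [Field K] [Algebra k K]
    (hH : Module.Finite K (Algebra.H1Cotangent k K))
    {V : Type*} [AddCommGroup V] [Module K V] [Module k V] [IsScalarTower k K V]
    (θ : Derivation ℤ k V) :
    ∃ (D : Derivation ℤ K V) (J : Type u) (J₀ : Finset J) (f : J → V) (c : J → k → k),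
      ∀ a : k, θ a = D (algebraMap k K a) + ∑ j ∈ J₀, c j a • f j := by
  classical
  let J := Module.Free.ChooseBasisIndex k Ω[k⁄ℤ]
  let bas : Module.Basis J k Ω[k⁄ℤ] := Module.Free.chooseBasis k Ω[k⁄ℤ]
  let bK : Module.Basis J K (K ⊗[k] Ω[k⁄ℤ]) := bas.baseChange K
  let μ : K ⊗[k] Ω[k⁄ℤ] →ₗ[K] Ω[K⁄ℤ] := KaehlerDifferential.mapBaseChange ℤ k K
  have hex := Algebra.H1Cotangent.exact_δ_mapBaseChange ℤ k K
  have hker : LinearMap.ker μ = LinearMap.range (Algebra.H1Cotangent.δ ℤ k K) :=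
    (LinearMap.exact_iff.mp hex)
  have hfg : (LinearMap.ker μ).FG := by
    rw [hker, LinearMap.range_eq_map]
    exact (Module.finite_def.mp hH).map _
  obtain ⟨G, hG⟩ := hfg
  let J₀ : Finset J := G.biUnion (fun g => (bK.repr g).support)
  let pr : K ⊗[k] Ω[k⁄ℤ] →ₗ[K] K ⊗[k] Ω[k⁄ℤ] :=
    bK.constr K (fun j => if j ∈ J₀ then 0 else bK j)
  have hpr : ∀ j, pr (bK j) = if j ∈ J₀ then 0 else bK j := fun j => by
    simp [pr, Module.Basis.constr_basis]
  have hNpr : LinearMap.ker μ ≤ LinearMap.ker pr := by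
    rw [← hG, Submodule.span_le]
    intro g hg
    have hg' : g ∈ G := hg
    rw [SetLike.mem_coe, LinearMap.mem_ker]
    rw [← bK.linearCombination_repr g, Finsupp.linearCombination_apply, Finsupp.sum, map_sum]
    refine Finset.sum_eq_zero (fun j hj => ?_)
    have hj' : j ∈ J₀ := Finset.mem_biUnion.mpr ⟨g, hg', hj⟩
    rw [map_smul, hpr, if_pos hj', smul_zero]
  let θt : Ω[k⁄ℤ] →ₗ[k] V := θ.liftKaehlerDifferential
  let θK : K ⊗[k] Ω[k⁄ℤ] →ₗ[K] V := θt.liftBaseChange K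
  obtain ⟨ξ, hξ⟩ := exists_factor_of_ker_le μ (θK ∘ₗ pr)
    (hNpr.trans (fun x hx => by
      rw [LinearMap.mem_ker] at hx ⊢
      rw [LinearMap.comp_apply, hx, map_zero]))
  refine ⟨ξ.compDer (KaehlerDifferential.D ℤ K), J, J₀, fun j => θt (bas j),
    fun j a => bas.repr (KaehlerDifferential.D ℤ k a) j, fun a => ?_⟩
  have h1 : (KaehlerDifferential.D ℤ K) (algebraMap k K a) =
      μ ((1 : K) ⊗ₜ[k] KaehlerDifferential.D ℤ k a) := by
    simp [μ]
  have h2 : θ a = θK ((1 : K) ⊗ₜ[k] KaehlerDifferential.D ℤ k a) := by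
    simp [θK, θt]
  have h3 : ∀ x : K ⊗[k] Ω[k⁄ℤ], x = pr x + ∑ j ∈ J₀, (bK.repr x j) • bK j := by
    intro x
    have hlin : (LinearMap.id : K ⊗[k] Ω[k⁄ℤ] →ₗ[K] K ⊗[k] Ω[k⁄ℤ]) =
        pr + ∑ j ∈ J₀, (LinearMap.toSpanSingleton K _ (bK j)) ∘ₗ (bK.coord j) := by
      refine bK.ext (fun i => ?_)
      rw [LinearMap.id_apply, LinearMap.add_apply, hpr, LinearMap.sum_apply]
      simp only [LinearMap.comp_apply, Module.Basis.coord_apply, Module.Basis.repr_self,
        LinearMap.toSpanSingleton_apply]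
      by_cases hi : i ∈ J₀
      · rw [if_pos hi, zero_add, Finset.sum_eq_single i]
        · simp
        · intro j _ hji
          rw [Finsupp.single_eq_of_ne hji, zero_smul]
        · intro h; exact absurd hi h
      · rw [if_neg hi, Finset.sum_eq_zero, add_zero]
        intro j hj
        have : j ≠ i := fun h => hi (h ▸ hj)
        rw [Finsupp.single_eq_of_ne this, zero_smul]
    have := LinearMap.congr_fun hlin x
    simpa [LinearMap.sum_apply] using this
  have h0 : (ξ.compDer (KaehlerDifferential.D ℤ K)) (algebraMap k K a) =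
      ξ ((KaehlerDifferential.D ℤ K) (algebraMap k K a)) := rfl
  rw [h0, h1]
  have h4 : ξ (μ ((1 : K) ⊗ₜ[k] KaehlerDifferential.D ℤ k a)) =
      θK (pr ((1 : K) ⊗ₜ[k] KaehlerDifferential.D ℤ k a)) := LinearMap.congr_fun hξ _
  rw [h4, h2]
  conv_lhs => rw [h3 ((1 : K) ⊗ₜ[k] KaehlerDifferential.D ℤ k a)]
  rw [map_add, map_sum]
  congr 1
  refine Finset.sum_congr rfl (fun j _ => ?_)
  rw [map_smul]
  have h5 : bK.repr ((1 : K) ⊗ₜ[k] KaehlerDifferential.D ℤ k a) j =
      algebraMap k K (bas.repr (KaehlerDifferential.D ℤ k a) j) := by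
    simp [bK, Algebra.smul_def]
  have h6 : θK (bK j) = θt (bas j) := by
    simp [bK, θK]
  rw [h5, h6, algebraMap_smul]

end Groth.Agent.Helper8.InsA
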