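import Mathlib

/-! Subrings of rings with a nilpotent ideal: a subring containing generators of the ideal and
surjecting onto the quotient is everything. -/

namespace Groth.Agent.Helper8.InsA

theorem subring_eq_top_of_nilpotent {A : Type*} [CommRing A] (J : Ideal A) {d : ℕ}
    (lam : Fin d → A) (hJ : Ideal.span (Set.range lam) = J) (n : ℕ) (hn : J ^ n = ⊥)
    (C : Subring A) (hlam : ∀ i, lam i ∈ C) (hC : ∀ b : A, ∃ c ∈ C, b - c ∈ J) : C = ⊤ := by
  have key : ∀ j : ℕ, ∀ b : A, ∃ c ∈ C, b - c ∈ J ^ j := by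
    intro j
    induction j with
    | zero => intro b; exact ⟨0, C.zero_mem, by simp⟩
    | succ j ih =>
      intro b
      obtain ⟨c₁, hc₁, hb⟩ := hC b
      rw [← hJ, Ideal.mem_span_range_iff_exists_fun] at hb
      obtain ⟨r, hr⟩ := hb
      choose c' hc' hc'' using fun i => ih (r i)
      refine ⟨c₁ + ∑ i, c' i * lam i, C.add_mem hc₁ (C.sum_mem fun i _ => C.mul_mem (hc' i) (hlam i)),
        ?_⟩
      have : b - (c₁ + ∑ i, c' i * lam i) = ∑ i, (r i - c' i) * lam i := by
        rw [sub_add_eq_sub_sub, ← hr, ← Finset.sum_sub_distrib]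
        exact Finset.sum_congr rfl (fun i _ => by ring)
      rw [this, pow_succ]
      refine Ideal.sum_mem _ (fun i _ => Ideal.mul_mem_mul (hc'' i) ?_)
      rw [← hJ]
      exact Ideal.subset_span ⟨i, rfl⟩
  rw [eq_top_iff]
  intro b _
  obtain ⟨c, hc, hbc⟩ := key n b
  rw [hn, Ideal.mem_bot, sub_eq_zero] at hbc
  rw [hbc]
  exact hc

/-- elements of the subring generated by an image and a set lie in the subring generated by a
finite part of the image and the set. -/
theorem exists_finset_of_mem_closure {K Λ : Type*} [CommRing Λ] (σ : K → Λ) (S : Set Λ) (x : Λ)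
    (hx : x ∈ Subring.closure (Set.range σ ∪ S)) :
    ∃ T : Finset K, x ∈ Subring.closure (σ '' (T : Set K) ∪ S) := by
  classical
  have mono : ∀ {T₁ T₂ : Finset K}, T₁ ⊆ T₂ →
      Subring.closure (σ '' (T₁ : Set K) ∪ S) ≤ Subring.closure (σ '' (T₂ : Set K) ∪ S) := by
    intro T₁ T₂ h
    exact Subring.closure_mono (Set.union_subset_union_left _ (Set.image_mono (by exact_mod_cast h)))
  induction hx using Subring.closure_induction with
  | mem y hy =>
    rcases hy with ⟨c, rfl⟩ | hy
    · exact ⟨{c}, Subring.subset_closure (Or.inl ⟨c, by simp, rfl⟩)⟩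
    · exact ⟨∅, Subring.subset_closure (Or.inr hy)⟩
  | zero => exact ⟨∅, Subring.zero_mem _⟩
  | one => exact ⟨∅, Subring.one_mem _⟩
  | add y z _ _ hy hz =>
    obtain ⟨T₁, h₁⟩ := hy
    obtain ⟨T₂, h₂⟩ := hz
    exact ⟨T₁ ∪ T₂, Subring.add_mem _ (mono Finset.subset_union_left h₁)
      (mono Finset.subset_union_right h₂)⟩
  | neg y _ hy =>
    obtain ⟨T₁, h₁⟩ := hy
    exact ⟨T₁, Subring.neg_mem _ h₁⟩
  | mul y z _ _ hy hz =>
    obtain ⟨T₁, h₁⟩ := hy
    obtain ⟨T₂, h₂⟩ := hz
    exact ⟨T₁ ∪ T₂, Subring.mul_mem _ (mono Finset.subset_union_left h₁)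
      (mono Finset.subset_union_right h₂)⟩

/-- with a ring-theoretic section of the residue map and a nilpotent kernel generated by `lam`,
everything is a polynomial in `lam` with coefficients in the section. -/
theorem closure_section_eq_top {K Λ : Type*} [CommRing Λ] [CommRing K] (π : Λ →+* K) (σ : K →+* Λ)
    (hσ : ∀ x, π (σ x) = x) {d : ℕ} (lam : Fin d → Λ)
    (hlam : Ideal.span (Set.range lam) = RingHom.ker π) (n : ℕ) (hn : RingHom.ker π ^ n = ⊥) :
    Subring.closure (Set.range σ ∪ Set.range lam) = ⊤ := by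
  refine subring_eq_top_of_nilpotent (RingHom.ker π) lam hlam n hn _
    (fun i => Subring.subset_closure (Or.inr ⟨i, rfl⟩)) (fun b => ?_)
  refine ⟨σ (π b), Subring.subset_closure (Or.inl ⟨π b, rfl⟩), ?_⟩
  rw [RingHom.mem_ker, map_sub, hσ, sub_self]

theorem exists_finset_mem_closure_section {K Λ : Type*} [CommRing Λ] [CommRing K] (π : Λ →+* K)
    (σ : K →+* Λ) (hσ : ∀ x, π (σ x) = x) {d : ℕ} (lam : Fin d → Λ)
    (hlam : Ideal.span (Set.range lam) = RingHom.ker π) (n : ℕ) (hn : RingHom.ker π ^ n = ⊥)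
    (x : Λ) : ∃ T : Finset K, x ∈ Subring.closure (σ '' (T : Set K) ∪ Set.range lam) := by
  refine exists_finset_of_mem_closure σ (Set.range lam) x ?_
  rw [closure_section_eq_top π σ hσ lam hlam n hn]
  exact Subring.mem_top x

end Groth.Agent.Helper8.InsA
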