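import Mathlib
import Groth.Agent.Lib.Helper8.InsA1
import Groth.Agent.Lib.Helper8.InsA2
import Groth.Agent.Lib.Helper8.InsA3

/-! The inductive step of the coefficient-field claim. -/

namespace Groth.Agent.Helper8.InsA

universe u

/-- the claim: a ring-theoretic coefficient field `σ` and a finitely generated subfield `F ⊇ k` of
`K` such that `k` lands in `σ(F)[lam]`. -/
def Good (k : Type u) [Field k] {Λ K : Type u} [CommRing Λ] [Algebra k Λ] [Field K] [Algebra k K]
    (π : Λ →ₐ[k] K) {d : ℕ} (lam : Fin d → Λ) : Prop :=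
  ∃ (σ : K →+* Λ) (T : Finset K), (∀ x, π (σ x) = x) ∧
    ∀ a : k, algebraMap k Λ a ∈
      Subring.closure (σ '' (IntermediateField.adjoin k (T : Set K) : Set K) ∪ Set.range lam)

set_option maxHeartbeats 1600000 in
theorem good_of_quotient (p : ℕ) [Fact p.Prime] {k Λ Λ' K : Type u} [Field k] [CharP k p]
    [CommRing Λ] [Algebra k Λ] [CommRing Λ'] [Algebra k Λ'] [Field K] [Algebra k K]
    (hH : Module.Finite K (Algebra.H1Cotangent k K))
    (π : Λ →ₐ[k] K) (π' : Λ' →ₐ[k] K) (q : Λ →ₐ[k] Λ') (hq : Function.Surjective q)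
    (hπ : ∀ x, π' (q x) = π x)
    {d : ℕ} (lam : Fin d → Λ) (hlam : Ideal.span (Set.range lam) = RingHom.ker (π : Λ →+* K))
    (n : ℕ) (hn : RingHom.ker (π : Λ →+* K) ^ n = ⊥)
    (hI : RingHom.ker (q : Λ →+* Λ') * RingHom.ker (π : Λ →+* K) = ⊥)
    (h' : Good k π' (q ∘ lam)) : Good k π lam := by
  classical
  obtain ⟨σ', T', hσ', hT'⟩ := h'
  set I : Ideal Λ := RingHom.ker (q : Λ →+* Λ') with hIdef
  set 𝔪 : Ideal Λ := RingHom.ker (π : Λ →+* K) with h𝔪def
  have memI : ∀ x : Λ, x ∈ I ↔ q x = 0 := fun x => RingHom.mem_ker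
  have mem𝔪 : ∀ x : Λ, x ∈ 𝔪 ↔ π x = 0 := fun x => RingHom.mem_ker
  have hI𝔪 : I ≤ 𝔪 := fun x hx => by
    rw [mem𝔪, ← hπ, (memI x).mp hx, map_zero]
  have hmul : ∀ x ∈ I, ∀ y ∈ 𝔪, x * y = 0 := fun x hx y hy => by
    have := Ideal.mul_mem_mul hx hy
    rwa [hI, Ideal.mem_bot] at this
  have hpΛ : (p : Λ) = 0 := by
    have := CharP.cast_eq_zero k p
    rw [← map_natCast (algebraMap k Λ), this, map_zero]
  haveI : CharP K p := charP_of_injective_algebraMap (algebraMap k K).injective p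
  -- Step 1: lift σ'
  have hqnil : IsNilpotent (RingHom.ker (q : Λ →+* Λ')) := by
    refine ⟨2, ?_⟩
    rw [pow_two, Ideal.zero_eq_bot, eq_bot_iff, Ideal.mul_le]
    intro x hx y hy
    rw [Ideal.mem_bot]
    exact hmul x hx y (hI𝔪 hy)
  obtain ⟨σ₀, hσ₀⟩ := exists_lift_ringHom p hpΛ (q : Λ →+* Λ') hq hqnil σ'
  have hσ₀' : ∀ x, q (σ₀ x) = σ' x := fun x => RingHom.congr_fun hσ₀ x
  have hπσ₀ : ∀ x, π (σ₀ x) = x := fun x => by rw [← hπ, hσ₀', hσ']
  set F' : IntermediateField k K := IntermediateField.adjoin k (T' : Set K) with hF'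
  -- Step 2: the subrings
  let A₀ : Subring Λ := Subring.closure (σ₀ '' (F' : Set K) ∪ Set.range lam)
  let A' : Subring Λ' := Subring.closure (σ' '' (F' : Set K) ∪ Set.range (q ∘ lam))
  have hmap : A₀.map (q : Λ →+* Λ') = A' := by
    rw [RingHom.map_closure]
    congr 1
    rw [Set.image_union, Set.image_image, ← Set.range_comp]
    congr 1
    exact Set.image_congr (fun x _ => hσ₀' x)
  let q₀ : A₀ →+* A' := ((q : Λ →+* Λ').comp A₀.subtype).codRestrict A'
    (fun x => hmap ▸ Subring.mem_map.mpr ⟨x, x.2, rfl⟩)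
  have hq₀val : ∀ x : A₀, ((q₀ x : A') : Λ') = q (x : Λ) := fun x => rfl
  have hq₀ : Function.Surjective q₀ := by
    rintro ⟨y, hy⟩
    have hy' := hy
    rw [← hmap, Subring.mem_map] at hy'
    obtain ⟨x, hx, hxy⟩ := hy'
    exact ⟨⟨x, hx⟩, Subtype.ext hxy⟩
  have hkerq₀ : ∀ x : A₀, x ∈ RingHom.ker q₀ → (x : Λ) ∈ I := fun x hx => by
    rw [RingHom.mem_ker] at hx
    rw [memI, ← hq₀val, hx]; rfl
  have hq₀nil : IsNilpotent (RingHom.ker q₀) := by
    refine ⟨2, ?_⟩
    rw [pow_two, Ideal.zero_eq_bot, eq_bot_iff, Ideal.mul_le]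
    intro x hx y hy
    rw [Ideal.mem_bot]
    exact Subtype.ext (hmul _ (hkerq₀ x hx) _ (hI𝔪 (hkerq₀ y hy)))
  let τ' : k →+* A' := (algebraMap k Λ').codRestrict A' (fun a => hT' a)
  have hpA₀ : (p : A₀) = 0 := Subtype.ext (by simpa using hpΛ)
  obtain ⟨τ, hτ⟩ := exists_lift_ringHom p hpA₀ q₀ hq₀ hq₀nil τ'
  have hτ' : ∀ a, q (τ a : Λ) = algebraMap k Λ' a := fun a => by
    have := RingHom.congr_fun hτ a
    rw [← hq₀val]
    exact congrArg Subtype.val this
  have hπτ : ∀ a, π (τ a : Λ) = algebraMap k K a := fun a => by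
    rw [← hπ, hτ', AlgHom.commutes]
  -- Step 3: the derivation θ
  have hθmem : ∀ a : k, algebraMap k Λ a - (τ a : Λ) ∈ I := fun a => by
    rw [memI, map_sub, hτ', AlgHom.commutes, sub_self]
  letI modK : Module K ↥I := Module.compHom ↥I σ₀
  have hsmulK : ∀ (x : K) (v : ↥I), ((x • v : ↥I) : Λ) = σ₀ x * (v : Λ) := fun x v => rfl
  have hsmulk : ∀ (a : k) (v : ↥I), ((a • v : ↥I) : Λ) = algebraMap k Λ a * (v : Λ) := fun a v => by
    rw [← Algebra.smul_def]; rfl
  have hkK : ∀ (a : k) (v : Λ), v ∈ I → σ₀ (algebraMap k K a) * v = algebraMap k Λ a * v := by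
    intro a v hv
    have h1 : σ₀ (algebraMap k K a) - algebraMap k Λ a ∈ 𝔪 := by
      rw [mem𝔪, map_sub, hπσ₀, AlgHom.commutes, sub_self]
    have := hmul v hv _ h1
    linear_combination this
  haveI : IsScalarTower k K ↥I := ⟨fun a c v => Subtype.ext (by
    rw [hsmulK, hsmulk, hsmulK, Algebra.smul_def, map_mul, mul_assoc]
    exact hkK a _ (I.mul_mem_left _ v.2))⟩
  let θ : Derivation ℤ k ↥I :=
    { toLinearMap := AddMonoidHom.toIntLinearMap
        { toFun := fun a => ⟨algebraMap k Λ a - (τ a : Λ), hθmem a⟩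
          map_zero' := Subtype.ext (by simp)
          map_add' := fun a b => Subtype.ext (by
            simp only [map_add, Subring.coe_add, Submodule.coe_add]; ring) }
      map_one_eq_zero' := Subtype.ext (by simp)
      leibniz' := fun a b => Subtype.ext (by
        have h := hmul _ (hθmem a) _ (hI𝔪 (hθmem b))
        change algebraMap k Λ (a * b) - (τ (a * b) : Λ) =
          ((a • (⟨algebraMap k Λ b - (τ b : Λ), hθmem b⟩ : ↥I) +
            b • (⟨algebraMap k Λ a - (τ a : Λ), hθmem a⟩ : ↥I) : ↥I) : Λ)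
        rw [Submodule.coe_add, hsmulk, hsmulk, map_mul, map_mul, Subring.coe_mul]
        linear_combination (-1 : Λ) * h) }
  have hθval : ∀ a : k, ((θ a : ↥I) : Λ) = algebraMap k Λ a - (τ a : Λ) := fun a => rfl
  -- Step 4: correct by a derivation of K
  obtain ⟨D, J, J₀, f, c, hD⟩ := exists_derivation_correction hH θ
  have hDD : ∀ x y : K, ((D x : ↥I) : Λ) * ((D y : ↥I) : Λ) = 0 := fun x y =>
    hmul _ (D x).2 _ (hI𝔪 (D y).2)
  have hDmul : ∀ x y : K, ((D (x * y) : ↥I) : Λ) =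
      σ₀ x * ((D y : ↥I) : Λ) + σ₀ y * ((D x : ↥I) : Λ) := fun x y => by
    rw [D.leibniz, Submodule.coe_add, hsmulK, hsmulK]
  -- Step 5: the new section and the automorphism ρ
  let σ : K →+* Λ :=
    { toFun := fun x => σ₀ x + ((D x : ↥I) : Λ)
      map_one' := by simp [D.map_one_eq_zero]
      map_mul' := fun x y => by
        change σ₀ (x * y) + ((D (x * y) : ↥I) : Λ) = _
        rw [map_mul, hDmul]
        linear_combination (-1 : Λ) * hDD x y
      map_zero' := by simp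
      map_add' := fun x y => by
        change σ₀ (x + y) + ((D (x + y) : ↥I) : Λ) = _
        rw [map_add, map_add, Submodule.coe_add]; ring }
  have hσval : ∀ x, σ x = σ₀ x + ((D x : ↥I) : Λ) := fun x => rfl
  have hπσ : ∀ x, π (σ x) = x := fun x => by
    rw [hσval, map_add, hπσ₀, (mem𝔪 _).mp (hI𝔪 (D x).2), add_zero]
  have hσπ : ∀ b : Λ, σ₀ (π b) - b ∈ 𝔪 := fun b => by
    rw [mem𝔪, map_sub, hπσ₀, sub_self]
  let ρ : Λ →+* Λ :=
    { toFun := fun b => b + ((D (π b) : ↥I) : Λ)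
      map_one' := by simp [D.map_one_eq_zero]
      map_mul' := fun b c => by
        change b * c + ((D (π (b * c)) : ↥I) : Λ) = _
        have h3 := hmul _ (D (π c)).2 _ (hσπ b)
        have h4 := hmul _ (D (π b)).2 _ (hσπ c)
        rw [map_mul, hDmul]
        linear_combination h3 + h4 - hDD (π b) (π c)
      map_zero' := by simp
      map_add' := fun b c => by
        change b + c + ((D (π (b + c)) : ↥I) : Λ) = _
        rw [map_add, map_add, Submodule.coe_add]; ring }
  have hρval : ∀ b, ρ b = b + ((D (π b) : ↥I) : Λ) := fun b => rfl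
  have hρσ : ∀ x, ρ (σ₀ x) = σ x := fun x => by rw [hρval, hπσ₀, hσval]
  have hρlam : ∀ i, ρ (lam i) = lam i := fun i => by
    have : π (lam i) = 0 := by
      rw [← mem𝔪]
      have h0 : lam i ∈ Ideal.span (Set.range lam) := Ideal.subset_span ⟨i, rfl⟩
      rwa [hlam] at h0
    rw [hρval, this, map_zero, Submodule.coe_zero, add_zero]
  have hρA₀ : A₀.map ρ = Subring.closure (σ '' (F' : Set K) ∪ Set.range lam) := by
    rw [RingHom.map_closure]
    congr 1
    rw [Set.image_union, Set.image_image, ← Set.range_comp]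
    congr 1
    · exact Set.image_congr (fun x _ => hρσ x)
    · ext y; simp [hρlam]
  -- Step 6: enlarge the field
  choose Tj hTj using fun j : J =>
    exists_finset_mem_closure_section (π : Λ →+* K) σ hπσ lam hlam n hn ((f j : ↥I) : Λ)
  let T : Finset K := T' ∪ J₀.biUnion Tj
  refine ⟨σ, T, hπσ, fun a => ?_⟩
  set F : IntermediateField k K := IntermediateField.adjoin k (T : Set K) with hF
  have hF'F : (F' : Set K) ⊆ (F : Set K) := by
    have : F' ≤ F := IntermediateField.adjoin.mono k _ _ (by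
      intro x hx
      exact Finset.mem_coe.mpr (Finset.mem_union_left _ hx))
    exact this
  have hTjF : ∀ j ∈ J₀, ((Tj j : Finset K) : Set K) ⊆ (F : Set K) := fun j hj x hx =>
    IntermediateField.subset_adjoin k _
      (Finset.mem_coe.mpr (Finset.mem_union_right _ (Finset.mem_biUnion.mpr ⟨j, hj, hx⟩)))
  set A₂ : Subring Λ := Subring.closure (σ '' (F : Set K) ∪ Set.range lam) with hA₂
  have h1 : ρ (τ a : Λ) ∈ A₂ := by
    have : ρ (τ a : Λ) ∈ A₀.map ρ := Subring.mem_map.mpr ⟨_, (τ a).2, rfl⟩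
    rw [hρA₀] at this
    exact Subring.closure_mono (Set.union_subset_union_left _ (Set.image_mono hF'F)) this
  have h2 : ∀ j ∈ J₀, ((f j : ↥I) : Λ) ∈ A₂ := fun j hj =>
    Subring.closure_mono (Set.union_subset_union_left _ (Set.image_mono (hTjF j hj))) (hTj j)
  have h3 : algebraMap k Λ a =
      ρ (τ a : Λ) + ∑ j ∈ J₀, σ (algebraMap k K (c j a)) * ((f j : ↥I) : Λ) := by
    have h4 := congrArg (fun v : ↥I => (v : Λ)) (hD a)
    simp only [hθval, Submodule.coe_add, Submodule.coe_sum, hsmulk] at h4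
    rw [hρval, hπτ]
    have h5 : ∀ j ∈ J₀, σ (algebraMap k K (c j a)) * ((f j : ↥I) : Λ) =
        algebraMap k Λ (c j a) * ((f j : ↥I) : Λ) := fun j _ => by
      rw [hσval, add_mul, hkK _ _ (f j).2, hmul _ (D _).2 _ (hI𝔪 (f j).2), add_zero]
    rw [Finset.sum_congr rfl h5]
    linear_combination h4
  rw [h3]
  refine A₂.add_mem h1 (A₂.sum_mem (fun j hj => A₂.mul_mem ?_ (h2 j hj)))
  exact Subring.subset_closure (Or.inl ⟨_, F.algebraMap_mem _, rfl⟩)

end Groth.Agent.Helper8.InsA
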