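import Mathlib
import Groth.Agent.Lib.Helper8.InsA4

/-! The coefficient-field claim, by induction on the nilpotency index. -/

namespace Groth.Agent.Helper8.InsA

universe u

theorem good_of_nilpotent (p : ℕ) [Fact p.Prime] {k K : Type u} [Field k] [CharP k p]
    [Field K] [Algebra k K] (hH : Module.Finite K (Algebra.H1Cotangent k K)) (n : ℕ) :
    ∀ {Λ : Type u} [CommRing Λ] [Algebra k Λ] (π : Λ →ₐ[k] K) (_ : Function.Surjective π)
      {d : ℕ} (lam : Fin d → Λ)
      (_ : Ideal.span (Set.range lam) = RingHom.ker (π : Λ →+* K))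
      (_ : RingHom.ker (π : Λ →+* K) ^ n = ⊥), Good k π lam := by
  induction n with
  | zero =>
    intro Λ _ _ π hπ d lam hlam hn
    exfalso
    rw [pow_zero, Ideal.one_eq_top] at hn
    have h1 : (1 : Λ) ∈ (⊥ : Ideal Λ) := hn ▸ Submodule.mem_top
    rw [Ideal.mem_bot] at h1
    have : π 1 = π 0 := by rw [h1]
    rw [map_one, map_zero] at this
    exact one_ne_zero this
  | succ n ih =>
    intro Λ _ _ π hπ d lam hlam hn
    rcases Nat.eq_zero_or_pos n with h0 | hpos
    · -- π is bijective
      subst h0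
      rw [zero_add, pow_one] at hn
      have hinj : Function.Injective π := by
        rw [← AlgHom.coe_toRingHom, RingHom.injective_iff_ker_eq_bot]
        exact hn
      let e : Λ ≃+* K := RingEquiv.ofBijective (π : Λ →+* K) ⟨hinj, hπ⟩
      refine ⟨e.symm.toRingHom, ∅, fun x => e.apply_symm_apply x, fun a => ?_⟩
      refine Subring.subset_closure (Or.inl ⟨algebraMap k K a,
        (IntermediateField.adjoin k _).algebraMap_mem a, ?_⟩)
      have : e (algebraMap k Λ a) = algebraMap k K a := π.commutes a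
      rw [← this]
      exact e.symm_apply_apply _
    · set 𝔪 : Ideal Λ := RingHom.ker (π : Λ →+* K) with h𝔪
      set I : Ideal Λ := 𝔪 ^ n with hI
      have hI𝔪 : I ≤ 𝔪 := Ideal.pow_le_self hpos.ne'
      let q : Λ →ₐ[k] Λ ⧸ I := Ideal.Quotient.mkₐ k I
      let π' : Λ ⧸ I →ₐ[k] K := Ideal.Quotient.liftₐ I π (fun x hx => by
        have := hI𝔪 hx
        rwa [h𝔪, RingHom.mem_ker] at this)
      have hπ' : ∀ x, π' (q x) = π x := fun x => rfl
      have hq : Function.Surjective q := Ideal.Quotient.mk_surjective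
      have hkerq : RingHom.ker (q : Λ →+* Λ ⧸ I) = I := Ideal.mk_ker
      have hkerπ' : RingHom.ker (π' : Λ ⧸ I →+* K) = 𝔪.map (q : Λ →+* Λ ⧸ I) := by
        apply le_antisymm
        · intro y hy
          obtain ⟨x, rfl⟩ := hq y
          rw [RingHom.mem_ker] at hy
          exact Ideal.mem_map_of_mem _ (by rw [h𝔪, RingHom.mem_ker]; exact hy)
        · rw [Ideal.map_le_iff_le_comap]
          intro x hx
          rw [Ideal.mem_comap, RingHom.mem_ker]
          rw [h𝔪, RingHom.mem_ker] at hx
          exact hx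
      have hgood : Good k π' ((q : Λ → Λ ⧸ I) ∘ lam) := by
        refine ih π' (fun y => ?_) _ ?_ ?_
        · obtain ⟨x, rfl⟩ := hπ y
          exact ⟨q x, rfl⟩
        · rw [hkerπ', ← hlam, Ideal.map_span, Set.range_comp]; rfl
        · rw [hkerπ', ← Ideal.map_pow, ← hI]
          exact Ideal.map_quotient_self I
      refine good_of_quotient p hH π π' q hq hπ' lam hlam (n + 1) hn ?_ hgood
      rw [hkerq, hI, ← pow_succ]
      exact hn

end Groth.Agent.Helper8.InsA
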