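import Mathlib
import Groth.Agent.Lib.Helper8.InsA3

/-! `F`-forms of a finite `K`-algebra: the subring of elements whose coordinates lie in a
subfield `F`. -/

namespace Groth.Agent.Helper8.InsA

theorem finite_of_section {K Λ : Type*} [Field K] [CommRing Λ] [Algebra K Λ] (π : Λ →+* K)
    (hσ : ∀ x, π (algebraMap K Λ x) = x) {d : ℕ} (lam : Fin d → Λ)
    (hlam : Ideal.span (Set.range lam) = RingHom.ker π) (n : ℕ) (hn : RingHom.ker π ^ n = ⊥) :
    Module.Finite K Λ := by
  have htop : Algebra.adjoin K (Set.range lam) = ⊤ := by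
    rw [eq_top_iff]
    intro x _
    have h1 := closure_section_eq_top π (algebraMap K Λ) hσ lam hlam n hn
    have h2 : Subring.closure (Set.range (algebraMap K Λ) ∪ Set.range lam) ≤
        (Algebra.adjoin K (Set.range lam)).toSubring := by
      rw [Subring.closure_le]
      rintro y (⟨c, rfl⟩ | hy)
      · exact (Algebra.adjoin K (Set.range lam)).algebraMap_mem c
      · exact Algebra.subset_adjoin hy
    exact h2 (h1 ▸ Subring.mem_top x)
  have hint : ∀ x ∈ Set.range lam, IsIntegral K x := by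
    rintro x ⟨i, rfl⟩
    have hmem : lam i ∈ RingHom.ker π := by
      rw [← hlam]; exact Ideal.subset_span ⟨i, rfl⟩
    have hpow : lam i ^ n = 0 := by
      have := Ideal.pow_mem_pow hmem n
      rwa [hn, Ideal.mem_bot] at this
    exact ⟨Polynomial.X ^ n, Polynomial.monic_X_pow n, by simp [hpow]⟩
  have hfg := fg_adjoin_of_finite (Set.finite_range lam) hint
  rw [htop, Algebra.top_toSubmodule] at hfg
  exact Module.finite_def.mpr hfg

section Form

variable {K Λ ι : Type*} [Field K] [CommRing Λ] [Algebra K Λ] [Fintype ι]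

theorem mul_eq_sum_repr (m : Module.Basis ι K Λ) (x y : Λ) :
    x * y = ∑ u, ∑ v, (m.repr x u * m.repr y v) • (m u * m v) := by
  conv_lhs => rw [← m.sum_repr x, ← m.sum_repr y]
  rw [Finset.sum_mul_sum]
  refine Finset.sum_congr rfl (fun u _ => Finset.sum_congr rfl (fun v _ => ?_))
  rw [smul_mul_smul_comm]

/-- the subring of elements with coordinates in `F` -/
def formSubring (m : Module.Basis ι K Λ) (F : Subfield K)
    (h1 : ∀ u, m.repr 1 u ∈ F) (hmul : ∀ u v w, m.repr (m u * m v) w ∈ F) : Subring Λ where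
  carrier := {x | ∀ u, m.repr x u ∈ F}
  mul_mem' := by
    intro x y hx hy w
    rw [mul_eq_sum_repr m x y]
    simp only [map_sum, map_smul, Finsupp.coe_finset_sum, Finset.sum_apply, Finsupp.smul_apply,
      smul_eq_mul]
    exact F.sum_mem (fun u _ => F.sum_mem fun v _ => F.mul_mem (F.mul_mem (hx u) (hy v))
      (hmul u v w))
  one_mem' := h1
  add_mem' := by
    intro x y hx hy w
    rw [map_add, Finsupp.add_apply]
    exact F.add_mem (hx w) (hy w)
  zero_mem' := by
    intro w
    rw [map_zero, Finsupp.zero_apply]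
    exact F.zero_mem
  neg_mem' := by
    intro x hx w
    rw [map_neg, Finsupp.neg_apply]
    exact F.neg_mem (hx w)

theorem mem_formSubring (m : Module.Basis ι K Λ) (F : Subfield K)
    (h1 : ∀ u, m.repr 1 u ∈ F) (hmul : ∀ u v w, m.repr (m u * m v) w ∈ F) (x : Λ) :
    x ∈ formSubring m F h1 hmul ↔ ∀ u, m.repr x u ∈ F := Iff.rfl

end Form

section FormLemmas

variable {K Λ ι : Type*} [Field K] [CommRing Λ] [Algebra K Λ] [Fintype ι]
  (m : Module.Basis ι K Λ) (F : Subfield K) {A : Type*} [SetLike A Λ] [SubringClass A Λ] (S : A)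
  (hS : ∀ x : Λ, x ∈ S ↔ ∀ u, m.repr x u ∈ F)

include hS

theorem form_smul_mem {c : K} (hc : c ∈ F) {x : Λ} (hx : x ∈ S) : c • x ∈ S := by
  rw [hS] at hx ⊢
  intro u
  rw [map_smul, Finsupp.smul_apply, smul_eq_mul]
  exact F.mul_mem hc (hx u)

theorem form_algebraMap_mem {c : K} (hc : c ∈ F) : algebraMap K Λ c ∈ S := by
  rw [Algebra.algebraMap_eq_smul_one]
  exact form_smul_mem m F S hS hc (one_mem S)

theorem form_basis_mem [DecidableEq ι] (u : ι) : m u ∈ S := by
  rw [hS]
  intro w
  rw [m.repr_self, Finsupp.single_apply]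
  split_ifs
  · exact F.one_mem
  · exact F.zero_mem

end FormLemmas

end Groth.Agent.Helper8.InsA
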