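import Mathlib
import Groth.Agent.Lib.Helper8.InsA6

/-! `F`-forms: freeness of the big algebra over the form, and the form is Artinian. -/

namespace Groth.Agent.Helper8.InsA

variable {k K Λ ι : Type*} [CommRing k] [Field K] [CommRing Λ] [Algebra k Λ] [Algebra K Λ]
  [Fintype ι] (m : Module.Basis ι K Λ) (F : Subfield K) (A : Subalgebra k Λ)
  (hA : ∀ x : Λ, x ∈ A ↔ ∀ u, m.repr x u ∈ F)

include hA

theorem form_free : Module.Free ↥A Λ := by
  classical
  let b := Module.Free.chooseBasis ↥F K
  let e : Module.Free.ChooseBasisIndex ↥F K → Λ := fun i => algebraMap K Λ (b i)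
  have hsm : ∀ (a : ↥A) i, a • e i = (b i : K) • (a : Λ) := by
    intro a i
    rw [Algebra.smul_def (b i), mul_comm]; rfl
  have hli : LinearIndependent ↥A e := by
    rw [linearIndependent_iff']
    intro s g hg i hi
    have hu : ∀ u, ∑ j ∈ s, (⟨m.repr (g j : Λ) u, (hA _).mp (g j).2 u⟩ : ↥F) • b j = 0 := by
      intro u
      have h0 := congrArg (fun x => m.repr x u) hg
      simp only [hsm, map_sum, map_smul, Finsupp.coe_finset_sum, Finset.sum_apply,
        Finsupp.smul_apply, smul_eq_mul, map_zero, Finsupp.zero_apply] at h0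
      rw [← h0]
      refine Finset.sum_congr rfl (fun j _ => ?_)
      rw [Subfield.smul_def, smul_eq_mul, mul_comm]
    have hz : ∀ u, m.repr (g i : Λ) u = 0 := fun u => by
      have := linearIndependent_iff'.mp b.linearIndependent s _ (hu u) i hi
      exact congrArg Subtype.val this
    have h2 : (g i : Λ) = 0 := by
      apply m.repr.injective
      ext u
      simp [hz u]
    exact Subtype.ext h2
  have hsp : ⊤ ≤ Submodule.span ↥A (Set.range e) := by
    intro x _
    rw [← m.sum_repr x]
    refine Submodule.sum_mem _ (fun u _ => ?_)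
    generalize m.repr x u = c
    have hc : c = ∑ i ∈ (b.repr c).support, ((b.repr c i : ↥F) : K) * b i := by
      conv_lhs => rw [← b.linearCombination_repr c, Finsupp.linearCombination_apply, Finsupp.sum]
      rfl
    rw [hc, Finset.sum_smul]
    refine Submodule.sum_mem _ (fun i _ => ?_)
    have hmem : ((b.repr c i : ↥F) : K) • m u ∈ A :=
      form_smul_mem m F A hA (b.repr c i).2 (form_basis_mem m F A hA u)
    have h3 : (((b.repr c i : ↥F) : K) * b i) • m u =
        (⟨((b.repr c i : ↥F) : K) • m u, hmem⟩ : ↥A) • e i := by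
      rw [hsm, smul_smul, mul_comm]
    rw [h3]
    exact Submodule.smul_mem _ _ (Submodule.subset_span ⟨i, rfl⟩)
  exact Module.Free.of_basis (Module.Basis.mk hli hsp)

theorem form_flat : Module.Flat ↥A Λ := by
  haveI := form_free m F A hA
  infer_instance

theorem form_isArtinianRing : IsArtinianRing ↥A := by
  classical
  let φ : ↥F →+* ↥A := ((algebraMap K Λ).comp F.subtype).codRestrict A
    (fun c => form_algebraMap_mem m F A hA c.2)
  letI : Algebra ↥F ↥A := φ.toAlgebra
  have hsmul : ∀ (c : ↥F) (x : ↥A), ((c • x : ↥A) : Λ) = (c : K) • (x : Λ) := fun c x => by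
    rw [Algebra.smul_def c x, Algebra.smul_def (c : K) (x : Λ)]; rfl
  haveI : Module.Finite ↥F ↥A := by
    let mA : ι → ↥A := fun u => ⟨m u, form_basis_mem m F A hA u⟩
    refine Module.Finite.of_surjective (Fintype.linearCombination ↥F mA) (fun x => ?_)
    refine ⟨fun u => ⟨m.repr (x : Λ) u, (hA _).mp x.2 u⟩, Subtype.ext ?_⟩
    rw [Fintype.linearCombination_apply, AddSubmonoidClass.coe_finset_sum]
    simp only [hsmul]
    exact m.sum_repr x
  exact IsArtinianRing.of_finite ↥F ↥A

end Groth.Agent.Helper8.InsA
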