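import Mathlib
import Groth.Agent.Lib.Helper8.InsA7

/-! `F`-forms: locality, the maximal ideal and essential finiteness. -/

namespace Groth.Agent.Helper8.InsA

theorem isUnit_of_isUnit_val {k Λ : Type*} [CommRing k] [CommRing Λ] [Algebra k Λ]
    (A : Subalgebra k Λ) [IsArtinianRing ↥A] (x : ↥A) (h : IsUnit (x : Λ)) : IsUnit x := by
  apply IsArtinianRing.isUnit_of_mem_nonZeroDivisors
  rw [mem_nonZeroDivisors_iff_left]
  intro y hy
  have h1 : (x : Λ) * (y : Λ) = 0 := by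
    have := congrArg Subtype.val hy
    simpa using this
  have h2 : (y : Λ) = 0 := by
    obtain ⟨u, hu⟩ := h
    have : ((u⁻¹ : Λˣ) : Λ) * ((x : Λ) * (y : Λ)) = 0 := by rw [h1, mul_zero]
    rwa [← mul_assoc, ← hu, Units.inv_mul, one_mul] at this
  exact Subtype.ext h2

theorem subalgebra_isLocalRing {k Λ : Type*} [CommRing k] [CommRing Λ] [IsLocalRing Λ]
    [Algebra k Λ] (A : Subalgebra k Λ) [IsArtinianRing ↥A] : IsLocalRing ↥A := by
  haveI : Nontrivial ↥A := ⟨⟨0, 1, fun h => zero_ne_one (α := Λ) (congrArg Subtype.val h)⟩⟩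
  refine IsLocalRing.of_nonunits_add (fun a b ha hb => ?_)
  have ha' : (a : Λ) ∈ nonunits Λ := fun h => ha (isUnit_of_isUnit_val A a h)
  have hb' : (b : Λ) ∈ nonunits Λ := fun h => hb (isUnit_of_isUnit_val A b h)
  have hab : ((a + b : ↥A) : Λ) ∈ nonunits Λ := IsLocalRing.nonunits_add ha' hb'
  intro h
  exact hab (h.map A.val)

theorem subalgebra_maximalIdeal_map {k Λ : Type*} [CommRing k] [CommRing Λ] [IsLocalRing Λ]
    [Algebra k Λ] (A : Subalgebra k Λ) [IsArtinianRing ↥A] [IsLocalRing ↥A] {d : ℕ}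
    (lam : Fin d → Λ) (hlam : Ideal.span (Set.range lam) = IsLocalRing.maximalIdeal Λ)
    (hlamA : ∀ i, lam i ∈ A) :
    (IsLocalRing.maximalIdeal ↥A).map (algebraMap ↥A Λ) = IsLocalRing.maximalIdeal Λ := by
  apply le_antisymm
  · rw [Ideal.map_le_iff_le_comap]
    intro x hx
    rw [Ideal.mem_comap, IsLocalRing.mem_maximalIdeal]
    rw [IsLocalRing.mem_maximalIdeal] at hx
    exact fun h => hx (isUnit_of_isUnit_val A x h)
  · rw [← hlam, Ideal.span_le]
    rintro _ ⟨i, rfl⟩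
    have h1 : (⟨lam i, hlamA i⟩ : ↥A) ∈ IsLocalRing.maximalIdeal ↥A := by
      rw [IsLocalRing.mem_maximalIdeal]
      intro h
      have h2 : IsUnit (lam i) := h.map A.val
      have h3 : lam i ∈ IsLocalRing.maximalIdeal Λ := by
        rw [← hlam]; exact Ideal.subset_span ⟨i, rfl⟩
      exact (IsLocalRing.mem_maximalIdeal _).mp h3 h2
    exact Ideal.mem_map_of_mem (algebraMap ↥A Λ) h1

set_option maxHeartbeats 1600000 in
theorem form_essFiniteType {k K Λ : Type*} [Field k] [Field K] [Algebra k K] [CommRing Λ]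
    [IsLocalRing Λ] [Algebra k Λ] [Algebra K Λ]
    (π : Λ →ₐ[k] K) (hker : RingHom.ker (π : Λ →+* K) = IsLocalRing.maximalIdeal Λ)
    (hσ : ∀ c : K, π (algebraMap K Λ c) = c)
    {d : ℕ} (lam : Fin d → Λ) (hlam : Ideal.span (Set.range lam) = IsLocalRing.maximalIdeal Λ)
    (n : ℕ) (hn : IsLocalRing.maximalIdeal Λ ^ n = ⊥)
    {ι : Type*} [Fintype ι] (m : Module.Basis ι K Λ) (S : Set K) (hSfin : S.Finite)
    (A : Subalgebra k Λ)
    (hA : ∀ x : Λ, x ∈ A ↔ ∀ u, m.repr x u ∈ (IntermediateField.adjoin k S).toSubfield)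
    (hlamA : ∀ i, lam i ∈ A) (hπm : ∀ u, π (m u) ∈ IntermediateField.adjoin k S) :
    Algebra.EssFiniteType k ↥A := by
  classical
  set F := IntermediateField.adjoin k S with hF
  haveI := form_isArtinianRing m F.toSubfield A hA
  haveI := subalgebra_isLocalRing A
  haveI : Module.Flat ↥A Λ := form_flat m F.toSubfield A hA
  haveI : IsLocalHom (algebraMap ↥A Λ) := ⟨fun x hx => isUnit_of_isUnit_val A x hx⟩
  haveI : Module.FaithfullyFlat ↥A Λ := Module.FaithfullyFlat.of_flat_of_isLocalHom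
  let G : Set ↥A := {x | (x : Λ) ∈ (algebraMap K Λ) '' S ∪ Set.range lam}
  have hGfin : G.Finite := by
    refine Set.Finite.preimage (Subtype.val_injective.injOn) ?_
    exact (hSfin.image _).union (Set.finite_range lam)
  let S₀ : Subalgebra k ↥A := Algebra.adjoin k G
  let A₁ : Subring ↥A :=
    { carrier := {x | ∃ t ∈ S₀, IsUnit t ∧ x * t ∈ S₀}
      mul_mem' := by
        rintro x y ⟨t, ht, htu, hxt⟩ ⟨t', ht', htu', hyt⟩
        refine ⟨t * t', S₀.mul_mem ht ht', htu.mul htu', ?_⟩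
        have : x * y * (t * t') = (x * t) * (y * t') := by ring
        rw [this]
        exact S₀.mul_mem hxt hyt
      one_mem' := ⟨1, S₀.one_mem, isUnit_one, by rw [mul_one]; exact S₀.one_mem⟩
      add_mem' := by
        rintro x y ⟨t, ht, htu, hxt⟩ ⟨t', ht', htu', hyt⟩
        refine ⟨t * t', S₀.mul_mem ht ht', htu.mul htu', ?_⟩
        have : (x + y) * (t * t') = (x * t) * t' + (y * t') * t := by ring
        rw [this]
        exact S₀.add_mem (S₀.mul_mem hxt ht') (S₀.mul_mem hyt ht)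
      zero_mem' := ⟨1, S₀.one_mem, isUnit_one, by rw [mul_one]; exact S₀.zero_mem⟩
      neg_mem' := by
        rintro x ⟨t, ht, htu, hxt⟩
        refine ⟨t, ht, htu, ?_⟩
        rw [neg_mul]
        exact S₀.neg_mem hxt }
  have hS₀A₁ : ∀ x ∈ S₀, x ∈ A₁ := fun x hx => ⟨1, S₀.one_mem, isUnit_one, by rwa [mul_one]⟩
  have hinv : ∀ x : ↥A, x ∈ A₁ → ∀ u : (↥A)ˣ, (u : ↥A) = x → ((u⁻¹ : (↥A)ˣ) : ↥A) ∈ A₁ := by
    rintro x ⟨t, ht, htu, hxt⟩ u hu
    refine ⟨x * t, hxt, ?_, ?_⟩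
    · rw [← hu]; exact u.isUnit.mul htu
    · have : ((u⁻¹ : (↥A)ˣ) : ↥A) * (x * t) = t := by
        rw [← hu, ← mul_assoc, Units.inv_mul, one_mul]
      rw [this]; exact ht
  let lamA : Fin d → ↥A := fun i => ⟨lam i, hlamA i⟩
  let J : Ideal ↥A := Ideal.span (Set.range lamA)
  have hJmap : J.map (algebraMap ↥A Λ) = IsLocalRing.maximalIdeal Λ := by
    rw [Ideal.map_span, ← Set.range_comp]
    exact hlam
  have hJn : J ^ n = ⊥ := by
    rw [eq_bot_iff]
    intro x hx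
    have h1 : algebraMap ↥A Λ x ∈ (J ^ n).map (algebraMap ↥A Λ) := Ideal.mem_map_of_mem _ hx
    rw [Ideal.map_pow, hJmap, hn, Ideal.mem_bot] at h1
    rw [Ideal.mem_bot]
    exact Subtype.ext h1
  have hJcomap : ∀ y : ↥A, π (y : Λ) = 0 → y ∈ J := by
    intro y hy
    have h1 : (y : Λ) ∈ IsLocalRing.maximalIdeal Λ := by
      rw [← hker]; exact hy
    have h2 : y ∈ (J.map (algebraMap ↥A Λ)).comap (algebraMap ↥A Λ) := by
      rw [hJmap]; exact h1
    rwa [Ideal.comap_map_eq_self_of_faithfullyFlat] at h2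
  have hπA : ∀ x : ↥A, π (x : Λ) ∈ F := by
    intro x
    rw [← m.sum_repr (x : Λ), map_sum]
    refine F.sum_mem (fun u _ => ?_)
    rw [Algebra.smul_def, map_mul, hσ]
    exact F.mul_mem ((hA _).mp x.2 u) (hπm u)
  have hlift : ∀ f ∈ F, ∃ c ∈ A₁, π ((c : ↥A) : Λ) = f := by
    intro f hf
    induction hf using IntermediateField.adjoin_induction with
    | mem s hs =>
      refine ⟨⟨algebraMap K Λ s, form_algebraMap_mem m F.toSubfield A hA
        (IntermediateField.subset_adjoin k S hs)⟩, hS₀A₁ _ (Algebra.subset_adjoin ?_), hσ s⟩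
      exact Or.inl ⟨s, hs, rfl⟩
    | algebraMap a =>
      refine ⟨algebraMap k ↥A a, hS₀A₁ _ (S₀.algebraMap_mem a), ?_⟩
      exact π.commutes a
    | add x y _ _ hx hy =>
      obtain ⟨c, hc, rfl⟩ := hx
      obtain ⟨c', hc', rfl⟩ := hy
      exact ⟨c + c', A₁.add_mem hc hc', by rw [Subalgebra.coe_add, map_add]⟩
    | inv x _ hx =>
      obtain ⟨c, hc, rfl⟩ := hx
      by_cases h0 : π (c : Λ) = 0
      · exact ⟨0, A₁.zero_mem, by rw [h0, inv_zero, Subalgebra.coe_zero, map_zero]⟩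
      · have hcu : IsUnit (c : Λ) := by
          by_contra hnu
          have h1 : (c : Λ) ∈ IsLocalRing.maximalIdeal Λ := (IsLocalRing.mem_maximalIdeal _).mpr hnu
          rw [← hker] at h1
          exact h0 h1
        obtain ⟨u, hu⟩ := isUnit_of_isUnit_val A c hcu
        refine ⟨((u⁻¹ : (↥A)ˣ) : ↥A), hinv c hc u hu, ?_⟩
        apply eq_inv_of_mul_eq_one_left
        rw [← hu, ← map_mul, ← Subalgebra.coe_mul, Units.inv_mul, Subalgebra.coe_one, map_one]
    | mul x y _ _ hx hy =>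
      obtain ⟨c, hc, rfl⟩ := hx
      obtain ⟨c', hc', rfl⟩ := hy
      exact ⟨c * c', A₁.mul_mem hc hc', by rw [Subalgebra.coe_mul, map_mul]⟩
  have hC : ∀ b : ↥A, ∃ c ∈ A₁, b - c ∈ J := by
    intro b
    obtain ⟨c, hc, hπc⟩ := hlift _ (hπA b)
    exact ⟨c, hc, hJcomap _ (by rw [Subalgebra.coe_sub, map_sub, hπc, sub_self])⟩
  have htop := subring_eq_top_of_nilpotent J lamA rfl n hJn A₁
    (fun i => hS₀A₁ _ (Algebra.subset_adjoin (Or.inr ⟨i, rfl⟩))) hC
  rw [Algebra.essFiniteType_iff]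
  refine ⟨hGfin.toFinset, fun s => ?_⟩
  have hs : s ∈ A₁ := htop ▸ Subring.mem_top s
  obtain ⟨t, ht, htu, hst⟩ := hs
  rw [Set.Finite.coe_toFinset]
  exact ⟨t, ht, htu, hst⟩

end Groth.Agent.Helper8.InsA
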