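import Mathlib
import Groth.Agent.Lib.Helper8.InsA5
import Groth.Agent.Lib.Helper8.InsA8

/-! A family of forms of an Artinian local algebra in characteristic `p`, indexed by the
subfields of the residue field containing a fixed finite set. -/

namespace Groth.Agent.Helper8.InsB

open Groth.Agent.Helper8.InsA

universe u

set_option maxHeartbeats 1600000 in
theorem forms {k K Λ : Type u} [Field k] (p : ℕ) [Fact p.Prime] [CharP k p] [Field K] [Algebra k K]
    (hH : Module.Finite K (Algebra.H1Cotangent k K))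
    [CommRing Λ] [Algebra k Λ] [IsLocalRing Λ]
    (π : Λ →ₐ[k] K) (hπsurj : Function.Surjective π)
    (hker : RingHom.ker (π : Λ →+* K) = IsLocalRing.maximalIdeal Λ)
    {d : ℕ} (lam : Fin d → Λ) (hlam : Ideal.span (Set.range lam) = IsLocalRing.maximalIdeal Λ)
    (n : ℕ) (hn : IsLocalRing.maximalIdeal Λ ^ n = ⊥) (E : Finset Λ) :
    ∃ (σ : K →+* Λ) (S₀ : Finset K), (∀ c, π (σ c) = c) ∧
      ∀ F : IntermediateField k K, (↑S₀ : Set K) ⊆ F →
        ∃ (A : Subalgebra k Λ) (_ : IsLocalRing A), (↑E : Set Λ) ⊆ A ∧ IsArtinianRing A ∧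
          Module.Flat A Λ ∧
          (IsLocalRing.maximalIdeal A).map (algebraMap A Λ) = IsLocalRing.maximalIdeal Λ ∧
          (∀ i, lam i ∈ A) ∧ (∀ c ∈ F, σ c ∈ A) ∧ (∀ x ∈ A, π x ∈ F) := by
  classical
  obtain ⟨σ, T₀, hσ, hT₀⟩ := good_of_nilpotent p hH n π hπsurj lam (hlam.trans hker.symm)
    (by rw [hker]; exact hn)
  letI algK : Algebra K Λ := σ.toAlgebra
  haveI : Module.Finite K Λ :=
    finite_of_section (π : Λ →+* K) hσ lam (hlam.trans hker.symm) n
      (by rw [hker]; exact hn)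
  let m := Module.finBasis K Λ
  let S : Set K :=
    (T₀ : Set K) ∪ Set.range (fun u => m.repr 1 u) ∪
      Set.range (fun t : _ × _ × _ => m.repr (m t.1 * m t.2.1) t.2.2) ∪
      Set.range (fun t : Fin d × _ => m.repr (lam t.1) t.2) ∪
      Set.range (fun t : {x // x ∈ E} × _ => m.repr (t.1 : Λ) t.2) ∪
      Set.range (fun u => π (m u))
  have hSfin : S.Finite :=
    ((((T₀.finite_toSet.union (Set.finite_range _)).union (Set.finite_range _)).union
      (Set.finite_range _)).union (Set.finite_range _)).union (Set.finite_range _)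
  refine ⟨σ, hSfin.toFinset, hσ, fun F hSF => ?_⟩
  have hsub : S ⊆ (F : Set K) := by
    intro x hx
    apply hSF
    rw [Set.Finite.coe_toFinset]
    exact hx
  have h1 : ∀ u, m.repr 1 u ∈ F.toSubfield := fun u =>
    hsub (Or.inl (Or.inl (Or.inl (Or.inl (Or.inr ⟨u, rfl⟩)))))
  have hmul : ∀ u v w, m.repr (m u * m v) w ∈ F.toSubfield := fun u v w =>
    hsub (Or.inl (Or.inl (Or.inl (Or.inr ⟨(u, v, w), rfl⟩))))
  let A₀ : Subring Λ := formSubring m F.toSubfield h1 hmul
  have hA₀ : ∀ x : Λ, x ∈ A₀ ↔ ∀ u, m.repr x u ∈ F.toSubfield := fun x => Iff.rfl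
  have hlamA₀ : ∀ i, lam i ∈ A₀ := fun i w =>
    hsub (Or.inl (Or.inl (Or.inr ⟨(i, w), rfl⟩)))
  have hcl : Subring.closure (σ '' (IntermediateField.adjoin k
      (T₀ : Set K) : Set K) ∪ Set.range lam) ≤ A₀ := by
    rw [Subring.closure_le]
    rintro y (⟨c, hc, rfl⟩ | ⟨i, rfl⟩)
    · have hcF : c ∈ F := by
        have hle : IntermediateField.adjoin k (T₀ : Set K) ≤ F := by
          rw [IntermediateField.adjoin_le_iff]
          intro x hx
          exact hsub (Or.inl (Or.inl (Or.inl (Or.inl (Or.inl hx)))))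
        exact hle hc
      exact form_algebraMap_mem m F.toSubfield A₀ hA₀ hcF
    · exact hlamA₀ i
  let A : Subalgebra k Λ := { A₀ with algebraMap_mem' := fun a => hcl (hT₀ a) }
  have hA : ∀ x : Λ, x ∈ A ↔ ∀ u, m.repr x u ∈ F.toSubfield := fun x => Iff.rfl
  haveI hArt : IsArtinianRing ↥A := form_isArtinianRing m F.toSubfield A hA
  haveI hloc : IsLocalRing ↥A := subalgebra_isLocalRing A
  have hlamA : ∀ i, lam i ∈ A := hlamA₀
  refine ⟨A, hloc, ?_, hArt, form_flat m F.toSubfield A hA,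
    subalgebra_maximalIdeal_map A lam hlam hlamA, hlamA, ?_, ?_⟩
  · intro e he
    have : ∀ w, m.repr e w ∈ F.toSubfield := fun w =>
      hsub (Or.inl (Or.inr ⟨(⟨e, he⟩, w), rfl⟩))
    exact this
  · intro c hc
    exact form_algebraMap_mem m F.toSubfield A hA hc
  · intro x hx
    rw [← m.sum_repr x, map_sum]
    refine F.sum_mem (fun u _ => ?_)
    rw [Algebra.smul_def, map_mul]
    have h2 : π (algebraMap K Λ (m.repr x u)) = m.repr x u := hσ _
    rw [h2]
    exact F.mul_mem ((hA _).mp hx u) (hsub (Or.inr ⟨u, rfl⟩))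

end Groth.Agent.Helper8.InsB
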