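import Mathlib

/-! Frobenius powers in an Artinian local algebra with a coefficient field, and the choice of
global elements with prescribed images. -/

namespace Groth.Agent.Helper8.InsB

universe u

/-- High `p`-powers of elements lie in the coefficient field. -/
theorem pow_eq_sigma {k K Λ : Type*} [Field k] (p : ℕ) [Fact p.Prime] [CharP k p] [Field K]
    [Algebra k K] [CommRing Λ] [Algebra k Λ] [IsLocalRing Λ]
    (π : Λ →ₐ[k] K)
    (hker : RingHom.ker (π : Λ →+* K) = IsLocalRing.maximalIdeal Λ)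
    (σ : K →+* Λ) (hσ : ∀ c, π (σ c) = c)
    (n : ℕ) (hn : IsLocalRing.maximalIdeal Λ ^ n = ⊥) (e : ℕ) (he : n ≤ p ^ e) (x : Λ) :
    x ^ (p ^ e) = σ (π x ^ (p ^ e)) := by
  haveI : CharP Λ p := charP_of_injective_algebraMap (algebraMap k Λ).injective p
  have hν : x - σ (π x) ∈ IsLocalRing.maximalIdeal Λ := by
    rw [← hker, RingHom.mem_ker]
    change π (x - σ (π x)) = 0
    rw [map_sub, hσ, sub_self]
  have h1 : (x - σ (π x)) ^ (p ^ e) = 0 := by
    have h2 : (x - σ (π x)) ^ (p ^ e) ∈ IsLocalRing.maximalIdeal Λ ^ (p ^ e) :=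
      Ideal.pow_mem_pow hν _
    have h3 : IsLocalRing.maximalIdeal Λ ^ (p ^ e) ≤ ⊥ := by
      rw [← hn]; exact Ideal.pow_le_pow_right he
    exact (Ideal.mem_bot).mp (h3 h2)
  have h4 : x = σ (π x) + (x - σ (π x)) := by ring
  conv_lhs => rw [h4]
  rw [add_pow_char_pow, h1, add_zero, map_pow]

/-- Global elements whose images are values of the coefficient field, with residues generating
a field containing a given finite set. -/
theorem exists_global_elements {k K Λ Λb : Type u} [Field k] (p : ℕ) [Fact p.Prime] [CharP k p]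
    [Field K] [Algebra k K] [CommRing Λb] [Algebra k Λb] [IsLocalRing Λb]
    (π : Λb →ₐ[k] K)
    (hker : RingHom.ker (π : Λb →+* K) = IsLocalRing.maximalIdeal Λb)
    (σ : K →+* Λb) (hσ : ∀ c, π (σ c) = c)
    (n : ℕ) (hn : IsLocalRing.maximalIdeal Λb ^ n = ⊥)
    [CommRing Λ] (ψ : Λ →+* Λb)
    (hfrac : ∀ x : Λb, ∃ a s : Λ, IsUnit (ψ s) ∧ x * ψ s = ψ a) (S₀ : Finset K) :
    ∃ (r : ℕ) (G : Fin r → Λ) (c : Fin r → K), (∀ l, ψ (G l) = σ (c l)) ∧
      (↑S₀ : Set K) ⊆ IntermediateField.adjoin k (Set.range c) := by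
  classical
  have hp : 1 < p := (Fact.out : p.Prime).one_lt
  let e : ℕ := n
  let Q : ℕ := p ^ e
  have hQ : n ≤ Q := (Nat.lt_pow_self hp).le
  have hQpos : 0 < Q := Nat.pos_of_ne_zero (pow_ne_zero _ (by omega))
  have hpow : ∀ x : Λb, x ^ Q = σ (π x ^ Q) := fun x =>
    pow_eq_sigma p π hker σ hσ n hn e hQ x
  choose a s hsu has using fun x : {x // x ∈ S₀} => hfrac (σ (x : K))
  let ι := {x // x ∈ S₀} ⊕ {x // x ∈ S₀}
  let G₀ : ι → Λ := Sum.elim (fun x => a x * s x ^ (Q - 1)) (fun x => s x ^ Q)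
  let c₀ : ι → K := Sum.elim (fun x => (x : K) * π (ψ (s x)) ^ Q) (fun x => π (ψ (s x)) ^ Q)
  have hG₀ : ∀ l, ψ (G₀ l) = σ (c₀ l) := by
    rintro (x | x)
    · change ψ (a x * s x ^ (Q - 1)) = σ ((x : K) * π (ψ (s x)) ^ Q)
      rw [map_mul, map_pow, ← has, mul_assoc, ← pow_succ', Nat.sub_add_cancel hQpos, hpow,
        map_mul]
    · change ψ (s x ^ Q) = σ (π (ψ (s x)) ^ Q)
      rw [map_pow, hpow]
  have hne : ∀ x : {x // x ∈ S₀}, π (ψ (s x)) ≠ 0 := by
    intro x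
    have : IsUnit (π (ψ (s x))) := (hsu x).map π
    exact this.ne_zero
  have hsub : (↑S₀ : Set K) ⊆ IntermediateField.adjoin k (Set.range c₀) := by
    intro x hx
    have h1 : c₀ (Sum.inl ⟨x, hx⟩) ∈ IntermediateField.adjoin k (Set.range c₀) :=
      IntermediateField.subset_adjoin k _ ⟨_, rfl⟩
    have h2 : c₀ (Sum.inr ⟨x, hx⟩) ∈ IntermediateField.adjoin k (Set.range c₀) :=
      IntermediateField.subset_adjoin k _ ⟨_, rfl⟩
    have h3 : x = c₀ (Sum.inl ⟨x, hx⟩) / c₀ (Sum.inr ⟨x, hx⟩) := by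
      change x = (x * π (ψ (s ⟨x, hx⟩)) ^ Q) / (π (ψ (s ⟨x, hx⟩)) ^ Q)
      rw [mul_div_assoc, div_self (pow_ne_zero _ (hne _)), mul_one]
    rw [SetLike.mem_coe, h3]
    exact (IntermediateField.adjoin k (Set.range c₀)).div_mem h1 h2
  let eqv := Fintype.equivFin ι
  refine ⟨Fintype.card ι, G₀ ∘ eqv.symm, c₀ ∘ eqv.symm, fun l => hG₀ _, ?_⟩
  have hr : Set.range (c₀ ∘ eqv.symm) = Set.range c₀ := by
    rw [Set.range_comp, eqv.symm.surjective.range_eq, Set.image_univ]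
  rw [hr]
  exact hsub

end Groth.Agent.Helper8.InsB
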