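import Mathlib
import Groth.Agent.Lib.Helper8.InsB1
import Groth.Agent.Lib.Helper8.InsB2
import Groth.Agent.Lib.Helper8.InsB3

/-! A form of an Artinian local algebra together with global elements whose residues form a
differential basis of the residue field of the form. -/

namespace Groth.Agent.Helper8.InsB

open IsLocalRing Groth.Agent.Helper8.InsA

universe u

set_option maxHeartbeats 1600000 in
theorem exists_form_with_basis {k K Λ Λb : Type u} [Field k] (p : ℕ) [Fact p.Prime] [CharP k p]
    [Field K] [Algebra k K] (hH : Module.Finite K (Algebra.H1Cotangent k K))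
    [CommRing Λb] [Algebra k Λb] [IsLocalRing Λb]
    (π : Λb →ₐ[k] K) (hπsurj : Function.Surjective π)
    (hker : RingHom.ker (π : Λb →+* K) = maximalIdeal Λb)
    {d : ℕ} (lam : Fin d → Λb) (hlam : Ideal.span (Set.range lam) = maximalIdeal Λb)
    (n : ℕ) (hn : maximalIdeal Λb ^ n = ⊥) (E : Finset Λb)
    [CommRing Λ] (ψ : Λ →+* Λb)
    (hfrac : ∀ x : Λb, ∃ a s : Λ, IsUnit (ψ s) ∧ x * ψ s = ψ a) :
    ∃ (D' : Subalgebra k Λb) (_ : IsLocalRing D'), (↑E : Set Λb) ⊆ D' ∧ IsArtinianRing D' ∧
      Module.Flat D' Λb ∧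
      (maximalIdeal D').map (algebraMap D' Λb) = maximalIdeal Λb ∧
      (∀ i, lam i ∈ D') ∧
      ∃ (t : ℕ) (y : Fin t → Λ) (hy : ∀ j, ψ (y j) ∈ D'),
        Algebra.EssFiniteType k (ResidueField D') ∧
        LinearIndependent (ResidueField D')
          (fun j => KaehlerDifferential.D k (ResidueField D') (residue D' ⟨ψ (y j), hy j⟩)) ∧
        Submodule.span (ResidueField D') (Set.range fun j =>
          KaehlerDifferential.D k (ResidueField D') (residue D' ⟨ψ (y j), hy j⟩)) = ⊤ := by
  classical
  obtain ⟨σ, S₀, hσ, hF⟩ := forms p hH π hπsurj hker lam hlam n hn E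
  obtain ⟨r, G, c, hG, hS₀⟩ := exists_global_elements (k := k) p π hker σ hσ n hn ψ hfrac S₀
  set F₂ : IntermediateField k K := IntermediateField.adjoin k (Set.range c) with hF₂
  obtain ⟨D', hloc, hE, hArt, hflat, hmax, hlamD, hσD, hπD⟩ := hF F₂ hS₀
  haveI := hloc
  haveI := hArt
  have hGD : ∀ l, ψ (G l) ∈ D' := fun l => by
    rw [hG]
    exact hσD _ (IntermediateField.subset_adjoin k _ ⟨l, rfl⟩)
  let g : Fin r → ResidueField D' := fun l => residue D' ⟨ψ (G l), hGD l⟩
  -- the embedding of the residue field of the form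
  let f₀ : ↥D' →+* K := (π : Λb →+* K).comp (D'.val : ↥D' →+* Λb)
  have hf₀ : ∀ x : ↥D', f₀ x = π (x : Λb) := fun x => rfl
  haveI : IsLocalHom f₀ := by
    refine ⟨fun x hx => ?_⟩
    have h1 : (x : Λb) ∉ maximalIdeal Λb := by
      rw [← hker, RingHom.mem_ker]
      intro h0
      rw [hf₀] at hx
      have h2 : π (x : Λb) = 0 := h0
      rw [h2] at hx
      exact not_isUnit_zero hx
    have h3 : IsUnit (x : Λb) := by
      by_contra hnu
      exact h1 ((IsLocalRing.mem_maximalIdeal _).mpr hnu)
    exact isUnit_of_isUnit_val D' x h3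
  let ρK : ResidueField D' →ₐ[k] K :=
    { IsLocalRing.ResidueField.lift f₀ with
      commutes' := fun a => by
        change IsLocalRing.ResidueField.lift f₀ (residue D' (algebraMap k D' a)) = _
        rw [IsLocalRing.ResidueField.lift_residue_apply, hf₀]
        exact π.commutes a }
  have hρres : ∀ x : ↥D', ρK (residue D' x) = π (x : Λb) := fun x => rfl
  have hρg : ∀ l, ρK (g l) = c l := by
    intro l
    change ρK (residue D' ⟨ψ (G l), hGD l⟩) = c l
    rw [hρres]
    change π (ψ (G l)) = c l
    rw [hG, hσ]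
  have hρF₂ : ∀ x : ResidueField D', ρK x ∈ F₂ := by
    intro x
    obtain ⟨x, rfl⟩ := IsLocalRing.residue_surjective x
    rw [hρres]
    exact hπD _ x.2
  have hg : IntermediateField.adjoin k (Set.range g) = ⊤ := by
    rw [eq_top_iff]
    intro x _
    have h1 := hρF₂ x
    have h2 : F₂ = (IntermediateField.adjoin k (Set.range g)).map ρK := by
      rw [IntermediateField.adjoin_map, ← Set.range_comp]
      have h3 : (⇑ρK ∘ g) = c := funext hρg
      rw [h3]
    rw [h2] at h1
    obtain ⟨y, hy, hyx⟩ := h1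
    have : y = x := ρK.toRingHom.injective hyx
    rw [← this]
    exact hy
  obtain ⟨t, J, hli, hsp⟩ := exists_differential_basis g hg
  refine ⟨D', hloc, hE, hArt, hflat, hmax, hlamD, t, fun j => G (J j), fun j => hGD (J j), ?_,
    hli, hsp⟩
  rw [← IntermediateField.fg_top_iff]
  refine ⟨Finset.univ.image g, ?_⟩
  rw [Finset.coe_image, Finset.coe_univ, Set.image_univ]
  exact hg

end Groth.Agent.Helper8.InsB
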