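import Mathlib
import Groth.Prelude
import Groth.Agent.Lib.Helper8.InsB5
import Groth.Agent.Lib.Helper8.InsB6
import Groth.Agent.Lib.Helper8.InsB7
import Groth.Agent.Lib.Helper8.InsB8
import Groth.Agent.Lib.Helper8.DifB9
import Groth.Agent.Lib.Helper8.DifB3
import Groth.Agent.Lib.Helper8.PRad14

/-! The choice of a polynomial ring over which the local ring is flat, with closed fibre the
residue field, together with a form of the Artinian quotient (Stacks 16.11.2 type statement). -/

namespace Groth.Agent.Helper8.InsB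

open MvPolynomial IsLocalRing RingTheory.Sequence Groth.Agent.Helper8.InsA

universe u

set_option maxHeartbeats 3200000 in
set_option synthInstance.maxHeartbeats 200000 in
theorem exists_poly_flat {k Λ : Type u} [Field k] (p : ℕ) [Fact p.Prime] [CharP k p]
    [CommRing Λ] [Algebra k Λ] [IsNoetherianRing Λ] (hreg : CAlg.IsGeometricallyRegular k Λ)
    (𝔮 : Ideal Λ) [𝔮.IsPrime]
    (I : Ideal (Localization.AtPrime 𝔮)) [IsLocalRing (Localization.AtPrime 𝔮 ⧸ I)]
    (hI1 : I ≤ maximalIdeal (Localization.AtPrime 𝔮)) (n : ℕ)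
    (hI2 : maximalIdeal (Localization.AtPrime 𝔮) ^ n ≤ I)
    (E' : Finset Λ) {d : ℕ} (πz : Fin d → Λ)
    (hπz : Ideal.span (Set.range fun i => algebraMap Λ (Localization.AtPrime 𝔮) (πz i)) =
      maximalIdeal (Localization.AtPrime 𝔮)) :
    ∃ (d' t : ℕ) (ℓ : Fin d' ⊕ Fin t → Λ),
      (letI : Algebra (MvPolynomial (Fin d' ⊕ Fin t) k) Λ :=
        (aeval ℓ : MvPolynomial (Fin d' ⊕ Fin t) k →ₐ[k] Λ).toRingHom.toAlgebra
       Module.Flat (MvPolynomial (Fin d' ⊕ Fin t) k) (Localization.AtPrime 𝔮) ∧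
       (𝔮.comap (algebraMap (MvPolynomial (Fin d' ⊕ Fin t) k) Λ)).map
          (algebraMap (MvPolynomial (Fin d' ⊕ Fin t) k) (Localization.AtPrime 𝔮)) =
        maximalIdeal (Localization.AtPrime 𝔮)) ∧
      ∃ (D' : Subalgebra k (Localization.AtPrime 𝔮 ⧸ I)) (_ : IsLocalRing D'),
        IsArtinianRing D' ∧ Module.Flat D' (Localization.AtPrime 𝔮 ⧸ I) ∧
        (maximalIdeal D').map (algebraMap D' (Localization.AtPrime 𝔮 ⧸ I)) =
          maximalIdeal (Localization.AtPrime 𝔮 ⧸ I) ∧
        (∀ x ∈ E', Ideal.Quotient.mk I (algebraMap Λ (Localization.AtPrime 𝔮) x) ∈ D') ∧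
        ∃ (hℓ : ∀ j, Ideal.Quotient.mk I (algebraMap Λ (Localization.AtPrime 𝔮) (ℓ j)) ∈ D'),
          Algebra.EssFiniteType k (ResidueField D') ∧
          Submodule.span (ResidueField D') (Set.range fun j =>
            KaehlerDifferential.D k (ResidueField D') (residue D' ⟨_, hℓ j⟩)) = ⊤ := by
  classical
  let S := Localization.AtPrime 𝔮
  let K := ResidueField S
  have hS : CAlg.IsGeometricallyRegular k S :=
    Groth.Agent.Helper8.PRad.isGeometricallyRegular_localization hreg 𝔮.primeCompl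
  have hH : Module.Finite K (Algebra.H1Cotangent k K) := finite_h1Cotangent_residueField p hS
  let Λb := S ⧸ I
  let mkI : S →+* Λb := Ideal.Quotient.mk I
  have hmaxb : maximalIdeal Λb = (maximalIdeal S).map mkI :=
    Groth.Agent.Helper8.DifB.maximalIdeal_quotient_eq I
  let π : Λb →ₐ[k] K := Ideal.Quotient.liftₐ I (IsScalarTower.toAlgHom k S K) (fun a ha => by
    change residue S a = 0
    rw [residue_eq_zero_iff]
    exact hI1 ha)
  have hπmk : ∀ s : S, π (mkI s) = residue S s := fun s => rfl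
  have hπsurj : Function.Surjective π := by
    intro x
    obtain ⟨s, rfl⟩ := residue_surjective x
    exact ⟨mkI s, hπmk s⟩
  have hker : RingHom.ker (π : Λb →+* K) = maximalIdeal Λb := by
    rw [hmaxb]
    apply le_antisymm
    · intro x hx
      obtain ⟨s, rfl⟩ := Ideal.Quotient.mk_surjective x
      rw [RingHom.mem_ker] at hx
      have h1 : residue S s = 0 := hx
      rw [residue_eq_zero_iff] at h1
      exact Ideal.mem_map_of_mem _ h1
    · rw [Ideal.map_le_iff_le_comap]
      intro s hs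
      rw [Ideal.mem_comap, RingHom.mem_ker]
      change residue S s = 0
      rw [residue_eq_zero_iff]
      exact hs
  let ψ : Λ →+* Λb := mkI.comp (algebraMap Λ S)
  let lam : Fin d → Λb := fun i => ψ (πz i)
  have hlam : Ideal.span (Set.range lam) = maximalIdeal Λb := by
    rw [hmaxb, ← hπz, Ideal.map_span, ← Set.range_comp]
    rfl
  have hn : maximalIdeal Λb ^ n = ⊥ := by
    rw [hmaxb, ← Ideal.map_pow, eq_bot_iff]
    refine (Ideal.map_mono hI2).trans ?_
    rw [Ideal.map_le_iff_le_comap]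
    intro s hs
    rw [Ideal.mem_comap, Ideal.mem_bot]
    exact Ideal.Quotient.eq_zero_iff_mem.mpr hs
  have hfrac : ∀ x : Λb, ∃ a s : Λ, IsUnit (ψ s) ∧ x * ψ s = ψ a := by
    intro x
    obtain ⟨z, rfl⟩ := Ideal.Quotient.mk_surjective x
    obtain ⟨a, s, rfl⟩ := IsLocalization.exists_mk'_eq 𝔮.primeCompl z
    refine ⟨a, s, ?_, ?_⟩
    · exact (IsLocalization.map_units S s).map mkI
    · change mkI (IsLocalization.mk' S a s) * mkI (algebraMap Λ S s) = mkI (algebraMap Λ S a)
      rw [← map_mul, IsLocalization.mk'_spec]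
  obtain ⟨D', hloc, hE, hArt, hflatD, hmaxD, hlamD, t, y, hy, hEss, hli, hsp⟩ :=
    exists_form_with_basis (k := k) p hH π hπsurj hker lam hlam n hn (E'.image ψ) ψ hfrac
  haveI := hloc
  haveI := hArt
  let Fd := ResidueField D'
  -- residues in `D'` versus residues in `S`
  have hres_zero : ∀ z : ↥D', residue D' z = 0 ↔ π (z : Λb) = 0 := by
    intro z
    rw [residue_eq_zero_iff]
    constructor
    · intro hz
      have h1 : (z : Λb) ∈ maximalIdeal Λb := by
        rw [mem_maximalIdeal, mem_nonunits_iff]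
        intro hu
        exact (mem_maximalIdeal _).mp hz (isUnit_of_isUnit_val D' z hu)
      rw [← hker] at h1
      exact h1
    · intro hz
      rw [mem_maximalIdeal, mem_nonunits_iff]
      intro hu
      have h1 : IsUnit (z : Λb) := hu.map D'.val
      have h2 : IsUnit (π (z : Λb)) := h1.map π
      rw [hz] at h2
      exact not_isUnit_zero h2
  -- the first polynomial ring
  let A₀ := MvPolynomial (Fin t) k
  let φt : A₀ →ₐ[k] S := aeval (fun j => algebraMap Λ S (y j))
  let ybar : Fin t → Fd := fun j => residue D' ⟨ψ (y j), hy j⟩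
  let θ : A₀ →ₐ[k] ↥D' := aeval (fun j => (⟨ψ (y j), hy j⟩ : ↥D'))
  have hθ : ∀ h : A₀, ((θ h : ↥D') : Λb) = mkI (φt h) := by
    intro h
    have h1 : (D'.val).comp θ = (Ideal.Quotient.mkₐ k I).comp φt := by
      apply MvPolynomial.algHom_ext
      intro j
      simp only [AlgHom.comp_apply, θ, φt, aeval_X]
      rfl
    exact DFunLike.congr_fun h1 h
  have hθres : ∀ h : A₀, residue D' (θ h) = aeval ybar h := by
    intro h
    have h1 : (IsScalarTower.toAlgHom k ↥D' Fd).comp θ = aeval ybar := by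
      apply MvPolynomial.algHom_ext
      intro j
      simp only [AlgHom.comp_apply, θ, aeval_X]
      rfl
    exact DFunLike.congr_fun h1 h
  have hmem_iff : ∀ h : A₀, φt h ∈ maximalIdeal S ↔ aeval ybar h = 0 := by
    intro h
    rw [← hθres, hres_zero, hθ, hπmk, residue_eq_zero_iff]
  have hpd : ∀ f : A₀, φt f ∈ maximalIdeal S → ∀ j, φt (pderiv j f) ∈ maximalIdeal S := by
    intro f hf j
    rw [hmem_iff] at hf ⊢
    exact Groth.Agent.Helper8.DifB.aeval_pderiv_eq_zero ybar hli f hf j
  obtain ⟨hflat_t, hregfib⟩ := Groth.Agent.Helper8.DifB.main hS φt hpd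
  letI algA₀S : Algebra A₀ S := φt.toRingHom.toAlgebra
  haveI : Module.Flat A₀ S := hflat_t
  let Jt : Ideal S := Ideal.map φt.toRingHom (Ideal.comap φt.toRingHom (maximalIdeal S))
  haveI hregfib' : IsRegularLocalRing (S ⧸ Jt) := hregfib
  have hmaxfib : maximalIdeal (S ⧸ Jt) = (maximalIdeal S).map (Ideal.Quotient.mk Jt) :=
    Groth.Agent.Helper8.DifB.maximalIdeal_quotient_eq Jt
  let xbar : Fin d → S ⧸ Jt := fun i => Ideal.Quotient.mk Jt (algebraMap Λ S (πz i))
  have hxbar : Ideal.span (Set.range xbar) = maximalIdeal (S ⧸ Jt) := by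
    rw [hmaxfib, ← hπz, Ideal.map_span, ← Set.range_comp]
    rfl
  obtain ⟨d', I₀, hwreg, hspanI₀⟩ := exists_regular_subfamily (S ⧸ Jt) xbar hxbar
  let f : Fin d' → S := fun i => algebraMap Λ S (πz (I₀ i))
  have hπzmem : ∀ i, algebraMap Λ S (πz i) ∈ maximalIdeal S := fun i => by
    rw [← hπz]; exact Ideal.subset_span ⟨i, rfl⟩
  have hπz𝔮 : ∀ i, πz i ∈ 𝔮 := fun i =>
    (IsLocalization.AtPrime.to_map_mem_maximal_iff S 𝔮 (πz i)).mp (hπzmem i)
  -- the big polynomial ring
  let ℓ : Fin d' ⊕ Fin t → Λ := Sum.elim (πz ∘ I₀) y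
  let P := MvPolynomial (Fin d' ⊕ Fin t) k
  letI algPΛ : Algebra P Λ := (aeval ℓ : P →ₐ[k] Λ).toRingHom.toAlgebra
  have hPΛ : ∀ q : P, algebraMap P Λ q = aeval ℓ q := fun q => rfl
  have hPS : ∀ q : P, algebraMap P S q = algebraMap Λ S (aeval ℓ q) := fun q => by
    rw [IsScalarTower.algebraMap_apply P Λ S, hPΛ]
  let Q := MvPolynomial (Fin d') A₀
  let e : Q ≃+* P := (sumRingEquiv k (Fin d') (Fin t)).symm
  letI algQS : Algebra Q S := ((algebraMap P S).comp (e : Q →+* P)).toAlgebra
  have hQS : ∀ q : Q, algebraMap Q S q = algebraMap P S (e q) := fun q => rfl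
  haveI towA₀QS : IsScalarTower A₀ Q S := by
    refine IsScalarTower.of_algebraMap_eq' ?_
    change φt.toRingHom = (algebraMap Q S).comp (algebraMap A₀ Q)
    apply MvPolynomial.ringHom_ext
    · intro a
      change φt (C a) = algebraMap P S (e (C (C a)))
      rw [sumRingEquiv_symm_C_C, hPS]
      simp only [φt, aeval_C]
      rw [← IsScalarTower.algebraMap_apply]
      exact aeval_C _ a
    · intro j
      change φt (X j) = algebraMap P S (e (C (X j)))
      rw [sumRingEquiv_symm_C_X, hPS]
      simp only [φt, aeval_X, ℓ, Sum.elim_inr]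
      exact aeval_X _ j
  have hX : ∀ i, algebraMap Q S (X i) = f i := by
    intro i
    rw [hQS, sumRingEquiv_symm_X, hPS, aeval_X]
    rfl
  have hf : ∀ i, f i ∈ maximalIdeal S := fun i => hπzmem _
  have hregS : IsWeaklyRegular
      (S ⧸ (((maximalIdeal S).comap (algebraMap A₀ S)).map (algebraMap A₀ S) •
        (⊤ : Submodule S S))) (List.ofFn f) := by
    have h1 : IsWeaklyRegular (S ⧸ Jt) ((List.ofFn f).map (algebraMap S (S ⧸ Jt))) := by
      rw [List.map_ofFn]
      exact hwreg
    rw [isWeaklyRegular_map_algebraMap_iff] at h1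
    have h2 : (Jt : Submodule S S) = Jt • (⊤ : Submodule S S) := by
      rw [smul_eq_mul, Ideal.mul_top]
    exact (LinearEquiv.isWeaklyRegular_congr (Submodule.quotEquivOfEq _ _ h2) (List.ofFn f)).mp h1
  have hflatQ : Module.Flat Q S := flat_mvPolynomial_of_regular' f hf hregS hX
  letI algQP : Algebra Q P := (e : Q →+* P).toAlgebra
  haveI towQPS : IsScalarTower Q P S := IsScalarTower.of_algebraMap_eq (fun q => rfl)
  have hflatP : Module.Flat P S :=
    flat_of_surjective_of_flat (A₀ := Q) (A' := P) (M := S) e.surjective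
  -- the closed fibre
  have hfib : (𝔮.comap (algebraMap P Λ)).map (algebraMap P S) = maximalIdeal S := by
    apply le_antisymm
    · rw [Ideal.map_le_iff_le_comap]
      intro q hq
      rw [Ideal.mem_comap, IsScalarTower.algebraMap_apply P Λ S]
      exact (IsLocalization.AtPrime.to_map_mem_maximal_iff S 𝔮 _).mpr hq
    · have h1 : maximalIdeal S = Ideal.span (Set.range f) ⊔ Jt := by
        have h2 : (maximalIdeal (S ⧸ Jt)).comap (Ideal.Quotient.mk Jt) = maximalIdeal S := by
          rw [hmaxfib, Ideal.comap_map_of_surjective _ Ideal.Quotient.mk_surjective,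
            ← RingHom.ker_eq_comap_bot, Ideal.mk_ker]
          refine sup_eq_left.mpr ?_
          rw [Ideal.map_le_iff_le_comap]
        rw [← h2, ← hspanI₀]
        have h3 : Ideal.span (Set.range (xbar ∘ I₀)) =
            (Ideal.span (Set.range f)).map (Ideal.Quotient.mk Jt) := by
          rw [Ideal.map_span, ← Set.range_comp]
          rfl
        rw [h3, Ideal.comap_map_of_surjective _ Ideal.Quotient.mk_surjective,
          ← RingHom.ker_eq_comap_bot, Ideal.mk_ker]
      rw [h1, sup_le_iff]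
      constructor
      · rw [Ideal.span_le]
        rintro _ ⟨i, rfl⟩
        have h2 : (X (Sum.inl i) : P) ∈ 𝔮.comap (algebraMap P Λ) := by
          rw [Ideal.mem_comap, hPΛ, aeval_X]
          exact hπz𝔮 _
        have h3 := Ideal.mem_map_of_mem (algebraMap P S) h2
        rw [hPS, aeval_X] at h3
        exact h3
      · rw [Ideal.map_le_iff_le_comap]
        intro a ha
        rw [Ideal.mem_comap]
        have h2 : φt.toRingHom a = algebraMap P S (e (C a)) := by
          have := IsScalarTower.algebraMap_apply A₀ Q S a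
          exact this
        rw [h2]
        apply Ideal.mem_map_of_mem
        rw [Ideal.mem_comap]
        have h3 : algebraMap Λ S (algebraMap P Λ (e (C a))) ∈ maximalIdeal S := by
          rw [← IsScalarTower.algebraMap_apply P Λ S, ← h2]
          exact ha
        exact (IsLocalization.AtPrime.to_map_mem_maximal_iff S 𝔮 _).mp h3
  refine ⟨d', t, ℓ, ⟨hflatP, hfib⟩, D', hloc, hArt, hflatD, hmaxD, ?_, ?_⟩
  · intro x hx
    exact hE (Finset.mem_coe.mpr (Finset.mem_image_of_mem ψ hx))
  · have hℓ : ∀ j, Ideal.Quotient.mk I (algebraMap Λ S (ℓ j)) ∈ D' := by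
      rintro (i | j)
      · exact hlamD (I₀ i)
      · exact hy j
    refine ⟨hℓ, hEss, ?_⟩
    rw [eq_top_iff, ← hsp]
    apply Submodule.span_mono
    rintro _ ⟨j, rfl⟩
    exact ⟨Sum.inr j, rfl⟩

end Groth.Agent.Helper8.InsB
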