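import Mathlib
import Groth.Agent.Lib.Helper7.SymFree.Main

/-!
# Separable residue fields, V: the symmetric algebra trick with smoothness
-/

set_option autoImplicit false
universe u

namespace Groth.Agent.Helper8.SepR

open TensorProduct KaehlerDifferential Groth.Agent.Helper7.SymFree

/-- General form with smoothness. -/
theorem exists_of_split_strong (R A : Type u) [CommRing R] [CommRing A] [Algebra R A]
    (N : Type u) [AddCommGroup N] [Module A N] [Module.Finite A N]
    (F : Type u) [AddCommGroup F] [Module A F] [Module.Free A F]
    (hsplit : ∀ a : A, Algebra.Smooth R (Localization.Away a) →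
      Nonempty (Localization.Away a ⊗[A] F ≃ₗ[Localization.Away a]
        (Localization.Away a ⊗[A] N) × (Localization.Away a ⊗[A] Ω[A⁄R]))) :
    ∃ (C : Type u) (_ : CommRing C) (_ : Algebra A C) (_ : Algebra R C) (_ : IsScalarTower R A C),
      Algebra.FiniteType A C ∧ Nonempty (C →ₐ[A] A) ∧
      ∀ a : A, Algebra.Smooth R (Localization.Away a) →
        Module.Free (Localization.Away (algebraMap A C a))
          Ω[Localization.Away (algebraMap A C a)⁄R] ∧
        Algebra.FormallySmooth R (Localization.Away (algebraMap A C a)) := by
  letI algRC : Algebra R (SymmetricAlgebra A N) :=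
    ((algebraMap A (SymmetricAlgebra A N)).comp (algebraMap R A)).toAlgebra
  haveI tow : IsScalarTower R A (SymmetricAlgebra A N) :=
    IsScalarTower.of_algebraMap_eq (fun _ => rfl)
  refine ⟨SymmetricAlgebra A N, inferInstance, inferInstance, algRC, tow,
    finiteType_symmetricAlgebra A N, ⟨SymmetricAlgebra.algebraMapInv⟩, ?_⟩
  intro a ha
  obtain ⟨e⟩ := hsplit a ha
  haveI : Algebra.FormallySmooth R (Localization.Away a) := ha.formallySmooth
  letI algAaT : Algebra (Localization.Away a)
      (Localization.Away (algebraMap A (SymmetricAlgebra A N) a)) :=
    (Localization.awayMap (algebraMap A (SymmetricAlgebra A N)) a).toAlgebra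
  haveI : IsScalarTower A (Localization.Away a)
      (Localization.Away (algebraMap A (SymmetricAlgebra A N) a)) :=
    IsScalarTower.of_algebraMap_eq (fun x => by
      show _ = Localization.awayMap (algebraMap A (SymmetricAlgebra A N)) a (algebraMap A _ x)
      rw [Localization.awayMap, IsLocalization.Away.map, IsLocalization.map_eq]
      exact IsScalarTower.algebraMap_apply A (SymmetricAlgebra A N) _ x)
  haveI : IsScalarTower R A (Localization.Away (algebraMap A (SymmetricAlgebra A N) a)) :=
    IsScalarTower.of_algebraMap_eq (fun x => by
      rw [IsScalarTower.algebraMap_apply R (SymmetricAlgebra A N),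
        IsScalarTower.algebraMap_apply R A (SymmetricAlgebra A N),
        ← IsScalarTower.algebraMap_apply A (SymmetricAlgebra A N)])
  refine ⟨free_kaehler R A N (Localization.Away a) a
    (Localization.Away (algebraMap A (SymmetricAlgebra A N) a)) F e, ?_⟩
  haveI : Module.Projective (Localization.Away a) (Localization.Away a ⊗[A] N) :=
    Module.Projective.of_split (e.symm.toLinearMap ∘ₗ LinearMap.inl (Localization.Away a) _ _)
      (LinearMap.fst (Localization.Away a) _ _ ∘ₗ e.toLinearMap) (by ext x; simp)
  haveI : Algebra.FormallySmooth (Localization.Away a)
      (Localization.Away (algebraMap A (SymmetricAlgebra A N) a)) :=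
    formallySmooth_away A N (Localization.Away a) a
      (Localization.Away (algebraMap A (SymmetricAlgebra A N) a))
  haveI : IsScalarTower R (Localization.Away a)
      (Localization.Away (algebraMap A (SymmetricAlgebra A N) a)) :=
    IsScalarTower.of_algebraMap_eq (fun x => by
      rw [IsScalarTower.algebraMap_apply R A (Localization.Away a),
        ← IsScalarTower.algebraMap_apply A (Localization.Away a),
        ← IsScalarTower.algebraMap_apply R A])
  exact Algebra.FormallySmooth.comp R (Localization.Away a) _

/-- Strong form of the symmetric algebra trick: over the smooth locus the localisations of `C`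
are formally smooth with free module of differentials. -/
theorem exists_C_strong {R A : Type u} [CommRing R] [CommRing A] [Algebra R A]
    [Algebra.FinitePresentation R A] :
    ∃ (C : Type u) (_ : CommRing C) (_ : Algebra A C) (_ : Algebra R C) (_ : IsScalarTower R A C),
      Algebra.FiniteType A C ∧ Nonempty (C →ₐ[A] A) ∧
      ∀ a : A, Algebra.Smooth R (Localization.Away a) →
        Module.Free (Localization.Away (algebraMap A C a))
          Ω[Localization.Away (algebraMap A C a)⁄R] ∧
        Algebra.FormallySmooth R (Localization.Away (algebraMap A C a)) := by
  let P := (Algebra.Presentation.ofFinitePresentation R A).toGenerators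
  haveI : Module.Finite A P.toExtension.Cotangent :=
    Algebra.Extension.Cotangent.finite P.fg_ker_of_finitePresentation
  haveI : Module.Free A P.toExtension.CotangentSpace := Module.Free.of_basis P.cotangentSpaceBasis
  refine exists_of_split_strong R A P.toExtension.Cotangent P.toExtension.CotangentSpace ?_
  intro a ha
  haveI : Algebra.FormallySmooth R (Localization.Away a) := ha.formallySmooth
  exact nonempty_split_localized R A P (Localization.Away a) a

end Groth.Agent.Helper8.SepR
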