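import Mathlib
import Groth.Prelude
import Groth.Agent.Lib.Helper8.FlatReg11
import Groth.Agent.Lib.Helper8.FlatReg6
import Groth.Agent.Lib.Helper8.ABS13
import Groth.Agent.Lib.Helper8.RegularLocal

/-!
# Regularity along a local homomorphism of Noetherian local rings
-/

set_option autoImplicit false
universe u

namespace Groth.Agent.Helper8.LocalHomReg

open IsLocalRing Groth.Agent.Helper8.FlatMod Groth.Agent.Helper8.FlatReg

section local_case

variable (R S : Type u) [CommRing R] [CommRing S] [IsLocalRing R] [IsLocalRing S]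
  [IsNoetherianRing R] [IsNoetherianRing S] [Algebra R S] [IsLocalHom (algebraMap R S)]

/-- The dimension inequality for a local homomorphism. -/
theorem ringKrullDim_le_add :
    ringKrullDim S ≤ ringKrullDim R +
      ringKrullDim (S ⧸ (maximalIdeal R).map (algebraMap R S)) := by
  have h1 := supportDim_tensor_le (R := R) (S := S) S R
  rw [Module.supportDim_eq_of_equiv (TensorProduct.AlgebraTensorModule.rid R S S),
    Module.supportDim_self_eq_ringKrullDim, Module.supportDim_self_eq_ringKrullDim,
    Groth.Agent.Helper8.Depth.supportDim_quot_smul_top_self] at h1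
  exact h1

variable [IsLocalRing (S ⧸ (maximalIdeal R).map (algebraMap R S))]

/-- If `S` is regular and its embedding dimension is the sum of those of `R` and of the closed
fibre, then `R` and the closed fibre are regular and the dimension formula holds. -/
theorem regular_of_spanFinrank_eq_add [IsRegularLocalRing S]
    (h : (maximalIdeal S).spanFinrank = (maximalIdeal R).spanFinrank +
      (maximalIdeal (S ⧸ (maximalIdeal R).map (algebraMap R S))).spanFinrank) :
    IsRegularLocalRing R ∧ IsRegularLocalRing (S ⧸ (maximalIdeal R).map (algebraMap R S)) ∧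
      ringKrullDim S = ringKrullDim R +
        ringKrullDim (S ⧸ (maximalIdeal R).map (algebraMap R S)) := by
  have hS : ((maximalIdeal S).spanFinrank : WithBot ℕ∞) = ringKrullDim S :=
    IsRegularLocalRing.spanFinrank_maximalIdeal
  obtain ⟨a, ha, ha'⟩ := Groth.Agent.Helper8.RLR.exists_nat_eq
    (ringKrullDim_nonneg_of_nontrivial (R := R)) (ringKrullDim_le_spanFinrank_maximalIdeal R)
  obtain ⟨b, hb, hb'⟩ := Groth.Agent.Helper8.RLR.exists_nat_eq
    (ringKrullDim_nonneg_of_nontrivial (R := S ⧸ (maximalIdeal R).map (algebraMap R S)))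
    (ringKrullDim_le_spanFinrank_maximalIdeal (S ⧸ (maximalIdeal R).map (algebraMap R S)))
  have hle := ringKrullDim_le_add R S
  rw [← hS, ha, hb] at hle
  have hle' : (maximalIdeal S).spanFinrank ≤ a + b := by exact_mod_cast hle
  have ha2 : a = (maximalIdeal R).spanFinrank := by omega
  have hb2 : b = (maximalIdeal (S ⧸ (maximalIdeal R).map (algebraMap R S))).spanFinrank := by
    omega
  refine ⟨?_, ?_, ?_⟩
  · apply IsRegularLocalRing.of_spanFinrank_maximalIdeal_le
    rw [ha, ha2]
  · apply IsRegularLocalRing.of_spanFinrank_maximalIdeal_le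
    rw [hb, hb2]
  · rw [← hS, ha, hb, h, ha2, hb2]
    push_cast
    rfl

/-- If `R` and the closed fibre are regular and the dimension formula holds, then `S` is regular
and its embedding dimension is the sum of the two others. -/
theorem regular_of_dim_eq_add [IsRegularLocalRing R]
    [IsRegularLocalRing (S ⧸ (maximalIdeal R).map (algebraMap R S))]
    (h : ringKrullDim S = ringKrullDim R +
      ringKrullDim (S ⧸ (maximalIdeal R).map (algebraMap R S))) :
    IsRegularLocalRing S ∧ (maximalIdeal S).spanFinrank = (maximalIdeal R).spanFinrank +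
      (maximalIdeal (S ⧸ (maximalIdeal R).map (algebraMap R S))).spanFinrank := by
  have hR : ((maximalIdeal R).spanFinrank : WithBot ℕ∞) = ringKrullDim R :=
    IsRegularLocalRing.spanFinrank_maximalIdeal
  have h0 : ((maximalIdeal (S ⧸ (maximalIdeal R).map (algebraMap R S))).spanFinrank :
      WithBot ℕ∞) = ringKrullDim (S ⧸ (maximalIdeal R).map (algebraMap R S)) :=
    IsRegularLocalRing.spanFinrank_maximalIdeal
  have hle := spanFinrank_maximalIdeal_le R S
  have hge := ringKrullDim_le_spanFinrank_maximalIdeal S
  rw [h, ← hR, ← h0] at hge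
  have hge' : (maximalIdeal R).spanFinrank +
      (maximalIdeal (S ⧸ (maximalIdeal R).map (algebraMap R S))).spanFinrank ≤
        (maximalIdeal S).spanFinrank := by exact_mod_cast hge
  have heq : (maximalIdeal S).spanFinrank = (maximalIdeal R).spanFinrank +
      (maximalIdeal (S ⧸ (maximalIdeal R).map (algebraMap R S))).spanFinrank := by omega
  refine ⟨?_, heq⟩
  apply IsRegularLocalRing.of_spanFinrank_maximalIdeal_le
  rw [h, ← hR, ← h0, heq]
  push_cast
  rfl

/-- The equivalences of EGA 0_IV 17.3.3. -/
theorem tfae_regular :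
    [IsRegularLocalRing S ∧
       (maximalIdeal S).spanFinrank = (maximalIdeal R).spanFinrank +
         (maximalIdeal (S ⧸ (maximalIdeal R).map (algebraMap R S))).spanFinrank,
     IsRegularLocalRing S ∧ IsRegularLocalRing (S ⧸ (maximalIdeal R).map (algebraMap R S)) ∧
       Module.Flat R S,
     IsRegularLocalRing R ∧ IsRegularLocalRing (S ⧸ (maximalIdeal R).map (algebraMap R S)) ∧
       Module.Flat R S,
     IsRegularLocalRing R ∧ IsRegularLocalRing (S ⧸ (maximalIdeal R).map (algebraMap R S)) ∧
       ringKrullDim S = ringKrullDim R +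
         ringKrullDim (S ⧸ (maximalIdeal R).map (algebraMap R S))].TFAE := by
  tfae_have 1 → 2 := by
    rintro ⟨hS, h⟩
    obtain ⟨hR, h0, hdim⟩ := regular_of_spanFinrank_eq_add R S h
    haveI := isCohenMacaulayLocalRing_of_isRegularLocalRing S
    exact ⟨hS, h0, miracle_flatness hdim⟩
  tfae_have 2 → 3 := by
    rintro ⟨hS, h0, hflat⟩
    exact ⟨Groth.Agent.Helper8.ABS.isRegularLocalRing_of_flat R S, h0, hflat⟩
  tfae_have 3 → 4 := by
    rintro ⟨hR, h0, hflat⟩
    exact ⟨hR, h0, ringKrullDim_eq_add_of_flat R S⟩
  tfae_have 4 → 1 := by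
    rintro ⟨hR, h0, hdim⟩
    exact regular_of_dim_eq_add R S hdim
  tfae_finish

end local_case

end Groth.Agent.Helper8.LocalHomReg
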