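import Mathlib
import Groth.Prelude
import Groth.Agent.Lib.Helper8.FlatReg6
import Groth.Agent.Lib.Helper8.LocalHomReg

/-!
# Separable residue fields, VI: flatness over the polynomial ring of parameters
-/

set_option autoImplicit false
universe u

namespace Groth.Agent.Helper8.SepR

open MvPolynomial IsLocalRing LocCoh

/-- A regular local ring `Λ_𝔮` is flat over the polynomial ring `k[x_1, …, x_d]` mapping the
variables to a regular system of parameters. -/
theorem flat_of_regular_parameters {k Λ : Type u} [Field k] [CommRing Λ] [IsNoetherianRing Λ]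
    (𝔮 : Ideal Λ) [𝔮.IsPrime] [IsRegularLocalRing (Localization.AtPrime 𝔮)] (d : ℕ)
    (hd : ringKrullDim (Localization.AtPrime 𝔮) = d) (π : Fin d → Λ)
    (hπ : Ideal.span (Set.range fun i => algebraMap Λ (Localization.AtPrime 𝔮) (π i)) =
      𝔮.map (algebraMap Λ (Localization.AtPrime 𝔮)))
    [Algebra (MvPolynomial (Fin d) k) Λ]
    (hX : ∀ i, algebraMap (MvPolynomial (Fin d) k) Λ (X i) = π i) :
    Module.Flat (MvPolynomial (Fin d) k) (Localization.AtPrime 𝔮) := by
  classical
  let R := MvPolynomial (Fin d) k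
  let S := Localization.AtPrime 𝔮
  let 𝔭 : Ideal R := 𝔮.comap (algebraMap R Λ)
  haveI : 𝔭.IsPrime := Ideal.comap_isPrime _ _
  let A₁ := Localization.AtPrime 𝔭
  let ρ : A₁ →+* S := Localization.localRingHom 𝔭 𝔮 (algebraMap R Λ) rfl
  letI algA₁S : Algebra A₁ S := ρ.toAlgebra
  haveI : IsLocalHom (algebraMap A₁ S) := Localization.isLocalHom_localRingHom 𝔭 𝔮 _ rfl
  have hρ : ∀ r : R, algebraMap A₁ S (algebraMap R A₁ r) = algebraMap Λ S (algebraMap R Λ r) :=
    fun r => Localization.localRingHom_to_map 𝔭 𝔮 _ rfl r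
  haveI tow : IsScalarTower R A₁ S := by
    refine IsScalarTower.of_algebraMap_eq (fun r => ?_)
    rw [hρ, ← IsScalarTower.algebraMap_apply]
  haveI : IsCohenMacaulayLocalRing S :=
    Groth.Agent.Helper8.FlatReg.isCohenMacaulayLocalRing_of_isRegularLocalRing S
  -- the maximal ideal of `A₁` generates the maximal ideal of `S`
  have hπ𝔮 : ∀ i, π i ∈ 𝔮 := by
    intro i
    have h1 : algebraMap Λ S (π i) ∈ 𝔮.map (algebraMap Λ S) := by
      rw [← hπ]
      exact Ideal.subset_span ⟨i, rfl⟩
    rw [Localization.AtPrime.map_eq_maximalIdeal] at h1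
    exact (IsLocalization.AtPrime.to_map_mem_maximal_iff S 𝔮 (π i)).mp h1
  have hmax : (maximalIdeal A₁).map (algebraMap A₁ S) = maximalIdeal S := by
    apply le_antisymm
    · exact IsLocalRing.map_maximalIdeal_le (algebraMap A₁ S)
    · rw [← Localization.AtPrime.map_eq_maximalIdeal (I := 𝔮), ← hπ, Ideal.span_le]
      rintro _ ⟨i, rfl⟩
      have h2 : algebraMap R A₁ (X i) ∈ maximalIdeal A₁ := by
        rw [IsLocalization.AtPrime.to_map_mem_maximal_iff A₁ 𝔭]
        change algebraMap R Λ (X i) ∈ 𝔮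
        rw [hX]
        exact hπ𝔮 i
      have h3 := Ideal.mem_map_of_mem (algebraMap A₁ S) h2
      rw [hρ, hX] at h3
      exact h3
  have hfib : ringKrullDim (S ⧸ (maximalIdeal A₁).map (algebraMap A₁ S)) = 0 := by
    rw [hmax]
    exact ringKrullDim_eq_zero_of_isField
      ((Ideal.Quotient.maximal_ideal_iff_isField_quotient _).mp (maximalIdeal.isMaximal S))
  have hdimA₁ : ringKrullDim A₁ = d := by
    apply le_antisymm
    · rw [IsLocalization.AtPrime.ringKrullDim_eq_height 𝔭 A₁]
      refine (Ideal.height_le_ringKrullDim_of_ne_top (Ideal.IsPrime.ne_top inferInstance)).trans ?_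
      rw [MvPolynomial.ringKrullDim_of_isNoetherianRing, ringKrullDim_eq_zero_of_field, zero_add]
      simp
    · have h1 := Groth.Agent.Helper8.LocalHomReg.ringKrullDim_le_add A₁ S
      rw [hfib, add_zero, hd] at h1
      exact h1
  haveI : Module.Flat A₁ S := by
    refine Groth.Agent.Helper8.FlatReg.miracle_flatness ?_
    rw [hfib, add_zero, hd, hdimA₁]
  haveI : Module.Flat R A₁ := IsLocalization.flat A₁ 𝔭.primeCompl
  exact Module.Flat.trans R A₁ S

end Groth.Agent.Helper8.SepR
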