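import Mathlib
import Groth.Agent.Lib.Helper8.SepR4

/-!
# Separable residue fields, VII: the algebra `B`, with smoothness away from the `a_j`
-/

set_option autoImplicit false
universe u

namespace Groth.Agent.Helper8.SepR

open MvPolynomial

/-- Version of `exists_B` also recording that `B` is formally smooth over `k[x]` away from each
`a_j`. -/
theorem exists_B' {k A : Type u} [CommRing k] [CommRing A] [Algebra k A]
    [Algebra.FinitePresentation k A] (d r n : ℕ) (a : Fin r → A)
    (ha : ∀ j, Algebra.FormallySmooth k (Localization.Away (a j))) :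
    ∃ (B : Type u) (_ : CommRing B) (_ : Algebra k B) (_ : Algebra A B)
      (_ : Algebra (MvPolynomial (Fin d) k) B) (_ : IsScalarTower k A B)
      (_ : IsScalarTower k (MvPolynomial (Fin d) k) B),
      Algebra.FinitePresentation (MvPolynomial (Fin d) k) B ∧
      (∀ i, Algebra.FormallySmooth (MvPolynomial (Fin d) k)
        (Localization.Away (algebraMap (MvPolynomial (Fin d) k) B (X i)))) ∧
      (∀ j, Algebra.FormallySmooth (MvPolynomial (Fin d) k)
        (Localization.Away (algebraMap A B (a j)))) ∧
      ∀ (Λ : Type u) [CommRing Λ] [Algebra k Λ] (φ : A →ₐ[k] Λ) (π : Fin d → Λ)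
        (lam : Fin d → Fin r → Λ), (∀ i, π i ^ n = ∑ j, lam i j * φ (a j)) →
        ∃ β : B →ₐ[k] Λ, (∀ x, β (algebraMap A B x) = φ x) ∧
          ∀ p : MvPolynomial (Fin d) k,
            β (algebraMap (MvPolynomial (Fin d) k) B p) = aeval π p := by
  classical
  letI := algPolyBB k A d r n a
  haveI := towerPolyBB k A d r n a
  refine ⟨BB A d r n a, inferInstance, inferInstance, inferInstance, algPolyBB k A d r n a,
    inferInstance, towerPolyBB k A d r n a, finitePresentation_polyBB k A d r n a, ?_, ?_, ?_⟩
  · intro i
    rw [algebraMap_polyBB_X]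
    exact formallySmooth_away_x k A d r n a ha i
  · intro j
    haveI := ha j
    exact formallySmooth_away_a k A d r n a j
  · intro Λ _ _ φ π lam hrel
    letI algAΛ : Algebra A Λ := φ.toRingHom.toAlgebra
    haveI towΛ : IsScalarTower k A Λ := IsScalarTower.of_algebraMap_eq (fun c => (φ.commutes c).symm)
    let vals : VarB d r → Λ := fun o => match o with
      | Sum.inl i => π i
      | Sum.inr (i, j) => lam i j
    have hkill : ∀ q ∈ Ideal.span (Set.range (relB A d r n a)),
        (aeval vals : MvPolynomial (VarB d r) A →ₐ[A] Λ) q = 0 := by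
      intro q hq
      have hle : Ideal.span (Set.range (relB A d r n a)) ≤
          RingHom.ker (aeval vals : MvPolynomial (VarB d r) A →ₐ[A] Λ).toRingHom := by
        rw [Ideal.span_le]
        rintro _ ⟨i, rfl⟩
        rw [SetLike.mem_coe, RingHom.mem_ker]
        change aeval vals (relB A d r n a i) = 0
        simp only [relB, map_sub, map_pow, map_sum, map_mul, aeval_X, aeval_C]
        rw [sub_eq_zero]
        exact hrel i
      exact hle hq
    let β₀ : BB A d r n a →ₐ[A] Λ := Ideal.Quotient.liftₐ _ (aeval vals) hkill
    have hβ₀X : ∀ o, β₀ (Ideal.Quotient.mk _ (X o)) = vals o := fun o => by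
      change aeval vals (X o) = _
      rw [aeval_X]
    refine ⟨β₀.restrictScalars k, fun x => ?_, fun p => ?_⟩
    · exact β₀.commutes x
    · have : ((β₀.restrictScalars k).comp
          (IsScalarTower.toAlgHom k (MvPolynomial (Fin d) k) (BB A d r n a))) = aeval π := by
        refine MvPolynomial.algHom_ext fun i => ?_
        change β₀ (algebraMap (MvPolynomial (Fin d) k) (BB A d r n a) (X i)) = _
        rw [algebraMap_polyBB_X, aeval_X]
        exact hβ₀X (Sum.inl i)
      exact DFunLike.congr_fun this p

end Groth.Agent.Helper8.SepR
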