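import Mathlib
import Groth.Agent.Lib.Helper8.SepR5
import Groth.Agent.Lib.Helper8.SepR6
import Groth.Agent.Lib.Helper8.SepR7
import Groth.Agent.Lib.Helper8.SepR9
import Groth.Agent.Lib.Helper8.SepR10
import Groth.Agent.Lib.Helper8.LiftB5
import Groth.Agent.Lib.Helper3.AnnPi3

/-!
# Separable residue fields, XI: the main argument
-/

set_option autoImplicit false
universe u

namespace Groth.Agent.Helper8.SepR

open MvPolynomial IsLocalRing

/-- A power of a prime minimal over the radical of `I` lies in `I`, locally at the prime. -/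
theorem exists_pow_le {Λ : Type u} [CommRing Λ] [IsNoetherianRing Λ] (I : Ideal Λ) (𝔮 : Ideal Λ)
    [𝔮.IsPrime] (hmin : 𝔮 ∈ I.radical.minimalPrimes) :
    ∃ n : ℕ, 0 < n ∧ (𝔮 ^ n).map (algebraMap Λ (Localization.AtPrime 𝔮)) ≤
      I.map (algebraMap Λ (Localization.AtPrime 𝔮)) := by
  let S := Localization.AtPrime 𝔮
  have hrad : maximalIdeal S ≤ (I.map (algebraMap Λ S)).radical := by
    rw [Ideal.radical_eq_sInf]
    refine le_sInf fun P' hP'' => ?_
    obtain ⟨hP'le, hP'⟩ := hP''
    haveI := hP'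
    have h1 : I.radical ≤ P'.comap (algebraMap Λ S) := by
      refine (Ideal.IsPrime.radical_le_iff (Ideal.comap_isPrime _ _)).mpr ?_
      exact Ideal.le_comap_of_map_le hP'le
    have h2 : P'.comap (algebraMap Λ S) ≤ 𝔮 := by
      have h4 := Ideal.comap_mono (f := algebraMap Λ S) (IsLocalRing.le_maximalIdeal hP'.ne_top)
      exact h4.trans (IsLocalization.AtPrime.under_maximalIdeal S 𝔮).le
    have h3 : 𝔮 ≤ P'.comap (algebraMap Λ S) := hmin.2 ⟨Ideal.comap_isPrime _ _, h1⟩ h2
    rw [← Localization.AtPrime.map_eq_maximalIdeal, ← IsLocalization.map_under 𝔮.primeCompl S P']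
    exact Ideal.map_mono h3
  obtain ⟨n, hn⟩ := Ideal.exists_pow_le_of_le_radical_of_fg hrad (IsNoetherian.noetherian _)
  refine ⟨n + 1, Nat.succ_pos n, ?_⟩
  rw [Ideal.map_pow, Localization.AtPrime.map_eq_maximalIdeal]
  exact (Ideal.pow_le_pow_right (Nat.le_succ n)).trans hn


set_option maxHeartbeats 1600000 in
set_option synthInstance.maxHeartbeats 200000 in
/-- The main argument, with the auxiliary algebras `B` and `C` given. -/
theorem main_aux {k A Λ : Type u} [Field k] [CommRing A] [Algebra k A]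
    [Algebra.FinitePresentation k A] [CommRing Λ] [Algebra k Λ] [IsNoetherianRing Λ]
    (φ : A →ₐ[k] Λ) (𝔮 : Ideal Λ) [𝔮.IsPrime] [IsRegularLocalRing (Localization.AtPrime 𝔮)]
    [Algebra.IsGeometricallyReduced k 𝔮.ResidueField] (d : ℕ)
    (hd : ringKrullDim (Localization.AtPrime 𝔮) = d) (n : ℕ) (hn : 0 < n)
    (hpow : (𝔮 ^ n).map (algebraMap Λ (Localization.AtPrime 𝔮)) ≤
      ((Smoothing.singularIdeal k A).map φ).map (algebraMap Λ (Localization.AtPrime 𝔮)))
    (r : ℕ) (a : Fin r → A) (ha : Ideal.span (Set.range a) = Smoothing.singularIdeal k A)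
    (B : Type u) [CommRing B] [Algebra k B] [Algebra A B] [Algebra (MvPolynomial (Fin d) k) B]
    [IsScalarTower k A B] [IsScalarTower k (MvPolynomial (Fin d) k) B]
    [Algebra.FinitePresentation (MvPolynomial (Fin d) k) B]
    (hsmx : ∀ i, Algebra.FormallySmooth (MvPolynomial (Fin d) k)
      (Localization.Away (algebraMap (MvPolynomial (Fin d) k) B (X i))))
    (hsma : ∀ j, Algebra.FormallySmooth (MvPolynomial (Fin d) k)
      (Localization.Away (algebraMap A B (a j))))
    (huniv : ∀ (π : Fin d → Λ) (lam : Fin d → Fin r → Λ),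
      (∀ i, π i ^ n = ∑ j, lam i j * φ (a j)) →
      ∃ β : B →ₐ[k] Λ, (∀ x, β (algebraMap A B x) = φ x) ∧
        ∀ p : MvPolynomial (Fin d) k,
          β (algebraMap (MvPolynomial (Fin d) k) B p) = aeval π p)
    (C : Type u) [CommRing C] [Algebra B C] [Algebra (MvPolynomial (Fin d) k) C]
    [IsScalarTower (MvPolynomial (Fin d) k) B C] (hftC : Algebra.FiniteType B C)
    (ρ : C →ₐ[B] B)
    (hC : ∀ b : B, Algebra.Smooth (MvPolynomial (Fin d) k) (Localization.Away b) →
      Module.Free (Localization.Away (algebraMap B C b))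
        Ω[Localization.Away (algebraMap B C b)⁄MvPolynomial (Fin d) k] ∧
      Algebra.FormallySmooth (MvPolynomial (Fin d) k)
        (Localization.Away (algebraMap B C b))) :
    Smoothing.Resolvable k φ 𝔮 := by
  classical
  let R := MvPolynomial (Fin d) k
  let S := Localization.AtPrime 𝔮
  -- `C` is finitely presented over `R`
  haveI hfpC : Algebra.FinitePresentation R C := by
    haveI : Algebra.FiniteType R B := inferInstance
    haveI : Algebra.FiniteType R C := Algebra.FiniteType.trans (inferInstance : Algebra.FiniteType R B) hftC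
    exact Algebra.FinitePresentation.of_finiteType.mp inferInstance
  have hsmooth_of : ∀ b : B, Algebra.FormallySmooth R (Localization.Away b) →
      Algebra.Smooth R (Localization.Away b) := by
    intro b hb
    haveI : Algebra.FinitePresentation B (Localization.Away b) :=
      IsLocalization.Away.finitePresentation b
    haveI : Algebra.FinitePresentation R (Localization.Away b) :=
      Algebra.FinitePresentation.trans R B (Localization.Away b)
    exact ⟨hb, inferInstance⟩
  -- strictly standard powers of the variables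
  have hstd : ∀ i : Fin d, ∃ e₀ : ℕ, ∀ m : ℕ, e₀ ≤ m →
      Smoothing.IsStrictlyStandard R C (algebraMap R C (X i) ^ m) := by
    intro i
    have h1 := hC (algebraMap R B (X i)) (hsmooth_of _ (hsmx i))
    have h2 := exists_strictlyStandard_pow (R := R) (algebraMap B C (algebraMap R B (X i))) h1.2 h1.1
    rw [← IsScalarTower.algebraMap_apply R B C] at h2
    exact h2
  choose e₀ he₀ using hstd
  let c₀ : ℕ := Finset.univ.sup e₀ + 1
  have hc₀ : ∀ i, e₀ i ≤ c₀ := fun i =>
    (Finset.le_sup (f := e₀) (Finset.mem_univ i)).trans (Nat.le_succ _)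
  have hc₀pos : 0 < c₀ := Nat.succ_pos _
  -- the parameters
  let I : Ideal Λ := (Smoothing.singularIdeal k A).map φ
  obtain ⟨π₀, h1, h2⟩ := Groth.Agent.Helper3.AnnPi.exists_init 𝔮 hd I n hn hpow
  obtain ⟨π, h3, h4, h5⟩ := Groth.Agent.Helper3.AnnPi.exists_good 𝔮 hd I n (c₀ * 8)
    (Nat.mul_pos hc₀pos (by norm_num)) π₀ h1 h2 d le_rfl
  have hπ𝔮 : ∀ i, π i ∈ 𝔮 := by
    intro i
    have h6 : algebraMap Λ S (π i) ∈ maximalIdeal S := by
      rw [← h3]
      exact Ideal.subset_span ⟨i, rfl⟩
    exact (IsLocalization.AtPrime.to_map_mem_maximal_iff S 𝔮 (π i)).mp h6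
  have hIspan : I = Ideal.span (Set.range fun j => φ (a j)) := by
    change (Smoothing.singularIdeal k A).map φ = _
    rw [← ha, Ideal.map_span, ← Set.range_comp]
    rfl
  have hlam : ∀ i, ∃ lam : Fin r → Λ, π i ^ n = ∑ j, lam j * φ (a j) := by
    intro i
    have h6 := h4 i
    rw [hIspan, Ideal.mem_span_range_iff_exists_fun] at h6
    obtain ⟨lam, hl⟩ := h6
    exact ⟨lam, hl.symm⟩
  choose lam hlam' using hlam
  obtain ⟨β, hβA, hβR⟩ := huniv π lam hlam'
  -- `Λ` as an `R`-algebra
  letI algRΛ : Algebra R Λ := (aeval π : R →ₐ[k] Λ).toRingHom.toAlgebra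
  haveI towkRΛ : IsScalarTower k R Λ :=
    IsScalarTower.of_algebraMap_eq (fun c => ((aeval π : R →ₐ[k] Λ).commutes c).symm)
  have hX : ∀ i, algebraMap R Λ (X i) = π i := fun i => aeval_X _ _
  have halg : ∀ p : R, algebraMap R Λ p = aeval π p := fun p => rfl
  let βR : B →ₐ[R] Λ := { β.toRingHom with commutes' := fun p => hβR p }
  let φC : C →ₐ[R] Λ := βR.comp (ρ.restrictScalars R)
  -- `C` as a `k`-algebra
  letI algkC : Algebra k C := ((algebraMap R C).comp (algebraMap k R)).toAlgebra
  haveI towkRC : IsScalarTower k R C := IsScalarTower.of_algebraMap_eq (fun _ => rfl)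
  haveI towkBC : IsScalarTower k B C := by
    refine IsScalarTower.of_algebraMap_eq (fun c => ?_)
    change algebraMap R C (algebraMap k R c) = _
    rw [IsScalarTower.algebraMap_apply R B C, ← IsScalarTower.algebraMap_apply k R B]
  let α : A →ₐ[k] C := (IsScalarTower.toAlgHom k B C).comp (IsScalarTower.toAlgHom k A B)
  have hαa : ∀ x : A, α x = algebraMap B C (algebraMap A B x) := fun x => rfl
  have hcomp : ∀ x : A, φC (α x) = φ x := by
    intro x
    change β (ρ (algebraMap B C (algebraMap A B x))) = φ x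
    rw [ρ.commutes]
    exact hβA x
  -- flatness
  have hπspan : Ideal.span (Set.range fun i => algebraMap Λ S (π i)) =
      𝔮.map (algebraMap Λ S) := by
    rw [h3, Localization.AtPrime.map_eq_maximalIdeal]
  haveI hflat : Module.Flat R S := flat_of_regular_parameters 𝔮 d hd π hπspan hX
  -- apply the lifting lemma
  let π' : Fin d → R := fun i => X i ^ c₀
  have hπ' : ∀ i, algebraMap R Λ (π' i) = π i ^ c₀ := by
    intro i
    change algebraMap R Λ (X i ^ c₀) = _
    rw [map_pow, hX]
  let K : Ideal R := Ideal.span (Set.range fun i => π' i ^ 8)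
  have hK𝔮 : K.map (algebraMap R Λ) ≤ 𝔮 := by
    rw [Ideal.map_span, Ideal.span_le]
    rintro _ ⟨_, ⟨i, rfl⟩, rfl⟩
    rw [map_pow, hπ', SetLike.mem_coe]
    exact Ideal.pow_mem_of_mem _ (Ideal.pow_mem_of_mem _ (hπ𝔮 i) _ hc₀pos) _ (by norm_num)
  have hresK : Smoothing.Resolvable (R ⧸ K) (quotAlgHom φC K)
      (𝔮.map (Ideal.Quotient.mk (K.map (algebraMap R Λ)))) := by
    refine resolvable_quot (k := k) K (quotAlgHom φC K) 𝔮 hK𝔮
      (aeval (0 : Fin d → k) : R →ₐ[k] k) ?_ (X : Fin d → R) (ker_aeval_zero k (Fin d)) (c₀ * 8)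
      ?_ ?_ (indSmooth_of_isGeometricallyReduced k 𝔮.ResidueField)
    · rw [Ideal.span_le]
      rintro _ ⟨i, rfl⟩
      rw [SetLike.mem_coe, RingHom.mem_ker]
      change aeval (0 : Fin d → k) ((X i ^ c₀) ^ 8) = 0
      rw [map_pow, map_pow, aeval_X, Pi.zero_apply, zero_pow hc₀pos.ne', zero_pow (by norm_num)]
    · intro i
      rw [pow_mul]
      exact Ideal.subset_span ⟨i, rfl⟩
    · rw [← h3]
      congr 2
      funext i
      rw [IsScalarTower.algebraMap_apply R Λ S, hX]
  refine resolvable_of_resolvable_over φ α φC hcomp 𝔮 ?_ ?_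
  · -- the singular ideal of `A` lands in the singular radical of `C`
    change I ≤ _
    rw [hIspan, Ideal.span_le]
    rintro _ ⟨j, rfl⟩
    change φ (a j) ∈ Smoothing.singRad R φC
    rw [← hcomp]
    apply Ideal.le_radical
    apply Ideal.mem_map_of_mem
    rw [hαa]
    exact LocTr.mem_singularIdeal_of_formallySmooth _
      (hC (algebraMap A B (a j)) (hsmooth_of _ (hsma j))).2
  · refine LiftB.resolve_sequence φC 𝔮 π' ?_ ?_ ?_ ?_ K rfl (quotAlgHom φC K)
      (quotAlgHom_mk φC K) hresK
    · intro i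
      rw [hπ']
      exact Ideal.pow_mem_of_mem _ (hπ𝔮 i) _ hc₀pos
    · intro i x hx
      exact hR_poly k d c₀ i x hx
    · intro i x hx
      obtain ⟨z, rfl⟩ := Ideal.Quotient.mk_surjective x
      have hset : Ideal.span (Set.range fun j : {j : Fin d // (j : ℕ) < (i : ℕ)} =>
          algebraMap R Λ (π' j) ^ 8) = Groth.Agent.Helper3.AnnPi.Jpow π (c₀ * 8) i := by
        unfold Groth.Agent.Helper3.AnnPi.Jpow
        congr 2
        funext j
        rw [hπ', ← pow_mul]
      rw [← map_pow, ← map_mul, Ideal.Quotient.eq_zero_iff_mem, hset, hπ'] at hx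
      rw [← map_mul, Ideal.Quotient.eq_zero_iff_mem, hset, hπ']
      -- reduce to the quotient ring
      have hann := LiftB.ann_pow (M := Λ ⧸ Groth.Agent.Helper3.AnnPi.Jpow π (c₀ * 8) i)
        (Ideal.Quotient.mk _ (π i)) (by
          intro y hy
          obtain ⟨w, rfl⟩ := Ideal.Quotient.mk_surjective y
          rw [← map_pow, ← map_mul, Ideal.Quotient.eq_zero_iff_mem] at hy
          rw [← map_mul, Ideal.Quotient.eq_zero_iff_mem]
          exact h5 i i.2 w hy)
      have h7 : (Ideal.Quotient.mk (Groth.Agent.Helper3.AnnPi.Jpow π (c₀ * 8) i)) (π i) ^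
          (c₀ * 2 - 1 + 1) * Ideal.Quotient.mk _ z = 0 := by
        rw [Nat.sub_add_cancel (by omega), ← map_pow, ← map_mul,
          Ideal.Quotient.eq_zero_iff_mem, pow_mul]
        exact hx
      have h8 := hann _ _ h7
      rw [← map_mul, Ideal.Quotient.eq_zero_iff_mem] at h8
      have h9 : π i ^ c₀ * z = π i ^ (c₀ - 1) * (π i * z) := by
        rw [← mul_assoc, ← pow_succ, Nat.sub_add_cancel hc₀pos]
      rw [h9]
      exact Ideal.mul_mem_left _ _ h8
    · intro i
      change Smoothing.IsStrictlyStandard R C (algebraMap R C (X i ^ c₀))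
      rw [map_pow]
      exact he₀ i c₀ (hc₀ i)


set_option maxHeartbeats 800000 in
set_option synthInstance.maxHeartbeats 200000 in
/-- **Separable residue fields** (Stacks, Smoothing ring maps): over a field `k`, a problem
`k → A → Λ ⊇ 𝔮` with `Λ_𝔮` regular and `κ(𝔮)/k` separable can be resolved. -/
theorem main {k A Λ : Type u} [Field k] [CommRing A] [Algebra k A]
    [Algebra.FinitePresentation k A] [CommRing Λ] [Algebra k Λ] [IsNoetherianRing Λ]
    (φ : A →ₐ[k] Λ) (𝔮 : Ideal Λ) [𝔮.IsPrime]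
    (hmin : 𝔮 ∈ (Smoothing.singRad k φ).minimalPrimes)
    [IsRegularLocalRing (Localization.AtPrime 𝔮)]
    [Algebra.IsGeometricallyReduced k 𝔮.ResidueField] : Smoothing.Resolvable k φ 𝔮 := by
  classical
  let S := Localization.AtPrime 𝔮
  obtain ⟨d, hd⟩ : ∃ d : ℕ, ringKrullDim S = d :=
    ⟨_, (IsRegularLocalRing.spanFinrank_maximalIdeal (R := S)).symm⟩
  obtain ⟨n, hn, hpow⟩ := exists_pow_le ((Smoothing.singularIdeal k A).map φ) 𝔮 hmin
  haveI : IsNoetherianRing A := Algebra.FiniteType.isNoetherianRing k A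
  obtain ⟨r, a, ha⟩ := (Submodule.fg_iff_exists_fin_generating_family).mp
    (IsNoetherian.noetherian (Smoothing.singularIdeal k A))
  have ha' : Ideal.span (Set.range a) = Smoothing.singularIdeal k A := ha
  have hsm : ∀ j, Algebra.FormallySmooth k (Localization.Away (a j)) := by
    intro j
    refine LocTr.formallySmooth_of_mem_singularIdeal _ ?_
    rw [← ha']
    exact Ideal.subset_span ⟨j, rfl⟩
  obtain ⟨B, _, _, _, _, _, _, hfpB, hsmx, hsma, huniv⟩ := exists_B' d r n a hsm
  haveI := hfpB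
  obtain ⟨C, _, _, _, _, hftC, ⟨ρ⟩, hC⟩ := exists_C_strong (R := MvPolynomial (Fin d) k) (A := B)
  exact main_aux φ 𝔮 d hd n hn hpow r a ha' B hsmx hsma
    (fun π lam h => huniv Λ φ π lam h) C hftC ρ hC

end Groth.Agent.Helper8.SepR
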