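import Mathlib
import Groth.Prelude
import Groth.Agent.Lib.Helper8.InsB9
import Groth.Agent.Lib.Helper8.InsB21
import Groth.Agent.Lib.Helper8.SepR11
import Groth.Agent.Lib.Helper8.GenFib1

/-! **Inseparable residue fields** (Stacks, Smoothing ring maps): over a field `k` of positive
characteristic, a problem `k → A → Λ ⊇ 𝔮` with `Λ` Noetherian and geometrically regular over `k`
and `𝔮` minimal over the singular radical can be resolved. -/

set_option autoImplicit false
universe u

namespace Groth.Agent.Helper8.InsB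

open MvPolynomial IsLocalRing TensorProduct Groth.Agent.Helper8.SepR Groth.Agent.Helper3.AnnPi

attribute [local instance] algPolyBB

set_option maxHeartbeats 6400000 in
set_option synthInstance.maxHeartbeats 400000 in
theorem main {k A Λ : Type u} [Field k] (p : ℕ) [Fact p.Prime] [CharP k p] [CommRing A]
    [Algebra k A] [Algebra.FinitePresentation k A] [CommRing Λ] [Algebra k Λ]
    [IsNoetherianRing Λ] (hreg : CAlg.IsGeometricallyRegular k Λ) (φ : A →ₐ[k] Λ) (𝔮 : Ideal Λ)
    [𝔮.IsPrime] (hmin : 𝔮 ∈ (Smoothing.singRad k φ).minimalPrimes) :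
    Smoothing.Resolvable k φ 𝔮 := by
  classical
  haveI : IsRegularRing Λ := Groth.Agent.Helper8.GenFib.isRegularRing_of_isGeometricallyRegular hreg
  let S := Localization.AtPrime 𝔮
  haveI : IsRegularLocalRing S := inferInstance
  obtain ⟨d, hd⟩ : ∃ d : ℕ, ringKrullDim S = d :=
    ⟨_, (IsRegularLocalRing.spanFinrank_maximalIdeal (R := S)).symm⟩
  obtain ⟨N, hN, hpow⟩ := exists_pow_le ((Smoothing.singularIdeal k A).map φ) 𝔮 hmin
  haveI : IsNoetherianRing A := Algebra.FiniteType.isNoetherianRing k A
  obtain ⟨r, aH, ha⟩ := (Submodule.fg_iff_exists_fin_generating_family).mp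
    (IsNoetherian.noetherian (Smoothing.singularIdeal k A))
  have ha' : Ideal.span (Set.range aH) = Smoothing.singularIdeal k A := ha
  have hsm : ∀ j, Algebra.FormallySmooth k (Localization.Away (aH j)) := by
    intro j
    refine LocTr.formallySmooth_of_mem_singularIdeal _ ?_
    rw [← ha']
    exact Ideal.subset_span ⟨j, rfl⟩
  let kx := MvPolynomial (Fin d) k
  let BBt := BB A d r (2 * N) aH
  haveI towBB : IsScalarTower k kx BBt := towerPolyBB k A d r (2 * N) aH
  haveI fpBB : Algebra.FinitePresentation kx BBt := finitePresentation_polyBB k A d r (2 * N) aH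
  have hsmx : ∀ i, Algebra.FormallySmooth kx
      (Localization.Away (algebraMap kx BBt (X i))) := by
    intro i
    rw [algebraMap_polyBB_X]
    exact formallySmooth_away_x k A d r (2 * N) aH hsm i
  obtain ⟨C, _, _, _, _, hftC, ⟨ρ⟩, hC⟩ := exists_C_strong (R := kx) (A := BBt)
  -- the exponent `c₀`
  haveI hfpC : Algebra.FinitePresentation kx C := by
    haveI : Algebra.FiniteType kx BBt := inferInstance
    haveI : Algebra.FiniteType kx C :=
      Algebra.FiniteType.trans (inferInstance : Algebra.FiniteType kx BBt) hftC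
    exact Algebra.FinitePresentation.of_finiteType.mp inferInstance
  have hsmooth_of : ∀ b : BBt, Algebra.FormallySmooth kx (Localization.Away b) →
      Algebra.Smooth kx (Localization.Away b) := by
    intro b hb
    haveI : Algebra.FinitePresentation BBt (Localization.Away b) :=
      IsLocalization.Away.finitePresentation b
    haveI : Algebra.FinitePresentation kx (Localization.Away b) :=
      Algebra.FinitePresentation.trans kx BBt (Localization.Away b)
    exact ⟨hb, inferInstance⟩
  have hstd : ∀ i : Fin d, ∃ e₀ : ℕ, ∀ m : ℕ, e₀ ≤ m →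
      Smoothing.IsStrictlyStandard kx C (algebraMap kx C (X i) ^ m) := by
    intro i
    have h1 := hC (algebraMap kx BBt (X i)) (hsmooth_of _ (hsmx i))
    have h2 := exists_strictlyStandard_pow (R := kx) (algebraMap BBt C (algebraMap kx BBt (X i)))
      h1.2 h1.1
    rw [← IsScalarTower.algebraMap_apply kx BBt C] at h2
    exact h2
  choose e₀ he₀ using hstd
  let c₀ : ℕ := Finset.univ.sup e₀ + 1
  have hc₀ : ∀ i, e₀ i ≤ c₀ := fun i =>
    (Finset.le_sup (f := e₀) (Finset.mem_univ i)).trans (Nat.le_succ _)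
  have hc₀pos : 0 < c₀ := Nat.succ_pos _
  have hstd₀ : ∀ i, Smoothing.IsStrictlyStandard kx C (algebraMap kx C (X i ^ c₀)) := by
    intro i
    rw [map_pow]
    exact he₀ i c₀ (hc₀ i)
  -- the Artinian quotient
  let n : ℕ := d * (c₀ * 8) + 1 + N
  have hn0 : n ≠ 0 := by omega
  let I : Ideal S := maximalIdeal S ^ n
  have hI1 : I ≤ maximalIdeal S := Ideal.pow_le_self hn0
  haveI hnt : Nontrivial (S ⧸ I) := by
    apply Ideal.Quotient.nontrivial_iff.mpr
    intro htop
    have h1 : maximalIdeal S = ⊤ := top_le_iff.mp (htop ▸ hI1)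
    exact (maximalIdeal.isMaximal S).ne_top h1
  haveI hlocSI : IsLocalRing (S ⧸ I) :=
    IsLocalRing.of_surjective' (Ideal.Quotient.mk I) Ideal.Quotient.mk_surjective
  obtain ⟨πz, hπz, -⟩ := exists_init 𝔮 hd ((Smoothing.singularIdeal k A).map φ) N hN hpow
  obtain ⟨s, hs⟩ := (inferInstance : Algebra.FiniteType k A).out
  obtain ⟨d', t, ℓ, ⟨hflat, hmaxP⟩, D', hD'loc, -, hD'flat, hD'max, hE'D, hℓD, hD'ess, hD'span⟩ :=
    exists_poly_flat p hreg 𝔮 I hI1 n le_rfl (s.image φ) πz hπz
  let P := MvPolynomial (Fin d' ⊕ Fin t) k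
  letI algPΛ : Algebra P Λ := (aeval ℓ : P →ₐ[k] Λ).toRingHom.toAlgebra
  haveI towkPΛ : IsScalarTower k P Λ :=
    IsScalarTower.of_algebraMap_eq (fun c => ((aeval ℓ : P →ₐ[k] Λ).commutes c).symm)
  have hXℓ : ∀ j, algebraMap P Λ (X j) = ℓ j := fun j => aeval_X _ _
  haveI := hD'loc
  haveI := hD'flat
  haveI := hD'ess
  haveI := hflat
  have hPD : ∀ x : P, Ideal.Quotient.mk I (algebraMap P S x) ∈ D' := by
    intro x
    induction x using MvPolynomial.induction_on with
    | C c =>
      have h1 : Ideal.Quotient.mk I (algebraMap P S (MvPolynomial.C c)) =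
          algebraMap k (S ⧸ I) c := by
        rw [← MvPolynomial.algebraMap_eq, ← IsScalarTower.algebraMap_apply k P S]
        rfl
      rw [h1]
      exact D'.algebraMap_mem c
    | add q q' hq hq' =>
      rw [map_add, map_add]
      exact D'.add_mem hq hq'
    | mul_X q j hq =>
      rw [map_mul, map_mul]
      refine D'.mul_mem hq ?_
      rw [IsScalarTower.algebraMap_apply P Λ S, hXℓ]
      exact hℓD j
  have hAD : ∀ x : A, Ideal.Quotient.mk I (algebraMap Λ S (φ x)) ∈ D' := by
    intro x
    have hx : x ∈ Algebra.adjoin k (s : Set A) := by rw [hs]; trivial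
    induction hx using Algebra.adjoin_induction with
    | mem x hx =>
      apply hE'D
      exact Finset.mem_image_of_mem φ hx
    | algebraMap c =>
      rw [φ.commutes]
      have h1 : Ideal.Quotient.mk I (algebraMap Λ S (algebraMap k Λ c)) =
          algebraMap k (S ⧸ I) c := by
        rw [← IsScalarTower.algebraMap_apply k Λ S]
        rfl
      rw [h1]
      exact D'.algebraMap_mem c
    | add x x' _ _ hx hx' =>
      rw [map_add, map_add, map_add]
      exact D'.add_mem hx hx'
    | mul x x' _ _ hx hx' =>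
      rw [map_mul, map_mul, map_mul]
      exact D'.mul_mem hx hx'
  -- the differential generators
  let eqv : Fin d' ⊕ Fin t ≃ Fin (d' + t) := finSumFinEquiv
  let y : Fin (d' + t) → P := fun j => X (eqv.symm j)
  have hel : ∀ o, (⟨Ideal.Quotient.mk I (algebraMap P S (X o)), hPD (X o)⟩ : D') =
      ⟨Ideal.Quotient.mk I (algebraMap Λ S (ℓ o)), hℓD o⟩ := by
    intro o
    apply Subtype.ext
    change Ideal.Quotient.mk I (algebraMap P S (X o)) = Ideal.Quotient.mk I (algebraMap Λ S (ℓ o))
    rw [IsScalarTower.algebraMap_apply P Λ S, hXℓ]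
  have hy : Submodule.span (ResidueField D') (Set.range fun j =>
      KaehlerDifferential.D k (ResidueField D') (residue D' ⟨_, hPD (y j)⟩)) = ⊤ := by
    rw [← hD'span]
    congr 1
    ext w
    constructor
    · rintro ⟨j, rfl⟩
      refine ⟨eqv.symm j, ?_⟩
      change _ = KaehlerDifferential.D k (ResidueField D')
        (residue D' ⟨Ideal.Quotient.mk I (algebraMap P S (X (eqv.symm j))), hPD (X (eqv.symm j))⟩)
      rw [hel]
    · rintro ⟨o, rfl⟩
      refine ⟨eqv o, ?_⟩
      change KaehlerDifferential.D k (ResidueField D')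
        (residue D' ⟨Ideal.Quotient.mk I (algebraMap P S (X (eqv.symm (eqv o)))),
          hPD (X (eqv.symm (eqv o)))⟩) = _
      rw [hel, Equiv.symm_apply_apply]
  have hmaxP' : (𝔮.under P).map (algebraMap P S) = maximalIdeal S := hmaxP
  exact main_core φ 𝔮 d hd N hN hpow r aH ha' hsm C hftC ρ hC c₀ hc₀pos hstd₀ hmaxP' n
    (by omega) (by omega) D' hD'max hPD hAD y hy

end Groth.Agent.Helper8.InsB
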