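import Mathlib
import Groth.Prelude.Def_Smoothing

/-!
# Reindexing a presentation so that chosen relations and variables come first
-/

set_option autoImplicit false
universe u

namespace Groth.Agent.Helper8.ElemStd

open MvPolynomial Smoothing

/-- Two embeddings into a finite type differ by a permutation of the target. -/
theorem exists_perm_comp_eq {α β : Type*} [Finite α] (g₁ g₂ : β ↪ α) :
    ∃ σ : Equiv.Perm α, ∀ b, σ (g₁ b) = g₂ b := by
  classical
  haveI := Fintype.ofFinite α
  let e : {x // x ∈ Set.range g₁} ≃ {x // x ∈ Set.range g₂} :=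
    (Equiv.ofInjective g₁ g₁.injective).symm.trans (Equiv.ofInjective g₂ g₂.injective)
  refine ⟨e.extendSubtype, fun b => ?_⟩
  rw [Equiv.extendSubtype_apply_of_mem e (g₁ b) ⟨b, rfl⟩]
  simp only [e, Equiv.trans_apply]
  have : (Equiv.ofInjective g₁ g₁.injective).symm ⟨g₁ b, ⟨b, rfl⟩⟩ = b :=
    Equiv.ofInjective_symm_apply g₁.injective b
  rw [this]
  rfl

/-- `pderiv` and renaming by a permutation. -/
theorem pderiv_rename_symm {R : Type*} [CommRing R] {n : ℕ} (τ : Equiv.Perm (Fin n)) (i : Fin n)
    (p : MvPolynomial (Fin n) R) :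
    pderiv i (rename τ.symm p) = rename τ.symm (pderiv (τ i) p) := by
  have := pderiv_rename τ.symm.injective (τ i) p
  rwa [Equiv.symm_apply_apply] at this

/-- Reindexing: an element which satisfies the conditions of an elementary standard element with
respect to arbitrary choices of `c` relations and `c` variables is elementary standard. -/
theorem isElementaryStandard_of_rows_cols {R A : Type u} [CommRing R] [CommRing A] [Algebra R A]
    {n m c : ℕ} (f : Fin m → MvPolynomial (Fin n) R) (φ : MvPolynomial (Fin n) R →ₐ[R] A)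
    (hφ : Function.Surjective φ) (hker : RingHom.ker φ.toRingHom = Ideal.span (Set.range f))
    (rows : Fin c ↪ Fin m) (cols : Fin c ↪ Fin n) (a a' : A)
    (ha : a = a' * φ (jacobianMinor f rows cols))
    (hkill : ∀ a₁ : MvPolynomial (Fin n) R, φ a₁ = a → ∀ ℓ : Fin m,
      a₁ * f ℓ ∈ Ideal.span (Set.range (f ∘ rows)) ⊔ Ideal.span (Set.range f) ^ 2) :
    IsElementaryStandard R A a := by
  have hcm : c ≤ m := by simpa using Fintype.card_le_of_embedding rows
  have hcn : c ≤ n := by simpa using Fintype.card_le_of_embedding cols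
  obtain ⟨σ, hσ⟩ := exists_perm_comp_eq (Fin.castLEEmb hcm) rows
  obtain ⟨τ, hτ⟩ := exists_perm_comp_eq (Fin.castLEEmb hcn) cols
  let ρ : MvPolynomial (Fin n) R ≃ₐ[R] MvPolynomial (Fin n) R := renameEquiv R τ
  have hρ : ∀ p, ρ p = rename τ p := fun p => rfl
  have hρs : ∀ p, ρ.symm p = rename τ.symm p := fun p => rfl
  let rel' : Fin m → MvPolynomial (Fin n) R := fun j => ρ.symm (f (σ j))
  have hrange : Set.range rel' = ρ.symm '' Set.range f := by
    ext y
    constructor
    · rintro ⟨j, rfl⟩
      exact ⟨f (σ j), ⟨σ j, rfl⟩, rfl⟩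
    · rintro ⟨_, ⟨j, rfl⟩, rfl⟩
      exact ⟨σ.symm j, by simp [rel']⟩
  have hlead : rel' '' {j' : Fin m | (j' : ℕ) < c} = ρ.symm '' Set.range (f ∘ rows) := by
    ext y
    constructor
    · rintro ⟨j', hj', rfl⟩
      refine ⟨f (σ j'), ⟨⟨j', hj'⟩, ?_⟩, rfl⟩
      simp only [Function.comp_apply]
      rw [← hσ]
      rfl
    · rintro ⟨_, ⟨j, rfl⟩, rfl⟩
      refine ⟨Fin.castLE hcm j, by simp, ?_⟩
      simp only [rel', Function.comp_apply]
      rw [← hσ]
      rfl
  have hfker : ∀ j, φ (f j) = 0 := by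
    intro j
    have : f j ∈ RingHom.ker φ.toRingHom := by
      rw [hker]; exact Ideal.subset_span ⟨j, rfl⟩
    exact this
  have hkereq : RingHom.ker (φ.comp ρ.toAlgHom).toRingHom = Ideal.span (Set.range rel') := by
    apply le_antisymm
    · intro y hy
      have h1 : ρ y ∈ Ideal.span (Set.range f) := by
        rw [← hker]
        exact hy
      have h2 := Ideal.mem_map_of_mem (ρ.symm : MvPolynomial (Fin n) R →+* MvPolynomial (Fin n) R) h1
      rw [Ideal.map_span] at h2
      rw [hrange]
      simpa using h2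
    · rw [Ideal.span_le]
      rintro _ ⟨j, rfl⟩
      change φ (ρ (ρ.symm (f (σ j)))) = 0
      rw [AlgEquiv.apply_symm_apply]
      exact hfker _
  let P : MarkedPresentation R A :=
    { n := n
      m := m
      c := c
      hcn := hcn
      hcm := hcm
      rel := rel'
      hom := φ.comp ρ.toAlgHom
      surj := hφ.comp ρ.surjective
      ker_eq := hkereq }
  have hminor : jacobianMinor rel' (Fin.castLE hcm) (Fin.castLE hcn) =
      ρ.symm (jacobianMinor f rows cols) := by
    unfold jacobianMinor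
    rw [AlgEquiv.map_det]
    congr 1
    refine Matrix.ext fun j k => ?_
    simp only [Matrix.of_apply, rel', AlgEquiv.mapMatrix_apply, Matrix.map_apply]
    rw [hρs, pderiv_rename_symm, hρs]
    have h1 : σ (Fin.castLE hcm j) = rows j := hσ j
    have h2 : τ (Fin.castLE hcn k) = cols k := hτ k
    rw [h1, h2]
  refine ⟨P, ⟨a', ?_⟩, ?_⟩
  · change a = a' * φ (ρ (jacobianMinor rel' (Fin.castLE hcm) (Fin.castLE hcn)))
    rw [hminor, AlgEquiv.apply_symm_apply]
    exact ha
  · intro a₁ ha₁ j hj
    have h1 := hkill (ρ a₁) ha₁ (σ j)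
    have h2 := Ideal.mem_map_of_mem (ρ.symm : MvPolynomial (Fin n) R →+* MvPolynomial (Fin n) R) h1
    rw [Ideal.map_sup, Ideal.map_pow, Ideal.map_span, Ideal.map_span] at h2
    change a₁ * rel' j ∈ Ideal.span (rel' '' {j' : Fin m | (j' : ℕ) < c}) ⊔
      Ideal.span (Set.range rel') ^ 2
    rw [hlead, hrange]
    have h3 : (ρ.symm : MvPolynomial (Fin n) R →+* MvPolynomial (Fin n) R) (ρ a₁ * f (σ j)) =
        a₁ * rel' j := by
      simp [rel']
    rw [h3] at h2
    exact h2

end Groth.Agent.Helper8.ElemStd
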