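import Mathlib
import Groth.Agent.Lib.Helper8.ElemStd1

/-!
# Delocalizing the base, I: reindexing presentations by finite types
-/

set_option autoImplicit false
universe u

namespace Groth.Agent.Helper8.DelB

open MvPolynomial Smoothing

/-- Version of `isElementaryStandard_of_rows_cols` for presentations indexed by arbitrary finite
types. -/
theorem isElementaryStandard_of_fintype {R A : Type u} [CommRing R] [CommRing A] [Algebra R A]
    {ι κ γ : Type} [Fintype ι] [Fintype κ] [Fintype γ] [DecidableEq γ]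
    (f : κ → MvPolynomial ι R) (φ : MvPolynomial ι R →ₐ[R] A)
    (hφ : Function.Surjective φ) (hker : RingHom.ker φ.toRingHom = Ideal.span (Set.range f))
    (rows : γ ↪ κ) (cols : γ ↪ ι) (a a' : A)
    (ha : a = a' * φ (Matrix.det (Matrix.of fun j k : γ => pderiv (cols k) (f (rows j)))))
    (hkill : ∀ a₁ : MvPolynomial ι R, φ a₁ = a → ∀ ℓ : κ,
      a₁ * f ℓ ∈ Ideal.span (Set.range (f ∘ rows)) ⊔ Ideal.span (Set.range f) ^ 2) :
    IsElementaryStandard R A a := by
  classical
  let eι : ι ≃ Fin (Fintype.card ι) := Fintype.equivFin ι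
  let eκ : κ ≃ Fin (Fintype.card κ) := Fintype.equivFin κ
  let eγ : γ ≃ Fin (Fintype.card γ) := Fintype.equivFin γ
  let ρ : MvPolynomial ι R ≃ₐ[R] MvPolynomial (Fin (Fintype.card ι)) R := renameEquiv R eι
  have hρ : ∀ p, ρ p = rename eι p := fun p => rfl
  let f' : Fin (Fintype.card κ) → MvPolynomial (Fin (Fintype.card ι)) R :=
    fun j => ρ (f (eκ.symm j))
  let φ' : MvPolynomial (Fin (Fintype.card ι)) R →ₐ[R] A := φ.comp ρ.symm.toAlgHom
  have hφ'ρ : ∀ p, φ' (ρ p) = φ p := by
    intro p
    change φ (ρ.symm (ρ p)) = φ p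
    rw [AlgEquiv.symm_apply_apply]
  have hrange : Set.range f' = ρ '' Set.range f := by
    ext y
    constructor
    · rintro ⟨j, rfl⟩
      exact ⟨f (eκ.symm j), ⟨eκ.symm j, rfl⟩, rfl⟩
    · rintro ⟨_, ⟨j, rfl⟩, rfl⟩
      exact ⟨eκ j, by simp [f']⟩
  have hker' : RingHom.ker φ'.toRingHom = Ideal.span (Set.range f') := by
    apply le_antisymm
    · intro y hy
      have h1 : ρ.symm y ∈ Ideal.span (Set.range f) := by
        rw [← hker]
        exact hy
      have h2 := Ideal.mem_map_of_mem
        (ρ : MvPolynomial ι R →+* MvPolynomial (Fin (Fintype.card ι)) R) h1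
      rw [Ideal.map_span] at h2
      rw [hrange]
      simpa using h2
    · rw [Ideal.span_le]
      rintro _ ⟨j, rfl⟩
      change φ' (ρ (f (eκ.symm j))) = 0
      rw [hφ'ρ]
      have : f (eκ.symm j) ∈ RingHom.ker φ.toRingHom := by
        rw [hker]; exact Ideal.subset_span ⟨_, rfl⟩
      exact this
  let rows' : Fin (Fintype.card γ) ↪ Fin (Fintype.card κ) :=
    eγ.symm.toEmbedding.trans (rows.trans eκ.toEmbedding)
  let cols' : Fin (Fintype.card γ) ↪ Fin (Fintype.card ι) :=
    eγ.symm.toEmbedding.trans (cols.trans eι.toEmbedding)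
  have hminor : jacobianMinor f' rows' cols' =
      ρ (Matrix.det (Matrix.of fun j k : γ => pderiv (cols k) (f (rows j)))) := by
    unfold jacobianMinor
    rw [AlgEquiv.map_det]
    rw [← Matrix.det_reindex_self eγ]
    congr 1
    refine Matrix.ext fun j k => ?_
    simp only [Matrix.reindex_apply, Matrix.submatrix_apply, Matrix.of_apply,
      AlgEquiv.mapMatrix_apply, Matrix.map_apply, f', rows', cols', Function.Embedding.trans_apply,
      Equiv.coe_toEmbedding, Equiv.symm_apply_apply]
    rw [hρ, hρ, pderiv_rename eι.injective]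
  have hrows : Set.range (f' ∘ rows') = ρ '' Set.range (f ∘ rows) := by
    ext y
    constructor
    · rintro ⟨j, rfl⟩
      refine ⟨f (rows (eγ.symm j)), ⟨eγ.symm j, rfl⟩, ?_⟩
      simp [f', rows']
    · rintro ⟨_, ⟨j, rfl⟩, rfl⟩
      refine ⟨eγ j, ?_⟩
      simp [f', rows']
  refine ElemStd.isElementaryStandard_of_rows_cols f' φ' (hφ.comp ρ.symm.surjective) hker'
    rows' cols' a a' ?_ ?_
  · rw [hminor, hφ'ρ]
    exact ha
  · intro a₁ ha₁ ℓ
    have h1 := hkill (ρ.symm a₁) ha₁ (eκ.symm ℓ)
    have h2 := Ideal.mem_map_of_mem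
      (ρ : MvPolynomial ι R →+* MvPolynomial (Fin (Fintype.card ι)) R) h1
    rw [Ideal.map_sup, Ideal.map_pow, Ideal.map_span, Ideal.map_span] at h2
    rw [hrows, hrange]
    have h3 : (ρ : MvPolynomial ι R →+* MvPolynomial (Fin (Fintype.card ι)) R)
        (ρ.symm a₁ * f (eκ.symm ℓ)) = a₁ * f' ℓ := by
      simp [f']
    rw [h3] at h2
    exact h2

section Scale

variable {K : Type u} [CommRing K] {n m : ℕ} (b : K)

/-- The substitution `x_i ↦ b x_i`, into a polynomial ring with extra variables. -/
noncomputable def scale : MvPolynomial (Fin n) K →ₐ[K] MvPolynomial (Fin n ⊕ Fin m) K :=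
  aeval (fun i => C b * X (Sum.inl i))

theorem scale_X (i : Fin n) :
    scale (m := m) b (X i : MvPolynomial (Fin n) K) = C b * X (Sum.inl i) := by
  simp [scale]

theorem pderiv_inl_scale (i : Fin n) (p : MvPolynomial (Fin n) K) :
    pderiv (Sum.inl i) (scale (m := m) b p) = C b * scale (m := m) b (pderiv i p) := by
  classical
  induction p using MvPolynomial.induction_on with
  | C r =>
    rw [pderiv_C, map_zero, mul_zero]
    change pderiv (Sum.inl i) (scale (m := m) b (algebraMap K _ r)) = 0
    rw [AlgHom.commutes, algebraMap_eq, pderiv_C]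
  | add p q hp hq =>
    simp only [map_add, hp, hq, mul_add]
  | mul_X p j hp =>
    rw [map_mul, Derivation.leibniz, hp, scale_X, Derivation.leibniz, pderiv_C, pderiv_X,
      Derivation.leibniz, pderiv_X, map_add]
    by_cases hij : j = i
    · subst hij
      simp only [Pi.single_eq_same, smul_eq_mul, mul_zero, add_zero, map_mul, scale_X, mul_one]
      ring
    · have h1 : (Sum.inl j : Fin n ⊕ Fin m) ≠ Sum.inl i := fun h => hij (Sum.inl_injective h)
      rw [Pi.single_eq_of_ne hij, Pi.single_eq_of_ne h1]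
      simp only [smul_eq_mul, mul_zero, add_zero, map_mul, scale_X, map_zero, zero_add]
      ring

theorem pderiv_inr_scale (k : Fin m) (p : MvPolynomial (Fin n) K) :
    pderiv (Sum.inr k) (scale (m := m) b p) = 0 := by
  classical
  induction p using MvPolynomial.induction_on with
  | C r =>
    change pderiv (Sum.inr k) (scale (m := m) b (algebraMap K _ r)) = 0
    rw [AlgHom.commutes, algebraMap_eq, pderiv_C]
  | add p q hp hq =>
    simp only [map_add, hp, hq, add_zero]
  | mul_X p j hp =>
    rw [map_mul, Derivation.leibniz, hp, scale_X, Derivation.leibniz, pderiv_C, pderiv_X]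
    have h1 : (Sum.inl j : Fin n ⊕ Fin m) ≠ Sum.inr k := fun h => by cases h
    simp

end Scale

end Groth.Agent.Helper8.DelB
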