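import Mathlib
import Groth.Agent.Lib.Helper8.DelB1
import Groth.Agent.Lib.Helper8.LiftA3

/-!
# Delocalizing the base, II: enlarging and rescaling a presentation
-/

set_option autoImplicit false
universe u

namespace Groth.Agent.Helper8.DelB

open MvPolynomial

section Ext

variable {K B : Type u} [CommRing K] [CommRing B] [Algebra K B] {n c m : ℕ}
  (f : Fin c → MvPolynomial (Fin n) K) (v : Fin n → B) (a b : K) (w : Fin m → B)
  (Q : Fin m → MvPolynomial (Fin n) K)

/-- The new generators: the old ones scaled by `a`, and the extra elements `w`. -/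
def gensV : Fin n ⊕ Fin m → B := Sum.elim (fun i => a • v i) w

/-- The new relations. -/
noncomputable def relsV : Fin c ⊕ Fin m → MvPolynomial (Fin n ⊕ Fin m) K :=
  Sum.elim (fun j => scale (m := m) b (f j)) (fun k => X (Sum.inr k) - scale (m := m) b (Q k))

variable {a b}

theorem aeval_gensV_scale (hab : a * b = 1) (p : MvPolynomial (Fin n) K) :
    aeval (gensV v a w) (scale (m := m) b p) = aeval v p := by
  have h : (aeval (gensV v a w)).comp (scale (m := m) b) = aeval v := by
    refine MvPolynomial.algHom_ext fun i => ?_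
    rw [AlgHom.comp_apply, scale_X, map_mul, aeval_C, aeval_X, aeval_X]
    change algebraMap K B b * (a • v i) = v i
    rw [Algebra.smul_def, ← mul_assoc, ← map_mul, mul_comm b a, hab, map_one, one_mul]
  exact DFunLike.congr_fun h p

theorem aeval_gensV_relsV (hab : a * b = 1) (hf : ∀ j, aeval v (f j) = 0)
    (hQ : ∀ k, aeval v (Q k) = w k) (z : Fin c ⊕ Fin m) :
    aeval (gensV v a w) (relsV f b Q z) = 0 := by
  rcases z with j | k
  · change aeval (gensV v a w) (scale (m := m) b (f j)) = 0
    rw [aeval_gensV_scale v w hab, hf]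
  · change aeval (gensV v a w) (X (Sum.inr k) - scale (m := m) b (Q k)) = 0
    rw [map_sub, aeval_X, aeval_gensV_scale v w hab, hQ]
    exact sub_self _

theorem surjective_aeval_gensV (hab : a * b = 1) (hsurj : Function.Surjective (aeval v : MvPolynomial (Fin n) K →ₐ[K] B)) :
    Function.Surjective (aeval (gensV v a w) : MvPolynomial (Fin n ⊕ Fin m) K →ₐ[K] B) := by
  intro y
  obtain ⟨p, rfl⟩ := hsurj y
  exact ⟨scale (m := m) b p, aeval_gensV_scale v w hab p⟩

theorem ker_aeval_gensV (hab : a * b = 1)
    (hsurj : Function.Surjective (aeval v : MvPolynomial (Fin n) K →ₐ[K] B))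
    (hker : RingHom.ker (aeval v : MvPolynomial (Fin n) K →ₐ[K] B).toRingHom =
      Ideal.span (Set.range f))
    (hQ : ∀ k, aeval v (Q k) = w k) :
    RingHom.ker (aeval (gensV v a w) : MvPolynomial (Fin n ⊕ Fin m) K →ₐ[K] B).toRingHom =
      Ideal.span (Set.range (relsV f b Q)) := by
  have hf : ∀ j, aeval v (f j) = 0 := by
    intro j
    have : f j ∈ RingHom.ker (aeval v : MvPolynomial (Fin n) K →ₐ[K] B).toRingHom := by
      rw [hker]; exact Ideal.subset_span ⟨j, rfl⟩
    exact this
  apply le_antisymm
  · -- construct the inverse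
    let 𝔍 : Ideal (MvPolynomial (Fin n ⊕ Fin m) K) := Ideal.span (Set.range (relsV f b Q))
    have hH : ∀ p : MvPolynomial (Fin n) K, aeval v p = 0 → scale (m := m) b p ∈ 𝔍 := by
      intro p hp
      have hp' : p ∈ Ideal.span (Set.range f) := by
        rw [← hker]; exact hp
      have h1 := Ideal.mem_map_of_mem (scale (m := m) b).toRingHom hp'
      rw [Ideal.map_span] at h1
      refine (Ideal.span_le.mpr ?_) h1
      rintro _ ⟨_, ⟨j, rfl⟩, rfl⟩
      exact Ideal.subset_span ⟨Sum.inl j, rfl⟩
    obtain ⟨ζ, hζ⟩ := LiftA.exists_lift_quot (aeval v : MvPolynomial (Fin n) K →ₐ[K] B) hsurj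
      (scale (m := m) b) 𝔍 hH
    have hcomp : ζ.comp (aeval (gensV v a w)) = Ideal.Quotient.mkₐ K 𝔍 := by
      refine MvPolynomial.algHom_ext fun z => ?_
      rw [AlgHom.comp_apply, aeval_X]
      rcases z with i | k
      · change ζ (a • v i) = _
        have h1 : a • v i = aeval v (C a * X i) := by
          rw [map_mul, aeval_C, aeval_X, Algebra.smul_def]
        rw [h1, hζ, map_mul, scale_X]
        change Ideal.Quotient.mk 𝔍 (scale (m := m) b (algebraMap K _ a) * (C b * X (Sum.inl i))) = _
        rw [AlgHom.commutes, algebraMap_eq, ← mul_assoc, ← C_mul, hab, C_1, one_mul]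
        rfl
      · change ζ (w k) = _
        rw [← hQ k, hζ]
        change Ideal.Quotient.mk 𝔍 _ = Ideal.Quotient.mk 𝔍 _
        rw [eq_comm, Ideal.Quotient.eq]
        exact Ideal.subset_span ⟨Sum.inr k, rfl⟩
    intro q hq
    have h2 : ζ (aeval (gensV v a w) q) = 0 := by
      have : aeval (gensV v a w) q = 0 := hq
      rw [this, map_zero]
    have h3 := DFunLike.congr_fun hcomp q
    rw [AlgHom.comp_apply, h2] at h3
    exact Ideal.Quotient.eq_zero_iff_mem.mp h3.symm
  · rw [Ideal.span_le]
    rintro _ ⟨z, rfl⟩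
    exact aeval_gensV_relsV f v w Q hab hf hQ z

/-- The Jacobian matrix of the new relations with respect to the old distinguished variables and
the new variables. -/
theorem det_jacobian_relsV (cols : Fin c → Fin n) :
    Matrix.det (Matrix.of fun z z' : Fin c ⊕ Fin m =>
      pderiv (Sum.map cols id z') (relsV f b Q z)) =
      C (b ^ c) * scale (m := m) b
        (Matrix.det (Matrix.of fun j k : Fin c => pderiv (cols k) (f j))) := by
  classical
  have hM : (Matrix.of fun z z' : Fin c ⊕ Fin m =>
      pderiv (Sum.map cols id z') (relsV f b Q z)) =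
      Matrix.fromBlocks
        (Matrix.of fun j k : Fin c => C b * scale (m := m) b (pderiv (cols k) (f j)))
        0
        (Matrix.of fun (k : Fin m) (i : Fin c) =>
          -(C b * scale (m := m) b (pderiv (cols i) (Q k))))
        1 := by
    refine Matrix.ext fun z z' => ?_
    rcases z with j | k <;> rcases z' with i | k'
    · simp only [Matrix.of_apply, Matrix.fromBlocks_apply₁₁, Sum.map_inl, relsV, Sum.elim_inl]
      exact pderiv_inl_scale b _ _
    · simp only [Matrix.of_apply, Matrix.fromBlocks_apply₁₂, Sum.map_inr, relsV, Sum.elim_inl,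
        id_eq, Matrix.zero_apply]
      exact pderiv_inr_scale b _ _
    · simp only [Matrix.of_apply, Matrix.fromBlocks_apply₂₁, Sum.map_inl, relsV, Sum.elim_inr,
        map_sub]
      rw [pderiv_inl_scale, pderiv_X]
      have h1 : (Sum.inr k : Fin n ⊕ Fin m) ≠ Sum.inl (cols i) := fun h => by cases h
      rw [Pi.single_eq_of_ne h1, zero_sub]
    · simp only [Matrix.of_apply, Matrix.fromBlocks_apply₂₂, Sum.map_inr, relsV, Sum.elim_inr,
        id_eq, map_sub]
      rw [pderiv_inr_scale, sub_zero, pderiv_X, Matrix.one_apply]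
      by_cases hkk : k = k'
      · subst hkk
        simp
      · have h1 : (Sum.inr k : Fin n ⊕ Fin m) ≠ Sum.inr k' := fun h => hkk (Sum.inr_injective h)
        rw [Pi.single_eq_of_ne h1, if_neg hkk]
  rw [hM, Matrix.det_fromBlocks_zero₁₂, Matrix.det_one, mul_one]
  have h2 : (Matrix.of fun j k : Fin c => C b * scale (m := m) b (pderiv (cols k) (f j))) =
      (C b : MvPolynomial (Fin n ⊕ Fin m) K) •
        ((scale (m := m) b).mapMatrix (Matrix.of fun j k : Fin c => pderiv (cols k) (f j))) := by
    refine Matrix.ext fun j k => ?_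
    simp [Matrix.smul_apply]
  rw [h2, Matrix.det_smul, Fintype.card_fin, ← AlgHom.map_det, C_pow]

end Ext

end Groth.Agent.Helper8.DelB
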