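import Mathlib
import Groth.Agent.Lib.Helper8.DelB2

/-!
# Delocalizing the base, III: clearing denominators in a presentation
-/

set_option autoImplicit false
universe u

namespace Groth.Agent.Helper8.DelB

open MvPolynomial

section Clear

variable {R Rₛ : Type u} [CommRing R] [CommRing Rₛ] [Algebra R Rₛ] (S : Submonoid R)
  [IsLocalization S Rₛ] {σ κ : Type} [Finite κ]

attribute [local instance] MvPolynomial.algebraMvPolynomial

/-- Clearing denominators in finitely many polynomials. -/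
theorem exists_clear (ρ : κ → MvPolynomial σ Rₛ) :
    ∃ t ∈ S, ∃ F : κ → MvPolynomial σ R,
      ∀ z, map (algebraMap R Rₛ) (F z) = C (algebraMap R Rₛ t) * ρ z := by
  haveI : IsLocalization (S.map (C (σ := σ))) (MvPolynomial σ Rₛ) :=
    MvPolynomial.isLocalization S Rₛ
  obtain ⟨b, hb⟩ := IsLocalization.exist_integer_multiples_of_finite (S.map (C (σ := σ))) ρ
  obtain ⟨t, ht, hbt⟩ := b.2
  choose F hF using hb
  refine ⟨t, ht, F, fun z => ?_⟩
  have h1 := hF z
  rw [Algebra.smul_def, ← hbt] at h1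
  rw [MvPolynomial.algebraMap_def] at h1
  rw [h1]
  simp [MvPolynomial.algebraMap_def]

omit [Finite κ] in
/-- A polynomial over `R` lying in the extended ideal has a multiple in the ideal. -/
theorem exists_mul_mem_span (F : κ → MvPolynomial σ R) (ρ : κ → MvPolynomial σ Rₛ) (t : R)
    (ht : t ∈ S) (hF : ∀ z, map (algebraMap R Rₛ) (F z) = C (algebraMap R Rₛ t) * ρ z)
    (p : MvPolynomial σ R) (hp : map (algebraMap R Rₛ) p ∈ Ideal.span (Set.range ρ)) :
    ∃ s ∈ S, C s * p ∈ Ideal.span (Set.range F) := by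
  haveI : IsLocalization (S.map (C (σ := σ))) (MvPolynomial σ Rₛ) :=
    MvPolynomial.isLocalization S Rₛ
  have htu : IsUnit (C (algebraMap R Rₛ t) : MvPolynomial σ Rₛ) :=
    (IsLocalization.map_units Rₛ ⟨t, ht⟩).map C
  have hspan : Ideal.span (Set.range ρ) =
      (Ideal.span (Set.range F)).map (algebraMap (MvPolynomial σ R) (MvPolynomial σ Rₛ)) := by
    rw [Ideal.map_span]
    apply le_antisymm
    · rw [Ideal.span_le]
      rintro _ ⟨z, rfl⟩
      have h1 : algebraMap (MvPolynomial σ R) (MvPolynomial σ Rₛ) (F z) ∈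
          Ideal.span ((algebraMap (MvPolynomial σ R) (MvPolynomial σ Rₛ)) '' Set.range F) :=
        Ideal.subset_span ⟨_, ⟨z, rfl⟩, rfl⟩
      rw [MvPolynomial.algebraMap_def, hF z] at h1
      exact (Ideal.unit_mul_mem_iff_mem _ htu).mp h1
    · rw [Ideal.span_le]
      rintro _ ⟨_, ⟨z, rfl⟩, rfl⟩
      rw [MvPolynomial.algebraMap_def, hF z]
      exact Ideal.mul_mem_left _ _ (Ideal.subset_span ⟨z, rfl⟩)
  rw [hspan] at hp
  have hp' : algebraMap (MvPolynomial σ R) (MvPolynomial σ Rₛ) p ∈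
      (Ideal.span (Set.range F)).map (algebraMap (MvPolynomial σ R) (MvPolynomial σ Rₛ)) := hp
  rw [IsLocalization.mem_map_algebraMap_iff (S.map (C (σ := σ)))] at hp'
  obtain ⟨⟨⟨q, hq⟩, ⟨_, s₁, hs₁, rfl⟩⟩, h1⟩ := hp'
  simp only at h1
  rw [← map_mul] at h1
  obtain ⟨⟨_, s₂, hs₂, rfl⟩, h2⟩ :=
    (IsLocalization.eq_iff_exists (S.map (C (σ := σ))) (MvPolynomial σ Rₛ)).mp h1
  simp only at h2
  refine ⟨s₂ * s₁, S.mul_mem hs₂ hs₁, ?_⟩
  have h3 : C (s₂ * s₁) * p = C s₂ * q := by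
    rw [C_mul, mul_assoc, mul_comm (C s₁) p]
    exact h2
  rw [h3]
  exact Ideal.mul_mem_left _ _ hq

end Clear

end Groth.Agent.Helper8.DelB
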