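import Mathlib
import Groth.Agent.Lib.Helper8.DelB3

/-!
# Delocalizing the base, IV: the core construction
-/

set_option autoImplicit false
universe u

namespace Groth.Agent.Helper8.DelB

open MvPolynomial Smoothing

section Num

attribute [local instance] MvPolynomial.algebraMvPolynomial

/-- Every polynomial over the localization is a polynomial over `R` divided by an element of
`S`. -/
theorem exists_numerator {R Rₛ : Type u} [CommRing R] [CommRing Rₛ] [Algebra R Rₛ]
    (S : Submonoid R) [IsLocalization S Rₛ] {σ : Type} (q : MvPolynomial σ Rₛ) :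
    ∃ (p : MvPolynomial σ R) (s : R), s ∈ S ∧
      q * C (algebraMap R Rₛ s) = map (algebraMap R Rₛ) p := by
  haveI : IsLocalization (S.map (C (σ := σ))) (MvPolynomial σ Rₛ) :=
    MvPolynomial.isLocalization S Rₛ
  obtain ⟨⟨p₁, ⟨_, s₃, hs₃, rfl⟩⟩, hp₁⟩ := IsLocalization.surj (S.map (C (σ := σ))) q
  simp only [MvPolynomial.algebraMap_def, map_C] at hp₁
  exact ⟨p₁, s₃, hs₃, hp₁⟩

end Num

set_option maxHeartbeats 1600000 in
/-- The core of the delocalization lemma, for a submersive presentation given by explicit data. -/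
theorem core {R A Λ Rₛ Λₛ B' : Type u} [CommRing R] [CommRing A] [Algebra R A] [CommRing Λ]
    [Algebra R Λ] (φ : A →ₐ[R] Λ) (S : Submonoid R) [CommRing Rₛ] [Algebra R Rₛ]
    [IsLocalization S Rₛ] [CommRing Λₛ] [Algebra Λ Λₛ]
    [IsLocalization (Algebra.algebraMapSubmonoid Λ S) Λₛ]
    [CommRing B'] [Algebra Rₛ B'] [Algebra R B'] [IsScalarTower R Rₛ B']
    (g₀ : A →ₐ[R] B') (h₀ : B' →+* Λₛ)
    (hh₀R : ∀ r : R, h₀ (algebraMap R B' r) = algebraMap Λ Λₛ (algebraMap R Λ r))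
    (hcompat : ∀ x : A, h₀ (g₀ x) = algebraMap Λ Λₛ (φ x))
    {m t : ℕ} (ψ : MvPolynomial (Fin m) R →ₐ[R] A) (hψ : Function.Surjective ψ)
    (gl : Fin t → MvPolynomial (Fin m) R)
    (hψker : RingHom.ker ψ.toRingHom = Ideal.span (Set.range gl))
    {n c : ℕ} (f : Fin c → MvPolynomial (Fin n) Rₛ) (v : Fin n → B') (cols : Fin c ↪ Fin n)
    (hsurj : Function.Surjective (aeval v : MvPolynomial (Fin n) Rₛ →ₐ[Rₛ] B'))
    (hker : RingHom.ker (aeval v : MvPolynomial (Fin n) Rₛ →ₐ[Rₛ] B').toRingHom =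
      Ideal.span (Set.range f))
    (hjac : IsUnit (aeval v (Matrix.det (Matrix.of fun j k : Fin c => pderiv (cols k) (f j))))) :
    ∃ (B : Type u) (_ : CommRing B) (_ : Algebra R B) (α : A →ₐ[R] B) (β : B →ₐ[R] Λ),
      β.comp α = φ ∧ ∃ s ∈ S, IsElementaryStandard R B (algebraMap R B s) := by
  classical
  -- Step 1: a common denominator for the images of the generators
  obtain ⟨b₁, hb₁⟩ := IsLocalization.exist_integer_multiples_of_finite
    (Algebra.algebraMapSubmonoid Λ S) (fun i : Fin n => h₀ (v i))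
  obtain ⟨s₁, hs₁, hb₁s⟩ := b₁.2
  choose lam hlam using hb₁
  have hlam' : ∀ i, algebraMap Λ Λₛ (lam i) = algebraMap Λ Λₛ (algebraMap R Λ s₁) * h₀ (v i) := by
    intro i
    rw [hlam i, Algebra.smul_def, ← hb₁s]
  let a : Rₛ := algebraMap R Rₛ s₁
  obtain ⟨binv, hab⟩ := (IsLocalization.map_units Rₛ ⟨s₁, hs₁⟩ : IsUnit a).exists_right_inv
  -- Step 2: the new generators and relations over `Rₛ`
  let w : Fin m → B' := fun k => g₀ (ψ (X k))
  have hQex : ∀ k, ∃ Q : MvPolynomial (Fin n) Rₛ, aeval v Q = w k := fun k => hsurj (w k)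
  choose Q hQ using hQex
  let V : Fin n ⊕ Fin m → B' := gensV v a w
  let Θ : MvPolynomial (Fin n ⊕ Fin m) Rₛ →ₐ[Rₛ] B' := aeval V
  let ρ : Fin c ⊕ Fin m → MvPolynomial (Fin n ⊕ Fin m) Rₛ := relsV f binv Q
  have hkerΘ : RingHom.ker Θ.toRingHom = Ideal.span (Set.range ρ) :=
    ker_aeval_gensV f v w Q hab hsurj hker hQ
  have hsurjΘ : Function.Surjective Θ := surjective_aeval_gensV v w hab hsurj
  have hΘρ : ∀ z, Θ (ρ z) = 0 := by
    intro z
    have : ρ z ∈ RingHom.ker Θ.toRingHom := by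
      rw [hkerΘ]; exact Ideal.subset_span ⟨z, rfl⟩
    exact this
  -- Step 3: clearing denominators
  obtain ⟨t₀, ht₀, F₀, hF₀⟩ := exists_clear S ρ
  -- Step 4: the map to `Λ`
  let W : Fin n ⊕ Fin m → Λ := Sum.elim lam (fun k => φ (ψ (X k)))
  let evW : MvPolynomial (Fin n ⊕ Fin m) R →ₐ[R] Λ := aeval W
  have hcompatW : ∀ p : MvPolynomial (Fin n ⊕ Fin m) R,
      algebraMap Λ Λₛ (evW p) = h₀ (Θ (map (algebraMap R Rₛ) p)) := by
    have h1 : (algebraMap Λ Λₛ).comp evW.toRingHom =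
        h₀.comp (Θ.toRingHom.comp (map (algebraMap R Rₛ))) := by
      refine MvPolynomial.ringHom_ext (fun r => ?_) (fun z => ?_)
      · simp only [RingHom.comp_apply, AlgHom.toRingHom_eq_coe, RingHom.coe_coe, map_C]
        rw [← algebraMap_eq, AlgHom.commutes, ← algebraMap_eq, AlgHom.commutes,
          ← IsScalarTower.algebraMap_apply R Rₛ B', hh₀R]
      · simp only [RingHom.comp_apply, AlgHom.toRingHom_eq_coe, RingHom.coe_coe, map_X]
        change algebraMap Λ Λₛ (aeval W (X z)) = h₀ (aeval V (X z))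
        rw [aeval_X, aeval_X]
        rcases z with i | k
        · change algebraMap Λ Λₛ (lam i) = h₀ (a • v i)
          rw [hlam', Algebra.smul_def, map_mul, ← IsScalarTower.algebraMap_apply R Rₛ B', hh₀R]
        · change algebraMap Λ Λₛ (φ (ψ (X k))) = h₀ (g₀ (ψ (X k)))
          rw [hcompat]
    intro p
    exact congr($h1 p)
  have hzero : ∀ z, ∃ s ∈ S, algebraMap R Λ s * evW (F₀ z) = 0 := by
    intro z
    have h1 : algebraMap Λ Λₛ (evW (F₀ z)) = 0 := by
      rw [hcompatW, hF₀, map_mul, hΘρ, mul_zero, map_zero]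
    obtain ⟨⟨_, s, hs, rfl⟩, h2⟩ :=
      (IsLocalization.map_eq_zero_iff (Algebra.algebraMapSubmonoid Λ S) Λₛ _).mp h1
    exact ⟨s, hs, h2⟩
  choose sz hszS hsz using hzero
  let s₂ : R := ∏ z, sz z
  have hs₂ : s₂ ∈ S := Submonoid.prod_mem S (fun z _ => hszS z)
  have hs₂z : ∀ z, algebraMap R Λ s₂ * evW (F₀ z) = 0 := by
    intro z
    have h1 : s₂ = (∏ z' ∈ Finset.univ.erase z, sz z') * sz z := by
      rw [Finset.prod_erase_mul _ _ (Finset.mem_univ z)]
    rw [h1, map_mul, mul_assoc, hsz, mul_zero]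
  let t₁ : R := s₂ * t₀
  have ht₁ : t₁ ∈ S := S.mul_mem hs₂ ht₀
  let F' : Fin c ⊕ Fin m → MvPolynomial (Fin n ⊕ Fin m) R := fun z => C s₂ * F₀ z
  have hF' : ∀ z, map (algebraMap R Rₛ) (F' z) = C (algebraMap R Rₛ t₁) * ρ z := by
    intro z
    change map (algebraMap R Rₛ) (C s₂ * F₀ z) = _
    rw [map_mul, map_C, hF₀, ← mul_assoc, ← C_mul, ← map_mul]
  have hevF' : ∀ z, evW (F' z) = 0 := by
    intro z
    change evW (C s₂ * F₀ z) = 0
    rw [map_mul, ← algebraMap_eq, AlgHom.commutes]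
    exact hs₂z z
  -- Step 5: the tail relations
  let ren : MvPolynomial (Fin m) R →ₐ[R] MvPolynomial (Fin n ⊕ Fin m) R := rename Sum.inr
  let G : Fin t → MvPolynomial (Fin n ⊕ Fin m) R := fun l => ren (gl l)
  have hevren : ∀ p, evW (ren p) = φ (ψ p) := by
    have h1 : evW.comp ren = φ.comp ψ := by
      refine MvPolynomial.algHom_ext fun k => ?_
      change aeval W (rename Sum.inr (X k)) = φ (ψ (X k))
      rw [rename_X, aeval_X]
      rfl
    intro p
    exact DFunLike.congr_fun h1 p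
  have hgl : ∀ l, ψ (gl l) = 0 := by
    intro l
    have : gl l ∈ RingHom.ker ψ.toRingHom := by
      rw [hψker]; exact Ideal.subset_span ⟨l, rfl⟩
    exact this
  have hΘren : ∀ p, Θ (map (algebraMap R Rₛ) (ren p)) = g₀ (ψ p) := by
    have h1 : (Θ.toRingHom.comp (map (algebraMap R Rₛ))).comp ren.toRingHom =
        g₀.toRingHom.comp ψ.toRingHom := by
      refine MvPolynomial.ringHom_ext (fun r => ?_) (fun k => ?_)
      · simp only [RingHom.comp_apply, AlgHom.toRingHom_eq_coe, RingHom.coe_coe]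
        rw [← algebraMap_eq, AlgHom.commutes, AlgHom.commutes, AlgHom.commutes, algebraMap_eq,
          map_C, ← algebraMap_eq, AlgHom.commutes, ← IsScalarTower.algebraMap_apply]
      · simp only [RingHom.comp_apply, AlgHom.toRingHom_eq_coe, RingHom.coe_coe]
        change Θ (map (algebraMap R Rₛ) (rename Sum.inr (X k))) = g₀ (ψ (X k))
        rw [rename_X, map_X]
        change aeval V (X (Sum.inr k)) = _
        rw [aeval_X]
        rfl
    intro p
    exact congr($h1 p)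
  -- Step 6: the algebra `B`
  let rel : (Fin c ⊕ Fin m) ⊕ Fin t → MvPolynomial (Fin n ⊕ Fin m) R := Sum.elim F' G
  let I : Ideal (MvPolynomial (Fin n ⊕ Fin m) R) := Ideal.span (Set.range rel)
  have hF'I : ∀ z, F' z ∈ I := fun z => Ideal.subset_span ⟨Sum.inl z, rfl⟩
  have hGI : ∀ l, G l ∈ I := fun l => Ideal.subset_span ⟨Sum.inr l, rfl⟩
  have hleadI : Ideal.span (Set.range F') ≤ I := by
    rw [Ideal.span_le]
    rintro _ ⟨z, rfl⟩
    exact hF'I z
  have hevI : ∀ p ∈ I, evW p = 0 := by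
    intro p hp
    have hle : I ≤ RingHom.ker evW.toRingHom := by
      rw [Ideal.span_le]
      rintro _ ⟨z | l, rfl⟩
      · exact hevF' z
      · change evW (ren (gl l)) = 0
        rw [hevren, hgl, map_zero]
    exact hle hp
  let β : (MvPolynomial (Fin n ⊕ Fin m) R ⧸ I) →ₐ[R] Λ := Ideal.Quotient.liftₐ I evW hevI
  have hβmk : ∀ p, β (Ideal.Quotient.mk I p) = evW p := fun p => rfl
  obtain ⟨α, hα⟩ := LiftA.exists_lift_quot ψ hψ ren I (by
    intro p hp
    have hp' : p ∈ Ideal.span (Set.range gl) := by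
      rw [← hψker]; exact hp
    have h1 := Ideal.mem_map_of_mem ren.toRingHom hp'
    rw [Ideal.map_span] at h1
    refine (Ideal.span_le.mpr ?_) h1
    rintro _ ⟨_, ⟨l, rfl⟩, rfl⟩
    exact hGI l)
  refine ⟨MvPolynomial (Fin n ⊕ Fin m) R ⧸ I, inferInstance, inferInstance, α, β, ?_, ?_⟩
  · refine AlgHom.ext fun x => ?_
    obtain ⟨p, rfl⟩ := hψ x
    rw [AlgHom.comp_apply, hα, hβmk, hevren]
  -- Step 7: the elementary standard element
  have hmemker : ∀ p : MvPolynomial (Fin n ⊕ Fin m) R, Θ (map (algebraMap R Rₛ) p) = 0 →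
      ∃ s ∈ S, C s * p ∈ Ideal.span (Set.range F') := by
    intro p hp
    refine exists_mul_mem_span S F' ρ t₁ ht₁ hF' p ?_
    rw [← hkerΘ]
    exact hp
  let cols₂ : Fin c ⊕ Fin m → Fin n ⊕ Fin m := Sum.map cols id
  have hcols₂ : Function.Injective cols₂ := by
    intro z z' h
    rcases z with j | k <;> rcases z' with j' | k'
    · simp only [cols₂, Sum.map_inl, Sum.inl.injEq] at h
      rw [cols.injective h]
    · simp [cols₂] at h
    · simp [cols₂] at h
    · simp only [cols₂, Sum.map_inr, id_eq, Sum.inr.injEq] at h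
      rw [h]
  let Δ : MvPolynomial (Fin n ⊕ Fin m) R :=
    Matrix.det (Matrix.of fun z z' : Fin c ⊕ Fin m => pderiv (cols₂ z') (F' z))
  let τ : Rₛ := algebraMap R Rₛ t₁
  have hτ : IsUnit τ := IsLocalization.map_units Rₛ ⟨t₁, ht₁⟩
  have hmapΔ : map (algebraMap R Rₛ) Δ = C τ ^ (c + m) *
      Matrix.det (Matrix.of fun z z' : Fin c ⊕ Fin m => pderiv (cols₂ z') (ρ z)) := by
    change map (algebraMap R Rₛ) (Matrix.det _) = _
    rw [RingHom.map_det]
    have h1 : (map (algebraMap R Rₛ)).mapMatrix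
        (Matrix.of fun z z' : Fin c ⊕ Fin m => pderiv (cols₂ z') (F' z)) =
        (C τ : MvPolynomial (Fin n ⊕ Fin m) Rₛ) •
          (Matrix.of fun z z' : Fin c ⊕ Fin m => pderiv (cols₂ z') (ρ z)) := by
      refine Matrix.ext fun z z' => ?_
      simp only [RingHom.mapMatrix_apply, Matrix.map_apply, Matrix.of_apply, Matrix.smul_apply,
        smul_eq_mul]
      rw [← pderiv_map, hF', Derivation.leibniz, pderiv_C, smul_zero, add_zero, smul_eq_mul]
    rw [h1, Matrix.det_smul, Fintype.card_sum, Fintype.card_fin, Fintype.card_fin]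
  have hbinv : IsUnit binv := by
    refine ⟨⟨binv, a, ?_, hab⟩, rfl⟩
    rw [mul_comm]; exact hab
  have hΔunit : IsUnit (Θ (map (algebraMap R Rₛ) Δ)) := by
    rw [hmapΔ, det_jacobian_relsV, map_mul, map_mul, map_pow, aeval_gensV_scale v w hab]
    refine IsUnit.mul ?_ (IsUnit.mul ?_ hjac)
    · refine IsUnit.pow _ ?_
      change IsUnit (aeval V (C τ))
      rw [aeval_C]
      exact hτ.map (algebraMap Rₛ B')
    · change IsUnit (aeval V (C (binv ^ c)))
      rw [aeval_C]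
      exact (hbinv.pow c).map (algebraMap Rₛ B')
  obtain ⟨u', hu'⟩ := hΔunit.exists_right_inv
  obtain ⟨q, hq⟩ := hsurjΘ u'
  obtain ⟨p₁, s₃, hs₃, hp₁⟩ := exists_numerator S q
  have hker₁ : Θ (map (algebraMap R Rₛ) (Δ * p₁ - C s₃)) = 0 := by
    rw [map_sub, map_mul, map_sub, map_mul, ← hp₁, map_mul, hq, ← mul_assoc, hu', one_mul, map_C]
    exact sub_self _
  obtain ⟨s₄, hs₄, hs₄mem⟩ := hmemker _ hker₁
  have htail : ∀ l, ∃ s ∈ S, C s * G l ∈ Ideal.span (Set.range F') := by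
    intro l
    refine hmemker _ ?_
    change Θ (map (algebraMap R Rₛ) (ren (gl l))) = 0
    rw [hΘren, hgl, map_zero]
  choose sl hslS hsl using htail
  let s₅ : R := ∏ l, sl l
  have hs₅ : s₅ ∈ S := Submonoid.prod_mem S (fun l _ => hslS l)
  have hs₅l : ∀ l, C s₅ * G l ∈ Ideal.span (Set.range F') := by
    intro l
    have h1 : s₅ = (∏ l' ∈ Finset.univ.erase l, sl l') * sl l := by
      rw [Finset.prod_erase_mul _ _ (Finset.mem_univ l)]
    rw [h1, C_mul, mul_assoc]
    exact Ideal.mul_mem_left _ _ (hsl l)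
  let s : R := s₅ * (s₄ * s₃)
  have hs : s ∈ S := S.mul_mem hs₅ (S.mul_mem hs₄ hs₃)
  refine ⟨s, hs, ?_⟩
  have hkerq : RingHom.ker (Ideal.Quotient.mkₐ R I).toRingHom = Ideal.span (Set.range rel) := by
    change RingHom.ker (Ideal.Quotient.mk I) = _
    rw [Ideal.mk_ker]
  have hrowsrange : Set.range (rel ∘ (⟨Sum.inl, Sum.inl_injective⟩ :
      (Fin c ⊕ Fin m) ↪ (Fin c ⊕ Fin m) ⊕ Fin t)) = Set.range F' := by
    ext y
    constructor
    · rintro ⟨z, rfl⟩
      exact ⟨z, rfl⟩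
    · rintro ⟨z, rfl⟩
      exact ⟨z, rfl⟩
  have hCs : C s - C (s₅ * s₄) * p₁ * Δ ∈ Ideal.span (Set.range F') := by
    have h1 : C s - C (s₅ * s₄) * p₁ * Δ = -(C s₅ * (C s₄ * (Δ * p₁ - C s₃))) := by
      simp only [s, C_mul]
      ring
    rw [h1]
    exact neg_mem (Ideal.mul_mem_left _ _ hs₄mem)
  refine isElementaryStandard_of_fintype rel (Ideal.Quotient.mkₐ R I)
    (Ideal.Quotient.mkₐ_surjective R I) hkerq ⟨Sum.inl, Sum.inl_injective⟩ ⟨cols₂, hcols₂⟩
    (algebraMap R _ s) (Ideal.Quotient.mk I (C (s₅ * s₄) * p₁)) ?_ ?_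
  · change Ideal.Quotient.mk I (C s) = Ideal.Quotient.mk I (C (s₅ * s₄) * p₁) *
      Ideal.Quotient.mk I Δ
    rw [← map_mul, Ideal.Quotient.eq]
    exact hleadI hCs
  · intro a₁ ha₁ ℓ
    rw [hrowsrange]
    have ha₁' : a₁ - C s ∈ I := by
      rw [← Ideal.Quotient.eq]
      exact ha₁
    rcases ℓ with z | l
    · refine Ideal.mem_sup_left ?_
      exact Ideal.mul_mem_left _ _ (Ideal.subset_span ⟨z, rfl⟩)
    · change a₁ * G l ∈ _
      have h1 : a₁ * G l = C (s₄ * s₃) * (C s₅ * G l) + (a₁ - C s) * G l := by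
        simp only [s, C_mul]
        ring
      rw [h1]
      refine Ideal.add_mem _ (Ideal.mem_sup_left (Ideal.mul_mem_left _ _ (hs₅l l)))
        (Ideal.mem_sup_right ?_)
      rw [pow_two]
      exact Ideal.mul_mem_mul ha₁' (hGI l)

end Groth.Agent.Helper8.DelB
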