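import Mathlib
import Groth.Agent.Lib.Helper8.DelB4
import Groth.Agent.S2025

/-!
# Delocalizing the base, V: the lemma for smooth algebras over the localization
-/

set_option autoImplicit false
universe u

namespace Groth.Agent.Helper8.DelB

open MvPolynomial Smoothing

/-- Explicit presentation data of a standard smooth algebra. -/
theorem exists_data_of_isStandardSmooth (K B : Type u) [CommRing K] [CommRing B] [Algebra K B]
    [Algebra.IsStandardSmooth K B] :
    ∃ (n c : ℕ) (f : Fin c → MvPolynomial (Fin n) K) (v : Fin n → B) (cols : Fin c ↪ Fin n),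
      Function.Surjective (aeval v : MvPolynomial (Fin n) K →ₐ[K] B) ∧
      RingHom.ker (aeval v : MvPolynomial (Fin n) K →ₐ[K] B).toRingHom =
        Ideal.span (Set.range f) ∧
      IsUnit (aeval v (Matrix.det (Matrix.of fun j k : Fin c => pderiv (cols k) (f j)))) := by
  classical
  obtain ⟨ι, σ, _, _, ⟨P₀⟩⟩ := (inferInstance : Algebra.IsStandardSmooth K B).out
  haveI := Fintype.ofFinite ι
  haveI := Fintype.ofFinite σ
  let P := P₀.reindex (Fintype.equivFin ι).symm (Fintype.equivFin σ).symm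
  refine ⟨Fintype.card ι, Fintype.card σ, P.relation, P.val, ⟨P.map, P.map_inj⟩, ?_, ?_, ?_⟩
  · intro y
    obtain ⟨x, hx⟩ := P.algebraMap_surjective y
    exact ⟨x, by rw [← hx, P.algebraMap_apply]⟩
  · rw [P.span_range_relation_eq_ker, P.ker_eq_ker_aeval_val]
    rfl
  · have h1 := P.jacobian_isUnit
    rw [Algebra.PreSubmersivePresentation.jacobian_eq_jacobiMatrix_det,
      Algebra.Generators.algebraMap_apply] at h1
    have h2 : P.jacobiMatrix =
        (Matrix.of fun j k : Fin (Fintype.card σ) =>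
          pderiv ((⟨P.map, P.map_inj⟩ : Fin (Fintype.card σ) ↪ Fin (Fintype.card ι)) k)
            (P.relation j)).transpose := by
      refine Matrix.ext fun i j => ?_
      rw [Algebra.PreSubmersivePresentation.jacobiMatrix_apply]
      rfl
    rw [h2, Matrix.det_transpose] at h1
    exact h1

set_option maxHeartbeats 800000 in
/-- Delocalizing the base, with flexible models of the localizations. -/
theorem delocalize_base' {R A Λ Rₛ Λₛ B' : Type u} [CommRing R] [CommRing A] [Algebra R A]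
    [Algebra.FinitePresentation R A] [CommRing Λ] [Algebra R Λ] (φ : A →ₐ[R] Λ)
    (S : Submonoid R) [CommRing Rₛ] [Algebra R Rₛ] [IsLocalization S Rₛ] [CommRing Λₛ]
    [Algebra Λ Λₛ] [IsLocalization (Algebra.algebraMapSubmonoid Λ S) Λₛ]
    [CommRing B'] [Algebra Rₛ B'] [Algebra R B'] [IsScalarTower R Rₛ B'] [Algebra.Smooth Rₛ B']
    (g₀ : A →ₐ[R] B') (h₀ : B' →+* Λₛ)
    (hh₀R : ∀ r : R, h₀ (algebraMap R B' r) = algebraMap Λ Λₛ (algebraMap R Λ r))
    (hcompat : ∀ x : A, h₀ (g₀ x) = algebraMap Λ Λₛ (φ x)) :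
    ∃ (B : Type u) (_ : CommRing B) (_ : Algebra R B) (α : A →ₐ[R] B) (β : B →ₐ[R] Λ),
      β.comp α = φ ∧ ∃ s ∈ S, IsElementaryStandard R B (algebraMap R B s) := by
  classical
  -- reduce to the standard smooth case
  obtain ⟨B'', _, _, _, _, -, ⟨ρ⟩, hstd⟩ := Groth.Agent.S2025.result (R := Rₛ) (A := B')
  haveI := hstd
  letI algRB'' : Algebra R B'' := ((algebraMap Rₛ B'').comp (algebraMap R Rₛ)).toAlgebra
  haveI towRRₛB'' : IsScalarTower R Rₛ B'' := IsScalarTower.of_algebraMap_eq (fun _ => rfl)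
  have halg : ∀ r : R, algebraMap R B'' r = algebraMap B' B'' (algebraMap R B' r) := by
    intro r
    change algebraMap Rₛ B'' (algebraMap R Rₛ r) = _
    rw [IsScalarTower.algebraMap_apply Rₛ B' B'', ← IsScalarTower.algebraMap_apply R Rₛ B']
  let g₁ : A →ₐ[R] B'' :=
    { (algebraMap B' B'').comp g₀.toRingHom with
      commutes' := fun r => by
        change algebraMap B' B'' (g₀ (algebraMap R A r)) = _
        rw [g₀.commutes, halg] }
  have hg₁ : ∀ x, g₁ x = algebraMap B' B'' (g₀ x) := fun x => rfl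
  let h₁ : B'' →+* Λₛ := h₀.comp ρ.toRingHom
  have hh₁ : ∀ y, h₁ y = h₀ (ρ y) := fun y => rfl
  have hh₁R : ∀ r : R, h₁ (algebraMap R B'' r) = algebraMap Λ Λₛ (algebraMap R Λ r) := by
    intro r
    rw [hh₁, halg, ρ.commutes]
    exact hh₀R r
  have hcompat₁ : ∀ x : A, h₁ (g₁ x) = algebraMap Λ Λₛ (φ x) := by
    intro x
    rw [hh₁, hg₁, ρ.commutes]
    exact hcompat x
  -- presentations
  obtain ⟨m, ψ, hψ, hfg⟩ := Algebra.FinitePresentation.out (R := R) (A := A)
  obtain ⟨t, gl, hgl⟩ := Submodule.fg_iff_exists_fin_generating_family.mp hfg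
  obtain ⟨n, c, f, v, cols, hsurj, hker, hjac⟩ := exists_data_of_isStandardSmooth Rₛ B''
  exact core φ S g₁ h₁ hh₁R hcompat₁ ψ hψ gl hgl.symm f v cols hsurj hker hjac

end Groth.Agent.Helper8.DelB
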