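import Mathlib
import Groth.Agent.Lib.Helper8.SepR12
import Groth.Agent.Lib.Helper8.LocTr7

/-!
# Popescu's theorem, A1: a map with unit singular radical factors through a smooth algebra
-/

set_option autoImplicit false
universe u

namespace Groth.Agent.Helper8.PopA

open MvPolynomial

set_option maxHeartbeats 800000 in
set_option synthInstance.maxHeartbeats 200000 in
/-- If the singular ideal of `A` over `R` generates the unit ideal of `Λ`, then `A → Λ` factors
through a smooth `R`-algebra. -/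
theorem exists_smooth_factor_of_singRad_eq_top {R A Λ : Type u} [CommRing R] [CommRing A]
    [Algebra R A] [Algebra.FinitePresentation R A] [CommRing Λ] [Algebra R Λ] (φ : A →ₐ[R] Λ)
    (h : Smoothing.singRad R φ = ⊤) :
    ∃ (B : Type u) (_ : CommRing B) (_ : Algebra R B), Algebra.Smooth R B ∧
      ∃ (g : A →ₐ[R] B) (h' : B →ₐ[R] Λ), h'.comp g = φ := by
  classical
  have h1 : (Smoothing.singularIdeal R A).map φ = ⊤ := Ideal.radical_eq_top.mp h
  have h2 : (1 : Λ) ∈ Ideal.span (φ '' (Smoothing.singularIdeal R A : Set A)) := by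
    have : (1 : Λ) ∈ (Smoothing.singularIdeal R A).map φ := by rw [h1]; trivial
    exact this
  obtain ⟨c, T, hT, -, hsum⟩ := Submodule.mem_span_iff_exists_finset_subset.mp h2
  -- choose preimages
  have hpre : ∀ x : T, ∃ a ∈ Smoothing.singularIdeal R A, φ a = (x : Λ) := by
    intro x
    obtain ⟨a, ha, hax⟩ := hT x.2
    exact ⟨a, ha, hax⟩
  choose a₀ ha₀ ha₀φ using hpre
  let r := T.card
  let e : Fin r ≃ T := (T.equivFin).symm
  let a : Fin r → A := fun j => a₀ (e j)
  have hsm : ∀ j, Algebra.FormallySmooth R (Localization.Away (a j)) := fun j =>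
    LocTr.formallySmooth_of_mem_singularIdeal _ (ha₀ (e j))
  obtain ⟨B, _, _, _, _, _, _, hfpB, -, hsma, ⟨z, hz⟩, huniv⟩ := SepR.exists_B'' 1 r 0 a hsm
  haveI := hfpB
  -- `B` is smooth over `R[x]`
  have hfsmooth : Algebra.FormallySmooth (MvPolynomial (Fin 1) R) B := by
    rw [← Algebra.smoothLocus_eq_univ_iff]
    ext Q
    simp only [Set.mem_univ, iff_true]
    have hex : ∃ j, algebraMap A B (a j) ∉ Q.asIdeal := by
      by_contra hcon
      push Not at hcon
      have h3 := hz 0
      rw [pow_zero] at h3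
      apply Q.isPrime.ne_top
      rw [Ideal.eq_top_iff_one, h3]
      exact Ideal.sum_mem _ fun j _ => Ideal.mul_mem_left _ _ (hcon j)
    obtain ⟨j, hj⟩ := hex
    exact LiftA.isSmoothAt_of_formallySmooth_away _ (hsma j) Q.asIdeal hj
  haveI hsmooth : Algebra.Smooth (MvPolynomial (Fin 1) R) B := ⟨hfsmooth, inferInstance⟩
  haveI : Algebra.Smooth R (MvPolynomial (Fin 1) R) := ⟨inferInstance, inferInstance⟩
  haveI hsmR : Algebra.Smooth R B := Algebra.Smooth.comp R (MvPolynomial (Fin 1) R) B
  -- the map to `Λ`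
  have hrel : ∀ i : Fin 1, (fun _ : Fin 1 => (0 : Λ)) i ^ 0 =
      ∑ j, (fun (_ : Fin 1) (j : Fin r) => c ((e j : T) : Λ)) i j * φ (a j) := by
    intro i
    rw [pow_zero]
    have h4 : ∑ j, c ((e j : T) : Λ) * φ (a j) = ∑ x : T, c (x : Λ) * (x : Λ) := by
      rw [← Equiv.sum_comp e]
      refine Finset.sum_congr rfl fun j _ => ?_
      rw [ha₀φ]
    rw [h4, Finset.sum_coe_sort T (fun x => c x * x)]
    simpa [smul_eq_mul] using hsum.symm
  obtain ⟨β, hβA, -⟩ := huniv Λ φ (fun _ => 0) (fun _ j => c ((e j : T) : Λ)) hrel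
  refine ⟨B, inferInstance, inferInstance, hsmR, IsScalarTower.toAlgHom R A B, β, ?_⟩
  exact AlgHom.ext fun x => hβA x

end Groth.Agent.Helper8.PopA
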