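import Mathlib
import Groth.Agent.Lib.Helper8.PopA1
import Groth.Agent.Lib.Helper8.LiftB2
import Groth.Agent.Lib.Helper8.SepR1

/-!
# Popescu's theorem, A2: the inductive step along a strictly standard element
-/

set_option autoImplicit false
universe u

namespace Groth.Agent.Helper8.PopA

open TensorProduct

set_option maxHeartbeats 800000 in
set_option synthInstance.maxHeartbeats 200000 in
/-- If `π` is strictly standard in `A`, satisfies the annihilator conditions, and `Λ/π⁸Λ` is
ind-smooth over `R/π⁸R`, then `A → Λ` factors through a smooth `R`-algebra. -/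
theorem exists_smooth_factor_of_strictlyStandard {R Λ A Rb Λb : Type u} [CommRing R]
    [IsNoetherianRing R] [CommRing Λ] [Algebra R Λ] (π : R)
    (hR : ∀ r : R, π ^ 2 * r = 0 → π * r = 0)
    (hΛ : ∀ x : Λ, π ^ 2 • x = 0 → π • x = 0) [CommRing A] [Algebra R A]
    [Algebra.FinitePresentation R A] (φ : A →ₐ[R] Λ)
    (hπ : Smoothing.IsStrictlyStandard R A (algebraMap R A π))
    [CommRing Rb] [Algebra R Rb] (hRb1 : Function.Surjective (algebraMap R Rb))
    (hRb2 : RingHom.ker (algebraMap R Rb) = Ideal.span {π ^ 8})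
    [CommRing Λb] [Algebra Λ Λb] [Algebra R Λb] [IsScalarTower R Λ Λb]
    (hΛb1 : Function.Surjective (algebraMap Λ Λb))
    (hΛb2 : RingHom.ker (algebraMap Λ Λb) = Ideal.span {algebraMap R Λ (π ^ 8)})
    [Algebra Rb Λb] [IsScalarTower R Rb Λb]
    (hInd : Smoothing.IndSmooth Rb Λb) :
    ∃ (B : Type u) (_ : CommRing B) (_ : Algebra R B), Algebra.Smooth R B ∧
      ∃ (g : A →ₐ[R] B) (h' : B →ₐ[R] Λ), h'.comp g = φ := by
  classical
  -- the problem over `Rb`
  let fb : Rb ⊗[R] A →ₐ[Rb] Λb :=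
    Algebra.TensorProduct.lift (Algebra.ofId Rb Λb) ((IsScalarTower.toAlgHom R Λ Λb).comp φ)
      (fun _ _ => Commute.all _ _)
  obtain ⟨C, _, _, hsmC, gb, hb, hcompb⟩ := hInd (Rb ⊗[R] A) inferInstance fb
  haveI := hsmC
  haveI hfpC : Algebra.FinitePresentation Rb C := hsmC.finitePresentation
  letI algRC : Algebra R C := ((algebraMap Rb C).comp (algebraMap R Rb)).toAlgebra
  haveI towRRbC : IsScalarTower R Rb C := IsScalarTower.of_algebraMap_eq (fun _ => rfl)
  let γ : A →ₐ[R] C := (gb.restrictScalars R).comp Algebra.TensorProduct.includeRight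
  let g : C →ₐ[R] Λb := hb.restrictScalars R
  have hfac : ∀ a : A, g (γ a) = algebraMap Λ Λb (φ a) := by
    intro a
    change hb (gb (1 ⊗ₜ[R] a)) = _
    rw [← AlgHom.comp_apply, hcompb]
    change Algebra.TensorProduct.lift _ _ _ (1 ⊗ₜ[R] a) = _
    rw [Algebra.TensorProduct.lift_tmul, map_one, one_mul]
    rfl
  obtain ⟨B, _, _, hfpB, α, β, hαβ, hsm, hsing⟩ :=
    LiftB.lifting_pi8_model π hR hΛ φ hπ hRb1 hRb2 hΛb1 hΛb2 γ g hfac
  haveI := hfpB
  -- the singular radical of `β` is the unit ideal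
  have htop : Smoothing.singRad R β = ⊤ := by
    have h1 : (1 : C) ∈ Smoothing.singularIdeal Rb C := by
      rw [SepR.singularIdeal_eq_top_of_smooth]
      trivial
    obtain ⟨l, hl, hl1⟩ := hsing 1 h1
    rw [map_one] at hl1
    have h2 : 1 - l ∈ Ideal.span {algebraMap R Λ (π ^ 8)} := by
      rw [← hΛb2, RingHom.mem_ker, map_sub, map_one, hl1, sub_self]
    have hfs : Algebra.FormallySmooth R (Localization.Away (algebraMap R B π)) := by
      refine Algebra.basicOpen_subset_smoothLocus_iff.mp fun Q hQ => ?_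
      exact hsm Q.asIdeal hQ
    have h3 : algebraMap R B π ∈ Smoothing.singularIdeal R B :=
      LocTr.mem_singularIdeal_of_formallySmooth _ hfs
    have h4 : algebraMap R Λ π ∈ Smoothing.singRad R β := by
      apply Ideal.le_radical
      have := Ideal.mem_map_of_mem β h3
      rwa [β.commutes] at this
    have h5 : algebraMap R Λ (π ^ 8) ∈ Smoothing.singRad R β := by
      rw [map_pow]
      exact Ideal.pow_mem_of_mem _ h4 8 (by norm_num)
    have h6 : 1 - l ∈ Smoothing.singRad R β :=
      (Ideal.span_le.mpr (Set.singleton_subset_iff.mpr h5)) h2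
    rw [Ideal.eq_top_iff_one]
    have h7 : (1 : Λ) = (1 - l) + l := by ring
    rw [h7]
    exact Ideal.add_mem _ h6 hl
  obtain ⟨B₂, _, _, hsmB₂, g₂, h₂, hc₂⟩ := exists_smooth_factor_of_singRad_eq_top β htop
  refine ⟨B₂, inferInstance, inferInstance, hsmB₂, g₂.comp α, h₂, ?_⟩
  rw [← AlgHom.comp_assoc, hc₂, hαβ]

end Groth.Agent.Helper8.PopA
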