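import Mathlib
import Groth.Agent.Lib.Helper8.SmLift5
import Groth.Agent.Lib.Helper8.Equidim3
import Groth.Prelude.Def_Smoothing

/-!
# Popescu's theorem, A3: Artinian quotients of a flat local homomorphism
-/

set_option autoImplicit false
universe u

namespace Groth.Agent.Helper8.PopA

open IsLocalRing Smoothing

/-- Over the zero ring everything is ind-smooth. -/
theorem indSmooth_of_subsingleton (R₀ Λ₀ : Type u) [CommRing R₀] [CommRing Λ₀] [Algebra R₀ Λ₀]
    [Subsingleton R₀] : IndSmooth R₀ Λ₀ := by
  intro A _ _ hfp f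
  haveI : Subsingleton A := by
    refine ⟨fun x y => ?_⟩
    have h1 : (1 : A) = 0 := by
      rw [← map_one (algebraMap R₀ A), Subsingleton.elim (1 : R₀) 0, map_zero]
    rw [← mul_one x, ← mul_one y, h1, mul_zero, mul_zero]
  haveI : Algebra.IsStandardSmooth R₀ A := inferInstance
  haveI : Algebra.Smooth R₀ A := inferInstance
  exact ⟨A, inferInstance, inferInstance, inferInstance, AlgHom.id R₀ A, f, AlgHom.comp_id f⟩

/-- An elementary standard element is strictly standard. -/
theorem isStrictlyStandard_of_isElementaryStandard {R A : Type u} [CommRing R] [CommRing A]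
    [Algebra R A] {a : A} (h : IsElementaryStandard R A a) : IsStrictlyStandard R A a := by
  obtain ⟨P, ⟨a', ha'⟩, hk⟩ := h
  refine ⟨P, ?_, hk⟩
  rw [ha']
  exact Ideal.mul_mem_left _ _ (Ideal.subset_span ⟨Fin.castLE P.hcn, rfl⟩)

/-- An algebra with an elementary standard element is finitely presented. -/
theorem finitePresentation_of_isElementaryStandard {R A : Type u} [CommRing R] [CommRing A]
    [Algebra R A] {a : A} (h : IsElementaryStandard R A a) : Algebra.FinitePresentation R A := by
  obtain ⟨P, -, -⟩ := h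
  refine Algebra.FinitePresentation.of_surjective (f := P.hom) P.surj ?_
  change (RingHom.ker P.hom.toRingHom).FG
  rw [P.ker_eq]
  exact Submodule.fg_span (Set.finite_range _)

set_option maxHeartbeats 800000 in
set_option synthInstance.maxHeartbeats 200000 in
/-- A flat local homomorphism of local rings whose closed fibre is the residue field extension,
ind-smooth: its Artinian quotients are ind-smooth. -/
theorem indSmooth_quot_of_local {R Λ : Type u} [CommRing R] [IsLocalRing R] [CommRing Λ]
    [IsLocalRing Λ] [Algebra R Λ] [IsLocalHom (algebraMap R Λ)] [Module.Flat R Λ]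
    (he : (maximalIdeal R).map (algebraMap R Λ) = maximalIdeal Λ)
    (hInd : IndSmooth (ResidueField R) (ResidueField Λ)) (K : Ideal R) (N : ℕ)
    (hN : maximalIdeal R ^ N ≤ K) :
    IndSmooth (R ⧸ K) (Λ ⧸ K.map (algebraMap R Λ)) := by
  classical
  by_cases hKtop : K = ⊤
  · haveI : Subsingleton (R ⧸ K) := by
      rw [hKtop]; exact Ideal.Quotient.subsingleton_iff.mpr rfl
    exact indSmooth_of_subsingleton _ _
  have hKm : K ≤ maximalIdeal R := IsLocalRing.le_maximalIdeal hKtop
  let J : Ideal Λ := K.map (algebraMap R Λ)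
  have hJm : J ≤ maximalIdeal Λ := by
    rw [← he]
    exact Ideal.map_mono hKm
  -- the residue field of `R` as an `R/K`-algebra
  let ε : (R ⧸ K) →+* ResidueField R := Ideal.Quotient.lift K (residue R) (fun a ha => by
    rw [residue_eq_zero_iff]
    exact hKm ha)
  letI algR₀κ : Algebra (R ⧸ K) (ResidueField R) := ε.toAlgebra
  have hεmk : ∀ r : R, algebraMap (R ⧸ K) (ResidueField R) (Ideal.Quotient.mk K r) =
      residue R r := fun r => rfl
  letI algR₀κΛ : Algebra (R ⧸ K) (ResidueField Λ) :=
    ((algebraMap (ResidueField R) (ResidueField Λ)).comp ε).toAlgebra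
  haveI tow : IsScalarTower (R ⧸ K) (ResidueField R) (ResidueField Λ) :=
    IsScalarTower.of_algebraMap_eq (fun _ => rfl)
  have hI : RingHom.ker (algebraMap (R ⧸ K) (ResidueField R)) =
      (maximalIdeal R).map (Ideal.Quotient.mk K) := by
    apply le_antisymm
    · intro x hx
      obtain ⟨r, rfl⟩ := Ideal.Quotient.mk_surjective x
      rw [RingHom.mem_ker, hεmk, residue_eq_zero_iff] at hx
      exact Ideal.mem_map_of_mem _ hx
    · rw [Ideal.map_le_iff_le_comap]
      intro r hr
      rw [Ideal.mem_comap, RingHom.mem_ker, hεmk, residue_eq_zero_iff]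
      exact hr
  have hIN : (RingHom.ker (algebraMap (R ⧸ K) (ResidueField R))) ^ N = ⊥ := by
    rw [hI, ← Ideal.map_pow, eq_bot_iff]
    refine (Ideal.map_mono hN).trans ?_
    rw [Ideal.map_quotient_self]
  have hsurjε : Function.Surjective (algebraMap (R ⧸ K) (ResidueField R)) := by
    intro y
    obtain ⟨r, rfl⟩ := residue_surjective y
    exact ⟨Ideal.Quotient.mk K r, rfl⟩
  haveI hflat : Module.Flat (R ⧸ K) (Λ ⧸ J) := Equidim.flat_quot R Λ K
  -- the residue map
  let p₀ : (Λ ⧸ J) →+* ResidueField Λ := Ideal.Quotient.lift J (residue Λ) (fun a ha => by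
    rw [residue_eq_zero_iff]
    exact hJm ha)
  have hp₀mk : ∀ l : Λ, p₀ (Ideal.Quotient.mk J l) = residue Λ l := fun l => rfl
  let p : (Λ ⧸ J) →ₐ[R ⧸ K] ResidueField Λ :=
    { p₀ with
      commutes' := fun x => by
        obtain ⟨r, rfl⟩ := Ideal.Quotient.mk_surjective x
        change p₀ (algebraMap (R ⧸ K) (Λ ⧸ J) (Ideal.Quotient.mk K r)) =
          algebraMap (ResidueField R) (ResidueField Λ) (residue R r)
        rw [Ideal.Quotient.algebraMap_quotient_map_quotient, hp₀mk]
        rfl }
  have hp : Function.Surjective p := by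
    intro y
    obtain ⟨l, rfl⟩ := residue_surjective y
    exact ⟨Ideal.Quotient.mk J l, rfl⟩
  have hkerp : RingHom.ker p = (RingHom.ker (algebraMap (R ⧸ K) (ResidueField R))).map
      (algebraMap (R ⧸ K) (Λ ⧸ J)) := by
    rw [hI, Ideal.map_map]
    have h1 : (algebraMap (R ⧸ K) (Λ ⧸ J)).comp (Ideal.Quotient.mk K) =
        (Ideal.Quotient.mk J).comp (algebraMap R Λ) := by
      ext r
      simp only [RingHom.comp_apply]
      rw [Ideal.Quotient.algebraMap_quotient_map_quotient]
    rw [h1, ← Ideal.map_map, he]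
    apply le_antisymm
    · intro y hy
      obtain ⟨l, rfl⟩ := Ideal.Quotient.mk_surjective y
      have hy' : p₀ (Ideal.Quotient.mk J l) = 0 := hy
      rw [hp₀mk, residue_eq_zero_iff] at hy'
      exact Ideal.mem_map_of_mem _ hy'
    · rw [Ideal.map_le_iff_le_comap]
      intro l hl
      rw [Ideal.mem_comap, RingHom.mem_ker]
      change p₀ (Ideal.Quotient.mk J l) = 0
      rw [hp₀mk, residue_eq_zero_iff]
      exact hl
  exact SmLift.indSmooth_of_pow_eq_bot N _ hIN hsurjε rfl p hp hkerp hInd

end Groth.Agent.Helper8.PopA
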