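import Mathlib
import Groth.Agent.Lib.Helper8.PopA2
import Groth.Agent.Lib.Helper8.PopA3
import Groth.Agent.Lib.Helper8.DelB5

/-!
# Popescu's theorem, A4: unramified extensions of discrete valuation rings
-/

set_option autoImplicit false
universe u

namespace Groth.Agent.Helper8.PopA

open IsLocalRing Smoothing TensorProduct

/-- For an extension of discrete valuation rings with `𝔪_R Λ = 𝔪_Λ`, the fraction field of `Λ` is
the localization of `Λ` at the nonzero elements of `R`. -/
theorem isLocalization_fractionField_of_dvr {R Λ L : Type u} [CommRing R] [IsDomain R]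
    [IsDiscreteValuationRing R] [CommRing Λ] [IsDomain Λ] [IsDiscreteValuationRing Λ]
    [Algebra R Λ] [NoZeroSMulDivisors R Λ]
    (he : (maximalIdeal R).map (algebraMap R Λ) = maximalIdeal Λ)
    [Field L] [Algebra Λ L] [IsFractionRing Λ L] :
    IsLocalization (Algebra.algebraMapSubmonoid Λ (nonZeroDivisors R)) L := by
  have hinj : Function.Injective (algebraMap R Λ) := FaithfulSMul.algebraMap_injective R Λ
  obtain ⟨π, hπ⟩ := IsDiscreteValuationRing.exists_irreducible R
  have hπm : maximalIdeal R = Ideal.span {π} :=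
    (IsDiscreteValuationRing.irreducible_iff_uniformizer π).mp hπ
  have hϖ : Irreducible (algebraMap R Λ π) := by
    rw [IsDiscreteValuationRing.irreducible_iff_uniformizer, ← he, hπm, Ideal.map_span,
      Set.image_singleton]
  have hle : Algebra.algebraMapSubmonoid Λ (nonZeroDivisors R) ≤ nonZeroDivisors Λ := by
    rintro _ ⟨r, hr, rfl⟩
    have hr' : r ≠ 0 := nonZeroDivisors.ne_zero hr
    rw [mem_nonZeroDivisors_iff_ne_zero]
    exact fun h => hr' (hinj (by rw [h, map_zero]))
  refine ⟨fun y => ?_, fun z => ?_, fun {x y} hxy => ?_⟩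
  · exact IsLocalization.map_units L ⟨y.1, hle y.2⟩
  · obtain ⟨⟨l, ⟨ν, hν⟩⟩, h1⟩ := IsLocalization.surj (nonZeroDivisors Λ) z
    have hν0 : ν ≠ 0 := nonZeroDivisors.ne_zero hν
    obtain ⟨k, u, hu⟩ := IsDiscreteValuationRing.eq_unit_mul_pow_irreducible hν0 hϖ
    have hπk : π ^ k ∈ nonZeroDivisors R :=
      mem_nonZeroDivisors_iff_ne_zero.mpr (pow_ne_zero k hπ.ne_zero)
    refine ⟨⟨l * ((u⁻¹ : Λˣ) : Λ), ⟨algebraMap R Λ (π ^ k), π ^ k, hπk, rfl⟩⟩, ?_⟩
    simp only at h1 ⊢
    have h2 : algebraMap R Λ (π ^ k) = ν * ((u⁻¹ : Λˣ) : Λ) := by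
      rw [hu, map_pow, mul_comm (u : Λ), mul_assoc, Units.mul_inv, mul_one]
    rw [h2, map_mul, ← mul_assoc, h1, map_mul]
  · have h1 : x = y := IsFractionRing.injective Λ L hxy
    exact ⟨1, by rw [h1]⟩

set_option maxHeartbeats 1600000 in
set_option synthInstance.maxHeartbeats 200000 in
/-- Néron desingularization via Popescu's method: an unramified extension of discrete valuation
rings with separable residue field and fraction field extensions is ind-smooth. -/
theorem indSmooth_of_dvr {R Λ K L : Type u} [CommRing R] [IsDomain R]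
    [IsDiscreteValuationRing R] [CommRing Λ] [IsDomain Λ] [IsDiscreteValuationRing Λ] [Algebra R Λ]
    [NoZeroSMulDivisors R Λ] [IsLocalHom (algebraMap R Λ)]
    (he : (maximalIdeal R).map (algebraMap R Λ) = maximalIdeal Λ)
    (hres : IndSmooth (ResidueField R) (ResidueField Λ))
    [Field K] [Algebra R K] [IsFractionRing R K] [Field L] [Algebra Λ L] [IsFractionRing Λ L]
    [Algebra K L] [Algebra R L] [IsScalarTower R K L] [IsScalarTower R Λ L]
    (hgen : IndSmooth K L) : IndSmooth R Λ := by
  classical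
  intro A _ _ hfpA f
  haveI := hfpA
  have hinj : Function.Injective (algebraMap R Λ) := FaithfulSMul.algebraMap_injective R Λ
  -- the generic fibre
  let fK : K ⊗[R] A →ₐ[K] L :=
    Algebra.TensorProduct.lift (Algebra.ofId K L) ((IsScalarTower.toAlgHom R Λ L).comp f)
      (fun _ _ => Commute.all _ _)
  obtain ⟨B', _, _, hsmB', g, h, hgh⟩ := hgen (K ⊗[R] A) inferInstance fK
  haveI := hsmB'
  letI algRB' : Algebra R B' := ((algebraMap K B').comp (algebraMap R K)).toAlgebra
  haveI towRKB' : IsScalarTower R K B' := IsScalarTower.of_algebraMap_eq (fun _ => rfl)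
  haveI hlocL : IsLocalization (Algebra.algebraMapSubmonoid Λ (nonZeroDivisors R)) L :=
    isLocalization_fractionField_of_dvr he
  let g₀ : A →ₐ[R] B' := (g.restrictScalars R).comp Algebra.TensorProduct.includeRight
  have hg₀ : ∀ x : A, g₀ x = g (1 ⊗ₜ[R] x) := fun x => rfl
  obtain ⟨B, _, _, α, β, hαβ, s, hsS, hstd⟩ :=
    DelB.delocalize_base' (Rₛ := K) (Λₛ := L) f (nonZeroDivisors R) g₀ h.toRingHom
      (by
        intro r
        change h (algebraMap K B' (algebraMap R K r)) = _
        rw [h.commutes, ← IsScalarTower.algebraMap_apply R K L,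
          ← IsScalarTower.algebraMap_apply R Λ L])
      (by
        intro x
        change h (g₀ x) = _
        rw [hg₀, ← AlgHom.comp_apply, hgh]
        change Algebra.TensorProduct.lift _ _ _ (1 ⊗ₜ[R] x) = _
        rw [Algebra.TensorProduct.lift_tmul, map_one, one_mul]
        rfl)
  haveI hfpB : Algebra.FinitePresentation R B := finitePresentation_of_isElementaryStandard hstd
  have hs0 : s ≠ 0 := nonZeroDivisors.ne_zero hsS
  have hsΛ0 : algebraMap R Λ s ≠ 0 := fun h0 => hs0 (hinj (by rw [h0, map_zero]))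
  -- the Artinian quotient
  have hInd : IndSmooth (R ⧸ Ideal.span {s ^ 8})
      (Λ ⧸ (Ideal.span {s ^ 8}).map (algebraMap R Λ)) := by
    obtain ⟨π, hπ⟩ := IsDiscreteValuationRing.exists_irreducible R
    have hπm : maximalIdeal R = Ideal.span {π} :=
      (IsDiscreteValuationRing.irreducible_iff_uniformizer π).mp hπ
    obtain ⟨k, u, hu⟩ := IsDiscreteValuationRing.eq_unit_mul_pow_irreducible
      (pow_ne_zero 8 hs0) hπ
    refine indSmooth_quot_of_local he hres _ k ?_
    rw [hπm, Ideal.span_singleton_pow, Ideal.span_singleton_le_span_singleton, hu]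
    exact ⟨(u⁻¹ : Rˣ), by rw [mul_comm (u : R), mul_assoc, Units.mul_inv, mul_one]⟩
  obtain ⟨B₂, _, _, hsmB₂, g₂, h₂, hc₂⟩ := exists_smooth_factor_of_strictlyStandard
    (Rb := R ⧸ Ideal.span {s ^ 8}) (Λb := Λ ⧸ (Ideal.span {s ^ 8}).map (algebraMap R Λ)) s
    (by
      intro r hr
      rcases mul_eq_zero.mp hr with h1 | h1
      · exact absurd (pow_eq_zero_iff (by norm_num) |>.mp h1) hs0
      · rw [h1, mul_zero])
    (by
      intro x hx
      rw [Algebra.smul_def, map_pow] at hx
      rcases mul_eq_zero.mp hx with h1 | h1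
      · exact absurd (pow_eq_zero_iff (by norm_num) |>.mp h1) hsΛ0
      · rw [h1, smul_zero])
    β (isStrictlyStandard_of_isElementaryStandard hstd)
    Ideal.Quotient.mk_surjective (by
      change RingHom.ker (Ideal.Quotient.mk _) = _
      rw [Ideal.mk_ker])
    Ideal.Quotient.mk_surjective (by
      change RingHom.ker (Ideal.Quotient.mk _) = _
      rw [Ideal.mk_ker, Ideal.map_span, Set.image_singleton])
    hInd
  refine ⟨B₂, inferInstance, inferInstance, hsmB₂, g₂.comp α, h₂, ?_⟩
  rw [← AlgHom.comp_assoc, hc₂, hαβ]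

end Groth.Agent.Helper8.PopA
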