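import Mathlib
import Groth.Agent.Lib.Helper8.PopA4
import Groth.Agent.Lib.Helper8.InsB22
import Groth.Agent.Lib.Helper8.GenFib1
import Groth.Agent.Lib.Helper2.SepGen
import Groth.Agent.S6823

/-!
# Popescu's theorem, B1: the case of a base field
-/

set_option autoImplicit false
universe u

namespace Groth.Agent.Helper8.PopB

open Smoothing

/-- Over a field, every local problem at a minimal prime of the singular radical of a
geometrically regular Noetherian algebra can be resolved. -/
theorem resolvable_of_field {k A Λ : Type u} [Field k] [CommRing A] [Algebra k A]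
    [Algebra.FinitePresentation k A] [CommRing Λ] [Algebra k Λ] [IsNoetherianRing Λ]
    (hreg : CAlg.IsGeometricallyRegular k Λ) (φ : A →ₐ[k] Λ) (𝔮 : Ideal Λ) [𝔮.IsPrime]
    (hmin : 𝔮 ∈ (singRad k φ).minimalPrimes) : Resolvable k φ 𝔮 := by
  obtain ⟨p, hp⟩ := CharP.exists k
  rcases CharP.char_is_prime_or_zero k p with hpp | hp0
  · haveI : Fact p.Prime := ⟨hpp⟩
    exact InsB.main p hreg φ 𝔮 hmin
  · subst hp0
    haveI : CharZero k := CharP.charP_to_charZero k
    haveI : IsRegularRing Λ := GenFib.isRegularRing_of_isGeometricallyRegular hreg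
    haveI : IsRegularLocalRing (Localization.AtPrime 𝔮) :=
      IsRegularRing.isRegularLocalRing_localization 𝔮
    haveI : Algebra.IsGeometricallyReduced k 𝔮.ResidueField :=
      Groth.Agent.Helper2.Sep.isGeometricallyReduced_of_charZero
    exact Groth.Agent.S6823.result φ 𝔮 hmin

/-- A geometrically regular Noetherian algebra over a field is ind-smooth. -/
theorem indSmooth_of_field {k Λ : Type u} [Field k] [CommRing Λ] [Algebra k Λ]
    [IsNoetherianRing Λ] (hreg : CAlg.IsGeometricallyRegular k Λ) : IndSmooth k Λ := by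
  have key : ∀ I : Ideal Λ, ∀ (A : Type u) [CommRing A] [Algebra k A],
      Algebra.FinitePresentation k A → ∀ φ : A →ₐ[k] Λ, singRad k φ = I →
      ∃ (B : Type u) (_ : CommRing B) (_ : Algebra k B),
        Algebra.Smooth k B ∧ ∃ (g : A →ₐ[k] B) (h : B →ₐ[k] Λ), h.comp g = φ := by
    intro I
    induction I using IsNoetherian.induction with
    | hgt I ih =>
      intro A _ _ hfpA φ hφ
      haveI := hfpA
      by_cases htop : I = ⊤
      · exact PopA.exists_smooth_factor_of_singRad_eq_top φ (hφ.trans htop)
      · obtain ⟨𝔮, h𝔮⟩ := Ideal.nonempty_minimalPrimes htop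
        haveI : 𝔮.IsPrime := h𝔮.1.1
        have hle : I ≤ 𝔮 := h𝔮.1.2
        obtain ⟨B, _, _, hfpB, g, h, hgh, hsub, hnot⟩ :=
          resolvable_of_field hreg φ 𝔮 (hφ ▸ h𝔮)
        have hlt : I < singRad k h := by
          refine lt_of_le_of_ne (hφ ▸ hsub) ?_
          intro heq
          exact hnot (heq ▸ hle)
        obtain ⟨C, _, _, hsmC, g', h', hgh'⟩ := ih (singRad k h) hlt B hfpB h rfl
        refine ⟨C, inferInstance, inferInstance, hsmC, g'.comp g, h', ?_⟩
        rw [← AlgHom.comp_assoc, hgh', hgh]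
  intro A _ _ hfpA f
  exact key _ A hfpA f rfl

end Groth.Agent.Helper8.PopB
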