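import Mathlib
import Groth.Agent.Lib.Helper8.PopB1
import Groth.Agent.Lib.Helper8.LocHom4
import Groth.Agent.Lib.Helper8.LocHom3

/-!
# Popescu's theorem, B2: regular homomorphisms and quotients; fields
-/

set_option autoImplicit false
universe u

namespace Groth.Agent.Helper8.PopB

open Smoothing TensorProduct

/-- The quotient of a regular homomorphism by an ideal of the base is regular. -/
theorem isRegularHom_quot {R Λ : Type u} [CommRing R] [CommRing Λ] [Algebra R Λ]
    (h : CAlg.IsRegularHom R Λ) (I : Ideal R) :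
    CAlg.IsRegularHom (R ⧸ I) (Λ ⧸ I.map (algebraMap R Λ)) := by
  haveI : Module.Flat R Λ := h.1
  haveI hpo : Algebra.IsPushout R (R ⧸ I) Λ (Λ ⧸ I.map (algebraMap R Λ)) := by
    constructor
    refine IsBaseChange.of_equiv
      (Algebra.TensorProduct.quotIdealMapEquivQuotTensor Λ I).symm.toLinearEquiv (fun x => ?_)
    change (Algebra.TensorProduct.quotIdealMapEquivQuotTensor Λ I).symm (1 ⊗ₜ[R] x) = _
    rw [AlgEquiv.symm_apply_eq]
    rfl
  have hst : (algebraMap R (R ⧸ I)).SurjectiveOnStalks :=
    RingHom.surjectiveOnStalks_of_surjective Ideal.Quotient.mk_surjective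
  refine ⟨Module.Flat.isBaseChange R (R ⧸ I) Λ (Λ ⧸ I.map (algebraMap R Λ)) hpo.out,
    fun p' _ => ?_⟩
  obtain ⟨hN, hG⟩ := h.2 (p'.under R)
  obtain ⟨e⟩ := Groth.Agent.Helper8.LocHom.nonempty_fibre_ringEquiv R Λ (R ⧸ I)
    (Λ ⧸ I.map (algebraMap R Λ)) hst p'
  refine ⟨isNoetherianRing_of_ringEquiv _ e.symm, ?_⟩
  exact (Groth.Agent.Helper8.LocHom.isGeometricallyRegular_fiber_iff R Λ (R ⧸ I)
    (Λ ⧸ I.map (algebraMap R Λ)) hst p').2 hG

/-- A regular algebra over a field is geometrically regular. -/
theorem isGeometricallyRegular_of_isRegularHom {k Λ : Type u} [Field k] [CommRing Λ] [Algebra k Λ]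
    (h : CAlg.IsRegularHom k Λ) : CAlg.IsGeometricallyRegular k Λ := by
  obtain ⟨-, hG⟩ := h.2 (⊥ : Ideal k)
  intro K _ _ hfin
  have hbij : Function.Bijective (algebraMap k (⊥ : Ideal k).ResidueField) := by
    have h0 := Ideal.bijective_algebraMap_quotient_residueField (⊥ : Ideal k)
    have h1 : Function.Bijective (algebraMap k (k ⧸ (⊥ : Ideal k))) :=
      (RingEquiv.quotientBot k).symm.bijective
    have h2 := h0.comp h1
    have h3 : ⇑(algebraMap k (⊥ : Ideal k).ResidueField) =
        ⇑(algebraMap (k ⧸ (⊥ : Ideal k)) (⊥ : Ideal k).ResidueField) ∘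
          ⇑(algebraMap k (k ⧸ (⊥ : Ideal k))) := by
      funext x
      exact IsScalarTower.algebraMap_apply k (k ⧸ (⊥ : Ideal k)) _ x
    rw [h3]
    exact h2
  let e : k ≃+* (⊥ : Ideal k).ResidueField := RingEquiv.ofBijective _ hbij
  letI : Algebra (⊥ : Ideal k).ResidueField K := ((algebraMap k K).comp e.symm.toRingHom).toAlgebra
  haveI : IsScalarTower k (⊥ : Ideal k).ResidueField K := IsScalarTower.of_algebraMap_eq (fun x => by
    change algebraMap k K x = algebraMap k K (e.symm (algebraMap k _ x))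
    congr 1
    exact (e.symm_apply_apply x).symm)
  haveI : Module.Finite (⊥ : Ideal k).ResidueField K :=
    Module.Finite.of_restrictScalars_finite k _ K
  haveI := hG K inferInstance
  exact IsRegularRing.of_ringEquiv
    (Algebra.TensorProduct.cancelBaseChange k (⊥ : Ideal k).ResidueField
      (⊥ : Ideal k).ResidueField K Λ).toRingEquiv

/-- A Noetherian regular algebra over a field (given as a ring which is a field) is
ind-smooth. -/
theorem indSmooth_of_isField {k Λ : Type u} [CommRing k] (hk : IsField k) [CommRing Λ]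
    [Algebra k Λ] [IsNoetherianRing Λ] (h : CAlg.IsRegularHom k Λ) : IndSmooth k Λ := by
  letI := hk.toField
  exact indSmooth_of_field (isGeometricallyRegular_of_isRegularHom h)

end Groth.Agent.Helper8.PopB
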