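import Mathlib
import Groth.Agent.Lib.Helper8.PopB2
import Groth.Agent.Lib.Helper8.SmLift5
import Groth.Agent.S4736

/-!
# Popescu's theorem, B3: the inductive step over a reduced base
-/

set_option autoImplicit false
universe u

namespace Groth.Agent.Helper8.PopB

open Smoothing TensorProduct

/-- Flat modules inherit the equality of the annihilators of `s` and `s ^ 2`. -/
theorem ann_of_flat {R Λ : Type u} [CommRing R] [CommRing Λ] [Algebra R Λ] [Module.Flat R Λ]
    (s : R) (hR : ∀ r : R, s ^ 2 * r = 0 → s * r = 0) :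
    ∀ x : Λ, s ^ 2 • x = 0 → s • x = 0 := by
  intro x hx
  obtain ⟨k, a, y, hxy, ha⟩ := Module.Flat.isTrivialRelation_of_sum_smul_eq_zero (R := R) (M := Λ)
    (ι := Fin 1) (f := fun _ => s ^ 2) (x := fun _ => x) (by simpa using hx)
  have h1 : x = ∑ j, a 0 j • y j := hxy 0
  have h2 : ∀ j, s ^ 2 * a 0 j = 0 := by
    intro j
    simpa using ha j
  rw [h1, Finset.smul_sum]
  refine Finset.sum_eq_zero (fun j _ => ?_)
  rw [smul_smul, hR _ (h2 j), zero_smul]

set_option maxHeartbeats 1600000 in
set_option synthInstance.maxHeartbeats 200000 in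
/-- The inductive step: a regular homomorphism of Noetherian rings is ind-smooth as soon as all its
reductions modulo nonzero ideals of the base are. -/
theorem indSmooth_of_forall_quot {R Λ : Type u} [CommRing R] [IsNoetherianRing R] [CommRing Λ]
    [IsNoetherianRing Λ] [Algebra R Λ] (hreg : CAlg.IsRegularHom R Λ)
    (ih : ∀ J : Ideal R, J ≠ ⊥ → ∃ (Rb Λb : Type u) (_ : CommRing Rb) (_ : CommRing Λb)
      (_ : Algebra R Rb) (_ : Algebra Rb Λb) (_ : Algebra R Λb) (_ : IsScalarTower R Rb Λb)
      (p : Λ →ₐ[R] Λb), Function.Surjective (algebraMap R Rb) ∧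
        RingHom.ker (algebraMap R Rb) = J ∧ Function.Surjective p ∧
        RingHom.ker p = J.map (algebraMap R Λ) ∧ IndSmooth Rb Λb) :
    IndSmooth R Λ := by
  classical
  haveI : Module.Flat R Λ := hreg.1
  by_cases hred : IsReduced R
  swap
  · have hN : nilradical R ≠ ⊥ := fun h => hred (nilradical_eq_bot_iff.mp h)
    obtain ⟨n, hn⟩ := IsNoetherianRing.isNilpotent_nilradical R
    obtain ⟨Rb, Λb, _, _, _, _, _, _, p, h1, h2, h3, h4, h5⟩ := ih _ hN
    exact SmLift.indSmooth_of_pow_eq_bot n (nilradical R) hn h1 h2 p h3 h4 h5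
  · haveI := hred
    by_cases hsub : Subsingleton R
    · haveI := hsub
      exact PopA.indSmooth_of_subsingleton R Λ
    · haveI : Nontrivial R := not_subsingleton_iff_nontrivial.mp hsub
      intro A _ _ hfpA f
      haveI := hfpA
      obtain ⟨𝔭, h𝔭⟩ := Ideal.nonempty_minimalPrimes (bot_ne_top (α := Ideal R))
      haveI : 𝔭.IsPrime := h𝔭.1.1
      have hregₚ : CAlg.IsRegularHom (Localization.AtPrime 𝔭)
          (Localization (Algebra.algebraMapSubmonoid Λ 𝔭.primeCompl)) :=
        Groth.Agent.S4736.result R Λ hreg 𝔭.primeCompl _ _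
      haveI : IsNoetherianRing (Localization (Algebra.algebraMapSubmonoid Λ 𝔭.primeCompl)) :=
        IsLocalization.isNoetherianRing (Algebra.algebraMapSubmonoid Λ 𝔭.primeCompl) _
          inferInstance
      have hfield : IsField (Localization.AtPrime 𝔭) := by
        haveI : Ring.KrullDimLE 0 (Localization.AtPrime 𝔭) :=
          Ring.KrullDimLE.of_isLocalization 𝔭 h𝔭 _
        exact Ring.KrullDimLE.isField_of_isReduced
      have hgen : IndSmooth (Localization.AtPrime 𝔭)
          (Localization (Algebra.algebraMapSubmonoid Λ 𝔭.primeCompl)) :=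
        indSmooth_of_isField hfield hregₚ
      -- the generic fibre
      let fK : (Localization.AtPrime 𝔭) ⊗[R] A →ₐ[Localization.AtPrime 𝔭]
          (Localization (Algebra.algebraMapSubmonoid Λ 𝔭.primeCompl)) :=
        Algebra.TensorProduct.lift (Algebra.ofId _ _)
          ((IsScalarTower.toAlgHom R Λ _).comp f) (fun _ _ => Commute.all _ _)
      obtain ⟨B', _, _, hsmB', g, h, hgh⟩ := hgen ((Localization.AtPrime 𝔭) ⊗[R] A)
        inferInstance fK
      haveI := hsmB'
      letI algRB' : Algebra R B' :=
        ((algebraMap (Localization.AtPrime 𝔭) B').comp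
          (algebraMap R (Localization.AtPrime 𝔭))).toAlgebra
      haveI towRKB' : IsScalarTower R (Localization.AtPrime 𝔭) B' :=
        IsScalarTower.of_algebraMap_eq (fun _ => rfl)
      let g₀ : A →ₐ[R] B' := (g.restrictScalars R).comp Algebra.TensorProduct.includeRight
      have hg₀ : ∀ x : A, g₀ x = g (1 ⊗ₜ[R] x) := fun x => rfl
      obtain ⟨B, _, _, α, β, hαβ, s, hsS, hstd⟩ :=
        DelB.delocalize_base' (Rₛ := Localization.AtPrime 𝔭)
          (Λₛ := Localization (Algebra.algebraMapSubmonoid Λ 𝔭.primeCompl)) f 𝔭.primeCompl g₀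
          h.toRingHom
          (by
            intro r
            change h (algebraMap (Localization.AtPrime 𝔭) B'
              (algebraMap R (Localization.AtPrime 𝔭) r)) = _
            rw [h.commutes, ← IsScalarTower.algebraMap_apply R (Localization.AtPrime 𝔭),
              ← IsScalarTower.algebraMap_apply R Λ])
          (by
            intro x
            change h (g₀ x) = _
            rw [hg₀, ← AlgHom.comp_apply, hgh]
            change Algebra.TensorProduct.lift _ _ _ (1 ⊗ₜ[R] x) = _
            rw [Algebra.TensorProduct.lift_tmul, map_one, one_mul]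
            rfl)
      haveI hfpB : Algebra.FinitePresentation R B :=
        PopA.finitePresentation_of_isElementaryStandard hstd
      have hs𝔭 : s ∉ 𝔭 := hsS
      have hs8 : Ideal.span {s ^ 8} ≠ ⊥ := by
        intro h0
        rw [Ideal.span_singleton_eq_bot] at h0
        apply hs𝔭
        have : s ^ 8 ∈ 𝔭 := h0 ▸ 𝔭.zero_mem
        exact Ideal.IsPrime.mem_of_pow_mem inferInstance 8 this
      obtain ⟨Rb, Λb, _, _, _, _, _, _, p, h1, h2, h3, h4, h5⟩ := ih _ hs8
      letI : Algebra Λ Λb := p.toRingHom.toAlgebra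
      haveI : IsScalarTower R Λ Λb :=
        IsScalarTower.of_algebraMap_eq (fun r => (p.commutes r).symm)
      have hR : ∀ r : R, s ^ 2 * r = 0 → s * r = 0 := by
        intro r hr
        have : (s * r) ^ 2 = 0 := by
          rw [mul_pow, pow_two r, ← mul_assoc, hr, zero_mul]
        exact pow_eq_zero_iff (two_ne_zero) |>.mp this
      obtain ⟨B₂, _, _, hsmB₂, g₂, h₂, hc₂⟩ := PopA.exists_smooth_factor_of_strictlyStandard
        (Rb := Rb) (Λb := Λb) s hR (ann_of_flat s hR) β
        (PopA.isStrictlyStandard_of_isElementaryStandard hstd) h1 h2 h3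
        (by
          change RingHom.ker p = _
          rw [h4, Ideal.map_span, Set.image_singleton])
        h5
      refine ⟨B₂, inferInstance, inferInstance, hsmB₂, g₂.comp α, h₂, ?_⟩
      rw [← AlgHom.comp_assoc, hc₂, hαβ]

end Groth.Agent.Helper8.PopB
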