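import Mathlib
import Groth.Agent.Lib.Helper8.PopB3

/-!
# Popescu's theorem, B4: Noetherian induction
-/

set_option autoImplicit false
universe u

namespace Groth.Agent.Helper8.PopB

open Smoothing TensorProduct

set_option maxHeartbeats 1600000 in
set_option synthInstance.maxHeartbeats 200000 in
/-- All reductions of a regular homomorphism of Noetherian rings are ind-smooth. -/
theorem indSmooth_quot {R Λ : Type u} [CommRing R] [IsNoetherianRing R] [CommRing Λ]
    [IsNoetherianRing Λ] [Algebra R Λ] (hreg : CAlg.IsRegularHom R Λ) (I : Ideal R) :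
    IndSmooth (R ⧸ I) (Λ ⧸ I.map (algebraMap R Λ)) := by
  induction I using IsNoetherian.induction with
  | hgt I ih =>
    refine indSmooth_of_forall_quot (isRegularHom_quot hreg I) (fun J' hJ' => ?_)
    have hIJ : I ≤ J'.comap (Ideal.Quotient.mk I) := by
      intro x hx
      rw [Ideal.mem_comap, Ideal.Quotient.eq_zero_iff_mem.mpr hx]
      exact J'.zero_mem
    have hmapJ : (J'.comap (Ideal.Quotient.mk I)).map (Ideal.Quotient.mk I) = J' :=
      Ideal.map_comap_of_surjective _ Ideal.Quotient.mk_surjective J'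
    have hlt : I < J'.comap (Ideal.Quotient.mk I) := by
      refine lt_of_le_of_ne hIJ (fun heq => hJ' ?_)
      rw [← hmapJ, ← heq, Ideal.map_quotient_self]
    have h5 := ih _ hlt
    generalize J'.comap (Ideal.Quotient.mk I) = J at hIJ hmapJ hlt h5
    have hIJΛ : Ideal.map (algebraMap R Λ) I ≤ Ideal.map (algebraMap R Λ) J := Ideal.map_mono hIJ
    letI algRb : Algebra (R ⧸ I) (R ⧸ J) := (Ideal.Quotient.factor hIJ).toAlgebra
    letI algΛb : Algebra (R ⧸ I) (Λ ⧸ J.map (algebraMap R Λ)) :=
      ((algebraMap (R ⧸ J) (Λ ⧸ J.map (algebraMap R Λ))).comp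
        (algebraMap (R ⧸ I) (R ⧸ J))).toAlgebra
    haveI tow : IsScalarTower (R ⧸ I) (R ⧸ J) (Λ ⧸ J.map (algebraMap R Λ)) :=
      IsScalarTower.of_algebraMap_eq (fun _ => rfl)
    let p : (Λ ⧸ Ideal.map (algebraMap R Λ) I) →ₐ[R ⧸ I] (Λ ⧸ J.map (algebraMap R Λ)) :=
      { Ideal.Quotient.factor hIJΛ with
        commutes' := by
          intro r'
          obtain ⟨r, rfl⟩ := Ideal.Quotient.mk_surjective r'
          rfl }
    refine ⟨R ⧸ J, Λ ⧸ J.map (algebraMap R Λ), inferInstance, inferInstance, algRb, inferInstance,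
      algΛb, tow, p, ?_, ?_, ?_, ?_, h5⟩
    · exact Ideal.Quotient.factor_surjective hIJ
    · change RingHom.ker (Ideal.Quotient.factor hIJ) = _
      rw [Ideal.Quotient.factor_ker hIJ, hmapJ]
    · exact Ideal.Quotient.factor_surjective hIJΛ
    · change RingHom.ker (Ideal.Quotient.factor hIJΛ) = _
      rw [Ideal.Quotient.factor_ker hIJΛ, ← hmapJ, Ideal.map_map, Ideal.map_map]
      congr 1

/-- **Popescu's theorem**: a regular homomorphism of Noetherian rings is ind-smooth. -/
theorem indSmooth_of_isRegularHom {R Λ : Type u} [CommRing R] [IsNoetherianRing R] [CommRing Λ]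
    [IsNoetherianRing Λ] [Algebra R Λ] (hreg : CAlg.IsRegularHom R Λ) : IndSmooth R Λ := by
  refine indSmooth_of_forall_quot hreg (fun J _ => ?_)
  exact ⟨R ⧸ J, Λ ⧸ J.map (algebraMap R Λ), inferInstance, inferInstance, inferInstance,
    inferInstance, inferInstance, inferInstance, Ideal.Quotient.mkₐ R _,
    Ideal.Quotient.mk_surjective, Ideal.mk_ker, Ideal.Quotient.mk_surjective,
    Ideal.Quotient.mkₐ_ker R _, indSmooth_quot hreg J⟩

end Groth.Agent.Helper8.PopB
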