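import Mathlib
import Groth.Agent.S0595
import Groth.Agent.S0536
import Groth.Agent.Lib.Helper7.SymTrick.Lift

/-!
# Approximation of solutions in étale neighbourhoods (core lemma)
-/

set_option autoImplicit false
universe u

namespace Groth.Agent.Helper8.AppB

open TensorProduct

set_option maxHeartbeats 1600000 in
set_option synthInstance.maxHeartbeats 200000 in
/-- Core lemma: if `R → Λ` is a regular map of Noetherian rings, `Λ` is Henselian along `J`, and
finite families of elements of `Λ` can be approximated modulo `J` by elements of étale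
`R`-algebras mapping to `Λ`, then solutions in `Λ` of polynomial systems over `R` can be
approximated modulo `J` by solutions in étale `R`-algebras mapping to `Λ`. -/
theorem exists_etale_solution {R Λ : Type u} [CommRing R] [IsNoetherianRing R] [CommRing Λ]
    [IsNoetherianRing Λ] [Algebra R Λ] (hreg : CAlg.IsRegularHom R Λ) (J : Ideal Λ)
    [HenselianRing Λ J]
    (H : ∀ (k : ℕ) (c' : Fin k → Λ), ∃ (R₁ : Type u) (_ : CommRing R₁) (_ : Algebra R R₁)
      (_ : Algebra R₁ Λ) (_ : IsScalarTower R R₁ Λ), Algebra.Etale R R₁ ∧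
      ∃ c : Fin k → R₁, ∀ i, c' i - algebraMap R₁ Λ (c i) ∈ J)
    {n m : ℕ} (F : Fin m → MvPolynomial (Fin n) R) (a : Fin n → Λ)
    (ha : ∀ j, MvPolynomial.aeval a (F j) = 0) :
    ∃ (R' : Type u) (_ : CommRing R') (_ : Algebra R R'), Algebra.Etale R R' ∧
      ∃ (ψ : R' →ₐ[R] Λ) (b : Fin n → R'), (∀ j, MvPolynomial.aeval b (F j) = 0) ∧
        ∀ i, a i - ψ (b i) ∈ J := by
  classical
  -- the algebra of the system
  let K : Ideal (MvPolynomial (Fin n) R) := Ideal.span (Set.range F)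
  haveI hfpC : Algebra.FinitePresentation R (MvPolynomial (Fin n) R ⧸ K) :=
    Algebra.FinitePresentation.quotient (Submodule.fg_span (Set.finite_range F))
  have hK : ∀ x ∈ K, (MvPolynomial.aeval a : MvPolynomial (Fin n) R →ₐ[R] Λ) x = 0 := by
    intro x hx
    have hle : K ≤ RingHom.ker (MvPolynomial.aeval a : MvPolynomial (Fin n) R →ₐ[R] Λ) := by
      refine Ideal.span_le.mpr ?_
      rintro _ ⟨j, rfl⟩
      change _ ∈ RingHom.ker _
      rw [RingHom.mem_ker]
      exact ha j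
    exact hle hx
  let σ : (MvPolynomial (Fin n) R ⧸ K) →ₐ[R] Λ :=
    Ideal.Quotient.liftₐ K (MvPolynomial.aeval a) hK
  have hσ : ∀ q : MvPolynomial (Fin n) R, σ (Ideal.Quotient.mk K q) = MvPolynomial.aeval a q :=
    fun q => rfl
  obtain ⟨B₀, _, _, hsmB₀, g₀, h₀, hgh₀⟩ := Groth.Agent.S0595.result R Λ hreg
    (MvPolynomial (Fin n) R ⧸ K) σ
  haveI := hsmB₀
  obtain ⟨B, _, _, _, _, hsm, ⟨ρ⟩, k, t, bs, hbs⟩ :=
    Groth.Agent.Helper7.SymTrick.exists_smooth_retract_basis R B₀
  haveI := hsm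
  haveI : Algebra.Smooth R B := Algebra.Smooth.comp R B₀ B
  let g : (MvPolynomial (Fin n) R ⧸ K) →ₐ[R] B := (IsScalarTower.toAlgHom R B₀ B).comp g₀
  let h : B →ₐ[R] Λ := h₀.comp (ρ.restrictScalars R)
  have hgh : ∀ x, h (g x) = σ x := by
    intro x
    change h₀ (ρ (algebraMap B₀ B (g₀ x))) = _
    rw [ρ.commutes, ← hgh₀]
    rfl
  obtain ⟨R₁, _, _, _, _, hetR₁, c, hc⟩ := H k (fun i => h (t i))
  haveI := hetR₁
  letI algPB : Algebra (MvPolynomial (Fin k) R) B := (MvPolynomial.aeval t).toRingHom.toAlgebra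
  haveI : IsScalarTower R (MvPolynomial (Fin k) R) B :=
    IsScalarTower.of_algebraMap_eq' (MvPolynomial.aeval t).comp_algebraMap.symm
  have hX : ∀ i, algebraMap (MvPolynomial (Fin k) R) B (MvPolynomial.X i) = t i :=
    fun i => MvPolynomial.aeval_X t i
  haveI : Algebra.Etale (MvPolynomial (Fin k) R) B :=
    Groth.Agent.Helper7.SymTrick.etale_of_basis R B t bs hbs hX
  letI algPR₁ : Algebra (MvPolynomial (Fin k) R) R₁ := (MvPolynomial.aeval c).toRingHom.toAlgebra
  haveI : IsScalarTower R (MvPolynomial (Fin k) R) R₁ :=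
    IsScalarTower.of_algebraMap_eq' (MvPolynomial.aeval c).comp_algebraMap.symm
  have hXR₁ : ∀ i, algebraMap (MvPolynomial (Fin k) R) R₁ (MvPolynomial.X i) = c i :=
    fun i => MvPolynomial.aeval_X c i
  letI algPΛ : Algebra (MvPolynomial (Fin k) R) Λ :=
    ((algebraMap R₁ Λ).comp (algebraMap (MvPolynomial (Fin k) R) R₁)).toAlgebra
  haveI towPR₁Λ : IsScalarTower (MvPolynomial (Fin k) R) R₁ Λ :=
    IsScalarTower.of_algebraMap_eq (fun _ => rfl)
  haveI towRPΛ : IsScalarTower R (MvPolynomial (Fin k) R) Λ :=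
    IsScalarTower.of_algebraMap_eq (fun r => by
      change algebraMap R Λ r = algebraMap R₁ Λ (algebraMap (MvPolynomial (Fin k) R) R₁
        (algebraMap R (MvPolynomial (Fin k) R) r))
      rw [← IsScalarTower.algebraMap_apply R (MvPolynomial (Fin k) R) R₁,
        ← IsScalarTower.algebraMap_apply R R₁ Λ])
  -- the map `B → Λ ⧸ J` is linear over the polynomial ring
  let σ' : B →ₐ[R] Λ ⧸ J := (Ideal.Quotient.mkₐ R J).comp h
  have hcomm : ∀ f : MvPolynomial (Fin k) R,
      σ' (algebraMap (MvPolynomial (Fin k) R) B f) =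
        algebraMap (MvPolynomial (Fin k) R) (Λ ⧸ J) f := by
    intro f
    have : (σ'.comp (IsScalarTower.toAlgHom R (MvPolynomial (Fin k) R) B)) =
        (IsScalarTower.toAlgHom R (MvPolynomial (Fin k) R) (Λ ⧸ J)) := by
      apply MvPolynomial.algHom_ext
      intro i
      simp only [AlgHom.comp_apply, IsScalarTower.coe_toAlgHom', hX]
      rw [IsScalarTower.algebraMap_apply (MvPolynomial (Fin k) R) Λ (Λ ⧸ J),
        IsScalarTower.algebraMap_apply (MvPolynomial (Fin k) R) R₁ Λ, hXR₁]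
      change Ideal.Quotient.mk J (h (t i)) = Ideal.Quotient.mk J (algebraMap R₁ Λ (c i))
      exact Ideal.Quotient.eq.mpr (hc i)
    exact AlgHom.congr_fun this f
  let σP : B →ₐ[MvPolynomial (Fin k) R] Λ ⧸ J := { σ'.toRingHom with commutes' := hcomm }
  let s : R₁ ⊗[MvPolynomial (Fin k) R] B →ₐ[R₁] Λ ⧸ J :=
    Algebra.TensorProduct.lift (Algebra.ofId R₁ (Λ ⧸ J)) σP (fun _ _ => Commute.all _ _)
  obtain ⟨τ, hτ⟩ := Groth.Agent.S0536.result R₁ (R₁ ⊗[MvPolynomial (Fin k) R] B) Λ J s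
  haveI : Algebra.Etale R (R₁ ⊗[MvPolynomial (Fin k) R] B) :=
    Algebra.Etale.comp R R₁ (R₁ ⊗[MvPolynomial (Fin k) R] B)
  let ι : B →ₐ[R] R₁ ⊗[MvPolynomial (Fin k) R] B :=
    (Algebra.TensorProduct.includeRight : B →ₐ[MvPolynomial (Fin k) R]
      R₁ ⊗[MvPolynomial (Fin k) R] B).restrictScalars R
  let b : Fin n → R₁ ⊗[MvPolynomial (Fin k) R] B :=
    fun i => ι (g (Ideal.Quotient.mk K (MvPolynomial.X i)))
  have haev : (ι.comp g).comp (Ideal.Quotient.mkₐ R K) = MvPolynomial.aeval b := by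
    apply MvPolynomial.algHom_ext
    intro i
    rw [MvPolynomial.aeval_X]
    rfl
  refine ⟨R₁ ⊗[MvPolynomial (Fin k) R] B, inferInstance, inferInstance, inferInstance,
    τ.restrictScalars R, b, fun j => ?_, fun i => ?_⟩
  · rw [← haev]
    change ι (g (Ideal.Quotient.mk K (F j))) = 0
    rw [Ideal.Quotient.eq_zero_iff_mem.mpr
      (show F j ∈ K from Ideal.subset_span (Set.mem_range_self j)), map_zero, map_zero]
  · have h1 := AlgHom.congr_fun hτ ((1 : R₁) ⊗ₜ[MvPolynomial (Fin k) R]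
      (g (Ideal.Quotient.mk K (MvPolynomial.X i))))
    have h2 : a i = h (g (Ideal.Quotient.mk K (MvPolynomial.X i))) := by
      rw [hgh, hσ, MvPolynomial.aeval_X]
    rw [← Ideal.Quotient.eq, h2]
    refine Eq.trans ?_ h1.symm
    change _ = s ((1 : R₁) ⊗ₜ[MvPolynomial (Fin k) R]
      (g (Ideal.Quotient.mk K (MvPolynomial.X i))))
    rw [Algebra.TensorProduct.lift_tmul, map_one, one_mul]
    rfl

end Groth.Agent.Helper8.AppB
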