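import Mathlib
import Groth.Agent.Lib.Helper8.AppB1
import Groth.Agent.Lib.Helper8.AdicFS2
import Groth.Agent.Lib.Helper8.AdicReg1
import Groth.Agent.Lib.Helper7.Hensel.SmallerIdeal

/-!
# Approximation in étale neighbourhoods: facts on adic completions
-/

set_option autoImplicit false
universe u

namespace Groth.Agent.Helper8.AppB

variable {A : Type u} [CommRing A] (I : Ideal A)

/-- Elements of the completion are approximated by elements of the ring. -/
theorem exists_sub_mem_map_pow (fg : I.FG) (z : AdicCompletion I A) (n : ℕ) :
    ∃ r : A, z - algebraMap A (AdicCompletion I A) r ∈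
      (I ^ n).map (algebraMap A (AdicCompletion I A)) := by
  obtain ⟨r, hr⟩ := Ideal.Quotient.mk_surjective (AdicCompletion.evalₐ I n z)
  refine ⟨r, ?_⟩
  apply Groth.Agent.Helper8.AdicFS.ker_evalₐ_le_map_pow I fg n
  rw [RingHom.mem_ker, map_sub, sub_eq_zero, AlgHom.commutes, ← hr]
  rfl

/-- The completion is Henselian along the extension of any positive power of the ideal. -/
theorem henselianRing_map_pow (fg : I.FG) (n : ℕ) :
    HenselianRing (AdicCompletion I A)
      ((I ^ (n + 1)).map (algebraMap A (AdicCompletion I A))) := by
  haveI := AdicCompletion.isAdicComplete_self I fg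
  have h0 : HenselianRing (AdicCompletion I A) (I.map (algebraMap A (AdicCompletion I A))) :=
    inferInstance
  refine Groth.Agent.Helper7.Hensel.henselianRing_of_radical_eq h0 ?_
  exact Groth.Agent.Helper7.Hensel.radical_map_eq_of_radical_eq _
    (Ideal.radical_pow I (Nat.succ_ne_zero n)).symm

end Groth.Agent.Helper8.AppB
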