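import Mathlib
import Groth.Agent.Lib.Helper8.AppB1

/-!
# Approximation in étale neighbourhoods: finitely presented algebras
-/

set_option autoImplicit false
universe u

namespace Groth.Agent.Helper8.AppB

open TensorProduct

set_option maxHeartbeats 800000 in
/-- Algebra form of `exists_etale_solution`: a map from a finitely presented `R`-algebra to `Λ`
is approximated modulo `J` by a map to an étale `R`-algebra lying over `Λ`. -/
theorem exists_etale_factor {R Λ : Type u} [CommRing R] [IsNoetherianRing R] [CommRing Λ]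
    [IsNoetherianRing Λ] [Algebra R Λ] (hreg : CAlg.IsRegularHom R Λ) (J : Ideal Λ)
    [HenselianRing Λ J]
    (H : ∀ (k : ℕ) (c' : Fin k → Λ), ∃ (R₁ : Type u) (_ : CommRing R₁) (_ : Algebra R R₁)
      (_ : Algebra R₁ Λ) (_ : IsScalarTower R R₁ Λ), Algebra.Etale R R₁ ∧
      ∃ c : Fin k → R₁, ∀ i, c' i - algebraMap R₁ Λ (c i) ∈ J)
    (C : Type u) [CommRing C] [Algebra R C] [Algebra.FinitePresentation R C] (σ : C →ₐ[R] Λ) :
    ∃ (R' : Type u) (_ : CommRing R') (_ : Algebra R R'), Algebra.Etale R R' ∧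
      ∃ (ψ : R' →ₐ[R] Λ) (g : C →ₐ[R] R'), ∀ c, σ c - ψ (g c) ∈ J := by
  classical
  obtain ⟨n, π, hπ, s, hs⟩ := Algebra.FinitePresentation.out (R := R) (A := C)
  let F : Fin s.card → MvPolynomial (Fin n) R := fun k => (s.equivFin.symm k : MvPolynomial (Fin n) R)
  have hF : Ideal.span (Set.range F) = RingHom.ker π.toRingHom := by
    rw [← hs]
    congr 1
    ext x
    constructor
    · rintro ⟨k, rfl⟩
      exact (s.equivFin.symm k).2
    · intro hx
      exact ⟨s.equivFin ⟨x, hx⟩, by simp [F]⟩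
  let a : Fin n → Λ := fun i => σ (π (MvPolynomial.X i))
  have haev : (MvPolynomial.aeval a : MvPolynomial (Fin n) R →ₐ[R] Λ) = σ.comp π := by
    apply MvPolynomial.algHom_ext
    intro i
    rw [MvPolynomial.aeval_X]
    rfl
  have ha : ∀ j, MvPolynomial.aeval a (F j) = 0 := by
    intro j
    rw [haev, AlgHom.comp_apply]
    have h1 : F j ∈ RingHom.ker π.toRingHom := hF ▸ Ideal.subset_span (Set.mem_range_self j)
    have h2 : π (F j) = 0 := h1
    rw [h2, map_zero]
  obtain ⟨R', _, _, het, ψ, b, hb, hab⟩ := exists_etale_solution hreg J H F a ha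
  have hle : RingHom.ker π.toRingHom ≤
      RingHom.ker (MvPolynomial.aeval b : MvPolynomial (Fin n) R →ₐ[R] R').toRingHom := by
    rw [← hF, Ideal.span_le]
    rintro _ ⟨j, rfl⟩
    exact hb j
  let g : C →ₐ[R] R' := AlgHom.liftOfSurjective π hπ (MvPolynomial.aeval b) hle
  have hg : ∀ q, g (π q) = MvPolynomial.aeval b q :=
    fun q => AlgHom.liftOfSurjective_apply π hπ (MvPolynomial.aeval b) hle q
  refine ⟨R', inferInstance, inferInstance, het, ψ, g, fun c => ?_⟩
  obtain ⟨q, rfl⟩ := hπ c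
  rw [hg, ← Ideal.Quotient.eq]
  -- two algebra maps to `Λ ⧸ J` agreeing on the variables
  have h3 : ((Ideal.Quotient.mkₐ R J).comp (σ.comp π)) =
      ((Ideal.Quotient.mkₐ R J).comp (ψ.comp (MvPolynomial.aeval b))) := by
    apply MvPolynomial.algHom_ext
    intro i
    change Ideal.Quotient.mk J (σ (π (MvPolynomial.X i))) =
      Ideal.Quotient.mk J (ψ (MvPolynomial.aeval b (MvPolynomial.X i)))
    rw [MvPolynomial.aeval_X]
    exact Ideal.Quotient.eq.mpr (hab i)
  exact AlgHom.congr_fun h3 q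

end Groth.Agent.Helper8.AppB
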