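import Mathlib
import Groth.Agent.Lib.Helper8.AppB4
import Groth.Agent.Lib.Helper8.AppB2
import Groth.Agent.Lib.Helper7.SymTrick.Nbhd
import Groth.Agent.S0599
import Groth.Agent.S0600

/-!
# Approximating maps of adic completions of finite type algebras over a G-ring
-/

set_option autoImplicit false
universe u

namespace Groth.Agent.Helper8.AppB

open TensorProduct

set_option maxHeartbeats 3200000 in
set_option synthInstance.maxHeartbeats 400000 in
theorem exists_etale_nbhd_approx (A : Type u) [CommRing A] (hA : CAlg.IsGRing A) (I : Ideal A)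
    (B C : Type u) [CommRing B] [Algebra A B] [Algebra.FiniteType A B] [CommRing C] [Algebra A C]
    [Algebra.FiniteType A C]
    (φ : (AdicCompletion (I.map (algebraMap A B)) B) →ₐ[A]
      (AdicCompletion (I.map (algebraMap A C)) C)) (N : ℕ) (hN : 1 ≤ N) :
    ∃ (C' : Type u) (_ : CommRing C') (_ : Algebra C C') (_ : Algebra A C')
      (_ : IsScalarTower A C C') (_ : Algebra.Etale C C') (ψ : B →ₐ[A] C'),
      ((∀ c' : C', ∃ c : C, algebraMap C C' c - c' ∈ I.map (algebraMap A C')) ∧
        ∀ c : C, algebraMap C C' c ∈ I.map (algebraMap A C') → c ∈ I.map (algebraMap A C)) ∧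
      ∀ b : B, ∃ c : C, ψ b - algebraMap C C' c ∈ (I.map (algebraMap A C')) ^ N ∧
        AdicCompletion.eval (I.map (algebraMap A C)) C N
          (φ (AdicCompletion.of (I.map (algebraMap A B)) B b)) = Submodule.Quotient.mk c := by
  classical
  haveI : IsNoetherianRing A := hA.1
  haveI : IsNoetherianRing C := Algebra.FiniteType.isNoetherianRing A C
  haveI : Algebra.FinitePresentation A B := Algebra.FinitePresentation.of_finiteType.mp inferInstance
  have hGC : CAlg.IsGRing C := Groth.Agent.S0599.result A hA C
  have fg : (I.map (algebraMap A C)).FG := IsNoetherian.noetherian _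
  haveI : IsNoetherianRing (AdicCompletion (I.map (algebraMap A C)) C) :=
    Groth.Agent.Helper8.AdicReg.isNoetherianRing C _
  have hreg := Groth.Agent.S0600.result C hGC (I.map (algebraMap A C))
  obtain ⟨N₀, rfl⟩ : ∃ N₀, N = N₀ + 1 := ⟨N - 1, (Nat.sub_add_cancel hN).symm⟩
  haveI hHens := henselianRing_map_pow (I.map (algebraMap A C)) fg N₀
  -- the map `B → Ĉ`
  let σ₀ : B →ₐ[A] AdicCompletion (I.map (algebraMap A C)) C :=
    φ.comp (IsScalarTower.toAlgHom A B (AdicCompletion (I.map (algebraMap A B)) B))
  have hσ₀ : ∀ b, σ₀ b = φ (AdicCompletion.of (I.map (algebraMap A B)) B b) := fun b => rfl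
  let σ : C ⊗[A] B →ₐ[C] AdicCompletion (I.map (algebraMap A C)) C :=
    Algebra.TensorProduct.lift (Algebra.ofId C _) σ₀ (fun _ _ => Commute.all _ _)
  obtain ⟨C'', _, _, het, ψ'', g, hg⟩ := exists_etale_factor hreg
    ((I.map (algebraMap A C) ^ (N₀ + 1)).map
      (algebraMap C (AdicCompletion (I.map (algebraMap A C)) C)))
    (fun k c' => by
      choose c hc using fun i => exists_sub_mem_map_pow (I.map (algebraMap A C)) fg (c' i) (N₀ + 1)
      exact ⟨C, inferInstance, inferInstance, inferInstance, inferInstance, inferInstance, c, hc⟩)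
    (C ⊗[A] B) σ
  haveI := het
  letI algAC'' : Algebra A C'' := ((algebraMap C C'').comp (algebraMap A C)).toAlgebra
  haveI towACC'' : IsScalarTower A C C'' := IsScalarTower.of_algebraMap_eq (fun _ => rfl)
  let sN : C'' →ₐ[C] C ⧸ (I.map (algebraMap A C)) ^ (N₀ + 1) :=
    (AdicCompletion.evalₐ (I.map (algebraMap A C)) (N₀ + 1)).comp ψ''
  obtain ⟨h, hsh, hbij, hcompat⟩ := Groth.Agent.Helper7.SymTrick.exists_away_bijective C C''
    ((I.map (algebraMap A C)) ^ (N₀ + 1)) sN
  haveI : Algebra.Etale C'' (Localization.Away h) := Algebra.Etale.of_isLocalizationAway h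
  haveI : Algebra.Etale C (Localization.Away h) := Algebra.Etale.comp C C'' (Localization.Away h)
  haveI towACC' : IsScalarTower A C (Localization.Away h) :=
    IsScalarTower.of_algebraMap_eq (fun a => by
      rw [IsScalarTower.algebraMap_apply A C'' (Localization.Away h),
        IsScalarTower.algebraMap_apply C C'' (Localization.Away h),
        ← IsScalarTower.algebraMap_apply A C C''])
  have hmapI : I.map (algebraMap A (Localization.Away h)) =
      (I.map (algebraMap A C)).map (algebraMap C (Localization.Away h)) := by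
    rw [Ideal.map_map, ← IsScalarTower.algebraMap_eq]
  let ψ₀ : B →ₐ[A] C'' := (g.restrictScalars A).comp Algebra.TensorProduct.includeRight
  let ψ : B →ₐ[A] Localization.Away h :=
    (IsScalarTower.toAlgHom A C'' (Localization.Away h)).comp ψ₀
  -- the retraction modulo `I`
  let s₁ : C'' →ₐ[C] C ⧸ I.map (algebraMap A C) :=
    (Ideal.Quotient.factorₐ C (Ideal.pow_le_self (Nat.succ_ne_zero N₀))).comp sN
  have hs₁h : s₁ h = 1 := by
    change Ideal.Quotient.factorₐ C (Ideal.pow_le_self (Nat.succ_ne_zero N₀)) (sN h) = 1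
    rw [hsh, map_one]
  let s' : Localization.Away h →ₐ[C] C ⧸ I.map (algebraMap A C) :=
    IsLocalization.liftAlgHom (M := Submonoid.powers h) (f := s₁) (by
      rintro ⟨_, k, rfl⟩
      change IsUnit (s₁ (h ^ k))
      rw [map_pow, hs₁h, one_pow]
      exact isUnit_one)
  refine ⟨Localization.Away h, inferInstance, inferInstance, inferInstance, towACC', inferInstance,
    ψ, ⟨fun c' => ?_, fun c hc => ?_⟩, fun b => ?_⟩
  · obtain ⟨cb, hcb⟩ := hbij.2 (Ideal.Quotient.mk _ c')
    obtain ⟨c, rfl⟩ := Ideal.Quotient.mk_surjective cb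
    refine ⟨c, ?_⟩
    have h1 : Ideal.Quotient.mk ((I.map (algebraMap A C) ^ (N₀ + 1)).map
        (algebraMap C (Localization.Away h))) (algebraMap C (Localization.Away h) c) =
        Ideal.Quotient.mk _ c' := hcb
    rw [Ideal.Quotient.eq] at h1
    rw [hmapI]
    exact Ideal.map_mono (Ideal.pow_le_self (Nat.succ_ne_zero N₀)) h1
  · have h1 : I.map (algebraMap A (Localization.Away h)) ≤ RingHom.ker s'.toRingHom := by
      rw [Ideal.map_le_iff_le_comap]
      intro i hi
      change s' (algebraMap A (Localization.Away h) i) = 0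
      rw [IsScalarTower.algebraMap_apply A C (Localization.Away h), AlgHom.commutes]
      exact Ideal.Quotient.eq_zero_iff_mem.mpr (Ideal.mem_map_of_mem _ hi)
    have h2 : s' (algebraMap C (Localization.Away h) c) = 0 := h1 hc
    rw [AlgHom.commutes] at h2
    exact Ideal.Quotient.eq_zero_iff_mem.mp h2
  · obtain ⟨c, hc⟩ := exists_sub_mem_map_pow (I.map (algebraMap A C)) fg
      (φ (AdicCompletion.of (I.map (algebraMap A B)) B b)) (N₀ + 1)
    refine ⟨c, ?_, ?_⟩
    · -- compare in the quotient modulo `I ^ N`
      have h1 := hcompat (ψ₀ b)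
      have h2 : sN (ψ₀ b) = Ideal.Quotient.mk _ c := by
        change AdicCompletion.evalₐ (I.map (algebraMap A C)) (N₀ + 1) (ψ'' (ψ₀ b)) = _
        have h3 := hg ((1 : C) ⊗ₜ[A] b)
        have h4 : σ ((1 : C) ⊗ₜ[A] b) = φ (AdicCompletion.of (I.map (algebraMap A B)) B b) := by
          change Algebra.TensorProduct.lift _ _ _ ((1 : C) ⊗ₜ[A] b) = _
          rw [Algebra.TensorProduct.lift_tmul, map_one, one_mul, hσ₀]
        rw [h4] at h3
        have h5 := Groth.Agent.Helper8.AdicFS.map_pow_le_ker_evalₐ (I.map (algebraMap A C))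
          (N₀ + 1) h3
        have h6 := Groth.Agent.Helper8.AdicFS.map_pow_le_ker_evalₐ (I.map (algebraMap A C))
          (N₀ + 1) hc
        rw [RingHom.mem_ker, map_sub, sub_eq_zero] at h5 h6
        rw [AlgHom.commutes] at h6
        change _ = AdicCompletion.evalₐ (I.map (algebraMap A C)) (N₀ + 1) (ψ'' (g (1 ⊗ₜ[A] b))) at h5
        exact h5.symm.trans h6
      rw [h2] at h1
      have h7 : Ideal.Quotient.mk ((I.map (algebraMap A C) ^ (N₀ + 1)).map
          (algebraMap C (Localization.Away h))) (algebraMap C'' (Localization.Away h) (ψ₀ b)) =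
          Ideal.Quotient.mk _ (algebraMap C (Localization.Away h) c) := h1
      rw [Ideal.Quotient.eq] at h7
      rw [hmapI, ← Ideal.map_pow]
      exact h7
    · have h11 : algebraMap C (AdicCompletion (I.map (algebraMap A C)) C) c =
          AdicCompletion.of (I.map (algebraMap A C)) C c := rfl
      have h8 : φ (AdicCompletion.of (I.map (algebraMap A B)) B b) =
          (φ (AdicCompletion.of (I.map (algebraMap A B)) B b) -
            algebraMap C (AdicCompletion (I.map (algebraMap A C)) C) c) +
          algebraMap C (AdicCompletion (I.map (algebraMap A C)) C) c := (sub_add_cancel _ _).symm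
      have h9 : AdicCompletion.eval (I.map (algebraMap A C)) C (N₀ + 1)
          (φ (AdicCompletion.of (I.map (algebraMap A B)) B b) -
            algebraMap C (AdicCompletion (I.map (algebraMap A C)) C) c) = 0 := by
        have h10 : (φ (AdicCompletion.of (I.map (algebraMap A B)) B b) -
            algebraMap C (AdicCompletion (I.map (algebraMap A C)) C) c) ∈
            ((I.map (algebraMap A C)) ^ (N₀ + 1) • ⊤ :
              Submodule C (AdicCompletion (I.map (algebraMap A C)) C)) := by
          rw [Ideal.smul_top_eq_map]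
          exact hc
        exact AdicCompletion.pow_smul_top_le_ker_eval (I.map (algebraMap A C)) (M := C)
          (N₀ + 1) h10
      rw [h8, map_add, h9, zero_add, h11]
      rfl

end Groth.Agent.Helper8.AppB
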