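import Mathlib
import Groth.Agent.Lib.Helper8.AppS10

/-!
# A local homomorphism inducing (up to second order) a given isomorphism of completions
is flat, unramified and has trivial residue field extension (continued)
-/

set_option autoImplicit false
universe u

namespace Groth.Agent.Helper8.AppS

open IsLocalRing

section

variable {L LY : Type u} [CommRing L] [IsLocalRing L] [IsNoetherianRing L]
  [CommRing LY] [IsLocalRing LY] [IsNoetherianRing LY]

local notation "Ĉ" => AdicCompletion (maximalIdeal L) L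
local notation "ĈY" => AdicCompletion (maximalIdeal LY) LY

variable (φ : AdicCompletion (maximalIdeal LY) LY ≃+* AdicCompletion (maximalIdeal L) L)
  (χ : LY →+* AdicCompletion (maximalIdeal L) L)
  (hcong : ∀ b : LY, χ b - φ (algebraMap LY (AdicCompletion (maximalIdeal LY) LY) b) ∈
    maximalIdeal (AdicCompletion (maximalIdeal L) L) ^ 2)

theorem map_phi_pow (n : ℕ) :
    (maximalIdeal ĈY ^ n).map (φ : ĈY →+* Ĉ) = maximalIdeal Ĉ ^ n := by
  rw [Ideal.map_pow, map_maximalIdeal_ringEquiv φ]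

/-- `φ ∘ ι` detects the powers of the maximal ideal. -/
theorem mem_pow_of_phi_mem (n : ℕ) (b : LY)
    (hb : φ (algebraMap LY ĈY b) ∈ maximalIdeal Ĉ ^ n) : b ∈ maximalIdeal LY ^ n := by
  have h1 : algebraMap LY ĈY b ∈ maximalIdeal ĈY ^ n := by
    have h2 := Ideal.mem_map_of_mem (φ.symm : Ĉ →+* ĈY) hb
    rw [← map_phi_pow φ.symm.symm, ] at h2
    have h3 : (maximalIdeal ĈY ^ n) = (maximalIdeal Ĉ ^ n).map (φ.symm : Ĉ →+* ĈY) := by
      rw [Ideal.map_pow, map_maximalIdeal_ringEquiv φ.symm]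
    rw [h3]
    have h4 := Ideal.mem_map_of_mem (φ.symm : Ĉ →+* ĈY) hb
    simpa using h4
  rw [maximalIdeal_cpl_pow] at h1
  exact mem_pow_of_algebraMap_mem (maximalIdeal LY) n b h1

theorem phi_mem_pow (n : ℕ) (b : LY) (hb : b ∈ maximalIdeal LY ^ n) :
    φ (algebraMap LY ĈY b) ∈ maximalIdeal Ĉ ^ n := by
  rw [← map_phi_pow φ n]
  refine Ideal.mem_map_of_mem _ ?_
  rw [maximalIdeal_cpl_pow]
  exact Ideal.mem_map_of_mem _ hb

include hcong in
theorem chi_mem_maximalIdeal (b : LY) (hb : b ∈ maximalIdeal LY) : χ b ∈ maximalIdeal Ĉ := by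
  have h1 := phi_mem_pow φ 1 b (by rwa [pow_one])
  rw [pow_one] at h1
  have h2 : χ b - φ (algebraMap LY ĈY b) ∈ maximalIdeal Ĉ :=
    Ideal.pow_le_self (two_ne_zero) (hcong b)
  have := Ideal.add_mem _ h2 h1
  simpa using this

include hcong in
theorem chi_mem_pow (n : ℕ) (b : LY) (hb : b ∈ maximalIdeal LY ^ n) :
    χ b ∈ maximalIdeal Ĉ ^ n := by
  have h1 : (maximalIdeal LY).map χ ≤ maximalIdeal Ĉ := by
    rw [Ideal.map_le_iff_le_comap]
    intro b hb
    exact chi_mem_maximalIdeal φ χ hcong b hb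
  have h2 : (maximalIdeal LY ^ n).map χ ≤ maximalIdeal Ĉ ^ n := by
    rw [Ideal.map_pow]
    exact Ideal.pow_right_mono h1 n
  exact h2 (Ideal.mem_map_of_mem _ hb)

include hcong in
/-- The two maps agree to one order more on the powers of the maximal ideal. -/
theorem chi_sub_phi_mem (k : ℕ) : ∀ b ∈ maximalIdeal LY ^ k,
    χ b - φ (algebraMap LY ĈY b) ∈ maximalIdeal Ĉ ^ (k + 1) := by
  induction k with
  | zero =>
    intro b _
    rw [zero_add, pow_one]
    exact Ideal.pow_le_self (two_ne_zero) (hcong b)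
  | succ k ih =>
    intro b hb
    rw [pow_succ] at hb
    refine Submodule.mul_induction_on hb ?_ ?_
    · intro b₁ hb₁ b₂ hb₂
      have e : χ (b₁ * b₂) - φ (algebraMap LY ĈY (b₁ * b₂)) =
          (χ b₁ - φ (algebraMap LY ĈY b₁)) * χ b₂ +
            φ (algebraMap LY ĈY b₁) * (χ b₂ - φ (algebraMap LY ĈY b₂)) := by
        simp only [map_mul]; ring
      rw [e]
      refine Ideal.add_mem _ ?_ ?_
      · rw [pow_succ]
        exact Ideal.mul_mem_mul (ih b₁ hb₁) (chi_mem_maximalIdeal φ χ hcong b₂ hb₂)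
      · have h1 := phi_mem_pow φ k b₁ hb₁
        have h2 : χ b₂ - φ (algebraMap LY ĈY b₂) ∈ maximalIdeal Ĉ ^ 2 := hcong b₂
        have h3 := Ideal.mul_mem_mul h1 h2
        rw [← pow_add] at h3
        exact h3
    · intro x y hx hy
      have e : χ (x + y) - φ (algebraMap LY ĈY (x + y)) =
          (χ x - φ (algebraMap LY ĈY x)) + (χ y - φ (algebraMap LY ĈY y)) := by
        simp only [map_add]; ring
      rw [e]
      exact Ideal.add_mem _ hx hy

include hcong in
theorem mem_pow_of_chi_mem (n : ℕ) (b : LY) (hb : χ b ∈ maximalIdeal Ĉ ^ n) :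
    b ∈ maximalIdeal LY ^ n := by
  have key : ∀ k ≤ n, b ∈ maximalIdeal LY ^ k := by
    intro k
    induction k with
    | zero => intro _; simp
    | succ k ih =>
      intro hk
      have hbk := ih (by omega)
      apply mem_pow_of_phi_mem φ
      have h1 := chi_sub_phi_mem φ χ hcong k b hbk
      have h2 : χ b ∈ maximalIdeal Ĉ ^ (k + 1) := Ideal.pow_le_pow_right hk hb
      have := Ideal.sub_mem _ h2 h1
      simpa using this
  exact key n le_rfl

include hcong in
theorem exists_sub_chi_mem (t : Ĉ) : ∃ b : LY, t - χ b ∈ maximalIdeal Ĉ := by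
  have hfg : (maximalIdeal LY).FG := IsNoetherian.noetherian _
  obtain ⟨b, hb⟩ := Groth.Agent.Helper8.AppB.exists_sub_mem_map_pow (maximalIdeal LY) hfg
    (φ.symm t) 1
  rw [pow_one, ← AdicCompletion.maximalIdeal_eq_map] at hb
  refine ⟨b, ?_⟩
  have h1 : φ (φ.symm t - algebraMap LY ĈY b) ∈ maximalIdeal Ĉ := by
    rw [← map_maximalIdeal_ringEquiv φ]
    exact Ideal.mem_map_of_mem (φ : ĈY →+* Ĉ) hb
  rw [map_sub, RingEquiv.apply_symm_apply] at h1
  have h2 : χ b - φ (algebraMap LY ĈY b) ∈ maximalIdeal Ĉ :=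
    Ideal.pow_le_self (two_ne_zero) (hcong b)
  have := Ideal.sub_mem _ h1 h2
  have e : t - φ (algebraMap LY ĈY b) - (χ b - φ (algebraMap LY ĈY b)) = t - χ b := by ring
  rwa [e] at this

include hcong in
theorem map_chi_maximalIdeal : (maximalIdeal LY).map χ = maximalIdeal Ĉ := by
  refine le_antisymm ?_ ?_
  · rw [Ideal.map_le_iff_le_comap]
    intro b hb
    exact chi_mem_maximalIdeal φ χ hcong b hb
  · -- Nakayama
    have hfg : (maximalIdeal Ĉ).FG := IsNoetherian.noetherian _
    refine Submodule.le_of_le_smul_of_le_jacobson_bot (I := maximalIdeal Ĉ) hfg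
      (IsLocalRing.maximalIdeal_le_jacobson ⊥) ?_
    -- `m̂ = map φ₀ m_y ≤ map χ m_y + m̂²`
    have h1 : maximalIdeal Ĉ = ((maximalIdeal LY).map (algebraMap LY ĈY)).map (φ : ĈY →+* Ĉ) := by
      rw [← AdicCompletion.maximalIdeal_eq_map, map_maximalIdeal_ringEquiv φ]
    intro t ht
    rw [h1, Ideal.map_map] at ht
    refine Submodule.span_induction (p := fun t _ => t ∈ (maximalIdeal LY).map χ ⊔
      maximalIdeal Ĉ • maximalIdeal Ĉ) ?_ ?_ ?_ ?_ ht
    · rintro _ ⟨b, hb, rfl⟩
      have e : ((φ : ĈY →+* Ĉ).comp (algebraMap LY ĈY)) b =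
          χ b + (φ (algebraMap LY ĈY b) - χ b) := by
        simp
      rw [e]
      refine Submodule.add_mem_sup (Ideal.mem_map_of_mem _ hb) ?_
      have h2 := hcong b
      rw [pow_two] at h2
      rw [smul_eq_mul, ← neg_sub]
      exact (Ideal.neg_mem_iff _).mpr h2
    · exact Submodule.zero_mem _
    · intro x y _ _ hx hy
      exact Submodule.add_mem _ hx hy
    · intro a x _ hx
      exact Submodule.smul_mem _ a hx

include hcong in
theorem faithfullyFlat_chi :
    @Module.FaithfullyFlat LY Ĉ _ _ χ.toAlgebra.toModule := by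
  letI : Algebra LY Ĉ := χ.toAlgebra
  exact faithfullyFlat_of_recog (C := LY) (T := Ĉ) (map_chi_maximalIdeal φ χ hcong)
    (fun t => exists_sub_chi_mem φ χ hcong t)
    (fun n b hb => mem_pow_of_chi_mem φ χ hcong n b hb)

end

end Groth.Agent.Helper8.AppS
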