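import Mathlib
import Groth.Agent.Lib.Helper8.AppS11

/-!
# A local homomorphism inducing (up to second order) a given isomorphism of completions
is flat, unramified and has trivial residue field extension (conclusion)
-/

set_option autoImplicit false
universe u

namespace Groth.Agent.Helper8.AppS

open IsLocalRing

section

variable {L LY L' : Type u} [CommRing L] [IsLocalRing L] [IsNoetherianRing L]
  [CommRing LY] [IsLocalRing LY] [IsNoetherianRing LY]
  [CommRing L'] [IsLocalRing L'] [IsNoetherianRing L']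

local notation "Ĉ" => AdicCompletion (maximalIdeal L) L
local notation "ĈY" => AdicCompletion (maximalIdeal LY) LY

variable (g : L →+* L') (h : LY →+* L') (ψ' : L' →+* AdicCompletion (maximalIdeal L) L)
  (hψg : ψ'.comp g = algebraMap L (AdicCompletion (maximalIdeal L) L))
  (hunr : (maximalIdeal L).map g = maximalIdeal L')
  (hres : ∀ z : L', ∃ l : L, z - g l ∈ maximalIdeal L')
  (φ : AdicCompletion (maximalIdeal LY) LY ≃+* AdicCompletion (maximalIdeal L) L)
  (hcong : ∀ b : LY, ψ' (h b) - φ (algebraMap LY (AdicCompletion (maximalIdeal LY) LY) b) ∈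
    maximalIdeal (AdicCompletion (maximalIdeal L) L) ^ 2)

include hψg hunr hres hcong in
theorem flat_of_cong : h.Flat := by
  letI a1 : Algebra LY L' := h.toAlgebra
  letI a2 : Algebra L' Ĉ := ψ'.toAlgebra
  letI a3 : Algebra LY Ĉ := (ψ'.comp h).toAlgebra
  haveI : IsScalarTower LY L' Ĉ := IsScalarTower.of_algebraMap_eq (fun _ => rfl)
  haveI : Module.FaithfullyFlat L' Ĉ := faithfullyFlat_psi g ψ' hψg hunr hres
  haveI : Module.FaithfullyFlat LY Ĉ := faithfullyFlat_chi φ (ψ'.comp h) hcong
  exact Groth.Agent.Helper1.LocalCrit.flat_of_faithfullyFlat_of_flat (R := LY) (S := L') Ĉ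

include hψg hunr hres in
theorem comap_psi_maximalIdeal : (maximalIdeal Ĉ).comap ψ' = maximalIdeal L' := by
  letI a2 : Algebra L' Ĉ := ψ'.toAlgebra
  haveI : Module.FaithfullyFlat L' Ĉ := faithfullyFlat_psi g ψ' hψg hunr hres
  rw [← map_psi_maximalIdeal g ψ' hψg hunr]
  exact Ideal.comap_map_eq_self_of_faithfullyFlat (A := L') (B := Ĉ) (maximalIdeal L')

include hψg hunr hres hcong in
theorem map_maximalIdeal_of_cong : (maximalIdeal LY).map h = maximalIdeal L' := by
  letI a2 : Algebra L' Ĉ := ψ'.toAlgebra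
  haveI : Module.FaithfullyFlat L' Ĉ := faithfullyFlat_psi g ψ' hψg hunr hres
  have h1 : ((maximalIdeal LY).map h).map ψ' = (maximalIdeal L').map ψ' := by
    rw [Ideal.map_map, map_chi_maximalIdeal φ (ψ'.comp h) hcong,
      map_psi_maximalIdeal g ψ' hψg hunr]
  have h2 := Ideal.comap_map_eq_self_of_faithfullyFlat (A := L') (B := Ĉ)
    ((maximalIdeal LY).map h)
  have h3 := Ideal.comap_map_eq_self_of_faithfullyFlat (A := L') (B := Ĉ) (maximalIdeal L')
  change (((maximalIdeal LY).map h).map ψ').comap ψ' = _ at h2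
  change ((maximalIdeal L').map ψ').comap ψ' = _ at h3
  rw [← h2, h1, h3]

include hψg hunr hres hcong in
theorem exists_sub_mem_of_cong (z : L') : ∃ b : LY, z - h b ∈ maximalIdeal L' := by
  obtain ⟨c, hc⟩ := hres z
  obtain ⟨b, hb⟩ := exists_sub_chi_mem φ (ψ'.comp h) hcong (algebraMap L Ĉ c)
  refine ⟨b, ?_⟩
  have h1 : g c - h b ∈ maximalIdeal L' := by
    rw [← comap_psi_maximalIdeal g ψ' hψg hunr hres, Ideal.mem_comap, map_sub]
    have : ψ' (g c) = algebraMap L Ĉ c := RingHom.congr_fun hψg c
    rw [this]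
    exact hb
  have e : z - h b = (z - g c) + (g c - h b) := by ring
  rw [e]
  exact Ideal.add_mem _ hc h1

end

end Groth.Agent.Helper8.AppS
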