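import Mathlib

/-!
# Étale at a prime from a flat unramified local homomorphism with trivial residue extension
-/

set_option autoImplicit false
universe u

namespace Groth.Agent.Helper8.AppS

open IsLocalRing TensorProduct

section

variable {B A' LY L' : Type u} [CommRing B] [CommRing A'] [Algebra B A']
  [CommRing LY] [CommRing L']
  (q : Ideal B) [q.IsPrime] (p' : Ideal A') [p'.IsPrime]
  (hq : p'.comap (algebraMap B A') = q)
  [Algebra B LY] [IsLocalization.AtPrime LY q] [Algebra A' L'] [IsLocalization.AtPrime L' p']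
  [Algebra B L'] [IsScalarTower B A' L'] [Algebra LY L'] [IsScalarTower B LY L']

/-- The canonical map `LY ⊗[B] A' → L'`. -/
noncomputable def tensorToLocal : LY ⊗[B] A' →ₐ[LY] L' :=
  Algebra.TensorProduct.lift (Algebra.ofId LY L') (IsScalarTower.toAlgHom B A' L')
    (fun _ _ => Commute.all _ _)

theorem tensorToLocal_tmul (l : LY) (a : A') :
    tensorToLocal (B := B) (A' := A') (LY := LY) (L' := L') (l ⊗ₜ[B] a) =
      algebraMap LY L' l * algebraMap A' L' a := by
  simp [tensorToLocal]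

include q in
/-- Every element of `LY ⊗[B] A'` becomes a pure tensor `1 ⊗ a` after multiplication by some
`s ⊗ 1`, `s ∉ q`. -/
theorem exists_smul_eq_one_tmul (d : LY ⊗[B] A') :
    ∃ s ∈ q.primeCompl, ∃ a : A', (algebraMap B LY s ⊗ₜ[B] (1 : A')) * d = 1 ⊗ₜ[B] a := by
  induction d using TensorProduct.induction_on with
  | zero => exact ⟨1, Submonoid.one_mem _, 0, by simp⟩
  | tmul l a =>
    obtain ⟨b, s, rfl⟩ := IsLocalization.exists_mk'_eq q.primeCompl l
    refine ⟨s, s.2, b • a, ?_⟩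
    rw [Algebra.TensorProduct.tmul_mul_tmul, one_mul, mul_comm, IsLocalization.mk'_spec,
      Algebra.algebraMap_eq_smul_one, TensorProduct.smul_tmul]
  | add x y hx hy =>
    obtain ⟨s₁, hs₁, a₁, h₁⟩ := hx
    obtain ⟨s₂, hs₂, a₂, h₂⟩ := hy
    refine ⟨s₁ * s₂, Submonoid.mul_mem _ hs₁ hs₂, s₂ • a₁ + s₁ • a₂, ?_⟩
    have e1 : (algebraMap B LY (s₁ * s₂) ⊗ₜ[B] (1 : A')) =
        (algebraMap B LY s₂ ⊗ₜ[B] (1 : A')) * (algebraMap B LY s₁ ⊗ₜ[B] (1 : A')) := by
      rw [Algebra.TensorProduct.tmul_mul_tmul, one_mul, map_mul, mul_comm]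
    have e2 : (algebraMap B LY (s₁ * s₂) ⊗ₜ[B] (1 : A')) =
        (algebraMap B LY s₁ ⊗ₜ[B] (1 : A')) * (algebraMap B LY s₂ ⊗ₜ[B] (1 : A')) := by
      rw [Algebra.TensorProduct.tmul_mul_tmul, one_mul, map_mul]
    rw [mul_add]
    nth_rewrite 1 [e1]
    rw [e2, mul_assoc, mul_assoc, h₁, h₂, TensorProduct.tmul_add]
    congr 1
    · rw [Algebra.TensorProduct.tmul_mul_tmul, mul_one, one_mul, Algebra.algebraMap_eq_smul_one,
        TensorProduct.smul_tmul]
    · rw [Algebra.TensorProduct.tmul_mul_tmul, mul_one, one_mul, Algebra.algebraMap_eq_smul_one,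
        TensorProduct.smul_tmul]

include q p' in
/-- `L'` is a localization of `LY ⊗[B] A'`. -/
theorem isLocalization_tensorToLocal :
    @IsLocalization (LY ⊗[B] A') _
      ((IsUnit.submonoid L').comap
        (tensorToLocal (B := B) (A' := A') (LY := LY) (L' := L')).toRingHom) L' _
      (tensorToLocal (B := B) (A' := A') (LY := LY) (L' := L')).toRingHom.toAlgebra := by
  letI : Algebra (LY ⊗[B] A') L' :=
    (tensorToLocal (B := B) (A' := A') (LY := LY) (L' := L')).toRingHom.toAlgebra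
  have halg : ∀ x : LY ⊗[B] A', algebraMap (LY ⊗[B] A') L' x = tensorToLocal x := fun _ => rfl
  refine ⟨fun y => y.2, fun z => ?_, fun {x y} hxy => ?_⟩
  · obtain ⟨a, t, rfl⟩ := IsLocalization.exists_mk'_eq p'.primeCompl z
    have ht : (1 : LY) ⊗ₜ[B] (t : A') ∈ (IsUnit.submonoid L').comap
        (tensorToLocal (B := B) (A' := A') (LY := LY) (L' := L')).toRingHom := by
      change IsUnit (tensorToLocal ((1 : LY) ⊗ₜ[B] (t : A')))
      rw [tensorToLocal_tmul, map_one, one_mul]
      exact IsLocalization.map_units L' t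
    refine ⟨⟨(1 : LY) ⊗ₜ[B] a, ⟨_, ht⟩⟩, ?_⟩
    change IsLocalization.mk' L' a t * tensorToLocal ((1 : LY) ⊗ₜ[B] (t : A')) =
      tensorToLocal ((1 : LY) ⊗ₜ[B] a)
    rw [tensorToLocal_tmul, tensorToLocal_tmul, map_one, one_mul, one_mul,
      IsLocalization.mk'_spec]
  · rw [halg, halg] at hxy
    obtain ⟨s, hs, a', ha'⟩ := exists_smul_eq_one_tmul q (x - y)
    have h0 : tensorToLocal (B := B) (A' := A') (LY := LY) (L' := L') (x - y) = 0 := by
      rw [map_sub, hxy, sub_self]
    have h1 : algebraMap A' L' a' = 0 := by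
      have := congrArg (tensorToLocal (B := B) (A' := A') (LY := LY) (L' := L')) ha'
      rw [map_mul, h0, mul_zero, tensorToLocal_tmul, map_one, one_mul] at this
      exact this.symm
    obtain ⟨t, ht⟩ := (IsLocalization.map_eq_zero_iff p'.primeCompl L' a').mp h1
    have hc : ((1 : LY) ⊗ₜ[B] (t : A')) * (algebraMap B LY s ⊗ₜ[B] (1 : A')) ∈
        (IsUnit.submonoid L').comap
          (tensorToLocal (B := B) (A' := A') (LY := LY) (L' := L')).toRingHom := by
      change IsUnit (tensorToLocal (((1 : LY) ⊗ₜ[B] (t : A')) *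
        (algebraMap B LY s ⊗ₜ[B] (1 : A'))))
      rw [map_mul, tensorToLocal_tmul, tensorToLocal_tmul, map_one, one_mul, map_one, mul_one]
      refine (IsLocalization.map_units L' t).mul ?_
      exact (IsLocalization.map_units LY (⟨s, hs⟩ : q.primeCompl)).map (algebraMap LY L')
    refine ⟨⟨_, hc⟩, ?_⟩
    rw [← sub_eq_zero, ← mul_sub]
    change ((1 : LY) ⊗ₜ[B] (t : A')) * (algebraMap B LY s ⊗ₜ[B] (1 : A')) * (x - y) = 0
    rw [mul_assoc, ha', Algebra.TensorProduct.tmul_mul_tmul, one_mul, ht,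
      TensorProduct.tmul_zero]

end

end Groth.Agent.Helper8.AppS
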