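import Mathlib
import Groth.Agent.Lib.Helper8.AppS13

/-!
# Étale at a prime from a flat unramified local homomorphism with trivial residue extension
(main lemma)
-/

set_option autoImplicit false
universe u

namespace Groth.Agent.Helper8.AppS

open IsLocalRing TensorProduct

section

variable {B A' LY L' : Type u} [CommRing B] [CommRing A'] [Algebra B A']
  [Algebra.FinitePresentation B A']
  [CommRing LY] [IsLocalRing LY] [CommRing L'] [IsLocalRing L']
  (q : Ideal B) [q.IsPrime] (p' : Ideal A') [p'.IsPrime]
  [Algebra B LY] [IsLocalization.AtPrime LY q] [Algebra A' L'] [IsLocalization.AtPrime L' p']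
  [Algebra B L'] [IsScalarTower B A' L'] [Algebra LY L'] [IsScalarTower B LY L']

include q p' in
theorem formallyEtale_of_flat_unramified [Module.Flat LY L']
    (hunr : (maximalIdeal LY).map (algebraMap LY L') = maximalIdeal L')
    (hres : ∀ z : L', ∃ b : LY, z - algebraMap LY L' b ∈ maximalIdeal L') :
    Algebra.FormallyEtale B L' := by
  haveI : IsLocalHom (algebraMap LY L') :=
    ((IsLocalRing.local_hom_TFAE (algebraMap LY L')).out 2 0).mp (le_of_eq hunr)
  -- residue fields
  have hsurj : Function.Surjective (algebraMap (ResidueField LY) (ResidueField L')) := by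
    intro zbar
    obtain ⟨z, rfl⟩ := IsLocalRing.residue_surjective zbar
    obtain ⟨b, hb⟩ := hres z
    refine ⟨IsLocalRing.residue LY b, ?_⟩
    rw [IsLocalRing.ResidueField.algebraMap_residue]
    symm
    rw [← sub_eq_zero, ← map_sub, IsLocalRing.residue_eq_zero_iff]
    exact hb
  haveI : Algebra.IsSeparable (ResidueField LY) (ResidueField L') := by
    rw [Algebra.isSeparable_def]
    intro x
    obtain ⟨y, rfl⟩ := hsurj x
    exact isSeparable_algebraMap y
  -- finiteness
  haveI : Algebra.EssFiniteType A' L' := Algebra.EssFiniteType.of_isLocalization L' p'.primeCompl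
  haveI : Algebra.EssFiniteType B L' := Algebra.EssFiniteType.comp B A' L'
  haveI : Algebra.EssFiniteType LY L' := Algebra.EssFiniteType.of_comp B LY L'
  -- unramified
  haveI : Algebra.FormallyUnramified LY L' := Algebra.FormallyUnramified.of_map_maximalIdeal hunr
  haveI : Algebra.FormallyEtale B LY := Algebra.FormallyEtale.of_isLocalization q.primeCompl
  haveI : Algebra.FormallyUnramified B L' := Algebra.FormallyUnramified.comp B LY L'
  -- smooth: the fibre
  haveI : Module.FaithfullyFlat LY L' := Module.FaithfullyFlat.of_flat_of_isLocalHom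
  have hbij : Function.Bijective
      (algebraMap (ResidueField LY) (ResidueField LY ⊗[LY] L')) := by
    refine ⟨(algebraMap (ResidueField LY) (ResidueField LY ⊗[LY] L')).injective, ?_⟩
    have hzero : ∀ (x : ResidueField LY) (μ : L'), μ ∈ maximalIdeal L' →
        x ⊗ₜ[LY] μ = 0 := by
      intro x μ hμ
      rw [← hunr] at hμ
      refine Submodule.span_induction (p := fun μ _ => x ⊗ₜ[LY] μ = 0) ?_ ?_ ?_ ?_ hμ
      · rintro _ ⟨m₀, hm₀, rfl⟩
        rw [Algebra.algebraMap_eq_smul_one, ← TensorProduct.smul_tmul, Algebra.smul_def,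
          IsLocalRing.ResidueField.algebraMap_eq]
        rw [(IsLocalRing.residue_eq_zero_iff m₀).mpr hm₀, zero_mul, TensorProduct.zero_tmul]
      · exact TensorProduct.tmul_zero _ _
      · intro a b _ _ ha hb
        rw [TensorProduct.tmul_add, ha, hb, add_zero]
      · intro a b _ hb
        have e : x ⊗ₜ[LY] (a • b) = ((1 : ResidueField LY) ⊗ₜ[LY] a) * (x ⊗ₜ[LY] b) := by
          rw [Algebra.TensorProduct.tmul_mul_tmul, one_mul, smul_eq_mul]
        rw [e, hb, mul_zero]
    intro w
    induction w using TensorProduct.induction_on with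
    | zero => exact ⟨0, map_zero _⟩
    | tmul x z =>
      obtain ⟨b, hb⟩ := hres z
      refine ⟨x * IsLocalRing.residue LY b, ?_⟩
      have e1 : x ⊗ₜ[LY] z = x ⊗ₜ[LY] (algebraMap LY L' b) + x ⊗ₜ[LY] (z - algebraMap LY L' b) := by
        rw [← TensorProduct.tmul_add]; congr 1; ring
      rw [e1, hzero x _ hb, add_zero, Algebra.algebraMap_eq_smul_one b, ← TensorProduct.smul_tmul,
        Algebra.TensorProduct.algebraMap_apply, Algebra.algebraMap_self, RingHom.id_apply,
        Algebra.smul_def, IsLocalRing.ResidueField.algebraMap_eq, mul_comm]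
    | add x y hx hy =>
      obtain ⟨a, ha⟩ := hx
      obtain ⟨b, hb⟩ := hy
      exact ⟨a + b, by rw [map_add, ha, hb]⟩
  haveI : Algebra.FormallySmooth (ResidueField LY) (ResidueField LY ⊗[LY] L') :=
    Algebra.FormallySmooth.of_equiv
      (AlgEquiv.ofBijective (Algebra.ofId (ResidueField LY) (ResidueField LY ⊗[LY] L')) hbij)
  -- smooth: apply the fibre criterion
  letI algP : Algebra (LY ⊗[B] A') L' :=
    (tensorToLocal (B := B) (A' := A') (LY := LY) (L' := L')).toRingHom.toAlgebra
  haveI : IsScalarTower LY (LY ⊗[B] A') L' := IsScalarTower.of_algebraMap_eq (fun l => by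
    change algebraMap LY L' l = tensorToLocal (algebraMap LY (LY ⊗[B] A') l)
    rw [AlgHom.commutes])
  haveI := isLocalization_tensorToLocal (B := B) (A' := A') (LY := LY) (L' := L') q p'
  haveI : Algebra.FormallySmooth LY L' :=
    Algebra.FormallySmooth.of_formallySmooth_residueField_tensor (R := LY) (S := L')
      (P := LY ⊗[B] A')
      ((IsUnit.submonoid L').comap
        (tensorToLocal (B := B) (A' := A') (LY := LY) (L' := L')).toRingHom)
  haveI : Algebra.FormallySmooth B L' := Algebra.FormallySmooth.comp B LY L'
  exact Algebra.FormallyEtale.of_formallyUnramified_and_formallySmooth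

end

end Groth.Agent.Helper8.AppS
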