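import Mathlib
import Groth.Agent.Lib.Helper8.AppS14

/-!
# Étale neighbourhoods: shrinking lemmas
-/

set_option autoImplicit false
universe u

namespace Groth.Agent.Helper8.AppS

open IsLocalRing

/-- Étale at a prime gives an étale principal localization. -/
theorem exists_etale_away {B A' LY : Type u} [CommRing B] [CommRing A'] [Algebra B A']
    [Algebra.FinitePresentation B A'] [CommRing LY] [IsLocalRing LY]
    (q : Ideal B) [q.IsPrime] (p' : Ideal A') [p'.IsPrime]
    [Algebra B LY] [IsLocalization.AtPrime LY q]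
    [Algebra LY (Localization.AtPrime p')] [IsScalarTower B LY (Localization.AtPrime p')]
    [Module.Flat LY (Localization.AtPrime p')]
    (hunr : (maximalIdeal LY).map (algebraMap LY (Localization.AtPrime p')) =
      maximalIdeal (Localization.AtPrime p'))
    (hres : ∀ z : Localization.AtPrime p', ∃ b : LY,
      z - algebraMap LY (Localization.AtPrime p') b ∈ maximalIdeal (Localization.AtPrime p')) :
    ∃ t : A', t ∉ p' ∧ Algebra.Etale B (Localization.Away t) := by
  haveI : Algebra.IsEtaleAt B p' := formallyEtale_of_flat_unramified q p' hunr hres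
  exact Algebra.exists_etale_of_isEtaleAt p'

section

variable {A A' : Type u} [CommRing A] [CommRing A'] (f : A →+* A')
  (p : Ideal A) [p.IsPrime] (p' : Ideal A') [p'.IsPrime] (hcomap : p'.comap f = p)

include hcomap in
/-- Triviality of the residue field extension passes to a principal localization. -/
theorem hres_away (hres : ∀ x : A', ∃ r s : A, s ∉ p ∧ f s * x - f r ∈ p')
    (t : A') (ht : t ∉ p') (x : Localization.Away t) :
    ∃ r s : A, s ∉ p ∧ algebraMap A' (Localization.Away t) (f s) * x -
      algebraMap A' (Localization.Away t) (f r) ∈ p'.map (algebraMap A' (Localization.Away t)) := by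
  have hdisj : Disjoint (Submonoid.powers t : Set A') (p' : Set A') := by
    rw [Set.disjoint_left]
    rintro _ ⟨k, rfl⟩ hk
    exact ht (Ideal.IsPrime.mem_of_pow_mem inferInstance k hk)
  haveI hp'' : (p'.map (algebraMap A' (Localization.Away t))).IsPrime :=
    IsLocalization.isPrime_of_isPrime_disjoint (Submonoid.powers t) _ p' inferInstance hdisj
  obtain ⟨x', ⟨_, k, rfl⟩, rfl⟩ := IsLocalization.exists_mk'_eq (Submonoid.powers t) x
  obtain ⟨r₁, s₁, hs₁, h₁⟩ := hres x'
  obtain ⟨r₂, s₂, hs₂, h₂⟩ := hres (t ^ k)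
  have hmem : ∀ a : A, f a ∈ p' ↔ a ∈ p := by
    intro a
    rw [← hcomap, Ideal.mem_comap]
  have htk : t ^ k ∉ p' := fun hk => ht (Ideal.IsPrime.mem_of_pow_mem inferInstance k hk)
  have hr₂ : r₂ ∉ p := by
    intro hr
    have h3 : f s₂ * t ^ k ∈ p' := by
      have := Ideal.add_mem _ h₂ ((hmem r₂).mpr hr)
      simpa using this
    rcases Ideal.IsPrime.mem_or_mem inferInstance h3 with h4 | h4
    · exact hs₂ ((hmem s₂).mp h4)
    · exact htk h4
  refine ⟨r₁ * s₂, s₁ * r₂, fun hh => (Ideal.IsPrime.mem_or_mem inferInstance hh).elim hs₁ hr₂, ?_⟩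
  have hu : IsUnit (algebraMap A' (Localization.Away t) (t ^ k)) :=
    IsLocalization.map_units _ (⟨t ^ k, k, rfl⟩ : Submonoid.powers t)
  have key : algebraMap A' (Localization.Away t) (t ^ k) *
      (algebraMap A' (Localization.Away t) (f (s₁ * r₂)) *
        IsLocalization.mk' (Localization.Away t) x' (⟨t ^ k, k, rfl⟩ : Submonoid.powers t) -
        algebraMap A' (Localization.Away t) (f (r₁ * s₂))) =
      algebraMap A' (Localization.Away t)
        ((f s₁ * x' - f r₁) * f r₂ - (f s₂ * t ^ k - f r₂) * f r₁) := by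
    have e1 : algebraMap A' (Localization.Away t) (t ^ k) *
        IsLocalization.mk' (Localization.Away t) x' (⟨t ^ k, k, rfl⟩ : Submonoid.powers t) =
        algebraMap A' (Localization.Away t) x' := by
      rw [mul_comm]
      exact IsLocalization.mk'_spec (Localization.Away t) x'
        (⟨t ^ k, k, rfl⟩ : Submonoid.powers t)
    have e2 : algebraMap A' (Localization.Away t) (t ^ k) *
        (algebraMap A' (Localization.Away t) (f (s₁ * r₂)) *
          IsLocalization.mk' (Localization.Away t) x' (⟨t ^ k, k, rfl⟩ : Submonoid.powers t) -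
          algebraMap A' (Localization.Away t) (f (r₁ * s₂))) =
        algebraMap A' (Localization.Away t) (f (s₁ * r₂)) *
          (algebraMap A' (Localization.Away t) (t ^ k) *
            IsLocalization.mk' (Localization.Away t) x' (⟨t ^ k, k, rfl⟩ : Submonoid.powers t)) -
          algebraMap A' (Localization.Away t) (t ^ k) *
            algebraMap A' (Localization.Away t) (f (r₁ * s₂)) := by ring
    rw [e2, e1]
    simp only [map_mul, map_sub]
    ring
  have hmem' : algebraMap A' (Localization.Away t)
      ((f s₁ * x' - f r₁) * f r₂ - (f s₂ * t ^ k - f r₂) * f r₁) ∈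
      p'.map (algebraMap A' (Localization.Away t)) :=
    Ideal.mem_map_of_mem _
      (Ideal.sub_mem _ (Ideal.mul_mem_right _ _ h₁) (Ideal.mul_mem_right _ _ h₂))
  rw [← key] at hmem'
  rcases Ideal.IsPrime.mem_or_mem hp'' hmem' with h5 | h5
  · exact absurd (Ideal.eq_top_of_isUnit_mem _ h5 hu) hp''.ne_top
  · exact h5

end

section

variable {B A' LY L' : Type u} [CommRing B] [CommRing A'] [CommRing LY] [CommRing L']
  [IsLocalRing L'] (θ : B →+* A')
  (q : Ideal B) [q.IsPrime] (p' : Ideal A') [p'.IsPrime]
  [Algebra B LY] [IsLocalization.AtPrime LY q] [Algebra A' L'] [IsLocalization.AtPrime L' p']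
  (h : LY →+* L') (hh : h.comp (algebraMap B LY) = (algebraMap A' L').comp θ)

include hh in
/-- Triviality of the residue field extension, from the local rings to the rings. -/
theorem hres_of_local (hres : ∀ z : L', ∃ b : LY, z - h b ∈ maximalIdeal L') (x : A') :
    ∃ r s : B, s ∉ q ∧ θ s * x - θ r ∈ p' := by
  obtain ⟨b, hb⟩ := hres (algebraMap A' L' x)
  obtain ⟨r, s, rfl⟩ := IsLocalization.exists_mk'_eq q.primeCompl b
  refine ⟨r, s, s.2, ?_⟩
  rw [← IsLocalization.AtPrime.to_map_mem_maximal_iff L' p']
  have hθ : ∀ β : B, algebraMap A' L' (θ β) = h (algebraMap B LY β) :=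
    fun β => (RingHom.congr_fun hh β).symm
  have e : algebraMap A' L' (θ s * x - θ r) =
      h (algebraMap B LY s) * (algebraMap A' L' x - h (IsLocalization.mk' LY r s)) := by
    rw [map_sub, map_mul, hθ, hθ, mul_sub, ← map_mul, mul_comm (algebraMap B LY s),
      IsLocalization.mk'_spec]
  rw [e]
  exact Ideal.mul_mem_left _ _ hb

end

end Groth.Agent.Helper8.AppS
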