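import Mathlib
import Groth.Agent.Lib.Helper8.GRing11
import Groth.Agent.Lib.Helper8.PolyG4

/-!
# Local rings essentially of finite type over a G-ring are G-rings
-/

set_option autoImplicit false
universe u

namespace Groth.Agent.Helper8.AppS

open IsLocalRing

/-- Let `A` be a finite type `R`-algebra, `L` the localization of `A` at a prime, and suppose
`R → A → L` factors through a G-ring `R'`. Then `L` is a G-ring. -/
theorem isGRing_of_essFiniteType {R A R' L : Type u} [CommRing R] [CommRing A] [CommRing R']
    [CommRing L] [IsLocalRing L] [Algebra R A] [Algebra.FiniteType R A] (p : Ideal A) [p.IsPrime]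
    [Algebra A L] [IsLocalization.AtPrime L p]
    (ρ : R →+* R') (σ : R' →+* L) (h : σ.comp ρ = (algebraMap A L).comp (algebraMap R A))
    (hG : CAlg.IsGRing R') : CAlg.IsGRing L := by
  classical
  letI : Algebra R' L := σ.toAlgebra
  obtain ⟨s, hs⟩ := (Algebra.FiniteType.out : (⊤ : Subalgebra R A).FG)
  let C : Subalgebra R' L := Algebra.adjoin R' ((s.image (algebraMap A L) : Finset L) : Set L)
  haveI : Algebra.FiniteType R' C :=
    (Subalgebra.fg_iff_finiteType C).mp (Subalgebra.fg_adjoin_finset _)
  have hGC : CAlg.IsGRing C := Groth.Agent.Helper8.PolyG.isGRing_of_finiteType R' hG C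
  -- the image of `A` lies in `C`
  have hAC : ∀ a : A, algebraMap A L a ∈ C := by
    intro a
    have ha : a ∈ Algebra.adjoin R (s : Set A) := by rw [hs]; trivial
    induction ha using Algebra.adjoin_induction with
    | mem x hx =>
      exact Algebra.subset_adjoin (by
        rw [Finset.coe_image]
        exact ⟨x, hx, rfl⟩)
    | algebraMap r =>
      have : algebraMap A L (algebraMap R A r) = algebraMap R' L (ρ r) := by
        change ((algebraMap A L).comp (algebraMap R A)) r = σ (ρ r)
        rw [← h]; rfl
      rw [this]
      exact C.algebraMap_mem _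
    | add x y _ _ hx hy => rw [map_add]; exact C.add_mem hx hy
    | mul x y _ _ hx hy => rw [map_mul]; exact C.mul_mem hx hy
  let P : Ideal C := (maximalIdeal L).comap (algebraMap C L)
  haveI : P.IsPrime := Ideal.comap_isPrime _ _
  haveI : IsLocalization P.primeCompl L := by
    refine ⟨fun c => ?_, fun z => ?_, fun {x y} hxy => ⟨1, ?_⟩⟩
    · have hc : (c : C) ∉ P := c.2
      have : algebraMap C L c ∉ maximalIdeal L := fun hh => hc hh
      simpa [IsLocalRing.mem_maximalIdeal, mem_nonunits_iff] using this
    · obtain ⟨⟨a, t⟩, hat⟩ := IsLocalization.surj p.primeCompl z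
      have ht : algebraMap A L t ∉ maximalIdeal L := by
        rw [IsLocalization.AtPrime.to_map_mem_maximal_iff L p]
        exact t.2
      refine ⟨⟨⟨algebraMap A L a, hAC a⟩, ⟨⟨algebraMap A L t, hAC t⟩, fun hh => ht hh⟩⟩, ?_⟩
      exact hat
    · have : x = y := Subtype.ext hxy
      rw [this]
  exact Groth.Agent.Helper8.GRing.isGRing_of_isLocalization P.primeCompl hGC

end Groth.Agent.Helper8.AppS
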