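import Mathlib

/-!
# Local homomorphisms induced by an étale algebra with trivial residue field extension
-/

set_option autoImplicit false
universe u

namespace Groth.Agent.Helper8.AppS

open IsLocalRing

section

variable {A A' L L' : Type u} [CommRing A] [CommRing A'] [CommRing L] [CommRing L']
  [IsLocalRing L] [IsLocalRing L'] [Algebra A A'] [Algebra A L] [Algebra A' L']
  (p : Ideal A) [p.IsPrime] (p' : Ideal A') [p'.IsPrime]
  [IsLocalization.AtPrime L p] [IsLocalization.AtPrime L' p']
  (g : L →+* L') (hg : g.comp (algebraMap A L) = (algebraMap A' L').comp (algebraMap A A'))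
  (hcomap : p'.comap (algebraMap A A') = p)

include hg hcomap in
theorem map_maximalIdeal_le : (maximalIdeal L).map g ≤ maximalIdeal L' := by
  rw [← IsLocalization.AtPrime.map_eq_maximalIdeal p L,
    ← IsLocalization.AtPrime.map_eq_maximalIdeal p' L', Ideal.map_map, hg, ← Ideal.map_map]
  refine Ideal.map_mono ?_
  rw [Ideal.map_le_iff_le_comap, hcomap]

include hg hcomap in
theorem isLocalHom_of_comp : IsLocalHom g :=
  ((IsLocalRing.local_hom_TFAE g).out 2 0).mp (map_maximalIdeal_le p p' g hg hcomap)

include hg hcomap in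
/-- Triviality of the residue field extension, transported to the local rings. -/
theorem exists_sub_mem_maximalIdeal
    (hres : ∀ x : A', ∃ r s : A, s ∉ p ∧ algebraMap A A' s * x - algebraMap A A' r ∈ p')
    (z : L') : ∃ l : L, z - g l ∈ maximalIdeal L' := by
  obtain ⟨x, t, rfl⟩ := IsLocalization.exists_mk'_eq p'.primeCompl z
  obtain ⟨r₁, s₁, hs₁, h₁⟩ := hres x
  obtain ⟨r₂, s₂, hs₂, h₂⟩ := hres (t : A')
  have hga : ∀ a : A, g (algebraMap A L a) = algebraMap A' L' (algebraMap A A' a) :=
    fun a => RingHom.congr_fun hg a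
  have hmem : ∀ a : A, algebraMap A A' a ∈ p' ↔ a ∈ p := by
    intro a
    rw [← hcomap, Ideal.mem_comap]
  have hr₂ : r₂ ∉ p := by
    intro hr
    have h3 : algebraMap A A' s₂ * (t : A') ∈ p' := by
      have := Ideal.add_mem _ h₂ ((hmem r₂).mpr hr)
      simpa using this
    rcases Ideal.IsPrime.mem_or_mem inferInstance h3 with h4 | h4
    · exact hs₂ ((hmem s₂).mp h4)
    · exact t.2 h4
  have hsr : s₁ * r₂ ∈ p.primeCompl := fun hh =>
    (Ideal.IsPrime.mem_or_mem inferInstance hh).elim hs₁ hr₂
  refine ⟨IsLocalization.mk' L (r₁ * s₂) ⟨s₁ * r₂, hsr⟩, ?_⟩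
  -- multiply by a unit
  have hu1 : IsUnit (algebraMap A' L' (t : A')) := IsLocalization.map_units L' t
  have hu2 : IsUnit (algebraMap A' L' (algebraMap A A' (s₁ * r₂))) := by
    have : algebraMap A A' (s₁ * r₂) ∈ p'.primeCompl := fun hh => hsr ((hmem _).mp hh)
    exact IsLocalization.map_units L' ⟨_, this⟩
  have hu := hu1.mul hu2
  have key : algebraMap A' L' (t : A') * algebraMap A' L' (algebraMap A A' (s₁ * r₂)) *
      (IsLocalization.mk' L' x t - g (IsLocalization.mk' L (r₁ * s₂) ⟨s₁ * r₂, hsr⟩)) =
      algebraMap A' L' ((algebraMap A A' s₁ * x - algebraMap A A' r₁) * algebraMap A A' r₂ -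
        (algebraMap A A' s₂ * (t : A') - algebraMap A A' r₂) * algebraMap A A' r₁) := by
    have e1 : algebraMap A' L' (t : A') * IsLocalization.mk' L' x t = algebraMap A' L' x := by
      rw [mul_comm]; exact IsLocalization.mk'_spec L' x t
    have e2 : algebraMap A' L' (algebraMap A A' (s₁ * r₂)) *
        g (IsLocalization.mk' L (r₁ * s₂) ⟨s₁ * r₂, hsr⟩) =
        algebraMap A' L' (algebraMap A A' (r₁ * s₂)) := by
      rw [← hga, ← hga, ← map_mul, mul_comm]
      congr 1
      exact IsLocalization.mk'_spec L (r₁ * s₂) ⟨s₁ * r₂, hsr⟩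
    have e3 : algebraMap A' L' (t : A') * algebraMap A' L' (algebraMap A A' (s₁ * r₂)) *
        (IsLocalization.mk' L' x t - g (IsLocalization.mk' L (r₁ * s₂) ⟨s₁ * r₂, hsr⟩)) =
        algebraMap A' L' (algebraMap A A' (s₁ * r₂)) *
          (algebraMap A' L' (t : A') * IsLocalization.mk' L' x t) -
        algebraMap A' L' (t : A') * (algebraMap A' L' (algebraMap A A' (s₁ * r₂)) *
          g (IsLocalization.mk' L (r₁ * s₂) ⟨s₁ * r₂, hsr⟩)) := by ring
    rw [e3, e1, e2]
    simp only [map_mul, map_sub]
    ring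
  have hmem' : algebraMap A' L' ((algebraMap A A' s₁ * x - algebraMap A A' r₁) * algebraMap A A' r₂ -
        (algebraMap A A' s₂ * (t : A') - algebraMap A A' r₂) * algebraMap A A' r₁) ∈
      maximalIdeal L' := by
    rw [IsLocalization.AtPrime.to_map_mem_maximal_iff L' p']
    exact Ideal.sub_mem _ (Ideal.mul_mem_right _ _ h₁) (Ideal.mul_mem_right _ _ h₂)
  rw [← key] at hmem'
  rcases Ideal.IsPrime.mem_or_mem (Ideal.IsMaximal.isPrime' _) hmem' with h5 | h5
  · exact absurd hu ((IsLocalRing.mem_maximalIdeal _).mp h5)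
  · exact h5

include hg hcomap in
/-- An étale (more generally: unramified of finite type) map induces an unramified local
homomorphism. -/
theorem map_maximalIdeal_eq [Algebra.FormallyUnramified A A'] [Algebra.FiniteType A A'] :
    (maximalIdeal L).map g = maximalIdeal L' := by
  letI : Algebra L L' := g.toAlgebra
  letI : Algebra A L' := ((algebraMap A' L').comp (algebraMap A A')).toAlgebra
  haveI : IsScalarTower A A' L' := IsScalarTower.of_algebraMap_eq (fun _ => rfl)
  haveI : IsScalarTower A L L' := IsScalarTower.of_algebraMap_eq (fun a =>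
    (RingHom.congr_fun hg a).symm)
  haveI : Algebra.FormallyUnramified A' L' :=
    Algebra.FormallyUnramified.of_isLocalization p'.primeCompl
  haveI : Algebra.FormallyUnramified A L' := Algebra.FormallyUnramified.comp A A' L'
  haveI : Algebra.FormallyUnramified L L' := Algebra.FormallyUnramified.of_restrictScalars A L L'
  haveI : Algebra.EssFiniteType A' L' := Algebra.EssFiniteType.of_isLocalization L' p'.primeCompl
  haveI : Algebra.EssFiniteType A L' := Algebra.EssFiniteType.comp A A' L'
  haveI : Algebra.EssFiniteType L L' := Algebra.EssFiniteType.of_comp A L L'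
  haveI : IsLocalHom (algebraMap L L') := isLocalHom_of_comp p p' g hg hcomap
  exact Algebra.FormallyUnramified.map_maximalIdeal (R := L) (S := L')

end

end Groth.Agent.Helper8.AppS
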