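import Mathlib
import Groth.Agent.Lib.Helper8.AppS5

/-!
# The ring-theoretic core of "étale neighbourhoods approximating a map to the completion":
version exposing the retraction `ψ`
-/

set_option autoImplicit false
universe u

namespace Groth.Agent.Helper8.AppS

open IsLocalRing

set_option maxHeartbeats 1600000 in
set_option synthInstance.maxHeartbeats 200000 in
theorem exists_etale_nbhd_core'
    {R A B LS L LY : Type u} [CommRing R] [IsNoetherianRing R]
    [CommRing A] [Algebra R A] [Algebra.FiniteType R A]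
    [CommRing B] [Algebra R B] [Algebra.FiniteType R B]
    [CommRing LS] [CommRing L] [IsLocalRing L] [CommRing LY] [IsLocalRing LY]
    (p : Ideal A) [p.IsPrime] [Algebra A L] [IsLocalization.AtPrime L p]
    (q : Ideal B) [q.IsPrime] [Algebra B LY] [IsLocalization.AtPrime LY q]
    (ρ : R →+* LS) (σX : LS →+* L) (σY : LS →+* LY)
    (hX : σX.comp ρ = (algebraMap A L).comp (algebraMap R A))
    (hY : σY.comp ρ = (algebraMap B LY).comp (algebraMap R B))
    (hG : CAlg.IsGRing LS)
    (φ : LY →+* Cpl L) (hφ : φ.comp σY = (algebraMap L (Cpl L)).comp σX)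
    (hloc : ∀ b ∈ maximalIdeal LY, φ b ∈ maxCpl L) (N : ℕ) (hN : 1 ≤ N) :
    ∃ (A' : Type u) (_ : CommRing A') (_ : Algebra A A'), Algebra.Etale A A' ∧
      ∃ (p' : Ideal A') (_ : p'.IsPrime) (θ : B →+* A'),
        p'.comap (algebraMap A A') = p ∧
        (∀ x : A', ∃ r s : A, s ∉ p ∧ algebraMap A A' s * x - algebraMap A A' r ∈ p') ∧
        θ.comp (algebraMap R B) = (algebraMap A A').comp (algebraMap R A) ∧
        p'.comap θ = q ∧
        ∃ ψ : A' →+* Cpl L,
          (∀ a : A, ψ (algebraMap A A' a) = algebraMap L (Cpl L) (algebraMap A L a)) ∧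
          (∀ x : A', ψ x ∈ maxCpl L ↔ x ∈ p') ∧
          ∀ β : B, ψ (θ β) - φ (algebraMap B LY β) ∈
            (maximalIdeal L ^ N).map (algebraMap L (Cpl L)) := by
  classical
  haveI : IsNoetherianRing A := Algebra.FiniteType.isNoetherianRing R A
  have hGL : CAlg.IsGRing L := isGRing_of_essFiniteType p ρ σX hX hG
  haveI : IsNoetherianRing L := hGL.1
  have hmaxeq : maximalIdeal (Cpl L) = maxCpl L := AdicCompletion.maximalIdeal_eq_map
  -- presentation of `B`
  haveI : Algebra.FinitePresentation R B := Algebra.FinitePresentation.of_finiteType.mp inferInstance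
  obtain ⟨n, f, hf, hker⟩ := (Algebra.FinitePresentation.out : ∃ (n : ℕ)
    (f : MvPolynomial (Fin n) R →ₐ[R] B), Function.Surjective f ∧ (RingHom.ker f.toRingHom).FG)
  obtain ⟨m, gen, hgen⟩ := Submodule.fg_iff_exists_fin_generating_family.mp hker
  let ι : L →+* Cpl L := algebraMap L (Cpl L)
  let βY : B →+* LY := algebraMap B LY
  let F : Fin m → MvPolynomial (Fin n) A := fun j => MvPolynomial.map (algebraMap R A) (gen j)
  let a : Fin n → Cpl L := fun i => φ (βY (f (MvPolynomial.X i)))
  -- compatibility on `R`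
  have hR : (algebraMap A (Cpl L)).comp (algebraMap R A) = (φ.comp βY).comp (algebraMap R B) := by
    have h1 : (algebraMap A (Cpl L)) = ι.comp (algebraMap A L) :=
      IsScalarTower.algebraMap_eq A L (Cpl L)
    rw [h1, RingHom.comp_assoc, ← hX, ← RingHom.comp_assoc, ← hφ, RingHom.comp_assoc, hY,
      RingHom.comp_assoc]
  have hfgen : ∀ j, f (gen j) = 0 := by
    intro j
    have : gen j ∈ RingHom.ker f.toRingHom := by
      rw [← hgen]; exact Submodule.subset_span ⟨j, rfl⟩
    exact this
  have ha : ∀ j, MvPolynomial.aeval a (F j) = 0 := by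
    intro j
    change MvPolynomial.aeval a (MvPolynomial.map (algebraMap R A) (gen j)) = 0
    rw [MvPolynomial.aeval_def, MvPolynomial.eval₂_map, hR]
    have h2 : a = (φ.comp βY) ∘ (fun i => f (MvPolynomial.X i)) := rfl
    rw [h2, ← MvPolynomial.eval₂_comp_left]
    have h3 : MvPolynomial.eval₂ (algebraMap R B) (fun i => f (MvPolynomial.X i)) (gen j) =
        f (gen j) := by
      rw [← MvPolynomial.aeval_def]
      exact (DFunLike.congr_fun (MvPolynomial.aeval_unique f) (gen j)).symm
    rw [h3, hfgen, map_zero]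
  obtain ⟨A', _, _, het, ψ, p', hp', hψ, hcomap, hres, hψmax, b, hb, hab⟩ :=
    exists_etale_solution_atPrime' p L hGL F a ha N
  haveI := hp'
  haveI := het
  letI algRA' : Algebra R A' := ((algebraMap A A').comp (algebraMap R A)).toAlgebra
  haveI towRAA' : IsScalarTower R A A' := IsScalarTower.of_algebraMap_eq (fun _ => rfl)
  -- the map `θ`
  let Θ : MvPolynomial (Fin n) R →ₐ[R] A' := MvPolynomial.aeval b
  have hΘker : RingHom.ker f.toRingHom ≤ RingHom.ker Θ.toRingHom := by
    rw [← hgen, Ideal.span_le]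
    rintro _ ⟨j, rfl⟩
    change Θ (gen j) = 0
    have := hb j
    change MvPolynomial.aeval b (MvPolynomial.map (algebraMap R A) (gen j)) = 0 at this
    rwa [MvPolynomial.aeval_map_algebraMap] at this
  let θ : B →+* A' := RingHom.liftOfSurjective f.toRingHom hf ⟨Θ.toRingHom, hΘker⟩
  have hθ : ∀ P, θ (f P) = Θ P := fun P =>
    RingHom.liftOfSurjective_comp_apply f.toRingHom hf ⟨Θ.toRingHom, hΘker⟩ P
  have hθR : θ.comp (algebraMap R B) = (algebraMap A A').comp (algebraMap R A) := by
    ext r
    have h1 : algebraMap R B r = f (MvPolynomial.C r) := by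
      rw [← MvPolynomial.algebraMap_eq, AlgHom.commutes]
    change θ (algebraMap R B r) = _
    rw [h1, hθ, ← MvPolynomial.algebraMap_eq, AlgHom.commutes]
    rfl
  -- congruence of `ψ ∘ θ` and `φ ∘ βY`
  let J : Ideal (Cpl L) := (maximalIdeal L ^ N).map ι
  have hJle : J ≤ maxCpl L := Ideal.map_mono (Ideal.pow_le_self (by omega))
  have hcongP : ∀ P : MvPolynomial (Fin n) R, ψ (Θ P) - φ (βY (f P)) ∈ J := by
    intro P
    refine mvPolynomial_sub_mem (ψ.comp Θ.toRingHom) ((φ.comp βY).comp f.toRingHom) J
      (fun r => ?_) (fun i => ?_) P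
    · have h1 : Θ (MvPolynomial.C r) = algebraMap A A' (algebraMap R A r) := by
        rw [← MvPolynomial.algebraMap_eq, AlgHom.commutes]; rfl
      have h2 : f (MvPolynomial.C r) = algebraMap R B r := by
        rw [← MvPolynomial.algebraMap_eq, AlgHom.commutes]
      change ψ (Θ (MvPolynomial.C r)) - φ (βY (f (MvPolynomial.C r))) ∈ J
      rw [h1, h2, hψ]
      have h3 : φ (βY (algebraMap R B r)) = ι (algebraMap A L (algebraMap R A r)) := by
        have := RingHom.congr_fun hR r
        simp only [RingHom.comp_apply] at this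
        rw [← this]
        exact IsScalarTower.algebraMap_apply A L (Cpl L) _
      rw [h3, sub_self]
      exact Ideal.zero_mem _
    · change ψ (Θ (MvPolynomial.X i)) - φ (βY (f (MvPolynomial.X i))) ∈ J
      have h1 : Θ (MvPolynomial.X i) = b i := MvPolynomial.aeval_X b i
      rw [h1]
      have := hab i
      rw [← neg_sub]
      exact (Ideal.neg_mem_iff J).mpr this
  have hcong : ∀ β : B, ψ (θ β) - φ (βY β) ∈ J := by
    intro β
    obtain ⟨P, rfl⟩ := hf β
    rw [hθ]
    exact hcongP P
  -- `ψ` detects `p'`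
  have hιcomap : (maxCpl L).comap ι = maximalIdeal L := by
    rw [← hmaxeq]
    exact IsLocalRing.maximalIdeal_comap (algebraMap L (Cpl L))
  have hmem : ∀ x : A, algebraMap A A' x ∈ p' ↔ x ∈ p := by
    intro x
    rw [← hcomap, Ideal.mem_comap]
  have hψdet : ∀ x : A', ψ x ∈ maxCpl L → x ∈ p' := by
    intro x hx
    by_contra hxp
    obtain ⟨r, s, hs, hrs⟩ := hres x
    have h1 := hψmax _ hrs
    rw [map_sub, map_mul] at h1
    have h2 : ψ (algebraMap A A' r) ∈ maxCpl L := by
      have := Ideal.sub_mem _ (Ideal.mul_mem_left _ (ψ (algebraMap A A' s)) hx) h1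
      simpa using this
    rw [hψ] at h2
    have h3 : algebraMap A L r ∈ maximalIdeal L := by
      rw [← hιcomap]; exact h2
    rw [IsLocalization.AtPrime.to_map_mem_maximal_iff L p] at h3
    have h4 : algebraMap A A' s * x ∈ p' := by
      have := Ideal.add_mem _ hrs ((hmem r).mpr h3)
      simpa using this
    rcases Ideal.IsPrime.mem_or_mem inferInstance h4 with h5 | h5
    · exact hs ((hmem s).mp h5)
    · exact hxp h5
  have hθq : p'.comap θ = q := by
    ext β
    rw [Ideal.mem_comap]
    constructor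
    · intro hβ
      by_contra hβq
      have h1 : ψ (θ β) ∈ maxCpl L := hψmax _ hβ
      have h2 : φ (βY β) ∈ maxCpl L := by
        have := Ideal.sub_mem _ h1 (hJle (hcong β))
        simpa using this
      have h3 : IsUnit (βY β) := IsLocalization.map_units LY (⟨β, hβq⟩ : q.primeCompl)
      have h4 : IsUnit (φ (βY β)) := h3.map φ
      rw [← hmaxeq] at h2
      exact (IsLocalRing.mem_maximalIdeal _).mp h2 h4
    · intro hβ
      apply hψdet
      have h1 : βY β ∈ maximalIdeal LY :=
        (IsLocalization.AtPrime.to_map_mem_maximal_iff LY q β).mpr hβ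
      have h2 := hloc _ h1
      have := Ideal.add_mem _ (hJle (hcong β)) h2
      simpa using this
  exact ⟨A', inferInstance, inferInstance, het, p', hp', θ, hcomap, hres, hθR, hθq, ψ, hψ,
    fun x => ⟨hψdet x, hψmax x⟩, hcong⟩

end Groth.Agent.Helper8.AppS
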