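import Mathlib
import Groth.Agent.Lib.Helper8.AppS8

/-!
# The retraction of the local ring of an étale neighbourhood to the completion
-/

set_option autoImplicit false
universe u

namespace Groth.Agent.Helper8.AppS

open IsLocalRing

set_option maxHeartbeats 800000 in
theorem exists_retraction {A A' B L LY L' : Type u} [CommRing A] [CommRing A'] [CommRing B]
    [CommRing L] [IsLocalRing L] [IsNoetherianRing L] [CommRing LY] [CommRing L'] [IsLocalRing L']
    [Algebra A A'] [Algebra.Etale A A']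
    (p : Ideal A) [p.IsPrime] [Algebra A L] [IsLocalization.AtPrime L p]
    (q : Ideal B) [q.IsPrime] [Algebra B LY] [IsLocalization.AtPrime LY q]
    (p' : Ideal A') [p'.IsPrime] [Algebra A' L'] [IsLocalization.AtPrime L' p']
    (θ : B →+* A') (ψ : A' →+* Cpl L)
    (hcomap : p'.comap (algebraMap A A') = p)
    (hres : ∀ x : A', ∃ r s : A, s ∉ p ∧ algebraMap A A' s * x - algebraMap A A' r ∈ p')
    (hψ : ∀ a : A, ψ (algebraMap A A' a) = algebraMap L (Cpl L) (algebraMap A L a))
    (hψdet : ∀ x : A', ψ x ∈ maxCpl L ↔ x ∈ p')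
    (φ₀ : LY →+* Cpl L) (N₁ : ℕ)
    (hcong : ∀ β : B, ψ (θ β) - φ₀ (algebraMap B LY β) ∈
      (maximalIdeal L ^ N₁).map (algebraMap L (Cpl L)))
    (g : L →+* L') (h : LY →+* L')
    (hg : g.comp (algebraMap A L) = (algebraMap A' L').comp (algebraMap A A'))
    (hh : h.comp (algebraMap B LY) = (algebraMap A' L').comp θ) :
    ∃ ψ' : L' →+* Cpl L, ψ'.comp g = algebraMap L (Cpl L) ∧
      (∀ x : A', ψ' (algebraMap A' L' x) = ψ x) ∧
      (maximalIdeal L).map g = maximalIdeal L' ∧
      (∀ z : L', ∃ l : L, z - g l ∈ maximalIdeal L') ∧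
      (∀ (n : ℕ) (d : L'), ψ' d ∈ (maximalIdeal L ^ n).map (algebraMap L (Cpl L)) →
        d ∈ maximalIdeal L' ^ n) ∧
      ∀ b : LY, ψ' (h b) - φ₀ b ∈ (maximalIdeal L ^ N₁).map (algebraMap L (Cpl L)) := by
  have hmaxeq : maximalIdeal (Cpl L) = maxCpl L := AdicCompletion.maximalIdeal_eq_map
  have hunit : ∀ y : p'.primeCompl, IsUnit (ψ (y : A')) := by
    intro y
    by_contra hy
    have : ψ (y : A') ∈ maximalIdeal (Cpl L) := (IsLocalRing.mem_maximalIdeal _).mpr hy
    rw [hmaxeq] at this
    exact y.2 ((hψdet _).mp this)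
  let ψ' : L' →+* Cpl L := IsLocalization.lift (M := p'.primeCompl) (g := ψ) hunit
  have hψ' : ∀ x : A', ψ' (algebraMap A' L' x) = ψ x := fun x => IsLocalization.lift_eq hunit x
  have hψg : ψ'.comp g = algebraMap L (Cpl L) := by
    refine IsLocalization.ringHom_ext p.primeCompl (RingHom.ext fun x => ?_)
    change ψ' (g (algebraMap A L x)) = algebraMap L (Cpl L) (algebraMap A L x)
    have := RingHom.congr_fun hg x
    simp only [RingHom.comp_apply] at this
    rw [this, hψ', hψ]
  have hunr : (maximalIdeal L).map g = maximalIdeal L' := map_maximalIdeal_eq p p' g hg hcomap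
  have hresL := exists_sub_mem_maximalIdeal p p' g hg hcomap hres
  refine ⟨ψ', hψg, hψ', hunr, hresL, fun n d hd => mem_pow_of_map_mem g hunr hresL ψ' hψg n d hd,
    fun b => ?_⟩
  refine isLocalization_sub_mem q.primeCompl (ψ'.comp h) φ₀ _ (fun β => ?_) b
  change ψ' (h (algebraMap B LY β)) - φ₀ (algebraMap B LY β) ∈ _
  have := RingHom.congr_fun hh β
  simp only [RingHom.comp_apply] at this
  rw [this, hψ']
  exact hcong β

end Groth.Agent.Helper8.AppS
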