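import Mathlib

/-!
# Extending a ring map to a principal localization, and the primes it detects
-/

set_option autoImplicit false
universe u

namespace Groth.Agent.Helper8.AppS

section

variable {A' T : Type*} [CommRing A'] [CommRing T] (ψ : A' →+* T) (t : A') (hu : IsUnit (ψ t))
  (p' : Ideal A') [p'.IsPrime] (P : Ideal T) [P.IsPrime] (ht : t ∉ p')

include ht in
theorem disjoint_powers_of_notMem : Disjoint (Submonoid.powers t : Set A') (p' : Set A') := by
  rw [Set.disjoint_left]
  rintro _ ⟨k, rfl⟩ hk
  exact ht (Ideal.IsPrime.mem_of_pow_mem inferInstance k hk)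

include ht in
theorem isPrime_map_away : (p'.map (algebraMap A' (Localization.Away t))).IsPrime :=
  IsLocalization.isPrime_of_isPrime_disjoint (Submonoid.powers t) _ p' inferInstance
    (disjoint_powers_of_notMem t p' ht)

include ht in
theorem comap_map_away :
    (p'.map (algebraMap A' (Localization.Away t))).comap (algebraMap A' (Localization.Away t)) =
      p' :=
  IsLocalization.under_map_of_isPrime_disjoint (Submonoid.powers t) _ inferInstance
    (disjoint_powers_of_notMem t p' ht)

/-- The extension of `ψ` to `A'[1/t]`. -/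
noncomputable def awayLift : Localization.Away t →+* T := IsLocalization.Away.lift t hu

theorem awayLift_algebraMap (x : A') :
    awayLift ψ t hu (algebraMap A' (Localization.Away t) x) = ψ x :=
  IsLocalization.Away.lift_eq t hu x

include ht in
theorem awayLift_mem_iff (hdet : ∀ x : A', ψ x ∈ P ↔ x ∈ p') (x : Localization.Away t) :
    awayLift ψ t hu x ∈ P ↔ x ∈ p'.map (algebraMap A' (Localization.Away t)) := by
  obtain ⟨x', ⟨_, k, rfl⟩, rfl⟩ := IsLocalization.exists_mk'_eq (Submonoid.powers t) x
  have hspec : awayLift ψ t hu (IsLocalization.mk' (Localization.Away t) x'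
      (⟨t ^ k, k, rfl⟩ : Submonoid.powers t)) * ψ (t ^ k) = ψ x' := by
    rw [← awayLift_algebraMap ψ t hu (t ^ k), ← map_mul, ← awayLift_algebraMap ψ t hu x']
    congr 1
    exact IsLocalization.mk'_spec (Localization.Away t) x' (⟨t ^ k, k, rfl⟩ : Submonoid.powers t)
  have huk : IsUnit (ψ (t ^ k)) := by rw [map_pow]; exact hu.pow k
  have htk : t ^ k ∉ p' := fun hk => ht (Ideal.IsPrime.mem_of_pow_mem inferInstance k hk)
  have h1 : awayLift ψ t hu (IsLocalization.mk' (Localization.Away t) x'
      (⟨t ^ k, k, rfl⟩ : Submonoid.powers t)) ∈ P ↔ ψ x' ∈ P := by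
    rw [← hspec]
    constructor
    · intro h; exact Ideal.mul_mem_right _ _ h
    · intro h
      rcases Ideal.IsPrime.mem_or_mem inferInstance h with h2 | h2
      · exact h2
      · exact absurd (Ideal.eq_top_of_isUnit_mem _ h2 huk) (Ideal.IsPrime.ne_top inferInstance)
  rw [h1, hdet, IsLocalization.mk'_mem_map_algebraMap_iff]
  constructor
  · intro h; exact ⟨1, Submonoid.one_mem _, by simpa using h⟩
  · rintro ⟨c, ⟨j, rfl⟩, hc⟩
    rcases Ideal.IsPrime.mem_or_mem inferInstance hc with h2 | h2
    · exact absurd (Ideal.IsPrime.mem_of_pow_mem inferInstance j h2) ht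
    · exact h2

end

end Groth.Agent.Helper8.AppS
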