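import Mathlib
import Groth.Agent.Lib.Helper8.AppS12
import Groth.Agent.Lib.Helper8.AppS15
import Groth.Agent.Lib.Helper8.AppS16
import Groth.Agent.Lib.Helper8.AppS17

/-!
# The ring-theoretic core of "common étale neighbourhoods of points with isomorphic completions"
-/

set_option autoImplicit false
universe u

namespace Groth.Agent.Helper8.AppS

open IsLocalRing

set_option maxHeartbeats 3200000 in
set_option synthInstance.maxHeartbeats 400000 in
theorem exists_common_etale_nbhd_core
    {R A B LS L LY : Type u} [CommRing R] [IsNoetherianRing R]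
    [CommRing A] [Algebra R A] [Algebra.FiniteType R A]
    [CommRing B] [Algebra R B] [Algebra.FiniteType R B]
    [CommRing LS] [CommRing L] [IsLocalRing L] [CommRing LY] [IsLocalRing LY]
    (p : Ideal A) [p.IsPrime] [Algebra A L] [IsLocalization.AtPrime L p]
    (q : Ideal B) [q.IsPrime] [Algebra B LY] [IsLocalization.AtPrime LY q]
    (ρ : R →+* LS) (σX : LS →+* L) (σY : LS →+* LY)
    (hX : σX.comp ρ = (algebraMap A L).comp (algebraMap R A))
    (hY : σY.comp ρ = (algebraMap B LY).comp (algebraMap R B))
    (hG : CAlg.IsGRing LS)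
    (φ : Cpl LY ≃+* Cpl L)
    (hφ : φ.toRingHom.comp ((algebraMap LY (Cpl LY)).comp σY) = (algebraMap L (Cpl L)).comp σX)
    (N : ℕ) :
    ∃ (A' : Type u) (_ : CommRing A') (_ : Algebra A A'), Algebra.Etale A A' ∧
      ∃ (p' : Ideal A') (_ : p'.IsPrime) (θ : B →+* A'),
        p'.comap (algebraMap A A') = p ∧
        (∀ x : A', ∃ r s : A, s ∉ p ∧ algebraMap A A' s * x - algebraMap A A' r ∈ p') ∧
        θ.comp (algebraMap R B) = (algebraMap A A').comp (algebraMap R A) ∧
        p'.comap θ = q ∧ θ.Etale ∧
        (∀ x : A', ∃ r s : B, s ∉ q ∧ θ s * x - θ r ∈ p') ∧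
        ∀ (L' : Type u) [CommRing L'] [IsLocalRing L'] [Algebra A' L']
          [IsLocalization.AtPrime L' p'] (g : L →+* L') (h : LY →+* L'),
          g.comp (algebraMap A L) = (algebraMap A' L').comp (algebraMap A A') →
          h.comp (algebraMap B LY) = (algebraMap A' L').comp θ →
          ∀ (b : Cpl LY) (cY : LY) (cX : L),
            AdicCompletion.evalₐ (maximalIdeal LY) N b =
              Ideal.Quotient.mk (maximalIdeal LY ^ N) cY →
            AdicCompletion.evalₐ (maximalIdeal L) N (φ b) =
              Ideal.Quotient.mk (maximalIdeal L ^ N) cX →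
            h cY - g cX ∈ maximalIdeal L' ^ N := by
  classical
  haveI : IsNoetherianRing A := Algebra.FiniteType.isNoetherianRing R A
  haveI : IsNoetherianRing B := Algebra.FiniteType.isNoetherianRing R B
  haveI : IsNoetherianRing L := IsLocalization.isNoetherianRing p.primeCompl L inferInstance
  haveI : IsNoetherianRing LY := IsLocalization.isNoetherianRing q.primeCompl LY inferInstance
  have hmaxeq : maximalIdeal (Cpl L) = maxCpl L := AdicCompletion.maximalIdeal_eq_map
  let ιY : LY →+* Cpl LY := algebraMap LY (Cpl LY)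
  let ι : L →+* Cpl L := algebraMap L (Cpl L)
  let φ₀ : LY →+* Cpl L := φ.toRingHom.comp ιY
  have hφ₀ : φ₀.comp σY = (algebraMap L (Cpl L)).comp σX := by
    rw [RingHom.comp_assoc]; exact hφ
  have hloc₀ : ∀ b ∈ maximalIdeal LY, φ₀ b ∈ maxCpl L := by
    intro b hb
    rw [← hmaxeq]
    have := phi_mem_pow φ 1 b (by rwa [pow_one])
    rwa [pow_one] at this
  obtain ⟨A', _, _, het, p', hp', θ, hcomap, hres, hθR, hθq, ψ, hψ, hψdet, hcong⟩ :=
    exists_etale_nbhd_core' p q ρ σX σY hX hY hG φ₀ hφ₀ hloc₀ (N + 2) (by omega)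
  haveI := hp'
  haveI := het
  haveI : IsNoetherianRing A' := Algebra.FiniteType.isNoetherianRing A A'
  -- the local ring at `p'` and the canonical maps
  have hmemA : ∀ a : A, algebraMap A A' a ∈ p' ↔ a ∈ p := fun a => by
    rw [← hcomap, Ideal.mem_comap]
  have hmemB : ∀ β : B, θ β ∈ p' ↔ β ∈ q := fun β => by
    rw [← hθq, Ideal.mem_comap]
  have hug : ∀ y : p.primeCompl, IsUnit (((algebraMap A' (Localization.AtPrime p')).comp
      (algebraMap A A')) y) := fun y =>
    IsLocalization.map_units (Localization.AtPrime p')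
      (⟨algebraMap A A' y, fun hh => y.2 ((hmemA _).mp hh)⟩ : p'.primeCompl)
  have huh : ∀ y : q.primeCompl, IsUnit (((algebraMap A' (Localization.AtPrime p')).comp θ) y) :=
    fun y => IsLocalization.map_units (Localization.AtPrime p')
      (⟨θ y, fun hh => y.2 ((hmemB _).mp hh)⟩ : p'.primeCompl)
  let g₀ : L →+* Localization.AtPrime p' := IsLocalization.lift (M := p.primeCompl) hug
  let h₀ : LY →+* Localization.AtPrime p' := IsLocalization.lift (M := q.primeCompl) huh
  have hg₀ : g₀.comp (algebraMap A L) =
      (algebraMap A' (Localization.AtPrime p')).comp (algebraMap A A') :=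
    IsLocalization.lift_comp hug
  have hh₀ : h₀.comp (algebraMap B LY) = (algebraMap A' (Localization.AtPrime p')).comp θ :=
    IsLocalization.lift_comp huh
  obtain ⟨ψ', hψg, hψ', hunr, hresL, hK, hcongL⟩ :=
    exists_retraction p q p' θ ψ hcomap hres hψ hψdet φ₀ (N + 2) hcong g₀ h₀ hg₀ hh₀
  haveI : IsNoetherianRing (Localization.AtPrime p') :=
    IsLocalization.isNoetherianRing p'.primeCompl _ inferInstance
  have hcong2 : ∀ b : LY, ψ' (h₀ b) - φ (algebraMap LY (Cpl LY) b) ∈ maximalIdeal (Cpl L) ^ 2 := by
    intro b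
    rw [maximalIdeal_cpl_pow]
    exact Ideal.map_mono (Ideal.pow_le_pow_right (by omega)) (hcongL b)
  have hflat : h₀.Flat := flat_of_cong g₀ h₀ ψ' hψg hunr hresL φ hcong2
  have hunrY : (maximalIdeal LY).map h₀ = maximalIdeal (Localization.AtPrime p') :=
    map_maximalIdeal_of_cong g₀ h₀ ψ' hψg hunr hresL φ hcong2
  have hresY : ∀ z : Localization.AtPrime p', ∃ b : LY, z - h₀ b ∈ maximalIdeal _ :=
    exists_sub_mem_of_cong g₀ h₀ ψ' hψg hunr hresL φ hcong2
  -- étale at `p'`
  letI algBA' : Algebra B A' := θ.toAlgebra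
  letI algRA' : Algebra R A' := ((algebraMap A A').comp (algebraMap R A)).toAlgebra
  haveI towRAA' : IsScalarTower R A A' := IsScalarTower.of_algebraMap_eq (fun _ => rfl)
  haveI towRBA' : IsScalarTower R B A' := IsScalarTower.of_algebraMap_eq (fun r =>
    (RingHom.congr_fun hθR r).symm)
  haveI : Algebra.FiniteType R A' := Algebra.FiniteType.trans (inferInstance : Algebra.FiniteType R A)
    (inferInstance : Algebra.FiniteType A A')
  haveI : Algebra.FiniteType B A' := Algebra.FiniteType.of_restrictScalars_finiteType R B A'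
  haveI : Algebra.FinitePresentation B A' := Algebra.FinitePresentation.of_finiteType.mp inferInstance
  letI algLYL' : Algebra LY (Localization.AtPrime p') := h₀.toAlgebra
  haveI : IsScalarTower B LY (Localization.AtPrime p') := IsScalarTower.of_algebraMap_eq (fun β => by
    rw [IsScalarTower.algebraMap_apply B A' (Localization.AtPrime p')]
    exact (RingHom.congr_fun hh₀ β).symm)
  haveI : Module.Flat LY (Localization.AtPrime p') := hflat
  obtain ⟨t, ht, hett⟩ := exists_etale_away (B := B) (A' := A') (LY := LY) q p' hunrY hresY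
  -- shrink
  have hψt : IsUnit (ψ t) := by
    by_contra hy
    have : ψ t ∈ maximalIdeal (Cpl L) := (IsLocalRing.mem_maximalIdeal _).mpr hy
    rw [hmaxeq] at this
    exact ht ((hψdet _).mp this)
  haveI hp'' : (p'.map (algebraMap A' (Localization.Away t))).IsPrime := isPrime_map_away t p' ht
  have hcomap'' := comap_map_away t p' ht
  haveI : Algebra.Etale A' (Localization.Away t) := Algebra.Etale.of_isLocalizationAway t
  haveI hetA'' : Algebra.Etale A (Localization.Away t) := Algebra.Etale.comp A A' (Localization.Away t)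
  have hresB : ∀ x : A', ∃ r s : B, s ∉ q ∧ θ s * x - θ r ∈ p' :=
    hres_of_local θ q p' h₀ hh₀ hresY
  haveI : (maximalIdeal (Cpl L)).IsPrime := Ideal.IsMaximal.isPrime' _
  have hψdet' : ∀ x : A', ψ x ∈ maximalIdeal (Cpl L) ↔ x ∈ p' := by
    intro x; rw [hmaxeq]; exact hψdet x
  refine ⟨Localization.Away t, inferInstance, inferInstance, hetA'',
    p'.map (algebraMap A' (Localization.Away t)), hp'',
    (algebraMap A' (Localization.Away t)).comp θ, ?_, ?_, ?_, ?_, ?_, ?_, ?_⟩
  · rw [IsScalarTower.algebraMap_eq A A' (Localization.Away t), ← Ideal.comap_comap, hcomap'',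
      hcomap]
  · intro x
    obtain ⟨r, s, hs, hrs⟩ := hres_away (algebraMap A A') p p' hcomap hres t ht x
    refine ⟨r, s, hs, ?_⟩
    rw [IsScalarTower.algebraMap_apply A A' (Localization.Away t),
      IsScalarTower.algebraMap_apply A A' (Localization.Away t)]
    exact hrs
  · rw [RingHom.comp_assoc, hθR, ← RingHom.comp_assoc,
      ← IsScalarTower.algebraMap_eq A A' (Localization.Away t)]
  · rw [← Ideal.comap_comap, hcomap'', hθq]
  · have h1 : (algebraMap B (Localization.Away t)).Etale := RingHom.etale_algebraMap.mpr hett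
    rw [IsScalarTower.algebraMap_eq B A' (Localization.Away t)] at h1
    exact h1
  · intro x
    exact hres_away θ q p' hθq hresB t ht x
  · intro L' _ _ _ _ g h hg hh b cY cX hbY hbX
    have hψ'' : ∀ a : A, awayLift ψ t hψt (algebraMap A (Localization.Away t) a) =
        algebraMap L (Cpl L) (algebraMap A L a) := by
      intro a
      rw [IsScalarTower.algebraMap_apply A A' (Localization.Away t), awayLift_algebraMap, hψ]
    have hψdet'' : ∀ x : Localization.Away t, awayLift ψ t hψt x ∈ maxCpl L ↔
        x ∈ p'.map (algebraMap A' (Localization.Away t)) := by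
      intro x
      rw [← hmaxeq]
      exact awayLift_mem_iff ψ t hψt p' (maximalIdeal (Cpl L)) ht hψdet' x
    have hcong'' : ∀ β : B, awayLift ψ t hψt (((algebraMap A' (Localization.Away t)).comp θ) β) -
        φ₀ (algebraMap B LY β) ∈ (maximalIdeal L ^ (N + 2)).map (algebraMap L (Cpl L)) := by
      intro β
      rw [RingHom.comp_apply, awayLift_algebraMap]
      exact hcong β
    have hcomapA'' : (p'.map (algebraMap A' (Localization.Away t))).comap
        (algebraMap A (Localization.Away t)) = p := by
      rw [IsScalarTower.algebraMap_eq A A' (Localization.Away t), ← Ideal.comap_comap, hcomap'',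
        hcomap]
    have hresA'' : ∀ x : Localization.Away t, ∃ r s : A, s ∉ p ∧
        algebraMap A (Localization.Away t) s * x - algebraMap A (Localization.Away t) r ∈
          p'.map (algebraMap A' (Localization.Away t)) := by
      intro x
      obtain ⟨r, s, hs, hrs⟩ := hres_away (algebraMap A A') p p' hcomap hres t ht x
      refine ⟨r, s, hs, ?_⟩
      rw [IsScalarTower.algebraMap_apply A A' (Localization.Away t),
        IsScalarTower.algebraMap_apply A A' (Localization.Away t)]
      exact hrs
    obtain ⟨ψL, hψgL, -, -, -, hKL, hcongLL⟩ :=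
      exists_retraction (A' := Localization.Away t) p q
        (p'.map (algebraMap A' (Localization.Away t)))
        ((algebraMap A' (Localization.Away t)).comp θ) (awayLift ψ t hψt) hcomapA'' hresA'' hψ''
        hψdet'' φ₀ (N + 2) hcong'' g h hg hh
    apply hKL N
    -- `φ₀ cY - ι cX ∈ J_N`
    have hfgY : (maximalIdeal LY).FG := IsNoetherian.noetherian _
    have hfgX : (maximalIdeal L).FG := IsNoetherian.noetherian _
    have hb1 : b - ιY cY ∈ (maximalIdeal LY ^ N).map ιY := by
      apply Groth.Agent.Helper8.AdicFS.ker_evalₐ_le_map_pow (maximalIdeal LY) hfgY N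
      rw [RingHom.mem_ker, map_sub, hbY]
      change _ - AdicCompletion.evalₐ (maximalIdeal LY) N (algebraMap LY _ cY) = 0
      rw [AlgHom.commutes, sub_eq_zero]
      rfl
    have hb2 : φ b - ι cX ∈ (maximalIdeal L ^ N).map ι := by
      apply Groth.Agent.Helper8.AdicFS.ker_evalₐ_le_map_pow (maximalIdeal L) hfgX N
      rw [RingHom.mem_ker, map_sub, hbX]
      change _ - AdicCompletion.evalₐ (maximalIdeal L) N (algebraMap L _ cX) = 0
      rw [AlgHom.commutes, sub_eq_zero]
      rfl
    have hb3 : φ (b - ιY cY) ∈ (maximalIdeal L ^ N).map ι := by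
      rw [← maximalIdeal_cpl_pow, ← map_phi_pow φ N]
      refine Ideal.mem_map_of_mem _ ?_
      rw [maximalIdeal_cpl_pow]
      exact hb1
    have h1 : ψL (g cX) = ι cX := RingHom.congr_fun hψgL cX
    have h2 : ψL (h cY) - φ₀ cY ∈ (maximalIdeal L ^ N).map ι :=
      Ideal.map_mono (Ideal.pow_le_pow_right (by omega)) (hcongLL cY)
    have e : ψL (h cY - g cX) = (ψL (h cY) - φ₀ cY) - φ (b - ιY cY) + (φ b - ι cX) := by
      rw [map_sub, h1, map_sub]
      change _ = ψL (h cY) - φ (ιY cY) - (φ b - φ (ιY cY)) + (φ b - ι cX)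
      ring
    rw [e]
    exact Ideal.add_mem _ (Ideal.sub_mem _ h2 hb3) hb2

end Groth.Agent.Helper8.AppS
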