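import Mathlib

/-!
# Morphisms from an affine scheme into an affine open: points, sections and stalks
-/

set_option autoImplicit false
universe u

open AlgebraicGeometry CategoryTheory Limits TopologicalSpace Opposite

namespace Groth.Agent.Helper8.AppS

/-- The canonical map from a ring to a stalk of its spectrum. -/
noncomputable def toStalkSpec (R' : CommRingCat.{u}) (u : PrimeSpectrum R') :
    R' ⟶ (Spec R').presheaf.stalk u :=
  (Scheme.ΓSpecIso R').inv ≫ (Spec R').presheaf.germ ⊤ u trivial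

theorem isLocalization_toStalkSpec (R' : CommRingCat.{u}) (u : PrimeSpectrum R') :
    @IsLocalization.AtPrime R' _ ((Spec R').presheaf.stalk u) _
      (toStalkSpec R' u).hom.toAlgebra u.asIdeal _ := by
  let _ : Algebra R' ((Spec R').presheaf.stalk u) := (toStalkSpec R' u).hom.toAlgebra
  let e₀ : Localization.AtPrime u.asIdeal ≃+* (Spec R').presheaf.stalk u :=
    (Spec.stalkIso R' u).symm.commRingCatIsoToRingEquiv
  let e : Localization.AtPrime u.asIdeal ≃ₐ[R'] (Spec R').presheaf.stalk u :=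
    AlgEquiv.ofRingEquiv (f := e₀) (fun r => by
      have := Spec.algebraMap_stalkIso_inv (R := R') u
      have h2 := congrArg (fun f => f.hom r) this
      exact h2)
  exact IsLocalization.isLocalization_of_algEquiv u.asIdeal.primeCompl e

variable {X : Scheme.{u}} {V : X.Opens} (hV : IsAffineOpen V) {R' : CommRingCat.{u}}
  (α : Γ(X, V) ⟶ R')

theorem specHom_le : (⊤ : (Spec R').Opens) ≤ (Spec.map α ≫ hV.fromSpec) ⁻¹ᵁ V := by
  intro u _
  have : hV.fromSpec (Spec.map α u) ∈ Set.range hV.fromSpec := ⟨_, rfl⟩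
  rw [hV.range_fromSpec] at this
  exact this

theorem specHom_appLE :
    (Spec.map α ≫ hV.fromSpec).appLE V ⊤ (specHom_le hV α) = α ≫ (Scheme.ΓSpecIso R').inv := by
  apply Spec.map_injective
  rw [← cancel_mono hV.fromSpec, IsAffineOpen.SpecMap_appLE_fromSpec _ hV (isAffineOpen_top _),
    IsAffineOpen.fromSpec_top, Scheme.isoSpec_Spec_inv, Spec.map_comp, Category.assoc]

theorem specHom_apply (u : PrimeSpectrum R') (x : X) (hxV : x ∈ V)
    (h : u.asIdeal.comap α.hom = (hV.primeIdealOf ⟨x, hxV⟩).asIdeal) :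
    (Spec.map α ≫ hV.fromSpec) u = x := by
  have h1 : Spec.map α u = hV.primeIdealOf ⟨x, hxV⟩ := PrimeSpectrum.ext h
  change hV.fromSpec (Spec.map α u) = x
  rw [h1]
  exact hV.fromSpec_primeIdealOf ⟨x, hxV⟩

theorem germ_specHom_stalkMap (u : PrimeSpectrum R') (x : X) (hxV : x ∈ V)
    (heu : (Spec.map α ≫ hV.fromSpec) u = x) :
    X.presheaf.germ V x hxV ≫ (X.presheaf.stalkCongr (Inseparable.of_eq heu)).inv ≫
      (Spec.map α ≫ hV.fromSpec).stalkMap u = α ≫ toStalkSpec R' u := by
  subst heu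
  have h1 : X.presheaf.germ V _ hxV ≫ (X.presheaf.stalkCongr (Inseparable.of_eq rfl)).inv =
      X.presheaf.germ V _ hxV := by
    rw [TopCat.Presheaf.stalkCongr_inv]
    exact TopCat.Presheaf.germ_stalkSpecializes _ _ _
  rw [← Category.assoc, h1]
  have h2 := Scheme.Hom.germ_stalkMap (Spec.map α ≫ hV.fromSpec) V u hxV
  refine h2.trans ?_
  unfold toStalkSpec
  rw [← Category.assoc, ← specHom_appLE hV α, Scheme.Hom.appLE, Category.assoc]
  congr 1
  exact (TopCat.Presheaf.germ_res _ _ _ _).symm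

/-- Compatibility of a morphism with the sections over affine opens and the stalk maps. -/
theorem germ_stalkMap_appLE {X S : Scheme.{u}} (p : X ⟶ S) {S₀ : S.Opens} {V : X.Opens}
    (hVS : V ≤ p ⁻¹ᵁ S₀) (x : X) (hxV : x ∈ V) :
    S.presheaf.germ S₀ (p x) (hVS hxV) ≫ p.stalkMap x =
      p.appLE S₀ V hVS ≫ X.presheaf.germ V x hxV := by
  rw [Scheme.Hom.germ_stalkMap, Scheme.Hom.appLE, Category.assoc, TopCat.Presheaf.germ_res]

end Groth.Agent.Helper8.AppS
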