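import Mathlib
import Groth.Agent.Lib.Helper8.AppS18
import Groth.Agent.Lib.Helper8.AppS6

/-!
# Common étale neighbourhoods of points with isomorphic completions (scheme version)
-/

set_option autoImplicit false
universe u

open AlgebraicGeometry CategoryTheory Limits TopologicalSpace Opposite IsLocalRing

namespace Groth.Agent.Helper8.AppS

set_option maxHeartbeats 1600000 in
set_option synthInstance.maxHeartbeats 200000 in
theorem exists_common_etale_nbhd_scheme {X Y S : Scheme.{u}} [IsLocallyNoetherian S]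
    (p : X ⟶ S) (q : Y ⟶ S) [LocallyOfFiniteType p] [LocallyOfFiniteType q] (x : X) (y : Y) (hxy : p x = q y)
    (hG : CAlg.IsGRing ↑(S.presheaf.stalk (p x)))
    (φ : (AdicCompletion (IsLocalRing.maximalIdeal ↑(Y.presheaf.stalk y)) ↑(Y.presheaf.stalk y)) ≃+* (AdicCompletion (IsLocalRing.maximalIdeal ↑(X.presheaf.stalk x)) ↑(X.presheaf.stalk x)))
    (hφ : φ.toRingHom.comp ((algebraMap ↑(Y.presheaf.stalk y) (AdicCompletion (IsLocalRing.maximalIdeal ↑(Y.presheaf.stalk y)) ↑(Y.presheaf.stalk y))).comp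
        ((q.stalkMap y).hom.comp (S.presheaf.stalkCongr (Inseparable.of_eq hxy)).hom.hom)) =
      (algebraMap ↑(X.presheaf.stalk x) (AdicCompletion (IsLocalRing.maximalIdeal ↑(X.presheaf.stalk x)) ↑(X.presheaf.stalk x))).comp (p.stalkMap x).hom)
    (N : ℕ) :
    ∃ (U : Scheme.{u}) (u : U) (e : U ⟶ X) (heu : e u = x) (f : U ⟶ Y) (hfu : f u = y),
      Etale e ∧ Function.Bijective (e.residueFieldMap u) ∧ Etale f ∧ Function.Bijective (f.residueFieldMap u) ∧
      f ≫ q = e ≫ p ∧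
      ∀ (b : (AdicCompletion (IsLocalRing.maximalIdeal ↑(Y.presheaf.stalk y)) ↑(Y.presheaf.stalk y))) (cY : ↑(Y.presheaf.stalk y)) (cX : ↑(X.presheaf.stalk x)),
        AdicCompletion.evalₐ (IsLocalRing.maximalIdeal ↑(Y.presheaf.stalk y)) N b =
          Ideal.Quotient.mk (IsLocalRing.maximalIdeal ↑(Y.presheaf.stalk y) ^ N) cY →
        AdicCompletion.evalₐ (IsLocalRing.maximalIdeal ↑(X.presheaf.stalk x)) N (φ b) =
          Ideal.Quotient.mk (IsLocalRing.maximalIdeal ↑(X.presheaf.stalk x) ^ N) cX →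
        Ideal.Quotient.mk (IsLocalRing.maximalIdeal ↑(U.presheaf.stalk u) ^ N)
            ((f.stalkMap u).hom ((Y.presheaf.stalkCongr (Inseparable.of_eq hfu)).inv.hom cY)) =
          Ideal.Quotient.mk (IsLocalRing.maximalIdeal ↑(U.presheaf.stalk u) ^ N)
            ((e.stalkMap u).hom ((X.presheaf.stalkCongr (Inseparable.of_eq heu)).inv.hom cX)) := by
  classical
  -- affine opens
  obtain ⟨S₀, hS₀, hsS₀, -⟩ := exists_isAffineOpen_mem_and_subset (x := p x) (U := ⊤) trivial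
  obtain ⟨V, hV, hxV, hVS⟩ := exists_isAffineOpen_mem_and_subset (x := x) (U := p ⁻¹ᵁ S₀) hsS₀
  have hyS₀ : q y ∈ S₀ := hxy ▸ hsS₀
  obtain ⟨W, hW, hyW, hWS⟩ := exists_isAffineOpen_mem_and_subset (x := y) (U := q ⁻¹ᵁ S₀) hyS₀
  haveI : IsNoetherianRing Γ(S, S₀) := IsLocallyNoetherian.component_noetherian ⟨S₀, hS₀⟩
  letI algRA : Algebra Γ(S, S₀) Γ(X, V) := (p.appLE S₀ V hVS).hom.toAlgebra
  letI algRB : Algebra Γ(S, S₀) Γ(Y, W) := (q.appLE S₀ W hWS).hom.toAlgebra
  haveI : Algebra.FiniteType Γ(S, S₀) Γ(X, V) := p.finiteType_appLE hS₀ hV hVS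
  haveI : Algebra.FiniteType Γ(S, S₀) Γ(Y, W) := q.finiteType_appLE hS₀ hW hWS
  letI algAL : Algebra Γ(X, V) (X.presheaf.stalk x) := (X.presheaf.germ V x hxV).hom.toAlgebra
  haveI : IsLocalization.AtPrime (X.presheaf.stalk x) (hV.primeIdealOf ⟨x, hxV⟩).asIdeal :=
    hV.isLocalization_stalk ⟨x, hxV⟩
  letI algBL : Algebra Γ(Y, W) (Y.presheaf.stalk y) := (Y.presheaf.germ W y hyW).hom.toAlgebra
  haveI : IsLocalization.AtPrime (Y.presheaf.stalk y) (hW.primeIdealOf ⟨y, hyW⟩).asIdeal :=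
    hW.isLocalization_stalk ⟨y, hyW⟩
  let ρ : Γ(S, S₀) →+* S.presheaf.stalk (p x) := (S.presheaf.germ S₀ (p x) hsS₀).hom
  have hX : (p.stalkMap x).hom.comp ρ =
      (algebraMap Γ(X, V) (X.presheaf.stalk x)).comp (algebraMap Γ(S, S₀) Γ(X, V)) := by
    have := germ_stalkMap_appLE p hVS x hxV
    exact congrArg CommRingCat.Hom.hom this
  have hY : ((q.stalkMap y).hom.comp (S.presheaf.stalkCongr (Inseparable.of_eq hxy)).hom.hom).comp ρ =
      (algebraMap Γ(Y, W) (Y.presheaf.stalk y)).comp (algebraMap Γ(S, S₀) Γ(Y, W)) := by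
    have h1 := germ_stalkMap_appLE q hWS y hyW
    have h2 : S.presheaf.germ S₀ (p x) hsS₀ ≫ (S.presheaf.stalkCongr (Inseparable.of_eq hxy)).hom =
        S.presheaf.germ S₀ (q y) hyS₀ := by
      rw [TopCat.Presheaf.stalkCongr_hom]
      exact TopCat.Presheaf.germ_stalkSpecializes _ _ _
    have h3 : S.presheaf.germ S₀ (p x) hsS₀ ≫ (S.presheaf.stalkCongr (Inseparable.of_eq hxy)).hom ≫
        q.stalkMap y = q.appLE S₀ W hWS ≫ Y.presheaf.germ W y hyW := by
      rw [← Category.assoc, h2, h1]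
    exact congrArg CommRingCat.Hom.hom h3
  obtain ⟨A', _, _, het, p', hp', θ, hcomap, hres, hθR, hθq, hetθ, hresB, H⟩ :=
    exists_common_etale_nbhd_core (R := Γ(S, S₀)) (A := Γ(X, V)) (B := Γ(Y, W))
      (LS := S.presheaf.stalk (p x)) (L := X.presheaf.stalk x) (LY := Y.presheaf.stalk y)
      (hV.primeIdealOf ⟨x, hxV⟩).asIdeal (hW.primeIdealOf ⟨y, hyW⟩).asIdeal ρ
      (p.stalkMap x).hom
      ((q.stalkMap y).hom.comp (S.presheaf.stalkCongr (Inseparable.of_eq hxy)).hom.hom)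
      hX hY hG φ hφ N
  haveI := hp'
  haveI := het
  let R' : CommRingCat.{u} := CommRingCat.of A'
  let α : Γ(X, V) ⟶ R' := CommRingCat.ofHom (algebraMap Γ(X, V) A')
  let Θ : Γ(Y, W) ⟶ R' := CommRingCat.ofHom θ
  let u : ↥(Spec R') := (⟨p', hp'⟩ : PrimeSpectrum ↑R')
  have heu : (Spec.map α ≫ hV.fromSpec) u = x := specHom_apply hV α u x hxV hcomap
  have hfu : (Spec.map Θ ≫ hW.fromSpec) u = y := specHom_apply hW Θ u y hyW hθq
  -- the local ring of `U` at `u`
  letI algL' : Algebra A' ((Spec R').presheaf.stalk u) := (toStalkSpec R' u).hom.toAlgebra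
  haveI locL' : IsLocalization.AtPrime ((Spec R').presheaf.stalk u) p' :=
    isLocalization_toStalkSpec R' u
  let g : X.presheaf.stalk x →+* (Spec R').presheaf.stalk u :=
    ((Spec.map α ≫ hV.fromSpec).stalkMap u).hom.comp
      (X.presheaf.stalkCongr (Inseparable.of_eq heu)).inv.hom
  let h : Y.presheaf.stalk y →+* (Spec R').presheaf.stalk u :=
    ((Spec.map Θ ≫ hW.fromSpec).stalkMap u).hom.comp
      (Y.presheaf.stalkCongr (Inseparable.of_eq hfu)).inv.hom
  have hg : g.comp (algebraMap Γ(X, V) (X.presheaf.stalk x)) =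
      (algebraMap A' ((Spec R').presheaf.stalk u)).comp (algebraMap Γ(X, V) A') :=
    congrArg CommRingCat.Hom.hom (germ_specHom_stalkMap hV α u x hxV heu)
  have hh : h.comp (algebraMap Γ(Y, W) (Y.presheaf.stalk y)) =
      (algebraMap A' ((Spec R').presheaf.stalk u)).comp θ :=
    congrArg CommRingCat.Hom.hom (germ_specHom_stalkMap hW Θ u y hyW hfu)
  refine ⟨Spec R', u, Spec.map α ≫ hV.fromSpec, heu, Spec.map Θ ≫ hW.fromSpec, hfu, ?_, ?_, ?_, ?_, ?_, ?_⟩
  · haveI : Etale (Spec.map α) :=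
      (HasRingHomProperty.Spec_iff (P := @Etale)).mpr (RingHom.etale_algebraMap.mpr het)
    infer_instance
  · constructor
    · exact ((Spec.map α ≫ hV.fromSpec).residueFieldMap u).hom.injective
    · intro zbar
      obtain ⟨z, rfl⟩ := IsLocalRing.residue_surjective zbar
      obtain ⟨l, hl⟩ := exists_sub_mem_maximalIdeal (hV.primeIdealOf ⟨x, hxV⟩).asIdeal p' g hg
        hcomap hres z
      refine ⟨IsLocalRing.residue _ ((X.presheaf.stalkCongr (Inseparable.of_eq heu)).inv.hom l), ?_⟩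
      change IsLocalRing.ResidueField.map ((Spec.map α ≫ hV.fromSpec).stalkMap u).hom
        (IsLocalRing.residue _ _) = _
      rw [IsLocalRing.ResidueField.map_residue]
      symm
      rw [← sub_eq_zero, ← map_sub, IsLocalRing.residue_eq_zero_iff]
      exact hl
  · haveI : Etale (Spec.map Θ) :=
      (HasRingHomProperty.Spec_iff (P := @Etale)).mpr hetθ
    infer_instance
  · constructor
    · exact ((Spec.map Θ ≫ hW.fromSpec).residueFieldMap u).hom.injective
    · intro zbar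
      obtain ⟨z, rfl⟩ := IsLocalRing.residue_surjective zbar
      letI algBA' : Algebra Γ(Y, W) A' := θ.toAlgebra
      obtain ⟨l, hl⟩ := exists_sub_mem_maximalIdeal (A := Γ(Y, W)) (A' := A')
        (hW.primeIdealOf ⟨y, hyW⟩).asIdeal p' h hh hθq hresB z
      refine ⟨IsLocalRing.residue _ ((Y.presheaf.stalkCongr (Inseparable.of_eq hfu)).inv.hom l), ?_⟩
      change IsLocalRing.ResidueField.map ((Spec.map Θ ≫ hW.fromSpec).stalkMap u).hom
        (IsLocalRing.residue _ _) = _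
      rw [IsLocalRing.ResidueField.map_residue]
      symm
      rw [← sub_eq_zero, ← map_sub, IsLocalRing.residue_eq_zero_iff]
      exact hl
  · have h1 : q.appLE S₀ W hWS ≫ Θ = p.appLE S₀ V hVS ≫ α := by
      ext r
      exact RingHom.congr_fun hθR r
    rw [Category.assoc, Category.assoc, ← IsAffineOpen.SpecMap_appLE_fromSpec q hS₀ hW hWS,
      ← IsAffineOpen.SpecMap_appLE_fromSpec p hS₀ hV hVS, ← Category.assoc, ← Category.assoc,
      ← Spec.map_comp, ← Spec.map_comp, h1]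
  · intro b cY cX hbY hbX
    rw [Ideal.Quotient.eq]
    exact H ((Spec R').presheaf.stalk u) g h hg hh b cY cX hbY hbX

end Groth.Agent.Helper8.AppS
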