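import Mathlib
import Groth.Agent.Lib.Helper8.AppS5
import Groth.Agent.Lib.Helper8.AppB2

/-!
# A finite type refinement controlling maps to the completion (ring-theoretic core)
-/

set_option autoImplicit false
universe u

namespace Groth.Agent.Helper8.AppT

open IsLocalRing Groth.Agent.Helper8.AppS

set_option maxHeartbeats 1600000 in
set_option synthInstance.maxHeartbeats 200000 in
theorem exists_refinement_core
    {R C LS LT : Type u} [CommRing R] [IsNoetherianRing R]
    [CommRing C] [Algebra R C] [Algebra.FiniteType R C]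
    [CommRing LS] [IsLocalRing LS] [CommRing LT] [IsLocalRing LT]
    (r : Ideal R) [r.IsPrime] [Algebra R LS] [IsLocalization.AtPrime LS r]
    (pt : Ideal C) [pt.IsPrime] [Algebra C LT] [IsLocalization.AtPrime LT pt]
    (η : LS →+* LT)
    (hη : η.comp (algebraMap R LS) = (algebraMap C LT).comp (algebraMap R C))
    (σ : LT →+* Cpl LS) (hσ : σ.comp η = algebraMap LS (Cpl LS))
    (hloc : ∀ a ∈ maximalIdeal LT, σ a ∈ maxCpl LS) (N : ℕ) :
    ∃ (C' : Type u) (_ : CommRing C') (_ : Algebra C C'), Algebra.FiniteType C C' ∧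
      ∃ (t' : Ideal C') (_ : t'.IsPrime) (τ₀ : C' →+* Cpl LS),
        t'.comap (algebraMap C C') = pt ∧
        (∀ c : C, τ₀ (algebraMap C C' c) = σ (algebraMap C LT c)) ∧
        (∀ x : C', x ∉ t' → IsUnit (τ₀ x)) ∧
        ∀ (σ' : LT →+* Cpl LS), σ'.comp η = algebraMap LS (Cpl LS) →
          ∀ (τ₀' : C' →+* Cpl LS), (∀ c : C, τ₀' (algebraMap C C' c) = σ' (algebraMap C LT c)) →
          ∀ a : LT, σ a - σ' a ∈ (maximalIdeal LS ^ N).map (algebraMap LS (Cpl LS)) := by
  classical
  haveI : IsNoetherianRing LS := IsLocalization.isNoetherianRing r.primeCompl LS inferInstance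
  have hmaxeq : maximalIdeal (Cpl LS) = maxCpl LS := AdicCompletion.maximalIdeal_eq_map
  have hfg : (maximalIdeal LS).FG := IsNoetherian.noetherian _
  let ι : LS →+* Cpl LS := algebraMap LS (Cpl LS)
  let αR : R →+* LS := algebraMap R LS
  let αC : C →+* LT := algebraMap C LT
  let J : Ideal (Cpl LS) := (maximalIdeal LS ^ N).map ι
  -- generators
  obtain ⟨n, f, hf⟩ := Algebra.FiniteType.iff_quotient_mvPolynomial''.mp
    (inferInstance : Algebra.FiniteType R C)
  obtain ⟨k, m, hm⟩ := Submodule.fg_iff_exists_fin_generating_family.mp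
    (IsNoetherian.noetherian (r ^ N))
  have hmJ : ∀ j, ι (αR (m j)) ∈ J := by
    intro j
    refine Ideal.mem_map_of_mem _ ?_
    rw [← IsLocalization.AtPrime.map_eq_maximalIdeal r LS, ← Ideal.map_pow]
    refine Ideal.mem_map_of_mem _ ?_
    rw [← hm]
    exact Submodule.subset_span ⟨j, rfl⟩
  have hJspan : J = Ideal.span (Set.range fun j => ι (αR (m j))) := by
    have hmN : maximalIdeal LS ^ N = (r ^ N).map αR := by
      rw [Ideal.map_pow, IsLocalization.AtPrime.map_eq_maximalIdeal r LS]
    have h1 : J = ((r ^ N).map αR).map ι := congrArg (Ideal.map ι) hmN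
    rw [h1, Ideal.map_map, ← show Ideal.span (Set.range m) = r ^ N from hm, Ideal.map_span,
      ← Set.range_comp]
    rfl
  -- compatibility on `R`
  have hR : ∀ x : R, σ (αC (algebraMap R C x)) = ι (αR x) := by
    intro x
    have h1 := RingHom.congr_fun hη x
    simp only [RingHom.comp_apply] at h1
    change σ ((algebraMap C LT) (algebraMap R C x)) = _
    rw [← h1]
    exact RingHom.congr_fun hσ _
  -- decomposition of the images of the generators
  let z : Fin n → C := fun i => f (MvPolynomial.X i)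
  have hdec : ∀ i, ∃ (ri : R) (ui : R) (_ : ui ∉ r) (w : Fin k → Cpl LS),
      ι (αR ui) * σ (αC (z i)) = ι (αR ri) + ∑ j, ι (αR (m j)) * w j := by
    intro i
    obtain ⟨a, ha⟩ := Groth.Agent.Helper8.AppB.exists_sub_mem_map_pow (maximalIdeal LS) hfg
      (σ (αC (z i))) N
    change _ ∈ J at ha
    rw [hJspan, Ideal.mem_span_range_iff_exists_fun] at ha
    obtain ⟨c, hc⟩ := ha
    obtain ⟨ri, ui, rfl⟩ := IsLocalization.exists_mk'_eq r.primeCompl a
    refine ⟨ri, ui, ui.2, fun j => ι (αR ui) * c j, ?_⟩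
    have h1 : σ (αC (z i)) = ι (IsLocalization.mk' LS ri ui) + ∑ j, c j * ι (αR (m j)) := by
      rw [hc]; ring
    rw [h1, mul_add, ← map_mul, mul_comm (αR ui), IsLocalization.mk'_spec, Finset.mul_sum]
    congr 1
    refine Finset.sum_congr rfl fun j _ => ?_
    ring
  choose ri ui hui w hw using hdec
  -- the algebra `C'`
  let rel : Fin n → MvPolynomial (Fin n × Fin k) C := fun i =>
    MvPolynomial.C (algebraMap R C (ui i) * z i - algebraMap R C (ri i)) -
      ∑ j, MvPolynomial.C (algebraMap R C (m j)) * MvPolynomial.X (i, j)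
  let K : Ideal (MvPolynomial (Fin n × Fin k) C) := Ideal.span (Set.range rel)
  let ev : MvPolynomial (Fin n × Fin k) C →+* Cpl LS :=
    MvPolynomial.eval₂Hom (σ.comp αC) (fun ij => w ij.1 ij.2)
  have hev : ∀ x ∈ K, ev x = 0 := by
    intro x hx
    have hK : K ≤ RingHom.ker ev := by
      rw [Ideal.span_le]
      rintro _ ⟨i, rfl⟩
      change ev (rel i) = 0
      simp only [rel, ev, map_sub, map_sum, map_mul, MvPolynomial.eval₂Hom_C,
        MvPolynomial.eval₂Hom_X', RingHom.comp_apply]
      change σ (αC (algebraMap R C (ui i))) * σ (αC (z i)) - σ (αC (algebraMap R C (ri i))) -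
        ∑ j, σ (αC (algebraMap R C (m j))) * w i j = 0
      rw [hR, hR, hw i]
      simp only [hR]
      ring
    exact hK hx
  let τ₀ : MvPolynomial (Fin n × Fin k) C ⧸ K →+* Cpl LS := Ideal.Quotient.lift K ev hev
  have hτ₀ : ∀ c : C, τ₀ (algebraMap C _ c) = σ (αC c) := by
    intro c
    change τ₀ (Ideal.Quotient.mk K (MvPolynomial.C c)) = _
    rw [Ideal.Quotient.lift_mk]
    simp [ev]
  haveI hmaxP : (maxCpl LS).IsPrime := by rw [← hmaxeq]; exact Ideal.IsMaximal.isPrime' _
  -- `σ ∘ αC` detects `pt`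
  have hdet : ∀ c : C, σ (αC c) ∈ maxCpl LS ↔ c ∈ pt := by
    intro c
    constructor
    · intro hc
      by_contra hcp
      have h3 : IsUnit (αC c) := IsLocalization.map_units LT (⟨c, hcp⟩ : pt.primeCompl)
      have h4 : IsUnit (σ (αC c)) := h3.map σ
      rw [← hmaxeq] at hc
      exact (IsLocalRing.mem_maximalIdeal _).mp hc h4
    · intro hc
      exact hloc _ ((IsLocalization.AtPrime.to_map_mem_maximal_iff LT pt c).mpr hc)
  refine ⟨MvPolynomial (Fin n × Fin k) C ⧸ K, inferInstance, inferInstance, inferInstance,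
    (maxCpl LS).comap τ₀, Ideal.comap_isPrime _ _, τ₀, ?_, hτ₀, ?_, ?_⟩
  · ext c
    rw [Ideal.mem_comap, Ideal.mem_comap, hτ₀, hdet]
  · intro x hx
    by_contra hu
    apply hx
    rw [Ideal.mem_comap, ← hmaxeq]
    exact (IsLocalRing.mem_maximalIdeal _).mpr hu
  · intro σ' hσ' τ₀' hτ₀' a
    have hR' : ∀ x : R, σ' (αC (algebraMap R C x)) = ι (αR x) := by
      intro x
      have h1 := RingHom.congr_fun hη x
      simp only [RingHom.comp_apply] at h1
      change σ' ((algebraMap C LT) (algebraMap R C x)) = _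
      rw [← h1]
      exact RingHom.congr_fun hσ' _
    -- the relation in `C'`
    have hrel : ∀ i, algebraMap C (MvPolynomial (Fin n × Fin k) C ⧸ K)
        (algebraMap R C (ui i) * z i - algebraMap R C (ri i)) =
        ∑ j, algebraMap C (MvPolynomial (Fin n × Fin k) C ⧸ K) (algebraMap R C (m j)) *
          Ideal.Quotient.mk K (MvPolynomial.X (i, j)) := by
      intro i
      have h1 : Ideal.Quotient.mk K (rel i) = 0 :=
        Ideal.Quotient.eq_zero_iff_mem.mpr (Ideal.subset_span ⟨i, rfl⟩)
      change Ideal.Quotient.mk K (MvPolynomial.C (algebraMap R C (ui i) * z i - algebraMap R C (ri i)) -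
        ∑ j, MvPolynomial.C (algebraMap R C (m j)) * MvPolynomial.X (i, j)) = 0 at h1
      rw [map_sub, map_sum, sub_eq_zero] at h1
      simp only [map_mul] at h1
      exact h1
    have hkey : ∀ (ρ : LT →+* Cpl LS) (T : (MvPolynomial (Fin n × Fin k) C ⧸ K) →+* Cpl LS),
        (∀ x : R, ρ (αC (algebraMap R C x)) = ι (αR x)) →
        (∀ c : C, T (algebraMap C _ c) = ρ (αC c)) → ∀ i,
        ι (αR (ui i)) * ρ (αC (z i)) = ι (αR (ri i)) +
          ∑ j, ι (αR (m j)) * T (Ideal.Quotient.mk K (MvPolynomial.X (i, j))) := by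
      intro ρ T hρR hT i
      have h1 := congrArg T (hrel i)
      rw [hT, map_sub, map_sub, map_mul, map_mul, hρR, hρR, map_sum] at h1
      simp only [map_mul, hT, hρR] at h1
      rw [sub_eq_iff_eq_add] at h1
      rw [h1]; ring
    have hz : ∀ i, σ (αC (z i)) - σ' (αC (z i)) ∈ J := by
      intro i
      have h1 := hkey σ τ₀ hR hτ₀ i
      have h2 := hkey σ' τ₀' hR' hτ₀' i
      have hu : IsUnit (ι (αR (ui i))) :=
        ((IsLocalization.map_units LS (⟨ui i, hui i⟩ : r.primeCompl)).map ι)
      have h3 : ι (αR (ui i)) * (σ (αC (z i)) - σ' (αC (z i))) ∈ J := by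
        rw [mul_sub, h1, h2, add_sub_add_left_eq_sub, ← Finset.sum_sub_distrib]
        refine Ideal.sum_mem _ fun j _ => ?_
        rw [← mul_sub]
        exact Ideal.mul_mem_right _ _ (hmJ j)
      have h4 := Ideal.mul_mem_left J (↑hu.unit⁻¹ : Cpl LS) h3
      rwa [← mul_assoc, IsUnit.val_inv_mul, one_mul] at h4
    -- extend to all of `LT`
    refine isLocalization_sub_mem pt.primeCompl σ σ' J (fun c => ?_) a
    obtain ⟨P, rfl⟩ := hf c
    refine mvPolynomial_sub_mem ((σ.comp αC).comp f.toRingHom) ((σ'.comp αC).comp f.toRingHom) J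
      (fun x => ?_) (fun i => ?_) P
    · have h2 : f (MvPolynomial.C x) = algebraMap R C x := by
        rw [← MvPolynomial.algebraMap_eq, AlgHom.commutes]
      change σ (αC (f (MvPolynomial.C x))) - σ' (αC (f (MvPolynomial.C x))) ∈ J
      rw [h2, hR, hR', sub_self]
      exact Ideal.zero_mem _
    · exact hz i

end Groth.Agent.Helper8.AppT
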