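import Mathlib
import Groth.Agent.Lib.Helper8.AppT1
import Groth.Agent.Lib.Helper8.AppS6

/-!
# A finite type refinement controlling maps to the completion (scheme version)
-/

set_option autoImplicit false
universe u

open AlgebraicGeometry CategoryTheory Limits TopologicalSpace Opposite IsLocalRing

namespace Groth.Agent.Helper8.AppT

open Groth.Agent.Helper8.AppS

set_option maxHeartbeats 1600000 in
set_option synthInstance.maxHeartbeats 200000 in
theorem exists_refinement_scheme {T S : Scheme.{u}} [IsNoetherian T] [IsNoetherian S]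
    (h : T ⟶ S) [LocallyOfFiniteType h] [QuasiCompact h] (t : T)
    (σ : ↑(T.presheaf.stalk t) →+* (AdicCompletion (IsLocalRing.maximalIdeal ↑(S.presheaf.stalk (h t))) ↑(S.presheaf.stalk (h t))))
    (hσ : σ.comp (h.stalkMap t).hom = algebraMap ↑(S.presheaf.stalk (h t)) (AdicCompletion (IsLocalRing.maximalIdeal ↑(S.presheaf.stalk (h t))) ↑(S.presheaf.stalk (h t))))
    (hloc : ∀ a ∈ IsLocalRing.maximalIdeal ↑(T.presheaf.stalk t),
      σ a ∈ (IsLocalRing.maximalIdeal ↑(S.presheaf.stalk (h t))).map (algebraMap ↑(S.presheaf.stalk (h t)) (AdicCompletion (IsLocalRing.maximalIdeal ↑(S.presheaf.stalk (h t))) ↑(S.presheaf.stalk (h t)))))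
    (N : ℕ) :
    ∃ (T' : Scheme.{u}) (g : T' ⟶ T) (t' : T') (hg : g t' = t) (τ : ↑(T'.presheaf.stalk t') →+* (AdicCompletion (IsLocalRing.maximalIdeal ↑(S.presheaf.stalk (h t))) ↑(S.presheaf.stalk (h t)))),
      LocallyOfFiniteType g ∧ QuasiCompact g ∧
      τ.comp ((g.stalkMap t').hom.comp (T.presheaf.stalkCongr (Inseparable.of_eq hg)).inv.hom) = σ ∧
      ∀ (σ' : ↑(T.presheaf.stalk t) →+* (AdicCompletion (IsLocalRing.maximalIdeal ↑(S.presheaf.stalk (h t))) ↑(S.presheaf.stalk (h t)))),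
        σ'.comp (h.stalkMap t).hom = algebraMap ↑(S.presheaf.stalk (h t)) (AdicCompletion (IsLocalRing.maximalIdeal ↑(S.presheaf.stalk (h t))) ↑(S.presheaf.stalk (h t))) →
        (∀ a ∈ IsLocalRing.maximalIdeal ↑(T.presheaf.stalk t),
          σ' a ∈ (IsLocalRing.maximalIdeal ↑(S.presheaf.stalk (h t))).map (algebraMap ↑(S.presheaf.stalk (h t)) (AdicCompletion (IsLocalRing.maximalIdeal ↑(S.presheaf.stalk (h t))) ↑(S.presheaf.stalk (h t))))) →
        (∃ τ' : ↑(T'.presheaf.stalk t') →+* (AdicCompletion (IsLocalRing.maximalIdeal ↑(S.presheaf.stalk (h t))) ↑(S.presheaf.stalk (h t))),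
          τ'.comp ((g.stalkMap t').hom.comp (T.presheaf.stalkCongr (Inseparable.of_eq hg)).inv.hom) = σ') →
        ∀ a : ↑(T.presheaf.stalk t), σ a - σ' a ∈ (IsLocalRing.maximalIdeal ↑(S.presheaf.stalk (h t)) ^ N).map (algebraMap ↑(S.presheaf.stalk (h t)) (AdicCompletion (IsLocalRing.maximalIdeal ↑(S.presheaf.stalk (h t))) ↑(S.presheaf.stalk (h t)))) := by
  classical
  obtain ⟨S₀, hS₀, hsS₀, -⟩ := exists_isAffineOpen_mem_and_subset (x := h t) (U := ⊤) trivial
  obtain ⟨T₀, hT₀, htT₀, hTS⟩ := exists_isAffineOpen_mem_and_subset (x := t) (U := h ⁻¹ᵁ S₀) hsS₀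
  haveI : IsNoetherianRing Γ(S, S₀) := IsLocallyNoetherian.component_noetherian ⟨S₀, hS₀⟩
  letI algRC : Algebra Γ(S, S₀) Γ(T, T₀) := (h.appLE S₀ T₀ hTS).hom.toAlgebra
  haveI : Algebra.FiniteType Γ(S, S₀) Γ(T, T₀) := h.finiteType_appLE hS₀ hT₀ hTS
  letI algRL : Algebra Γ(S, S₀) (S.presheaf.stalk (h t)) := (S.presheaf.germ S₀ (h t) hsS₀).hom.toAlgebra
  haveI : IsLocalization.AtPrime (S.presheaf.stalk (h t)) (hS₀.primeIdealOf ⟨h t, hsS₀⟩).asIdeal :=
    hS₀.isLocalization_stalk ⟨h t, hsS₀⟩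
  letI algCL : Algebra Γ(T, T₀) (T.presheaf.stalk t) := (T.presheaf.germ T₀ t htT₀).hom.toAlgebra
  haveI : IsLocalization.AtPrime (T.presheaf.stalk t) (hT₀.primeIdealOf ⟨t, htT₀⟩).asIdeal :=
    hT₀.isLocalization_stalk ⟨t, htT₀⟩
  have hη : (h.stalkMap t).hom.comp (algebraMap Γ(S, S₀) (S.presheaf.stalk (h t))) =
      (algebraMap Γ(T, T₀) (T.presheaf.stalk t)).comp (algebraMap Γ(S, S₀) Γ(T, T₀)) :=
    congrArg CommRingCat.Hom.hom (germ_stalkMap_appLE h hTS t htT₀)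
  obtain ⟨C', _, _, hft, t', ht', τ₀, hcomap, hτ₀, hunit, Hprop⟩ :=
    exists_refinement_core (R := Γ(S, S₀)) (C := Γ(T, T₀)) (LS := S.presheaf.stalk (h t))
      (LT := T.presheaf.stalk t) (hS₀.primeIdealOf ⟨h t, hsS₀⟩).asIdeal
      (hT₀.primeIdealOf ⟨t, htT₀⟩).asIdeal (h.stalkMap t).hom hη σ hσ hloc N
  haveI := ht'
  haveI := hft
  let R' : CommRingCat.{u} := CommRingCat.of C'
  let γ : Γ(T, T₀) ⟶ R' := CommRingCat.ofHom (algebraMap Γ(T, T₀) C')
  let u : ↥(Spec R') := (⟨t', ht'⟩ : PrimeSpectrum ↑R')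
  have hg : (Spec.map γ ≫ hT₀.fromSpec) u = t := specHom_apply hT₀ γ u t htT₀ hcomap
  letI algL' : Algebra C' ((Spec R').presheaf.stalk u) := (toStalkSpec R' u).hom.toAlgebra
  haveI locL' : IsLocalization.AtPrime ((Spec R').presheaf.stalk u) t' :=
    isLocalization_toStalkSpec R' u
  have hunit' : ∀ y : t'.primeCompl, IsUnit (τ₀ (y : C')) := fun y => hunit _ y.2
  let τ : (Spec R').presheaf.stalk u →+* _ := IsLocalization.lift (M := t'.primeCompl) hunit'
  have hτ : ∀ x : C', τ (algebraMap C' ((Spec R').presheaf.stalk u) x) = τ₀ x :=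
    fun x => IsLocalization.lift_eq hunit' x
  have hgerm : (((Spec.map γ ≫ hT₀.fromSpec).stalkMap u).hom.comp
      (T.presheaf.stalkCongr (Inseparable.of_eq hg)).inv.hom).comp
        (algebraMap Γ(T, T₀) (T.presheaf.stalk t)) =
      (algebraMap C' ((Spec R').presheaf.stalk u)).comp (algebraMap Γ(T, T₀) C') :=
    congrArg CommRingCat.Hom.hom (germ_specHom_stalkMap hT₀ γ u t htT₀ hg)
  refine ⟨Spec R', Spec.map γ ≫ hT₀.fromSpec, u, hg, τ, ?_, ?_, ?_, ?_⟩
  · haveI : LocallyOfFiniteType (Spec.map γ) :=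
      (HasRingHomProperty.Spec_iff (P := @LocallyOfFiniteType)).mpr
        (RingHom.finiteType_algebraMap.mpr hft)
    infer_instance
  · infer_instance
  · refine IsLocalization.ringHom_ext (hT₀.primeIdealOf ⟨t, htT₀⟩).asIdeal.primeCompl
      (RingHom.ext fun c => ?_)
    have h1 := RingHom.congr_fun hgerm c
    simp only [RingHom.comp_apply] at h1 ⊢
    rw [h1, hτ, hτ₀]
  · intro σ' hσ' _ hτ' a
    obtain ⟨τ', hτ'⟩ := hτ'
    refine Hprop σ' hσ' (τ'.comp (algebraMap C' ((Spec R').presheaf.stalk u))) (fun c => ?_) a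
    have h1 := RingHom.congr_fun hgerm c
    simp only [RingHom.comp_apply] at h1 ⊢
    rw [← h1]
    exact RingHom.congr_fun hτ' _

end Groth.Agent.Helper8.AppT
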