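import Mathlib
import Groth.Agent.Lib.Helper8.AppS1

/-!
# Helper lemmas for the approximation of étale neighbourhoods over a completed base

* residue field of the completion;
* generation of residue fields, phrased through `Subfield.closure`.
-/

set_option autoImplicit false
universe u

namespace Groth.Agent.Helper8.AppU

open IsLocalRing Groth.Agent.Helper8.AppS Groth.Agent.Helper8.AppB

section residue

variable {R : Type u} [CommRing R] (p : Ideal R) [p.IsPrime]
variable (Λ : Type u) [CommRing Λ] [IsLocalRing Λ] [IsNoetherianRing Λ] [Algebra R Λ]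
  [IsLocalization.AtPrime Λ p]

/-- Every element of the completion is, modulo the maximal ideal, a fraction of elements of `R`. -/
theorem exists_sub_mem_maxCpl (l : Cpl Λ) :
    ∃ r s : R, s ∉ p ∧
      algebraMap Λ (Cpl Λ) (algebraMap R Λ s) * l - algebraMap Λ (Cpl Λ) (algebraMap R Λ r) ∈
        maxCpl Λ := by
  have fg : (maximalIdeal Λ).FG := IsNoetherian.noetherian _
  obtain ⟨y, hy⟩ := exists_sub_mem_map_pow (maximalIdeal Λ) fg l 1
  rw [pow_one] at hy
  obtain ⟨⟨r, s⟩, hrs⟩ := IsLocalization.surj p.primeCompl y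
  refine ⟨r, s, s.2, ?_⟩
  have h3 : algebraMap Λ (Cpl Λ) (algebraMap R Λ s) * l - algebraMap Λ (Cpl Λ) (algebraMap R Λ r) =
      algebraMap Λ (Cpl Λ) (algebraMap R Λ s) * (l - algebraMap _ _ y) := by
    rw [← hrs, map_mul]
    ring
  rw [h3]
  exact Ideal.mul_mem_left _ _ hy

/-- Elements of `R` outside `p` do not map into the maximal ideal of the completion. -/
theorem algebraMap_notMem_maxCpl {s : R} (hs : s ∉ p) :
    algebraMap Λ (Cpl Λ) (algebraMap R Λ s) ∉ maxCpl Λ := by
  have hu : IsUnit (algebraMap R Λ s) :=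
    IsLocalization.map_units Λ (⟨s, hs⟩ : p.primeCompl)
  have hu' : IsUnit (algebraMap Λ (Cpl Λ) (algebraMap R Λ s)) := hu.map _
  have fg : (maximalIdeal Λ).FG := IsNoetherian.noetherian _
  haveI hmax : (maxCpl Λ).IsMaximal := AdicCompletion.isMaximal_map_of_le _ _ (le_refl _) fg
  intro h
  exact hmax.ne_top (Ideal.eq_top_of_isUnit_mem _ h hu')

end residue

section closure

variable {T D K : Type*} [CommRing T] [CommRing D] [Field K]

/-- The image of `D` in `K` lies in the subfield generated by the image of `T`. -/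
def ResGen (f : T →+* D) (ρ : D →+* K) : Prop :=
  ∀ d : D, ρ d ∈ Subfield.closure (Set.range (ρ.comp f))

theorem resGen_iff (f : T →+* D) (ρ : D →+* K) :
    ResGen f ρ ↔ ∀ d : D, ∃ r s : T, f s ∉ RingHom.ker ρ ∧ f s * d - f r ∈ RingHom.ker ρ := by
  constructor
  · intro h d
    obtain ⟨y, hy, z, hz, hyz⟩ := Subfield.mem_closure_iff.mp (h d)
    have hcl : Subring.closure (Set.range (ρ.comp f)) = (ρ.comp f).range := by
      rw [← RingHom.coe_range, Subring.closure_eq]
    rw [hcl] at hy hz
    obtain ⟨r, rfl⟩ := hy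
    obtain ⟨s, rfl⟩ := hz
    by_cases hz0 : (ρ.comp f) s = 0
    · refine ⟨0, 1, ?_, ?_⟩
      · rw [RingHom.mem_ker, map_one, map_one]
        exact one_ne_zero
      · rw [RingHom.mem_ker, map_one, one_mul, map_zero, sub_zero, ← hyz, hz0, div_zero]
    · refine ⟨r, s, hz0, ?_⟩
      rw [RingHom.mem_ker, map_sub, map_mul, ← hyz, sub_eq_zero]
      show (ρ.comp f) s * ((ρ.comp f) r / (ρ.comp f) s) = (ρ.comp f) r
      field_simp
  · intro h d
    obtain ⟨r, s, hs, hrs⟩ := h d
    rw [RingHom.mem_ker, map_sub, map_mul, sub_eq_zero] at hrs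
    have hs' : ρ (f s) ≠ 0 := hs
    have : ρ d = ρ (f r) / ρ (f s) := by
      rw [eq_div_iff hs', mul_comm]; exact hrs
    rw [this]
    exact div_mem (Subfield.subset_closure ⟨r, rfl⟩) (Subfield.subset_closure ⟨s, rfl⟩)

end closure

end Groth.Agent.Helper8.AppU
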