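import Mathlib
import Groth.Agent.Lib.Helper8.Dsc1

/-!
# Descent of isomorphisms of finitely presented algebras to a finitely generated subalgebra
-/

set_option autoImplicit false
universe u v w

namespace Groth.Agent.Helper8.Dsc

open TensorProduct

variable {E₁ : Type u} [CommRing E₁] {L : Type v} [CommRing L] [Algebra E₁ L]
variable {P P' : Type w} [CommRing P] [CommRing P'] [Algebra E₁ P] [Algebra E₁ P']

/-- The `E`-linear extension of `g : P' → E ⊗ P`. -/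
noncomputable abbrev extE (E : Subalgebra E₁ L) (g : P' →ₐ[E₁] E ⊗[E₁] P) :
    E ⊗[E₁] P' →ₐ[E] E ⊗[E₁] P :=
  g.liftEquiv E₁ E P' (E ⊗[E₁] P)

theorem extE_tmul (E : Subalgebra E₁ L) (g : P' →ₐ[E₁] E ⊗[E₁] P) (e : E) (p : P') :
    extE E g (e ⊗ₜ p) = e • g p := rfl

theorem extE_one_tmul (E : Subalgebra E₁ L) (g : P' →ₐ[E₁] E ⊗[E₁] P) (p : P') :
    extE E g (1 ⊗ₜ p) = g p := by
  rw [extE_tmul, one_smul]

theorem incl₂_smul {E E' : Subalgebra E₁ L} (h : E ≤ E') (e : E) (t : E ⊗[E₁] P) :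
    incl₂ P h (e • t) = (Subalgebra.inclusion h e) • incl₂ P h t := by
  induction t with
  | zero => simp
  | tmul x y => simp [TensorProduct.smul_tmul', Algebra.TensorProduct.map_tmul]
  | add x y hx hy => simp only [smul_add, map_add, hx, hy]

theorem incl_smul (E : Subalgebra E₁ L) (e : E) (t : E ⊗[E₁] P) :
    incl P E (e • t) = (e : L) • incl P E t := by
  induction t with
  | zero => simp
  | tmul x y => simp [TensorProduct.smul_tmul', Algebra.TensorProduct.map_tmul]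
  | add x y hx hy => simp only [smul_add, map_add, hx, hy]

/-- Naturality of `extE` with respect to enlarging the subalgebra. -/
theorem extE_incl₂ {E E' : Subalgebra E₁ L} (h : E ≤ E') (g : P' →ₐ[E₁] E ⊗[E₁] P)
    (x : E ⊗[E₁] P') :
    extE E' ((incl₂ P h).comp g) (incl₂ P' h x) = incl₂ P h (extE E g x) := by
  induction x with
  | zero => simp
  | tmul e p =>
    rw [Algebra.TensorProduct.map_tmul, extE_tmul, extE_tmul, incl₂_smul]
    rfl
  | add x y hx hy => simp only [map_add, hx, hy]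

/-- Compatibility of `extE` with an `L`-linear map. -/
theorem incl_extE (E : Subalgebra E₁ L) (g : P' →ₐ[E₁] E ⊗[E₁] P)
    (ε : L ⊗[E₁] P' →ₐ[L] L ⊗[E₁] P)
    (hg : ∀ p, incl P E (g p) = ε (1 ⊗ₜ p)) (x : E ⊗[E₁] P') :
    incl P E (extE E g x) = ε (incl P' E x) := by
  induction x with
  | zero => simp
  | tmul e p =>
    rw [extE_tmul, incl_smul, hg, Algebra.TensorProduct.map_tmul, ← map_smul]
    congr 1
    rw [TensorProduct.smul_tmul']
    simp
  | add x y hx hy => simp only [map_add, hx, hy]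

theorem exists_algEquiv_descent [Algebra.FinitePresentation E₁ P]
    [Algebra.FinitePresentation E₁ P']
    (ε : L ⊗[E₁] P' ≃ₐ[L] L ⊗[E₁] P) (E₀ : Subalgebra E₁ L) (hE₀ : E₀.FG) :
    ∃ E : Subalgebra E₁ L, E₀ ≤ E ∧ E.FG ∧ ∃ εE : E ⊗[E₁] P' ≃ₐ[E] E ⊗[E₁] P,
      ∀ x, incl P E (εE x) = ε (incl P' E x) := by
  classical
  let h : P' →ₐ[E₁] L ⊗[E₁] P :=
    (ε.toAlgHom.restrictScalars E₁).comp Algebra.TensorProduct.includeRight
  let h' : P →ₐ[E₁] L ⊗[E₁] P' :=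
    (ε.symm.toAlgHom.restrictScalars E₁).comp Algebra.TensorProduct.includeRight
  obtain ⟨Ea, hle_a, hEa, ka, hka⟩ := exists_lift_of_finitePresentation h E₀ hE₀
  obtain ⟨Eb, hle_b, hEb, k', hk'⟩ := exists_lift_of_finitePresentation h' Ea hEa
  let k : P' →ₐ[E₁] Eb ⊗[E₁] P := (incl₂ P hle_b).comp ka
  have hk : ∀ p, incl P Eb (k p) = ε (1 ⊗ₜ p) := by
    intro p
    show incl P Eb (incl₂ P hle_b (ka p)) = _
    rw [incl_incl₂]
    exact congrArg (fun φ => φ p) hka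
  have hk'' : ∀ p, incl P' Eb (k' p) = ε.symm (1 ⊗ₜ p) := fun p =>
    congrArg (fun φ => φ p) hk'
  -- the two composites
  let u₁ : P' →ₐ[E₁] Eb ⊗[E₁] P' := ((extE Eb k').restrictScalars E₁).comp k
  let u₂ : P' →ₐ[E₁] Eb ⊗[E₁] P' := Algebra.TensorProduct.includeRight
  let v₁ : P →ₐ[E₁] Eb ⊗[E₁] P := ((extE Eb k).restrictScalars E₁).comp k'
  let v₂ : P →ₐ[E₁] Eb ⊗[E₁] P := Algebra.TensorProduct.includeRight
  have hu : (incl P' Eb).comp u₁ = (incl P' Eb).comp u₂ := by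
    apply AlgHom.ext
    intro p
    show incl P' Eb (extE Eb k' (k p)) = incl P' Eb (1 ⊗ₜ p)
    rw [incl_extE Eb k' ε.symm.toAlgHom hk'', hk]
    simp
  have hv : (incl P Eb).comp v₁ = (incl P Eb).comp v₂ := by
    apply AlgHom.ext
    intro p
    show incl P Eb (extE Eb k (k' p)) = incl P Eb (1 ⊗ₜ p)
    rw [incl_extE Eb k ε.toAlgHom hk, hk'']
    simp
  obtain ⟨Ec, hle_c, hEc, huc⟩ := exists_eq_of_finiteType hEb u₁ u₂ hu
  obtain ⟨Ed, hle_d, hEd, hvd⟩ := exists_eq_of_finiteType hEb v₁ v₂ hv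
  let E := Ec ⊔ Ed
  have hbE : Eb ≤ E := hle_c.trans le_sup_left
  have hE : E.FG := hEc.sup hEd
  have huE : ∀ p, incl₂ P' hbE (u₁ p) = 1 ⊗ₜ p := by
    intro p
    rw [← incl₂_incl₂ hle_c (le_sup_left : Ec ≤ E)]
    have := congrArg (fun φ => φ p) huc
    simp only [AlgHom.comp_apply] at this
    rw [this]
    simp [u₂]
  have hvE : ∀ p, incl₂ P hbE (v₁ p) = 1 ⊗ₜ p := by
    intro p
    rw [← incl₂_incl₂ hle_d (le_sup_right : Ed ≤ E)]
    have := congrArg (fun φ => φ p) hvd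
    simp only [AlgHom.comp_apply] at this
    rw [this]
    simp [v₂]
  let Φ : E ⊗[E₁] P' →ₐ[E] E ⊗[E₁] P := extE E ((incl₂ P hbE).comp k)
  let Ψ : E ⊗[E₁] P →ₐ[E] E ⊗[E₁] P' := extE E ((incl₂ P' hbE).comp k')
  have h1 : Ψ.comp Φ = AlgHom.id E _ := by
    apply Algebra.TensorProduct.ext_ring
    apply AlgHom.ext
    intro p
    show Ψ (Φ (1 ⊗ₜ p)) = 1 ⊗ₜ p
    rw [show Φ (1 ⊗ₜ p) = incl₂ P hbE (k p) from extE_one_tmul E _ p]
    rw [show Ψ (incl₂ P hbE (k p)) = incl₂ P' hbE (extE Eb k' (k p)) from extE_incl₂ hbE k' (k p)]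
    exact huE p
  have h2 : Φ.comp Ψ = AlgHom.id E _ := by
    apply Algebra.TensorProduct.ext_ring
    apply AlgHom.ext
    intro p
    show Φ (Ψ (1 ⊗ₜ p)) = 1 ⊗ₜ p
    rw [show Ψ (1 ⊗ₜ p) = incl₂ P' hbE (k' p) from extE_one_tmul E _ p]
    rw [show Φ (incl₂ P' hbE (k' p)) = incl₂ P hbE (extE Eb k (k' p)) from extE_incl₂ hbE k (k' p)]
    exact hvE p
  refine ⟨E, (hle_a.trans hle_b).trans hbE, hE, AlgEquiv.ofAlgHom Φ Ψ h2 h1, ?_⟩
  intro x
  show incl P E (Φ x) = ε (incl P' E x)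
  refine incl_extE E _ ε.toAlgHom (fun p => ?_) x
  show incl P E (incl₂ P hbE (k p)) = _
  rw [incl_incl₂]
  exact hk p

end Groth.Agent.Helper8.Dsc
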