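import Mathlib
import Groth.Agent.Lib.Helper8.Dsc2
import Groth.Agent.Lib.Helper8.Dsc5

/-!
# Descent of a diagram `L ⊗ M_A → D ← L ⊗ M_B` of étale maps to a finite type subalgebra of `L`
-/

set_option autoImplicit false
universe u

namespace Groth.Agent.Helper8.Dsc

open TensorProduct

variable {R₁ : Type u} [CommRing R₁] [IsNoetherianRing R₁] {L : Type u} [CommRing L]
  [Algebra R₁ L]

omit [IsNoetherianRing R₁] in
/-- Finite presentation of `P` over `K` from an étale map `K ⊗ M → P`. -/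
theorem finitePresentation_of_etale {K M P : Type u} [CommRing K] [CommRing M] [CommRing P]
    [Algebra R₁ K] [Algebra R₁ M] [Algebra.FinitePresentation R₁ M] [Algebra K P]
    (a : K ⊗[R₁] M →ₐ[K] P) (ha : a.toRingHom.Etale) : Algebra.FinitePresentation K P := by
  have h1 : (algebraMap K (K ⊗[R₁] M)).FinitePresentation :=
    RingHom.finitePresentation_algebraMap.mpr inferInstance
  have h2 : a.toRingHom.FinitePresentation := by
    algebraize [a.toRingHom]
    exact RingHom.finitePresentation_algebraMap.mpr inferInstance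
  have h3 := h2.comp h1
  have h4 : a.toRingHom.comp (algebraMap K (K ⊗[R₁] M)) = algebraMap K P :=
    RingHom.ext fun k => a.commutes k
  rw [h4] at h3
  exact RingHom.finitePresentation_algebraMap.mp h3

set_option maxHeartbeats 1600000 in
set_option synthInstance.maxHeartbeats 200000 in
theorem exists_common_model (MA MB : Type u) [CommRing MA] [Algebra R₁ MA]
    [Algebra.FiniteType R₁ MA] [CommRing MB] [Algebra R₁ MB] [Algebra.FiniteType R₁ MB]
    (D : Type u) [CommRing D] [Algebra L D]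
    (α : L ⊗[R₁] MA →ₐ[L] D) (β : L ⊗[R₁] MB →ₐ[L] D)
    (hα : α.toRingHom.Etale) (hβ : β.toRingHom.Etale) :
    ∃ (E : Type u) (_ : CommRing E) (_ : Algebra R₁ E) (_ : Algebra.FiniteType R₁ E)
      (ι : E →ₐ[R₁] L) (P : Type u) (_ : CommRing P) (_ : Algebra E P)
      (αE : E ⊗[R₁] MA →ₐ[E] P) (βE : E ⊗[R₁] MB →ₐ[E] P) (j : P →+* D),
      αE.toRingHom.Etale ∧ βE.toRingHom.Etale ∧
      (∀ e : E, j (algebraMap E P e) = algebraMap L D (ι e)) ∧
      (∀ m, j (αE (1 ⊗ₜ m)) = α (1 ⊗ₜ m)) ∧ (∀ m, j (βE (1 ⊗ₜ m)) = β (1 ⊗ₜ m)) := by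
  classical
  haveI : Algebra.FinitePresentation R₁ MA := Algebra.FinitePresentation.of_finiteType.mp inferInstance
  haveI : Algebra.FinitePresentation R₁ MB := Algebra.FinitePresentation.of_finiteType.mp inferInstance
  obtain ⟨Ea, -, hEa, Ha⟩ := exists_etale_descent MA D α hα ⊥ Subalgebra.fg_bot
  obtain ⟨Eb, hab, hEb, Hb⟩ := exists_etale_descent MB D β hβ Ea hEa
  obtain ⟨Pa, _, _, a, ha, φa, hφa⟩ := Ha Eb hab
  obtain ⟨Pb, _, _, b, hb, φb, hφb⟩ := Hb Eb le_rfl
  haveI : Algebra.FiniteType R₁ Eb := (Subalgebra.fg_iff_finiteType Eb).mp hEb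
  haveI : IsNoetherianRing Eb := Algebra.FiniteType.isNoetherianRing R₁ Eb
  haveI : Algebra.FinitePresentation Eb Pa := finitePresentation_of_etale a ha
  haveI : Algebra.FinitePresentation Eb Pb := finitePresentation_of_etale b hb
  let ε : L ⊗[Eb] Pb ≃ₐ[L] L ⊗[Eb] Pa := φb.trans φa.symm
  obtain ⟨E, -, hE, εE, hε⟩ := exists_algEquiv_descent (P := Pa) (P' := Pb) ε ⊥ Subalgebra.fg_bot
  obtain ⟨a', ha', ha'f⟩ := etale_baseChange_map (K' := E) a ha
  obtain ⟨b', hb', hb'f⟩ := etale_baseChange_map (K' := E) b hb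
  haveI : Algebra.FiniteType Eb E := (Subalgebra.fg_iff_finiteType E).mp hE
  haveI : Algebra.FiniteType R₁ E := Algebra.FiniteType.trans (S := Eb) inferInstance inferInstance
  refine ⟨E, inferInstance, inferInstance, inferInstance, E.val.restrictScalars R₁,
    E ⊗[Eb] Pa, inferInstance, inferInstance, a', εE.toAlgHom.comp b',
    φa.toAlgHom.toRingHom.comp (incl Pa E).toRingHom, ha', ?_, ?_, ?_, ?_⟩
  · have h1 : @RingHom.Etale (E ⊗[Eb] Pb) (E ⊗[Eb] Pa) _ _ (εE.toAlgHom.toRingHom) := by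
      apply RingHom.Etale.of_bijective
      exact εE.bijective
    have h2 := @RingHom.Etale.stableUnderComposition (E ⊗[R₁] MB) (E ⊗[Eb] Pb) (E ⊗[Eb] Pa) _ _ _
      b'.toRingHom εE.toAlgHom.toRingHom hb' h1
    exact h2
  · intro e
    show φa (incl Pa E (algebraMap E (E ⊗[Eb] Pa) e)) = _
    rw [Algebra.TensorProduct.algebraMap_apply, Algebra.algebraMap_self, RingHom.id_apply,
      Algebra.TensorProduct.map_tmul, map_one]
    have : (E.val e ⊗ₜ[Eb] (1 : Pa)) = algebraMap L (L ⊗[Eb] Pa) (E.val e) := by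
      rw [Algebra.TensorProduct.algebraMap_apply, Algebra.algebraMap_self, RingHom.id_apply]
    rw [this, AlgEquiv.commutes]
    rfl
  · intro m
    show φa (incl Pa E (a' (1 ⊗ₜ m))) = _
    rw [ha'f, Algebra.TensorProduct.map_tmul, map_one, AlgHom.id_apply, hφa]
    simp
  · intro m
    show φa (incl Pa E (εE (b' (1 ⊗ₜ m)))) = _
    rw [hε, hb'f, Algebra.TensorProduct.map_tmul, map_one, AlgHom.id_apply]
    show φa (φa.symm (φb (1 ⊗ₜ b (1 ⊗ₜ m)))) = _
    rw [AlgEquiv.apply_symm_apply, hφb]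
    simp

end Groth.Agent.Helper8.Dsc
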