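import Mathlib
import Groth.Agent.Lib.Helper8.AppU1
import Groth.Agent.Lib.Helper8.Dsc6

/-!
# Approximation of a common étale neighbourhood over the completion by one over an étale
neighbourhood of the base (ring-level step B)
-/

set_option autoImplicit false
universe u

namespace Groth.Agent.Helper8.AppU

open IsLocalRing TensorProduct Groth.Agent.Helper8.AppS Groth.Agent.Helper8.AppB
  Groth.Agent.Helper8.Dsc

attribute [local instance] Algebra.TensorProduct.rightAlgebra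

section setup

variable {R : Type u} [CommRing R] {C A : Type u} [CommRing C] [CommRing A] [Algebra R A]
variable {L : Type u} [CommRing L] [Algebra R L] [Algebra C L]

/-- `L` as an algebra over `R ⊗[ℤ] C`. -/
noncomputable abbrev algR₁ : R ⊗[ℤ] C →ₐ[ℤ] L :=
  Algebra.TensorProduct.productMap (algebraMap R L).toIntAlgHom (algebraMap C L).toIntAlgHom

theorem algR₁_tmul (r : R) (c : C) :
    algR₁ (L := L) (r ⊗ₜ c) = algebraMap R L r * algebraMap C L c := rfl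

end setup

section descent

variable {R : Type u} [CommRing R] [IsNoetherianRing R]
variable {C A B : Type u} [CommRing C] [Algebra.FiniteType ℤ C] [CommRing A] [Algebra R A]
  [Algebra.FiniteType R A] [CommRing B] [Algebra C B] [Algebra.FiniteType C B]
variable {L : Type u} [CommRing L] [Algebra R L] [Algebra C L]
variable {Dh : Type u} [CommRing Dh]

set_option maxHeartbeats 3200000 in
set_option synthInstance.maxHeartbeats 400000 in
set_option maxSynthPendingDepth 3 in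
/-- Descent of a common étale neighbourhood over `L` to a finite type `R`-algebra `E → L`. -/
theorem exists_model (φA : L ⊗[R] A →+* Dh) (hφA : φA.Etale)
    (φB : L ⊗[C] B →+* Dh) (hφB : φB.Etale)
    (hcompat : ∀ l : L, φA (l ⊗ₜ 1) = φB (l ⊗ₜ 1)) :
    ∃ (E : Type u) (_ : CommRing E) (_ : Algebra R E) (_ : Algebra.FiniteType R E)
      (_ : Algebra C E) (ι : E →+* L),
      (∀ r : R, ι (algebraMap R E r) = algebraMap R L r) ∧
      (∀ c : C, ι (algebraMap C E c) = algebraMap C L c) ∧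
      ∃ (P : Type u) (_ : CommRing P) (_ : Algebra E P)
        (αE : E ⊗[R] A →ₐ[E] P) (βE : E ⊗[C] B →ₐ[E] P) (j : P →+* Dh),
        αE.toRingHom.Etale ∧ βE.toRingHom.Etale ∧
        (∀ e : E, j (algebraMap E P e) = φA (ι e ⊗ₜ 1)) ∧
        (∀ a : A, j (αE (1 ⊗ₜ a)) = φA (1 ⊗ₜ a)) ∧
        (∀ b : B, j (βE (1 ⊗ₜ b)) = φB (1 ⊗ₜ b)) := by
  -- the base ring `R₁ = R ⊗ C`
  haveI : IsNoetherianRing (R ⊗[ℤ] C) := Algebra.FiniteType.isNoetherianRing R (R ⊗[ℤ] C)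
  letI aL : Algebra (R ⊗[ℤ] C) L := (algR₁ (R := R) (C := C) (L := L)).toRingHom.toAlgebra
  haveI tRL : IsScalarTower R (R ⊗[ℤ] C) L := IsScalarTower.of_algebraMap_eq' (RingHom.ext fun r => by
    show algebraMap R L r = algR₁ (L := L) (algebraMap R (R ⊗[ℤ] C) r)
    rw [Algebra.TensorProduct.algebraMap_apply, algR₁_tmul]
    simp)
  haveI tCL : IsScalarTower C (R ⊗[ℤ] C) L := IsScalarTower.of_algebraMap_eq' (RingHom.ext fun c => by
    show algebraMap C L c = algR₁ (L := L) ((1 : R) ⊗ₜ[ℤ] c)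
    rw [algR₁_tmul]
    simp)
  letI aD : Algebra L Dh := (φA.comp
    (Algebra.TensorProduct.includeLeft : L →ₐ[R] L ⊗[R] A).toRingHom).toAlgebra
  have haD : ∀ l : L, algebraMap L Dh l = φA (l ⊗ₜ 1) := fun l => rfl
  let cA : L ⊗[R ⊗[ℤ] C] ((R ⊗[ℤ] C) ⊗[R] A) ≃ₐ[L] L ⊗[R] A :=
    Algebra.TensorProduct.cancelBaseChange R (R ⊗[ℤ] C) L L A
  let cB : L ⊗[R ⊗[ℤ] C] ((R ⊗[ℤ] C) ⊗[C] B) ≃ₐ[L] L ⊗[C] B :=
    Algebra.TensorProduct.cancelBaseChange C (R ⊗[ℤ] C) L L B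
  let α : L ⊗[R ⊗[ℤ] C] ((R ⊗[ℤ] C) ⊗[R] A) →ₐ[L] Dh :=
    { toRingHom := φA.comp cA.toAlgHom.toRingHom
      commutes' := fun l => by
        show φA (cA (algebraMap L _ l)) = _
        rw [AlgEquiv.commutes, haD]
        rfl }
  let β : L ⊗[R ⊗[ℤ] C] ((R ⊗[ℤ] C) ⊗[C] B) →ₐ[L] Dh :=
    { toRingHom := φB.comp cB.toAlgHom.toRingHom
      commutes' := fun l => by
        show φB (cB (algebraMap L _ l)) = _
        rw [AlgEquiv.commutes, haD, hcompat]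
        rfl }
  have hα : α.toRingHom.Etale := by
    have h1 : RingHom.Etale (cA.toAlgHom.toRingHom) := by
      apply RingHom.Etale.of_bijective
      exact cA.bijective
    exact RingHom.Etale.stableUnderComposition _ _ h1 hφA
  have hβ : β.toRingHom.Etale := by
    have h1 : RingHom.Etale (cB.toAlgHom.toRingHom) := by
      apply RingHom.Etale.of_bijective
      exact cB.bijective
    exact RingHom.Etale.stableUnderComposition _ _ h1 hφB
  obtain ⟨E, _, _, _, ι, P, _, _, αE, βE, j, hαE, hβE, hjE, hjα, hjβ⟩ :=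
    exists_common_model ((R ⊗[ℤ] C) ⊗[R] A) ((R ⊗[ℤ] C) ⊗[C] B) Dh α β hα hβ
  letI aRE : Algebra R E := ((algebraMap (R ⊗[ℤ] C) E).comp (algebraMap R (R ⊗[ℤ] C))).toAlgebra
  letI aCE : Algebra C E := ((algebraMap (R ⊗[ℤ] C) E).comp (algebraMap C (R ⊗[ℤ] C))).toAlgebra
  haveI tRE : IsScalarTower R (R ⊗[ℤ] C) E := IsScalarTower.of_algebraMap_eq' rfl
  haveI tCE : IsScalarTower C (R ⊗[ℤ] C) E := IsScalarTower.of_algebraMap_eq' rfl
  haveI ftRE : Algebra.FiniteType R E := Algebra.FiniteType.trans (S := R ⊗[ℤ] C) inferInstance inferInstance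
  let dA : E ⊗[R ⊗[ℤ] C] ((R ⊗[ℤ] C) ⊗[R] A) ≃ₐ[E] E ⊗[R] A :=
    Algebra.TensorProduct.cancelBaseChange R (R ⊗[ℤ] C) E E A
  let dB : E ⊗[R ⊗[ℤ] C] ((R ⊗[ℤ] C) ⊗[C] B) ≃ₐ[E] E ⊗[C] B :=
    Algebra.TensorProduct.cancelBaseChange C (R ⊗[ℤ] C) E E B
  refine ⟨E, inferInstance, aRE, ftRE, aCE, ι.toRingHom, ?_, ?_, P, inferInstance, inferInstance,
    αE.comp dA.symm.toAlgHom, βE.comp dB.symm.toAlgHom, j, ?_, ?_, ?_, ?_, ?_⟩
  · intro r
    show ι (algebraMap (R ⊗[ℤ] C) E (algebraMap R (R ⊗[ℤ] C) r)) = _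
    rw [AlgHom.commutes, ← IsScalarTower.algebraMap_apply]
  · intro c
    show ι (algebraMap (R ⊗[ℤ] C) E (algebraMap C (R ⊗[ℤ] C) c)) = _
    rw [AlgHom.commutes, ← IsScalarTower.algebraMap_apply]
  · have h1 : RingHom.Etale (dA.symm.toAlgHom.toRingHom) := by
      apply RingHom.Etale.of_bijective
      exact dA.symm.bijective
    exact RingHom.Etale.stableUnderComposition _ _ h1 hαE
  · have h1 : RingHom.Etale (dB.symm.toAlgHom.toRingHom) := by
      apply RingHom.Etale.of_bijective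
      exact dB.symm.bijective
    exact RingHom.Etale.stableUnderComposition _ _ h1 hβE
  · intro e
    rw [hjE, haD]
    rfl
  · intro a
    show j (αE (dA.symm (1 ⊗ₜ a))) = _
    have h1 : dA.symm ((1 : E) ⊗ₜ[R] a) = (1 : E) ⊗ₜ[R ⊗[ℤ] C] ((1 : R ⊗[ℤ] C) ⊗ₜ[R] a) :=
      Algebra.TensorProduct.cancelBaseChange_symm_tmul R (R ⊗[ℤ] C) E E A (1 : E) a
    rw [h1, hjα]
    show φA (cA ((1 : L) ⊗ₜ[R ⊗[ℤ] C] ((1 : R ⊗[ℤ] C) ⊗ₜ[R] a))) = _
    have h2 : cA ((1 : L) ⊗ₜ[R ⊗[ℤ] C] ((1 : R ⊗[ℤ] C) ⊗ₜ[R] a)) = (1 : L) ⊗ₜ[R] a := by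
      show Algebra.TensorProduct.cancelBaseChange R (R ⊗[ℤ] C) L L A _ = _
      rw [Algebra.TensorProduct.cancelBaseChange_tmul, one_smul]
    rw [h2]
  · intro b
    show j (βE (dB.symm (1 ⊗ₜ b))) = _
    have h1 : dB.symm ((1 : E) ⊗ₜ[C] b) = (1 : E) ⊗ₜ[R ⊗[ℤ] C] ((1 : R ⊗[ℤ] C) ⊗ₜ[C] b) :=
      Algebra.TensorProduct.cancelBaseChange_symm_tmul C (R ⊗[ℤ] C) E E B (1 : E) b
    rw [h1, hjβ]
    show φB (cB ((1 : L) ⊗ₜ[R ⊗[ℤ] C] ((1 : R ⊗[ℤ] C) ⊗ₜ[C] b))) = _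
    have h2 : cB ((1 : L) ⊗ₜ[R ⊗[ℤ] C] ((1 : R ⊗[ℤ] C) ⊗ₜ[C] b)) = (1 : L) ⊗ₜ[C] b := by
      show Algebra.TensorProduct.cancelBaseChange C (R ⊗[ℤ] C) L L B _ = _
      rw [Algebra.TensorProduct.cancelBaseChange_tmul, one_smul]
    rw [h2]

end descent

end Groth.Agent.Helper8.AppU
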