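import Mathlib
import Groth.Agent.Lib.Helper8.AppU1
import Groth.Agent.Lib.Helper8.AppS5

/-!
# Approximating a map from a finite type algebra to the completion by a map to an étale
neighbourhood
-/

set_option autoImplicit false
universe u

namespace Groth.Agent.Helper8.AppU

open IsLocalRing Groth.Agent.Helper8.AppS Groth.Agent.Helper8.AppB

variable {R : Type u} [CommRing R] [IsNoetherianRing R] (p : Ideal R) [p.IsPrime]
variable (Λ : Type u) [CommRing Λ] [IsLocalRing Λ] [Algebra R Λ] [IsLocalization.AtPrime Λ p]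

set_option maxHeartbeats 1600000 in
set_option synthInstance.maxHeartbeats 200000 in
theorem exists_approx_hom (hG : CAlg.IsGRing Λ)
    (E : Type u) [CommRing E] [Algebra R E] [Algebra.FiniteType R E] (ι : E →+* Cpl Λ)
    (hι : ∀ r : R, ι (algebraMap R E r) = algebraMap Λ (Cpl Λ) (algebraMap R Λ r)) :
    ∃ (R' : Type u) (_ : CommRing R') (_ : Algebra R R'), Algebra.Etale R R' ∧
      ∃ (ψ : R' →+* Cpl Λ) (p' : Ideal R') (_ : p'.IsPrime) (χ : E →+* R'),
        (∀ r : R, ψ (algebraMap R R' r) = algebraMap Λ (Cpl Λ) (algebraMap R Λ r)) ∧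
        p'.comap (algebraMap R R') = p ∧
        (∀ x : R', ∃ r s : R, s ∉ p ∧ algebraMap R R' s * x - algebraMap R R' r ∈ p') ∧
        (∀ x : R', x ∈ p' ↔ ψ x ∈ maxCpl Λ) ∧
        (∀ r : R, χ (algebraMap R E r) = algebraMap R R' r) ∧
        ∀ e : E, ι e - ψ (χ e) ∈ maxCpl Λ := by
  classical
  haveI : IsNoetherianRing Λ := hG.1
  have hmaxeq : maximalIdeal (Cpl Λ) = maxCpl Λ := AdicCompletion.maximalIdeal_eq_map
  haveI : Algebra.FinitePresentation R E := Algebra.FinitePresentation.of_finiteType.mp inferInstance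
  obtain ⟨n, f, hf, hker⟩ := (Algebra.FinitePresentation.out : ∃ (n : ℕ)
    (f : MvPolynomial (Fin n) R →ₐ[R] E), Function.Surjective f ∧ (RingHom.ker f.toRingHom).FG)
  obtain ⟨m, gen, hgen⟩ := Submodule.fg_iff_exists_fin_generating_family.mp hker
  let ι₀ : Λ →+* Cpl Λ := algebraMap Λ (Cpl Λ)
  let a : Fin n → Cpl Λ := fun i => ι (f (MvPolynomial.X i))
  have hR : algebraMap R (Cpl Λ) = ι.comp (algebraMap R E) := by
    refine RingHom.ext fun r => ?_
    rw [RingHom.comp_apply, hι]
    exact IsScalarTower.algebraMap_apply R Λ (Cpl Λ) r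
  have hfgen : ∀ j, f (gen j) = 0 := by
    intro j
    have : gen j ∈ RingHom.ker f.toRingHom := by
      rw [← hgen]; exact Submodule.subset_span ⟨j, rfl⟩
    exact this
  have ha : ∀ j, MvPolynomial.aeval a (gen j) = 0 := by
    intro j
    rw [MvPolynomial.aeval_def, hR]
    have h2 : a = ι ∘ (fun i => f (MvPolynomial.X i)) := rfl
    rw [h2, ← MvPolynomial.eval₂_comp_left]
    have h3 : MvPolynomial.eval₂ (algebraMap R E) (fun i => f (MvPolynomial.X i)) (gen j) =
        f (gen j) := by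
      rw [← MvPolynomial.aeval_def]
      exact (DFunLike.congr_fun (MvPolynomial.aeval_unique f) (gen j)).symm
    rw [h3, hfgen, map_zero]
  obtain ⟨R', _, _, het, ψ, p', hp', hψ, hcomap, hres, hψmax, b, hb, hab⟩ :=
    exists_etale_solution_atPrime' p Λ hG gen a ha 1
  haveI := hp'
  let Θ : MvPolynomial (Fin n) R →ₐ[R] R' := MvPolynomial.aeval b
  have hΘker : RingHom.ker f.toRingHom ≤ RingHom.ker Θ.toRingHom := by
    rw [← hgen, Ideal.span_le]
    rintro _ ⟨j, rfl⟩
    exact hb j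
  let χ : E →+* R' := RingHom.liftOfSurjective f.toRingHom hf ⟨Θ.toRingHom, hΘker⟩
  have hχ : ∀ P, χ (f P) = Θ P := fun P =>
    RingHom.liftOfSurjective_comp_apply f.toRingHom hf ⟨Θ.toRingHom, hΘker⟩ P
  have hχR : ∀ r : R, χ (algebraMap R E r) = algebraMap R R' r := by
    intro r
    have h1 : algebraMap R E r = f (MvPolynomial.C r) := by
      rw [← MvPolynomial.algebraMap_eq, AlgHom.commutes]
    rw [h1, hχ, ← MvPolynomial.algebraMap_eq, AlgHom.commutes]
  have hιcomap : (maxCpl Λ).comap ι₀ = maximalIdeal Λ := by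
    rw [← hmaxeq]
    exact IsLocalRing.maximalIdeal_comap (algebraMap Λ (Cpl Λ))
  have hmem : ∀ x : R, algebraMap R R' x ∈ p' ↔ x ∈ p := by
    intro x
    rw [← hcomap, Ideal.mem_comap]
  have hψdet : ∀ x : R', ψ x ∈ maxCpl Λ → x ∈ p' := by
    intro x hx
    by_contra hxp
    obtain ⟨r, s, hs, hrs⟩ := hres x
    have h1 := hψmax _ hrs
    rw [map_sub, map_mul] at h1
    have h2 : ψ (algebraMap R R' r) ∈ maxCpl Λ := by
      have := Ideal.sub_mem _ (Ideal.mul_mem_left _ (ψ (algebraMap R R' s)) hx) h1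
      simpa using this
    rw [hψ] at h2
    have h3 : algebraMap R Λ r ∈ maximalIdeal Λ := by
      rw [← hιcomap]; exact h2
    rw [IsLocalization.AtPrime.to_map_mem_maximal_iff Λ p] at h3
    have h4 : algebraMap R R' s * x ∈ p' := by
      have := Ideal.add_mem _ hrs ((hmem r).mpr h3)
      simpa using this
    rcases Ideal.IsPrime.mem_or_mem inferInstance h4 with h5 | h5
    · exact hs ((hmem s).mp h5)
    · exact hxp h5
  refine ⟨R', inferInstance, inferInstance, het, ψ, p', hp', χ, hψ, hcomap, hres,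
    fun x => ⟨hψmax x, hψdet x⟩, hχR, ?_⟩
  intro e
  obtain ⟨P, rfl⟩ := hf e
  rw [hχ]
  refine mvPolynomial_sub_mem (ι.comp f.toRingHom) (ψ.comp Θ.toRingHom) (maxCpl Λ)
    (fun r => ?_) (fun i => ?_) P
  · have h1 : Θ (MvPolynomial.C r) = algebraMap R R' r := by
      rw [← MvPolynomial.algebraMap_eq, AlgHom.commutes]
    have h2 : f (MvPolynomial.C r) = algebraMap R E r := by
      rw [← MvPolynomial.algebraMap_eq, AlgHom.commutes]
    change ι (f (MvPolynomial.C r)) - ψ (Θ (MvPolynomial.C r)) ∈ maxCpl Λ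
    rw [h1, h2, hψ, hι, sub_self]
    exact Ideal.zero_mem _
  · change ι (f (MvPolynomial.X i)) - ψ (Θ (MvPolynomial.X i)) ∈ maxCpl Λ
    have h1 : Θ (MvPolynomial.X i) = b i := MvPolynomial.aeval_X b i
    rw [h1]
    have := hab i
    rwa [pow_one] at this

end Groth.Agent.Helper8.AppU
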