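import Mathlib
import Groth.Agent.Lib.Helper8.AppU2
import Groth.Agent.Lib.Helper8.AppU3

/-!
# Approximation of a common étale neighbourhood over the completion (ring-level step B)
-/

set_option autoImplicit false
universe u

namespace Groth.Agent.Helper8.AppU

open IsLocalRing TensorProduct Groth.Agent.Helper8.AppS Groth.Agent.Helper8.AppB
  Groth.Agent.Helper8.Dsc

attribute [local instance] Algebra.TensorProduct.rightAlgebra

variable {R : Type u} [CommRing R] [IsNoetherianRing R] (p : Ideal R) [p.IsPrime]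
variable (Λ : Type u) [CommRing Λ] [IsLocalRing Λ] [Algebra R Λ] [IsLocalization.AtPrime Λ p]

set_option maxHeartbeats 6400000 in
set_option synthInstance.maxHeartbeats 400000 in
set_option maxSynthPendingDepth 3 in
theorem exists_approx_nbhd (hG : CAlg.IsGRing Λ)
    {C A B : Type u} [CommRing C] [Algebra.FiniteType ℤ C] [CommRing A] [Algebra R A]
    [Algebra.FiniteType R A] [CommRing B] [Algebra C B] [Algebra.FiniteType C B]
    [Algebra C (Cpl Λ)]
    {Dh : Type u} [CommRing Dh]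
    (φA : Cpl Λ ⊗[R] A →+* Dh) (hφA : φA.Etale)
    (φB : Cpl Λ ⊗[C] B →+* Dh) (hφB : φB.Etale)
    (hcompat : ∀ l : Cpl Λ, φA (l ⊗ₜ 1) = φB (l ⊗ₜ 1))
    (q : Ideal Dh) [q.IsPrime]
    (hq : ∀ l : Cpl Λ, φA (l ⊗ₜ 1) ∈ q ↔ l ∈ maxCpl Λ)
    (hresA : ∀ d : Dh, ∃ r s : A, φA (1 ⊗ₜ s) ∉ q ∧ φA (1 ⊗ₜ s) * d - φA (1 ⊗ₜ r) ∈ q)
    (hresB : ∀ d : Dh, ∃ r s : Cpl Λ ⊗[C] B, φB s ∉ q ∧ φB s * d - φB r ∈ q) :
    ∃ (R' : Type u) (_ : CommRing R') (_ : Algebra R R'), Algebra.Etale R R' ∧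
      ∃ (p' : Ideal R') (_ : p'.IsPrime), p'.comap (algebraMap R R') = p ∧
        (∀ x : R', ∃ r s : R, s ∉ p ∧ algebraMap R R' s * x - algebraMap R R' r ∈ p') ∧
      ∃ (_ : Algebra C R'),
        (∀ c : C, algebraMap C R' c ∈ p' ↔ algebraMap C (Cpl Λ) c ∈ maxCpl Λ) ∧
      ∃ (D : Type u) (_ : CommRing D) (φA' : R' ⊗[R] A →+* D) (φB' : R' ⊗[C] B →+* D),
        φA'.Etale ∧ φB'.Etale ∧ (∀ r' : R', φA' (r' ⊗ₜ 1) = φB' (r' ⊗ₜ 1)) ∧
      ∃ (q' : Ideal D) (_ : q'.IsPrime),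
        (∀ r' : R', φA' (r' ⊗ₜ 1) ∈ q' ↔ r' ∈ p') ∧
        (∀ a : A, φA' (1 ⊗ₜ a) ∈ q' ↔ φA (1 ⊗ₜ a) ∈ q) ∧
        (∀ b : B, φB' (1 ⊗ₜ b) ∈ q' ↔ φB (1 ⊗ₜ b) ∈ q) ∧
        (∀ d : D, ∃ r s : A, φA' (1 ⊗ₜ s) ∉ q' ∧ φA' (1 ⊗ₜ s) * d - φA' (1 ⊗ₜ r) ∈ q') ∧
        (∀ d : D, ∃ r s : R' ⊗[C] B, φB' s ∉ q' ∧ φB' s * d - φB' r ∈ q') := by
  classical
  haveI : IsNoetherianRing Λ := hG.1
  obtain ⟨E, _, _, _, _, ι, hιR, hιC, P, _, _, αE, βE, j, hαE, hβE, hjE, hjα, hjβ⟩ :=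
    exists_model φA hφA φB hφB hcompat
  have hιR' : ∀ r : R, ι (algebraMap R E r) = algebraMap Λ (Cpl Λ) (algebraMap R Λ r) := by
    intro r
    rw [hιR]
    exact IsScalarTower.algebraMap_apply R Λ (Cpl Λ) r
  obtain ⟨R', _, _, het, ψ, p', hp', χ, hψ, hcomap, hres, hp'iff, hχR, hcong⟩ :=
    exists_approx_hom p Λ hG E ι hιR'
  haveI := hp'
  letI aER' : Algebra E R' := χ.toAlgebra
  haveI tRER' : IsScalarTower R E R' := IsScalarTower.of_algebraMap_eq' (RingHom.ext fun r => by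
    show algebraMap R R' r = χ (algebraMap R E r)
    rw [hχR])
  letI aCR' : Algebra C R' := ((algebraMap E R').comp (algebraMap C E)).toAlgebra
  haveI tCER' : IsScalarTower C E R' := IsScalarTower.of_algebraMap_eq' rfl
  have haCR' : ∀ c : C, algebraMap C R' c = χ (algebraMap C E c) := fun c => rfl
  obtain ⟨a', ha', ha'f⟩ := etale_baseChange_map (R₁ := R) (K := E) (K' := R') (M := A) αE hαE
  obtain ⟨b', hb', hb'f⟩ := etale_baseChange_map (R₁ := C) (K := E) (K' := R') (M := B) βE hβE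
  -- the residue field point
  let ρh : Dh →+* q.ResidueField := algebraMap Dh q.ResidueField
  have hρh : ∀ d : Dh, ρh d = 0 ↔ d ∈ q := fun d => by
    rw [← RingHom.mem_ker, Ideal.ker_algebraMap_residueField]
  let lamh : Cpl Λ →+* Dh :=
    φA.comp (Algebra.TensorProduct.includeLeftRingHom : Cpl Λ →+* Cpl Λ ⊗[R] A)
  have hlamh : ∀ l : Cpl Λ, lamh l = φA (l ⊗ₜ 1) := fun l => rfl
  let f₁ : R' →+* q.ResidueField := ρh.comp (lamh.comp ψ)
  let f₂ : P →+* q.ResidueField := ρh.comp j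
  have hf₁ : ∀ r' : R', f₁ r' = 0 ↔ r' ∈ p' := fun r' => by
    show ρh (lamh (ψ r')) = 0 ↔ _
    rw [hρh, hlamh, hq, hp'iff]
  letI aEK : Algebra E q.ResidueField := (f₁.comp (algebraMap E R')).toAlgebra
  let F₁ : R' →ₐ[E] q.ResidueField := { f₁ with commutes' := fun e => rfl }
  let F₂ : P →ₐ[E] q.ResidueField :=
    { f₂ with
      commutes' := fun e => by
        show ρh (j (algebraMap E P e)) = ρh (lamh (ψ (χ e)))
        rw [hjE, ← hlamh, ← sub_eq_zero, ← map_sub, ← map_sub, hρh, hlamh, hq]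
        exact hcong e }
  let ρ' : R' ⊗[E] P →+* q.ResidueField := (Algebra.TensorProduct.productMap F₁ F₂).toRingHom
  have hρ' : ∀ (r' : R') (π : P), ρ' (r' ⊗ₜ π) = f₁ r' * f₂ π := fun r' π =>
    Algebra.TensorProduct.productMap_apply_tmul F₁ F₂ r' π
  have hαE1 : αE ((1 : E) ⊗ₜ[R] (1 : A)) = 1 := by
    rw [← Algebra.TensorProduct.one_def, map_one]
  have hβE1 : βE ((1 : E) ⊗ₜ[C] (1 : B)) = 1 := by
    rw [← Algebra.TensorProduct.one_def, map_one]
  have hρ'A : ∀ a : A, ρ' (a' (1 ⊗ₜ a)) = ρh (φA (1 ⊗ₜ a)) := fun a => by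
    rw [ha'f, hρ', map_one, one_mul]
    show ρh (j (αE (1 ⊗ₜ a))) = _
    rw [hjα]
  have hρ'B : ∀ b : B, ρ' (b' (1 ⊗ₜ b)) = ρh (φB (1 ⊗ₜ b)) := fun b => by
    rw [hb'f, hρ', map_one, one_mul]
    show ρh (j (βE (1 ⊗ₜ b))) = _
    rw [hjβ]
  have hρ'RA : ∀ r' : R', ρ' (a' (r' ⊗ₜ 1)) = f₁ r' := fun r' => by
    rw [ha'f, hρ', hαE1, map_one, mul_one]
  have hρ'RB : ∀ r' : R', ρ' (b' (r' ⊗ₜ 1)) = f₁ r' := fun r' => by
    rw [hb'f, hρ', hβE1, map_one, mul_one]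
  have hab' : ∀ r' : R', a' (r' ⊗ₜ 1) = b' (r' ⊗ₜ 1) := fun r' => by
    rw [ha'f, hb'f, hαE1, hβE1]
  have hmemR : ∀ x : R, algebraMap R R' x ∈ p' ↔ x ∈ p := by
    intro x
    rw [← hcomap, Ideal.mem_comap]
  -- the image of `R'` lies in the subfield generated by the image of `R`
  have hf₁R : ∀ (K₀ : Subfield q.ResidueField),
      (∀ r : R, f₁ (algebraMap R R' r) ∈ K₀) → ∀ r' : R', f₁ r' ∈ K₀ := by
    intro K₀ hK₀ r'
    obtain ⟨r, s, hs, hrs⟩ := hres r'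
    have h1 : f₁ (algebraMap R R' s) * f₁ r' = f₁ (algebraMap R R' r) := by
      rw [← map_mul, ← sub_eq_zero, ← map_sub, hf₁]
      exact hrs
    have h2 : f₁ (algebraMap R R' s) ≠ 0 := by
      rw [Ne, hf₁, hmemR]
      exact hs
    have h3 : f₁ r' = f₁ (algebraMap R R' r) / f₁ (algebraMap R R' s) := by
      rw [eq_div_iff h2, mul_comm]
      exact h1
    rw [h3]
    exact div_mem (hK₀ r) (hK₀ s)
  refine ⟨R', inferInstance, inferInstance, het, p', hp', hcomap, hres, aCR', ?_, R' ⊗[E] P,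
    inferInstance, a'.toRingHom, b'.toRingHom, ha', hb', hab', RingHom.ker ρ',
    RingHom.ker_isPrime ρ', ?_, ?_, ?_, ?_, ?_⟩
  · intro c
    rw [haCR', hp'iff, ← hιC]
    constructor
    · intro h
      have := Ideal.add_mem _ (hcong (algebraMap C E c)) h
      simpa using this
    · intro h
      have := Ideal.sub_mem _ h (hcong (algebraMap C E c))
      simpa using this
  · intro r'
    show ρ' (a' (r' ⊗ₜ 1)) = 0 ↔ _
    rw [hρ'RA, hf₁]
  · intro a
    show ρ' (a' (1 ⊗ₜ a)) = 0 ↔ _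
    rw [hρ'A, hρh]
  · intro b
    show ρ' (b' (1 ⊗ₜ b)) = 0 ↔ _
    rw [hρ'B, hρh]
  · -- residue field over `A`
    let fA : A →+* R' ⊗[E] P :=
      a'.toRingHom.comp (Algebra.TensorProduct.includeRight : A →ₐ[R] R' ⊗[R] A).toRingHom
    have hfA : ∀ a : A, fA a = a' (1 ⊗ₜ a) := fun a => rfl
    refine (resGen_iff fA ρ').mp ?_
    have hrange : ∀ a : A, ρh (φA (1 ⊗ₜ a)) ∈ Subfield.closure (Set.range (ρ'.comp fA)) :=
      fun a => Subfield.subset_closure ⟨a, by rw [RingHom.comp_apply, hfA, hρ'A]⟩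
    have h1 : ∀ r' : R', f₁ r' ∈ Subfield.closure (Set.range (ρ'.comp fA)) := by
      refine hf₁R _ fun r => ?_
      refine Subfield.subset_closure ⟨algebraMap R A r, ?_⟩
      rw [RingHom.comp_apply, hfA, ← hρ'RA]
      congr 2
      rw [Algebra.algebraMap_eq_smul_one, Algebra.algebraMap_eq_smul_one, TensorProduct.smul_tmul]
    have h2 : ∀ π : P, f₂ π ∈ Subfield.closure (Set.range (ρ'.comp fA)) := by
      intro π
      obtain ⟨r, s, hs, hrs⟩ := hresA (j π)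
      have h3 : ρh (φA (1 ⊗ₜ s)) * ρh (j π) = ρh (φA (1 ⊗ₜ r)) := by
        rw [← map_mul, ← sub_eq_zero, ← map_sub, hρh]
        exact hrs
      have h4 : ρh (φA (1 ⊗ₜ s)) ≠ 0 := by
        rw [Ne, hρh]
        exact hs
      have h5 : f₂ π = ρh (φA (1 ⊗ₜ r)) / ρh (φA (1 ⊗ₜ s)) := by
        rw [eq_div_iff h4, mul_comm]
        exact h3
      rw [h5]
      exact div_mem (hrange r) (hrange s)
    intro d
    induction d using TensorProduct.induction_on with
    | zero => rw [map_zero]; exact zero_mem _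
    | tmul r' π => rw [hρ']; exact mul_mem (h1 r') (h2 π)
    | add x y hx hy => rw [map_add]; exact add_mem hx hy
  · -- residue field over `R' ⊗ B`
    refine (resGen_iff b'.toRingHom ρ').mp ?_
    have h1 : ∀ r' : R', f₁ r' ∈ Subfield.closure (Set.range (ρ'.comp b'.toRingHom)) :=
      fun r' => Subfield.subset_closure ⟨r' ⊗ₜ 1, hρ'RB r'⟩
    have hl : ∀ l : Cpl Λ, ρh (lamh l) ∈ Subfield.closure (Set.range (ρ'.comp b'.toRingHom)) := by
      intro l
      obtain ⟨r, s, hs, hrs⟩ := exists_sub_mem_maxCpl p Λ l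
      have h3 : f₁ (algebraMap R R' s) * ρh (lamh l) = f₁ (algebraMap R R' r) := by
        show ρh (lamh (ψ _)) * _ = ρh (lamh (ψ _))
        rw [hψ, hψ, ← map_mul, ← map_mul, ← sub_eq_zero, ← map_sub, ← map_sub, hρh, hlamh, hq]
        exact hrs
      have h4 : f₁ (algebraMap R R' s) ≠ 0 := by
        rw [Ne, hf₁, hmemR]
        exact hs
      have h5 : ρh (lamh l) = f₁ (algebraMap R R' r) / f₁ (algebraMap R R' s) := by
        rw [eq_div_iff h4, mul_comm]
        exact h3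
      rw [h5]
      exact div_mem (h1 _) (h1 _)
    have hz : ∀ z : Cpl Λ ⊗[C] B,
        ρh (φB z) ∈ Subfield.closure (Set.range (ρ'.comp b'.toRingHom)) := by
      intro z
      induction z using TensorProduct.induction_on with
      | zero => rw [map_zero, map_zero]; exact zero_mem _
      | tmul l b =>
        have h6 : (l ⊗ₜ[C] b : Cpl Λ ⊗[C] B) = (l ⊗ₜ 1) * (1 ⊗ₜ b) := by
          rw [Algebra.TensorProduct.tmul_mul_tmul, mul_one, one_mul]
        rw [h6, map_mul, map_mul, ← hcompat, ← hlamh]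
        refine mul_mem (hl l) ?_
        exact Subfield.subset_closure ⟨1 ⊗ₜ b, hρ'B b⟩
      | add x y hx hy => rw [map_add, map_add]; exact add_mem hx hy
    have h2 : ∀ π : P, f₂ π ∈ Subfield.closure (Set.range (ρ'.comp b'.toRingHom)) := by
      intro π
      obtain ⟨r, s, hs, hrs⟩ := hresB (j π)
      have h3 : ρh (φB s) * ρh (j π) = ρh (φB r) := by
        rw [← map_mul, ← sub_eq_zero, ← map_sub, hρh]
        exact hrs
      have h4 : ρh (φB s) ≠ 0 := by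
        rw [Ne, hρh]
        exact hs
      have h5 : f₂ π = ρh (φB r) / ρh (φB s) := by
        rw [eq_div_iff h4, mul_comm]
        exact h3
      rw [h5]
      exact div_mem (hz r) (hz s)
    intro d
    induction d using TensorProduct.induction_on with
    | zero => rw [map_zero]; exact zero_mem _
    | tmul r' π => rw [hρ']; exact mul_mem (h1 r') (h2 π)
    | add x y hx hy => rw [map_add]; exact add_mem hx hy

end Groth.Agent.Helper8.AppU
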