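import Mathlib
import Groth.Agent.Lib.Helper8.AppU1
import Groth.Agent.Lib.Helper8.AppU5

/-!
# The completion of a local ring of `X` agrees with the completion of the corresponding local ring
of the base change of `X` to the completion of the local ring of the base
-/

set_option autoImplicit false
universe u

namespace Groth.Agent.Helper8.AppU

open IsLocalRing TensorProduct Groth.Agent.Helper8.AppS Groth.Agent.Helper8.AppB

variable {R : Type u} [CommRing R] [IsNoetherianRing R] (p : Ideal R) [p.IsPrime]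
variable (Λ : Type u) [CommRing Λ] [IsLocalRing Λ] [IsNoetherianRing Λ] [Algebra R Λ]
  [IsLocalization.AtPrime Λ p]
variable {A : Type u} [CommRing A] [Algebra R A] [Algebra.FiniteType R A]
  (x : Ideal A) [x.IsPrime]
variable (LX : Type u) [CommRing LX] [IsLocalRing LX] [IsNoetherianRing LX] [Algebra A LX]
  [IsLocalization.AtPrime LX x]
variable (σX : Λ →+* LX) [IsLocalHom σX]

omit [IsNoetherianRing R] in
set_option maxHeartbeats 3200000 in
set_option synthInstance.maxHeartbeats 400000 in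
set_option maxSynthPendingDepth 3 in
theorem exists_cpl_tensor_localization
    (hxp : x.comap (algebraMap R A) = p)
    (hσX : σX.comp (algebraMap R Λ) = (algebraMap A LX).comp (algebraMap R A)) :
    ∃ (xσ : Ideal (Cpl Λ ⊗[R] A)) (_ : xσ.IsPrime)
      (e : Cpl LX ≃+* Cpl (Localization.AtPrime xσ)),
      (∀ a : A, (1 : Cpl Λ) ⊗ₜ[R] a ∈ xσ ↔ a ∈ x) ∧
      (∀ l : Cpl Λ, l ⊗ₜ[R] (1 : A) ∈ xσ ↔ l ∈ maxCpl Λ) ∧
      (∀ z : Cpl Λ ⊗[R] A, ∃ a t : A, t ∉ x ∧ ((1 : Cpl Λ) ⊗ₜ[R] t) * z - 1 ⊗ₜ a ∈ xσ) ∧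
      (∀ l : Cpl Λ, e (cplMap σX l) =
        algebraMap (Localization.AtPrime xσ) (Cpl (Localization.AtPrime xσ))
          (algebraMap (Cpl Λ ⊗[R] A) (Localization.AtPrime xσ) (l ⊗ₜ 1))) := by
  classical
  haveI : IsNoetherianRing (Cpl Λ) := Groth.Agent.Helper8.AdicReg.isNoetherianRing _ _
  haveI : IsNoetherianRing (Cpl Λ ⊗[R] A) := Algebra.FiniteType.isNoetherianRing (Cpl Λ) _
  let ιX : LX →+* Cpl LX := algebraMap LX (Cpl LX)
  let ĝ : Cpl Λ →+* Cpl LX := cplMap σX
  letI aRC : Algebra R (Cpl LX) := (ĝ.comp (algebraMap R (Cpl Λ))).toAlgebra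
  let G₁ : Cpl Λ →ₐ[R] Cpl LX := { ĝ with commutes' := fun r => rfl }
  let G₂ : A →ₐ[R] Cpl LX :=
    { ιX.comp (algebraMap A LX) with
      commutes' := fun r => by
        show ιX (algebraMap A LX (algebraMap R A r)) = cplMap σX (algebraMap R (Cpl Λ) r)
        rw [IsScalarTower.algebraMap_apply R Λ (Cpl Λ), cplMap_algebraMap]
        have := RingHom.congr_fun hσX r
        simp only [RingHom.comp_apply] at this
        rw [this] }
  let w : Cpl Λ ⊗[R] A →+* Cpl LX := (Algebra.TensorProduct.productMap G₁ G₂).toRingHom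
  have hw : ∀ (l : Cpl Λ) (a : A), w (l ⊗ₜ a) = ĝ l * ιX (algebraMap A LX a) := fun l a =>
    Algebra.TensorProduct.productMap_apply_tmul G₁ G₂ l a
  have hιXcomap : ∀ c : LX, ιX c ∈ maximalIdeal (Cpl LX) ↔ c ∈ maximalIdeal LX := by
    intro c
    have := IsLocalRing.maximalIdeal_comap ιX
    exact (Ideal.ext_iff.mp this c)
  have hĝcomap : ∀ l : Cpl Λ, ĝ l ∈ maximalIdeal (Cpl LX) ↔ l ∈ maximalIdeal (Cpl Λ) := by
    intro l
    have := IsLocalRing.maximalIdeal_comap ĝ
    exact (Ideal.ext_iff.mp this l)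
  let xσ : Ideal (Cpl Λ ⊗[R] A) := (maximalIdeal (Cpl LX)).comap w
  haveI hxσ : xσ.IsPrime := Ideal.comap_isPrime w _
  have hmemA : ∀ a : A, (1 : Cpl Λ) ⊗ₜ[R] a ∈ xσ ↔ a ∈ x := by
    intro a
    rw [Ideal.mem_comap, hw, map_one, one_mul, hιXcomap,
      IsLocalization.AtPrime.to_map_mem_maximal_iff LX x]
  have hmemL : ∀ l : Cpl Λ, l ⊗ₜ[R] (1 : A) ∈ xσ ↔ l ∈ maxCpl Λ := by
    intro l
    rw [Ideal.mem_comap, hw, map_one, map_one, mul_one, hĝcomap,
      AdicCompletion.maximalIdeal_eq_map]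
  -- the localization
  let f₁ : Cpl Λ ⊗[R] A →+* Localization.AtPrime xσ := algebraMap _ _
  have hf₁mem : ∀ z : Cpl Λ ⊗[R] A, f₁ z ∈ maximalIdeal (Localization.AtPrime xσ) ↔ z ∈ xσ :=
    fun z => IsLocalization.AtPrime.to_map_mem_maximal_iff (Localization.AtPrime xσ) xσ z
  have hf₁unit : ∀ z : Cpl Λ ⊗[R] A, z ∉ xσ → IsUnit (f₁ z) := fun z hz =>
    IsLocalization.map_units (Localization.AtPrime xσ) (⟨z, hz⟩ : xσ.primeCompl)
  have hu_units : ∀ s : x.primeCompl,
      IsUnit ((f₁.comp (Algebra.TensorProduct.includeRight :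
        A →ₐ[R] Cpl Λ ⊗[R] A).toRingHom) (s : A)) := by
    intro s
    refine hf₁unit _ ?_
    show (1 : Cpl Λ) ⊗ₜ[R] (s : A) ∉ xσ
    rw [hmemA]
    exact s.2
  let u : LX →+* Localization.AtPrime xσ := IsLocalization.lift (M := x.primeCompl) hu_units
  have hu : ∀ a : A, u (algebraMap A LX a) = f₁ (1 ⊗ₜ a) := fun a =>
    IsLocalization.lift_eq hu_units a
  have hw_units : ∀ z : xσ.primeCompl, IsUnit (w (z : Cpl Λ ⊗[R] A)) := by
    intro z
    have := z.2
    by_contra h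
    exact this h
  let w₁ : Localization.AtPrime xσ →+* Cpl LX := IsLocalization.lift (M := xσ.primeCompl) hw_units
  have hw₁ : ∀ z : Cpl Λ ⊗[R] A, w₁ (f₁ z) = w z := fun z => IsLocalization.lift_eq hw_units z
  have hψg : w₁.comp u = algebraMap LX (Cpl LX) := by
    refine IsLocalization.ringHom_ext x.primeCompl (RingHom.ext fun a => ?_)
    show w₁ (u (algebraMap A LX a)) = ιX (algebraMap A LX a)
    rw [hu, hw₁, hw, map_one, one_mul]
  -- `u` is local
  have hu_local : ∀ c : LX, c ∈ maximalIdeal LX →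
      u c ∈ maximalIdeal (Localization.AtPrime xσ) := by
    intro c hc
    rw [IsLocalRing.mem_maximalIdeal, mem_nonunits_iff]
    intro hunit
    have h1 : IsUnit (ιX c) := by
      have := hunit.map w₁
      have h2 : w₁ (u c) = ιX c := RingHom.congr_fun hψg c
      rwa [h2] at this
    have h3 := (hιXcomap c).mpr hc
    rw [IsLocalRing.mem_maximalIdeal, mem_nonunits_iff] at h3
    exact h3 h1
  let J : Ideal (Localization.AtPrime xσ) := (maximalIdeal LX).map u
  have hJle : J ≤ maximalIdeal (Localization.AtPrime xσ) := by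
    rw [Ideal.map_le_iff_le_comap]
    exact fun c hc => hu_local c hc
  have hRA : ∀ r : R, (algebraMap R (Cpl Λ) r) ⊗ₜ[R] (1 : A) =
      (1 : Cpl Λ) ⊗ₜ[R] algebraMap R A r := by
    intro r
    rw [Algebra.algebraMap_eq_smul_one, Algebra.algebraMap_eq_smul_one, TensorProduct.smul_tmul]
  have hJR : ∀ r ∈ p, f₁ (algebraMap R (Cpl Λ) r ⊗ₜ 1) ∈ J := by
    intro r hr
    rw [hRA, ← hu]
    refine Ideal.mem_map_of_mem u ?_
    rw [IsLocalization.AtPrime.to_map_mem_maximal_iff LX x, ← Ideal.mem_comap, hxp]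
    exact hr
  have hunitR : ∀ s : R, s ∉ p → IsUnit (f₁ (algebraMap R (Cpl Λ) s ⊗ₜ 1)) := by
    intro s hs
    refine hf₁unit _ ?_
    rw [hRA, hmemA, ← Ideal.mem_comap, hxp]
    exact hs
  let lam₁ : Cpl Λ →+* Localization.AtPrime xσ :=
    f₁.comp (Algebra.TensorProduct.includeLeftRingHom : Cpl Λ →+* Cpl Λ ⊗[R] A)
  have hlam₁ : ∀ l : Cpl Λ, lam₁ l = f₁ (l ⊗ₜ 1) := fun l => rfl
  have hJm : ∀ m ∈ maxCpl Λ, lam₁ m ∈ J := by
    have hle : maxCpl Λ ≤ J.comap lam₁ := by
      rw [Ideal.map_le_iff_le_comap]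
      intro μ hμ
      rw [Ideal.mem_comap, Ideal.mem_comap]
      obtain ⟨⟨r, s⟩, hrs⟩ := IsLocalization.surj p.primeCompl μ
      have hr : r ∈ p := by
        rw [← IsLocalization.AtPrime.to_map_mem_maximal_iff Λ p, ← hrs]
        exact Ideal.mul_mem_right _ _ hμ
      have h1 : lam₁ (algebraMap Λ (Cpl Λ) μ) * lam₁ (algebraMap R (Cpl Λ) s) =
          lam₁ (algebraMap R (Cpl Λ) r) := by
        rw [← map_mul, IsScalarTower.algebraMap_apply R Λ (Cpl Λ),
          IsScalarTower.algebraMap_apply R Λ (Cpl Λ), ← map_mul, hrs]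
      have h2 := hunitR s s.2
      have h3 := hJR r hr
      rw [← hlam₁, ← h1] at h3
      exact (Ideal.mul_unit_mem_iff_mem _ h2).mp h3
    exact fun m hm => hle hm
  have hl : ∀ l : Cpl Λ, ∃ c : LX, lam₁ l - u c ∈ J := by
    intro l
    obtain ⟨r, s, hs, hrs⟩ := exists_sub_mem_maxCpl p Λ l
    have hsx : algebraMap R A s ∉ x := by
      rw [← Ideal.mem_comap, hxp]
      exact hs
    refine ⟨IsLocalization.mk' LX (algebraMap R A r) (⟨algebraMap R A s, hsx⟩ : x.primeCompl), ?_⟩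
    have h2 := hunitR s hs
    rw [← Ideal.unit_mul_mem_iff_mem _ h2]
    have h3 := hJm _ hrs
    have h4 : f₁ (algebraMap R (Cpl Λ) s ⊗ₜ 1) * (lam₁ l - u (IsLocalization.mk' LX
        (algebraMap R A r) (⟨algebraMap R A s, hsx⟩ : x.primeCompl))) =
        lam₁ (algebraMap Λ (Cpl Λ) (algebraMap R Λ s) * l -
          algebraMap Λ (Cpl Λ) (algebraMap R Λ r)) := by
      rw [mul_sub, map_sub, map_mul, hlam₁ (algebraMap Λ _ _), hlam₁ (algebraMap Λ _ _),
        ← IsScalarTower.algebraMap_apply R Λ (Cpl Λ), ← IsScalarTower.algebraMap_apply R Λ (Cpl Λ)]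
      congr 1
      rw [hRA, hRA, ← hu, ← hu, ← map_mul]
      congr 1
      rw [mul_comm]
      exact IsLocalization.mk'_spec LX _ _
    rw [h4]
    exact h3
  have hz : ∀ z : Cpl Λ ⊗[R] A, ∃ c : LX, f₁ z - u c ∈ J := by
    intro z
    induction z using TensorProduct.induction_on with
    | zero => exact ⟨0, by simp⟩
    | tmul l a =>
      obtain ⟨c, hc⟩ := hl l
      refine ⟨c * algebraMap A LX a, ?_⟩
      have : f₁ (l ⊗ₜ a) - u (c * algebraMap A LX a) = (lam₁ l - u c) * f₁ (1 ⊗ₜ a) := by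
        rw [map_mul, hu, sub_mul, hlam₁, ← map_mul, Algebra.TensorProduct.tmul_mul_tmul, mul_one,
          one_mul]
      rw [this]
      exact Ideal.mul_mem_right _ _ hc
    | add z₁ z₂ h₁ h₂ =>
      obtain ⟨c₁, hc₁⟩ := h₁
      obtain ⟨c₂, hc₂⟩ := h₂
      refine ⟨c₁ + c₂, ?_⟩
      have : f₁ (z₁ + z₂) - u (c₁ + c₂) = (f₁ z₁ - u c₁) + (f₁ z₂ - u c₂) := by
        rw [map_add, map_add]; ring
      rw [this]
      exact Ideal.add_mem _ hc₁ hc₂
  have hkey : ∀ z : Localization.AtPrime xσ, ∃ c : LX, z - u c ∈ J := by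
    intro z
    obtain ⟨⟨n, t⟩, hnt⟩ := IsLocalization.surj xσ.primeCompl z
    obtain ⟨cn, hcn⟩ := hz n
    obtain ⟨ct, hct⟩ := hz t
    have htunit : IsUnit (f₁ t) := hf₁unit t t.2
    have hctunit : IsUnit ct := by
      by_contra h
      have h1 : ct ∈ maximalIdeal LX := h
      have h2 : u ct ∈ J := Ideal.mem_map_of_mem u h1
      have h3 : f₁ t ∈ maximalIdeal (Localization.AtPrime xσ) := by
        have := Ideal.add_mem _ (hJle hct) (hJle h2)
        simpa using this
      exact h3 htunit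
    obtain ⟨ci, hci⟩ := hctunit.exists_right_inv
    refine ⟨cn * ci, ?_⟩
    have huct : IsUnit (u ct) := hctunit.map u
    rw [← Ideal.unit_mul_mem_iff_mem _ (huct.mul htunit)]
    have h5 : u ct * u ci = 1 := by rw [← map_mul, hci, map_one]
    have hnt' : z * f₁ t = f₁ n := hnt
    have : u ct * f₁ t * (z - u (cn * ci)) = u ct * (f₁ n - u cn) - (f₁ t - u ct) * u cn := by
      rw [map_mul]
      linear_combination (u ct) * hnt' - (f₁ t * u cn) * h5
    rw [this]
    exact Ideal.sub_mem _ (Ideal.mul_mem_left _ _ hcn) (Ideal.mul_mem_right _ _ hct)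
  have hres : ∀ z : Localization.AtPrime xσ, ∃ c : LX,
      z - u c ∈ maximalIdeal (Localization.AtPrime xσ) := fun z => by
    obtain ⟨c, hc⟩ := hkey z
    exact ⟨c, hJle hc⟩
  have hunr : (maximalIdeal LX).map u = maximalIdeal (Localization.AtPrime xσ) := by
    refine le_antisymm hJle ?_
    intro z hz'
    obtain ⟨c, hc⟩ := hkey z
    have h1 : u c ∈ maximalIdeal (Localization.AtPrime xσ) := by
      have := Ideal.sub_mem _ hz' (hJle hc)
      simpa using this
    have h2 : c ∈ maximalIdeal LX := by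
      by_contra h
      have hcu : IsUnit c := by
        rwa [IsLocalRing.mem_maximalIdeal, mem_nonunits_iff, not_not] at h
      exact h1 (hcu.map u)
    have h3 : u c ∈ J := Ideal.mem_map_of_mem u h2
    have := Ideal.add_mem _ hc h3
    simpa using this
  haveI : IsNoetherianRing (Localization.AtPrime xσ) :=
    IsLocalization.isNoetherianRing xσ.primeCompl _ inferInstance
  obtain ⟨e, he⟩ := exists_cplEquiv_of_retraction u hunr hres w₁ hψg
  refine ⟨xσ, hxσ, e, hmemA, hmemL, ?_, ?_⟩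
  · intro z
    obtain ⟨c, hc⟩ := hz z
    obtain ⟨⟨a, t⟩, hat⟩ := IsLocalization.surj x.primeCompl c
    have hat' : c * algebraMap A LX t = algebraMap A LX a := hat
    refine ⟨a, t, t.2, ?_⟩
    rw [← hf₁mem, map_sub, map_mul, ← hu, ← hu, ← hat', map_mul]
    have : u (algebraMap A LX t) * f₁ z - u c * u (algebraMap A LX t) =
        u (algebraMap A LX t) * (f₁ z - u c) := by ring
    rw [this]
    exact Ideal.mul_mem_left _ _ (hJle hc)
  · intro l
    have : cplMap σX l = w₁ (f₁ (l ⊗ₜ 1)) := by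
      rw [hw₁, hw, map_one, map_one, mul_one]
    rw [this, he]

end Groth.Agent.Helper8.AppU
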