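import Mathlib
import Groth.Agent.Lib.Helper8.AppU4
import Groth.Agent.Lib.Helper8.AppU6
import Groth.Agent.Lib.Helper8.AppS18
import Groth.Agent.Lib.Helper8.GRing9

/-!
# Étale neighbourhoods matching a completed base change: the ring-theoretic statement
-/

set_option autoImplicit false
universe u

namespace Groth.Agent.Helper8.AppU

open IsLocalRing TensorProduct Groth.Agent.Helper8.AppS Groth.Agent.Helper8.AppB

attribute [local instance] Algebra.TensorProduct.rightAlgebra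

variable {R : Type u} [CommRing R] [IsNoetherianRing R] (p : Ideal R) [p.IsPrime]
variable (Λ : Type u) [CommRing Λ] [IsLocalRing Λ] [Algebra R Λ] [IsLocalization.AtPrime Λ p]

set_option maxHeartbeats 6400000 in
set_option synthInstance.maxHeartbeats 400000 in
set_option maxSynthPendingDepth 3 in
theorem exists_nbhd_ring (hG : CAlg.IsGRing Λ)
    {C A B : Type u} [CommRing C] [Algebra.FiniteType ℤ C] [CommRing A] [Algebra R A]
    [Algebra.FiniteType R A] [CommRing B] [Algebra C B] [Algebra.FiniteType C B]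
    [Algebra C (Cpl Λ)]
    (x : Ideal A) [x.IsPrime] (hxp : x.comap (algebraMap R A) = p)
    (LX : Type u) [CommRing LX] [IsLocalRing LX] [Algebra A LX] [IsLocalization.AtPrime LX x]
    (σX : Λ →+* LX) (hσX : σX.comp (algebraMap R Λ) = (algebraMap A LX).comp (algebraMap R A))
    (yσ : Ideal (Cpl Λ ⊗[C] B)) [yσ.IsPrime]
    (hyσ : ∀ l : Cpl Λ, l ⊗ₜ[C] (1 : B) ∈ yσ ↔ l ∈ maxCpl Λ)
    (LY : Type u) [CommRing LY] [IsLocalRing LY] [Algebra (Cpl Λ ⊗[C] B) LY]
    [IsLocalization.AtPrime LY yσ]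
    (φ : Cpl LX ≃+* Cpl LY)
    (hφ : ∀ μ : Λ, φ (algebraMap LX (Cpl LX) (σX μ)) =
      algebraMap LY (Cpl LY) (algebraMap (Cpl Λ ⊗[C] B) LY (algebraMap Λ (Cpl Λ) μ ⊗ₜ 1))) :
    ∃ (R' : Type u) (_ : CommRing R') (_ : Algebra R R'), Algebra.Etale R R' ∧
      ∃ (p' : Ideal R') (_ : p'.IsPrime), p'.comap (algebraMap R R') = p ∧
        (∀ x : R', ∃ r s : R, s ∉ p ∧ algebraMap R R' s * x - algebraMap R R' r ∈ p') ∧
      ∃ (_ : Algebra C R'),
        (∀ c : C, algebraMap C R' c ∈ p' ↔ algebraMap C (Cpl Λ) c ∈ maxCpl Λ) ∧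
      ∃ (D : Type u) (_ : CommRing D) (φA' : R' ⊗[R] A →+* D) (φB' : R' ⊗[C] B →+* D),
        φA'.Etale ∧ φB'.Etale ∧ (∀ r' : R', φA' (r' ⊗ₜ 1) = φB' (r' ⊗ₜ 1)) ∧
      ∃ (q' : Ideal D) (_ : q'.IsPrime),
        (∀ r' : R', φA' (r' ⊗ₜ 1) ∈ q' ↔ r' ∈ p') ∧
        (∀ a : A, φA' (1 ⊗ₜ a) ∈ q' ↔ a ∈ x) ∧
        (∀ b : B, φB' (1 ⊗ₜ b) ∈ q' ↔ (1 : Cpl Λ) ⊗ₜ[C] b ∈ yσ) ∧
        (∀ d : D, ∃ r s : A, φA' (1 ⊗ₜ s) ∉ q' ∧ φA' (1 ⊗ₜ s) * d - φA' (1 ⊗ₜ r) ∈ q') ∧
        (∀ d : D, ∃ r s : R' ⊗[C] B, φB' s ∉ q' ∧ φB' s * d - φB' r ∈ q') := by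
  classical
  haveI : IsNoetherianRing Λ := hG.1
  haveI : IsNoetherianRing (Cpl Λ) := Groth.Agent.Helper8.AdicReg.isNoetherianRing _ _
  haveI : IsNoetherianRing A := Algebra.FiniteType.isNoetherianRing R A
  haveI : IsNoetherianRing LX := IsLocalization.isNoetherianRing x.primeCompl LX inferInstance
  haveI : IsNoetherianRing (Cpl Λ ⊗[C] B) := Algebra.FiniteType.isNoetherianRing (Cpl Λ) _
  haveI : IsNoetherianRing LY := IsLocalization.isNoetherianRing yσ.primeCompl LY inferInstance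
  have hmaxΛ : maximalIdeal (Cpl Λ) = maxCpl Λ := AdicCompletion.maximalIdeal_eq_map
  -- `σX` is local
  haveI hσXloc : IsLocalHom σX := by
    refine ⟨fun μ hμ => ?_⟩
    by_contra hnu
    have hμm : μ ∈ maximalIdeal Λ := hnu
    obtain ⟨⟨r, s⟩, hrs⟩ := IsLocalization.surj p.primeCompl μ
    have hrs' : μ * algebraMap R Λ s = algebraMap R Λ r := hrs
    have hr : r ∈ p := by
      rw [← IsLocalization.AtPrime.to_map_mem_maximal_iff Λ p, ← hrs']
      exact Ideal.mul_mem_right _ _ hμm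
    have h1 : σX (algebraMap R Λ r) ∈ maximalIdeal LX := by
      have := RingHom.congr_fun hσX r
      simp only [RingHom.comp_apply] at this
      rw [this, IsLocalization.AtPrime.to_map_mem_maximal_iff LX x, ← Ideal.mem_comap, hxp]
      exact hr
    have h2 : IsUnit (σX (algebraMap R Λ s)) :=
      (IsLocalization.map_units Λ s).map σX
    rw [← hrs', map_mul] at h1
    exact h1 (hμ.mul h2)
  obtain ⟨xσ, hxσ, e, hmemA, hmemL, hfrac, he⟩ :=
    exists_cpl_tensor_localization p Λ x LX σX hxp hσX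
  haveI := hxσ
  haveI : IsNoetherianRing (Cpl Λ ⊗[R] A) := Algebra.FiniteType.isNoetherianRing (Cpl Λ) _
  haveI : IsNoetherianRing (Localization.AtPrime xσ) :=
    IsLocalization.isNoetherianRing xσ.primeCompl _ inferInstance
  -- the two structure maps out of the completion
  let σX' : Cpl Λ →+* Localization.AtPrime xσ :=
    (algebraMap (Cpl Λ ⊗[R] A) (Localization.AtPrime xσ)).comp
      (algebraMap (Cpl Λ) (Cpl Λ ⊗[R] A))
  let σY' : Cpl Λ →+* LY :=
    (algebraMap (Cpl Λ ⊗[C] B) LY).comp (algebraMap (Cpl Λ) (Cpl Λ ⊗[C] B))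
  have hσX' : ∀ l : Cpl Λ, σX' l = algebraMap (Cpl Λ ⊗[R] A) (Localization.AtPrime xσ) (l ⊗ₜ 1) :=
    fun l => rfl
  have hσY' : ∀ l : Cpl Λ, σY' l = algebraMap (Cpl Λ ⊗[C] B) LY (l ⊗ₜ 1) := fun l => rfl
  -- density
  let f₁' : Cpl Λ →+* Cpl LX := (φ.symm : Cpl LY →+* Cpl LX).comp
    ((algebraMap LY (Cpl LY)).comp σY')
  haveI hf₁'loc : IsLocalHom f₁' := by
    refine ⟨fun l hl => ?_⟩
    have h1 : IsUnit (algebraMap LY (Cpl LY) (σY' l)) := by
      have := hl.map (φ : Cpl LX →+* Cpl LY)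
      simpa [f₁'] using this
    have h2 : IsUnit (σY' l) := isUnit_of_map_unit (algebraMap LY (Cpl LY)) _ h1
    rw [hσY', IsLocalization.AtPrime.isUnit_to_map_iff LY yσ] at h2
    have h3 : l ∉ maxCpl Λ := fun h => h2 ((hyσ l).mpr h)
    rw [← hmaxΛ] at h3
    by_contra hnu
    exact h3 hnu
  have hdens : f₁' = cplMap σX := by
    refine ringHom_ext_of_algebraMap f₁' (cplMap σX) fun μ => ?_
    rw [cplMap_algebraMap]
    show φ.symm (algebraMap LY (Cpl LY) (σY' (algebraMap Λ (Cpl Λ) μ))) = _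
    rw [hσY', ← hφ, RingEquiv.symm_apply_apply]
  -- the core statement over the completion
  have hGc : CAlg.IsGRing (Cpl Λ) := Groth.Agent.Helper8.GRing.isGRing_of_isAdicComplete (Cpl Λ)
  let φc : Cpl LY ≃+* Cpl (Localization.AtPrime xσ) := φ.symm.trans e
  have hφc : φc.toRingHom.comp ((algebraMap LY (Cpl LY)).comp σY') =
      (algebraMap (Localization.AtPrime xσ) (Cpl (Localization.AtPrime xσ))).comp σX' := by
    refine RingHom.ext fun l => ?_
    show e (f₁' l) = _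
    rw [hdens, he]
    rfl
  obtain ⟨A', _, _, hetA', p'', hp'', θ, hcomapA, hresA₀, hθR, hcomapθ, hθet, hresB₀, -⟩ :=
    exists_common_etale_nbhd_core (R := Cpl Λ) (A := Cpl Λ ⊗[R] A) (B := Cpl Λ ⊗[C] B)
      (LS := Cpl Λ) (L := Localization.AtPrime xσ) (LY := LY) xσ yσ (RingHom.id (Cpl Λ)) σX' σY'
      rfl rfl hGc φc hφc 0
  haveI := hp''
  let φA : Cpl Λ ⊗[R] A →+* A' := algebraMap (Cpl Λ ⊗[R] A) A'
  have hφA : φA.Etale := RingHom.etale_algebraMap.mpr hetA'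
  have hmemφA : ∀ z : Cpl Λ ⊗[R] A, φA z ∈ p'' ↔ z ∈ xσ := by
    intro z
    rw [← hcomapA, Ideal.mem_comap]
  have hmemθ : ∀ z : Cpl Λ ⊗[C] B, θ z ∈ p'' ↔ z ∈ yσ := by
    intro z
    rw [← hcomapθ, Ideal.mem_comap]
  have hcompat : ∀ l : Cpl Λ, φA (l ⊗ₜ 1) = θ (l ⊗ₜ 1) := by
    intro l
    have := RingHom.congr_fun hθR l
    simp only [RingHom.comp_apply] at this
    exact this.symm
  have hq : ∀ l : Cpl Λ, φA (l ⊗ₜ 1) ∈ p'' ↔ l ∈ maxCpl Λ := by
    intro l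
    rw [hmemφA, hmemL]
  -- residue field over `A`
  have hresA : ∀ d : A', ∃ r s : A, φA (1 ⊗ₜ s) ∉ p'' ∧ φA (1 ⊗ₜ s) * d - φA (1 ⊗ₜ r) ∈ p'' := by
    let ρh : A' →+* p''.ResidueField := algebraMap A' p''.ResidueField
    have hker : RingHom.ker ρh = p'' := Ideal.ker_algebraMap_residueField p''
    have hρh : ∀ d : A', ρh d = 0 ↔ d ∈ p'' := fun d => by
      rw [← RingHom.mem_ker, hker]
    let fA : A →+* A' :=
      φA.comp (Algebra.TensorProduct.includeRight : A →ₐ[R] Cpl Λ ⊗[R] A).toRingHom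
    have hfA : ∀ a : A, fA a = φA (1 ⊗ₜ a) := fun a => rfl
    have hgen : ResGen fA ρh := by
      have hzK : ∀ z : Cpl Λ ⊗[R] A,
          ρh (φA z) ∈ Subfield.closure (Set.range (ρh.comp fA)) := by
        intro z
        obtain ⟨a, t, ht, hat⟩ := hfrac z
        have h1 : ρh (fA t) * ρh (φA z) = ρh (fA a) := by
          rw [← map_mul, ← sub_eq_zero, ← map_sub, hρh, hfA, hfA, ← map_mul, ← map_sub, hmemφA]
          exact hat
        have h2 : ρh (fA t) ≠ 0 := by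
          rw [Ne, hρh, hfA, hmemφA, hmemA]
          exact ht
        have h3 : ρh (φA z) = ρh (fA a) / ρh (fA t) := by
          rw [eq_div_iff h2, mul_comm]
          exact h1
        rw [h3]
        exact div_mem (Subfield.subset_closure ⟨a, rfl⟩) (Subfield.subset_closure ⟨t, rfl⟩)
      intro d
      obtain ⟨r₀, s₀, hs₀, hrs₀⟩ := hresA₀ d
      have h1 : ρh (φA s₀) * ρh d = ρh (φA r₀) := by
        rw [← map_mul, ← sub_eq_zero, ← map_sub, hρh]
        exact hrs₀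
      have h2 : ρh (φA s₀) ≠ 0 := by
        rw [Ne, hρh, hmemφA]
        exact hs₀
      have h3 : ρh d = ρh (φA r₀) / ρh (φA s₀) := by
        rw [eq_div_iff h2, mul_comm]
        exact h1
      rw [h3]
      exact div_mem (hzK r₀) (hzK s₀)
    have := (resGen_iff fA ρh).mp hgen
    rw [hker] at this
    exact this
  have hresB : ∀ d : A', ∃ r s : Cpl Λ ⊗[C] B, θ s ∉ p'' ∧ θ s * d - θ r ∈ p'' := by
    intro d
    obtain ⟨r, s, hs, hrs⟩ := hresB₀ d
    exact ⟨r, s, fun h => hs ((hmemθ s).mp h), hrs⟩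
  obtain ⟨R', _, _, hetR', p', hp', hcomap', hres', aCR', hCp', D, _, φA', φB', hφA', hφB', hcompat',
    q', hq', hqR, hqA, hqB, hresA', hresB'⟩ :=
    exists_approx_nbhd p Λ hG φA hφA θ hθet hcompat p'' hq hresA hresB
  refine ⟨R', inferInstance, inferInstance, hetR', p', hp', hcomap', hres', aCR', hCp', D,
    inferInstance, φA', φB', hφA', hφB', hcompat', q', hq', hqR, ?_, ?_, hresA', hresB'⟩
  · intro a
    rw [hqA, hmemφA, hmemA]
  · intro b
    rw [hqB, hmemθ]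

end Groth.Agent.Helper8.AppU
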