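import Mathlib
import Groth.Agent.Lib.Helper8.AppS4
import Groth.Agent.Lib.Helper8.AppS6

/-!
# Scheme-level helper lemmas: stalks and residue fields of morphisms out of affine schemes
-/

set_option autoImplicit false
universe u

open AlgebraicGeometry CategoryTheory Limits TopologicalSpace Opposite IsLocalRing

namespace Groth.Agent.Helper8.AppU

open Groth.Agent.Helper8.AppS

/-- Compatibility of `toStalkSpec` with the stalk maps of `Spec.map`. -/
theorem toStalkSpec_stalkMap {R₁ R₂ : CommRingCat.{u}} (f : R₁ ⟶ R₂) (u : ↥(Spec R₂)) :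
    toStalkSpec R₁ (Spec.map f u) ≫ (Spec.map f).stalkMap u = f ≫ toStalkSpec R₂ u := by
  unfold toStalkSpec
  have h2 := Scheme.Hom.germ_stalkMap (Spec.map f) ⊤ u trivial
  rw [Category.assoc, h2, ← Category.assoc, ← Category.assoc, Scheme.ΓSpecIso_inv_naturality]
  rfl

/-- Variant for a morphism which is only propositionally of the form `Spec.map f`. -/
theorem toStalkSpec_stalkMap_of_eq {R₁ R₂ : CommRingCat.{u}} (h : Spec R₂ ⟶ Spec R₁)
    (f : R₁ ⟶ R₂) (hf : h = Spec.map f) (u : ↥(Spec R₂)) :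
    toStalkSpec R₁ (h u) ≫ h.stalkMap u = f ≫ toStalkSpec R₂ u := by
  subst hf
  exact toStalkSpec_stalkMap f u

/-- Triviality of the residue field extension for `Spec.map f` followed by an open immersion. -/
theorem residueFieldMap_bijective {R₁ R₂ : CommRingCat.{u}} (f : R₁ ⟶ R₂) (u : ↥(Spec R₂))
    (hres : ∀ d : R₂, ∃ r s : R₁, f.hom s ∉ u.asIdeal ∧ f.hom s * d - f.hom r ∈ u.asIdeal)
    {Z : Scheme.{u}} (j : Spec R₁ ⟶ Z) [IsOpenImmersion j] :
    Function.Bijective ((Spec.map f ≫ j).residueFieldMap u) := by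
  haveI : u.asIdeal.IsPrime := PrimeSpectrum.isPrime u
  haveI : (Spec.map f u).asIdeal.IsPrime := PrimeSpectrum.isPrime (Spec.map f u)
  rw [Scheme.residueFieldMap_comp]
  have h1 : Function.Bijective (j.residueFieldMap (Spec.map f u)) :=
    ConcreteCategory.bijective_of_isIso _
  suffices h2 : Function.Bijective ((Spec.map f).residueFieldMap u) by
    exact h2.comp h1
  constructor
  · exact ((Spec.map f).residueFieldMap u).hom.injective
  · intro zbar
    obtain ⟨z, rfl⟩ := IsLocalRing.residue_surjective zbar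
    letI algf : Algebra R₁ R₂ := f.hom.toAlgebra
    letI alg1 : Algebra R₁ ((Spec R₁).presheaf.stalk (Spec.map f u)) :=
      (toStalkSpec R₁ (Spec.map f u)).hom.toAlgebra
    haveI loc1 : IsLocalization.AtPrime ((Spec R₁).presheaf.stalk (Spec.map f u))
      (Spec.map f u).asIdeal := isLocalization_toStalkSpec R₁ (Spec.map f u)
    letI alg2 : Algebra R₂ ((Spec R₂).presheaf.stalk u) := (toStalkSpec R₂ u).hom.toAlgebra
    haveI loc2 : IsLocalization.AtPrime ((Spec R₂).presheaf.stalk u) u.asIdeal :=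
      isLocalization_toStalkSpec R₂ u
    have hg : ((Spec.map f).stalkMap u).hom.comp
        (algebraMap R₁ ((Spec R₁).presheaf.stalk (Spec.map f u))) =
        (algebraMap R₂ ((Spec R₂).presheaf.stalk u)).comp (algebraMap R₁ R₂) :=
      congrArg CommRingCat.Hom.hom (toStalkSpec_stalkMap f u)
    have hcomap : u.asIdeal.comap (algebraMap R₁ R₂) = (Spec.map f u).asIdeal := rfl
    have hres' : ∀ x : R₂, ∃ r s : R₁, s ∉ (Spec.map f u).asIdeal ∧
        algebraMap R₁ R₂ s * x - algebraMap R₁ R₂ r ∈ u.asIdeal := by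
      intro d
      obtain ⟨r, s, hs, hrs⟩ := hres d
      exact ⟨r, s, hs, hrs⟩
    obtain ⟨l, hl⟩ := exists_sub_mem_maximalIdeal (Spec.map f u).asIdeal u.asIdeal
      ((Spec.map f).stalkMap u).hom hg hcomap hres' z
    refine ⟨IsLocalRing.residue _ l, ?_⟩
    change IsLocalRing.ResidueField.map ((Spec.map f).stalkMap u).hom
      (IsLocalRing.residue _ _) = _
    rw [IsLocalRing.ResidueField.map_residue]
    symm
    rw [← sub_eq_zero, ← map_sub, IsLocalRing.residue_eq_zero_iff]
    exact hl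

/-- The structure map from the ring of an affine open chart to a stalk of the ambient scheme. -/
noncomputable def chartToStalk {R₂ : CommRingCat.{u}} {Z : Scheme.{u}} (j : Spec R₂ ⟶ Z)
    [IsOpenImmersion j] (u : ↥(Spec R₂)) : R₂ ⟶ Z.presheaf.stalk (j u) :=
  toStalkSpec R₂ u ≫ inv (j.stalkMap u)

theorem isLocalization_chartToStalk {R₂ : CommRingCat.{u}} {Z : Scheme.{u}} (j : Spec R₂ ⟶ Z)
    [IsOpenImmersion j] (u : ↥(Spec R₂)) :
    @IsLocalization.AtPrime R₂ _ (Z.presheaf.stalk (j u)) _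
      (chartToStalk j u).hom.toAlgebra u.asIdeal (PrimeSpectrum.isPrime u) := by
  haveI : u.asIdeal.IsPrime := PrimeSpectrum.isPrime u
  letI alg2 : Algebra R₂ ((Spec R₂).presheaf.stalk u) := (toStalkSpec R₂ u).hom.toAlgebra
  haveI loc2 : IsLocalization.AtPrime ((Spec R₂).presheaf.stalk u) u.asIdeal :=
    isLocalization_toStalkSpec R₂ u
  letI alg3 : Algebra R₂ (Z.presheaf.stalk (j u)) := (chartToStalk j u).hom.toAlgebra
  let e₀ : (Spec R₂).presheaf.stalk u ≃+* Z.presheaf.stalk (j u) :=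
    (asIso (j.stalkMap u)).symm.commRingCatIsoToRingEquiv
  let e : (Spec R₂).presheaf.stalk u ≃ₐ[R₂] Z.presheaf.stalk (j u) :=
    AlgEquiv.ofRingEquiv (f := e₀) (fun r => rfl)
  exact IsLocalization.isLocalization_of_algEquiv u.asIdeal.primeCompl e

end Groth.Agent.Helper8.AppU
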