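import Mathlib

/-!
# Scheme-level helper lemmas: finite type over `ℤ`, affine charts of fibre products
-/

set_option autoImplicit false
universe u

open AlgebraicGeometry CategoryTheory Limits TopologicalSpace Opposite TensorProduct

namespace Groth.Agent.Helper8.AppU

/-- Sections over an affine open of a scheme locally of finite type over `ℤ` form a finite type
`ℤ`-algebra. -/
theorem finiteType_int_of_isAffineOpen {T : Scheme.{u}}
    [LocallyOfFiniteType (specULiftZIsTerminal.from T)] {T₀ : T.Opens} (hT₀ : IsAffineOpen T₀) :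
    Algebra.FiniteType ℤ Γ(T, T₀) := by
  have e : T₀ ≤ (specULiftZIsTerminal.from T) ⁻¹ᵁ ⊤ := fun _ _ => trivial
  have h1 := (specULiftZIsTerminal.from T).finiteType_appLE (isAffineOpen_top _) hT₀ e
  let g : ℤ →+* Γ(Spec (.of (ULift.{u} ℤ)), ⊤) :=
    (Scheme.ΓSpecIso (.of (ULift.{u} ℤ))).inv.hom.comp
      (ULift.ringEquiv.symm : ℤ ≃+* ULift.{u} ℤ).toRingHom
  have hg : Function.Surjective g := by
    have h2 : Function.Bijective (Scheme.ΓSpecIso (.of (ULift.{u} ℤ))).inv.hom :=
      ConcreteCategory.bijective_of_isIso (Scheme.ΓSpecIso (.of (ULift.{u} ℤ))).inv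
    exact h2.surjective.comp (ULift.ringEquiv.symm : ℤ ≃+* ULift.{u} ℤ).surjective
  have h3 := h1.comp (RingHom.FiniteType.of_surjective g hg)
  have h4 : ((specULiftZIsTerminal.from T).appLE ⊤ T₀ e).hom.comp g = algebraMap ℤ Γ(T, T₀) :=
    Subsingleton.elim _ _
  rw [h4] at h3
  exact RingHom.finiteType_algebraMap.mp h3

section chart

variable {Y T : Scheme.{u}} (q : Y ⟶ T) {C B K : Type u} [CommRing C] [CommRing B] [CommRing K]
  [Algebra C B] [Algebra C K]
  (iY : Spec (.of B) ⟶ Y) (iT : Spec (.of C) ⟶ T) [IsOpenImmersion iY] [Mono iT]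
  (e₁ : Spec.map (CommRingCat.ofHom (algebraMap C B)) ≫ iT = iY ≫ q)
  (τ : Spec (.of K) ⟶ T) (e₂ : Spec.map (CommRingCat.ofHom (algebraMap C K)) ≫ iT = τ)

/-- The identification `Spec (K ⊗ B) ≅ Spec B ×_{Spec C} Spec K`. -/
noncomputable def tensorChartIso :
    Spec (.of (K ⊗[C] B)) ≅ pullback (Spec.map (CommRingCat.ofHom (algebraMap C B)))
      (Spec.map (CommRingCat.ofHom (algebraMap C K))) :=
  Scheme.Spec.mapIso ((Algebra.TensorProduct.comm C B K).toRingEquiv.toCommRingCatIso).op ≪≫
    (pullbackSpecIso C B K).symm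

theorem tensorChartIso_hom_fst :
    (tensorChartIso (C := C) (B := B) (K := K)).hom ≫ pullback.fst _ _ =
      Spec.map (CommRingCat.ofHom
        (Algebra.TensorProduct.includeRight : B →ₐ[C] K ⊗[C] B).toRingHom) := by
  unfold tensorChartIso
  rw [Iso.trans_hom, Category.assoc, Iso.symm_hom, pullbackSpecIso_inv_fst]
  show Spec.map _ ≫ Spec.map _ = _
  rw [← Spec.map_comp]
  congr 1

theorem tensorChartIso_hom_snd :
    (tensorChartIso (C := C) (B := B) (K := K)).hom ≫ pullback.snd _ _ =
      Spec.map (CommRingCat.ofHom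
        (Algebra.TensorProduct.includeLeftRingHom : K →+* K ⊗[C] B)) := by
  unfold tensorChartIso
  rw [Iso.trans_hom, Category.assoc, Iso.symm_hom, pullbackSpecIso_inv_snd]
  show Spec.map _ ≫ Spec.map _ = _
  rw [← Spec.map_comp]
  congr 1

/-- The affine chart `Spec (K ⊗ B) → Y ×_T Spec K`. -/
noncomputable def tensorChart : Spec (.of (K ⊗[C] B)) ⟶ pullback q τ :=
  (tensorChartIso (C := C) (B := B) (K := K)).hom ≫
    pullback.map _ _ q τ iY (𝟙 _) iT e₁ (by rw [Category.id_comp]; exact e₂)

instance : IsOpenImmersion (tensorChart q iY iT e₁ τ e₂) := by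
  unfold tensorChart
  infer_instance

omit [IsOpenImmersion iY] [Mono iT] in
theorem tensorChart_fst :
    tensorChart q iY iT e₁ τ e₂ ≫ pullback.fst q τ =
      Spec.map (CommRingCat.ofHom
        (Algebra.TensorProduct.includeRight : B →ₐ[C] K ⊗[C] B).toRingHom) ≫ iY := by
  unfold tensorChart
  rw [Category.assoc, pullback.lift_fst, ← Category.assoc, tensorChartIso_hom_fst]

omit [IsOpenImmersion iY] [Mono iT] in
theorem tensorChart_snd :
    tensorChart q iY iT e₁ τ e₂ ≫ pullback.snd q τ =
      Spec.map (CommRingCat.ofHom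
        (Algebra.TensorProduct.includeLeftRingHom : K →+* K ⊗[C] B)) := by
  unfold tensorChart
  rw [Category.assoc, pullback.lift_snd, ← Category.assoc, tensorChartIso_hom_snd,
    Category.comp_id]

omit [IsOpenImmersion iY] in
theorem mem_range_tensorChart (z : ↥(pullback q τ))
    (hz : pullback.fst q τ z ∈ Set.range iY) :
    z ∈ Set.range (tensorChart q iY iT e₁ τ e₂) := by
  have h1 : z ∈ Set.range (pullback.map _ _ q τ iY (𝟙 _) iT e₁
      (by rw [Category.id_comp]; exact e₂)) := by
    rw [Scheme.Pullback.range_map]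
    refine ⟨hz, ?_⟩
    exact ⟨pullback.snd q τ z, rfl⟩
  obtain ⟨t, ht⟩ := h1
  refine ⟨(tensorChartIso (C := C) (B := B) (K := K)).inv t, ?_⟩
  unfold tensorChart
  rw [Scheme.Hom.comp_apply, ← Scheme.Hom.comp_apply (tensorChartIso (C := C) (B := B) (K := K)).inv,
    Iso.inv_hom_id]
  exact ht

end chart

/-- `A → R' ⊗ A → D` is étale when `R → R'` and `R' ⊗ A → D` are. -/
theorem etale_comp_includeRight {R R' A D : Type u} [CommRing R] [CommRing R'] [CommRing A]
    [CommRing D] [Algebra R R'] [Algebra R A] [Algebra.Etale R R']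
    (φ : R' ⊗[R] A →+* D) (hφ : φ.Etale) :
    (φ.comp (Algebra.TensorProduct.includeRight : A →ₐ[R] R' ⊗[R] A).toRingHom).Etale := by
  have h1 : (algebraMap A (A ⊗[R] R')).Etale := RingHom.etale_algebraMap.mpr inferInstance
  have h2 : RingHom.Etale (Algebra.TensorProduct.comm R A R').toAlgHom.toRingHom := by
    apply RingHom.Etale.of_bijective
    exact (Algebra.TensorProduct.comm R A R').bijective
  have h3 := RingHom.Etale.stableUnderComposition _ _ h1 h2
  have h4 : (Algebra.TensorProduct.comm R A R').toAlgHom.toRingHom.comp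
      (algebraMap A (A ⊗[R] R')) =
      (Algebra.TensorProduct.includeRight : A →ₐ[R] R' ⊗[R] A).toRingHom := by
    refine RingHom.ext fun a => ?_
    show Algebra.TensorProduct.comm R A R' (a ⊗ₜ 1) = 1 ⊗ₜ a
    rfl
  rw [h4] at h3
  exact RingHom.Etale.stableUnderComposition _ _ h3 hφ

end Groth.Agent.Helper8.AppU
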