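import Mathlib
import Groth.Agent.Lib.Helper8.AppU7
import Groth.Agent.Lib.Helper8.AppU8
import Groth.Agent.Lib.Helper8.AppU9
import Groth.Prelude.Def_Found

/-!
# Étale neighbourhoods matching a completed base change (scheme version)
-/

set_option autoImplicit false
universe u

open AlgebraicGeometry CategoryTheory Limits TopologicalSpace Opposite IsLocalRing TensorProduct

namespace Groth.Agent.Helper8.AppU

open Groth.Agent.Helper8.AppS

attribute [local instance] Algebra.TensorProduct.rightAlgebra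

set_option maxHeartbeats 6400000 in
set_option synthInstance.maxHeartbeats 400000 in
set_option maxSynthPendingDepth 3 in
theorem exists_etale_nbhds_scheme {X Y S T : Scheme.{u}} [IsLocallyNoetherian S]
    (p : X ⟶ S) (q : Y ⟶ T) [LocallyOfFiniteType p] [LocallyOfFiniteType q]
    [LocallyOfFiniteType (specULiftZIsTerminal.from T)]
    (x : X) (hG : CAlg.IsGRing ↑(S.presheaf.stalk (p x))) (y : Y)
    (σ : ↑(T.presheaf.stalk (q y)) →+*
      AdicCompletion (maximalIdeal ↑(S.presheaf.stalk (p x))) ↑(S.presheaf.stalk (p x)))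
    [IsLocalHom σ]
    (yσ : ↑(pullback q (Spec.map (CommRingCat.ofHom σ) ≫ T.fromSpecStalk (q y))))
    (hyσ : (pullback.fst q (Spec.map (CommRingCat.ofHom σ) ≫ T.fromSpecStalk (q y))) yσ = y)
    (hyσc : (pullback.snd q (Spec.map (CommRingCat.ofHom σ) ≫ T.fromSpecStalk (q y))) yσ =
      closedPoint (AdicCompletion (maximalIdeal ↑(S.presheaf.stalk (p x))) ↑(S.presheaf.stalk (p x))))
    (φ : AdicCompletion (maximalIdeal ↑(X.presheaf.stalk x)) ↑(X.presheaf.stalk x) ≃+*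
      AdicCompletion (maximalIdeal ↑((pullback q (Spec.map (CommRingCat.ofHom σ) ≫ T.fromSpecStalk (q y))).presheaf.stalk yσ))
        ↑((pullback q (Spec.map (CommRingCat.ofHom σ) ≫ T.fromSpecStalk (q y))).presheaf.stalk yσ))
    (hφ : φ.toRingHom.comp ((algebraMap ↑(X.presheaf.stalk x)
        (AdicCompletion (maximalIdeal ↑(X.presheaf.stalk x)) ↑(X.presheaf.stalk x))).comp (p.stalkMap x).hom) =
      ((algebraMap _ (AdicCompletion (maximalIdeal
          ↑((pullback q (Spec.map (CommRingCat.ofHom σ) ≫ T.fromSpecStalk (q y))).presheaf.stalk yσ)) _)).comp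
        ((pullback.snd q (Spec.map (CommRingCat.ofHom σ) ≫ T.fromSpecStalk (q y))).stalkMap yσ).hom).comp
        ((((Spec (CommRingCat.of (AdicCompletion (maximalIdeal ↑(S.presheaf.stalk (p x))) ↑(S.presheaf.stalk (p x))))).presheaf.germ
            ⊤ ((pullback.snd q (Spec.map (CommRingCat.ofHom σ) ≫ T.fromSpecStalk (q y))) yσ) trivial).hom.comp
          ((Scheme.ΓSpecIso (CommRingCat.of (AdicCompletion (maximalIdeal ↑(S.presheaf.stalk (p x)))
            ↑(S.presheaf.stalk (p x))))).inv.hom.comp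
            (algebraMap ↑(S.presheaf.stalk (p x))
              (AdicCompletion (maximalIdeal ↑(S.presheaf.stalk (p x))) ↑(S.presheaf.stalk (p x)))))))) :
    ∃ (V : Scheme.{u}) (v : V) (e : V ⟶ S) (τ : V ⟶ T) (W : Scheme.{u}) (w : W) (a : W ⟶ X)
      (b : W ⟶ pullback q τ),
      Etale e ∧ e v = p x ∧ Function.Bijective (e.residueFieldMap v) ∧ τ v = q y ∧
      Etale a ∧ a w = x ∧ Function.Bijective (a.residueFieldMap w) ∧
      a ≫ p = b ≫ pullback.snd q τ ≫ e ∧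
      Etale b ∧ (pullback.fst q τ) (b w) = y ∧ (pullback.snd q τ) (b w) = v ∧
      Function.Bijective (b.residueFieldMap w) := by
  classical
  -- affine opens
  obtain ⟨S₀, hS₀, hsS₀, -⟩ := exists_isAffineOpen_mem_and_subset (x := p x) (U := ⊤) trivial
  obtain ⟨V, hV, hxV, hVS⟩ := exists_isAffineOpen_mem_and_subset (x := x) (U := p ⁻¹ᵁ S₀) hsS₀
  obtain ⟨T₀, hT₀, htT₀, -⟩ := exists_isAffineOpen_mem_and_subset (x := q y) (U := ⊤) trivial
  obtain ⟨W₀, hW₀, hyW₀, hWT⟩ :=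
    exists_isAffineOpen_mem_and_subset (x := y) (U := q ⁻¹ᵁ T₀) htT₀
  haveI : IsNoetherianRing Γ(S, S₀) := IsLocallyNoetherian.component_noetherian ⟨S₀, hS₀⟩
  letI algRA : Algebra Γ(S, S₀) Γ(X, V) := (p.appLE S₀ V hVS).hom.toAlgebra
  letI algCB : Algebra Γ(T, T₀) Γ(Y, W₀) := (q.appLE T₀ W₀ hWT).hom.toAlgebra
  haveI ftA : Algebra.FiniteType Γ(S, S₀) Γ(X, V) := p.finiteType_appLE hS₀ hV hVS
  haveI ftB : Algebra.FiniteType Γ(T, T₀) Γ(Y, W₀) := q.finiteType_appLE hT₀ hW₀ hWT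
  haveI ftC : Algebra.FiniteType ℤ Γ(T, T₀) := finiteType_int_of_isAffineOpen hT₀
  letI algRΛ : Algebra Γ(S, S₀) (S.presheaf.stalk (p x)) :=
    (S.presheaf.germ S₀ (p x) hsS₀).hom.toAlgebra
  haveI locΛ : IsLocalization.AtPrime (S.presheaf.stalk (p x))
    (hS₀.primeIdealOf ⟨p x, hsS₀⟩).asIdeal := hS₀.isLocalization_stalk ⟨p x, hsS₀⟩
  letI algAL : Algebra Γ(X, V) (X.presheaf.stalk x) := (X.presheaf.germ V x hxV).hom.toAlgebra
  haveI locLX : IsLocalization.AtPrime (X.presheaf.stalk x) (hV.primeIdealOf ⟨x, hxV⟩).asIdeal :=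
    hV.isLocalization_stalk ⟨x, hxV⟩
  haveI : IsNoetherianRing (S.presheaf.stalk (p x)) := hG.1
  -- the `C`-algebra structure on the completion
  let σC : Γ(T, T₀) →+* Cpl (S.presheaf.stalk (p x)) :=
    σ.comp (T.presheaf.germ T₀ (q y) htT₀).hom
  letI algCΛ : Algebra Γ(T, T₀) (Cpl (S.presheaf.stalk (p x))) := σC.toAlgebra
  -- the chart of `Y_σ`
  have e₁ : Spec.map (CommRingCat.ofHom (algebraMap Γ(T, T₀) Γ(Y, W₀))) ≫ hT₀.fromSpec =
      hW₀.fromSpec ≫ q := IsAffineOpen.SpecMap_appLE_fromSpec q hT₀ hW₀ hWT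
  have e₂σ : Spec.map (CommRingCat.ofHom
      (algebraMap Γ(T, T₀) (Cpl (S.presheaf.stalk (p x))))) ≫ hT₀.fromSpec =
      Spec.map (CommRingCat.ofHom σ) ≫ T.fromSpecStalk (q y) := by
    rw [← hT₀.fromSpecStalk_eq_fromSpecStalk htT₀, IsAffineOpen.fromSpecStalk, ← Category.assoc,
      ← Spec.map_comp]
    rfl
  have hyσmem : yσ ∈ Set.range (tensorChart (C := ↑Γ(T, T₀)) (B := ↑Γ(Y, W₀))
      (K := Cpl (S.presheaf.stalk (p x))) q hW₀.fromSpec hT₀.fromSpec e₁ _ e₂σ) := by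
    refine mem_range_tensorChart q _ _ e₁ _ e₂σ yσ ?_
    rw [hyσ, hW₀.range_fromSpec]
    exact hyW₀
  obtain ⟨u, rfl⟩ := hyσmem
  haveI hu_prime : u.asIdeal.IsPrime := PrimeSpectrum.isPrime u
  have hJfst := tensorChart_fst (C := ↑Γ(T, T₀)) (B := ↑Γ(Y, W₀))
      (K := Cpl (S.presheaf.stalk (p x))) q hW₀.fromSpec hT₀.fromSpec e₁ _ e₂σ
  have hJsnd := tensorChart_snd (C := ↑Γ(T, T₀)) (B := ↑Γ(Y, W₀))
      (K := Cpl (S.presheaf.stalk (p x))) q hW₀.fromSpec hT₀.fromSpec e₁ _ e₂σ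
  -- the prime `u` lies over `y` and over the closed point
  have huB : ∀ b : Γ(Y, W₀), (1 : Cpl (S.presheaf.stalk (p x))) ⊗ₜ[Γ(T, T₀)] b ∈ u.asIdeal ↔
      b ∈ (hW₀.primeIdealOf ⟨y, hyW₀⟩).asIdeal := by
    have h1 : hW₀.fromSpec (Spec.map (CommRingCat.ofHom
        (Algebra.TensorProduct.includeRight :
          Γ(Y, W₀) →ₐ[Γ(T, T₀)] Cpl (S.presheaf.stalk (p x)) ⊗[Γ(T, T₀)] Γ(Y, W₀)).toRingHom) u) =
        y := by
      rw [← Scheme.Hom.comp_apply, ← hJfst]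
      exact hyσ
    have h2 : Spec.map (CommRingCat.ofHom
        (Algebra.TensorProduct.includeRight :
          Γ(Y, W₀) →ₐ[Γ(T, T₀)] Cpl (S.presheaf.stalk (p x)) ⊗[Γ(T, T₀)] Γ(Y, W₀)).toRingHom) u =
        hW₀.primeIdealOf ⟨y, hyW₀⟩ := by
      apply hW₀.fromSpec.isOpenEmbedding.injective
      rw [h1]
      exact (hW₀.fromSpec_primeIdealOf ⟨y, hyW₀⟩).symm
    intro b
    rw [← h2]
    rfl
  have huΛ : ∀ l : Cpl (S.presheaf.stalk (p x)), l ⊗ₜ[Γ(T, T₀)] (1 : Γ(Y, W₀)) ∈ u.asIdeal ↔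
      l ∈ maxCpl (S.presheaf.stalk (p x)) := by
    have h1 : Spec.map (CommRingCat.ofHom
        (Algebra.TensorProduct.includeLeftRingHom :
          Cpl (S.presheaf.stalk (p x)) →+* Cpl (S.presheaf.stalk (p x)) ⊗[Γ(T, T₀)] Γ(Y, W₀))) u =
        closedPoint (Cpl (S.presheaf.stalk (p x))) := by
      rw [← hJsnd]
      exact hyσc
    intro l
    have h2 : maxCpl (S.presheaf.stalk (p x)) =
        (closedPoint (Cpl (S.presheaf.stalk (p x)))).asIdeal :=
      (AdicCompletion.maximalIdeal_eq_map).symm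
    rw [h2, ← h1]
    rfl
  -- the local ring of `Y_σ`
  letI algLY : Algebra (Cpl (S.presheaf.stalk (p x)) ⊗[Γ(T, T₀)] Γ(Y, W₀))
      ((pullback q (Spec.map (CommRingCat.ofHom σ) ≫ T.fromSpecStalk (q y))).presheaf.stalk
        ((tensorChart (C := ↑Γ(T, T₀)) (B := ↑Γ(Y, W₀))
          (K := Cpl (S.presheaf.stalk (p x))) q hW₀.fromSpec hT₀.fromSpec e₁ _ e₂σ) u)) :=
    (chartToStalk (tensorChart (C := ↑Γ(T, T₀)) (B := ↑Γ(Y, W₀))
      (K := Cpl (S.presheaf.stalk (p x))) q hW₀.fromSpec hT₀.fromSpec e₁ _ e₂σ) u).hom.toAlgebra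
  haveI locLY : IsLocalization.AtPrime
      ((pullback q (Spec.map (CommRingCat.ofHom σ) ≫ T.fromSpecStalk (q y))).presheaf.stalk
        ((tensorChart (C := ↑Γ(T, T₀)) (B := ↑Γ(Y, W₀))
          (K := Cpl (S.presheaf.stalk (p x))) q hW₀.fromSpec hT₀.fromSpec e₁ _ e₂σ) u))
      u.asIdeal :=
    isLocalization_chartToStalk (tensorChart (C := ↑Γ(T, T₀)) (B := ↑Γ(Y, W₀))
      (K := Cpl (S.presheaf.stalk (p x))) q hW₀.fromSpec hT₀.fromSpec e₁ _ e₂σ) u
  -- compatibility of the structure maps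
  have hκ : ∀ l : Cpl (S.presheaf.stalk (p x)),
      algebraMap (Cpl (S.presheaf.stalk (p x)) ⊗[Γ(T, T₀)] Γ(Y, W₀))
        ((pullback q (Spec.map (CommRingCat.ofHom σ) ≫ T.fromSpecStalk (q y))).presheaf.stalk
          ((tensorChart (C := ↑Γ(T, T₀)) (B := ↑Γ(Y, W₀))
            (K := Cpl (S.presheaf.stalk (p x))) q hW₀.fromSpec hT₀.fromSpec e₁ _ e₂σ) u))
        (l ⊗ₜ 1) =
      ((pullback.snd q (Spec.map (CommRingCat.ofHom σ) ≫ T.fromSpecStalk (q y))).stalkMap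
        ((tensorChart (C := ↑Γ(T, T₀)) (B := ↑Γ(Y, W₀))
          (K := Cpl (S.presheaf.stalk (p x))) q hW₀.fromSpec hT₀.fromSpec e₁ _ e₂σ) u)).hom
        ((toStalkSpec (CommRingCat.of (Cpl (S.presheaf.stalk (p x)))) _).hom l) := by
    intro l
    have h1 : (toStalkSpec (CommRingCat.of (Cpl (S.presheaf.stalk (p x))))
          ((pullback.snd q (Spec.map (CommRingCat.ofHom σ) ≫ T.fromSpecStalk (q y)))
            ((tensorChart (C := ↑Γ(T, T₀)) (B := ↑Γ(Y, W₀))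
              (K := Cpl (S.presheaf.stalk (p x))) q hW₀.fromSpec hT₀.fromSpec e₁ _ e₂σ) u)) ≫
        (pullback.snd q (Spec.map (CommRingCat.ofHom σ) ≫ T.fromSpecStalk (q y))).stalkMap
          ((tensorChart (C := ↑Γ(T, T₀)) (B := ↑Γ(Y, W₀))
            (K := Cpl (S.presheaf.stalk (p x))) q hW₀.fromSpec hT₀.fromSpec e₁ _ e₂σ) u)) ≫
        (tensorChart (C := ↑Γ(T, T₀)) (B := ↑Γ(Y, W₀))
            (K := Cpl (S.presheaf.stalk (p x))) q hW₀.fromSpec hT₀.fromSpec e₁ _ e₂σ).stalkMap u =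
        CommRingCat.ofHom (Algebra.TensorProduct.includeLeftRingHom :
          Cpl (S.presheaf.stalk (p x)) →+* Cpl (S.presheaf.stalk (p x)) ⊗[Γ(T, T₀)] Γ(Y, W₀)) ≫
        toStalkSpec _ u := by
      have := toStalkSpec_stalkMap_of_eq _ _ hJsnd u
      rw [Scheme.Hom.stalkMap_comp] at this
      rw [Category.assoc]
      exact this
    have h2 := (IsIso.eq_comp_inv _).mpr h1
    have h3 := congrArg (fun f => f.hom l) h2
    exact h3.symm
  have hσX : (p.stalkMap x).hom.comp (algebraMap Γ(S, S₀) (S.presheaf.stalk (p x))) =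
      (algebraMap Γ(X, V) (X.presheaf.stalk x)).comp (algebraMap Γ(S, S₀) Γ(X, V)) := by
    have := germ_stalkMap_appLE p hVS x hxV
    exact congrArg CommRingCat.Hom.hom this
  have hxp : (hV.primeIdealOf ⟨x, hxV⟩).asIdeal.comap (algebraMap Γ(S, S₀) Γ(X, V)) =
      (hS₀.primeIdealOf ⟨p x, hsS₀⟩).asIdeal := by
    ext r
    rw [Ideal.mem_comap,
      ← IsLocalization.AtPrime.to_map_mem_maximal_iff (X.presheaf.stalk x)
        (hV.primeIdealOf ⟨x, hxV⟩).asIdeal,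
      ← IsLocalization.AtPrime.to_map_mem_maximal_iff (S.presheaf.stalk (p x))
        (hS₀.primeIdealOf ⟨p x, hsS₀⟩).asIdeal]
    have h1 := RingHom.congr_fun hσX r
    simp only [RingHom.comp_apply] at h1
    rw [← h1]
    have h2 := IsLocalRing.maximalIdeal_comap (p.stalkMap x).hom
    exact (Ideal.ext_iff.mp h2 _)
  have hφ' : ∀ μ : S.presheaf.stalk (p x),
      φ (algebraMap (X.presheaf.stalk x) (Cpl (X.presheaf.stalk x)) ((p.stalkMap x).hom μ)) =
      algebraMap _ (Cpl ((pullback q (Spec.map (CommRingCat.ofHom σ) ≫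
          T.fromSpecStalk (q y))).presheaf.stalk
          ((tensorChart (C := ↑Γ(T, T₀)) (B := ↑Γ(Y, W₀))
            (K := Cpl (S.presheaf.stalk (p x))) q hW₀.fromSpec hT₀.fromSpec e₁ _ e₂σ) u)))
        (algebraMap (Cpl (S.presheaf.stalk (p x)) ⊗[Γ(T, T₀)] Γ(Y, W₀))
          ((pullback q (Spec.map (CommRingCat.ofHom σ) ≫ T.fromSpecStalk (q y))).presheaf.stalk
            ((tensorChart (C := ↑Γ(T, T₀)) (B := ↑Γ(Y, W₀))
              (K := Cpl (S.presheaf.stalk (p x))) q hW₀.fromSpec hT₀.fromSpec e₁ _ e₂σ) u))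
          (algebraMap (S.presheaf.stalk (p x)) (Cpl (S.presheaf.stalk (p x))) μ ⊗ₜ 1)) := by
    intro μ
    have h1 := RingHom.congr_fun hφ μ
    simp only [RingHom.comp_apply] at h1
    rw [hκ]
    exact h1
  obtain ⟨R', _, _, hetR', p', hp', hcomap', hres', aCR', hCp', D, _, φA', φB', hφA', hφB',
    hcompat', q', hq', hqR, hqA, hqB, hresA', hresB'⟩ :=
    exists_nbhd_ring (hS₀.primeIdealOf ⟨p x, hsS₀⟩).asIdeal (S.presheaf.stalk (p x)) hG
      (C := Γ(T, T₀)) (A := Γ(X, V)) (B := Γ(Y, W₀))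
      (hV.primeIdealOf ⟨x, hxV⟩).asIdeal hxp (X.presheaf.stalk x) (p.stalkMap x).hom hσX
      u.asIdeal huΛ
      ((pullback q (Spec.map (CommRingCat.ofHom σ) ≫ T.fromSpecStalk (q y))).presheaf.stalk
        ((tensorChart (C := ↑Γ(T, T₀)) (B := ↑Γ(Y, W₀))
          (K := Cpl (S.presheaf.stalk (p x))) q hW₀.fromSpec hT₀.fromSpec e₁ _ e₂σ) u))
      φ hφ'
  haveI := hp'
  haveI := hq'
  haveI := hetR'
  let R'c : CommRingCat.{u} := CommRingCat.of R'
  let Dc : CommRingCat.{u} := CommRingCat.of D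
  let αR : Γ(S, S₀) ⟶ R'c := CommRingCat.ofHom (algebraMap Γ(S, S₀) R')
  let αC : Γ(T, T₀) ⟶ R'c := CommRingCat.ofHom (algebraMap Γ(T, T₀) R')
  let fA : Γ(X, V) →+* D := φA'.comp
    (Algebra.TensorProduct.includeRight : Γ(X, V) →ₐ[Γ(S, S₀)] R' ⊗[Γ(S, S₀)] Γ(X, V)).toRingHom
  let αA : Γ(X, V) ⟶ Dc := CommRingCat.ofHom fA
  let v : ↥(Spec R'c) := (⟨p', hp'⟩ : PrimeSpectrum R')
  let w : ↥(Spec Dc) := (⟨q', hq'⟩ : PrimeSpectrum D)
  have e₂τ : Spec.map (CommRingCat.ofHom (algebraMap Γ(T, T₀) R')) ≫ hT₀.fromSpec =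
      Spec.map αC ≫ hT₀.fromSpec := rfl
  have hKfst := tensorChart_fst (C := ↑Γ(T, T₀)) (B := ↑Γ(Y, W₀))
      (K := R') q hW₀.fromSpec hT₀.fromSpec e₁ _ e₂τ
  have hKsnd := tensorChart_snd (C := ↑Γ(T, T₀)) (B := ↑Γ(Y, W₀))
      (K := R') q hW₀.fromSpec hT₀.fromSpec e₁ _ e₂τ
  refine ⟨Spec R'c, v, Spec.map αR ≫ hS₀.fromSpec, Spec.map αC ≫ hT₀.fromSpec, Spec Dc, w,
    Spec.map αA ≫ hV.fromSpec,
    Spec.map (CommRingCat.ofHom φB') ≫ tensorChart (C := ↑Γ(T, T₀)) (B := ↑Γ(Y, W₀))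
      (K := R') q hW₀.fromSpec hT₀.fromSpec e₁ _ e₂τ, ?_, ?_, ?_, ?_, ?_, ?_, ?_, ?_, ?_, ?_, ?_, ?_⟩
  · haveI : Etale (Spec.map αR) :=
      (HasRingHomProperty.Spec_iff (P := @Etale)).mpr (RingHom.etale_algebraMap.mpr hetR')
    infer_instance
  · exact specHom_apply hS₀ αR v (p x) hsS₀ hcomap'
  · refine residueFieldMap_bijective αR v ?_ hS₀.fromSpec
    intro d
    obtain ⟨r, s, hs, hrs⟩ := hres' d
    refine ⟨r, s, ?_, hrs⟩
    intro h
    apply hs
    rw [← hcomap']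
    exact h
  · -- `τ v = q y`
    letI algCt : Algebra Γ(T, T₀) (T.presheaf.stalk (q y)) :=
      (T.presheaf.germ T₀ (q y) htT₀).hom.toAlgebra
    haveI locT : IsLocalization.AtPrime (T.presheaf.stalk (q y))
      (hT₀.primeIdealOf ⟨q y, htT₀⟩).asIdeal := hT₀.isLocalization_stalk ⟨q y, htT₀⟩
    refine specHom_apply hT₀ αC v (q y) htT₀ ?_
    ext c
    rw [Ideal.mem_comap]
    show algebraMap Γ(T, T₀) R' c ∈ p' ↔ _
    have hmax : maximalIdeal (Cpl (S.presheaf.stalk (p x))) = maxCpl (S.presheaf.stalk (p x)) :=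
      AdicCompletion.maximalIdeal_eq_map
    rw [hCp', ← hmax,
      ← IsLocalization.AtPrime.to_map_mem_maximal_iff (T.presheaf.stalk (q y))
        (hT₀.primeIdealOf ⟨q y, htT₀⟩).asIdeal]
    have h2 := IsLocalRing.maximalIdeal_comap σ
    exact (Ideal.ext_iff.mp h2 _)
  · haveI : Etale (Spec.map αA) :=
      (HasRingHomProperty.Spec_iff (P := @Etale)).mpr (etale_comp_includeRight φA' hφA')
    infer_instance
  · refine specHom_apply hV αA w x hxV ?_
    ext a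
    rw [Ideal.mem_comap]
    exact hqA a
  · exact residueFieldMap_bijective αA w hresA' hV.fromSpec
  · -- compatibility
    have h1 : p.appLE S₀ V hVS ≫ αA =
        αR ≫ CommRingCat.ofHom (Algebra.TensorProduct.includeLeftRingHom :
          R' →+* R' ⊗[Γ(T, T₀)] Γ(Y, W₀)) ≫ CommRingCat.ofHom φB' := by
      ext r
      show φA' (1 ⊗ₜ algebraMap Γ(S, S₀) Γ(X, V) r) = φB' (algebraMap Γ(S, S₀) R' r ⊗ₜ 1)
      rw [← hcompat']
      congr 1
      rw [Algebra.algebraMap_eq_smul_one, Algebra.algebraMap_eq_smul_one, TensorProduct.smul_tmul]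
    rw [Category.assoc, ← IsAffineOpen.SpecMap_appLE_fromSpec p hS₀ hV hVS, ← Category.assoc,
      ← Spec.map_comp, h1, Category.assoc, ← Category.assoc (tensorChart _ _ _ _ _ _), hKsnd,
      Spec.map_comp, Spec.map_comp, Category.assoc, Category.assoc]
  · haveI : Etale (Spec.map (CommRingCat.ofHom φB')) :=
      (HasRingHomProperty.Spec_iff (P := @Etale)).mpr hφB'
    infer_instance
  · -- `fst (b w) = y`
    rw [← Scheme.Hom.comp_apply, Category.assoc, hKfst, ← Category.assoc, ← Spec.map_comp]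
    refine specHom_apply hW₀ _ w y hyW₀ ?_
    ext b
    rw [Ideal.mem_comap]
    show φB' (1 ⊗ₜ b) ∈ q' ↔ _
    rw [hqB, huB]
  · -- `snd (b w) = v`
    rw [← Scheme.Hom.comp_apply, Category.assoc, hKsnd, ← Spec.map_comp]
    refine PrimeSpectrum.ext ?_
    ext r'
    show φB' (r' ⊗ₜ 1) ∈ q' ↔ r' ∈ p'
    rw [← hcompat', hqR]
  · exact residueFieldMap_bijective (CommRingCat.ofHom φB') w hresB' _

end Groth.Agent.Helper8.AppU
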