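import Mathlib
import Groth.Agent.Lib.Helper9.PSOrd
import Groth.Agent.Lib.Helper9.NodeNF

/-!
# A_n classification, part 1: order calculus, coordinate changes in `k[[x,y]]`
-/

set_option autoImplicit false
universe u

namespace Groth.Agent.Helper8.ArS

open MvPowerSeries
open Groth.Agent.Lib.Helper9.PSOrd
open Groth.Agent.Lib.Helper9.NodeNF

local notation "Od" => Groth.Agent.Lib.Helper9.PSOrd.Ord

section basics
variable {k : Type u} [Field k]

lemma degree_idx (p q : ℕ) : (idx p q).degree = p + q := by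
  unfold idx
  rw [map_add, Finsupp.degree_single, Finsupp.degree_single]

lemma single0_eq (n : ℕ) : (Finsupp.single (0 : Fin 2) n) = idx n 0 :=
  fin2_ext (by simp) (by simp)

lemma single1_eq (n : ℕ) : (Finsupp.single (1 : Fin 2) n) = idx 0 n :=
  fin2_ext (by simp) (by simp)

lemma X0_pow_eq (n : ℕ) : (X 0 ^ n : MvPowerSeries (Fin 2) k) = monomial (idx n 0) 1 := by
  rw [X_pow_eq, single0_eq]

lemma X1_pow_eq (n : ℕ) : (X 1 ^ n : MvPowerSeries (Fin 2) k) = monomial (idx 0 n) 1 := by
  rw [X_pow_eq, single1_eq]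

lemma Ord_sub_C {σ : Type*} (d : MvPowerSeries σ k) : Od 1 (d - C (constantCoeff d)) := by
  rw [Ord_one_iff, map_sub, constantCoeff_C, sub_self]

lemma Ord_lin (a b : k) : Od 1 (C a * X 0 + C b * X 1 : MvPowerSeries (Fin 2) k) :=
  ((Ord_X 0).mul_left _).add ((Ord_X 1).mul_left _)

lemma Ord_X1_sq : Od 2 (X 1 ^ 2 : MvPowerSeries (Fin 2) k) := by
  rw [pow_two]
  exact Ord.mono (by omega) ((Ord_X 1).mul (Ord_X 1))

lemma Ord_X0_sq : Od 2 (X 0 ^ 2 : MvPowerSeries (Fin 2) k) := by
  rw [pow_two]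
  exact Ord.mono (by omega) ((Ord_X 0).mul (Ord_X 0))

lemma exists_lin (w : MvPowerSeries (Fin 2) k) (hw : constantCoeff w = 0) :
    ∃ (b : k) (h : MvPowerSeries (Fin 2) k), Od 2 h ∧
      w = C (coeff (idx 1 0) w) * X 0 + C b * X 1 + h := by
  have hs := sum_X_mul_divX w hw
  rw [Fin.sum_univ_two] at hs
  have ha : constantCoeff (divX 0 w) = coeff (idx 1 0) w := by
    rw [← coeff_zero_eq_constantCoeff_apply, coeff_divX, if_pos, zero_add, single0_eq]
    intro j hj
    exact absurd hj (Fin.not_lt_zero j)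
  refine ⟨constantCoeff (divX 1 w),
    X 0 * (divX 0 w - C (constantCoeff (divX 0 w))) +
      X 1 * (divX 1 w - C (constantCoeff (divX 1 w))), ?_, ?_⟩
  · exact Ord.mono (by omega)
      (((Ord_X 0).mul (Ord_sub_C _)).add ((Ord_X 1).mul (Ord_sub_C _)))
  · rw [← ha]
    conv_lhs => rw [← hs]
    ring

lemma exists_quad (F : MvPowerSeries (Fin 2) k) (hF : Od 2 F) :
    ∃ (a b c : k) (h : MvPowerSeries (Fin 2) k), Od 3 h ∧
      F = C a * X 0 ^ 2 + C b * (X 0 * X 1) + C c * X 1 ^ 2 + h := by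
  have hc : constantCoeff F = 0 := (Ord_one_iff F).mp (Ord.mono (by omega) hF)
  have hs := sum_X_mul_divX F hc
  rw [Fin.sum_univ_two] at hs
  have o0 : Od 1 (divX 0 F) := Ord_divX (N := 1) 0 hF
  have o1 : Od 1 (divX 1 F) := Ord_divX (N := 1) 1 hF
  obtain ⟨b0, h0, hh0, e0⟩ := exists_lin (divX 0 F) ((Ord_one_iff _).mp o0)
  obtain ⟨b1, h1, hh1, e1⟩ := exists_lin (divX 1 F) ((Ord_one_iff _).mp o1)
  refine ⟨coeff (idx 1 0) (divX 0 F), b0 + coeff (idx 1 0) (divX 1 F), b1,
    X 0 * h0 + X 1 * h1, ?_, ?_⟩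
  · exact Ord.mono (by omega) (((Ord_X 0).mul hh0).add ((Ord_X 1).mul hh1))
  · calc F = X 0 * divX 0 F + X 1 * divX 1 F := hs.symm
      _ = X 0 * (C (coeff (idx 1 0) (divX 0 F)) * X 0 + C b0 * X 1 + h0) +
          X 1 * (C (coeff (idx 1 0) (divX 1 F)) * X 0 + C b1 * X 1 + h1) := by
            rw [← e0, ← e1]
      _ = _ := by
            simp only [map_add]
            ring

lemma lin_mul (w t h : MvPowerSeries (Fin 2) k) (c d : k) (hh : Od 2 h)
    (hw : w = C c * X 0 + C d * X 1 + h) :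
    ∃ h', Od 2 h' ∧
      w * t = C (c * constantCoeff t) * X 0 + C (d * constantCoeff t) * X 1 + h' := by
  refine ⟨h * t + (C c * X 0 + C d * X 1) * (t - C (constantCoeff t)), ?_, ?_⟩
  · exact (hh.mul_right t).add (Ord.mono (by omega) ((Ord_lin c d).mul (Ord_sub_C t)))
  · rw [hw, map_mul, map_mul]
    ring

end basics

section coord
variable {k : Type u} [Field k]

lemma subst_lin {b : Fin 2 → MvPowerSeries (Fin 2) k} (hb : HasSubst b) (p q : k) :
    subst b (C p * X 0 + C q * X 1 : MvPowerSeries (Fin 2) k) = C p * b 0 + C q * b 1 := by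
  rw [subst_add hb, subst_mul hb, subst_mul hb, subst_C, subst_C, subst_X hb, subst_X hb]

lemma lin_comb (p q a b c d : k) (x y g0 g1 : MvPowerSeries (Fin 2) k) :
    C p * (C a * x + C b * y + g0) + C q * (C c * x + C d * y + g1) =
      C (p * a + q * c) * x + C (p * b + q * d) * y + (C p * g0 + C q * g1) := by
  simp only [map_add, map_mul]
  ring

lemma lin_comb0 (p q a b c d : k) (x y : MvPowerSeries (Fin 2) k) :
    C p * (C a * x + C b * y) + C q * (C c * x + C d * y) =
      C (p * a + q * c) * x + C (p * b + q * d) * y := by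
  simp only [map_add, map_mul]
  ring

/-- a change of coordinates with invertible linear part -/
theorem exists_coordEquiv (w0 w1 : MvPowerSeries (Fin 2) k) (a b c d : k)
    (h0 h1 : MvPowerSeries (Fin 2) k) (hh0 : Od 2 h0) (hh1 : Od 2 h1)
    (hw0 : w0 = C a * X 0 + C b * X 1 + h0) (hw1 : w1 = C c * X 0 + C d * X 1 + h1)
    (hdet : a * d - b * c ≠ 0) :
    ∃ θ : MvPowerSeries (Fin 2) k ≃ₐ[k] MvPowerSeries (Fin 2) k,
      θ (X 0) = w0 ∧ θ (X 1) = w1 ∧
        ∀ (N : ℕ) (f : MvPowerSeries (Fin 2) k), Od N f → Od N (θ f) := by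
  obtain ⟨Di, hDi⟩ : ∃ Di : k, (a * d - b * c) * Di = 1 := ⟨_, mul_inv_cancel₀ hdet⟩
  have ow0 : Od 1 w0 := by
    rw [hw0]; exact (Ord_lin a b).add (Ord.mono (by omega) hh0)
  have ow1 : Od 1 w1 := by
    rw [hw1]; exact (Ord_lin c d).add (Ord.mono (by omega) hh1)
  let w : Fin 2 → MvPowerSeries (Fin 2) k := ![w0, w1]
  let u : Fin 2 → MvPowerSeries (Fin 2) k :=
    ![C (d * Di) * X 0 + C (-(b * Di)) * X 1, C (-(c * Di)) * X 0 + C (a * Di) * X 1]
  let v : Fin 2 → MvPowerSeries (Fin 2) k := ![C a * X 0 + C b * X 1, C c * X 0 + C d * X 1]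
  let h' : Fin 2 → MvPowerSeries (Fin 2) k :=
    ![C (d * Di) * h0 + C (-(b * Di)) * h1, C (-(c * Di)) * h0 + C (a * Di) * h1]
  have ow : ∀ i, Od 1 (w i) := by
    rw [Fin.forall_fin_two]; exact ⟨ow0, ow1⟩
  have ou : ∀ i, Od 1 (u i) := by
    rw [Fin.forall_fin_two]; exact ⟨Ord_lin _ _, Ord_lin _ _⟩
  have ov : ∀ i, Od 1 (v i) := by
    rw [Fin.forall_fin_two]; exact ⟨Ord_lin _ _, Ord_lin _ _⟩
  have oh' : ∀ i, Od 2 (h' i) := by
    rw [Fin.forall_fin_two]
    exact ⟨(hh0.mul_left _).add (hh1.mul_left _), (hh0.mul_left _).add (hh1.mul_left _)⟩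
  have hsw := hasSubst_of_Ord w ow
  have hsu := hasSubst_of_Ord u ou
  have hsv := hasSubst_of_Ord v ov
  have e11 : d * Di * a + -(b * Di) * c = 1 := by linear_combination hDi
  have e12 : d * Di * b + -(b * Di) * d = 0 := by ring
  have e21 : -(c * Di) * a + a * Di * c = 0 := by ring
  have e22 : -(c * Di) * b + a * Di * d = 1 := by linear_combination hDi
  have f11 : a * (d * Di) + b * -(c * Di) = 1 := by linear_combination hDi
  have f12 : a * -(b * Di) + b * (a * Di) = 0 := by ring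
  have f21 : c * (d * Di) + d * -(c * Di) = 0 := by ring
  have f22 : c * -(b * Di) + d * (a * Di) = 1 := by linear_combination hDi
  have huv : ∀ f : MvPowerSeries (Fin 2) k, subst v (subst u f) = f := by
    intro f
    rw [subst_comp_subst_apply hsu hsv]
    have e : (fun s => subst v (u s)) = (X : Fin 2 → MvPowerSeries (Fin 2) k) := by
      funext s
      revert s
      rw [Fin.forall_fin_two]
      constructor
      · show subst v (C (d * Di) * X 0 + C (-(b * Di)) * X 1) = X 0
        rw [subst_lin hsv]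
        show C (d * Di) * (C a * X 0 + C b * X 1) +
          C (-(b * Di)) * (C c * X 0 + C d * X 1) = X 0
        rw [lin_comb0, e11, e12, map_one, map_zero, one_mul, zero_mul, add_zero]
      · show subst v (C (-(c * Di)) * X 0 + C (a * Di) * X 1) = X 1
        rw [subst_lin hsv]
        show C (-(c * Di)) * (C a * X 0 + C b * X 1) +
          C (a * Di) * (C c * X 0 + C d * X 1) = X 1
        rw [lin_comb0, e21, e22, map_one, map_zero, one_mul, zero_mul, zero_add]
    rw [e, subst_self]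
    rfl
  have hvu : ∀ f : MvPowerSeries (Fin 2) k, subst u (subst v f) = f := by
    intro f
    rw [subst_comp_subst_apply hsv hsu]
    have e : (fun s => subst u (v s)) = (X : Fin 2 → MvPowerSeries (Fin 2) k) := by
      funext s
      revert s
      rw [Fin.forall_fin_two]
      constructor
      · show subst u (C a * X 0 + C b * X 1) = X 0
        rw [subst_lin hsu]
        show C a * (C (d * Di) * X 0 + C (-(b * Di)) * X 1) +
          C b * (C (-(c * Di)) * X 0 + C (a * Di) * X 1) = X 0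
        rw [lin_comb0, f11, f12, map_one, map_zero, one_mul, zero_mul, add_zero]
      · show subst u (C c * X 0 + C d * X 1) = X 1
        rw [subst_lin hsu]
        show C c * (C (d * Di) * X 0 + C (-(b * Di)) * X 1) +
          C d * (C (-(c * Di)) * X 0 + C (a * Di) * X 1) = X 1
        rw [lin_comb0, f21, f22, map_one, map_zero, one_mul, zero_mul, zero_add]
    rw [e, subst_self]
    rfl
  have hwu : ∀ f : MvPowerSeries (Fin 2) k, subst w (subst u f) = subst (shift h') f := by
    intro f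
    rw [subst_comp_subst_apply hsu hsw]
    congr 1
    funext s
    revert s
    rw [Fin.forall_fin_two]
    constructor
    · show subst w (C (d * Di) * X 0 + C (-(b * Di)) * X 1) =
        X 0 + (C (d * Di) * h0 + C (-(b * Di)) * h1)
      rw [subst_lin hsw]
      show C (d * Di) * w0 + C (-(b * Di)) * w1 = _
      rw [hw0, hw1, lin_comb, e11, e12, map_one, map_zero, one_mul, zero_mul, add_zero]
    · show subst w (C (-(c * Di)) * X 0 + C (a * Di) * X 1) =
        X 1 + (C (-(c * Di)) * h0 + C (a * Di) * h1)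
      rw [subst_lin hsw]
      show C (-(c * Di)) * w0 + C (a * Di) * w1 = _
      rw [hw0, hw1, lin_comb, e21, e22, map_one, map_zero, one_mul, zero_mul, zero_add]
  have hbij' := subst_shift_bijective h' oh'
  have hbij : Function.Bijective
      (subst w : MvPowerSeries (Fin 2) k → MvPowerSeries (Fin 2) k) := by
    constructor
    · intro x y hxy
      have hx : subst (shift h') (subst v x) = subst (shift h') (subst v y) := by
        rw [← hwu, ← hwu, hvu, hvu, hxy]
      have hvx := hbij'.1 hx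
      rw [← hvu x, ← hvu y, hvx]
    · intro y
      obtain ⟨z, hz⟩ := hbij'.2 y
      exact ⟨subst u z, by rw [hwu, hz]⟩
  refine ⟨AlgEquiv.ofBijective (substAlgHom (R := k) hsw) (by rw [coe_substAlgHom]; exact hbij),
    ?_, ?_, ?_⟩
  · rw [AlgEquiv.ofBijective_apply, substAlgHom_apply]
    exact subst_X hsw 0
  · rw [AlgEquiv.ofBijective_apply, substAlgHom_apply]
    exact subst_X hsw 1
  · intro N f hf
    rw [AlgEquiv.ofBijective_apply, substAlgHom_apply]
    exact Ord_subst w ow hf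

lemma algEquiv_C (θ : MvPowerSeries (Fin 2) k ≃ₐ[k] MvPowerSeries (Fin 2) k) (c : k) :
    θ (C c) = C c := by
  rw [c_eq_algebraMap]
  exact θ.commutes c

/-- linear preparation of a series of order exactly two -/
theorem exists_prep (F : MvPowerSeries (Fin 2) k) (h2F : Od 2 F) (h3F : ¬ Od 3 F) :
    ∃ (L : MvPowerSeries (Fin 2) k ≃ₐ[k] MvPowerSeries (Fin 2) k) (a' : k)
      (r h' : MvPowerSeries (Fin 2) k), a' ≠ 0 ∧ Od 3 h' ∧
      L F = C a' * X 0 ^ 2 + X 1 * r + h' := by
  obtain ⟨a, b, c, h, hh, hF⟩ := exists_quad F h2F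
  by_cases ha : a = 0
  · by_cases hc : c = 0
    · have hb : b ≠ 0 := by
        intro hb
        apply h3F
        rw [hF, ha, hb, hc]
        simpa using hh
      obtain ⟨θ, θ0, θ1, θO⟩ := exists_coordEquiv (k := k) (X 0) (X 0 + X 1) 1 0 1 1 0 0
        (Ord.zero 2) (Ord.zero 2) (by simp) (by simp) (by norm_num)
      refine ⟨θ, b, C b * X 0, θ h, hb, θO 3 h hh, ?_⟩
      rw [hF, ha, hc]
      simp only [map_add, map_mul, algEquiv_C, θ0, θ1, map_zero, zero_mul, zero_add,
        add_zero]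
      ring
    · obtain ⟨θ, θ0, θ1, θO⟩ := exists_coordEquiv (k := k) (X 1) (X 0) 0 1 1 0 0 0
        (Ord.zero 2) (Ord.zero 2) (by simp) (by simp) (by norm_num)
      refine ⟨θ, c, C b * X 0, θ h, hc, θO 3 h hh, ?_⟩
      rw [hF, ha]
      simp only [map_add, map_mul, map_pow, algEquiv_C, θ0, θ1, map_zero, zero_mul, zero_add]
      ring
  · refine ⟨AlgEquiv.refl, a, C b * X 0 + C c * X 1, h, ha, hh, ?_⟩
    show F = C a * X 0 ^ 2 + X 1 * (C b * X 0 + C c * X 1) + h
    conv_lhs => rw [hF]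
    ring

lemma coeff_prep (a' : k) (r h' : MvPowerSeries (Fin 2) k) (hh : Od 3 h') :
    coeff (idx 0 0) (C a' * X 0 ^ 2 + X 1 * r + h') = 0 ∧
    coeff (idx 1 0) (C a' * X 0 ^ 2 + X 1 * r + h') = 0 ∧
    coeff (idx 2 0) (C a' * X 0 ^ 2 + X 1 * r + h') = a' := by
  have aux : ∀ j, j < 3 →
      coeff (idx j 0) (C a' * X 0 ^ 2 + X 1 * r + h') = if j = 2 then a' else 0 := by
    intro j hj
    rw [map_add, map_add, coeff_X1_mul, if_neg (by omega),
      hh (idx j 0) (by rw [degree_idx]; omega), add_zero, add_zero, X0_pow_eq, coeff_C_mul,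
      coeff_monomial]
    by_cases hj2 : j = 2
    · rw [if_pos hj2, if_pos (by rw [hj2]), mul_one]
    · rw [if_neg hj2, if_neg (fun e => hj2 (idx_inj.mp e).1), mul_zero]
  refine ⟨?_, ?_, ?_⟩
  · have := aux 0 (by norm_num); rwa [if_neg (by norm_num)] at this
  · have := aux 1 (by norm_num); rwa [if_neg (by norm_num)] at this
  · have := aux 2 (by norm_num); rwa [if_pos rfl] at this

/-- quotient isomorphism induced by an automorphism carrying one generator to a unit multiple of
the other -/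
lemma quotEquiv_of_map (θ : MvPowerSeries (Fin 2) k ≃ₐ[k] MvPowerSeries (Fin 2) k)
    (a b u : MvPowerSeries (Fin 2) k) (hu : IsUnit u) (h : b = θ a * u) :
    Nonempty ((MvPowerSeries (Fin 2) k ⧸ Ideal.span {a}) ≃ₐ[k]
      (MvPowerSeries (Fin 2) k ⧸ Ideal.span {b})) := by
  refine ⟨Ideal.quotientEquivAlg _ _ θ ?_⟩
  rw [Ideal.map_span, Set.image_singleton, h, Ideal.span_singleton_mul_right_unit hu]
  all_goals rfl

end coord

end Groth.Agent.Helper8.ArS
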