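import Mathlib
import Groth.Prelude.Def_W4c1arstab1appArSing
import Groth.Agent.Lib.Helper8.ArS1

/-!
# A_n classification, part 2: the order-three invariant of `k[[x,y]]/(F)`
-/

set_option autoImplicit false
universe u

namespace Groth.Agent.Helper8.ArS

open MvPowerSeries
open Groth.Agent.Lib.Helper9.PSOrd
open Groth.Agent.Lib.Helper9.NodeNF

local notation "Od" => Groth.Agent.Lib.Helper9.PSOrd.Ord

section invariant
variable {k : Type u} [Field k]

/-- the ideal of series of order `≥ 3` -/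
def I3 (k : Type u) [Field k] : Ideal (MvPowerSeries (Fin 2) k) where
  carrier := {f | Od 3 f}
  add_mem' := by
    intro a b ha hb
    exact Ord.add ha hb
  zero_mem' := Ord.zero 3
  smul_mem' := by
    intro c x hx
    exact Ord.mul_left c hx

lemma mem_I3 (f : MvPowerSeries (Fin 2) k) : f ∈ I3 k ↔ Od 3 f := Iff.rfl

lemma one_notMem_I3 : (1 : MvPowerSeries (Fin 2) k) ∉ I3 k := by
  intro h
  have h' : Od 3 (1 : MvPowerSeries (Fin 2) k) := h
  have h0 := h' 0 (by simp)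
  simp at h0

lemma algHom_C (Φ : MvPowerSeries (Fin 2) k →ₐ[k] (MvPowerSeries (Fin 2) k ⧸ I3 k)) (c : k) :
    Φ (C c) = Ideal.Quotient.mk (I3 k) (C c) := by
  rw [c_eq_algebraMap]
  exact Φ.commutes c

lemma ord1_of_hom (Φ : MvPowerSeries (Fin 2) k →ₐ[k] (MvPowerSeries (Fin 2) k ⧸ I3 k))
    (i : Fin 2) (u : MvPowerSeries (Fin 2) k) (hu : Ideal.Quotient.mk (I3 k) u = Φ (X i)) :
    Od 1 u := by
  rw [Ord_one_iff]
  by_contra hc
  have hunit : IsUnit (X i - C (constantCoeff u) : MvPowerSeries (Fin 2) k) := by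
    rw [MvPowerSeries.isUnit_iff_constantCoeff, map_sub, constantCoeff_X, constantCoeff_C,
      zero_sub]
    exact (isUnit_iff_ne_zero.mpr hc).neg
  have himg : Φ (X i - C (constantCoeff u)) =
      Ideal.Quotient.mk (I3 k) (u - C (constantCoeff u)) := by
    rw [map_sub, map_sub, ← hu, algHom_C]
  have e3 : (u - C (constantCoeff u)) ^ 3 =
      (u - C (constantCoeff u)) * (u - C (constantCoeff u)) * (u - C (constantCoeff u)) := by
    ring
  have hnil : (Ideal.Quotient.mk (I3 k) (u - C (constantCoeff u))) ^ 3 = 0 := by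
    rw [← map_pow, Ideal.Quotient.eq_zero_iff_mem, mem_I3, e3]
    exact Ord.mono (by omega) (((Ord_sub_C u).mul (Ord_sub_C u)).mul (Ord_sub_C u))
  have hu3 : IsUnit ((Ideal.Quotient.mk (I3 k) (u - C (constantCoeff u))) ^ 3) := by
    rw [← himg]
    exact (hunit.map Φ).pow 3
  rw [hnil, isUnit_zero_iff] at hu3
  have h1 : (1 : MvPowerSeries (Fin 2) k) ∈ I3 k := by
    rw [← Ideal.Quotient.eq_zero_iff_mem, map_one]
    exact hu3.symm
  exact one_notMem_I3 h1

lemma hom_Ord (Φ : MvPowerSeries (Fin 2) k →ₐ[k] (MvPowerSeries (Fin 2) k ⧸ I3 k)) :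
    ∀ (N : ℕ) (f : MvPowerSeries (Fin 2) k), Od N f →
      ∃ g, Od N g ∧ Φ f = Ideal.Quotient.mk (I3 k) g := by
  obtain ⟨u0, hu0⟩ := Ideal.Quotient.mk_surjective (Φ (X 0))
  obtain ⟨u1, hu1⟩ := Ideal.Quotient.mk_surjective (Φ (X 1))
  have o0 := ord1_of_hom Φ 0 u0 hu0
  have o1 := ord1_of_hom Φ 1 u1 hu1
  intro N
  induction N with
  | zero =>
    intro f _
    obtain ⟨g, hg⟩ := Ideal.Quotient.mk_surjective (Φ f)
    exact ⟨g, Ord.of_zero g, hg.symm⟩
  | succ N ih =>
    intro f hf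
    have hc : constantCoeff f = 0 := (Ord_one_iff f).mp (Ord.mono (by omega) hf)
    have hs := sum_X_mul_divX f hc
    rw [Fin.sum_univ_two] at hs
    obtain ⟨g0, hg0, e0⟩ := ih (divX 0 f) (Ord_divX 0 hf)
    obtain ⟨g1, hg1, e1⟩ := ih (divX 1 f) (Ord_divX 1 hf)
    refine ⟨u0 * g0 + u1 * g1, ?_, ?_⟩
    · exact Ord.mono (by omega) ((o0.mul hg0).add (o1.mul hg1))
    · have hf' : Φ f = Φ (X 0 * divX 0 f + X 1 * divX 1 f) := by rw [hs]
      rw [hf']
      simp only [map_add, map_mul]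
      rw [e0, e1, hu0, hu1]

lemma hom_kills (Φ : MvPowerSeries (Fin 2) k →ₐ[k] (MvPowerSeries (Fin 2) k ⧸ I3 k))
    (f : MvPowerSeries (Fin 2) k) (hf : Od 3 f) : Φ f = 0 := by
  obtain ⟨g, hg, e⟩ := hom_Ord Φ 3 f hf
  rw [e, Ideal.Quotient.eq_zero_iff_mem]
  exact hg

/-- the coefficients of degree `< 3` -/
noncomputable def L3 (k : Type u) [Field k] :
    MvPowerSeries (Fin 2) k →ₗ[k] (Fin 3 × Fin 3 → k) where
  toFun f := fun p => if p.1.val + p.2.val < 3 then coeff (idx p.1.val p.2.val) f else 0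
  map_add' := by
    intro f g
    funext p
    simp only [Pi.add_apply, map_add]
    split_ifs <;> simp
  map_smul' := by
    intro c f
    funext p
    simp only [Pi.smul_apply, RingHom.id_apply, coeff_smul, smul_eq_mul]
    split_ifs <;> simp

lemma L3_eq_zero_iff (f : MvPowerSeries (Fin 2) k) : L3 k f = 0 ↔ Od 3 f := by
  constructor
  · intro h e he
    have he' : e = idx (e 0) (e 1) := eq_idx e
    have hd : e 0 + e 1 < 3 := by
      have h1 := he
      rw [he', degree_idx] at h1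
      exact h1
    have key : (if e 0 + e 1 < 3 then coeff (idx (e 0) (e 1)) f else 0) = 0 :=
      congrFun h (⟨e 0, by omega⟩, ⟨e 1, by omega⟩)
    rw [if_pos hd] at key
    rw [he']
    exact key
  · intro hO
    funext p
    show (if p.1.val + p.2.val < 3 then coeff (idx p.1.val p.2.val) f else 0) = 0
    split_ifs with hlt
    · exact hO _ (by rw [degree_idx]; exact hlt)
    · rfl

instance instFiniteT3 : Module.Finite k (MvPowerSeries (Fin 2) k ⧸ I3 k) := by
  have hker : LinearMap.ker (L3 k) = (I3 k).restrictScalars k := by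
    ext f
    rw [LinearMap.mem_ker, L3_eq_zero_iff]
    rfl
  have e1 := Submodule.Quotient.restrictScalarsEquiv k (I3 k)
  have e2 := Submodule.quotEquivOfEq _ _ hker
  have e3 := (L3 k).quotKerEquivRange
  exact Module.Finite.equiv ((e3.symm.trans e2).trans e1)

lemma ker_le_I3 (Φ : MvPowerSeries (Fin 2) k →ₐ[k] (MvPowerSeries (Fin 2) k ⧸ I3 k))
    (hΦ : Function.Surjective Φ) (g : MvPowerSeries (Fin 2) k) (hg : Φ g = 0) : Od 3 g := by
  let Ψ : (MvPowerSeries (Fin 2) k ⧸ I3 k) →ₐ[k] (MvPowerSeries (Fin 2) k ⧸ I3 k) :=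
    Ideal.Quotient.liftₐ (I3 k) Φ (fun f hf => hom_kills Φ f hf)
  have hΨ : ∀ f, Ψ (Ideal.Quotient.mk (I3 k) f) = Φ f := fun f => rfl
  have hsurj : Function.Surjective Ψ.toLinearMap := by
    intro y
    obtain ⟨f, rfl⟩ := hΦ y
    exact ⟨Ideal.Quotient.mk (I3 k) f, hΨ f⟩
  have hinj : Function.Injective Ψ.toLinearMap :=
    LinearMap.injective_iff_surjective.mpr hsurj
  have h0 : Ideal.Quotient.mk (I3 k) g = 0 := by
    apply hinj
    rw [map_zero]
    exact (hΨ g).trans hg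
  exact Ideal.Quotient.eq_zero_iff_mem.mp h0

/-- a quotient by a series of order `≥ 3` is never isomorphic to a quotient by a series of
order `< 3` -/
theorem no_iso (F g : MvPowerSeries (Fin 2) k) (hF : Od 3 F) (hg : ¬ Od 3 g) :
    IsEmpty ((MvPowerSeries (Fin 2) k ⧸ Ideal.span {F}) ≃ₐ[k]
      (MvPowerSeries (Fin 2) k ⧸ Ideal.span {g})) := by
  constructor
  intro φ
  apply hg
  have hle : Ideal.span {F} ≤ I3 k := by
    rw [Ideal.span_le, Set.singleton_subset_iff]
    exact hF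
  let π : (MvPowerSeries (Fin 2) k ⧸ Ideal.span {F}) →ₐ[k] (MvPowerSeries (Fin 2) k ⧸ I3 k) :=
    Ideal.Quotient.factorₐ k hle
  let Φ : MvPowerSeries (Fin 2) k →ₐ[k] (MvPowerSeries (Fin 2) k ⧸ I3 k) :=
    (π.comp φ.symm.toAlgHom).comp (Ideal.Quotient.mkₐ k (Ideal.span {g}))
  have hπ : ∀ f, π (Ideal.Quotient.mk _ f) = Ideal.Quotient.mk (I3 k) f := fun f => rfl
  have hΦ : ∀ p, Φ p = π (φ.symm (Ideal.Quotient.mk _ p)) := fun p => rfl
  have hΦs : Function.Surjective Φ := by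
    intro y
    obtain ⟨f, rfl⟩ := Ideal.Quotient.mk_surjective y
    obtain ⟨p, hp⟩ := Ideal.Quotient.mk_surjective (φ (Ideal.Quotient.mk _ f))
    refine ⟨p, ?_⟩
    rw [hΦ, hp, AlgEquiv.symm_apply_apply, hπ]
  have hΦg : Φ g = 0 := by
    rw [hΦ, Ideal.Quotient.eq_zero_iff_mem.mpr (Ideal.subset_span (Set.mem_singleton g)),
      map_zero, map_zero]
  exact ker_le_I3 Φ hΦs g hΦg

lemma not_Ord3_X1sq : ¬ Od 3 (X 1 ^ 2 : MvPowerSeries (Fin 2) k) := by
  intro h
  have h1 := h (idx 0 2) (by rw [degree_idx]; norm_num)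
  rw [X1_pow_eq, coeff_monomial_same] at h1
  exact one_ne_zero h1

lemma not_Ord3_eqn (n : ℕ) : ¬ Od 3 (ArSing.eqn k n) := by
  intro h
  have h1 := h (idx 0 2) (by rw [degree_idx]; norm_num)
  have e : ArSing.eqn k n = X 1 ^ 2 - X 0 ^ (n + 1) := rfl
  rw [e, map_sub, X1_pow_eq, X0_pow_eq, coeff_monomial_same, coeff_monomial_ne, sub_zero] at h1
  · exact one_ne_zero h1
  · intro e'
    have := (idx_inj.mp e').1
    omega

end invariant

end Groth.Agent.Helper8.ArS
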