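import Mathlib
import Groth.Agent.Lib.Helper8.ArS1

/-!
# A_n classification, part 3: Taylor coefficients of a recentred polynomial
-/

set_option autoImplicit false
universe u

namespace Groth.Agent.Helper8.ArS

open Groth.Agent.Lib.Helper9.PSOrd
open Groth.Agent.Lib.Helper9.NodeNF

local notation "Od" => Groth.Agent.Lib.Helper9.PSOrd.Ord

section taylor
variable {k : Type u} [Field k]

/-- recentring at `a` -/
noncomputable def tau (a : Fin 2 → k) : MvPolynomial (Fin 2) k →ₐ[k] MvPolynomial (Fin 2) k :=
  MvPolynomial.aeval (fun i : Fin 2 => MvPolynomial.X i + MvPolynomial.C (a i))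

lemma constantCoeff_tau (a : Fin 2 → k) (p : MvPolynomial (Fin 2) k) :
    MvPolynomial.constantCoeff (tau a p) = MvPolynomial.eval a p := by
  have h : (MvPolynomial.constantCoeff.comp (tau a).toRingHom) = MvPolynomial.eval a := by
    apply MvPolynomial.ringHom_ext
    · intro r
      simp [tau]
    · intro i
      simp [tau]
  exact RingHom.congr_fun h p

lemma pderiv_tau (a : Fin 2 → k) (i : Fin 2) (p : MvPolynomial (Fin 2) k) :
    MvPolynomial.pderiv i (tau a p) = tau a (MvPolynomial.pderiv i p) := by
  induction p using MvPolynomial.induction_on with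
  | C r =>
    have h1 : tau a (MvPolynomial.C r) = MvPolynomial.C r := by simp [tau]
    rw [h1, MvPolynomial.pderiv_C, map_zero]
  | add p q hp hq =>
    simp only [map_add, hp, hq]
  | mul_X p j hp =>
    have hX : MvPolynomial.pderiv i (tau a (MvPolynomial.X j)) =
        tau a (MvPolynomial.pderiv i (MvPolynomial.X j)) := by
      have h1 : tau a (MvPolynomial.X j) = MvPolynomial.X j + MvPolynomial.C (a j) := by
        simp [tau]
      rw [h1, map_add, MvPolynomial.pderiv_C, add_zero, MvPolynomial.pderiv_X, Pi.single_apply]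
      split_ifs <;> simp
    rw [map_mul (tau a), MvPolynomial.pderiv_mul, MvPolynomial.pderiv_mul, map_add (tau a),
      map_mul (tau a), map_mul (tau a), hp, hX]

lemma eval_eq_coeff_tau (a : Fin 2 → k) (q : MvPolynomial (Fin 2) k) :
    MvPolynomial.eval a q = MvPolynomial.coeff 0 (tau a q) := by
  rw [← constantCoeff_tau, MvPolynomial.constantCoeff_eq]

lemma coeff_tau_pderiv (a : Fin 2 → k) (j : Fin 2) (q : MvPolynomial (Fin 2) k)
    (m : Fin 2 →₀ ℕ) :
    MvPolynomial.coeff m (tau a (MvPolynomial.pderiv j q)) =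
      MvPolynomial.coeff (m + Finsupp.single j 1) (tau a q) * ((m j : k) + 1) := by
  rw [← pderiv_tau, MvPolynomial.coeff_pderiv]

lemma eval_pderiv (a : Fin 2 → k) (q : MvPolynomial (Fin 2) k) (i : Fin 2) :
    MvPolynomial.eval a (MvPolynomial.pderiv i q) =
      MvPolynomial.coeff (Finsupp.single i 1) (tau a q) := by
  rw [eval_eq_coeff_tau, coeff_tau_pderiv, zero_add]
  simp

theorem taylor_iff (h2 : (2 : k) ≠ 0) (f : MvPolynomial (Fin 2) k) (a : Fin 2 → k)
    (hfa : MvPolynomial.eval a f = 0) :
    ((∀ i : Fin 2, MvPolynomial.eval a (MvPolynomial.pderiv i f) = 0) ∧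
      ∀ i j : Fin 2,
        MvPolynomial.eval a (MvPolynomial.pderiv i (MvPolynomial.pderiv j f)) = 0) ↔
    Od 3 (MvPolynomial.toMvPowerSeries (tau a f)) := by
  have hc : ∀ e, MvPowerSeries.coeff e (MvPolynomial.toMvPowerSeries (tau a f)) =
      MvPolynomial.coeff e (tau a f) := fun e => MvPolynomial.coeff_coe _ _
  constructor
  · rintro ⟨h1, h2'⟩
    have c00 : MvPolynomial.coeff (idx 0 0) (tau a f) = 0 := by
      rw [idx_zero_zero, ← eval_eq_coeff_tau]
      exact hfa
    have c10 : MvPolynomial.coeff (idx 1 0) (tau a f) = 0 := by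
      have h := h1 0
      rw [eval_pderiv, single0_eq] at h
      exact h
    have c01 : MvPolynomial.coeff (idx 0 1) (tau a f) = 0 := by
      have h := h1 1
      rw [eval_pderiv, single1_eq] at h
      exact h
    have c20 : MvPolynomial.coeff (idx 2 0) (tau a f) = 0 := by
      have h := h2' 0 0
      rw [eval_pderiv, coeff_tau_pderiv] at h
      have e1 : (Finsupp.single (0 : Fin 2) 1 + Finsupp.single (0 : Fin 2) 1 : Fin 2 →₀ ℕ) =
          idx 2 0 := fin2_ext (by simp) (by simp)
      have e2 : (((Finsupp.single (0 : Fin 2) 1 : Fin 2 →₀ ℕ) 0 : ℕ) : k) + 1 = 2 := by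
        simp
        norm_num
      rw [e1, e2] at h
      exact (mul_eq_zero.mp h).resolve_right h2
    have c11 : MvPolynomial.coeff (idx 1 1) (tau a f) = 0 := by
      have h := h2' 0 1
      rw [eval_pderiv, coeff_tau_pderiv] at h
      have e1 : (Finsupp.single (0 : Fin 2) 1 + Finsupp.single (1 : Fin 2) 1 : Fin 2 →₀ ℕ) =
          idx 1 1 := rfl
      have e2 : (((Finsupp.single (0 : Fin 2) 1 : Fin 2 →₀ ℕ) 1 : ℕ) : k) + 1 = 1 := by
        simp
      rw [e1, e2, mul_one] at h
      exact h
    have c02 : MvPolynomial.coeff (idx 0 2) (tau a f) = 0 := by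
      have h := h2' 1 1
      rw [eval_pderiv, coeff_tau_pderiv] at h
      have e1 : (Finsupp.single (1 : Fin 2) 1 + Finsupp.single (1 : Fin 2) 1 : Fin 2 →₀ ℕ) =
          idx 0 2 := fin2_ext (by simp) (by simp)
      have e2 : (((Finsupp.single (1 : Fin 2) 1 : Fin 2 →₀ ℕ) 1 : ℕ) : k) + 1 = 2 := by
        simp
        norm_num
      rw [e1, e2] at h
      exact (mul_eq_zero.mp h).resolve_right h2
    intro e he
    rw [hc]
    have he' : e = idx (e 0) (e 1) := eq_idx e
    have hd : e 0 + e 1 < 3 := by
      have h3 := he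
      rw [he', degree_idx] at h3
      exact h3
    obtain ⟨p, hp⟩ : ∃ p, e 0 = p := ⟨_, rfl⟩
    obtain ⟨q, hq⟩ : ∃ q, e 1 = q := ⟨_, rfl⟩
    rw [he', hp, hq]
    rw [hp, hq] at hd
    have hp3 : p < 3 := by omega
    have hq3 : q < 3 := by omega
    interval_cases p <;> interval_cases q <;>
      first
      | omega
      | exact c00
      | exact c10
      | exact c01
      | exact c20
      | exact c11
      | exact c02
  · intro hO
    have hz : ∀ e : Fin 2 →₀ ℕ, e.degree < 3 → MvPolynomial.coeff e (tau a f) = 0 := by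
      intro e he
      rw [← hc]
      exact hO e he
    constructor
    · intro i
      rw [eval_pderiv]
      apply hz
      rw [Finsupp.degree_single]
      norm_num
    · intro i j
      rw [eval_pderiv, coeff_tau_pderiv, hz, zero_mul]
      rw [map_add, Finsupp.degree_single, Finsupp.degree_single]
      norm_num

end taylor

end Groth.Agent.Helper8.ArS
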