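import Mathlib
import Groth.Prelude.Def_W4c1arstab1appArSing
import Groth.Agent.Lib.Helper8.ArS1

/-!
# A_n classification, part 4: Weierstrass preparation, completing the square, normal forms
-/

set_option autoImplicit false
universe u

namespace Groth.Agent.Helper8.ArS

open MvPowerSeries
open Groth.Agent.Lib.Helper9.PSOrd
open Groth.Agent.Lib.Helper9.NodeNF

local notation "Od" => Groth.Agent.Lib.Helper9.PSOrd.Ord

section onevar
variable {k : Type u} [Field k]

lemma maxIdeal_eq : IsLocalRing.maximalIdeal (MvPowerSeries (Fin 1) k) =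
    Ideal.span (Set.range (X : Fin 1 → MvPowerSeries (Fin 1) k)) := by
  apply le_antisymm
  · intro x hx
    have hc : constantCoeff x = 0 := by
      by_contra hne
      have hu : IsUnit x :=
        MvPowerSeries.isUnit_iff_constantCoeff.mpr (isUnit_iff_ne_zero.mpr hne)
      exact ((IsLocalRing.mem_maximalIdeal x).mp hx) hu
    rw [← sum_X_mul_divX x hc]
    exact Ideal.sum_mem _ (fun i _ => Ideal.mul_mem_right _ _ (Ideal.subset_span ⟨i, rfl⟩))
  · rw [Ideal.span_le]
    rintro _ ⟨i, rfl⟩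
    rw [SetLike.mem_coe, IsLocalRing.mem_maximalIdeal, mem_nonunits_iff,
      MvPowerSeries.isUnit_iff_constantCoeff, constantCoeff_X]
    exact not_isUnit_zero

instance instAdic1 : IsAdicComplete (IsLocalRing.maximalIdeal (MvPowerSeries (Fin 1) k))
    (MvPowerSeries (Fin 1) k) := by
  rw [maxIdeal_eq]
  infer_instance

lemma residue_eq_zero_iff' (x : MvPowerSeries (Fin 1) k) :
    IsLocalRing.residue (MvPowerSeries (Fin 1) k) x = 0 ↔ constantCoeff x = 0 := by
  rw [IsLocalRing.residue_eq_zero_iff, IsLocalRing.mem_maximalIdeal, mem_nonunits_iff,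
    MvPowerSeries.isUnit_iff_constantCoeff, isUnit_iff_ne_zero, not_not]

lemma fin1_eq_single (e : Fin 1 →₀ ℕ) : e = Finsupp.single 0 (e 0) := by
  apply Finsupp.ext
  intro i
  rw [Fin.eq_zero i]
  simp

/-- a nonzero series in one variable is a power of the variable times a unit -/
lemma exists_Xpow_mul (c : MvPowerSeries (Fin 1) k) (hc : c ≠ 0) :
    ∃ (m : ℕ) (w : MvPowerSeries (Fin 1) k), IsUnit w ∧ c = X 0 ^ m * w ∧
      (constantCoeff c = 0 → 1 ≤ m) := by
  classical
  have hex : ∃ n, coeff (Finsupp.single 0 n) c ≠ 0 := by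
    by_contra hcon
    push Not at hcon
    apply hc
    ext e
    rw [fin1_eq_single e, hcon, map_zero]
  obtain ⟨m, hm, hmin⟩ : ∃ m, coeff (Finsupp.single 0 m) c ≠ 0 ∧
      ∀ n, n < m → coeff (Finsupp.single 0 n) c = 0 :=
    ⟨Nat.find hex, Nat.find_spec hex, fun n hn => not_not.mp (Nat.find_min hex hn)⟩
  refine ⟨m, fun e => coeff (e + Finsupp.single 0 m) c, ?_, ?_, ?_⟩
  · rw [MvPowerSeries.isUnit_iff_constantCoeff]
    apply isUnit_iff_ne_zero.mpr
    rw [← coeff_zero_eq_constantCoeff_apply]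
    show coeff (0 + Finsupp.single 0 m) c ≠ 0
    rwa [zero_add]
  · ext e
    rw [X_pow_eq, coeff_monomial_mul, one_mul]
    by_cases hle : Finsupp.single 0 m ≤ e
    · rw [if_pos hle]
      show coeff e c = coeff (e - Finsupp.single 0 m + Finsupp.single 0 m) c
      rw [tsub_add_cancel_of_le hle]
    · rw [if_neg hle]
      have hlt : e 0 < m := by
        by_contra hcon
        exact hle (Finsupp.single_le_iff.mpr (not_lt.mp hcon))
      rw [fin1_eq_single e]
      exact hmin _ hlt
  · intro h0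
    by_contra hcon
    have hm0 : m = 0 := by omega
    apply hm
    rw [hm0, Finsupp.single_zero, coeff_zero_eq_constantCoeff_apply, h0]

end onevar

section iota
variable {k : Type u} [Field k]

/-- series in `y` alone, as series in `x, y` -/
noncomputable def iota (k : Type u) [Field k] :
    MvPowerSeries (Fin 1) k →+* MvPowerSeries (Fin 2) k :=
  ((MvPowerSeries.finSuccEquiv k 1).symm :
    PowerSeries (MvPowerSeries (Fin 1) k) →+* MvPowerSeries (Fin 2) k).comp PowerSeries.C

lemma iota_apply (d : MvPowerSeries (Fin 1) k) :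
    iota k d = (MvPowerSeries.finSuccEquiv k 1).symm (PowerSeries.C d) := rfl

lemma fe_iota (d : MvPowerSeries (Fin 1) k) :
    MvPowerSeries.finSuccEquiv k 1 (iota k d) = PowerSeries.C d := by
  rw [iota_apply, AlgEquiv.apply_symm_apply]

lemma cons_eq_idx (j : ℕ) (x : Fin 1 →₀ ℕ) :
    (Finsupp.cons j x : Fin 2 →₀ ℕ) = idx j (x 0) := by
  apply fin2_ext
  · rw [Finsupp.cons_zero, idx_zero]
  · rw [idx_one]
    exact Finsupp.cons_succ 0 j x

lemma coeff_fe (G : MvPowerSeries (Fin 2) k) (j : ℕ) (x : Fin 1 →₀ ℕ) :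
    coeff x (PowerSeries.coeff j (MvPowerSeries.finSuccEquiv k 1 G)) =
      coeff (idx j (x 0)) G := by
  rw [MvPowerSeries.coeff_coeff_finSuccEquiv, cons_eq_idx]

lemma coeff_iota (d : MvPowerSeries (Fin 1) k) (j : ℕ) (x : Fin 1 →₀ ℕ) :
    coeff (idx j (x 0)) (iota k d) = if j = 0 then coeff x d else 0 := by
  rw [← coeff_fe, fe_iota, PowerSeries.coeff_C]
  split_ifs <;> simp

lemma constantCoeff_iota (d : MvPowerSeries (Fin 1) k) :
    constantCoeff (iota k d) = constantCoeff d := by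
  have h := coeff_iota d 0 0
  rw [if_pos rfl] at h
  have h' : coeff (idx 0 0) (iota k d) = coeff 0 d := h
  rw [idx_zero_zero] at h'
  rw [← coeff_zero_eq_constantCoeff_apply, ← coeff_zero_eq_constantCoeff_apply, h']

lemma coeff_iota_10 (d : MvPowerSeries (Fin 1) k) : coeff (idx 1 0) (iota k d) = 0 := by
  have h := coeff_iota d 1 0
  rw [if_neg one_ne_zero] at h
  exact h

lemma iota_X : iota k (X 0) = X 1 := by
  rw [iota_apply, AlgEquiv.symm_apply_eq]
  exact (MvPowerSeries.finSuccEquiv_X_succ (0 : Fin 1)).symm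

lemma symm_X : (MvPowerSeries.finSuccEquiv k 1).symm PowerSeries.X = X 0 := by
  rw [AlgEquiv.symm_apply_eq]
  exact MvPowerSeries.finSuccEquiv_X_zero.symm

end iota

section weier
variable {k : Type u} [Field k]

/-- Weierstrass preparation and completing the square for a series that is regular of order
two in the first variable -/
theorem weier (h2 : (2 : k) ≠ 0) (G : MvPowerSeries (Fin 2) k)
    (h0 : coeff (idx 0 0) G = 0) (h1 : coeff (idx 1 0) G = 0) (h2' : coeff (idx 2 0) G ≠ 0) :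
    ∃ (bA cA : MvPowerSeries (Fin 1) k) (U : MvPowerSeries (Fin 2) k), IsUnit U ∧
      constantCoeff bA = 0 ∧ constantCoeff cA = 0 ∧
      G = ((X 0 + iota k bA) ^ 2 - iota k cA) * U := by
  classical
  have hcoef : ∀ j, constantCoeff (PowerSeries.coeff j (MvPowerSeries.finSuccEquiv k 1 G)) =
      coeff (idx j 0) G := by
    intro j
    rw [← coeff_zero_eq_constantCoeff_apply]
    exact coeff_fe G j 0
  have hres : ∀ j, PowerSeries.coeff j (PowerSeries.map
      (IsLocalRing.residue (MvPowerSeries (Fin 1) k)) (MvPowerSeries.finSuccEquiv k 1 G)) = 0 ↔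
      coeff (idx j 0) G = 0 := by
    intro j
    rw [PowerSeries.coeff_map, residue_eq_zero_iff', hcoef]
  have horder : (PowerSeries.map (IsLocalRing.residue (MvPowerSeries (Fin 1) k))
      (MvPowerSeries.finSuccEquiv k 1 G)).order = ((2 : ℕ) : ℕ∞) := by
    rw [PowerSeries.order_eq_nat]
    refine ⟨fun h => h2' ((hres 2).mp h), fun i hi => ?_⟩
    interval_cases i
    · exact (hres 0).mpr h0
    · exact (hres 1).mpr h1
  have hne : PowerSeries.map (IsLocalRing.residue (MvPowerSeries (Fin 1) k))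
      (MvPowerSeries.finSuccEquiv k 1 G) ≠ 0 := by
    intro h
    apply h2'
    rw [← hres 2, h, map_zero]
  obtain ⟨f, h, H⟩ := PowerSeries.exists_isWeierstrassFactorization hne
  have hdeg : f.natDegree = 2 := by
    rw [H.natDegree_eq_toNat_order_map, horder, ENat.toNat_coe]
  have hdist := PowerSeries.IsWeierstrassFactorizationAt.isDistinguishedAt H
  have hmonic : f.Monic := hdist.monic
  have hb1 : constantCoeff (f.coeff 1) = 0 := by
    have hm : f.coeff 1 ∈ IsLocalRing.maximalIdeal (MvPowerSeries (Fin 1) k) :=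
      hdist.mem (by rw [hdeg]; norm_num)
    rw [← residue_eq_zero_iff', IsLocalRing.residue_eq_zero_iff]
    exact hm
  have hb0 : constantCoeff (f.coeff 0) = 0 := by
    have hm : f.coeff 0 ∈ IsLocalRing.maximalIdeal (MvPowerSeries (Fin 1) k) :=
      hdist.mem (by rw [hdeg]; norm_num)
    rw [← residue_eq_zero_iff', IsLocalRing.residue_eq_zero_iff]
    exact hm
  have hfc : (f : PowerSeries (MvPowerSeries (Fin 1) k)) =
      PowerSeries.X ^ 2 + PowerSeries.C (f.coeff 1) * PowerSeries.X +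
        PowerSeries.C (f.coeff 0) := by
    conv_lhs => rw [hmonic.as_sum, hdeg]
    simp only [Finset.sum_range_succ, Finset.sum_range_zero, zero_add, pow_zero, mul_one,
      pow_one, Polynomial.coe_add, Polynomial.coe_pow, Polynomial.coe_X, Polynomial.coe_mul,
      Polynomial.coe_C]
    ring
  have hG1 : MvPowerSeries.finSuccEquiv k 1 G = (f : PowerSeries (MvPowerSeries (Fin 1) k)) * h :=
    PowerSeries.IsWeierstrassFactorizationAt.eq_mul H
  have hG2 : G = (MvPowerSeries.finSuccEquiv k 1).symm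
      ((f : PowerSeries (MvPowerSeries (Fin 1) k)) * h) := by
    rw [← hG1, AlgEquiv.symm_apply_apply]
  have hG3 : G = (X 0 ^ 2 + iota k (f.coeff 1) * X 0 + iota k (f.coeff 0)) *
      (MvPowerSeries.finSuccEquiv k 1).symm h := by
    conv_lhs => rw [hG2]
    rw [map_mul, hfc, map_add, map_add, map_mul, map_pow, symm_X]
    all_goals rfl
  obtain ⟨bA, hbA⟩ : ∃ bA : MvPowerSeries (Fin 1) k, bA = C (2⁻¹ : k) * f.coeff 1 := ⟨_, rfl⟩
  obtain ⟨cA, hcA⟩ : ∃ cA : MvPowerSeries (Fin 1) k, cA = bA ^ 2 - f.coeff 0 := ⟨_, rfl⟩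
  have h2i : (2 : MvPowerSeries (Fin 1) k) * C (2⁻¹ : k) = 1 := by
    rw [← map_ofNat (C (σ := Fin 1) (R := k)) 2, ← map_mul, mul_inv_cancel₀ h2, map_one]
  have hb : iota k (f.coeff 1) = 2 * iota k bA := by
    rw [hbA, map_mul, ← mul_assoc, ← map_ofNat (iota k) 2, ← map_mul, h2i, map_one, one_mul]
  have hbA0 : constantCoeff bA = 0 := by
    rw [hbA, map_mul, hb1, mul_zero]
  refine ⟨bA, cA, (MvPowerSeries.finSuccEquiv k 1).symm h,
    (PowerSeries.IsWeierstrassFactorizationAt.isUnit H).map _, hbA0, ?_, ?_⟩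
  · rw [hcA, map_sub, map_pow, hbA0, hb0]
    ring
  · conv_lhs => rw [hG3]
    rw [hcA, map_sub, map_pow, hb]
    ring

end weier

section sqrt
variable {k : Type u} [Field k]

lemma mem_span_X_of_constantCoeff (x : MvPowerSeries (Fin 2) k) (hx : constantCoeff x = 0) :
    x ∈ Ideal.span (Set.range (X : Fin 2 → MvPowerSeries (Fin 2) k)) := by
  rw [← sum_X_mul_divX x hx]
  exact Ideal.sum_mem _ (fun i _ => Ideal.mul_mem_right _ _ (Ideal.subset_span ⟨i, rfl⟩))

/-- units of `k[[x,y]]` have inverse square roots -/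
lemma exists_sq_mul_eq_one [IsAlgClosed k] (h2 : (2 : k) ≠ 0) (w : MvPowerSeries (Fin 2) k)
    (hw : IsUnit w) : ∃ t : MvPowerSeries (Fin 2) k, t ^ 2 * w = 1 := by
  obtain ⟨v, hv⟩ := hw.exists_right_inv
  have hv0 : constantCoeff v ≠ 0 := by
    intro h0
    have h1 := congrArg constantCoeff hv
    rw [map_mul, h0, mul_zero, map_one] at h1
    exact zero_ne_one h1
  obtain ⟨r, hr⟩ := IsAlgClosed.exists_pow_nat_eq (constantCoeff v) (by norm_num : 0 < 2)
  have hr0 : r ≠ 0 := by
    intro h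
    rw [h] at hr
    apply hv0
    rw [← hr]
    norm_num
  have hp : (Polynomial.X ^ 2 - Polynomial.C v : Polynomial (MvPowerSeries (Fin 2) k)).Monic :=
    Polynomial.monic_X_pow_sub_C v (by norm_num)
  have hev : Polynomial.eval (C r) (Polynomial.X ^ 2 - Polynomial.C v :
      Polynomial (MvPowerSeries (Fin 2) k)) = C r ^ 2 - v := by
    simp
  have hder : Polynomial.eval (C r) (Polynomial.derivative (Polynomial.X ^ 2 - Polynomial.C v :
      Polynomial (MvPowerSeries (Fin 2) k))) = 2 * C r := by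
    rw [Polynomial.derivative_sub, Polynomial.derivative_C, sub_zero,
      Polynomial.derivative_X_sq]
    simp
  have hmem : Polynomial.eval (C r) (Polynomial.X ^ 2 - Polynomial.C v :
      Polynomial (MvPowerSeries (Fin 2) k)) ∈
      Ideal.span (Set.range (X : Fin 2 → MvPowerSeries (Fin 2) k)) := by
    rw [hev]
    apply mem_span_X_of_constantCoeff
    rw [map_sub, map_pow, constantCoeff_C, hr, sub_self]
  have hunit : IsUnit (Ideal.Quotient.mk
      (Ideal.span (Set.range (X : Fin 2 → MvPowerSeries (Fin 2) k)))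
      (Polynomial.eval (C r) (Polynomial.derivative (Polynomial.X ^ 2 - Polynomial.C v :
        Polynomial (MvPowerSeries (Fin 2) k))))) := by
    rw [hder]
    apply IsUnit.map
    rw [MvPowerSeries.isUnit_iff_constantCoeff, map_mul, constantCoeff_C, map_ofNat]
    exact isUnit_iff_ne_zero.mpr (mul_ne_zero h2 hr0)
  obtain ⟨t, ht, -⟩ := HenselianRing.is_henselian
    (Polynomial.X ^ 2 - Polynomial.C v : Polynomial (MvPowerSeries (Fin 2) k)) hp (C r) hmem hunit
  refine ⟨t, ?_⟩
  have ht' : t ^ 2 - v = 0 := by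
    have h3 := ht
    rw [Polynomial.IsRoot.def] at h3
    simpa using h3
  have ht2 : t ^ 2 = v := sub_eq_zero.mp ht'
  rw [ht2, mul_comm]
  exact hv

end sqrt

section final
variable {k : Type u} [Field k]

/-- the normal forms of a prepared double point -/
theorem caseB_final [IsAlgClosed k] (h2 : (2 : k) ≠ 0) (G : MvPowerSeries (Fin 2) k)
    (bA cA : MvPowerSeries (Fin 1) k) (U : MvPowerSeries (Fin 2) k) (hU : IsUnit U)
    (hb0 : constantCoeff bA = 0) (hc0 : constantCoeff cA = 0)
    (hG : G = ((X 0 + iota k bA) ^ 2 - iota k cA) * U) :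
    (∃ n : ℕ, Nonempty (ArSing.ring k n ≃ₐ[k] (MvPowerSeries (Fin 2) k ⧸ Ideal.span {G}))) ∨
      Nonempty ((MvPowerSeries (Fin 2) k ⧸ Ideal.span {(X 1 ^ 2 : MvPowerSeries (Fin 2) k)}) ≃ₐ[k]
        (MvPowerSeries (Fin 2) k ⧸ Ideal.span {G})) := by
  obtain ⟨β, hβdef⟩ : ∃ β, β = iota k bA := ⟨_, rfl⟩
  rw [← hβdef] at hG
  have hβ0 : constantCoeff β = 0 := by rw [hβdef, constantCoeff_iota, hb0]
  have hβ10 : coeff (idx 1 0) β = 0 := by rw [hβdef, coeff_iota_10]
  obtain ⟨q, hβ, ohβ, eβ⟩ := exists_lin β hβ0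
  rw [hβ10] at eβ
  have hY : X 0 + β = C 1 * X 0 + C q * X 1 + hβ := by
    conv_lhs => rw [eβ]
    rw [map_zero, map_one]
    ring
  by_cases hc : cA = 0
  · right
    obtain ⟨θ, θ0, θ1, -⟩ := exists_coordEquiv (k := k) (X 1) (X 0 + β) 0 1 1 q 0 hβ
      (Ord.zero 2) ohβ (by simp) hY (by simp)
    apply quotEquiv_of_map θ (X 1 ^ 2) G U hU
    rw [map_pow, θ1, hG, hc, map_zero, sub_zero]
  · left
    obtain ⟨m, w', hw', hcm, hm1⟩ := exists_Xpow_mul cA hc
    have hm := hm1 hc0
    obtain ⟨n, rfl⟩ : ∃ n, m = n + 1 := ⟨m - 1, by omega⟩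
    have hW : IsUnit (iota k w') := hw'.map (iota k)
    have hγ : iota k cA = X 1 ^ (n + 1) * iota k w' := by
      rw [hcm, map_mul, map_pow, iota_X]
    obtain ⟨t, ht⟩ := exists_sq_mul_eq_one h2 (iota k w') hW
    have ht0 : constantCoeff t ≠ 0 := by
      intro h0
      have h1 := congrArg constantCoeff ht
      rw [map_mul, map_pow, h0, map_one] at h1
      simp at h1
    obtain ⟨h'', oh'', eY⟩ := lin_mul (X 0 + β) t hβ 1 q ohβ hY
    obtain ⟨θ, θ0, θ1, -⟩ := exists_coordEquiv (k := k) (X 1) ((X 0 + β) * t) 0 1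
      (1 * constantCoeff t) (q * constantCoeff t) 0 h'' (Ord.zero 2) oh'' (by simp) eY
      (by
        rw [zero_mul, one_mul, one_mul, zero_sub]
        exact neg_ne_zero.mpr ht0)
    refine ⟨n, ?_⟩
    apply quotEquiv_of_map θ (ArSing.eqn k n) G (iota k w' * U) (hW.mul hU)
    have hθe : θ (ArSing.eqn k n) = ((X 0 + β) * t) ^ 2 - X 1 ^ (n + 1) := by
      show θ (X 1 ^ 2 - X 0 ^ (n + 1)) = _
      rw [map_sub, map_pow, map_pow, θ0, θ1]
    rw [hG, hγ, hθe]
    linear_combination (-(X 0 + β) ^ 2 * U) * ht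

end final

end Groth.Agent.Helper8.ArS
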