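import Mathlib
import Groth.Prelude.Def_W4c1arstab1appArSing
import Groth.Agent.Lib.Helper8.ArS1
import Groth.Agent.Lib.Helper8.ArS2
import Groth.Agent.Lib.Helper8.ArS3
import Groth.Agent.Lib.Helper8.ArS4

/-!
# A_n classification, part 5: assembly
-/

set_option autoImplicit false
universe u

namespace Groth.Agent.Helper8.ArS

open MvPowerSeries
open Groth.Agent.Lib.Helper9.PSOrd
open Groth.Agent.Lib.Helper9.NodeNF

local notation "Od" => Groth.Agent.Lib.Helper9.PSOrd.Ord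

section assembly
variable {k : Type u} [Field k]

/-- a plane curve germ of multiplicity `≤ 2` is smooth, an `A_n`-singularity or a double line -/
theorem hard [IsAlgClosed k] (h2 : (2 : k) ≠ 0) (F : MvPowerSeries (Fin 2) k)
    (hF0 : constantCoeff F = 0) (hF3 : ¬ Od 3 F) :
    (∃ n : ℕ, Nonempty ((MvPowerSeries (Fin 2) k ⧸ Ideal.span {F}) ≃ₐ[k] ArSing.ring k n)) ∨
      Nonempty ((MvPowerSeries (Fin 2) k ⧸ Ideal.span {F}) ≃ₐ[k]
        (MvPowerSeries (Fin 2) k ⧸ Ideal.span {(X 1 ^ 2 : MvPowerSeries (Fin 2) k)})) := by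
  by_cases hF2 : Od 2 F
  · obtain ⟨L, a', r, h', ha', hh', hLF⟩ := exists_prep F hF2 hF3
    obtain ⟨c0, c1, c2⟩ := coeff_prep a' r h' hh'
    rw [← hLF] at c0 c1 c2
    obtain ⟨bA, cA, U, hU, hb0, hc0, hG⟩ := weier h2 (L F) c0 c1 (by rw [c2]; exact ha')
    obtain ⟨eL⟩ := quotEquiv_of_map L F (L F) 1 isUnit_one (by rw [mul_one])
    rcases caseB_final h2 (L F) bA cA U hU hb0 hc0 hG with ⟨n, ⟨e⟩⟩ | ⟨⟨e⟩⟩
    · left
      exact ⟨n, ⟨eL.trans e.symm⟩⟩
    · right
      exact ⟨eL.trans e.symm⟩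
  · left
    refine ⟨0, ?_⟩
    obtain ⟨b, h, hh, eF⟩ := exists_lin F hF0
    obtain ⟨a, ha_def⟩ : ∃ a, a = coeff (idx 1 0) F := ⟨_, rfl⟩
    rw [← ha_def] at eF
    by_cases ha : a = 0
    · have hb : b ≠ 0 := by
        intro hb
        apply hF2
        rw [eF, ha, hb]
        simpa using hh
      obtain ⟨θ, θ0, θ1, -⟩ := exists_coordEquiv (k := k) (X 0 ^ 2 - F) (X 0) (-a) (-b) 1 0
        (X 0 ^ 2 - h) 0 (Ord_X0_sq.sub hh) (Ord.zero 2)
        (by
          conv_lhs => rw [eF]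
          rw [map_neg, map_neg]
          ring)
        (by simp)
        (by
          rw [mul_zero, mul_one, zero_sub, neg_neg]
          exact hb)
      have hθe : θ (ArSing.eqn k 0) = F := by
        show θ (X 1 ^ 2 - X 0 ^ (0 + 1)) = F
        rw [map_sub, map_pow, map_pow, θ0, θ1, zero_add, pow_one]
        ring
      obtain ⟨e⟩ := quotEquiv_of_map θ (ArSing.eqn k 0) F 1 isUnit_one (by rw [hθe, mul_one])
      exact ⟨e.symm⟩
    · obtain ⟨θ, θ0, θ1, -⟩ := exists_coordEquiv (k := k) (X 1 ^ 2 - F) (X 1) (-a) (-b) 0 1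
        (X 1 ^ 2 - h) 0 (Ord_X1_sq.sub hh) (Ord.zero 2)
        (by
          conv_lhs => rw [eF]
          rw [map_neg, map_neg]
          ring)
        (by simp)
        (by
          rw [mul_one, mul_zero, sub_zero]
          exact neg_ne_zero.mpr ha)
      have hθe : θ (ArSing.eqn k 0) = F := by
        show θ (X 1 ^ 2 - X 0 ^ (0 + 1)) = F
        rw [map_sub, map_pow, map_pow, θ0, θ1, zero_add, pow_one]
        ring
      obtain ⟨e⟩ := quotEquiv_of_map θ (ArSing.eqn k 0) F 1 isUnit_one (by rw [hθe, mul_one])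
      exact ⟨e.symm⟩

/-- the classification of plane curve germs by the order of the equation -/
theorem classify [IsAlgClosed k] (h2 : (2 : k) ≠ 0) (F : MvPowerSeries (Fin 2) k)
    (hF0 : constantCoeff F = 0) :
    Od 3 F ↔
      ¬ ((∃ n : ℕ, Nonempty ((MvPowerSeries (Fin 2) k ⧸ Ideal.span {F}) ≃ₐ[k] ArSing.ring k n)) ∨
        Nonempty ((MvPowerSeries (Fin 2) k ⧸ Ideal.span {F}) ≃ₐ[k]
          (MvPowerSeries (Fin 2) k ⧸ Ideal.span {(X 1 ^ 2 : MvPowerSeries (Fin 2) k)}))) := by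
  constructor
  · intro hO
    rintro (⟨n, ⟨φ⟩⟩ | ⟨⟨φ⟩⟩)
    · exact (no_iso F (ArSing.eqn k n) hO (not_Ord3_eqn n)).false φ
    · exact (no_iso F (X 1 ^ 2) hO not_Ord3_X1sq).false φ
  · intro hno
    by_contra hO
    exact hno (hard h2 F hF0 hO)

/-- the main theorem -/
theorem main [IsAlgClosed k] (h2 : (2 : k) ≠ 0) (f : MvPolynomial (Fin 2) k) (a : Fin 2 → k)
    (hfa : MvPolynomial.eval a f = 0) :
    ((∀ i : Fin 2, MvPolynomial.eval a (MvPolynomial.pderiv i f) = 0) ∧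
      ∀ i j : Fin 2,
        MvPolynomial.eval a (MvPolynomial.pderiv i (MvPolynomial.pderiv j f)) = 0) ↔
    ¬ ((∃ n : ℕ, Nonempty ((MvPowerSeries (Fin 2) k ⧸ Ideal.span
        ({(MvPolynomial.aeval (fun i : Fin 2 => MvPolynomial.X i + MvPolynomial.C (a i))
          f).toMvPowerSeries} : Set (MvPowerSeries (Fin 2) k))) ≃ₐ[k] ArSing.ring k n)) ∨
        Nonempty ((MvPowerSeries (Fin 2) k ⧸ Ideal.span
        ({(MvPolynomial.aeval (fun i : Fin 2 => MvPolynomial.X i + MvPolynomial.C (a i))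
          f).toMvPowerSeries} : Set (MvPowerSeries (Fin 2) k))) ≃ₐ[k]
          (MvPowerSeries (Fin 2) k ⧸ Ideal.span
            ({MvPowerSeries.X 1 ^ 2} : Set (MvPowerSeries (Fin 2) k))))) := by
  have ht := taylor_iff h2 f a hfa
  have hF0 : MvPowerSeries.constantCoeff (MvPolynomial.toMvPowerSeries (tau a f)) = 0 := by
    rw [← MvPowerSeries.coeff_zero_eq_constantCoeff_apply]
    have h1 : MvPowerSeries.coeff 0 (MvPolynomial.toMvPowerSeries (tau a f)) =
        MvPolynomial.coeff 0 (tau a f) := MvPolynomial.coeff_coe _ _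
    rw [h1, ← eval_eq_coeff_tau]
    exact hfa
  exact ht.trans (classify h2 (MvPolynomial.toMvPowerSeries (tau a f)) hF0)

end assembly

end Groth.Agent.Helper8.ArS
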