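import Mathlib
import Groth.Agent.Lib.Helper8.ArS4
import Groth.Agent.Lib.Helper2.Nodal.PowerSeries

/-!
# `k[[x,y]]/(F) ≃ k[[x,y]]/(y^2)` forces `F = unit * u^2` with `u` of order one
-/

set_option autoImplicit false
set_option maxHeartbeats 800000

universe u

namespace Groth.Agent.Helper8.ArT

open MvPowerSeries
open Groth.Agent.Lib.Helper9.PSOrd
open Groth.Agent.Lib.Helper9.NodeNF
open Groth.Agent.Helper8.ArS

local notation "Od" => Groth.Agent.Lib.Helper9.PSOrd.Ord

section general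

/-- a non-unit divisor of a power of a prime is divisible by the prime -/
theorem prime_dvd_of_dvd_pow {M : Type*} [CommRing M] [IsDomain M] {x d : M} (hx : Prime x)
    (hd : ¬ IsUnit d) : ∀ m : ℕ, d ∣ x ^ m → x ∣ d := by
  intro m
  induction m with
  | zero =>
    intro h
    rw [pow_zero] at h
    exact absurd (isUnit_of_dvd_one h) hd
  | succ m ih =>
    intro h
    obtain ⟨c, hc⟩ := h
    have h1 : x ∣ d * c := ⟨x ^ m, by rw [← hc, pow_succ']⟩
    rcases hx.dvd_or_dvd h1 with h2 | h2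
    · exact h2
    · obtain ⟨c', rfl⟩ := h2
      apply ih
      refine ⟨c', ?_⟩
      have h3 : x * x ^ m = x * (d * c') := by
        rw [← pow_succ', hc]
        ring
      exact mul_left_cancel₀ hx.ne_zero h3

end general

section ps
variable {k : Type u} [Field k]

/-- a series of order exactly one is the image of `y` under an automorphism -/
theorem exists_equiv_X1 (G : MvPowerSeries (Fin 2) k) (h1 : Od 1 G) (h2 : ¬ Od 2 G) :
    ∃ θ : MvPowerSeries (Fin 2) k ≃ₐ[k] MvPowerSeries (Fin 2) k, θ (X 1) = G := by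
  obtain ⟨b, h, hh, hG⟩ := exists_lin G ((Ord_one_iff G).mp h1)
  by_cases hb : b = 0
  · have ha : coeff (idx 1 0) G ≠ 0 := by
      intro ha
      apply h2
      have hG' : G = h := by
        rw [hG, ha, hb]
        simp
      rw [hG']
      exact hh
    obtain ⟨θ, -, θ1, -⟩ := exists_coordEquiv (k := k) (X 1) G 0 1 (coeff (idx 1 0) G) b 0 h
      (Ord.zero 2) hh (by simp) hG (by simpa using ha)
    exact ⟨θ, θ1⟩
  · obtain ⟨θ, -, θ1, -⟩ := exists_coordEquiv (k := k) (X 0) G 1 0 (coeff (idx 1 0) G) b 0 h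
      (Ord.zero 2) hh (by simp) hG (by simpa using hb)
    exact ⟨θ, θ1⟩

theorem prime_of_ord1 (G : MvPowerSeries (Fin 2) k) (h1 : Od 1 G) (h2 : ¬ Od 2 G) : Prime G := by
  obtain ⟨θ, hθ⟩ := exists_equiv_X1 G h1 h2
  rw [← hθ]
  exact (MulEquiv.prime_iff θ).mpr (Groth.Agent.Helper2.Nodal.X_prime 1)

/-- the quotient map -/
noncomputable abbrev mkq (F : MvPowerSeries (Fin 2) k) :
    MvPowerSeries (Fin 2) k →+* (MvPowerSeries (Fin 2) k ⧸ Ideal.span {F}) :=
  Ideal.Quotient.mk (Ideal.span {F})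

lemma mk_eq_zero_iff (F x : MvPowerSeries (Fin 2) k) :
    mkq F x = 0 ↔ F ∣ x := by
  rw [Ideal.Quotient.eq_zero_iff_mem, Ideal.mem_span_singleton]

lemma constCoeff_of_iso (G₁ G₂ : MvPowerSeries (Fin 2) k) (hG₁ : constantCoeff G₁ = 0)
    (φ : (MvPowerSeries (Fin 2) k ⧸ Ideal.span {G₁}) ≃ₐ[k]
      (MvPowerSeries (Fin 2) k ⧸ Ideal.span {G₂}))
    (x y : MvPowerSeries (Fin 2) k) (hx : constantCoeff x = 0)
    (hxy : mkq G₂ y = φ (mkq G₁ x)) :
    constantCoeff y = 0 := by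
  by_contra hc
  have hy : IsUnit y := by
    rw [MvPowerSeries.isUnit_iff_constantCoeff]
    exact isUnit_iff_ne_zero.mpr hc
  have h1 : IsUnit (mkq G₂ y) := hy.map _
  rw [hxy] at h1
  have h2 : IsUnit (mkq G₁ x) := by
    have h := h1.map φ.symm
    rwa [AlgEquiv.symm_apply_apply] at h
  obtain ⟨z', hz'⟩ := h2.exists_right_inv
  obtain ⟨z, rfl⟩ := Ideal.Quotient.mk_surjective z'
  have h3 : mkq G₁ (x * z - 1) = 0 := by
    rw [map_sub, map_mul, hz', map_one, sub_self]
  rw [mk_eq_zero_iff] at h3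
  obtain ⟨w, hw⟩ := h3
  have h4 := congrArg constantCoeff hw
  rw [map_sub, map_mul, map_mul, hx, hG₁, zero_mul, zero_mul, map_one, zero_sub] at h4
  exact one_ne_zero (neg_eq_zero.mp h4)

lemma not_X1sq_dvd_X1 : ¬ ((X 1 ^ 2 : MvPowerSeries (Fin 2) k) ∣ X 1) := by
  rintro ⟨c, hc⟩
  have hX : (X 1 : MvPowerSeries (Fin 2) k) ≠ 0 :=
    (Groth.Agent.Helper2.Nodal.X_prime (K := k) (1 : Fin 2)).ne_zero
  have h1 : (X 1 : MvPowerSeries (Fin 2) k) * 1 = X 1 * (X 1 * c) := by
    calc (X 1 : MvPowerSeries (Fin 2) k) * 1 = X 1 := mul_one _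
      _ = X 1 ^ 2 * c := hc
      _ = X 1 * (X 1 * c) := by ring
  have h2 := mul_left_cancel₀ hX h1
  have h3 := congrArg constantCoeff h2
  rw [map_one, map_mul, constantCoeff_X, zero_mul] at h3
  exact one_ne_zero h3

lemma coeff_lin_form (a b : k) (h : MvPowerSeries (Fin 2) k) (hh : Od 2 h) :
    coeff (idx 1 0) (C a * X 0 + C b * X 1 + h) = a ∧
      coeff (idx 0 1) (C a * X 0 + C b * X 1 + h) = b := by
  have e0 : (X 0 : MvPowerSeries (Fin 2) k) = monomial (idx 1 0) 1 := by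
    have h := X0_pow_eq (k := k) 1
    rwa [pow_one] at h
  have e1 : (X 1 : MvPowerSeries (Fin 2) k) = monomial (idx 0 1) 1 := by
    have h := X1_pow_eq (k := k) 1
    rwa [pow_one] at h
  have c00 : coeff (idx 1 0) (X 0 : MvPowerSeries (Fin 2) k) = 1 := by
    rw [e0, coeff_monomial_same]
  have c01 : coeff (idx 0 1) (X 0 : MvPowerSeries (Fin 2) k) = 0 := by
    rw [e0, coeff_monomial, if_neg]
    intro e
    exact absurd (idx_inj.mp e).1 (by norm_num)
  have c10 : coeff (idx 1 0) (X 1 : MvPowerSeries (Fin 2) k) = 0 := by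
    rw [e1, coeff_monomial, if_neg]
    intro e
    exact absurd (idx_inj.mp e).1 (by norm_num)
  have c11 : coeff (idx 0 1) (X 1 : MvPowerSeries (Fin 2) k) = 1 := by
    rw [e1, coeff_monomial_same]
  constructor
  · rw [map_add, map_add, coeff_C_mul, coeff_C_mul, c00, c10,
      hh (idx 1 0) (by rw [degree_idx]; norm_num), mul_one, mul_zero, add_zero, add_zero]
  · rw [map_add, map_add, coeff_C_mul, coeff_C_mul, c01, c11,
      hh (idx 0 1) (by rw [degree_idx]; norm_num), mul_one, mul_zero, zero_add, add_zero]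

/-- the main structural consequence of an isomorphism with `k[[x,y]]/(y^2)` -/
theorem exists_sq_of_iso (F : MvPowerSeries (Fin 2) k)
    (e : (MvPowerSeries (Fin 2) k ⧸ Ideal.span {F}) ≃ₐ[k]
      (MvPowerSeries (Fin 2) k ⧸ Ideal.span {(X 1 ^ 2 : MvPowerSeries (Fin 2) k)})) :
    ∃ u W : MvPowerSeries (Fin 2) k, Od 1 u ∧ ¬ Od 2 u ∧ IsUnit W ∧ u ^ 2 = F * W := by
  haveI : IsDomain (MvPowerSeries (Fin 2) k) := NoZeroDivisors.to_isDomain _
  have hY0 : constantCoeff (X 1 ^ 2 : MvPowerSeries (Fin 2) k) = 0 := by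
    rw [map_pow, constantCoeff_X, zero_pow two_ne_zero]
  -- `F` is not a unit
  have hF0 : constantCoeff F = 0 := by
    by_contra hc
    have hu : IsUnit F := by
      rw [MvPowerSeries.isUnit_iff_constantCoeff]
      exact isUnit_iff_ne_zero.mpr hc
    have h1 : mkq F 1 = 0 := by
      rw [mk_eq_zero_iff]
      exact hu.dvd
    have h2 : mkq (X 1 ^ 2 : MvPowerSeries (Fin 2) k) 1 = 0 := by
      have h := congrArg e h1
      rw [map_one, map_one, map_zero] at h
      rw [map_one]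
      exact h
    rw [mk_eq_zero_iff] at h2
    have h3 := isUnit_of_dvd_one h2
    rw [MvPowerSeries.isUnit_iff_constantCoeff, hY0] at h3
    exact not_isUnit_zero h3
  obtain ⟨u0, hu0⟩ := Ideal.Quotient.mk_surjective
    (e.symm (mkq (X 1 ^ 2 : MvPowerSeries (Fin 2) k) (X 0)))
  obtain ⟨u1, hu1⟩ := Ideal.Quotient.mk_surjective
    (e.symm (mkq (X 1 ^ 2 : MvPowerSeries (Fin 2) k) (X 1)))
  have ou0 : constantCoeff u0 = 0 :=
    constCoeff_of_iso _ _ hY0 e.symm (X 0) u0 (constantCoeff_X 0) hu0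
  have ou1 : constantCoeff u1 = 0 :=
    constCoeff_of_iso _ _ hY0 e.symm (X 1) u1 (constantCoeff_X 1) hu1
  have hd : F ∣ u1 ^ 2 := by
    rw [← mk_eq_zero_iff]
    have h1 : mkq F (u1 ^ 2) =
        e.symm (mkq (X 1 ^ 2 : MvPowerSeries (Fin 2) k) (X 1 ^ 2)) := by
      rw [map_pow, map_pow, map_pow]
      exact congrArg (· ^ 2) hu1
    have h2 : mkq (X 1 ^ 2 : MvPowerSeries (Fin 2) k) (X 1 ^ 2) = 0 := by
      rw [mk_eq_zero_iff]
    rw [h1, h2, map_zero]
  have hF1 : Od 1 F := (Ord_one_iff F).mpr hF0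
  have hF2 : Od 2 F := by
    by_contra h2
    have hp := prime_of_ord1 F hF1 h2
    have h3 : F ∣ u1 := hp.dvd_of_dvd_pow hd
    rw [← mk_eq_zero_iff] at h3
    have h3' : e.symm (mkq (X 1 ^ 2 : MvPowerSeries (Fin 2) k) (X 1)) = 0 := hu1.symm.trans h3
    have h4 : mkq (X 1 ^ 2 : MvPowerSeries (Fin 2) k) (X 1) = 0 := by
      have h := congrArg e h3'
      rwa [AlgEquiv.apply_symm_apply, map_zero] at h
    rw [mk_eq_zero_iff] at h4
    exact not_X1sq_dvd_X1 h4
  have hnu1 : ¬ Od 2 u1 := by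
    intro hu1O
    have key : ∀ i : Fin 2, ∃ a' : MvPowerSeries (Fin 2) k, Od 2 (X i - u0 * a') := by
      intro i
      obtain ⟨v, hv⟩ := Ideal.Quotient.mk_surjective (e (mkq F (X i)))
      have ov : constantCoeff v = 0 :=
        constCoeff_of_iso _ _ hF0 e (X i) v (constantCoeff_X i) hv
      have hs := sum_X_mul_divX v ov
      rw [Fin.sum_univ_two] at hs
      obtain ⟨a', ha'⟩ := Ideal.Quotient.mk_surjective
        (e.symm (mkq (X 1 ^ 2 : MvPowerSeries (Fin 2) k) (divX 0 v)))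
      obtain ⟨b', hb'⟩ := Ideal.Quotient.mk_surjective
        (e.symm (mkq (X 1 ^ 2 : MvPowerSeries (Fin 2) k) (divX 1 v)))
      have h1 : mkq F (X i) = mkq F (u0 * a' + u1 * b') := by
        have h2 : mkq F (X i) = e.symm (mkq (X 1 ^ 2 : MvPowerSeries (Fin 2) k) v) := by
          have hv' : mkq (X 1 ^ 2 : MvPowerSeries (Fin 2) k) v = e (mkq F (X i)) := hv
          rw [hv', AlgEquiv.symm_apply_apply]
        rw [h2, ← hs]
        simp only [map_add, map_mul]
        rw [← hu0, ← hu1, ← ha', ← hb']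
      have h3 : mkq F (X i - (u0 * a' + u1 * b')) = 0 := by
        rw [map_sub, h1, sub_self]
      rw [mk_eq_zero_iff] at h3
      obtain ⟨c, hc⟩ := h3
      refine ⟨a', ?_⟩
      have h4 : X i - u0 * a' = u1 * b' + F * c := by
        rw [← hc]
        ring
      rw [h4]
      exact (hu1O.mul_right b').add (hF2.mul_right c)
    obtain ⟨β, h, hh, hu0e⟩ := exists_lin u0 ou0
    obtain ⟨a0, ha0⟩ := key 0
    obtain ⟨a1, ha1⟩ := key 1
    obtain ⟨h0', hh0', e0'⟩ := lin_mul u0 a0 h _ β hh hu0e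
    obtain ⟨h1', hh1', e1'⟩ := lin_mul u0 a1 h _ β hh hu0e
    have X0lin := coeff_lin_form (k := k) 1 0 0 (Ord.zero 2)
    have X1lin := coeff_lin_form (k := k) 0 1 0 (Ord.zero 2)
    have hX0 : (C 1 * X 0 + C 0 * X 1 + 0 : MvPowerSeries (Fin 2) k) = X 0 := by simp
    have hX1 : (C 0 * X 0 + C 1 * X 1 + 0 : MvPowerSeries (Fin 2) k) = X 1 := by simp
    rw [hX0] at X0lin
    rw [hX1] at X1lin
    have l0 := coeff_lin_form (coeff (idx 1 0) u0 * constantCoeff a0) (β * constantCoeff a0) h0' hh0'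
    have l1 := coeff_lin_form (coeff (idx 1 0) u0 * constantCoeff a1) (β * constantCoeff a1) h1' hh1'
    rw [← e0'] at l0
    rw [← e1'] at l1
    have d01 := ha0 (idx 0 1) (by rw [degree_idx]; norm_num)
    have d10 := ha0 (idx 1 0) (by rw [degree_idx]; norm_num)
    have d11 := ha1 (idx 0 1) (by rw [degree_idx]; norm_num)
    rw [map_sub, X0lin.2, l0.2] at d01
    rw [map_sub, X0lin.1, l0.1] at d10
    rw [map_sub, X1lin.2, l1.2] at d11
    have hβ : β ≠ 0 := by
      intro hβ0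
      rw [hβ0, zero_mul, sub_zero] at d11
      exact one_ne_zero d11
    have hc0 : constantCoeff a0 = 0 := by
      rw [zero_sub, neg_eq_zero] at d01
      exact (mul_eq_zero.mp d01).resolve_left hβ
    rw [hc0, mul_zero, sub_zero] at d10
    exact one_ne_zero d10
  have ou1' : Od 1 u1 := (Ord_one_iff u1).mpr ou1
  have hpu : Prime u1 := prime_of_ord1 u1 ou1' hnu1
  have hFnu : ¬ IsUnit F := by
    rw [MvPowerSeries.isUnit_iff_constantCoeff, hF0]
    exact not_isUnit_zero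
  have hu1F : u1 ∣ F := prime_dvd_of_dvd_pow hpu hFnu 2 hd
  obtain ⟨F', hF'⟩ := hu1F
  obtain ⟨W, hW⟩ := hd
  refine ⟨u1, W, ou1', hnu1, ?_, hW⟩
  have h5 : u1 = F' * W := by
    apply mul_left_cancel₀ hpu.ne_zero
    calc u1 * u1 = u1 ^ 2 := (pow_two u1).symm
      _ = F * W := hW
      _ = u1 * F' * W := by rw [← hF']
      _ = u1 * (F' * W) := by ring
  rcases hpu.irreducible.isUnit_or_isUnit h5 with hF'u | hWu
  · exfalso
    apply hnu1
    obtain ⟨v, hv⟩ := hF'u.exists_right_inv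
    have h6 : u1 = F * v := by
      rw [hF', mul_assoc, hv, mul_one]
    rw [h6]
    exact hF2.mul_right v
  · exact hWu

end ps

end Groth.Agent.Helper8.ArT
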