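import Mathlib
import Groth.Agent.Lib.Helper8.ArT1

/-!
# Polynomials versus power series in two variables: common factors and square factors
-/

set_option autoImplicit false
set_option maxHeartbeats 800000

universe u

namespace Groth.Agent.Helper8.ArT

open Groth.Agent.Lib.Helper9.PSOrd
open Groth.Agent.Lib.Helper9.NodeNF
open Groth.Agent.Helper8.ArS

local notation "Od" => Groth.Agent.Lib.Helper9.PSOrd.Ord

section elim

open Polynomial in
/-- elimination: an irreducible polynomial `p` over a UFD `R` and a polynomial `q` not divisible by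
it generate an ideal meeting `R` nontrivially -/
theorem elim_poly {R : Type*} [CommRing R] [IsDomain R] [UniqueFactorizationMonoid R]
    (p q : Polynomial R) (hp : Irreducible p) (hpq : ¬ p ∣ q) :
    ∃ (r : R) (a b : Polynomial R), r ≠ 0 ∧ a * p + b * q = Polynomial.C r := by
  classical
  letI : NormalizedGCDMonoid R := Classical.choice inferInstance
  by_cases hd : p.natDegree = 0
  · obtain ⟨c, hc⟩ := Polynomial.natDegree_eq_zero.mp hd
    refine ⟨c, 1, 0, ?_, ?_⟩
    · intro hc0
      apply hp.ne_zero
      rw [← hc, hc0, map_zero]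
    · rw [one_mul, zero_mul, add_zero, hc]
  · have hprim : p.IsPrimitive := hp.isPrimitive hd
    have hirr : Irreducible (p.map (algebraMap R (FractionRing R))) :=
      (hprim.irreducible_iff_irreducible_map_fraction_map).mp hp
    have hnd : ¬ p.map (algebraMap R (FractionRing R)) ∣
        q.map (algebraMap R (FractionRing R)) := by
      intro hdvd
      exact hpq (hprim.dvd_of_fraction_map_dvd_fraction_map hdvd)
    have hcop : IsCoprime (p.map (algebraMap R (FractionRing R)))
        (q.map (algebraMap R (FractionRing R))) :=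
      (hirr.coprime_iff_not_dvd).mpr hnd
    obtain ⟨A, B, hAB⟩ := hcop
    obtain ⟨b1, hb1, hA⟩ := IsLocalization.integerNormalization_spec (nonZeroDivisors R) A
    obtain ⟨b2, hb2, hB⟩ := IsLocalization.integerNormalization_spec (nonZeroDivisors R) B
    have sA : b1 • A = Polynomial.C (algebraMap R (FractionRing R) b1) * A := by
      rw [← algebraMap_smul (FractionRing R) b1 A, Polynomial.smul_eq_C_mul]
    have sB : b2 • B = Polynomial.C (algebraMap R (FractionRing R) b2) * B := by
      rw [← algebraMap_smul (FractionRing R) b2 B, Polynomial.smul_eq_C_mul]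
    refine ⟨b1 * b2,
      Polynomial.C b2 * IsLocalization.integerNormalization (nonZeroDivisors R) A,
      Polynomial.C b1 * IsLocalization.integerNormalization (nonZeroDivisors R) B,
      mul_ne_zero (nonZeroDivisors.ne_zero hb1) (nonZeroDivisors.ne_zero hb2), ?_⟩
    apply Polynomial.map_injective (algebraMap R (FractionRing R))
      (IsFractionRing.injective R (FractionRing R))
    simp only [Polynomial.map_add, Polynomial.map_mul, Polynomial.map_C, hA, hB, sA, sB, map_mul]
    linear_combination (Polynomial.C (algebraMap R (FractionRing R) b1) *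
      Polynomial.C (algebraMap R (FractionRing R) b2)) * hAB

variable {k : Type u} [Field k]

/-- elimination in `k[x,y]`: the eliminant lies in `k[y]` -/
theorem elim_mv (p q : MvPolynomial (Fin 2) k) (hp : Irreducible p) (hpq : ¬ p ∣ q) :
    ∃ (r : MvPolynomial (Fin 1) k) (a b : MvPolynomial (Fin 2) k), r ≠ 0 ∧
      a * p + b * q = (MvPolynomial.finSuccEquiv k 1).symm (Polynomial.C r) := by
  have hp' : Irreducible (MvPolynomial.finSuccEquiv k 1 p) :=
    (MulEquiv.irreducible_iff (MvPolynomial.finSuccEquiv k 1)).mpr hp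
  have hpq' : ¬ MvPolynomial.finSuccEquiv k 1 p ∣ MvPolynomial.finSuccEquiv k 1 q := by
    rw [map_dvd_iff]
    exact hpq
  obtain ⟨r, a, b, hr, hab⟩ := elim_poly _ _ hp' hpq'
  refine ⟨r, (MvPolynomial.finSuccEquiv k 1).symm a, (MvPolynomial.finSuccEquiv k 1).symm b,
    hr, ?_⟩
  apply (MvPolynomial.finSuccEquiv k 1).injective
  rw [map_add, map_mul, map_mul, AlgEquiv.apply_symm_apply, AlgEquiv.apply_symm_apply,
    AlgEquiv.apply_symm_apply, hab]

lemma iota_C (c : k) : iota k (MvPowerSeries.C c) = MvPowerSeries.C c := by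
  rw [iota_apply, AlgEquiv.symm_apply_eq]
  have h1 : (MvPowerSeries.C c : MvPowerSeries (Fin 2) k) = algebraMap k _ c := rfl
  rw [h1, AlgEquiv.commutes, PowerSeries.algebraMap_apply]
  all_goals rfl

/-- the eliminant, viewed as a power series, only involves `y` -/
theorem coe_symm_C (r : MvPolynomial (Fin 1) k) :
    (((MvPolynomial.finSuccEquiv k 1).symm (Polynomial.C r) : MvPolynomial (Fin 2) k) :
      MvPowerSeries (Fin 2) k) = iota k (r : MvPowerSeries (Fin 1) k) := by
  have key : (MvPolynomial.coeToMvPowerSeries.ringHom (σ := Fin 2) (R := k)).comp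
      (((MvPolynomial.finSuccEquiv k 1).symm :
        Polynomial (MvPolynomial (Fin 1) k) →+* MvPolynomial (Fin 2) k).comp Polynomial.C) =
      (iota k).comp (MvPolynomial.coeToMvPowerSeries.ringHom (σ := Fin 1) (R := k)) := by
    apply MvPolynomial.ringHom_ext
    · intro c
      show (((MvPolynomial.finSuccEquiv k 1).symm (Polynomial.C (MvPolynomial.C c)) :
        MvPolynomial (Fin 2) k) : MvPowerSeries (Fin 2) k) =
        iota k ((MvPolynomial.C c : MvPolynomial (Fin 1) k) : MvPowerSeries (Fin 1) k)
      have h1 : (MvPolynomial.finSuccEquiv k 1).symm (Polynomial.C (MvPolynomial.C c)) =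
          MvPolynomial.C c := by
        rw [AlgEquiv.symm_apply_eq, ← MvPolynomial.algebraMap_eq, ← MvPolynomial.algebraMap_eq,
          AlgEquiv.commutes, Polynomial.algebraMap_apply]
      rw [h1, MvPolynomial.coe_C, MvPolynomial.coe_C, iota_C]
    · intro i
      show (((MvPolynomial.finSuccEquiv k 1).symm (Polynomial.C (MvPolynomial.X i)) :
        MvPolynomial (Fin 2) k) : MvPowerSeries (Fin 2) k) =
        iota k ((MvPolynomial.X i : MvPolynomial (Fin 1) k) : MvPowerSeries (Fin 1) k)
      have hi : i = 0 := Fin.eq_zero i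
      subst hi
      have h1 : (MvPolynomial.finSuccEquiv k 1).symm (Polynomial.C (MvPolynomial.X 0)) =
          MvPolynomial.X 1 := by
        rw [AlgEquiv.symm_apply_eq]
        exact (MvPolynomial.finSuccEquiv_X_succ (R := k) (n := 1) (j := 0)).symm
      rw [h1, MvPolynomial.coe_X, MvPolynomial.coe_X, iota_X]
  exact RingHom.congr_fun key r

/-- divisibility by a variable descends from power series to polynomials -/
theorem X_dvd_of_coe (s : Fin 2) (p : MvPolynomial (Fin 2) k)
    (h : (MvPowerSeries.X s : MvPowerSeries (Fin 2) k) ∣ (p : MvPowerSeries (Fin 2) k)) :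
    (MvPolynomial.X s : MvPolynomial (Fin 2) k) ∣ p := by
  rw [MvPolynomial.X_dvd_iff_modMonomial_eq_zero]
  rw [MvPowerSeries.X_dvd_iff] at h
  ext m
  rw [MvPolynomial.coeff_zero]
  by_cases hm : Finsupp.single s 1 ≤ m
  · exact MvPolynomial.coeff_modMonomial_of_le p hm
  · rw [MvPolynomial.coeff_modMonomial_of_not_le p hm, ← MvPolynomial.coeff_coe]
    apply h
    rw [Finsupp.single_le_iff] at hm
    omega

/-- an irreducible polynomial `p` and a polynomial `q` not divisible by it have no common non-unit
factor in the power series ring -/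
theorem no_common (p q : MvPolynomial (Fin 2) k) (hp : Irreducible p) (hpq : ¬ p ∣ q)
    (d : MvPowerSeries (Fin 2) k) (hd : ¬ IsUnit d) (hdp : d ∣ (p : MvPowerSeries (Fin 2) k))
    (hdq : d ∣ (q : MvPowerSeries (Fin 2) k)) : False := by
  haveI : IsDomain (MvPowerSeries (Fin 2) k) := NoZeroDivisors.to_isDomain _
  obtain ⟨r, a, b, hr, hab⟩ := elim_mv p q hp hpq
  have h1 : d ∣ (((MvPolynomial.finSuccEquiv k 1).symm (Polynomial.C r) : MvPolynomial (Fin 2) k) :
      MvPowerSeries (Fin 2) k) := by
    rw [← hab, MvPolynomial.coe_add, MvPolynomial.coe_mul, MvPolynomial.coe_mul]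
    exact dvd_add (Dvd.dvd.mul_left hdp _) (Dvd.dvd.mul_left hdq _)
  rw [coe_symm_C] at h1
  have hr' : (r : MvPowerSeries (Fin 1) k) ≠ 0 := by
    intro h0
    apply hr
    apply MvPolynomial.coe_injective (Fin 1) k
    rw [h0, MvPolynomial.coe_zero]
  obtain ⟨m, w, hw, hrw, -⟩ := exists_Xpow_mul (r : MvPowerSeries (Fin 1) k) hr'
  rw [hrw, map_mul, map_pow, iota_X] at h1
  have hwu : IsUnit (iota k w) := hw.map (iota k)
  have h2 : d ∣ (MvPowerSeries.X 1 : MvPowerSeries (Fin 2) k) ^ m := (hwu.dvd_mul_right).mp h1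
  have h3 : (MvPowerSeries.X 1 : MvPowerSeries (Fin 2) k) ∣ d :=
    prime_dvd_of_dvd_pow (Groth.Agent.Helper2.Nodal.X_prime (K := k) (1 : Fin 2)) hd m h2
  have hXp : (MvPolynomial.X 1 : MvPolynomial (Fin 2) k) ∣ p := X_dvd_of_coe 1 p (h3.trans hdp)
  have hXq : (MvPolynomial.X 1 : MvPolynomial (Fin 2) k) ∣ q := X_dvd_of_coe 1 q (h3.trans hdq)
  obtain ⟨c, hc⟩ := hXp
  rcases hp.isUnit_or_isUnit hc with hu | hu
  · have h4 := hu.map (MvPolynomial.eval (0 : Fin 2 → k))
    rw [MvPolynomial.eval_X, Pi.zero_apply] at h4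
    exact not_isUnit_zero h4
  · apply hpq
    have hass : Associated (MvPolynomial.X 1 : MvPolynomial (Fin 2) k) p :=
      ⟨hu.unit, by rw [IsUnit.unit_spec, hc]⟩
    exact hass.symm.dvd.trans hXq

/-- a polynomial does not divide its nonzero partial derivatives -/
theorem not_dvd_pderiv (p : MvPolynomial (Fin 2) k) (i : Fin 2)
    (hne : MvPolynomial.pderiv i p ≠ 0) : ¬ p ∣ MvPolynomial.pderiv i p := by
  rintro ⟨c, hc⟩
  have hp0 : p ≠ 0 := by
    intro h0
    apply hne
    rw [h0, map_zero]
  have hc0 : c ≠ 0 := by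
    intro h0
    apply hne
    rw [hc, h0, mul_zero]
  have hdeg : MvPolynomial.degreeOf i (MvPolynomial.pderiv i p) =
      MvPolynomial.degreeOf i p + MvPolynomial.degreeOf i c := by
    conv_lhs => rw [hc]
    exact MvPolynomial.degreeOf_mul_eq hp0 hc0
  have hsupp : ∀ m ∈ (MvPolynomial.pderiv i p).support, m i < MvPolynomial.degreeOf i p := by
    intro m hm
    rw [MvPolynomial.mem_support_iff, MvPolynomial.coeff_pderiv] at hm
    have h1 : MvPolynomial.coeff (m + Finsupp.single i 1) p ≠ 0 := left_ne_zero_of_mul hm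
    have h2 := MvPolynomial.monomial_le_degreeOf i (MvPolynomial.mem_support_iff.mpr h1)
    rw [Finsupp.add_apply, Finsupp.single_eq_same] at h2
    omega
  obtain ⟨m, hm⟩ := MvPolynomial.ne_zero_iff.mp hne
  have hpos : 0 < MvPolynomial.degreeOf i p :=
    lt_of_le_of_lt (Nat.zero_le _) (hsupp m (MvPolynomial.mem_support_iff.mpr hm))
  have hlt := (MvPolynomial.degreeOf_lt_iff hpos).mpr hsupp
  omega

/-- over an algebraically closed field, a polynomial all of whose partial derivatives vanish is
not irreducible -/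
theorem not_irreducible_of_pderiv_zero [IsAlgClosed k] (p : MvPolynomial (Fin 2) k)
    (hall : ∀ i, MvPolynomial.pderiv i p = 0) : ¬ Irreducible p := by
  intro hirr
  have key : ∀ s ∈ p.support, ∀ i, ((s i : ℕ) : k) = 0 := by
    intro s hs i
    by_cases hsi : s i = 0
    · rw [hsi, Nat.cast_zero]
    have h3 := congrArg (MvPolynomial.coeff (s - Finsupp.single i 1)) (hall i)
    rw [MvPolynomial.coeff_pderiv, MvPolynomial.coeff_zero] at h3
    have h4 : s - Finsupp.single i 1 + Finsupp.single i 1 = s := by
      ext j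
      by_cases hj : j = i
      · subst hj
        simp only [Finsupp.coe_add, Finsupp.coe_tsub, Pi.add_apply, Pi.sub_apply,
          Finsupp.single_eq_same]
        omega
      · simp [Finsupp.single_eq_of_ne hj]
    rw [h4] at h3
    have h5 : ((((s - Finsupp.single i 1 : Fin 2 →₀ ℕ) i : ℕ)) : k) + 1 = ((s i : ℕ) : k) := by
      have h6 : (s - Finsupp.single i 1 : Fin 2 →₀ ℕ) i + 1 = s i := by
        simp only [Finsupp.coe_tsub, Pi.sub_apply, Finsupp.single_eq_same]
        omega
      rw [← h6]
      push_cast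
      rfl
    rw [h5] at h3
    exact (mul_eq_zero.mp h3).resolve_left (MvPolynomial.mem_support_iff.mp hs)
  obtain ⟨ℓ, hℓ⟩ := CharP.exists k
  rcases CharP.char_is_prime_or_zero k ℓ with hprime | hzero
  · haveI : Fact ℓ.Prime := ⟨hprime⟩
    haveI : ExpChar (MvPolynomial (Fin 2) k) ℓ := ExpChar.prime hprime
    have hdiv : ∀ s ∈ p.support, ∀ i, ℓ ∣ s i := fun s hs i =>
      (CharP.cast_eq_zero_iff k ℓ (s i)).mp (key s hs i)
    have hroot : ∀ c : k, ∃ z : k, z ^ ℓ = c := fun c =>
      IsAlgClosed.exists_pow_nat_eq c hprime.pos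
    choose rt hrt using hroot
    have hex : ∃ g : MvPolynomial (Fin 2) k, g ^ ℓ = p := by
      refine ⟨∑ s ∈ p.support, MvPolynomial.monomial (s.mapRange (· / ℓ) (Nat.zero_div ℓ))
        (rt (MvPolynomial.coeff s p)), ?_⟩
      rw [sum_pow_char]
      conv_rhs => rw [← MvPolynomial.support_sum_monomial_coeff p]
      apply Finset.sum_congr rfl
      intro s hs
      have hs' : ℓ • s.mapRange (· / ℓ) (Nat.zero_div ℓ) = s := by
        ext i
        simp only [Finsupp.coe_smul, Pi.smul_apply, Finsupp.mapRange_apply, smul_eq_mul]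
        exact Nat.mul_div_cancel' (hdiv s hs i)
      rw [MvPolynomial.monomial_pow, hrt, hs']
    obtain ⟨g, hg⟩ := hex
    rw [← hg] at hirr
    exact not_irreducible_pow hprime.ne_one hirr
  · subst hzero
    haveI : CharZero k := CharP.charP_to_charZero k
    have hsupp : ∀ s ∈ p.support, s = 0 := by
      intro s hs
      ext i
      exact Nat.cast_eq_zero.mp (key s hs i)
    have hpC : p = MvPolynomial.C (MvPolynomial.coeff 0 p) := by
      ext m
      rw [MvPolynomial.coeff_C]
      by_cases hm : 0 = m
      · rw [if_pos hm, hm]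
      · rw [if_neg hm]
        by_contra hne
        exact hm (hsupp m (MvPolynomial.mem_support_iff.mpr hne)).symm
    by_cases hc : MvPolynomial.coeff 0 p = 0
    · rw [hc, map_zero] at hpC
      rw [hpC] at hirr
      exact not_irreducible_zero hirr
    · apply hirr.not_isUnit
      rw [hpC]
      exact (isUnit_iff_ne_zero.mpr hc).map MvPolynomial.C

/-- an irreducible polynomial is not divisible by the square of a non-unit power series -/
theorem no_sq [IsAlgClosed k] (p : MvPolynomial (Fin 2) k) (hp : Irreducible p)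
    (d : MvPowerSeries (Fin 2) k) (hd : ¬ IsUnit d)
    (h : d ^ 2 ∣ (p : MvPowerSeries (Fin 2) k)) : False := by
  have hder : ∀ i, d ∣ ((MvPolynomial.pderiv i p : MvPolynomial (Fin 2) k) :
      MvPowerSeries (Fin 2) k) := by
    intro i
    rw [← MvPowerSeries.pderiv_coe]
    obtain ⟨w, hw⟩ := h
    have hw' : (p : MvPowerSeries (Fin 2) k) = d * (d * w) := by
      rw [hw]
      ring
    rw [hw', Derivation.leibniz, smul_eq_mul, smul_eq_mul]
    exact dvd_add (dvd_mul_right d _) ⟨w * MvPowerSeries.pderiv k i d, by ring⟩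
  have hall : ∀ i, MvPolynomial.pderiv i p = 0 := by
    intro i
    by_contra hne
    exact no_common p _ hp (not_dvd_pderiv p i hne) d hd
      ((dvd_pow_self d two_ne_zero).trans h) (hder i)
  exact not_irreducible_of_pderiv_zero p hall hp

end elim

end Groth.Agent.Helper8.ArT
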