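import Mathlib
import Groth.Agent.Lib.Helper8.ArT2
import Groth.Agent.Lib.Helper8.ArS3

/-!
# `k[[x,y]]/(f) ≃ k[[x,y]]/(y^2)` iff `f = g^2 h` with `g` smooth at the point, `h` a unit there
-/

set_option autoImplicit false
set_option maxHeartbeats 800000

universe u

namespace Groth.Agent.Helper8.ArT

open MvPowerSeries
open Groth.Agent.Lib.Helper9.PSOrd
open Groth.Agent.Lib.Helper9.NodeNF
open Groth.Agent.Helper8.ArS

local notation "Od" => Groth.Agent.Lib.Helper9.PSOrd.Ord

variable {k : Type u} [Field k]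

lemma tau_neg_tau (a : Fin 2 → k) (f : MvPolynomial (Fin 2) k) : tau (-a) (tau a f) = f := by
  have h : (tau (-a)).comp (tau a) = AlgHom.id k _ := by
    apply MvPolynomial.algHom_ext
    intro i
    simp [tau]
  exact AlgHom.congr_fun h f

lemma tau_tau_neg (a : Fin 2 → k) (f : MvPolynomial (Fin 2) k) : tau a (tau (-a) f) = f := by
  have h := tau_neg_tau (-a) f
  rwa [neg_neg] at h

theorem main_fwd [IsAlgClosed k] (f : MvPolynomial (Fin 2) k) (a : Fin 2 → k)
    (e : (MvPowerSeries (Fin 2) k ⧸ Ideal.span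
        {((tau a f : MvPolynomial (Fin 2) k) : MvPowerSeries (Fin 2) k)}) ≃ₐ[k]
      (MvPowerSeries (Fin 2) k ⧸ Ideal.span {(X 1 ^ 2 : MvPowerSeries (Fin 2) k)})) :
    ∃ g h : MvPolynomial (Fin 2) k, f = g ^ 2 * h ∧ MvPolynomial.eval a h ≠ 0 ∧
      MvPolynomial.eval a g = 0 ∧
      ∃ i : Fin 2, MvPolynomial.eval a (MvPolynomial.pderiv i g) ≠ 0 := by
  haveI : IsDomain (MvPowerSeries (Fin 2) k) := NoZeroDivisors.to_isDomain _
  generalize hf₀ : tau a f = f₀ at e
  obtain ⟨u, W, ou1, ou2, hW, huW⟩ := exists_sq_of_iso _ e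
  have hpu : Prime u := prime_of_ord1 u ou1 ou2
  have hf0 : f₀ ≠ 0 := by
    intro h0
    rw [h0, MvPolynomial.coe_zero, zero_mul] at huW
    exact hpu.ne_zero ((pow_eq_zero_iff two_ne_zero).mp huW)
  have hFnu : ¬ IsUnit (f₀ : MvPowerSeries (Fin 2) k) := by
    intro hu
    have h1 : IsUnit (u ^ 2) := by
      rw [huW]
      exact hu.mul hW
    exact hpu.not_isUnit ((isUnit_pow_iff two_ne_zero).mp h1)
  obtain ⟨s, hs, hsf⟩ := UniqueFactorizationMonoid.exists_prime_factors f₀ hf0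
  have hex : ∃ p ∈ s, ¬ IsUnit ((p : MvPolynomial (Fin 2) k) : MvPowerSeries (Fin 2) k) := by
    by_contra hcon
    push Not at hcon
    apply hFnu
    obtain ⟨v, hv⟩ := hsf
    rw [← hv, MvPolynomial.coe_mul]
    refine IsUnit.mul ?_ ?_
    · have h1 : ((s.prod : MvPolynomial (Fin 2) k) : MvPowerSeries (Fin 2) k) =
          (s.map (MvPolynomial.coeToMvPowerSeries.ringHom (σ := Fin 2) (R := k))).prod :=
        map_multiset_prod (MvPolynomial.coeToMvPowerSeries.ringHom (σ := Fin 2) (R := k)) s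
      rw [h1]
      refine Multiset.prod_induction (fun x => IsUnit x) _ ?_ ?_ ?_
      · intro a b ha hb
        exact ha.mul hb
      · exact isUnit_one
      · intro x hx
        rw [Multiset.mem_map] at hx
        obtain ⟨p, hp, rfl⟩ := hx
        exact hcon p hp
    · exact (v.isUnit).map (MvPolynomial.coeToMvPowerSeries.ringHom (σ := Fin 2) (R := k))
  obtain ⟨p, hps, hpnu⟩ := hex
  have hpprime : Prime p := hs p hps
  have hpirr : Irreducible p := hpprime.irreducible
  have hpdvd : p ∣ f₀ := (Multiset.dvd_prod hps).trans hsf.dvd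
  have hfin : FiniteMultiplicity p f₀ := FiniteMultiplicity.of_not_isUnit hpprime.not_isUnit hf0
  obtain ⟨q, hq, hpq⟩ := hfin.exists_eq_pow_mul_and_not_dvd
  have hn1 : 0 < multiplicity p f₀ := multiplicity_pos_of_dvd hpdvd
  generalize multiplicity p f₀ = n at hq hn1
  have hF : (f₀ : MvPowerSeries (Fin 2) k) =
      (p : MvPowerSeries (Fin 2) k) ^ n * (q : MvPowerSeries (Fin 2) k) := by
    conv_lhs => rw [hq]
    rw [MvPolynomial.coe_mul, MvPolynomial.coe_pow]
  have hup : u ∣ (p : MvPowerSeries (Fin 2) k) := by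
    apply prime_dvd_of_dvd_pow hpu hpnu 2
    rw [huW, hF]
    exact ((dvd_pow_self _ (by omega)).mul_right _).mul_right _
  obtain ⟨t, ht⟩ := hup
  have hmain : u ^ 2 = u ^ n * (t ^ n * (q : MvPowerSeries (Fin 2) k) * W) := by
    rw [huW, hF, ht]
    ring
  have hn_cases : n = 1 ∨ n = 2 ∨ 3 ≤ n := by omega
  rcases hn_cases with h1 | h2 | h3
  · exfalso
    subst h1
    rw [pow_one, pow_one] at hmain
    have h5 : u = t * ((q : MvPowerSeries (Fin 2) k) * W) := by
      apply mul_left_cancel₀ hpu.ne_zero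
      calc u * u = u ^ 2 := (pow_two u).symm
        _ = u * (t * (q : MvPowerSeries (Fin 2) k) * W) := hmain
        _ = u * (t * ((q : MvPowerSeries (Fin 2) k) * W)) := by ring
    rcases hpu.irreducible.isUnit_or_isUnit h5 with htu | hqW
    · obtain ⟨t', ht'⟩ := htu.exists_left_inv
      obtain ⟨W', hW'⟩ := hW.exists_right_inv
      have hqu : u ∣ (q : MvPowerSeries (Fin 2) k) := by
        refine ⟨t' * W', ?_⟩
        calc (q : MvPowerSeries (Fin 2) k)
            = (t' * t) * ((q : MvPowerSeries (Fin 2) k) * (W * W')) := by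
              rw [ht', hW', one_mul, mul_one]
          _ = t * ((q : MvPowerSeries (Fin 2) k) * W) * (t' * W') := by ring
          _ = u * (t' * W') := by rw [← h5]
      exact no_common p q hpirr hpq u hpu.not_isUnit ⟨t, ht⟩ hqu
    · obtain ⟨z, hz⟩ := hqW.exists_right_inv
      have htz : t = u * z := by
        calc t = t * ((q : MvPowerSeries (Fin 2) k) * W * z) := by rw [hz, mul_one]
          _ = t * ((q : MvPowerSeries (Fin 2) k) * W) * z := by ring
          _ = u * z := by rw [← h5]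
      refine no_sq p hpirr u hpu.not_isUnit ⟨z, ?_⟩
      rw [ht, htz]
      ring
  · subst h2
    have h6 : t ^ 2 * (q : MvPowerSeries (Fin 2) k) * W = 1 := by
      have hu2 : u ^ 2 ≠ 0 := pow_ne_zero 2 hpu.ne_zero
      apply mul_left_cancel₀ hu2
      rw [mul_one]
      exact hmain.symm
    have htu : IsUnit t :=
      IsUnit.of_mul_eq_one (t * (q : MvPowerSeries (Fin 2) k) * W) (by rw [← h6]; ring)
    have hqu : IsUnit (q : MvPowerSeries (Fin 2) k) :=
      IsUnit.of_mul_eq_one (t ^ 2 * W) (by rw [← h6]; ring)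
    have hp0 : MvPolynomial.coeff 0 p = 0 := by
      by_contra hne
      apply hpnu
      rw [MvPowerSeries.isUnit_iff_constantCoeff, ← MvPowerSeries.coeff_zero_eq_constantCoeff_apply,
        MvPolynomial.coeff_coe]
      exact isUnit_iff_ne_zero.mpr hne
    have hq0 : MvPolynomial.coeff 0 q ≠ 0 := by
      rw [MvPowerSeries.isUnit_iff_constantCoeff, ← MvPowerSeries.coeff_zero_eq_constantCoeff_apply,
        MvPolynomial.coeff_coe] at hqu
      exact isUnit_iff_ne_zero.mp hqu
    have hpO2 : ¬ Od 2 (p : MvPowerSeries (Fin 2) k) := by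
      intro hO
      apply ou2
      obtain ⟨t', ht'⟩ := htu.exists_right_inv
      have h7 : u = (p : MvPowerSeries (Fin 2) k) * t' := by
        rw [ht, mul_assoc, ht', mul_one]
      rw [h7]
      exact hO.mul_right t'
    have hderiv : ∃ i : Fin 2, MvPolynomial.coeff (Finsupp.single i 1) p ≠ 0 := by
      by_contra hcon
      push Not at hcon
      apply hpO2
      intro s' hs'
      rw [MvPolynomial.coeff_coe]
      have hsi := eq_idx s'
      have hdeg : s' 0 + s' 1 < 2 := by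
        rw [hsi, degree_idx] at hs'
        exact hs'
      have hcases : (s' 0 = 0 ∧ s' 1 = 0) ∨ (s' 0 = 1 ∧ s' 1 = 0) ∨ (s' 0 = 0 ∧ s' 1 = 1) := by
        omega
      rcases hcases with ⟨h0, h1⟩ | ⟨h0, h1⟩ | ⟨h0, h1⟩
      · rw [hsi, h0, h1, idx_zero_zero]
        exact hp0
      · rw [hsi, h0, h1, ← single0_eq]
        exact hcon 0
      · rw [hsi, h0, h1, ← single1_eq]
        exact hcon 1
    obtain ⟨i, hi⟩ := hderiv
    refine ⟨tau (-a) p, tau (-a) q, ?_, ?_, ?_, ⟨i, ?_⟩⟩
    · have h7 : tau (-a) f₀ = f := by rw [← hf₀, tau_neg_tau]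
      rw [← h7, hq, map_mul, map_pow]
    · rw [eval_eq_coeff_tau, tau_tau_neg]
      exact hq0
    · rw [eval_eq_coeff_tau, tau_tau_neg]
      exact hp0
    · rw [eval_pderiv, tau_tau_neg]
      exact hi
  · exfalso
    obtain ⟨m, rfl⟩ : ∃ m, n = m + 3 := ⟨n - 3, by omega⟩
    have h8 : u ^ 2 * 1 =
        u ^ 2 * (u * (u ^ m * (t ^ (m + 3) * (q : MvPowerSeries (Fin 2) k) * W))) := by
      rw [mul_one]
      conv_lhs => rw [hmain]
      ring
    have h9 := mul_left_cancel₀ (pow_ne_zero 2 hpu.ne_zero) h8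
    exact hpu.not_isUnit (IsUnit.of_mul_eq_one _ h9.symm)

theorem main_bwd (f : MvPolynomial (Fin 2) k) (a : Fin 2 → k)
    (g h : MvPolynomial (Fin 2) k) (hf : f = g ^ 2 * h) (hh : MvPolynomial.eval a h ≠ 0)
    (hg : MvPolynomial.eval a g = 0)
    (i : Fin 2) (hi : MvPolynomial.eval a (MvPolynomial.pderiv i g) ≠ 0) :
    Nonempty ((MvPowerSeries (Fin 2) k ⧸ Ideal.span
        {((tau a f : MvPolynomial (Fin 2) k) : MvPowerSeries (Fin 2) k)}) ≃ₐ[k]
      (MvPowerSeries (Fin 2) k ⧸ Ideal.span {(X 1 ^ 2 : MvPowerSeries (Fin 2) k)})) := by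
  have hF : ((tau a f : MvPolynomial (Fin 2) k) : MvPowerSeries (Fin 2) k) =
      ((tau a g : MvPolynomial (Fin 2) k) : MvPowerSeries (Fin 2) k) ^ 2 *
        ((tau a h : MvPolynomial (Fin 2) k) : MvPowerSeries (Fin 2) k) := by
    rw [hf, map_mul, map_pow, MvPolynomial.coe_mul, MvPolynomial.coe_pow]
  have hG0 : constantCoeff ((tau a g : MvPolynomial (Fin 2) k) : MvPowerSeries (Fin 2) k) = 0 := by
    rw [← MvPowerSeries.coeff_zero_eq_constantCoeff_apply, MvPolynomial.coeff_coe,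
      ← eval_eq_coeff_tau, hg]
  have hH : IsUnit ((tau a h : MvPolynomial (Fin 2) k) : MvPowerSeries (Fin 2) k) := by
    rw [MvPowerSeries.isUnit_iff_constantCoeff, ← MvPowerSeries.coeff_zero_eq_constantCoeff_apply,
      MvPolynomial.coeff_coe, ← eval_eq_coeff_tau]
    exact isUnit_iff_ne_zero.mpr hh
  have hG1 : Od 1 ((tau a g : MvPolynomial (Fin 2) k) : MvPowerSeries (Fin 2) k) :=
    (Ord_one_iff _).mpr hG0
  have hG2 : ¬ Od 2 ((tau a g : MvPolynomial (Fin 2) k) : MvPowerSeries (Fin 2) k) := by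
    intro hO
    apply hi
    rw [eval_pderiv, ← MvPolynomial.coeff_coe]
    apply hO
    rw [Finsupp.degree_single]
    norm_num
  obtain ⟨θ, hθ⟩ := exists_equiv_X1 _ hG1 hG2
  have h1 := quotEquiv_of_map θ (X 1 ^ 2)
    ((tau a f : MvPolynomial (Fin 2) k) : MvPowerSeries (Fin 2) k) _ hH
    (by rw [map_pow, hθ, hF])
  exact ⟨h1.some.symm⟩

end Groth.Agent.Helper8.ArT
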