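import Mathlib
import Groth.Prelude
import Groth.Agent.Lib.Helper8.ArtFact1
import Groth.Agent.Lib.Helper8.ABS21
import Groth.Agent.S2053

/-!
# Factorizations of local homomorphisms of Artinian local rings: the Cohen factorization
-/

set_option autoImplicit false
universe u

namespace Groth.Agent.Helper8.ArtFact

open IsLocalRing LocCoh TensorProduct

theorem isLocalRing_of_isField {K : Type*} [CommRing K] (h : IsField K) : IsLocalRing K := by
  letI := h.toField
  infer_instance

theorem isNoetherianRing_of_isField {K : Type*} [CommRing K] (h : IsField K) :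
    IsNoetherianRing K := by
  letI := h.toField
  infer_instance

section

variable {A B : Type u} [CommRing A] [CommRing B] [IsLocalRing A] [IsLocalRing B] [Algebra A B]
  [IsLocalHom (algebraMap A B)]
  {R₀ S₀ : Type u} [CommRing R₀] [CommRing S₀] [IsLocalRing R₀] [IsLocalRing S₀]
  [IsNoetherianRing S₀]
  (ρ : R₀ →+* A) (σ : S₀ →+* B) (τ : R₀ →+* S₀)
  (hρ : Function.Surjective ρ) (hσ : Function.Surjective σ)
  (hcomp : σ.comp τ = (algebraMap A B).comp ρ) (hflat : τ.Flat)
  (hreg : IsRegularRing (S₀ ⧸ (maximalIdeal R₀).map τ))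

include hρ hσ hcomp hflat hreg in
theorem exists_initial_of_presentation :
    ∃ (C F : Type u) (_ : CommRing C) (_ : CommRing F) (_ : IsLocalRing C)
      (_ : IsNoetherianRing C) (_ : Algebra A C) (_ : Module.Flat A C)
      (_ : IsLocalHom (algebraMap A C)) (γ : C →+* F) (g : C →ₐ[A] B),
      Function.Surjective γ ∧ RingHom.ker γ = (maximalIdeal A).map (algebraMap A C) ∧
        IsGorensteinLocalRing F ∧ Function.Surjective g := by
  classical
  letI algR₀A : Algebra R₀ A := ρ.toAlgebra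
  letI algR₀S₀ : Algebra R₀ S₀ := τ.toAlgebra
  haveI : Module.Flat R₀ S₀ := hflat
  haveI := IsLocalHom.of_surjective ρ hρ
  haveI := IsLocalHom.of_surjective σ hσ
  -- `τ` maps the maximal ideal into the maximal ideal
  have hτm : (maximalIdeal R₀).map τ ≤ maximalIdeal S₀ := by
    rw [Ideal.map_le_iff_le_comap]
    intro r hr
    rw [Ideal.mem_comap, mem_maximalIdeal, mem_nonunits_iff]
    intro hu
    have h1 : IsUnit (σ (τ r)) := hu.map σ
    have h2 : σ (τ r) = algebraMap A B (ρ r) := RingHom.congr_fun hcomp r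
    rw [h2] at h1
    have h3 : IsUnit r := isUnit_of_map_unit ρ r (isUnit_of_map_unit (algebraMap A B) _ h1)
    exact hr h3
  let F := S₀ ⧸ (maximalIdeal R₀).map τ
  haveI : Nontrivial F := Ideal.Quotient.nontrivial_iff.mpr
    (fun h => (maximalIdeal.isMaximal S₀).ne_top (top_le_iff.mp (h ▸ hτm)))
  haveI : IsLocalRing F :=
    IsLocalRing.of_surjective' (Ideal.Quotient.mk _) Ideal.Quotient.mk_surjective
  haveI : IsRegularRing F := hreg
  haveI : IsRegularLocalRing F := IsRegularLocalRing.of_isRegularRing_of_isLocalRing _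
  have hGF : IsGorensteinLocalRing F :=
    Groth.Agent.Helper8.ABS.isGorensteinLocalRing_of_isRegularLocalRing F
  -- the maps out of the tensor product
  let ι : S₀ →ₐ[R₀] A ⊗[R₀] S₀ := Algebra.TensorProduct.includeRight
  have hι : Function.Surjective ι := Algebra.TensorProduct.includeRight_surjective S₀ hρ
  letI algR₀B : Algebra R₀ B := ((algebraMap A B).comp ρ).toAlgebra
  let fB : A →ₐ[R₀] B := { algebraMap A B with commutes' := fun r => rfl }
  let hB : S₀ →ₐ[R₀] B := { σ with commutes' := fun r => RingHom.congr_fun hcomp r }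
  let g₀ : A ⊗[R₀] S₀ →ₐ[R₀] B := Algebra.TensorProduct.productMap fB hB
  have hg₀ι : ∀ s, g₀ (ι s) = σ s := fun s => by
    show g₀ ((1 : A) ⊗ₜ[R₀] s) = σ s
    rw [Algebra.TensorProduct.productMap_apply_tmul, map_one, one_mul]
    rfl
  have hg₀l : ∀ a : A, g₀ (a ⊗ₜ[R₀] (1 : S₀)) = algebraMap A B a := fun a => by
    rw [Algebra.TensorProduct.productMap_apply_tmul, map_one, mul_one]
    rfl
  let g : A ⊗[R₀] S₀ →ₐ[A] B := { g₀.toRingHom with commutes' := fun a => hg₀l a }
  have hg : Function.Surjective g := fun b => by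
    obtain ⟨s, rfl⟩ := hσ b
    exact ⟨ι s, hg₀ι s⟩
  -- the map to the fibre
  have hkerle : RingHom.ker ρ ≤ RingHom.ker ((Ideal.Quotient.mk ((maximalIdeal R₀).map τ)).comp τ) := by
    intro r hr
    rw [RingHom.mem_ker] at hr ⊢
    have hrm : r ∈ maximalIdeal R₀ := by
      rw [mem_maximalIdeal, mem_nonunits_iff]
      intro hu
      have := hu.map ρ
      rw [hr] at this
      exact not_isUnit_zero this
    rw [RingHom.comp_apply, Ideal.Quotient.eq_zero_iff_mem]
    exact Ideal.mem_map_of_mem _ hrm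
  let fF₀ : A →+* F := ρ.liftOfSurjective hρ ⟨_, hkerle⟩
  have hfF₀ : ∀ r, fF₀ (ρ r) = Ideal.Quotient.mk _ (τ r) := fun r =>
    RingHom.liftOfRightInverse_comp_apply _ _ _ _ r
  let fF : A →ₐ[R₀] F := { fF₀ with commutes' := fun r => hfF₀ r }
  let hF : S₀ →ₐ[R₀] F := Ideal.Quotient.mkₐ R₀ _
  let γ : A ⊗[R₀] S₀ →ₐ[R₀] F := Algebra.TensorProduct.productMap fF hF
  have hγι : ∀ s, γ (ι s) = Ideal.Quotient.mk _ s := fun s => by
    show γ ((1 : A) ⊗ₜ[R₀] s) = _
    rw [Algebra.TensorProduct.productMap_apply_tmul, map_one, one_mul]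
    rfl
  have hγl : ∀ a : A, γ (a ⊗ₜ[R₀] (1 : S₀)) = fF₀ a := fun a => by
    rw [Algebra.TensorProduct.productMap_apply_tmul, map_one, mul_one]
    rfl
  have hγ : Function.Surjective γ := fun y => by
    obtain ⟨s, rfl⟩ := Ideal.Quotient.mk_surjective y
    exact ⟨ι s, hγι s⟩
  haveI : Nontrivial (A ⊗[R₀] S₀) := g.toRingHom.domain_nontrivial
  haveI hlocC : IsLocalRing (A ⊗[R₀] S₀) := .of_surjective' ι.toRingHom hι
  haveI hNC : IsNoetherianRing (A ⊗[R₀] S₀) :=
    isNoetherianRing_of_surjective S₀ _ ι.toRingHom hι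
  haveI hlocAC : IsLocalHom (algebraMap A (A ⊗[R₀] S₀)) := by
    refine ⟨fun a ha => ?_⟩
    have h1 : IsUnit (g (algebraMap A (A ⊗[R₀] S₀) a)) := ha.map g
    rw [g.commutes] at h1
    exact isUnit_of_map_unit (algebraMap A B) a h1
  refine ⟨A ⊗[R₀] S₀, F, inferInstance, inferInstance, hlocC, hNC, inferInstance, inferInstance,
    hlocAC, γ.toRingHom, g, hγ, ?_, hGF, hg⟩
  have h2 : ι.toRingHom.comp τ = (algebraMap A (A ⊗[R₀] S₀)).comp ρ := by
    ext r
    exact ι.commutes r
  apply le_antisymm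
  · intro b hb
    obtain ⟨s, rfl⟩ := hι b
    have hb' : γ (ι s) = 0 := hb
    rw [hγι, Ideal.Quotient.eq_zero_iff_mem] at hb'
    have h1 : ι.toRingHom s ∈ ((maximalIdeal R₀).map τ).map ι.toRingHom :=
      Ideal.mem_map_of_mem _ hb'
    rw [Ideal.map_map, h2, ← Ideal.map_map, map_maximalIdeal_of_surjective ρ hρ] at h1
    exact h1
  · rw [Ideal.map_le_iff_le_comap]
    intro a ha
    rw [Ideal.mem_comap, RingHom.mem_ker]
    obtain ⟨r, rfl⟩ := hρ a
    have hr : r ∈ maximalIdeal R₀ := by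
      rw [mem_maximalIdeal, mem_nonunits_iff] at ha ⊢
      exact fun h => ha (h.map ρ)
    have h3 : γ (algebraMap A (A ⊗[R₀] S₀) (ρ r)) = fF₀ (ρ r) := hγl _
    show γ (algebraMap A (A ⊗[R₀] S₀) (ρ r)) = 0
    rw [h3, hfF₀, Ideal.Quotient.eq_zero_iff_mem]
    exact Ideal.mem_map_of_mem _ hr

end

/-- A local homomorphism of Artinian local rings factors as a flat local homomorphism with
Gorenstein closed fibre followed by a surjection. -/
theorem main (A B : Type u) [CommRing A] [CommRing B] [IsArtinianRing A] [IsLocalRing A]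
    [IsArtinianRing B] [IsLocalRing B] [Algebra A B] [IsLocalHom (algebraMap A B)] :
    Goal A B := by
  haveI := isAdicComplete_of_isArtinianRing A
  haveI := isAdicComplete_of_isArtinianRing B
  obtain ⟨Λ, Λ', _, _, _, n, m, ρ, σ, τ, hcase, hρ, hσ, hcomp, hflat, hreg⟩ :=
    Groth.Agent.S2053.result (A := A) (B := B)
  have hΛ' : IsLocalRing Λ' ∧ IsNoetherianRing Λ' := by
    rcases hcase with ⟨-, -, hf⟩ | ⟨-, -, hc⟩
    · exact ⟨isLocalRing_of_isField hf, isNoetherianRing_of_isField hf⟩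
    · obtain ⟨hd, hv, -⟩ := hc
      exact ⟨inferInstance, inferInstance⟩
  obtain ⟨h1, h2⟩ := hΛ'
  obtain ⟨C, F, _, _, _, _, _, _, _, γ, g, hγ, hker, hG, hg⟩ :=
    exists_initial_of_presentation ρ σ τ hρ hσ hcomp hflat hreg
  haveI : IsNoetherianRing F := hG.toIsNoetherian
  haveI := hG.toIsLocalRing
  obtain ⟨d, hd⟩ := Groth.Agent.Helper8.Depth.exists_nat_supportDim (A := F) F
  rw [Module.supportDim_self_eq_ringKrullDim] at hd
  exact main_aux A B d C F γ hγ hker hG hd.le g hg

end Groth.Agent.Helper8.ArtFact
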