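import Mathlib
import Groth.Prelude

/-!
# Completion of a free module: coordinatewise lemmas and controlled lifting (Artin–Rees)
-/

set_option autoImplicit false

universe u

namespace Groth.Agent.Helper8.FreeCpl

variable {R : Type u} [CommRing R]

/-- a linear functional maps `J • ⊤` into `J` -/
theorem apply_mem_of_mem_smul_top {M : Type*} [AddCommGroup M] [Module R M] (J : Ideal R)
    (g : M →ₗ[R] R) {y : M} (h : y ∈ J • (⊤ : Submodule R M)) : g y ∈ J := by
  refine Submodule.smul_induction_on h (fun r hr m _ => ?_) (fun x y hx hy => ?_)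
  · rw [map_smul, smul_eq_mul]
    exact J.mul_mem_right _ hr
  · rw [map_add]
    exact J.add_mem hx hy

theorem mem_smul_top_finsupp_iff (J : Ideal R) {α : Type*} (y : α →₀ R) :
    y ∈ J • (⊤ : Submodule R (α →₀ R)) ↔ ∀ a, y a ∈ J := by
  constructor
  · intro h a
    exact apply_mem_of_mem_smul_top J (Finsupp.lapply a) h
  · intro h
    rw [← Finsupp.sum_single y]
    apply Submodule.sum_mem
    intro a _
    have : Finsupp.single a (y a) = y a • Finsupp.single a (1 : R) := by
      rw [Finsupp.smul_single, smul_eq_mul, mul_one]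
    rw [this]
    exact Submodule.smul_mem_smul (h a) trivial

theorem mem_smul_top_pi_iff (J : Ideal R) {n : ℕ} (v : Fin n → R) :
    v ∈ J • (⊤ : Submodule R (Fin n → R)) ↔ ∀ i, v i ∈ J := by
  constructor
  · intro h i
    exact apply_mem_of_mem_smul_top J (LinearMap.proj i) h
  · intro h
    rw [pi_eq_sum_univ v]
    apply Submodule.sum_mem
    intro i _
    exact Submodule.smul_mem_smul (h i) trivial

theorem mem_smul_top_self_iff (J : Ideal R) (r : R) :
    r ∈ J • (⊤ : Submodule R R) ↔ r ∈ J := by
  rw [smul_eq_mul, Ideal.mul_top]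

section lift

variable [IsNoetherianRing R] (I : Ideal R) {n m : ℕ}
  (Amap : (Fin m → R) →ₗ[R] (Fin n → R))

/-- Artin–Rees: elements of the image lying deep in the `I`-adic filtration have preimages
deep in the filtration. -/
theorem exists_shift : ∃ c : ℕ, ∀ v ∈ LinearMap.range Amap, ∀ k : ℕ,
    v ∈ I ^ (k + c) • (⊤ : Submodule R (Fin n → R)) →
      ∃ z ∈ I ^ k • (⊤ : Submodule R (Fin m → R)), Amap z = v := by
  obtain ⟨c, hc⟩ := Ideal.exists_pow_inf_eq_pow_smul I (LinearMap.range Amap)
  refine ⟨c, fun v hv k hvk => ?_⟩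
  have h1 : v ∈ I ^ (k + c) • (⊤ : Submodule R (Fin n → R)) ⊓ LinearMap.range Amap := ⟨hvk, hv⟩
  rw [hc (k + c) (by omega), Nat.add_sub_cancel] at h1
  have h2 : I ^ k • (I ^ c • (⊤ : Submodule R (Fin n → R)) ⊓ LinearMap.range Amap) ≤
      Submodule.map Amap (I ^ k • (⊤ : Submodule R (Fin m → R))) := by
    rw [Submodule.map_smul'', Submodule.map_top]
    exact Submodule.smul_mono le_rfl inf_le_right
  obtain ⟨z, hz, hzv⟩ := h2 h1
  exact ⟨z, hz, hzv⟩

/-- a single preimage working for all levels at once -/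
theorem exists_shift' [IsHausdorff I R] : ∃ c : ℕ, ∀ v ∈ LinearMap.range Amap,
    ∃ z, Amap z = v ∧ ∀ k : ℕ, v ∈ I ^ (k + c) • (⊤ : Submodule R (Fin n → R)) →
      z ∈ I ^ k • (⊤ : Submodule R (Fin m → R)) := by
  obtain ⟨c, hc⟩ := exists_shift I Amap
  refine ⟨c, fun v hv => ?_⟩
  by_cases hall : ∀ k : ℕ, v ∈ I ^ (k + c) • (⊤ : Submodule R (Fin n → R))
  · have hv0 : v = 0 := by
      funext i
      apply IsHausdorff.haus' (I := I) (v i)
      intro k
      rw [SModEq.zero, mem_smul_top_self_iff]
      have h1 := (mem_smul_top_pi_iff _ v).mp (hall k) i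
      exact Ideal.pow_le_pow_right (Nat.le_add_right k c) h1
    exact ⟨0, by rw [map_zero, hv0], fun k _ => Submodule.zero_mem _⟩
  · push Not at hall
    classical
    have hfind := Nat.find_spec hall
    rcases Nat.eq_zero_or_pos (Nat.find hall) with h0 | hpos
    · obtain ⟨z, hz⟩ := hv
      refine ⟨z, hz, fun k hk => ?_⟩
      exfalso
      rw [h0] at hfind
      apply hfind
      exact Submodule.smul_mono_left (Ideal.pow_le_pow_right (by omega)) hk
    · have hprev : v ∈ I ^ ((Nat.find hall - 1) + c) • (⊤ : Submodule R (Fin n → R)) := by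
        by_contra hcon
        have := Nat.find_min' hall hcon
        omega
      obtain ⟨z, hz, hzv⟩ := hc v hv _ hprev
      refine ⟨z, hzv, fun k hk => ?_⟩
      have hk' : k ≤ Nat.find hall - 1 := by
        by_contra hcon
        push Not at hcon
        apply hfind
        exact Submodule.smul_mono_left (Ideal.pow_le_pow_right (by omega)) hk
      exact Submodule.smul_mono_left (Ideal.pow_le_pow_right hk') hz

end lift

end Groth.Agent.Helper8.FreeCpl
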