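import Mathlib
import Groth.Prelude
import Groth.Agent.Lib.Helper8.FreeCpl1
import Groth.Agent.S2057

/-!
# The completion of a free module embeds universally injectively into the product
-/

set_option autoImplicit false

universe u

namespace Groth.Agent.Helper8.FreeCpl

open Submodule AdicCompletion

variable {R : Type u} [CommRing R] (I : Ideal R) (α : Type u)

/-- the coordinate map from the completion of the free module to the product -/
noncomputable def toPi : AdicCompletion I (α →₀ R) →ₗ[R] (α → AdicCompletion I R) :=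
  LinearMap.pi fun a : α => AdicCompletion.map I (Finsupp.lapply a : (α →₀ R) →ₗ[R] R)

theorem toPi_mk_val (s : AdicCauchySequence I (α →₀ R)) (a : α) (k : ℕ) :
    (toPi I α (AdicCompletion.mk I _ s) a).val k =
      Submodule.Quotient.mk (p := (I ^ k • ⊤ : Submodule R R)) ((s k) a) := rfl

theorem toPi_injective : Function.Injective (toPi I α) := by
  rw [injective_iff_map_eq_zero]
  intro x
  obtain ⟨s, rfl⟩ := AdicCompletion.mk_surjective I _ x
  intro hs
  apply AdicCompletion.ext
  intro k
  rw [AdicCompletion.mk_apply_coe, Submodule.mkQ_apply, AdicCompletion.val_zero_apply,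
    Submodule.Quotient.mk_eq_zero, mem_smul_top_finsupp_iff]
  intro a
  have h1 : (toPi I α (AdicCompletion.mk I _ s) a).val k = 0 := by
    rw [hs]; rfl
  rw [toPi_mk_val, Submodule.Quotient.mk_eq_zero, mem_smul_top_self_iff] at h1
  exact h1

theorem main [IsNoetherianRing R] [IsAdicComplete I R] :
    CAlgX.UniversallyInjective R (toPi I α) := by
  rw [Groth.Agent.S2057.result (toPi I α) (toPi_injective I α)]
  intro n m x y A hxy
  classical
  choose s hs using fun i => AdicCompletion.mk_surjective I (α →₀ R) (x i)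
  let e := AdicCompletion.ofLinearEquiv I R
  let X : α → Fin n → R := fun a i => e.symm (toPi I α (x i) a)
  let Y : α → Fin m → R := fun a j => e.symm (y j a)
  let Amap : (Fin m → R) →ₗ[R] (Fin n → R) :=
    LinearMap.pi fun i => ∑ j, A i j • (LinearMap.proj j : (Fin m → R) →ₗ[R] R)
  have hAmap : ∀ z i, Amap z i = ∑ j, A i j * z j := by
    intro z i
    simp [Amap]
  have hXY : ∀ a, Amap (Y a) = X a := by
    intro a
    funext i
    rw [hAmap]
    change _ = e.symm (toPi I α (x i) a)
    rw [hxy i]
    simp only [Finset.sum_apply, Pi.smul_apply, map_sum, map_smul, smul_eq_mul]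
    rfl
  have hXs : ∀ a i k, X a i - (s i k) a ∈ I ^ k := by
    intro a i k
    have h1 : AdicCompletion.of I R (X a i) = toPi I α (x i) a :=
      AdicCompletion.of_ofLinearEquiv_symm I _
    have h2 : (AdicCompletion.of I R (X a i)).val k = (toPi I α (x i) a).val k := by rw [h1]
    rw [AdicCompletion.of_apply, ← hs i, toPi_mk_val, Submodule.mkQ_apply,
      Submodule.Quotient.eq, mem_smul_top_self_iff] at h2
    exact h2
  obtain ⟨c, hc⟩ := exists_shift' I Amap
  choose z hz1 hz2 using fun a => hc (X a) ⟨Y a, hXY a⟩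
  let S : ℕ → Finset α := fun k => Finset.univ.biUnion fun i => (s i (k + c)).support
  have hS : ∀ k a, a ∉ S k → z a ∈ I ^ k • (⊤ : Submodule R (Fin m → R)) := by
    intro k a ha
    apply hz2 a k
    rw [mem_smul_top_pi_iff]
    intro i
    have h0 : (s i (k + c)) a = 0 := by
      rw [← Finsupp.notMem_support_iff]
      intro hmem
      exact ha (Finset.mem_biUnion.mpr ⟨i, Finset.mem_univ _, hmem⟩)
    have := hXs a i (k + c)
    rwa [h0, sub_zero] at this
  let T : ℕ → Finset α := fun k => (Finset.range (k + 1)).biUnion S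
  have hTmono : ∀ k, T k ⊆ T (k + 1) := by
    intro k a ha
    obtain ⟨l, hl, hal⟩ := Finset.mem_biUnion.mp ha
    exact Finset.mem_biUnion.mpr ⟨l, Finset.mem_range.mpr (by
      have := Finset.mem_range.mp hl; omega), hal⟩
  have hT : ∀ k a j, a ∉ T k → z a j ∈ I ^ k := by
    intro k a j ha
    have h1 : a ∉ S k := fun h => ha (Finset.mem_biUnion.mpr
      ⟨k, Finset.mem_range.mpr (Nat.lt_succ_self k), h⟩)
    exact (mem_smul_top_pi_iff _ _).mp (hS k a h1) j
  let t : Fin m → ℕ → (α →₀ R) := fun j k => ∑ a ∈ T k, Finsupp.single a (z a j)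
  have ht : ∀ j k a, t j k a = if a ∈ T k then z a j else 0 := by
    intro j k a
    simp only [t, Finsupp.finsetSum_apply, Finsupp.single_apply]
    rw [Finset.sum_ite_eq']
  have hcauchy : ∀ j k, t j k ≡ t j (k + 1) [SMOD (I ^ k • ⊤ : Submodule R (α →₀ R))] := by
    intro j k
    rw [SModEq.sub_mem, mem_smul_top_finsupp_iff]
    intro a
    rw [Finsupp.sub_apply, ht, ht]
    by_cases h1 : a ∈ T k
    · rw [if_pos h1, if_pos (hTmono k h1), sub_self]
      exact Submodule.zero_mem _
    · rw [if_neg h1, zero_sub]
      apply Ideal.neg_mem_iff _ |>.mpr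
      split_ifs
      · exact hT k a j h1
      · exact Submodule.zero_mem _
  let Z : Fin m → AdicCompletion I (α →₀ R) := fun j =>
    AdicCompletion.mk I _ (AdicCauchySequence.mk I _ (t j) (hcauchy j))
  have hZ : ∀ j a, toPi I α (Z j) a = AdicCompletion.of I R (z a j) := by
    intro j a
    apply AdicCompletion.ext
    intro k
    rw [toPi_mk_val, AdicCompletion.of_apply, Submodule.mkQ_apply, Submodule.Quotient.eq,
      mem_smul_top_self_iff]
    change t j k a - z a j ∈ I ^ k
    rw [ht]
    by_cases h1 : a ∈ T k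
    · rw [if_pos h1, sub_self]
      exact Submodule.zero_mem _
    · rw [if_neg h1, zero_sub]
      exact (Ideal.neg_mem_iff _).mpr (hT k a j h1)
  refine ⟨Z, fun i => ?_⟩
  apply toPi_injective I α
  funext a
  have h1 : toPi I α (x i) a = AdicCompletion.of I R (X a i) :=
    (AdicCompletion.of_ofLinearEquiv_symm I _).symm
  rw [h1, map_sum, Finset.sum_apply]
  simp only [map_smul, Pi.smul_apply, hZ]
  rw [← hz1 a, hAmap, map_sum]
  simp only [← smul_eq_mul, map_smul]

end Groth.Agent.Helper8.FreeCpl
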