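import Mathlib
import Groth.Prelude
import Groth.Agent.Lib.Helper8.FreeCpl2
import Groth.Agent.S6338
import Groth.Agent.S6347

/-!
# The completion of a free module over a complete Noetherian ring is flat and Mittag-Leffler
-/

set_option autoImplicit false

universe u

namespace Groth.Agent.Helper8.FreeCpl

open TensorProduct

/-- a universally injective submodule of a flat module is flat -/
theorem flat_of_universallyInjective {R : Type u} [CommRing R] {M₁ M₂ : Type u}
    [AddCommGroup M₁] [Module R M₁] [AddCommGroup M₂] [Module R M₂] (f : M₁ →ₗ[R] M₂)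
    (hf : CAlgX.UniversallyInjective R f) [Module.Flat R M₂] : Module.Flat R M₁ := by
  rw [Module.Flat.iff_lTensor_preserves_injective_linearMap]
  intro N N' _ _ _ _ u hu
  have h1 : Function.Injective (u.lTensor M₂) := Module.Flat.lTensor_preserves_injective_linearMap u hu
  have h2 : Function.Injective (f.rTensor N) := hf N
  have h3 : (f.rTensor N') ∘ₗ (u.lTensor M₁) = (u.lTensor M₂) ∘ₗ (f.rTensor N) := by
    rw [LinearMap.rTensor_comp_lTensor, LinearMap.lTensor_comp_rTensor]
  have h4 : Function.Injective ((f.rTensor N') ∘ₗ (u.lTensor M₁)) := by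
    rw [h3]
    exact h1.comp h2
  exact Function.Injective.of_comp h4

theorem universallyInjective_comp_equiv {R : Type u} [CommRing R] {M₁ M₂ M₃ : Type u}
    [AddCommGroup M₁] [Module R M₁] [AddCommGroup M₂] [Module R M₂] [AddCommGroup M₃]
    [Module R M₃] (f : M₁ →ₗ[R] M₂) (hf : CAlgX.UniversallyInjective R f) (e : M₂ ≃ₗ[R] M₃) :
    CAlgX.UniversallyInjective R (e.toLinearMap ∘ₗ f) := by
  intro Q _ _
  rw [LinearMap.rTensor_comp]
  have h1 : Function.Injective ((e.toLinearMap).rTensor Q) :=
    (TensorProduct.congr e (LinearEquiv.refl R Q)).injective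
  exact h1.comp (hf Q)

theorem flat_and_mittagLeffler {R : Type u} [CommRing R] [IsNoetherianRing R] (I : Ideal R)
    [IsAdicComplete I R] (α : Type u) :
    Module.Flat R (AdicCompletion I (α →₀ R)) ∧
      CAlg.IsMittagLeffler R (AdicCompletion I (α →₀ R)) := by
  let e : (α → AdicCompletion I R) ≃ₗ[R] (α → R) :=
    LinearEquiv.piCongrRight fun _ => (AdicCompletion.ofLinearEquiv I R).symm
  have hg := universallyInjective_comp_equiv (toPi I α) (main I α) e
  obtain ⟨hflat, hML⟩ := Groth.Agent.S6347.result R α
  exact ⟨flat_of_universallyInjective _ hg, Groth.Agent.S6338.result R _ hg hML⟩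

end Groth.Agent.Helper8.FreeCpl
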