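import Mathlib
import Groth.Prelude

/-!
# A map into a flat module which is bijective modulo `I` induces a bijection on completions
-/

set_option autoImplicit false

universe u

namespace Groth.Agent.Helper8.FreeCpl

open Submodule

section span

variable {R : Type u} [CommRing R] {N : Type*} [AddCommGroup N] [Module R N]

/-- elements of `(span of r) • N'` are combinations `∑ r k • u k` with `u k ∈ N'` -/
theorem exists_sum_of_mem_span_smul {s : ℕ} (r : Fin s → R) (N' : Submodule R N) {x : N}
    (hx : x ∈ Ideal.span (Set.range r) • N') :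
    ∃ u : Fin s → N, (∀ k, u k ∈ N') ∧ x = ∑ k, r k • u k := by
  refine Submodule.smul_induction_on hx (fun a ha y hy => ?_) (fun x y hx hy => ?_)
  · obtain ⟨c, hc⟩ := (Submodule.mem_span_range_iff_exists_fun R).mp ha
    refine ⟨fun k => c k • y, fun k => N'.smul_mem _ hy, ?_⟩
    rw [← hc, Finset.sum_smul]
    refine Finset.sum_congr rfl fun k _ => ?_
    rw [smul_eq_mul, mul_smul, smul_comm]
  · obtain ⟨u, hu, rfl⟩ := hx
    obtain ⟨v, hv, rfl⟩ := hy
    refine ⟨fun k => u k + v k, fun k => N'.add_mem (hu k) (hv k), ?_⟩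
    rw [← Finset.sum_add_distrib]
    exact Finset.sum_congr rfl fun k _ => (smul_add _ _ _).symm

theorem sum_mem_span_smul {s : ℕ} (r : Fin s → R) (N' : Submodule R N) (u : Fin s → N)
    (hu : ∀ k, u k ∈ N') : ∑ k, r k • u k ∈ Ideal.span (Set.range r) • N' :=
  Submodule.sum_mem _ fun k _ =>
    Submodule.smul_mem_smul (Ideal.subset_span ⟨k, rfl⟩) (hu k)

end span

section main

variable {R : Type u} [CommRing R] [IsNoetherianRing R] (I : Ideal R)
  {F M : Type u} [AddCommGroup F] [Module R F] [AddCommGroup M] [Module R M] [Module.Flat R M]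
  (φ : F →ₗ[R] M)
  (hinj : ∀ x, φ x ∈ I • (⊤ : Submodule R M) → x ∈ I • (⊤ : Submodule R F))
  (hsurj : ∀ m, ∃ g, m - φ g ∈ I • (⊤ : Submodule R M))

theorem pow_succ_smul_top (n : ℕ) (N : Type*) [AddCommGroup N] [Module R N] :
    I ^ (n + 1) • (⊤ : Submodule R N) = I ^ n • (I • (⊤ : Submodule R N)) := by
  rw [pow_succ, Submodule.mul_smul]

include hinj hsurj in
theorem mem_pow_smul_top_of_map_mem (n : ℕ) :
    ∀ x, φ x ∈ I ^ n • (⊤ : Submodule R M) → x ∈ I ^ n • (⊤ : Submodule R F) := by
  induction n with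
  | zero =>
    intro x _
    rw [pow_zero, Ideal.one_eq_top, Submodule.top_smul]
    trivial
  | succ n ih =>
    intro x hx
    obtain ⟨s, r, hr⟩ : ∃ (s : ℕ) (r : Fin s → R), Ideal.span (Set.range r) = I ^ n := by
      obtain ⟨s, r, hr⟩ := Submodule.fg_iff_exists_fin_generating_family.mp
        (IsNoetherian.noetherian (I ^ n))
      exact ⟨s, r, hr⟩
    have hx' : φ x ∈ I ^ n • (⊤ : Submodule R M) :=
      Submodule.smul_mono_left (Ideal.pow_le_pow_right (Nat.le_succ n)) hx
    have hxn := ih x hx'
    rw [← hr] at hxn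
    obtain ⟨f, -, hf⟩ := exists_sum_of_mem_span_smul r ⊤ hxn
    rw [pow_succ_smul_top, ← hr] at hx
    obtain ⟨u, hu, hφx⟩ := exists_sum_of_mem_span_smul r _ hx
    have hrel : ∑ k, r k • (φ (f k) - u k) = 0 := by
      simp only [smul_sub, Finset.sum_sub_distrib]
      rw [← hφx, hf, map_sum]
      simp only [map_smul, sub_self]
    obtain ⟨l, a, y, hy1, hy2⟩ := Module.Flat.isTrivialRelation_of_sum_smul_eq_zero hrel
    have hy1' : ∀ k, ∑ j, a k j • y j = φ (f k) - u k := fun k => (hy1 k).symm
    choose g hg using fun j => hsurj (y j)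
    have hw : ∀ k, f k - ∑ j, a k j • g j ∈ I • (⊤ : Submodule R F) := by
      intro k
      apply hinj
      have h1 : φ (f k - ∑ j, a k j • g j) = u k + ∑ j, a k j • (y j - φ (g j)) := by
        rw [map_sub, map_sum]
        simp only [map_smul, smul_sub, Finset.sum_sub_distrib]
        rw [hy1' k]
        abel
      rw [h1]
      exact Submodule.add_mem _ (hu k)
        (Submodule.sum_mem _ fun j _ => Submodule.smul_mem _ _ (hg j))
    have hxsum : x = ∑ k, r k • (f k - ∑ j, a k j • g j) := by
      have h2 : ∑ k, r k • ∑ j, a k j • g j = 0 := by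
        simp only [Finset.smul_sum]
        rw [Finset.sum_comm]
        apply Finset.sum_eq_zero
        intro j _
        simp only [← mul_smul]
        rw [← Finset.sum_smul, hy2 j, zero_smul]
      simp only [smul_sub, Finset.sum_sub_distrib]
      rw [h2, sub_zero]
      exact hf
    rw [hxsum, pow_succ_smul_top, ← hr]
    exact sum_mem_span_smul r _ _ hw

include hsurj in
theorem exists_sub_mem_pow (n : ℕ) : ∀ m, ∃ g, m - φ g ∈ I ^ n • (⊤ : Submodule R M) := by
  induction n with
  | zero =>
    intro m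
    refine ⟨0, ?_⟩
    rw [pow_zero, Ideal.one_eq_top, Submodule.top_smul]
    trivial
  | succ n ih =>
    intro m
    obtain ⟨g₀, hg₀⟩ := ih m
    obtain ⟨s, r, hr⟩ := Submodule.fg_iff_exists_fin_generating_family.mp
      (IsNoetherian.noetherian (I ^ n))
    have hr' : Ideal.span (Set.range r) = I ^ n := hr
    rw [← hr'] at hg₀
    obtain ⟨mk, -, hmk⟩ := exists_sum_of_mem_span_smul r ⊤ hg₀
    choose g hg using fun k => hsurj (mk k)
    refine ⟨g₀ + ∑ k, r k • g k, ?_⟩
    have h1 : m - φ (g₀ + ∑ k, r k • g k) = ∑ k, r k • (mk k - φ (g k)) := by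
      rw [map_add, map_sum]
      simp only [map_smul, smul_sub, Finset.sum_sub_distrib]
      rw [← hmk]
      abel
    rw [h1, pow_succ_smul_top, ← hr']
    exact sum_mem_span_smul r _ _ hg

include hinj hsurj in
theorem map_bijective : Function.Bijective (AdicCompletion.map I φ) := by
  constructor
  · rw [injective_iff_map_eq_zero]
    intro x
    obtain ⟨s, rfl⟩ := AdicCompletion.mk_surjective I _ x
    intro hs
    apply AdicCompletion.ext
    intro n
    rw [AdicCompletion.mk_apply_coe, Submodule.mkQ_apply, AdicCompletion.val_zero_apply,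
      Submodule.Quotient.mk_eq_zero]
    apply mem_pow_smul_top_of_map_mem I φ hinj hsurj n
    have h1 : (AdicCompletion.map I φ (AdicCompletion.mk I F s)).val n = 0 := by
      rw [hs]; rfl
    rw [AdicCompletion.map_mk, AdicCompletion.mk_apply_coe, Submodule.mkQ_apply,
      Submodule.Quotient.mk_eq_zero] at h1
    exact h1
  · intro y
    obtain ⟨t, rfl⟩ := AdicCompletion.mk_surjective I _ y
    choose g hg using fun n => exists_sub_mem_pow I φ hsurj n (t n)
    have hcauchy : ∀ n, g n ≡ g (n + 1) [SMOD (I ^ n • ⊤ : Submodule R F)] := by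
      intro n
      rw [SModEq.sub_mem]
      apply mem_pow_smul_top_of_map_mem I φ hinj hsurj n
      have h1 : φ (g n - g (n + 1)) =
          -(t n - φ (g n)) + (t n - t (n + 1)) + (t (n + 1) - φ (g (n + 1))) := by
        rw [map_sub]; abel
      rw [h1]
      refine Submodule.add_mem _ (Submodule.add_mem _ (Submodule.neg_mem _ (hg n)) ?_) ?_
      · exact (SModEq.sub_mem).mp (t.2 (Nat.le_succ n))
      · exact Submodule.smul_mono_left (Ideal.pow_le_pow_right (Nat.le_succ n)) (hg (n + 1))
    refine ⟨AdicCompletion.mk I F (AdicCompletion.AdicCauchySequence.mk I F g hcauchy), ?_⟩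
    apply AdicCompletion.ext
    intro n
    rw [AdicCompletion.map_mk, AdicCompletion.mk_apply_coe, AdicCompletion.mk_apply_coe,
      Submodule.mkQ_apply, Submodule.mkQ_apply, Submodule.Quotient.eq]
    have := hg n
    rw [← Submodule.neg_mem_iff, neg_sub] at this
    exact this

end main

end Groth.Agent.Helper8.FreeCpl
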