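import Mathlib
import Groth.Prelude

/-!
# The Eilenberg swindle: a projective module plus a free module is free
-/

set_option autoImplicit false

universe u

namespace Groth.Agent.Helper8.FreeCpl

section swindle

variable (S : Type u) [CommRing S] (A B : Type u) [AddCommGroup A] [Module S A]
  [AddCommGroup B] [Module S B]

/-- finitely supported functions into a product -/
noncomputable def finsuppProdCodomain (ι : Type*) :
    (ι →₀ (A × B)) ≃ₗ[S] (ι →₀ A) × (ι →₀ B) :=
  LinearEquiv.ofLinearMap
    ((Finsupp.mapRange.linearMap (LinearMap.fst S A B)).prod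
      (Finsupp.mapRange.linearMap (LinearMap.snd S A B)))
    ((Finsupp.mapRange.linearMap (LinearMap.inl S A B)).coprod
      (Finsupp.mapRange.linearMap (LinearMap.inr S A B)))
    (by
      apply LinearMap.ext
      rintro ⟨f, g⟩
      apply Prod.ext
      · ext i
        simp
      · ext i
        simp)
    (by
      apply LinearMap.ext
      intro f
      ext i
      · simp
      · simp)

/-- `A × A^(ℕ) ≃ A^(ℕ)` -/
noncomputable def shiftEquiv : (A × (ℕ →₀ A)) ≃ₗ[S] (ℕ →₀ A) :=
  ((LinearEquiv.prodComm S A (ℕ →₀ A)).trans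
    ((LinearEquiv.prodCongr (LinearEquiv.refl S (ℕ →₀ A))
      (Finsupp.uniqueLinearEquiv S A PUnit.unit.{1}).symm).trans
    ((Finsupp.sumFinsuppLEquivProdFinsupp S).symm.trans
      (Finsupp.domLCongr Equiv.natSumPUnitEquivNat.{0}))))

/-- the swindle: `A × (A × B)^(ℕ) ≃ (A × B)^(ℕ)` -/
noncomputable def swindleEquiv : (A × (ℕ →₀ (A × B))) ≃ₗ[S] (ℕ →₀ (A × B)) :=
  ((LinearEquiv.prodCongr (LinearEquiv.refl S A) (finsuppProdCodomain S A B ℕ)).trans
    ((LinearEquiv.prodAssoc S A (ℕ →₀ A) (ℕ →₀ B)).symm.trans
      ((LinearEquiv.prodCongr (shiftEquiv S A) (LinearEquiv.refl S (ℕ →₀ B))).trans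
        (finsuppProdCodomain S A B ℕ).symm)))

end swindle

section projective

variable (S : Type u) [CommRing S] (P : Type u) [AddCommGroup P] [Module S P]
  [Module.Projective S P]

/-- For a projective module `P` there is a free module `N` on a set in the same universe with
`P × N ≃ N`. -/
theorem exists_prod_free_equiv_free :
    ∃ (β : Type u), Nonempty ((P × (β →₀ S)) ≃ₗ[S] (β →₀ S)) := by
  obtain ⟨s, hs⟩ := Module.projective_def'.mp (inferInstance : Module.Projective S P)
  set π : (P →₀ S) →ₗ[S] P := Finsupp.linearCombination S id with hπ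
  have hπs : ∀ p, π (s p) = p := fun p => LinearMap.congr_fun hs p
  -- `G = P × ker π`
  let e : (P →₀ S) ≃ₗ[S] P × LinearMap.ker π :=
    { toFun := fun g => (π g, ⟨g - s (π g), by
        rw [LinearMap.mem_ker, map_sub, hπs, sub_self]⟩)
      map_add' := fun g h => by
        apply Prod.ext
        · exact map_add π g h
        · apply Subtype.ext
          change g + h - s (π (g + h)) = (g - s (π g)) + (h - s (π h))
          rw [map_add, map_add]; abel
      map_smul' := fun c g => by
        apply Prod.ext
        · exact map_smul π c g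
        · apply Subtype.ext
          change c • g - s (π (c • g)) = c • (g - s (π g))
          rw [map_smul, map_smul, smul_sub]
      invFun := fun pq => s pq.1 + pq.2.1
      left_inv := fun g => by
        change s (π g) + (g - s (π g)) = g
        abel
      right_inv := fun pq => by
        obtain ⟨p, q, hq⟩ := pq
        have hq' : π q = 0 := LinearMap.mem_ker.mp hq
        apply Prod.ext
        · change π (s p + q) = p
          rw [map_add, hπs, hq', add_zero]
        · apply Subtype.ext
          change s p + q - s (π (s p + q)) = q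
          rw [map_add, hπs, hq', add_zero]; abel }
  refine ⟨ℕ × P, ⟨?_⟩⟩
  -- `(ℕ × P →₀ S) ≃ ℕ →₀ (P →₀ S) ≃ ℕ →₀ (P × ker π)`
  let e2 : ((ℕ × P) →₀ S) ≃ₗ[S] (ℕ →₀ (P × LinearMap.ker π)) :=
    (Finsupp.curryLinearEquiv S).trans (Finsupp.mapRange.linearEquiv e)
  exact ((LinearEquiv.prodCongr (LinearEquiv.refl S P) e2).trans
    (swindleEquiv S P (LinearMap.ker π))).trans e2.symm

end projective

end Groth.Agent.Helper8.FreeCpl
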