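import Mathlib
import Groth.Prelude
import Groth.Agent.Lib.Helper8.FreeCpl3
import Groth.Agent.Lib.Helper8.FreeCpl4
import Groth.Agent.Lib.Helper8.FreeCpl5

/-!
# Completion of a flat module with projective reduction is flat and Mittag-Leffler
-/

set_option autoImplicit false

universe u

namespace Groth.Agent.Helper8.FreeCpl

open TensorProduct

section prodflat

variable {R : Type u} [CommRing R] (M N : Type u) [AddCommGroup M] [Module R M]
  [AddCommGroup N] [Module R N]

theorem flat_prod [Module.Flat R M] [Module.Flat R N] : Module.Flat R (M × N) := by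
  rw [Module.Flat.iff_rTensor_preserves_injective_linearMap]
  intro P Q _ _ _ _ u hu
  have h1 : Function.Injective (u.rTensor M) :=
    Module.Flat.rTensor_preserves_injective_linearMap u hu
  have h2 : Function.Injective (u.rTensor N) :=
    Module.Flat.rTensor_preserves_injective_linearMap u hu
  have hsq : (TensorProduct.prodRight R R Q M N).toLinearMap ∘ₗ (u.rTensor (M × N)) =
      (LinearMap.prodMap (u.rTensor M) (u.rTensor N)) ∘ₗ
        (TensorProduct.prodRight R R P M N).toLinearMap := by
    apply TensorProduct.ext'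
    intro p mn
    simp
  have h3 : Function.Injective ((TensorProduct.prodRight R R Q M N).toLinearMap ∘ₗ
      (u.rTensor (M × N))) := by
    rw [hsq]
    exact (Function.Injective.prodMap h1 h2).comp (TensorProduct.prodRight R R P M N).injective
  exact Function.Injective.of_comp h3

end prodflat

section split

variable {R : Type u} [CommRing R] {M₁ M₂ : Type u} [AddCommGroup M₁] [Module R M₁]
  [AddCommGroup M₂] [Module R M₂]

theorem universallyInjective_of_leftInverse (f : M₁ →ₗ[R] M₂) (r : M₂ →ₗ[R] M₁)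
    (h : r ∘ₗ f = LinearMap.id) : CAlgX.UniversallyInjective R f := by
  intro Q _ _
  have h1 : (r.rTensor Q) ∘ₗ (f.rTensor Q) = LinearMap.id := by
    rw [← LinearMap.rTensor_comp, h, LinearMap.rTensor_id]
  exact Function.LeftInverse.injective (g := r.rTensor Q) fun x => LinearMap.congr_fun h1 x

end split

section smultop

variable {R : Type u} [CommRing R] (I : Ideal R) {A B : Type*} [AddCommGroup A] [Module R A]
  [AddCommGroup B] [Module R B]

theorem map_mem_smul_top (g : A →ₗ[R] B) {y : A} (hy : y ∈ I • (⊤ : Submodule R A)) :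
    g y ∈ I • (⊤ : Submodule R B) := by
  have h1 : g y ∈ Submodule.map g (I • (⊤ : Submodule R A)) := Submodule.mem_map_of_mem hy
  rw [Submodule.map_smul''] at h1
  exact Submodule.smul_mono le_rfl le_top h1

theorem mem_smul_top_prod_iff (x : A × B) :
    x ∈ I • (⊤ : Submodule R (A × B)) ↔
      x.1 ∈ I • (⊤ : Submodule R A) ∧ x.2 ∈ I • (⊤ : Submodule R B) := by
  constructor
  · intro h
    exact ⟨map_mem_smul_top I (LinearMap.fst R A B) h, map_mem_smul_top I (LinearMap.snd R A B) h⟩
  · rintro ⟨h1, h2⟩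
    have hx : x = LinearMap.inl R A B x.1 + LinearMap.inr R A B x.2 := by
      apply Prod.ext <;> simp
    rw [hx]
    exact Submodule.add_mem _ (map_mem_smul_top I _ h1) (map_mem_smul_top I _ h2)

end smultop

section main

variable (R : Type u) [CommRing R] [IsNoetherianRing R] (I : Ideal R) [IsAdicComplete I R]
  (M : Type u) [AddCommGroup M] [Module R M] [Module.Flat R M]
  [Module.Projective (R ⧸ I) (M ⧸ (I • ⊤ : Submodule R M))]

theorem isScalarTower_quot : IsScalarTower R (R ⧸ I) (M ⧸ (I • ⊤ : Submodule R M)) :=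
  IsScalarTower.of_algebraMap_smul fun r x => by
    obtain ⟨m, rfl⟩ := Submodule.Quotient.mk_surjective _ x
    rfl

theorem flat_and_mittagLeffler_of_projective :
    Module.Flat R (AdicCompletion I M) ∧ CAlg.IsMittagLeffler R (AdicCompletion I M) := by
  classical
  haveI := isScalarTower_quot R I M
  obtain ⟨β, ⟨θ⟩⟩ := exists_prod_free_equiv_free (R ⧸ I) (M ⧸ (I • ⊤ : Submodule R M))
  let θR : ((M ⧸ (I • ⊤ : Submodule R M)) × (β →₀ (R ⧸ I))) ≃ₗ[R] (β →₀ (R ⧸ I)) :=
    θ.restrictScalars R
  let ρF : (β →₀ R) →ₗ[R] (β →₀ (R ⧸ I)) :=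
    Finsupp.mapRange.linearMap (Algebra.linearMap R (R ⧸ I))
  have hρF_apply : ∀ (x : β →₀ R) (b : β), ρF x b = Ideal.Quotient.mk I (x b) := fun x b => rfl
  have hρF_surj : Function.Surjective ρF :=
    Finsupp.mapRange_surjective _ (map_zero _) Ideal.Quotient.mk_surjective
  have hρF_ker : ∀ x, ρF x = 0 ↔ x ∈ I • (⊤ : Submodule R (β →₀ R)) := by
    intro x
    rw [mem_smul_top_finsupp_iff]
    constructor
    · intro h a
      have h1 := DFunLike.congr_fun h a
      rw [hρF_apply, Finsupp.zero_apply, Ideal.Quotient.eq_zero_iff_mem] at h1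
      exact h1
    · intro h
      ext a
      rw [hρF_apply, Finsupp.zero_apply, Ideal.Quotient.eq_zero_iff_mem]
      exact h a
  let ρ : (M × (β →₀ R)) →ₗ[R] ((M ⧸ (I • ⊤ : Submodule R M)) × (β →₀ (R ⧸ I))) :=
    LinearMap.prodMap (Submodule.mkQ _) ρF
  have hρ_surj : Function.Surjective ρ :=
    Function.Surjective.prodMap (Submodule.mkQ_surjective _) hρF_surj
  have hρ_ker : ∀ x, ρ x = 0 ↔ x ∈ I • (⊤ : Submodule R (M × (β →₀ R))) := by
    rintro ⟨m, f⟩
    rw [mem_smul_top_prod_iff, ← hρF_ker]
    change ((Submodule.mkQ _ m, ρF f) : _ × _) = 0 ↔ _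
    rw [Prod.mk_eq_zero, Submodule.mkQ_apply, Submodule.Quotient.mk_eq_zero]
  choose v hv using fun b => hρ_surj (θR.symm (Finsupp.single b 1))
  let φ : (β →₀ R) →ₗ[R] (M × (β →₀ R)) := Finsupp.linearCombination R v
  have hφ : ∀ x, ρ (φ x) = θR.symm (ρF x) := by
    intro x
    have h0 : ρ ∘ₗ φ = θR.symm.toLinearMap ∘ₗ ρF := by
      apply Finsupp.lhom_ext
      intro b r
      have h1 : ρF (Finsupp.single b r) = r • (Finsupp.single b (1 : R ⧸ I)) := by
        ext a
        rw [hρF_apply, Finsupp.smul_apply, Finsupp.single_apply, Finsupp.single_apply]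
        split_ifs
        · rw [Algebra.smul_def, mul_one]; rfl
        · rw [map_zero, smul_zero]
      simp only [LinearMap.comp_apply, φ, Finsupp.linearCombination_single, map_smul, hv,
        LinearEquiv.coe_coe, h1]
    exact LinearMap.congr_fun h0 x
  have hinj : ∀ x, φ x ∈ I • (⊤ : Submodule R (M × (β →₀ R))) →
      x ∈ I • (⊤ : Submodule R (β →₀ R)) := by
    intro x hx
    rw [← hρF_ker]
    have h1 : ρ (φ x) = 0 := (hρ_ker _).mpr hx
    rw [hφ] at h1
    exact (LinearEquiv.map_eq_zero_iff θR.symm).mp h1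
  have hsurj : ∀ m, ∃ g, m - φ g ∈ I • (⊤ : Submodule R (M × (β →₀ R))) := by
    intro m'
    obtain ⟨g, hg⟩ := hρF_surj (θR (ρ m'))
    refine ⟨g, ?_⟩
    rw [← hρ_ker, map_sub, sub_eq_zero, hφ, hg, LinearEquiv.symm_apply_apply]
  haveI : Module.Flat R (M × (β →₀ R)) := flat_prod M (β →₀ R)
  have hbij := map_bijective I φ hinj hsurj
  let Ψ : AdicCompletion I (β →₀ R) ≃ₗ[R] AdicCompletion I (M × (β →₀ R)) :=
    LinearEquiv.ofBijective ((AdicCompletion.map I φ).restrictScalars R) hbij
  let ι : AdicCompletion I M →ₗ[R] AdicCompletion I (M × (β →₀ R)) :=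
    (AdicCompletion.map I (LinearMap.inl R M (β →₀ R))).restrictScalars R
  let pr : AdicCompletion I (M × (β →₀ R)) →ₗ[R] AdicCompletion I M :=
    (AdicCompletion.map I (LinearMap.fst R M (β →₀ R))).restrictScalars R
  have hsplit : pr ∘ₗ ι = LinearMap.id := by
    apply LinearMap.ext
    intro x
    change AdicCompletion.map I (LinearMap.fst R M (β →₀ R))
      (AdicCompletion.map I (LinearMap.inl R M (β →₀ R)) x) = x
    rw [AdicCompletion.map_comp_apply, LinearMap.fst_comp_inl, AdicCompletion.map_id]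
    rfl
  have h1 : CAlgX.UniversallyInjective R ι := universallyInjective_of_leftInverse ι pr hsplit
  have hg := universallyInjective_comp_equiv ι h1 Ψ.symm
  obtain ⟨hflat, hML⟩ := flat_and_mittagLeffler I β
  exact ⟨flat_of_universallyInjective _ hg, Groth.Agent.S6338.result R _ hg hML⟩

end main

end Groth.Agent.Helper8.FreeCpl
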