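import Mathlib
import Groth.Prelude
import Groth.Agent.Lib.Helper8.FreeCpl6

/-!
# Maps into flat modules which are bijective modulo a nilpotent ideal; base change of such maps
-/

set_option autoImplicit false

universe u

namespace Groth.Agent.Helper8.ArtFlat

open TensorProduct Groth.Agent.Helper8.FreeCpl

section general

variable {R : Type u} [CommRing R] (I : Ideal R)
  {F M : Type u} [AddCommGroup F] [Module R F] [AddCommGroup M] [Module R M]
  (φ : F →ₗ[R] M)
  (hinj : ∀ x, φ x ∈ I • (⊤ : Submodule R M) → x ∈ I • (⊤ : Submodule R F))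
  (hsurj : ∀ m, ∃ g, m - φ g ∈ I • (⊤ : Submodule R M))

theorem pow_succ_smul_top' (n : ℕ) (N : Type*) [AddCommGroup N] [Module R N] :
    I ^ (n + 1) • (⊤ : Submodule R N) = I ^ n • (I • (⊤ : Submodule R N)) := by
  rw [pow_succ, Submodule.mul_smul]

include hsurj in
theorem exists_sub_mem_pow' (n : ℕ) : ∀ m, ∃ g, m - φ g ∈ I ^ n • (⊤ : Submodule R M) := by
  induction n with
  | zero =>
    intro m
    refine ⟨0, ?_⟩
    rw [pow_zero, Ideal.one_eq_top, Submodule.top_smul]
    trivial
  | succ n ih =>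
    have key : ∀ z ∈ I ^ n • (⊤ : Submodule R M),
        ∃ g, z - φ g ∈ I ^ (n + 1) • (⊤ : Submodule R M) := by
      intro z hz
      refine Submodule.smul_induction_on hz (fun a ha y _ => ?_) (fun x y hx hy => ?_)
      · obtain ⟨g, hg⟩ := hsurj y
        refine ⟨a • g, ?_⟩
        rw [map_smul, ← smul_sub, pow_succ_smul_top']
        exact Submodule.smul_mem_smul ha hg
      · obtain ⟨g₁, h₁⟩ := hx
        obtain ⟨g₂, h₂⟩ := hy
        refine ⟨g₁ + g₂, ?_⟩
        have : x + y - φ (g₁ + g₂) = (x - φ g₁) + (y - φ g₂) := by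
          rw [map_add]; abel
        rw [this]
        exact Submodule.add_mem _ h₁ h₂
    intro m
    obtain ⟨g₀, hg₀⟩ := ih m
    obtain ⟨g₁, hg₁⟩ := key _ hg₀
    refine ⟨g₀ + g₁, ?_⟩
    have : m - φ (g₀ + g₁) = m - φ g₀ - φ g₁ := by
      rw [map_add]; abel
    rw [this]
    exact hg₁

include hsurj in
theorem surjective_of_nilpotent (hnil : IsNilpotent I) : Function.Surjective φ := by
  obtain ⟨n, hn⟩ := hnil
  intro m
  obtain ⟨g, hg⟩ := exists_sub_mem_pow' I φ hsurj n m
  refine ⟨g, ?_⟩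
  rw [hn, Ideal.zero_eq_bot, Submodule.bot_smul, Submodule.mem_bot, sub_eq_zero] at hg
  exact hg.symm

include hinj hsurj in
theorem mem_pow_smul_top_of_map_mem' [Module.Flat R M] (hfg : I.FG) (n : ℕ) :
    ∀ x, φ x ∈ I ^ n • (⊤ : Submodule R M) → x ∈ I ^ n • (⊤ : Submodule R F) := by
  induction n with
  | zero =>
    intro x _
    rw [pow_zero, Ideal.one_eq_top, Submodule.top_smul]
    trivial
  | succ n ih =>
    intro x hx
    obtain ⟨s, r, hr⟩ : ∃ (s : ℕ) (r : Fin s → R), Ideal.span (Set.range r) = I ^ n := by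
      obtain ⟨s, r, hr⟩ := Submodule.fg_iff_exists_fin_generating_family.mp
        (Submodule.FG.pow hfg n)
      exact ⟨s, r, hr⟩
    have hx' : φ x ∈ I ^ n • (⊤ : Submodule R M) :=
      Submodule.smul_mono_left (Ideal.pow_le_pow_right (Nat.le_succ n)) hx
    have hxn := ih x hx'
    rw [← hr] at hxn
    obtain ⟨f, -, hf⟩ := exists_sum_of_mem_span_smul r ⊤ hxn
    rw [pow_succ_smul_top', ← hr] at hx
    obtain ⟨u, hu, hφx⟩ := exists_sum_of_mem_span_smul r _ hx
    have hrel : ∑ k, r k • (φ (f k) - u k) = 0 := by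
      simp only [smul_sub, Finset.sum_sub_distrib]
      rw [← hφx, hf, map_sum]
      simp only [map_smul, sub_self]
    obtain ⟨l, a, y, hy1, hy2⟩ := Module.Flat.isTrivialRelation_of_sum_smul_eq_zero hrel
    have hy1' : ∀ k, ∑ j, a k j • y j = φ (f k) - u k := fun k => (hy1 k).symm
    choose g hg using fun j => hsurj (y j)
    have hw : ∀ k, f k - ∑ j, a k j • g j ∈ I • (⊤ : Submodule R F) := by
      intro k
      apply hinj
      have h1 : φ (f k - ∑ j, a k j • g j) = u k + ∑ j, a k j • (y j - φ (g j)) := by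
        rw [map_sub, map_sum]
        simp only [map_smul, smul_sub, Finset.sum_sub_distrib]
        rw [hy1' k]
        abel
      rw [h1]
      exact Submodule.add_mem _ (hu k)
        (Submodule.sum_mem _ fun j _ => Submodule.smul_mem _ _ (hg j))
    have hxsum : x = ∑ k, r k • (f k - ∑ j, a k j • g j) := by
      have h2 : ∑ k, r k • ∑ j, a k j • g j = 0 := by
        simp only [Finset.smul_sum]
        rw [Finset.sum_comm]
        apply Finset.sum_eq_zero
        intro j _
        simp only [← mul_smul]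
        rw [← Finset.sum_smul, hy2 j, zero_smul]
      simp only [smul_sub, Finset.sum_sub_distrib]
      rw [h2, sub_zero]
      exact hf
    rw [hxsum, pow_succ_smul_top', ← hr]
    exact sum_mem_span_smul r _ _ hw

include hinj hsurj in
theorem injective_of_nilpotent [Module.Flat R M] (hfg : I.FG) (hnil : IsNilpotent I) :
    Function.Injective φ := by
  obtain ⟨n, hn⟩ := hnil
  rw [injective_iff_map_eq_zero]
  intro x hx
  have h1 : φ x ∈ I ^ n • (⊤ : Submodule R M) := by
    rw [hx]; exact Submodule.zero_mem _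
  have h2 := mem_pow_smul_top_of_map_mem' I φ hinj hsurj hfg n x h1
  rw [hn, Ideal.zero_eq_bot, Submodule.bot_smul, Submodule.mem_bot] at h2
  exact h2

end general

section cover

variable (R : Type u) [CommRing R] (I : Ideal R) (M : Type u) [AddCommGroup M] [Module R M]
  [Module.Projective (R ⧸ I) (M ⧸ (I • ⊤ : Submodule R M))]

theorem isScalarTower_quot' : IsScalarTower R (R ⧸ I) (M ⧸ (I • ⊤ : Submodule R M)) :=
  IsScalarTower.of_algebraMap_smul fun r x => by
    obtain ⟨m, rfl⟩ := Submodule.Quotient.mk_surjective _ x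
    rfl

theorem exists_cover : ∃ (β : Type u) (φ : (β →₀ R) →ₗ[R] (M × (β →₀ R))),
    (∀ x, φ x ∈ I • (⊤ : Submodule R (M × (β →₀ R))) → x ∈ I • (⊤ : Submodule R (β →₀ R))) ∧
    (∀ m, ∃ g, m - φ g ∈ I • (⊤ : Submodule R (M × (β →₀ R)))) := by
  classical
  haveI := isScalarTower_quot' R I M
  obtain ⟨β, ⟨θ⟩⟩ := exists_prod_free_equiv_free (R ⧸ I) (M ⧸ (I • ⊤ : Submodule R M))
  let θR : ((M ⧸ (I • ⊤ : Submodule R M)) × (β →₀ (R ⧸ I))) ≃ₗ[R] (β →₀ (R ⧸ I)) :=
    θ.restrictScalars R
  let ρF : (β →₀ R) →ₗ[R] (β →₀ (R ⧸ I)) :=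
    Finsupp.mapRange.linearMap (Algebra.linearMap R (R ⧸ I))
  have hρF_apply : ∀ (x : β →₀ R) (b : β), ρF x b = Ideal.Quotient.mk I (x b) := fun x b => rfl
  have hρF_surj : Function.Surjective ρF :=
    Finsupp.mapRange_surjective _ (map_zero _) Ideal.Quotient.mk_surjective
  have hρF_ker : ∀ x, ρF x = 0 ↔ x ∈ I • (⊤ : Submodule R (β →₀ R)) := by
    intro x
    rw [mem_smul_top_finsupp_iff]
    constructor
    · intro h a
      have h1 := DFunLike.congr_fun h a
      rw [hρF_apply, Finsupp.zero_apply, Ideal.Quotient.eq_zero_iff_mem] at h1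
      exact h1
    · intro h
      ext a
      rw [hρF_apply, Finsupp.zero_apply, Ideal.Quotient.eq_zero_iff_mem]
      exact h a
  let ρ : (M × (β →₀ R)) →ₗ[R] ((M ⧸ (I • ⊤ : Submodule R M)) × (β →₀ (R ⧸ I))) :=
    LinearMap.prodMap (Submodule.mkQ _) ρF
  have hρ_surj : Function.Surjective ρ :=
    Function.Surjective.prodMap (Submodule.mkQ_surjective _) hρF_surj
  have hρ_ker : ∀ x, ρ x = 0 ↔ x ∈ I • (⊤ : Submodule R (M × (β →₀ R))) := by
    rintro ⟨m, f⟩
    rw [mem_smul_top_prod_iff, ← hρF_ker]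
    change ((Submodule.mkQ _ m, ρF f) : _ × _) = 0 ↔ _
    rw [Prod.mk_eq_zero, Submodule.mkQ_apply, Submodule.Quotient.mk_eq_zero]
  choose v hv using fun b => hρ_surj (θR.symm (Finsupp.single b 1))
  let φ : (β →₀ R) →ₗ[R] (M × (β →₀ R)) := Finsupp.linearCombination R v
  have hφ : ∀ x, ρ (φ x) = θR.symm (ρF x) := by
    intro x
    have h0 : ρ ∘ₗ φ = θR.symm.toLinearMap ∘ₗ ρF := by
      apply Finsupp.lhom_ext
      intro b r
      have h1 : ρF (Finsupp.single b r) = r • (Finsupp.single b (1 : R ⧸ I)) := by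
        ext a
        rw [hρF_apply, Finsupp.smul_apply, Finsupp.single_apply, Finsupp.single_apply]
        split_ifs
        · rw [Algebra.smul_def, mul_one]; rfl
        · rw [map_zero, smul_zero]
      simp only [LinearMap.comp_apply, φ, Finsupp.linearCombination_single, map_smul, hv,
        LinearEquiv.coe_coe, h1]
    exact LinearMap.congr_fun h0 x
  refine ⟨β, φ, ?_, ?_⟩
  · intro x hx
    rw [← hρF_ker]
    have h1 : ρ (φ x) = 0 := (hρ_ker _).mpr hx
    rw [hφ] at h1
    exact (LinearEquiv.map_eq_zero_iff θR.symm).mp h1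
  · intro m'
    obtain ⟨g, hg⟩ := hρF_surj (θR (ρ m'))
    refine ⟨g, ?_⟩
    rw [← hρ_ker, map_sub, sub_eq_zero, hφ, hg, LinearEquiv.symm_apply_apply]

end cover

end Groth.Agent.Helper8.ArtFlat
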