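import Mathlib
import Groth.Prelude
import Groth.Agent.Lib.Helper8.ArtFlat1

/-!
# Base change of a map which is bijective modulo an ideal
-/

set_option autoImplicit false

universe u

namespace Groth.Agent.Helper8.ArtFlat

open TensorProduct

section baseChange

variable {R : Type u} [CommRing R] (I : Ideal R) (R' : Type u) [CommRing R'] [Algebra R R']

theorem smul_eq_zero_tensor_quot (X : Type u) [AddCommGroup X] [Module R X] {i : R} (hi : i ∈ I)
    (w : R' ⊗[R] (X ⧸ (I • ⊤ : Submodule R X))) : i • w = 0 := by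
  induction w using TensorProduct.induction_on with
  | zero => exact smul_zero _
  | tmul r' x =>
    obtain ⟨x, rfl⟩ := Submodule.Quotient.mk_surjective _ x
    rw [TensorProduct.smul_tmul', TensorProduct.smul_tmul]
    have : i • (Submodule.Quotient.mk x : X ⧸ (I • ⊤ : Submodule R X)) = 0 := by
      rw [← Submodule.Quotient.mk_smul, Submodule.Quotient.mk_eq_zero]
      exact Submodule.smul_mem_smul hi Submodule.mem_top
    rw [this, TensorProduct.tmul_zero]
  | add x y hx hy => rw [smul_add, hx, hy, add_zero]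

theorem mem_map_smul_top_iff (X : Type u) [AddCommGroup X] [Module R X] (y : R' ⊗[R] X) :
    y ∈ (I.map (algebraMap R R')) • (⊤ : Submodule R' (R' ⊗[R] X)) ↔
      LinearMap.lTensor R' (Submodule.mkQ (I • (⊤ : Submodule R X))) y = 0 := by
  constructor
  · intro hy
    have key : ∀ a ∈ I.map (algebraMap R R'), ∀ z : R' ⊗[R] X,
        LinearMap.lTensor R' (Submodule.mkQ (I • (⊤ : Submodule R X))) (a • z) = 0 := by
      intro a ha
      refine Submodule.span_induction (p := fun a _ => ∀ z : R' ⊗[R] X,
        LinearMap.lTensor R' (Submodule.mkQ (I • (⊤ : Submodule R X))) (a • z) = 0)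
        ?_ ?_ ?_ ?_ ha
      · rintro _ ⟨i, hi, rfl⟩ z
        rw [algebraMap_smul, map_smul]
        exact smul_eq_zero_tensor_quot I R' X hi _
      · intro z
        rw [zero_smul, map_zero]
      · intro a b _ _ ha hb z
        rw [add_smul, map_add, ha z, hb z, add_zero]
      · intro r a _ ha z
        rw [smul_eq_mul, mul_comm, mul_smul]
        exact ha (r • z)
    refine Submodule.smul_induction_on hy (fun a ha z _ => key a ha z) (fun x y hx hy => ?_)
    rw [map_add, hx, hy, add_zero]
  · intro hy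
    have hex := lTensor_exact R' (LinearMap.exact_subtype_mkQ (I • (⊤ : Submodule R X)))
      (Submodule.mkQ_surjective _)
    obtain ⟨w, rfl⟩ := (hex y).mp hy
    clear hy
    induction w using TensorProduct.induction_on with
    | zero => rw [map_zero]; exact Submodule.zero_mem _
    | tmul r' x =>
      obtain ⟨x, hx⟩ := x
      rw [LinearMap.lTensor_tmul, Submodule.subtype_apply]
      change r' ⊗ₜ[R] x ∈ _
      refine Submodule.smul_induction_on hx (fun i hi x₀ _ => ?_) (fun x₁ x₂ h₁ h₂ => ?_)
      · rw [TensorProduct.tmul_smul, ← algebraMap_smul R' i (r' ⊗ₜ[R] x₀)]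
        exact Submodule.smul_mem_smul (Ideal.mem_map_of_mem _ hi) Submodule.mem_top
      · rw [TensorProduct.tmul_add]
        exact Submodule.add_mem _ h₁ h₂
    | add x y hx hy =>
      rw [map_add]
      exact Submodule.add_mem _ hx hy

variable {F M : Type u} [AddCommGroup F] [Module R F] [AddCommGroup M] [Module R M]
  (φ : F →ₗ[R] M)
  (hinj : ∀ x, φ x ∈ I • (⊤ : Submodule R M) → x ∈ I • (⊤ : Submodule R F))
  (hsurj : ∀ m, ∃ g, m - φ g ∈ I • (⊤ : Submodule R M))

theorem le_comap_smul_top : I • (⊤ : Submodule R F) ≤ (I • (⊤ : Submodule R M)).comap φ := by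
  rw [Submodule.smul_le]
  intro i hi x _
  rw [Submodule.mem_comap, map_smul]
  exact Submodule.smul_mem_smul hi Submodule.mem_top

/-- the induced map modulo `I` -/
noncomputable def quotMap : (F ⧸ (I • ⊤ : Submodule R F)) →ₗ[R] (M ⧸ (I • ⊤ : Submodule R M)) :=
  Submodule.mapQ _ _ φ (le_comap_smul_top I φ)

include hinj hsurj in
theorem quotMap_bijective : Function.Bijective (quotMap I φ) := by
  constructor
  · rw [injective_iff_map_eq_zero]
    intro x hx
    obtain ⟨x, rfl⟩ := Submodule.Quotient.mk_surjective _ x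
    rw [quotMap, Submodule.mapQ_apply, Submodule.Quotient.mk_eq_zero] at hx
    rw [Submodule.Quotient.mk_eq_zero]
    exact hinj x hx
  · intro m
    obtain ⟨m, rfl⟩ := Submodule.Quotient.mk_surjective _ m
    obtain ⟨g, hg⟩ := hsurj m
    refine ⟨Submodule.Quotient.mk g, ?_⟩
    rw [quotMap, Submodule.mapQ_apply]
    symm
    rw [Submodule.Quotient.eq]
    exact hg

theorem lTensor_quotMap_comm (x : R' ⊗[R] F) :
    LinearMap.lTensor R' (quotMap I φ)
      (LinearMap.lTensor R' (Submodule.mkQ (I • (⊤ : Submodule R F))) x) =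
    LinearMap.lTensor R' (Submodule.mkQ (I • (⊤ : Submodule R M)))
      (LinearMap.lTensor R' φ x) := by
  rw [← LinearMap.comp_apply, ← LinearMap.comp_apply, ← LinearMap.lTensor_comp,
    ← LinearMap.lTensor_comp]
  congr 2

include hinj hsurj in
theorem baseChange_hinj (x : R' ⊗[R] F)
    (hx : φ.baseChange R' x ∈ (I.map (algebraMap R R')) • (⊤ : Submodule R' (R' ⊗[R] M))) :
    x ∈ (I.map (algebraMap R R')) • (⊤ : Submodule R' (R' ⊗[R] F)) := by
  rw [mem_map_smul_top_iff] at hx ⊢
  have h1 : φ.baseChange R' x = LinearMap.lTensor R' φ x := rfl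
  rw [h1, ← lTensor_quotMap_comm] at hx
  let e := LinearEquiv.ofBijective (quotMap I φ) (quotMap_bijective I φ hinj hsurj)
  have h2 : LinearMap.lTensor R' (quotMap I φ) = (e.lTensor R').toLinearMap := by
    ext; rfl
  rw [h2] at hx
  exact (LinearEquiv.map_eq_zero_iff (e.lTensor R')).mp hx

include hinj hsurj in
theorem baseChange_hsurj (m : R' ⊗[R] M) : ∃ g : R' ⊗[R] F,
    m - φ.baseChange R' g ∈ (I.map (algebraMap R R')) • (⊤ : Submodule R' (R' ⊗[R] M)) := by
  let e := LinearEquiv.ofBijective (quotMap I φ) (quotMap_bijective I φ hinj hsurj)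
  have h2 : LinearMap.lTensor R' (quotMap I φ) = (e.lTensor R').toLinearMap := by
    ext; rfl
  obtain ⟨g, hg⟩ := LinearMap.lTensor_surjective R' (Submodule.mkQ_surjective
    (I • (⊤ : Submodule R F)))
    ((e.lTensor R').symm (LinearMap.lTensor R' (Submodule.mkQ (I • (⊤ : Submodule R M))) m))
  refine ⟨g, ?_⟩
  rw [mem_map_smul_top_iff, map_sub, sub_eq_zero]
  have h1 : φ.baseChange R' g = LinearMap.lTensor R' φ g := rfl
  rw [h1, ← lTensor_quotMap_comm, hg, h2]
  exact ((e.lTensor R').apply_symm_apply _).symm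

end baseChange

end Groth.Agent.Helper8.ArtFlat
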