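import Mathlib
import Groth.Prelude
import Groth.Agent.Lib.Helper8.ArtFlat2

/-!
# The universal flattening ideal of a module over an Artinian ring
-/

set_option autoImplicit false

universe u

namespace Groth.Agent.Helper8.ArtFlat

open TensorProduct Groth.Agent.Helper8.FreeCpl

section scalar

variable {A : Type u} [CommRing A] (A' : Type u) [CommRing A'] [Algebra A A'] {β : Type u}

theorem one_tmul_eq_zero_iff (k : β →₀ A) :
    ((1 : A') ⊗ₜ[A] k = 0) ↔ ∀ b, algebraMap A A' (k b) = 0 := by
  classical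
  constructor
  · intro h b
    have h1 := TensorProduct.finsuppScalarRight_apply_tmul_apply (R := A) (S := A') (M := A')
      (ι := β) (1 : A') k b
    rw [h, map_zero, Finsupp.zero_apply] at h1
    rw [Algebra.algebraMap_eq_smul_one]
    exact h1.symm
  · intro h
    apply (TensorProduct.finsuppScalarRight A A' A' β).injective
    rw [map_zero]
    ext b
    rw [TensorProduct.finsuppScalarRight_apply_tmul_apply, Finsupp.zero_apply,
      ← Algebra.algebraMap_eq_smul_one]
    exact h b

end scalar

theorem baseChange_injective_of_ker {A : Type u} [CommRing A] (A' : Type u) [CommRing A']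
    [Algebra A A'] {F M : Type u} [AddCommGroup F] [Module A F] [AddCommGroup M] [Module A M]
    (φ : F →ₗ[A] M) (hφ : Function.Surjective φ)
    (hzero : ∀ k ∈ LinearMap.ker φ, ((1 : A') ⊗ₜ[A] k : A' ⊗[A] F) = 0) :
    Function.Injective (φ.baseChange A') := by
  have hex : Function.Exact (LinearMap.lTensor A' (LinearMap.ker φ).subtype)
      (LinearMap.lTensor A' φ) :=
    lTensor_exact A' (LinearMap.exact_subtype_ker_map φ) hφ
  rw [injective_iff_map_eq_zero]
  intro x hx
  have hx' : LinearMap.lTensor A' φ x = 0 := hx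
  obtain ⟨w, rfl⟩ := (hex x).mp hx'
  clear hx hx'
  induction w using TensorProduct.induction_on with
  | zero => rw [map_zero]
  | tmul r' k =>
    obtain ⟨k, hk⟩ := k
    rw [LinearMap.lTensor_tmul, Submodule.subtype_apply]
    change r' ⊗ₜ[A] k = 0
    have : r' ⊗ₜ[A] k = r' • ((1 : A') ⊗ₜ[A] k) := by
      rw [TensorProduct.smul_tmul', smul_eq_mul, mul_one]
    rw [this, hzero k hk, smul_zero]
  | add x y hx hy => rw [map_add, hx, hy, add_zero]

theorem exists_ideal (A : Type u) [CommRing A] [IsArtinianRing A] (N : Type u) [AddCommGroup N]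
    [Module A N] :
    ∃ I : Ideal A, ∀ (A' : Type u) [CommRing A'] [Algebra A A'],
      Module.Flat A' (A' ⊗[A] N) ↔ I.map (algebraMap A A') = ⊥ := by
  classical
  set J : Ideal A := Ring.jacobson A with hJ
  have hJnil : IsNilpotent J := IsSemiprimaryRing.isNilpotent
  have hJfg : J.FG := IsNoetherian.noetherian J
  haveI : IsSemisimpleRing (A ⧸ J) := IsSemiprimaryRing.isSemisimpleRing
  haveI : Module.Projective (A ⧸ J) (N ⧸ (J • ⊤ : Submodule A N)) :=
    Module.projective_of_isSemisimpleRing _ _
  obtain ⟨β, φ, hinj, hsurj⟩ := exists_cover A J N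
  have hφsurj : Function.Surjective φ := surjective_of_nilpotent J φ hsurj hJnil
  let I : Ideal A := Ideal.span {a | ∃ k ∈ LinearMap.ker φ, ∃ b : β, k b = a}
  refine ⟨I, fun A' _ _ => ?_⟩
  have hretract : Module.Flat A' (A' ⊗[A] (N × (β →₀ A))) → Module.Flat A' (A' ⊗[A] N) := by
    intro h
    refine Module.Flat.of_retract ((LinearMap.inl A N (β →₀ A)).baseChange A')
      ((LinearMap.fst A N (β →₀ A)).baseChange A') ?_
    rw [← LinearMap.baseChange_comp, LinearMap.fst_comp_inl, LinearMap.baseChange_id]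
  constructor
  · intro hflat
    haveI : Module.Flat A' (A' ⊗[A] (N × (β →₀ A))) := by
      haveI : Module.Flat A' ((A' ⊗[A] N) × (A' ⊗[A] (β →₀ A))) := flat_prod _ _
      exact Module.Flat.of_linearEquiv (TensorProduct.prodRight A A' A' N (β →₀ A))
    have hfg' : (J.map (algebraMap A A')).FG := hJfg.map _
    have hnil' : IsNilpotent (J.map (algebraMap A A')) := by
      obtain ⟨n, hn⟩ := hJnil
      refine ⟨n, ?_⟩
      rw [← Ideal.map_pow, hn, Ideal.zero_eq_bot, Ideal.map_bot]
      rfl
    have hinj' := injective_of_nilpotent (J.map (algebraMap A A')) (φ.baseChange A')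
      (baseChange_hinj J A' φ hinj hsurj) (baseChange_hsurj J A' φ hinj hsurj) hfg' hnil'
    rw [Ideal.map_span, Ideal.span_eq_bot]
    rintro _ ⟨a, ⟨k, hk, b, rfl⟩, rfl⟩
    have h1 : φ.baseChange A' ((1 : A') ⊗ₜ[A] k) = 0 := by
      rw [LinearMap.baseChange_tmul, LinearMap.mem_ker.mp hk, TensorProduct.tmul_zero]
    have h2 := hinj' (h1.trans (map_zero _).symm)
    exact (one_tmul_eq_zero_iff A' k).mp h2 b
  · intro hI
    have hzero : ∀ k ∈ LinearMap.ker φ, ((1 : A') ⊗ₜ[A] k : A' ⊗[A] (β →₀ A)) = 0 := by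
      intro k hk
      rw [one_tmul_eq_zero_iff]
      intro b
      have h1 : algebraMap A A' (k b) ∈ I.map (algebraMap A A') :=
        Ideal.mem_map_of_mem _ (Ideal.subset_span ⟨k, hk, b, rfl⟩)
      rw [hI] at h1
      exact (Submodule.mem_bot _).mp h1
    have hinj' : Function.Injective (φ.baseChange A') :=
      baseChange_injective_of_ker A' φ hφsurj hzero
    have hsurj' : Function.Surjective (φ.baseChange A') :=
      LinearMap.lTensor_surjective A' hφsurj
    let e : (A' ⊗[A] (β →₀ A)) ≃ₗ[A'] (A' ⊗[A] (N × (β →₀ A))) :=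
      LinearEquiv.ofBijective (φ.baseChange A') ⟨hinj', hsurj'⟩
    exact hretract (Module.Flat.of_linearEquiv e.symm)

end Groth.Agent.Helper8.ArtFlat
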