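import Mathlib
import Groth.Agent.Lib.Helper7.ArtinFun.Core

/-!
# Functors commuting with filtered colimits and the approximation property (ideal-adic version)
-/

set_option autoImplicit false
universe u

namespace Groth.Agent.Helper8.ArtFunB

open CategoryTheory CategoryTheory.Limits Groth.Agent.Helper7.FPColim Groth.Agent.Helper7.ArtinFun

variable (A : Type u) [CommRing A] (I : Ideal A)

/-- The structure morphism from the initial object to a finitely presented piece. -/
noncomputable def uJ {B : Type u} [CommRing B] [Algebra A B] (j : Idx A B) :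
    Under.mk (𝟙 (CommRingCat.of A)) ⟶ objJ j :=
  Under.homMk (U := Under.mk (𝟙 (CommRingCat.of A))) (V := objJ j)
    (CommRingCat.ofHom (algebraMap A (C j))) (by
      apply CommRingCat.hom_ext
      ext a
      rfl)

theorem right_eq_of_initial {X : Under (CommRingCat.of A)}
    (f : Under.mk (𝟙 (CommRingCat.of A)) ⟶ X) : f.right = X.hom := by
  have := Under.w f
  simpa using this

theorem hom_ext_of_initial {X : Under (CommRingCat.of A)}
    (f g : Under.mk (𝟙 (CommRingCat.of A)) ⟶ X) : f = g := by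
  apply Under.UnderMorphism.ext
  rw [right_eq_of_initial, right_eq_of_initial]

/-- A retraction of a piece onto the base. -/
noncomputable def sU {B : Type u} [CommRing B] [Algebra A B] (j : Idx A B) (g : C j →ₐ[A] A) :
    objJ j ⟶ Under.mk (𝟙 (CommRingCat.of A)) :=
  Under.homMk (U := objJ j) (V := Under.mk (𝟙 (CommRingCat.of A)))
    (CommRingCat.ofHom g.toRingHom) (by
      apply CommRingCat.hom_ext
      ext a
      exact g.commutes a)

variable {A I}

theorem under_injective
    (hAP : ∀ (k l : ℕ) (f : Fin l → MvPolynomial (Fin k) A) (â : Fin k → AdicCompletion I A),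
      (∀ i, MvPolynomial.aeval â (f i) = 0) →
      ∃ a : Fin k → A, (∀ i, MvPolynomial.eval a (f i) = 0) ∧
        ∀ j, algebraMap A (A ⧸ I) (a j) = AdicCompletion.evalOneₐ I (â j))
    (G : Under (CommRingCat.of A) ⥤ Type u)
    (hG : ∀ (J : Type u) [SmallCategory J] [IsFiltered J], PreservesColimitsOfShape J G)
    (ιU : Under.mk (𝟙 (CommRingCat.of A)) ⟶ objB A (AdicCompletion I A)) :
    Function.Injective (G.map ιU) := by
  intro x₁ x₂ hx
  have hQ : GoodFamily (Valid (A := A) (B := AdicCompletion I A)) := goodFamily_valid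
  obtain ⟨hc⟩ := isColimit_cocone Valid hQ
  haveI := isFiltered_idx Valid hQ
  haveI := hG {j : Idx A (AdicCompletion I A) // Valid j}
  have hc' := isColimitOfPreserves G hc
  obtain ⟨j₀, hj₀⟩ := hQ.nonempty
  have h1 : ∀ j : {j : Idx A (AdicCompletion I A) // Valid j},
      uJ A j.1 ≫ toB j.1 j.2 = ιU := fun j => hom_ext_of_initial A _ _
  have h2 : (G.mapCocone (cocone Valid hQ)).ι.app ⟨j₀, hj₀⟩ (G.map (uJ A j₀) x₁) =
      (G.mapCocone (cocone Valid hQ)).ι.app ⟨j₀, hj₀⟩ (G.map (uJ A j₀) x₂) := by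
    change G.map (toB j₀ _) (G.map (uJ A j₀) x₁) = G.map (toB j₀ _) (G.map (uJ A j₀) x₂)
    rw [← Functor.map_comp_apply, ← Functor.map_comp_apply, h1 ⟨j₀, hj₀⟩]
    exact hx
  obtain ⟨k, f, hk⟩ := (Types.FilteredColimit.isColimit_eq_iff' hc' _ _).mp h2
  have h3 : G.map (uJ A k.1) x₁ = G.map (uJ A k.1) x₂ := by
    have hle : j₀ ≤ k.1 := leOfHom f
    have h4 : uJ A j₀ ≫ mapJ hle = uJ A k.1 := hom_ext_of_initial A _ _
    have h5 : G.map (mapJ hle) (G.map (uJ A j₀) x₁) =
        G.map (mapJ hle) (G.map (uJ A j₀) x₂) := hk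
    rw [← Functor.map_comp_apply, ← Functor.map_comp_apply, h4] at h5
    exact h5
  obtain ⟨g, -⟩ := exists_algHom_approx (AdicCompletion.evalOneₐ I) hAP k.1 k.2
  have h6 : uJ A k.1 ≫ sU A k.1 g = 𝟙 _ := hom_ext_of_initial A _ _
  have h7 := congrArg (G.map (sU A k.1 g)) h3
  rw [← Functor.map_comp_apply, ← Functor.map_comp_apply, h6] at h7
  simpa using h7

theorem under_lift
    (hAP : ∀ (k l : ℕ) (f : Fin l → MvPolynomial (Fin k) A) (â : Fin k → AdicCompletion I A),
      (∀ i, MvPolynomial.aeval â (f i) = 0) →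
      ∃ a : Fin k → A, (∀ i, MvPolynomial.eval a (f i) = 0) ∧
        ∀ j, algebraMap A (A ⧸ I) (a j) = AdicCompletion.evalOneₐ I (â j))
    (G : Under (CommRingCat.of A) ⥤ Type u)
    (hG : ∀ (J : Type u) [SmallCategory J] [IsFiltered J], PreservesColimitsOfShape J G)
    (πU : objB A (AdicCompletion I A) ⟶ Under.mk (CommRingCat.ofHom (algebraMap A (A ⧸ I))))
    (hπ : πU.right = CommRingCat.ofHom (AdicCompletion.evalOneₐ I).toRingHom)
    (ρU : Under.mk (𝟙 (CommRingCat.of A)) ⟶ Under.mk (CommRingCat.ofHom (algebraMap A (A ⧸ I))))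
    (y : G.obj (objB A (AdicCompletion I A))) :
    ∃ x : G.obj (Under.mk (𝟙 (CommRingCat.of A))), G.map ρU x = G.map πU y := by
  have hQ : GoodFamily (Valid (A := A) (B := AdicCompletion I A)) := goodFamily_valid
  obtain ⟨hc⟩ := isColimit_cocone Valid hQ
  haveI := isFiltered_idx Valid hQ
  haveI := hG {j : Idx A (AdicCompletion I A) // Valid j}
  have hc' := isColimitOfPreserves G hc
  obtain ⟨j, yj, hyj⟩ := Types.jointly_surjective_of_isColimit hc' y
  obtain ⟨g, hg⟩ := exists_algHom_approx (AdicCompletion.evalOneₐ I) hAP j.1 j.2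
  have hρ : ρU.right = CommRingCat.ofHom (algebraMap A (A ⧸ I)) := right_eq_of_initial A ρU
  have hcomm : sU A j.1 g ≫ ρU = toB j.1 j.2 ≫ πU := by
    apply Under.UnderMorphism.ext
    apply CommRingCat.hom_ext
    apply RingHom.ext
    intro x
    change ρU.right (g x) = πU.right (Groth.Agent.Helper7.FPColim.π j.1 j.2 x)
    rw [hρ, hπ]
    exact hg x
  have hyj' : G.map (toB j.1 j.2) yj = y := hyj
  refine ⟨G.map (sU A j.1 g) yj, ?_⟩
  rw [← Functor.map_comp_apply, hcomm, Functor.map_comp_apply, hyj']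

end Groth.Agent.Helper8.ArtFunB
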