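import Mathlib
import Groth.Agent.Lib.Helper8.ArtFunB1

/-!
# Functors on `CommAlgCat` commuting with filtered colimits and the approximation property
-/

set_option autoImplicit false
universe u

namespace Groth.Agent.Helper8.ArtFunB

open CategoryTheory CategoryTheory.Limits Groth.Agent.Helper7.FPColim

variable {A : Type u} [CommRing A] {I : Ideal A}

set_option maxHeartbeats 1600000 in
theorem commAlgCat_main
    (hAP : ∀ (k l : ℕ) (f : Fin l → MvPolynomial (Fin k) A) (â : Fin k → AdicCompletion I A),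
      (∀ i, MvPolynomial.aeval â (f i) = 0) →
      ∃ a : Fin k → A, (∀ i, MvPolynomial.eval a (f i) = 0) ∧
        ∀ j, algebraMap A (A ⧸ I) (a j) = AdicCompletion.evalOneₐ I (â j))
    (F : CommAlgCat.{u} A ⥤ Type u) [PreservesFilteredColimitsOfSize.{u, u} F] :
    Function.Injective (F.map (CommAlgCat.ofHom (Algebra.ofId A (AdicCompletion I A)))) ∧
    ∀ xbar : F.obj (CommAlgCat.of A (A ⧸ I)),
      (∃ x : F.obj (CommAlgCat.of A A), F.map (CommAlgCat.ofHom (Ideal.Quotient.mkₐ A I)) x = xbar) ↔
      (∃ y : F.obj (CommAlgCat.of A (AdicCompletion I A)),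
        F.map (CommAlgCat.ofHom (AdicCompletion.evalOneₐ I)) y = xbar) := by
  let e : CommAlgCat.{u} A ≌ Under (CommRingCat.of A) := commAlgCatEquivUnder (CommRingCat.of A)
  let G : Under (CommRingCat.of A) ⥤ Type u := e.inverse ⋙ F
  have hG : ∀ (J : Type u) [SmallCategory J] [IsFiltered J], PreservesColimitsOfShape J G := by
    intro J _ _
    haveI : PreservesColimitsOfShape J F := PreservesFilteredColimitsOfSize.preserves_filtered_colimits J
    infer_instance
  let η : F ≅ e.functor ⋙ G :=
    (Functor.leftUnitor F).symm ≪≫ Functor.isoWhiskerRight e.unitIso F ≪≫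
      Functor.associator e.functor e.inverse F
  have hnat : ∀ {X Y : CommAlgCat.{u} A} (φ : X ⟶ Y) (x : F.obj X),
      η.hom.app Y (F.map φ x) = G.map (e.functor.map φ) (η.hom.app X x) := by
    intro X Y φ x
    exact FunctorToTypes.naturality η.hom φ x
  have hinj : ∀ X : CommAlgCat.{u} A, Function.Injective (η.hom.app X) := by
    intro X x y hxy
    have := congrArg (η.inv.app X) hxy
    simpa using this
  have hsurj : ∀ X : CommAlgCat.{u} A, Function.Surjective (η.hom.app X) := by
    intro X y
    exact ⟨η.inv.app X y, by simp⟩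
  refine ⟨?_, fun xbar => ⟨?_, ?_⟩⟩
  · intro x₁ x₂ hx
    apply hinj
    have h1 := congrArg (η.hom.app _) hx
    rw [hnat, hnat] at h1
    exact under_injective hAP G hG
      (e.functor.map (CommAlgCat.ofHom (Algebra.ofId A (AdicCompletion I A)))) h1
  · rintro ⟨x, rfl⟩
    refine ⟨F.map (CommAlgCat.ofHom (Algebra.ofId A (AdicCompletion I A))) x, ?_⟩
    rw [← Functor.map_comp_apply]
    congr 2
  · rintro ⟨y, rfl⟩
    obtain ⟨x', hx'⟩ := under_lift hAP G hG
      (e.functor.map (CommAlgCat.ofHom (AdicCompletion.evalOneₐ I))) rfl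
      (e.functor.map (CommAlgCat.ofHom (Ideal.Quotient.mkₐ A I)))
      (η.hom.app _ y)
    obtain ⟨x, rfl⟩ := hsurj (CommAlgCat.of A A) x'
    refine ⟨x, ?_⟩
    apply hinj
    rw [hnat, hnat]
    exact hx'

end Groth.Agent.Helper8.ArtFunB
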