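import Mathlib

/-!
# A Lipschitz-type estimate for homogeneous functions on `ℚ^r`

Support for the "formal extension" estimate: from one-coordinate integer-step estimates to a
global estimate, by rescaling and walking along the coordinate axes.
-/

namespace Groth.Agent.Helper8.AsympEst

open Finset

/-- the gauge `Σ_{q=1}^n M^(n-q) B^q` -/
noncomputable def g (n : ℕ) (M B : ℝ) : ℝ := (Finset.Icc 1 n).sum fun q => M ^ (n - q) * B ^ q

lemma g_nonneg (n : ℕ) {M B : ℝ} (hM : 0 ≤ M) (hB : 0 ≤ B) : 0 ≤ g n M B :=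
  Finset.sum_nonneg fun q _ => mul_nonneg (pow_nonneg hM _) (pow_nonneg hB _)

lemma g_mono (n : ℕ) {M M' B B' : ℝ} (hM : 0 ≤ M) (hMM : M ≤ M') (hB : 0 ≤ B) (hBB : B ≤ B') :
    g n M B ≤ g n M' B' :=
  Finset.sum_le_sum fun q _ => mul_le_mul (pow_le_pow_left₀ hM hMM _) (pow_le_pow_left₀ hB hBB _)
    (pow_nonneg hB _) (pow_nonneg (hM.trans hMM) _)

lemma g_scale (n : ℕ) (D M B : ℝ) : g n (D * M) (D * B) = D ^ n * g n M B := by
  unfold g
  rw [Finset.mul_sum]
  refine Finset.sum_congr rfl fun q hq => ?_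
  have hq' : q ≤ n := (Finset.mem_Icc.mp hq).2
  rw [mul_pow, mul_pow]
  have : D ^ n = D ^ (n - q) * D ^ q := by rw [← pow_add, Nat.sub_add_cancel hq']
  rw [this]; ring

/-- sup norm of a rational vector -/
noncomputable def N {r : ℕ} (v : Fin r → ℚ) : ℝ := ‖(fun j => ((v j : ℚ) : ℝ))‖

lemma N_nonneg {r : ℕ} (v : Fin r → ℚ) : 0 ≤ N v := norm_nonneg _

lemma abs_le_N {r : ℕ} (v : Fin r → ℚ) (j : Fin r) : |((v j : ℚ) : ℝ)| ≤ N v := by
  have := norm_le_pi_norm (fun j => ((v j : ℚ) : ℝ)) j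
  rw [Real.norm_eq_abs] at this
  exact this

lemma N_le_of {r : ℕ} (v : Fin r → ℚ) {c : ℝ} (hc : 0 ≤ c) (h : ∀ j, |((v j : ℚ) : ℝ)| ≤ c) :
    N v ≤ c := by
  unfold N
  rw [pi_norm_le_iff_of_nonneg hc]
  intro j
  rw [Real.norm_eq_abs]
  exact h j

lemma N_smul {r : ℕ} (D : ℚ) (hD : 0 ≤ D) (v : Fin r → ℚ) : N (D • v) = (D : ℝ) * N v := by
  unfold N
  have : (fun j => (((D • v) j : ℚ) : ℝ)) = (D : ℝ) • (fun j => ((v j : ℚ) : ℝ)) := by
    funext j
    simp
  rw [this, norm_smul, Real.norm_eq_abs, abs_of_nonneg (by exact_mod_cast hD)]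

lemma step_pos {r n : ℕ} (f : (Fin r → ℚ) → ℝ)
    (hhom : ∀ (q : ℚ) (v : Fin r → ℚ), 0 < q → f (q • v) = (q : ℝ) ^ n * f v)
    (i : Fin r) (Ci : ℝ) (hdir : ∀ (v : Fin r → ℚ) (b : ℕ), 1 ≤ b →
      |f (v - (b : ℚ) • Pi.single i 1) - f v| ≤ Ci * g n (N v) b)
    (v : Fin r → ℚ) (t : ℚ) (ht : 0 < t) :
    |f (v - t • Pi.single i 1) - f v| ≤ |Ci| * g n (N v) t := by
  set D : ℕ := t.den with hDdef
  set b : ℕ := t.num.toNat with hbdef
  have hD : 0 < D := t.den_pos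
  have hDq : (0 : ℚ) < (D : ℚ) := by exact_mod_cast hD
  have hnum : 0 < t.num := Rat.num_pos.mpr ht
  have hbZ : ((b : ℕ) : ℤ) = t.num := Int.toNat_of_nonneg hnum.le
  have hb1 : 1 ≤ b := by
    have : (0 : ℤ) < (b : ℤ) := by rw [hbZ]; exact hnum
    exact_mod_cast this
  have hb : (b : ℚ) = (D : ℚ) * t := by
    have h1 : ((b : ℤ) : ℚ) = (t.num : ℚ) := by rw [hbZ]
    have h2 : t * (t.den : ℚ) = (t.num : ℚ) := Rat.mul_den_eq_num t
    rw [mul_comm, h2, ← h1]
    simp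
  have e1 : (D : ℚ) • (v - t • (Pi.single i 1 : Fin r → ℚ)) =
      (D : ℚ) • v - (b : ℚ) • (Pi.single i 1 : Fin r → ℚ) := by
    rw [smul_sub, smul_smul, hb]
  have h1 := hhom D (v - t • (Pi.single i 1 : Fin r → ℚ)) hDq
  have h2 := hhom D v hDq
  have h3 := hdir ((D : ℚ) • v) b hb1
  rw [← e1, h1, h2, N_smul _ hDq.le] at h3
  have hbR : (b : ℝ) = ((D : ℚ) : ℝ) * (t : ℝ) := by
    have : ((b : ℚ) : ℝ) = (((D : ℚ) * t : ℚ) : ℝ) := by rw [hb]
    push_cast at this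
    push_cast
    exact this
  rw [hbR, g_scale, ← mul_sub, abs_mul] at h3
  have hDn : (0 : ℝ) < ((D : ℚ) : ℝ) ^ n := by
    apply pow_pos
    exact_mod_cast hDq
  rw [abs_of_pos hDn] at h3
  have hg : 0 ≤ g n (N v) t := g_nonneg n (N_nonneg v) (by exact_mod_cast ht.le)
  have h4 : Ci * (((D : ℚ) : ℝ) ^ n * g n (N v) t) ≤ ((D : ℚ) : ℝ) ^ n * (|Ci| * g n (N v) t) := by
    have : Ci * g n (N v) t ≤ |Ci| * g n (N v) t := mul_le_mul_of_nonneg_right (le_abs_self _) hg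
    calc Ci * (((D : ℚ) : ℝ) ^ n * g n (N v) t) = ((D : ℚ) : ℝ) ^ n * (Ci * g n (N v) t) := by ring
      _ ≤ _ := mul_le_mul_of_nonneg_left this hDn.le
  exact le_of_mul_le_mul_left (h3.trans h4) hDn

lemma step_any {r n : ℕ} (f : (Fin r → ℚ) → ℝ)
    (hhom : ∀ (q : ℚ) (v : Fin r → ℚ), 0 < q → f (q • v) = (q : ℝ) ^ n * f v)
    (i : Fin r) (Ci : ℝ) (hdir : ∀ (v : Fin r → ℚ) (b : ℕ), 1 ≤ b →
      |f (v - (b : ℚ) • Pi.single i 1) - f v| ≤ Ci * g n (N v) b)
    (v : Fin r → ℚ) (t : ℚ) :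
    |f (v - t • Pi.single i 1) - f v| ≤
      |Ci| * g n (max (N v) (N (v - t • Pi.single i 1))) |(t : ℝ)| := by
  rcases lt_trichotomy t 0 with ht | ht | ht
  · have h := step_pos f hhom i Ci hdir (v - t • Pi.single i 1) (-t) (by linarith)
    have e : v - t • (Pi.single i 1 : Fin r → ℚ) - (-t) • (Pi.single i 1 : Fin r → ℚ) = v := by
      rw [neg_smul, sub_neg_eq_add, sub_add_cancel]
    rw [e, abs_sub_comm] at h
    refine h.trans (mul_le_mul_of_nonneg_left ?_ (abs_nonneg _))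
    refine g_mono n (N_nonneg _) (le_max_right _ _) ?_ ?_
    · push_cast
      have : ((t : ℚ) : ℝ) < 0 := by exact_mod_cast ht
      linarith
    · push_cast
      exact neg_le_abs _
  · subst ht
    simp only [zero_smul, sub_zero, sub_self, abs_zero, Rat.cast_zero]
    exact mul_nonneg (abs_nonneg _) (g_nonneg n (le_max_of_le_left (N_nonneg _)) le_rfl)
  · have h := step_pos f hhom i Ci hdir v t ht
    refine h.trans (mul_le_mul_of_nonneg_left ?_ (abs_nonneg _))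
    refine g_mono n (N_nonneg _) (le_max_left _ _) ?_ (le_abs_self _)
    exact_mod_cast ht.le

/-- the coordinate path from `v` to `w` -/
def P {r : ℕ} (v w : Fin r → ℚ) (k : ℕ) : Fin r → ℚ := fun j => if (j : ℕ) < k then w j else v j

lemma P_zero {r : ℕ} (v w : Fin r → ℚ) : P v w 0 = v := by
  funext j; simp [P]

lemma P_top {r : ℕ} (v w : Fin r → ℚ) : P v w r = w := by
  funext j; simp [P]

lemma P_succ {r : ℕ} (v w : Fin r → ℚ) (k : Fin r) :
    P v w ((k : ℕ) + 1) = P v w k - (v k - w k) • (Pi.single k 1 : Fin r → ℚ) := by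
  funext j
  simp only [P, Pi.sub_apply, Pi.smul_apply, smul_eq_mul]
  by_cases hjk : j = k
  · subst hjk
    simp
  · have hne : (j : ℕ) ≠ (k : ℕ) := fun h => hjk (Fin.ext h)
    rw [Pi.single_eq_of_ne hjk]
    by_cases hlt : (j : ℕ) < k
    · have : (j : ℕ) < (k : ℕ) + 1 := by omega
      simp [hlt, this]
    · have : ¬ (j : ℕ) < (k : ℕ) + 1 := by omega
      simp [hlt, this]

lemma N_P_le {r : ℕ} (v w : Fin r → ℚ) (k : ℕ) : N (P v w k) ≤ max (N v) (N w) := by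
  refine N_le_of _ (le_max_of_le_left (N_nonneg _)) fun j => ?_
  unfold P
  by_cases h : (j : ℕ) < k
  · simp only [h, if_true]
    exact (abs_le_N w j).trans (le_max_right _ _)
  · simp only [h, if_false]
    exact (abs_le_N v j).trans (le_max_left _ _)

theorem main {r n : ℕ} (f : (Fin r → ℚ) → ℝ)
    (hhom : ∀ (q : ℚ) (v : Fin r → ℚ), 0 < q → f (q • v) = (q : ℝ) ^ n * f v)
    (hdir : ∀ i : Fin r, ∃ Ci : ℝ, ∀ (v : Fin r → ℚ) (b : ℕ), 1 ≤ b →
      |f (v - (b : ℚ) • Pi.single i 1) - f v| ≤ Ci * g n (N v) b) :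
    ∃ C : ℝ, 0 < C ∧ ∀ v w : Fin r → ℚ,
      |f v - f w| ≤ C * g n (max (N v) (N w)) (N (fun j => v j - w j)) := by
  choose Cs hCs using hdir
  set Cmax : ℝ := ∑ i, |Cs i| with hCmax
  have hCmax0 : 0 ≤ Cmax := Finset.sum_nonneg fun i _ => abs_nonneg _
  have hCle : ∀ i, |Cs i| ≤ Cmax := fun i =>
    Finset.single_le_sum (f := fun i => |Cs i|) (fun i _ => abs_nonneg _) (Finset.mem_univ i)
  refine ⟨r * Cmax + 1, by positivity, ?_⟩
  intro v w
  set M := max (N v) (N w) with hM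
  set B := N (fun j => v j - w j) with hB
  have hM0 : 0 ≤ M := le_max_of_le_left (N_nonneg _)
  have hB0 : 0 ≤ B := N_nonneg _
  have hg0 : 0 ≤ g n M B := g_nonneg n hM0 hB0
  have key : ∀ k : ℕ, k ≤ r → |f v - f (P v w k)| ≤ k * (Cmax * g n M B) := by
    intro k
    induction k with
    | zero =>
      intro _
      simp [P_zero]
    | succ k ih =>
      intro hk
      have hk' : k < r := hk
      have ih' := ih hk'.le
      have hstep := step_any f hhom ⟨k, hk'⟩ (Cs ⟨k, hk'⟩) (hCs ⟨k, hk'⟩) (P v w k)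
        (v ⟨k, hk'⟩ - w ⟨k, hk'⟩)
      have hsucc := P_succ v w ⟨k, hk'⟩
      simp only at hsucc
      rw [← hsucc] at hstep
      have hstep' : |f (P v w (k + 1)) - f (P v w k)| ≤ Cmax * g n M B := by
        refine hstep.trans (mul_le_mul (hCle _) ?_ (g_nonneg n (le_max_of_le_left (N_nonneg _))
          (abs_nonneg _)) hCmax0)
        refine g_mono n (le_max_of_le_left (N_nonneg _)) (max_le (N_P_le v w k) (N_P_le v w (k+1)))
          (abs_nonneg _) ?_
        exact abs_le_N (fun j => v j - w j) ⟨k, hk'⟩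
      have : f v - f (P v w (k + 1)) = (f v - f (P v w k)) - (f (P v w (k + 1)) - f (P v w k)) := by
        ring
      rw [this]
      calc |f v - f (P v w k) - (f (P v w (k + 1)) - f (P v w k))|
          ≤ |f v - f (P v w k)| + |f (P v w (k + 1)) - f (P v w k)| := abs_sub _ _
        _ ≤ k * (Cmax * g n M B) + Cmax * g n M B := add_le_add ih' hstep'
        _ = ((k + 1 : ℕ) : ℝ) * (Cmax * g n M B) := by push_cast; ring
  have h := key r le_rfl
  rw [P_top] at h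
  refine h.trans ?_
  have : (r : ℝ) * (Cmax * g n M B) = (r * Cmax) * g n M B := by ring
  rw [this]
  exact mul_le_mul_of_nonneg_right (by linarith) hg0

end Groth.Agent.Helper8.AsympEst
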