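import Mathlib.RingTheory.Ideal.Operations
import Mathlib.RingTheory.Ideal.Quotient.Basic

/-! Prime avoidance for cosets (seat helper8). -/

set_option autoImplicit false

namespace Groth.Agent.Helper8

/-- Coset version of prime avoidance: if `I` is contained in none of the finitely many primes
`p ∈ s`, every coset `f₀ + I` contains an element outside all of them. -/
theorem exists_add_mem_notMem_primes {A : Type*} [CommRing A] (I : Ideal A)
    (s : Finset (Ideal A)) (hs : ∀ p ∈ s, p.IsPrime) (hI : ∀ p ∈ s, ¬ I ≤ p) (f₀ : A) :
    ∃ x ∈ I, ∀ p ∈ s, f₀ + x ∉ p := by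
  classical
  induction s using Finset.induction_on with
  | empty => exact ⟨0, I.zero_mem, fun p hp => absurd hp (Finset.notMem_empty p)⟩
  | insert p t hpt ih =>
    have hp : p.IsPrime := hs p (Finset.mem_insert_self p t)
    obtain ⟨x, hxI, hx⟩ := ih (fun q hq => hs q (Finset.mem_insert_of_mem hq))
      (fun q hq => hI q (Finset.mem_insert_of_mem hq))
    by_cases hfp : f₀ + x ∈ p
    · -- correct by an element of I and of the primes of t not below p, outside p
      set t' := t.filter (fun q => ¬ q ≤ p) with ht'
      have hJ : ¬ I * t'.prod (fun q : Ideal A => q) ≤ p := by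
        rw [hp.mul_le]
        rintro (h | h)
        · exact hI p (Finset.mem_insert_self p t) h
        · obtain ⟨q, hq, hqp⟩ := (Ideal.IsPrime.prod_le (s := t') (f := fun q : Ideal A => q) hp).mp h
          exact (Finset.mem_filter.mp hq).2 hqp
      obtain ⟨y, hyJ, hyp⟩ := SetLike.not_le_iff_exists.mp hJ
      have hyI : y ∈ I := Ideal.mul_le_left hyJ
      have hyq : ∀ q ∈ t', y ∈ q := by
        intro q hq
        have h1 : y ∈ t'.prod (fun q : Ideal A => q) := Ideal.mul_le_right hyJ
        exact ((Ideal.prod_le_inf (s := t') (f := fun q : Ideal A => q)).trans (Finset.inf_le hq)) h1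
      refine ⟨x + y, I.add_mem hxI hyI, ?_⟩
      have hnp : f₀ + (x + y) ∉ p := by
        intro h
        apply hyp
        have : y = (f₀ + (x + y)) - (f₀ + x) := by ring
        rw [this]
        exact p.sub_mem h hfp
      intro q hq
      rcases Finset.mem_insert.mp hq with rfl | hqt
      · exact hnp
      · by_cases hqp : q ≤ p
        · exact fun h => hnp (hqp h)
        · have hq' : q ∈ t' := Finset.mem_filter.mpr ⟨hqt, hqp⟩
          intro h
          apply hx q hqt
          have : f₀ + x = (f₀ + (x + y)) - y := by ring
          rw [this]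
          exact q.sub_mem h (hyq q hq')
    · refine ⟨x, hxI, ?_⟩
      intro q hq
      rcases Finset.mem_insert.mp hq with rfl | hqt
      · exact hfp
      · exact hx q hqt

end Groth.Agent.Helper8
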