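import Mathlib

/-!
# Ax's theorem, part 1: digit sums, cyclic reductions and the multinomial valuation.
-/

namespace Groth.Agent.Helper8.Ax1

open Finset

/-- base-`p` digit sum -/
def dsum (p n : ℕ) : ℕ := (Nat.digits p n).sum

lemma dsum_zero (p : ℕ) : dsum p 0 = 0 := by simp [dsum]

lemma dsum_rec {p : ℕ} (hp : 2 ≤ p) (n : ℕ) : dsum p n = n % p + dsum p (n / p) := by
  rcases Nat.eq_zero_or_pos n with rfl | hn
  · simp [dsum]
  · unfold dsum
    rw [Nat.digits_def' (by omega) hn, List.sum_cons]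

lemma dsum_mul {p : ℕ} (hp : 2 ≤ p) (n : ℕ) : dsum p (p * n) = dsum p n := by
  rw [dsum_rec hp (p * n), Nat.mul_mod_right, Nat.mul_div_cancel_left n (by omega), zero_add]

lemma dsum_pow_mul {p : ℕ} (hp : 2 ≤ p) (E n : ℕ) : dsum p (p ^ E * n) = dsum p n := by
  induction E with
  | zero => simp
  | succ E ih => rw [pow_succ', mul_assoc, dsum_mul hp, ih]

lemma dsum_pow_sub_one {p : ℕ} (hp : 2 ≤ p) (r : ℕ) : dsum p (p ^ r - 1) = r * (p - 1) := by
  induction r with
  | zero => simp [dsum_zero]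
  | succ r ih =>
    obtain ⟨m, hm⟩ : ∃ m, p ^ r = m + 1 :=
      ⟨p ^ r - 1, by have := Nat.one_le_pow r p (by omega); omega⟩
    have h : p ^ (r + 1) - 1 = (p - 1) + p * (p ^ r - 1) := by
      rw [pow_succ', hm, Nat.add_sub_cancel, Nat.mul_add, mul_one]; omega
    rw [h, dsum_rec hp, Nat.add_mul_mod_self_left, Nat.mod_eq_of_lt (by omega),
      Nat.add_mul_div_left _ _ (by omega), Nat.div_eq_of_lt (by omega), zero_add, ih]
    ring

lemma legendre {p : ℕ} [hp : Fact p.Prime] (n : ℕ) :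
    (p - 1) * padicValNat p (n.factorial) + dsum p n = n := by
  have h1 := sub_one_mul_padicValNat_factorial (p := p) n
  have h2 := Nat.digit_sum_le p n
  unfold dsum
  omega

lemma choose_val {p : ℕ} [hp : Fact p.Prime] (a b : ℕ) :
    (p - 1) * padicValNat p ((a + b).choose a) + dsum p (a + b) = dsum p a + dsum p b := by
  have hne1 : (a + b).choose a ≠ 0 := (Nat.choose_pos (Nat.le_add_right a b)).ne'
  have hspec : (a + b).choose a * b.factorial * a.factorial = (a + b).factorial := by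
    have := Nat.add_choose_mul_factorial_mul_factorial b a
    rwa [Nat.add_comm b a] at this
  have hv : padicValNat p ((a + b).factorial) = padicValNat p ((a + b).choose a)
      + padicValNat p b.factorial + padicValNat p a.factorial := by
    rw [← hspec, padicValNat.mul (mul_ne_zero hne1 (Nat.factorial_ne_zero b))
      (Nat.factorial_ne_zero a), padicValNat.mul hne1 (Nat.factorial_ne_zero b)]
  have l1 := legendre (p := p) (a + b)
  have l2 := legendre (p := p) a
  have l3 := legendre (p := p) b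
  rw [hv, Nat.mul_add, Nat.mul_add] at l1
  omega

lemma multinomial_val {p : ℕ} [hp : Fact p.Prime] {α : Type*} [DecidableEq α]
    (s : Finset α) (f : α → ℕ) :
    ∃ v, p ^ v ∣ Nat.multinomial s f ∧
      (p - 1) * v + dsum p (∑ i ∈ s, f i) = ∑ i ∈ s, dsum p (f i) := by
  induction s using Finset.induction_on with
  | empty => exact ⟨0, by simp, by simp [dsum_zero]⟩
  | insert a s ha ih =>
    obtain ⟨v, hv1, hv2⟩ := ih
    refine ⟨padicValNat p ((f a + ∑ i ∈ s, f i).choose (f a)) + v, ?_, ?_⟩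
    · rw [Nat.multinomial_insert ha, pow_add]
      exact mul_dvd_mul pow_padicValNat_dvd hv1
    · rw [Finset.sum_insert ha, Finset.sum_insert ha]
      have := choose_val (p := p) (f a) (∑ i ∈ s, f i)
      rw [Nat.mul_add]
      omega

/-- the representative of `n` mod `Q` in `[0, Q]` that vanishes only at `n = 0`. -/
def red (Q n : ℕ) : ℕ := if n = 0 then 0 else (n - 1) % Q + 1

lemma red_zero (Q : ℕ) : red Q 0 = 0 := by simp [red]

lemma red_ne_zero {Q n : ℕ} (hn : n ≠ 0) : red Q n ≠ 0 := by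
  rw [red, if_neg hn]; omega

lemma red_modEq (Q n : ℕ) : red Q n ≡ n [MOD Q] := by
  rcases Nat.eq_zero_or_pos n with rfl | hn
  · rw [red_zero]
  · rw [red, if_neg (by omega)]
    have h := (Nat.mod_modEq (n - 1) Q).add_right 1
    have h2 : n - 1 + 1 = n := by omega
    rwa [h2] at h

lemma red_le_of_modEq {Q n m : ℕ} (h : m ≡ n [MOD Q]) (hm : m ≠ 0) : red Q n ≤ m := by
  rcases Nat.eq_zero_or_pos n with rfl | hn
  · rw [red_zero]; exact Nat.zero_le _
  · rw [red, if_neg (by omega)]
    have h1 : m - 1 + 1 ≡ n - 1 + 1 [MOD Q] := by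
      have e1 : m - 1 + 1 = m := by omega
      have e2 : n - 1 + 1 = n := by omega
      rw [e1, e2]; exact h
    have h2 : m - 1 ≡ n - 1 [MOD Q] := Nat.ModEq.add_right_cancel' 1 h1
    have h3 : (n - 1) % Q = (m - 1) % Q := h2.symm
    have h4 : (m - 1) % Q ≤ m - 1 := Nat.mod_le _ _
    omega

lemma red_add_le (Q a b : ℕ) : red Q (a + b) ≤ red Q a + red Q b := by
  by_cases hab : a + b = 0
  · rw [hab, red_zero]; exact Nat.zero_le _
  · apply red_le_of_modEq ((red_modEq Q a).add (red_modEq Q b))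
    by_cases ha : a = 0
    · have hb : b ≠ 0 := by omega
      have := red_ne_zero (Q := Q) hb
      omega
    · have := red_ne_zero (Q := Q) ha
      omega

lemma red_le_self (Q n : ℕ) : red Q n ≤ n := by
  rcases Nat.eq_zero_or_pos n with rfl | hn
  · rw [red_zero]
  · exact red_le_of_modEq rfl (by omega)

lemma red_mul_q (Q n : ℕ) : red Q ((Q + 1) * n) = red Q n := by
  rcases Nat.eq_zero_or_pos n with rfl | hn
  · simp
  · have h1 : (Q + 1) * n ≠ 0 := Nat.mul_ne_zero (by omega) (by omega)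
    rw [red, red, if_neg h1, if_neg (by omega)]
    have h2 : (Q + 1) * n - 1 = (n - 1) + Q * n := by
      rw [Nat.add_mul, one_mul]; omega
    rw [h2, Nat.add_mul_mod_self_left]

lemma red_decomp (Q m : ℕ) : ∃ t, m = red Q m + Q * t := by
  rcases Nat.eq_zero_or_pos m with rfl | hm
  · exact ⟨0, by simp [red]⟩
  · refine ⟨(m - 1) / Q, ?_⟩
    have := Nat.mod_add_div (m - 1) Q
    rw [red, if_neg (by omega)]
    omega

/-- sum of the `r` cyclic shifts -/
def G (p r Q n : ℕ) : ℕ := ∑ b ∈ range r, red Q (p ^ b * n)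

lemma geo_eq {p : ℕ} (hp : 1 ≤ p) (r : ℕ) : (p - 1) * ∑ b ∈ range r, p ^ b + 1 = p ^ r := by
  obtain ⟨m, rfl⟩ : ∃ m, p = m + 1 := ⟨p - 1, by omega⟩
  rw [Nat.add_sub_cancel]
  induction r with
  | zero => simp
  | succ r ih =>
    rw [Finset.sum_range_succ, Nat.mul_add, pow_succ]
    nlinarith [ih]

lemma G_le {p r Q : ℕ} (hp : 2 ≤ p) (hq : p ^ r = Q + 1)
    (hgeo : (p - 1) * ∑ b ∈ range r, p ^ b = Q) (n : ℕ) :
    (p - 1) * G p r Q n ≤ dsum p n * Q := by
  induction n using Nat.strong_induction_on with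
  | _ n ih =>
    rcases Nat.eq_zero_or_pos n with rfl | hn
    · simp [G, red]
    · have hlt : n / p < n := Nat.div_lt_self hn (by omega)
      have ih' := ih (n / p) hlt
      have hkey : G p r Q n ≤ (n % p) * ∑ b ∈ range r, p ^ b + G p r Q (n / p) := by
        have h1 : ∀ b ∈ range r, red Q (p ^ b * n)
            ≤ (n % p) * p ^ b + red Q (p ^ (b + 1) * (n / p)) := by
          intro b _
          have h0 := Nat.mod_add_div n p
          have hn' : p ^ b * n = p ^ b * (n % p) + p ^ (b + 1) * (n / p) := by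
            calc p ^ b * n = p ^ b * (n % p + p * (n / p)) := by rw [h0]
              _ = p ^ b * (n % p) + p ^ (b + 1) * (n / p) := by ring
          rw [hn']
          refine (red_add_le Q _ _).trans ?_
          exact Nat.add_le_add_right ((red_le_self Q _).trans (le_of_eq (mul_comm _ _))) _
        have h2 : ∑ b ∈ range r, red Q (p ^ (b + 1) * (n / p)) = G p r Q (n / p) := by
          have e1 := Finset.sum_range_succ (fun b => red Q (p ^ b * (n / p))) r
          have e2 := Finset.sum_range_succ' (fun b => red Q (p ^ b * (n / p))) r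
          have e3 : red Q (p ^ r * (n / p)) = red Q (p ^ 0 * (n / p)) := by
            rw [hq, red_mul_q, pow_zero, one_mul]
          unfold G
          beta_reduce at e1 e2
          omega
        calc G p r Q n = ∑ b ∈ range r, red Q (p ^ b * n) := rfl
          _ ≤ ∑ b ∈ range r, ((n % p) * p ^ b + red Q (p ^ (b + 1) * (n / p))) :=
            Finset.sum_le_sum h1
          _ = (n % p) * ∑ b ∈ range r, p ^ b + G p r Q (n / p) := by
            rw [Finset.sum_add_distrib, ← Finset.mul_sum, h2]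
      rw [dsum_rec hp n]
      calc (p - 1) * G p r Q n
          ≤ (p - 1) * ((n % p) * ∑ b ∈ range r, p ^ b + G p r Q (n / p)) :=
            Nat.mul_le_mul_left _ hkey
        _ = (n % p) * ((p - 1) * ∑ b ∈ range r, p ^ b) + (p - 1) * G p r Q (n / p) := by ring
        _ ≤ (n % p) * Q + dsum p (n / p) * Q := by rw [hgeo]; exact Nat.add_le_add_left ih' _
        _ = (n % p + dsum p (n / p)) * Q := by ring

theorem key {p r Q N d j E : ℕ} [hp : Fact p.Prime] (hq : p ^ r = Q + 1) (hd0 : 0 < d)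
    {ι : Type*} [DecidableEq ι] (σ : Finset ι) (w : ι → Fin N → ℕ) (κ : ι → ℕ)
    (hd : ∀ a ∈ σ, ∑ i, w a i ≤ d) (hj : j * d < N)
    (hsum : ∑ a ∈ σ, κ a = Q * p ^ E)
    (hdiv : ∀ i, Q ∣ ∑ a ∈ σ, κ a * w a i) :
    p ^ (r * j) ∣ Nat.multinomial σ κ *
      p ^ (r * (Finset.univ.filter (fun i : Fin N => ∑ a ∈ σ, κ a * w a i = 0)).card) := by
  have hp2 : 2 ≤ p := hp.out.two_le
  rcases Nat.eq_zero_or_pos r with rfl | hr
  · simp
  have hQ : 0 < Q := by
    have : p ^ 1 ≤ p ^ r := Nat.pow_le_pow_right (by omega) hr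
    rw [pow_one] at this; omega
  obtain ⟨v, hv1, hv2⟩ := multinomial_val (p := p) σ κ
  have hdsM : dsum p (Q * p ^ E) = r * (p - 1) := by
    rw [mul_comm, dsum_pow_mul hp2]
    have : Q = p ^ r - 1 := by omega
    rw [this, dsum_pow_sub_one hp2]
  rw [hsum, hdsM] at hv2
  obtain ⟨s, hs⟩ : ∃ s, s = (Finset.univ.filter
      (fun i : Fin N => ∑ a ∈ σ, κ a * w a i = 0)).card := ⟨_, rfl⟩
  rw [← hs]
  suffices hmain : r * j ≤ v + r * s by
    calc p ^ (r * j) ∣ p ^ (v + r * s) := pow_dvd_pow p hmain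
      _ = p ^ v * p ^ (r * s) := pow_add _ _ _
      _ ∣ Nat.multinomial σ κ * p ^ (r * s) := mul_dvd_mul_right hv1 _
  choose t ht using fun m => red_decomp Q m
  obtain ⟨K, hK⟩ : ∃ K : ℕ → ℕ, ∀ b, K b = ∑ a ∈ σ, red Q (p ^ b * κ a) :=
    ⟨_, fun _ => rfl⟩
  have hKdvd : ∀ b, Q ∣ K b := by
    intro b
    have h1 : p ^ b * (Q * p ^ E) = K b + Q * ∑ a ∈ σ, t (p ^ b * κ a) := by
      rw [← hsum, hK b, Finset.mul_sum, Finset.mul_sum, ← Finset.sum_add_distrib]
      exact Finset.sum_congr rfl fun a _ => ht (p ^ b * κ a)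
    have h2 : Q ∣ p ^ b * (Q * p ^ E) := Dvd.dvd.mul_left (dvd_mul_right Q _) _
    rw [h1] at h2
    exact (Nat.dvd_add_left (dvd_mul_right Q _)).1 h2
  have hU : ∀ b i, (∑ a ∈ σ, κ a * w a i ≠ 0) →
      Q ≤ ∑ a ∈ σ, red Q (p ^ b * κ a) * w a i := by
    intro b i hne
    have hdv : Q ∣ ∑ a ∈ σ, red Q (p ^ b * κ a) * w a i := by
      have h1 : p ^ b * ∑ a ∈ σ, κ a * w a i
          = ∑ a ∈ σ, red Q (p ^ b * κ a) * w a i
            + Q * ∑ a ∈ σ, t (p ^ b * κ a) * w a i := by
        rw [Finset.mul_sum, Finset.mul_sum, ← Finset.sum_add_distrib]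
        refine Finset.sum_congr rfl fun a _ => ?_
        have e := ht (p ^ b * κ a)
        calc p ^ b * (κ a * w a i) = (p ^ b * κ a) * w a i := by ring
          _ = (red Q (p ^ b * κ a) + Q * t (p ^ b * κ a)) * w a i := by rw [← e]
          _ = red Q (p ^ b * κ a) * w a i + Q * (t (p ^ b * κ a) * w a i) := by ring
      have h2 : Q ∣ p ^ b * ∑ a ∈ σ, κ a * w a i := Dvd.dvd.mul_left (hdiv i) _
      rw [h1] at h2
      exact (Nat.dvd_add_left (dvd_mul_right Q _)).1 h2
    have hpos : 0 < ∑ a ∈ σ, red Q (p ^ b * κ a) * w a i := by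
      obtain ⟨a, ha, hane⟩ := Finset.exists_ne_zero_of_sum_ne_zero hne
      have hκ : κ a ≠ 0 := fun h => hane (by rw [h, zero_mul])
      have hw : w a i ≠ 0 := fun h => hane (by rw [h, mul_zero])
      have hpb : p ^ b * κ a ≠ 0 := mul_ne_zero (pow_ne_zero _ (by omega)) hκ
      have hred : red Q (p ^ b * κ a) ≠ 0 := red_ne_zero hpb
      have hle := Finset.single_le_sum (f := fun a => red Q (p ^ b * κ a) * w a i)
        (fun _ _ => Nat.zero_le _) ha
      have : 0 < red Q (p ^ b * κ a) * w a i := Nat.pos_of_ne_zero (mul_ne_zero hred hw)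
      exact lt_of_lt_of_le this hle
    exact Nat.le_of_dvd hpos hdv
  have hnz : ∀ b, (N - s) * Q ≤ K b * d := by
    intro b
    have h1 : ∑ i : Fin N, ∑ a ∈ σ, red Q (p ^ b * κ a) * w a i ≤ K b * d := by
      rw [Finset.sum_comm, hK b, Finset.sum_mul]
      refine Finset.sum_le_sum fun a ha => ?_
      rw [← Finset.mul_sum]
      exact Nat.mul_le_mul_left _ (hd a ha)
    have h2 : ∑ i : Fin N, (if ∑ a ∈ σ, κ a * w a i = 0 then 0 else Q)
        ≤ ∑ i : Fin N, ∑ a ∈ σ, red Q (p ^ b * κ a) * w a i := by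
      refine Finset.sum_le_sum fun i _ => ?_
      split_ifs with h
      · exact Nat.zero_le _
      · exact hU b i h
    have h3 : ∑ i : Fin N, (if ∑ a ∈ σ, κ a * w a i = 0 then 0 else Q) = (N - s) * Q := by
      rw [Finset.sum_ite, Finset.sum_const_zero, zero_add, Finset.sum_const, smul_eq_mul]
      congr 1
      have := Finset.card_filter_add_card_filter_not (s := (Finset.univ : Finset (Fin N)))
        (fun i : Fin N => ∑ a ∈ σ, κ a * w a i = 0)
      rw [Finset.card_univ, Fintype.card_fin, ← hs] at this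
      omega
    calc (N - s) * Q = _ := h3.symm
      _ ≤ _ := h2
      _ ≤ _ := h1
  have hc : ∀ b, ∃ c, K b = Q * c ∧ j + 1 ≤ c + s := by
    intro b
    obtain ⟨c, hc⟩ := hKdvd b
    refine ⟨c, hc, ?_⟩
    by_contra hlt
    push_neg at hlt
    have h1 := hnz b
    rw [hc] at h1
    have h2 : N - s ≤ c * d := by
      have : (N - s) * Q ≤ (c * d) * Q := by
        calc (N - s) * Q ≤ Q * c * d := h1
          _ = (c * d) * Q := by ring
      exact Nat.le_of_mul_le_mul_right this hQ
    have h3 : (c + s) * d ≤ j * d := Nat.mul_le_mul_right d (by omega)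
    have h4 : s ≤ s * d := Nat.le_mul_of_pos_right s hd0
    rw [Nat.add_mul] at h3
    omega
  choose c hc1 hc2 using hc
  have hsumK : (p - 1) * ∑ b ∈ range r, K b ≤ ((p - 1) * v + r * (p - 1)) * Q := by
    have hgeo : (p - 1) * ∑ b ∈ range r, p ^ b = Q := by
      have := geo_eq (p := p) (by omega) r
      omega
    have h1 : ∑ b ∈ range r, K b = ∑ a ∈ σ, G p r Q (κ a) := by
      simp only [hK, G]
      exact Finset.sum_comm
    rw [h1, Finset.mul_sum, hv2, Finset.sum_mul]
    exact Finset.sum_le_sum fun a _ => G_le hp2 hq hgeo (κ a)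
  have hsumc : ∑ b ∈ range r, c b ≤ v + r := by
    have h1 : ∑ b ∈ range r, K b = Q * ∑ b ∈ range r, c b := by
      rw [Finset.mul_sum]; exact Finset.sum_congr rfl fun b _ => hc1 b
    rw [h1] at hsumK
    have hp1 : 0 < (p - 1) * Q := Nat.mul_pos (by omega) hQ
    have : ((p - 1) * Q) * ∑ b ∈ range r, c b ≤ ((p - 1) * Q) * (v + r) := by
      calc ((p - 1) * Q) * ∑ b ∈ range r, c b
          = (p - 1) * (Q * ∑ b ∈ range r, c b) := by ring
        _ ≤ ((p - 1) * v + r * (p - 1)) * Q := hsumK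
        _ = ((p - 1) * Q) * (v + r) := by ring
    exact Nat.le_of_mul_le_mul_left this hp1
  have hlow : r * (j + 1) ≤ ∑ b ∈ range r, c b + r * s := by
    have h1 : (range r).card • (j + 1) ≤ ∑ b ∈ range r, (c b + s) :=
      Finset.card_nsmul_le_sum _ _ _ fun b _ => hc2 b
    rw [Finset.sum_add_distrib, Finset.sum_const, Finset.card_range, smul_eq_mul,
      smul_eq_mul] at h1
    exact h1
  have : r * (j + 1) = r * j + r := by ring
  omega

end Groth.Agent.Helper8.Ax1
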