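import Mathlib
import Groth.Agent.Lib.Helper8.Ax1

/-!
# Ax's theorem, part 2: the abstract Teichmüller-lift argument.
-/

namespace Groth.Agent.Helper8.Ax2

open Finset Groth.Agent.Helper8.Ax1

variable {k : Type*} [Field k] [Fintype k] [DecidableEq k]
variable {O : Type*} [CommRing O] [IsDomain O]

lemma cast_dvd (p : ℕ) [Fact p.Prime] [CharP k p] (ρ : O →+* k) (hp0 : (p : O) ≠ 0) :
    ∀ (e n : ℕ), ((p : O)) ^ e ∣ (n : O) → p ^ e ∣ n := by
  intro e
  induction e with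
  | zero => intro n _; simp
  | succ e ih =>
    intro n h
    have h1 : (p : O) ∣ (n : O) := dvd_trans (dvd_pow_self _ (Nat.succ_ne_zero e)) h
    have h2 : ρ (n : O) = 0 := by
      obtain ⟨z, hz⟩ := h1
      rw [hz, map_mul, map_natCast, CharP.cast_eq_zero k p, zero_mul]
    rw [map_natCast] at h2
    have h3 : p ∣ n := (CharP.cast_eq_zero_iff k p n).1 h2
    obtain ⟨m, rfl⟩ := h3
    rw [pow_succ', Nat.cast_mul] at h
    have h4 : (p : O) ^ e ∣ (m : O) := (mul_dvd_mul_iff_left hp0).1 h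
    rw [pow_succ']
    exact Nat.mul_dvd_mul_left p (ih m h4)

lemma S_eq_zero (τ : k →* O) (ρ : O →+* k) (hρτ : ∀ x, ρ (τ x) = x) (e : ℕ)
    (he : ¬ (Fintype.card k - 1) ∣ e) : ∑ t : k, τ t ^ e = 0 := by
  have h1 : ¬ ∀ x : kˣ, x ^ e = 1 := fun h => he ((FiniteField.forall_pow_eq_one_iff k e).1 h)
  rw [not_forall] at h1
  obtain ⟨x, hx⟩ := h1
  have hc : τ ((x : k)) ^ e ≠ 1 := by
    intro h
    apply hx
    have h2 : ρ (τ (x : k) ^ e) = 1 := by rw [h, map_one]
    rw [map_pow, hρτ] at h2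
    exact Units.ext (by rw [Units.val_pow_eq_pow_val, h2, Units.val_one])
  have h3 : ∑ t : k, τ t ^ e = τ (x : k) ^ e * ∑ t : k, τ t ^ e := by
    calc ∑ t : k, τ t ^ e = ∑ t : k, τ ((x : k) * t) ^ e :=
          (Fintype.sum_equiv (Equiv.mulLeft₀ (x : k) x.ne_zero) _ _ (fun t => by simp)).symm
      _ = τ (x : k) ^ e * ∑ t : k, τ t ^ e := by
          rw [Finset.mul_sum]
          exact Finset.sum_congr rfl fun t _ => by rw [map_mul, mul_pow]
  have h4 : (τ (x : k) ^ e - 1) * ∑ t : k, τ t ^ e = 0 := by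
    rw [sub_mul, one_mul, ← h3, sub_self]
  rcases mul_eq_zero.1 h4 with h | h
  · exact absurd (sub_eq_zero.1 h) hc
  · exact h

/-- the Teichmüller lift of `F`, evaluated at the lift of `x`. -/
noncomputable def fh {N : ℕ} (τ : k →* O) (F : MvPolynomial (Fin N) k) (x : Fin N → k) : O :=
  ∑ w ∈ F.support, τ (F.coeff w) * ∏ i, τ (x i) ^ (w i)

lemma rho_fh {N : ℕ} (τ : k →* O) (ρ : O →+* k) (hρτ : ∀ x, ρ (τ x) = x)
    (F : MvPolynomial (Fin N) k) (x : Fin N → k) :
    ρ (fh τ F x) = MvPolynomial.eval x F := by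
  rw [fh, map_sum, MvPolynomial.eval_eq']
  refine Finset.sum_congr rfl fun w _ => ?_
  rw [map_mul, hρτ, map_prod]
  congr 1
  exact Finset.prod_congr rfl fun i _ => by rw [map_pow, hρτ]

lemma stepA {N : ℕ} (p : ℕ) [hp : Fact p.Prime] [CharP k p]
    (τ : k →* O) (ρ : O →+* k) (hρτ : ∀ x, ρ (τ x) = x)
    (hker : ∀ z, ρ z = 0 → (p : O) ∣ z)
    (F : MvPolynomial (Fin N) k) (E : ℕ) (x : Fin N → k) :
    (p : O) ^ (E + 1) ∣ fh τ F x ^ ((Fintype.card k - 1) * p ^ E)
      - (if MvPolynomial.eval x F = 0 then 0 else 1) := by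
  have hp2 : 2 ≤ p := hp.out.two_le
  have hQ : 1 ≤ Fintype.card k - 1 := by
    have := Fintype.one_lt_card (α := k)
    omega
  by_cases h : MvPolynomial.eval x F = 0
  · rw [if_pos h, sub_zero]
    have h1 : (p : O) ∣ fh τ F x := hker _ (by rw [rho_fh τ ρ hρτ, h])
    have h2 : E + 1 ≤ (Fintype.card k - 1) * p ^ E := by
      have h3 : E < p ^ E := Nat.lt_pow_self (by omega)
      calc E + 1 ≤ p ^ E := h3
        _ = 1 * p ^ E := (one_mul _).symm
        _ ≤ (Fintype.card k - 1) * p ^ E := Nat.mul_le_mul_right _ hQ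
    exact (pow_dvd_pow _ h2).trans (pow_dvd_pow_of_dvd h1 _)
  · rw [if_neg h]
    have h1 : (p : O) ∣ fh τ F x ^ (Fintype.card k - 1) - 1 := by
      apply hker
      rw [map_sub, map_pow, map_one, rho_fh τ ρ hρτ,
        FiniteField.pow_card_sub_one_eq_one _ h, sub_self]
    have h2 := dvd_sub_pow_of_dvd_sub h1 E
    rw [one_pow, ← pow_mul] at h2
    exact h2

theorem abstract_ax (p r : ℕ) [hp : Fact p.Prime] [CharP k p] (hq : Fintype.card k = p ^ r)
    (τ : k →* O) (ρ : O →+* k) (hρτ : ∀ x, ρ (τ x) = x)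
    (hker : ∀ z, ρ z = 0 → (p : O) ∣ z) (hp0 : (p : O) ≠ 0)
    (N d j : ℕ) (hd : 0 < d) (F : MvPolynomial (Fin N) k) (hF : F.IsHomogeneous d)
    (hj : j * d < N) :
    Fintype.card k ^ j ∣ Fintype.card {x : Fin N → k // MvPolynomial.eval x F = 0} := by
  have hp2 : 2 ≤ p := hp.out.two_le
  obtain ⟨Q, hQ⟩ : ∃ Q, Q = Fintype.card k - 1 := ⟨_, rfl⟩
  have hcard1 : 1 < Fintype.card k := Fintype.one_lt_card
  have hq' : p ^ r = Q + 1 := by omega
  obtain ⟨E, hE⟩ : ∃ E, E = r * j := ⟨_, rfl⟩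
  obtain ⟨M, hM⟩ : ∃ M, M = Q * p ^ E := ⟨_, rfl⟩
  have hdeg : ∀ a ∈ F.support, ∑ i, a i ≤ d := by
    intro a ha
    rw [← Finsupp.degree_eq_sum, Finsupp.degree_apply, ← hF.degree_eq_sum_deg_support ha]
  -- Step D
  have hD : ∀ κ ∈ Finset.piAntidiag F.support M,
      (p : O) ^ (r * j) ∣ ((Nat.multinomial F.support κ : ℕ) : O) *
        (∏ w ∈ F.support, τ (F.coeff w) ^ κ w) *
        ∏ i : Fin N, ∑ t : k, τ t ^ (∑ w ∈ F.support, κ w * w i) := by
    intro κ hκ
    rw [Finset.mem_piAntidiag] at hκ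
    have hκ1 : ∑ a ∈ F.support, κ a = Q * p ^ E := by rw [← hM]; exact hκ.1
    by_cases hall : ∀ i : Fin N, Q ∣ ∑ w ∈ F.support, κ w * w i
    · have hkey := key (p := p) (r := r) (Q := Q) (N := N) (d := d) (j := j) (E := E) hq' hd
        F.support (fun (a : Fin N →₀ ℕ) (i : Fin N) => a i) κ hdeg hj hκ1 hall
      obtain ⟨s, hs⟩ : ∃ s, s = (Finset.univ.filter
          (fun i : Fin N => ∑ a ∈ F.support, κ a * a i = 0)).card := ⟨_, rfl⟩
      rw [← hs] at hkey
      have hprod : ∏ i : Fin N, ∑ t : k, τ t ^ (∑ w ∈ F.support, κ w * w i)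
          = (p : O) ^ (r * s) * ∏ i ∈ Finset.univ.filter
            (fun i : Fin N => ¬ ∑ a ∈ F.support, κ a * a i = 0),
              ∑ t : k, τ t ^ (∑ w ∈ F.support, κ w * w i) := by
        rw [← Finset.prod_filter_mul_prod_filter_not Finset.univ
          (fun i : Fin N => ∑ a ∈ F.support, κ a * a i = 0)]
        congr 1
        rw [hs, pow_mul, ← Finset.prod_const]
        refine Finset.prod_congr rfl fun i hi => ?_
        rw [Finset.mem_filter] at hi
        rw [hi.2]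
        simp only [pow_zero, Finset.sum_const, Finset.card_univ, nsmul_eq_mul, mul_one]
        rw [hq, Nat.cast_pow]
      rw [hprod]
      have hcast : ((p ^ (r * j) : ℕ) : O)
          ∣ ((Nat.multinomial F.support κ * p ^ (r * s) : ℕ) : O) :=
        Nat.cast_dvd_cast hkey
      rw [Nat.cast_pow, Nat.cast_mul, Nat.cast_pow] at hcast
      obtain ⟨c, hc⟩ := hcast
      generalize (∏ w ∈ F.support, τ (F.coeff w) ^ κ w) = A
      generalize (∏ i ∈ Finset.univ.filter
            (fun i : Fin N => ¬ ∑ a ∈ F.support, κ a * a i = 0),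
              ∑ t : k, τ t ^ (∑ w ∈ F.support, κ w * w i)) = R
      refine ⟨c * (A * R), ?_⟩
      linear_combination (A * R) * hc
    · rw [not_forall] at hall
      obtain ⟨i, hi⟩ := hall
      have hS : ∑ t : k, τ t ^ (∑ w ∈ F.support, κ w * w i) = 0 :=
        S_eq_zero τ ρ hρτ _ (by rw [← hQ]; exact hi)
      rw [Finset.prod_eq_zero (Finset.mem_univ i) hS, mul_zero]
      exact dvd_zero _
  -- Step C
  have hexp : ∀ x : Fin N → k, fh τ F x ^ M = ∑ κ ∈ Finset.piAntidiag F.support M,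
      ((Nat.multinomial F.support κ : ℕ) : O) * (∏ w ∈ F.support, τ (F.coeff w) ^ κ w) *
        ∏ i, τ (x i) ^ (∑ w ∈ F.support, κ w * w i) := by
    intro x
    rw [fh, Finset.sum_pow_eq_sum_piAntidiag]
    refine Finset.sum_congr rfl fun κ _ => ?_
    rw [mul_assoc]
    congr 1
    have e1 : ∀ w ∈ F.support, (τ (F.coeff w) * ∏ i, τ (x i) ^ (w i)) ^ κ w
        = τ (F.coeff w) ^ κ w * ∏ i, τ (x i) ^ (w i * κ w) := by
      intro w _
      rw [mul_pow, ← Finset.prod_pow]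
      congr 1
      exact Finset.prod_congr rfl fun i _ => (pow_mul _ _ _).symm
    rw [Finset.prod_congr rfl e1, Finset.prod_mul_distrib]
    congr 1
    rw [Finset.prod_comm]
    refine Finset.prod_congr rfl fun i _ => ?_
    rw [Finset.prod_pow_eq_pow_sum]
    congr 1
    exact Finset.sum_congr rfl fun w _ => mul_comm _ _
  have hsum : ∑ x : Fin N → k, fh τ F x ^ M = ∑ κ ∈ Finset.piAntidiag F.support M,
      ((Nat.multinomial F.support κ : ℕ) : O) * (∏ w ∈ F.support, τ (F.coeff w) ^ κ w) *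
        ∏ i : Fin N, ∑ t : k, τ t ^ (∑ w ∈ F.support, κ w * w i) := by
    rw [Finset.sum_congr rfl fun x _ => hexp x, Finset.sum_comm]
    refine Finset.sum_congr rfl fun κ _ => ?_
    rw [← Finset.mul_sum]
    congr 1
    rw [Fintype.prod_sum]
  have h1 : (p : O) ^ (r * j) ∣ ∑ x : Fin N → k, fh τ F x ^ M := by
    rw [hsum]; exact Finset.dvd_sum hD
  -- Step B
  obtain ⟨nz, hnz⟩ : ∃ nz, nz = (Finset.univ.filter
      (fun x : Fin N → k => ¬ MvPolynomial.eval x F = 0)).card := ⟨_, rfl⟩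
  have h2 : (p : O) ^ (E + 1) ∣ ∑ x : Fin N → k, fh τ F x ^ M - (nz : O) := by
    have h3 : ∑ x : Fin N → k,
        (fh τ F x ^ M - (if MvPolynomial.eval x F = 0 then (0 : O) else 1))
        = ∑ x : Fin N → k, fh τ F x ^ M - (nz : O) := by
      rw [Finset.sum_sub_distrib, Finset.sum_ite, Finset.sum_const_zero, zero_add,
        Finset.sum_const, nsmul_eq_mul, mul_one, hnz]
    rw [← h3]
    refine Finset.dvd_sum fun x _ => ?_
    rw [hM, hQ]
    exact stepA p τ ρ hρτ hker F E x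
  have h4 : (p : O) ^ (r * j) ∣ (nz : O) := by
    have h5 : (p : O) ^ (r * j) ∣ ∑ x : Fin N → k, fh τ F x ^ M - (nz : O) :=
      (pow_dvd_pow _ (by omega)).trans h2
    have := dvd_sub h1 h5
    rwa [sub_sub_cancel] at this
  have h6 : p ^ (r * j) ∣ nz := cast_dvd p ρ hp0 _ _ h4
  have hcount : (Finset.univ.filter
      (fun x : Fin N → k => MvPolynomial.eval x F = 0)).card + nz = (p ^ r) ^ N := by
    rw [hnz, Finset.card_filter_add_card_filter_not, Finset.card_univ, Fintype.card_pi_const, hq]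
  have hjN : j ≤ N := by
    have : j ≤ j * d := Nat.le_mul_of_pos_right j hd
    omega
  have h7 : p ^ (r * j) ∣ (p ^ r) ^ N := by
    rw [← pow_mul]; exact pow_dvd_pow p (Nat.mul_le_mul_left r hjN)
  rw [Fintype.card_subtype, hq, ← pow_mul]
  have h8 : (Finset.univ.filter
      (fun x : Fin N → k => MvPolynomial.eval x F = 0)).card = (p ^ r) ^ N - nz := by omega
  rw [h8]
  exact Nat.dvd_sub h7 h6

end Groth.Agent.Helper8.Ax2
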