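import Mathlib
import Groth.Agent.Lib.Helper8.Ax2

/-!
# Ax's theorem, part 3: instantiate the abstract argument with Witt vectors.
-/

namespace Groth.Agent.Helper8.Ax3

universe u

theorem main (k : Type u) [Field k] [Fintype k] [DecidableEq k] (N d j : ℕ)
    (hd : 0 < d) (F : MvPolynomial (Fin N) k) (hF : F.IsHomogeneous d) (hj : j * d < N) :
    Fintype.card k ^ j ∣ Fintype.card {x : Fin N → k // MvPolynomial.eval x F = 0} := by
  obtain ⟨p, hchar⟩ := CharP.exists k
  haveI := hchar
  obtain ⟨n, hprime, hcard⟩ := FiniteField.card k p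
  haveI : Fact p.Prime := ⟨hprime⟩
  haveI : ExpChar k p := ExpChar.prime hprime
  haveI : PerfectRing k p := PerfectRing.ofFiniteOfIsReduced p k
  refine Ax2.abstract_ax (O := WittVector p k) p (n : ℕ) hcard (WittVector.teichmuller p)
    (WittVector.constantCoeff) ?_ ?_ (WittVector.p_nonzero p k) N d j hd F hF hj
  · intro x; exact WittVector.teichmuller_coeff_zero p x
  · intro z hz
    by_cases h0 : z = 0
    · rw [h0]; exact dvd_zero _
    · obtain ⟨m, b, hb, hzb⟩ := WittVector.exists_eq_pow_p_mul z h0
      rcases Nat.eq_zero_or_pos m with rfl | hm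
      · exfalso; apply hb; rw [pow_zero, one_mul] at hzb; rw [← hzb]; exact hz
      · rw [hzb]; exact Dvd.dvd.mul_right (dvd_pow_self _ hm.ne') _

end Groth.Agent.Helper8.Ax3
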