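import Mathlib
import Groth.Agent.Lib.Helper8.SymPow1

/-!
# Symmetric powers over a ring and over a retract of it

Let `R` be a `B`-algebra with a retraction `σ : R → B`, and `M` an `R`-module on which `R` acts
through `σ`. Then `Sym_B^ι(M) = Sym_R^ι(M)` for nonempty `ι`.
-/

set_option autoImplicit false

namespace Groth.Agent.Helper8.DiffSm

open Groth.Agent.Helper8.SymPow

universe u v

variable (B : Type u) {R : Type u} [CommRing B] [CommRing R] [Algebra B R]
  {M : Type v} [AddCommGroup M] [Module R M] [Module B M] [IsScalarTower B R M] (ι : Type u)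

theorem lift_smul_tprod {S : Type u} [CommRing S] {N : Type v} [AddCommGroup N] [Module S N]
    {P : Type*} [AddCommGroup P] [Module S P]
    (f : MultilinearMap S (fun _ : ι => N) P)
    (hf : ∀ (e : Equiv.Perm ι) (v : ι → N), f (fun i => v (e i)) = f v) (s : S) (v : ι → N) :
    lift f hf (s • SymmetricPower.tprod S v) = s • f v := by
  rw [map_smul, lift_tprod]

/-- The canonical map `Sym_B^ι(M) → Sym_R^ι(M)`. -/
noncomputable def Psi : SymmetricPower B ι M →+ SymmetricPower R ι M :=
  letI : Module B (SymmetricPower R ι M) := Module.compHom _ (algebraMap B R)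
  haveI : IsScalarTower B R (SymmetricPower R ι M) := ⟨fun b r x => by
    show (b • r) • x = algebraMap B R b • (r • x)
    rw [Algebra.smul_def, mul_smul]⟩
  (lift ((SymmetricPower.tprod R (ι := ι) (M := M)).restrictScalars B)
    (fun e v => SymmetricPower.tprod_equiv e v)).toAddMonoidHom

theorem Psi_smul_tprod (b : B) (v : ι → M) :
    Psi B ι (b • SymmetricPower.tprod B v) =
      algebraMap B R b • SymmetricPower.tprod R v := by
  letI : Module B (SymmetricPower R ι M) := Module.compHom _ (algebraMap B R)
  haveI : IsScalarTower B R (SymmetricPower R ι M) := ⟨fun b r x => by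
    show (b • r) • x = algebraMap B R b • (r • x)
    rw [Algebra.smul_def, mul_smul]⟩
  exact lift_smul_tprod ι ((SymmetricPower.tprod R (ι := ι) (M := M)).restrictScalars B)
    (fun e v => SymmetricPower.tprod_equiv e v) b v

variable {B}

/-- The canonical map `Sym_R^ι(M) → Sym_B^ι(M)`. -/
noncomputable def Theta (σ : R →+* B) (hσM : ∀ (r : R) (m : M), r • m = σ r • m) :
    SymmetricPower R ι M →+ SymmetricPower B ι M :=
  letI : Module R (SymmetricPower B ι M) := Module.compHom _ σ
  (lift (R := R) (N := SymmetricPower B ι M)
    { toFun := fun v => SymmetricPower.tprod B v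
      map_update_add' := fun v i x y => (SymmetricPower.tprod B).map_update_add v i x y
      map_update_smul' := fun v i r m => by
        show SymmetricPower.tprod B (Function.update v i (r • m)) =
          σ r • SymmetricPower.tprod B (Function.update v i m)
        rw [hσM, MultilinearMap.map_update_smul] }
    (fun e v => SymmetricPower.tprod_equiv e v)).toAddMonoidHom

omit [Algebra B R] [IsScalarTower B R M] in
theorem Theta_smul_tprod (σ : R →+* B) (hσM : ∀ (r : R) (m : M), r • m = σ r • m)
    (r : R) (v : ι → M) :
    Theta ι σ hσM (r • SymmetricPower.tprod R v) = σ r • SymmetricPower.tprod B v := by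
  letI : Module R (SymmetricPower B ι M) := Module.compHom _ σ
  exact lift_smul_tprod ι (S := R) (P := SymmetricPower B ι M)
    { toFun := fun v => SymmetricPower.tprod B v
      map_update_add' := fun v i x y => (SymmetricPower.tprod B).map_update_add v i x y
      map_update_smul' := fun v i r m => by
        show SymmetricPower.tprod B (Function.update v i (r • m)) =
          σ r • SymmetricPower.tprod B (Function.update v i m)
        rw [hσM, MultilinearMap.map_update_smul] }
    (fun e v => SymmetricPower.tprod_equiv e v) r v

theorem Theta_Psi (σ : R →+* B) (hσM : ∀ (r : R) (m : M), r • m = σ r • m)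
    (hσ : ∀ b, σ (algebraMap B R b) = b) (x : SymmetricPower B ι M) :
    Theta ι σ hσM (Psi B ι x) = x := by
  induction x using induction_on with
  | h0 => rw [map_zero, map_zero]
  | hadd x y hx hy => rw [map_add, map_add, hx, hy]
  | hsmul b v => rw [Psi_smul_tprod, Theta_smul_tprod, hσ]

theorem Psi_Theta [Nonempty ι] (σ : R →+* B) (hσM : ∀ (r : R) (m : M), r • m = σ r • m)
    (y : SymmetricPower R ι M) : Psi B ι (Theta ι σ hσM y) = y := by
  classical
  induction y using induction_on with
  | h0 => rw [map_zero, map_zero]
  | hadd x y hx hy => rw [map_add, map_add, hx, hy]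
  | hsmul r v =>
    rw [Theta_smul_tprod, Psi_smul_tprod]
    obtain ⟨i⟩ := ‹Nonempty ι›
    have h1 : ∀ s : R, s • SymmetricPower.tprod R v =
        SymmetricPower.tprod R (Function.update v i (s • v i)) := by
      intro s
      rw [MultilinearMap.map_update_smul, Function.update_eq_self]
    rw [h1, h1, algebraMap_smul, ← hσM]

theorem Psi_bijective [Nonempty ι] (σ : R →+* B) (hσM : ∀ (r : R) (m : M), r • m = σ r • m)
    (hσ : ∀ b, σ (algebraMap B R b) = b) :
    Function.Bijective (Psi B ι : SymmetricPower B ι M → SymmetricPower R ι M) :=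
  ⟨Function.LeftInverse.injective (g := Theta ι σ hσM) (Theta_Psi ι σ hσM hσ),
    Function.RightInverse.surjective (g := Theta ι σ hσM) (Psi_Theta ι σ hσM)⟩

end Groth.Agent.Helper8.DiffSm
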