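import Mathlib
import Groth.Prelude.Def_PP16
import Groth.Agent.Lib.Helper8.DiffSm1
import Groth.Agent.Lib.Helper8.SymPow2

/-!
# Differential smoothness in terms of the diagonal ideal
-/

set_option autoImplicit false

namespace Groth.Agent.Helper8.DiffSm

open PP16 TensorProduct Groth.Agent.Helper8.SymPow

universe u

variable (A B : Type u) [CommRing A] [CommRing B] [Algebra A B]

/-- The multiplication map as a ring homomorphism. -/
noncomputable def sigma : (B ⊗[A] B) →+* B :=
  (Algebra.TensorProduct.lmul' A : B ⊗[A] B →ₐ[A] B).toRingHom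

theorem sigma_algebraMap (b : B) : sigma A B (algebraMap B (B ⊗[A] B) b) = b := by
  rw [Algebra.TensorProduct.algebraMap_apply]
  show Algebra.TensorProduct.lmul' A (algebraMap B B b ⊗ₜ[A] (1 : B)) = b
  rw [Algebra.TensorProduct.lmul'_apply_tmul, mul_one]
  rfl

theorem mem_ideal_iff (r : B ⊗[A] B) : r ∈ KaehlerDifferential.ideal A B ↔ sigma A B r = 0 :=
  RingHom.mem_ker

theorem sub_mem_ideal (r : B ⊗[A] B) :
    r - algebraMap B (B ⊗[A] B) (sigma A B r) ∈ KaehlerDifferential.ideal A B := by
  rw [mem_ideal_iff, map_sub, sigma_algebraMap, sub_self]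

theorem smul_cotangent (r : B ⊗[A] B) (m : (KaehlerDifferential.ideal A B).Cotangent) :
    r • m = sigma A B r • m := by
  have h := Ideal.Cotangent.smul_eq_zero_of_mem (sub_mem_ideal A B r) m
  rw [sub_smul, sub_eq_zero, algebraMap_smul] at h
  exact h

/-- Comparison of the two versions of `I^n/I^(n+1)`. -/
noncomputable def cmpG (n : ℕ) : grJ (B ⊗[A] B) (KaehlerDifferential.ideal A B) n ≃+ grI A B n :=
  AddEquiv.refl _

theorem cmpG_smul (n : ℕ) (b : B) (y : grJ (B ⊗[A] B) (KaehlerDifferential.ideal A B) n) :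
    cmpG A B n (algebraMap B (B ⊗[A] B) b • y) = b • cmpG A B n y := by
  induction y using Submodule.Quotient.induction_on with
  | H z =>
    obtain ⟨z, hz⟩ := z
    show (Submodule.Quotient.mk _ : grI A B n) = Submodule.Quotient.mk _
    congr 1
    apply Subtype.ext
    show algebraMap B (B ⊗[A] B) b • z = b • z
    rw [algebraMap_smul]

variable (ι : Type u) [Fintype ι]

/-- The canonical `B`-multilinear map `Ω^ι → I^n/I^(n+1)`. -/
noncomputable def muMulti :
    MultilinearMap B (fun _ : ι => (KaehlerDifferential.ideal A B).Cotangent)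
      (grI A B (Fintype.card ι)) where
  toFun v := cmpG A B _ (phiMulti (B ⊗[A] B) (KaehlerDifferential.ideal A B) ι v)
  map_update_add' v i x y := by
    rw [MultilinearMap.map_update_add, map_add]
  map_update_smul' v i b m := by
    rw [← algebraMap_smul (B ⊗[A] B) b m, MultilinearMap.map_update_smul, cmpG_smul]

theorem muMulti_apply (v : ι → (KaehlerDifferential.ideal A B).Cotangent) :
    muMulti A B ι v = cmpG A B _ (phiMulti (B ⊗[A] B) (KaehlerDifferential.ideal A B) ι v) := rfl

/-- The canonical `B`-linear map `Sym^ι_B(Ω) → I^n/I^(n+1)`. -/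
noncomputable def phiB :
    SymmetricPower B ι (KaehlerDifferential.ideal A B).Cotangent →ₗ[B] grI A B (Fintype.card ι) :=
  lift (muMulti A B ι) (fun e v => by
    obtain ⟨x, rfl⟩ := exists_lift_fun (B ⊗[A] B) (KaehlerDifferential.ideal A B) ι v
    rw [muMulti_apply, muMulti_apply,
      phiMulti_apply (B ⊗[A] B) (KaehlerDifferential.ideal A B) ι (fun i => x (e i)),
      phiMulti_apply, zetaJ_comp_perm])

theorem phiB_tprod_D (b : ι → B) :
    phiB A B ι (SymmetricPower.tprod B (fun i => (KaehlerDifferential.ideal A B).toCotangent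
        ⟨1 ⊗ₜ b i - b i ⊗ₜ 1, KaehlerDifferential.one_smul_sub_smul_one_mem_ideal A (b i)⟩)) =
      zetaProd A B b := by
  rw [phiB, lift_tprod, muMulti_apply, phiMulti_apply]
  rfl

theorem phiB_eq (x : SymmetricPower B ι (KaehlerDifferential.ideal A B).Cotangent) :
    phiB A B ι x = cmpG A B _ (phi (B ⊗[A] B) (KaehlerDifferential.ideal A B) ι (Psi B ι x)) := by
  induction x using induction_on with
  | h0 => rw [map_zero, map_zero, map_zero, map_zero]
  | hadd x y hx hy => rw [map_add, map_add, map_add, map_add, hx, hy]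
  | hsmul b v =>
    rw [Psi_smul_tprod, map_smul, map_smul, cmpG_smul, phiB, lift_tprod, muMulti_apply, phi,
      lift_tprod]

theorem phiB_bijective [Nonempty ι]
    (h : Function.Injective (phi (B ⊗[A] B) (KaehlerDifferential.ideal A B) ι)) :
    Function.Bijective (phiB A B ι) := by
  have hΨ := Psi_bijective (B := B) (M := (KaehlerDifferential.ideal A B).Cotangent) ι
    (sigma A B) (smul_cotangent A B) (sigma_algebraMap A B)
  have hφ : Function.Bijective (phi (B ⊗[A] B) (KaehlerDifferential.ideal A B) ι) :=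
    ⟨h, phi_surjective _ _ _⟩
  have hfun : (phiB A B ι : _ → _) = (cmpG A B (Fintype.card ι)) ∘
      (phi (B ⊗[A] B) (KaehlerDifferential.ideal A B) ι) ∘ (Psi B ι) := by
    funext x
    exact phiB_eq A B ι x
  rw [hfun]
  exact (cmpG A B _).bijective.comp (hφ.comp hΨ)

theorem phiB_tprod (x : ι → ↥(KaehlerDifferential.ideal A B)) :
    phiB A B ι (SymmetricPower.tprod B (fun i => (KaehlerDifferential.ideal A B).toCotangent (x i))) =
      cmpG A B _ (zetaJ (B ⊗[A] B) (KaehlerDifferential.ideal A B) x) := by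
  rw [phiB, lift_tprod, muMulti_apply, phiMulti_apply]

theorem phiB_bijective_of_isEmpty [IsEmpty ι] : Function.Bijective (phiB A B ι) := by
  have hcard : Fintype.card ι = 0 := Fintype.card_eq_zero
  set x₀ : ι → ↥(KaehlerDifferential.ideal A B) := fun i => isEmptyElim i with hx₀
  set v₀ : ι → (KaehlerDifferential.ideal A B).Cotangent :=
    fun i => (KaehlerDifferential.ideal A B).toCotangent (x₀ i) with hv₀
  have hval : ∀ b : B, phiB A B ι (b • SymmetricPower.tprod B v₀) =
      b • cmpG A B _ (zetaJ (B ⊗[A] B) (KaehlerDifferential.ideal A B) x₀) := by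
    intro b
    rw [map_smul, hv₀, phiB_tprod]
  have hrep : ∀ x : SymmetricPower B ι (KaehlerDifferential.ideal A B).Cotangent,
      ∃ b : B, x = b • SymmetricPower.tprod B v₀ := by
    intro x
    induction x using induction_on with
    | h0 => exact ⟨0, (zero_smul _ _).symm⟩
    | hadd x y hx hy =>
      obtain ⟨b, rfl⟩ := hx
      obtain ⟨c, rfl⟩ := hy
      exact ⟨b + c, (add_smul _ _ _).symm⟩
    | hsmul b v => exact ⟨b, by rw [Subsingleton.elim v v₀]⟩
  have hz : ∀ b : B, b • cmpG A B _ (zetaJ (B ⊗[A] B) (KaehlerDifferential.ideal A B) x₀) =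
      (Submodule.Quotient.mk ⟨algebraMap B (B ⊗[A] B) b, by
        rw [hcard, pow_zero, Ideal.one_eq_top]
        exact (Submodule.restrictScalars_mem _ _ _).2 Submodule.mem_top⟩ :
          grI A B (Fintype.card ι)) := by
    intro b
    show (Submodule.Quotient.mk _ : grI A B (Fintype.card ι)) = Submodule.Quotient.mk _
    congr 1
    apply Subtype.ext
    show b • ∏ i, ((x₀ i : ↥(KaehlerDifferential.ideal A B)) : B ⊗[A] B) = _
    rw [Finset.univ_eq_empty, Finset.prod_empty, Algebra.algebraMap_eq_smul_one]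
  constructor
  · rw [injective_iff_map_eq_zero]
    intro x hx
    obtain ⟨b, rfl⟩ := hrep x
    rw [hval, hz, Submodule.Quotient.mk_eq_zero] at hx
    have h1 : algebraMap B (B ⊗[A] B) b ∈ KaehlerDifferential.ideal A B ^ (Fintype.card ι + 1) := hx
    rw [hcard, zero_add, pow_one, mem_ideal_iff, sigma_algebraMap] at h1
    rw [h1, zero_smul]
  · intro y
    induction y using Submodule.Quotient.induction_on with
    | H z =>
      obtain ⟨z, hz'⟩ := z
      refine ⟨sigma A B z • SymmetricPower.tprod B v₀, ?_⟩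
      rw [hval, hz]
      symm
      rw [Submodule.Quotient.eq]
      show z - algebraMap B (B ⊗[A] B) (sigma A B z) ∈
        KaehlerDifferential.ideal A B ^ (Fintype.card ι + 1)
      rw [hcard, zero_add, pow_one]
      exact sub_mem_ideal A B z

end Groth.Agent.Helper8.DiffSm
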