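import Mathlib
import Groth.Prelude.Def_PP16
import Groth.Agent.Lib.Helper8.DiffSm2
import Groth.Agent.Lib.Helper8.SymPow8
import Groth.Agent.Lib.Helper8.AdicFS7

/-!
# Formally smooth algebras are differentially smooth
-/

set_option autoImplicit false

namespace Groth.Agent.Helper8.DiffSm

open PP16 TensorProduct Groth.Agent.Helper8.SymPow CAlgX

universe u

variable (A B : Type u) [CommRing A] [CommRing B] [Algebra A B]

/-- Differential smoothness from projectivity of the differentials and bijectivity of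
`Sym(I/I²) → gr_I(B ⊗ B)`. -/
theorem isDiffSmooth_of_symGrBijective (hP : Module.Projective B (KaehlerDifferential A B))
    (h : SymGrBijective (B ⊗[A] B) (KaehlerDifferential.ideal A B)) : IsDiffSmooth A B := by
  refine ⟨hP, fun ι _ => ?_⟩
  refine ⟨phiB A B ι, fun b => phiB_tprod_D A B ι b, ?_⟩
  rcases isEmpty_or_nonempty ι with hι | hι
  · exact phiB_bijective_of_isEmpty A B ι
  · exact phiB_bijective A B ι ((symGrBijective_iff _ _).1 h ι)

/-- `(B ⊗ B)/I ≃ B` as `B`-algebras. -/
noncomputable def quotEquiv : ((B ⊗[A] B) ⧸ KaehlerDifferential.ideal A B) ≃ₐ[B] B :=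
  (Ideal.quotientEquivAlgOfEq B (by
    ext x
    rfl : KaehlerDifferential.ideal A B =
      RingHom.ker (Algebra.TensorProduct.lmul'' A : B ⊗[A] B →ₐ[B] B))).trans
  (Ideal.quotientKerAlgEquivOfSurjective (f := (Algebra.TensorProduct.lmul'' A : B ⊗[A] B →ₐ[B] B))
    (fun b => ⟨b ⊗ₜ 1, by
      show Algebra.TensorProduct.lmul' A (b ⊗ₜ[A] (1 : B)) = b
      rw [Algebra.TensorProduct.lmul'_apply_tmul, mul_one]⟩))

theorem isDiffSmooth_of_formallySmooth [Algebra.FormallySmooth A B] : IsDiffSmooth A B := by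
  haveI : Algebra.FormallySmooth B ((B ⊗[A] B) ⧸ KaehlerDifferential.ideal A B) :=
    Algebra.FormallySmooth.of_equiv (quotEquiv A B).symm
  have h : IsAdicFormallySmooth B (B ⊗[A] B) (KaehlerDifferential.ideal A B) :=
    AdicFS.of_formallySmooth _
  exact isDiffSmooth_of_symGrBijective A B inferInstance
    (projective_and_symGrBijective (KaehlerDifferential.ideal A B) h).2

end Groth.Agent.Helper8.DiffSm
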