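import Mathlib
import Groth.Prelude.Def_PP16
import Groth.Agent.Lib.Helper8.DiffSm3
import Groth.Agent.Lib.Helper8.QRLoc4

/-!
# Differential smoothness and quasi-regularity of the diagonal
-/

set_option autoImplicit false

namespace Groth.Agent.Helper8.DiffSm

open PP16 TensorProduct Groth.Agent.Helper8.SymPow CAlgX

universe u

section multilinear

theorem multilinear_ext_of_span {R : Type*} [CommRing R] {ι : Type*} [Fintype ι] {M N : Type*}
    [AddCommGroup M] [Module R M] [AddCommGroup N] [Module R N]
    (S : Set M) (hS : Submodule.span R S = ⊤) (f g : MultilinearMap R (fun _ : ι => M) N)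
    (h : ∀ v : ι → M, (∀ i, v i ∈ S) → f v = g v) : f = g := by
  classical
  have key : ∀ (t : Finset ι) (v : ι → M), (∀ i, i ∉ t → v i ∈ S) → f v = g v := by
    intro t
    induction t using Finset.induction_on with
    | empty =>
      intro v hv
      exact h v (fun i => hv i (Finset.notMem_empty i))
    | insert a t ha ih =>
      intro v hv
      have hva : v a ∈ Submodule.span R S := hS ▸ Submodule.mem_top
      have h1 : ∀ x ∈ Submodule.span R S,
          f (Function.update v a x) = g (Function.update v a x) := by
        intro x hx
        induction hx using Submodule.span_induction with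
        | mem x hx =>
          apply ih
          intro i hi
          by_cases hia : i = a
          · subst hia
            rw [Function.update_self]
            exact hx
          · rw [Function.update_of_ne hia]
            exact hv i (by simp [hia, hi])
        | zero => rw [f.map_update_zero, g.map_update_zero]
        | add x y _ _ hx hy => rw [f.map_update_add, g.map_update_add, hx, hy]
        | smul c x _ hx => rw [f.map_update_smul, g.map_update_smul, hx]
      have h2 := h1 (v a) hva
      rwa [Function.update_eq_self] at h2
  ext v
  exact key Finset.univ v (fun i hi => absurd (Finset.mem_univ i) hi)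

end multilinear

variable (A B : Type u) [CommRing A] [CommRing B] [Algebra A B]

/-- `phiB` with the types used in `IsDiffSmooth`. -/
noncomputable def phiΩ (ι : Type u) [Fintype ι] :
    SymmetricPower B ι (KaehlerDifferential A B) →ₗ[B] grI A B (Fintype.card ι) :=
  phiB A B ι

theorem phiΩ_tprod_D (ι : Type u) [Fintype ι] (b : ι → B) :
    phiΩ A B ι (SymmetricPower.tprod B (fun i => KaehlerDifferential.D A B (b i))) =
      zetaProd A B b :=
  phiB_tprod_D A B ι b

theorem phiB_unique (ι : Type u) [Fintype ι]
    (φ : SymmetricPower B ι (KaehlerDifferential A B) →ₗ[B] grI A B (Fintype.card ι))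
    (hφ : ∀ b : ι → B,
      φ (SymmetricPower.tprod B (fun i => KaehlerDifferential.D A B (b i))) = zetaProd A B b) :
    φ = phiΩ A B ι := by
  apply SymPow.hom_ext
  intro v
  have h1 : φ.compMultilinearMap (SymmetricPower.tprod B) =
      (phiΩ A B ι).compMultilinearMap (SymmetricPower.tprod B) := by
    apply multilinear_ext_of_span (Set.range (KaehlerDifferential.D A B))
      (KaehlerDifferential.span_range_derivation A B)
    intro v hv
    choose b hb using hv
    have hv' : v = fun i => KaehlerDifferential.D A B (b i) := funext fun i => (hb i).symm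
    rw [hv', LinearMap.compMultilinearMap_apply, LinearMap.compMultilinearMap_apply, hφ,
      phiΩ_tprod_D]
  exact congrFun (congrArg DFunLike.coe h1) v


section proj

attribute [local instance] RingHomInvPair.of_ringEquiv RingHomInvPair.of_ringEquiv_symm

/-- `B ≃ (B ⊗ B)/I` as rings. -/
noncomputable def quotRingEquiv : B ≃+* ((B ⊗[A] B) ⧸ KaehlerDifferential.ideal A B) :=
  (quotEquiv A B).symm.toRingEquiv

theorem quotRingEquiv_smul (b : B) (m : (KaehlerDifferential.ideal A B).Cotangent) :
    quotRingEquiv A B b • m = b • m := by
  have h1 : quotRingEquiv A B b =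
      algebraMap B ((B ⊗[A] B) ⧸ KaehlerDifferential.ideal A B) b := by
    have := (quotEquiv A B).symm.commutes b
    rwa [Algebra.algebraMap_self_apply] at this
  rw [h1, ← Ideal.Quotient.mk_algebraMap]
  show algebraMap B (B ⊗[A] B) b • m = b • m
  rw [algebraMap_smul]

/-- The identity of `I/I²` as a semilinear equivalence over `B ≃ (B ⊗ B)/I`. -/
noncomputable def cotEquiv :
    KaehlerDifferential A B ≃ₛₗ[(quotRingEquiv A B :
        B →+* ((B ⊗[A] B) ⧸ KaehlerDifferential.ideal A B))]
      (KaehlerDifferential.ideal A B).Cotangent where
  toFun := id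
  invFun := id
  map_add' _ _ := rfl
  map_smul' b m := (quotRingEquiv_smul A B b m).symm
  left_inv _ := rfl
  right_inv _ := rfl

theorem projective_cotangent_of_projective (h : Module.Projective B (KaehlerDifferential A B)) :
    Module.Projective ((B ⊗[A] B) ⧸ KaehlerDifferential.ideal A B)
      (KaehlerDifferential.ideal A B).Cotangent :=
  Module.Projective.of_equiv (cotEquiv A B)

theorem projective_of_projective_cotangent
    (h : Module.Projective ((B ⊗[A] B) ⧸ KaehlerDifferential.ideal A B)
      (KaehlerDifferential.ideal A B).Cotangent) :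
    Module.Projective B (KaehlerDifferential A B) :=
  Module.Projective.of_equiv (cotEquiv A B).symm

end proj

theorem isLocallyQuasiRegular_of_isDiffSmooth
    (hFG : (KaehlerDifferential.ideal A B).FG) (h : IsDiffSmooth A B) :
    IsLocallyQuasiRegular (B ⊗[A] B) (KaehlerDifferential.ideal A B) := by
  apply QRLoc.isLocallyQuasiRegular_of_fg_projective_symGr hFG
    (projective_cotangent_of_projective A B h.1)
  rw [symGrBijective_iff]
  intro ι _ _
  obtain ⟨φ, hφ, hbij⟩ := h.2 ι
  rw [phiB_unique A B ι φ hφ] at hbij
  have hΨ := Psi_bijective (B := B) (M := (KaehlerDifferential.ideal A B).Cotangent) ι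
    (sigma A B) (smul_cotangent A B) (sigma_algebraMap A B)
  have hfun : (phiΩ A B ι : _ → _) = (cmpG A B (Fintype.card ι)) ∘
      (phi (B ⊗[A] B) (KaehlerDifferential.ideal A B) ι) ∘ (Psi B ι) := by
    funext x
    exact phiB_eq A B ι x
  rw [hfun] at hbij
  have h1 : Function.Injective ((phi (B ⊗[A] B) (KaehlerDifferential.ideal A B) ι) ∘ (Psi B ι)) :=
    Function.Injective.of_comp hbij.1
  exact Function.Injective.of_comp_right h1 hΨ.2

theorem isDiffSmooth_of_isLocallyQuasiRegular
    (h : IsLocallyQuasiRegular (B ⊗[A] B) (KaehlerDifferential.ideal A B)) :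
    IsDiffSmooth A B :=
  isDiffSmooth_of_symGrBijective A B
    (projective_of_projective_cotangent A B (QRLoc.projective_of_isLocallyQuasiRegular h))
    (QRLoc.symGrBijective_of_isLocallyQuasiRegular h)

end Groth.Agent.Helper8.DiffSm
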