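import Mathlib
import Groth.Agent.Lib.Helper8.DiffSm4

/-!
# Base change of multilinear maps

For an `A`-algebra `B`, an `A`-module `M` and a `B`-module `N`, every `A`-multilinear map
`M^ι → N` extends uniquely to a `B`-multilinear map `(B ⊗ M)^ι → N`.
-/

set_option autoImplicit false

namespace Groth.Agent.Helper8.BCMulti

open TensorProduct

variable {A B : Type*} [CommRing A] [CommRing B] [Algebra A B]
  {M : Type*} [AddCommGroup M] [Module A M]
  {N : Type*} [AddCommGroup N] [Module A N] [Module B N] [IsScalarTower A B N]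

instance mlmTower {ι : Type*} {X : Type*} [AddCommGroup X] [Module B X] :
    IsScalarTower A B (MultilinearMap B (fun _ : ι => X) N) :=
  ⟨fun a b f => MultilinearMap.ext fun v => smul_assoc a b (f v)⟩

theorem liftBaseChange_add {Y : Type*} [AddCommGroup Y] [Module A Y] [Module B Y]
    [IsScalarTower A B Y] (u w : M →ₗ[A] Y) :
    LinearMap.liftBaseChange B (u + w) = LinearMap.liftBaseChange B u +
      LinearMap.liftBaseChange B w := map_add (LinearMap.liftBaseChangeEquiv B) u w

theorem liftBaseChange_smul {Y : Type*} [AddCommGroup Y] [Module A Y] [Module B Y]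
    [IsScalarTower A B Y] (a : A) (u : M →ₗ[A] Y) :
    LinearMap.liftBaseChange B (a • u) = a • LinearMap.liftBaseChange B u :=
  (LinearMap.liftBaseChangeEquiv B).toLinearMap.map_smul_of_tower a u

/-- Base change of multilinear maps in `n` variables, by recursion on `n`. -/
noncomputable def bcFin : (n : ℕ) → (MultilinearMap A (fun _ : Fin n => M) N →ₗ[A]
    MultilinearMap B (fun _ : Fin n => B ⊗[A] M) N)
  | 0 =>
    { toFun := fun f => MultilinearMap.constOfIsEmpty B _ (f Fin.elim0)
      map_add' := fun f g => by ext v; rfl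
      map_smul' := fun a f => by ext v; rfl }
  | n + 1 =>
    { toFun := fun f => LinearMap.uncurryLeft
        (LinearMap.liftBaseChange B ((bcFin n) ∘ₗ f.curryLeft))
      map_add' := fun f g => by
        have h1 : (f + g).curryLeft = f.curryLeft + g.curryLeft := rfl
        rw [h1, LinearMap.comp_add, liftBaseChange_add]
        rfl
      map_smul' := fun a f => by
        have h1 : (a • f).curryLeft = a • f.curryLeft := rfl
        rw [h1, LinearMap.comp_smul, liftBaseChange_smul]
        rfl }

theorem bcFin_tmul : ∀ (n : ℕ) (f : MultilinearMap A (fun _ : Fin n => M) N) (b : Fin n → B)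
    (m : Fin n → M), bcFin n f (fun i => b i ⊗ₜ[A] m i) = (∏ i, b i) • f m
  | 0, f, b, m => by
    show f Fin.elim0 = _
    rw [Finset.univ_eq_empty, Finset.prod_empty, one_smul]
    congr 1
    exact Subsingleton.elim _ _
  | n + 1, f, b, m => by
    show LinearMap.liftBaseChange B ((bcFin n) ∘ₗ f.curryLeft) (b 0 ⊗ₜ[A] m 0)
      (Fin.tail fun i => b i ⊗ₜ[A] m i) = _
    rw [LinearMap.liftBaseChange_tmul, smul_apply, LinearMap.comp_apply]
    have h1 : (Fin.tail fun i => b i ⊗ₜ[A] m i) = fun i : Fin n => b i.succ ⊗ₜ[A] m i.succ := rfl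
    rw [h1, bcFin_tmul n, MultilinearMap.curryLeft_apply, Fin.prod_univ_succ, smul_smul]
    congr 2
    exact Fin.cons_self_tail m

section general

variable {ι : Type*} [Fintype ι]

/-- Base change of a multilinear map. -/
noncomputable def bcMulti (f : MultilinearMap A (fun _ : ι => M) N) :
    MultilinearMap B (fun _ : ι => B ⊗[A] M) N :=
  (bcFin (Fintype.card ι) (f.domDomCongr (Fintype.equivFin ι))).domDomCongr
    (Fintype.equivFin ι).symm

theorem bcMulti_tmul (f : MultilinearMap A (fun _ : ι => M) N) (b : ι → B) (m : ι → M) :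
    bcMulti f (fun i => b i ⊗ₜ[A] m i) = (∏ i, b i) • f m := by
  unfold bcMulti
  rw [MultilinearMap.domDomCongr_apply]
  have h1 := bcFin_tmul (B := B) (Fintype.card ι) (f.domDomCongr (Fintype.equivFin ι))
    (fun k => b ((Fintype.equivFin ι).symm k)) (fun k => m ((Fintype.equivFin ι).symm k))
  rw [h1, MultilinearMap.domDomCongr_apply]
  congr 1
  · exact Equiv.prod_comp (Fintype.equivFin ι).symm b
  · congr 1
    funext i
    rw [Equiv.symm_apply_apply]

theorem bcMulti_one_tmul (f : MultilinearMap A (fun _ : ι => M) N) (m : ι → M) :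
    bcMulti (B := B) f (fun i => (1 : B) ⊗ₜ[A] m i) = f m := by
  rw [bcMulti_tmul, Finset.prod_const_one, one_smul]

theorem span_one_tmul :
    Submodule.span B (Set.range fun m : M => (1 : B) ⊗ₜ[A] m) = ⊤ := by
  rw [eq_top_iff]
  rintro x -
  induction x using TensorProduct.induction_on with
  | zero => exact Submodule.zero_mem _
  | add x y hx hy => exact Submodule.add_mem _ hx hy
  | tmul b m =>
    have : b ⊗ₜ[A] m = b • ((1 : B) ⊗ₜ[A] m) := by
      rw [TensorProduct.smul_tmul', smul_eq_mul, mul_one]
    rw [this]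
    exact Submodule.smul_mem _ _ (Submodule.subset_span ⟨m, rfl⟩)

/-- Two `B`-multilinear maps on `B ⊗ M` agreeing on the families `(1 ⊗ m_i)` are equal. -/
theorem ext_one_tmul (f g : MultilinearMap B (fun _ : ι => B ⊗[A] M) N)
    (h : ∀ m : ι → M, f (fun i => (1 : B) ⊗ₜ[A] m i) = g (fun i => (1 : B) ⊗ₜ[A] m i)) :
    f = g := by
  refine Groth.Agent.Helper8.DiffSm.multilinear_ext_of_span _ span_one_tmul f g fun v hv => ?_
  choose m hm using hv
  have : v = fun i => (1 : B) ⊗ₜ[A] m i := funext fun i => (hm i).symm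
  rw [this]
  exact h m

/-- The base change of a symmetric multilinear map is symmetric. -/
theorem bcMulti_symm (f : MultilinearMap A (fun _ : ι => M) N)
    (hf : ∀ (e : Equiv.Perm ι) (v : ι → M), f (fun i => v (e i)) = f v)
    (e : Equiv.Perm ι) (v : ι → B ⊗[A] M) :
    bcMulti (B := B) f (fun i => v (e i)) = bcMulti f v := by
  have h1 : (bcMulti (B := B) f).domDomCongr e = bcMulti f := by
    apply ext_one_tmul
    intro m
    rw [MultilinearMap.domDomCongr_apply, bcMulti_one_tmul, bcMulti_one_tmul]
    exact hf e m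
  have h2 := congrArg (fun F => F v) h1
  simp only [MultilinearMap.domDomCongr_apply] at h2
  exact h2

end general

end Groth.Agent.Helper8.BCMulti
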