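import Mathlib
import Groth.Agent.Lib.Helper8.BCMulti1
import Groth.Agent.Lib.Helper8.SymPow1

/-!
# Base change of symmetric powers

For an `A`-algebra `B`, an `A`-module `M` and a `B`-module `M'` identified with `B ⊗ M`, we
construct the `B`-linear surjection `Sym_B(M') → B ⊗ Sym_A(M)` which maps the symmetric product
of the images of `m_i` to `1 ⊗ (m_1 ⋯ m_n)`.
-/

set_option autoImplicit false

namespace Groth.Agent.Helper8.BCSym

open TensorProduct Groth.Agent.Helper8.SymPow Groth.Agent.Helper8.BCMulti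

universe u v w

variable {A B : Type u} [CommRing A] [CommRing B] [Algebra A B]
  {M : Type v} [AddCommGroup M] [Module A M]
  {M' : Type w} [AddCommGroup M'] [Module B M']
  (e : B ⊗[A] M ≃ₗ[B] M') (ι : Type u) [Fintype ι]

/-- The `A`-multilinear map `(m_i) ↦ 1 ⊗ (m_1 ⋯ m_n)`. -/
noncomputable def oneTprod :
    MultilinearMap A (fun _ : ι => M) (B ⊗[A] SymmetricPower A ι M) :=
  (TensorProduct.mk A B (SymmetricPower A ι M) 1).compMultilinearMap (SymmetricPower.tprod A)

theorem oneTprod_apply (m : ι → M) :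
    oneTprod (B := B) ι m = (1 : B) ⊗ₜ[A] SymmetricPower.tprod A m := rfl

theorem oneTprod_symm (σ : Equiv.Perm ι) (m : ι → M) :
    oneTprod (A := A) (B := B) ι (fun i => m (σ i)) = oneTprod (A := A) (B := B) ι m := by
  rw [oneTprod_apply, oneTprod_apply]
  congr 1
  exact SymmetricPower.tprod_equiv σ m

/-- The comparison map `Sym_B(M') → B ⊗ Sym_A(M)`. -/
noncomputable def delta : SymmetricPower B ι M' →ₗ[B] B ⊗[A] SymmetricPower A ι M :=
  SymPow.lift ((bcMulti (B := B) (oneTprod (B := B) (M := M) ι)).compLinearMap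
    (fun _ => e.symm.toLinearMap)) (fun σ v => by
      simp only [MultilinearMap.compLinearMap_apply]
      exact bcMulti_symm (oneTprod (B := B) (M := M) ι) (oneTprod_symm ι) σ
        (fun i => e.symm (v i)))

theorem delta_tprod (b : ι → B) (m : ι → M) :
    delta e ι (SymmetricPower.tprod B (fun i => e (b i ⊗ₜ[A] m i))) =
      (∏ i, b i) ⊗ₜ[A] SymmetricPower.tprod A m := by
  unfold delta
  rw [SymPow.lift_tprod, MultilinearMap.compLinearMap_apply]
  have h1 : (fun i => (e.symm.toLinearMap) (e (b i ⊗ₜ[A] m i))) = fun i => b i ⊗ₜ[A] m i := by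
    funext i
    exact e.symm_apply_apply _
  rw [h1, bcMulti_tmul, oneTprod_apply, TensorProduct.smul_tmul', smul_eq_mul, mul_one]

theorem delta_tprod_one (m : ι → M) :
    delta e ι (SymmetricPower.tprod B (fun i => e ((1 : B) ⊗ₜ[A] m i))) =
      (1 : B) ⊗ₜ[A] SymmetricPower.tprod A m := by
  rw [delta_tprod, Finset.prod_const_one]

theorem delta_surjective : Function.Surjective (delta e ι) := by
  intro z
  induction z using TensorProduct.induction_on with
  | zero => exact ⟨0, map_zero _⟩
  | add x y hx hy =>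
    obtain ⟨x', rfl⟩ := hx
    obtain ⟨y', rfl⟩ := hy
    exact ⟨x' + y', map_add _ _ _⟩
  | tmul b x =>
    induction x using SymPow.induction_on with
    | h0 => exact ⟨0, by rw [map_zero, TensorProduct.tmul_zero]⟩
    | hadd x y hx hy =>
      obtain ⟨x', hx'⟩ := hx
      obtain ⟨y', hy'⟩ := hy
      exact ⟨x' + y', by rw [map_add, hx', hy', TensorProduct.tmul_add]⟩
    | hsmul a m =>
      refine ⟨(a • b) • SymmetricPower.tprod B (fun i => e ((1 : B) ⊗ₜ[A] m i)), ?_⟩
      rw [map_smul, delta_tprod_one, TensorProduct.smul_tmul', smul_eq_mul, mul_one,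
        TensorProduct.smul_tmul]

end Groth.Agent.Helper8.BCSym
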