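import Mathlib.NumberTheory.Bernoulli
import Mathlib.RingTheory.PowerSeries.Inverse
import Mathlib.Tactic

open PowerSeries

namespace Groth.Agent.Helper8

theorem jet0_mul (f g : PowerSeries ℚ) : coeff 0 (f * g) = coeff 0 f * coeff 0 g := by
  rw [PowerSeries.coeff_mul]; simp

theorem jet1_mul (f g : PowerSeries ℚ) :
    coeff 1 (f * g) = coeff 0 f * coeff 1 g + coeff 1 f * coeff 0 g := by
  rw [PowerSeries.coeff_mul]
  simp [Finset.Nat.antidiagonal_succ]

theorem jet2_mul (f g : PowerSeries ℚ) :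
    coeff 2 (f * g) = coeff 0 f * coeff 2 g + coeff 1 f * coeff 1 g + coeff 2 f * coeff 0 g := by
  rw [PowerSeries.coeff_mul]
  simp [Finset.Nat.antidiagonal_succ]
  ring

theorem jet3_mul (f g : PowerSeries ℚ) :
    coeff 3 (f * g) = coeff 0 f * coeff 3 g + coeff 1 f * coeff 2 g + coeff 2 f * coeff 1 g +
      coeff 3 f * coeff 0 g := by
  rw [PowerSeries.coeff_mul]
  simp [Finset.Nat.antidiagonal_succ]
  ring

theorem jet_inv (f : PowerSeries ℚ) (hf : coeff 0 f = 1) :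
    coeff 0 f⁻¹ = 1 ∧ coeff 1 f⁻¹ = - coeff 1 f ∧
    coeff 2 f⁻¹ = - coeff 2 f + coeff 1 f ^ 2 ∧
    coeff 3 f⁻¹ = - coeff 3 f + 2 * coeff 1 f * coeff 2 f - coeff 1 f ^ 3 := by
  have hf' : constantCoeff f = 1 := by
    rw [← PowerSeries.coeff_zero_eq_constantCoeff_apply, hf]
  have hne : constantCoeff f ≠ 0 := by rw [hf']; exact one_ne_zero
  have h0 : coeff 0 f⁻¹ = 1 := by
    rw [PowerSeries.coeff_inv]; simp [hf']
  have hmul := PowerSeries.mul_inv_cancel f hne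
  have e1 := jet1_mul f f⁻¹
  have e2 := jet2_mul f f⁻¹
  have e3 := jet3_mul f f⁻¹
  rw [hmul] at e1 e2 e3
  simp only [hf, h0, one_mul, mul_one] at e1 e2 e3
  have z1 : coeff 1 (1 : PowerSeries ℚ) = 0 := by simp [PowerSeries.coeff_one]
  have z2 : coeff 2 (1 : PowerSeries ℚ) = 0 := by simp [PowerSeries.coeff_one]
  have z3 : coeff 3 (1 : PowerSeries ℚ) = 0 := by simp [PowerSeries.coeff_one]
  rw [z1] at e1; rw [z2] at e2; rw [z3] at e3
  have g1 : coeff 1 f⁻¹ = - coeff 1 f := by linarith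
  have g2 : coeff 2 f⁻¹ = - coeff 2 f + coeff 1 f ^ 2 := by
    rw [g1] at e2; linear_combination (-1 : ℚ) * e2
  refine ⟨h0, g1, g2, ?_⟩
  rw [g1, g2] at e3
  linear_combination (-1 : ℚ) * e3

theorem jetB : coeff 0 (bernoulli'PowerSeries ℚ) = 1 ∧ coeff 1 (bernoulli'PowerSeries ℚ) = 1 / 2 ∧
    coeff 2 (bernoulli'PowerSeries ℚ) = 1 / 12 ∧ coeff 3 (bernoulli'PowerSeries ℚ) = 0 := by
  refine ⟨?_, ?_, ?_, ?_⟩
  · simp [bernoulli'PowerSeries]
  · simp [bernoulli'PowerSeries]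
  · simp [bernoulli'PowerSeries, Nat.factorial]; norm_num
  · simp [bernoulli'PowerSeries, Nat.factorial]

end Groth.Agent.Helper8

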