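import Mathlib.NumberTheory.Bernoulli
import Mathlib.RingTheory.PowerSeries.Inverse
import Mathlib.NumberTheory.ZetaValues
import Mathlib.Tactic
import Groth.Agent.Lib.Helper8.Jets

open PowerSeries

namespace Groth.Agent.Helper8

theorem rescale_neg_one_bernoulli' :
    rescale (-1 : ℚ) (bernoulli'PowerSeries ℚ) = bernoulliPowerSeries ℚ := by
  ext n
  rw [PowerSeries.coeff_rescale]
  simp only [bernoulli'PowerSeries, bernoulliPowerSeries, PowerSeries.coeff_mk, bernoulli]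
  simp only [eq_ratCast, Rat.cast_id]
  ring

theorem bernoulli'PowerSeries_eq : 
    bernoulli'PowerSeries ℚ = bernoulliPowerSeries ℚ * PowerSeries.exp ℚ := by
  have h1 := bernoulli'PowerSeries_mul_exp_sub_one ℚ
  have h2 := bernoulliPowerSeries_mul_exp_sub_one ℚ
  have hne : (PowerSeries.exp ℚ - 1) ≠ 0 := by
    intro h
    have := congrArg (coeff 1) h
    rw [map_sub, PowerSeries.coeff_exp] at this
    simp [PowerSeries.coeff_one] at this
  apply mul_right_cancel₀ hne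
  rw [h1, mul_right_comm, h2]

theorem rescale_neg_bernoulli'_mul_exp (c : ℚ) :
    rescale (-c) (bernoulli'PowerSeries ℚ) * rescale c (PowerSeries.exp ℚ) =
      rescale c (bernoulli'PowerSeries ℚ) := by
  conv_rhs => rw [bernoulli'PowerSeries_eq, map_mul, ← rescale_neg_one_bernoulli',
    PowerSeries.rescale_rescale]
  congr 2
  ring_nf

theorem coeff_bernoulli'_pow (k : ℕ) : coeff 0 (bernoulli'PowerSeries ℚ ^ k) = 1 ∧
    coeff 1 (bernoulli'PowerSeries ℚ ^ k) = (k : ℚ) / 2 := by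
  obtain ⟨b0, b1, -, -⟩ := jetB
  induction k with
  | zero => simp [PowerSeries.coeff_one]
  | succ k ih =>
    rw [pow_succ, jet0_mul, jet1_mul, ih.1, ih.2, b0, b1]
    constructor
    · ring
    · push_cast; ring


/-- The part of the Todd integrand that does not depend on `p`. -/
noncomputable def toddA (n d : ℕ) (s : ℤ) : PowerSeries ℚ :=
  (rescale (-(d : ℚ)) (bernoulli'PowerSeries ℚ))⁻¹ * bernoulli'PowerSeries ℚ ^ (n + 1) *
    rescale (-(d : ℚ) - n - 1 + s) (PowerSeries.exp ℚ)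

theorem todd_eq (n d p : ℕ) (s : ℤ) :
    (rescale (-(d : ℚ)) (bernoulli'PowerSeries ℚ))⁻¹ *
      rescale (-((d : ℚ) * p)) (bernoulli'PowerSeries ℚ) * bernoulli'PowerSeries ℚ ^ (n + 1) *
      rescale ((d : ℚ) * p - d - n - 1 + s) (PowerSeries.exp ℚ) =
    rescale ((d : ℚ) * p) (bernoulli'PowerSeries ℚ) * toddA n d s := by
  have h1 : (d : ℚ) * p - d - n - 1 + s = (d : ℚ) * p + (-(d : ℚ) - n - 1 + s) := by ring
  have h2 := rescale_neg_bernoulli'_mul_exp ((d : ℚ) * p)
  rw [h1, ← PowerSeries.exp_mul_exp_eq_exp_add, toddA, ← h2]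
  ring

theorem coeff_toddA (n d : ℕ) (s : ℤ) : coeff 0 (toddA n d s) = 1 ∧
    coeff 1 (toddA n d s) = (2 * (s : ℚ) - d - n - 1) / 2 := by
  obtain ⟨b0, b1, -, -⟩ := jetB
  have hF1 : coeff 0 (rescale (-(d : ℚ)) (bernoulli'PowerSeries ℚ)) = 1 := by
    rw [PowerSeries.coeff_rescale, b0]; simp
  obtain ⟨i0, i1, -, -⟩ := jet_inv _ hF1
  obtain ⟨p0, p1⟩ := coeff_bernoulli'_pow (n + 1)
  have e0 : coeff 0 (PowerSeries.exp ℚ) = 1 := by rw [PowerSeries.coeff_exp]; simp
  have e1 : coeff 1 (PowerSeries.exp ℚ) = 1 := by rw [PowerSeries.coeff_exp]; simp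
  rw [toddA]
  simp only [jet0_mul, jet1_mul, i0, i1, p0, p1, PowerSeries.coeff_rescale, b1, e0, e1]
  constructor
  · ring
  · push_cast; ring

theorem todd_structure (n d : ℕ) (s : ℤ) (hn : 2 ≤ n) :
    ∃ P : Polynomial ℚ, P.natDegree ≤ n - 2 ∧ ∀ p : ℕ,
      coeff n ((rescale (-(d : ℚ)) (bernoulli'PowerSeries ℚ))⁻¹ *
        rescale (-((d : ℚ) * p)) (bernoulli'PowerSeries ℚ) * bernoulli'PowerSeries ℚ ^ (n + 1) *
        rescale ((d : ℚ) * p - d - n - 1 + s) (PowerSeries.exp ℚ)) =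
        bernoulli' n * ((d : ℚ) * p) ^ n / (Nat.factorial n : ℚ) +
          (2 * (s : ℚ) - d - n - 1) / 2 * bernoulli' (n - 1) * ((d : ℚ) * p) ^ (n - 1) /
            (Nat.factorial (n - 1) : ℚ) + P.eval (p : ℚ) := by
  obtain ⟨m, rfl⟩ : ∃ m, n = m + 2 := ⟨n - 2, by omega⟩
  obtain ⟨a0, a1⟩ := coeff_toddA (m + 2) d s
  refine ⟨∑ k ∈ Finset.range (m + 1), Polynomial.C (bernoulli' k / (Nat.factorial k : ℚ) *
      (d : ℚ) ^ k * coeff (m + 2 - k) (toddA (m + 2) d s)) * Polynomial.X ^ k, ?_, ?_⟩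
  · refine Polynomial.natDegree_sum_le_of_forall_le _ _ fun k hk => ?_
    refine le_trans (Polynomial.natDegree_C_mul_X_pow_le _ _) ?_
    rw [Finset.mem_range] at hk
    omega
  · intro p
    rw [todd_eq, PowerSeries.coeff_mul, Finset.Nat.sum_antidiagonal_eq_sum_range_succ_mk,
      Finset.sum_range_succ, Finset.sum_range_succ]
    simp only [Nat.sub_self, show m + 2 - (m + 1) = 1 by omega, a0, a1,
      show m + 2 - 1 = m + 1 by omega]
    rw [Polynomial.eval_finsetSum]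
    simp only [PowerSeries.coeff_rescale, bernoulli'PowerSeries, PowerSeries.coeff_mk,
      Polynomial.eval_mul, Polynomial.eval_C, Polynomial.eval_pow, Polynomial.eval_X,
      eq_ratCast, Rat.cast_id]
    have hsum : ∀ k ∈ Finset.range (m + 1),
        ((d : ℚ) * p) ^ k * (bernoulli' k / (Nat.factorial k : ℚ)) *
          coeff (m + 2 - k) (toddA (m + 2) d s) =
        bernoulli' k / (Nat.factorial k : ℚ) * (d : ℚ) ^ k *
          coeff (m + 2 - k) (toddA (m + 2) d s) * (p : ℚ) ^ k := by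
      intro k _
      rw [mul_pow]; ring
    rw [Finset.sum_congr rfl hsum]
    push_cast
    ring

end Groth.Agent.Helper8
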