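import Groth.Agent.Lib.Helper8.Bern
import Mathlib.Analysis.Polynomial.Basic

namespace Groth.Agent.Helper8

section
open Polynomial Filter in
theorem eventually_neg_of_leading (Q : Polynomial ℚ) (N : ℕ) (hQ : Q.natDegree ≤ N) (a : ℚ)
    (ha : a < 0) : ∃ P0 : ℕ, ∀ p : ℕ, P0 ≤ p → a * (p : ℚ) ^ (N + 1) + Q.eval (p : ℚ) < 0 := by
  let R : Polynomial ℚ := C a * X ^ (N + 1) + Q
  have hdegQ : Q.degree < (C a * X ^ (N + 1) : Polynomial ℚ).degree := by
    rw [Polynomial.degree_C_mul_X_pow _ ha.ne]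
    refine lt_of_le_of_lt Polynomial.degree_le_natDegree ?_
    exact_mod_cast Nat.lt_succ_of_le hQ
  have hdeg : 0 < R.degree := by
    rw [Polynomial.degree_add_eq_left_of_degree_lt hdegQ, Polynomial.degree_C_mul_X_pow _ ha.ne]
    exact_mod_cast Nat.succ_pos N
  have hlead : R.leadingCoeff ≤ 0 := by
    rw [show R = C a * X ^ (N + 1) + Q from rfl, Polynomial.leadingCoeff_add_of_degree_lt' hdegQ, Polynomial.leadingCoeff_mul,
      Polynomial.leadingCoeff_C, Polynomial.leadingCoeff_X_pow, mul_one]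
    exact ha.le
  have ht := (R.tendsto_atBot_of_leadingCoeff_nonpos hdeg hlead).comp
    (tendsto_natCast_atTop_atTop (R := ℚ))
  have hev := (tendsto_atBot.1 ht (-1))
  obtain ⟨P0, hP0⟩ := eventually_atTop.1 hev
  refine ⟨P0, fun p hp => ?_⟩
  have := hP0 p hp
  simp only [Function.comp_apply, R, eval_add, eval_mul, eval_C, eval_pow, eval_X] at this
  linarith


end

open PowerSeries

/-- Sign of the even Bernoulli numbers, from the values of zeta at even integers. -/
theorem bernoulli_sign (k : ℕ) (hk : k ≠ 0) : 0 < (-1 : ℚ) ^ (k + 1) * bernoulli (2 * k) := by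
  have hs := hasSum_zeta_nat hk
  have hpos : (0 : ℝ) < (-1 : ℝ) ^ (k + 1) * (2 : ℝ) ^ (2 * k - 1) * Real.pi ^ (2 * k) *
        bernoulli (2 * k) / (Nat.factorial (2 * k) : ℝ) := by
    have h1 := sum_le_hasSum {1} (fun i _ => by positivity) hs
    simp only [Finset.sum_singleton, Nat.cast_one, one_pow, div_one] at h1
    linarith
  have hfac : (0 : ℝ) < (2 : ℝ) ^ (2 * k - 1) * Real.pi ^ (2 * k) / (Nat.factorial (2 * k) : ℝ) := by
    positivity
  have hreal : (0 : ℝ) < (-1 : ℝ) ^ (k + 1) * bernoulli (2 * k) := by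
    have e : (-1 : ℝ) ^ (k + 1) * (2 : ℝ) ^ (2 * k - 1) * Real.pi ^ (2 * k) *
        bernoulli (2 * k) / (Nat.factorial (2 * k) : ℝ) =
        ((-1 : ℝ) ^ (k + 1) * bernoulli (2 * k)) *
          ((2 : ℝ) ^ (2 * k - 1) * Real.pi ^ (2 * k) / (Nat.factorial (2 * k) : ℝ)) := by ring
    rw [e] at hpos
    exact (pos_iff_pos_of_mul_pos hpos).2 hfac
  exact_mod_cast hreal

theorem bernoulli'_neg_of_mod_four_eq_zero (n : ℕ) (hn : 0 < n) (h : n % 4 = 0) :
    bernoulli' n < 0 := by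
  obtain ⟨j, rfl⟩ : ∃ j, n = 4 * j := ⟨n / 4, by omega⟩
  have hj : j ≠ 0 := by omega
  have h1 := bernoulli_sign (2 * j) (by omega)
  have e : (-1 : ℚ) ^ (2 * j + 1) = -1 := by
    rw [pow_succ, pow_mul]; norm_num
  rw [e, show 2 * (2 * j) = 4 * j by ring,
    bernoulli_eq_bernoulli'_of_ne_one (by omega : 4 * j ≠ 1)] at h1
  linarith

theorem bernoulli'_pos_of_mod_four_eq_two (n : ℕ) (h : n % 4 = 2) :
    0 < bernoulli' n := by
  obtain ⟨j, rfl⟩ : ∃ j, n = 4 * j + 2 := ⟨n / 4, by omega⟩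
  have h1 := bernoulli_sign (2 * j + 1) (by omega)
  have e : (-1 : ℚ) ^ (2 * j + 1 + 1) = 1 := by
    rw [show 2 * j + 1 + 1 = 2 * (j + 1) by ring, pow_mul]; norm_num
  rw [e, show 2 * (2 * j + 1) = 4 * j + 2 by ring,
    bernoulli_eq_bernoulli'_of_ne_one (by omega : 4 * j + 2 ≠ 1)] at h1
  linarith


theorem todd_eventually_neg (n d : ℕ) (s : ℤ) (hn : 2 ≤ n) (hd : 1 ≤ d)
    (h : bernoulli' n < 0 ∨
      (bernoulli' n = 0 ∧ (2 * (s : ℚ) - d - n - 1) * bernoulli' (n - 1) < 0)) :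
    ∃ P0 : ℕ, ∀ p : ℕ, P0 ≤ p →
      coeff n ((rescale (-(d : ℚ)) (bernoulli'PowerSeries ℚ))⁻¹ *
        rescale (-((d : ℚ) * p)) (bernoulli'PowerSeries ℚ) * bernoulli'PowerSeries ℚ ^ (n + 1) *
        rescale ((d : ℚ) * p - d - n - 1 + s) (PowerSeries.exp ℚ)) < 0 := by
  obtain ⟨P, hP, hform⟩ := todd_structure n d s hn
  obtain ⟨m, rfl⟩ : ∃ m, n = m + 2 := ⟨n - 2, by omega⟩
  have hdpos : (0 : ℚ) < d := by exact_mod_cast hd
  simp only [show m + 2 - 1 = m + 1 by omega, show m + 2 - 2 = m by omega] at hP hform h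
  rcases h with h | ⟨h0, h1⟩
  · -- leading term of degree n
    let Q : Polynomial ℚ := Polynomial.C ((2 * (s : ℚ) - d - (m + 2 : ℕ) - 1) / 2 *
      bernoulli' (m + 1) * (d : ℚ) ^ (m + 1) / (Nat.factorial (m + 1) : ℚ)) *
        Polynomial.X ^ (m + 1) + P
    have hQ : Q.natDegree ≤ m + 1 := by
      refine le_trans (Polynomial.natDegree_add_le _ _) (max_le ?_ (by omega))
      exact Polynomial.natDegree_C_mul_X_pow_le _ _
    have ha : bernoulli' (m + 2) * (d : ℚ) ^ (m + 2) / (Nat.factorial (m + 2) : ℚ) < 0 := by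
      apply div_neg_of_neg_of_pos
      · exact mul_neg_of_neg_of_pos h (by positivity)
      · positivity
    obtain ⟨P0, hP0⟩ := eventually_neg_of_leading Q (m + 1) hQ _ ha
    refine ⟨P0, fun p hp => ?_⟩
    rw [hform p]
    have := hP0 p hp
    simp only [Q, Polynomial.eval_add, Polynomial.eval_mul, Polynomial.eval_C, Polynomial.eval_pow,
      Polynomial.eval_X] at this
    convert this using 1
    rw [mul_pow, mul_pow]
    ring
  · -- leading term of degree n - 1
    have ha : (2 * (s : ℚ) - d - (m + 2 : ℕ) - 1) / 2 * bernoulli' (m + 1) * (d : ℚ) ^ (m + 1) /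
        (Nat.factorial (m + 1) : ℚ) < 0 := by
      apply div_neg_of_neg_of_pos
      · apply mul_neg_of_neg_of_pos _ (by positivity)
        have : (2 * (s : ℚ) - d - (m + 2 : ℕ) - 1) / 2 * bernoulli' (m + 1) =
            ((2 * (s : ℚ) - d - (m + 2 : ℕ) - 1) * bernoulli' (m + 1)) / 2 := by ring
        rw [this]
        exact div_neg_of_neg_of_pos h1 (by norm_num)
      · positivity
    obtain ⟨P0, hP0⟩ := eventually_neg_of_leading P m hP _ ha
    refine ⟨P0, fun p hp => ?_⟩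
    rw [hform p, h0]
    have := hP0 p hp
    convert this using 1
    rw [mul_pow]
    ring

end Groth.Agent.Helper8
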