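import Mathlib
import Groth.Prelude
import Groth.Agent.Lib.Helper8.DeltaInv1

/-!
# Models of the normalization of the reduction of a ring: the general case
-/

set_option autoImplicit false

universe u

namespace Groth.Agent.Helper8.BrCpl

open IsLocalRing

section model

variable (X : Type u) [CommRing X] (N' : Type u) [CommRing N'] (g : X →+* N')

/-- Any normal ring which is integral and birational over `X_red` is the normalization of
`X_red`. -/
theorem exists_equiv_normRed (hN : EGA4.IsNormalRing N') (hker : RingHom.ker g = nilradical X)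
    (hint : g.IsIntegral) (c : X) (hc : g c ∈ nonZeroDivisors N')
    (hbir : ∀ y : N', ∃ z : X, g z = g c * y) :
    ∃ e : CAlg2.normRed X ≃+* N', ∀ a : X,
      e (algebraMap (CAlg2.red X) (CAlg2.normRed X) (Ideal.Quotient.mk _ a)) = g a := by
  -- the induced map on the reduction
  let gbar : CAlg2.red X →+* N' := Ideal.Quotient.lift (nilradical X) g (by
    intro a ha
    rw [← hker] at ha
    exact ha)
  have hgbar : ∀ a : X, gbar (Ideal.Quotient.mk _ a) = g a := fun a => rfl
  have hgbar_inj : Function.Injective gbar := by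
    rw [injective_iff_map_eq_zero]
    intro d hd
    obtain ⟨a, rfl⟩ := Ideal.Quotient.mk_surjective d
    rw [hgbar] at hd
    rw [Ideal.Quotient.eq_zero_iff_mem, ← hker]
    exact hd
  letI : Algebra (CAlg2.red X) N' := gbar.toAlgebra
  have halg : ∀ d : CAlg2.red X, algebraMap (CAlg2.red X) N' d = gbar d := fun d => rfl
  haveI : FaithfulSMul (CAlg2.red X) N' :=
    (faithfulSMul_iff_algebraMap_injective _ _).mpr hgbar_inj
  haveI : Algebra.IsIntegral (CAlg2.red X) N' := by
    constructor
    intro y
    obtain ⟨p, hp, hpy⟩ := hint y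
    refine ⟨p.map (Ideal.Quotient.mk (nilradical X)), hp.map _, ?_⟩
    rw [Polynomial.eval₂_map]
    exact hpy
  have hinjF := IsFractionRing.injective N' (FractionRing N')
  -- conductor
  have hcond : ∀ y : N', ∃ b : CAlg2.red X, g c * y = gbar b := by
    intro y
    obtain ⟨b, hb⟩ := hbir y
    exact ⟨Ideal.Quotient.mk _ b, hb.symm⟩
  -- nonzerodivisors go to nonzerodivisors
  have hnzd : ∀ a : CAlg2.red X, a ∈ nonZeroDivisors (CAlg2.red X) →
      gbar a ∈ nonZeroDivisors N' := by
    intro a ha
    rw [mem_nonZeroDivisors_iff_right]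
    intro y hy
    obtain ⟨b, hb⟩ := hcond y
    have h1 : gbar (b * a) = 0 := by
      rw [map_mul, ← hb, mul_assoc, hy, mul_zero]
    have h2 : b * a = 0 := hgbar_inj (h1.trans (map_zero _).symm)
    have h3 : b = 0 := (mem_nonZeroDivisors_iff_right.mp ha) b h2
    rw [h3, map_zero] at hb
    rw [mul_comm] at hb
    exact (mem_nonZeroDivisors_iff_right.mp hc) y hb
  have hnzd' : ∀ (n : N') (b : CAlg2.red X), n ∈ nonZeroDivisors N' → g c * n = gbar b →
      b ∈ nonZeroDivisors (CAlg2.red X) := by
    intro n b hn hb
    rw [mem_nonZeroDivisors_iff_right]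
    intro x hx
    have h1 : gbar x * (g c * n) = 0 := by
      rw [hb, ← map_mul, hx, map_zero]
    have h2 : gbar x * g c = 0 := by
      rw [← mul_assoc] at h1
      exact (mem_nonZeroDivisors_iff_right.mp hn) _ h1
    have h3 : gbar x = 0 := (mem_nonZeroDivisors_iff_right.mp hc) _ h2
    exact hgbar_inj (h3.trans (map_zero _).symm)
  haveI : IsFractionRing (CAlg2.red X) (FractionRing N') := by
    refine (isLocalization_iff (nonZeroDivisors (CAlg2.red X)) (FractionRing N')).mpr ⟨?_, ?_, ?_⟩
    · rintro ⟨a, ha⟩
      rw [IsScalarTower.algebraMap_apply (CAlg2.red X) N' (FractionRing N')]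
      exact IsLocalization.map_units (FractionRing N') ⟨gbar a, hnzd a ha⟩
    · intro z
      obtain ⟨⟨n₁, ⟨n₂, hn₂⟩⟩, hz⟩ := IsLocalization.surj (nonZeroDivisors N') z
      simp only at hz
      obtain ⟨b₁, hb₁⟩ := hcond n₁
      obtain ⟨b₂, hb₂⟩ := hcond n₂
      refine ⟨(b₁, ⟨b₂, hnzd' n₂ b₂ hn₂ hb₂⟩), ?_⟩
      simp only
      rw [IsScalarTower.algebraMap_apply (CAlg2.red X) N' (FractionRing N'),
        IsScalarTower.algebraMap_apply (CAlg2.red X) N' (FractionRing N'), halg, halg,
        ← hb₁, ← hb₂, map_mul, map_mul, ← hz]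
      ring
    · intro x y hxy
      rw [IsScalarTower.algebraMap_apply (CAlg2.red X) N' (FractionRing N'),
        IsScalarTower.algebraMap_apply (CAlg2.red X) N' (FractionRing N')] at hxy
      have := hgbar_inj (hinjF hxy)
      exact ⟨1, by rw [this]⟩
  -- `N'` is the integral closure of the reduction in the fraction ring of `N'`
  haveI : IsIntegralClosure N' (CAlg2.red X) (FractionRing N') :=
    { algebraMap_injective := hinjF
      isIntegral_iff := by
        intro x
        constructor
        · intro hx
          have hx' : IsIntegral N' x := hx.tower_top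
          have := Groth.Agent.Helper8.DeltaInv.mem_range_of_isIntegral (B := N')
            (QB := FractionRing N') (T := N') (Algebra.ofId N' (FractionRing N')) hinjF
            (fun M _ => hN M) x hx'
          obtain ⟨y, hy⟩ := this
          exact ⟨y, hy⟩
        · rintro ⟨y, rfl⟩
          exact (Algebra.IsIntegral.isIntegral (R := CAlg2.red X) y).algebraMap }
  let f : FractionRing (CAlg2.red X) ≃ₐ[CAlg2.red X] FractionRing N' :=
    FractionRing.algEquiv (CAlg2.red X) (FractionRing N')
  letI : Algebra (CAlg2.normRed X) (FractionRing N') :=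
    (f.toAlgHom.toRingHom.comp
      (algebraMap (CAlg2.normRed X) (FractionRing (CAlg2.red X)))).toAlgebra
  haveI : IsScalarTower (CAlg2.red X) (CAlg2.normRed X) (FractionRing N') :=
    IsScalarTower.of_algebraMap_eq (fun d => by
      change algebraMap _ (FractionRing N') d =
        f (algebraMap (CAlg2.normRed X) (FractionRing (CAlg2.red X))
          (algebraMap (CAlg2.red X) (CAlg2.normRed X) d))
      rw [← IsScalarTower.algebraMap_apply (CAlg2.red X) (CAlg2.normRed X)
        (FractionRing (CAlg2.red X)), f.commutes])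
  haveI : IsIntegralClosure (CAlg2.normRed X) (CAlg2.red X) (FractionRing N') :=
    IsIntegralClosure.of_algEquiv (A := CAlg2.normRed X) (R := CAlg2.red X)
      (B := FractionRing (CAlg2.red X)) f (fun x => rfl)
  let e : CAlg2.normRed X ≃ₐ[CAlg2.red X] N' :=
    IsIntegralClosure.equiv (CAlg2.red X) (CAlg2.normRed X) (FractionRing N') N'
  refine ⟨e.toRingEquiv, fun a => ?_⟩
  change e (algebraMap (CAlg2.red X) (CAlg2.normRed X) (Ideal.Quotient.mk _ a)) = g a
  rw [e.commutes, halg, hgbar]

end model

end Groth.Agent.Helper8.BrCpl
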