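import Mathlib
import Groth.Prelude
import Groth.Agent.Lib.Helper8.BrCpl1
import Groth.Agent.Lib.Helper8.NormRed2
import Groth.Agent.Lib.Helper8.Nag5
import Groth.Agent.Lib.Helper8.Nag8
import Groth.Agent.Lib.Helper8.NormBase3
import Groth.Agent.Lib.Helper8.Cpl2
import Groth.Agent.Lib.Helper8.UB7

/-!
# The normalization of the completion of a reduced local ring with geometrically normal formal
fibres
-/

set_option autoImplicit false

universe u

namespace Groth.Agent.Helper8.BrCpl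

open IsLocalRing TensorProduct

section reduced

variable (R : Type u) [CommRing R] [IsNoetherianRing R] [IsLocalRing R] [IsReduced R]

/-- The normalization of `R` in its total ring of fractions. -/
abbrev Nrm : Type u := integralClosure R (FractionRing R)

/-- A conductor element for a finite normalization. -/
theorem exists_conductor (hfin : Module.Finite R (Nrm R)) :
    ∃ d : R, d ∈ nonZeroDivisors R ∧ ∀ c : Nrm R, ∃ r : R,
      algebraMap R (Nrm R) r = d • c := by
  classical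
  obtain ⟨s, hs⟩ := hfin.fg_top
  obtain ⟨b, hb⟩ := IsLocalization.exist_integer_multiples_of_finset (nonZeroDivisors R)
    (s.image (fun c : Nrm R => (c : FractionRing R)))
  refine ⟨b, b.2, fun c => ?_⟩
  have hc : c ∈ Submodule.span R (s : Set (Nrm R)) := by
    rw [hs]; trivial
  induction hc using Submodule.span_induction with
  | mem x hx =>
    obtain ⟨r, hr⟩ := hb x (Finset.mem_image_of_mem _ hx)
    refine ⟨r, Subtype.ext ?_⟩
    simpa using hr
  | zero => exact ⟨0, by simp⟩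
  | add x y _ _ hx hy =>
    obtain ⟨r1, h1⟩ := hx
    obtain ⟨r2, h2⟩ := hy
    exact ⟨r1 + r2, by rw [map_add, h1, h2, smul_add]⟩
  | smul a x _ hx =>
    obtain ⟨r, hr⟩ := hx
    exact ⟨a * r, by rw [map_mul, hr, ← Algebra.smul_def, smul_comm]⟩

theorem isNormalRing_nrm : EGA4.IsNormalRing (Nrm R) := by
  intro P _
  have hfin : (minimalPrimes R).Finite := minimalPrimes.finite_of_isNoetherianRing R
  haveI : Ring.KrullDimLE 0 (FractionRing R) :=
    Groth.Agent.Helper8.NormRed.krullDimLE_zero_fractionRing R hfin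
  exact Groth.Agent.Helper8.NormRed.normal_localization_atPrime (Nrm R) (FractionRing R) P

variable (hR : EGA4.HasGeomNormalFormalFibres R)

include hR in
theorem finite_nrm : Module.Finite R (Nrm R) :=
  (Groth.Agent.Helper8.Nag.isReduced_cpl_and_finite_of_geomNormal R hR).2

include hR in
theorem isReduced_cpl : IsReduced (EGA4.Cpl R) :=
  (Groth.Agent.Helper8.Nag.isReduced_cpl_and_finite_of_geomNormal R hR).1

include hR in
theorem isNormalRing_tensor_cpl : EGA4.IsNormalRing (Nrm R ⊗[R] EGA4.Cpl R) := by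
  haveI := finite_nrm R hR
  haveI : IsNoetherianRing (EGA4.Cpl R) := Groth.Agent.Helper8.AdicReg.isNoetherianRing R _
  haveI : IsNoetherianRing (Nrm R) :=
    isNoetherian_of_tower R (isNoetherian_of_isNoetherianRing_of_finite R (Nrm R))
  haveI : IsNoetherianRing (Nrm R ⊗[R] EGA4.Cpl R) :=
    Groth.Agent.Helper8.Nag.isNoetherianRing_tensor_cpl R (Nrm R)
  have hN : EGA4.IsNormalHom R (EGA4.Cpl R) := ⟨inferInstance, hR⟩
  have hN' := Groth.Agent.Helper8.NormBase.isNormalHom_baseChange R (EGA4.Cpl R) (Nrm R) hN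
  haveI : Module.Flat (Nrm R) (Nrm R ⊗[R] EGA4.Cpl R) := hN'.1
  exact Groth.Agent.Helper8.Cpl.isNormalRing_of_flat_of_fibres (Nrm R) (Nrm R ⊗[R] EGA4.Cpl R)
    (isNormalRing_nrm R)
    (fun P _ => Groth.Agent.Helper8.Cpl.isNormalRing_of_isGeomNormal _ _ (hN'.2 P))

/-- The comparison map `R^ → R' ⊗ R^`. -/
noncomputable def gmap : EGA4.Cpl R →+* Nrm R ⊗[R] EGA4.Cpl R :=
  (Algebra.TensorProduct.includeRight : EGA4.Cpl R →ₐ[R] Nrm R ⊗[R] EGA4.Cpl R).toRingHom

theorem gmap_apply (x : EGA4.Cpl R) : gmap R x = (1 : Nrm R) ⊗ₜ[R] x := rfl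

theorem gmap_injective : Function.Injective (gmap R) := by
  have h1 : Function.Injective ((Algebra.linearMap R (Nrm R)).rTensor (EGA4.Cpl R)) :=
    Module.Flat.rTensor_preserves_injective_linearMap _
      (fun a b h => IsFractionRing.injective R (FractionRing R) (congrArg Subtype.val h))
  intro x y hxy
  have h2 : (Algebra.linearMap R (Nrm R)).rTensor (EGA4.Cpl R) ((1 : R) ⊗ₜ[R] x) =
      (Algebra.linearMap R (Nrm R)).rTensor (EGA4.Cpl R) ((1 : R) ⊗ₜ[R] y) := by
    rw [LinearMap.rTensor_tmul, LinearMap.rTensor_tmul, Algebra.linearMap_apply, map_one]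
    exact hxy
  have h3 := congrArg (TensorProduct.lid R (EGA4.Cpl R)) (h1 h2)
  simpa using h3

theorem gmap_algebraMap (d : R) : gmap R (algebraMap R (EGA4.Cpl R) d) =
    (algebraMap R (Nrm R) d) ⊗ₜ[R] (1 : EGA4.Cpl R) := by
  rw [gmap_apply]
  calc (1 : Nrm R) ⊗ₜ[R] algebraMap R (EGA4.Cpl R) d
      = (1 : Nrm R) ⊗ₜ[R] (d • (1 : EGA4.Cpl R)) := by rw [Algebra.algebraMap_eq_smul_one]
    _ = (d • (1 : Nrm R)) ⊗ₜ[R] (1 : EGA4.Cpl R) := (TensorProduct.smul_tmul _ _ _).symm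
    _ = (algebraMap R (Nrm R) d) ⊗ₜ[R] (1 : EGA4.Cpl R) := by
        rw [← Algebra.algebraMap_eq_smul_one]

theorem algebraMap_mem_nonZeroDivisors_nrm (d : R) (hd : d ∈ nonZeroDivisors R) :
    algebraMap R (Nrm R) d ∈ nonZeroDivisors (Nrm R) := by
  rw [mem_nonZeroDivisors_iff_right]
  intro x hx
  have h1 : (x : FractionRing R) * algebraMap R (FractionRing R) d = 0 := by
    have := congrArg (Subtype.val) hx
    simpa using this
  have hu : IsUnit (algebraMap R (FractionRing R) d) :=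
    IsLocalization.map_units (FractionRing R) ⟨d, hd⟩
  have h2 := (hu.mul_left_eq_zero).mp h1
  exact Subtype.ext h2

theorem gmap_algebraMap_mem_nonZeroDivisors (d : R) (hd : d ∈ nonZeroDivisors R) :
    gmap R (algebraMap R (EGA4.Cpl R) d) ∈ nonZeroDivisors (Nrm R ⊗[R] EGA4.Cpl R) := by
  have hdN := algebraMap_mem_nonZeroDivisors_nrm R d hd
  rw [gmap_algebraMap, mem_nonZeroDivisors_iff_right]
  intro y hy
  haveI : Module.Flat (Nrm R) (Nrm R ⊗[R] EGA4.Cpl R) := inferInstance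
  have hreg := Module.Flat.isSMulRegular_of_nonZeroDivisors (M := Nrm R ⊗[R] EGA4.Cpl R) hdN
  have key : ∀ y : Nrm R ⊗[R] EGA4.Cpl R, (algebraMap R (Nrm R) d) • y =
      ((algebraMap R (Nrm R) d) ⊗ₜ[R] (1 : EGA4.Cpl R)) * y := fun y => by
    have h1 : (algebraMap R (Nrm R) d) ⊗ₜ[R] (1 : EGA4.Cpl R) =
        algebraMap (Nrm R) (Nrm R ⊗[R] EGA4.Cpl R) (algebraMap R (Nrm R) d) := by
      rw [Algebra.TensorProduct.algebraMap_apply]
      rfl
    rw [h1, ← Algebra.smul_def]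
  apply hreg
  show (algebraMap R (Nrm R) d) • y = (algebraMap R (Nrm R) d) • (0 : Nrm R ⊗[R] EGA4.Cpl R)
  rw [smul_zero, key, mul_comm]
  exact hy

theorem gmap_mul_tmul_mem_range (d : R) (x : Nrm R) (ρ : EGA4.Cpl R) (r : R)
    (hr : algebraMap R (Nrm R) r = d • x) :
    ∃ z : EGA4.Cpl R, gmap R z = gmap R (algebraMap R (EGA4.Cpl R) d) * (x ⊗ₜ[R] ρ) := by
  have e1 : (algebraMap R (Nrm R) d) ⊗ₜ[R] (1 : EGA4.Cpl R) * (x ⊗ₜ[R] ρ) =
      (algebraMap R (Nrm R) d * x) ⊗ₜ[R] ρ := by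
    rw [Algebra.TensorProduct.tmul_mul_tmul, one_mul]
  have e2 : algebraMap R (Nrm R) d * x = algebraMap R (Nrm R) r := by
    rw [hr, Algebra.smul_def]
  have e3 : (algebraMap R (Nrm R) r) ⊗ₜ[R] ρ = (1 : Nrm R) ⊗ₜ[R] (r • ρ) := by
    rw [Algebra.algebraMap_eq_smul_one, TensorProduct.smul_tmul]
  exact ⟨r • ρ, by rw [gmap_apply, gmap_algebraMap, e1, e2, e3]⟩

set_option synthInstance.maxHeartbeats 400000 in
theorem gmap_mul_mem_range (d : R) (hcond : ∀ c : Nrm R, ∃ r : R,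
    algebraMap R (Nrm R) r = d • c) (y : Nrm R ⊗[R] EGA4.Cpl R) :
    ∃ z : EGA4.Cpl R, gmap R z = gmap R (algebraMap R (EGA4.Cpl R) d) * y := by
  induction y using TensorProduct.induction_on with
  | zero => exact ⟨0, by rw [map_zero, mul_zero]⟩
  | tmul x ρ =>
    obtain ⟨r, hr⟩ := hcond x
    exact gmap_mul_tmul_mem_range R d x ρ r hr
  | add y z hy hz =>
    obtain ⟨z1, h1⟩ := hy
    obtain ⟨z2, h2⟩ := hz
    exact ⟨z1 + z2, by rw [RingHom.map_add, h1, h2, mul_add]⟩

include hR in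
/-- **The model.** -/
theorem exists_equiv_normRed_cpl :
    ∃ e : CAlg2.normRed (EGA4.Cpl R) ≃+* Nrm R ⊗[R] EGA4.Cpl R, ∀ x : EGA4.Cpl R,
      e (algebraMap (CAlg2.red (EGA4.Cpl R)) (CAlg2.normRed (EGA4.Cpl R))
        (Ideal.Quotient.mk _ x)) = gmap R x := by
  haveI := finite_nrm R hR
  haveI := isReduced_cpl R hR
  obtain ⟨d, hd, hcond⟩ := exists_conductor R (finite_nrm R hR)
  have hker : RingHom.ker (gmap R) = nilradical (EGA4.Cpl R) := by
    rw [(RingHom.injective_iff_ker_eq_bot _).mp (gmap_injective R), nilradical_eq_zero]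
    rfl
  have hint : RingHom.IsIntegral (R := EGA4.Cpl R) (A := Nrm R ⊗[R] EGA4.Cpl R) (gmap R) := by
    unfold gmap
    exact Groth.Agent.Helper8.UB.isIntegral_includeRight R (EGA4.Cpl R) (Nrm R)
  have hc := gmap_algebraMap_mem_nonZeroDivisors R d hd
  have hbir := gmap_mul_mem_range R d hcond
  exact exists_equiv_normRed (EGA4.Cpl R) (Nrm R ⊗[R] EGA4.Cpl R) (gmap R)
    (isNormalRing_tensor_cpl R hR) hker hint _ hc hbir

end reduced

end Groth.Agent.Helper8.BrCpl
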