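import Mathlib
import Groth.Prelude
import Groth.Agent.Lib.Helper8.BrCpl2
import Groth.Agent.Lib.Helper8.BrCpl3
import Groth.Agent.Lib.Helper8.HensCpl4
import Groth.Agent.Lib.Helper8.CplQuot1
import Groth.Agent.Lib.Helper8.EssFT4
import Groth.Agent.Lib.Helper4.RadBir1

/-!
# Branches of the completion of a local ring with geometrically normal formal fibres
-/

set_option autoImplicit false

universe u

namespace Groth.Agent.Helper8.BrCpl

open IsLocalRing TensorProduct

section tensorHom

variable (R C S Ω : Type u) [CommRing R] [CommRing C] [CommRing S] [CommRing Ω]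
  [Algebra R C] [Algebra R S] (c' : S →+* Ω)

/-- The two inclusions into the tensor product, as ring homomorphisms. -/
noncomputable def inclL : C →+* C ⊗[R] S :=
  (Algebra.TensorProduct.includeLeft : C →ₐ[R] C ⊗[R] S).toRingHom

noncomputable def inclR : S →+* C ⊗[R] S :=
  (Algebra.TensorProduct.includeRight : S →ₐ[R] C ⊗[R] S).toRingHom

theorem inclL_apply (c : C) : inclL R C S c = c ⊗ₜ[R] (1 : S) := rfl

theorem inclR_apply (s : S) : inclR R C S s = (1 : C) ⊗ₜ[R] s := rfl

theorem inclL_algebraMap (r : R) :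
    inclL R C S (algebraMap R C r) = inclR R C S (algebraMap R S r) := by
  rw [inclL_apply, inclR_apply, Algebra.algebraMap_eq_smul_one, Algebra.algebraMap_eq_smul_one,
    TensorProduct.smul_tmul]

theorem tmul_eq_mul (c : C) (s : S) : c ⊗ₜ[R] s = inclL R C S c * inclR R C S s := by
  rw [inclL_apply, inclR_apply, Algebra.TensorProduct.tmul_mul_tmul, mul_one, one_mul]

/-- Ring maps out of `C ⊗ S` restricting to a given map on `S`. -/
noncomputable def tensorHomEquiv :
    {τ : C ⊗[R] S →+* Ω // τ.comp (inclR R C S) = c'} ≃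
      {σ : C →+* Ω // σ.comp (algebraMap R C) = c'.comp (algebraMap R S)} where
  toFun τ := ⟨τ.1.comp (inclL R C S), by
    ext r
    simp only [RingHom.comp_apply]
    rw [inclL_algebraMap]
    exact RingHom.congr_fun τ.2 _⟩
  invFun σ :=
    letI : Algebra R Ω := (c'.comp (algebraMap R S)).toAlgebra
    let σ' : C →ₐ[R] Ω := { σ.1 with commutes' := fun r => RingHom.congr_fun σ.2 r }
    let c'' : S →ₐ[R] Ω := { c' with commutes' := fun r => rfl }
    ⟨(Algebra.TensorProduct.lift σ' c'' (fun _ _ => Commute.all _ _)).toRingHom, by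
      ext s
      simp only [RingHom.comp_apply, inclR_apply]
      change (Algebra.TensorProduct.lift σ' c'' _) ((1 : C) ⊗ₜ[R] s) = c' s
      rw [Algebra.TensorProduct.lift_tmul, map_one, one_mul]
      rfl⟩
  left_inv τ := by
    apply Subtype.ext
    apply RingHom.ext
    intro z
    induction z using TensorProduct.induction_on with
    | zero => simp
    | tmul c s =>
      letI : Algebra R Ω := (c'.comp (algebraMap R S)).toAlgebra
      simp only
      change (Algebra.TensorProduct.lift _ _ _) (c ⊗ₜ[R] s) = _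
      rw [Algebra.TensorProduct.lift_tmul, tmul_eq_mul, map_mul]
      congr 1
      exact (RingHom.congr_fun τ.2 s).symm
    | add x y hx hy =>
      rw [map_add, map_add, hx, hy]
  right_inv σ := by
    apply Subtype.ext
    apply RingHom.ext
    intro c
    letI : Algebra R Ω := (c'.comp (algebraMap R S)).toAlgebra
    simp only [RingHom.comp_apply, inclL_apply]
    change (Algebra.TensorProduct.lift _ _ _) (c ⊗ₜ[R] (1 : S)) = _
    rw [Algebra.TensorProduct.lift_tmul, map_one, mul_one]
    rfl

end tensorHom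

section final

open Groth.Agent.Lib.Helper4.GeomBranch2 Groth.Agent.Lib.Helper4.BranchSum1
  Groth.Agent.Lib.Helper4.BranchSum2 Groth.Agent.Lib.Helper4.RadBir1

variable (A : Type u) [CommRing A] [IsNoetherianRing A] [IsLocalRing A]

instance nontrivial_red_general : Nontrivial (CAlg2.red A) :=
  Ideal.Quotient.nontrivial_iff.mpr (by
    intro h
    have h1 : (1 : A) ∈ nilradical A := by rw [h]; trivial
    rw [mem_nilradical] at h1
    obtain ⟨n, hn⟩ := h1
    rw [one_pow] at hn
    exact one_ne_zero hn)

instance isReduced_red_general : IsReduced (CAlg2.red A) :=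
  (Ideal.isRadical_iff_quotient_reduced (nilradical A)).mp (Ideal.radical_isRadical ⊥)

/-- The map `Â → (A_red)^`. -/
noncomputable def psiRed : EGA4.Cpl A →+* EGA4.Cpl (CAlg2.red A) :=
  (Groth.Agent.Helper8.CplQuot.psi A (nilradical A)).toRingHom

theorem psiRed_surjective : Function.Surjective (psiRed A) :=
  Groth.Agent.Helper8.CplQuot.psi_surjective A (nilradical A)

theorem ker_psiRed_le : RingHom.ker (psiRed A) ≤ nilradical (EGA4.Cpl A) := by
  unfold psiRed
  rw [Groth.Agent.Helper8.CplQuot.ker_psi, Ideal.map_le_iff_le_comap]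
  intro a ha
  rw [Ideal.mem_comap, mem_nilradical]
  exact (mem_nilradical.mp ha).map _

theorem psiRed_algebraMap (a : A) :
    psiRed A (algebraMap A (EGA4.Cpl A) a) =
      algebraMap (CAlg2.red A) (EGA4.Cpl (CAlg2.red A)) (Ideal.Quotient.mk _ a) :=
  RingHom.congr_fun (Groth.Agent.Helper8.CplQuot.psi_comp_algebraMap A (nilradical A)) a

theorem finite_minimalPrimes_cpl : (minimalPrimes (EGA4.Cpl A)).Finite := by
  haveI : IsNoetherianRing (EGA4.Cpl A) := Groth.Agent.Helper8.AdicReg.isNoetherianRing A _
  exact minimalPrimes.finite_of_isNoetherianRing _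

variable (hA : EGA4.HasGeomNormalFormalFibres A)

include hA in
theorem hasGeomNormalFormalFibres_red_general : EGA4.HasGeomNormalFormalFibres (CAlg2.red A) :=
  Groth.Agent.Helper8.EssFT.hasGeomNormalFormalFibres_of_essFiniteType A hA _

include hA in
/-- **S9244, first half.** -/
theorem numBranches_cpl_eq :
    Brnch.numBranches (EGA4.Cpl A) = Brnch.numBranches A := by
  have hR := hasGeomNormalFormalFibres_red_general A hA
  haveI := finite_nrm (CAlg2.red A) hR
  obtain ⟨e, -⟩ := exists_equiv_normRed_cpl (CAlg2.red A) hR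
  unfold Brnch.numBranches
  rw [if_pos (finite_minimalPrimes_cpl A), if_pos (minimalPrimes.finite_of_isNoetherianRing A),
    card_maxSpec_normRed_of_surj (psiRed A) (psiRed_surjective A) (ker_psiRed_le A),
    ENat.card_congr (maxSpecEquiv (B := CAlg2.normRed (EGA4.Cpl (CAlg2.red A)))
      (C := Nrm (CAlg2.red A) ⊗[CAlg2.red A] EGA4.Cpl (CAlg2.red A)) e)]
  exact ENat.card_congr (maxSpecTensorEquiv (CAlg2.red A) (Nrm (CAlg2.red A))).symm

/-- The isomorphism of residue fields of `A` and its completion. -/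
noncomputable def resEquiv : ResidueField A ≃+* ResidueField (EGA4.Cpl A) :=
  RingEquiv.ofBijective (algebraMap (ResidueField A) (ResidueField (EGA4.Cpl A)))
    ⟨(algebraMap (ResidueField A) (ResidueField (EGA4.Cpl A))).injective,
      Groth.Agent.Helper8.HensCpl.residue_algebraMap_surjective A⟩

theorem resEquiv_residue (a : A) :
    resEquiv A (residue A a) = residue (EGA4.Cpl A) (algebraMap A (EGA4.Cpl A) a) :=
  ResidueField.algebraMap_residue a

/-- The isomorphism of the algebraic closures of the residue fields. -/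
noncomputable def closEquiv :
    AlgebraicClosure (ResidueField A) ≃+* AlgebraicClosure (ResidueField (EGA4.Cpl A)) :=
  IsAlgClosure.equivOfEquiv _ _ (resEquiv A)

theorem closEquiv_comp_toClosure :
    (closEquiv A).toRingHom.comp (Brnch.toClosure A) =
      (Brnch.toClosure (EGA4.Cpl A)).comp (algebraMap A (EGA4.Cpl A)) := by
  have h1 := IsAlgClosure.equivOfEquiv_comp_algebraMap (AlgebraicClosure (ResidueField A))
    (AlgebraicClosure (ResidueField (EGA4.Cpl A))) (resEquiv A)
  ext a
  have h2 := RingHom.congr_fun h1 (residue A a)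
  simp only [RingHom.comp_apply, RingHom.coe_coe, resEquiv_residue] at h2
  exact h2

/-- The map `(A_red)^ → Ω̂` induced by `toClosure Â`. -/
noncomputable def cRed : EGA4.Cpl (CAlg2.red A) →+*
    AlgebraicClosure (ResidueField (EGA4.Cpl A)) :=
  (psiRed A).liftOfSurjective (psiRed_surjective A)
    ⟨Brnch.toClosure (EGA4.Cpl A), by
      rw [ker_toClosure]
      refine (ker_psiRed_le A).trans ?_
      rw [nilradical_eq_sInf]
      exact sInf_le (Ideal.IsMaximal.isPrime' _)⟩

theorem cRed_comp_psiRed : (cRed A).comp (psiRed A) = Brnch.toClosure (EGA4.Cpl A) :=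
  RingHom.liftOfSurjective_comp _ _ _

include hA in
/-- **S9244, second half.** -/
theorem numGeomBranches_cpl_eq :
    Brnch.numGeomBranches (EGA4.Cpl A) = Brnch.numGeomBranches A := by
  have hR := hasGeomNormalFormalFibres_red_general A hA
  haveI := finite_nrm (CAlg2.red A) hR
  obtain ⟨e, he⟩ := exists_equiv_normRed_cpl (CAlg2.red A) hR
  -- the four sets of ring homomorphisms
  have h0 : Brnch.numGeomBranches (EGA4.Cpl A) =
      ENat.card {τ : CAlg2.normRed (EGA4.Cpl A) →+* AlgebraicClosure (ResidueField (EGA4.Cpl A)) //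
        τ.comp (@algebraMap _ _ _ _ (normRedAlgebra (EGA4.Cpl A))) =
          Brnch.toClosure (EGA4.Cpl A)} :=
    numGeomBranches_eq_card_hom (EGA4.Cpl A) (finite_minimalPrimes_cpl A)
  have h1 := card_hom_normRed_of_surj (psiRed A) (psiRed_surjective A) (ker_psiRed_le A)
    (Brnch.toClosure (EGA4.Cpl A)) (cRed A) (cRed_comp_psiRed A)
  have hf2 : (e : CAlg2.normRed (EGA4.Cpl (CAlg2.red A)) ≃+*
        Nrm (CAlg2.red A) ⊗[CAlg2.red A] EGA4.Cpl (CAlg2.red A)).toRingHom.comp
      (@algebraMap _ _ _ _ (normRedAlgebra (EGA4.Cpl (CAlg2.red A)))) =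
      (gmap (CAlg2.red A)).comp (RingHom.id (EGA4.Cpl (CAlg2.red A))) :=
    RingHom.ext fun x => he x
  have h2 := ENat.card_congr (homTransport
    (N₁ := CAlg2.normRed (EGA4.Cpl (CAlg2.red A)))
    (N₂ := Nrm (CAlg2.red A) ⊗[CAlg2.red A] EGA4.Cpl (CAlg2.red A)) e
    (RingEquiv.refl (AlgebraicClosure (ResidueField (EGA4.Cpl A))))
    (RingHom.id (EGA4.Cpl (CAlg2.red A))) Function.surjective_id
    (@algebraMap _ _ _ _ (normRedAlgebra (EGA4.Cpl (CAlg2.red A)))) (cRed A)
    (gmap (CAlg2.red A)) (cRed A)
    hf2 rfl)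
  have h3 := ENat.card_congr (tensorHomEquiv (CAlg2.red A) (Nrm (CAlg2.red A))
    (EGA4.Cpl (CAlg2.red A)) (AlgebraicClosure (ResidueField (EGA4.Cpl A))) (cRed A))
  have h4 := ENat.card_congr (homTransport (RingEquiv.refl (CAlg2.normRed A)) (closEquiv A)
    (Ideal.Quotient.mk (nilradical A)) Ideal.Quotient.mk_surjective
    (@algebraMap _ _ _ _ (normRedAlgebra A)) (Brnch.toClosure A)
    (algebraMap (CAlg2.red A) (CAlg2.normRed A))
    ((cRed A).comp (algebraMap (CAlg2.red A) (EGA4.Cpl (CAlg2.red A))))
    rfl (by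
      rw [closEquiv_comp_toClosure, ← cRed_comp_psiRed]
      ext a
      simp only [RingHom.comp_apply]
      rw [psiRed_algebraMap]))
  have h5 : Brnch.numGeomBranches A =
      ENat.card {τ : CAlg2.normRed A →+* AlgebraicClosure (ResidueField A) //
        τ.comp (@algebraMap _ _ _ _ (normRedAlgebra A)) = Brnch.toClosure A} :=
    numGeomBranches_eq_card_hom A (minimalPrimes.finite_of_isNoetherianRing A)
  rw [h0, h5, h1, h2, h4]
  exact h3

end final

end Groth.Agent.Helper8.BrCpl
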