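import Mathlib
import Groth.Prelude

/-!
# Splitting off a one-dimensional component; flat base change of colon ideals
-/

set_option autoImplicit false

universe u

namespace Groth.Agent.Helper8.CurveComp

open IsLocalRing

section split

variable {C : Type*} [CommRing C] [IsLocalRing C] [IsNoetherianRing C]

/-- If `Q₁` is a minimal prime of a Noetherian local ring such that the only prime strictly above
it is the maximal ideal and `Q₂ ≠ Q₁` is another minimal prime, there are ideals `𝔞₁ ≤ Q₁`,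
`𝔞₂ ≤ Q₂` with zero product whose sum is primary to the maximal ideal. -/
theorem exists_split (Q₁ Q₂ : Ideal C) (h₁ : Q₁ ∈ minimalPrimes C) (h₂ : Q₂ ∈ minimalPrimes C)
    (hne : Q₁ ≠ Q₂)
    (hcurve : ∀ P : Ideal C, P.IsPrime → Q₁ < P → P = maximalIdeal C) :
    ∃ (𝔞₁ 𝔞₂ : Ideal C) (M : ℕ), 𝔞₁ ≤ Q₁ ∧ 𝔞₂ ≤ Q₂ ∧ 𝔞₁ * 𝔞₂ = ⊥ ∧
      (maximalIdeal C) ^ M ≤ 𝔞₁ ⊔ 𝔞₂ := by
  classical
  haveI := h₁.1.1
  haveI := h₂.1.1
  have hTfin : (minimalPrimes C \ {Q₁}).Finite :=
    (minimalPrimes.finite_of_isNoetherianRing C).subset Set.sdiff_subset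
  have hb2 : sInf (minimalPrimes C \ {Q₁}) ≤ Q₂ := sInf_le ⟨h₂, fun h => hne h.symm⟩
  have hnil : Q₁ ⊓ sInf (minimalPrimes C \ {Q₁}) ≤ nilradical C := by
    have : nilradical C = sInf (minimalPrimes C) := by
      rw [minimalPrimes, Ideal.sInf_minimalPrimes]; rfl
    rw [this]
    refine le_sInf fun P hP => ?_
    by_cases hPQ : P = Q₁
    · rw [hPQ]; exact inf_le_left
    · exact inf_le_right.trans (sInf_le ⟨hP, hPQ⟩)
  obtain ⟨r, hr⟩ := IsNoetherianRing.isNilpotent_nilradical C
  have hprod : Q₁ ^ (r + 1) * (sInf (minimalPrimes C \ {Q₁})) ^ (r + 1) = ⊥ := by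
    rw [eq_bot_iff, ← mul_pow]
    calc (Q₁ * sInf (minimalPrimes C \ {Q₁})) ^ (r + 1) ≤ (nilradical C) ^ (r + 1) :=
          Ideal.pow_right_mono (Ideal.mul_le_inf.trans hnil) _
      _ = ⊥ := by rw [pow_succ, hr, zero_mul, Ideal.zero_eq_bot]
  have hrad : maximalIdeal C ≤ (Q₁ ⊔ sInf (minimalPrimes C \ {Q₁})).radical := by
    rw [Ideal.radical_eq_sInf]
    refine le_sInf fun P hP => ?_
    obtain ⟨hle, hPprime⟩ := hP
    have hQ₁P : Q₁ ≤ P := le_sup_left.trans hle
    have hbP : sInf (minimalPrimes C \ {Q₁}) ≤ P := le_sup_right.trans hle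
    have hneP : Q₁ ≠ P := by
      intro heq
      rw [← heq] at hbP
      rw [← hTfin.coe_toFinset, ← Finset.inf_id_eq_sInf, (h₁.1.1).inf_le'] at hbP
      obtain ⟨Q, hQT, hQle⟩ := hbP
      rw [Set.Finite.mem_toFinset] at hQT
      have hQle' : Q ≤ Q₁ := hQle
      have : Q₁ ≤ Q := h₁.2 ⟨hQT.1.1.1, bot_le⟩ hQle'
      exact hQT.2 (le_antisymm hQle' this)
    rw [hcurve P hPprime (lt_of_le_of_ne hQ₁P hneP)]
  obtain ⟨N, hN⟩ := Ideal.exists_pow_le_of_le_radical_of_fg hrad
    (maximalIdeal C).fg_of_isNoetherianRing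
  refine ⟨Q₁ ^ (r + 1), (sInf (minimalPrimes C \ {Q₁})) ^ (r + 1), N * ((r + 1) + (r + 1)),
    Ideal.pow_le_self (Nat.succ_ne_zero r),
    (Ideal.pow_le_self (Nat.succ_ne_zero r)).trans hb2, hprod, ?_⟩
  rw [pow_mul]
  exact (Ideal.pow_right_mono hN _).trans Ideal.sup_pow_add_le_pow_sup_pow

end split

section colon

variable {D C : Type*} [CommRing D] [CommRing C] [Algebra D C] [Module.Flat D C]

/-- Flat base change of a colon ideal `(t) : I` for a finitely generated ideal `I`. -/
theorem mem_map_colon_of_flat (I : Ideal D) (hI : I.FG) (t : D) (z : C)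
    (h : ∀ g ∈ I, ∃ b : C, algebraMap D C g * z = algebraMap D C t * b) :
    z ∈ ((Ideal.span {t} : Ideal D).colon (I : Set D)).map (algebraMap D C) := by
  classical
  obtain ⟨n, g, hg⟩ := Submodule.fg_iff_exists_fin_generating_family.mp hI
  have hgI : ∀ j, g j ∈ I := fun j => hg ▸ Submodule.subset_span ⟨j, rfl⟩
  choose b hb using fun j => h (g j) (hgI j)
  let f : (Fin n → D) →ₗ[D] D × (Fin n → D) :=
    LinearMap.prod (Fintype.linearCombination D g) ((-t) • LinearMap.id)
  let xm : D × (Fin n → D) →ₗ[D] C :=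
    LinearMap.coprod (LinearMap.toSpanSingleton D C z) (Fintype.linearCombination D b)
  have hf : ∀ (j : Fin n) (r : D),
      f (Pi.single j r) = (r * g j, (-t) • (Pi.single j r : Fin n → D)) := by
    intro j r
    show (Fintype.linearCombination D g (Pi.single j r),
      (-t) • (Pi.single j r : Fin n → D)) = _
    rw [Fintype.linearCombination_apply_single, smul_eq_mul]
  have hxf : xm ∘ₗ f = 0 := by
    apply LinearMap.pi_ext
    intro j r
    rw [LinearMap.comp_apply, hf, LinearMap.zero_apply]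
    have e2 : xm (r * g j, (-t) • (Pi.single j r : Fin n → D)) =
        (r * g j) • z + (-t) • (r • b j) := by
      simp only [xm, LinearMap.coprod_apply, LinearMap.toSpanSingleton_apply, map_smul,
        Fintype.linearCombination_apply_single]
    rw [e2, Algebra.smul_def, Algebra.smul_def, Algebra.smul_def, map_mul, map_neg]
    have := hb j
    linear_combination (algebraMap D C r) * this
  obtain ⟨k, a, y, hxy, haf⟩ := Module.Flat.exists_factorization_of_comp_eq_zero_of_free hxf
  have hz : z = ∑ i, algebraMap D C (a (1, 0) i) * y (Finsupp.single i 1) := by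
    have h1 : xm (1, 0) = z := by
      simp [xm, LinearMap.coprod_apply, LinearMap.toSpanSingleton_apply]
    have h2 : xm (1, 0) = y (a (1, 0)) := by rw [hxy]; rfl
    rw [← h1, h2]
    conv_lhs => rw [← Finsupp.univ_sum_single (a (1, 0))]
    rw [map_sum]
    refine Finset.sum_congr rfl fun i _ => ?_
    have e : Finsupp.single i (a (1, 0) i) = (a (1, 0) i) • Finsupp.single i (1 : D) :=
      (Finsupp.smul_single_one i (a (1, 0) i)).symm
    rw [e, map_smul, Algebra.smul_def]
  have hαc : ∀ i, a (1, 0) i ∈ (Ideal.span {t} : Ideal D).colon (I : Set D) := by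
    intro i
    rw [Submodule.mem_colon]
    intro p hp
    have hp' : p ∈ Submodule.span D (Set.range g) := by rw [hg]; exact hp
    refine Submodule.span_induction
      (p := fun p _ => a (1, 0) i • p ∈ (Ideal.span {t} : Ideal D)) ?_ ?_ ?_ ?_ hp'
    · rintro _ ⟨j, rfl⟩
      have h3 : a (f (Pi.single j 1)) = 0 := by
        have := LinearMap.congr_fun haf (Pi.single j 1)
        rwa [LinearMap.comp_apply, LinearMap.zero_apply] at this
      have e1 : f (Pi.single j 1) = g j • ((1 : D), (0 : Fin n → D)) +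
          (-t) • ((0 : D), (Pi.single j 1 : Fin n → D)) := by
        rw [hf]
        refine Prod.ext ?_ ?_
        · simp
        · simp
      rw [e1, map_add, map_smul, map_smul] at h3
      have h4 := DFunLike.congr_fun h3 i
      rw [Finsupp.add_apply, Finsupp.smul_apply, Finsupp.smul_apply, Finsupp.zero_apply,
        smul_eq_mul, smul_eq_mul] at h4
      rw [smul_eq_mul, Ideal.mem_span_singleton']
      exact ⟨a (0, Pi.single j 1) i, by linear_combination (-1 : D) * h4⟩
    · simp
    · intro x y _ _ hx hy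
      rw [smul_add]
      exact Ideal.add_mem _ hx hy
    · intro c x _ hx
      rw [smul_comm]
      exact Submodule.smul_mem _ c hx
  rw [hz]
  refine Ideal.sum_mem _ fun i _ => ?_
  exact Ideal.mul_mem_right _ _ (Ideal.mem_map_of_mem _ (hαc i))

end colon

end Groth.Agent.Helper8.CurveComp
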