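import Mathlib
import Groth.Prelude
import Groth.Agent.Lib.Helper8.DimOneUB1
import Groth.Agent.Lib.Helper8.IntClSemi1
import Groth.Agent.Lib.Helper8.CurveComp1

/-!
# A one-dimensional irreducible component of a formally isomorphic flat extension of a
henselian local domain is the whole spectrum
-/

set_option autoImplicit false

universe u

namespace Groth.Agent.Helper8.CurveComp

open IsLocalRing Groth.Agent.Helper8.DimOneUB

section D0

variable (D C : Type u) [CommRing D] [IsDomain D] [HenselianLocalRing D] [IsNoetherianRing D]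
  [CommRing C] [IsLocalRing C] [IsNoetherianRing C] [Algebra D C] [Module.Flat D C]
  [IsLocalHom (algebraMap D C)]

variable (hsurj : ∀ (n : ℕ) (c : C), ∃ d : D,
    c - algebraMap D C d ∈ ((maximalIdeal D) ^ n).map (algebraMap D C))

/-- Minimal primes of `C` contain no nonzero element of `D` (going down). -/
theorem algebraMap_notMem_of_mem_minimalPrimes {x : D} (hx : x ≠ 0) (Q : Ideal C)
    (hQ : Q ∈ minimalPrimes C) : algebraMap D C x ∉ Q := by
  intro hxQ
  haveI := hQ.1.1
  haveI hbot : (⊥ : Ideal D).IsPrime := Ideal.isPrime_bot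
  haveI : (Q.comap (algebraMap D C)).IsPrime := Ideal.IsPrime.comap _
  haveI : Q.LiesOver (Q.comap (algebraMap D C)) := ⟨rfl⟩
  obtain ⟨P, hPQ, hPprime, hPover⟩ :=
    Ideal.exists_ideal_le_liesOver_of_le (p := (⊥ : Ideal D))
      (q := Q.comap (algebraMap D C)) Q bot_le
  have hPQ' : P = Q := le_antisymm hPQ (hQ.2 ⟨hPprime, bot_le⟩ hPQ)
  have h0 : (⊥ : Ideal D) = Q.comap (algebraMap D C) := by
    have := hPover.over
    rw [hPQ'] at this
    exact this
  have : x ∈ (⊥ : Ideal D) := by rw [h0]; exact hxQ
  exact hx (by simpa using this)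

include hsurj in
theorem unique_minimalPrime_of_curve (Q₁ Q₂ : Ideal C) (h₁ : Q₁ ∈ minimalPrimes C)
    (h₂ : Q₂ ∈ minimalPrimes C)
    (hcurve : ∀ P : Ideal C, P.IsPrime → Q₁ < P → P = maximalIdeal C) : Q₁ = Q₂ := by
  classical
  by_contra hne
  haveI := h₁.1.1
  haveI := h₂.1.1
  haveI : Module.FaithfullyFlat D C := Module.FaithfullyFlat.of_flat_of_isLocalHom
  have hmC : (maximalIdeal D).map (algebraMap D C) = maximalIdeal C :=
    map_maximalIdeal_eq D C hsurj
  have hDinj : Function.Injective (algebraMap D C) := by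
    have h := Ideal.comap_map_eq_self_of_faithfullyFlat (B := C) (⊥ : Ideal D)
    rw [Ideal.map_bot] at h
    exact (RingHom.injective_iff_ker_eq_bot _).mpr h
  have hnf : maximalIdeal D ≠ ⊥ := by
    intro h
    rw [h, Ideal.map_bot] at hmC
    have hle1 : Q₁ ≤ maximalIdeal C := IsLocalRing.le_maximalIdeal Ideal.IsPrime.ne_top'
    have hle2 : Q₂ ≤ maximalIdeal C := IsLocalRing.le_maximalIdeal Ideal.IsPrime.ne_top'
    rw [← hmC] at hle1 hle2
    exact hne ((le_bot_iff.mp hle1).trans (le_bot_iff.mp hle2).symm)
  obtain ⟨x, hxm, hx0⟩ := Submodule.exists_mem_ne_zero_of_ne_bot hnf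
  set x' := algebraMap D C x with hx'
  have hregD : IsSMulRegular D x := fun a b h => mul_left_cancel₀ hx0 h
  have hreg : IsSMulRegular C x' := IsSMulRegular.of_flat hregD
  have hnzd : ∀ n : ℕ, ∀ c : C, x' ^ n * c = 0 → c = 0 := by
    intro n c hc
    have : IsSMulRegular C (x' ^ n) := hreg.pow n
    exact this (by simpa using hc)
  have hx'm : x' ∈ maximalIdeal C := by
    rw [← hmC]; exact Ideal.mem_map_of_mem _ hxm
  have hx1 : x' ∉ Q₁ := algebraMap_notMem_of_mem_minimalPrimes D C hx0 Q₁ h₁
  have hx2 : x' ∉ Q₂ := algebraMap_notMem_of_mem_minimalPrimes D C hx0 Q₂ h₂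
  obtain ⟨𝔞₁, 𝔞₂, M, ha1, ha2, hprod, hM⟩ := exists_split Q₁ Q₂ h₁ h₂ hne hcurve
  have hmul : ∀ b₁ ∈ 𝔞₁, ∀ b₂ ∈ 𝔞₂, b₁ * b₂ = 0 := by
    intro b₁ hb₁ b₂ hb₂
    have : b₁ * b₂ ∈ 𝔞₁ * 𝔞₂ := Ideal.mul_mem_mul hb₁ hb₂
    rw [hprod] at this
    exact Ideal.mem_bot.mp this
  have hxM : x' ^ M ∈ 𝔞₁ ⊔ 𝔞₂ := hM (Ideal.pow_mem_pow hx'm M)
  obtain ⟨a₁, ha₁, a₂, ha₂, hsum⟩ := Submodule.mem_sup.mp hxM
  have h12 : a₁ * a₂ = 0 := hmul a₁ ha₁ a₂ ha₂
  have hkey : ∀ g : D, g ∈ (maximalIdeal D) ^ M →
      ∃ b : C, algebraMap D C g * a₂ = algebraMap D C (x ^ M) * b := by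
    intro g hg
    have hg' : algebraMap D C g ∈ (maximalIdeal C) ^ M := by
      rw [← hmC, ← Ideal.map_pow]; exact Ideal.mem_map_of_mem _ hg
    obtain ⟨b₁, hb₁, b₂, hb₂, hb⟩ := Submodule.mem_sup.mp (hM hg')
    refine ⟨b₂, ?_⟩
    rw [map_pow, ← hx', ← hb, ← hsum]
    have e1 := hmul b₁ hb₁ a₂ ha₂
    have e2 := hmul a₁ ha₁ b₂ hb₂
    linear_combination e1 - e2
  have hz := mem_map_colon_of_flat ((maximalIdeal D) ^ M)
    ((maximalIdeal D) ^ M).fg_of_isNoetherianRing (x ^ M) a₂ hkey
  set 𝔠 : Ideal D :=
    (Ideal.span {x ^ M} : Ideal D).colon (((maximalIdeal D) ^ M : Ideal D) : Set D) with h𝔠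
  have hW : ∀ z ∈ 𝔠.map (algebraMap D C),
      ∃ d ∈ 𝔠, ∃ c : C, z = algebraMap D C d + x' ^ M * c := by
    intro z hz
    have hz' : z ∈ Submodule.span C (⇑(algebraMap D C) '' (𝔠 : Set D)) := hz
    refine Submodule.span_induction
      (p := fun z _ => ∃ d ∈ 𝔠, ∃ c : C, z = algebraMap D C d + x' ^ M * c) ?_ ?_ ?_ ?_ hz'
    · rintro _ ⟨d, hd, rfl⟩
      exact ⟨d, hd, 0, by simp⟩
    · exact ⟨0, 𝔠.zero_mem, 0, by simp⟩
    · rintro z₁ z₂ _ _ ⟨d₁, hd₁, c₁, rfl⟩ ⟨d₂, hd₂, c₂, rfl⟩
      exact ⟨d₁ + d₂, 𝔠.add_mem hd₁ hd₂, c₁ + c₂, by rw [map_add]; ring⟩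
    · rintro c z _ ⟨d, hd, c₁, rfl⟩
      obtain ⟨e, he⟩ := hsurj M c
      have hμ : (c - algebraMap D C e) * algebraMap D C d ∈ Ideal.span {x' ^ M} := by
        have h1 : (c - algebraMap D C e) * algebraMap D C d ∈
            (((maximalIdeal D) ^ M) * 𝔠).map (algebraMap D C) := by
          rw [Ideal.map_mul]
          exact Ideal.mul_mem_mul he (Ideal.mem_map_of_mem _ hd)
        have h2 : ((maximalIdeal D) ^ M) * 𝔠 ≤ Ideal.span {x ^ M} := by
          rw [Ideal.mul_le]
          intro p hp d' hd'
          have := Submodule.mem_colon.mp hd' p hp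
          rw [mul_comm]
          exact this
        have h3 := Ideal.map_mono (f := algebraMap D C) h2 h1
        rwa [Ideal.map_span, Set.image_singleton, map_pow] at h3
      obtain ⟨w, hw⟩ := Ideal.mem_span_singleton'.mp hμ
      refine ⟨e * d, 𝔠.mul_mem_left e hd, w + c * c₁, ?_⟩
      rw [smul_eq_mul, map_mul]
      linear_combination (-1 : C) * hw
  obtain ⟨d₀, -, c₀, hd₀⟩ := hW a₂ hz
  -- the localization
  have hinj : Function.Injective (algebraMap C (Localization.Away x')) := by
    apply IsLocalization.injective (Localization.Away x') (M := Submonoid.powers x')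
    rintro _ ⟨k, rfl⟩
    rw [mem_nonZeroDivisors_iff_right]
    intro c hc
    exact hnzd k c (by rw [mul_comm]; exact hc)
  haveI : Nontrivial (Localization.Away x') := hinj.nontrivial
  have hu : IsUnit (algebraMap C (Localization.Away x') x') :=
    IsLocalization.Away.algebraMap_isUnit x'
  have huM : IsUnit (algebraMap C (Localization.Away x') (x' ^ M)) := by
    rw [map_pow]; exact hu.pow M
  obtain ⟨uM, huM'⟩ := huM
  set ε : Localization.Away x' := algebraMap C (Localization.Away x') a₂ * ↑uM⁻¹ with hε
  have hεu : ε * algebraMap C (Localization.Away x') (x' ^ M) =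
      algebraMap C (Localization.Away x') a₂ := by
    rw [hε, ← huM', mul_assoc, Units.inv_mul, mul_one]
  have hcancel : ∀ r s : Localization.Away x',
      r * algebraMap C (Localization.Away x') (x' ^ M) =
        s * algebraMap C (Localization.Away x') (x' ^ M) → r = s := by
    intro r s h
    rw [← huM'] at h
    exact uM.isUnit.mul_left_injective h
  have hidem : ε * ε = ε := by
    apply hcancel; apply hcancel
    have e : algebraMap C (Localization.Away x') (x' ^ M) =
        algebraMap C (Localization.Away x') a₁ + algebraMap C (Localization.Away x') a₂ := by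
      rw [← map_add, hsum]
    have e12 : algebraMap C (Localization.Away x') a₁ *
        algebraMap C (Localization.Away x') a₂ = 0 := by
      rw [← map_mul, h12, map_zero]
    calc ε * ε * algebraMap C (Localization.Away x') (x' ^ M) *
          algebraMap C (Localization.Away x') (x' ^ M)
        = (ε * algebraMap C (Localization.Away x') (x' ^ M)) *
          (ε * algebraMap C (Localization.Away x') (x' ^ M)) := by ring
      _ = algebraMap C (Localization.Away x') a₂ * algebraMap C (Localization.Away x') a₂ := by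
          rw [hεu]
      _ = algebraMap C (Localization.Away x') a₂ * (algebraMap C (Localization.Away x') a₁ +
            algebraMap C (Localization.Away x') a₂) := by
          rw [mul_add, mul_comm (algebraMap C (Localization.Away x') a₂)
            (algebraMap C (Localization.Away x') a₁), e12, zero_add]
      _ = ε * algebraMap C (Localization.Away x') (x' ^ M) *
          algebraMap C (Localization.Away x') (x' ^ M) := by rw [hεu, e]
  -- elements of `C[ε]` become elements of `C` after multiplication by `x'^M`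
  have hPC : ∀ (c₁ c₂ : C), (algebraMap C (Localization.Away x') c₁ +
      algebraMap C (Localization.Away x') c₂ * ε) *
        algebraMap C (Localization.Away x') (x' ^ M) =
      algebraMap C (Localization.Away x') (c₁ * x' ^ M + c₂ * a₂) := by
    intro c₁ c₂
    rw [add_mul, mul_assoc, hεu, map_add, map_mul, map_mul]
  -- the finite `D`-algebra `E₀`
  have hmulmem : ∀ (u v : Localization.Away x') (d₁ d₂ : D) (c : C),
      u * algebraMap C (Localization.Away x') (x' ^ M) =
        algebraMap C (Localization.Away x') (algebraMap D C d₁) →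
      v * algebraMap C (Localization.Away x') (x' ^ M) =
        algebraMap C (Localization.Away x') (algebraMap D C d₂) →
      u * v * algebraMap C (Localization.Away x') (x' ^ M) =
        algebraMap C (Localization.Away x') c →
      ∃ d : D, u * v * algebraMap C (Localization.Away x') (x' ^ M) =
        algebraMap C (Localization.Away x') (algebraMap D C d) := by
    intro u v d₁ d₂ c hu hv huv
    have h1 : algebraMap C (Localization.Away x') (c * x' ^ M) =
        algebraMap C (Localization.Away x') (algebraMap D C (d₁ * d₂)) := by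
      rw [map_mul, ← huv, map_mul, map_mul, ← hu, ← hv]
      ring
    have h2 : c * x' ^ M = algebraMap D C (d₁ * d₂) := hinj h1
    have h3 : d₁ * d₂ ∈ (Ideal.span {x ^ M} : Ideal D) := by
      rw [← Ideal.comap_map_eq_self_of_faithfullyFlat (B := C) (Ideal.span {x ^ M}),
        Ideal.mem_comap, Ideal.map_span, Set.image_singleton, map_pow, ← hx', ← h2,
        Ideal.mem_span_singleton']
      exact ⟨c, rfl⟩
    obtain ⟨d, hd⟩ := Ideal.mem_span_singleton'.mp h3
    refine ⟨d, ?_⟩
    have h4 : c = algebraMap D C d := by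
      have h5 : x' ^ M * (c - algebraMap D C d) = 0 := by
        rw [mul_sub, sub_eq_zero, mul_comm, h2, ← hd, map_mul, map_pow, ← hx', mul_comm]
      exact sub_eq_zero.mp (hnzd M _ h5)
    rw [huv, h4]
  let E₀ : Subalgebra D (Localization.Away x') :=
    { carrier := {u | (∃ c₁ c₂ : C, u = algebraMap C (Localization.Away x') c₁ +
          algebraMap C (Localization.Away x') c₂ * ε) ∧
        ∃ d : D, u * algebraMap C (Localization.Away x') (x' ^ M) =
          algebraMap C (Localization.Away x') (algebraMap D C d)}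
      mul_mem' := by
        rintro u v ⟨⟨c₁, c₂, rfl⟩, d₁, hd₁⟩ ⟨⟨c₃, c₄, rfl⟩, d₂, hd₂⟩
        have hP : (algebraMap C (Localization.Away x') c₁ +
            algebraMap C (Localization.Away x') c₂ * ε) *
            (algebraMap C (Localization.Away x') c₃ +
              algebraMap C (Localization.Away x') c₄ * ε) =
            algebraMap C (Localization.Away x') (c₁ * c₃) +
              algebraMap C (Localization.Away x') (c₁ * c₄ + c₂ * c₃ + c₂ * c₄) * ε := by
          rw [map_add, map_add, map_mul, map_mul, map_mul, map_mul]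
          linear_combination (algebraMap C (Localization.Away x') c₂ *
            algebraMap C (Localization.Away x') c₄) * hidem
        refine ⟨⟨_, _, hP⟩, ?_⟩
        exact hmulmem _ _ d₁ d₂ _ hd₁ hd₂ (by rw [hP, hPC])
      one_mem' := by
        refine ⟨⟨1, 0, by simp⟩, x ^ M, ?_⟩
        rw [one_mul]
        congr 1
        rw [map_pow, ← hx']
      add_mem' := by
        rintro u v ⟨⟨c₁, c₂, rfl⟩, d₁, hd₁⟩ ⟨⟨c₃, c₄, rfl⟩, d₂, hd₂⟩
        refine ⟨⟨c₁ + c₃, c₂ + c₄, by rw [map_add, map_add]; ring⟩, d₁ + d₂, ?_⟩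
        rw [add_mul, hd₁, hd₂, map_add, map_add]
      zero_mem' := by
        refine ⟨⟨0, 0, by simp⟩, 0, by simp⟩
      algebraMap_mem' := by
        intro d
        refine ⟨⟨algebraMap D C d, 0, ?_⟩, d * x ^ M, ?_⟩
        · rw [IsScalarTower.algebraMap_apply D C (Localization.Away x')]; simp
        · rw [IsScalarTower.algebraMap_apply D C (Localization.Away x'), ← map_mul]
          congr 1
          rw [map_mul, map_pow, ← hx'] }
  have hE₀mem : ∀ u : Localization.Away x', u ∈ E₀ ↔
      ((∃ c₁ c₂ : C, u = algebraMap C (Localization.Away x') c₁ +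
          algebraMap C (Localization.Away x') c₂ * ε) ∧
        ∃ d : D, u * algebraMap C (Localization.Away x') (x' ^ M) =
          algebraMap C (Localization.Away x') (algebraMap D C d)) := fun u => Iff.rfl
  haveI : NoZeroDivisors E₀ := ⟨by
    rintro ⟨u, hu⟩ ⟨v, hv⟩ huv
    have huv' : u * v = 0 := congrArg Subtype.val huv
    obtain ⟨-, d₁, hd₁⟩ := (hE₀mem u).mp hu
    obtain ⟨-, d₂, hd₂⟩ := (hE₀mem v).mp hv
    have h1 : algebraMap C (Localization.Away x') (algebraMap D C (d₁ * d₂)) = 0 := by
      rw [map_mul, map_mul, ← hd₁, ← hd₂]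
      linear_combination (algebraMap C (Localization.Away x') (x' ^ M) *
        algebraMap C (Localization.Away x') (x' ^ M)) * huv'
    have h2 : d₁ * d₂ = 0 := by
      apply hDinj
      apply hinj
      rw [h1, map_zero, map_zero]
    rcases mul_eq_zero.mp h2 with h | h
    · left
      apply Subtype.ext
      apply hcancel
      rw [hd₁, h, map_zero, map_zero]
      simp
    · right
      apply Subtype.ext
      apply hcancel
      rw [hd₂, h, map_zero, map_zero]
      simp⟩
  haveI : IsDomain E₀ := NoZeroDivisors.to_isDomain _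
  haveI : Module.Finite D E₀ := by
    have hle : Subalgebra.toSubmodule E₀ ≤ Submodule.span D {(↑uM⁻¹ : Localization.Away x')} := by
      intro u hu
      obtain ⟨-, d, hd⟩ := (hE₀mem u).mp hu
      rw [Submodule.mem_span_singleton]
      refine ⟨d, ?_⟩
      rw [Algebra.smul_def, IsScalarTower.algebraMap_apply D C (Localization.Away x'), ← hd,
        ← huM', mul_assoc, Units.mul_inv, mul_one]
    haveI : IsNoetherian D (Submodule.span D {(↑uM⁻¹ : Localization.Away x')}) :=
      isNoetherian_span_of_finite D (Set.finite_singleton _)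
    haveI : IsNoetherian D (Subalgebra.toSubmodule E₀) := isNoetherian_of_le hle
    have hfg : (Subalgebra.toSubmodule E₀).FG :=
      (Submodule.fg_top _).mp (IsNoetherian.noetherian ⊤)
    exact (Module.Finite.iff_fg (N := Subalgebra.toSubmodule E₀)).mpr hfg
  haveI : IsLocalRing E₀ := Groth.Agent.Helper8.IntClSemi.isLocalRing_of_finite_domain D E₀
  -- units of `C[ε]`
  have hone : ∀ a ∈ maximalIdeal C, IsUnit (1 + a) := by
    intro a ha
    by_contra h
    have h1 : 1 + a ∈ maximalIdeal C := (IsLocalRing.mem_maximalIdeal _).mpr h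
    have h2 : (1 : C) ∈ maximalIdeal C := by
      have := Ideal.sub_mem _ h1 ha
      simpa using this
    exact (Ideal.ne_top_iff_one _).mp (IsLocalRing.maximalIdeal.isMaximal C).ne_top h2
  have hunit : ∀ p q : C, IsUnit p → IsUnit (p + q) →
      IsUnit (algebraMap C (Localization.Away x') p +
        algebraMap C (Localization.Away x') q * ε) := by
    intro p q hp hpq
    obtain ⟨p', hp'⟩ := isUnit_iff_exists_inv.mp hp
    obtain ⟨s', hs'⟩ := isUnit_iff_exists_inv.mp hpq
    have H1 : algebraMap C (Localization.Away x') p * algebraMap C (Localization.Away x') p' = 1 := by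
      rw [← map_mul, hp', map_one]
    have H2 : algebraMap C (Localization.Away x') p * algebraMap C (Localization.Away x') s' +
        algebraMap C (Localization.Away x') q * algebraMap C (Localization.Away x') s' = 1 := by
      rw [← map_mul, ← map_mul, ← map_add, ← add_mul, hs', map_one]
    refine isUnit_iff_exists_inv.mpr ⟨algebraMap C (Localization.Away x') p' * (1 - ε) +
      algebraMap C (Localization.Away x') s' * ε, ?_⟩
    linear_combination (1 - ε) * H1 + ε * H2 +
      (algebraMap C (Localization.Away x') q * algebraMap C (Localization.Away x') s' -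
        algebraMap C (Localization.Away x') q * algebraMap C (Localization.Away x') p') * hidem
  -- the element `ω'`
  obtain ⟨d₁, hd₁⟩ := hsurj 1 c₀
  rw [pow_one, hmC] at hd₁
  set μ : C := c₀ - algebraMap D C d₁ with hμ
  have hωmem : ε - algebraMap C (Localization.Away x') μ ∈ E₀ := by
    rw [hE₀mem]
    refine ⟨⟨-μ, 1, by rw [map_neg, map_one]; ring⟩, d₀ + x ^ M * d₁, ?_⟩
    rw [sub_mul, hεu, ← map_mul, ← map_sub]
    congr 1
    rw [hd₀, hμ, map_add, map_mul, map_pow, ← hx']
    ring
  rcases IsLocalRing.isUnit_or_isUnit_one_sub_self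
      (⟨ε - algebraMap C (Localization.Away x') μ, hωmem⟩ : E₀) with hU | hU
  · obtain ⟨⟨v, hv⟩, hvv⟩ := hU.exists_right_inv
    have hv1 : (ε - algebraMap C (Localization.Away x') μ) * v = 1 :=
      congrArg Subtype.val hvv
    obtain ⟨⟨c₁, c₂, hvc⟩, -⟩ := (hE₀mem v).mp hv
    have hw : IsUnit (algebraMap C (Localization.Away x') (1 + μ * c₁) +
        algebraMap C (Localization.Away x') (μ * c₂) * ε) := by
      apply hunit
      · exact hone _ (Ideal.mul_mem_right _ _ hd₁)
      · have : 1 + μ * c₁ + μ * c₂ = 1 + μ * (c₁ + c₂) := by ring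
        rw [this]
        exact hone _ (Ideal.mul_mem_right _ _ hd₁)
    have hεv : ε * v = algebraMap C (Localization.Away x') (1 + μ * c₁) +
        algebraMap C (Localization.Away x') (μ * c₂) * ε := by
      have : ε * v = 1 + algebraMap C (Localization.Away x') μ * v := by
        linear_combination hv1
      rw [this, hvc, map_add, map_one, map_mul, map_mul]
      ring
    have hεunit : IsUnit ε := by
      rw [← hεv] at hw
      exact isUnit_of_mul_isUnit_left hw
    have hε1 : ε = 1 := by
      have := hεunit.mul_left_cancel (hidem.trans (mul_one ε).symm)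
      exact this
    have : a₂ = x' ^ M := by
      apply hinj
      rw [← hεu, hε1, one_mul]
    apply hx2
    apply Ideal.IsPrime.mem_of_pow_mem inferInstance M
    rw [← this]
    exact ha2 ha₂
  · obtain ⟨⟨v, hv⟩, hvv⟩ := hU.exists_right_inv
    have hv1 : (1 - (ε - algebraMap C (Localization.Away x') μ)) * v = 1 :=
      congrArg Subtype.val hvv
    obtain ⟨⟨c₁, c₂, hvc⟩, -⟩ := (hE₀mem v).mp hv
    have hμneg : -μ ∈ maximalIdeal C := Ideal.neg_mem_iff _ |>.mpr hd₁
    have hw : IsUnit (algebraMap C (Localization.Away x') (1 + (-μ) * c₁) +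
        algebraMap C (Localization.Away x') ((-μ) * c₂) * ε) := by
      apply hunit
      · exact hone _ (Ideal.mul_mem_right _ _ hμneg)
      · have : 1 + (-μ) * c₁ + (-μ) * c₂ = 1 + (-μ) * (c₁ + c₂) := by ring
        rw [this]
        exact hone _ (Ideal.mul_mem_right _ _ hμneg)
    have hεv : (1 - ε) * v = algebraMap C (Localization.Away x') (1 + (-μ) * c₁) +
        algebraMap C (Localization.Away x') ((-μ) * c₂) * ε := by
      have : (1 - ε) * v = 1 - algebraMap C (Localization.Away x') μ * v := by
        linear_combination hv1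
      rw [this, hvc, map_add, map_one, map_mul, map_mul, map_neg]
      ring
    have hεunit : IsUnit (1 - ε) := by
      rw [← hεv] at hw
      exact isUnit_of_mul_isUnit_left hw
    have hidem' : (1 - ε) * (1 - ε) = 1 - ε := by linear_combination hidem
    have hε0 : ε = 0 := by
      have := hεunit.mul_left_cancel (hidem'.trans (mul_one (1 - ε)).symm)
      linear_combination (-1 : Localization.Away x') * this
    have : a₂ = 0 := by
      apply hinj
      rw [← hεu, hε0, zero_mul, map_zero]
    apply hx1
    apply Ideal.IsPrime.mem_of_pow_mem inferInstance M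
    rw [← hsum, this, add_zero]
    exact ha1 ha₁

end D0

end Groth.Agent.Helper8.CurveComp
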