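import Mathlib

set_option autoImplicit false
universe u

namespace Groth.Agent.Helper8.FinExt

open IsLocalRing

section Dim

variable {R : Type u} [CommRing R] [IsLocalRing R]

/-- if `dim R/p = 1` then the only primes above `p` are `p` and the maximal ideal. -/
lemma eq_or_eq_maximalIdeal_of_le (p : Ideal R) [p.IsPrime] (hp : ringKrullDim (R ⧸ p) = 1)
    (Q : Ideal R) [hQ : Q.IsPrime] (hpQ : p ≤ Q) : Q = p ∨ Q = maximalIdeal R := by
  by_contra h
  push Not at h
  have h1 : p < Q := lt_of_le_of_ne hpQ (Ne.symm h.1)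
  have h2 : Q < maximalIdeal R := lt_of_le_of_ne (le_maximalIdeal hQ.ne_top) h.2
  rw [ringKrullDim_quotient] at hp
  let P0 : PrimeSpectrum.zeroLocus (p : Set R) := ⟨⟨p, inferInstance⟩, le_refl p⟩
  let P1 : PrimeSpectrum.zeroLocus (p : Set R) := ⟨⟨Q, inferInstance⟩, hpQ⟩
  let P2 : PrimeSpectrum.zeroLocus (p : Set R) :=
    ⟨⟨maximalIdeal R, inferInstance⟩, le_maximalIdeal (Ideal.IsPrime.ne_top inferInstance)⟩
  have h01 : P0 < P1 := h1
  have h12 : P1 < P2 := h2
  have e1 := Order.height_add_one_le h01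
  have e2 := Order.height_add_one_le h12
  have e3 := Order.height_le_krullDim P2
  rw [hp] at e3
  have e4 : (2 : ℕ∞) ≤ Order.height P2 := by
    calc (2 : ℕ∞) = 0 + 1 + 1 := by norm_num
      _ ≤ Order.height P0 + 1 + 1 := by gcongr; exact bot_le
      _ ≤ Order.height P1 + 1 := by gcongr
      _ ≤ Order.height P2 := e2
  have e5 : ((2 : ℕ∞) : WithBot ℕ∞) ≤ 1 := le_trans (by exact_mod_cast e4) e3
  have e6 : (2 : ℕ∞) ≤ 1 := by exact_mod_cast e5
  norm_num at e6

end Dim

section Main

variable (R' : Type u) [CommRing R'] (R : Type u) [CommRing R] [IsNoetherianRing R]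
  [IsLocalRing R] [Algebra R' R] [Module.Finite R' R]

theorem exists_radical_span_inter_adjoin_eq (p : Ideal R) [p.IsPrime]
    (hp : ringKrullDim (R ⧸ p) = 1) :
    ∃ b : R, (Ideal.span ((p : Set R) ∩ (Algebra.adjoin R' ({b} : Set R) : Set R))).radical
      = p := by
  classical
  have hint : Algebra.IsIntegral R' R := inferInstance
  let p' : Ideal R' := p.comap (algebraMap R' R)
  let I : Ideal R := p'.map (algebraMap R' R)
  have hIp : I ≤ p := Ideal.map_comap_le
  -- the other minimal primes of `p' R`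
  let T : Finset (Ideal R) :=
    (Ideal.finite_minimalPrimes_of_isNoetherianRing R I).toFinset.erase p
  have hT : ∀ Q ∈ T, Q ∈ I.minimalPrimes ∧ Q ≠ p := by
    intro Q hQ
    rw [Finset.mem_erase, Set.Finite.mem_toFinset] at hQ
    exact ⟨hQ.2, hQ.1⟩
  have hprime : ∀ Q ∈ T, Q ≠ ⊥ → Q ≠ ⊥ → (id Q : Ideal R).IsPrime :=
    fun Q hQ _ _ => (hT Q hQ).1.1.1
  have hav := Ideal.subset_union_prime (s := T) (f := id) ⊥ ⊥ hprime (I := p)
  have hnot : ¬ ∃ Q ∈ T, p ≤ id Q := by
    rintro ⟨Q, hQ, hle⟩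
    obtain ⟨hmin, hne⟩ := hT Q hQ
    exact hne (le_antisymm (hmin.2 ⟨inferInstance, hIp⟩ hle) hle)
  rw [← hav, Set.not_subset] at hnot
  obtain ⟨b, hbp, hbT⟩ := hnot
  refine ⟨b, ?_⟩
  set B : Subalgebra R' R := Algebra.adjoin R' ({b} : Set R) with hB
  have hbB : b ∈ B := Algebra.subset_adjoin (Set.mem_singleton b)
  haveI : Algebra.IsIntegral B R := Algebra.IsIntegral.tower_top (R := R')
  apply le_antisymm
  · rw [Ideal.IsPrime.radical_le_iff inferInstance, Ideal.span_le]
    exact Set.inter_subset_left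
  · rw [Ideal.radical_eq_sInf, le_sInf_iff]
    rintro Q ⟨hQ, hQp⟩
    haveI := hQp
    have hcomap : p.comap (algebraMap B R) ≤ Q.comap (algebraMap B R) := by
      intro x hx
      exact hQ (Ideal.subset_span ⟨hx, x.2⟩)
    obtain ⟨Q', hQ'p, hQ'prime, hQ'⟩ := Ideal.exists_ideal_over_prime_of_isIntegral
      (Q.comap (algebraMap B R)) p hcomap
    haveI := hQ'prime
    rcases eq_or_eq_maximalIdeal_of_le p hp Q' hQ'p with h | h
    · -- `Q` lies over `p ∩ B`
      rw [h] at hQ'
      have hbQ : b ∈ Q := by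
        have : (⟨b, hbB⟩ : B) ∈ Q.comap (algebraMap B R) := by
          rw [← hQ']
          exact hbp
        exact this
      have hQ'' : Q.comap (algebraMap R' R) = p' := by
        have e1 : Q.comap (algebraMap R' R) =
            (Q.comap (algebraMap B R)).comap (algebraMap R' B) := by
          rw [Ideal.comap_comap, ← IsScalarTower.algebraMap_eq]
        have e2 : p' = (p.comap (algebraMap B R)).comap (algebraMap R' B) := by
          change p.comap (algebraMap R' R) = _
          rw [Ideal.comap_comap, ← IsScalarTower.algebraMap_eq]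
        rw [e1, e2, hQ']
      have hIQ : I ≤ Q := by
        rw [Ideal.map_le_iff_le_comap, hQ'']
      obtain ⟨Q₀, hQ₀, hQ₀Q⟩ := Ideal.exists_minimalPrimes_le hIQ
      haveI := hQ₀.1.1
      have hQ₀eq : Q₀ = Q := by
        by_contra hne
        have hlt : Q₀ < Q := lt_of_le_of_ne hQ₀Q hne
        obtain ⟨x, hxQ, hxQ₀⟩ := SetLike.exists_of_lt hlt
        have := Ideal.comap_lt_comap_of_integral_mem_sdiff (R := R') hQ₀Q ⟨hxQ, hxQ₀⟩
          (Algebra.IsIntegral.isIntegral x)
        rw [hQ''] at this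
        have h3 : p' ≤ Q₀.comap (algebraMap R' R) := by
          rw [← Ideal.map_le_iff_le_comap]
          exact hQ₀.1.2
        exact absurd (lt_of_le_of_lt h3 this) (lt_irrefl _)
      rw [hQ₀eq] at hQ₀
      by_contra hpQ
      have hQT : Q ∈ T := by
        rw [Finset.mem_erase, Set.Finite.mem_toFinset]
        refine ⟨?_, hQ₀⟩
        rintro rfl
        exact hpQ (le_refl _)
      exact hbT (Set.mem_biUnion (x := Q) (Finset.mem_coe.mpr hQT) hbQ)
    · -- `Q` lies over the maximal ideal of `B`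
      rw [h] at hQ'
      have hmax : (Q.comap (algebraMap B R)).IsMaximal := by
        rw [← hQ']
        exact Ideal.isMaximal_comap_of_isIntegral_of_isMaximal (R := B) (maximalIdeal R)
      have hQmax := Ideal.isMaximal_of_isIntegral_of_isMaximal_comap (R := B) Q hmax
      rw [IsLocalRing.eq_maximalIdeal hQmax]
      exact le_maximalIdeal (Ideal.IsPrime.ne_top inferInstance)

end Main

end Groth.Agent.Helper8.FinExt
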