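import Mathlib
import Groth.Prelude
import Groth.Agent.S0505
import Groth.Agent.S0538
import Groth.Agent.S0539
import Groth.Agent.S0540
import Groth.Agent.Lib.Helper8.FinExt1
import Groth.Agent.Lib.Helper8.DimOneUB4
import Groth.Agent.Lib.Helper8.HensCpl4
import Groth.Agent.Lib.Helper8.CurveComp2

/-!
# One-dimensional components over a prime; immediate étale generizations and completion
-/

set_option autoImplicit false

universe u

namespace Groth.Agent.Helper8.CurveComp

open IsLocalRing Groth.Agent.Helper8.DimOneUB Groth.Agent.Helper8.GorFlat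

section dim

theorem comap_map_mk {R : Type*} [CommRing R] (I K : Ideal R) (h : I ≤ K) :
    (K.map (Ideal.Quotient.mk I)).comap (Ideal.Quotient.mk I) = K := by
  rw [Ideal.comap_map_of_surjective _ Ideal.Quotient.mk_surjective, ← RingHom.ker_eq_comap_bot,
    Ideal.mk_ker]
  exact sup_eq_left.mpr h

variable {R : Type u} [CommRing R] [IsLocalRing R]

theorem ne_maximalIdeal_of_dim_one (P : Ideal R) [P.IsPrime]
    (h : ringKrullDim (R ⧸ P) = 1) : P ≠ maximalIdeal R := by
  rintro rfl
  have h0 : ringKrullDim (R ⧸ maximalIdeal R) = 0 :=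
    ringKrullDim_eq_zero_of_isField
      ((Ideal.Quotient.maximal_ideal_iff_isField_quotient _).mp (maximalIdeal.isMaximal R))
  rw [h0] at h
  exact zero_ne_one h

theorem eq_maximalIdeal_of_lt_of_dim_one (P : Ideal R) [P.IsPrime]
    (h : ringKrullDim (R ⧸ P) = 1) (P₃ : Ideal R) (hP₃ : P₃.IsPrime) (hlt : P < P₃) :
    P₃ = maximalIdeal R := by
  haveI := hP₃
  rcases Groth.Agent.Helper8.FinExt.eq_or_eq_maximalIdeal_of_le P h P₃ hlt.le with h' | h'
  · exact absurd h'.symm hlt.ne
  · exact h'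

theorem ringKrullDim_quotient_eq_one (P : Ideal R) [hP : P.IsPrime]
    (hne : P ≠ maximalIdeal R)
    (h : ∀ P₃ : Ideal R, P₃.IsPrime → P < P₃ → P₃ = maximalIdeal R) :
    ringKrullDim (R ⧸ P) = 1 := by
  let Pp : PrimeSpectrum R := ⟨P, hP⟩
  let Mp : PrimeSpectrum R := ⟨maximalIdeal R, inferInstance⟩
  have h1 : ringKrullDim (R ⧸ P) = Order.coheight Pp := by
    rw [ringKrullDim_quotient, Order.coheight_eq_krullDim_Ici]
    have : PrimeSpectrum.zeroLocus (P : Set R) = Set.Ici Pp := by
      ext q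
      simp only [PrimeSpectrum.mem_zeroLocus, SetLike.coe_subset_coe, Set.mem_Ici]
      rfl
    rw [this]
  rw [h1]
  have hone : Order.coheight Pp = 1 := by
    rw [Order.coheight_eq_iSup_gt_coheight]
    apply le_antisymm
    · refine iSup₂_le fun y hy => ?_
      have hy3 : y = Mp := by
        apply PrimeSpectrum.ext
        exact h y.asIdeal y.isPrime hy
      have hmax : IsMax y := by
        intro z _
        rw [hy3]
        exact IsLocalRing.le_maximalIdeal z.isPrime.ne_top
      rw [Order.coheight_eq_zero.mpr hmax, zero_add]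
    · have hlt : Pp < Mp :=
        lt_of_le_of_ne (IsLocalRing.le_maximalIdeal hP.ne_top)
          (fun h => hne (congrArg PrimeSpectrum.asIdeal h))
      refine le_trans ?_ (le_iSup₂ (f := fun y (_ : y > Pp) => Order.coheight y + 1) Mp hlt)
      exact le_add_self
  rw [hone]; rfl

end dim

section GD

variable {R R' : Type*} [CommRing R] [CommRing R'] [Algebra R R'] [Algebra.HasGoingDown R R']

theorem comap_mem_minimalPrimes_map (I : Ideal R) (Q : Ideal R')
    (hQ : Q ∈ (I.map (algebraMap R R')).minimalPrimes) :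
    Q.comap (algebraMap R R') ∈ I.minimalPrimes := by
  haveI := hQ.1.1
  refine ⟨⟨Ideal.IsPrime.comap _, Ideal.le_comap_of_map_le hQ.1.2⟩, ?_⟩
  rintro P' ⟨hP', hIP'⟩ hle
  haveI := hP'
  haveI : (Q.comap (algebraMap R R')).IsPrime := Ideal.IsPrime.comap _
  haveI : Q.LiesOver (Q.comap (algebraMap R R')) := ⟨rfl⟩
  obtain ⟨Q', hQ'Q, hQ'prime, hQ'over⟩ :=
    Ideal.exists_ideal_le_liesOver_of_le (p := P') (q := Q.comap (algebraMap R R')) Q hle
  have hover : P' = Q'.comap (algebraMap R R') := hQ'over.over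
  have hIQ' : I.map (algebraMap R R') ≤ Q' := by
    rw [Ideal.map_le_iff_le_comap, ← hover]; exact hIP'
  have hQQ' : Q ≤ Q' := hQ.2 ⟨hQ'prime, hIQ'⟩ hQ'Q
  rw [hover]
  exact Ideal.comap_mono hQQ'

theorem comap_eq_of_mem_minimalPrimes_map (P : Ideal R) [hP : P.IsPrime] (Q : Ideal R')
    (hQ : Q ∈ (P.map (algebraMap R R')).minimalPrimes) :
    Q.comap (algebraMap R R') = P := by
  have h := comap_mem_minimalPrimes_map P Q hQ
  exact le_antisymm (h.2 ⟨hP, le_rfl⟩ (Ideal.le_comap_of_map_le hQ.1.2))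
    (Ideal.le_comap_of_map_le hQ.1.2)

theorem mem_minimalPrimes_map_of_mem_minimalPrimes_map (I : Ideal R) (P : Ideal R)
    (hP : P ∈ I.minimalPrimes) (Q : Ideal R')
    (hQ : Q ∈ (P.map (algebraMap R R')).minimalPrimes) :
    Q ∈ (I.map (algebraMap R R')).minimalPrimes := by
  haveI := hQ.1.1
  haveI := hP.1.1
  have hQP : Q.comap (algebraMap R R') = P := comap_eq_of_mem_minimalPrimes_map P Q hQ
  refine ⟨⟨hQ.1.1, (Ideal.map_mono hP.1.2).trans hQ.1.2⟩, ?_⟩
  rintro Q'' ⟨hQ''prime, hIQ''⟩ hle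
  haveI := hQ''prime
  have h1 : I ≤ Q''.comap (algebraMap R R') := Ideal.le_comap_of_map_le hIQ''
  have h2 : Q''.comap (algebraMap R R') ≤ P := by rw [← hQP]; exact Ideal.comap_mono hle
  have h3 : P ≤ Q''.comap (algebraMap R R') := hP.2 ⟨Ideal.IsPrime.comap _, h1⟩ h2
  exact hQ.2 ⟨hQ''prime, Ideal.map_le_iff_le_comap.mpr h3⟩ hle

omit [Algebra.HasGoingDown R R'] in
theorem mem_minimalPrimes_map_comap (I : Ideal R) (Q : Ideal R')
    (hQ : Q ∈ (I.map (algebraMap R R')).minimalPrimes) :
    Q ∈ ((Q.comap (algebraMap R R')).map (algebraMap R R')).minimalPrimes := by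
  refine ⟨⟨hQ.1.1, Ideal.map_comap_le⟩, ?_⟩
  rintro Q'' ⟨hQ''prime, hle''⟩ hle
  refine hQ.2 ⟨hQ''prime, ?_⟩ hle
  exact (Ideal.map_mono (Ideal.le_comap_of_map_le hQ.1.2)).trans hle''

end GD

section D1

variable (D C : Type u) [CommRing D] [HenselianLocalRing D] [IsNoetherianRing D]
  [CommRing C] [IsLocalRing C] [IsNoetherianRing C] [Algebra D C] [Module.Flat D C]
  [IsLocalHom (algebraMap D C)]

variable (hsurj : ∀ (n : ℕ) (c : C), ∃ d : D,
    c - algebraMap D C d ∈ ((maximalIdeal D) ^ n).map (algebraMap D C))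

include hsurj in
theorem map_maximalIdeal_eq' :
    (maximalIdeal D).map (algebraMap D C) = maximalIdeal C := by
  apply le_antisymm
  · exact DimOneUB.map_maximalIdeal_le D C
  · intro c hc
    obtain ⟨d, hd⟩ := hsurj 1 c
    rw [pow_one] at hd
    have h1 : algebraMap D C d ∈ maximalIdeal C := by
      have : algebraMap D C d = c - (c - algebraMap D C d) := by ring
      rw [this]
      exact Ideal.sub_mem _ hc (DimOneUB.map_maximalIdeal_le D C hd)
    have h2 : d ∈ maximalIdeal D := by
      by_contra hd'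
      have : IsUnit d := by
        by_contra hu
        exact hd' ((IsLocalRing.mem_maximalIdeal d).mpr hu)
      exact (IsLocalRing.mem_maximalIdeal _).mp h1 (this.map _)
    have : c = (c - algebraMap D C d) + algebraMap D C d := by ring
    rw [this]
    exact Ideal.add_mem _ hd (Ideal.mem_map_of_mem _ h2)

include hsurj in
/-- The approximation property passes to the quotients by a prime and its extension. -/
theorem hsurj_quot (p : Ideal D) [IsLocalRing (D ⧸ p)] (n : ℕ)
    (c : C ⧸ p.map (algebraMap D C)) : ∃ d : D ⧸ p,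
      c - algebraMap (D ⧸ p) (C ⧸ p.map (algebraMap D C)) d ∈
        ((maximalIdeal (D ⧸ p)) ^ n).map
          (algebraMap (D ⧸ p) (C ⧸ p.map (algebraMap D C))) := by
  have hmaxq : maximalIdeal (D ⧸ p) = (maximalIdeal D).map (Ideal.Quotient.mk p) :=
    (maximalIdeal_quot p).symm
  obtain ⟨c, rfl⟩ := Ideal.Quotient.mk_surjective c
  obtain ⟨d, hd⟩ := hsurj n c
  refine ⟨Ideal.Quotient.mk p d, ?_⟩
  have h1 : Ideal.Quotient.mk (p.map (algebraMap D C)) (c - algebraMap D C d) ∈
      (((maximalIdeal D) ^ n).map (algebraMap D C)).map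
        (Ideal.Quotient.mk (p.map (algebraMap D C))) := Ideal.mem_map_of_mem _ hd
  rw [Ideal.map_map] at h1
  have h2 : (Ideal.Quotient.mk (p.map (algebraMap D C))).comp (algebraMap D C) =
      (algebraMap (D ⧸ p) (C ⧸ p.map (algebraMap D C))).comp (Ideal.Quotient.mk p) := by
    ext a; rfl
  rw [h2, ← Ideal.map_map, Ideal.map_pow, ← hmaxq, map_sub] at h1
  exact h1

omit [IsNoetherianRing D] [IsNoetherianRing C] [Module.Flat D C] in
theorem isLocalHom_quot (p : Ideal D) (hpC : p.map (algebraMap D C) ≤ maximalIdeal C)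
    [IsLocalRing (D ⧸ p)] [IsLocalRing (C ⧸ p.map (algebraMap D C))] :
    IsLocalHom (algebraMap (D ⧸ p) (C ⧸ p.map (algebraMap D C))) := by
  haveI := isLocalHom_mk _ hpC
  constructor
  intro a ha
  obtain ⟨a, rfl⟩ := Ideal.Quotient.mk_surjective a
  have h1 : IsUnit (Ideal.Quotient.mk (p.map (algebraMap D C)) (algebraMap D C a)) := ha
  have h2 : IsUnit (algebraMap D C a) := isUnit_of_map_unit _ _ h1
  exact (isUnit_of_map_unit (algebraMap D C) a h2).map _

include hsurj in
/-- Prime version: if one minimal prime over `pC` is a curve, it is the only one. -/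
theorem unique_minimalPrime_over_of_curve (p : Ideal D) [p.IsPrime] (Q₁ Q₂ : Ideal C)
    (h₁ : Q₁ ∈ (p.map (algebraMap D C)).minimalPrimes)
    (h₂ : Q₂ ∈ (p.map (algebraMap D C)).minimalPrimes)
    (hcurve : ∀ P : Ideal C, P.IsPrime → Q₁ < P → P = maximalIdeal C) : Q₁ = Q₂ := by
  have hple : p ≤ maximalIdeal D := IsLocalRing.le_maximalIdeal Ideal.IsPrime.ne_top'
  have hpC : p.map (algebraMap D C) ≤ maximalIdeal C :=
    (Ideal.map_mono hple).trans (DimOneUB.map_maximalIdeal_le D C)
  haveI : IsLocalRing (D ⧸ p) := isLocalRing_quot p hple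
  haveI : IsLocalRing (C ⧸ p.map (algebraMap D C)) := isLocalRing_quot _ hpC
  haveI : HenselianLocalRing (D ⧸ p) := Groth.Agent.S0505.result D (D ⧸ p)
  haveI : Module.Flat (D ⧸ p) (C ⧸ p.map (algebraMap D C)) :=
    Module.Flat.of_linearEquiv
      (Algebra.TensorProduct.quotIdealMapEquivQuotTensor C p).toLinearEquiv
  haveI : IsLocalHom (algebraMap (D ⧸ p) (C ⧸ p.map (algebraMap D C))) :=
    isLocalHom_quot D C p hpC
  rw [Ideal.minimalPrimes_eq_comap] at h₁ h₂
  obtain ⟨R₁, hR₁, e₁⟩ := h₁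
  obtain ⟨R₂, hR₂, e₂⟩ := h₂
  have hcurve' : ∀ P' : Ideal (C ⧸ p.map (algebraMap D C)), P'.IsPrime → R₁ < P' →
      P' = maximalIdeal (C ⧸ p.map (algebraMap D C)) := by
    intro P' hP' hlt
    haveI := hP'
    have hlt' : Q₁ < P'.comap (Ideal.Quotient.mk (p.map (algebraMap D C))) := by
      rw [← e₁]
      refine lt_of_le_of_ne (Ideal.comap_mono hlt.le) ?_
      intro h
      have := congrArg (Ideal.map (Ideal.Quotient.mk (p.map (algebraMap D C)))) h
      rw [Ideal.map_comap_of_surjective _ Ideal.Quotient.mk_surjective,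
        Ideal.map_comap_of_surjective _ Ideal.Quotient.mk_surjective] at this
      exact hlt.ne this
    have := hcurve _ (Ideal.IsPrime.comap _) hlt'
    rw [← maximalIdeal_quot (p.map (algebraMap D C)), ← this,
      Ideal.map_comap_of_surjective _ Ideal.Quotient.mk_surjective]
  have := unique_minimalPrime_of_curve (D ⧸ p) (C ⧸ p.map (algebraMap D C))
    (hsurj_quot D C hsurj p) R₁ R₂ hR₁ hR₂ hcurve'
  rw [← e₁, ← e₂, this]

include hsurj in
/-- Over a prime of coheight one every minimal prime of the extension is a curve. -/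
theorem curve_up (p : Ideal D) [p.IsPrime] (hpne : p ≠ maximalIdeal D)
    (hp : ∀ P₃ : Ideal D, P₃.IsPrime → p < P₃ → P₃ = maximalIdeal D)
    (Q : Ideal C) (hQ : Q ∈ (p.map (algebraMap D C)).minimalPrimes)
    (Q₃ : Ideal C) [hQ₃ : Q₃.IsPrime] (hlt : Q < Q₃) : Q₃ = maximalIdeal C := by
  by_contra hne
  haveI := hQ.1.1
  have hple : p ≤ maximalIdeal D := IsLocalRing.le_maximalIdeal Ideal.IsPrime.ne_top'
  have hpC : p.map (algebraMap D C) ≤ maximalIdeal C :=
    (Ideal.map_mono hple).trans (DimOneUB.map_maximalIdeal_le D C)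
  haveI : IsLocalRing (D ⧸ p) := isLocalRing_quot p hple
  haveI : IsLocalRing (C ⧸ p.map (algebraMap D C)) := isLocalRing_quot _ hpC
  haveI : HenselianLocalRing (D ⧸ p) := Groth.Agent.S0505.result D (D ⧸ p)
  haveI : Module.Flat (D ⧸ p) (C ⧸ p.map (algebraMap D C)) :=
    Module.Flat.of_linearEquiv
      (Algebra.TensorProduct.quotIdealMapEquivQuotTensor C p).toLinearEquiv
  haveI : IsLocalHom (algebraMap (D ⧸ p) (C ⧸ p.map (algebraMap D C))) :=
    isLocalHom_quot D C p hpC
  have hmaxq : maximalIdeal (D ⧸ p) = (maximalIdeal D).map (Ideal.Quotient.mk p) :=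
    (maximalIdeal_quot p).symm
  have hdim' : ∀ P : Ideal (D ⧸ p), P.IsPrime → P ≠ ⊥ → P = maximalIdeal (D ⧸ p) := by
    intro P hP hP0
    haveI := hP
    have hlt : p < P.comap (Ideal.Quotient.mk p) := by
      refine lt_of_le_of_ne ?_ ?_
      · intro a ha
        rw [Ideal.mem_comap, Ideal.Quotient.eq_zero_iff_mem.mpr ha]
        exact Ideal.zero_mem _
      · intro h
        apply hP0
        rw [eq_bot_iff]
        intro a ha
        obtain ⟨a, rfl⟩ := Ideal.Quotient.mk_surjective a
        have : a ∈ P.comap (Ideal.Quotient.mk p) := ha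
        rw [← h] at this
        rw [Ideal.mem_bot, Ideal.Quotient.eq_zero_iff_mem]
        exact this
    have := hp (P.comap (Ideal.Quotient.mk p)) (Ideal.IsPrime.comap _) hlt
    rw [hmaxq, ← this, Ideal.map_comap_of_surjective _ Ideal.Quotient.mk_surjective]
  have hnf' : maximalIdeal (D ⧸ p) ≠ ⊥ := by
    intro h
    apply hpne
    apply le_antisymm hple
    intro a ha
    have : Ideal.Quotient.mk p a ∈ maximalIdeal (D ⧸ p) := by
      rw [hmaxq]; exact Ideal.mem_map_of_mem _ ha
    rw [h, Ideal.mem_bot, Ideal.Quotient.eq_zero_iff_mem] at this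
    exact this
  obtain ⟨x, hxm, hx0⟩ := Submodule.exists_mem_ne_zero_of_ne_bot hnf'
  have hpQ₃ : p.map (algebraMap D C) ≤ Q₃ := hQ.1.2.trans hlt.le
  haveI hprime : (Q₃.map (Ideal.Quotient.mk (p.map (algebraMap D C)))).IsPrime :=
    Ideal.map_isPrime_of_surjective Ideal.Quotient.mk_surjective
      (by rw [Ideal.mk_ker]; exact hpQ₃)
  have hne' : Q₃.map (Ideal.Quotient.mk (p.map (algebraMap D C))) ≠
      maximalIdeal (C ⧸ p.map (algebraMap D C)) := by
    intro h
    apply hne
    rw [← comap_map_mk _ Q₃ hpQ₃, h, ← maximalIdeal_quot (p.map (algebraMap D C)),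
      comap_map_mk _ _ hpC]
  have hmin := mem_minimalPrimes_of_ne (D ⧸ p) (C ⧸ p.map (algebraMap D C)) hdim'
    (hsurj_quot D C hsurj p) hx0 hxm _ hne'
  have hQ₃min : Q₃ ∈ (p.map (algebraMap D C)).minimalPrimes := by
    rw [Ideal.minimalPrimes_eq_comap]
    exact ⟨_, hmin, comap_map_mk _ Q₃ hpQ₃⟩
  exact absurd (hQ₃min.2 hQ.1 hlt.le) (not_le_of_gt hlt)

include hsurj in
/-- If a minimal prime over `pC` is a curve, then `p` has coheight one. -/
theorem curve_down (p : Ideal D) [p.IsPrime] (Q : Ideal C)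
    (hQ : Q ∈ (p.map (algebraMap D C)).minimalPrimes) (hQne : Q ≠ maximalIdeal C)
    (hcurve : ∀ Q₃ : Ideal C, Q₃.IsPrime → Q < Q₃ → Q₃ = maximalIdeal C) :
    p ≠ maximalIdeal D ∧ ∀ P₃ : Ideal D, P₃.IsPrime → p < P₃ → P₃ = maximalIdeal D := by
  haveI := hQ.1.1
  have hmC := map_maximalIdeal_eq' D C hsurj
  have hcomapm : (maximalIdeal C).comap (algebraMap D C) = maximalIdeal D :=
    ((IsLocalRing.local_hom_TFAE (algebraMap D C)).out 0 4).mp ‹_›
  constructor
  · intro hp
    apply hQne
    have : maximalIdeal C ≤ Q := by rw [← hmC, ← hp]; exact hQ.1.2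
    exact le_antisymm (IsLocalRing.le_maximalIdeal Ideal.IsPrime.ne_top') this
  · intro P₃ hP₃ hlt
    by_contra hne
    haveI := hP₃
    haveI : (maximalIdeal C).LiesOver (maximalIdeal D) := ⟨hcomapm.symm⟩
    obtain ⟨Q₃, hQ₃le, hQ₃prime, hQ₃over⟩ :=
      Ideal.exists_ideal_le_liesOver_of_le (p := P₃) (q := maximalIdeal D) (maximalIdeal C)
        (IsLocalRing.le_maximalIdeal hP₃.ne_top)
    haveI := hQ₃prime
    haveI := hQ₃over
    obtain ⟨Q₄, hQ₄le, hQ₄prime, hQ₄over⟩ :=
      Ideal.exists_ideal_le_liesOver_of_le (p := p) (q := P₃) Q₃ hlt.le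
    haveI := hQ₄prime
    have hover₄ : p = Q₄.comap (algebraMap D C) := hQ₄over.over
    have hover₃ : P₃ = Q₃.comap (algebraMap D C) := hQ₃over.over
    have hpQ₄ : p.map (algebraMap D C) ≤ Q₄ := by
      rw [Ideal.map_le_iff_le_comap, ← hover₄]
    obtain ⟨Q', hQ'min, hQ'le⟩ := Ideal.exists_minimalPrimes_le hpQ₄
    have hQQ' : Q = Q' :=
      unique_minimalPrime_over_of_curve D C hsurj p Q Q' hQ hQ'min hcurve
    have hQQ₃ : Q ≤ Q₃ := by rw [hQQ']; exact hQ'le.trans hQ₄le
    have hQcomap : Q.comap (algebraMap D C) = p := comap_eq_of_mem_minimalPrimes_map p Q hQ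
    have hne' : Q ≠ Q₃ := by
      intro h
      rw [← h, hQcomap] at hover₃
      exact hlt.ne hover₃.symm
    have h3 := hcurve Q₃ hQ₃prime (lt_of_le_of_ne hQQ₃ hne')
    apply hne
    rw [hover₃, h3, hcomapm]

end D1

section main

variable (A : Type u) [CommRing A] [IsNoetherianRing A] [IsLocalRing A]
  (S' : Type u) [CommRing S'] [IsLocalRing S'] [Algebra A S'] [IsLocalHom (algebraMap A S')]
  [Hensel.IsStrictHenselization A S']
  (T' : Type u) [CommRing T'] [IsLocalRing T']
  [Algebra (AdicCompletion (maximalIdeal A) A) T']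
  [IsLocalHom (algebraMap (AdicCompletion (maximalIdeal A) A) T')]
  [Hensel.IsStrictHenselization (AdicCompletion (maximalIdeal A) A) T']

open Groth.Agent.Helper8.HensCpl in
theorem immediate_iff (p : Ideal A) [p.IsPrime] :
    (∃ P ∈ (p.map (algebraMap A S')).minimalPrimes, ringKrullDim (S' ⧸ P) = 1) ↔
    (∃ q ∈ (p.map (algebraMap A (AdicCompletion (maximalIdeal A) A))).minimalPrimes,
      ∃ Q ∈ (q.map (algebraMap (AdicCompletion (maximalIdeal A) A) T')).minimalPrimes,
        ringKrullDim (T' ⧸ Q) = 1) := by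
  obtain ⟨g, hg, hgloc⟩ :=
    exists_map_strictHenselization A (AdicCompletion (maximalIdeal A) A) S' T'
  have hflat := flat_map_strictHenselization A (AdicCompletion (maximalIdeal A) A) S' T' g hg
  haveI : IsNoetherianRing (AdicCompletion (maximalIdeal A) A) :=
    Groth.Agent.Helper8.AdicReg.isNoetherianRing A _
  haveI : IsNoetherianRing S' := (Groth.Agent.S0540.result A S').mp inferInstance
  haveI : IsNoetherianRing T' :=
    (Groth.Agent.S0540.result (AdicCompletion (maximalIdeal A) A) T').mp inferInstance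
  haveI : HenselianLocalRing S' := Hensel.IsStrictHenselization.henselian A
  have hmax : (maximalIdeal S').map g = maximalIdeal T' := by
    rw [← Groth.Agent.S0538.result A S', Ideal.map_map, hg, ← Ideal.map_map,
      ← AdicCompletion.maximalIdeal_eq_map,
      Groth.Agent.S0538.result (AdicCompletion (maximalIdeal A) A) T']
  have h1 : ∀ t : T', ∃ s : S', t - g s ∈ (maximalIdeal S').map g := by
    intro t
    rw [hmax]
    exact exists_sub_mem_maximalIdeal A (AdicCompletion (maximalIdeal A) A) S' T'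
      (residue_algebraMap_surjective A) g hg hgloc t
  haveI : Module.FaithfullyFlat (AdicCompletion (maximalIdeal A) A) T' :=
    Groth.Agent.S0539.result (AdicCompletion (maximalIdeal A) A) T'
  letI : Algebra S' T' := g.toAlgebra
  haveI : Module.Flat S' T' := hflat
  haveI : IsLocalHom (algebraMap S' T') := hgloc
  have hsurj : ∀ (n : ℕ) (c : T'), ∃ d : S',
      c - algebraMap S' T' d ∈ ((maximalIdeal S') ^ n).map (algebraMap S' T') :=
    fun n c => exists_sub_mem_map_pow_of_one g (maximalIdeal S') h1 n c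
  have hpT : (p.map (algebraMap A S')).map (algebraMap S' T') =
      (p.map (algebraMap A (AdicCompletion (maximalIdeal A) A))).map
        (algebraMap (AdicCompletion (maximalIdeal A) A) T') := by
    show (p.map (algebraMap A S')).map g = _
    rw [Ideal.map_map, Ideal.map_map, hg]
  have hcomapm : (maximalIdeal T').comap (algebraMap S' T') = maximalIdeal S' :=
    ((IsLocalRing.local_hom_TFAE (algebraMap S' T')).out 0 4).mp hgloc
  constructor
  · rintro ⟨P, hP, hdimP⟩
    haveI := hP.1.1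
    have hPne : P ≠ maximalIdeal S' := ne_maximalIdeal_of_dim_one P hdimP
    have hPup := eq_maximalIdeal_of_lt_of_dim_one P hdimP
    have hPT : P.map (algebraMap S' T') ≤ maximalIdeal T' :=
      (Ideal.map_mono (IsLocalRing.le_maximalIdeal Ideal.IsPrime.ne_top')).trans
        (DimOneUB.map_maximalIdeal_le S' T')
    obtain ⟨Q, hQmin, -⟩ := Ideal.exists_minimalPrimes_le hPT
    haveI := hQmin.1.1
    have hQ1 : Q ∈ ((p.map (algebraMap A S')).map (algebraMap S' T')).minimalPrimes :=
      mem_minimalPrimes_map_of_mem_minimalPrimes_map _ P hP Q hQmin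
    rw [hpT] at hQ1
    refine ⟨Q.comap (algebraMap (AdicCompletion (maximalIdeal A) A) T'),
      comap_mem_minimalPrimes_map _ Q hQ1, Q, mem_minimalPrimes_map_comap _ Q hQ1, ?_⟩
    apply ringKrullDim_quotient_eq_one
    · intro hQm
      apply hPne
      have hQP : Q.comap (algebraMap S' T') = P := comap_eq_of_mem_minimalPrimes_map P Q hQmin
      rw [← hQP, hQm, hcomapm]
    · intro Q₃ hQ₃ hlt
      haveI := hQ₃
      exact curve_up S' T' hsurj P hPne hPup Q hQmin Q₃ hlt
  · rintro ⟨q, hq, Q, hQ, hdimQ⟩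
    haveI := hq.1.1
    haveI := hQ.1.1
    have hQ1 : Q ∈ ((p.map (algebraMap A (AdicCompletion (maximalIdeal A) A))).map
        (algebraMap (AdicCompletion (maximalIdeal A) A) T')).minimalPrimes :=
      mem_minimalPrimes_map_of_mem_minimalPrimes_map _ q hq Q hQ
    rw [← hpT] at hQ1
    have hPmin := comap_mem_minimalPrimes_map (p.map (algebraMap A S')) Q hQ1
    have hQP := mem_minimalPrimes_map_comap (p.map (algebraMap A S')) Q hQ1
    haveI : (Q.comap (algebraMap S' T')).IsPrime := Ideal.IsPrime.comap _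
    have hQne : Q ≠ maximalIdeal T' := ne_maximalIdeal_of_dim_one Q hdimQ
    have hQup := eq_maximalIdeal_of_lt_of_dim_one Q hdimQ
    obtain ⟨hPne, hPup⟩ :=
      curve_down S' T' hsurj (Q.comap (algebraMap S' T')) Q hQP hQne hQup
    exact ⟨_, hPmin, ringKrullDim_quotient_eq_one _ hPne hPup⟩

end main

end Groth.Agent.Helper8.CurveComp
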