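import Mathlib
import Groth.Prelude
import Groth.Agent.Lib.Helper8.CurveComp3
import Groth.Agent.Lib.Helper8.HensGU9
import Groth.Agent.Lib.Helper7.SHens.Dim

/-!
# The condition `c₂`: abstract comparison lemmas
-/

set_option autoImplicit false

universe u

namespace Groth.Agent.Helper8.C2T

open IsLocalRing Groth.Agent.Helper7.SHens

section order

theorem two_le_height_iff {α : Type*} [Preorder α] (x : α) :
    (2 : ℕ∞) ≤ Order.height x ↔ ∃ y z : α, z < y ∧ y < x := by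
  constructor
  · intro h
    by_contra hne
    push Not at hne
    have h1 : Order.height x ≤ ((1 : ℕ) : ℕ∞) := by
      rw [Order.height_le_coe_iff]
      intro y hy
      have hmin : IsMin y := by
        intro z hz
        by_contra hyz
        exact hne y z (lt_iff_le_not_ge.2 ⟨hz, hyz⟩) hy
      rw [Order.height_eq_zero.mpr hmin]
      exact_mod_cast Nat.zero_lt_one
    have h2 : (2 : ℕ∞) ≤ ((1 : ℕ) : ℕ∞) := h.trans h1
    have h3 : (2 : ℕ) ≤ 1 := by exact_mod_cast h2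
    omega
  · rintro ⟨y, z, hzy, hyx⟩
    have h1 := Order.height_add_one_le hzy
    have h2 := Order.height_add_one_le hyx
    calc (2 : ℕ∞) = 0 + 1 + 1 := by norm_num
      _ ≤ Order.height z + 1 + 1 := add_le_add (add_le_add zero_le le_rfl) le_rfl
      _ ≤ Order.height y + 1 := add_le_add h1 le_rfl
      _ ≤ Order.height x := h2

theorem two_le_coheight_iff {α : Type*} [Preorder α] (x : α) :
    (2 : ℕ∞) ≤ Order.coheight x ↔ ∃ y z : α, x < y ∧ y < z := by
  constructor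
  · intro h
    by_contra hne
    push Not at hne
    have h1 : Order.coheight x ≤ ((1 : ℕ) : ℕ∞) := by
      rw [Order.coheight_le_coe_iff]
      intro y hy
      have hmax : IsMax y := by
        intro z hz
        by_contra hzy
        exact hne y z hy (lt_iff_le_not_ge.2 ⟨hz, hzy⟩)
      rw [Order.coheight_eq_zero.mpr hmax]
      exact_mod_cast Nat.zero_lt_one
    have h2 : (2 : ℕ∞) ≤ ((1 : ℕ) : ℕ∞) := h.trans h1
    have h3 : (2 : ℕ) ≤ 1 := by exact_mod_cast h2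
    omega
  · rintro ⟨y, z, hxy, hyz⟩
    have h1 := Order.coheight_add_one_le hyz
    have h2 := Order.coheight_add_one_le hxy
    calc (2 : ℕ∞) = 0 + 1 + 1 := by norm_num
      _ ≤ Order.coheight z + 1 + 1 := add_le_add (add_le_add zero_le le_rfl) le_rfl
      _ ≤ Order.coheight y + 1 := add_le_add h1 le_rfl
      _ ≤ Order.coheight x := h2

end order

section dim

theorem two_le_dim_quotient_iff {R : Type*} [CommRing R] [IsLocalRing R] (P : Ideal R)
    [hP : P.IsPrime] :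
    (2 : WithBot ℕ∞) ≤ ringKrullDim (R ⧸ P) ↔
      ∃ P₁ : Ideal R, P₁.IsPrime ∧ P < P₁ ∧ P₁ ≠ maximalIdeal R := by
  let Pp : PrimeSpectrum R := ⟨P, hP⟩
  have h1 : ringKrullDim (R ⧸ P) = ((Order.coheight Pp : ℕ∞) : WithBot ℕ∞) := by
    rw [ringKrullDim_quotient, Order.coheight_eq_krullDim_Ici]
    have : PrimeSpectrum.zeroLocus (P : Set R) = Set.Ici Pp := by
      ext q
      simp only [PrimeSpectrum.mem_zeroLocus, SetLike.coe_subset_coe, Set.mem_Ici]
      rfl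
    rw [this]
  rw [h1]
  have h2 : (2 : WithBot ℕ∞) ≤ ((Order.coheight Pp : ℕ∞) : WithBot ℕ∞) ↔
      (2 : ℕ∞) ≤ Order.coheight Pp := by
    constructor
    · intro h
      have h' : ((2 : ℕ∞) : WithBot ℕ∞) ≤ ((Order.coheight Pp : ℕ∞) : WithBot ℕ∞) := h
      exact WithBot.coe_le_coe.mp h'
    · intro h
      have h' : ((2 : ℕ∞) : WithBot ℕ∞) ≤ ((Order.coheight Pp : ℕ∞) : WithBot ℕ∞) :=
        WithBot.coe_le_coe.mpr h
      exact h'
  rw [h2, two_le_coheight_iff]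
  constructor
  · rintro ⟨y, z, hxy, hyz⟩
    refine ⟨y.asIdeal, y.isPrime, hxy, ?_⟩
    intro hy
    have hz : z.asIdeal ≤ maximalIdeal R := IsLocalRing.le_maximalIdeal z.isPrime.ne_top
    have hyz' : y.asIdeal < z.asIdeal := hyz
    rw [hy] at hyz'
    exact absurd hz (not_le_of_gt hyz')
  · rintro ⟨P₁, hP₁, hlt, hne⟩
    refine ⟨⟨P₁, hP₁⟩, ⟨maximalIdeal R, inferInstance⟩, hlt, ?_⟩
    show P₁ < maximalIdeal R
    exact lt_of_le_of_ne (IsLocalRing.le_maximalIdeal hP₁.ne_top) hne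

theorem two_le_dim_localization_iff {R : Type*} [CommRing R] (m : Ideal R) [hm : m.IsPrime] :
    (2 : WithBot ℕ∞) ≤ ringKrullDim (Localization.AtPrime m) ↔
      ∃ q₀ q₁ : Ideal R, q₀.IsPrime ∧ q₁.IsPrime ∧ q₀ < q₁ ∧ q₁ < m := by
  have hdim : ringKrullDim (Localization.AtPrime m) =
      ((Order.height (⟨m, hm⟩ : PrimeSpectrum R) : ℕ∞) : WithBot ℕ∞) := by
    have hh := PrimeSpectrum.height_eq_orderHeight (⟨m, hm⟩ : PrimeSpectrum R)
    rw [IsLocalization.AtPrime.ringKrullDim_eq_height m (Localization.AtPrime m), ← hh]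
  rw [hdim]
  have h2 : (2 : WithBot ℕ∞) ≤ ((Order.height (⟨m, hm⟩ : PrimeSpectrum R) : ℕ∞) : WithBot ℕ∞) ↔
      (2 : ℕ∞) ≤ Order.height (⟨m, hm⟩ : PrimeSpectrum R) := by
    constructor
    · intro h
      have h' : ((2 : ℕ∞) : WithBot ℕ∞) ≤
          ((Order.height (⟨m, hm⟩ : PrimeSpectrum R) : ℕ∞) : WithBot ℕ∞) := h
      exact WithBot.coe_le_coe.mp h'
    · intro h
      have h' : ((2 : ℕ∞) : WithBot ℕ∞) ≤
          ((Order.height (⟨m, hm⟩ : PrimeSpectrum R) : ℕ∞) : WithBot ℕ∞) :=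
        WithBot.coe_le_coe.mpr h
      exact h'
  rw [h2, two_le_height_iff]
  constructor
  · rintro ⟨y, z, hzy, hyx⟩
    exact ⟨z.asIdeal, y.asIdeal, z.isPrime, y.isPrime, hzy, hyx⟩
  · rintro ⟨q₀, q₁, h0, h1, h01, h1m⟩
    exact ⟨⟨q₁, h1⟩, ⟨q₀, h0⟩, h01, h1m⟩

end dim

section inc

/-- Incomparability of primes in an algebra isomorphic to a colimit of étale neighbourhoods. -/
theorem inc_of_algEquiv_G {A S Ω : Type u} [CommRing A] [CommRing S] [Algebra A S] [CommRing Ω]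
    [Algebra A Ω] (e : S ≃ₐ[A] G A Ω) (P Q : Ideal S) (hP : P.IsPrime) (hQ : Q.IsPrime)
    (h₁ : P ≤ Q) (h₂ : P.comap (algebraMap A S) = Q.comap (algebraMap A S)) : P = Q := by
  haveI := hP
  haveI := hQ
  refine eq_of_le_of_under_eq_of_forall_exists_quasiFinite.{u} (A := A) (B := S) ?_ P Q h₁ h₂
  intro b
  obtain ⟨U, x, hx⟩ := exists_rep (e b)
  refine ⟨U.Ring, inferInstance, inferInstance, inferInstance,
    (e.symm : G A Ω →ₐ[A] S).comp (ιAlg U), x, ?_⟩
  show e.symm (ιAlg U x) = b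
  rw [ιAlg_apply, hx, AlgEquiv.symm_apply_apply]

end inc

section descent

/-- Descent of `c₂` along a faithfully flat local homomorphism with incomparable fibres. -/
theorem c2_descent {R B : Type u} [CommRing R] [CommRing B] [IsLocalRing R] [IsLocalRing B]
    [Algebra R B] [Module.FaithfullyFlat R B] [IsLocalHom (algebraMap R B)]
    (hinc : ∀ P Q : Ideal B, P.IsPrime → Q.IsPrime → P ≤ Q →
      P.comap (algebraMap R B) = Q.comap (algebraMap R B) → P = Q)
    (hB : ∀ P ∈ minimalPrimes B, (2 : WithBot ℕ∞) ≤ ringKrullDim (B ⧸ P)) :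
    ∀ p ∈ minimalPrimes R, (2 : WithBot ℕ∞) ≤ ringKrullDim (R ⧸ p) := by
  intro p hp
  obtain ⟨P, hPmin, hPp⟩ := Groth.Agent.Helper8.HensGU.minimalPrimes_subset_image_comap R B hp
  haveI hPprime : P.IsPrime := hPmin.1.1
  obtain ⟨P₁, hP₁, hlt, hne⟩ := (two_le_dim_quotient_iff P).mp (hB P hPmin)
  haveI := hP₁
  have hcomapm : (maximalIdeal B).comap (algebraMap R B) = maximalIdeal R :=
    ((IsLocalRing.local_hom_TFAE (algebraMap R B)).out 0 4).mp ‹_›
  subst hPp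
  refine (two_le_dim_quotient_iff _).mpr
    ⟨P₁.comap (algebraMap R B), Ideal.comap_isPrime _ _, ?_, ?_⟩
  · refine lt_of_le_of_ne (Ideal.comap_mono hlt.le) ?_
    intro h
    exact hlt.ne (hinc P P₁ hPprime hP₁ hlt.le h)
  · intro h
    apply hne
    refine hinc P₁ (maximalIdeal B) hP₁ inferInstance (IsLocalRing.le_maximalIdeal hP₁.ne_top) ?_
    rw [h, hcomapm]

end descent

section HC

variable (D C : Type u) [CommRing D] [HenselianLocalRing D] [IsNoetherianRing D]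
  [CommRing C] [IsLocalRing C] [IsNoetherianRing C] [Algebra D C] [Module.Flat D C]
  [IsLocalHom (algebraMap D C)]

variable (hsurj : ∀ (n : ℕ) (c : C), ∃ d : D,
    c - algebraMap D C d ∈ ((maximalIdeal D) ^ n).map (algebraMap D C))

include hsurj in
theorem c2_up (hD : ∀ p ∈ minimalPrimes D, (2 : WithBot ℕ∞) ≤ ringKrullDim (D ⧸ p)) :
    ∀ Q ∈ minimalPrimes C, (2 : WithBot ℕ∞) ≤ ringKrullDim (C ⧸ Q) := by
  intro Q hQ
  haveI hQp : Q.IsPrime := hQ.1.1
  by_contra hcon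
  rw [two_le_dim_quotient_iff Q] at hcon
  push Not at hcon
  have hQ' : Q ∈ ((⊥ : Ideal D).map (algebraMap D C)).minimalPrimes := by
    rw [Ideal.map_bot]
    exact hQ
  have hpmin : Q.comap (algebraMap D C) ∈ minimalPrimes D :=
    Groth.Agent.Helper8.CurveComp.comap_mem_minimalPrimes_map ⊥ Q hQ'
  have hQP := Groth.Agent.Helper8.CurveComp.mem_minimalPrimes_map_comap ⊥ Q hQ'
  haveI : (Q.comap (algebraMap D C)).IsPrime := Ideal.comap_isPrime _ _
  have hcomapm : (maximalIdeal C).comap (algebraMap D C) = maximalIdeal D :=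
    ((IsLocalRing.local_hom_TFAE (algebraMap D C)).out 0 4).mp ‹_›
  obtain ⟨P₁, hP₁, hlt, hne⟩ :=
    (two_le_dim_quotient_iff (Q.comap (algebraMap D C))).mp (hD _ hpmin)
  by_cases hQm : Q = maximalIdeal C
  · have hpm : Q.comap (algebraMap D C) = maximalIdeal D := by rw [hQm, hcomapm]
    rw [hpm] at hlt
    exact absurd (IsLocalRing.le_maximalIdeal hP₁.ne_top) (not_le_of_gt hlt)
  · obtain ⟨-, hpup⟩ := Groth.Agent.Helper8.CurveComp.curve_down D C hsurj
      (Q.comap (algebraMap D C)) Q hQP hQm hcon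
    exact hne (hpup P₁ hP₁ hlt)

include hsurj in
theorem c2_down (hC : ∀ Q ∈ minimalPrimes C, (2 : WithBot ℕ∞) ≤ ringKrullDim (C ⧸ Q)) :
    ∀ p ∈ minimalPrimes D, (2 : WithBot ℕ∞) ≤ ringKrullDim (D ⧸ p) := by
  intro p hp
  haveI hpp : p.IsPrime := hp.1.1
  by_contra hcon
  rw [two_le_dim_quotient_iff p] at hcon
  push Not at hcon
  have hple : p ≤ maximalIdeal D := IsLocalRing.le_maximalIdeal hpp.ne_top
  have hpC : p.map (algebraMap D C) ≤ maximalIdeal C :=
    (Ideal.map_mono hple).trans (Groth.Agent.Helper8.DimOneUB.map_maximalIdeal_le D C)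
  obtain ⟨Q, hQmin, hQle⟩ := Ideal.exists_minimalPrimes_le hpC
  haveI hQprime : Q.IsPrime := hQmin.1.1
  have hQ0 : Q ∈ ((⊥ : Ideal D).map (algebraMap D C)).minimalPrimes :=
    Groth.Agent.Helper8.CurveComp.mem_minimalPrimes_map_of_mem_minimalPrimes_map ⊥ p hp Q hQmin
  rw [Ideal.map_bot] at hQ0
  obtain ⟨Q₁, hQ₁, hlt, hne⟩ := (two_le_dim_quotient_iff Q).mp (hC Q hQ0)
  by_cases hpm : p = maximalIdeal D
  · have hQm : Q = maximalIdeal C := by
      apply le_antisymm hQle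
      rw [← Groth.Agent.Helper8.CurveComp.map_maximalIdeal_eq' D C hsurj, ← hpm]
      exact hQmin.1.2
    rw [hQm] at hlt
    exact absurd (IsLocalRing.le_maximalIdeal hQ₁.ne_top) (not_le_of_gt hlt)
  · haveI := hQ₁
    exact hne (Groth.Agent.Helper8.CurveComp.curve_up D C hsurj p hpm hcon Q hQmin Q₁ hlt)

end HC

section Norm

variable {A A' S T : Type*} [CommRing A] [CommRing A'] [CommRing S] [CommRing T] [IsLocalRing S]
  [Algebra A A'] [Algebra A S] [Algebra A' T] [Algebra S T]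
  [Algebra.HasGoingDown A' T] [Algebra.IsIntegral S T]

/-- Abstract form of: the normalization satisfies `c₂` at all its maximal ideals iff all
components of the henselization have dimension at least two. -/
theorem c2_norm_iff
    (hkey : ∀ a : A, algebraMap S T (algebraMap A S a) = algebraMap A' T (algebraMap A A' a))
    (hincAS : ∀ P P₁ : Ideal S, P.IsPrime → P₁.IsPrime → P ≤ P₁ →
      P.comap (algebraMap A S) = P₁.comap (algebraMap A S) → P = P₁)
    (hmaps : ∀ Q ∈ minimalPrimes T, Q.comap (algebraMap S T) ∈ minimalPrimes S)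
    (hsurjm : ∀ p ∈ minimalPrimes S, ∃ Q ∈ minimalPrimes T, Q.comap (algebraMap S T) = p)
    (h1 : ∀ q ∈ minimalPrimes T, ∃! m : Ideal T, m.IsMaximal ∧ q ≤ m)
    (h2 : ∀ m : Ideal T, m.IsMaximal → ∃! q : Ideal T, q ∈ minimalPrimes T ∧ q ≤ m)
    (hmaxc : ∀ M : Ideal T, M.IsMaximal → (M.comap (algebraMap A' T)).IsMaximal)
    (hmaxs : ∀ n : Ideal A', n.IsMaximal →
      ∃ M : Ideal T, M.IsMaximal ∧ M.comap (algebraMap A' T) = n) :
    (∀ m' : MaximalSpectrum A',
        (2 : WithBot ℕ∞) ≤ ringKrullDim (Localization.AtPrime m'.asIdeal)) ↔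
      (∀ p ∈ minimalPrimes S, (2 : WithBot ℕ∞) ≤ ringKrullDim (S ⧸ p)) := by
  have hincT : ∀ Q Q₁ : Ideal T, Q.IsPrime → Q₁.IsPrime → Q ≤ Q₁ →
      Q.comap (algebraMap A' T) = Q₁.comap (algebraMap A' T) → Q = Q₁ := by
    intro Q Q₁ hQ hQ₁ hle hc
    haveI := hQ
    haveI := hQ₁
    by_contra hne
    have hlt : Q < Q₁ := lt_of_le_of_ne hle hne
    have hltS : Q.comap (algebraMap S T) < Q₁.comap (algebraMap S T) :=
      Ideal.IsIntegral.comap_lt_comap hlt
    have hcA : (Q.comap (algebraMap S T)).comap (algebraMap A S) =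
        (Q₁.comap (algebraMap S T)).comap (algebraMap A S) := by
      ext a
      simp only [Ideal.mem_comap, hkey]
      exact Ideal.ext_iff.mp hc (algebraMap A A' a)
    exact hltS.ne (hincAS _ _ (Ideal.comap_isPrime _ _) (Ideal.comap_isPrime _ _) hltS.le hcA)
  constructor
  · intro hi p hp
    obtain ⟨Q, hQmin, rfl⟩ := hsurjm p hp
    haveI hQp : Q.IsPrime := hQmin.1.1
    obtain ⟨M, hM, hQM⟩ := Ideal.exists_le_maximal Q hQp.ne_top
    haveI := hM
    haveI hMp : M.IsPrime := hM.isPrime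
    have hm' := hmaxc M hM
    haveI : (M.comap (algebraMap A' T)).IsPrime := hm'.isPrime
    obtain ⟨q₀, q₁, hq₀, hq₁, h01, h1m⟩ :=
      (two_le_dim_localization_iff (M.comap (algebraMap A' T))).mp (hi ⟨_, hm'⟩)
    haveI := hq₀
    haveI := hq₁
    haveI : M.LiesOver (M.comap (algebraMap A' T)) := ⟨rfl⟩
    obtain ⟨Q₁, hQ₁lt, hQ₁p, hQ₁lo⟩ :=
      Ideal.exists_ideal_lt_liesOver_of_lt (p := q₁) (q := M.comap (algebraMap A' T)) M h1m
    haveI := hQ₁p
    haveI := hQ₁lo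
    obtain ⟨Q₀, hQ₀lt, hQ₀p, hQ₀lo⟩ :=
      Ideal.exists_ideal_lt_liesOver_of_lt (p := q₀) (q := q₁) Q₁ h01
    haveI := hQ₀p
    obtain ⟨Q', hQ'min, hQ'le⟩ :=
      Ideal.exists_minimalPrimes_le (I := (⊥ : Ideal T)) (J := Q₀) bot_le
    have hQ'Q : Q' = Q :=
      (h2 M hM).unique ⟨hQ'min, hQ'le.trans (hQ₀lt.le.trans hQ₁lt.le)⟩ ⟨hQmin, hQM⟩
    have hQQ₁ : Q < Q₁ := lt_of_le_of_lt (hQ'Q ▸ hQ'le) hQ₀lt
    refine (two_le_dim_quotient_iff _).mpr
      ⟨Q₁.comap (algebraMap S T), Ideal.comap_isPrime _ _,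
        Ideal.IsIntegral.comap_lt_comap hQQ₁, ?_⟩
    intro h
    have hlt : Q₁.comap (algebraMap S T) < M.comap (algebraMap S T) :=
      Ideal.IsIntegral.comap_lt_comap hQ₁lt
    rw [h] at hlt
    exact absurd (IsLocalRing.le_maximalIdeal (Ideal.comap_isPrime (algebraMap S T) M).ne_top)
      (not_le_of_gt hlt)
  · intro hii m'
    obtain ⟨M, hM, hMm'⟩ := hmaxs m'.asIdeal m'.isMaximal
    haveI := hM
    haveI hMp : M.IsPrime := hM.isPrime
    obtain ⟨Q, hQmin, hQM⟩ :=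
      Ideal.exists_minimalPrimes_le (I := (⊥ : Ideal T)) (J := M) bot_le
    haveI hQp : Q.IsPrime := hQmin.1.1
    have hpmin := hmaps Q hQmin
    obtain ⟨p₁, hp₁, hlt, hne⟩ :=
      (two_le_dim_quotient_iff (Q.comap (algebraMap S T))).mp (hii _ hpmin)
    haveI := hp₁
    obtain ⟨Q₁, hQQ₁, hQ₁p, hQ₁c⟩ :=
      Ideal.exists_ideal_over_prime_of_isIntegral p₁ Q hlt.le
    haveI := hQ₁p
    obtain ⟨M₁, hM₁, hQ₁M₁⟩ := Ideal.exists_le_maximal Q₁ hQ₁p.ne_top
    have hMM : M₁ = M := (h1 Q hQmin).unique ⟨hM₁, le_trans hQQ₁ hQ₁M₁⟩ ⟨hM, hQM⟩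
    rw [hMM] at hQ₁M₁
    have hQne : Q ≠ Q₁ := by
      intro h
      apply hlt.ne
      rw [← hQ₁c, ← h]
    have hQ₁ne : Q₁ ≠ M := by
      intro h
      apply hne
      rw [← hQ₁c, h]
      haveI : (M.comap (algebraMap S T)).IsMaximal :=
        Ideal.isMaximal_comap_of_isIntegral_of_isMaximal M
      exact IsLocalRing.eq_maximalIdeal inferInstance
    have hq01 : Q.comap (algebraMap A' T) < Q₁.comap (algebraMap A' T) :=
      lt_of_le_of_ne (Ideal.comap_mono hQQ₁)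
        (fun h => hQne (hincT Q Q₁ hQp hQ₁p hQQ₁ h))
    have hq1m : Q₁.comap (algebraMap A' T) < m'.asIdeal := by
      rw [← hMm']
      exact lt_of_le_of_ne (Ideal.comap_mono hQ₁M₁)
        (fun h => hQ₁ne (hincT Q₁ M hQ₁p hMp hQ₁M₁ h))
    exact (two_le_dim_localization_iff m'.asIdeal).mpr
      ⟨_, _, Ideal.comap_isPrime _ Q, Ideal.comap_isPrime _ Q₁, hq01, hq1m⟩

end Norm

end Groth.Agent.Helper8.C2T
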