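import Groth.Agent.Lib.Helper8.C2a
import Groth.Agent.Lib.Helper8.FlatMod5
import Groth.Agent.Lib.Helper8.Depth7
import Groth.Agent.Lib.Helper8.CplMap2

/-!
# The condition `c₂` ascends along flat local homomorphisms
-/

set_option autoImplicit false
universe u

namespace Groth.Agent.Helper8.C2

open IsLocalRing LocCoh Module TensorProduct

section Core

variable (S T : Type u) [CommRing S] [CommRing T] [IsNoetherianRing S] [IsNoetherianRing T]
  [IsLocalRing S] [IsLocalRing T] [Algebra S T] [IsLocalHom (algebraMap S T)] [Module.Flat S T]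

omit [IsNoetherianRing S] [IsNoetherianRing T] [IsLocalRing S] [IsLocalRing T]
  [IsLocalHom (algebraMap S T)] in
/-- flatness: the annihilator of `1 ⊗ n₀`. -/
theorem mem_map_of_tmul_eq_zero (N : Type u) [AddCommGroup N] [Module S N] (q : Ideal S) (n₀ : N)
    (hn₀ : ∀ s : S, s • n₀ = 0 ↔ s ∈ q) (t : T) (ht : t ⊗ₜ[S] n₀ = 0) :
    t ∈ q.map (algebraMap S T) := by
  let φ : S →ₗ[S] N := LinearMap.toSpanSingleton S N n₀
  have hker : LinearMap.ker φ = q := by
    ext s
    rw [LinearMap.mem_ker, LinearMap.toSpanSingleton_apply]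
    exact hn₀ s
  have h1 : (t ⊗ₜ[S] (1 : S)) ∈ LinearMap.ker (AlgebraTensorModule.lTensor T T φ) := by
    rw [LinearMap.mem_ker]
    show t ⊗ₜ[S] φ 1 = 0
    rw [LinearMap.toSpanSingleton_apply, one_smul]
    exact ht
  rw [Module.Flat.ker_lTensor_eq] at h1
  obtain ⟨z, hz⟩ := h1
  have h2 : ∀ z : T ⊗[S] (LinearMap.ker φ),
      TensorProduct.rid S T ((AlgebraTensorModule.lTensor T T (LinearMap.ker φ).subtype) z) ∈
        q.map (algebraMap S T) := by
    intro z
    induction z using TensorProduct.induction_on with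
    | zero => simp
    | tmul t' s' =>
      show TensorProduct.rid S T (t' ⊗ₜ[S] (s' : S)) ∈ _
      rw [TensorProduct.rid_tmul, Algebra.smul_def, mul_comm]
      apply Ideal.mul_mem_left
      apply Ideal.mem_map_of_mem
      rw [← hker]
      exact s'.2
    | add x y hx hy =>
      rw [map_add, map_add]
      exact Ideal.add_mem _ hx hy
  have h3 := h2 z
  rw [hz, TensorProduct.rid_tmul, one_smul] at h3
  exact h3

variable [IsAdicComplete (maximalIdeal S) S]

/-- **Ascent of `c₂`** along a flat local homomorphism from a complete local ring. -/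
theorem two_le_dim_quotient_minimalPrimes
    (hS : ∀ q ∈ minimalPrimes S, (2 : WithBot ℕ∞) ≤ ringKrullDim (S ⧸ q)) :
    ∀ Q ∈ minimalPrimes T, (2 : WithBot ℕ∞) ≤ ringKrullDim (T ⧸ Q) := by
  intro Q hQ
  have hQp : Q.IsPrime := hQ.1.1
  obtain ⟨q, hqmin, hqle⟩ := Ideal.exists_minimalPrimes_le (I := (⊥ : Ideal S))
    (J := Q.comap (algebraMap S T)) bot_le
  have hqp : q.IsPrime := hqmin.1.1
  obtain ⟨N, _, _, hfin, ⟨n₀, hn₀⟩, hdepth⟩ := exists_module_depth_two S q (hS q hqmin)
  have hd := Groth.Agent.Helper8.FlatMod.depth_formula (R := S) (S := T) T N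
  have h2 : (2 : ℕ∞) ≤ depth T (T ⊗[S] N) := by
    rw [hd]
    exact le_trans hdepth le_self_add
  -- `Q` is associated to `T ⊗ N`
  let ψ : T →ₗ[T] T ⊗[S] N := LinearMap.toSpanSingleton T _ ((1 : T) ⊗ₜ[S] n₀)
  have hψ : ∀ t, ψ t = t ⊗ₜ[S] n₀ := by
    intro t
    rw [LinearMap.toSpanSingleton_apply, TensorProduct.smul_tmul', smul_eq_mul, mul_one]
  set J : Ideal T := LinearMap.ker ψ with hJ
  have hkerψ : J ≤ Q := by
    intro t ht
    rw [hJ, LinearMap.mem_ker, hψ] at ht
    have := mem_map_of_tmul_eq_zero S T N q n₀ hn₀ t ht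
    exact (Ideal.map_le_iff_le_comap.mpr hqle) this
  have hmin : Q ∈ J.minimalPrimes := by
    refine ⟨⟨hQp, hkerψ⟩, fun Q' hQ' hle => hQ.2 ⟨hQ'.1, bot_le⟩ hle⟩
  have hass1 : Q ∈ associatedPrimes T (T ⧸ J) := by
    apply Module.associatedPrimes.minimalPrimes_annihilator_subset_associatedPrimes
    rw [Ideal.annihilator_quotient]
    exact hmin
  have hass : Q ∈ associatedPrimes T (T ⊗[S] N) := by
    refine associatedPrimes.subset_of_injective
      (f := (LinearMap.range ψ).subtype ∘ₗ (LinearMap.quotKerEquivRange ψ).toLinearMap) ?_ hass1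
    exact (LinearMap.range ψ).injective_subtype.comp (LinearMap.quotKerEquivRange ψ).injective
  have h3 := Groth.Agent.Helper8.Depth.depth_le_dim_quotient_associatedPrime (A := T)
    (M := T ⊗[S] N) Q hass
  refine le_trans ?_ h3
  have h4 : ((2 : ℕ∞) : WithBot ℕ∞) ≤ ((depth T (T ⊗[S] N) : ℕ∞) : WithBot ℕ∞) :=
    WithBot.coe_le_coe.mpr h2
  exact h4

end Core

end Groth.Agent.Helper8.C2
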