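import Mathlib
import Groth.Prelude
import Groth.Agent.Lib.Helper8.C2T1
import Groth.Agent.Lib.Helper8.SHExt1
import Groth.Agent.S16576
import Groth.Agent.S0509
import Groth.Agent.S0511
import Groth.Agent.S0539
import Groth.Agent.S0540
import Groth.Agent.S1972

/-!
# The condition `c₂`: normalization, henselization, strict henselization, completion
-/

set_option autoImplicit false

universe u

namespace Groth.Agent.Helper8.C2T

open IsLocalRing TensorProduct Groth.Agent.Helper7.SHens Groth.Agent.Helper8.HensGU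

section hens

variable (A : Type u) [CommRing A] [IsNoetherianRing A] [IsLocalRing A]
  (S : Type u) [CommRing S] [IsLocalRing S] [Algebra A S] [IsLocalHom (algebraMap A S)]
  [Hensel.IsHenselization A S]

attribute [local instance] Algebra.TensorProduct.rightAlgebra in
theorem c2_normRed_iff_hens :
    (∀ m' : MaximalSpectrum (CAlg2.normRed A),
        (2 : WithBot ℕ∞) ≤ ringKrullDim (Localization.AtPrime m'.asIdeal)) ↔
      (∀ p ∈ minimalPrimes S, (2 : WithBot ℕ∞) ≤ ringKrullDim (S ⧸ p)) := by
  haveI hff : Module.FaithfullyFlat A S := Groth.Agent.S0509.result A S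
  have hfin : (minimalPrimes A).Finite := minimalPrimes.finite_of_isNoetherianRing A
  have hmap : (nilradical A).map (algebraMap A S) = nilradical S :=
    Groth.Agent.S1972.result A S (Or.inl inferInstance)
  have hb := Groth.Agent.Helper8.HensBij.bijOn_comap_includeRight A S hmap.le
  haveI hhens : HenselianLocalRing S := Hensel.IsHenselization.henselian A
  obtain ⟨e⟩ := nonempty_algEquiv_HModel A S
  have h12 := unique_max_min_of_model A S e hfin
  haveI : Algebra.IsIntegral A (CAlg2.red A) :=
    Algebra.isIntegral_of_surjective Ideal.Quotient.mk_surjective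
  haveI : Algebra.IsIntegral A (CAlg2.normRed A) := Algebra.IsIntegral.trans (CAlg2.red A)
  haveI : Algebra.IsIntegral S ((CAlg2.normRed A) ⊗[A] S) :=
    isIntegral_rightAlgebra A S (CAlg2.normRed A)
  haveI : Module.Flat (CAlg2.normRed A) ((CAlg2.normRed A) ⊗[A] S) := inferInstance
  have hcm : ∀ I : Ideal ((CAlg2.normRed A) ⊗[A] S),
      I.comap (algebraMap (CAlg2.normRed A) ((CAlg2.normRed A) ⊗[A] S)) =
        I.comap (Algebra.TensorProduct.includeLeft :
          CAlg2.normRed A →ₐ[A] (CAlg2.normRed A) ⊗[A] S).toRingHom := by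
    intro I
    ext x
    simp only [Ideal.mem_comap]
    rfl
  refine c2_norm_iff (A := A) (A' := CAlg2.normRed A) (S := S)
    (T := (CAlg2.normRed A) ⊗[A] S) ?_ ?_ ?_ ?_ h12.1 h12.2 ?_ ?_
  · intro a
    show (Algebra.TensorProduct.includeRight : S →ₐ[A] (CAlg2.normRed A) ⊗[A] S)
        (algebraMap A S a) =
      (Algebra.TensorProduct.includeLeft : CAlg2.normRed A →ₐ[A] (CAlg2.normRed A) ⊗[A] S)
        (algebraMap A (CAlg2.normRed A) a)
    rw [AlgHom.commutes, AlgHom.commutes]
  · intro P P₁ hP hP₁ hle hc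
    exact inc_of_algEquiv_G e P P₁ hP hP₁ hle hc
  · intro Q hQ
    exact hb.mapsTo hQ
  · intro p hp
    obtain ⟨Q, hQ, hQp⟩ := hb.surjOn hp
    exact ⟨Q, hQ, hQp⟩
  · intro M hM
    haveI := hM
    rw [hcm]
    exact isMaximal_comap_includeLeft A (CAlg2.normRed A) S M
  · intro n hn
    haveI := hn
    obtain ⟨M, hM, hMn⟩ := exists_isMaximal_comap_includeLeft_eq A (CAlg2.normRed A) S n
    refine ⟨M, hM, ?_⟩
    rw [hcm]
    exact hMn

theorem c2_hens_iff_cpl :
    (∀ p ∈ minimalPrimes S, (2 : WithBot ℕ∞) ≤ ringKrullDim (S ⧸ p)) ↔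
      (∀ q ∈ minimalPrimes (AdicCompletion (maximalIdeal A) A),
        (2 : WithBot ℕ∞) ≤ ringKrullDim (AdicCompletion (maximalIdeal A) A ⧸ q)) := by
  haveI : HenselianLocalRing (AdicCompletion (maximalIdeal A) A) :=
    Groth.Agent.Helper8.GRing.henselianLocalRing_of_isAdicComplete _
  obtain ⟨ψ, hψ, -⟩ := Hensel.IsHenselization.universal (R := A) (S := S)
    (AdicCompletion (maximalIdeal A) A) (algebraMap A (AdicCompletion (maximalIdeal A) A))
    inferInstance
  haveI : IsNoetherianRing (AdicCompletion (maximalIdeal A) A) :=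
    Groth.Agent.Helper8.AdicReg.isNoetherianRing A _
  letI : Algebra S (AdicCompletion (maximalIdeal A) A) := ψ.toAlgebra
  haveI : Module.Flat S (AdicCompletion (maximalIdeal A) A) :=
    Groth.Agent.Helper8.HensCpl.flat_psi A S ψ hψ
  haveI : IsLocalHom (algebraMap S (AdicCompletion (maximalIdeal A) A)) :=
    Groth.Agent.Helper8.HensCpl.isLocalHom_psi A S ψ hψ
  haveI : HenselianLocalRing S := Hensel.IsHenselization.henselian A
  haveI : IsNoetherianRing S := (Groth.Agent.S0511.result A S).mp inferInstance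
  have hsurj : ∀ (n : ℕ) (c : AdicCompletion (maximalIdeal A) A), ∃ d : S,
      c - algebraMap S (AdicCompletion (maximalIdeal A) A) d ∈
        ((maximalIdeal S) ^ n).map (algebraMap S (AdicCompletion (maximalIdeal A) A)) := by
    intro n c
    obtain ⟨a, ha⟩ := Groth.Agent.Helper8.HensCpl.exists_sub_mem_map_pow A n c
    refine ⟨algebraMap A S a, ?_⟩
    show c - ψ (algebraMap A S a) ∈ ((maximalIdeal S) ^ n).map ψ
    rw [Groth.Agent.Helper8.HensCpl.map_psi_maximalIdeal_pow A S ψ hψ n]
    have : ψ (algebraMap A S a) = algebraMap A _ a := RingHom.congr_fun hψ a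
    rw [this]
    exact ha
  exact ⟨c2_up S (AdicCompletion (maximalIdeal A) A) hsurj,
    c2_down S (AdicCompletion (maximalIdeal A) A) hsurj⟩

end hens

section strict

variable (A : Type u) [CommRing A] [IsNoetherianRing A] [IsLocalRing A]
  (S' : Type u) [CommRing S'] [IsLocalRing S'] [Algebra A S'] [IsLocalHom (algebraMap A S')]
  [Hensel.IsStrictHenselization A S']

theorem c2_strict_of_cpl
    (hA : ∀ q ∈ minimalPrimes (AdicCompletion (maximalIdeal A) A),
      (2 : WithBot ℕ∞) ≤ ringKrullDim (AdicCompletion (maximalIdeal A) A ⧸ q)) :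
    ∀ p ∈ minimalPrimes S', (2 : WithBot ℕ∞) ≤ ringKrullDim (S' ⧸ p) := by
  haveI : Module.FaithfullyFlat A S' := Groth.Agent.S0539.result A S'
  haveI : IsNoetherianRing S' := (Groth.Agent.S0540.result A S').mp inferInstance
  haveI : HenselianLocalRing S' := Hensel.IsStrictHenselization.henselian A
  have hflat : (algebraMap A S').Flat := RingHom.flat_algebraMap_iff.mpr inferInstance
  have hS' := Groth.Agent.S16576.result A S' (algebraMap A S') hflat hA
  haveI : IsNoetherianRing (AdicCompletion (maximalIdeal S') S') :=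
    Groth.Agent.Helper8.AdicReg.isNoetherianRing S' _
  have hsurj : ∀ (n : ℕ) (c : AdicCompletion (maximalIdeal S') S'), ∃ d : S',
      c - algebraMap S' (AdicCompletion (maximalIdeal S') S') d ∈
        ((maximalIdeal S') ^ n).map (algebraMap S' (AdicCompletion (maximalIdeal S') S')) :=
    fun n c => Groth.Agent.Helper8.HensCpl.exists_sub_mem_map_pow S' n c
  exact c2_down S' (AdicCompletion (maximalIdeal S') S') hsurj hS'

variable (S : Type u) [CommRing S] [IsLocalRing S] [Algebra A S] [IsLocalHom (algebraMap A S)]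
  [Hensel.IsHenselization A S]

include A in
theorem c2_hens_of_strict
    (hS' : ∀ p ∈ minimalPrimes S', (2 : WithBot ℕ∞) ≤ ringKrullDim (S' ⧸ p)) :
    ∀ p ∈ minimalPrimes S, (2 : WithBot ℕ∞) ≤ ringKrullDim (S ⧸ p) := by
  haveI hS'h : HenselianLocalRing S' := Hensel.IsStrictHenselization.henselian A
  obtain ⟨σ, hσ, -⟩ := Hensel.IsHenselization.universal (R := A) (S := S) S'
    (algebraMap A S') inferInstance
  letI : Algebra S S' := σ.toAlgebra
  haveI : IsScalarTower A S S' :=
    IsScalarTower.of_algebraMap_eq fun a => (RingHom.congr_fun hσ a).symm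
  haveI : IsLocalHom (algebraMap S S') :=
    Groth.Agent.Helper8.SHExt.isLocalHom_hens_to_strict A S S'
  haveI : Hensel.IsStrictHenselization S S' :=
    Groth.Agent.Helper8.SHExt.isStrictHenselization_hens A S S'
  haveI : Module.FaithfullyFlat S S' := Groth.Agent.S0539.result S S'
  obtain ⟨e, -⟩ := exists_algEquiv_Model A S'
  refine c2_descent (R := S) (B := S') ?_ hS'
  intro P Q hP hQ hle hc
  refine inc_of_algEquiv_G e P Q hP hQ hle ?_
  rw [IsScalarTower.algebraMap_eq A S S', ← Ideal.comap_comap, ← Ideal.comap_comap, hc]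

end strict

end Groth.Agent.Helper8.C2T
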