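import Groth.Agent.Lib.Helper8.NV5

set_option autoImplicit false
universe u
open CategoryTheory CategoryTheory.Limits Opposite

namespace Groth.Agent.Helper8.NV

open LocCoh Groth.Agent.Helper8.LC Abelian IsLocalRing

/-- a module of finite support dimension `n` has a prime `P` in its support with
`dim A/P = n`. -/
lemma exists_mem_support_dim_eq {A : Type u} [CommRing A] (M : Type u) [AddCommGroup M]
    [Module A M] (n : ℕ) (hn : Module.supportDim A M = n) :
    ∃ P : PrimeSpectrum A, P ∈ Module.support A M ∧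
      ringKrullDim (A ⧸ P.asIdeal) = (n : WithBot ℕ∞) := by
  have h1 : (n : WithBot ℕ∞) ≤ Order.krullDim (Module.support A M) := hn.ge
  rw [Order.le_krullDim_iff] at h1
  obtain ⟨l, hl⟩ := h1
  refine ⟨l.head.1, l.head.2, ?_⟩
  rw [ringKrullDim_quotient_eq_coheight]
  apply le_antisymm
  · rw [Order.coheight_eq_krullDim_Ici, ← hn]
    let φ : Set.Ici (l.head.1) → Module.support A M :=
      fun Q => ⟨Q.1, Module.mem_support_mono Q.2 l.head.2⟩
    exact Order.krullDim_le_of_strictMono φ (fun _ _ h => h)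
  · have hmono : StrictMono (fun y : Module.support A M => (y.1 : PrimeSpectrum A)) :=
      fun _ _ h => h
    have := Order.length_le_coheight_head (p := l.map _ hmono)
    rw [LTSeries.map_length, hl] at this
    exact_mod_cast this

/-- a finite module with `P` in its support has a nonzero map to `A ⧸ P`. -/
lemma exists_linearMap_quotient_prime_ne_zero {A : Type u} [CommRing A] [IsNoetherianRing A]
    (M : Type u) [AddCommGroup M] [Module A M] [Module.Finite A M] (P : PrimeSpectrum A)
    (hP : P ∈ Module.support A M) : ∃ f : M →ₗ[A] (A ⧸ P.asIdeal), f ≠ 0 := by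
  let p : Ideal A := P.asIdeal
  haveI : p.IsPrime := P.isPrime
  let D := A ⧸ p
  let Mb := M ⧸ (p • ⊤ : Submodule A M)
  have h1 : P ∈ Module.support A Mb := by
    rw [Module.support_quotient]
    refine ⟨hP, ?_⟩
    rw [PrimeSpectrum.mem_zeroLocus]
  rw [Module.mem_support_iff] at h1
  obtain ⟨x, hx⟩ : ∃ x : Mb, ∀ t : A, t ∉ p → t • x ≠ 0 := by
    by_contra hcon
    push Not at hcon
    have : Subsingleton (LocalizedModule p.primeCompl Mb) := by
      rw [LocalizedModule.subsingleton_iff]
      intro y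
      obtain ⟨t, ht, h0⟩ := hcon y
      exact ⟨t, ht, h0⟩
    exact not_subsingleton _ this
  let S := nonZeroDivisors D
  let K := FractionRing D
  let V := LocalizedModule S Mb
  have hv : (LocalizedModule.mk x (1 : S) : V) ≠ 0 := by
    intro h0
    rw [← LocalizedModule.zero_mk (1 : S), LocalizedModule.mk_eq] at h0
    obtain ⟨u, hu⟩ := h0
    obtain ⟨t, ht⟩ := Ideal.Quotient.mk_surjective (u : D)
    have htp : t ∉ p := by
      intro htp
      have : (u : D) = 0 := by rw [← ht]; exact Ideal.Quotient.eq_zero_iff_mem.mpr htp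
      exact nonZeroDivisors.coe_ne_zero u this
    apply hx t htp
    simp only [one_smul, smul_zero] at hu
    have h2 : (u : D) • x = 0 := hu
    rw [← ht] at h2
    exact h2
  obtain ⟨φ, hφ⟩ := Module.Projective.exists_dual_ne_zero K hv
  let g : Mb →ₗ[D] K := (φ.restrictScalars D) ∘ₗ (LocalizedModule.mkLinearMap S Mb)
  haveI : Module.Finite D Mb := Module.Finite.of_restrictScalars_finite A D Mb
  haveI : Module.FinitePresentation D Mb := Module.finitePresentation_of_finite D Mb
  obtain ⟨h, s, hs⟩ := Module.FinitePresentation.exists_lift_of_isLocalizedModule S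
    (Algebra.linearMap D K) g
  have hh : h ≠ 0 := by
    intro h0
    rw [h0, LinearMap.comp_zero] at hs
    have h3 : (s • g) x = 0 := by rw [← hs]; rfl
    rw [LinearMap.smul_apply] at h3
    have h4 : g x = φ (LocalizedModule.mk x (1 : S)) := rfl
    rw [h4, Submonoid.smul_def, Algebra.smul_def, mul_eq_zero] at h3
    rcases h3 with h3 | h3
    · rw [map_eq_zero_iff _ (IsFractionRing.injective D K)] at h3
      exact nonZeroDivisors.coe_ne_zero s h3
    · exact hφ h3
  refine ⟨(h.restrictScalars A) ∘ₗ (p • ⊤ : Submodule A M).mkQ, ?_⟩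
  intro h0
  apply hh
  apply LinearMap.ext
  intro y
  obtain ⟨z, rfl⟩ := Submodule.mkQ_surjective _ y
  exact LinearMap.congr_fun h0 z


lemma lt_natCast_of_add_one_le {a : WithBot ℕ∞} {n : ℕ}
    (h : a + 1 ≤ (n : WithBot ℕ∞)) : a < (n : WithBot ℕ∞) := by
  induction a using WithBot.recBotCoe with
  | bot => exact WithBot.bot_lt_coe _
  | coe b =>
    induction b using ENat.recTopCoe with
    | top =>
      exfalso
      have h1 : ((⊤ : ℕ∞) : WithBot ℕ∞) + 1 = ((⊤ : ℕ∞) : WithBot ℕ∞) := rfl
      rw [h1] at h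
      have h2 : (⊤ : ℕ∞) ≤ (n : ℕ∞) := by exact_mod_cast h
      exact absurd h2 (by simp)
    | coe k =>
      have h1 : k + 1 ≤ n := by exact_mod_cast h
      have h2 : k < n := h1
      exact_mod_cast h2

/-- a proper quotient of `A ⧸ p` has smaller dimension. -/
lemma supportDim_quotient_lt {A : Type u} [CommRing A] (p : Ideal A) [p.IsPrime]
    (N : Submodule A (A ⧸ p)) (hN : N ≠ ⊥) (n : ℕ)
    (hn : ringKrullDim (A ⧸ p) = (n : WithBot ℕ∞)) :
    Module.supportDim A ((A ⧸ p) ⧸ N) < (n : WithBot ℕ∞) := by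
  obtain ⟨y, hyN, hy0⟩ := Submodule.exists_mem_ne_zero_of_ne_bot hN
  obtain ⟨a, rfl⟩ := Ideal.Quotient.mk_surjective y
  let J : Ideal A := p ⊔ Ideal.span {a}
  -- `J` kills the quotient
  have hJ : ∀ c ∈ J, ∀ z : (A ⧸ p) ⧸ N, c • z = 0 := by
    intro c hc z
    obtain ⟨w, rfl⟩ := Submodule.mkQ_surjective _ z
    obtain ⟨e, rfl⟩ := Ideal.Quotient.mk_surjective w
    rw [← map_smul, Submodule.mkQ_apply, Submodule.Quotient.mk_eq_zero]
    obtain ⟨c1, hc1, c2, hc2, rfl⟩ := Submodule.mem_sup.mp hc
    obtain ⟨r, rfl⟩ := Ideal.mem_span_singleton'.mp hc2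
    have h1 : (c1 + r * a) • (Ideal.Quotient.mk p e) =
        (e * r) • (Ideal.Quotient.mk p a) := by
      rw [Algebra.smul_def, Algebra.smul_def]
      change Ideal.Quotient.mk p (c1 + r * a) * _ = Ideal.Quotient.mk p (e * r) * _
      rw [map_add, Ideal.Quotient.eq_zero_iff_mem.mpr hc1, zero_add, ← map_mul, ← map_mul]
      congr 1
      ring
    rw [h1]
    exact N.smul_mem _ hyN
  have hsub : ∀ Q ∈ Module.support A ((A ⧸ p) ⧸ N), Q ∈ PrimeSpectrum.zeroLocus (J : Set A) := by
    intro Q hQ
    rw [PrimeSpectrum.mem_zeroLocus]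
    intro c hc
    apply Module.annihilator_le_of_mem_support hQ
    rw [Module.mem_annihilator]
    exact hJ c hc
  have h1 : Module.supportDim A ((A ⧸ p) ⧸ N) ≤ ringKrullDim (A ⧸ J) := by
    rw [ringKrullDim_quotient]
    let φ : Module.support A ((A ⧸ p) ⧸ N) → PrimeSpectrum.zeroLocus (J : Set A) :=
      fun Q => ⟨Q.1, hsub Q.1 Q.2⟩
    exact Order.krullDim_le_of_strictMono φ (fun _ _ h => h)
  refine h1.trans_lt (lt_natCast_of_add_one_le ?_)
  rw [← hn]
  have hnzd : Ideal.Quotient.mk p a ∈ nonZeroDivisors (A ⧸ p) :=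
    mem_nonZeroDivisors_of_ne_zero hy0
  have h2 := ringKrullDim_quotient_succ_le_of_nonZeroDivisor hnzd
  have e : ((A ⧸ p) ⧸ Ideal.span {Ideal.Quotient.mk p a}) ≃+* A ⧸ J := by
    have hmap : (Ideal.span {a}).map (Ideal.Quotient.mk p) =
        Ideal.span {Ideal.Quotient.mk p a} := by
      rw [Ideal.map_span, Set.image_singleton]
    rw [← hmap]
    exact DoubleQuot.quotQuotEquivQuotSup p (Ideal.span {a})
  rw [← ringKrullDim_eq_of_ringEquiv e]
  exact h2

section Local

variable {A : Type u} [CommRing A] [IsLocalRing A] [IsNoetherianRing A]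

/-- Grothendieck's non-vanishing theorem for finite modules. -/
theorem nontrivial_H_supportDim (M : Type u) [AddCommGroup M] [Module A M] [Module.Finite A M]
    (n : ℕ) (hn : Module.supportDim A M = n) :
    Nontrivial (H (maximalIdeal A) n M) := by
  obtain ⟨P, hPs, hPd⟩ := exists_mem_support_dim_eq M n hn
  haveI : P.asIdeal.IsPrime := P.isPrime
  obtain ⟨f, hf⟩ := exists_linearMap_quotient_prime_ne_zero M P hPs
  let m := maximalIdeal A
  haveI hnt := nontrivial_H_quotient_prime P.asIdeal n hPd
  let K := LinearMap.ker f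
  let N := LinearMap.range f
  have hN : N ≠ ⊥ := by
    intro h0
    exact hf (LinearMap.range_eq_bot.mp h0)
  have hS1 := sesSub_shortExact K
  have hq1 : Subsingleton (H m (n + 1) K) := by
    apply subsingleton_of_supportDim_lt m K (n + 1)
    refine lt_of_le_of_lt (Module.supportDim_le_of_injective K.subtype K.injective_subtype) ?_
    rw [hn]
    exact_mod_cast Nat.lt_succ_self n
  have hsurj1 : Function.Surjective ((localCohomology m n).map (sesSub K).g) := by
    intro y
    have h1 : δ m n hS1 y = 0 := hq1.elim _ _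
    exact (exact_g_δ m n hS1 y).mp h1
  have hS2 := sesSub_shortExact N
  have hq2 : Subsingleton (H m n ((A ⧸ P.asIdeal) ⧸ N)) :=
    subsingleton_of_supportDim_lt m _ n (supportDim_quotient_lt P.asIdeal N hN n hPd)
  have hsurj2 : Function.Surjective ((localCohomology m n).map (sesSub N).f) := by
    intro y
    exact (exact_f_g m n hS2 y).mp (hq2.elim _ _)
  haveI : Nontrivial (H m n N) := hsurj2.nontrivial
  let e := (localCohomology m n).mapIso (f.quotKerEquivRange).toModuleIso
  haveI : Nontrivial (H m n (M ⧸ K)) := e.toLinearEquiv.toEquiv.nontrivial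
  exact hsurj1.nontrivial

end Local

end Groth.Agent.Helper8.NV
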