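import Groth.Agent.Lib.Helper8.LC56
import Groth.Agent.Lib.Helper8.NV7
import Groth.Agent.Lib.Helper8.CanMod3
import Groth.Agent.Lib.Helper8.Depth25
import Groth.Agent.Lib.Helper2.CompleteNoeth

/-!
# Vanishing of the top local cohomology and the dimension of `R̂/(aR̂ + P)`
(the elementary direction of the Hartshorne–Lichtenbaum vanishing theorem)
-/

set_option autoImplicit false
universe u
open CategoryTheory CategoryTheory.Limits Opposite

namespace Groth.Agent.Helper8.HL

open Abelian localCohomology LocCoh IsLocalRing Groth.Agent.Helper8.LC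

section vanishing

variable {R : Type u} [CommRing R] [IsNoetherianRing R]

/-- if `cd a ≤ n` and `H^n_a(R) = 0` then `H^n_a(X) = 0` for every module `X`. -/
theorem subsingleton_H_of_subsingleton_H_ring (a : Ideal R) (n : ℕ) (hcd : CdLE R a n)
    (hvan : Subsingleton (H a n R)) (X : Type u) [AddCommGroup X] [Module R X] :
    Subsingleton (H a n X) := by
  have hfree : ∀ t : ℕ, Subsingleton (H a n (Fin t → R)) := by
    intro t
    apply subsingleton_of_forall_eq_zero
    intro y
    have := smul_pi_eq_zero (J := a) (i := n) (1 : R) (fun x => by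
      rw [one_smul]; exact Subsingleton.elim _ _) t y
    rw [one_smul] at this
    exact this
  have hfin : ∀ (N : Type u) [AddCommGroup N] [Module R N] [Module.Finite R N],
      Subsingleton (H a n N) := by
    intro N _ _ _
    obtain ⟨k, π, hπ⟩ := Module.Finite.exists_fin' R N
    have hs := Groth.Agent.Helper8.CanMod.map_surjective_of_cdLE a n hcd π hπ
    haveI := hfree k
    exact hs.subsingleton
  apply subsingleton_of_forall_eq_zero
  intro z
  obtain ⟨k, e, rfl⟩ := ι_rep a n (ModuleCat.of R X) z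
  haveI : Module.Finite R (R ⧸ a ^ k) := Module.Finite.quotient R _
  obtain ⟨N, hN, e', he'⟩ := exists_fg_submodule_ext n (R ⧸ a ^ k) X e
  haveI : Module.Finite R N := Module.Finite.iff_fg.mpr hN
  have h2 := hfin N
  rw [← he', ← ι_map, Subsingleton.elim (ι a n k (ModuleCat.of R N) e') 0, map_zero]

end vanishing

section main

/-- for the module `B/P`, local cohomology with respect to `I` and `I ⊔ P` agree. -/
theorem subsingleton_H_sup_iff {B : Type u} [CommRing B] [IsNoetherianRing B] (I P : Ideal B)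
    (n : ℕ) : Subsingleton (H (I ⊔ P) n (B ⧸ P)) ↔ Subsingleton (H I n (B ⧸ P)) := by
  obtain ⟨φ1, -⟩ := exists_semilinear_equiv (R := B) (R' := B ⧸ P) (I ⊔ P) n (B ⧸ P)
  obtain ⟨φ2, -⟩ := exists_semilinear_equiv (R := B) (R' := B ⧸ P) I n (B ⧸ P)
  have heq : (I ⊔ P).map (algebraMap B (B ⧸ P)) = I.map (algebraMap B (B ⧸ P)) := by
    rw [Ideal.map_sup]
    have : P.map (algebraMap B (B ⧸ P)) = ⊥ := Ideal.map_quotient_self P
    rw [this, sup_bot_eq]
  rw [heq] at φ1
  constructor
  · intro h
    haveI := φ1.toEquiv.subsingleton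
    exact φ2.symm.toEquiv.subsingleton
  · intro h
    haveI := φ2.toEquiv.subsingleton
    exact φ1.symm.toEquiv.subsingleton

variable (R : Type u) [CommRing R] [IsNoetherianRing R] [IsLocalRing R]

/-- **S11672.** -/
theorem one_le_dim_quotient_completion (n : ℕ) (hn : ringKrullDim R = n) (a : Ideal R)
    (ha : a ≠ ⊤) (hvan : Subsingleton (H a n R))
    (P : Ideal (AdicCompletion (maximalIdeal R) R)) [P.IsPrime]
    (hP : ringKrullDim (AdicCompletion (maximalIdeal R) R ⧸ P) = n) :
    1 ≤ ringKrullDim (AdicCompletion (maximalIdeal R) R ⧸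
      (a.map (algebraMap R (AdicCompletion (maximalIdeal R) R)) ⊔ P)) := by
  haveI : IsNoetherianRing (AdicCompletion (maximalIdeal R) R) :=
    Groth.Agent.Helper2.CompleteNoeth.isNoetherianRing_adicCompletion R _
      (IsNoetherian.noetherian _)
  set B := AdicCompletion (maximalIdeal R) R with hB
  set aB := a.map (algebraMap R B) with haB
  by_contra hlt
  rw [not_le] at hlt
  have haBle : aB ≤ maximalIdeal B := by
    rw [AdicCompletion.maximalIdeal_eq_map]
    exact Ideal.map_mono (IsLocalRing.le_maximalIdeal ha)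
  have hle : aB ⊔ P ≤ maximalIdeal B :=
    sup_le haBle (IsLocalRing.le_maximalIdeal (Ideal.IsPrime.ne_top inferInstance))
  have hrad : (aB ⊔ P).radical = (maximalIdeal B).radical := by
    rw [Ideal.radical_eq_sInf (aB ⊔ P), (maximalIdeal.isMaximal B).isPrime.radical]
    apply le_antisymm
    · exact sInf_le ⟨hle, (maximalIdeal.isMaximal B).isPrime⟩
    · apply le_sInf
      rintro Q ⟨hQ, hQp⟩
      by_contra hne
      have hQlt : Q < maximalIdeal B :=
        lt_of_le_of_ne (IsLocalRing.le_maximalIdeal hQp.ne_top) (fun h => hne h.ge)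
      have h1 : ringKrullDim (B ⧸ Q) ≤ ringKrullDim (B ⧸ (aB ⊔ P)) :=
        ringKrullDim_le_of_surjective (Ideal.Quotient.factor hQ)
          (Ideal.Quotient.factor_surjective hQ)
      have h2 : (1 : WithBot ℕ∞) ≤ ringKrullDim (B ⧸ Q) := by
        rw [Groth.Agent.Helper8.Depth.ringKrullDim_quotient_eq_coheight (⟨Q, hQp⟩ : PrimeSpectrum B)]
        have h3 : (1 : ℕ∞) ≤ Order.coheight (⟨Q, hQp⟩ : PrimeSpectrum B) := by
          rw [Order.one_le_iff_ne_zero, Order.coheight_ne_zero]
          intro hmax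
          have hlt' : (⟨Q, hQp⟩ : PrimeSpectrum B) < ⟨maximalIdeal B, (maximalIdeal.isMaximal B).isPrime⟩ :=
            hQlt
          exact not_lt_of_ge (hmax (le_of_lt hlt')) hlt'
        exact_mod_cast h3
      exact not_lt_of_ge (h2.trans h1) hlt
  haveI : Module.Finite B (B ⧸ P) := Module.Finite.quotient B P
  have h1 : Nontrivial (H (maximalIdeal B) n (B ⧸ P)) :=
    Groth.Agent.Helper8.NV.nontrivial_H_supportDim (B ⧸ P) n (by
      rw [Module.supportDim_quotient_eq_ringKrullDim, hP])
  have h2 : ¬ Subsingleton (H (aB ⊔ P) n (B ⧸ P)) := by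
    rw [subsingleton_H_iff_of_radical_eq (aB ⊔ P) (maximalIdeal B) hrad n]
    exact not_subsingleton _
  rw [subsingleton_H_sup_iff] at h2
  obtain ⟨φ, -⟩ := exists_semilinear_equiv (R := R) (R' := B) a n (B ⧸ P)
  have h3 := subsingleton_H_of_subsingleton_H_ring a n (cdLE_of_ringKrullDim_le a n hn.le) hvan
    (B ⧸ P)
  exact h2 φ.toEquiv.subsingleton

end main

end Groth.Agent.Helper8.HL
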