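import Mathlib
import Groth.Prelude
import Groth.Agent.Lib.Helper8.GorFlat5
import Groth.Agent.Lib.Helper8.LD15
import Groth.Agent.Lib.Helper8.Serre3
import Groth.Agent.Lib.Helper8.IntClSemi1
import Groth.Agent.Lib.Helper8.GRing3
import Groth.Agent.Lib.Helper8.GRing4

/-!
# A monogenic finite domain over a complete regular local ring is Gorenstein
-/

set_option autoImplicit false
universe u

namespace Groth.Agent.Helper8.HLV

open IsLocalRing LocCoh Polynomial

variable (A : Type u) [CommRing A] [IsDomain A] [IsRegularLocalRing A]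
  [IsAdicComplete (maximalIdeal A) A]
  (D : Type u) [CommRing D] [IsDomain D] [Algebra A D] [Module.Finite A D]

/-- Subalgebras of a finite domain over a complete Noetherian local ring are finite, local and
complete. -/
theorem subalgebra_props (B : Subalgebra A D) :
    Module.Finite A B ∧ IsNoetherianRing B ∧ IsLocalRing B := by
  haveI : IsNoetherianRing A := inferInstance
  haveI : IsNoetherian A D := isNoetherian_of_isNoetherianRing_of_finite A D
  haveI hfin : Module.Finite A B :=
    Module.Finite.of_injective B.val.toLinearMap Subtype.val_injective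
  haveI : IsNoetherianRing B := IsNoetherianRing.of_finite A B
  haveI : HenselianLocalRing A := GRing.henselianLocalRing_of_isAdicComplete A
  exact ⟨hfin, inferInstance, IntClSemi.isLocalRing_of_finite_domain A B⟩

/-- `A[b]` is a Gorenstein local ring. -/
theorem isGorensteinLocalRing_adjoin (hinj : Function.Injective (algebraMap A D)) (b : D) :
    IsGorensteinLocalRing (Algebra.adjoin A ({b} : Set D)) := by
  haveI : IsNoetherianRing A := inferInstance
  haveI : IsIntegrallyClosed A := Serre.isIntegrallyClosed_of_isRegularLocalRing A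
  haveI : FaithfulSMul A D := (faithfulSMul_iff_algebraMap_injective A D).mpr hinj
  obtain ⟨hfin, hnoeth, hloc⟩ := subalgebra_props A D (Algebra.adjoin A ({b} : Set D))
  haveI := hfin
  haveI := hnoeth
  haveI := hloc
  haveI : Algebra.IsIntegral A D := Algebra.IsIntegral.of_finite A D
  have hb : IsIntegral A b := Algebra.IsIntegral.isIntegral b
  let b' : Algebra.adjoin A ({b} : Set D) := ⟨b, Algebra.subset_adjoin rfl⟩
  let ψ : A[X] →ₐ[A] Algebra.adjoin A ({b} : Set D) := aeval b'
  have hψ_val : ∀ p : A[X], (ψ p : D) = aeval b p := by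
    intro p
    change ((Algebra.adjoin A ({b} : Set D)).val (aeval b' p)) = aeval b p
    rw [← aeval_algHom_apply]
    rfl
  have hψ_surj : Function.Surjective ψ := by
    rintro ⟨y, hy⟩
    rw [Algebra.adjoin_singleton_eq_range_aeval] at hy
    obtain ⟨p, hp⟩ := hy
    exact ⟨p, Subtype.ext ((hψ_val p).trans hp)⟩
  have hψ_ker : ∀ p : A[X], ψ p = 0 ↔ minpoly A b ∣ p := by
    intro p
    rw [← minpoly.isIntegrallyClosed_dvd_iff hb, ← hψ_val]
    exact ⟨fun h => by rw [h]; rfl, fun h => Subtype.ext h⟩
  set f := minpoly A b with hf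
  have hmonic : f.Monic := minpoly.monic hb
  -- the prime of `A[X]`
  let 𝔫 : Ideal A[X] := (maximalIdeal (Algebra.adjoin A ({b} : Set D))).comap ψ.toRingHom
  haveI h𝔫 : 𝔫.IsPrime := Ideal.comap_isPrime _ _
  haveI : Algebra.IsIntegral A (Algebra.adjoin A ({b} : Set D)) := Algebra.IsIntegral.of_finite A _
  have hcomapC : 𝔫.comap C = maximalIdeal A := by
    have h1 : 𝔫.comap C = (maximalIdeal (Algebra.adjoin A ({b} : Set D))).comap
        (algebraMap A (Algebra.adjoin A ({b} : Set D))) := by
      ext a
      simp only [𝔫, Ideal.mem_comap]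
      have : ψ.toRingHom (C a) = algebraMap A _ a := by
        change ψ (C a) = _
        rw [← algebraMap_eq, AlgHom.commutes]
      rw [this]
    rw [h1]
    exact IsLocalRing.eq_maximalIdeal
      (Ideal.isMaximal_comap_of_isIntegral_of_isMaximal (R := A)
        (maximalIdeal (Algebra.adjoin A ({b} : Set D))))
  haveI hregL : IsRegularLocalRing (Localization.AtPrime 𝔫) :=
    Polynomial.isRegularLocalRing_localization_atPrime_of_comap_eq_maximalIdeal A 𝔫 hcomapC
  have hGL : IsGorensteinLocalRing (Localization.AtPrime 𝔫) :=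
    ABS.isGorensteinLocalRing_of_isRegularLocalRing _
  -- `f` in the localization
  have hf𝔫 : f ∈ 𝔫 := by
    change ψ f ∈ maximalIdeal _
    rw [(hψ_ker f).mpr dvd_rfl]
    exact Ideal.zero_mem _
  have hfmax : algebraMap A[X] (Localization.AtPrime 𝔫) f ∈
      maximalIdeal (Localization.AtPrime 𝔫) := by
    rw [← Localization.AtPrime.map_eq_maximalIdeal]
    exact Ideal.mem_map_of_mem _ hf𝔫
  haveI : IsDomain (Localization.AtPrime 𝔫) :=
    IsLocalization.isDomain_localization (Ideal.primeCompl_le_nonZeroDivisors 𝔫)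
  have hf0 : algebraMap A[X] (Localization.AtPrime 𝔫) f ≠ 0 := by
    intro h0
    have hinjL : Function.Injective (algebraMap A[X] (Localization.AtPrime 𝔫)) :=
      IsLocalization.injective _ (Ideal.primeCompl_le_nonZeroDivisors 𝔫)
    exact hmonic.ne_zero (hinjL (by rw [h0, map_zero]))
  have hfreg : IsSMulRegular (Localization.AtPrime 𝔫)
      (algebraMap A[X] (Localization.AtPrime 𝔫) f) :=
    (IsRegular.of_ne_zero hf0).left.isSMulRegular
  have hGQ := (LD.isGorensteinLocalRing_iff_quotient (Localization.AtPrime 𝔫)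
    (algebraMap A[X] (Localization.AtPrime 𝔫) f) hfmax hfreg).mp hGL
  -- the isomorphism
  have hunit : ∀ y : 𝔫.primeCompl, IsUnit (ψ.toRingHom y) := by
    rintro ⟨y, hy⟩
    by_contra hnu
    exact hy ((mem_maximalIdeal _).mpr hnu)
  let ψ' : Localization.AtPrime 𝔫 →+* Algebra.adjoin A ({b} : Set D) := IsLocalization.lift hunit
  have hψ'_surj : Function.Surjective ψ' := by
    intro y
    obtain ⟨p, rfl⟩ := hψ_surj y
    exact ⟨algebraMap _ _ p, IsLocalization.lift_eq hunit p⟩
  have hker : RingHom.ker ψ' = Ideal.span {algebraMap A[X] (Localization.AtPrime 𝔫) f} := by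
    apply le_antisymm
    · intro z hz
      rw [RingHom.mem_ker] at hz
      obtain ⟨⟨p, s⟩, hps⟩ := IsLocalization.surj 𝔫.primeCompl z
      simp only at hps
      have h1 : ψ' (z * algebraMap A[X] (Localization.AtPrime 𝔫) s) = 0 := by
        rw [map_mul, hz, zero_mul]
      rw [hps, IsLocalization.lift_eq] at h1
      obtain ⟨g, hg⟩ := (hψ_ker p).mp h1
      have hsu : IsUnit (algebraMap A[X] (Localization.AtPrime 𝔫) s) :=
        IsLocalization.map_units _ s
      have h2 : z * algebraMap A[X] (Localization.AtPrime 𝔫) s ∈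
          Ideal.span {algebraMap A[X] (Localization.AtPrime 𝔫) f} := by
        rw [hps, hg, map_mul]
        exact Ideal.mul_mem_right _ _ (Ideal.mem_span_singleton_self _)
      exact (Ideal.mul_unit_mem_iff_mem _ hsu).mp h2
    · rw [Ideal.span_singleton_le_iff_mem, RingHom.mem_ker, IsLocalization.lift_eq]
      exact (hψ_ker f).mpr dvd_rfl
  let e : (Localization.AtPrime 𝔫 ⧸ Ideal.span {algebraMap A[X] (Localization.AtPrime 𝔫) f}) ≃+*
      Algebra.adjoin A ({b} : Set D) :=
    (Ideal.quotEquivOfEq hker.symm).trans (RingHom.quotientKerEquivOfSurjective hψ'_surj)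
  exact GorFlat.isGorensteinLocalRing_of_ringEquiv e hGQ

end Groth.Agent.Helper8.HLV
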