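import Groth.Agent.Lib.Helper8.HLV2
import Groth.Agent.Lib.Helper8.HLV3
import Groth.Agent.Lib.Helper8.HL1
import Groth.Agent.Lib.Helper8.FinPS3
import Groth.Agent.Lib.Helper8.IntegralDim
import Groth.Agent.Lib.Helper8.Nag1

/-!
# Hartshorne–Lichtenbaum vanishing for complete local domains
-/

set_option autoImplicit false
universe u

namespace Groth.Agent.Helper8.HLV

open IsLocalRing LocCoh Groth.Agent.Helper8.LC

section aux

variable (A : Type u) [CommRing A] [IsDomain A] [IsRegularLocalRing A]
  [IsAdicComplete (maximalIdeal A) A]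
  (D : Type u) [CommRing D] [IsDomain D] [IsNoetherianRing D] [IsLocalRing D]
  [Algebra A D] [Module.Finite A D]

theorem ringKrullDim_eq_of_injective_of_isIntegral (R S : Type u) [CommRing R] [CommRing S]
    [Algebra R S] [Algebra.IsIntegral R S] (hinj : Function.Injective (algebraMap R S)) :
    ringKrullDim R = ringKrullDim S := by
  rw [Depth.ringKrullDim_eq_quotient_ker_of_isIntegral R S,
    (RingHom.injective_iff_ker_eq_bot _).mp hinj]
  exact (ringKrullDim_eq_of_ringEquiv (RingEquiv.quotientBot R)).symm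

/-- The prime case over a finite extension of a complete regular local ring. -/
theorem subsingleton_H_prime_aux (hinj : Function.Injective (algebraMap A D)) (d : ℕ)
    (hd : ringKrullDim D = d) (P : Ideal D) [P.IsPrime] (hP : ringKrullDim (D ⧸ P) = 1) :
    Subsingleton (H P d D) := by
  haveI : IsNoetherianRing A := inferInstance
  obtain ⟨b, hb⟩ := FinExt.exists_radical_span_inter_adjoin_eq A D P hP
  obtain ⟨hfin, hnoeth, hloc⟩ := subalgebra_props A D (Algebra.adjoin A ({b} : Set D))
  haveI := hfin
  haveI := hnoeth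
  haveI := hloc
  haveI : IsAdicComplete (maximalIdeal (Algebra.adjoin A ({b} : Set D)))
      (Algebra.adjoin A ({b} : Set D)) :=
    GRing.isAdicComplete_of_finite_local A (Algebra.adjoin A ({b} : Set D))
  haveI hG : IsGorensteinLocalRing (Algebra.adjoin A ({b} : Set D)) :=
    isGorensteinLocalRing_adjoin A D hinj b
  haveI : Algebra.IsIntegral A D := Algebra.IsIntegral.of_finite A D
  haveI : Algebra.IsIntegral (Algebra.adjoin A ({b} : Set D)) D :=
    Algebra.IsIntegral.tower_top (R := A)
  have hinjB : Function.Injective (algebraMap (Algebra.adjoin A ({b} : Set D)) D) :=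
    Subtype.val_injective
  have hdimB : ringKrullDim (Algebra.adjoin A ({b} : Set D)) = d := by
    rw [ringKrullDim_eq_of_injective_of_isIntegral _ D hinjB, hd]
  let q : Ideal (Algebra.adjoin A ({b} : Set D)) :=
    P.comap (algebraMap (Algebra.adjoin A ({b} : Set D)) D)
  haveI hqp : q.IsPrime := Ideal.comap_isPrime _ _
  have hq : ringKrullDim ((Algebra.adjoin A ({b} : Set D)) ⧸ q) = 1 := by
    haveI : Algebra.IsIntegral (Algebra.adjoin A ({b} : Set D)) (D ⧸ P) :=
      Algebra.IsIntegral.trans D
    have h1 := Depth.ringKrullDim_eq_quotient_ker_of_isIntegral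
      (Algebra.adjoin A ({b} : Set D)) (D ⧸ P)
    have h2 : RingHom.ker (algebraMap (Algebra.adjoin A ({b} : Set D)) (D ⧸ P)) = q := by
      ext x
      rw [RingHom.mem_ker, IsScalarTower.algebraMap_apply _ D (D ⧸ P),
        Ideal.Quotient.algebraMap_eq, Ideal.Quotient.eq_zero_iff_mem]
      rfl
    rw [h2] at h1
    rw [← h1, hP]
  have hvan : Subsingleton (H q d (Algebra.adjoin A ({b} : Set D))) :=
    subsingleton_H_of_gorenstein _ d hdimB q hq
  have h3 : Subsingleton (H q d D) :=
    HL.subsingleton_H_of_subsingleton_H_ring q d (cdLE_of_ringKrullDim_le q d hdimB.le) hvan D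
  obtain ⟨φ, -⟩ := exists_semilinear_equiv (R := Algebra.adjoin A ({b} : Set D)) (R' := D) q d D
  have h4 : Subsingleton (H (q.map (algebraMap (Algebra.adjoin A ({b} : Set D)) D)) d D) :=
    φ.toEquiv.subsingleton
  have hmap : q.map (algebraMap (Algebra.adjoin A ({b} : Set D)) D) =
      Ideal.span ((P : Set D) ∩ (Algebra.adjoin A ({b} : Set D) : Set D)) := by
    unfold Ideal.map
    congr 1
    ext c
    constructor
    · rintro ⟨x, hx, rfl⟩
      exact ⟨hx, x.2⟩
    · rintro ⟨hcP, hcB⟩
      exact ⟨⟨c, hcB⟩, hcP, rfl⟩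
  rw [hmap] at h4
  rwa [subsingleton_H_iff_of_radical_eq _ P (by rw [hb, Ideal.IsPrime.radical inferInstance])] at h4

end aux

variable (C : Type u) [CommRing C] [IsDomain C] [IsNoetherianRing C] [IsLocalRing C]
  [IsAdicComplete (maximalIdeal C) C]

/-- **Hartshorne–Lichtenbaum vanishing** for a prime of dimension one in a complete local
domain. -/
theorem subsingleton_H_prime (d : ℕ) (hd : ringKrullDim C = d) (P : Ideal C) [P.IsPrime]
    (hP : ringKrullDim (C ⧸ P) = 1) : Subsingleton (H P d C) := by
  obtain ⟨Λ, instΛ, n, f, hΛ, hinj, hfin, -⟩ :=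
    Groth.Agent.Helper8.FinPS.exists_finite_injective_of_domain C
  letI := f.toAlgebra
  haveI : Module.Finite (MvPowerSeries (Fin n) Λ) C := hfin
  have hinj' : Function.Injective (algebraMap (MvPowerSeries (Fin n) Λ) C) := hinj
  rcases hΛ with hΛ | hΛ
  · letI := Groth.Agent.Helper8.GRing.fieldOfIsField Λ hΛ
    haveI : IsAdicComplete (maximalIdeal Λ) Λ := by
      rw [IsLocalRing.maximalIdeal_eq_bot]
      infer_instance
    haveI : IsDomain (MvPowerSeries (Fin n) Λ) := NoZeroDivisors.to_isDomain _
    haveI : IsAdicComplete (maximalIdeal (MvPowerSeries (Fin n) Λ)) (MvPowerSeries (Fin n) Λ) :=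
      Groth.Agent.Helper3.ArtFunLib.isAdicComplete_ps_local
    exact subsingleton_H_prime_aux (MvPowerSeries (Fin n) Λ) C hinj' d hd P hP
  · obtain ⟨hdom, hdvr, hcompl, -⟩ := hΛ
    haveI := hdom
    haveI := hdvr
    haveI := hcompl
    haveI : IsDomain (MvPowerSeries (Fin n) Λ) := NoZeroDivisors.to_isDomain _
    haveI : IsAdicComplete (maximalIdeal (MvPowerSeries (Fin n) Λ)) (MvPowerSeries (Fin n) Λ) :=
      Groth.Agent.Helper3.ArtFunLib.isAdicComplete_ps_local
    exact subsingleton_H_prime_aux (MvPowerSeries (Fin n) Λ) C hinj' d hd P hP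

/-- **Hartshorne–Lichtenbaum vanishing** for a complete local domain. -/
theorem subsingleton_H_of_complete_domain (d : ℕ) (hd : ringKrullDim C = d) (J : Ideal C)
    (hJ : 0 < ringKrullDim (C ⧸ J)) : Subsingleton (H J d C) :=
  (forall_H_dim_subsingleton_iff d hd).mpr
    (fun p _ hp => subsingleton_H_prime C d hd p hp) J hJ

end Groth.Agent.Helper8.HLV
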