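import Groth.Agent.Lib.Helper8.Nag2
import Groth.Agent.Lib.Helper8.IntClSemi1
import Groth.Agent.Lib.Helper8.GRing3
import Groth.Agent.Lib.Helper8.FlatReg14
import Groth.Agent.Lib.Helper8.Depth17
import Groth.Agent.Lib.Helper8.HLV4

/-!
# Complete local domains of dimension `≥ 2` carry a finite module of depth `≥ 2`
-/

set_option autoImplicit false
universe u

namespace Groth.Agent.Helper8.C2

open IsLocalRing LocCoh Module

section Normal

variable (D : Type u) [CommRing D] [IsDomain D] [IsLocalRing D] [IsNoetherianRing D]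
  [IsAdicComplete (maximalIdeal D) D]

/-- the normalization of a complete local domain of dimension `≥ 2` has depth `≥ 2` over it. -/
theorem two_le_depth_integralClosure (hdim : (2 : WithBot ℕ∞) ≤ ringKrullDim D) :
    Module.Finite D (integralClosure D (FractionRing D)) ∧
      (2 : ℕ∞) ≤ depth D (integralClosure D (FractionRing D)) := by
  set N := integralClosure D (FractionRing D) with hN
  have hfin : Module.Finite D N :=
    Groth.Agent.Helper8.Nag.isN1_of_isN2 D (Groth.Agent.Helper8.Nag.isN2_of_complete_domain D)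
  haveI := hfin
  refine ⟨hfin, ?_⟩
  haveI : HenselianLocalRing D := Groth.Agent.Helper8.GRing.henselianLocalRing_of_isAdicComplete D
  haveI : IsLocalRing N := Groth.Agent.Helper8.IntClSemi.isLocalRing_of_finite_domain D N
  haveI : IsNoetherianRing N := IsNoetherianRing.of_finite D N
  haveI : IsIntegrallyClosed N :=
    integralClosure.isIntegrallyClosedOfFiniteExtension (FractionRing D)
  haveI : Algebra.IsIntegral D N := Algebra.IsIntegral.of_finite D N
  have hinj : Function.Injective (algebraMap D N) := by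
    intro a b hab
    have h1 : algebraMap D (FractionRing D) a = algebraMap D (FractionRing D) b :=
      congrArg (fun x : N => (x : FractionRing D)) hab
    exact IsFractionRing.injective D (FractionRing D) h1
  haveI : FaithfulSMul D N := (faithfulSMul_iff_algebraMap_injective D N).mpr hinj
  haveI : IsLocalHom (algebraMap D N) := Algebra.IsIntegral.isLocalHom D N
  have hdimN : ringKrullDim D = ringKrullDim N :=
    Groth.Agent.Helper8.HLV.ringKrullDim_eq_of_injective_of_isIntegral D N hinj
  have hS2 : Groth.Agent.Helper8.FlatReg.SkLocal 2 N :=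
    Groth.Agent.Helper8.FlatReg.skLocal_of_hasSk 2
      (Groth.Agent.Helper8.FlatReg.hasSk_two_of_normal_domain N)
  unfold Groth.Agent.Helper8.FlatReg.SkLocal at hS2
  have hht : (2 : ℕ∞) ≤ (maximalIdeal N).height := by
    have h1 : ((2 : ℕ∞) : WithBot ℕ∞) ≤ ((maximalIdeal N).height : WithBot ℕ∞) := by
      rw [IsLocalRing.maximalIdeal_height_eq_ringKrullDim, ← hdimN]
      exact hdim
    exact_mod_cast h1
  have h2 : (2 : ℕ∞) ≤ depth N N := by
    refine le_trans ?_ hS2
    rw [le_min_iff]
    exact ⟨le_rfl, hht⟩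
  rw [Groth.Agent.Helper8.Depth.depth_eq_of_tower D N N]
  exact h2

end Normal

section Quot

variable (S : Type u) [CommRing S] [IsNoetherianRing S] [IsLocalRing S]
  [IsAdicComplete (maximalIdeal S) S]

/-- over a complete local ring, a prime `q` with `dim S/q ≥ 2` is the annihilator of a finite
module of depth `≥ 2`. -/
theorem exists_module_depth_two (q : Ideal S) [hqp : q.IsPrime]
    (hq : (2 : WithBot ℕ∞) ≤ ringKrullDim (S ⧸ q)) :
    ∃ (N : Type u) (_ : AddCommGroup N) (_ : Module S N), Module.Finite S N ∧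
      (∃ n₀ : N, ∀ s : S, s • n₀ = 0 ↔ s ∈ q) ∧ (2 : ℕ∞) ≤ depth S N := by
  haveI : Nontrivial (S ⧸ q) := Ideal.Quotient.nontrivial_iff.mpr hqp.ne_top
  haveI : IsLocalRing (S ⧸ q) :=
    IsLocalRing.of_surjective' (Ideal.Quotient.mk q) Ideal.Quotient.mk_surjective
  haveI : IsLocalHom (algebraMap S (S ⧸ q)) :=
    IsLocalHom.of_surjective _ Ideal.Quotient.mk_surjective
  haveI : IsAdicComplete (maximalIdeal (S ⧸ q)) (S ⧸ q) :=
    Groth.Agent.Helper8.CohenFact.isAdicComplete_of_surjective (Ideal.Quotient.mk q)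
      Ideal.Quotient.mk_surjective
  obtain ⟨hfin, hdepth⟩ := two_le_depth_integralClosure (S ⧸ q) hq
  haveI : Module.Finite S (integralClosure (S ⧸ q) (FractionRing (S ⧸ q))) :=
    Module.Finite.trans (S ⧸ q) _
  refine ⟨integralClosure (S ⧸ q) (FractionRing (S ⧸ q)), inferInstance, inferInstance,
    inferInstance, ?_, ?_⟩
  · refine ⟨1, fun s => ?_⟩
    constructor
    · intro h1
      have h2 : s • (1 : integralClosure (S ⧸ q) (FractionRing (S ⧸ q))) =
          algebraMap (S ⧸ q) _ (Ideal.Quotient.mk q s) := by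
        rw [Algebra.algebraMap_eq_smul_one, ← Ideal.Quotient.algebraMap_eq, algebraMap_smul]
      rw [h2] at h1
      have h3 : algebraMap (S ⧸ q) (FractionRing (S ⧸ q)) (Ideal.Quotient.mk q s) = 0 :=
        congrArg (fun x : integralClosure (S ⧸ q) (FractionRing (S ⧸ q)) =>
          (x : FractionRing (S ⧸ q))) h1
      rw [map_eq_zero_iff _ (IsFractionRing.injective (S ⧸ q) (FractionRing (S ⧸ q)))] at h3
      exact Ideal.Quotient.eq_zero_iff_mem.mp h3
    · intro hs
      have h2 : s • (1 : integralClosure (S ⧸ q) (FractionRing (S ⧸ q))) =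
          (Ideal.Quotient.mk q s) • (1 : integralClosure (S ⧸ q) (FractionRing (S ⧸ q))) := by
        rw [← Ideal.Quotient.algebraMap_eq, algebraMap_smul]
      rw [h2, Ideal.Quotient.eq_zero_iff_mem.mpr hs, zero_smul]
  · rw [Groth.Agent.Helper8.Depth.depth_eq_of_tower S (S ⧸ q) _]
    exact hdepth

end Quot

end Groth.Agent.Helper8.C2
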