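import Mathlib
import Groth.Prelude.Def_LefPen
import Groth.Agent.Lib.Helper1.HypPnB
import Groth.Agent.Lib.Helper1.ProjUP5
import Groth.Agent.Lib.Helper1.ProjUP8
import Groth.Agent.Lib.Helper1.ProjSpaceH0
import Groth.Agent.Lib.Helper1.ProjSpaceTwist
import Groth.Agent.Lib.Helper1.Curve1
import Groth.Agent.Lib.Helper1.SecOps
import Groth.Agent.Lib.Helper4.SerreFin
import Groth.Agent.Lib.Lead.PicCalc
import Groth.Agent.Lib.Lead.MeroL26

/-!
# The ideal of a hypersurface `V_+(G) ⊆ P^r_k` on the standard charts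

Verbatim copy (helper8) of the first part of helper1's `Lib/Helper1/HypBridge1.lean` (everything up to
`hypIdeal_eq`), without its last theorem `bridge`: that theorem needs `Helper2.Dual.ZeroConn`, whose import
closure contains a module that does not fit in the memory of a 16 GB box. All credit: helper1.

`LefPen.hypIdeal G` is the zero scheme of the section `G` of `O(d)`; hence
`ClSub.idealMod (LefPen.hypIdeal G) ≅ O(-d)` for a nonzero form `G` of degree `d`.
-/

set_option autoImplicit false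
set_option backward.isDefEq.respectTransparency.types false
set_option synthInstance.maxHeartbeats 400000
set_option linter.style.haveILetI false
set_option linter.unusedSectionVars false
universe u
open CategoryTheory CategoryTheory.Limits AlgebraicGeometry TopologicalSpace Opposite
open HomogeneousLocalization

namespace Groth.Agent.Helper1.HypBridgeH8

open Groth.Agent.Helper1.QcCech Groth.Agent.Helper1.LGen
open Groth.Agent.Helper1 Groth.Agent.Helper1.AmpleLib Groth.Agent.Helper1.TwistTriv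

section General

variable {A S : Type u} [CommRing A] [CommRing S] [Algebra A S] (𝒮 : ℕ → Submodule A S)
  [GradedAlgebra 𝒮]

/-- on `D₊(b)`, `a = (a/b^d) • b^d` in `O(d)` -/
theorem res_globalOf_eq_smul_pow {d : ℕ} {a b : S} (ha : a ∈ 𝒮 d) (hb : b ∈ 𝒮 1)
    (hbd : b ^ d ∈ 𝒮 d) (ha' : a ∈ 𝒮 (d • 1)) :
    res (Twist.twist 𝒮 (d : ℤ)) (le_top : Proj.basicOpen 𝒮 b ≤ ⊤)
        (Twist.globalOf 𝒮 ⟨a, ha⟩) =
      ((Proj.awayToSection 𝒮 b).hom (Away.mk 𝒮 hb d a ha') : Γ(Proj 𝒮, Proj.basicOpen 𝒮 b)) •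
        res (Twist.twist 𝒮 (d : ℤ)) (le_top : Proj.basicOpen 𝒮 b ≤ ⊤)
          (Twist.globalOf 𝒮 ⟨b ^ d, hbd⟩) := by
  apply Subtype.ext
  funext x
  apply Subtype.ext
  have h := smul_sec_val 𝒮 (m := (d : ℤ)) (Proj.basicOpen 𝒮 b)
    ((Proj.awayToSection 𝒮 b).hom (Away.mk 𝒮 hb d a ha'))
    (res (Twist.twist 𝒮 (d : ℤ)) (le_top : Proj.basicOpen 𝒮 b ≤ ⊤)
      (Twist.globalOf 𝒮 ⟨b ^ d, hbd⟩)) x
  refine Eq.trans ?_ h.symm
  have hx : b ∉ x.1.asHomogeneousIdeal := (Proj.mem_basicOpen 𝒮 b x.1).1 x.2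
  have h1 : (1 : S) ∉ x.1.asHomogeneousIdeal := TwistTens.one_not_mem 𝒮 x.1
  have hxd : b ^ d ∉ x.1.asHomogeneousIdeal := fun h' => hx (x.1.isPrime.mem_of_pow_mem d h')
  change (Localization.mk a ⟨1, h1⟩ : Twist.Loc 𝒮 x.1) =
    (HomogeneousLocalization.mapId 𝒮 (Submonoid.powers_le.mpr hx) (Away.mk 𝒮 hb d a ha')).val *
      (Localization.mk (b ^ d) ⟨1, h1⟩ : Twist.Loc 𝒮 x.1)
  have h2 : (HomogeneousLocalization.mapId 𝒮 (Submonoid.powers_le.mpr hx)
      (Away.mk 𝒮 hb d a ha')).val =
      (Localization.mk a ⟨b ^ d, hxd⟩ : Twist.Loc 𝒮 x.1) := rfl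
  rw [h2, Localization.mk_mul, Localization.mk_eq_mk_iff, Localization.r_iff_exists]
  refine ⟨1, ?_⟩
  show (1 : S) * ((b ^ d * 1) * a) = 1 * (1 * (a * b ^ d))
  ring

theorem resR_self' {X : Scheme.{u}} {O : X.Opens} (h : O ≤ O) (r : Γ(X, O)) : resR h r = r := by
  have : (homOfLE h).op = 𝟙 _ := Subsingleton.elim _ _
  change (X.presheaf.map (homOfLE h).op).hom r = r
  rw [this, CategoryTheory.Functor.map_id]
  rfl

end General

section Pn

variable (r : ℕ) (k : Type u) [Field k] {d : ℕ}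

/-- the section of `O(d)` defined by a form `G` of degree `d` -/
noncomputable def sec (G : LefPen.Form r k d) :
    Coh.structureModule (CohB1.ProjSpace r k) ⟶ Twist.twistProjSpace r k (d : ℤ) :=
  TwistAmple.homOfSec (Twist.twist (CohB1.polyGrading r k) (d : ℤ))
    (Twist.globalOf (CohB1.polyGrading r k) G)

theorem inv_twist (m : ℤ) : PicF.IsInvertible (Twist.twistProjSpace r k m) :=
  (TwistTens.twist_package (CohB1.polyGrading r k)
    (Groth.Agent.Lib.Helper4.SerreFin.hcov1 r k)).1 m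

theorem secVal_sec (G : LefPen.Form r k d) (W : (CohB1.ProjSpace r k).Opens) :
    secVal (sec r k G) W =
      res (Twist.twistProjSpace r k (d : ℤ)) (le_top : W ≤ ⊤)
        (Twist.globalOf (CohB1.polyGrading r k) G) :=
  secVal_homOfSec (Twist.twist (CohB1.polyGrading r k) (d : ℤ))
    (Twist.globalOf (CohB1.polyGrading r k) G) W

theorem sec_ne_zero (G : LefPen.Form r k d) (hG : G ≠ 0) : sec r k G ≠ 0 := by
  intro h
  apply hG
  apply ProjSpaceLib.globalOf_injective r k d
  show Twist.globalOf (CohB1.polyGrading r k) G =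
    Twist.globalOf (CohB1.polyGrading r k) (0 : CohB1.polyGrading r k d)
  have h0 : Twist.globalOf (CohB1.polyGrading r k) (0 : CohB1.polyGrading r k d) = 0 :=
    (ProjSpaceLib.globalOfHom r k d).map_zero
  rw [h0]
  have h2 := secVal_sec r k G ⊤
  rw [QcCech.res_self] at h2
  have h3 : secVal (sec r k G) ⊤ = 0 := by
    rw [h]
    exact SecOps.secVal_zero ⊤
  exact h2.symm.trans h3

theorem Xpow_mem (i : Fin (r + 1)) :
    (MvPolynomial.X i : MvPolynomial (Fin (r + 1)) k) ^ d ∈ CohB1.polyGrading r k d := by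
  have := SetLike.pow_mem_graded d (LefPen.X_mem r k i)
  simpa [smul_eq_mul] using this

theorem chart_affine (i : Fin (r + 1)) : IsAffineOpen (LefPen.chart r k i) :=
  Proj.isAffineOpen_basicOpen (CohB1.polyGrading r k) (MvPolynomial.X i) (LefPen.X_mem r k i)
    one_pos

/-- the standard chart as an affine open -/
noncomputable abbrev chartA (i : Fin (r + 1)) : (CohB1.ProjSpace r k).affineOpens :=
  ⟨LefPen.chart r k i, chart_affine r k i⟩

theorem iSup_chartA : ⨆ i, ((chartA r k i : (CohB1.ProjSpace r k).affineOpens) :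
    (CohB1.ProjSpace r k).Opens) = ⊤ := by
  rw [eq_top_iff]
  intro x _
  obtain ⟨i, hi⟩ := ProjUP8.hcov r k x
  exact Opens.mem_iSup.2 ⟨i, hi⟩

/-- the generator `T_i^d` of `O(d)` on the chart `D₊(T_i)` -/
noncomputable def gen (d : ℕ) (i : Fin (r + 1)) :
    Γ(Twist.twistProjSpace r k (d : ℤ), LefPen.chart r k i) :=
  res (Twist.twist (CohB1.polyGrading r k) (d : ℤ))
    (le_top : Proj.basicOpen (CohB1.polyGrading r k) (MvPolynomial.X i) ≤ ⊤)
    (Twist.globalOf (CohB1.polyGrading r k)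
      (⟨(MvPolynomial.X i) ^ d, Xpow_mem r k i⟩ : CohB1.polyGrading r k d))

theorem isGen_gen (d : ℕ) (i : Fin (r + 1)) :
    IsGen (Twist.twistProjSpace r k (d : ℤ)) (LefPen.chart r k i) (gen r k d i) := by
  have hle : Proj.basicOpen (CohB1.polyGrading r k) (MvPolynomial.X i) ≤
      Proj.basicOpen (CohB1.polyGrading r k)
        ((MvPolynomial.X i : MvPolynomial (Fin (r + 1)) k) ^ d) := by
    intro x hx
    rw [Proj.mem_basicOpen] at hx ⊢
    exact fun h' => hx (x.isPrime.mem_of_pow_mem d h')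
  have h1 := (ProjUP5.isGen_globalOf (CohB1.polyGrading r k)
    (⟨(MvPolynomial.X i) ^ d, Xpow_mem r k i⟩ : CohB1.polyGrading r k d)).res hle
  rw [QcCech.res_res] at h1
  exact h1

theorem secVal_chart (G : LefPen.Form r k d) (i : Fin (r + 1)) :
    secVal (sec r k G) (LefPen.chart r k i) = LefPen.dehom G i • gen r k d i := by
  rw [secVal_sec]
  exact res_globalOf_eq_smul_pow (CohB1.polyGrading r k) G.2 (LefPen.X_mem r k i)
    (Xpow_mem r k i) _

/-- on an affine open inside the chart `D₊(T_i)`, the zero scheme of `G` is cut out by `G/T_i^d` -/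
theorem zeroScheme_ideal_of_le (G : LefPen.Form r k d) (hG : G ≠ 0) (i : Fin (r + 1))
    (U : (CohB1.ProjSpace r k).affineOpens) (h : U.1 ≤ LefPen.chart r k i) :
    (PicF2.zeroScheme (Twist.twistProjSpace r k (d : ℤ)) (sec r k G)).ideal U =
      Ideal.span {resR h (LefPen.dehom G i)} := by
  have hc : secVal (sec r k G) U.1 =
      resR h (LefPen.dehom G i) • res (Twist.twistProjSpace r k (d : ℤ)) h (gen r k d i) := by
    rw [← LGen.res_secVal (sec r k G) h, secVal_chart, QcCech.res_smul]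
  exact Groth.Agent.Lead.MeroL.ideal_zeroScheme_eq_span (inv_twist r k (d : ℤ)) (sec r k G)
    (sec_ne_zero r k G hG) U ((isGen_gen r k d i).res h) _ hc

theorem hypIdeal_ideal_chart_le (G : LefPen.Form r k d) (hG : G ≠ 0) (i : Fin (r + 1)) :
    (LefPen.hypIdeal G).ideal (chartA r k i) ≤
      (PicF2.zeroScheme (Twist.twistProjSpace r k (d : ℤ)) (sec r k G)).ideal (chartA r k i) := by
  intro a ha
  have h1 : a ∈ LefPen.hypFamily G (chartA r k i) :=
    Scheme.IdealSheafData.ideal_ofIdeals_le (LefPen.hypFamily G) (chartA r k i) ha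
  unfold LefPen.hypFamily at h1
  rw [Ideal.mem_iInf] at h1
  have h2 := h1 i
  rw [Ideal.mem_comap, Ideal.mem_span_singleton'] at h2
  obtain ⟨b, hb⟩ := h2
  have hW : LefPen.chart r k i ≤ (chartA r k i).1 ⊓ LefPen.chart r k i := le_inf le_rfl le_rfl
  have hb' : b * resR (inf_le_right : (chartA r k i).1 ⊓ LefPen.chart r k i ≤ LefPen.chart r k i)
      (LefPen.dehom G i) =
      resR (inf_le_left : (chartA r k i).1 ⊓ LefPen.chart r k i ≤ (chartA r k i).1) a := hb
  have h3 := congrArg (resR hW) hb'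
  have h4 : resR (hW.trans inf_le_left : LefPen.chart r k i ≤ (chartA r k i).1) a = a :=
    resR_self' _ a
  rw [map_mul, resR_resR, resR_resR, resR_self'] at h3
  rw [zeroScheme_ideal_of_le r k G hG i (chartA r k i) le_rfl, Ideal.mem_span_singleton']
  refine ⟨resR hW b, ?_⟩
  rw [resR_self']
  exact h3.trans h4

theorem hypIdeal_eq (G : LefPen.Form r k d) (hG : G ≠ 0) :
    LefPen.hypIdeal G = PicF2.zeroScheme (Twist.twistProjSpace r k (d : ℤ)) (sec r k G) := by
  apply le_antisymm
  · exact Scheme.IdealSheafData.le_of_iSup_eq_top (chartA r k) (iSup_chartA r k)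
      (fun i => hypIdeal_ideal_chart_le r k G hG i)
  · haveI : (CohB1.ProjSpace r k).IsSeparated :=
      (inferInstance : (Proj (CohB1.polyGrading r k)).IsSeparated)
    haveI : IsSeparated (terminal.from (CohB1.ProjSpace r k)) :=
      Scheme.IsSeparated.isSeparated_terminal_from
    haveI : IsAffineHom (pullback.diagonal (terminal.from (CohB1.ProjSpace r k))) :=
      inferInstance
    show _ ≤ Scheme.IdealSheafData.ofIdeals (LefPen.hypFamily G)
    rw [Scheme.IdealSheafData.le_ofIdeals_iff]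
    intro U
    unfold LefPen.hypFamily
    refine le_iInf fun i => ?_
    have hV : IsAffineOpen (U.1 ⊓ LefPen.chart r k i) := IsAffineOpen.inf U.2 (chart_affine r k i)
    have h1 := (PicF2.zeroScheme (Twist.twistProjSpace r k (d : ℤ))
      (sec r k G)).ideal_le_comap_ideal (U := ⟨_, hV⟩) (V := U)
      (show (⟨_, hV⟩ : (CohB1.ProjSpace r k).affineOpens) ≤ U from
        (inf_le_left : U.1 ⊓ LefPen.chart r k i ≤ U.1))
    rw [zeroScheme_ideal_of_le r k G hG i ⟨_, hV⟩ inf_le_right] at h1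
    exact h1

end Pn

end Groth.Agent.Helper1.HypBridgeH8
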