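import Mathlib
import Groth.Prelude.Def_CohB1
import Groth.Prelude.Def_LefPen
import Groth.Agent.Lib.Helper8.WCub0
import Groth.Agent.Lib.Helper6.ProjChart
import Groth.Agent.Lib.Helper5.PnSm.Chart
import Groth.Agent.Lib.Helper7.P1Rat.Proj

/-!
# Smoothness of a projective hypersurface chart by chart (helper8)

For a nonzero form `G` of degree `d` in `r + 1` variables over a field `k`, the hypersurface
`V_+(G) ⊆ P^r_k` (`LefPen.hypIdeal G`) is smooth over `k` iff the `r + 1` affine hypersurfaces
`k[x_j : j ≠ i] / (G(x_i = 1))` are smooth `k`-algebras.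

Uses helper1's `HypBridge` (copied in `WCub0`) (the ideal of `V_+(G)` on the chart `D_+(T_i)` is generated by `G / T_i^d`),
helper6's `ProjChart` (the chart ring is a polynomial ring), helper5's `PnSm` (structure maps of
charts) and helper7's `awayι_eq_fromSpec`.
-/

set_option autoImplicit false
set_option backward.isDefEq.respectTransparency.types false
set_option synthInstance.maxHeartbeats 400000
set_option maxHeartbeats 1600000
set_option linter.style.haveILetI false
set_option linter.unusedSectionVars false
set_option linter.unusedVariables false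
universe u
open CategoryTheory CategoryTheory.Limits AlgebraicGeometry TopologicalSpace Opposite
open HomogeneousLocalization

namespace Groth.Agent.Helper8.WCub

open Groth.Agent.Helper1.HypBridgeH8 Groth.Agent.Helper1.QcCech
open Groth.Agent.Lib.Helper6.ProjChart

variable (r : ℕ) (k : Type u) [Field k] {d : ℕ}

/-- the chart map sends the dehomogenisation of a form to the corresponding degree-zero fraction -/
theorem phi_delta (i : Fin (r + 1)) {m : ℕ} (a : MvPolynomial (Fin (r + 1)) k)
    (ha : a ∈ CohB1.polyGrading r k m)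
    (hx : (MvPolynomial.X i : MvPolynomial (Fin (r + 1)) k) ∈ CohB1.polyGrading r k 1)
    (ha2 : a ∈ CohB1.polyGrading r k (m • 1)) :
    phi (R := k) i (delta i a) = Away.mk (CohB1.polyGrading r k) hx m a ha2 := by
  apply HomogeneousLocalization.val_injective
  have h1 := congrFun (congrArg DFunLike.coe (theta_eq (R := k) i)) a
  simp only [RingHom.comp_apply, HomogeneousLocalization.algebraMap_apply] at h1
  rw [h1, HomogeneousLocalization.Away.val_mk]
  have ha' : a.IsHomogeneous m := by
    have := (MvPolynomial.mem_homogeneousSubmodule _ _).1 ha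
    simpa using this
  rw [theta'_of_homogeneous i ha']
  rfl

/-- on the chart `D_+(T_i)` the ideal of `V_+(G)` is generated by `G / T_i^d` -/
theorem ideal_chart (G : LefPen.Form r k d) (hG : G ≠ 0) (i : Fin (r + 1)) :
    (LefPen.hypIdeal G).ideal (chartA r k i) = Ideal.span {LefPen.dehom G i} := by
  have h := zeroScheme_ideal_of_le r k G hG i (chartA r k i) (le_refl (LefPen.chart r k i))
  rw [hypIdeal_eq r k G hG, h]
  exact congrArg (fun x => Ideal.span {x}) (resR_self' _ _)

/-- `awayToSection` on the chart `D_+(T_i)` as a ring homomorphism -/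
noncomputable def ats (i : Fin (r + 1)) :
    Away (CohB1.polyGrading r k) (MvPolynomial.X i : MvPolynomial (Fin (r + 1)) k) →+*
      Γ(CohB1.ProjSpace r k, LefPen.chart r k i) :=
  (Proj.awayToSection (CohB1.polyGrading r k) (MvPolynomial.X i)).hom

theorem ats_bijective (i : Fin (r + 1)) : Function.Bijective (ats r k i) := by
  have h : IsIso (Proj.awayToSection (CohB1.polyGrading r k)
      (MvPolynomial.X i : MvPolynomial (Fin (r + 1)) k)) := by
    rw [← Proj.basicOpenIsoAway_hom (CohB1.polyGrading r k) (MvPolynomial.X i)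
      (LefPen.X_mem r k i) one_pos]
    infer_instance
  exact ConcreteCategory.bijective_of_isIso
    (Proj.awayToSection (CohB1.polyGrading r k) (MvPolynomial.X i : MvPolynomial (Fin (r + 1)) k))

/-- the ring of sections over the chart `D_+(T_i)` is a polynomial ring -/
noncomputable def eG (i : Fin (r + 1)) :
    MvPolynomial {j : Fin (r + 1) // j ≠ i} k ≃+* Γ(CohB1.ProjSpace r k, LefPen.chart r k i) :=
  RingEquiv.ofBijective ((ats r k i).comp (phi (R := k) i))
    ((ats_bijective r k i).comp (phi_bijective (R := k) i))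

theorem eG_delta (G : LefPen.Form r k d) (i : Fin (r + 1)) :
    eG r k i (delta i G.1) = LefPen.dehom G i := by
  show ats r k i (phi (R := k) i (delta i G.1)) = LefPen.dehom G i
  rw [phi_delta r k i G.1 G.2 (LefPen.X_mem r k i) (by rw [smul_eq_mul, mul_one]; exact G.2)]
  rfl

/-- the coordinate ring of the chart of the hypersurface -/
noncomputable def eQ (G : LefPen.Form r k d) (hG : G ≠ 0) (i : Fin (r + 1)) :
    (MvPolynomial {j : Fin (r + 1) // j ≠ i} k ⧸ Ideal.span {delta (R := k) i G.1}) ≃+*
      (Γ(CohB1.ProjSpace r k, LefPen.chart r k i) ⧸ (LefPen.hypIdeal G).ideal (chartA r k i)) :=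
  Ideal.quotientEquiv _ _ (eG r k i) (by
    rw [ideal_chart r k G hG i, Ideal.map_span, Set.image_singleton]
    exact congrArg (fun x => Ideal.span {x}) (eG_delta r k G i).symm)

theorem eQ_comp (G : LefPen.Form r k d) (hG : G ≠ 0) (i : Fin (r + 1)) :
    (eQ r k G hG i).toRingHom.comp (algebraMap k
      (MvPolynomial {j : Fin (r + 1) // j ≠ i} k ⧸ Ideal.span {delta (R := k) i G.1})) =
      (Ideal.Quotient.mk ((LefPen.hypIdeal G).ideal (chartA r k i))).comp
        ((ats r k i).comp (Groth.Agent.Lib.Helper5.PnSm.chartC r k i)) := by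
  ext c
  show eQ r k G hG i (Ideal.Quotient.mk _ (MvPolynomial.C c)) =
    Ideal.Quotient.mk _ (ats r k i (Groth.Agent.Lib.Helper5.PnSm.chartC r k i c))
  unfold eQ
  rw [Ideal.quotientEquiv_mk]
  congr 1
  show ats r k i (phi (R := k) i (MvPolynomial.C c)) = _
  congr 1
  exact Groth.Agent.Lib.Helper5.PnSm.chartEquiv_C r k i c

/-- the structure morphism on the affine chart `D_+(T_i)` -/
theorem fromSpec_toSpec (i : Fin (r + 1)) :
    (chartA r k i).2.fromSpec ≫ CohB1.ProjSpace.toSpec r k =
      Spec.map (CommRingCat.ofHom ((ats r k i).comp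
        (Groth.Agent.Lib.Helper5.PnSm.chartC r k i))) := by
  have h1 := Groth.Agent.Helper7.P1Rat.awayι_eq_fromSpec (CohB1.polyGrading r k)
    (MvPolynomial.X i : MvPolynomial (Fin (r + 1)) k) (LefPen.X_mem r k i) one_pos
  have h2 : Proj.awayι (CohB1.polyGrading r k) (MvPolynomial.X i : MvPolynomial (Fin (r + 1)) k)
      (LefPen.X_mem r k i) one_pos ≫ CohB1.ProjSpace.toSpec r k =
      Spec.map (CommRingCat.ofHom (Groth.Agent.Lib.Helper5.PnSm.chartC r k i)) :=
    Groth.Agent.Lib.Helper5.PnSm.chartι_toSpec r k i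
  have h3 : (Proj.isAffineOpen_basicOpen (CohB1.polyGrading r k)
      (MvPolynomial.X i : MvPolynomial (Fin (r + 1)) k) (LefPen.X_mem r k i) one_pos).fromSpec =
      Spec.map (Proj.basicOpenIsoAway (CohB1.polyGrading r k)
        (MvPolynomial.X i : MvPolynomial (Fin (r + 1)) k) (LefPen.X_mem r k i) one_pos).hom ≫
      Proj.awayι (CohB1.polyGrading r k) (MvPolynomial.X i : MvPolynomial (Fin (r + 1)) k)
        (LefPen.X_mem r k i) one_pos := by
    rw [h1, ← Spec.map_comp_assoc, Iso.inv_hom_id, Spec.map_id, Category.id_comp]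
  show (Proj.isAffineOpen_basicOpen (CohB1.polyGrading r k)
      (MvPolynomial.X i : MvPolynomial (Fin (r + 1)) k) (LefPen.X_mem r k i) one_pos).fromSpec ≫
      CohB1.ProjSpace.toSpec r k = _
  rw [h3, Category.assoc, h2, ← Spec.map_comp, Proj.basicOpenIsoAway_hom]
  rfl

/-- the chart of the hypersurface over `Spec k` -/
theorem cover_comp (G : LefPen.Form r k d) (i : Fin (r + 1)) :
    (LefPen.hypIdeal G).subschemeCover.f (chartA r k i) ≫ (LefPen.hypIdeal G).subschemeι ≫
      CohB1.ProjSpace.toSpec r k =
    Spec.map (CommRingCat.ofHom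
      ((Ideal.Quotient.mk ((LefPen.hypIdeal G).ideal (chartA r k i))).comp
        ((ats r k i).comp (Groth.Agent.Lib.Helper5.PnSm.chartC r k i)))) := by
  have h12 := ((LefPen.hypIdeal G).subschemeCover_map_subschemeι (chartA r k i)).trans
    ((LefPen.hypIdeal G).glueDataObjι_ι (chartA r k i))
  refine (Category.assoc _ _ _).symm.trans ?_
  refine (congrArg (fun f => f ≫ CohB1.ProjSpace.toSpec r k) h12).trans ?_
  refine (Category.assoc _ _ _).trans ?_
  refine (congrArg (fun f => Spec.map (CommRingCat.ofHom
    (Ideal.Quotient.mk ((LefPen.hypIdeal G).ideal (chartA r k i)))) ≫ f)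
    (fromSpec_toSpec r k i)).trans ?_
  refine (Spec.map_comp _ _).symm.trans ?_
  rfl

theorem smooth_chart_iff (G : LefPen.Form r k d) (hG : G ≠ 0) (i : Fin (r + 1)) :
    Smooth ((LefPen.hypIdeal G).subschemeCover.f (chartA r k i) ≫
      (LefPen.hypIdeal G).subschemeι ≫ CohB1.ProjSpace.toSpec r k) ↔
    Algebra.Smooth k
      (MvPolynomial {j : Fin (r + 1) // j ≠ i} k ⧸ Ideal.span {delta (R := k) i G.1}) := by
  rw [cover_comp r k G i]
  refine (HasRingHomProperty.Spec_iff (P := @Smooth)).trans ?_
  refine Iff.trans ?_ (RingHom.smooth_algebraMap (R := k)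
    (S := MvPolynomial {j : Fin (r + 1) // j ≠ i} k ⧸ Ideal.span {delta (R := k) i G.1}))
  have hc := eQ_comp r k G hG i
  constructor
  · intro h
    have h' : RingHom.Smooth ((Ideal.Quotient.mk ((LefPen.hypIdeal G).ideal (chartA r k i))).comp
        ((ats r k i).comp (Groth.Agent.Lib.Helper5.PnSm.chartC r k i))) := h
    have h1 := RingHom.Smooth.respectsIso.1 _ (eQ r k G hG i).symm h'
    have h2 : (eQ r k G hG i).symm.toRingHom.comp
        ((Ideal.Quotient.mk ((LefPen.hypIdeal G).ideal (chartA r k i))).comp
          ((ats r k i).comp (Groth.Agent.Lib.Helper5.PnSm.chartC r k i))) =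
        algebraMap k
          (MvPolynomial {j : Fin (r + 1) // j ≠ i} k ⧸ Ideal.span {delta (R := k) i G.1}) := by
      refine (congrArg (fun f => (eQ r k G hG i).symm.toRingHom.comp f) hc.symm).trans ?_
      ext c
      simp
    exact (congrArg (fun f : k →+* (MvPolynomial {j : Fin (r + 1) // j ≠ i} k ⧸
      Ideal.span {delta (R := k) i G.1}) => f.Smooth) h2).mp h1
  · intro h
    have h1 := RingHom.Smooth.respectsIso.1 _ (eQ r k G hG i) h
    exact (congrArg (fun f : k →+* (Γ(CohB1.ProjSpace r k, LefPen.chart r k i) ⧸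
      (LefPen.hypIdeal G).ideal (chartA r k i)) => f.Smooth) hc).mp h1

theorem exists_chart_mem (x : CohB1.ProjSpace r k) : ∃ i : Fin (r + 1), x ∈ (chartA r k i).1 := by
  have h : x ∈ (⨆ i, ((chartA r k i : (CohB1.ProjSpace r k).affineOpens) :
      (CohB1.ProjSpace r k).Opens)) := by
    rw [iSup_chartA r k]; trivial
  exact Opens.mem_iSup.1 h

/-- the cover of a closed subscheme of `P^r_k` by its standard charts -/
noncomputable def cov (I : (CohB1.ProjSpace r k).IdealSheafData) :
    Scheme.AffineOpenCover.{0} I.subscheme where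
  I₀ := Fin (r + 1)
  X i := I.subschemeCover.X (chartA r k i)
  f i := I.subschemeCover.f (chartA r k i)
  idx x := (exists_chart_mem r k (I.subschemeι x)).choose
  covers x := by
    have h := (exists_chart_mem r k (I.subschemeι x)).choose_spec
    have h2 : x ∈ (I.subschemeCover.f
        (chartA r k (exists_chart_mem r k (I.subschemeι x)).choose)).opensRange := by
      rw [I.opensRange_subschemeCover_map]
      exact h
    exact h2

/-- **Smoothness of a hypersurface, chart by chart.** -/
theorem smooth_iff_charts (G : LefPen.Form r k d) (hG : G ≠ 0) :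
    Smooth ((LefPen.hypIdeal G).subschemeι ≫ CohB1.ProjSpace.toSpec r k) ↔
      ∀ i : Fin (r + 1), Algebra.Smooth k
        (MvPolynomial {j : Fin (r + 1) // j ≠ i} k ⧸ Ideal.span {delta (R := k) i G.1}) := by
  constructor
  · intro h i
    rw [← smooth_chart_iff r k G hG i]
    exact IsZariskiLocalAtSource.comp (P := @Smooth) h _
  · intro h
    refine IsZariskiLocalAtSource.of_openCover (P := @Smooth)
      (cov r k (LefPen.hypIdeal G)).openCover ?_
    intro i
    exact (smooth_chart_iff r k G hG i).2 (h i)

end Groth.Agent.Helper8.WCub
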