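import Mathlib
import Groth.Prelude.Def_CohB1
import Groth.Prelude.Def_LefPen
import Groth.Agent.Lib.Helper8.WCub2
import Groth.Agent.Lib.Helper6.ProjDim.Dim

/-!
# Irreducible components of an intersection of hypersurfaces in `P^r_k` (helper8)

Every irreducible component of `V_+(G_1, …, G_m) ⊆ P^r_k` (`LefPen.ciIdeal G`) has dimension at least
`r - m`.  The proof goes through a standard chart containing the generic point of the component:
the chart of the subscheme is `Spec` of `k[x_j : j ≠ i] / (G_1(x_i = 1), …, G_m(x_i = 1))`, and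
Krull's height theorem (in the form of helper6's `dq_le_add_card`) bounds the dimension of the
quotient by a minimal prime from below.

`dehom_zero` and `hypIdeal_zero` are copied from helper1's `HypBridge2` (whose import closure is
too heavy to compile on a small box).
-/

set_option autoImplicit false
set_option backward.isDefEq.respectTransparency.types false
set_option synthInstance.maxHeartbeats 400000
set_option maxHeartbeats 1600000
set_option linter.style.haveILetI false
set_option linter.unusedSectionVars false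
set_option linter.unusedVariables false
universe u
open CategoryTheory CategoryTheory.Limits AlgebraicGeometry TopologicalSpace Opposite
open HomogeneousLocalization

namespace Groth.Agent.Helper8.CIDim

open Groth.Agent.Helper1.HypBridgeH8 Groth.Agent.Helper1.QcCech
open Groth.Agent.Lib.Helper6.ProjChart Groth.Agent.Lib.Helper6.ProjDim
open Groth.Agent.Helper8.WCub

/-- arithmetic in `WithBot ℕ∞` -/
theorem arith (x : WithBot ℕ∞) (r m c : ℕ) (hc : c ≤ m)
    (h : (r : WithBot ℕ∞) ≤ x + (c : WithBot ℕ∞)) : ((r - m : ℕ) : WithBot ℕ∞) ≤ x := by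
  induction x using WithBot.recBotCoe with
  | bot =>
    rw [WithBot.bot_add] at h
    exact absurd h (by simp)
  | coe y =>
    induction y using ENat.recTopCoe with
    | top => exact_mod_cast le_top
    | coe n =>
      have h' : r ≤ n + c := by exact_mod_cast h
      have h2 : r - m ≤ n := by omega
      generalize r - m = t at h2 ⊢
      exact_mod_cast h2

variable (r : ℕ) (k : Type u) [Field k] {d : ℕ}

theorem dehom_zero (i : Fin (r + 1)) : LefPen.dehom (0 : LefPen.Form r k d) i = 0 := by
  unfold LefPen.dehom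
  have h : ∀ hx, HomogeneousLocalization.Away.mk (CohB1.polyGrading r k) (LefPen.X_mem r k i) d
      ((0 : LefPen.Form r k d) : MvPolynomial (Fin (r + 1)) k) hx = 0 := fun hx =>
    HomogeneousLocalization.mk_eq_zero_of_num _ (Subtype.ext rfl)
  rw [h, map_zero]
  rfl

theorem hypIdeal_zero : LefPen.hypIdeal (0 : LefPen.Form r k d) = ⊥ := by
  rw [eq_bot_iff]
  refine Scheme.IdealSheafData.le_of_iSup_eq_top (chartA r k) (iSup_chartA r k) (fun i => ?_)
  intro a ha
  have h1 : a ∈ LefPen.hypFamily (0 : LefPen.Form r k d) (chartA r k i) :=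
    Scheme.IdealSheafData.ideal_ofIdeals_le (LefPen.hypFamily _) (chartA r k i) ha
  unfold LefPen.hypFamily at h1
  rw [Ideal.mem_iInf] at h1
  have h2 := h1 i
  rw [Ideal.mem_comap, dehom_zero, map_zero, Ideal.mem_span_singleton'] at h2
  obtain ⟨b, hb⟩ := h2
  rw [mul_zero] at hb
  have hW : LefPen.chart r k i ≤ (chartA r k i).1 ⊓ LefPen.chart r k i := le_inf le_rfl le_rfl
  have hb' : resR (inf_le_left : (chartA r k i).1 ⊓ LefPen.chart r k i ≤ (chartA r k i).1) a =
      0 := hb.symm
  have h3 := congrArg (resR hW) hb'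
  have h4 : resR (hW.trans inf_le_left : LefPen.chart r k i ≤ (chartA r k i).1) a = a :=
    resR_self' _ a
  rw [resR_resR, map_zero] at h3
  show a ∈ (⊥ : Ideal _)
  rw [Ideal.mem_bot]
  exact h4.symm.trans h3

/-- on the chart `D_+(T_i)` the ideal of `V_+(G)` is generated by `G / T_i^d` (any form `G`) -/
theorem ideal_chart' (G : LefPen.Form r k d) (i : Fin (r + 1)) :
    (LefPen.hypIdeal G).ideal (chartA r k i) = Ideal.span {LefPen.dehom G i} := by
  by_cases hG : G = 0
  · subst hG
    rw [hypIdeal_zero, dehom_zero, Scheme.IdealSheafData.ideal_bot]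
    exact (Ideal.span_singleton_eq_bot.2 rfl).symm
  · exact ideal_chart r k G hG i

variable {m : ℕ} {a : Fin m → ℕ}

/-- on the chart `D_+(T_i)` the ideal of `V_+(G_1, …, G_m)` is generated by the `G_j / T_i^{a_j}` -/
theorem ciIdeal_chart (G : ∀ j : Fin m, LefPen.Form r k (a j)) (i : Fin (r + 1)) :
    (LefPen.ciIdeal G).ideal (chartA r k i) =
      Ideal.span (Set.range fun j => LefPen.dehom (G j) i) := by
  unfold LefPen.ciIdeal
  rw [Scheme.IdealSheafData.ideal_iSup, iSup_apply]
  have h : ∀ j, (LefPen.hypIdeal (G j)).ideal (chartA r k i) =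
      Ideal.span {LefPen.dehom (G j) i} := fun j => ideal_chart' r k (G j) i
  rw [iSup_congr h, ← Ideal.span_iUnion, Set.iUnion_singleton_eq_range]

/-- the coordinate ring of the chart `D_+(T_i)` of `V_+(G_1, …, G_m)` -/
abbrev Rc (G : ∀ j : Fin m, LefPen.Form r k (a j)) (i : Fin (r + 1)) : Type u :=
  Γ(CohB1.ProjSpace r k, LefPen.chart r k i) ⧸ (LefPen.ciIdeal G).ideal (chartA r k i)

/-- the surjection from the polynomial ring onto the chart ring -/
noncomputable def phiC (G : ∀ j : Fin m, LefPen.Form r k (a j)) (i : Fin (r + 1)) :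
    MvPolynomial {j : Fin (r + 1) // j ≠ i} k →+* Rc r k G i :=
  (Ideal.Quotient.mk ((LefPen.ciIdeal G).ideal (chartA r k i))).comp (eG r k i).toRingHom

theorem phiC_surjective (G : ∀ j : Fin m, LefPen.Form r k (a j)) (i : Fin (r + 1)) :
    Function.Surjective (phiC r k G i) :=
  Ideal.Quotient.mk_surjective.comp (eG r k i).surjective

theorem ker_phiC (G : ∀ j : Fin m, LefPen.Form r k (a j)) (i : Fin (r + 1)) :
    RingHom.ker (phiC r k G i) =
      Ideal.span (Set.range fun j => delta (R := k) i (G j).1) := by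
  unfold phiC
  rw [← RingHom.comap_ker, Ideal.mk_ker, ciIdeal_chart]
  have h : Ideal.span (Set.range fun j => LefPen.dehom (G j) i) =
      (Ideal.span (Set.range fun j => delta (R := k) i (G j).1)).map (eG r k i).toRingHom := by
    rw [Ideal.map_span, ← Set.range_comp]
    congr 2
    funext j
    exact (eG_delta r k (G j) i).symm
  rw [h]
  exact Ideal.comap_map_of_bijective _ (eG r k i).bijective

theorem card_ne (i : Fin (r + 1)) : Nat.card {j : Fin (r + 1) // j ≠ i} = r := by
  rw [Nat.card_congr (finSuccAboveEquiv i).symm, Nat.card_eq_fintype_card, Fintype.card_fin]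

/-- Krull's height theorem on a chart: the quotient of the chart ring by a minimal prime has
dimension at least `r - m` -/
theorem le_dim_quot (G : ∀ j : Fin m, LefPen.Form r k (a j)) (i : Fin (r + 1))
    (q : Ideal (Rc r k G i)) (hq : q ∈ (⊥ : Ideal (Rc r k G i)).minimalPrimes) :
    ((r - m : ℕ) : WithBot ℕ∞) ≤ ringKrullDim (Rc r k G i ⧸ q) := by
  classical
  haveI : q.IsPrime := hq.1.1
  set φ := phiC r k G i with hφ
  have hsurj : Function.Surjective φ := phiC_surjective r k G i
  have hmin : q.comap φ ∈ (RingHom.ker φ).minimalPrimes := by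
    have h := Ideal.minimalPrimes_comap_of_surjective hsurj hq
    rwa [← RingHom.ker_eq_comap_bot] at h
  haveI : (q.comap φ).IsPrime := hmin.1.1
  set s : Finset (MvPolynomial {j : Fin (r + 1) // j ≠ i} k) :=
    Finset.univ.image (fun j => delta (R := k) i (G j).1) with hs
  have hsr : (s : Set (MvPolynomial {j : Fin (r + 1) // j ≠ i} k)) =
      Set.range fun j => delta (R := k) i (G j).1 := by
    rw [hs, Finset.coe_image, Finset.coe_univ, Set.image_univ]
  have hcard : s.card ≤ m := by
    refine Finset.card_image_le.trans ?_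
    rw [Finset.card_univ, Fintype.card_fin]
  have hmin' : q.comap φ ∈ ((⊥ : Ideal (MvPolynomial {j : Fin (r + 1) // j ≠ i} k)) ⊔
      Ideal.span (s : Set (MvPolynomial {j : Fin (r + 1) // j ≠ i} k))).minimalPrimes := by
    rw [bot_sup_eq, hsr, ← ker_phiC r k G i]
    exact hmin
  have h1 := dq_le_add_card (k := k) (p := (⊥ : Ideal (MvPolynomial {j : Fin (r + 1) // j ≠ i} k)))
    (q := q.comap φ) s hmin'
  have h2 : dq (⊥ : Ideal (MvPolynomial {j : Fin (r + 1) // j ≠ i} k)) = (r : WithBot ℕ∞) := by
    unfold dq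
    rw [ringKrullDim_eq_of_ringEquiv (RingEquiv.quotientBot _),
      MvPolynomial.ringKrullDim_of_isNoetherianRing, ringKrullDim_eq_zero_of_field, zero_add,
      card_ne r i]
  have hψ : Function.Surjective ((Ideal.Quotient.mk q).comp φ) :=
    Ideal.Quotient.mk_surjective.comp hsurj
  have hker : q.comap φ = RingHom.ker ((Ideal.Quotient.mk q).comp φ) := by
    rw [← RingHom.comap_ker, Ideal.mk_ker]
  have h3 : dq (q.comap φ) = ringKrullDim (Rc r k G i ⧸ q) := by
    unfold dq
    exact ringKrullDim_eq_of_ringEquiv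
      ((Ideal.quotEquivOfEq hker).trans (RingHom.quotientKerEquivOfSurjective hψ))
  rw [h2, h3] at h1
  exact arith _ r m s.card hcard h1

/-- **Every irreducible component of `V_+(G_1, …, G_m) ⊆ P^r_k` has dimension at least `r - m`.** -/
theorem main (G : ∀ j : Fin m, LefPen.Form r k (a j))
    (Z : Set ↥(LefPen.ciIdeal G).subscheme)
    (hZ : Z ∈ irreducibleComponents ↥(LefPen.ciIdeal G).subscheme) :
    ((r - m : ℕ) : WithBot ℕ∞) ≤ topologicalKrullDim ↥Z := by
  classical
  have hZirr : IsIrreducible Z := hZ.1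
  have hZcl : IsClosed Z := isClosed_of_mem_irreducibleComponents Z hZ
  obtain ⟨ξ, hξ⟩ := QuasiSober.sober hZirr hZcl
  obtain ⟨i, hi⟩ := exists_chart_mem r k ((LefPen.ciIdeal G).subschemeι ξ)
  have hξU : ξ ∈ ((LefPen.ciIdeal G).subschemeCover.f (chartA r k i)).opensRange := by
    rw [(LefPen.ciIdeal G).opensRange_subschemeCover_map]
    exact hi
  obtain ⟨y, hy⟩ := hξU
  let f := (LefPen.ciIdeal G).subschemeCover.f (chartA r k i)
  -- `y` is a prime of the chart ring
  let y' : PrimeSpectrum (Rc r k G i) := y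
  obtain ⟨q, hq, hle⟩ := Ideal.exists_minimalPrimes_le
    (show (⊥ : Ideal (Rc r k G i)) ≤ y'.asIdeal from bot_le)
  haveI : q.IsPrime := hq.1.1
  let y₀ : PrimeSpectrum (Rc r k G i) := ⟨q, hq.1.1⟩
  let c : PrimeSpectrum (Rc r k G i ⧸ q) → PrimeSpectrum (Rc r k G i) :=
    PrimeSpectrum.comap (Ideal.Quotient.mk q)
  let fb : PrimeSpectrum (Rc r k G i) → ↥(LefPen.ciIdeal G).subscheme := fun w => f.base w
  have hfb_cont : Continuous fb := f.base.hom.continuous
  have hfb_emb : Topology.IsEmbedding fb := f.isOpenEmbedding.isEmbedding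
  have hc_emb : Topology.IsEmbedding c :=
    (PrimeSpectrum.isClosedEmbedding_comap_of_surjective _ _
      Ideal.Quotient.mk_surjective).isEmbedding
  -- the closure of the image of `y₀` is `Z`
  have hspec0 : fb y₀ ⤳ ξ := by
    have h1 : y₀ ⤳ y' := (PrimeSpectrum.le_iff_specializes y₀ y').1 hle
    have h2 := h1.map hfb_cont
    have h3 : fb y' = ξ := hy
    rwa [h3] at h2
  have hT : closure {fb y₀} ⊆ Z := by
    have hirr : IsIrreducible (closure {fb y₀}) := isIrreducible_singleton.closure
    have hZT : Z ⊆ closure {fb y₀} := by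
      rw [← hξ.def]
      exact closure_minimal (Set.singleton_subset_iff.2 (specializes_iff_mem_closure.1 hspec0))
        isClosed_closure
    exact hZ.le_of_ge hirr hZT
  have hmem : ∀ w, fb (c w) ∈ Z := by
    intro w
    apply hT
    have h1 : y₀ ⤳ c w := by
      rw [← PrimeSpectrum.le_iff_specializes]
      show q ≤ (c w).asIdeal
      intro x hx
      show Ideal.Quotient.mk q x ∈ w.asIdeal
      rw [Ideal.Quotient.eq_zero_iff_mem.2 hx]
      exact w.asIdeal.zero_mem
    exact specializes_iff_mem_closure.1 (h1.map hfb_cont)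
  have hind : Topology.IsInducing (Set.codRestrict (fb ∘ c) Z hmem) :=
    (hfb_emb.comp hc_emb).isInducing.codRestrict hmem
  have h1 := hind.topologicalKrullDim_le
  rw [PrimeSpectrum.topologicalKrullDim_eq_ringKrullDim] at h1
  exact (le_dim_quot r k G i q hq).trans h1

end Groth.Agent.Helper8.CIDim
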