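import Mathlib
import Groth.Prelude
import Groth.Agent.Lib.Helper8.CIAsc4
import Groth.Agent.Lib.Helper8.CompFib2
import Groth.Agent.Lib.Helper8.CILoc3
import Groth.Agent.Lib.Helper8.CplMap3

/-!
# Locally complete intersection rings: ascent along flat maps and fibres of composites
-/

set_option autoImplicit false
universe u

namespace Groth.Agent.Helper8.CIFib

open IsLocalRing TensorProduct

/-- A Noetherian ring all of whose local rings are complete intersections. -/
def LocCI (R : Type u) [CommRing R] : Prop :=
  IsNoetherianRing R ∧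
    ∀ (P : Ideal R) [P.IsPrime], Pi1.IsCompleteIntersection (Localization.AtPrime P)

theorem locCI_of_ringEquiv {R S : Type u} [CommRing R] [CommRing S] (e : R ≃+* S)
    (h : LocCI R) : LocCI S := by
  haveI := h.1
  haveI : IsNoetherianRing S := isNoetherianRing_of_ringEquiv R e
  refine ⟨inferInstance, fun p hp => ?_⟩
  exact CIPres.isCompleteIntersection_of_ringEquiv (IsLocalization.ringEquivOfRingEquiv
    (Localization.AtPrime (p.comap e)) (Localization.AtPrime p) e (e.map_primeCompl_comap_eq p))
    (h.2 (p.comap e))

theorem locCI_of_isRegularRing (R : Type u) [CommRing R] [IsRegularRing R] : LocCI R := by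
  refine ⟨inferInstance, fun p hp => ?_⟩
  exact CILoc.isCompleteIntersection_of_isRegularLocalRing _

section atPrime

variable (A B : Type u) [CommRing A] [CommRing B] [IsNoetherianRing A] [IsNoetherianRing B]
  [Algebra A B] [Module.Flat A B]

/-- The local form of ascent: complete intersection base local ring and complete intersection
fibre local ring give a complete intersection local ring. -/
theorem isCompleteIntersection_atPrime_of_fibre (Q : Ideal B) [Q.IsPrime]
    [IsLocalRing (EGA4.FibLocRing A B Q)]
    (hP : Pi1.IsCompleteIntersection (Localization.AtPrime (Q.comap (algebraMap A B))))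
    (hF : Pi1.IsCompleteIntersection (EGA4.FibLocRing A B Q)) :
    Pi1.IsCompleteIntersection (Localization.AtPrime Q) := by
  haveI : Q.LiesOver (Q.comap (algebraMap A B)) := ⟨rfl⟩
  letI := Localization.AtPrime.algebraOfLiesOver (Q.comap (algebraMap A B)) Q
  haveI : IsLocalHom (algebraMap (Localization.AtPrime (Q.comap (algebraMap A B)))
      (Localization.AtPrime Q)) := by
    rw [RingHom.algebraMap_toAlgebra]
    exact Localization.isLocalHom_localRingHom _ Q (algebraMap A B) Ideal.LiesOver.over
  have hideal : (maximalIdeal (Localization.AtPrime (Q.comap (algebraMap A B)))).map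
      (algebraMap (Localization.AtPrime (Q.comap (algebraMap A B))) (Localization.AtPrime Q)) =
      (Q.comap (algebraMap A B)).map (algebraMap A (Localization.AtPrime Q)) := by
    rw [← Localization.AtPrime.map_eq_maximalIdeal, Ideal.map_map,
      ← IsScalarTower.algebraMap_eq]
  have hF' : Pi1.IsCompleteIntersection
      (EGA4.FibRing (Localization.AtPrime (Q.comap (algebraMap A B))) (Localization.AtPrime Q)) :=
    CIPres.isCompleteIntersection_of_ringEquiv (Ideal.quotEquivOfEq hideal.symm) hF
  exact CIAsc.isCompleteIntersection_of_flat (Localization.AtPrime (Q.comap (algebraMap A B)))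
    (Localization.AtPrime Q) hP hF'

/-- Ascent of the locally complete intersection property along flat maps with locally complete
intersection fibres. -/
theorem locCI_of_flat_of_fibres (hA : LocCI A)
    (hfib : ∀ (p : Ideal A) [p.IsPrime], LocCI (p.Fiber B)) : LocCI B := by
  refine ⟨inferInstance, fun Q hQ => ?_⟩
  haveI := FlatReg.nontrivial_fibLocRing A B Q
  haveI : IsLocalRing (EGA4.FibLocRing A B Q) :=
    IsLocalRing.of_surjective' (Ideal.Quotient.mk _) Ideal.Quotient.mk_surjective
  apply isCompleteIntersection_atPrime_of_fibre A B Q (hA.2 _)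
  obtain ⟨Q', hQ'prime, hQ'⟩ := Fib.exists_fiber_prime (Q.comap (algebraMap A B)) Q rfl
  obtain ⟨e⟩ := Fib.nonempty_ringEquiv_fibLocRing (Q.comap (algebraMap A B)) Q' Q hQ'
  haveI := (hfib (Q.comap (algebraMap A B))).1
  exact CIPres.isCompleteIntersection_of_ringEquiv e ((hfib (Q.comap (algebraMap A B))).2 Q')

end atPrime

section main

variable (A B C : Type u) [CommRing A] [CommRing B] [CommRing C] [Algebra A B] [Algebra B C]
  [Algebra A C] [IsScalarTower A B C]

theorem locCI_fibre_comp [Module.Flat B C] (p : Ideal A) [p.IsPrime]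
    [IsNoetherianRing (p.Fiber B)] [IsNoetherianRing (p.Fiber C)]
    (K : Type u) [Field K] [Algebra p.ResidueField K] [Module.Finite p.ResidueField K]
    (hB : LocCI (K ⊗[p.ResidueField] p.Fiber B))
    (hC : ∀ (q : Ideal B) [q.IsPrime], IsNoetherianRing (q.Fiber C) ∧
      CAlg.IsGeometricallyRegular q.ResidueField (q.Fiber C)) :
    LocCI (K ⊗[p.ResidueField] p.Fiber C) :=
  CompFib.comp_fibre B C A (fun R _ => LocCI R)
    (fun _ _ _ _ e h => locCI_of_ringEquiv e h)
    (fun R S _ _ _ _ _ _ hR hfib => locCI_of_flat_of_fibres R S hR hfib) p K hB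
    (fun q _ K' _ _ hfin => by
      haveI : IsRegularRing (K' ⊗[q.ResidueField] q.Fiber C) := (hC q).2 K' hfin
      exact locCI_of_isRegularRing _)

end main

end Groth.Agent.Helper8.CIFib
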