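import Mathlib
import Groth.Prelude
import Groth.Agent.Lib.Helper8.CIFlat3
import Groth.Agent.Lib.Helper8.CIFib1
import Groth.Agent.Lib.Helper8.Depth30

/-!
# Tensor products of fields are locally complete intersections; base change of the locally
complete intersection property along finitely generated field extensions
-/

set_option autoImplicit false
universe u

namespace Groth.Agent.Helper8.CIFlat

open IsLocalRing TensorProduct

theorem isCompleteIntersection_atPrime_of_eq_bot {D : Type u} [CommRing D] (p : Ideal D)
    [p.IsPrime] (h : p = ⊥) : Pi1.IsCompleteIntersection (Localization.AtPrime p) := by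
  have hm : maximalIdeal (Localization.AtPrime p) = ⊥ := by
    rw [← Localization.AtPrime.map_eq_maximalIdeal, eq_bot_iff, Ideal.map_le_iff_le_comap]
    intro x hx
    rw [h, Ideal.mem_bot] at hx
    rw [hx]
    exact Ideal.zero_mem _
  have hf : IsField (Localization.AtPrime p) := IsLocalRing.isField_iff_maximalIdeal_eq.mpr hm
  haveI := Depth.isRegularLocalRing_of_isField _ hf
  exact CILoc.isCompleteIntersection_of_isRegularLocalRing _

/-- Localizations of locally complete intersection rings are locally complete intersections. -/
theorem locCI_of_isLocalization {R : Type u} [CommRing R] (M : Submonoid R)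
    (S : Type u) [CommRing S] [Algebra R S] [IsLocalization M S] [IsNoetherianRing R]
    (h : ∀ (P : Ideal S) [P.IsPrime],
      Pi1.IsCompleteIntersection (Localization.AtPrime (P.comap (algebraMap R S)))) :
    CIFib.LocCI S := by
  haveI : IsNoetherianRing S := IsLocalization.isNoetherianRing M S inferInstance
  refine ⟨inferInstance, fun P hP => ?_⟩
  haveI : IsLocalization.AtPrime (Localization.AtPrime P) (P.comap (algebraMap R S)) :=
    IsLocalization.isLocalization_isLocalization_atPrime_isLocalization M
      (Localization.AtPrime P) P
  exact CIPres.isCompleteIntersection_of_ringEquiv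
    (IsLocalization.algEquiv (P.comap (algebraMap R S)).primeCompl
      (Localization.AtPrime (P.comap (algebraMap R S))) (Localization.AtPrime P)).toRingEquiv
    (h P)

/-- The tensor product of a field with a finitely generated field extension is a locally complete
intersection ring. -/
theorem locCI_tensor_fields (k L K : Type u) [Field k] [Field L] [Field K] [Algebra k L]
    [Algebra k K] [Algebra.EssFiniteType k K] : CIFib.LocCI (L ⊗[k] K) := by
  letI : Algebra (L ⊗[k] Algebra.EssFiniteType.subalgebra k K) (L ⊗[k] K) :=
    (Algebra.TensorProduct.map (AlgHom.id k L)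
      (IsScalarTower.toAlgHom k (Algebra.EssFiniteType.subalgebra k K) K)).toAlgebra
  haveI : IsScalarTower L (L ⊗[k] Algebra.EssFiniteType.subalgebra k K) (L ⊗[k] K) :=
    .of_algebraMap_eq <| by
      intro x
      change algebraMap L (L ⊗[k] K) x = (Algebra.TensorProduct.map (AlgHom.id k L)
        (IsScalarTower.toAlgHom k (Algebra.EssFiniteType.subalgebra k K) K))
        (algebraMap L (L ⊗[k] Algebra.EssFiniteType.subalgebra k K) x)
      rw [Algebra.TensorProduct.algebraMap_apply, Algebra.TensorProduct.algebraMap_apply,
        Algebra.TensorProduct.map_tmul]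
      simp
  haveI hloc := IsLocalization.tensorProduct_tensorProduct_right k L
    (Algebra.EssFiniteType.submonoid k K) K (by ext; simp [RingHom.algebraMap_toAlgebra])
  haveI : IsNoetherianRing (L ⊗[k] Algebra.EssFiniteType.subalgebra k K) :=
    Algebra.FiniteType.isNoetherianRing L _
  refine locCI_of_isLocalization (R := L ⊗[k] Algebra.EssFiniteType.subalgebra k K)
    ((Algebra.EssFiniteType.submonoid k K).map
      (Algebra.TensorProduct.includeRight (R := k) (A := L))) (L ⊗[k] K) fun P hP => ?_
  refine (ci_baseChange_iff k L (Algebra.EssFiniteType.subalgebra k K) _).mp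
    (isCompleteIntersection_atPrime_of_eq_bot _ ?_)
  rw [eq_bot_iff]
  intro x hx
  rw [Ideal.mem_bot]
  by_contra hx0
  have hx0' : (x : K) ≠ 0 := fun h => hx0 (Subtype.ext h)
  have hmem : (1 : L) ⊗ₜ[k] (x : K) ∈ P := hx
  have hu : IsUnit ((1 : L) ⊗ₜ[k] (x : K)) := by
    have : IsUnit (x : K) := isUnit_iff_ne_zero.mpr hx0'
    exact this.map (Algebra.TensorProduct.includeRight : K →ₐ[k] L ⊗[k] K)
  exact hP.ne_top (Ideal.eq_top_of_isUnit_mem _ hmem hu)

end Groth.Agent.Helper8.CIFlat
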