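import Mathlib
import Groth.Prelude
import Groth.Agent.Lib.Helper8.CMF3
import Groth.Agent.Lib.Helper8.ABS3
import Groth.Agent.Lib.Helper8.Depth39
import Groth.Agent.Lib.Helper8.FlatReg2

/-!
# A flat quotient with Cohen–Macaulay closed fibre of a flat algebra with regular closed fibre
is perfect
-/

set_option autoImplicit false
universe u

namespace Groth.Agent.Helper8.CMF

open CategoryTheory IsLocalRing LocCoh RingTheory.Sequence

section

variable (A B C : Type u) [CommRing A] [CommRing B] [CommRing C]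
  [IsNoetherianRing A] [IsNoetherianRing B] [IsNoetherianRing C]
  [IsLocalRing A] [IsLocalRing B] [IsLocalRing C] [Algebra A B] [Algebra B C] [Algebra A C]
  [IsScalarTower A B C] [IsLocalHom (algebraMap A B)] [IsLocalHom (algebraMap A C)]

/-- Depth and dimension of the closed fibre module of `C` over the closed fibre ring of `B`. -/
theorem depth_supportDim_fibMod (hsurj : Function.Surjective (algebraMap B C)) :
    depth (EGA4.FibRing A B) (EGA4.FibMod A B C) =
        depth (EGA4.FibRing A C) (EGA4.FibRing A C) ∧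
      Module.supportDim (EGA4.FibRing A B) (EGA4.FibMod A B C) =
        ringKrullDim (EGA4.FibRing A C) := by
  haveI : Module.Finite B C := Module.Finite.of_surjective (Algebra.linearMap B C) hsurj
  haveI : IsLocalHom (algebraMap B (EGA4.FibRing A B)) :=
    IsLocalHom.of_surjective _ Ideal.Quotient.mk_surjective
  have hBG : Function.Surjective (algebraMap B (EGA4.FibRing A C)) := by
    rw [IsScalarTower.algebraMap_eq B C (EGA4.FibRing A C)]
    exact Ideal.Quotient.mk_surjective.comp hsurj
  haveI : IsLocalHom (algebraMap B (EGA4.FibRing A C)) := IsLocalHom.of_surjective _ hBG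
  haveI : Module.Finite B (EGA4.FibRing A C) :=
    Module.Finite.of_surjective (Algebra.linearMap B (EGA4.FibRing A C)) hBG
  have hd1 : depth B (EGA4.FibMod A B C) = depth (EGA4.FibRing A B) (EGA4.FibMod A B C) :=
    Depth.depth_eq_of_tower B (EGA4.FibRing A B) (EGA4.FibMod A B C)
  have hd2 : depth B (EGA4.FibMod A B C) = depth B (EGA4.FibRing A C) :=
    Depth.idealDepth_congr (fibEquiv A B C hsurj)
  have hd3 : depth B (EGA4.FibRing A C) = depth (EGA4.FibRing A C) (EGA4.FibRing A C) :=
    Depth.depth_eq_of_tower B (EGA4.FibRing A C) (EGA4.FibRing A C)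
  have hs1 := Depth.supportDim_restrictScalars_eq B (EGA4.FibRing A B) (EGA4.FibMod A B C)
  have hs2 := Module.supportDim_eq_of_equiv (fibEquiv A B C hsurj)
  have hs3 := Depth.supportDim_restrictScalars_eq B (EGA4.FibRing A C) (EGA4.FibRing A C)
  refine ⟨by rw [← hd1, hd2, hd3], ?_⟩
  rw [← hs1, hs2, hs3, Module.supportDim_self_eq_ringKrullDim]

/-- The projective dimension of `C` over `B` is the codimension of the closed fibres. -/
theorem exists_hasProjectiveDimensionLT [Module.Flat A B] [Module.Flat A C]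
    (hsurj : Function.Surjective (algebraMap B C))
    (hF : IsRegularLocalRing (EGA4.FibRing A B))
    (hG : IsCohenMacaulayLocalRing (EGA4.FibRing A C)) :
    ∃ n : ℕ, HasProjectiveDimensionLT (ModuleCat.of B C) (n + 1) ∧
      (n : WithBot ℕ∞) + ringKrullDim (EGA4.FibRing A C) = ringKrullDim (EGA4.FibRing A B) := by
  haveI : Module.Finite B C := Module.Finite.of_surjective (Algebra.linearMap B C) hsurj
  obtain ⟨hdep, hdim⟩ := depth_supportDim_fibMod A B C hsurj
  haveI : Nontrivial (EGA4.FibMod A B C) := by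
    rw [← not_subsingleton_iff_nontrivial, PdFib.subsingleton_fib_iff A B C,
      not_subsingleton_iff_nontrivial]
    infer_instance
  obtain ⟨d₀, hd₀⟩ := Depth.exists_nat_supportDim (A := EGA4.FibRing A B) (EGA4.FibRing A B)
  rw [Module.supportDim_self_eq_ringKrullDim] at hd₀
  obtain ⟨g₀, hg₀⟩ := Depth.exists_nat_supportDim (A := EGA4.FibRing A C) (EGA4.FibRing A C)
  rw [Module.supportDim_self_eq_ringKrullDim] at hg₀
  have hpd0 := ABS.hasProjectiveDimensionLT_of_regular_finite d₀ (EGA4.FibRing A B) hd₀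
    (EGA4.FibMod A B C)
  obtain ⟨e, -, he⟩ := ABS.exists_projectiveDimension_eq (A := EGA4.FibRing A B)
    (EGA4.FibMod A B C) d₀ hpd0
  have hAB := ABS.auslander_buchsbaum (EGA4.FibRing A B) (EGA4.FibMod A B C) e he
  have hFd := ABS.depth_eq_dim_of_regular (EGA4.FibRing A B)
  have hGd := hG.supportDim_eq_depth
  rw [Module.supportDim_self_eq_ringKrullDim, hg₀] at hGd
  have hGd' : depth (EGA4.FibRing A C) (EGA4.FibRing A C) = (g₀ : ℕ∞) := by
    exact_mod_cast hGd.symm
  rw [hdep, hGd'] at hAB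
  rw [hAB, hd₀] at hFd
  have h1 : e + g₀ = d₀ := by exact_mod_cast hFd
  refine ⟨e, ?_, ?_⟩
  · rw [← PdFib.hasPDLT_iff A B e C]
    exact (projectiveDimension_le_iff _ e).mp he.le
  · rw [hg₀, hd₀]
    exact_mod_cast h1

theorem exists_list_lift {α β : Type*} (f : α → β) (P : α → Prop) (Q : β → Prop)
    (h : ∀ b, Q b → ∃ a, P a ∧ f a = b) (l : List β) (hl : ∀ b ∈ l, Q b) :
    ∃ l' : List α, l'.map f = l ∧ ∀ a ∈ l', P a := by
  induction l with
  | nil => exact ⟨[], rfl, by simp⟩
  | cons b l ih =>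
    obtain ⟨l', hl', hP⟩ := ih (fun b' hb' => hl b' (List.mem_cons_of_mem _ hb'))
    obtain ⟨a, ha, hab⟩ := h b (hl b List.mem_cons_self)
    refine ⟨a :: l', by rw [List.map_cons, hab, hl'], ?_⟩
    intro a' ha'
    rcases List.mem_cons.mp ha' with rfl | h'
    · exact ha
    · exact hP a' h'

/-- The kernel of `B → C` contains a `B`-regular sequence whose length is the codimension of the
closed fibres. -/
theorem exists_regular_sequence [Module.Flat A B] [Module.Flat A C]
    (hsurj : Function.Surjective (algebraMap B C))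
    (hF : IsRegularLocalRing (EGA4.FibRing A B)) (n : ℕ)
    (hn : (n : WithBot ℕ∞) + ringKrullDim (EGA4.FibRing A C) = ringKrullDim (EGA4.FibRing A B)) :
    ∃ xs : List B, xs.length = n ∧ IsWeaklyRegular B xs ∧ ∀ x ∈ xs, algebraMap B C x = 0 := by
  haveI : Module.Finite B C := Module.Finite.of_surjective (Algebra.linearMap B C) hsurj
  obtain ⟨-, hdim⟩ := depth_supportDim_fibMod A B C hsurj
  haveI : Nontrivial (EGA4.FibMod A B C) := by
    rw [← not_subsingleton_iff_nontrivial, PdFib.subsingleton_fib_iff A B C,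
      not_subsingleton_iff_nontrivial]
    infer_instance
  obtain ⟨d₀, hd₀⟩ := Depth.exists_nat_supportDim (A := EGA4.FibRing A B) (EGA4.FibRing A B)
  rw [Module.supportDim_self_eq_ringKrullDim] at hd₀
  obtain ⟨g₀, hg₀⟩ := Depth.exists_nat_supportDim (A := EGA4.FibRing A C) (EGA4.FibRing A C)
  rw [Module.supportDim_self_eq_ringKrullDim] at hg₀
  rw [hg₀, hd₀] at hn
  have hn' : n + g₀ = d₀ := by exact_mod_cast hn
  set J : Ideal (EGA4.FibRing A B) :=
    Module.annihilator (EGA4.FibRing A B) (EGA4.FibMod A B C) with hJ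
  have hJtop : J ≠ ⊤ := by
    intro h
    have h1 : (1 : EGA4.FibRing A B) ∈ J := by rw [h]; trivial
    obtain ⟨m, hm⟩ := exists_ne (0 : EGA4.FibMod A B C)
    apply hm
    have := Module.mem_annihilator.mp h1 m
    rwa [one_smul] at this
  have h1 := Depth.depth_le_idealDepth_add_dim_quotient J hJtop (EGA4.FibRing A B)
  have h2 : ringKrullDim (EGA4.FibRing A B ⧸ J) = (g₀ : WithBot ℕ∞) := by
    rw [← Module.supportDim_eq_ringKrullDim_quotient_annihilator, hdim, hg₀]
  have hFd := ABS.depth_eq_dim_of_regular (EGA4.FibRing A B)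
  rw [hFd, hd₀, h2] at h1
  have hJsmul : J • (⊤ : Submodule (EGA4.FibRing A B) (EGA4.FibRing A B)) ≠ ⊤ := by
    rw [smul_eq_mul, Ideal.mul_top]; exact hJtop
  obtain ⟨k, hk⟩ := ENat.ne_top_iff_exists.mp (Depth.idealDepth_ne_top hJsmul)
  rw [← hk] at h1
  have h3 : d₀ ≤ k + g₀ := by exact_mod_cast h1
  have h4 : (n : ℕ∞) ≤ idealDepth J (EGA4.FibRing A B) := by
    rw [← hk]; exact_mod_cast (by omega : n ≤ k)
  obtain ⟨rs, hlen, hreg, hmem⟩ := (Depth.le_idealDepth_iff hJsmul n).mp h4
  -- lifting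
  have hlift : ∀ r : EGA4.FibRing A B, r ∈ J →
      ∃ x : B, algebraMap B C x = 0 ∧ algebraMap B (EGA4.FibRing A B) x = r := by
    intro r hr
    obtain ⟨y, rfl⟩ := Ideal.Quotient.mk_surjective r
    have h5 := Module.mem_annihilator.mp hr (Submodule.Quotient.mk (1 : C))
    have h6 : (Ideal.Quotient.mk (EGA4.mB A B) y) • (Submodule.Quotient.mk (1 : C) :
        EGA4.FibMod A B C) = Submodule.Quotient.mk (y • (1 : C)) := rfl
    rw [h6, Submodule.Quotient.mk_eq_zero, mB_smul_top_eq A B C hsurj,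
      Submodule.restrictScalars_mem, Algebra.smul_def, mul_one] at h5
    have hJ' : EGA4.mB A C = (EGA4.mB A B).map (algebraMap B C) := by
      unfold EGA4.mB
      rw [Ideal.map_map, ← IsScalarTower.algebraMap_eq]
    rw [hJ', Ideal.mem_map_iff_of_surjective _ hsurj] at h5
    obtain ⟨m, hm, hmy⟩ := h5
    refine ⟨y - m, by rw [map_sub, hmy, sub_self], ?_⟩
    rw [map_sub, Ideal.Quotient.algebraMap_eq, Ideal.Quotient.eq_zero_iff_mem.mpr hm, sub_zero]
  obtain ⟨xs, hxs, hker⟩ := exists_list_lift (algebraMap B (EGA4.FibRing A B))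
    (fun x => algebraMap B C x = 0) (fun r => r ∈ J) hlift rs hmem
  refine ⟨xs, ?_, ?_, hker⟩
  · rw [← hlen, ← hxs, List.length_map]
  · rw [← hxs, isWeaklyRegular_map_algebraMap_iff] at hreg
    have hreg' : IsWeaklyRegular (B ⧸ (EGA4.mB A B • (⊤ : Submodule B B))) xs :=
      (LinearEquiv.isWeaklyRegular_congr (Depth.quotSMulTopRingEquiv (EGA4.mB A B)) xs).mpr hreg
    exact (FlatReg.isWeaklyRegular_and_flat_of_fibre (A := A) (B := B) xs B hreg').1

end

end Groth.Agent.Helper8.CMF
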