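import Mathlib
import Groth.Prelude
import Groth.Agent.Lib.Helper8.Fib1

/-!
# Fibre local rings under base change: the induced map is flat and local
-/

set_option autoImplicit false
universe u

namespace Groth.Agent.Helper8.FibBC

open TensorProduct

section aux

variable {R S : Type u} [CommRing R] [CommRing S] [Algebra R S] (p : Ideal R) [p.IsPrime]

/-- Mathlib's identification of the localization of the fibre ring with the fibre local ring is
compatible with the maps from `S`. -/
theorem algEquivAux₂_one_tmul (Q : Ideal (p.Fiber S)) [Q.IsPrime] (s : S) :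
    Ideal.Fiber.algEquivAux₂ p Q (algebraMap (p.Fiber S) (Localization.AtPrime Q) (1 ⊗ₜ s)) =
      Ideal.Quotient.mk _ (algebraMap S (Localization.AtPrime (Q.comap
        (Algebra.TensorProduct.includeRight : S →ₐ[R] p.Fiber S))) s) := by
  unfold Ideal.Fiber.algEquivAux₂
  simp
  letI : Algebra S (p.Fiber S) := Algebra.TensorProduct.rightAlgebra
  have h1 : (1 : p.ResidueField) ⊗ₜ[R] s = algebraMap S (p.Fiber S) s := rfl
  rw [h1, AlgEquiv.commutes]
  rw [← IsScalarTower.algebraMap_apply, IsScalarTower.algebraMap_apply S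
    (S ⧸ Ideal.map (algebraMap R S) p)
    (Localization.AtPrime (Ideal.comap (Ideal.Fiber.algEquivAux₁ p).symm Q))]
  rw [IsScalarTower.algebraMap_apply S (S ⧸ Ideal.map (algebraMap R S) p)
    (Localization.AtPrime (Ideal.comap Algebra.TensorProduct.includeRight Q) ⧸ _)]
  apply (config := { synthAssignedInstances := false }) IsLocalization.map_eq

/-- The localization of the fibre ring at a prime is the fibre local ring, compatibly with the
maps from `S`. -/
theorem exists_ringEquiv_fibLocRing (Q' : Ideal (p.Fiber S))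
    [Q'.IsPrime] (Q : Ideal S) [Q.IsPrime]
    (hQ : Q'.comap (Algebra.TensorProduct.includeRight : S →ₐ[R] p.Fiber S) = Q) :
    ∃ e : Localization.AtPrime Q' ≃+* EGA4.FibLocRing R S Q,
      ∀ s : S, e (algebraMap (p.Fiber S) (Localization.AtPrime Q') (1 ⊗ₜ s)) =
        algebraMap S (EGA4.FibLocRing R S Q) s := by
  subst hQ
  have hover : (Q'.comap (Algebra.TensorProduct.includeRight : S →ₐ[R] p.Fiber S)).comap
      (algebraMap R S) = p := by
    have h1 : Q'.comap (algebraMap R (p.Fiber S)) = p :=
      (Ideal.LiesOver.over (p := p) (P := Q')).symm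
    refine Eq.trans ?_ h1
    ext x
    simp only [Ideal.mem_comap]
    rw [AlgHom.commutes (Algebra.TensorProduct.includeRight : S →ₐ[R] p.Fiber S)]
  have hideal : ((p.map (algebraMap R S)).map (algebraMap S (Localization.AtPrime
      (Q'.comap (Algebra.TensorProduct.includeRight : S →ₐ[R] p.Fiber S))))) =
      ((Q'.comap (Algebra.TensorProduct.includeRight : S →ₐ[R] p.Fiber S)).comap
        (algebraMap R S)).map (algebraMap R (Localization.AtPrime
      (Q'.comap (Algebra.TensorProduct.includeRight : S →ₐ[R] p.Fiber S)))) := by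
    rw [hover, Ideal.map_map, ← IsScalarTower.algebraMap_eq]
  refine ⟨(Ideal.Fiber.algEquivAux₂ p Q').toRingEquiv.trans (Ideal.quotEquivOfEq hideal), ?_⟩
  intro s
  rw [RingEquiv.trans_apply]
  have h2 : (Ideal.Fiber.algEquivAux₂ p Q').toRingEquiv
      (algebraMap (p.Fiber S) (Localization.AtPrime Q') (1 ⊗ₜ s)) =
      Ideal.Quotient.mk _ (algebraMap S (Localization.AtPrime (Q'.comap
        (Algebra.TensorProduct.includeRight : S →ₐ[R] p.Fiber S))) s) :=
    algEquivAux₂_one_tmul p Q' s
  rw [h2, Ideal.quotEquivOfEq_mk]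
  rfl

end aux

section fiberMap

variable (A B A' B' : Type u) [CommRing A] [CommRing B] [CommRing A'] [CommRing B']
  [Algebra A B] [Algebra A A'] [Algebra B B'] [Algebra A' B'] [Algebra A B']
  [IsScalarTower A B B'] [IsScalarTower A A' B'] [Algebra.IsPushout A B A' B']
  (k k' : Type u) [CommRing k] [CommRing k'] [Algebra A k] [Algebra A' k'] [Algebra k k']
  [Algebra A k'] [IsScalarTower A k k'] [IsScalarTower A A' k']

/-- The map of "fibre rings" `k ⊗_A B → k' ⊗_{A'} B'` is flat if `k → k'` is. -/
theorem exists_fiber_map [Module.Flat k k'] :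
    ∃ ψ : k ⊗[A] B →+* k' ⊗[A'] B', ψ.Flat ∧
      ∀ (c : k) (b : B), ψ (c ⊗ₜ b) = algebraMap k k' c ⊗ₜ algebraMap B B' b := by
  let ψ₁ : k ⊗[A] B →+* (k ⊗[A] B) ⊗[k] k' := algebraMap _ _
  have hψ₁ : ψ₁.Flat := RingHom.flat_algebraMap_iff.mpr inferInstance
  let e₂ : (k ⊗[A] B) ⊗[k] k' ≃ₐ[k] k' ⊗[k] (k ⊗[A] B) := Algebra.TensorProduct.comm k _ _
  let e₃ : k' ⊗[k] (k ⊗[A] B) ≃ₐ[k'] k' ⊗[A] B :=
    Algebra.TensorProduct.cancelBaseChange A k k' k' B
  let e₄ : k' ⊗[A] B ≃ₐ[A] B ⊗[A] k' := Algebra.TensorProduct.comm A _ _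
  let e₅ : B ⊗[A] k' ≃ₐ[B] B' ⊗[A'] k' :=
    (Algebra.IsPushout.cancelBaseChangeAlg A B A' B' k').symm
  let e₆ : B' ⊗[A'] k' ≃ₐ[A'] k' ⊗[A'] B' := Algebra.TensorProduct.comm A' _ _
  refine ⟨e₆.toRingEquiv.toRingHom.comp (e₅.toRingEquiv.toRingHom.comp
    (e₄.toRingEquiv.toRingHom.comp (e₃.toRingEquiv.toRingHom.comp
    (e₂.toRingEquiv.toRingHom.comp ψ₁)))), ?_, ?_⟩
  · refine RingHom.Flat.comp (RingHom.Flat.comp (RingHom.Flat.comp (RingHom.Flat.comp
      (RingHom.Flat.comp hψ₁ ?_) ?_) ?_) ?_) ?_
    · exact RingHom.Flat.of_bijective e₂.bijective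
    · exact RingHom.Flat.of_bijective e₃.bijective
    · exact RingHom.Flat.of_bijective e₄.bijective
    · exact RingHom.Flat.of_bijective e₅.bijective
    · exact RingHom.Flat.of_bijective e₆.bijective
  · intro c b
    simp only [RingHom.comp_apply]
    have h1 : ψ₁ (c ⊗ₜ b) = (c ⊗ₜ[A] b) ⊗ₜ[k] (1 : k') := rfl
    rw [h1]
    simp [e₂, e₃, e₄, e₅, e₆, Algebra.smul_def]

end fiberMap

section main

variable (A B A' B' : Type u) [CommRing A] [CommRing B] [CommRing A'] [CommRing B']
  [Algebra A B] [Algebra A A'] [Algebra B B'] [Algebra A' B'] [Algebra A B']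
  [IsScalarTower A B B'] [IsScalarTower A A' B']

theorem comap_comap_eq (q' : Ideal B') :
    (q'.comap (algebraMap B B')).comap (algebraMap A B) =
      (q'.comap (algebraMap A' B')).comap (algebraMap A A') := by
  ext x
  simp only [Ideal.mem_comap]
  rw [← IsScalarTower.algebraMap_apply, ← IsScalarTower.algebraMap_apply]

theorem fibIdeal_le (q' : Ideal B') [q'.IsPrime] (q : Ideal B) [q.IsPrime]
    (hq : q = q'.comap (algebraMap B B')) :
    (q.comap (algebraMap A B)).map (algebraMap A (Localization.AtPrime q)) ≤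
      ((q'.comap (algebraMap A' B')).map (algebraMap A' (Localization.AtPrime q'))).comap
        (Localization.localRingHom q q' (algebraMap B B') hq) := by
  rw [Ideal.map_le_iff_le_comap]
  intro a ha
  rw [Ideal.mem_comap, Ideal.mem_comap, IsScalarTower.algebraMap_apply A B (Localization.AtPrime q),
    Localization.localRingHom_to_map, ← IsScalarTower.algebraMap_apply A B B',
    IsScalarTower.algebraMap_apply A A' B', ← IsScalarTower.algebraMap_apply A' B']
  apply Ideal.mem_map_of_mem
  rw [Ideal.mem_comap] at ha ⊢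
  rw [← IsScalarTower.algebraMap_apply, IsScalarTower.algebraMap_apply A B B']
  rw [hq, Ideal.mem_comap] at ha
  exact ha

/-- The map of fibre local rings induced by a base change. -/
noncomputable def fibLocRingMap (q' : Ideal B') [q'.IsPrime] (q : Ideal B) [q.IsPrime]
    (hq : q = q'.comap (algebraMap B B')) :
    EGA4.FibLocRing A B q →+* EGA4.FibLocRing A' B' q' :=
  Ideal.quotientMap _ (Localization.localRingHom q q' (algebraMap B B') hq)
    (fibIdeal_le A B A' B' q' q hq)

theorem fibLocRingMap_algebraMap (q' : Ideal B') [q'.IsPrime] (q : Ideal B) [q.IsPrime]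
    (hq : q = q'.comap (algebraMap B B')) (b : B) :
    fibLocRingMap A B A' B' q' q hq (algebraMap B (EGA4.FibLocRing A B q) b) =
      algebraMap B' (EGA4.FibLocRing A' B' q') (algebraMap B B' b) := by
  rw [IsScalarTower.algebraMap_apply B (Localization.AtPrime q) (EGA4.FibLocRing A B q),
    IsScalarTower.algebraMap_apply B' (Localization.AtPrime q') (EGA4.FibLocRing A' B' q')]
  change fibLocRingMap A B A' B' q' q hq (Ideal.Quotient.mk _ _) = Ideal.Quotient.mk _ _
  unfold fibLocRingMap
  rw [Ideal.quotientMap_mk, Localization.localRingHom_to_map]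

theorem fibLocRing_ringHom_ext (q : Ideal B) [q.IsPrime] {T : Type*} [Semiring T]
    (f g : EGA4.FibLocRing A B q →+* T)
    (h : ∀ b : B, f (algebraMap B _ b) = g (algebraMap B _ b)) : f = g := by
  apply Ideal.Quotient.ringHom_ext
  apply IsLocalization.ringHom_ext q.primeCompl
  ext b
  exact h b

variable [Algebra.IsPushout A B A' B']

theorem exists_flat_map (q' : Ideal B') [q'.IsPrime] (q : Ideal B) [q.IsPrime]
    (hq : q = q'.comap (algebraMap B B')) :
    ∃ φ : EGA4.FibLocRing A B q →+* EGA4.FibLocRing A' B' q', φ.Flat ∧ IsLocalHom φ ∧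
      ∀ b : B, φ (algebraMap B _ b) = algebraMap B' _ (algebraMap B B' b) := by
  subst hq
  have hp : (q'.comap (algebraMap B B')).comap (algebraMap A B) =
      (q'.comap (algebraMap A' B')).comap (algebraMap A A') := comap_comap_eq A B A' B' q'
  letI : Algebra ((q'.comap (algebraMap B B')).comap (algebraMap A B)).ResidueField
      (q'.comap (algebraMap A' B')).ResidueField :=
    (Ideal.ResidueField.map _ _ (algebraMap A A') hp).toAlgebra
  haveI : IsScalarTower A ((q'.comap (algebraMap B B')).comap (algebraMap A B)).ResidueField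
      (q'.comap (algebraMap A' B')).ResidueField := .of_algebraMap_eq (fun x => by
    rw [RingHom.algebraMap_toAlgebra, Ideal.ResidueField.map_algebraMap,
      ← IsScalarTower.algebraMap_apply])
  obtain ⟨ψ, hψflat, hψ⟩ := exists_fiber_map A B A' B'
    ((q'.comap (algebraMap B B')).comap (algebraMap A B)).ResidueField
    (q'.comap (algebraMap A' B')).ResidueField
  obtain ⟨Q', hQ'prime, hQ'⟩ := Fib.exists_fiber_prime (q'.comap (algebraMap A' B')) q' rfl
  have hQ : (Q'.comap ψ).comap (Algebra.TensorProduct.includeRight :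
      B →ₐ[A] ((q'.comap (algebraMap B B')).comap (algebraMap A B)).Fiber B) =
      q'.comap (algebraMap B B') := by
    ext x
    simp only [Ideal.mem_comap, Algebra.TensorProduct.includeRight_apply]
    rw [hψ, map_one]
    have h3 := Ideal.ext_iff.mp hQ' (algebraMap B B' x)
    rw [Ideal.mem_comap, Algebra.TensorProduct.includeRight_apply] at h3
    exact h3
  obtain ⟨e, he⟩ := exists_ringEquiv_fibLocRing
    ((q'.comap (algebraMap B B')).comap (algebraMap A B)) (Q'.comap ψ)
    (q'.comap (algebraMap B B')) hQ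
  obtain ⟨e', he'⟩ := exists_ringEquiv_fibLocRing (q'.comap (algebraMap A' B')) Q' q' hQ'
  have hψl := RingHom.Flat.localRingHom hψflat Q' (Q'.comap ψ) rfl
  set ψl := Localization.localRingHom (Q'.comap ψ) Q' ψ rfl with hψldef
  haveI hloc : IsLocalHom ψl := Localization.isLocalHom_localRingHom _ _ _ rfl
  refine ⟨e'.toRingHom.comp (ψl.comp e.symm.toRingHom), ?_, ?_, ?_⟩
  · exact RingHom.Flat.comp (RingHom.Flat.comp (RingHom.Flat.of_bijective e.symm.bijective) hψl)
      (RingHom.Flat.of_bijective e'.bijective)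
  · haveI : IsLocalHom e.symm.toRingHom :=
      ⟨fun a ha => (isLocalHom_equiv e.symm).map_nonunit a ha⟩
    haveI : IsLocalHom e'.toRingHom := ⟨fun a ha => (isLocalHom_equiv e').map_nonunit a ha⟩
    haveI : IsLocalHom (ψl.comp e.symm.toRingHom) := RingHom.isLocalHom_comp _ _
    exact RingHom.isLocalHom_comp _ _
  · intro b
    simp only [RingHom.comp_apply, RingEquiv.toRingHom_eq_coe, RingHom.coe_coe]
    rw [← he b, RingEquiv.symm_apply_apply]
    have h1 : ψl (algebraMap _ _ ((1 : ((q'.comap (algebraMap B B')).comap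
        (algebraMap A B)).ResidueField) ⊗ₜ[A] b)) = algebraMap _ _ (ψ (1 ⊗ₜ b)) :=
      Localization.localRingHom_to_map _ _ _ rfl _
    rw [h1, hψ, map_one, he']

/-- The map of fibre local rings induced by a base change is flat. -/
theorem fibLocRingMap_flat (q' : Ideal B') [q'.IsPrime] (q : Ideal B) [q.IsPrime]
    (hq : q = q'.comap (algebraMap B B')) : (fibLocRingMap A B A' B' q' q hq).Flat := by
  obtain ⟨φ, hflat, -, hφ⟩ := exists_flat_map A B A' B' q' q hq
  have : φ = fibLocRingMap A B A' B' q' q hq := by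
    apply fibLocRing_ringHom_ext
    intro b
    rw [hφ, fibLocRingMap_algebraMap]
  rwa [← this]

/-- The map of fibre local rings induced by a base change is local. -/
theorem fibLocRingMap_isLocalHom (q' : Ideal B') [q'.IsPrime] (q : Ideal B) [q.IsPrime]
    (hq : q = q'.comap (algebraMap B B')) : IsLocalHom (fibLocRingMap A B A' B' q' q hq) := by
  obtain ⟨φ, -, hloc, hφ⟩ := exists_flat_map A B A' B' q' q hq
  have : φ = fibLocRingMap A B A' B' q' q hq := by
    apply fibLocRing_ringHom_ext
    intro b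
    rw [hφ, fibLocRingMap_algebraMap]
  rwa [← this]

end main

end Groth.Agent.Helper8.FibBC
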