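import Mathlib
import Groth.Prelude
import Groth.Agent.Lib.Helper8.FibBC1
import Groth.Agent.Lib.Helper8.FlatDepth1
import Groth.Agent.Lib.Helper8.Depth20
import Groth.Agent.Lib.Helper8.Depth41
import Groth.Agent.Lib.Helper8.FibMod2

/-!
# Depth of fibre modules under base change
-/

set_option autoImplicit false
universe u

namespace Groth.Agent.Helper8.FibBC

open TensorProduct LocCoh

section abstract

variable {S S' : Type u} [CommRing S] [CommRing S'] [IsNoetherianRing S] [IsNoetherianRing S']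
  [Algebra S S'] (𝔞 : Ideal S) (𝔞' : Ideal S') (hle : 𝔞 ≤ 𝔞'.comap (algebraMap S S'))

/-- If `S/𝔞 → S'/𝔞'` is flat, the depth of `N/𝔞N` does not drop on passing to
`(S' ⊗ N)/𝔞'(S' ⊗ N)`. -/
theorem idealDepth_quot_le (hflat : (Ideal.quotientMap 𝔞' (algebraMap S S') hle).Flat)
    (N : Type u) [AddCommGroup N] [Module S N] [Module.Finite S N]
    (I : Ideal S) (I' : Ideal S') (hI : I.map (algebraMap S S') ≤ I') :
    idealDepth I (N ⧸ 𝔞 • (⊤ : Submodule S N)) ≤
      idealDepth I' ((S' ⊗[S] N) ⧸ 𝔞' • (⊤ : Submodule S' (S' ⊗[S] N))) := by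
  letI : Algebra (S ⧸ 𝔞) (S' ⧸ 𝔞') := (Ideal.quotientMap 𝔞' (algebraMap S S') hle).toAlgebra
  haveI : Module.Flat (S ⧸ 𝔞) (S' ⧸ 𝔞') := hflat
  haveI : IsScalarTower S (S ⧸ 𝔞) (S' ⧸ 𝔞') := .of_algebraMap_eq (fun s => by
    rw [RingHom.algebraMap_toAlgebra]
    change _ = Ideal.quotientMap 𝔞' (algebraMap S S') hle (Ideal.Quotient.mk 𝔞 s)
    rw [Ideal.quotientMap_mk]
    rfl)
  haveI : Module.Finite (S ⧸ 𝔞) (N ⧸ 𝔞 • (⊤ : Submodule S N)) :=
    Module.Finite.of_restrictScalars_finite S _ _
  haveI : Module.Finite (S' ⧸ 𝔞') ((S' ⊗[S] N) ⧸ 𝔞' • (⊤ : Submodule S' (S' ⊗[S] N))) :=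
    Module.Finite.of_restrictScalars_finite S' _ _
  rw [Depth.idealDepth_tower S (S ⧸ 𝔞) I (N ⧸ 𝔞 • (⊤ : Submodule S N)),
    Depth.idealDepth_tower S' (S' ⧸ 𝔞') I' ((S' ⊗[S] N) ⧸ 𝔞' • (⊤ : Submodule S' (S' ⊗[S] N)))]
  refine le_trans (FlatDepth.idealDepth_le_baseChange (S ⧸ 𝔞) (S' ⧸ 𝔞') _ _) ?_
  let e₁ : (N ⧸ 𝔞 • (⊤ : Submodule S N)) ≃ₗ[S ⧸ 𝔞] (S ⧸ 𝔞) ⊗[S] N :=
    LinearEquiv.extendScalarsOfSurjective Ideal.Quotient.mk_surjective
      (quotTensorEquivQuotSMul N 𝔞).symm
  let e₂ : (S' ⧸ 𝔞') ⊗[S'] (S' ⊗[S] N) ≃ₗ[S' ⧸ 𝔞']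
      ((S' ⊗[S] N) ⧸ 𝔞' • (⊤ : Submodule S' (S' ⊗[S] N))) :=
    LinearEquiv.extendScalarsOfSurjective Ideal.Quotient.mk_surjective
      (quotTensorEquivQuotSMul (S' ⊗[S] N) 𝔞')
  let e : (S' ⧸ 𝔞') ⊗[S ⧸ 𝔞] (N ⧸ 𝔞 • (⊤ : Submodule S N)) ≃ₗ[S' ⧸ 𝔞']
      ((S' ⊗[S] N) ⧸ 𝔞' • (⊤ : Submodule S' (S' ⊗[S] N))) :=
    (AlgebraTensorModule.congr (LinearEquiv.refl (S' ⧸ 𝔞') (S' ⧸ 𝔞')) e₁) ≪≫ₗ
      (AlgebraTensorModule.cancelBaseChange S (S ⧸ 𝔞) (S' ⧸ 𝔞') (S' ⧸ 𝔞') N) ≪≫ₗ
      (AlgebraTensorModule.cancelBaseChange S S' (S' ⧸ 𝔞') (S' ⧸ 𝔞') N).symm ≪≫ₗ e₂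
  rw [Depth.idealDepth_congr e]
  apply Depth.idealDepth_mono
  rw [Ideal.map_map, ← IsScalarTower.algebraMap_eq S (S ⧸ 𝔞) (S' ⧸ 𝔞'),
    IsScalarTower.algebraMap_eq S S' (S' ⧸ 𝔞'), ← Ideal.map_map]
  exact Ideal.map_mono hI

end abstract

section apply

variable (A B A' B' : Type u) [CommRing A] [CommRing B] [CommRing A'] [CommRing B']
  [IsNoetherianRing B] [IsNoetherianRing B']
  [Algebra A B] [Algebra A A'] [Algebra B B'] [Algebra A' B'] [Algebra A B']
  [IsScalarTower A B B'] [IsScalarTower A A' B'] [Algebra.IsPushout A B A' B']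

/-- Passing from the local depth over `B_q` to the depth over the fibre local ring. -/
theorem idealDepth_fibLocMod_eq (q : Ideal B) [q.IsPrime] (E : Type u) [AddCommGroup E]
    [Module B E] [Module.Finite B E] :
    idealDepth (q.map (algebraMap B (Localization.AtPrime q))) (EGA4.FibLocMod A B q E) =
      idealDepth (q.map (algebraMap B (EGA4.FibLocRing A B q))) (EGA4.FibLocMod A B q E) := by
  haveI : Module.Finite (EGA4.FibLocRing A B q) (EGA4.FibLocMod A B q E) :=
    Module.Finite.of_restrictScalars_finite (Localization.AtPrime q) _ _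
  rw [Depth.idealDepth_tower (Localization.AtPrime q) (EGA4.FibLocRing A B q)
    (q.map (algebraMap B (Localization.AtPrime q))) (EGA4.FibLocMod A B q E), Ideal.map_map,
    ← IsScalarTower.algebraMap_eq]

/-- The depth of the fibre module does not drop under base change. -/
theorem idealDepth_fibLocMod_le (q' : Ideal B') [q'.IsPrime] (q : Ideal B) [q.IsPrime]
    (hq : q = q'.comap (algebraMap B B')) (E : Type u) [AddCommGroup E] [Module B E]
    [Module.Finite B E] :
    idealDepth (q.map (algebraMap B (EGA4.FibLocRing A B q))) (EGA4.FibLocMod A B q E) ≤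
      idealDepth (q'.map (algebraMap B' (EGA4.FibLocRing A' B' q')))
        (EGA4.FibLocMod A' B' q' (B' ⊗[B] E)) := by
  rw [← idealDepth_fibLocMod_eq A B q E, ← idealDepth_fibLocMod_eq A' B' q' (B' ⊗[B] E)]
  letI : Algebra (Localization.AtPrime q) (Localization.AtPrime q') :=
    (Localization.localRingHom q q' (algebraMap B B') hq).toAlgebra
  haveI : IsScalarTower B (Localization.AtPrime q) (Localization.AtPrime q') :=
    .of_algebraMap_eq (fun b => by
      rw [RingHom.algebraMap_toAlgebra, Localization.localRingHom_to_map,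
        ← IsScalarTower.algebraMap_apply])
  have hI : (q.map (algebraMap B (Localization.AtPrime q))).map
      (algebraMap (Localization.AtPrime q) (Localization.AtPrime q')) ≤
      q'.map (algebraMap B' (Localization.AtPrime q')) := by
    rw [Ideal.map_map, ← IsScalarTower.algebraMap_eq,
      IsScalarTower.algebraMap_eq B B' (Localization.AtPrime q'), ← Ideal.map_map]
    apply Ideal.map_mono
    rw [Ideal.map_le_iff_le_comap, hq]
  have h1 := idealDepth_quot_le
    ((q.comap (algebraMap A B)).map (algebraMap A (Localization.AtPrime q)))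
    ((q'.comap (algebraMap A' B')).map (algebraMap A' (Localization.AtPrime q')))
    (fibIdeal_le A B A' B' q' q hq) (fibLocRingMap_flat A B A' B' q' q hq)
    (LocalizedModule q.primeCompl E) (q.map (algebraMap B (Localization.AtPrime q)))
    (q'.map (algebraMap B' (Localization.AtPrime q'))) hI
  refine le_trans h1 (le_of_eq ?_)
  let ε : (Localization.AtPrime q') ⊗[Localization.AtPrime q] (LocalizedModule q.primeCompl E)
      ≃ₗ[Localization.AtPrime q'] LocalizedModule q'.primeCompl (B' ⊗[B] E) :=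
    (AlgebraTensorModule.congr (LinearEquiv.refl (Localization.AtPrime q')
        (Localization.AtPrime q'))
      (IsLocalizedModule.isBaseChange q.primeCompl (Localization.AtPrime q)
        (LocalizedModule.mkLinearMap q.primeCompl E)).equiv.symm) ≪≫ₗ
    (AlgebraTensorModule.cancelBaseChange B (Localization.AtPrime q) (Localization.AtPrime q')
      (Localization.AtPrime q') E) ≪≫ₗ
    (AlgebraTensorModule.cancelBaseChange B B' (Localization.AtPrime q')
      (Localization.AtPrime q') E).symm ≪≫ₗ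
    (IsLocalizedModule.isBaseChange q'.primeCompl (Localization.AtPrime q')
      (LocalizedModule.mkLinearMap q'.primeCompl (B' ⊗[B] E))).equiv
  apply Depth.idealDepth_congr
  refine Submodule.Quotient.equiv _ _ ε ?_
  rw [Submodule.map_smul'', Submodule.map_top, LinearEquiv.range]

omit [IsNoetherianRing B] [IsNoetherianRing B'] [Algebra A B] [Algebra A A'] [Algebra A' B']
  [Algebra A B'] [IsScalarTower A B B'] [IsScalarTower A A' B'] [Algebra.IsPushout A B A' B'] in
/-- Freeness of a stalk is preserved by base change. -/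
theorem free_localizedModule_baseChange (q' : Ideal B') [q'.IsPrime] (q : Ideal B) [q.IsPrime]
    (hq : q = q'.comap (algebraMap B B')) (E : Type u) [AddCommGroup E] [Module B E]
    [Module.Free (Localization.AtPrime q) (LocalizedModule q.primeCompl E)] :
    Module.Free (Localization.AtPrime q') (LocalizedModule q'.primeCompl (B' ⊗[B] E)) := by
  letI : Algebra (Localization.AtPrime q) (Localization.AtPrime q') :=
    (Localization.localRingHom q q' (algebraMap B B') hq).toAlgebra
  haveI : IsScalarTower B (Localization.AtPrime q) (Localization.AtPrime q') :=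
    .of_algebraMap_eq (fun b => by
      rw [RingHom.algebraMap_toAlgebra, Localization.localRingHom_to_map,
        ← IsScalarTower.algebraMap_apply])
  let ε : (Localization.AtPrime q') ⊗[Localization.AtPrime q] (LocalizedModule q.primeCompl E)
      ≃ₗ[Localization.AtPrime q'] LocalizedModule q'.primeCompl (B' ⊗[B] E) :=
    (AlgebraTensorModule.congr (LinearEquiv.refl (Localization.AtPrime q')
        (Localization.AtPrime q'))
      (IsLocalizedModule.isBaseChange q.primeCompl (Localization.AtPrime q)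
        (LocalizedModule.mkLinearMap q.primeCompl E)).equiv.symm) ≪≫ₗ
    (AlgebraTensorModule.cancelBaseChange B (Localization.AtPrime q) (Localization.AtPrime q')
      (Localization.AtPrime q') E) ≪≫ₗ
    (AlgebraTensorModule.cancelBaseChange B B' (Localization.AtPrime q')
      (Localization.AtPrime q') E).symm ≪≫ₗ
    (IsLocalizedModule.isBaseChange q'.primeCompl (Localization.AtPrime q')
      (LocalizedModule.mkLinearMap q'.primeCompl (B' ⊗[B] E))).equiv
  exact Module.Free.of_equiv ε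

/-- The depth of the fibre local ring does not drop under base change. -/
theorem idealDepth_fibLocRing_le (q' : Ideal B') [q'.IsPrime] (q : Ideal B) [q.IsPrime]
    (hq : q = q'.comap (algebraMap B B')) :
    idealDepth (q.map (algebraMap B (EGA4.FibLocRing A B q))) (EGA4.FibLocRing A B q) ≤
      idealDepth (q'.map (algebraMap B' (EGA4.FibLocRing A' B' q')))
        (EGA4.FibLocRing A' B' q') := by
  letI : Algebra (EGA4.FibLocRing A B q) (EGA4.FibLocRing A' B' q') :=
    (fibLocRingMap A B A' B' q' q hq).toAlgebra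
  haveI : Module.Flat (EGA4.FibLocRing A B q) (EGA4.FibLocRing A' B' q') :=
    fibLocRingMap_flat A B A' B' q' q hq
  refine le_trans (FlatDepth.idealDepth_le_baseChange (EGA4.FibLocRing A B q)
    (EGA4.FibLocRing A' B' q') _ (EGA4.FibLocRing A B q)) ?_
  rw [Depth.idealDepth_congr (AlgebraTensorModule.rid (EGA4.FibLocRing A B q)
    (EGA4.FibLocRing A' B' q') (EGA4.FibLocRing A' B' q'))]
  apply Depth.idealDepth_mono
  have hcomp : (algebraMap (EGA4.FibLocRing A B q) (EGA4.FibLocRing A' B' q')).comp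
      (algebraMap B (EGA4.FibLocRing A B q)) =
      (algebraMap B' (EGA4.FibLocRing A' B' q')).comp (algebraMap B B') := by
    ext b
    exact fibLocRingMap_algebraMap A B A' B' q' q hq b
  rw [Ideal.map_map, hcomp, ← Ideal.map_map]
  apply Ideal.map_mono
  rw [Ideal.map_le_iff_le_comap, hq]

end apply

end Groth.Agent.Helper8.FibBC
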