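import Mathlib
import Groth.Prelude
import Groth.Agent.Lib.Helper8.FibBC2

/-!
# Depth of the fibre local rings along an arbitrary ideal
-/

set_option autoImplicit false
universe u

namespace Groth.Agent.Helper8.FibBC

open TensorProduct LocCoh

section general

variable (A B : Type u) [CommRing A] [CommRing B] [IsNoetherianRing B] [Algebra A B]

/-- Passing from the depth over `B_q` to the depth over the fibre local ring, for any ideal. -/
theorem idealDepth_fibLocMod_eq' (I : Ideal B) (q : Ideal B) [q.IsPrime] (E : Type u)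
    [AddCommGroup E] [Module B E] [Module.Finite B E] :
    idealDepth (I.map (algebraMap B (Localization.AtPrime q))) (EGA4.FibLocMod A B q E) =
      idealDepth (I.map (algebraMap B (EGA4.FibLocRing A B q))) (EGA4.FibLocMod A B q E) := by
  haveI : Module.Finite (EGA4.FibLocRing A B q) (EGA4.FibLocMod A B q E) :=
    Module.Finite.of_restrictScalars_finite (Localization.AtPrime q) _ _
  rw [Depth.idealDepth_tower (Localization.AtPrime q) (EGA4.FibLocRing A B q)
    (I.map (algebraMap B (Localization.AtPrime q))) (EGA4.FibLocMod A B q E), Ideal.map_map,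
    ← IsScalarTower.algebraMap_eq]

theorem idealDepth_fibLocRing_eq' (I : Ideal B) (q : Ideal B) [q.IsPrime] :
    idealDepth (I.map (algebraMap B (Localization.AtPrime q))) (EGA4.FibLocRing A B q) =
      idealDepth (I.map (algebraMap B (EGA4.FibLocRing A B q))) (EGA4.FibLocRing A B q) := by
  rw [Depth.idealDepth_tower (Localization.AtPrime q) (EGA4.FibLocRing A B q)
    (I.map (algebraMap B (Localization.AtPrime q))) (EGA4.FibLocRing A B q), Ideal.map_map,
    ← IsScalarTower.algebraMap_eq]

end general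

section quot

variable (A B : Type u) [CommRing A] [CommRing B] [Algebra A B] (p : Ideal A)

/-- `B/pB` is the pushout of `B` and `A/p` over `A`. -/
instance isPushout_quotient :
    Algebra.IsPushout A B (A ⧸ p) (B ⧸ p.map (algebraMap A B)) := by
  constructor
  refine IsBaseChange.of_equiv
    (Algebra.TensorProduct.quotIdealMapEquivTensorQuot B p).symm.toLinearEquiv ?_
  intro x
  obtain ⟨a, rfl⟩ := Ideal.Quotient.mk_surjective x
  change (Algebra.TensorProduct.quotIdealMapEquivTensorQuot B p).symm (1 ⊗ₜ[A] _) = _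
  rw [Algebra.TensorProduct.quotIdealMapEquivTensorQuot_symm_tmul]
  change Ideal.Quotient.mk _ (a • (1 : B)) = Ideal.Quotient.mk _ (algebraMap A B a)
  rw [Algebra.smul_def, mul_one]

end quot

section FD

variable (A B : Type u) [CommRing A] [CommRing B] [IsNoetherianRing A] [IsNoetherianRing B]
  [Algebra A B] [Module.Flat A B]

/-- If the fibre local rings at the primes of `V(J)` have depth at least `k`, then every fibre
local ring has `J`-depth at least `k`. -/
theorem le_idealDepth_fibLocRing_of_fibres (J : Ideal B) (k : ℕ∞)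
    (hZ : ∀ q : PrimeSpectrum B, J ≤ q.asIdeal →
      k ≤ idealDepth (q.asIdeal.map (algebraMap B (EGA4.FibLocRing A B q.asIdeal)))
        (EGA4.FibLocRing A B q.asIdeal))
    (q : Ideal B) [q.IsPrime] :
    k ≤ idealDepth (J.map (algebraMap B (EGA4.FibLocRing A B q))) (EGA4.FibLocRing A B q) := by
  set p := q.comap (algebraMap A B) with hp
  haveI hpo : Algebra.IsPushout A (A ⧸ p) B (B ⧸ p.map (algebraMap A B)) :=
    Algebra.IsPushout.symm inferInstance
  haveI : Module.Flat (A ⧸ p) (B ⧸ p.map (algebraMap A B)) :=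
    Module.Flat.isBaseChange (R := A) (M := B) (S := A ⧸ p) (B ⧸ p.map (algebraMap A B))
      (Algebra.IsPushout.out : IsBaseChange (A ⧸ p)
        (IsScalarTower.toAlgHom A B (B ⧸ p.map (algebraMap A B))).toLinearMap)
  have hZbar : ∀ 𝔮 : PrimeSpectrum (B ⧸ p.map (algebraMap A B)),
      J.map (algebraMap B (B ⧸ p.map (algebraMap A B))) ≤ 𝔮.asIdeal →
      k ≤ idealDepth (𝔮.asIdeal.map (algebraMap (B ⧸ p.map (algebraMap A B))
        (EGA4.FibLocRing (A ⧸ p) (B ⧸ p.map (algebraMap A B)) 𝔮.asIdeal)))
        (EGA4.FibLocRing (A ⧸ p) (B ⧸ p.map (algebraMap A B)) 𝔮.asIdeal) := by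
    intro 𝔮 h𝔮
    have hJ : J ≤ 𝔮.asIdeal.comap (algebraMap B (B ⧸ p.map (algebraMap A B))) :=
      Ideal.map_le_iff_le_comap.mp h𝔮
    exact le_trans (hZ ⟨𝔮.asIdeal.comap (algebraMap B (B ⧸ p.map (algebraMap A B))),
      inferInstance⟩ hJ)
      (idealDepth_fibLocRing_le A B (A ⧸ p) (B ⧸ p.map (algebraMap A B)) 𝔮.asIdeal _ rfl)
  have h3 : k ≤ idealDepth (J.map (algebraMap B (B ⧸ p.map (algebraMap A B))))
      (B ⧸ p.map (algebraMap A B)) :=
    FibMod.le_idealDepth_self_of_fibres (A ⧸ p) (B ⧸ p.map (algebraMap A B)) _ k hZbar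
  have h4 : k ≤ idealDepth J (B ⧸ p.map (algebraMap A B)) := by
    rw [Depth.idealDepth_tower B (B ⧸ p.map (algebraMap A B)) J (B ⧸ p.map (algebraMap A B))]
    exact h3
  have h5 : k ≤ idealDepth (J.map (algebraMap B (Localization.AtPrime q)))
      ((Localization.AtPrime q) ⊗[B] (B ⧸ p.map (algebraMap A B))) :=
    le_trans h4 (FlatDepth.idealDepth_le_baseChange B (Localization.AtPrime q) J _)
  have hideal : (p.map (algebraMap A B)).map (algebraMap B (Localization.AtPrime q)) =
      p.map (algebraMap A (Localization.AtPrime q)) := by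
    rw [Ideal.map_map, ← IsScalarTower.algebraMap_eq]
  let e6 : (Localization.AtPrime q) ⊗[B] (B ⧸ p.map (algebraMap A B))
      ≃ₗ[Localization.AtPrime q] EGA4.FibLocRing A B q :=
    (Algebra.TensorProduct.quotIdealMapEquivTensorQuot (Localization.AtPrime q)
      (p.map (algebraMap A B))).symm.toLinearEquiv ≪≫ₗ
    (Ideal.quotientEquivAlgOfEq (Localization.AtPrime q) hideal).toLinearEquiv
  rw [Depth.idealDepth_congr e6, idealDepth_fibLocRing_eq'] at h5
  exact h5

end FD

end Groth.Agent.Helper8.FibBC
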