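import Mathlib
import Groth.Prelude
import Groth.Agent.Lib.Helper8.CMF4
import Groth.Agent.Lib.Helper8.LocHom3
import Groth.Agent.Lib.Helper8.FibBC3
import Groth.Agent.Lib.Helper8.CplQuot2

/-!
# Fibres of a flat algebra with Cohen–Macaulay target, and of its quotients
-/

set_option autoImplicit false
universe u

namespace Groth.Agent.Helper8.CMF

open CategoryTheory IsLocalRing LocCoh RingTheory.Sequence

section local_case

variable (R S : Type u) [CommRing R] [CommRing S] [IsLocalRing R] [IsLocalRing S]
  [IsNoetherianRing R] [IsNoetherianRing S] [Algebra R S] [IsLocalHom (algebraMap R S)]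
  [Module.Flat R S]

/-- The closed fibre of a flat local homomorphism with Cohen–Macaulay target is
Cohen–Macaulay. -/
theorem isCohenMacaulayLocalRing_fibRing_of_cm (hS : IsCohenMacaulayLocalRing S) :
    IsCohenMacaulayLocalRing (EGA4.FibRing R S) := by
  refine ⟨?_⟩
  have h1 := FlatReg.depth_eq_add_of_flat R S
  have h2 := FlatReg.ringKrullDim_eq_add_of_flat R S
  have h3 := hS.supportDim_eq_depth
  rw [Module.supportDim_self_eq_ringKrullDim] at h3 ⊢
  have h4 : ((depth R R : ℕ∞) : WithBot ℕ∞) ≤ Module.supportDim R R := Depth.depth_le_supportDim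
  have h5 : ((depth (EGA4.FibRing R S) (EGA4.FibRing R S) : ℕ∞) : WithBot ℕ∞) ≤
      Module.supportDim (EGA4.FibRing R S) (EGA4.FibRing R S) := Depth.depth_le_supportDim
  rw [Module.supportDim_self_eq_ringKrullDim] at h4 h5
  obtain ⟨a, ha⟩ := Depth.exists_nat_supportDim (A := R) R
  rw [Module.supportDim_self_eq_ringKrullDim] at ha
  obtain ⟨f, hf⟩ := Depth.exists_nat_supportDim (A := EGA4.FibRing R S) (EGA4.FibRing R S)
  rw [Module.supportDim_self_eq_ringKrullDim] at hf
  obtain ⟨s, hs⟩ := ENat.ne_top_iff_exists.mp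
    (Depth.idealDepth_ne_top (Depth.smul_top_ne_top_of_local R R))
  obtain ⟨t, ht⟩ := ENat.ne_top_iff_exists.mp
    (Depth.idealDepth_ne_top (Depth.smul_top_ne_top_of_local (EGA4.FibRing R S)
      (EGA4.FibRing R S)))
  have hs' : depth R R = (s : ℕ∞) := hs.symm
  have ht' : depth (EGA4.FibRing R S) (EGA4.FibRing R S) = (t : ℕ∞) := ht.symm
  change depth S S = depth R R + depth (EGA4.FibRing R S) (EGA4.FibRing R S) at h1
  change ringKrullDim S = ringKrullDim R + ringKrullDim (EGA4.FibRing R S) at h2
  rw [hs', ht'] at h1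
  rw [ha, hf] at h2
  rw [h1, h2] at h3
  rw [ha, hs'] at h4
  rw [hf, ht'] at h5 ⊢
  have h3' : a + f = s + t := by exact_mod_cast h3
  have h4' : s ≤ a := by exact_mod_cast h4
  have h5' : t ≤ f := by exact_mod_cast h5
  have : f = t := by omega
  exact_mod_cast this

end local_case

section global_case

variable (T T' : Type u) [CommRing T] [CommRing T'] [IsNoetherianRing T] [IsNoetherianRing T']
  [Algebra T T'] [Module.Flat T T']

theorem isCohenMacaulayLocalRing_fibLocRing_of_cm (hT' : IsCohenMacaulayRing T')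
    (Q : Ideal T') [Q.IsPrime] : IsCohenMacaulayLocalRing (EGA4.FibLocRing T T' Q) := by
  set p : Ideal T := Q.comap (algebraMap T T') with hp
  haveI : Q.LiesOver p := ⟨rfl⟩
  letI := Localization.AtPrime.algebraOfLiesOver p Q
  haveI : IsLocalHom (algebraMap (Localization.AtPrime p) (Localization.AtPrime Q)) := by
    rw [RingHom.algebraMap_toAlgebra]
    exact Localization.isLocalHom_localRingHom _ Q (algebraMap T T') Ideal.LiesOver.over
  haveI : Module.Flat (Localization.AtPrime p) (Localization.AtPrime Q) := inferInstance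
  have hideal : (maximalIdeal (Localization.AtPrime p)).map
      (algebraMap (Localization.AtPrime p) (Localization.AtPrime Q)) =
      (Q.comap (algebraMap T T')).map (algebraMap T (Localization.AtPrime Q)) := by
    rw [← Localization.AtPrime.map_eq_maximalIdeal, Ideal.map_map,
      ← IsScalarTower.algebraMap_eq]
  have key := isCohenMacaulayLocalRing_fibRing_of_cm (Localization.AtPrime p)
    (Localization.AtPrime Q) (hT'.isCohenMacaulayLocalRing_localization Q)
  exact isCohenMacaulayLocalRing_of_ringEquiv (Ideal.quotEquivOfEq hideal) key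

/-- The fibres of a flat algebra which is a Cohen–Macaulay ring are Cohen–Macaulay. -/
theorem cmFibres_of_cm (hT' : IsCohenMacaulayRing T') (p : Ideal T) [p.IsPrime] :
    IsCohenMacaulayRing (p.Fiber T') :=
  isCohenMacaulayRing_fiber_of_fibLocRing p
    (fun Q _ _ => isCohenMacaulayLocalRing_fibLocRing_of_cm T T' hT' Q)

/-- The fibres of `T/I → T'/IT'` are Cohen–Macaulay when `T'` is. -/
theorem cmFibres_quotient_of_cm (hT' : IsCohenMacaulayRing T') (I : Ideal T)
    (p : Ideal (T ⧸ I)) [p.IsPrime] :
    IsCohenMacaulayRing (p.Fiber (T' ⧸ I.map (algebraMap T T'))) := by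
  haveI : Algebra.IsPushout T (T ⧸ I) T' (T' ⧸ I.map (algebraMap T T')) :=
    Algebra.IsPushout.symm inferInstance
  have hst : (algebraMap T (T ⧸ I)).SurjectiveOnStalks :=
    RingHom.surjectiveOnStalks_of_surjective Ideal.Quotient.mk_surjective
  obtain ⟨e⟩ := LocHom.nonempty_fibre_ringEquiv T T' (T ⧸ I) (T' ⧸ I.map (algebraMap T T')) hst p
  exact CplQuot.isCohenMacaulayRing_of_ringEquiv e.symm (cmFibres_of_cm T T' hT' (p.under T))

omit [IsNoetherianRing T] [IsNoetherianRing T'] in
theorem flat_quotient (I : Ideal T) :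
    Module.Flat (T ⧸ I) (T' ⧸ I.map (algebraMap T T')) := by
  have h : Algebra.IsPushout T (T ⧸ I) T' (T' ⧸ I.map (algebraMap T T')) :=
    Algebra.IsPushout.symm inferInstance
  exact Module.Flat.isBaseChange T (T ⧸ I) T' _ h.out

end global_case

section closed_fibre

variable (T T' : Type u) [CommRing T] [CommRing T'] [IsLocalRing T] [IsLocalRing T']
  [Algebra T T'] (I : Ideal T) [IsLocalRing (T ⧸ I)]

theorem mB_quotient_eq :
    EGA4.mB (T ⧸ I) (T' ⧸ I.map (algebraMap T T')) =
      ((maximalIdeal T).map (algebraMap T T')).map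
        (Ideal.Quotient.mk (I.map (algebraMap T T'))) := by
  unfold EGA4.mB
  rw [← IsLocalRing.map_maximalIdeal_of_surjective (Ideal.Quotient.mk I)
    Ideal.Quotient.mk_surjective, Ideal.map_map, Ideal.map_map]
  congr 1

/-- The closed fibre of `T/I → T'/IT'` is the closed fibre of `T → T'`. -/
noncomputable def fibRingQuotientEquiv (hI : I ≤ maximalIdeal T) :
    EGA4.FibRing (T ⧸ I) (T' ⧸ I.map (algebraMap T T')) ≃+*
      T' ⧸ (maximalIdeal T).map (algebraMap T T') :=
  (Ideal.quotEquivOfEq (mB_quotient_eq T T' I)).trans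
    ((DoubleQuot.quotQuotEquivQuotSup (I.map (algebraMap T T'))
      ((maximalIdeal T).map (algebraMap T T'))).trans
      (Ideal.quotEquivOfEq (sup_eq_right.mpr (Ideal.map_mono hI))))

end closed_fibre

end Groth.Agent.Helper8.CMF
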