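import Mathlib
import Groth.Prelude
import Groth.Agent.Lib.Helper8.CMF5
import Groth.Agent.Lib.Helper8.CIAsc2
import Groth.Agent.Lib.Helper8.FEqA3

/-!
# Avramov–Foxby: flat local homomorphisms of complete local rings with Cohen–Macaulay closed
fibre have Cohen–Macaulay fibres
-/

set_option autoImplicit false
universe u

namespace Groth.Agent.Helper8.CMF

open CategoryTheory IsLocalRing LocCoh RingTheory.Sequence

section change_base

variable {A₁ A₂ A' : Type u} [CommRing A₁] [CommRing A₂] [CommRing A'] [Algebra A₁ A']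
  [Algebra A₂ A'] (e : A₁ ≃+* A₂) (he : ∀ a, algebraMap A₂ A' (e a) = algebraMap A₁ A' a)

include he in
theorem comap_map_eq_of_ringEquiv (Q' : Ideal A') :
    (Q'.comap (algebraMap A₂ A')).map (algebraMap A₂ A') =
      (Q'.comap (algebraMap A₁ A')).map (algebraMap A₁ A') := by
  apply le_antisymm
  · rw [Ideal.map_le_iff_le_comap]
    intro x hx
    rw [Ideal.mem_comap] at hx ⊢
    obtain ⟨y, rfl⟩ := e.surjective x
    rw [he] at hx ⊢
    exact Ideal.mem_map_of_mem _ hx
  · rw [Ideal.map_le_iff_le_comap]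
    intro x hx
    rw [Ideal.mem_comap] at hx ⊢
    rw [← he] at hx ⊢
    exact Ideal.mem_map_of_mem _ hx

include he in
theorem fibLocRing_ideal_eq_of_ringEquiv (Q' : Ideal A') [Q'.IsPrime] :
    (Q'.comap (algebraMap A₂ A')).map (algebraMap A₂ (Localization.AtPrime Q')) =
      (Q'.comap (algebraMap A₁ A')).map (algebraMap A₁ (Localization.AtPrime Q')) := by
  rw [IsScalarTower.algebraMap_eq A₂ A' (Localization.AtPrime Q'), ← Ideal.map_map,
    comap_map_eq_of_ringEquiv e he, Ideal.map_map, ← IsScalarTower.algebraMap_eq]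

include he in
theorem mB_eq_of_ringEquiv [IsLocalRing A₁] [IsLocalRing A₂] :
    EGA4.mB A₂ A' = EGA4.mB A₁ A' := by
  unfold EGA4.mB
  have h1 : maximalIdeal A₂ = (maximalIdeal A₁).map (e : A₁ →+* A₂) :=
    (IsLocalRing.map_maximalIdeal_of_surjective (e : A₁ →+* A₂) e.surjective).symm
  rw [h1, Ideal.map_map]
  congr 1
  ext a
  exact he a

include he in
theorem flat_of_ringEquiv_base [Module.Flat A₁ A'] : Module.Flat A₂ A' := by
  have h1 : (algebraMap A₁ A').Flat := RingHom.flat_algebraMap_iff.mpr inferInstance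
  have h2 : ((algebraMap A₁ A').comp (e.symm : A₂ →+* A₁)).Flat :=
    RingHom.Flat.comp (RingHom.Flat.of_bijective e.symm.bijective) h1
  have h3 : (algebraMap A₁ A').comp (e.symm : A₂ →+* A₁) = algebraMap A₂ A' := by
    ext a
    obtain ⟨b, rfl⟩ := e.surjective a
    simp [he]
  rw [h3] at h2
  exact RingHom.flat_algebraMap_iff.mp h2

end change_base

section complete

variable (A B : Type u) [CommRing A] [CommRing B]
  [IsLocalRing A] [IsLocalRing B] [IsNoetherianRing A] [IsNoetherianRing B]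
  [IsAdicComplete (maximalIdeal A) A] [IsAdicComplete (maximalIdeal B) B]
  [Algebra A B] [IsLocalHom (algebraMap A B)] [Module.Flat A B]

/-- **Avramov–Foxby**, complete case. -/
theorem cmFibres_of_complete (hG : IsCohenMacaulayLocalRing (EGA4.FibRing A B)) :
    ∀ (p : Ideal A) [p.IsPrime], IsCohenMacaulayRing (p.Fiber B) := by
  obtain ⟨T, T', _, _, hT, hT', ρ, σ, τ, hρ, hσ, hcomp, hflat, hreg⟩ :=
    CIAsc.exists_regular_factorization A B
  letI : Algebra T T' := τ.toAlgebra
  haveI : Module.Flat T T' := hflat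
  set I : Ideal T := RingHom.ker ρ with hI
  let e : (T ⧸ I) ≃+* A := RingHom.quotientKerEquivOfSurjective hρ
  haveI : IsLocalRing (T ⧸ I) := e.symm.isLocalRing
  have hIle : I ≤ maximalIdeal T := IsLocalRing.le_maximalIdeal (RingHom.ker_ne_top ρ)
  have hemk : ∀ t : T, e (Ideal.Quotient.mk I t) = ρ t := fun t => rfl
  letI : Algebra A (T' ⧸ I.map (algebraMap T T')) :=
    ((algebraMap (T ⧸ I) (T' ⧸ I.map (algebraMap T T'))).comp (e.symm : A →+* T ⧸ I)).toAlgebra
  have he : ∀ a, algebraMap A (T' ⧸ I.map (algebraMap T T')) (e a) =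
      algebraMap (T ⧸ I) (T' ⧸ I.map (algebraMap T T')) a := by
    intro a
    simp [RingHom.algebraMap_toAlgebra]
  have hσI : ∀ x ∈ I.map (algebraMap T T'), σ x = 0 := by
    intro x hx
    have hle : I.map (algebraMap T T') ≤ RingHom.ker σ := by
      rw [Ideal.map_le_iff_le_comap]
      intro t ht
      rw [Ideal.mem_comap, RingHom.mem_ker]
      have h1 := RingHom.congr_fun hcomp t
      rw [RingHom.comp_apply, RingHom.comp_apply] at h1
      rw [RingHom.algebraMap_toAlgebra, h1, RingHom.mem_ker.mp ht, map_zero]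
    exact RingHom.mem_ker.mp (hle hx)
  letI : Algebra (T' ⧸ I.map (algebraMap T T')) B := (Ideal.Quotient.lift _ σ hσI).toAlgebra
  haveI : IsScalarTower A (T' ⧸ I.map (algebraMap T T')) B := by
    refine IsScalarTower.of_algebraMap_eq (fun a => ?_)
    obtain ⟨x, rfl⟩ := e.surjective a
    obtain ⟨t, rfl⟩ := Ideal.Quotient.mk_surjective x
    rw [he, hemk]
    have h1 := RingHom.congr_fun hcomp t
    rw [RingHom.comp_apply, RingHom.comp_apply] at h1
    rw [← h1]
    rfl
  have hsurj : Function.Surjective (algebraMap (T' ⧸ I.map (algebraMap T T')) B) := by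
    intro b
    obtain ⟨t', rfl⟩ := hσ b
    exact ⟨Ideal.Quotient.mk _ t', rfl⟩
  haveI : Nontrivial (T' ⧸ I.map (algebraMap T T')) :=
    RingHom.domain_nontrivial (algebraMap (T' ⧸ I.map (algebraMap T T')) B)
  haveI : IsLocalRing (T' ⧸ I.map (algebraMap T T')) :=
    IsLocalRing.of_surjective' (Ideal.Quotient.mk _) Ideal.Quotient.mk_surjective
  haveI : IsLocalHom (algebraMap (T' ⧸ I.map (algebraMap T T')) B) :=
    IsLocalHom.of_surjective _ hsurj
  haveI : IsLocalHom (algebraMap A (T' ⧸ I.map (algebraMap T T'))) := by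
    haveI : IsLocalHom ((algebraMap (T' ⧸ I.map (algebraMap T T')) B).comp
        (algebraMap A (T' ⧸ I.map (algebraMap T T')))) := by
      rw [← IsScalarTower.algebraMap_eq]; infer_instance
    exact isLocalHom_of_comp _ (algebraMap (T' ⧸ I.map (algebraMap T T')) B)
  haveI : Module.Flat (T ⧸ I) (T' ⧸ I.map (algebraMap T T')) := flat_quotient T T' I
  haveI : Module.Flat A (T' ⧸ I.map (algebraMap T T')) := flat_of_ringEquiv_base e he
  -- the closed fibre of `A → A'`
  let E : EGA4.FibRing A (T' ⧸ I.map (algebraMap T T')) ≃+*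
      T' ⧸ (maximalIdeal T).map (algebraMap T T') :=
    (Ideal.quotEquivOfEq (mB_eq_of_ringEquiv e he)).trans (fibRingQuotientEquiv T T' I hIle)
  haveI : IsLocalRing (T' ⧸ (maximalIdeal T).map (algebraMap T T')) := E.isLocalRing
  haveI : IsRegularRing (T' ⧸ (maximalIdeal T).map (algebraMap T T')) := hreg
  haveI : IsRegularLocalRing (T' ⧸ (maximalIdeal T).map (algebraMap T T')) :=
    IsRegularLocalRing.of_isRegularRing_of_isLocalRing _
  have hF : IsRegularLocalRing (EGA4.FibRing A (T' ⧸ I.map (algebraMap T T'))) :=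
    IsRegularLocalRing.of_ringEquiv E.symm
  -- the fibres of `A → A'`
  have hT'cm : IsCohenMacaulayRing T' := FormEq.isCohenMacaulayRing_of_isRegularLocalRing T'
  have hfibbar := cmFibres_quotient_of_cm T T' hT'cm I
  have hfib : ∀ (p : Ideal A) [p.IsPrime],
      IsCohenMacaulayRing (p.Fiber (T' ⧸ I.map (algebraMap T T'))) := by
    intro p _
    apply isCohenMacaulayRing_fiber_of_fibLocRing p
    intro Q' _ _
    haveI : (Q'.comap (algebraMap (T ⧸ I) (T' ⧸ I.map (algebraMap T T')))).IsPrime :=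
      Ideal.comap_isPrime _ _
    exact isCohenMacaulayLocalRing_of_ringEquiv
      (Ideal.quotEquivOfEq (fibLocRing_ideal_eq_of_ringEquiv e he Q').symm)
      (isCohenMacaulayLocalRing_fibLocRing_of_fiber _ (hfibbar _) Q' rfl)
  obtain ⟨n, hpd, hn⟩ := exists_hasProjectiveDimensionLT A (T' ⧸ I.map (algebraMap T T')) B
    hsurj hF hG
  obtain ⟨xs, hlen, hreg', hker⟩ := exists_regular_sequence A (T' ⧸ I.map (algebraMap T T')) B
    hsurj hF n hn
  exact cmFibres_of_perfect A (T' ⧸ I.map (algebraMap T T')) B hsurj n hpd xs hlen hreg' hker hfib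

end complete

end Groth.Agent.Helper8.CMF
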