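import Mathlib
import Groth.Prelude
import Groth.Agent.Lib.Helper8.CMF6
import Groth.Agent.Lib.Helper8.CplMap3
import Groth.Agent.Lib.Helper8.SkBase3

/-!
# Cohen–Macaulay fibres of a flat local homomorphism from the closed fibre of the completion
-/

set_option autoImplicit false
universe u

namespace Groth.Agent.Helper8.CMF

open CategoryTheory IsLocalRing LocCoh RingTheory.Sequence TensorProduct

section closed

variable (A C : Type u) [CommRing A] [CommRing C] [IsLocalRing A] [IsLocalRing C]
  [IsNoetherianRing C] [Algebra A C] [IsLocalHom (algebraMap A C)]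

/-- The closed fibre ring `C / m_A C` is Cohen–Macaulay when the fibre `κ(m_A) ⊗ C` is. -/
theorem isCohenMacaulayLocalRing_fibRing_of_fiber
    (h : IsCohenMacaulayRing ((maximalIdeal A).Fiber C)) :
    IsCohenMacaulayLocalRing (EGA4.FibRing A C) := by
  have hQ : (maximalIdeal C).comap (algebraMap A C) = maximalIdeal A :=
    IsLocalRing.maximalIdeal_comap (algebraMap A C)
  have h1 := isCohenMacaulayLocalRing_fibLocRing_of_fiber (maximalIdeal A) h (maximalIdeal C) hQ
  let f : Localization.AtPrime (maximalIdeal C) ≃ₐ[C] C :=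
    (IsLocalization.atUnits C (maximalIdeal C).primeCompl (fun x hx => by
      by_contra hnu
      exact hx ((IsLocalRing.mem_maximalIdeal x).mpr hnu))).symm
  have hf : ∀ a : A, f (algebraMap A (Localization.AtPrime (maximalIdeal C)) a) =
      algebraMap A C a := by
    intro a
    rw [IsScalarTower.algebraMap_apply A C (Localization.AtPrime (maximalIdeal C)), f.commutes]
    rfl
  refine isCohenMacaulayLocalRing_of_ringEquiv
    (Ideal.quotientEquiv _ _ (f : Localization.AtPrime (maximalIdeal C) ≃+* C) ?_) h1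
  unfold EGA4.mB
  rw [hQ, Ideal.map_map]
  congr 1
  ext a
  exact (hf a).symm

end closed

section ext

/-- The Cohen–Macaulay property ascends along a finite extension of the base field. -/
theorem isCohenMacaulayRing_tensor_finite (k K F : Type u) [Field k] [Field K] [Algebra k K]
    [Module.Finite k K] [CommRing F] [Algebra k F] (hF : IsCohenMacaulayRing F) :
    IsCohenMacaulayRing (K ⊗[k] F) := by
  haveI := hF
  haveI : IsNoetherianRing F := inferInstance
  haveI : IsNoetherianRing (F ⊗[k] K) :=
    isNoetherian_of_tower F (isNoetherian_of_isNoetherianRing_of_finite F (F ⊗[k] K))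
  have h1 : IsCohenMacaulayRing (F ⊗[k] K) := by
    rw [Fib.isCohenMacaulayRing_iff_forall_hasSk]
    intro n
    exact SkBase.hasSk_tensor_field k F K (Or.inr inferInstance) n
      ((Fib.isCohenMacaulayRing_iff_forall_hasSk F).mp hF n)
  exact CplQuot.isCohenMacaulayRing_of_ringEquiv
    (Algebra.TensorProduct.comm k F K).toRingEquiv h1

end ext

section final

variable (A B : Type u) [CommRing A] [CommRing B]
    [IsNoetherianRing A] [IsNoetherianRing B] [IsLocalRing A] [IsLocalRing B] [Algebra A B]
    [IsLocalHom (algebraMap A B)] [Module.Flat A B]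

/-- **Avramov–Foxby** (EGA IV 7.5.1 for the Cohen–Macaulay property): if the formal fibres of
`A` and the closed fibre of `A → B̂` are Cohen–Macaulay, then all the fibres of `A → B` are
Cohen–Macaulay. -/
theorem cmFibres_of_cpl_closed_fibre (hA : EGA4.HasCMFormalFibres A)
    (h : IsCohenMacaulayRing ((maximalIdeal A).Fiber (EGA4.Cpl B))) :
    ∀ (p : Ideal A) [p.IsPrime], IsCohenMacaulayRing (p.Fiber B) := by
  haveI : IsNoetherianRing (EGA4.Cpl A) := AdicReg.isNoetherianRing A _
  haveI : IsNoetherianRing (EGA4.Cpl B) := AdicReg.isNoetherianRing B _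
  haveI : Module.Flat A (EGA4.Cpl B) := Module.Flat.trans A B (EGA4.Cpl B)
  haveI : Module.FaithfullyFlat B (EGA4.Cpl B) := Module.FaithfullyFlat.of_flat_of_isLocalHom
  haveI : IsLocalHom (algebraMap A (EGA4.Cpl B)) := by
    rw [IsScalarTower.algebraMap_eq A B (EGA4.Cpl B)]
    exact RingHom.isLocalHom_comp _ _
  letI := CplMap.algebraCpl A B
  haveI := CplMap.isScalarTower_cpl A B
  haveI := CplMap.isLocalHom_cpl A B
  haveI := CplMap.flat_cpl A B
  have hG0 : IsCohenMacaulayLocalRing (EGA4.FibRing A (EGA4.Cpl B)) :=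
    isCohenMacaulayLocalRing_fibRing_of_fiber A (EGA4.Cpl B) h
  have hmB : EGA4.mB (EGA4.Cpl A) (EGA4.Cpl B) = EGA4.mB A (EGA4.Cpl B) := by
    unfold EGA4.mB
    rw [AdicCompletion.maximalIdeal_eq_map (R := A), Ideal.map_map,
      ← IsScalarTower.algebraMap_eq]
  have hG : IsCohenMacaulayLocalRing (EGA4.FibRing (EGA4.Cpl A) (EGA4.Cpl B)) :=
    isCohenMacaulayLocalRing_of_ringEquiv (Ideal.quotEquivOfEq hmB.symm) hG0
  have h1 := cmFibres_of_complete (EGA4.Cpl A) (EGA4.Cpl B) hG
  obtain ⟨-, h2⟩ := Fib.cmFibres_comp A (EGA4.Cpl A) (EGA4.Cpl B) hA h1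
  exact (Fib.cmFibres_descent A B (EGA4.Cpl B) h2).2

/-- **S4747.** -/
theorem cm_fibres_of_flat_local_of_cpl_closed_fibre (hA : EGA4.HasCMFormalFibres A)
    (h : ∀ (k' : Type u) [Field k'] [Algebra (maximalIdeal A).ResidueField k'],
      Module.Finite (maximalIdeal A).ResidueField k' →
        IsCohenMacaulayRing (k' ⊗[(maximalIdeal A).ResidueField]
          ((maximalIdeal A).Fiber (EGA4.Cpl B)))) :
    ∀ (p : Ideal A) [p.IsPrime] (K : Type u) [Field K] [Algebra p.ResidueField K],
      Module.Finite p.ResidueField K → IsCohenMacaulayRing (K ⊗[p.ResidueField] (p.Fiber B)) := by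
  have h0 : IsCohenMacaulayRing ((maximalIdeal A).Fiber (EGA4.Cpl B)) :=
    CplQuot.isCohenMacaulayRing_of_ringEquiv
      (Algebra.TensorProduct.lid (maximalIdeal A).ResidueField
        ((maximalIdeal A).Fiber (EGA4.Cpl B))).toRingEquiv
      (h (maximalIdeal A).ResidueField inferInstance)
  intro p _ K _ _ hfin
  haveI := hfin
  exact isCohenMacaulayRing_tensor_finite p.ResidueField K (p.Fiber B)
    (cmFibres_of_cpl_closed_fibre A B hA h0 p)

end final

end Groth.Agent.Helper8.CMF
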