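import Groth.Agent.Lib.Helper8.LC25

set_option autoImplicit false
universe u
open CategoryTheory CategoryTheory.Limits Opposite

namespace Groth.Agent.Helper8.LC

open Abelian localCohomology LocCoh

section Prep

variable {R : Type u} [CommRing R]

/-- a finite power-torsion module is killed by a power. -/
lemma exists_pow_le_annihilator (I : Ideal R) (N : Type u) [AddCommGroup N] [Module R N]
    [Module.Finite R N] (hN : LocCoh.IsPowerTorsion I N) :
    ∃ m : ℕ, I ^ m ≤ Module.annihilator R N := by
  obtain ⟨r, g, hg⟩ := Module.Finite.exists_fin (R := R) (M := N)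
  choose m hm using fun j => hN (g j)
  refine ⟨∑ j, m j, fun a ha => ?_⟩
  rw [Module.mem_annihilator]
  intro x
  have hx : x ∈ Submodule.span R (Set.range g) := by rw [hg]; exact Submodule.mem_top
  induction hx using Submodule.span_induction with
  | mem y hy =>
    obtain ⟨j, rfl⟩ := hy
    exact hm j a (Ideal.pow_le_pow_right (Finset.single_le_sum (fun _ _ => Nat.zero_le _)
      (Finset.mem_univ j)) ha)
  | zero => exact smul_zero _
  | add y z _ _ hy hz => rw [smul_add, hy, hz, add_zero]
  | smul c y _ hy => rw [smul_comm, hy, smul_zero]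

variable [IsNoetherianRing R]

lemma torsionSub_quotient_torsionSub_eq_bot (I : Ideal R) (M : Type u) [AddCommGroup M]
    [Module R M] : DRing.torsionSub I (M ⧸ DRing.torsionSub I M) = ⊥ := by
  rw [eq_bot_iff]
  rintro x ⟨n, hn⟩
  obtain ⟨m, rfl⟩ := Submodule.Quotient.mk_surjective _ x
  rw [Submodule.mem_bot, Submodule.Quotient.mk_eq_zero]
  -- the submodule `I^n • (R ∙ m)` is finite and power torsion
  let N : Submodule R M := (I ^ n) • (Submodule.span R {m})
  have hNle : N ≤ DRing.torsionSub I M := by
    apply Submodule.smul_le.mpr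
    intro a ha y hy
    obtain ⟨c, rfl⟩ := Submodule.mem_span_singleton.mp hy
    rw [smul_comm]
    apply Submodule.smul_mem
    have := hn a ha
    rw [← Submodule.Quotient.mk_smul, Submodule.Quotient.mk_eq_zero] at this
    exact this
  have hNfg : N.FG := Submodule.FG.smul (IsNoetherian.noetherian _) (Submodule.fg_span_singleton m)
  haveI : Module.Finite R N := Module.Finite.iff_fg.mpr hNfg
  have hNtors : LocCoh.IsPowerTorsion I N := by
    rintro ⟨y, hy⟩
    obtain ⟨k, hk⟩ := hNle hy
    exact ⟨k, fun a ha => Subtype.ext (hk a ha)⟩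
  obtain ⟨k, hk⟩ := exists_pow_le_annihilator I N hNtors
  refine ⟨k + n, fun a ha => ?_⟩
  rw [pow_add] at ha
  refine Submodule.mul_induction_on ha ?_ ?_
  · intro b hb c hc
    have hcm : c • m ∈ N :=
      Submodule.smul_mem_smul hc (Submodule.mem_span_singleton_self m)
    have := Module.mem_annihilator.mp (hk hb) ⟨c • m, hcm⟩
    rw [mul_smul]
    exact congrArg Subtype.val this
  · intro b c hb hc
    rw [add_smul, hb, hc, add_zero]

/-- a finite module without `I`-torsion has a regular element in each power of `I`. -/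
lemma exists_isSMulRegular_mem_pow (I : Ideal R) (M : Type u) [AddCommGroup M] [Module R M]
    [Module.Finite R M] (hM : DRing.torsionSub I M = ⊥) (k : ℕ) :
    ∃ x ∈ I ^ k, IsSMulRegular M x := by
  haveI : Module.Finite R (R ⧸ I ^ k) := Module.Finite.quotient R _
  have hsub : Subsingleton ((R ⧸ I ^ k) →ₗ[R] M) := by
    refine ⟨fun φ ψ => ?_⟩
    have key : ∀ χ : (R ⧸ I ^ k) →ₗ[R] M, χ = 0 := by
      intro χ
      have h1 : χ (Ideal.Quotient.mk _ 1) ∈ DRing.torsionSub I M := by
        refine ⟨k, fun a ha => ?_⟩
        rw [← map_smul]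
        have : a • (Ideal.Quotient.mk (I ^ k) 1) = 0 := by
          change Ideal.Quotient.mk (I ^ k) (a * 1) = 0
          rw [mul_one]
          exact Ideal.Quotient.eq_zero_iff_mem.mpr ha
        rw [this, map_zero]
      rw [hM, Submodule.mem_bot] at h1
      apply LinearMap.ext
      intro y
      obtain ⟨r, rfl⟩ := Ideal.Quotient.mk_surjective y
      have : Ideal.Quotient.mk (I ^ k) r = r • Ideal.Quotient.mk (I ^ k) 1 := by
        change _ = Ideal.Quotient.mk (I ^ k) (r * 1)
        rw [mul_one]
      rw [this, map_smul, h1, smul_zero, LinearMap.zero_apply]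
    rw [key φ, key ψ]
  obtain ⟨x, hx, hreg⟩ := IsSMulRegular.subsingleton_linearMap_iff.mp hsub
  rw [Ideal.annihilator_quotient] at hx
  exact ⟨x, hx, hreg⟩

end Prep

end Groth.Agent.Helper8.LC

namespace Groth.Agent.Helper8.LC

open Abelian localCohomology LocCoh

variable {R : Type u} [CommRing R] [IsNoetherianRing R]

lemma finite_h0 (I : Ideal R) (M : Type u) [AddCommGroup M] [Module R M] [Module.Finite R M] :
    Module.Finite R (H I 0 M) :=
  Module.Finite.equiv (h0Equiv I (ModuleCat.of R M)).symm

/-- Faltings: annihilation by a power of `I` in degrees `≤ n` gives finiteness. -/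
theorem finite_of_pow_le_annihilator (I : Ideal R) (n : ℕ) :
    ∀ (M : Type u) [AddCommGroup M] [Module R M] [Module.Finite R M] (k : ℕ)
      (_ : ∀ i ≤ n, I ^ k ≤ Module.annihilator R (H I i M)),
      ∀ i ≤ n, Module.Finite R (H I i M) := by
  induction n with
  | zero =>
    intro M _ _ _ k hk i hi
    obtain rfl : i = 0 := by omega
    exact finite_h0 I M
  | succ n ih =>
    intro M _ _ _ k hk i hi
    rcases Nat.eq_zero_or_pos i with rfl | hpos
    · exact finite_h0 I M
    let T := DRing.torsionSub I M
    have hbij : ∀ j, 0 < j → Function.Bijective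
        ((localCohomology I j).map (ModuleCat.ofHom T.mkQ)).hom :=
      fun j hj => bijective_map_mkQ_torsionSub I M j hj
    suffices h : Module.Finite R (H I i (M ⧸ T)) from
      Module.Finite.equiv (LinearEquiv.ofBijective _ (hbij i hpos)).symm
    have hM' : DRing.torsionSub I (M ⧸ T) = ⊥ := torsionSub_quotient_torsionSub_eq_bot I M
    have hk' : ∀ j ≤ n + 1, I ^ k ≤ Module.annihilator R (H I j (M ⧸ T)) := by
      intro j hj a ha
      rw [Module.mem_annihilator]
      intro y
      rcases Nat.eq_zero_or_pos j with rfl | hjpos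
      · have h0 : (h0Equiv I (ModuleCat.of R (M ⧸ T))) y = 0 := by
          apply Subtype.ext
          have h2 : ∀ w ∈ DRing.torsionSub I (M ⧸ T), w = 0 := by
            intro w hw
            rw [hM'] at hw
            exact hw
          exact h2 _ ((h0Equiv I (ModuleCat.of R (M ⧸ T))) y).2
        have hy : y = 0 := by
          rw [← (h0Equiv I (ModuleCat.of R (M ⧸ T))).symm_apply_apply y, h0, map_zero]
        rw [hy, smul_zero]
      · obtain ⟨x, rfl⟩ := (hbij j hjpos).2 y
        rw [← map_smul, Module.mem_annihilator.mp (hk j hj ha) x, map_zero]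
    obtain ⟨x, hx, hreg⟩ := exists_isSMulRegular_mem_pow I (M ⧸ T) hM' k
    have hS := IsSMulRegular.smulShortComplex_shortExact (M := ModuleCat.of R (M ⧸ T)) hreg
    have hq : ∀ j ≤ n, I ^ (k + k) ≤
        Module.annihilator R (H I j (QuotSMulTop x (M ⧸ T))) := by
      intro j hj
      rw [pow_add]
      apply Ideal.mul_le.mpr
      intro a ha b hb
      rw [Module.mem_annihilator]
      have hz : ∀ z : (localCohomology I j).obj
          (ModuleCat.smulShortComplex (ModuleCat.of R (M ⧸ T)) x).X₃, (a * b) • z = 0 := by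
        intro z
        have h1 : δ I j hS (b • z) = 0 := by
          have e1 : δ I j hS (b • z) = b • δ I j hS z := (δ I j hS).map_smul b z
          rw [e1]
          exact Module.mem_annihilator.mp (hk' (j + 1) (by omega) hb) _
        obtain ⟨y, hy⟩ := (exact_g_δ I j hS (b • z)).mp h1
        have hay : a • y = 0 := Module.mem_annihilator.mp (hk' j (by omega) ha) y
        have e2 := ((localCohomology I j).map
          (ModuleCat.smulShortComplex (ModuleCat.of R (M ⧸ T)) x).g).hom.map_smul a y
        rw [hay, map_zero] at e2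
        rw [mul_smul, ← hy]
        exact e2.symm
      exact fun z => hz z
    have hfin := ih (QuotSMulTop x (M ⧸ T)) (k + k) hq
    obtain ⟨j, rfl⟩ : ∃ j, i = j + 1 := ⟨i - 1, by omega⟩
    haveI : Module.Finite R ((localCohomology I j).obj
        (ModuleCat.smulShortComplex (ModuleCat.of R (M ⧸ T)) x).X₃) := hfin j (by omega)
    apply Module.Finite.of_surjective (δ I j hS)
    intro z
    have h1 : ((localCohomology I (j + 1)).map
        (ModuleCat.smulShortComplex (ModuleCat.of R (M ⧸ T)) x).f) z = 0 :=
      (map_smul_id I (j + 1) (ModuleCat.of R (M ⧸ T)) x z).trans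
        (Module.mem_annihilator.mp (hk' (j + 1) hi hx) z)
    exact (exact_δ_f I j hS z).mp h1

/-- the Faltings criterion. -/
theorem finite_iff_exists_annihilator (I : Ideal R) (M : Type u) [AddCommGroup M] [Module R M]
    [Module.Finite R M] (n : ℕ) :
    (∀ i : ℕ, i ≤ n → Module.Finite R (LocCoh.H I i M)) ↔
      ∃ J : Ideal R, I ≤ J.radical ∧
        ∀ i : ℕ, i ≤ n → ∀ a ∈ J, ∀ x : LocCoh.H I i M, a • x = 0 := by
  constructor
  · intro hfin
    have h1 : ∀ i : ℕ, ∃ m : ℕ, i ≤ n → I ^ m ≤ Module.annihilator R (H I i M) := by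
      intro i
      by_cases hi : i ≤ n
      · haveI := hfin i hi
        obtain ⟨m, hm⟩ := exists_pow_le_annihilator I (H I i M)
          (fun x => isPowerTorsion I i (ModuleCat.of R M) x)
        exact ⟨m, fun _ => hm⟩
      · exact ⟨0, fun h => absurd h hi⟩
    choose m hm using h1
    refine ⟨I ^ (1 + ∑ i ∈ Finset.range (n + 1), m i), ?_, ?_⟩
    · intro a ha
      exact ⟨_, Ideal.pow_mem_pow ha _⟩
    · intro i hi a ha x
      have hle : m i ≤ 1 + ∑ i ∈ Finset.range (n + 1), m i := by
        have := Finset.single_le_sum (f := m) (fun _ _ => Nat.zero_le _)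
          (Finset.mem_range.mpr (by omega : i < n + 1))
        omega
      exact Module.mem_annihilator.mp (hm i hi (Ideal.pow_le_pow_right hle ha)) x
  · rintro ⟨J, hJ, hJ'⟩
    obtain ⟨k, hk⟩ := Ideal.exists_pow_le_of_le_radical_of_fg hJ (IsNoetherian.noetherian _)
    apply finite_of_pow_le_annihilator I n M k
    intro i hi a ha
    rw [Module.mem_annihilator]
    exact hJ' i hi a (hk ha)

end Groth.Agent.Helper8.LC
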