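import Mathlib
import Groth.Agent.Lib.Helper7.SHens.NoethCrit
import Groth.Agent.Lib.Helper2.CompleteNoeth

/-!
# A ring which is a flat "colimit" of Noetherian rings along an ideal in its Jacobson radical
is Noetherian (pair version of EGA 0_III 10.3.1.3)
-/

open TensorProduct

namespace Groth.Agent.Helper8.PairNoeth

universe u v w

/-- Krull intersection theorem for an ideal of `R` acting on a finite module over a Noetherian
`R`-algebra in whose Jacobson radical the ideal lands. -/
theorem iInf_pow_smul_top_eq_bot {R S : Type*} [CommRing R] [CommRing S] [Algebra R S]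
    [IsNoetherianRing S] (I : Ideal R)
    (hI : I.map (algebraMap R S) ≤ Ideal.jacobson ⊥) (N : Type*) [AddCommGroup N] [Module R N]
    [Module S N] [IsScalarTower R S N] [Module.Finite S N] (x : N)
    (hx : ∀ n : ℕ, x ∈ I ^ n • (⊤ : Submodule R N)) : x = 0 := by
  have h := Ideal.iInf_pow_smul_eq_bot_of_le_jacobson (I.map (algebraMap R S)) (M := N) hI
  have : x ∈ (⨅ i : ℕ, (I.map (algebraMap R S)) ^ i • ⊤ : Submodule S N) := by
    rw [Submodule.mem_iInf]
    intro n
    have := hx n
    rw [← Groth.Agent.Helper1.LocalCrit.pow_smul_top_restrictScalars (S := S)] at this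
    exact this
  rw [h] at this
  exact this

/-- Local criterion of flatness, "all quotients" form, Jacobson radical version. -/
theorem flat_of_forall_flat_quotient_pow {R : Type u} {S : Type v} {M : Type w}
    [CommRing R] [CommRing S] [IsNoetherianRing R] [IsNoetherianRing S]
    [Algebra R S] [AddCommGroup M] [Module R M] [Module S M] [IsScalarTower R S M]
    [Module.Finite S M] (I : Ideal R) (hI : I.map (algebraMap R S) ≤ Ideal.jacobson ⊥)
    (h : ∀ n : ℕ, 0 < n → Module.Flat (R ⧸ I ^ n) ((R ⧸ I ^ n) ⊗[R] M)) : Module.Flat R M := by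
  rw [Module.Flat.iff_rTensor_injective']
  intro J
  rw [injective_iff_map_eq_zero]
  intro x hx
  have hc : ∀ n : ℕ, 0 < n → ∀ Q : Submodule R (R ⧸ I ^ n),
      Function.Injective (Q.subtype.rTensor M) := by
    intro n hn Q
    have := h n hn
    exact Groth.Agent.Helper1.LocalCrit.rTensor_subtype_injective_of_surjective (R ⧸ I ^ n) M
      Ideal.Quotient.mk_surjective Q
  have hmem := Groth.Agent.Helper1.LocalCrit.mem_pow_smul_top_of_rTensor_eq_zero M I hc J x hx
  have : Module.Finite R J := Module.Finite.of_fg (IsNoetherian.noetherian J)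
  have := Groth.Agent.Helper1.LocalCrit.finite_tensorProduct (R := R) (S := S) M J
  have : TensorProduct.comm R J M x = 0 := by
    apply iInf_pow_smul_top_eq_bot (S := S) I hI (M ⊗[R] J)
    intro n
    have h3 : Submodule.map (TensorProduct.comm R J M).toLinearMap
        (I ^ n • (⊤ : Submodule R (J ⊗[R] M))) = I ^ n • ⊤ := by
      rw [Submodule.map_smul'', Submodule.map_top, LinearEquiv.range]
    rw [← h3]
    exact Submodule.mem_map_of_mem (hmem n)
  exact (TensorProduct.comm R J M).injective (by rw [this, map_zero])

section Stage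

variable {G : Type u} [CommRing G] (J : Ideal G) (hfg : J.FG) [IsNoetherianRing (G ⧸ J)]
  {E : Type u} [CommRing E] [IsNoetherianRing E] [Algebra E G] [Module.Flat E G]
  (I : Ideal E) (hI : I.map (algebraMap E G) = J)

omit [IsNoetherianRing (G ⧸ J)] [IsNoetherianRing E] [Module.Flat E G] in
include hI in
theorem pow_smul_top_eq_restrictScalars (N : Type*) [AddCommGroup N] [Module E N] [Module G N]
    [IsScalarTower E G N] (n : ℕ) :
    I ^ n • (⊤ : Submodule E N) = (J ^ n • (⊤ : Submodule G N)).restrictScalars E := by
  rw [← hI]
  exact (Groth.Agent.Helper1.LocalCrit.pow_smul_top_restrictScalars (S := G) I N n).symm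

omit [IsNoetherianRing (G ⧸ J)] [IsNoetherianRing E] in
include hfg hI in
theorem flat_quotient_completion (n : ℕ) :
    Module.Flat (E ⧸ I ^ n) ((E ⧸ I ^ n) ⊗[E] AdicCompletion J G) := by
  let f : G →ₗ[E] AdicCompletion J G := (AdicCompletion.of J G).restrictScalars E
  have hker : ∀ y : AdicCompletion J G,
      y ∈ I ^ n • (⊤ : Submodule E (AdicCompletion J G)) ↔ AdicCompletion.eval J G n y = 0 := by
    intro y
    rw [pow_smul_top_eq_restrictScalars J I hI (AdicCompletion J G) n,
      Submodule.restrictScalars_mem, AdicCompletion.pow_smul_top_eq_ker_eval hfg,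
      LinearMap.mem_ker]
  have hG : ∀ x : G, x ∈ I ^ n • (⊤ : Submodule E G) ↔
      Submodule.mkQ (J ^ n • (⊤ : Submodule G G)) x = 0 := by
    intro x
    rw [pow_smul_top_eq_restrictScalars J I hI G n, Submodule.restrictScalars_mem,
      Submodule.mkQ_apply, Submodule.Quotient.mk_eq_zero]
  have hb : Function.Bijective (f.lTensor (E ⧸ I ^ n)) := by
    apply Groth.Agent.Helper7.SHens.lTensor_quotient_bijective (I ^ n) f
    · intro x hx
      rw [hG]
      rw [hker] at hx
      exact hx
    · intro y
      obtain ⟨x, hx⟩ := Submodule.mkQ_surjective _ (AdicCompletion.eval J G n y)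
      refine ⟨x, ?_⟩
      rw [hker, map_sub, sub_eq_zero]
      exact hx.symm
  have hb' : Function.Bijective (f.baseChange (E ⧸ I ^ n)) := by
    rw [LinearMap.baseChange_eq_ltensor]
    exact hb
  exact Module.Flat.of_linearEquiv (LinearEquiv.ofBijective _ hb').symm

omit [IsNoetherianRing (G ⧸ J)] in
include hfg in
theorem map_le_jacobson_adicCompletion :
    J.map (algebraMap G (AdicCompletion J G)) ≤ Ideal.jacobson ⊥ := by
  have := AdicCompletion.isAdicComplete_self J hfg
  exact IsAdicComplete.le_jacobson_bot _

include hfg hI in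
/-- The completion of `G` is flat over every stage. -/
theorem flat_completion_of_stage : Module.Flat E (AdicCompletion J G) := by
  have hN : IsNoetherianRing (AdicCompletion J G) :=
    Groth.Agent.Helper2.CompleteNoeth.isNoetherianRing_adicCompletion G J hfg
  apply flat_of_forall_flat_quotient_pow (R := E) (S := AdicCompletion J G) I
  · rw [IsScalarTower.algebraMap_eq E G (AdicCompletion J G), ← Ideal.map_map, hI]
    exact map_le_jacobson_adicCompletion J hfg
  · intro n _
    exact flat_quotient_completion J hfg I hI n

end Stage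

/-- A ring `G` with a finitely generated ideal `J` in its Jacobson radical, with `G ⧸ J`
Noetherian, which is, for every finite subset, flat over a Noetherian ring containing the subset
in its image and carrying an ideal generating `J`, is Noetherian. -/
theorem isNoetherianRing_of_stages (G : Type u) [CommRing G] (J : Ideal G)
    (hfg : J.FG) (hjac : J ≤ Ideal.jacobson ⊥) [IsNoetherianRing (G ⧸ J)]
    (hst : ∀ {l : ℕ} (g : Fin l → G), ∃ (E : Type u) (_ : CommRing E) (_ : IsNoetherianRing E)
      (_ : Algebra E G) (_ : Module.Flat E G) (I : Ideal E),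
      I.map (algebraMap E G) = J ∧ ∀ i, g i ∈ (algebraMap E G).range) : IsNoetherianRing G := by
  have hN : IsNoetherianRing (AdicCompletion J G) :=
    Groth.Agent.Helper2.CompleteNoeth.isNoetherianRing_adicCompletion G J hfg
  have hflat : Module.Flat G (AdicCompletion J G) := by
    apply Module.Flat.of_forall_isTrivialRelation
    intro l f x hfx
    obtain ⟨E, _, _, _, _, I, hI, hrange⟩ := hst f
    choose e he using hrange
    have hflatE : Module.Flat E (AdicCompletion J G) := flat_completion_of_stage J hfg I hI
    have htriv : Module.IsTrivialRelation e x := by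
      apply Module.Flat.isTrivialRelation_of_sum_smul_eq_zero (R := E)
        (M := AdicCompletion J G) (f := e) (x := x)
      rw [← hfx]
      apply Finset.sum_congr rfl
      intro i _
      rw [← he i, algebraMap_smul]
    obtain ⟨k, a, y, hy1, hy2⟩ := htriv
    refine ⟨k, fun i j => algebraMap E G (a i j), y, ?_, ?_⟩
    · intro i
      rw [hy1 i]
      apply Finset.sum_congr rfl
      intro j _
      rw [algebraMap_smul]
    · intro j
      have := congrArg (algebraMap E G) (hy2 j)
      rw [map_sum, map_zero] at this
      rw [← this]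
      apply Finset.sum_congr rfl
      intro i _
      rw [map_mul, he i]
  have hff : Module.FaithfullyFlat G (AdicCompletion J G) := by
    refine ⟨fun {m} hm => ?_⟩
    intro htop
    have hJm : J ≤ m := by
      refine hjac.trans ?_
      rw [Ideal.jacobson_bot]
      exact Ring.jacobson_le_of_isMaximal m
    -- the evaluation map to `G ⧸ J`
    have h1 : (1 : AdicCompletion J G) ∈ m • (⊤ : Submodule G (AdicCompletion J G)) := by
      rw [htop]; trivial
    have h2 : ∀ z ∈ m • (⊤ : Submodule G (AdicCompletion J G)),
        AdicCompletion.evalOneₐ J z ∈ m.map (Ideal.Quotient.mk J) := by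
      intro z hz
      refine Submodule.smul_induction_on hz ?_ ?_
      · intro r hr y _
        rw [Algebra.smul_def, map_mul]
        refine Ideal.mul_mem_right _ _ ?_
        rw [AlgHom.commutes]
        exact Ideal.mem_map_of_mem _ hr
      · intro a b ha hb
        rw [map_add]
        exact add_mem ha hb
    have h3 := h2 1 h1
    rw [map_one] at h3
    have h4 : m.map (Ideal.Quotient.mk J) = ⊤ := (Ideal.eq_top_iff_one _).mpr h3
    have h5 := congrArg (Ideal.comap (Ideal.Quotient.mk J)) h4
    rw [Ideal.comap_map_of_surjective' _ Ideal.Quotient.mk_surjective, Ideal.mk_ker,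
      Ideal.comap_top, sup_eq_left.mpr hJm] at h5
    exact hm.ne_top h5
  exact Groth.Agent.Helper7.SHens.isNoetherianRing_of_faithfullyFlat G (AdicCompletion J G)

end Groth.Agent.Helper8.PairNoeth
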