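import Mathlib
import Groth.Prelude

/-!
# Exactness of adic completion at a (not necessarily finite) middle term when the cokernel is finite

For an exact sequence `M' → M → P → 0` over a Noetherian ring with `P` finite, the completed
sequence is exact (no finiteness of `M'`, `M` is needed).
-/

set_option autoImplicit false
universe u

namespace Groth.Agent.Helper8.CplExact

open Submodule

variable {R : Type u} [CommRing R] [IsNoetherianRing R] (I : Ideal R)
  {M' M P : Type u} [AddCommGroup M'] [Module R M'] [AddCommGroup M] [Module R M]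
  [AddCommGroup P] [Module R P] [Module.Finite R P]

/-- Artin–Rees for the kernel of a surjection onto a finite module. -/
theorem exists_pow_inf_ker_le (g : M →ₗ[R] P) (hg : Function.Surjective g) :
    ∃ c : ℕ, ∀ n ≥ c, (I ^ n • ⊤ : Submodule R M) ⊓ LinearMap.ker g ≤
      I ^ (n - c) • LinearMap.ker g := by
  obtain ⟨m, p, hp⟩ := Module.Finite.exists_fin' R P
  obtain ⟨σ, hσ⟩ := Module.projective_lifting_property g p hg
  obtain ⟨c, hc⟩ := Ideal.exists_pow_inf_eq_pow_smul I (LinearMap.ker p)
  refine ⟨c, fun n hn x hx => ?_⟩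
  obtain ⟨hx1, hx2⟩ := hx
  have htop : (⊤ : Submodule R M) = LinearMap.range σ ⊔ LinearMap.ker g := by
    refine le_antisymm (fun z _ => ?_) le_top
    obtain ⟨y, hy⟩ := hp (g z)
    have hz : z - σ y ∈ LinearMap.ker g := by
      rw [LinearMap.mem_ker, map_sub, ← hy, ← hσ, LinearMap.comp_apply, sub_self]
    have : z = σ y + (z - σ y) := by abel
    rw [this]
    exact Submodule.add_mem _ (Submodule.mem_sup_left ⟨y, rfl⟩) (Submodule.mem_sup_right hz)
  rw [htop, Submodule.smul_sup] at hx1
  obtain ⟨a, ha, z, hz, rfl⟩ := Submodule.mem_sup.mp hx1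
  have hrange : (I ^ n • LinearMap.range σ : Submodule R M) =
      Submodule.map σ (I ^ n • ⊤ : Submodule R (Fin m → R)) := by
    rw [Submodule.map_smul'', Submodule.map_top]
  rw [hrange] at ha
  obtain ⟨y, hy, rfl⟩ := ha
  have hzk : z ∈ LinearMap.ker g := Submodule.smul_le_right hz
  have hyk : y ∈ LinearMap.ker p := by
    have h1 : σ y ∈ LinearMap.ker g := by
      have := Submodule.sub_mem _ hx2 hzk
      simpa using this
    rw [LinearMap.mem_ker] at h1 ⊢
    rw [← hσ, LinearMap.comp_apply, h1]
  have hy2 : y ∈ (I ^ (n - c) • LinearMap.ker p : Submodule R (Fin m → R)) := by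
    have h1 : y ∈ (I ^ n • ⊤ : Submodule R (Fin m → R)) ⊓ LinearMap.ker p := ⟨hy, hyk⟩
    rw [hc n hn] at h1
    exact (smul_mono_right _ inf_le_right : I ^ (n - c) • ((I ^ c • ⊤ : Submodule R (Fin m → R)) ⊓ LinearMap.ker p) ≤ _) h1
  refine Submodule.add_mem _ ?_ ?_
  · have hmap : Submodule.map σ (I ^ (n - c) • LinearMap.ker p) ≤ I ^ (n - c) • LinearMap.ker g := by
      rw [Submodule.map_smul'']
      refine smul_mono_right _ ?_
      rintro _ ⟨w, hw, rfl⟩
      rw [SetLike.mem_coe, LinearMap.mem_ker] at hw
      rw [LinearMap.mem_ker, ← LinearMap.comp_apply, hσ, hw]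
    exact hmap (Submodule.mem_map_of_mem hy2)
  · exact (Submodule.smul_mono_left (Ideal.pow_le_pow_right (Nat.sub_le n c))) hz

/-- Completion is exact at the middle term when the cokernel is finite. -/
theorem range_map_eq_ker_map (f : M' →ₗ[R] M) (g : M →ₗ[R] P) (hfg : Function.Exact f g)
    (hg : Function.Surjective g) :
    LinearMap.range (AdicCompletion.map I f) = LinearMap.ker (AdicCompletion.map I g) := by
  apply le_antisymm
  · rintro _ ⟨x, rfl⟩
    rw [LinearMap.mem_ker, ← LinearMap.comp_apply, AdicCompletion.map_comp,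
      hfg.linearMap_comp_eq_zero, AdicCompletion.map_zero, LinearMap.zero_apply]
  · intro ξ hξ
    rw [LinearMap.mem_ker] at hξ
    revert hξ
    apply AdicCompletion.induction_on I M ξ (fun a => ?_)
    intro hz
    obtain ⟨c, hc⟩ := exists_pow_inf_ker_le I g hg
    have ha (n : ℕ) : g (a n) ∈ (I ^ n • ⊤ : Submodule R P) := by
      simpa using congrArg (fun x ↦ x.val n) hz
    have hu : ∀ n, ∃ u : M, u ∈ (I ^ n • ⊤ : Submodule R M) ∧ g u = g (a n) := by
      intro n
      have h1 : g (a n) ∈ Submodule.map g (I ^ n • ⊤ : Submodule R M) := by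
        rw [Submodule.map_smul'', Submodule.map_top, LinearMap.range_eq_top.mpr hg]
        exact ha n
      obtain ⟨u, hu, hgu⟩ := h1
      exact ⟨u, hu, hgu⟩
    choose u hu1 hu2 using hu
    -- the corrected sequence in `ker g`
    let b : ℕ → M := fun n => a (n + c) - u (n + c)
    have hbk : ∀ n, b n ∈ LinearMap.ker g := by
      intro n
      rw [LinearMap.mem_ker, map_sub, hu2, sub_self]
    have haa : ∀ m n, m ≤ n → a n - a m ∈ (I ^ m • ⊤ : Submodule R M) := by
      intro m n hmn
      rw [← Submodule.Quotient.eq]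
      exact (AdicCompletion.AdicCauchySequence.mk_eq_mk hmn a)
    have hle : ∀ m n, m ≤ n → (I ^ n • ⊤ : Submodule R M) ≤ I ^ m • ⊤ := fun m n hmn =>
      Submodule.smul_mono_left (Ideal.pow_le_pow_right hmn)
    have hbd : ∀ n, b (n + 1) - b n ∈ (I ^ n • LinearMap.range f : Submodule R M) := by
      intro n
      have h1 : b (n + 1) - b n ∈ (I ^ (n + c) • ⊤ : Submodule R M) ⊓ LinearMap.ker g := by
        refine ⟨?_, Submodule.sub_mem _ (hbk _) (hbk _)⟩
        have : b (n + 1) - b n = (a (n + 1 + c) - a (n + c)) - u (n + 1 + c) + u (n + c) := by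
          simp only [b]; abel
        rw [this]
        refine Submodule.add_mem _ (Submodule.sub_mem _ (haa _ _ (by omega)) ?_) (hu1 _)
        exact hle _ _ (by omega) (hu1 _)
      have h2 := hc (n + c) (by omega) h1
      rw [Nat.add_sub_cancel] at h2
      rwa [LinearMap.exact_iff.mp hfg] at h2
    have he : ∀ n, ∃ e : M', e ∈ (I ^ n • ⊤ : Submodule R M') ∧ f e = b (n + 1) - b n := by
      intro n
      have h1 := hbd n
      rw [← Submodule.map_top, ← Submodule.map_smul''] at h1
      obtain ⟨e, he, hfe⟩ := h1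
      exact ⟨e, he, hfe⟩
    choose e he1 he2 using he
    obtain ⟨w0, hw0⟩ : ∃ w0, f w0 = b 0 := by
      have := hbk 0
      rw [LinearMap.exact_iff.mp hfg] at this
      exact this
    let w : ℕ → M' := fun n => w0 + ∑ i ∈ Finset.range n, e i
    have hfw : ∀ n, f (w n) = b n := by
      intro n
      simp only [w, map_add, map_sum, he2, hw0]
      rw [Finset.sum_range_sub]
      abel
    have hwc : ∀ n, w n ≡ w (n + 1) [SMOD (I ^ n • ⊤ : Submodule R M')] := by
      intro n
      apply SModEq.symm
      rw [SModEq.sub_mem]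
      have : w (n + 1) - w n = e n := by
        simp only [w, Finset.sum_range_succ]; abel
      rw [this]
      exact he1 n
    refine ⟨AdicCompletion.mk I M' (AdicCompletion.AdicCauchySequence.mk I M' w hwc), ?_⟩
    apply AdicCompletion.ext
    intro n
    rw [AdicCompletion.map_mk]
    simp only [AdicCompletion.mk_apply_coe, AdicCompletion.AdicCauchySequence.map_apply_coe,
      AdicCompletion.AdicCauchySequence.mk_coe]
    rw [hfw, Submodule.mkQ_apply, Submodule.mkQ_apply, Submodule.Quotient.eq]
    have : b n - a n = (a (n + c) - a n) - u (n + c) := by simp only [b]; abel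
    rw [this]
    exact Submodule.sub_mem _ (haa _ _ (by omega)) (hle _ _ (by omega) (hu1 _))

end Groth.Agent.Helper8.CplExact
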