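import Mathlib
import Groth.Prelude
import Groth.Agent.Lib.Helper8.MvPSLocal
import Groth.Agent.Lib.Helper8.GRing3

/-!
# Completed Kähler differentials of a power series ring over a field

The `𝔪`-adic completion of `Ω_{k[[T_1,…,T_r]]/k}` is free of rank `r`.
-/

set_option autoImplicit false
universe u

namespace Groth.Agent.Helper8.CplKaehler

open IsLocalRing

section split

variable {A : Type u} [CommRing A] (I : Ideal A) {M F : Type u} [AddCommGroup M] [Module A M]
  [AddCommGroup F] [Module A F]

/-- If `ψ ∘ φ` is congruent to the identity modulo every `I ^ n`, it induces the identity on the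
completion. -/
theorem map_eq_id_of_forall_sub_mem (g : M →ₗ[A] M)
    (h : ∀ (n : ℕ) (y : M), g y - y ∈ (I ^ n • ⊤ : Submodule A M)) :
    AdicCompletion.map I g = LinearMap.id := by
  apply LinearMap.ext
  intro x
  apply AdicCompletion.ext
  intro n
  rw [AdicCompletion.map_val_apply, LinearMap.id_apply]
  obtain ⟨y, hy⟩ := Submodule.Quotient.mk_surjective _ (x.val n)
  rw [← hy, LinearMap.reduceModIdeal_apply, Submodule.Quotient.eq]
  exact h n y

/-- A split surjection `φ : M → F` whose section `ψ` has dense image induces a bijection on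
completions. -/
theorem map_bijective_of_split (φ : M →ₗ[A] F) (ψ : F →ₗ[A] M) (h1 : φ ∘ₗ ψ = LinearMap.id)
    (h2 : ∀ n : ℕ, (⊤ : Submodule A M) ≤ LinearMap.range ψ ⊔ (I ^ n • ⊤ : Submodule A M)) :
    Function.Bijective (AdicCompletion.map I φ) := by
  have hg : ∀ (n : ℕ) (y : M), (ψ ∘ₗ φ) y - y ∈ (I ^ n • ⊤ : Submodule A M) := by
    intro n y
    have hy := h2 n (Submodule.mem_top (x := y))
    obtain ⟨a, ha, b, hb, rfl⟩ := Submodule.mem_sup.mp hy
    obtain ⟨v, rfl⟩ := ha
    have hφψ : φ (ψ v) = v := by
      have := LinearMap.congr_fun h1 v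
      simpa using this
    have : (ψ ∘ₗ φ) (ψ v + b) - (ψ v + b) = (ψ ∘ₗ φ) b - b := by
      simp only [LinearMap.comp_apply, map_add, hφψ]
      abel
    rw [this]
    refine Submodule.sub_mem _ ?_ hb
    have hle : Submodule.map (ψ ∘ₗ φ) (I ^ n • ⊤ : Submodule A M) ≤ I ^ n • ⊤ := by
      rw [Submodule.map_smul'']
      exact smul_mono_right _ le_top
    exact hle (Submodule.mem_map_of_mem hb)
  have e1 : (AdicCompletion.map I ψ) ∘ₗ (AdicCompletion.map I φ) = LinearMap.id := by
    rw [AdicCompletion.map_comp, map_eq_id_of_forall_sub_mem I _ hg]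
  have e2 : (AdicCompletion.map I φ) ∘ₗ (AdicCompletion.map I ψ) = LinearMap.id := by
    rw [AdicCompletion.map_comp, h1, AdicCompletion.map_id]
  refine ⟨?_, ?_⟩
  · intro x y hxy
    have := congrArg (AdicCompletion.map I ψ) hxy
    have hx := LinearMap.congr_fun e1 x
    have hy := LinearMap.congr_fun e1 y
    simp only [LinearMap.comp_apply, LinearMap.id_apply] at hx hy
    rw [← hx, ← hy, this]
  · intro y
    refine ⟨AdicCompletion.map I ψ y, ?_⟩
    have hy := LinearMap.congr_fun e2 y
    simpa using hy

end split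

end Groth.Agent.Helper8.CplKaehler
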