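import Mathlib
import Groth.Prelude
import Groth.Agent.Lib.Helper8.CplKaehler1

/-!
# Completed Kähler differentials of a power series ring over a field, II
-/

set_option autoImplicit false
universe u

namespace Groth.Agent.Helper8.CplKaehler

open IsLocalRing MvPowerSeries

section ps

variable (k : Type u) [Field k] (r : ℕ)

local notation "A" => MvPowerSeries (Fin r) k

/-- The map `Ω_{A/k} → A^r` given by the partial derivatives. -/
noncomputable def phi : Ω[A⁄k] →ₗ[A] (Fin r → A) :=
  LinearMap.pi (fun i => (MvPowerSeries.pderiv k i).liftKaehlerDifferential)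

/-- The map `A^r → Ω_{A/k}`, `e_i ↦ dT_i`. -/
noncomputable def psi : (Fin r → A) →ₗ[A] Ω[A⁄k] :=
  Fintype.linearCombination A (fun i => KaehlerDifferential.D k A (X i))

theorem phi_D (f : A) (i : Fin r) : phi k r (KaehlerDifferential.D k A f) i = pderiv k i f := by
  simp [phi]

theorem phi_comp_psi : phi k r ∘ₗ psi k r = LinearMap.id := by
  classical
  apply LinearMap.ext
  intro v
  funext i
  simp only [LinearMap.comp_apply, LinearMap.id_apply, psi, Fintype.linearCombination_apply,
    map_sum, map_smul, Finset.sum_apply, Pi.smul_apply, phi_D, smul_eq_mul]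
  rw [Finset.sum_eq_single i]
  · simp
  · intro j _ hji
    rw [pderiv_X_of_ne hji, mul_zero]
  · intro h
    exact absurd (Finset.mem_univ i) h

theorem D_mem (n : ℕ) : ∀ f : A, KaehlerDifferential.D k A f ∈
    LinearMap.range (psi k r) ⊔ (maximalIdeal A ^ n • ⊤ : Submodule A (Ω[A⁄k])) := by
  classical
  induction n with
  | zero =>
    intro f
    simp
  | succ n ih =>
    intro f
    have hf := mvPowerSeries_sub_C_mem_maximalIdeal (Fin r) k f
    rw [mvPowerSeries_maximalIdeal_eq (Fin r) k, Ideal.mem_span_range_iff_exists_fun] at hf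
    obtain ⟨g, hg⟩ := hf
    have hfe : f = C (constantCoeff f) + ∑ i, g i * X i := by
      rw [hg]; ring
    rw [hfe, map_add, map_sum]
    refine Submodule.add_mem _ ?_ (Submodule.sum_mem _ fun i _ => ?_)
    · have : (C (constantCoeff f) : A) = algebraMap k A (constantCoeff f) := rfl
      rw [this, Derivation.map_algebraMap]
      exact Submodule.zero_mem _
    · rw [Derivation.leibniz]
      refine Submodule.add_mem _ ?_ ?_
      · -- g i • D (X i) ∈ range ψ
        apply Submodule.mem_sup_left
        refine ⟨Pi.single i (g i), ?_⟩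
        simp [psi, Fintype.linearCombination_apply, Pi.single_apply]
      · obtain ⟨a, ha, b, hb, hab⟩ := Submodule.mem_sup.mp (ih (g i))
        rw [← hab, smul_add]
        refine Submodule.add_mem _ (Submodule.mem_sup_left ?_) (Submodule.mem_sup_right ?_)
        · exact Submodule.smul_mem _ _ ha
        · rw [pow_succ', mul_smul]
          refine Submodule.smul_mem_smul ?_ hb
          rw [mvPowerSeries_mem_maximalIdeal_iff (Fin r) k]
          simp

theorem top_le (n : ℕ) : (⊤ : Submodule A (Ω[A⁄k])) ≤
    LinearMap.range (psi k r) ⊔ (maximalIdeal A ^ n • ⊤ : Submodule A (Ω[A⁄k])) := by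
  have h : Submodule.span A (Set.range (KaehlerDifferential.D k A)) ≤
      LinearMap.range (psi k r) ⊔ (maximalIdeal A ^ n • ⊤ : Submodule A (Ω[A⁄k])) := by
    rw [Submodule.span_le]
    rintro _ ⟨f, rfl⟩
    exact D_mem k r n f
  rwa [KaehlerDifferential.span_range_derivation] at h

/-- The completed module of differentials of `k[[T_1, …, T_r]]` is `A^r`. -/
theorem nonempty_linearEquiv : Nonempty
    (AdicCompletion (maximalIdeal A) (Ω[A⁄k]) ≃ₗ[A] (Fin r → A)) := by
  have hb := map_bijective_of_split (maximalIdeal A) (phi k r) (psi k r) (phi_comp_psi k r)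
    (top_le k r)
  let e1 : AdicCompletion (maximalIdeal A) (Ω[A⁄k]) ≃ₗ[A]
      AdicCompletion (maximalIdeal A) (Fin r → A) :=
    LinearEquiv.ofBijective ((AdicCompletion.map (maximalIdeal A) (phi k r)).restrictScalars A) hb
  haveI : IsNoetherianRing A := inferInstance
  haveI : IsAdicComplete (maximalIdeal A) (Fin r → A) :=
    Groth.Agent.Helper8.GRing.isAdicComplete_of_finite A (maximalIdeal A) (Fin r → A)
  exact ⟨e1.trans (AdicCompletion.ofLinearEquiv (maximalIdeal A) (Fin r → A)).symm⟩

end ps

end Groth.Agent.Helper8.CplKaehler
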