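import Mathlib
import Groth.Prelude
import Groth.Agent.Lib.Helper8.CplKaehler2
import Groth.Agent.Lib.Helper8.CplExact1

/-!
# Completed Kähler differentials of a finite algebra over a power series ring: generators
-/

set_option autoImplicit false
universe u

namespace Groth.Agent.Helper8.CplKaehler

open IsLocalRing MvPowerSeries TensorProduct

section fin

variable (k : Type u) [Field k] (r : ℕ) (A : Type u) [CommRing A]
  [Algebra (MvPowerSeries (Fin r) k) A] [Algebra k A] [IsScalarTower k (MvPowerSeries (Fin r) k) A]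

local notation "A₀" => MvPowerSeries (Fin r) k

/-- The images of the variables. -/
noncomputable def T (j : Fin r) : A := algebraMap A₀ A (X j)

/-- `A^r → A ⊗ Ω_{A₀/k}`, `e_j ↦ 1 ⊗ dX_j`. -/
noncomputable def psiW : (Fin r → A) →ₗ[A] A ⊗[A₀] Ω[A₀⁄k] :=
  Fintype.linearCombination A (fun j => (1 : A) ⊗ₜ[A₀] KaehlerDifferential.D k A₀ (X j))

/-- `A^r → Ω_{A/k}`, `e_j ↦ dT_j`. -/
noncomputable def psiA : (Fin r → A) →ₗ[A] Ω[A⁄k] :=
  Fintype.linearCombination A (fun j => KaehlerDifferential.D k A (T k r A j))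

theorem mapBaseChange_comp_psiW :
    (KaehlerDifferential.mapBaseChange k A₀ A) ∘ₗ psiW k r A = psiA k r A := by
  apply LinearMap.ext
  intro v
  simp only [LinearMap.comp_apply, psiW, psiA, Fintype.linearCombination_apply, map_sum, map_smul,
    KaehlerDifferential.mapBaseChange_tmul, one_smul, KaehlerDifferential.map_D, T]

variable [IsLocalRing A] [IsLocalHom (algebraMap (MvPowerSeries (Fin r) k) A)]

theorem one_tmul_mem (ω : Ω[A₀⁄k]) : (1 : A) ⊗ₜ[A₀] ω ∈
    LinearMap.range (psiW k r A) ⊔ (maximalIdeal A • ⊤ : Submodule A (A ⊗[A₀] Ω[A₀⁄k])) := by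
  classical
  have h1 := top_le k r 1 (Submodule.mem_top (x := ω))
  obtain ⟨a, ha, b, hb, rfl⟩ := Submodule.mem_sup.mp h1
  rw [TensorProduct.tmul_add]
  refine Submodule.add_mem _ (Submodule.mem_sup_left ?_) (Submodule.mem_sup_right ?_)
  · obtain ⟨v, rfl⟩ := ha
    refine ⟨fun j => algebraMap A₀ A (v j), ?_⟩
    simp only [psiW, psi, Fintype.linearCombination_apply, TensorProduct.tmul_sum]
    refine Finset.sum_congr rfl fun j _ => ?_
    rw [TensorProduct.tmul_smul, TensorProduct.smul_tmul', TensorProduct.smul_tmul', smul_eq_mul,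
      mul_one, Algebra.smul_def, mul_one]
  · rw [pow_one] at hb
    refine Submodule.smul_induction_on hb (fun c hc η _ => ?_) (fun x y hx hy => ?_)
    · rw [TensorProduct.tmul_smul]
      have : c • ((1 : A) ⊗ₜ[A₀] η) = (algebraMap A₀ A c) • ((1 : A) ⊗ₜ[A₀] η) := by
        rw [algebraMap_smul]
      rw [this]
      refine Submodule.smul_mem_smul ?_ Submodule.mem_top
      have hc' : ¬ IsUnit c := hc
      intro hu
      exact hc' (IsLocalHom.map_nonunit c hu)
    · rw [TensorProduct.tmul_add]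
      exact Submodule.add_mem _ hx hy

theorem top_le_W : (⊤ : Submodule A (A ⊗[A₀] Ω[A₀⁄k])) ≤
    LinearMap.range (psiW k r A) ⊔ (maximalIdeal A • ⊤ : Submodule A (A ⊗[A₀] Ω[A₀⁄k])) := by
  intro x hx
  clear hx
  induction x using TensorProduct.induction_on with
  | zero => exact Submodule.zero_mem _
  | tmul a ω =>
    have : a ⊗ₜ[A₀] ω = a • ((1 : A) ⊗ₜ[A₀] ω) := by
      rw [TensorProduct.smul_tmul', smul_eq_mul, mul_one]
    rw [this]
    exact Submodule.smul_mem _ _ (one_tmul_mem k r A ω)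
  | add x y hx hy => exact Submodule.add_mem _ hx hy

theorem mkQ_comp_psiW_surjective : Function.Surjective
    ((maximalIdeal A • ⊤ : Submodule A (A ⊗[A₀] Ω[A₀⁄k])).mkQ ∘ₗ psiW k r A) := by
  intro y
  obtain ⟨x, rfl⟩ := Submodule.mkQ_surjective _ y
  obtain ⟨a, ha, b, hb, rfl⟩ := Submodule.mem_sup.mp (top_le_W k r A (Submodule.mem_top (x := x)))
  obtain ⟨v, rfl⟩ := ha
  refine ⟨v, ?_⟩
  rw [LinearMap.comp_apply, map_add, Submodule.mkQ_apply _ b, (Submodule.Quotient.mk_eq_zero _).mpr hb, add_zero]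

end fin

end Groth.Agent.Helper8.CplKaehler
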