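import Mathlib
import Groth.Prelude
import Groth.Agent.Lib.Helper8.CplKaehler3

/-!
# Completed Kähler differentials of a finite separable algebra over a power series ring:
the differentials `dT_j` generate generically
-/

set_option autoImplicit false
universe u

namespace Groth.Agent.Helper8.CplKaehler

open IsLocalRing MvPowerSeries TensorProduct Polynomial

section torsion

/-- A finite module over a domain spanned by torsion elements is killed by a nonzero element. -/
theorem exists_ne_zero_forall_smul_eq_zero {A M : Type*} [CommRing A] [IsDomain A]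
    [AddCommGroup M] [Module A M] [Module.Finite A M] (S : Set M)
    (hS : Submodule.span A S = ⊤) (h : ∀ x ∈ S, ∃ s : A, s ≠ 0 ∧ s • x = 0) :
    ∃ s : A, s ≠ 0 ∧ ∀ x : M, s • x = 0 := by
  classical
  have htor : Submodule.torsion A M = ⊤ := by
    rw [eq_top_iff, ← hS, Submodule.span_le]
    intro x hx
    obtain ⟨s, hs, hsx⟩ := h x hx
    exact ⟨⟨s, mem_nonZeroDivisors_of_ne_zero hs⟩, hsx⟩
  obtain ⟨G, hG⟩ := (Module.Finite.fg_top : (⊤ : Submodule A M).FG)
  have hG' : ∀ g ∈ G, ∃ a : nonZeroDivisors A, a • g = 0 := by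
    intro g _
    have : g ∈ Submodule.torsion A M := by rw [htor]; trivial
    exact this
  choose! a ha using hG'
  refine ⟨∏ g ∈ G, (a g : A), ?_, ?_⟩
  · rw [Finset.prod_ne_zero_iff]
    intro g _
    exact nonZeroDivisors.coe_ne_zero (a g)
  · intro x
    have hx : x ∈ Submodule.span A (G : Set M) := by rw [hG]; trivial
    induction hx using Submodule.span_induction with
    | mem g hg =>
      rw [← Finset.mul_prod_erase G _ hg, mul_comm, mul_smul]
      have : (a g : A) • g = 0 := ha g hg
      rw [this, smul_zero]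
    | zero => simp
    | add x y _ _ hx hy => rw [smul_add, hx, hy, add_zero]
    | smul c x _ hx => rw [smul_comm, hx, smul_zero]

/-- A root of a polynomial which is separable over the fraction field has a torsion
differential. -/
theorem exists_ne_zero_smul_D_eq_zero {A₀ A : Type*} [CommRing A₀] [IsDomain A₀] [CommRing A]
    [IsDomain A] [Algebra A₀ A] (hinj : Function.Injective (algebraMap A₀ A)) (a : A)
    (P : A₀[X]) (hP : Polynomial.aeval a P = 0)
    (hsep : (P.map (algebraMap A₀ (FractionRing A₀))).Separable) :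
    ∃ s : A, s ≠ 0 ∧ s • KaehlerDifferential.D A₀ A a = 0 := by
  refine ⟨Polynomial.aeval a (Polynomial.derivative P), ?_, ?_⟩
  · intro h0
    have hcomp : algebraMap A₀ (FractionRing A) =
        (algebraMap A (FractionRing A)).comp (algebraMap A₀ A) :=
      IsScalarTower.algebraMap_eq A₀ A (FractionRing A)
    have hinjE : Function.Injective (algebraMap A₀ (FractionRing A)) := by
      rw [hcomp]
      exact (IsFractionRing.injective A (FractionRing A)).comp hinj
    obtain ⟨ι, hι'⟩ : ∃ ι : FractionRing A₀ →+* FractionRing A,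
        ∀ x, ι (algebraMap A₀ (FractionRing A₀) x) = algebraMap A₀ (FractionRing A) x :=
      ⟨IsFractionRing.lift hinjE, fun x => IsFractionRing.lift_algebraMap hinjE x⟩
    have hι : ι.comp (algebraMap A₀ (FractionRing A₀)) = algebraMap A₀ (FractionRing A) := by
      ext x
      exact hι' x
    obtain ⟨u, v, huv⟩ := hsep
    have h1 := congrArg (Polynomial.eval₂ ι (algebraMap A (FractionRing A) a)) huv
    rw [Polynomial.eval₂_add, Polynomial.eval₂_mul, Polynomial.eval₂_mul, Polynomial.eval₂_one,
      Polynomial.derivative_map, Polynomial.eval₂_map, Polynomial.eval₂_map, hι] at h1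
    have e1 : Polynomial.eval₂ (algebraMap A₀ (FractionRing A)) (algebraMap A (FractionRing A) a) P
        = 0 := by
      rw [← Polynomial.aeval_def, Polynomial.aeval_algebraMap_apply, hP, map_zero]
    have e2 : Polynomial.eval₂ (algebraMap A₀ (FractionRing A)) (algebraMap A (FractionRing A) a)
        (Polynomial.derivative P) = 0 := by
      rw [← Polynomial.aeval_def, Polynomial.aeval_algebraMap_apply, h0, map_zero]
    rw [e1, e2, mul_zero, mul_zero, add_zero] at h1
    exact zero_ne_one h1
  · have h1 := Derivation.map_aeval (KaehlerDifferential.D A₀ A) P a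
    rw [hP, map_zero] at h1
    exact h1.symm

end torsion

section gen

variable (k : Type u) [Field k] (r : ℕ) (A : Type u) [CommRing A]
  [Algebra (MvPowerSeries (Fin r) k) A] [Algebra k A] [IsScalarTower k (MvPowerSeries (Fin r) k) A]
  [IsLocalRing A] [IsNoetherianRing A] [IsAdicComplete (maximalIdeal A) A]
  [Module.Finite (MvPowerSeries (Fin r) k) A]

local notation "A₀" => MvPowerSeries (Fin r) k

/-- The elements `dT_j` of the completed module of differentials. -/
noncomputable def dT (j : Fin r) : AdicCompletion (maximalIdeal A) (Ω[A⁄k]) :=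
  AdicCompletion.of (maximalIdeal A) (Ω[A⁄k]) (KaehlerDifferential.D k A (T k r A j))

theorem mem_span_of_mem_ker [IsLocalHom (algebraMap (MvPowerSeries (Fin r) k) A)]
    (ξ : AdicCompletion (maximalIdeal A) (Ω[A⁄k]))
    (hξ : AdicCompletion.map (maximalIdeal A) (KaehlerDifferential.map k A₀ A A) ξ = 0) :
    ∃ v : Fin r → A, ξ = ∑ j, v j • dT k r A j := by
  haveI : Algebra.FiniteType A₀ A := inferInstance
  haveI : Module.Finite A (Ω[A⁄A₀]) := inferInstance
  have hex := Groth.Agent.Helper8.CplExact.range_map_eq_ker_map (maximalIdeal A)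
    (KaehlerDifferential.mapBaseChange k A₀ A) (KaehlerDifferential.map k A₀ A A)
    (KaehlerDifferential.exact_mapBaseChange_map k A₀ A) (KaehlerDifferential.map_surjective k A₀ A)
  have h1 : ξ ∈ LinearMap.range (AdicCompletion.map (maximalIdeal A)
      (KaehlerDifferential.mapBaseChange k A₀ A)) := by
    rw [hex]; exact hξ
  obtain ⟨w, rfl⟩ := h1
  obtain ⟨z, rfl⟩ := AdicCompletion.map_surjective_of_mkQ_comp_surjective
    (mkQ_comp_psiW_surjective k r A) w
  haveI : IsAdicComplete (maximalIdeal A) (Fin r → A) :=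
    Groth.Agent.Helper8.GRing.isAdicComplete_of_finite A (maximalIdeal A) (Fin r → A)
  obtain ⟨v, rfl⟩ := AdicCompletion.of_surjective (maximalIdeal A) (Fin r → A) z
  refine ⟨v, ?_⟩
  rw [AdicCompletion.map_of, AdicCompletion.map_of]
  have h2 : (KaehlerDifferential.mapBaseChange k A₀ A) ((psiW k r A) v) = psiA k r A v := by
    rw [← LinearMap.comp_apply, mapBaseChange_comp_psiW]
  rw [h2]
  simp only [psiA, Fintype.linearCombination_apply, map_sum, map_smul, dT]

/-- A scalar killing a module kills its completion. -/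
theorem smul_adicCompletion_eq_zero {R M : Type*} [CommRing R] (I : Ideal R) [AddCommGroup M]
    [Module R M] (s : R) (hs : ∀ x : M, s • x = 0) (ζ : AdicCompletion I M) : s • ζ = 0 := by
  apply AdicCompletion.ext
  intro n
  rw [AdicCompletion.val_smul_apply, AdicCompletion.val_zero_apply]
  obtain ⟨y, hy⟩ := Submodule.Quotient.mk_surjective _ (ζ.val n)
  rw [← hy, ← Submodule.Quotient.mk_smul, hs, Submodule.Quotient.mk_zero]

theorem exists_smul_eq_sum [IsDomain A]
    (hinj : Function.Injective (algebraMap (MvPowerSeries (Fin r) k) A))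
    (hsep : ∀ a : A, ∃ P : Polynomial (MvPowerSeries (Fin r) k), Polynomial.aeval a P = 0 ∧
      (P.map (algebraMap (MvPowerSeries (Fin r) k)
        (FractionRing (MvPowerSeries (Fin r) k)))).Separable)
    (ξ : AdicCompletion (maximalIdeal A) (Ω[A⁄k])) :
    ∃ s : A, s ≠ 0 ∧ ∃ v : Fin r → A, s • ξ = ∑ j, v j • dT k r A j := by
  haveI : FaithfulSMul A₀ A := (faithfulSMul_iff_algebraMap_injective A₀ A).mpr hinj
  haveI : IsLocalHom (algebraMap A₀ A) := Algebra.IsIntegral.isLocalHom A₀ A
  haveI : IsDomain A₀ := NoZeroDivisors.to_isDomain _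
  haveI : Algebra.FiniteType A₀ A := inferInstance
  haveI : Module.Finite A (Ω[A⁄A₀]) := inferInstance
  obtain ⟨s, hs0, hs⟩ := exists_ne_zero_forall_smul_eq_zero (A := A) (M := Ω[A⁄A₀])
    (Set.range (KaehlerDifferential.D A₀ A)) (KaehlerDifferential.span_range_derivation A₀ A)
    (by
      rintro _ ⟨a, rfl⟩
      obtain ⟨P, hP, hsep'⟩ := hsep a
      exact exists_ne_zero_smul_D_eq_zero hinj a P hP hsep')
  refine ⟨s, hs0, mem_span_of_mem_ker k r A (s • ξ) ?_⟩
  rw [LinearMap.map_smul_of_tower]
  exact smul_adicCompletion_eq_zero _ s hs _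

end gen

end Groth.Agent.Helper8.CplKaehler
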