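import Mathlib
import Groth.Prelude
import Groth.Agent.Lib.Helper8.CplKaehler4

/-!
# Extending derivations along formally étale maps; separable fraction field extensions
-/

set_option autoImplicit false
universe u

namespace Groth.Agent.Helper8.CplKaehler

open IsLocalRing TensorProduct Polynomial

section ext

variable (k A₀ E : Type*) [CommRing k] [CommRing A₀] [CommRing E] [Algebra k A₀] [Algebra k E]
  [Algebra A₀ E] [IsScalarTower k A₀ E] [Algebra.FormallyEtale A₀ E]

/-- The `E`-linear functional on `Ω_{E/k}` extending a derivation of `A₀`. -/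
noncomputable def extFunctional (δ : Derivation k A₀ A₀) : Ω[E⁄k] →ₗ[E] E :=
  (LinearMap.liftBaseChange E ((Algebra.linearMap A₀ E) ∘ₗ δ.liftKaehlerDifferential)) ∘ₗ
    (KaehlerDifferential.tensorKaehlerEquivOfFormallyEtale k A₀ E).symm.toLinearMap

theorem extFunctional_D_algebraMap (δ : Derivation k A₀ A₀) (c : A₀) :
    extFunctional k A₀ E δ (KaehlerDifferential.D k E (algebraMap A₀ E c)) =
      algebraMap A₀ E (δ c) := by
  simp only [extFunctional, LinearMap.comp_apply, LinearEquiv.coe_coe,
    KaehlerDifferential.tensorKaehlerEquivOfFormallyEtale_symm_D_algebraMap,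
    LinearMap.liftBaseChange_tmul, Derivation.liftKaehlerDifferential_comp_D, one_smul,
    Algebra.linearMap_apply]

end ext

section frac

variable (A₀ A : Type u) [CommRing A₀] [IsDomain A₀] [CommRing A] [IsDomain A] [Algebra A₀ A]

attribute [local instance] FractionRing.liftAlgebra

theorem formallyEtale_fractionRing (hinj : Function.Injective (algebraMap A₀ A))
    (hsep : ∀ a : A, ∃ P : Polynomial A₀, Polynomial.aeval a P = 0 ∧
      (P.map (algebraMap A₀ (FractionRing A₀))).Separable) :
    Algebra.FormallyEtale A₀ (FractionRing A) := by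
  haveI : FaithfulSMul A₀ A := (faithfulSMul_iff_algebraMap_injective A₀ A).mpr hinj
  haveI : FaithfulSMul A₀ (FractionRing A) := inferInstance
  haveI : IsScalarTower A₀ (FractionRing A₀) (FractionRing A) :=
    FractionRing.isScalarTower_liftAlgebra A₀ (FractionRing A)
  have hA : ∀ a : A, IsSeparable (FractionRing A₀) (algebraMap A (FractionRing A) a) := by
    intro a
    obtain ⟨P, hP, hs⟩ := hsep a
    refine Polynomial.Separable.of_dvd hs (minpoly.dvd _ _ ?_)
    rw [Polynomial.aeval_map_algebraMap, Polynomial.aeval_algebraMap_apply, hP, map_zero]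
  haveI : Algebra.IsSeparable (FractionRing A₀) (FractionRing A) := by
    refine ⟨fun x => ?_⟩
    obtain ⟨a, b, -, rfl⟩ := IsFractionRing.div_surjective (A := A) x
    rw [← mem_separableClosure_iff]
    exact div_mem (mem_separableClosure_iff.mpr (hA a)) (mem_separableClosure_iff.mpr (hA b))
  haveI : Algebra.FormallyEtale (FractionRing A₀) (FractionRing A) :=
    Algebra.FormallyEtale.of_isSeparable _ _
  haveI : Algebra.FormallyEtale A₀ (FractionRing A₀) :=
    Algebra.FormallyEtale.of_isLocalization (nonZeroDivisors A₀)
  exact Algebra.FormallyEtale.comp A₀ (FractionRing A₀) (FractionRing A)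

end frac

end Groth.Agent.Helper8.CplKaehler
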