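import Mathlib
import Groth.Prelude
import Groth.Agent.Lib.Helper8.CplKaehler5

/-!
# Completed Kähler differentials of a finite separable algebra over a power series ring:
the differentials `dT_j` are generically independent
-/

set_option autoImplicit false
universe u

namespace Groth.Agent.Helper8.CplKaehler

open IsLocalRing MvPowerSeries TensorProduct

section indep

variable (k : Type u) [Field k] (r : ℕ) (A : Type u) [CommRing A] [IsDomain A]
  [Algebra (MvPowerSeries (Fin r) k) A] [Algebra k A] [IsScalarTower k (MvPowerSeries (Fin r) k) A]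

local notation "A₀" => MvPowerSeries (Fin r) k
local notation "E" => FractionRing A

instance : IsScalarTower k (MvPowerSeries (Fin r) k) (FractionRing A) :=
  IsScalarTower.of_algebraMap_eq fun x => by
    rw [IsScalarTower.algebraMap_apply k A (FractionRing A),
      IsScalarTower.algebraMap_apply k (MvPowerSeries (Fin r) k) A,
      ← IsScalarTower.algebraMap_apply (MvPowerSeries (Fin r) k) A (FractionRing A)]

variable [Algebra.FormallyEtale (MvPowerSeries (Fin r) k) (FractionRing A)]

/-- The functional on `Ω_{A/k}` with values in the fraction field extending `∂/∂T_i`. -/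
noncomputable def Phi (i : Fin r) : Ω[A⁄k] →ₗ[A] E :=
  ((extFunctional k A₀ E (MvPowerSeries.pderiv k i)).restrictScalars A) ∘ₗ
    (KaehlerDifferential.map k k A E)

theorem Phi_D (i : Fin r) (a : A) : Phi k r A i (KaehlerDifferential.D k A a) =
    extFunctional k A₀ E (MvPowerSeries.pderiv k i) (KaehlerDifferential.D k E (algebraMap A E a)) := by
  simp [Phi]

theorem Phi_D_algebraMap (i : Fin r) (c : A₀) :
    Phi k r A i (KaehlerDifferential.D k A (algebraMap A₀ A c)) =
      algebraMap A E (algebraMap A₀ A (MvPowerSeries.pderiv k i c)) := by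
  rw [Phi_D, ← IsScalarTower.algebraMap_apply A₀ A E, extFunctional_D_algebraMap,
    ← IsScalarTower.algebraMap_apply A₀ A E]

theorem exists_denominator [Module.Finite (MvPowerSeries (Fin r) k) A] :
    ∃ d : A, d ≠ 0 ∧ ∀ (i : Fin r) (ω : Ω[A⁄k]),
      d • Phi k r A i ω ∈ LinearMap.range (Algebra.linearMap A E) := by
  classical
  obtain ⟨G, hG⟩ := (Module.Finite.fg_top : (⊤ : Submodule A₀ A).FG)
  let S : Finset E := (Finset.univ ×ˢ G).image
    (fun p : Fin r × A => Phi k r A p.1 (KaehlerDifferential.D k A p.2))
  obtain ⟨d, hd⟩ := IsLocalization.exist_integer_multiples_of_finset (nonZeroDivisors A) S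
  refine ⟨d, nonZeroDivisors.coe_ne_zero d, ?_⟩
  intro i ω
  have key : ∀ a : A, (d : A) • Phi k r A i (KaehlerDifferential.D k A a) ∈
      LinearMap.range (Algebra.linearMap A E) := by
    intro a
    have ha : a ∈ Submodule.span A₀ (G : Set A) := by rw [hG]; trivial
    induction ha using Submodule.span_induction with
    | mem b hb =>
      have h1 := hd (Phi k r A i (KaehlerDifferential.D k A b))
        (Finset.mem_image.mpr ⟨(i, b), by simpa using hb, rfl⟩)
      obtain ⟨w, hw⟩ := h1
      refine ⟨w, ?_⟩
      rw [Algebra.linearMap_apply, hw]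
    | zero => simp
    | add x y _ _ hx hy =>
      rw [map_add, map_add, smul_add]
      exact add_mem hx hy
    | smul c x _ hx =>
      have hcx : c • x = algebraMap A₀ A c * x := Algebra.smul_def c x
      rw [hcx, Derivation.leibniz, map_add, map_smul, map_smul, smul_add,
        Phi_D_algebraMap, smul_comm (d : A), smul_comm (d : A)]
      refine add_mem (Submodule.smul_mem _ _ hx) (Submodule.smul_mem _ _ ?_)
      refine Submodule.smul_mem _ _ ⟨_, rfl⟩
  have hω : ω ∈ Submodule.span A (Set.range (KaehlerDifferential.D k A)) := by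
    rw [KaehlerDifferential.span_range_derivation]; trivial
  induction hω using Submodule.span_induction with
  | mem x hx =>
    obtain ⟨a, rfl⟩ := hx
    exact key a
  | zero => simp
  | add x y _ _ hx hy =>
    rw [map_add, smul_add]
    exact add_mem hx hy
  | smul c x _ hx =>
    rw [map_smul, smul_comm]
    exact Submodule.smul_mem _ _ hx

theorem Phi_D_T (i j : Fin r) : Phi k r A i (KaehlerDifferential.D k A (T k r A j)) =
    if j = i then 1 else 0 := by
  rw [T, Phi_D_algebraMap]
  split_ifs with h
  · subst h
    rw [MvPowerSeries.pderiv_X_self, map_one, map_one]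
  · rw [MvPowerSeries.pderiv_X_of_ne h, map_zero, map_zero]

theorem eq_zero_of_sum_smul_dT_eq_zero [IsLocalRing A] [IsNoetherianRing A]
    [Module.Finite (MvPowerSeries (Fin r) k) A] (c : Fin r → A)
    (h : ∑ j, c j • dT k r A j = 0) : c = 0 := by
  classical
  obtain ⟨d, hd0, hd⟩ := exists_denominator k r A
  set ω : Ω[A⁄k] := ∑ j, c j • KaehlerDifferential.D k A (T k r A j) with hω
  have hof : AdicCompletion.of (maximalIdeal A) (Ω[A⁄k]) ω = 0 := by
    rw [hω, map_sum]
    simpa only [dT, map_smul] using h
  have hmem : ∀ n : ℕ, ω ∈ (maximalIdeal A ^ n • ⊤ : Submodule A (Ω[A⁄k])) := by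
    intro n
    have h1 := congrArg (fun x => x.val n) hof
    simp only [AdicCompletion.of_apply, AdicCompletion.val_zero_apply] at h1
    exact (Submodule.Quotient.mk_eq_zero _).mp h1
  funext i
  have hPhi : Phi k r A i ω = algebraMap A E (c i) := by
    rw [hω, map_sum]
    simp only [map_smul, Phi_D_T]
    rw [Finset.sum_eq_single i]
    · rw [if_pos rfl, Algebra.smul_def, mul_one]
    · intro j _ hji
      rw [if_neg hji, smul_zero]
    · intro hi
      exact absurd (Finset.mem_univ i) hi
  have hdc : ∀ n : ℕ, d * c i ∈ maximalIdeal A ^ n := by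
    intro n
    let L : Ω[A⁄k] →ₗ[A] E := d • Phi k r A i
    have h1 : L ω ∈ Submodule.map L (maximalIdeal A ^ n • ⊤ : Submodule A (Ω[A⁄k])) :=
      Submodule.mem_map_of_mem (hmem n)
    have h2 : Submodule.map L (maximalIdeal A ^ n • ⊤ : Submodule A (Ω[A⁄k])) ≤
        Submodule.map (Algebra.linearMap A E) (maximalIdeal A ^ n • ⊤ : Submodule A A) := by
      rw [Submodule.map_smul'', Submodule.map_smul'', Submodule.map_top, Submodule.map_top]
      refine smul_mono_right _ ?_
      rintro _ ⟨x, rfl⟩
      exact hd i x
    obtain ⟨y, hy, hyL⟩ := h2 h1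
    have hy' : y ∈ maximalIdeal A ^ n := by
      have : (maximalIdeal A ^ n • ⊤ : Submodule A A) = maximalIdeal A ^ n := by
        rw [Ideal.smul_top_eq_map]
        simp
      rw [this] at hy
      exact hy
    have : y = d * c i := by
      apply IsFractionRing.injective A E
      rw [← Algebra.linearMap_apply, hyL]
      show d • Phi k r A i ω = _
      rw [hPhi, Algebra.smul_def, map_mul]
    rw [← this]
    exact hy'
  have h0 : d * c i ∈ (⨅ n : ℕ, maximalIdeal A ^ n) := by
    rw [Ideal.mem_iInf]
    exact hdc
  rw [Ideal.iInf_pow_eq_bot_of_isLocalRing _ (Ideal.IsPrime.ne_top inferInstance)] at h0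
  rcases mul_eq_zero.mp h0 with h | h
  · exact absurd h hd0
  · exact h

end indep

end Groth.Agent.Helper8.CplKaehler
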