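import Mathlib
import Groth.Prelude
import Groth.Agent.Lib.Helper8.CplKaehler6

/-!
# Generic rank of the completed module of differentials of a finite separable algebra over a
power series ring
-/

set_option autoImplicit false
universe u

namespace Groth.Agent.Helper8.CplKaehler

open IsLocalRing MvPowerSeries TensorProduct

theorem finrank_tensor_eq (k : Type u) [Field k] (r : ℕ) (A : Type u) [CommRing A]
    [IsDomain A] [IsLocalRing A] [IsNoetherianRing A] [IsAdicComplete (maximalIdeal A) A]
    [Algebra (MvPowerSeries (Fin r) k) A] [Algebra k A] [IsScalarTower k (MvPowerSeries (Fin r) k) A]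
    (hinj : Function.Injective (algebraMap (MvPowerSeries (Fin r) k) A))
    [Module.Finite (MvPowerSeries (Fin r) k) A]
    (hsep : ∀ a : A, ∃ P : Polynomial (MvPowerSeries (Fin r) k), Polynomial.aeval a P = 0 ∧
      (P.map (algebraMap (MvPowerSeries (Fin r) k)
        (FractionRing (MvPowerSeries (Fin r) k)))).Separable) :
    Module.finrank (FractionRing A)
      (FractionRing A ⊗[A] AdicCompletion (maximalIdeal A) (Ω[A⁄k])) = r := by
  classical
  haveI : IsDomain (MvPowerSeries (Fin r) k) := NoZeroDivisors.to_isDomain _
  haveI : Algebra.FormallyEtale (MvPowerSeries (Fin r) k) (FractionRing A) :=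
    formallyEtale_fractionRing (MvPowerSeries (Fin r) k) A hinj hsep
  let M := AdicCompletion (maximalIdeal A) (Ω[A⁄k])
  let b : Fin r → FractionRing A ⊗[A] M := fun j => (1 : FractionRing A) ⊗ₜ[A] dT k r A j
  have hmk : ∀ (a : A) (y : M), (TensorProduct.mk A (FractionRing A) M 1) (a • y) =
      algebraMap A (FractionRing A) a • ((1 : FractionRing A) ⊗ₜ[A] y) := by
    intro a y
    rw [map_smul, algebraMap_smul]
    rfl
  have hli : LinearIndependent (FractionRing A) b := by
    rw [Fintype.linearIndependent_iff]
    intro g hg j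
    obtain ⟨s, hs⟩ := IsLocalization.exist_integer_multiples (nonZeroDivisors A) Finset.univ g
    have hs' : ∀ i, ∃ c : A, algebraMap A (FractionRing A) c = (s : A) • g i :=
      fun i => hs i (Finset.mem_univ i)
    choose c hc using hs'
    have h1 : (TensorProduct.mk A (FractionRing A) M 1) (∑ j, c j • dT k r A j) = 0 := by
      rw [map_sum]
      have : ∀ j, (TensorProduct.mk A (FractionRing A) M 1) (c j • dT k r A j) =
          (s : A) • (g j • b j) := by
        intro j
        rw [hmk, hc, smul_assoc]
      simp only [this]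
      rw [← Finset.smul_sum, hg, smul_zero]
    obtain ⟨t, ht⟩ := (IsLocalizedModule.eq_zero_iff (nonZeroDivisors A)
      (TensorProduct.mk A (FractionRing A) M 1)).mp h1
    have h2 : ∑ j, ((t : A) * c j) • dT k r A j = 0 := by
      rw [← ht, Submonoid.smul_def, Finset.smul_sum]
      simp only [mul_smul]
    have h3 := congrFun (eq_zero_of_sum_smul_dT_eq_zero k r A (fun j => (t : A) * c j) h2) j
    have hcj : c j = 0 := by
      rcases mul_eq_zero.mp h3 with h | h
      · exact absurd h (nonZeroDivisors.coe_ne_zero t)
      · exact h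
    have h4 := hc j
    rw [hcj, map_zero, Algebra.smul_def] at h4
    rcases mul_eq_zero.mp h4.symm with h | h
    · exact absurd ((map_eq_zero_iff _ (IsFractionRing.injective A (FractionRing A))).mp h)
        (nonZeroDivisors.coe_ne_zero s)
    · exact h
  have hsp : ⊤ ≤ Submodule.span (FractionRing A) (Set.range b) := by
    intro x _
    obtain ⟨⟨ξ, t⟩, hx⟩ := IsLocalizedModule.surj (nonZeroDivisors A)
      (TensorProduct.mk A (FractionRing A) M 1) x
    obtain ⟨s, hs0, v, hv⟩ := exists_smul_eq_sum k r A hinj hsep ξ
    have hst : algebraMap A (FractionRing A) (s * (t : A)) ≠ 0 := by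
      rw [Ne, map_eq_zero_iff _ (IsFractionRing.injective A (FractionRing A))]
      exact mul_ne_zero hs0 (nonZeroDivisors.coe_ne_zero t)
    have h1 : algebraMap A (FractionRing A) (s * (t : A)) • x =
        ∑ j, algebraMap A (FractionRing A) (v j) • b j := by
      have hx' : (t : A) • x = (TensorProduct.mk A (FractionRing A) M 1) ξ := hx
      rw [algebraMap_smul, mul_smul, hx', ← map_smul, hv, map_sum]
      refine Finset.sum_congr rfl fun j _ => ?_
      rw [hmk]
    have h2 : x = (algebraMap A (FractionRing A) (s * (t : A)))⁻¹ •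
        ∑ j, algebraMap A (FractionRing A) (v j) • b j := by
      rw [← h1, smul_smul, inv_mul_cancel₀ hst, one_smul]
    rw [h2]
    exact Submodule.smul_mem _ _ (Submodule.sum_mem _ fun j _ =>
      Submodule.smul_mem _ _ (Submodule.subset_span ⟨j, rfl⟩))
  rw [Module.finrank_eq_card_basis (Module.Basis.mk hli hsp), Fintype.card_fin]

end Groth.Agent.Helper8.CplKaehler
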