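import Mathlib
import Groth.Prelude

/-!
# Finiteness of completed modules of differentials
-/

set_option autoImplicit false
universe u

namespace Groth.Agent.Helper8.CplKaehler

open TensorProduct

/-- If `M / I M` is finite over `R` then the completion of `M` is finite over the completion of
`R`. -/
theorem finite_adicCompletion_of_finite_quotient {R : Type u} [CommRing R] (I : Ideal R)
    (M : Type u) [AddCommGroup M] [Module R M]
    [Module.Finite R (M ⧸ (I • ⊤ : Submodule R M))] :
    Module.Finite (AdicCompletion I R) (AdicCompletion I M) := by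
  classical
  obtain ⟨s, g, hg⟩ := Module.Finite.exists_fin' R (M ⧸ (I • ⊤ : Submodule R M))
  obtain ⟨f, hf⟩ := Module.projective_lifting_property (I • ⊤ : Submodule R M).mkQ g
    (Submodule.mkQ_surjective _)
  have hsurj : Function.Surjective ((I • ⊤ : Submodule R M).mkQ ∘ₗ f) := by
    rw [hf]; exact hg
  have h2 := AdicCompletion.map_surjective_of_mkQ_comp_surjective hsurj
  haveI : Module.Finite (AdicCompletion I R) (AdicCompletion I (Fin s → R)) :=
    Module.Finite.equiv (AdicCompletion.piEquivFin I s).symm
  exact Module.Finite.of_surjective (AdicCompletion.map I f) h2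

/-- A module finite over the completion of a complete ring is finite over the ring. -/
theorem finite_of_finite_adicCompletion {R : Type u} [CommRing R] (I : Ideal R)
    [IsAdicComplete I R] (N : Type u) [AddCommGroup N] [Module R N] [Module (AdicCompletion I R) N]
    [IsScalarTower R (AdicCompletion I R) N] [Module.Finite (AdicCompletion I R) N] :
    Module.Finite R N := by
  obtain ⟨G, hG⟩ := (Module.Finite.fg_top : (⊤ : Submodule (AdicCompletion I R) N).FG)
  refine ⟨⟨G, ?_⟩⟩
  rw [eq_top_iff]
  intro x _
  have hx : x ∈ Submodule.span (AdicCompletion I R) (G : Set N) := by rw [hG]; trivial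
  induction hx using Submodule.span_induction with
  | mem y hy => exact Submodule.subset_span hy
  | zero => exact Submodule.zero_mem _
  | add y z _ _ hy hz => exact Submodule.add_mem _ (hy trivial) (hz trivial)
  | smul c y _ hy =>
    obtain ⟨b, rfl⟩ := AdicCompletion.of_surjective I R c
    have : (AdicCompletion.of I R b) • y = b • y := by
      rw [← algebraMap_smul (AdicCompletion I R) b y]
      rfl
    rw [this]
    exact Submodule.smul_mem _ _ (hy trivial)

theorem finite_cotangent_congr {B : Type u} [CommRing B] (I J : Ideal B) (h : I = J)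
    (hfin : Module.Finite B J.Cotangent) : Module.Finite B I.Cotangent := by
  subst h; exact hfin

theorem finite_completedKaehler {A B : Type u} [CommRing A] [CommRing B] [Algebra A B]
    (𝔫 : Ideal B) [IsAdicComplete 𝔫 B] [Module.Finite (B ⧸ 𝔫) (Ω[B ⧸ 𝔫⁄A])]
    [Module.Finite (B ⧸ 𝔫) 𝔫.Cotangent] :
    Module.Finite B (AdicCompletion 𝔫 (Ω[B⁄A])) := by
  haveI h1 : Module.Finite B 𝔫.Cotangent := Module.Finite.trans (B ⧸ 𝔫) 𝔫.Cotangent
  haveI h2 : Module.Finite B (Ω[B ⧸ 𝔫⁄A]) := Module.Finite.trans (B ⧸ 𝔫) _
  have hker : RingHom.ker (algebraMap B (B ⧸ 𝔫)) = 𝔫 := by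
    rw [Ideal.Quotient.algebraMap_eq, Ideal.mk_ker]
  haveI h3 : Module.Finite B (RingHom.ker (algebraMap B (B ⧸ 𝔫))).Cotangent :=
    finite_cotangent_congr _ _ hker h1
  have hsurj : Function.Surjective (algebraMap B (B ⧸ 𝔫)) := Ideal.Quotient.mk_surjective
  have hex := KaehlerDifferential.exact_kerCotangentToTensor_mapBaseChange A B (B ⧸ 𝔫) hsurj
  have hg := KaehlerDifferential.mapBaseChange_surjective A B (B ⧸ 𝔫) hsurj
  -- the middle term is finite over `B`
  haveI hmid : Module.Finite B ((B ⧸ 𝔫) ⊗[B] Ω[B⁄A]) := by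
    refine ⟨Submodule.fg_of_fg_map_of_fg_inf_ker
      ((KaehlerDifferential.mapBaseChange A B (B ⧸ 𝔫)).restrictScalars B) ?_ ?_⟩
    · rw [Submodule.map_top, LinearMap.range_eq_top.mpr]
      · exact Module.Finite.fg_top
      · exact hg
    · rw [top_inf_eq]
      have : LinearMap.ker ((KaehlerDifferential.mapBaseChange A B (B ⧸ 𝔫)).restrictScalars B) =
          LinearMap.range (KaehlerDifferential.kerCotangentToTensor A B (B ⧸ 𝔫)) := by
        ext x
        rw [LinearMap.mem_ker, LinearMap.mem_range]
        exact hex x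
      rw [this, LinearMap.range_eq_map]
      exact Submodule.FG.map _ Module.Finite.fg_top
  haveI : Module.Finite B (Ω[B⁄A] ⧸ (𝔫 • ⊤ : Submodule B (Ω[B⁄A]))) :=
    Module.Finite.equiv (TensorProduct.quotTensorEquivQuotSMul (Ω[B⁄A]) 𝔫)
  haveI := finite_adicCompletion_of_finite_quotient 𝔫 (Ω[B⁄A])
  exact finite_of_finite_adicCompletion 𝔫 _

end Groth.Agent.Helper8.CplKaehler
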