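import Mathlib

/-!
# Generation of a module at a prime by a family of global elements
-/

set_option autoImplicit false
universe u v w

namespace Groth.Agent.Helper8.EK

open TensorProduct

variable {A : Type u} [CommRing A] (p : Ideal A) [p.IsPrime] (M : Type v) [AddCommGroup M]
  [Module A M]

/-- The family `s` of elements of `M` generates `M` at the prime `p`. -/
def GenBy {ι : Type w} (s : ι → M) : Prop :=
  ∀ z : M, ∃ f : A, f ∉ p ∧ f • z ∈ Submodule.span A (Set.range s)

/-- `M` is generated at the prime `p` by `m` elements. -/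
def GenAt (m : ℕ) : Prop := ∃ s : Fin m → M, GenBy p M s

variable {p M}

omit [p.IsPrime] in
theorem GenBy.of_le {ι : Type w} {s : ι → M} (h : GenBy p M s) {p' : Ideal A} [p'.IsPrime]
    (hle : p' ≤ p) : GenBy p' M s := by
  intro z
  obtain ⟨f, hf, hz⟩ := h z
  exact ⟨f, fun hf' => hf (hle hf'), hz⟩

omit [p.IsPrime] in
theorem GenAt.of_le {m : ℕ} (h : GenAt p M m) {p' : Ideal A} [p'.IsPrime] (hle : p' ≤ p) :
    GenAt p' M m := by
  obtain ⟨s, hs⟩ := h
  exact ⟨s, hs.of_le hle⟩

omit [p.IsPrime] in
theorem GenBy.mono {ι ι' : Type w} {s : ι → M} {s' : ι' → M} (h : GenBy p M s)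
    (hss : Set.range s ⊆ Set.range s') : GenBy p M s' := by
  intro z
  obtain ⟨f, hf, hz⟩ := h z
  exact ⟨f, hf, Submodule.span_mono hss hz⟩

omit [p.IsPrime] in
theorem GenAt.mono {m m' : ℕ} (h : GenAt p M m) (hle : m ≤ m') : GenAt p M m' := by
  obtain ⟨s, hs⟩ := h
  refine ⟨fun i => if hi : (i : ℕ) < m then s ⟨i, hi⟩ else 0, ?_⟩
  intro z
  obtain ⟨f, hf, hz⟩ := hs z
  refine ⟨f, hf, Submodule.span_mono ?_ hz⟩
  rintro _ ⟨i, rfl⟩
  refine ⟨⟨i, lt_of_lt_of_le i.2 hle⟩, ?_⟩
  simp

/-- Local generation in terms of the localized module. -/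
theorem genBy_iff_span_localizedModule {ι : Type w} (s : ι → M) :
    GenBy p M s ↔ Submodule.span (Localization.AtPrime p)
      (Set.range fun i => LocalizedModule.mkLinearMap p.primeCompl M (s i)) = ⊤ := by
  have hspan : Submodule.span (Localization.AtPrime p)
      (Set.range fun i => LocalizedModule.mkLinearMap p.primeCompl M (s i)) =
      (Submodule.span A (Set.range s)).localized' (Localization.AtPrime p) p.primeCompl
        (LocalizedModule.mkLinearMap p.primeCompl M) := by
    rw [Submodule.localized'_span, ← Set.range_comp]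
    rfl
  rw [hspan]
  constructor
  · intro h
    rw [eq_top_iff]
    intro x _
    obtain ⟨⟨z, t⟩, rfl⟩ := IsLocalizedModule.mk'_surjective p.primeCompl
      (LocalizedModule.mkLinearMap p.primeCompl M) x
    obtain ⟨f, hf, hz⟩ := h z
    rw [Submodule.mem_localized']
    refine ⟨f • z, hz, ⟨f, hf⟩ * t, ?_⟩
    exact IsLocalizedModule.mk'_cancel_left (LocalizedModule.mkLinearMap p.primeCompl M) z
      ⟨f, hf⟩ t
  · intro h z
    have hz : LocalizedModule.mkLinearMap p.primeCompl M z ∈
        (Submodule.span A (Set.range s)).localized' (Localization.AtPrime p) p.primeCompl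
          (LocalizedModule.mkLinearMap p.primeCompl M) := by
      rw [h]; trivial
    rw [Submodule.mem_localized'] at hz
    obtain ⟨n, hn, t, ht⟩ := hz
    rw [IsLocalizedModule.mk'_eq_iff, Submonoid.smul_def, ← map_smul] at ht
    obtain ⟨c, hc⟩ := (IsLocalizedModule.eq_iff_exists p.primeCompl
      (LocalizedModule.mkLinearMap p.primeCompl M)).mp ht
    refine ⟨(c : A) * (t : A), (c * t).2, ?_⟩
    have h1 : ((c : A) * (t : A)) • z = c • n := by
      rw [mul_smul]
      exact hc.symm
    rw [h1]
    exact Submodule.smul_mem _ _ hn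

/-- Generation of the localized module by `m` elements gives `GenAt`. -/
theorem genAt_of_span_localizedModule {m : ℕ}
    (s' : Fin m → LocalizedModule p.primeCompl M)
    (h : Submodule.span (Localization.AtPrime p) (Set.range s') = ⊤) : GenAt p M m := by
  have hex : ∀ i, ∃ zt : M × p.primeCompl,
      IsLocalizedModule.mk' (LocalizedModule.mkLinearMap p.primeCompl M) zt.1 zt.2 = s' i :=
    fun i => IsLocalizedModule.mk'_surjective p.primeCompl
      (LocalizedModule.mkLinearMap p.primeCompl M) (s' i)
  choose zt hzt using hex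
  refine ⟨fun i => (zt i).1, ?_⟩
  rw [genBy_iff_span_localizedModule, eq_top_iff, ← h, Submodule.span_le]
  rintro _ ⟨i, rfl⟩
  have h1 : s' i = IsLocalization.mk' (Localization.AtPrime p) (1 : A) (zt i).2 •
      LocalizedModule.mkLinearMap p.primeCompl M (zt i).1 := by
    rw [← hzt i, ← IsLocalizedModule.mk'_one p.primeCompl
      (LocalizedModule.mkLinearMap p.primeCompl M) (zt i).1,
      IsLocalizedModule.mk'_smul_mk', one_smul, mul_one]
  rw [h1]
  exact Submodule.smul_mem _ _ (Submodule.subset_span ⟨i, rfl⟩)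

theorem genAt_iff_span_localizedModule {m : ℕ} :
    GenAt p M m ↔ ∃ s' : Fin m → LocalizedModule p.primeCompl M,
      Submodule.span (Localization.AtPrime p) (Set.range s') = ⊤ := by
  constructor
  · rintro ⟨s, hs⟩
    exact ⟨_, (genBy_iff_span_localizedModule s).mp hs⟩
  · rintro ⟨s', hs'⟩
    exact genAt_of_span_localizedModule s' hs'

end Groth.Agent.Helper8.EK
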