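import Mathlib
import Groth.Agent.Lib.Helper8.EK1

/-!
# Local generation and fibres
-/

set_option autoImplicit false
universe u v w

namespace Groth.Agent.Helper8.EK

open TensorProduct

variable {A : Type u} [CommRing A] {p : Ideal A} [p.IsPrime] {M : Type v} [AddCommGroup M]
  [Module A M]

omit [p.IsPrime] in
/-- If `s` generates `M` at `p`, then the `1 ⊗ s i` span `L ⊗ M` for every field `L` in which the
elements outside `p` become invertible. -/
theorem GenBy.span_tmul {ι : Type w} {s : ι → M} (h : GenBy p M s)
    (L : Type*) [Field L] [Algebra A L] (hL : ∀ f : A, f ∉ p → algebraMap A L f ≠ 0) :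
    Submodule.span L (Set.range fun i => (1 : L) ⊗ₜ[A] s i) = ⊤ := by
  rw [eq_top_iff]
  intro x _
  have key : ∀ z : M, (1 : L) ⊗ₜ[A] z ∈ Submodule.span L (Set.range fun i => (1 : L) ⊗ₜ[A] s i) := by
    intro z
    obtain ⟨f, hf, hz⟩ := h z
    have h1 : ∀ y ∈ Submodule.span A (Set.range s),
        (1 : L) ⊗ₜ[A] y ∈ Submodule.span L (Set.range fun i => (1 : L) ⊗ₜ[A] s i) := by
      intro y hy
      induction hy using Submodule.span_induction with
      | mem y hy =>
        obtain ⟨i, rfl⟩ := hy
        exact Submodule.subset_span ⟨i, rfl⟩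
      | zero => rw [TensorProduct.tmul_zero]; exact Submodule.zero_mem _
      | add y y' _ _ hy hy' => rw [TensorProduct.tmul_add]; exact Submodule.add_mem _ hy hy'
      | smul a y _ hy =>
        have h2 : (1 : L) ⊗ₜ[A] (a • y) = algebraMap A L a • ((1 : L) ⊗ₜ[A] y) := by
          rw [TensorProduct.tmul_smul, TensorProduct.smul_tmul', TensorProduct.smul_tmul',
            Algebra.smul_def, mul_one, smul_eq_mul, mul_one]
        rw [h2]
        exact Submodule.smul_mem _ _ hy
    have h3 := h1 _ hz
    have h4 : (1 : L) ⊗ₜ[A] (f • z) = algebraMap A L f • ((1 : L) ⊗ₜ[A] z) := by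
      rw [TensorProduct.tmul_smul, TensorProduct.smul_tmul', TensorProduct.smul_tmul',
        Algebra.smul_def, mul_one, smul_eq_mul, mul_one]
    rw [h4] at h3
    have h5 := Submodule.smul_mem _ (algebraMap A L f)⁻¹ h3
    rwa [smul_smul, inv_mul_cancel₀ (hL f hf), one_smul] at h5
  induction x using TensorProduct.induction_on with
  | zero => exact Submodule.zero_mem _
  | tmul l z =>
    have h1 : l ⊗ₜ[A] z = l • ((1 : L) ⊗ₜ[A] z) := by
      rw [TensorProduct.smul_tmul', smul_eq_mul, mul_one]
    rw [h1]
    exact Submodule.smul_mem _ _ (key z)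
  | add x y hx hy => exact Submodule.add_mem _ (hx trivial) (hy trivial)

omit [p.IsPrime] in
/-- The dimension bound coming from local generation. -/
theorem GenAt.finrank_le {m : ℕ} (h : GenAt p M m)
    (L : Type*) [Field L] [Algebra A L] (hL : ∀ f : A, f ∉ p → algebraMap A L f ≠ 0) :
    Module.finrank L (L ⊗[A] M) ≤ m := by
  obtain ⟨s, hs⟩ := h
  have h1 := hs.span_tmul L hL
  have h2 := finrank_range_le_card (R := L) (fun i => (1 : L) ⊗ₜ[A] s i)
  rw [Set.finrank, h1, finrank_top, Fintype.card_fin] at h2
  exact h2

theorem residueField_algebraMap_ne_zero (f : A) (hf : f ∉ p) :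
    algebraMap A p.ResidueField f ≠ 0 := by
  intro h
  exact hf ((Ideal.algebraMap_residueField_eq_zero).mp h)

/-- Nakayama: if the `1 ⊗ s i` span the fibre of the finite module `M` at `p`, then `s`
generates `M` at `p`. -/
theorem genBy_of_span_tmul [Module.Finite A M] {ι : Type w} (s : ι → M)
    (h : Submodule.span p.ResidueField (Set.range fun i => (1 : p.ResidueField) ⊗ₜ[A] s i) = ⊤) :
    GenBy p M s := by
  let N : Submodule A M := Submodule.span A (Set.range s)
  have hsub : Subsingleton (p.ResidueField ⊗[A] (M ⧸ N)) := by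
    have hsurj : Function.Surjective (LinearMap.baseChange p.ResidueField N.mkQ) := by
      have : Function.Surjective (LinearMap.lTensor p.ResidueField N.mkQ) :=
        LinearMap.lTensor_surjective _ (Submodule.mkQ_surjective N)
      exact this
    have hzero : ∀ x : p.ResidueField ⊗[A] M, LinearMap.baseChange p.ResidueField N.mkQ x = 0 := by
      intro x
      have hx : x ∈ Submodule.span p.ResidueField
          (Set.range fun i => (1 : p.ResidueField) ⊗ₜ[A] s i) := by rw [h]; trivial
      induction hx using Submodule.span_induction with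
      | mem y hy =>
        obtain ⟨i, rfl⟩ := hy
        rw [LinearMap.baseChange_tmul]
        have : N.mkQ (s i) = 0 := by
          rw [Submodule.mkQ_apply, Submodule.Quotient.mk_eq_zero]
          exact Submodule.subset_span ⟨i, rfl⟩
        rw [this, TensorProduct.tmul_zero]
      | zero => exact map_zero _
      | add y y' _ _ hy hy' => rw [map_add, hy, hy', add_zero]
      | smul a y _ hy => rw [map_smul, hy, smul_zero]
    refine ⟨fun a b => ?_⟩
    obtain ⟨a', rfl⟩ := hsurj a
    obtain ⟨b', rfl⟩ := hsurj b
    rw [hzero, hzero]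
  have hsupp : (⟨p, inferInstance⟩ : PrimeSpectrum A) ∉ Module.support A (M ⧸ N) := by
    rw [Module.mem_support_iff_nontrivial_residueField_tensorProduct]
    exact not_nontrivial_iff_subsingleton.mpr hsub
  rw [Module.notMem_support_iff'] at hsupp
  intro z
  obtain ⟨r, hr, hrz⟩ := hsupp (N.mkQ z)
  refine ⟨r, hr, ?_⟩
  rw [← map_smul, Submodule.mkQ_apply, Submodule.Quotient.mk_eq_zero] at hrz
  exact hrz

/-- A finite module is generated at `p` by as many elements as the dimension of its fibre. -/
theorem genAt_finrank [Module.Finite A M] :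
    GenAt p M (Module.finrank p.ResidueField (p.ResidueField ⊗[A] M)) := by
  classical
  have hspan : (⊤ : Submodule p.ResidueField (p.ResidueField ⊗[A] M)) ≤
      Submodule.span p.ResidueField (Set.range fun z : M => (1 : p.ResidueField) ⊗ₜ[A] z) := by
    intro x _
    induction x using TensorProduct.induction_on with
    | zero => exact Submodule.zero_mem _
    | tmul l z =>
      have h1 : l ⊗ₜ[A] z = l • ((1 : p.ResidueField) ⊗ₜ[A] z) := by
        rw [TensorProduct.smul_tmul', smul_eq_mul, mul_one]
      rw [h1]
      exact Submodule.smul_mem _ _ (Submodule.subset_span ⟨z, rfl⟩)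
    | add x y hx hy => exact Submodule.add_mem _ (hx trivial) (hy trivial)
  let b := Module.Basis.ofSpan hspan
  have hsub := Module.Basis.ofSpan_subset hspan
  let b' := (Module.finBasis p.ResidueField (p.ResidueField ⊗[A] M))
  let e := b.indexEquiv b'
  have hex : ∀ i : Fin (Module.finrank p.ResidueField (p.ResidueField ⊗[A] M)),
      ∃ z : M, (1 : p.ResidueField) ⊗ₜ[A] z = b (e.symm i) := by
    intro i
    obtain ⟨z, hz⟩ := hsub ⟨e.symm i, rfl⟩
    exact ⟨z, hz⟩
  choose z hz using hex
  refine ⟨z, genBy_of_span_tmul z ?_⟩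
  have h1 : (fun i => (1 : p.ResidueField) ⊗ₜ[A] z i) = ⇑(b.reindex e) := by
    funext i
    rw [hz, Module.Basis.reindex_apply]
  rw [h1]
  exact (b.reindex e).span_eq

end Groth.Agent.Helper8.EK
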