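import Mathlib
import Groth.Agent.Lib.Helper8.EK2
import Groth.Agent.Lib.Helper8.CplKaehler8

/-!
# Completed differentials of a complete local algebra: generators of the form `d(u x)`
-/

set_option autoImplicit false
universe u

namespace Groth.Agent.Helper8.EK

open TensorProduct IsLocalRing

section unit

variable {A : Type*} [CommRing A] [IsLocalRing A] {κ V : Type*} [Field κ] [AddCommGroup V]
  [Module κ V] (φ : A →+* κ) (δ : A →+ V)

/-- The unit trick. -/
theorem exists_unit_notMem (hmul : ∀ a b, δ (a * b) = φ a • δ b + φ b • δ a)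
    (W : Submodule κ V) (hW : ∃ a, δ a ∉ W) (x : A) (hx : φ x ≠ 0) :
    ∃ u : Aˣ, δ ((u : A) * x) ∉ W := by
  by_contra hcon
  push Not at hcon
  obtain ⟨a, ha⟩ := hW
  have h1 : δ 1 = 0 := by
    have := hmul 1 1
    rw [mul_one, φ.map_one, one_smul] at this
    have h2 : δ 1 + δ 1 = δ 1 + 0 := by rw [add_zero]; exact this.symm
    exact add_left_cancel h2
  have hx' : δ x ∈ W := by
    have := hcon 1
    rwa [Units.val_one, one_mul] at this
  have hunit : ∀ u : Aˣ, δ (u : A) ∈ W := by
    intro u
    have h2 := hcon u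
    rw [hmul] at h2
    have h3 : φ x • δ (u : A) ∈ W := by
      have := W.sub_mem h2 (W.smul_mem (φ (u : A)) hx')
      rwa [add_sub_cancel_left] at this
    have h4 := W.smul_mem (φ x)⁻¹ h3
    rwa [smul_smul, inv_mul_cancel₀ hx, one_smul] at h4
  apply ha
  rcases IsLocalRing.isUnit_or_isUnit_one_sub_self a with hu | hu
  · exact hunit hu.unit
  · have h2 := hunit hu.unit
    rw [IsUnit.unit_spec, map_sub, h1, zero_sub] at h2
    have := W.neg_mem h2
    rwa [neg_neg] at this

/-- Greedy choice of units. -/
theorem exists_units_span_or_linearIndependent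
    (hmul : ∀ a b, δ (a * b) = φ a • δ b + φ b • δ a)
    (hspan : Submodule.span κ (Set.range δ) = ⊤) :
    ∀ (n : ℕ) (x : Fin n → A), (∀ i, φ (x i) ≠ 0) →
      ∃ u : Fin n → Aˣ, Submodule.span κ (Set.range fun i => δ ((u i : A) * x i)) = ⊤ ∨
        LinearIndependent κ (fun i => δ ((u i : A) * x i)) := by
  intro n
  induction n with
  | zero =>
    intro x _
    exact ⟨fun _ => 1, Or.inr (linearIndependent_empty_type)⟩
  | succ n ih =>
    intro x hx
    obtain ⟨u', hu'⟩ := ih (fun i => x i.succ) (fun i => hx i.succ)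
    by_cases htop : Submodule.span κ (Set.range fun i : Fin n => δ ((u' i : A) * x i.succ)) = ⊤
    · refine ⟨Fin.cons 1 u', Or.inl ?_⟩
      rw [eq_top_iff, ← htop]
      refine Submodule.span_mono ?_
      rintro _ ⟨i, rfl⟩
      exact ⟨i.succ, by simp⟩
    · have hli : LinearIndependent κ (fun i : Fin n => δ ((u' i : A) * x i.succ)) :=
        hu'.resolve_left htop
      have hW : ∃ a, δ a ∉ Submodule.span κ
          (Set.range fun i : Fin n => δ ((u' i : A) * x i.succ)) := by
        by_contra hc
        push Not at hc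
        apply htop
        rw [eq_top_iff, ← hspan, Submodule.span_le]
        rintro _ ⟨a, rfl⟩
        exact hc a
      obtain ⟨u₀, hu₀⟩ := exists_unit_notMem φ δ hmul _ hW (x 0) (hx 0)
      refine ⟨Fin.cons u₀ u', Or.inr ?_⟩
      have h1 : (fun i : Fin (n + 1) => δ (((Fin.cons u₀ u' : Fin (n + 1) → Aˣ) i : A) * x i)) =
          Fin.cons (δ ((u₀ : A) * x 0)) (fun i : Fin n => δ ((u' i : A) * x i.succ)) := by
        funext i
        refine Fin.cases ?_ (fun j => ?_) i
        · simp
        · simp
      rw [h1, linearIndependent_finCons]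
      exact ⟨hli, hu₀⟩

theorem exists_units_span [FiniteDimensional κ V]
    (hmul : ∀ a b, δ (a * b) = φ a • δ b + φ b • δ a)
    (hspan : Submodule.span κ (Set.range δ) = ⊤)
    (m : ℕ) (hm : Module.finrank κ V ≤ m) (x : Fin m → A) (hx : ∀ i, φ (x i) ≠ 0) :
    ∃ u : Fin m → Aˣ, Submodule.span κ (Set.range fun i => δ ((u i : A) * x i)) = ⊤ := by
  obtain ⟨u, hu⟩ := exists_units_span_or_linearIndependent φ δ hmul hspan m x hx
  refine ⟨u, ?_⟩
  rcases hu with hu | hu
  · exact hu
  · have h1 := hu.fintype_card_le_finrank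
    rw [Fintype.card_fin] at h1
    have h2 : Fintype.card (Fin m) = Module.finrank κ V := by
      rw [Fintype.card_fin]; exact le_antisymm h1 hm
    exact hu.span_eq_top_of_card_eq_finrank' h2

end unit

section kaehler

variable (k A : Type u) [Field k] [CommRing A] [IsLocalRing A] [IsNoetherianRing A] [Algebra k A]

/-- The completed module of differentials. -/
abbrev Ωh : Type u := AdicCompletion (maximalIdeal A) (Ω[A⁄k])

/-- The completed differential. -/
noncomputable def dh : A →+ Ωh k A :=
  (AdicCompletion.of (maximalIdeal A) (Ω[A⁄k])).toAddMonoidHom.comp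
    (KaehlerDifferential.D k A).toLinearMap.toAddMonoidHom

omit [IsNoetherianRing A] in
theorem dh_apply (a : A) :
    dh k A a = AdicCompletion.of (maximalIdeal A) (Ω[A⁄k]) (KaehlerDifferential.D k A a) := rfl

omit [IsNoetherianRing A] in
theorem dh_mul (a b : A) : dh k A (a * b) = a • dh k A b + b • dh k A a := by
  rw [dh_apply, dh_apply, dh_apply, Derivation.leibniz, map_add, map_smul, map_smul]

omit [IsNoetherianRing A] in
theorem dh_algebraMap (c : k) : dh k A (algebraMap k A c) = 0 := by
  rw [dh_apply, Derivation.map_algebraMap, map_zero]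

variable [IsAdicComplete (maximalIdeal A) A] [Module.Finite k (ResidueField A)]

instance finite_Ωh : Module.Finite A (Ωh k A) := by
  haveI : Module.Finite k (A ⧸ maximalIdeal A) := ‹Module.Finite k (ResidueField A)›
  haveI : Algebra.FiniteType k (A ⧸ maximalIdeal A) := inferInstance
  haveI : Module.Finite (A ⧸ maximalIdeal A) (Ω[A ⧸ maximalIdeal A⁄k]) := inferInstance
  haveI : Module.Finite A (maximalIdeal A).Cotangent :=
    Module.Finite.of_surjective (maximalIdeal A).toCotangent (Ideal.toCotangent_surjective _)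
  haveI : Module.Finite (A ⧸ maximalIdeal A) (maximalIdeal A).Cotangent :=
    Module.Finite.of_restrictScalars_finite A _ _
  exact Groth.Agent.Helper8.CplKaehler.finite_completedKaehler (maximalIdeal A)

/-- The completed module of differentials is generated by the differentials. -/
theorem span_range_dh : Submodule.span A (Set.range (dh k A)) = ⊤ := by
  have hfg : (⊤ : Submodule A (Ωh k A)).FG := Module.Finite.fg_top
  rw [eq_top_iff]
  refine Submodule.le_of_le_smul_of_le_jacobson_bot hfg
    (IsLocalRing.maximalIdeal_le_jacobson ⊥) ?_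
  intro z _
  have fg : (maximalIdeal A).FG := IsNoetherian.noetherian _
  obtain ⟨ω, hω⟩ := Submodule.mkQ_surjective _ (AdicCompletion.eval (maximalIdeal A) (Ω[A⁄k]) 1 z)
  have h1 : z - AdicCompletion.of (maximalIdeal A) (Ω[A⁄k]) ω ∈
      (maximalIdeal A) ^ 1 • (⊤ : Submodule A (Ωh k A)) := by
    rw [AdicCompletion.pow_smul_top_eq_ker_eval fg, LinearMap.mem_ker, map_sub,
      AdicCompletion.eval_of, hω, sub_self]
  rw [pow_one] at h1
  have hof : ∀ ω' : Ω[A⁄k], AdicCompletion.of (maximalIdeal A) (Ω[A⁄k]) ω' ∈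
      Submodule.span A (Set.range (dh k A)) := by
    intro ω'
    have hω' : ω' ∈ Submodule.span A (Set.range (KaehlerDifferential.D k A)) := by
      rw [KaehlerDifferential.span_range_derivation]; trivial
    induction hω' using Submodule.span_induction with
    | mem y hy =>
      obtain ⟨a, rfl⟩ := hy
      exact Submodule.subset_span ⟨a, rfl⟩
    | zero => rw [map_zero]; exact Submodule.zero_mem _
    | add y y' _ _ hy hy' => rw [map_add]; exact Submodule.add_mem _ hy hy'
    | smul a y _ hy => rw [map_smul]; exact Submodule.smul_mem _ _ hy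
  have h2 := hof ω
  have h3 : z = AdicCompletion.of (maximalIdeal A) (Ω[A⁄k]) ω +
      (z - AdicCompletion.of (maximalIdeal A) (Ω[A⁄k]) ω) := by abel
  rw [h3]
  exact Submodule.add_mem_sup h2 h1

variable {k A}

/-- **Generators of the form `d(u x)`.** If the completed module of differentials is generated at
`p` by `m` elements, then for any `x₁, …, x_m` outside `p` there are units `uᵢ` such that the
`d(uᵢ xᵢ)` generate at `p`. -/
theorem exists_units_genBy (p : Ideal A) [p.IsPrime] {m : ℕ} (h : GenAt p (Ωh k A) m)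
    (x : Fin m → A) (hx : ∀ i, x i ∉ p) :
    ∃ u : Fin m → Aˣ, GenBy p (Ωh k A) (fun i => dh k A ((u i : A) * x i)) := by
  let δ : A →+ p.ResidueField ⊗[A] Ωh k A :=
    (TensorProduct.mk A p.ResidueField (Ωh k A) 1).toAddMonoidHom.comp (dh k A)
  have hδ : ∀ a, δ a = (1 : p.ResidueField) ⊗ₜ[A] dh k A a := fun a => rfl
  have hsm : ∀ (a : A) (z : Ωh k A), (1 : p.ResidueField) ⊗ₜ[A] (a • z) =
      algebraMap A p.ResidueField a • ((1 : p.ResidueField) ⊗ₜ[A] z) := by
    intro a z
    rw [TensorProduct.tmul_smul, TensorProduct.smul_tmul', TensorProduct.smul_tmul',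
      Algebra.smul_def, mul_one, smul_eq_mul, mul_one]
  have hmul : ∀ a b, δ (a * b) = algebraMap A p.ResidueField a • δ b +
      algebraMap A p.ResidueField b • δ a := by
    intro a b
    rw [hδ, hδ, hδ, dh_mul, TensorProduct.tmul_add, hsm, hsm]
  have hall : GenBy p (Ωh k A) (dh k A) := by
    intro z
    refine ⟨1, fun h1 => (Ideal.IsPrime.ne_top inferInstance) ((Ideal.eq_top_iff_one p).mpr h1), ?_⟩
    rw [span_range_dh]; trivial
  have hspan : Submodule.span p.ResidueField (Set.range δ) = ⊤ :=
    hall.span_tmul p.ResidueField residueField_algebraMap_ne_zero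
  have hfr := h.finrank_le p.ResidueField residueField_algebraMap_ne_zero
  obtain ⟨u, hu⟩ := exists_units_span (algebraMap A p.ResidueField) δ hmul hspan m hfr x
    (fun i => residueField_algebraMap_ne_zero (x i) (hx i))
  exact ⟨u, genBy_of_span_tmul _ hu⟩

end kaehler

end Groth.Agent.Helper8.EK
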