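import Mathlib
import Groth.Agent.Lib.Helper8.EK3
import Groth.Agent.Lib.Helper8.FinPS3
import Groth.Agent.Lib.Helper8.CohenStr1
import Groth.Agent.Lib.Helper3.SchlO

/-!
# Systems of parameters avoiding a prime; finite structures over power series rings
-/

set_option autoImplicit false
universe u

namespace Groth.Agent.Helper8.EK

open IsLocalRing MvPowerSeries

section sop

variable {A : Type u} [CommRing A] [IsNoetherianRing A] [IsLocalRing A]

/-- An ideal over which the maximal ideal is minimal contains a power of the maximal ideal. -/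
theorem exists_pow_le_of_mem_minimalPrimes (I : Ideal A)
    (hI : maximalIdeal A ∈ I.minimalPrimes) : ∃ N : ℕ, maximalIdeal A ^ N ≤ I := by
  have hrad : I.radical = maximalIdeal A := by
    rw [Ideal.radical_eq_sInf]
    apply le_antisymm
    · exact sInf_le ⟨hI.1.2, hI.1.1⟩
    · refine le_sInf ?_
      rintro P ⟨hIP, hP⟩
      haveI := hP
      exact hI.2 ⟨hP, hIP⟩ (IsLocalRing.le_maximalIdeal hP.ne_top)
  have h1 := Ideal.exists_radical_pow_le_of_fg I (IsNoetherian.noetherian _)
  rw [hrad] at h1
  exact h1

/-- Moving a generating family of a primary ideal off a prime. -/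
theorem exists_avoid (p : Ideal A) [p.IsPrime] (hp : p ≠ maximalIdeal A) {n : ℕ}
    (x : Fin n → A) (hx : ∀ i, x i ∈ maximalIdeal A)
    (hprim : maximalIdeal A ∈ (Ideal.span (Set.range x)).minimalPrimes) :
    ∃ y : Fin n → A, (∀ i, y i ∈ maximalIdeal A) ∧ (∀ i, y i ∉ p) ∧
      Ideal.span (Set.range y) = Ideal.span (Set.range x) := by
  classical
  have hlt : p < maximalIdeal A :=
    lt_of_le_of_ne (IsLocalRing.le_maximalIdeal (Ideal.IsPrime.ne_top inferInstance)) hp
  obtain ⟨t, htm, htp⟩ := SetLike.exists_of_lt hlt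
  obtain ⟨N, hN⟩ := exists_pow_le_of_mem_minimalPrimes _ hprim
  have ht1 : t ^ (N + 1) ∈ maximalIdeal A • Ideal.span (Set.range x) := by
    rw [pow_succ']
    exact Submodule.smul_mem_smul htm (hN (Ideal.pow_mem_pow htm N))
  have ht2 : t ^ (N + 1) ∈ Ideal.span (Set.range x) :=
    Ideal.mul_le_left (I := Ideal.span (Set.range x)) (J := maximalIdeal A)
      (by rwa [smul_eq_mul, mul_comm] at ht1)
  have ht3 : t ^ (N + 1) ∉ p := fun h => htp (Ideal.IsPrime.mem_of_pow_mem inferInstance _ h)
  refine ⟨fun i => if x i ∈ p then x i + t ^ (N + 1) else x i, fun i => ?_, fun i => ?_, ?_⟩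
  · by_cases h : x i ∈ p
    · simp only [h, if_true]
      exact Ideal.add_mem _ (hx i) (Ideal.pow_mem_of_mem _ htm _ (Nat.succ_pos N))
    · simp only [h, if_false]
      exact hx i
  · by_cases h : x i ∈ p
    · show (if x i ∈ p then x i + t ^ (N + 1) else x i) ∉ p
      rw [if_pos h]
      intro h2
      exact ht3 ((Ideal.add_mem_iff_right p h).mp h2)
    · show (if x i ∈ p then x i + t ^ (N + 1) else x i) ∉ p
      rw [if_neg h]
      exact h
  · apply le_antisymm
    · rw [Ideal.span_le]
      rintro _ ⟨i, rfl⟩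
      by_cases h : x i ∈ p
      · simp only [h, if_true]
        exact Ideal.add_mem _ (Ideal.subset_span ⟨i, rfl⟩) ht2
      · simp only [h, if_false]
        exact Ideal.subset_span ⟨i, rfl⟩
    · refine Submodule.le_of_le_smul_of_le_jacobson_bot (IsNoetherian.noetherian _)
        (IsLocalRing.maximalIdeal_le_jacobson ⊥) ?_
      rw [Ideal.span_le]
      rintro _ ⟨i, rfl⟩
      by_cases h : x i ∈ p
      · have h1 : x i = (x i + t ^ (N + 1)) + -(t ^ (N + 1)) := by ring
        rw [h1]
        refine Submodule.add_mem_sup (Ideal.subset_span ⟨i, ?_⟩) (Submodule.neg_mem _ ht1)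
        simp only [h, if_true]
      · refine Submodule.mem_sup_left (Ideal.subset_span ⟨i, ?_⟩)
        simp only [h, if_false]

end sop

section ps

variable (k A : Type u) [Field k] [CommRing A] [IsLocalRing A] [IsNoetherianRing A] [Algebra k A]
  [IsAdicComplete (maximalIdeal A) A] [Module.Finite k (ResidueField A)]

theorem maximalIdeal_mvPowerSeries_field (m : ℕ) :
    maximalIdeal (MvPowerSeries (Fin m) k) =
      Ideal.span (Set.range (fun i : Fin m => (X i : MvPowerSeries (Fin m) k))) := by
  rw [Groth.Agent.Helper8.FinPS.maximalIdeal_mvPowerSeries_eq_sup, IsLocalRing.maximalIdeal_eq_bot,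
    Ideal.map_bot, bot_sup_eq]

instance isAdicComplete_mvPowerSeries_field (m : ℕ) :
    IsAdicComplete (maximalIdeal (MvPowerSeries (Fin m) k)) (MvPowerSeries (Fin m) k) := by
  haveI : IsAdicComplete (maximalIdeal k) k := by
    rw [IsLocalRing.maximalIdeal_eq_bot]
    infer_instance
  exact Groth.Agent.Helper3.ArtFunLib.isAdicComplete_ps_local

/-- A family of elements of the maximal ideal generating a primary ideal makes `A` a finite
local algebra over a power series ring. -/
theorem exists_algebra_powerSeries (m : ℕ) (y : Fin m → A) (hy : ∀ i, y i ∈ maximalIdeal A)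
    (hprim : maximalIdeal A ∈ (Ideal.span (Set.range y)).minimalPrimes) :
    ∃ (_ : Algebra (MvPowerSeries (Fin m) k) A) (_ : IsScalarTower k (MvPowerSeries (Fin m) k) A),
      IsLocalHom (algebraMap (MvPowerSeries (Fin m) k) A) ∧
      Module.Finite (MvPowerSeries (Fin m) k) A ∧
      ∀ i, algebraMap (MvPowerSeries (Fin m) k) A (X i) = y i := by
  obtain ⟨ψ, hψ⟩ := Groth.Agent.Helper8.CohenStr.exists_algHom k A m y hy
  letI alg : Algebra (MvPowerSeries (Fin m) k) A := ψ.toRingHom.toAlgebra
  have halg : ∀ f : MvPowerSeries (Fin m) k, algebraMap (MvPowerSeries (Fin m) k) A f = ψ f :=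
    fun f => rfl
  haveI tower : IsScalarTower k (MvPowerSeries (Fin m) k) A :=
    IsScalarTower.of_algebraMap_eq (fun c => by rw [halg, AlgHom.commutes])
  have hX : ∀ i, algebraMap (MvPowerSeries (Fin m) k) A (X i) = y i := fun i => by
    rw [halg, hψ]
  have hmap : (maximalIdeal (MvPowerSeries (Fin m) k)).map
      (algebraMap (MvPowerSeries (Fin m) k) A) = Ideal.span (Set.range y) := by
    rw [maximalIdeal_mvPowerSeries_field, Ideal.map_span, ← Set.range_comp]
    congr 2
    funext i
    exact hX i
  have hloc : IsLocalHom (algebraMap (MvPowerSeries (Fin m) k) A) := by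
    refine ((IsLocalRing.local_hom_TFAE _).out 2 0).mp ?_
    rw [hmap]
    exact hprim.1.2
  haveI : IsScalarTower k (MvPowerSeries (Fin m) k) (ResidueField A) :=
    IsScalarTower.of_algebraMap_eq (fun c => by
      rw [IsScalarTower.algebraMap_apply k A (ResidueField A),
        IsScalarTower.algebraMap_apply (MvPowerSeries (Fin m) k) A (ResidueField A),
        ← IsScalarTower.algebraMap_apply k (MvPowerSeries (Fin m) k) A])
  haveI : Module.Finite (MvPowerSeries (Fin m) k) (ResidueField A) :=
    Module.Finite.of_restrictScalars_finite k _ _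
  have hfin : Module.Finite (MvPowerSeries (Fin m) k) A := by
    apply Groth.Agent.Helper8.FinPS.finite_of_complete
    rw [hmap]
    exact hprim
  exact ⟨alg, tower, hloc, hfin, hX⟩

end ps

end Groth.Agent.Helper8.EK
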