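import Mathlib
import Groth.Agent.Lib.Helper8.EK4
import Groth.Agent.Lib.Helper8.CplKaehler4
import Groth.Agent.Lib.Helper8.GRing3

/-!
# Unramifiedness over a power series ring in terms of completed differentials
-/

set_option autoImplicit false
universe u

namespace Groth.Agent.Helper8.EK

open IsLocalRing MvPowerSeries TensorProduct

/-- The completed map is linear over the base ring. -/
theorem adicCompletion_map_smul {R : Type*} [CommRing R] (I : Ideal R) {M N : Type*}
    [AddCommGroup M] [Module R M] [AddCommGroup N] [Module R N] (f : M →ₗ[R] N) (a : R)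
    (z : AdicCompletion I M) :
    AdicCompletion.map I f (a • z) = a • AdicCompletion.map I f z := by
  rw [← algebraMap_smul (AdicCompletion I R) a z, map_smul, algebraMap_smul]

variable (k : Type u) [Field k] (r : ℕ) (A : Type u) [CommRing A]
  [Algebra (MvPowerSeries (Fin r) k) A] [Algebra k A] [IsScalarTower k (MvPowerSeries (Fin r) k) A]
  [IsLocalRing A] [IsNoetherianRing A] [IsAdicComplete (maximalIdeal A) A]
  [Module.Finite (MvPowerSeries (Fin r) k) A]
  [IsLocalHom (algebraMap (MvPowerSeries (Fin r) k) A)]

omit [Algebra k A] [IsScalarTower k (MvPowerSeries (Fin r) k) A] [IsLocalRing A]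
  [IsNoetherianRing A] [IsAdicComplete (maximalIdeal A) A]
  [Module.Finite (MvPowerSeries (Fin r) k) A]
  [IsLocalHom (algebraMap (MvPowerSeries (Fin r) k) A)] in
theorem isUnramifiedAt_iff_notMem_support (p : Ideal A) [p.IsPrime] :
    Algebra.IsUnramifiedAt (MvPowerSeries (Fin r) k) p ↔
      (⟨p, inferInstance⟩ : PrimeSpectrum A) ∉
        Module.support A (Ω[A⁄MvPowerSeries (Fin r) k]) := by
  have h := Algebra.unramifiedLocus_eq_compl_support (R := MvPowerSeries (Fin r) k) (A := A)
  have h1 : (⟨p, inferInstance⟩ : PrimeSpectrum A) ∈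
      Algebra.unramifiedLocus (MvPowerSeries (Fin r) k) A ↔
      Algebra.IsUnramifiedAt (MvPowerSeries (Fin r) k) p := Iff.rfl
  rw [← h1, h]
  rfl

/-- The differentials of the variables generate the completed differentials at `p` iff `A` is
unramified over the power series ring at `p`. -/
theorem genBy_dh_iff_isUnramifiedAt (p : Ideal A) [p.IsPrime] :
    GenBy p (Ωh k A) (fun j : Fin r =>
      dh k A (algebraMap (MvPowerSeries (Fin r) k) A (X j))) ↔
      Algebra.IsUnramifiedAt (MvPowerSeries (Fin r) k) p := by
  haveI : Algebra.FiniteType (MvPowerSeries (Fin r) k) A := inferInstance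
  haveI : Module.Finite A (Ω[A⁄MvPowerSeries (Fin r) k]) := inferInstance
  haveI hcomp : IsAdicComplete (maximalIdeal A) (Ω[A⁄MvPowerSeries (Fin r) k]) :=
    Groth.Agent.Helper8.GRing.isAdicComplete_of_finite A _ _
  rw [isUnramifiedAt_iff_notMem_support, Module.notMem_support_iff']
  have hdT : ∀ j, Groth.Agent.Helper8.CplKaehler.dT k r A j =
      dh k A (algebraMap (MvPowerSeries (Fin r) k) A (X j)) := fun j => rfl
  constructor
  · intro h ω
    obtain ⟨ω', rfl⟩ := KaehlerDifferential.map_surjective k (MvPowerSeries (Fin r) k) A ω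
    obtain ⟨f, hf, hz⟩ := h (AdicCompletion.of (maximalIdeal A) (Ω[A⁄k]) ω')
    refine ⟨f, hf, ?_⟩
    have h2 : ∀ y ∈ Submodule.span A (Set.range fun j : Fin r =>
        dh k A (algebraMap (MvPowerSeries (Fin r) k) A (X j))),
        AdicCompletion.map (maximalIdeal A)
          (KaehlerDifferential.map k (MvPowerSeries (Fin r) k) A A) y = 0 := by
      intro y hy
      induction hy using Submodule.span_induction with
      | mem y hy =>
        obtain ⟨j, rfl⟩ := hy
        change AdicCompletion.map _ _ (dh k A _) = 0
        rw [dh_apply, AdicCompletion.map_of, KaehlerDifferential.map_D, Algebra.algebraMap_self,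
          RingHom.id_apply, Derivation.map_algebraMap, map_zero]
      | zero => exact map_zero _
      | add y y' _ _ hy hy' => rw [map_add, hy, hy', add_zero]
      | smul a y _ hy => rw [adicCompletion_map_smul, hy, smul_zero]
    have h3 := h2 _ hz
    rw [← map_smul, AdicCompletion.map_of] at h3
    have h4 : AdicCompletion.of (maximalIdeal A) (Ω[A⁄MvPowerSeries (Fin r) k])
        ((KaehlerDifferential.map k (MvPowerSeries (Fin r) k) A A) (f • ω')) =
        AdicCompletion.of (maximalIdeal A) (Ω[A⁄MvPowerSeries (Fin r) k]) 0 := by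
      rw [h3, map_zero]
    have h5 := AdicCompletion.of_injective (maximalIdeal A)
      (Ω[A⁄MvPowerSeries (Fin r) k]) h4
    rw [map_smul] at h5
    exact h5
  · intro h z
    obtain ⟨ω, hω⟩ := AdicCompletion.of_surjective (maximalIdeal A)
      (Ω[A⁄MvPowerSeries (Fin r) k])
      (AdicCompletion.map (maximalIdeal A)
        (KaehlerDifferential.map k (MvPowerSeries (Fin r) k) A A) z)
    obtain ⟨f, hf, hfω⟩ := h ω
    refine ⟨f, hf, ?_⟩
    have h1 : AdicCompletion.map (maximalIdeal A)
        (KaehlerDifferential.map k (MvPowerSeries (Fin r) k) A A) (f • z) = 0 := by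
      rw [adicCompletion_map_smul, ← hω, ← map_smul, hfω, map_zero]
    obtain ⟨v, hv⟩ := Groth.Agent.Helper8.CplKaehler.mem_span_of_mem_ker k r A (f • z) h1
    rw [hv]
    refine Submodule.sum_mem _ fun j _ => Submodule.smul_mem _ _ (Submodule.subset_span ⟨j, ?_⟩)
    exact (hdT j).symm

end Groth.Agent.Helper8.EK
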