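import Mathlib
import Groth.Agent.Lib.Helper8.EK5
import Groth.Agent.Lib.Helper8.CplKaehler7
import Groth.Agent.Lib.Helper8.MvPSDim

/-!
# The generic number of generators of the completed differentials of a complete local domain
-/

set_option autoImplicit false
universe u

namespace Groth.Agent.Helper8.EK

open IsLocalRing MvPowerSeries TensorProduct

section sep

variable (A₀ A : Type u) [CommRing A₀] [IsDomain A₀] [CommRing A] [IsDomain A] [Algebra A₀ A]

attribute [local instance] FractionRing.liftAlgebra

/-- Generic unramifiedness gives generic separability. -/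
theorem hsep_of_isUnramifiedAt_bot (hinj : Function.Injective (algebraMap A₀ A))
    [Algebra.FiniteType A₀ A] (h : Algebra.IsUnramifiedAt A₀ (⊥ : Ideal A)) :
    ∀ a : A, ∃ P : Polynomial A₀, Polynomial.aeval a P = 0 ∧
      (P.map (algebraMap A₀ (FractionRing A₀))).Separable := by
  haveI : FaithfulSMul A₀ A := (faithfulSMul_iff_algebraMap_injective A₀ A).mpr hinj
  haveI : FaithfulSMul A₀ (FractionRing A) := inferInstance
  haveI : IsScalarTower A₀ (FractionRing A₀) (FractionRing A) :=
    FractionRing.isScalarTower_liftAlgebra A₀ (FractionRing A)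
  have hpc : (⊥ : Ideal A).primeCompl = nonZeroDivisors A := by
    ext x
    rw [Ideal.mem_primeCompl_iff, Ideal.mem_bot, mem_nonZeroDivisors_iff_ne_zero]
  haveI hloc : IsLocalization (⊥ : Ideal A).primeCompl (FractionRing A) := by
    rw [hpc]; infer_instance
  let e : Localization.AtPrime (⊥ : Ideal A) ≃ₐ[A] FractionRing A :=
    IsLocalization.algEquiv (⊥ : Ideal A).primeCompl _ _
  haveI : Algebra.FormallyUnramified A₀ (Localization.AtPrime (⊥ : Ideal A)) := h
  haveI : Algebra.FormallyUnramified A₀ (FractionRing A) :=
    Algebra.FormallyUnramified.of_equiv (e.restrictScalars A₀)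
  haveI : Algebra.FormallyUnramified (FractionRing A₀) (FractionRing A) :=
    Algebra.FormallyUnramified.of_restrictScalars A₀ (FractionRing A₀) (FractionRing A)
  haveI : Algebra.EssFiniteType A (FractionRing A) :=
    Algebra.EssFiniteType.of_isLocalization _ (nonZeroDivisors A)
  haveI : Algebra.EssFiniteType A₀ (FractionRing A) :=
    Algebra.EssFiniteType.comp A₀ A (FractionRing A)
  haveI : Algebra.EssFiniteType (FractionRing A₀) (FractionRing A) :=
    Algebra.EssFiniteType.of_comp A₀ (FractionRing A₀) (FractionRing A)
  haveI : Algebra.IsSeparable (FractionRing A₀) (FractionRing A) :=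
    Algebra.FormallyUnramified.isSeparable (FractionRing A₀) (FractionRing A)
  intro a
  have hμ : (minpoly (FractionRing A₀) (algebraMap A (FractionRing A) a)).Separable :=
    Algebra.IsSeparable.isSeparable (FractionRing A₀) (algebraMap A (FractionRing A) a)
  refine ⟨IsLocalization.integerNormalization (nonZeroDivisors A₀)
    (minpoly (FractionRing A₀) (algebraMap A (FractionRing A) a)), ?_, ?_⟩
  · apply IsFractionRing.injective A (FractionRing A)
    rw [map_zero, ← Polynomial.aeval_algebraMap_apply]
    exact IsLocalization.integerNormalization_aeval_eq_zero (nonZeroDivisors A₀) _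
      (minpoly.aeval _ _)
  · obtain ⟨b, hbm, hb⟩ := IsLocalization.integerNormalization_spec (nonZeroDivisors A₀)
      (minpoly (FractionRing A₀) (algebraMap A (FractionRing A) a))
    rw [hb, ← algebraMap_smul (FractionRing A₀) b, Polynomial.smul_eq_C_mul]
    refine Polynomial.Separable.unit_mul (Polynomial.isUnit_C.mpr ?_) hμ
    rw [isUnit_iff_ne_zero, Ne, map_eq_zero_iff _ (IsFractionRing.injective A₀ _)]
    exact nonZeroDivisors.ne_zero hbm

end sep

section dim

variable {A : Type u} [CommRing A] [IsNoetherianRing A] [IsLocalRing A]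

/-- Krull's height theorem for the maximal ideal. -/
theorem ringKrullDim_le_of_mem_minimalPrimes {n : ℕ} (x : Fin n → A)
    (hprim : maximalIdeal A ∈ (Ideal.span (Set.range x)).minimalPrimes) :
    ringKrullDim A ≤ n := by
  rw [← IsLocalRing.maximalIdeal_height_eq_ringKrullDim]
  have h1 := Ideal.height_le_card_of_mem_minimalPrimes_span (Set.finite_range x) hprim
  have h2 : (Set.range x).ncard ≤ n := by
    have := Set.ncard_image_le (f := x) (Set.finite_univ (α := Fin n))
    rw [Set.image_univ, Set.ncard_univ, Nat.card_eq_fintype_card, Fintype.card_fin] at this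
    exact this
  have h3 : (maximalIdeal A).height ≤ (n : ℕ∞) := h1.trans (by exact_mod_cast h2)
  exact_mod_cast h3

end dim

section domain

variable (k A : Type u) [Field k] [CommRing A] [IsDomain A] [IsLocalRing A] [IsNoetherianRing A]
  [Algebra k A] [IsAdicComplete (maximalIdeal A) A] [Module.Finite k (ResidueField A)]

/-- **The generic number of generators is at least the dimension.** -/
theorem ringKrullDim_le_of_genAt_bot (r : ℕ) (h : GenAt (⊥ : Ideal A) (Ωh k A) r) :
    ringKrullDim A ≤ r := by
  obtain ⟨n, x, hx, hprim, hn⟩ := Groth.Agent.Helper8.FinPS.exists_sop (R := A)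
  have hdim : ringKrullDim A ≤ n := ringKrullDim_le_of_mem_minimalPrimes x hprim
  by_cases hnr : n ≤ r
  · exact hdim.trans (by exact_mod_cast hnr)
  push Not at hnr
  exfalso
  -- the zero ideal is not maximal
  have hbot : (⊥ : Ideal A) ≠ maximalIdeal A := by
    intro hb
    have h1 : Ideal.span (Set.range x) = ⊥ := by
      rw [eq_bot_iff, Ideal.span_le]
      rintro _ ⟨i, rfl⟩
      have := hx i
      rw [← hb] at this
      exact this
    have hn0 : n = 0 := by
      by_contra hne
      have hi : 0 < n := Nat.pos_of_ne_zero hne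
      have hfield : IsField A :=
        IsLocalRing.isField_iff_maximalIdeal_eq.mpr hb.symm
      have h0 : ringKrullDim A = 0 := ringKrullDim_eq_zero_of_isField hfield
      rw [h0] at hn
      have : (n : WithBot ℕ∞) ≤ (0 : ℕ) := by exact_mod_cast hn
      have : n ≤ 0 := by exact_mod_cast this
      omega
    omega
  obtain ⟨y, hy, hyp, hspan⟩ := exists_avoid (⊥ : Ideal A) hbot x hx hprim
  obtain ⟨u, hu⟩ := exists_units_genBy (⊥ : Ideal A) (h.mono hnr.le) y hyp
  -- the new system of parameters
  have hy' : ∀ i, (u i : A) * y i ∈ maximalIdeal A := fun i => Ideal.mul_mem_left _ _ (hy i)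
  have hspan' : Ideal.span (Set.range fun i => (u i : A) * y i) = Ideal.span (Set.range x) := by
    rw [← hspan]
    apply le_antisymm
    · rw [Ideal.span_le]
      rintro _ ⟨i, rfl⟩
      exact Ideal.mul_mem_left _ _ (Ideal.subset_span ⟨i, rfl⟩)
    · rw [Ideal.span_le]
      rintro _ ⟨i, rfl⟩
      have h1 : y i = ((u i)⁻¹ : Aˣ) * ((u i : A) * y i) := by
        rw [← mul_assoc, Units.inv_mul, one_mul]
      rw [h1]
      exact Ideal.mul_mem_left _ _ (Ideal.subset_span ⟨i, rfl⟩)
  have hprim' : maximalIdeal A ∈
      (Ideal.span (Set.range fun i => (u i : A) * y i)).minimalPrimes := by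
    rw [hspan']; exact hprim
  obtain ⟨alg, tower, hloc, hfin, hX⟩ := exists_algebra_powerSeries k A n _ hy' hprim'
  haveI : IsDomain (MvPowerSeries (Fin n) k) := NoZeroDivisors.to_isDomain _
  have hinj : Function.Injective (algebraMap (MvPowerSeries (Fin n) k) A) :=
    Groth.Agent.Helper8.FinPS.injective_of_finite_of_dim (MvPowerSeries (Fin n) k) A n
      (le_of_eq (ringKrullDim_mvPowerSeries_fin k n)) hn
  have hgen : GenBy (⊥ : Ideal A) (Ωh k A) (fun j : Fin n =>
      dh k A (algebraMap (MvPowerSeries (Fin n) k) A (X j))) := by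
    have : (fun j : Fin n => dh k A (algebraMap (MvPowerSeries (Fin n) k) A (X j))) =
        fun i => dh k A ((u i : A) * y i) := by
      funext j; rw [hX]
    rw [this]; exact hu
  have hunr : Algebra.IsUnramifiedAt (MvPowerSeries (Fin n) k) (⊥ : Ideal A) :=
    (genBy_dh_iff_isUnramifiedAt k n A ⊥).mp hgen
  have hsep := hsep_of_isUnramifiedAt_bot (MvPowerSeries (Fin n) k) A hinj hunr
  have hrank := Groth.Agent.Helper8.CplKaehler.finrank_tensor_eq k n A hinj hsep
  have hle := h.finrank_le (FractionRing A) (fun f hf => by
    rw [Ne, map_eq_zero_iff _ (IsFractionRing.injective A (FractionRing A))]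
    exact hf)
  rw [hrank] at hle
  omega

end domain

end Groth.Agent.Helper8.EK
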