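import Mathlib
import Groth.Agent.Lib.Helper8.GenFib1
import Groth.Agent.Lib.Helper8.AdicFS17
import Groth.Agent.Lib.Helper8.RegularLocal

/-!
# Unramified over a regular ring and generically dominant implies étale
-/

set_option autoImplicit false
universe u

namespace Groth.Agent.Helper8.EK

open IsLocalRing

set_option maxHeartbeats 800000 in
/-- Let `R` be a regular ring, `S` an `R`-algebra of finite type unramified at the prime `Q`, and
suppose `Q` contains a prime lying over the zero ideal of `R`. Then `S` is étale over `R` at `Q`. -/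
theorem isEtaleAt_and_isRegularLocalRing (R S : Type u) [CommRing R] [IsDomain R]
    [IsRegularRing R] [CommRing S] [Algebra R S] [Algebra.FiniteType R S]
    (Q : Ideal S) [Q.IsPrime] [Algebra.IsUnramifiedAt R Q]
    (q : Ideal S) [q.IsPrime] (hqQ : q ≤ Q) (hq : q.comap (algebraMap R S) = ⊥) :
    Algebra.IsEtaleAt R Q ∧ IsRegularLocalRing (Localization.AtPrime Q) := by
  obtain ⟨f, hfQ, P, φ, hφ⟩ :=
    Algebra.IsUnramifiedAt.exists_hasStandardEtaleSurjectionOn (R := R) Q
  -- the map to the local ring
  have hfu : ∀ y : Submonoid.powers f,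
      IsUnit ((IsScalarTower.toAlgHom R S (Localization.AtPrime Q)) (y : S)) := by
    rintro ⟨_, n, rfl⟩
    rw [map_pow]
    refine IsUnit.pow n ?_
    exact IsLocalization.map_units (Localization.AtPrime Q) (⟨f, hfQ⟩ : Q.primeCompl)
  let γ : Localization.Away f →ₐ[R] Localization.AtPrime Q :=
    IsLocalization.liftAlgHom (M := Submonoid.powers f)
      (f := IsScalarTower.toAlgHom R S (Localization.AtPrime Q)) hfu
  have hγ : ∀ s : S, γ (algebraMap S (Localization.Away f) s) =
      algebraMap S (Localization.AtPrime Q) s := by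
    intro s
    show IsLocalization.lift _ (algebraMap S (Localization.Away f) s) = _
    rw [IsLocalization.lift_eq]
    rfl
  let Φ : P.Ring →ₐ[R] Localization.AtPrime Q := γ.comp φ
  -- preimages of elements of `S`
  have hlift : ∀ s : S, ∃ e : P.Ring, Φ e = algebraMap S (Localization.AtPrime Q) s := by
    intro s
    obtain ⟨e, he⟩ := hφ (algebraMap S (Localization.Away f) s)
    exact ⟨e, by rw [AlgHom.comp_apply, he, hγ]⟩
  let Q' : Ideal P.Ring := (maximalIdeal (Localization.AtPrime Q)).comap Φ.toRingHom
  haveI hQ' : Q'.IsPrime := Ideal.comap_isPrime _ _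
  have hunit : ∀ y : Q'.primeCompl, IsUnit (Φ (y : P.Ring)) := by
    rintro ⟨e, he⟩
    by_contra hnu
    exact he hnu
  let ψ : Localization.AtPrime Q' →ₐ[R] Localization.AtPrime Q :=
    IsLocalization.liftAlgHom (M := Q'.primeCompl) (f := Φ) hunit
  have hψ : ∀ e : P.Ring, ψ (algebraMap P.Ring (Localization.AtPrime Q') e) = Φ e := by
    intro e
    show IsLocalization.lift _ (algebraMap P.Ring (Localization.AtPrime Q') e) = _
    rw [IsLocalization.lift_eq]
    rfl
  -- surjectivity
  have hsurj : Function.Surjective ψ := by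
    intro t
    obtain ⟨s, w, rfl⟩ := IsLocalization.exists_mk'_eq Q.primeCompl t
    obtain ⟨es, hes⟩ := hlift s
    obtain ⟨ew, hew⟩ := hlift (w : S)
    have hewu : IsUnit (Φ ew) := by
      rw [hew]; exact IsLocalization.map_units _ w
    have hewQ : ew ∈ Q'.primeCompl := by
      intro hmem
      exact hmem hewu
    refine ⟨IsLocalization.mk' (Localization.AtPrime Q') es ⟨ew, hewQ⟩, ?_⟩
    rw [IsLocalization.eq_mk'_iff_mul_eq, ← hew, ← hψ ew, ← map_mul,
      IsLocalization.mk'_spec, hψ, hes]
  -- the local ring of the étale algebra is a regular local ring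
  haveI : IsNoetherianRing P.Ring := Algebra.FiniteType.isNoetherianRing R P.Ring
  haveI hreg : IsRegularLocalRing (Localization.AtPrime Q') :=
    Groth.Agent.Helper8.GenFib.isRegularLocalRing_atPrime_of_isRegularHom R P.Ring
      (Groth.Agent.Helper8.AdicFS.isRegularHom_of_formallySmooth R P.Ring) Q' inferInstance
  haveI hdom : IsDomain (Localization.AtPrime Q') :=
    Groth.Agent.Helper8.RLR.isDomain _
  -- injectivity
  have hdisj : Disjoint (Q.primeCompl : Set S) (q : Set S) := by
    rw [Set.disjoint_left]
    intro a ha haq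
    exact ha (hqQ haq)
  haveI hqT : (q.map (algebraMap S (Localization.AtPrime Q))).IsPrime :=
    IsLocalization.isPrime_of_isPrime_disjoint Q.primeCompl _ q inferInstance hdisj
  let 𝔮 : Ideal (Localization.AtPrime Q') :=
    (q.map (algebraMap S (Localization.AtPrime Q))).comap ψ.toRingHom
  haveI h𝔮 : 𝔮.IsPrime := Ideal.comap_isPrime _ _
  have h𝔮under : 𝔮.under R = (⊥ : Ideal R) := by
    rw [eq_bot_iff]
    intro x hx
    rw [Ideal.mem_bot]
    have h1 : ψ (algebraMap R (Localization.AtPrime Q') x) ∈
        q.map (algebraMap S (Localization.AtPrime Q)) := hx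
    rw [AlgHom.commutes, IsScalarTower.algebraMap_apply R S (Localization.AtPrime Q)] at h1
    have h2 : algebraMap R S x ∈ (q.map (algebraMap S (Localization.AtPrime Q))).under S := h1
    rw [IsLocalization.under_map_of_isPrime_disjoint Q.primeCompl _ inferInstance hdisj] at h2
    have h3 : x ∈ q.comap (algebraMap R S) := h2
    rw [hq] at h3
    exact h3
  have hbotunder : (⊥ : Ideal (Localization.AtPrime Q')).under R = 𝔮.under R := by
    rw [h𝔮under, eq_bot_iff]
    intro x hx
    have : x ∈ 𝔮.under R := Ideal.comap_mono (bot_le : (⊥ : Ideal _) ≤ 𝔮) hx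
    rw [h𝔮under] at this
    exact this
  haveI : Algebra.QuasiFinite R P.Ring := inferInstance
  haveI : Algebra.QuasiFinite R (Localization.AtPrime Q') := inferInstance
  have hbot : (⊥ : Ideal (Localization.AtPrime Q')) = 𝔮 :=
    Algebra.QuasiFinite.eq_of_le_of_under_eq (R := R) ⊥ 𝔮 bot_le hbotunder
  have hinj : Function.Injective ψ := by
    rw [injective_iff_map_eq_zero]
    intro d hd
    have h1 : d ∈ 𝔮 := by
      show ψ.toRingHom d ∈ q.map (algebraMap S (Localization.AtPrime Q))
      have : ψ.toRingHom d = 0 := hd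
      rw [this]; exact Ideal.zero_mem _
    rw [← hbot] at h1
    exact h1
  -- conclusion
  haveI : Algebra.FormallyEtale P.Ring (Localization.AtPrime Q') :=
    Algebra.FormallyEtale.of_isLocalization Q'.primeCompl
  haveI : Algebra.FormallyEtale R (Localization.AtPrime Q') :=
    Algebra.FormallyEtale.comp R P.Ring _
  exact ⟨Algebra.FormallyEtale.of_equiv (AlgEquiv.ofBijective ψ ⟨hinj, hsurj⟩),
    IsRegularLocalRing.of_ringEquiv (AlgEquiv.ofBijective ψ ⟨hinj, hsurj⟩).toRingEquiv⟩

/-- Let `R` be a regular ring, `S` an `R`-algebra of finite type unramified at the prime `Q`, and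
suppose `Q` contains a prime lying over the zero ideal of `R`. Then `S` is étale over `R` at `Q`. -/
theorem isEtaleAt_of_isUnramifiedAt_of_under_eq_bot (R S : Type u) [CommRing R] [IsDomain R]
    [IsRegularRing R] [CommRing S] [Algebra R S] [Algebra.FiniteType R S]
    (Q : Ideal S) [Q.IsPrime] [Algebra.IsUnramifiedAt R Q]
    (q : Ideal S) [q.IsPrime] (hqQ : q ≤ Q) (hq : q.comap (algebraMap R S) = ⊥) :
    Algebra.IsEtaleAt R Q :=
  (isEtaleAt_and_isRegularLocalRing R S Q q hqQ hq).1

end Groth.Agent.Helper8.EK
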