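import Mathlib
import Groth.Agent.Lib.Helper8.EK8
import Groth.Agent.Lib.Helper8.EK9
import Groth.Agent.Lib.Helper8.FinPS1
import Groth.Agent.Lib.Helper8.MvPSDim
import Groth.Agent.Lib.Helper8.CohenFact1

/-!
# From unramified to étale over a power series ring, at a prime of a top-dimensional component
-/

set_option autoImplicit false
universe u

namespace Groth.Agent.Helper8.EK

open IsLocalRing MvPowerSeries TensorProduct

/-- A finite algebra over `k[[T_1, …, T_n]]`, unramified at a prime `p` containing a prime `q`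
with `dim A/q = n`, is étale at `p`, and `A_p` is regular. -/
theorem isEtaleAt_of_isUnramifiedAt_of_dim (k A : Type u) [Field k] [CommRing A] (n : ℕ)
    [Algebra (MvPowerSeries (Fin n) k) A] [Module.Finite (MvPowerSeries (Fin n) k) A]
    (p : Ideal A) [p.IsPrime] [Algebra.IsUnramifiedAt (MvPowerSeries (Fin n) k) p]
    (q : Ideal A) [q.IsPrime] (hqp : q ≤ p) (hqdim : ringKrullDim (A ⧸ q) = n) :
    Algebra.IsEtaleAt (MvPowerSeries (Fin n) k) p ∧
      IsRegularLocalRing (Localization.AtPrime p) := by
  haveI : IsDomain (MvPowerSeries (Fin n) k) := NoZeroDivisors.to_isDomain _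
  haveI : IsRegularRing (MvPowerSeries (Fin n) k) :=
    Groth.Agent.Helper8.CohenFact.isRegularRing_of_isRegularLocalRing _
  haveI : Module.Finite (MvPowerSeries (Fin n) k) (A ⧸ q) :=
    Module.Finite.of_surjective (Algebra.linearMap A (A ⧸ q)
      |>.restrictScalars (MvPowerSeries (Fin n) k)) Ideal.Quotient.mk_surjective
  have hinj : Function.Injective (algebraMap (MvPowerSeries (Fin n) k) (A ⧸ q)) :=
    Groth.Agent.Helper8.FinPS.injective_of_finite_of_dim (MvPowerSeries (Fin n) k) (A ⧸ q) n
      (Groth.Agent.Helper8.ringKrullDim_mvPowerSeries_fin k n).le hqdim.ge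
  have hq0 : q.comap (algebraMap (MvPowerSeries (Fin n) k) A) = ⊥ := by
    rw [eq_bot_iff]
    intro x hx
    rw [Ideal.mem_bot]
    apply hinj
    rw [map_zero, IsScalarTower.algebraMap_apply (MvPowerSeries (Fin n) k) A (A ⧸ q)]
    exact Ideal.Quotient.eq_zero_iff_mem.mpr hx
  exact isEtaleAt_and_isRegularLocalRing (MvPowerSeries (Fin n) k) A p q hqp hq0

end Groth.Agent.Helper8.EK
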