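import Mathlib
import Groth.Agent.Lib.Helper8.EK1

/-!
# Freeness of a localized module from a minimal number of local generators
-/

set_option autoImplicit false
universe u v

namespace Groth.Agent.Helper8.EK

open TensorProduct

variable {A : Type u} [CommRing A] {M : Type v} [AddCommGroup M] [Module A M]

/-- If the local ring at `p` is a domain, then a minimal prime contained in `p` dies in it. -/
theorem algebraMap_eq_zero_of_mem_minimalPrimes (p : Ideal A) [p.IsPrime]
    [IsDomain (Localization.AtPrime p)] (q : Ideal A) (hq : q ∈ minimalPrimes A) (hqp : q ≤ p)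
    (a : A) (ha : a ∈ q) : algebraMap A (Localization.AtPrime p) a = 0 := by
  haveI : q.IsPrime := hq.1.1
  have hdisj : Disjoint (p.primeCompl : Set A) (q : Set A) := by
    rw [Set.disjoint_left]
    intro x hx hxq
    exact hx (hqp hxq)
  have hmin : q.map (algebraMap A (Localization.AtPrime p)) ∈
      minimalPrimes (Localization.AtPrime p) := by
    have h1 := IsLocalization.minimalPrimes_map p.primeCompl (Localization.AtPrime p)
      (⊥ : Ideal A)
    rw [Ideal.map_bot] at h1
    show q.map (algebraMap A (Localization.AtPrime p)) ∈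
      (⊥ : Ideal (Localization.AtPrime p)).minimalPrimes
    rw [h1, Set.mem_preimage,
      IsLocalization.under_map_of_isPrime_disjoint p.primeCompl _ inferInstance hdisj]
    exact hq
  have hbot : q.map (algebraMap A (Localization.AtPrime p)) = ⊥ := by
    have h2 : (⊥ : Ideal (Localization.AtPrime p)) ∈ minimalPrimes (Localization.AtPrime p) :=
      ⟨⟨Ideal.isPrime_bot, bot_le⟩, fun _ _ _ => bot_le⟩
    exact le_antisymm (hmin.2 h2.1 bot_le) bot_le
  have h3 : algebraMap A (Localization.AtPrime p) a ∈
      q.map (algebraMap A (Localization.AtPrime p)) := Ideal.mem_map_of_mem _ ha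
  rw [hbot] at h3
  exact h3

/-- Dropping a generator with the help of a linear relation. -/
theorem GenBy.drop {p : Ideal A} {n : ℕ} {s : Fin (n + 1) → M} (hs : GenBy p M s)
    (q : Ideal A) [q.IsPrime] (hqp : q ≤ p) (a : Fin (n + 1) → A)
    (hrel : ∑ i, a i • s i = 0) (j : Fin (n + 1)) (hj : a j ∉ q) :
    GenBy q M (s ∘ j.succAbove) := by
  have hsj : a j • s j ∈ Submodule.span A (Set.range (s ∘ j.succAbove)) := by
    rw [Fin.sum_univ_succAbove _ j] at hrel
    have h1 : a j • s j = - ∑ i, a (j.succAbove i) • s (j.succAbove i) :=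
      eq_neg_of_add_eq_zero_left hrel
    rw [h1]
    refine Submodule.neg_mem _ (Submodule.sum_mem _ fun i _ => ?_)
    exact Submodule.smul_mem _ _ (Submodule.subset_span ⟨i, rfl⟩)
  have key : ∀ w ∈ Submodule.span A (Set.range s),
      a j • w ∈ Submodule.span A (Set.range (s ∘ j.succAbove)) := by
    intro w hw
    induction hw using Submodule.span_induction with
    | mem x hx =>
      obtain ⟨i, rfl⟩ := hx
      rcases Fin.eq_self_or_eq_succAbove j i with h | ⟨i', h⟩
      · rw [h]; exact hsj
      · rw [h]
        exact Submodule.smul_mem _ _ (Submodule.subset_span ⟨i', rfl⟩)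
    | zero => rw [smul_zero]; exact Submodule.zero_mem _
    | add x y _ _ hx hy => rw [smul_add]; exact Submodule.add_mem _ hx hy
    | smul c x _ hx => rw [smul_comm]; exact Submodule.smul_mem _ _ hx
  intro z
  obtain ⟨f, hf, hz⟩ := hs z
  refine ⟨a j * f, ?_, ?_⟩
  · intro h
    rcases Ideal.IsPrime.mem_or_mem inferInstance h with h | h
    · exact hj h
    · exact hf (hqp h)
  · rw [mul_smul]
    exact key _ hz

/-- Local generators in minimal number are linearly independent in the localized module. -/
theorem linearIndependent_mk_of_genBy (p : Ideal A) [p.IsPrime] {n : ℕ} (s : Fin n → M)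
    (hs : GenBy p M s) (q : Ideal A) [q.IsPrime] (hqp : q ≤ p)
    (hq0 : ∀ a ∈ q, algebraMap A (Localization.AtPrime p) a = 0)
    (hnot : ∀ m, m + 1 = n → ¬ GenAt q M m) :
    LinearIndependent (Localization.AtPrime p)
      (fun i => LocalizedModule.mkLinearMap p.primeCompl M (s i)) := by
  classical
  rw [Fintype.linearIndependent_iff]
  intro g hg i₀
  obtain ⟨b, hb⟩ := IsLocalization.exist_integer_multiples_of_finite p.primeCompl g
  choose a ha using hb
  -- the relation with coefficients in `A`
  have h1 : LocalizedModule.mkLinearMap p.primeCompl M (∑ i, a i • s i) = 0 := by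
    rw [map_sum]
    have h2 : ∀ i, LocalizedModule.mkLinearMap p.primeCompl M (a i • s i) =
        (b : A) • (g i • LocalizedModule.mkLinearMap p.primeCompl M (s i)) := by
      intro i
      rw [map_smul, ← algebraMap_smul (Localization.AtPrime p) (a i), ha i, smul_assoc]
    rw [Finset.sum_congr rfl (fun i _ => h2 i), ← Finset.smul_sum, hg, smul_zero]
  obtain ⟨c, hc⟩ := (IsLocalizedModule.eq_zero_iff p.primeCompl
    (LocalizedModule.mkLinearMap p.primeCompl M)).mp h1
  have hrel : ∑ i, ((c : A) * a i) • s i = 0 := by
    rw [← hc, Submonoid.smul_def, Finset.smul_sum]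
    exact Finset.sum_congr rfl (fun i _ => mul_smul _ _ _)
  have hmem : ∀ i, (c : A) * a i ∈ q := by
    obtain _ | m := n
    · intro i; exact i.elim0
    · intro j
      by_contra hj
      exact hnot m rfl ⟨_, hs.drop q hqp _ hrel j hj⟩
  have h3 := hq0 _ (hmem i₀)
  rw [map_mul, ha i₀, Algebra.smul_def, ← mul_assoc] at h3
  have hu : IsUnit (algebraMap A (Localization.AtPrime p) (c : A) *
      algebraMap A (Localization.AtPrime p) (b : A)) :=
    (IsLocalization.map_units _ c).mul (IsLocalization.map_units _ b)
  exact hu.mul_right_eq_zero.mp h3 |> fun h => h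

/-- Local generators in minimal number form a basis of the localized module. -/
theorem free_and_finrank_of_genBy (p : Ideal A) [p.IsPrime] {n : ℕ} (s : Fin n → M)
    (hs : GenBy p M s) (q : Ideal A) [q.IsPrime] (hqp : q ≤ p)
    (hq0 : ∀ a ∈ q, algebraMap A (Localization.AtPrime p) a = 0)
    (hnot : ∀ m, m + 1 = n → ¬ GenAt q M m) :
    Module.Free (Localization.AtPrime p) (LocalizedModule p.primeCompl M) ∧
      Module.finrank (Localization.AtPrime p) (LocalizedModule p.primeCompl M) = n := by
  have hli := linearIndependent_mk_of_genBy p s hs q hqp hq0 hnot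
  have hspan := (genBy_iff_span_localizedModule s).mp hs
  let b : Module.Basis (Fin n) (Localization.AtPrime p) (LocalizedModule p.primeCompl M) :=
    Module.Basis.mk hli hspan.ge
  refine ⟨Module.Free.of_basis b, ?_⟩
  rw [Module.finrank_eq_card_basis b, Fintype.card_fin]

end Groth.Agent.Helper8.EK
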