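import Mathlib
import Groth.Agent.Lib.Helper8.AdicFS6
import Groth.Agent.Lib.Helper8.PRad12
import Groth.Agent.Lib.Helper8.PRad14
import Groth.Agent.Lib.Helper8.PSeries2

/-!
# Geometric regularity of the local rings of an algebra étale over a power series ring
-/

set_option autoImplicit false
universe u

namespace Groth.Agent.Helper8.EK

open IsLocalRing CAlgX

/-- Formally smooth (discrete) over formally smooth (adic) is formally smooth (adic). -/
theorem isAdicFormallySmooth_comp {k B C : Type u} [CommRing k] [CommRing B] [CommRing C]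
    [Algebra k B] [Algebra B C] [Algebra k C] [IsScalarTower k B C] [Algebra.FormallySmooth B C]
    {𝔫 : Ideal B} (h : IsAdicFormallySmooth k B 𝔫) (𝔫' : Ideal C)
    (h𝔫 : 𝔫.map (algebraMap B C) ≤ 𝔫') : IsAdicFormallySmooth k C 𝔫' := by
  intro T _ _ J hJ ψ ⟨t, ht⟩
  let ψ₀ : B →ₐ[k] T ⧸ J := ψ.comp (IsScalarTower.toAlgHom k B C)
  obtain ⟨χ₀, hχ₀⟩ := h T J hJ ψ₀ ⟨t, fun x hx => by
    show ψ (algebraMap B C x) = 0
    apply ht
    refine Ideal.pow_right_mono h𝔫 t ?_
    rw [← Ideal.map_pow]
    exact Ideal.mem_map_of_mem _ hx⟩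
  have hχ₀' : ∀ b, Ideal.Quotient.mk J (χ₀ b) = ψ (algebraMap B C b) :=
    fun b => AlgHom.congr_fun hχ₀ b
  letI : Algebra B T := χ₀.toRingHom.toAlgebra
  haveI : IsScalarTower k B T := IsScalarTower.of_algebraMap_eq (fun x => (χ₀.commutes x).symm)
  let ψ' : C →ₐ[B] T ⧸ J :=
    { ψ.toRingHom with
      commutes' := fun b => by
        show ψ (algebraMap B C b) = Ideal.Quotient.mk J (χ₀ b)
        rw [hχ₀'] }
  let l : C →ₐ[B] T := Algebra.FormallySmooth.lift J ⟨2, hJ⟩ ψ'
  have hl : ∀ x, Ideal.Quotient.mk J (l x) = ψ' x :=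
    Algebra.FormallySmooth.mk_lift J ⟨2, hJ⟩ ψ'
  refine ⟨l.restrictScalars k, ?_⟩
  ext c
  exact hl c

/-- The local rings of a Noetherian algebra at the primes where it is étale over
`k[[T_1, …, T_n]]` are geometrically regular over `k`. -/
theorem isGeometricallyRegular_atPrime_of_isEtaleAt (k A : Type u) [Field k] [CommRing A]
    [IsNoetherianRing A] [Algebra k A] (n : ℕ) [Algebra (MvPowerSeries (Fin n) k) A]
    [IsScalarTower k (MvPowerSeries (Fin n) k) A] (p : Ideal A) [p.IsPrime]
    [Algebra.IsEtaleAt (MvPowerSeries (Fin n) k) p] :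
    CAlg.IsGeometricallyRegular k (Localization.AtPrime p) := by
  -- the power series ring is geometrically regular
  have h0 : IsAdicFormallySmooth k (MvPowerSeries (Fin n) k)
      (maximalIdeal (MvPowerSeries (Fin n) k)) :=
    Groth.Agent.Helper8.PSeries.isAdicFormallySmooth_mvPowerSeries k k n _ (fun i => by
      rw [IsLocalRing.mem_maximalIdeal, mem_nonunits_iff, MvPowerSeries.isUnit_iff_constantCoeff]
      simp)
  have h1 : CAlg.IsGeometricallyRegular k (MvPowerSeries (Fin n) k) :=
    Groth.Agent.Helper8.AdicFS.isGeometricallyRegular h0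
  -- so are its local rings
  let p₀ : Ideal (MvPowerSeries (Fin n) k) := p.under (MvPowerSeries (Fin n) k)
  have h2 : CAlg.IsGeometricallyRegular k (Localization.AtPrime p₀) :=
    Groth.Agent.Helper8.PRad.isGeometricallyRegular_localization h1 p₀.primeCompl
  have h3 : IsAdicFormallySmooth k (Localization.AtPrime p₀)
      (maximalIdeal (Localization.AtPrime p₀)) :=
    Groth.Agent.Helper8.PRad.isGeometricallyRegular_iff_isAdicFormallySmooth.mp h2
  -- pass to the étale extension
  letI := Localization.AtPrime.algebraOfLiesOver p₀ p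
  haveI : Algebra.FormallySmooth (MvPowerSeries (Fin n) k) (Localization.AtPrime p) :=
    inferInstance
  haveI : Algebra.FormallySmooth (Localization.AtPrime p₀) (Localization.AtPrime p) :=
    Algebra.FormallySmooth.localization_base p₀.primeCompl
  have h4 : IsAdicFormallySmooth k (Localization.AtPrime p)
      (maximalIdeal (Localization.AtPrime p)) := by
    refine isAdicFormallySmooth_comp h3 _ ?_
    haveI : IsLocalHom (algebraMap (Localization.AtPrime p₀) (Localization.AtPrime p)) :=
      Localization.isLocalHom_localRingHom p₀ p (algebraMap _ A) Ideal.LiesOver.over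
    rw [Ideal.map_le_iff_le_comap]
    intro x hx
    exact (IsLocalRing.mem_maximalIdeal _).mpr
      (fun hu => (IsLocalRing.mem_maximalIdeal _).mp hx (isUnit_of_map_unit _ _ hu))
  exact Groth.Agent.Helper8.AdicFS.isGeometricallyRegular h4

end Groth.Agent.Helper8.EK
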