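import Mathlib
import Groth.Agent.Lib.Helper8.EK10
import Groth.Agent.Lib.Helper8.EK11
import Groth.Agent.Lib.Helper8.EK12

/-!
# EGA IV 18 (completed differentials): minimal local generation gives freeness, étaleness over a
power series ring and geometric regularity
-/

set_option autoImplicit false
universe u

namespace Groth.Agent.Helper8.EK

open IsLocalRing MvPowerSeries TensorProduct

variable (k A : Type u) [Field k] [CommRing A] [IsLocalRing A] [IsNoetherianRing A] [Algebra k A]
  [IsAdicComplete (maximalIdeal A) A] [Module.Finite k (ResidueField A)]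

/-- If the completed differentials are generated at `p` by `n = dim A` elements, and `p` lies on a
component of dimension `n`, then they are free of rank `n` at `p`, `A_p` is geometrically regular,
and `A` is finite over a power series ring in `n` variables and étale over it at `p`. -/
theorem free_geomRegular_etale_of_genAt (n : ℕ) (hn : ringKrullDim A = n) (p : Ideal A)
    [p.IsPrime] (hp : p ≠ maximalIdeal A)
    (hq : ∃ q ∈ minimalPrimes A, q ≤ p ∧ ringKrullDim (A ⧸ q) = n)
    (h : GenAt p (Ωh k A) n) :
    (Module.Free (Localization.AtPrime p) (LocalizedModule p.primeCompl (Ωh k A)) ∧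
      Module.finrank (Localization.AtPrime p) (LocalizedModule p.primeCompl (Ωh k A)) = n) ∧
    CAlg.IsGeometricallyRegular k (Localization.AtPrime p) ∧
    ∃ (_ : Algebra (MvPowerSeries (Fin n) k) A) (_ : IsScalarTower k (MvPowerSeries (Fin n) k) A),
      IsLocalHom (algebraMap (MvPowerSeries (Fin n) k) A) ∧
        Module.Finite (MvPowerSeries (Fin n) k) A ∧
          Algebra.IsEtaleAt (MvPowerSeries (Fin n) k) p := by
  obtain ⟨q, hqmin, hqp, hqdim⟩ := hq
  haveI : q.IsPrime := hqmin.1.1
  obtain ⟨alg, tower, hloc, hfin, hunr⟩ := exists_unramified_of_genAt k A p hp n hn.le h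
  letI := alg
  haveI := tower
  haveI := hloc
  haveI := hfin
  haveI := hunr
  obtain ⟨het, hreg⟩ := isEtaleAt_of_isUnramifiedAt_of_dim k A n p q hqp hqdim
  haveI := het
  haveI := hreg
  haveI : IsDomain (Localization.AtPrime p) := Groth.Agent.Helper8.RLR.isDomain _
  obtain ⟨s, hs⟩ := h
  refine ⟨free_and_finrank_of_genBy p s hs q hqp
    (algebraMap_eq_zero_of_mem_minimalPrimes p q hqmin hqp) ?_,
    isGeometricallyRegular_atPrime_of_isEtaleAt k A n p, alg, tower, hloc, hfin, het⟩
  intro m hm hgen
  have h1 := ringKrullDim_quotient_le_of_genAt k A q q le_rfl m hgen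
  rw [hqdim] at h1
  have h2 : n ≤ m := by exact_mod_cast h1
  omega

end Groth.Agent.Helper8.EK
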