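import Mathlib
import Groth.Prelude
import Groth.Agent.Lib.Helper8.CT9
import Groth.Agent.Lib.Helper8.EK13
import Groth.Agent.Lib.Helper8.NJ4
import Groth.Agent.Lib.Helper8.GRBase6

/-!
# Completed differentials: functoriality and the criterion with the local dimension
-/

set_option autoImplicit false
universe u

namespace Groth.Agent.Helper8.CT

open IsLocalRing TensorProduct Groth.Agent.Helper8.EK

section push

variable (k A : Type u) [Field k] [CommRing A] [IsLocalRing A] [IsNoetherianRing A] [Algebra k A]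
  [IsAdicComplete (maximalIdeal A) A] [Module.Finite k (ResidueField A)]
  (k' A' : Type u) [Field k'] [CommRing A'] [IsLocalRing A'] [IsNoetherianRing A'] [Algebra k' A']
  [IsAdicComplete (maximalIdeal A') A'] [Module.Finite k' (ResidueField A')]
  [Algebra k k'] [Algebra A A'] [Algebra k A'] [IsScalarTower k A A'] [IsScalarTower k k' A']

/-- The completed differentials of `A'` are complete for the topology of the maximal ideal of `A`
when the latter generates an ideal of definition. -/
theorem isAdicComplete_Ωh_of_pow_le [IsLocalHom (algebraMap A A')]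
    (hr : ∃ r : ℕ, maximalIdeal A' ^ r ≤ (maximalIdeal A).map (algebraMap A A')) :
    IsAdicComplete (maximalIdeal A) (Ωh k' A') := by
  haveI h1 : IsAdicComplete (maximalIdeal A') (Ωh k' A') :=
    Groth.Agent.Helper8.GRing.isAdicComplete_of_finite A' _ _
  obtain ⟨r, hr⟩ := hr
  have hle : (maximalIdeal A).map (algebraMap A A') ≤ maximalIdeal A' :=
    map_maximalIdeal_le A A'
  haveI h2 : IsAdicComplete ((maximalIdeal A).map (algebraMap A A')) (Ωh k' A') :=
    Groth.Agent.Helper8.isAdicComplete_of_pow_le (J := maximalIdeal A') (c := 1) (d := r + 1)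
      one_pos (Nat.succ_pos r) (by rw [pow_one]; exact hle)
      ((Ideal.pow_le_pow_right (Nat.le_succ r)).trans hr)
  exact (IsAdicComplete.map_algebraMap_iff (maximalIdeal A) (Ωh k' A')).1 h2

variable [IsAdicComplete (maximalIdeal A) (Ωh k' A')]

/-- The natural map between completed modules of differentials. -/
noncomputable def ΩhMap : Ωh k A →ₗ[A] Ωh k' A' :=
  ((AdicCompletion.ofLinearEquiv (maximalIdeal A) (Ωh k' A')).symm : _ →ₗ[A] _).comp
    ((AdicCompletion.map (maximalIdeal A)
      (((AdicCompletion.of (maximalIdeal A') (Ω[A'⁄k'])).restrictScalars A).comp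
        (KaehlerDifferential.map k k' A A'))).restrictScalars A)

theorem ΩhMap_dh (a : A) : ΩhMap k A k' A' (dh k A a) = dh k' A' (algebraMap A A' a) := by
  rw [dh_apply]
  show (AdicCompletion.ofLinearEquiv (maximalIdeal A) (Ωh k' A')).symm
    (AdicCompletion.map (maximalIdeal A) _ (AdicCompletion.of (maximalIdeal A) (Ω[A⁄k])
      (KaehlerDifferential.D k A a))) = _
  rw [AdicCompletion.map_of, AdicCompletion.ofLinearEquiv_symm_of]
  show AdicCompletion.of _ _ (KaehlerDifferential.map k k' A A' (KaehlerDifferential.D k A a)) = _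
  rw [KaehlerDifferential.map_D, dh_apply]

theorem ΩhMap_smul (a : A) (z : Ωh k A) :
    ΩhMap k A k' A' (a • z) = algebraMap A A' a • ΩhMap k A k' A' z := by
  rw [map_smul, algebraMap_smul]

/-- Pushing local generation of the completed differentials forward. -/
theorem genAt_push (hspan : Submodule.span A'
      (Set.range fun a : A => dh k' A' (algebraMap A A' a)) = ⊤)
    (p : Ideal A) (p' : Ideal A') [p'.IsPrime] (hp : p'.comap (algebraMap A A') ≤ p) (r : ℕ)
    (h : GenAt p (Ωh k A) r) : GenAt p' (Ωh k' A') r := by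
  obtain ⟨s, hs⟩ := h
  have hspan' : Submodule.span A' (Set.range (ΩhMap k A k' A').toAddMonoidHom) = ⊤ := by
    rw [eq_top_iff, ← hspan, Submodule.span_le]
    rintro _ ⟨a, rfl⟩
    exact Submodule.subset_span ⟨dh k A a, ΩhMap_dh k A k' A' a⟩
  exact ⟨_, GenBy.push (algebraMap A A') hp (ΩhMap k A k' A').toAddMonoidHom
    (ΩhMap_smul k A k' A') hspan' hs⟩

end push

section locKer

variable {A : Type u} [CommRing A] (p : Ideal A) [p.IsPrime]

/-- The kernel of the localization map at `p`. -/
def locKer : Ideal A := RingHom.ker (algebraMap A (Localization.AtPrime p))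

theorem mem_locKer_iff (x : A) : x ∈ locKer p ↔ ∃ s : A, s ∉ p ∧ s * x = 0 := by
  rw [locKer, RingHom.mem_ker, IsLocalization.map_eq_zero_iff p.primeCompl]
  constructor
  · rintro ⟨⟨s, hs⟩, h⟩
    exact ⟨s, hs, h⟩
  · rintro ⟨s, hs, h⟩
    exact ⟨⟨s, hs⟩, h⟩

theorem locKer_le_of_le (Q : Ideal A) [Q.IsPrime] (hQ : Q ≤ p) : locKer p ≤ Q := by
  intro x hx
  obtain ⟨s, hs, hsx⟩ := (mem_locKer_iff p x).1 hx
  have : s * x ∈ Q := by rw [hsx]; exact Ideal.zero_mem _
  exact (Ideal.IsPrime.mem_or_mem inferInstance this).resolve_left (fun h => hs (hQ h))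

theorem locKer_le : locKer p ≤ p := locKer_le_of_le p p le_rfl

theorem map_locKer : (locKer p).map (algebraMap A (Localization.AtPrime p)) = ⊥ := by
  rw [eq_bot_iff, Ideal.map_le_iff_le_comap]
  intro x hx
  rw [Ideal.mem_comap, Ideal.mem_bot]
  exact hx

theorem comap_map_mk_locKer :
    (p.map (Ideal.Quotient.mk (locKer p))).comap (Ideal.Quotient.mk (locKer p)) = p := by
  rw [Ideal.comap_map_of_surjective _ Ideal.Quotient.mk_surjective, ← RingHom.ker_eq_comap_bot,
    Ideal.mk_ker, sup_eq_left]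
  exact locKer_le p

instance isPrime_map_mk_locKer : (p.map (Ideal.Quotient.mk (locKer p))).IsPrime := by
  apply Ideal.map_isPrime_of_surjective Ideal.Quotient.mk_surjective
  rw [Ideal.mk_ker]
  exact locKer_le p

/-- Elements outside `p` are nonzerodivisors modulo the kernel of localization. -/
theorem mk_mem_nonZeroDivisors (s : A) (hs : s ∉ p) :
    Ideal.Quotient.mk (locKer p) s ∈ nonZeroDivisors (A ⧸ locKer p) := by
  rw [mem_nonZeroDivisors_iff_right]
  intro x hx
  obtain ⟨x, rfl⟩ := Ideal.Quotient.mk_surjective x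
  rw [← map_mul, Ideal.Quotient.eq_zero_iff_mem] at hx
  obtain ⟨t, ht, htx⟩ := (mem_locKer_iff p _).1 hx
  rw [Ideal.Quotient.eq_zero_iff_mem, mem_locKer_iff]
  refine ⟨t * s, fun h => (Ideal.IsPrime.mem_or_mem inferInstance h).elim ht hs, ?_⟩
  rw [← htx]; ring

/-- The minimal primes of `A / ker(A → A_p)` lie below the image of `p` and come from minimal
primes of `A`. -/
theorem minimalPrimes_quotient_locKer (Q : Ideal (A ⧸ locKer p)) (hQ : Q ∈ minimalPrimes (A ⧸ locKer p)) :
    Q ≤ p.map (Ideal.Quotient.mk (locKer p)) ∧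
      Q.comap (Ideal.Quotient.mk (locKer p)) ∈ minimalPrimes A ∧
        Q.comap (Ideal.Quotient.mk (locKer p)) ≤ p := by
  haveI : Q.IsPrime := hQ.1.1
  have hdisj := Ideal.disjoint_nonZeroDivisors_of_mem_minimalPrimes hQ
  have hle : Q ≤ p.map (Ideal.Quotient.mk (locKer p)) := by
    intro x hx
    obtain ⟨x, rfl⟩ := Ideal.Quotient.mk_surjective x
    by_contra hxp
    have hxp' : x ∉ p := fun h => hxp (Ideal.mem_map_of_mem _ h)
    exact Set.disjoint_left.mp hdisj hx (mk_mem_nonZeroDivisors p x hxp')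
  have hcle : Q.comap (Ideal.Quotient.mk (locKer p)) ≤ p := by
    exact (Ideal.comap_mono hle).trans (comap_map_mk_locKer p).le
  refine ⟨hle, ?_, hcle⟩
  haveI : (Q.comap (Ideal.Quotient.mk (locKer p))).IsPrime := Ideal.IsPrime.comap _
  obtain ⟨Q₀, hQ₀, hQ₀le⟩ := Ideal.exists_minimalPrimes_le
    (bot_le : (⊥ : Ideal A) ≤ Q.comap (Ideal.Quotient.mk (locKer p)))
  haveI : Q₀.IsPrime := hQ₀.1.1
  have h1 : locKer p ≤ Q₀ := locKer_le_of_le p Q₀ (hQ₀le.trans hcle)
  have h2 : (Q₀.map (Ideal.Quotient.mk (locKer p))).IsPrime := by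
    apply Ideal.map_isPrime_of_surjective Ideal.Quotient.mk_surjective
    rw [Ideal.mk_ker]; exact h1
  have h3 : Q₀.map (Ideal.Quotient.mk (locKer p)) ≤ Q := by
    rw [Ideal.map_le_iff_le_comap]; exact hQ₀le
  have h4 : Q ≤ Q₀.map (Ideal.Quotient.mk (locKer p)) := hQ.2 ⟨h2, bot_le⟩ h3
  have h5 : Q.comap (Ideal.Quotient.mk (locKer p)) = Q₀ := by
    apply le_antisymm _ hQ₀le
    have := Ideal.comap_mono (f := Ideal.Quotient.mk (locKer p)) h4
    rwa [Ideal.comap_map_of_surjective _ Ideal.Quotient.mk_surjective, ← RingHom.ker_eq_comap_bot,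
      Ideal.mk_ker, sup_eq_left.mpr h1] at this
  rw [h5]; exact hQ₀

end locKer

section criterion

variable (k A : Type u) [Field k] [CommRing A] [IsLocalRing A] [IsNoetherianRing A] [Algebra k A]
  [IsAdicComplete (maximalIdeal A) A] [Module.Finite k (ResidueField A)]

/-- **The criterion with the local dimension.** If the completed differentials are generated at
`p` by `n` elements, `n` being the largest dimension of a component through `p`, then they are
free of rank `n` at `p` and `A_p` is geometrically regular. -/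
theorem free_geomRegular_of_genAt_local (p : Ideal A) [p.IsPrime] (hp : p ≠ maximalIdeal A) (n : ℕ)
    (hn₁ : ∀ q ∈ minimalPrimes A, q ≤ p → ringKrullDim (A ⧸ q) ≤ n)
    (hn₂ : ∃ q ∈ minimalPrimes A, q ≤ p ∧ ringKrullDim (A ⧸ q) = n)
    (h : GenAt p (Ωh k A) n) :
    (Module.Free (Localization.AtPrime p) (LocalizedModule p.primeCompl (Ωh k A)) ∧
      Module.finrank (Localization.AtPrime p) (LocalizedModule p.primeCompl (Ωh k A)) = n) ∧
    CAlg.IsGeometricallyRegular k (Localization.AtPrime p) ∧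
    IsRegularLocalRing (Localization.AtPrime p) := by
  obtain ⟨q, hqmin, hqp, hqdim⟩ := hn₂
  haveI : q.IsPrime := hqmin.1.1
  have hne : locKer p ≠ ⊤ := fun h => (Ideal.IsPrime.ne_top inferInstance)
    (top_le_iff.mp (h ▸ locKer_le p))
  haveI : Nontrivial (A ⧸ locKer p) := Ideal.Quotient.nontrivial_iff.mpr hne
  haveI : IsLocalRing (A ⧸ locKer p) :=
    IsLocalRing.of_surjective' (Ideal.Quotient.mk (locKer p)) Ideal.Quotient.mk_surjective
  haveI : IsAdicComplete (maximalIdeal (A ⧸ locKer p)) (A ⧸ locKer p) :=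
    Groth.Agent.Helper8.CohenFact.isAdicComplete_of_surjective (Ideal.Quotient.mk (locKer p))
      Ideal.Quotient.mk_surjective
  haveI : IsLocalHom (algebraMap A (A ⧸ locKer p)) :=
    IsLocalHom.of_surjective _ Ideal.Quotient.mk_surjective
  haveI : Module.Finite (ResidueField A) (ResidueField (A ⧸ locKer p)) := inferInstance
  haveI : Module.Finite k (ResidueField (A ⧸ locKer p)) :=
    Module.Finite.trans (ResidueField A) _
  -- the prime of the quotient
  have hp₁ : p.map (Ideal.Quotient.mk (locKer p)) ≠ maximalIdeal (A ⧸ locKer p) := by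
    intro heq
    apply hp
    have h1 := comap_map_mk_locKer p
    rw [heq] at h1
    rw [← h1]
    exact IsLocalRing.maximalIdeal_comap (algebraMap A (A ⧸ locKer p))
  -- dimension of the quotient
  have hquot : ∀ (J : Ideal A) (hJ : locKer p ≤ J),
      ringKrullDim ((A ⧸ locKer p) ⧸ J.map (Ideal.Quotient.mk (locKer p))) = ringKrullDim (A ⧸ J) :=
    fun J hJ => ringKrullDim_eq_of_ringEquiv (DoubleQuot.quotQuotEquivQuotOfLE hJ)
  have hdim₁ : ringKrullDim (A ⧸ locKer p) ≤ n := by
    refine Groth.Agent.Helper8.FC.ringKrullDim_le_of_minimalPrimes _ fun Q hQ => ?_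
    obtain ⟨-, hQmin, hQp⟩ := minimalPrimes_quotient_locKer p Q hQ
    haveI : (Q.comap (Ideal.Quotient.mk (locKer p))).IsPrime := hQmin.1.1
    have h1 := hquot _ (locKer_le_of_le p _ hQp)
    rw [Ideal.map_comap_of_surjective _ Ideal.Quotient.mk_surjective] at h1
    rw [h1]
    exact hn₁ _ hQmin hQp
  have hker_q : locKer p ≤ q := locKer_le_of_le p q hqp
  haveI hq₁prime : (q.map (Ideal.Quotient.mk (locKer p))).IsPrime := by
    apply Ideal.map_isPrime_of_surjective Ideal.Quotient.mk_surjective
    rw [Ideal.mk_ker]; exact hker_q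
  have hq₁p : q.map (Ideal.Quotient.mk (locKer p)) ≤ p.map (Ideal.Quotient.mk (locKer p)) :=
    Ideal.map_mono hqp
  have hq₁dim : ringKrullDim ((A ⧸ locKer p) ⧸ q.map (Ideal.Quotient.mk (locKer p))) = n := by
    rw [hquot q hker_q, hqdim]
  -- local generation on the quotient
  haveI : Module.Finite A (Ωh k (A ⧸ locKer p)) := Module.Finite.trans (A ⧸ locKer p) _
  haveI : IsAdicComplete (maximalIdeal A) (Ωh k (A ⧸ locKer p)) :=
    Groth.Agent.Helper8.GRing.isAdicComplete_of_finite A _ _
  have hspan : Submodule.span (A ⧸ locKer p)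
      (Set.range fun a : A => dh k (A ⧸ locKer p) (algebraMap A (A ⧸ locKer p) a)) = ⊤ := by
    rw [eq_top_iff, ← span_range_dh k (A ⧸ locKer p), Submodule.span_le]
    rintro _ ⟨b, rfl⟩
    obtain ⟨a, rfl⟩ := Ideal.Quotient.mk_surjective b
    exact Submodule.subset_span ⟨a, rfl⟩
  have h₁ : GenAt (p.map (Ideal.Quotient.mk (locKer p))) (Ωh k (A ⧸ locKer p)) n :=
    genAt_push k A k (A ⧸ locKer p) hspan p _ (comap_map_mk_locKer p).le n h
  -- the results on the quotient
  obtain ⟨alg, tower, hloc, hfin, hunr⟩ :=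
    exists_unramified_of_genAt k (A ⧸ locKer p) _ hp₁ n hdim₁ h₁
  letI := alg
  haveI := tower
  haveI := hloc
  haveI := hfin
  haveI := hunr
  obtain ⟨het, hreg⟩ := isEtaleAt_of_isUnramifiedAt_of_dim k (A ⧸ locKer p) n
    (p.map (Ideal.Quotient.mk (locKer p))) (q.map (Ideal.Quotient.mk (locKer p))) hq₁p hq₁dim
  haveI := het
  have hgr₁ := isGeometricallyRegular_atPrime_of_isEtaleAt k (A ⧸ locKer p) n
    (p.map (Ideal.Quotient.mk (locKer p)))
  -- transport to `A_p`
  let e1 := (Groth.Agent.Helper8.NJ.locQuotEquiv (locKer p) p (locKer_le p)).restrictScalars k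
  let e2 : (Localization.AtPrime p ⧸ (locKer p).map (algebraMap A (Localization.AtPrime p)))
      ≃ₐ[k] (Localization.AtPrime p ⧸ (⊥ : Ideal (Localization.AtPrime p))) :=
    Ideal.quotientEquivAlgOfEq k (map_locKer p)
  let e3 : (Localization.AtPrime p ⧸ (⊥ : Ideal (Localization.AtPrime p))) ≃ₐ[k]
      Localization.AtPrime p := AlgEquiv.quotientBot k _
  let e := (e1.trans e2).trans e3
  have hgr : CAlg.IsGeometricallyRegular k (Localization.AtPrime p) :=
    Groth.Agent.Helper8.GRBase.isGeometricallyRegular_of_algEquiv e hgr₁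
  haveI hregp : IsRegularLocalRing (Localization.AtPrime p) :=
    IsRegularLocalRing.of_ringEquiv (R := Localization.AtPrime
      (p.map (Ideal.Quotient.mk (locKer p)))) e.toRingEquiv
  haveI : IsDomain (Localization.AtPrime p) := Groth.Agent.Helper8.RLR.isDomain _
  obtain ⟨s, hs⟩ := h
  refine ⟨free_and_finrank_of_genBy p s hs q hqp
    (algebraMap_eq_zero_of_mem_minimalPrimes p q hqmin hqp) ?_, hgr, hregp⟩
  intro m hm hgen
  have h1 := ringKrullDim_quotient_le_of_genAt k A q q le_rfl m hgen
  rw [hqdim] at h1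
  have h2 : n ≤ m := by exact_mod_cast h1
  omega

end criterion

end Groth.Agent.Helper8.CT
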