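import Mathlib
import Groth.Prelude
import Groth.Agent.Lib.Helper8.CT10

/-!
# The local rings of a completed base change `A ⊗̂_k k'`: completed differentials
-/

set_option autoImplicit false
universe u

namespace Groth.Agent.Helper8.CT

open IsLocalRing TensorProduct Groth.Agent.Helper8.EK

attribute [local instance] Algebra.TensorProduct.rightAlgebra

section loc

variable (k A k' : Type u) [Field k] [CommRing A] [Algebra k A] [IsNoetherianRing A]
  [IsLocalRing A] [Module.Finite k (ResidueField A)] [Field k'] [Algebra k k']
  (M : Ideal (EGA4.CTensor k A k')) [M.IsMaximal]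

local notation "Rk'" => A ⊗[k] k'
local notation "Ck'" => EGA4.CTensor k A k'
local notation "App" => Localization.AtPrime M

instance isNoetherianRing_App : IsNoetherianRing (Localization.AtPrime M) :=
  haveI := isNoetherianRing_cTensor k A k'
  IsLocalization.isNoetherianRing M.primeCompl _ inferInstance

instance isAdicComplete_App :
    IsAdicComplete (maximalIdeal (Localization.AtPrime M)) (Localization.AtPrime M) :=
  isAdicComplete_localization_cTensor k A k' M

instance isLocalHom_App : IsLocalHom (algebraMap A (Localization.AtPrime M)) :=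
  isLocalHom_localization k A k' M

theorem surjective_algebraMap_App : Function.Surjective (algebraMap Ck' App) := by
  haveI := isNoetherianRing_cTensor k A k'
  haveI := finite_maximalSpectrum k A k'
  haveI := isAdicComplete_map (EGA4.cTensorIdeal k A k') (cTensorIdeal_fg k A k')
  exact surjective_algebraMap_localization
    ((EGA4.cTensorIdeal k A k').map (algebraMap Rk' Ck')) (exists_pow_jacobson_le k A k') M

instance finite_residueField_App : Module.Finite k' (ResidueField (Localization.AtPrime M)) := by
  haveI hfin : Module.Finite k' (Ck' ⧸ M) := finite_quotient_maximal k A k' M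
  let f : Ck' →ₐ[k'] ResidueField App :=
    (IsScalarTower.toAlgHom k' App (ResidueField App)).comp (IsScalarTower.toAlgHom k' Ck' App)
  have hf : ∀ x ∈ M, f x = 0 := by
    intro x hx
    show IsLocalRing.residue App (algebraMap Ck' App x) = 0
    rw [IsLocalRing.residue_eq_zero_iff, ← Localization.AtPrime.map_eq_maximalIdeal]
    exact Ideal.mem_map_of_mem _ hx
  let g : (Ck' ⧸ M) →ₐ[k'] ResidueField App := Ideal.Quotient.liftₐ M f hf
  have hg : Function.Surjective g := by
    intro y
    obtain ⟨z, rfl⟩ := IsLocalRing.residue_surjective y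
    obtain ⟨c, rfl⟩ := surjective_algebraMap_App k A k' M z
    exact ⟨Ideal.Quotient.mk M c, rfl⟩
  exact Module.Finite.of_surjective g.toLinearMap hg

theorem exists_pow_maximalIdeal_App_le :
    ∃ r : ℕ, maximalIdeal App ^ r ≤ (maximalIdeal A).map (algebraMap A App) := by
  haveI := isNoetherianRing_cTensor k A k'
  haveI := finite_maximalSpectrum k A k'
  haveI := isAdicComplete_map (EGA4.cTensorIdeal k A k') (cTensorIdeal_fg k A k')
  obtain ⟨r, hr⟩ := exists_pow_maximalIdeal_le
    ((EGA4.cTensorIdeal k A k').map (algebraMap Rk' Ck')) (exists_pow_jacobson_le k A k') M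
  rw [map_cTensorIdeal_field, Ideal.map_map, ← IsScalarTower.algebraMap_eq] at hr
  exact ⟨r, hr⟩

instance isAdicComplete_Ωh_App [IsAdicComplete (maximalIdeal A) A] :
    IsAdicComplete (maximalIdeal A) (Ωh k' (Localization.AtPrime M)) :=
  isAdicComplete_Ωh_of_pow_le A k' (Localization.AtPrime M) (exists_pow_maximalIdeal_App_le k A k' M)

/-- Every element of the local ring is congruent to an element of `A ⊗_k k'` modulo `m_A`. -/
theorem exists_sub_mem_App (x : App) :
    ∃ r : Rk', x - algebraMap Ck' App (algebraMap Rk' Ck' r) ∈
      (maximalIdeal A).map (algebraMap A App) := by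
  obtain ⟨c, rfl⟩ := surjective_algebraMap_App k A k' M x
  obtain ⟨r, hr⟩ := exists_sub_of_mem (EGA4.cTensorIdeal k A k') (cTensorIdeal_fg k A k') 1 c
  refine ⟨r, ?_⟩
  rw [pow_one, map_cTensorIdeal_field] at hr
  have := Ideal.mem_map_of_mem (algebraMap Ck' App) hr
  rw [Ideal.map_map, ← IsScalarTower.algebraMap_eq, map_sub] at this
  exact this

variable [IsAdicComplete (maximalIdeal A) A]

theorem dh_smul_field (c : k') (y : App) : dh k' App (c • y) = c • dh k' App y := by
  rw [Algebra.smul_def, dh_mul, dh_algebraMap, smul_zero, add_zero, algebraMap_smul]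

/-- **The completed differentials of the local ring of `A ⊗̂_k k'` are generated by the
differentials of the elements of `A`.** -/
theorem span_dh_App : Submodule.span App
    (Set.range fun a : A => dh k' App (algebraMap A App a)) = ⊤ := by
  set N := Submodule.span App (Set.range fun a : A => dh k' App (algebraMap A App a)) with hN
  have hfg : (⊤ : Submodule App (Ωh k' App)).FG := Module.Finite.fg_top
  rw [eq_top_iff]
  refine Submodule.le_of_le_smul_of_le_jacobson_bot hfg
    (IsLocalRing.maximalIdeal_le_jacobson ⊥) ?_
  suffices hall : ∀ x : App, dh k' App x ∈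
      N ⊔ (maximalIdeal App) • (⊤ : Submodule App (Ωh k' App)) by
    intro z hz0
    clear hz0
    have hz : z ∈ Submodule.span App (Set.range (dh k' App)) := by
      rw [span_range_dh k' App]; trivial
    induction hz using Submodule.span_induction with
    | mem y hy =>
      obtain ⟨x, rfl⟩ := hy
      exact hall x
    | zero => exact Submodule.zero_mem _
    | add y y' _ _ hy hy' => exact Submodule.add_mem _ hy hy'
    | smul a y _ hy => exact Submodule.smul_mem _ _ hy
  intro x
  -- elements of `A ⊗ k'`
  have h1 : ∀ r : Rk', dh k' App (algebraMap Ck' App (algebraMap Rk' Ck' r)) ∈ N := by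
    intro r
    induction r using TensorProduct.induction_on with
    | zero => rw [map_zero, map_zero, map_zero]; exact Submodule.zero_mem _
    | tmul a c =>
      have h2 : algebraMap Ck' App (algebraMap Rk' Ck' (a ⊗ₜ[k] c)) = c • algebraMap A App a := by
        have h3 : (a ⊗ₜ[k] c : Rk') = c • algebraMap A Rk' a := by
          rw [Algebra.smul_def]
          show a ⊗ₜ[k] c = ((1 : A) ⊗ₜ[k] c) * (a ⊗ₜ[k] (1 : k'))
          rw [Algebra.TensorProduct.tmul_mul_tmul, one_mul, mul_one]
        rw [h3, IsScalarTower.algebraMap_apply A Ck' App, IsScalarTower.algebraMap_apply A Rk' Ck']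
        rw [← IsScalarTower.algebraMap_apply Rk' Ck' App, ← IsScalarTower.algebraMap_apply Rk' Ck' App]
        rw [Algebra.smul_def, map_mul, Algebra.smul_def]
        congr 1
      rw [h2, dh_smul_field]
      exact Submodule.smul_of_tower_mem N c (Submodule.subset_span ⟨a, rfl⟩)
    | add r s hr hs =>
      rw [map_add, map_add, map_add]
      exact Submodule.add_mem _ hr hs
  -- elements of `m_A A''`
  have hKle : (maximalIdeal A).map (algebraMap A App) ≤ maximalIdeal App :=
    map_maximalIdeal_le A App
  have h2 : ∀ y ∈ (maximalIdeal A).map (algebraMap A App),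
      dh k' App y ∈ N ⊔ (maximalIdeal App) • (⊤ : Submodule App (Ωh k' App)) := by
    intro y hy
    refine Submodule.span_induction (p := fun y _ => dh k' App y ∈
      N ⊔ (maximalIdeal App) • (⊤ : Submodule App (Ωh k' App))) ?_ ?_ ?_ ?_ hy
    · rintro _ ⟨a, -, rfl⟩
      exact Submodule.mem_sup_left (Submodule.subset_span ⟨a, rfl⟩)
    · rw [map_zero]; exact Submodule.zero_mem _
    · intro y z _ _ hy hz
      rw [map_add]; exact Submodule.add_mem _ hy hz
    · intro b y hy' hy
      rw [smul_eq_mul, dh_mul]
      refine Submodule.add_mem _ (Submodule.smul_mem _ _ hy) (Submodule.mem_sup_right ?_)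
      exact Submodule.smul_mem_smul (hKle hy') Submodule.mem_top
  obtain ⟨r, hr⟩ := exists_sub_mem_App k A k' M x
  have h3 : x = algebraMap Ck' App (algebraMap Rk' Ck' r) +
      (x - algebraMap Ck' App (algebraMap Rk' Ck' r)) := by ring
  rw [h3, map_add]
  exact Submodule.add_mem _ (Submodule.mem_sup_left (h1 r)) (h2 _ hr)

/-- Local generation of the completed differentials passes to the local rings of the completed
base change. -/
theorem genAt_App (p : Ideal A) (p'' : Ideal App) [p''.IsPrime]
    (hp : p''.comap (algebraMap A App) ≤ p) (r : ℕ) (h : GenAt p (Ωh k A) r) :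
    GenAt p'' (Ωh k' App) r :=
  genAt_push k A k' App (span_dh_App k A k' M) p p'' hp r h

end loc

end Groth.Agent.Helper8.CT
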