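import Mathlib
import Groth.Prelude
import Groth.Agent.Lib.Helper8.CT11

/-!
# Extending ring homomorphisms and derivations to an adic completion
-/

set_option autoImplicit false
universe u

namespace Groth.Agent.Helper8.CT

open IsLocalRing TensorProduct Groth.Agent.Helper8.EK Groth.Agent.Helper8.Nag

section ext

variable {R S : Type*} [CommRing R] [CommRing S] (I : Ideal R) (f : R →+* S)

theorem pow_le_comap_map_pow' (n : ℕ) : I ^ n ≤ ((I.map f) ^ n).comap f := by
  rw [← Ideal.map_le_iff_le_comap, Ideal.map_pow]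

/-- The levels of the extension to the completion. -/
noncomputable def extLevel (n : ℕ) : AdicCompletion I R →+* S ⧸ (I.map f) ^ n :=
  (Ideal.quotientMap ((I.map f) ^ n) f (pow_le_comap_map_pow' I f n)).comp
    (AdicCompletion.evalₐ I n).toRingHom

theorem extLevel_compat {m n : ℕ} (hle : m ≤ n) :
    (Ideal.Quotient.factorPow (I.map f) hle).comp (extLevel I f n) = extLevel I f m := by
  ext x
  obtain ⟨a, rfl⟩ := AdicCompletion.mk_surjective I R x
  simp only [extLevel, RingHom.comp_apply, AlgHom.toRingHom_eq_coe, RingHom.coe_coe,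
    AdicCompletion.evalₐ_mk]
  rw [Ideal.quotientMap_mk, Ideal.quotientMap_mk]
  have h1 : Ideal.Quotient.mk (I ^ m) (a.1 m) = Ideal.Quotient.mk (I ^ m) (a.1 n) :=
    (AdicCompletion.Ideal.mk_eq_mk I hle a).symm
  rw [Ideal.Quotient.eq] at h1
  show Ideal.Quotient.mk ((I.map f) ^ m) (f (a.1 n)) = Ideal.Quotient.mk ((I.map f) ^ m) (f (a.1 m))
  rw [Ideal.Quotient.eq, ← map_sub, ← Ideal.neg_mem_iff, ← map_neg, neg_sub]
  exact pow_le_comap_map_pow' I f m h1

variable [IsAdicComplete (I.map f) S]

/-- **Extension of a ring homomorphism to the completion.** -/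
noncomputable def extCompletion : AdicCompletion I R →+* S :=
  IsAdicComplete.liftRingHom (I.map f) (extLevel I f) (fun hle => extLevel_compat I f hle)

theorem extCompletion_algebraMap (r : R) :
    extCompletion I f (algebraMap R (AdicCompletion I R) r) = f r := by
  rw [← sub_eq_zero]
  apply IsHausdorff.haus (I := I.map f) inferInstance
  intro n
  rw [SModEq.zero, smul_eq_mul, Ideal.mul_top, ← Ideal.Quotient.eq_zero_iff_mem, map_sub,
    sub_eq_zero, extCompletion, IsAdicComplete.mk_liftRingHom]
  show Ideal.quotientMap _ f (pow_le_comap_map_pow' I f n)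
    (AdicCompletion.evalₐ I n (AdicCompletion.of I R r)) = _
  rw [AdicCompletion.evalₐ_of]
  exact Ideal.quotientMap_mk

omit [IsAdicComplete (I.map f) S] in
/-- Ring homomorphisms out of the completion into a separated ring are determined by their
restriction. -/
theorem ringHom_ext_completion (hI : I.FG) [IsHausdorff (I.map f) S]
    (F₁ F₂ : AdicCompletion I R →+* S)
    (h₁ : ∀ r, F₁ (algebraMap R (AdicCompletion I R) r) = f r)
    (h₂ : ∀ r, F₂ (algebraMap R (AdicCompletion I R) r) = f r) : F₁ = F₂ := by
  have key : ∀ (F : AdicCompletion I R →+* S)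
      (_ : ∀ r, F (algebraMap R (AdicCompletion I R) r) = f r) (n : ℕ)
      (x : AdicCompletion I R), x ∈ (I.map (algebraMap R (AdicCompletion I R))) ^ n →
      F x ∈ (I.map f) ^ n := by
    intro F hF n x hx
    have h1 : ((I.map (algebraMap R (AdicCompletion I R))) ^ n).map F = (I.map f) ^ n := by
      rw [Ideal.map_pow, Ideal.map_map]
      congr 2
      exact RingHom.ext hF
    rw [← h1]
    exact Ideal.mem_map_of_mem F hx
  refine RingHom.ext fun c => ?_
  rw [← sub_eq_zero]
  apply IsHausdorff.haus (I := I.map f) inferInstance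
  intro n
  rw [SModEq.zero, smul_eq_mul, Ideal.mul_top]
  obtain ⟨r, hr⟩ := exists_sub_of_mem I hI n c
  have h3 : F₁ c - F₂ c = F₁ (c - algebraMap R (AdicCompletion I R) r) -
      F₂ (c - algebraMap R (AdicCompletion I R) r) := by
    rw [map_sub, map_sub, h₁, h₂]; ring
  rw [h3]
  exact Ideal.sub_mem _ (key F₁ h₁ n _ hr) (key F₂ h₂ n _ hr)

end ext

end Groth.Agent.Helper8.CT
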