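import Mathlib
import Groth.Prelude
import Groth.Agent.Lib.Helper8.CT12

/-!
# Lifting to trivial square-zero extensions over a localization of a completion
-/

set_option autoImplicit false

namespace Groth.Agent.Helper8.CT

open TensorProduct

section sq

variable {E : Type*} [CommRing E] (N : Ideal E) (hN : ∀ x ∈ N, ∀ y ∈ N, x * y = 0)
  {A : Type*} [CommRing A] (ψ ι : A →+* E) (h : ∀ a, ψ a - ι a ∈ N) (𝔪 : Ideal A)

include hN h in
/-- Two ring homomorphisms congruent modulo a square-zero ideal define the same adic topology. -/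
theorem sq_map_le_of_sub_mem : (𝔪.map ψ) ^ 2 ≤ 𝔪.map ι := by
  rw [pow_two, Ideal.mul_le]
  intro x hx y hy
  refine Submodule.span_induction (p := fun x _ => x * y ∈ 𝔪.map ι) ?_ ?_ ?_ ?_ hx
  · rintro _ ⟨a, ha, rfl⟩
    refine Submodule.span_induction (p := fun y _ => ψ a * y ∈ 𝔪.map ι) ?_ ?_ ?_ ?_ hy
    · rintro _ ⟨b, hb, rfl⟩
      have ha' : ι a ∈ 𝔪.map ι := Ideal.mem_map_of_mem ι ha
      have hb' : ι b ∈ 𝔪.map ι := Ideal.mem_map_of_mem ι hb
      have h0 : (ψ a - ι a) * (ψ b - ι b) = 0 := hN _ (h a) _ (h b)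
      have h1 : ψ a * ψ b = ι a * (ψ b - ι b) + ι b * ψ a := by
        have : ψ a * ψ b = (ψ a - ι a) * (ψ b - ι b) + ι a * (ψ b - ι b) + ι b * ψ a := by ring
        rw [this, h0, zero_add]
      rw [h1]
      exact Ideal.add_mem _ (Ideal.mul_mem_right _ _ ha') (Ideal.mul_mem_right _ _ hb')
    · rw [mul_zero]; exact Ideal.zero_mem _
    · intro y z _ _ hy hz
      rw [mul_add]; exact Ideal.add_mem _ hy hz
    · intro c y _ hy
      rw [smul_eq_mul, mul_left_comm]; exact Ideal.mul_mem_left _ _ hy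
  · rw [zero_mul]; exact Ideal.zero_mem _
  · intro x z _ _ hx hz
    rw [add_mul]; exact Ideal.add_mem _ hx hz
  · intro c x _ hx
    rw [smul_eq_mul, mul_assoc]; exact Ideal.mul_mem_left _ _ hx

end sq

section tsze

variable {T : Type*} [CommRing T] {W : Type*} [AddCommGroup W] [Module T W] [Module Tᵐᵒᵖ W]
  [IsCentralScalar T W]

/-- The square-zero ideal of the trivial extension. -/
def tszeKer : Ideal (TrivSqZeroExt T W) := RingHom.ker (TrivSqZeroExt.fstHom T T W).toRingHom

theorem mem_tszeKer (x : TrivSqZeroExt T W) : x ∈ tszeKer (T := T) (W := W) ↔ x.fst = 0 := by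
  rw [tszeKer, RingHom.mem_ker]
  rfl

theorem tszeKer_sq (x : TrivSqZeroExt T W) (hx : x ∈ tszeKer (T := T) (W := W))
    (y : TrivSqZeroExt T W) (hy : y ∈ tszeKer (T := T) (W := W)) : x * y = 0 := by
  rw [mem_tszeKer] at hx hy
  ext
  · simp [hx]
  · simp [hx, hy]

variable {A : Type*} [CommRing A] (ψ : A →+* TrivSqZeroExt T W) (φ : A →+* T)
  (h : ∀ a, (ψ a).fst = φ a) (𝔪 : Ideal A)

include h in
theorem sub_mem_tszeKer (a : A) :
    ψ a - ((algebraMap T (TrivSqZeroExt T W)).comp φ) a ∈ tszeKer (T := T) (W := W) := by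
  rw [mem_tszeKer, TrivSqZeroExt.fst_sub, h, RingHom.comp_apply, TrivSqZeroExt.algebraMap_eq_inl,
    TrivSqZeroExt.fst_inl, sub_self]

include h in
theorem sq_map_tsze_le :
    (𝔪.map ψ) ^ 2 ≤ (𝔪.map φ).map (algebraMap T (TrivSqZeroExt T W)) := by
  rw [Ideal.map_map]
  exact sq_map_le_of_sub_mem _ tszeKer_sq ψ _ (sub_mem_tszeKer ψ φ h) 𝔪

include h in
theorem sq_map_le_map_tsze :
    ((𝔪.map φ).map (algebraMap T (TrivSqZeroExt T W))) ^ 2 ≤ 𝔪.map ψ := by
  rw [Ideal.map_map]
  refine sq_map_le_of_sub_mem _ tszeKer_sq _ ψ (fun a => ?_) 𝔪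
  rw [← Ideal.neg_mem_iff, neg_sub]
  exact sub_mem_tszeKer ψ φ h a

end tsze

section lift

variable {R : Type*} [CommRing R] (I : Ideal R) (hI : I.FG) {T : Type*} [CommRing T]
  [Algebra (AdicCompletion I R) T] (S : Submonoid (AdicCompletion I R)) [IsLocalization S T]
  {W : Type*} [AddCommGroup W] [Module T W] [Module Tᵐᵒᵖ W] [IsCentralScalar T W]
  (ψ : R →+* TrivSqZeroExt T W)
  (hψ : ∀ r, (ψ r).fst = algebraMap (AdicCompletion I R) T (algebraMap R (AdicCompletion I R) r))
  [IsAdicComplete (I.map ψ) (TrivSqZeroExt T W)]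
  [IsHausdorff (I.map ((algebraMap (AdicCompletion I R) T).comp
    (algebraMap R (AdicCompletion I R)))) T]

include hI hψ S in
/-- **Lifting to a trivial square-zero extension over a localization of a completion.** -/
theorem exists_lift_tsze : ∃ Ψ : T →+* TrivSqZeroExt T W, (∀ t, (Ψ t).fst = t) ∧
    ∀ r, Ψ (algebraMap (AdicCompletion I R) T (algebraMap R (AdicCompletion I R) r)) = ψ r := by
  have hΨC : ∀ r, extCompletion I ψ (algebraMap R (AdicCompletion I R) r) = ψ r :=
    extCompletion_algebraMap I ψ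
  have hfst : ((TrivSqZeroExt.fstHom T T W).toRingHom.comp (extCompletion I ψ)) =
      algebraMap (AdicCompletion I R) T := by
    refine ringHom_ext_completion I
      ((algebraMap (AdicCompletion I R) T).comp (algebraMap R (AdicCompletion I R))) hI _ _ ?_ ?_
    · intro r
      rw [RingHom.comp_apply, hΨC]
      exact hψ r
    · intro r; rfl
  have hfst' : ∀ c, (extCompletion I ψ c).fst = algebraMap (AdicCompletion I R) T c :=
    fun c => congrFun (congrArg DFunLike.coe hfst) c
  have hunits : ∀ y : S, IsUnit (extCompletion I ψ y) := by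
    intro y
    rw [TrivSqZeroExt.isUnit_iff_isUnit_fst, hfst']
    exact IsLocalization.map_units T y
  refine ⟨IsLocalization.lift hunits, ?_, ?_⟩
  · have h1 : ((TrivSqZeroExt.fstHom T T W).toRingHom.comp (IsLocalization.lift hunits)) =
        RingHom.id T := by
      refine IsLocalization.ringHom_ext S ?_
      ext c
      simp only [RingHom.comp_apply, IsLocalization.lift_eq, RingHom.id_apply]
      exact hfst' c
    intro t
    exact congrFun (congrArg DFunLike.coe h1) t
  · intro r
    rw [IsLocalization.lift_eq, hΨC]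

end lift

section der

variable {T : Type*} [CommRing T] {W : Type*} [AddCommGroup W] [Module T W] [Module Tᵐᵒᵖ W]
  [IsCentralScalar T W] (Ψ : T →+* TrivSqZeroExt T W) (hΨ : ∀ t, (Ψ t).fst = t)

include hΨ in
theorem snd_lift_mul (x y : T) : (Ψ (x * y)).snd = x • (Ψ y).snd + y • (Ψ x).snd := by
  rw [map_mul, TrivSqZeroExt.snd_mul, hΨ, hΨ, op_smul_eq_smul]

/-- The derivation attached to a section of the trivial square-zero extension. -/
def derOfLift (k : Type*) [CommRing k] [Algebra k T] [Module k W] [IsScalarTower k T W]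
    (hk : ∀ c : k, (Ψ (algebraMap k T c)).snd = 0) : Derivation k T W where
  toFun x := (Ψ x).snd
  map_add' x y := by rw [map_add, TrivSqZeroExt.snd_add]
  map_smul' c x := by
    rw [Algebra.smul_def, snd_lift_mul Ψ hΨ, hk, smul_zero, add_zero, RingHom.id_apply,
      algebraMap_smul]
  map_one_eq_zero' := by
    show (Ψ 1).snd = 0
    rw [map_one, TrivSqZeroExt.snd_one]
  leibniz' x y := by
    show (Ψ (x * y)).snd = x • (Ψ y).snd + y • (Ψ x).snd
    exact snd_lift_mul Ψ hΨ x y

theorem derOfLift_apply (k : Type*) [CommRing k] [Algebra k T] [Module k W] [IsScalarTower k T W]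
    (hk : ∀ c : k, (Ψ (algebraMap k T c)).snd = 0) (x : T) :
    derOfLift Ψ hΨ k hk x = (Ψ x).snd := rfl

end der

end Groth.Agent.Helper8.CT
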