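import Mathlib
import Groth.Prelude
import Groth.Agent.Lib.Helper8.CT13
import Groth.Agent.Lib.Helper8.GRBase6

set_option autoImplicit false
universe u

namespace Groth.Agent.Helper8.CT

open IsLocalRing TensorProduct Groth.Agent.Helper8.EK Groth.Agent.Helper8.Nag

attribute [local instance] Algebra.TensorProduct.rightAlgebra

section retr

variable (k A k' : Type u) [Field k] [CommRing A] [Algebra k A] [IsNoetherianRing A]
  [IsLocalRing A] [Module.Finite k (ResidueField A)] [Field k'] [Algebra k k']
  [IsAdicComplete (maximalIdeal A) A]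
  (M : Ideal (EGA4.CTensor k A k')) [M.IsMaximal]

local notation "Rk'" => A ⊗[k] k'
local notation "Ck'" => EGA4.CTensor k A k'
local notation "App" => Localization.AtPrime M
local notation "Wp" => (Localization.AtPrime M) ⊗[A] (Ωh k A)
local notation "Ep" => TrivSqZeroExt (Localization.AtPrime M) ((Localization.AtPrime M) ⊗[A] (Ωh k A))

instance finite_Ep : Module.Finite (Localization.AtPrime M)
    (TrivSqZeroExt (Localization.AtPrime M) ((Localization.AtPrime M) ⊗[A] (Ωh k A))) :=
  inferInstanceAs (Module.Finite App (App × Wp))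

theorem tmul_smul_eq (a : A) (z : Ωh k A) :
    ((1 : App) ⊗ₜ[A] (a • z) : Wp) = algebraMap A App a • ((1 : App) ⊗ₜ[A] z) := by
  rw [TensorProduct.tmul_smul, TensorProduct.smul_tmul', TensorProduct.smul_tmul',
    Algebra.smul_def, mul_one, smul_eq_mul, mul_one]

/-- The ring homomorphism `a ↦ (a, 1 ⊗ da)` into the trivial square-zero extension. -/
noncomputable def psiD : A →ₐ[k] Ep where
  toFun a := TrivSqZeroExt.inl (algebraMap A App a) + TrivSqZeroExt.inr ((1 : App) ⊗ₜ[A] dh k A a)
  map_one' := by
    have h1 : dh k A (1 : A) = 0 := by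
      have := dh_algebraMap k A (1 : k)
      rwa [map_one] at this
    rw [h1, TensorProduct.tmul_zero, TrivSqZeroExt.inr_zero, add_zero, map_one, TrivSqZeroExt.inl_one]
  map_mul' a b := by
    ext
    · simp
    · simp only [TrivSqZeroExt.snd_add, TrivSqZeroExt.snd_inl, TrivSqZeroExt.snd_inr, zero_add,
        TrivSqZeroExt.snd_mul, TrivSqZeroExt.fst_add, TrivSqZeroExt.fst_inl, TrivSqZeroExt.fst_inr,
        add_zero, smul_zero, MulOpposite.smul_eq_mul_unop]
      rw [dh_mul, TensorProduct.tmul_add, tmul_smul_eq, tmul_smul_eq]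
      simp [op_smul_eq_smul]
  map_zero' := by
    rw [map_zero, map_zero, TensorProduct.tmul_zero, TrivSqZeroExt.inl_zero, TrivSqZeroExt.inr_zero,
      add_zero]
  map_add' a b := by
    rw [map_add, map_add, TensorProduct.tmul_add, TrivSqZeroExt.inl_add, TrivSqZeroExt.inr_add]
    abel
  commutes' c := by
    rw [dh_algebraMap, TensorProduct.tmul_zero, TrivSqZeroExt.inr_zero, add_zero,
      ← IsScalarTower.algebraMap_apply k A App]
    rfl

theorem fst_psiD (a : A) : (psiD k A k' M a).fst = algebraMap A App a := by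
  simp [psiD]

theorem snd_psiD (a : A) : (psiD k A k' M a).snd = (1 : App) ⊗ₜ[A] dh k A a := by
  simp [psiD]

/-- The extension to `A ⊗_k k'`. -/
noncomputable def psiR : A ⊗[k] k' →ₐ[k] Ep :=
  Algebra.TensorProduct.lift (psiD k A k' M) (IsScalarTower.toAlgHom k k' Ep)
    (fun _ _ => Commute.all _ _)

theorem psiR_tmul (a : A) (c : k') :
    psiR k A k' M (a ⊗ₜ[k] c) = psiD k A k' M a * algebraMap k' Ep c := by
  rw [psiR, Algebra.TensorProduct.lift_tmul]
  rfl

theorem psiR_algebraMap (a : A) : psiR k A k' M (algebraMap A Rk' a) = psiD k A k' M a := by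
  rw [Algebra.TensorProduct.algebraMap_apply, Algebra.algebraMap_self, RingHom.id_apply, psiR_tmul,
    map_one, mul_one]

theorem fst_psiR (r : Rk') :
    (psiR k A k' M r).fst = algebraMap Ck' App (algebraMap Rk' Ck' r) := by
  induction r using TensorProduct.induction_on with
  | zero => simp
  | tmul a c =>
    rw [psiR_tmul, TrivSqZeroExt.fst_mul, fst_psiD]
    have h3 : (a ⊗ₜ[k] c : Rk') = c • algebraMap A Rk' a := by
      rw [Algebra.smul_def]
      show a ⊗ₜ[k] c = ((1 : A) ⊗ₜ[k] c) * (a ⊗ₜ[k] (1 : k'))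
      rw [Algebra.TensorProduct.tmul_mul_tmul, one_mul, mul_one]
    rw [h3, Algebra.smul_def, map_mul, map_mul, ← IsScalarTower.algebraMap_apply Rk' Ck' App,
      ← IsScalarTower.algebraMap_apply Rk' Ck' App, ← IsScalarTower.algebraMap_apply k' Rk' App,
      ← IsScalarTower.algebraMap_apply A Rk' App, mul_comm]
    congr 1
  | add r s hr hs => rw [map_add, TrivSqZeroExt.fst_add, hr, hs, map_add, map_add]

theorem map_psiR_eq : (EGA4.cTensorIdeal k A k').map (psiR k A k' M : Rk' →+* Ep) =
    (maximalIdeal A).map (psiD k A k' M : A →+* Ep) := by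
  have h := congrArg (Ideal.map (psiR k A k' M : Rk' →+* Ep)) (cTensorIdeal_field k A k')
  rw [h, Ideal.map_map]
  congr 1
  exact RingHom.ext fun a => psiR_algebraMap k A k' M a

theorem isAdicComplete_K_App :
    IsAdicComplete ((maximalIdeal A).map (algebraMap A App)) App := by
  obtain ⟨r, hr⟩ := exists_pow_maximalIdeal_App_le k A k' M
  exact Groth.Agent.Helper8.isAdicComplete_of_pow_le (J := maximalIdeal App) (c := 1) (d := r + 1)
    one_pos (Nat.succ_pos r) (by rw [pow_one]; exact map_maximalIdeal_le A App)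
    ((Ideal.pow_le_pow_right (Nat.le_succ r)).trans hr)

theorem isAdicComplete_Ep :
    IsAdicComplete ((EGA4.cTensorIdeal k A k').map (psiR k A k' M : Rk' →+* Ep)) Ep := by
  rw [map_psiR_eq]
  haveI := isAdicComplete_K_App k A k' M
  haveI h1 : IsAdicComplete ((maximalIdeal A).map (algebraMap A App)) Ep :=
    Groth.Agent.Helper8.GRing.isAdicComplete_of_finite App _ _
  haveI h2 : IsAdicComplete (((maximalIdeal A).map (algebraMap A App)).map (algebraMap App Ep)) Ep :=
    (IsAdicComplete.map_algebraMap_iff ((maximalIdeal A).map (algebraMap A App)) Ep).2 h1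
  exact Groth.Agent.Helper8.isAdicComplete_of_pow_le
    (J := ((maximalIdeal A).map (algebraMap A App)).map (algebraMap App Ep)) (c := 2) (d := 2)
    two_pos two_pos
    (sq_map_tsze_le (psiD k A k' M : A →+* Ep) (algebraMap A App) (fst_psiD k A k' M) _)
    (sq_map_le_map_tsze (psiD k A k' M : A →+* Ep) (algebraMap A App) (fst_psiD k A k' M) _)

theorem map_comp_eq : (EGA4.cTensorIdeal k A k').map
    ((algebraMap Ck' App).comp (algebraMap Rk' Ck')) = (maximalIdeal A).map (algebraMap A App) := by
  rw [← Ideal.map_map, map_cTensorIdeal_field, Ideal.map_map, ← IsScalarTower.algebraMap_eq]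

theorem isHausdorff_App : IsHausdorff ((EGA4.cTensorIdeal k A k').map
    ((algebraMap Ck' App).comp (algebraMap Rk' Ck'))) App := by
  rw [map_comp_eq]
  haveI := isAdicComplete_K_App k A k' M
  infer_instance

/-- The section of the trivial square-zero extension defined by the differentials of `A`. -/
theorem exists_section : ∃ Ψ : App →+* Ep, (∀ t, (Ψ t).fst = t) ∧
    ∀ r, Ψ (algebraMap Ck' App (algebraMap Rk' Ck' r)) = psiR k A k' M r := by
  haveI := isAdicComplete_Ep k A k' M
  haveI := isHausdorff_App k A k' M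
  exact exists_lift_tsze (EGA4.cTensorIdeal k A k') (cTensorIdeal_fg k A k') M.primeCompl
    (psiR k A k' M : Rk' →+* Ep) (fst_psiR k A k' M)

/-- **The retraction** of the base change map of completed differentials. -/
theorem exists_retraction : ∃ ρ : Ωh k' App →ₗ[App] Wp,
    ∀ a : A, ρ (dh k' App (algebraMap A App a)) = (1 : App) ⊗ₜ[A] dh k A a := by
  obtain ⟨Ψ, hΨ, hΨR⟩ := exists_section k A k' M
  have hk : ∀ c : k', (Ψ (algebraMap k' App c)).snd = 0 := by
    intro c
    have h1 : algebraMap k' App c = algebraMap Ck' App (algebraMap Rk' Ck' (algebraMap k' Rk' c)) := by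
      rw [← IsScalarTower.algebraMap_apply Rk' Ck' App, ← IsScalarTower.algebraMap_apply k' Rk' App]
    rw [h1, hΨR]
    have h2 : algebraMap k' Rk' c = (1 : A) ⊗ₜ[k] c := rfl
    rw [h2, psiR_tmul, map_one, one_mul, IsScalarTower.algebraMap_apply k' App Ep,
      TrivSqZeroExt.algebraMap_eq_inl, TrivSqZeroExt.snd_inl]
  have hA : ∀ a : A, (Ψ (algebraMap A App a)).snd = (1 : App) ⊗ₜ[A] dh k A a := by
    intro a
    have h1 : algebraMap A App a = algebraMap Ck' App (algebraMap Rk' Ck' (algebraMap A Rk' a)) := by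
      rw [← IsScalarTower.algebraMap_apply Rk' Ck' App, ← IsScalarTower.algebraMap_apply A Rk' App]
    rw [h1, hΨR, psiR_algebraMap, snd_psiD]
  let D : Derivation k' App Wp := derOfLift Ψ hΨ k' hk
  let ρ₀ : Ω[App⁄k'] →ₗ[App] Wp := D.liftKaehlerDifferential
  haveI : IsAdicComplete (maximalIdeal App) Wp :=
    Groth.Agent.Helper8.GRing.isAdicComplete_of_finite App _ _
  let ρ : Ωh k' App →ₗ[App] Wp :=
    ((AdicCompletion.ofLinearEquiv (maximalIdeal App) Wp).symm : _ →ₗ[App] _).comp
      ((AdicCompletion.map (maximalIdeal App) ρ₀).restrictScalars App)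
  refine ⟨ρ, fun a => ?_⟩
  rw [dh_apply]
  show (AdicCompletion.ofLinearEquiv (maximalIdeal App) Wp).symm
    (AdicCompletion.map (maximalIdeal App) ρ₀ (AdicCompletion.of (maximalIdeal App) (Ω[App⁄k'])
      (KaehlerDifferential.D k' App (algebraMap A App a)))) = _
  rw [AdicCompletion.map_of, AdicCompletion.ofLinearEquiv_symm_of]
  show D.liftKaehlerDifferential (KaehlerDifferential.D k' App (algebraMap A App a)) = _
  rw [Derivation.liftKaehlerDifferential_comp_D]
  exact hA a

/-- The base change of the completed differentials is generated by the `1 ⊗ da`. -/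
theorem span_one_tmul_dh : Submodule.span App
    (Set.range fun a : A => ((1 : App) ⊗ₜ[A] dh k A a : Wp)) = ⊤ := by
  have key : ∀ z : Ωh k A, ((1 : App) ⊗ₜ[A] z : Wp) ∈ Submodule.span App
      (Set.range fun a : A => ((1 : App) ⊗ₜ[A] dh k A a : Wp)) := by
    intro z
    have hz : z ∈ Submodule.span A (Set.range (dh k A)) := by
      rw [span_range_dh k A]; trivial
    induction hz using Submodule.span_induction with
    | mem y hy =>
      obtain ⟨a, rfl⟩ := hy
      exact Submodule.subset_span ⟨a, rfl⟩
    | zero => rw [TensorProduct.tmul_zero]; exact Submodule.zero_mem _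
    | add y y' _ _ hy hy' => rw [TensorProduct.tmul_add]; exact Submodule.add_mem _ hy hy'
    | smul a y _ hy => rw [tmul_smul_eq]; exact Submodule.smul_mem _ _ hy
  rw [eq_top_iff]
  intro w hw
  clear hw
  induction w using TensorProduct.induction_on with
  | zero => exact Submodule.zero_mem _
  | tmul x z =>
    have h1 : (x ⊗ₜ[A] z : Wp) = x • ((1 : App) ⊗ₜ[A] z) := by
      rw [TensorProduct.smul_tmul', smul_eq_mul, mul_one]
    rw [h1]
    exact Submodule.smul_mem _ _ (key z)
  | add x y hx hy => exact Submodule.add_mem _ hx hy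

/-- **Descent of local generation** of the completed differentials from a local ring of the
completed base change. -/
theorem genAt_descent (p'' : Ideal App) [p''.IsPrime] (n : ℕ) (h : GenAt p'' (Ωh k' App) n) :
    GenAt (p''.comap (algebraMap A App)) (Ωh k A) n := by
  obtain ⟨ρ, hρ⟩ := exists_retraction k A k' M
  -- local generation of the base change
  obtain ⟨s, hs⟩ := h
  have hspan : Submodule.span App (Set.range ρ.toAddMonoidHom) = ⊤ := by
    rw [eq_top_iff, ← span_one_tmul_dh k A k' M, Submodule.span_le]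
    rintro _ ⟨a, rfl⟩
    exact Submodule.subset_span ⟨_, hρ a⟩
  have hW : GenAt p'' Wp n :=
    ⟨_, GenBy.push (RingHom.id App) (le_of_eq (Ideal.comap_id p'')) ρ.toAddMonoidHom
      (fun a z => by rw [RingHom.id_apply]; exact map_smul ρ a z) hspan hs⟩
  -- dimension of the fibre
  have h1 : Module.finrank p''.ResidueField (p''.ResidueField ⊗[App] Wp) ≤ n :=
    hW.finrank_le p''.ResidueField (fun f hf => residueField_algebraMap_ne_zero f hf)
  letI := Groth.Agent.Helper8.GRBase.resAlgebra A App p''
  haveI := Groth.Agent.Helper8.GRBase.resAlgebra_isScalarTower A App p''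
  let e1 : p''.ResidueField ⊗[App] Wp ≃ₗ[p''.ResidueField] p''.ResidueField ⊗[A] Ωh k A :=
    TensorProduct.AlgebraTensorModule.cancelBaseChange A App p''.ResidueField p''.ResidueField
      (Ωh k A)
  let e2 : p''.ResidueField ⊗[(p''.comap (algebraMap A App)).ResidueField]
      ((p''.comap (algebraMap A App)).ResidueField ⊗[A] Ωh k A) ≃ₗ[p''.ResidueField]
      p''.ResidueField ⊗[A] Ωh k A :=
    TensorProduct.AlgebraTensorModule.cancelBaseChange A
      (p''.comap (algebraMap A App)).ResidueField p''.ResidueField p''.ResidueField (Ωh k A)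
  have h2 : Module.finrank (p''.comap (algebraMap A App)).ResidueField
      ((p''.comap (algebraMap A App)).ResidueField ⊗[A] Ωh k A) ≤ n := by
    rw [← Module.finrank_baseChange (R := p''.ResidueField), e2.finrank_eq, ← e1.finrank_eq]
    exact h1
  exact (genAt_finrank (p := p''.comap (algebraMap A App)) (M := Ωh k A)).mono h2

end retr

end Groth.Agent.Helper8.CT
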