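import Mathlib
import Groth.Prelude
import Groth.Agent.Lib.Helper8.CT14
import Groth.Agent.Lib.Helper8.HLV4
import Groth.Agent.Lib.Helper8.FC3

set_option autoImplicit false
universe u

namespace Groth.Agent.Helper8.CT

open IsLocalRing TensorProduct

section abstract

attribute [local instance] FractionRing.liftAlgebra

/-- Torsion-freeness is preserved by a flat base change. -/
theorem tmul_mem_nonZeroDivisors (P Ab P' : Type u) [CommRing P] [IsDomain P] [CommRing Ab]
    [IsDomain Ab] [Algebra P Ab] (hinj : Function.Injective (algebraMap P Ab)) [CommRing P']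
    [Algebra P P'] [Module.Flat P P'] (t : P') (ht : t ∈ nonZeroDivisors P') :
    (1 : Ab) ⊗ₜ[P] t ∈ nonZeroDivisors (Ab ⊗[P] P') := by
  haveI : FaithfulSMul P Ab := (faithfulSMul_iff_algebraMap_injective _ _).mpr hinj
  haveI : FaithfulSMul P (FractionRing Ab) := inferInstance
  haveI : IsScalarTower P (FractionRing P) (FractionRing Ab) :=
    FractionRing.isScalarTower_liftAlgebra P (FractionRing Ab)
  haveI : Module.Flat P (FractionRing P) := IsLocalization.flat (FractionRing P) (nonZeroDivisors P)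
  haveI : Module.Flat P (FractionRing Ab) := Module.Flat.trans P (FractionRing P) (FractionRing Ab)
  -- multiplication by `t`
  let μ : P' →ₗ[P] P' := LinearMap.mulLeft P t
  have hμ : Function.Injective μ := by
    intro x y hxy
    exact (mul_cancel_left_mem_nonZeroDivisors ht).mp hxy
  let ι : Ab →ₗ[P] FractionRing Ab := (IsScalarTower.toAlgHom P Ab (FractionRing Ab)).toLinearMap
  have hι : Function.Injective ι := IsFractionRing.injective Ab (FractionRing Ab)
  have h1 : Function.Injective (LinearMap.rTensor P' ι) :=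
    Module.Flat.rTensor_preserves_injective_linearMap ι hι
  have h2 : Function.Injective (LinearMap.lTensor (FractionRing Ab) μ) :=
    Module.Flat.lTensor_preserves_injective_linearMap μ hμ
  have hcomm : ∀ z : Ab ⊗[P] P', LinearMap.rTensor P' ι (((1 : Ab) ⊗ₜ[P] t) * z) =
      LinearMap.lTensor (FractionRing Ab) μ (LinearMap.rTensor P' ι z) := by
    intro z
    induction z using TensorProduct.induction_on with
    | zero => simp
    | tmul a b =>
      rw [Algebra.TensorProduct.tmul_mul_tmul, LinearMap.rTensor_tmul, LinearMap.rTensor_tmul,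
        LinearMap.lTensor_tmul, one_mul]
      rfl
    | add x y hx hy => rw [mul_add, map_add, map_add, map_add, hx, hy]
  rw [mem_nonZeroDivisors_iff_right]
  intro z hz
  rw [mul_comm] at hz
  apply h1
  apply h2
  rw [← hcomm, hz, map_zero, map_zero]

/-- Over a domain, an integral torsion-free algebra is equidimensional. -/
theorem ringKrullDim_quotient_of_mem_minimalPrimes (P' T : Type u) [CommRing P'] [IsDomain P']
    [CommRing T] [Algebra P' T] [Algebra.IsIntegral P' T]
    (h : ∀ t : P', t ≠ 0 → algebraMap P' T t ∈ nonZeroDivisors T)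
    (Q : Ideal T) (hQ : Q ∈ minimalPrimes T) : ringKrullDim (T ⧸ Q) = ringKrullDim P' := by
  haveI := hQ.1.1
  have hinj : Function.Injective (algebraMap P' (T ⧸ Q)) := by
    rw [injective_iff_map_eq_zero]
    intro t ht
    by_contra hne
    have h1 := h t hne
    rw [IsScalarTower.algebraMap_apply P' T (T ⧸ Q), Ideal.Quotient.algebraMap_eq,
      Ideal.Quotient.eq_zero_iff_mem] at ht
    exact Set.disjoint_left.mp (Ideal.disjoint_nonZeroDivisors_of_mem_minimalPrimes hQ) ht h1
  haveI : Algebra.IsIntegral T (T ⧸ Q) :=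
    Algebra.isIntegral_of_surjective Ideal.Quotient.mk_surjective
  haveI : Algebra.IsIntegral P' (T ⧸ Q) := Algebra.IsIntegral.trans T
  exact (Groth.Agent.Helper8.HLV.ringKrullDim_eq_of_injective_of_isIntegral P' (T ⧸ Q) hinj).symm

/-- A minimal prime containing an ideal gives a minimal prime of the quotient. -/
theorem map_mk_mem_minimalPrimes {R : Type*} [CommRing R] (J Q : Ideal R)
    (hQ : Q ∈ minimalPrimes R) (hJ : J ≤ Q) :
    Q.map (Ideal.Quotient.mk J) ∈ minimalPrimes (R ⧸ J) := by
  haveI := hQ.1.1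
  have hker : RingHom.ker (Ideal.Quotient.mk J) ≤ Q := by rw [Ideal.mk_ker]; exact hJ
  have hcm : (Q.map (Ideal.Quotient.mk J)).comap (Ideal.Quotient.mk J) = Q := by
    rw [Ideal.comap_map_of_surjective _ Ideal.Quotient.mk_surjective]
    rw [← RingHom.ker_eq_comap_bot]
    exact sup_eq_left.mpr hker
  haveI hprime : (Q.map (Ideal.Quotient.mk J)).IsPrime :=
    Ideal.map_isPrime_of_surjective Ideal.Quotient.mk_surjective hker
  refine ⟨⟨hprime, bot_le⟩, fun Q' hQ' hle => ?_⟩
  haveI := hQ'.1
  have h1 : Q'.comap (Ideal.Quotient.mk J) ≤ Q := by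
    rw [← hcm]; exact Ideal.comap_mono hle
  have h2 : Q ≤ Q'.comap (Ideal.Quotient.mk J) :=
    hQ.2 ⟨inferInstance, bot_le⟩ h1
  rw [← Ideal.map_comap_of_surjective _ Ideal.Quotient.mk_surjective Q']
  exact Ideal.map_mono h2

end abstract

attribute [local instance] Algebra.TensorProduct.rightAlgebra

section resfield

variable (k A k' : Type u) [Field k] [CommRing A] [Algebra k A] [IsNoetherianRing A]
  [IsLocalRing A] [Module.Finite k (ResidueField A)] [Field k'] [Algebra k k']

local notation "Ck'" => EGA4.CTensor k A k'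

/-- If the residue field of `A` is `k`, the closed fibre of `A → A ⊗̂_k k'` is `k'`. -/
theorem nonempty_quotient_equiv_of_surjective
    (hs : Function.Surjective (algebraMap k (A ⧸ maximalIdeal A))) :
    Nonempty ((Ck' ⧸ (maximalIdeal A).map (algebraMap A Ck')) ≃+* k') := by
  obtain ⟨e⟩ := nonempty_quotient_maximalIdeal_equiv k A k'
  let e1 : k ≃ₐ[k] (A ⧸ maximalIdeal A) :=
    AlgEquiv.ofBijective (Algebra.ofId k _) ⟨(algebraMap k (A ⧸ maximalIdeal A)).injective, hs⟩
  let e2 : (A ⧸ maximalIdeal A) ⊗[k] k' ≃ₐ[k] k ⊗[k] k' :=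
    Algebra.TensorProduct.congr e1.symm AlgEquiv.refl
  let e3 : k ⊗[k] k' ≃ₐ[k] k' := Algebra.TensorProduct.lid k k'
  exact ⟨e.trans (e2.trans e3).toRingEquiv⟩

theorem isMaximal_map_of_surjective
    (hs : Function.Surjective (algebraMap k (A ⧸ maximalIdeal A))) :
    ((maximalIdeal A).map (algebraMap A Ck')).IsMaximal := by
  obtain ⟨e⟩ := nonempty_quotient_equiv_of_surjective k A k' hs
  apply Ideal.Quotient.maximal_of_isField
  exact MulEquiv.isField (Field.toIsField k') e.toMulEquiv

theorem isLocalRing_cTensor_of_surjective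
    (hs : Function.Surjective (algebraMap k (A ⧸ maximalIdeal A))) : IsLocalRing Ck' := by
  have hmax := isMaximal_map_of_surjective k A k' hs
  refine IsLocalRing.of_unique_max_ideal ⟨_, hmax, fun M hM => ?_⟩
  have hle : (maximalIdeal A).map (algebraMap A Ck') ≤ M :=
    (map_maximalIdeal_le_jacobson k A k').trans
      ((Ideal.jacobson_mono bot_le).trans (le_of_eq Ideal.jacobson_eq_self_of_isMaximal))
  exact (hmax.eq_of_le hM.ne_top hle).symm

theorem maximalIdeal_cTensor_of_surjective
    (hs : Function.Surjective (algebraMap k (A ⧸ maximalIdeal A))) [IsLocalRing Ck'] :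
    maximalIdeal Ck' = (maximalIdeal A).map (algebraMap A Ck') := by
  have hmax := isMaximal_map_of_surjective k A k' hs
  exact (IsLocalRing.eq_maximalIdeal hmax).symm

end resfield

section regular

variable (k A k' : Type u) [Field k] [CommRing A] [Algebra k A] [IsRegularLocalRing A]
  [Module.Finite k (ResidueField A)] [Field k'] [Algebra k k']

local notation "Ck'" => EGA4.CTensor k A k'

/-- If `A` is regular with residue field `k`, then `A ⊗̂_k k'` is regular of the same dimension. -/
theorem isRegularLocalRing_cTensor_of_surjective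
    (hs : Function.Surjective (algebraMap k (A ⧸ maximalIdeal A))) [IsLocalRing Ck'] :
    IsRegularLocalRing Ck' ∧ ringKrullDim Ck' = ringKrullDim A := by
  haveI := isNoetherianRing_cTensor k A k'
  haveI := flat_left k A k'
  have hmax := maximalIdeal_cTensor_of_surjective k A k' hs
  haveI : IsLocalHom (algebraMap A Ck') :=
    ((IsLocalRing.local_hom_TFAE _).out 2 0).mp (le_of_eq hmax.symm)
  obtain ⟨e⟩ := nonempty_quotient_equiv_of_surjective k A k' hs
  haveI : IsRegularLocalRing (Ck' ⧸ (maximalIdeal A).map (algebraMap A Ck')) :=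
    IsRegularLocalRing.of_ringEquiv e.symm
  have h3 : IsRegularLocalRing A ∧
      IsRegularLocalRing (Ck' ⧸ (maximalIdeal A).map (algebraMap A Ck')) ∧ Module.Flat A Ck' :=
    ⟨inferInstance, inferInstance, inferInstance⟩
  have h1 := ((Groth.Agent.Helper8.LocalHomReg.tfae_regular A Ck').out 2 1).mp h3
  have h4 := ((Groth.Agent.Helper8.LocalHomReg.tfae_regular A Ck').out 2 3).mp h3
  refine ⟨h1.1, ?_⟩
  rw [h4.2.2, ringKrullDim_eq_of_ringEquiv e, ringKrullDim_eq_zero_of_field, add_zero]

end regular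

section powerSeries

variable (k k' : Type u) [Field k] [Field k'] [Algebra k k'] (n : ℕ)

local notation "Pk" => MvPowerSeries (Fin n) k
local notation "Pk'" => EGA4.CTensor k (MvPowerSeries (Fin n) k) k'

theorem surjective_algebraMap_quotient_mvPowerSeries :
    Function.Surjective (algebraMap k (Pk ⧸ maximalIdeal Pk)) :=
  Groth.Agent.Helper8.mvPowerSeries_residue_comp_algebraMap_surjective (Fin n) k

theorem isLocalRing_cTensor_mvPowerSeries : IsLocalRing Pk' :=
  isLocalRing_cTensor_of_surjective k Pk k' (surjective_algebraMap_quotient_mvPowerSeries k n)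

theorem isRegularLocalRing_cTensor_mvPowerSeries : IsRegularLocalRing Pk' :=
  haveI := isLocalRing_cTensor_mvPowerSeries k k' n
  (isRegularLocalRing_cTensor_of_surjective k Pk k'
    (surjective_algebraMap_quotient_mvPowerSeries k n)).1

theorem isDomain_cTensor_mvPowerSeries : IsDomain Pk' :=
  haveI := isRegularLocalRing_cTensor_mvPowerSeries k k' n
  Groth.Agent.Helper8.RLR.isDomain Pk'

theorem ringKrullDim_cTensor_mvPowerSeries : ringKrullDim Pk' = n := by
  haveI := isLocalRing_cTensor_mvPowerSeries k k' n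
  rw [(isRegularLocalRing_cTensor_of_surjective k Pk k'
    (surjective_algebraMap_quotient_mvPowerSeries k n)).2,
    Groth.Agent.Helper8.ringKrullDim_mvPowerSeries_fin]

end powerSeries

section beta

variable (k A k' : Type u) [Field k] [CommRing A] [Algebra k A] [IsNoetherianRing A]
  [IsLocalRing A] [Module.Finite k (ResidueField A)] [Field k'] [Algebra k k']
  [IsAdicComplete (maximalIdeal A) A]

local notation "Ck'" => EGA4.CTensor k A k'

omit [IsAdicComplete (maximalIdeal A) A] in
theorem ringKrullDim_quotient_cTensor_aux (Q₁ : Ideal Ck') (hQ₁ : Q₁ ∈ minimalPrimes Ck')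
    (q : Ideal A) [q.IsPrime] (hq : q = Q₁.comap (algebraMap A Ck')) [IsLocalRing (A ⧸ q)]
    (P : Type u) [CommRing P] [IsDomain P] [Algebra k P] [IsLocalRing P] [IsNoetherianRing P]
    [Module.Finite k (ResidueField P)] [Algebra P (A ⧸ q)] [IsScalarTower k P (A ⧸ q)]
    [Module.Finite P (A ⧸ q)] [IsLocalHom (algebraMap P (A ⧸ q))]
    (hinj : Function.Injective (algebraMap P (A ⧸ q))) [IsDomain (EGA4.CTensor k P k')] :
    ringKrullDim (Ck' ⧸ Q₁) = ringKrullDim (EGA4.CTensor k P k') := by
  haveI := hQ₁.1.1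
  haveI : Module.Flat P (EGA4.CTensor k P k') := flat_left k P k'
  -- the chain of isomorphisms
  obtain ⟨e₁⟩ := nonempty_baseChange_equiv k P (A ⧸ q) k'
  obtain ⟨e₂⟩ := nonempty_quotient_tensor_equiv k A k' q
  let e₃ : (Ck' ⧸ q.map (algebraMap A Ck')) ≃ₐ[Ck'] Ck' ⊗[A] (A ⧸ q) :=
    Algebra.TensorProduct.quotIdealMapEquivTensorQuot Ck' q
  let e₄ : Ck' ⊗[A] (A ⧸ q) ≃ₐ[A] (A ⧸ q) ⊗[A] Ck' := Algebra.TensorProduct.comm A Ck' (A ⧸ q)
  let e : ((A ⧸ q) ⊗[P] EGA4.CTensor k P k') ≃+* (Ck' ⧸ q.map (algebraMap A Ck')) :=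
    e₁.trans (e₂.symm.trans (e₄.symm.toRingEquiv.trans e₃.symm.toRingEquiv))
  letI algT : Algebra (EGA4.CTensor k P k') (Ck' ⧸ q.map (algebraMap A Ck')) :=
    ((@RingEquiv.toRingHom ((A ⧸ q) ⊗[P] EGA4.CTensor k P k')
      (Ck' ⧸ q.map (algebraMap A Ck')) _ _ e).comp
      (algebraMap (EGA4.CTensor k P k') ((A ⧸ q) ⊗[P] EGA4.CTensor k P k'))).toAlgebra
  have halg : ∀ t, algebraMap (EGA4.CTensor k P k')
      (Ck' ⧸ q.map (algebraMap A Ck')) t = e ((1 : A ⧸ q) ⊗ₜ t) := fun t => rfl
  haveI : Module.Finite (EGA4.CTensor k P k') ((A ⧸ q) ⊗[P] EGA4.CTensor k P k') :=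
    finite_right P (A ⧸ q) _
  haveI : Module.Finite (EGA4.CTensor k P k') (Ck' ⧸ q.map (algebraMap A Ck')) :=
    finite_of_ringEquiv e.symm (fun c => e.symm_apply_apply _)
  haveI : Algebra.IsIntegral (EGA4.CTensor k P k') (Ck' ⧸ q.map (algebraMap A Ck')) :=
    Algebra.IsIntegral.of_finite _ _
  have htf : ∀ t : EGA4.CTensor k P k', t ≠ 0 →
      algebraMap (EGA4.CTensor k P k')
        (Ck' ⧸ q.map (algebraMap A Ck')) t ∈ nonZeroDivisors (Ck' ⧸ q.map (algebraMap A Ck')) := by
    intro t ht
    rw [halg, ← MulEquivClass.map_nonZeroDivisors e]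
    exact Submonoid.mem_map_of_mem _ (tmul_mem_nonZeroDivisors P (A ⧸ q) _
      hinj t (mem_nonZeroDivisors_of_ne_zero ht))
  -- the minimal prime of the quotient
  have hle : q.map (algebraMap A Ck') ≤ Q₁ := by
    rw [hq]; exact Ideal.map_le_iff_le_comap.mpr le_rfl
  have hQ₂ := map_mk_mem_minimalPrimes (q.map (algebraMap A Ck')) Q₁ hQ₁ hle
  have h1 := ringKrullDim_quotient_of_mem_minimalPrimes
    (EGA4.CTensor k P k') (Ck' ⧸ q.map (algebraMap A Ck')) htf _ hQ₂
  rw [← ringKrullDim_eq_of_ringEquiv (DoubleQuot.quotQuotEquivQuotOfLE hle), h1]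

/-- **Minimal primes of the completed base change have the dimension of their contraction.** -/
theorem ringKrullDim_quotient_cTensor (Q₁ : Ideal Ck') (hQ₁ : Q₁ ∈ minimalPrimes Ck') :
    ringKrullDim (Ck' ⧸ Q₁) = ringKrullDim (A ⧸ Q₁.comap (algebraMap A Ck')) := by
  haveI := hQ₁.1.1
  set q := Q₁.comap (algebraMap A Ck') with hq
  haveI : q.IsPrime := Ideal.comap_isPrime _ _
  haveI := Groth.Agent.Helper8.EK.isLocalRing_quotient A q
  haveI := Groth.Agent.Helper8.EK.isAdicComplete_quotient' A q
  haveI := Groth.Agent.Helper8.EK.finite_residueField_quotient k A q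
  -- a finite injection from a power series ring
  obtain ⟨n, x, hx, hprim, hn⟩ := Groth.Agent.Helper8.FinPS.exists_sop (R := A ⧸ q)
  have hdim : ringKrullDim (A ⧸ q) = n :=
    le_antisymm (Groth.Agent.Helper8.EK.ringKrullDim_le_of_mem_minimalPrimes x hprim) hn
  obtain ⟨alg, tower, hloc, hfin, -⟩ :=
    Groth.Agent.Helper8.EK.exists_algebra_powerSeries k (A ⧸ q) n x hx hprim
  letI := alg
  haveI := tower
  haveI := hloc
  haveI := hfin
  haveI : IsDomain (MvPowerSeries (Fin n) k) := NoZeroDivisors.to_isDomain _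
  have hinj : Function.Injective (algebraMap (MvPowerSeries (Fin n) k) (A ⧸ q)) :=
    Groth.Agent.Helper8.FinPS.injective_of_finite_of_dim (MvPowerSeries (Fin n) k) (A ⧸ q) n
      (le_of_eq (Groth.Agent.Helper8.ringKrullDim_mvPowerSeries_fin k n)) (le_of_eq hdim.symm)
  haveI := isDomain_cTensor_mvPowerSeries k k' n
  rw [ringKrullDim_quotient_cTensor_aux k A k' Q₁ hQ₁ q hq (MvPowerSeries (Fin n) k) hinj,
    ringKrullDim_cTensor_mvPowerSeries, hdim]

/-- **Minimal primes of the local rings of the completed base change have the dimension of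
their contraction.** -/
theorem ringKrullDim_quotient_App (M : Ideal Ck') [M.IsMaximal]
    (q'' : Ideal (Localization.AtPrime M)) (hq'' : q'' ∈ minimalPrimes (Localization.AtPrime M)) :
    ringKrullDim (Localization.AtPrime M ⧸ q'') =
      ringKrullDim (A ⧸ q''.comap (algebraMap A (Localization.AtPrime M))) := by
  haveI := hq''.1.1
  have hQ₁ : q''.under Ck' ∈ minimalPrimes Ck' :=
    Groth.Agent.Helper8.FC.under_mem_minimalPrimes q'' hq''
  have h1 := ringKrullDim_quotient_cTensor k A k' _ hQ₁
  have h2 : (q''.under Ck').comap (algebraMap A Ck') =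
      q''.comap (algebraMap A (Localization.AtPrime M)) := by
    rw [Ideal.under_def, Ideal.comap_comap, ← IsScalarTower.algebraMap_eq]
  rw [h2] at h1
  rw [← h1]
  let f : Ck' →+* Localization.AtPrime M ⧸ q'' :=
    (Ideal.Quotient.mk q'').comp (algebraMap Ck' (Localization.AtPrime M))
  have hf : Function.Surjective f :=
    Ideal.Quotient.mk_surjective.comp (surjective_algebraMap_App k A k' M)
  have hker : RingHom.ker f = q''.under Ck' := by
    rw [RingHom.ker_eq_comap_bot, ← Ideal.comap_comap, ← RingHom.ker_eq_comap_bot, Ideal.mk_ker]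
  exact (ringKrullDim_eq_of_ringEquiv
    ((Ideal.quotEquivOfEq hker.symm).trans (RingHom.quotientKerEquivOfSurjective hf))).symm

end beta

end Groth.Agent.Helper8.CT
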