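import Mathlib
import Groth.Prelude
import Groth.Agent.Lib.Helper8.CT15
import Groth.Agent.Lib.Helper8.PSK4
import Groth.Agent.Lib.Helper8.GRBase2
import Groth.Agent.Lib.Helper8.CohenFact1

/-!
# Regularity of the local rings of `A ⊗̂_k k'` and the completed differentials (EGA 0_IV 22.7.3)
-/

set_option autoImplicit false
universe u

namespace Groth.Agent.Helper8.CT

open IsLocalRing TensorProduct Groth.Agent.Helper8.EK

attribute [local instance] Algebra.TensorProduct.rightAlgebra

section perfect

/-- A regular local algebra over a perfect field is geometrically regular. -/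
theorem isGeometricallyRegular_of_perfectField (k S : Type u) [Field k] [PerfectField k]
    [CommRing S] [Algebra k S] [IsRegularLocalRing S] : CAlg.IsGeometricallyRegular k S := by
  haveI := Groth.Agent.Helper8.CohenFact.isRegularRing_of_isRegularLocalRing S
  apply Groth.Agent.Helper8.GRBase.isGeometricallyRegular_of_purelyInseparable
  intro K _ _ hfin hpi
  haveI := hfin
  haveI := hpi
  haveI : Algebra.IsAlgebraic k K := Algebra.IsAlgebraic.of_finite k K
  haveI : Algebra.IsSeparable k K := Algebra.IsAlgebraic.isSeparable_of_perfectField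
  have hsurj : Function.Surjective (algebraMap k K) :=
    IsPurelyInseparable.surjective_algebraMap_of_isSeparable k K
  let e0 : k ≃ₐ[k] K :=
    AlgEquiv.ofBijective (Algebra.ofId k K) ⟨(algebraMap k K).injective, hsurj⟩
  let e1 : K ⊗[k] S ≃ₐ[k] k ⊗[k] S := Algebra.TensorProduct.congr e0.symm AlgEquiv.refl
  let e2 : k ⊗[k] S ≃ₐ[k] S := Algebra.TensorProduct.lid k S
  exact IsRegularRing.of_ringEquiv (e1.trans e2).symm.toRingEquiv

theorem isRegularLocalRing_atPrime_congr {R : Type*} [CommRing R] (P Q : Ideal R) [P.IsPrime]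
    [Q.IsPrime] (h : P = Q) (hreg : IsRegularLocalRing (Localization.AtPrime P)) :
    IsRegularLocalRing (Localization.AtPrime Q) := by
  subst h; exact hreg

theorem exists_nat_eq_of_le {d : WithBot ℕ∞} {n : ℕ} (h0 : 0 ≤ d) (hn : d ≤ n) :
    ∃ m : ℕ, d = m ∧ m ≤ n := by
  induction d with
  | bot => exact absurd h0 (by simp)
  | coe d =>
    induction d with
    | top => 
      exfalso
      have : ((⊤ : ℕ∞) : WithBot ℕ∞) ≤ ((n : ℕ∞) : WithBot ℕ∞) := hn
      rw [WithBot.coe_le_coe] at this
      simp at this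
    | coe m =>
      refine ⟨m, rfl, ?_⟩
      have : ((m : ℕ∞) : WithBot ℕ∞) ≤ ((n : ℕ∞) : WithBot ℕ∞) := hn
      rw [WithBot.coe_le_coe] at this
      exact_mod_cast this

end perfect

section loc

variable (k A k' : Type u) [Field k] [CommRing A] [Algebra k A] [IsNoetherianRing A]
  [IsLocalRing A] [Module.Finite k (ResidueField A)] [Field k'] [Algebra k k']
  (M : Ideal (EGA4.CTensor k A k')) [M.IsMaximal] [IsAdicComplete (maximalIdeal A) A]

local notation "Ck'" => EGA4.CTensor k A k'
local notation "App" => Localization.AtPrime M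

omit [IsAdicComplete (maximalIdeal A) A] in
theorem flat_App : Module.Flat A App := by
  haveI := flat_left k A k'
  exact Module.Flat.trans A Ck' App

omit [IsAdicComplete (maximalIdeal A) A] in
theorem comap_mem_minimalPrimes_App (q'' : Ideal App) (hq'' : q'' ∈ minimalPrimes App) :
    q''.comap (algebraMap A App) ∈ minimalPrimes A := by
  haveI := flat_App k A k' M
  exact Groth.Agent.Helper8.FC.under_mem_minimalPrimes q'' hq''

omit [IsAdicComplete (maximalIdeal A) A] in
theorem ne_maximalIdeal_App (p'' : Ideal App)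
    (h : p''.comap (algebraMap A App) ≠ maximalIdeal A) : p'' ≠ maximalIdeal App := by
  rintro rfl
  exact h (IsLocalRing.maximalIdeal_comap (algebraMap A App))

/-- **(b) ⟹ (a), local form.** -/
theorem isRegularLocalRing_App_of_genAt (p : Ideal A) [p.IsPrime] (hp : p ≠ maximalIdeal A) (n : ℕ)
    (hn₁ : ∀ q ∈ minimalPrimes A, q ≤ p → ringKrullDim (A ⧸ q) ≤ n)
    (hn₂ : ∃ q ∈ minimalPrimes A, q ≤ p ∧ ringKrullDim (A ⧸ q) = n)
    (h : GenAt p (Ωh k A) n) (p'' : Ideal App) [p''.IsPrime]
    (hp'' : p''.comap (algebraMap A App) = p) :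
    IsRegularLocalRing (Localization.AtPrime p'') := by
  haveI := flat_App k A k' M
  have hgen : GenAt p'' (Ωh k' App) n := genAt_App k A k' M p p'' (le_of_eq hp'') n h
  have hne : p'' ≠ maximalIdeal App := ne_maximalIdeal_App k A k' M p'' (by rw [hp'']; exact hp)
  have h₁ : ∀ q'' ∈ minimalPrimes App, q'' ≤ p'' → ringKrullDim (App ⧸ q'') ≤ n := by
    intro q'' hq'' hle
    rw [ringKrullDim_quotient_App k A k' M q'' hq'']
    refine hn₁ _ (comap_mem_minimalPrimes_App k A k' M q'' hq'') ?_
    rw [← hp'']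
    exact Ideal.comap_mono hle
  have h₂ : ∃ q'' ∈ minimalPrimes App, q'' ≤ p'' ∧ ringKrullDim (App ⧸ q'') = n := by
    obtain ⟨q, hqmin, hqp, hqdim⟩ := hn₂
    haveI : q.IsPrime := hqmin.1.1
    haveI : p''.LiesOver p := ⟨hp''.symm⟩
    obtain ⟨q₀, hq₀le, hq₀prime, hq₀over⟩ :=
      Ideal.exists_ideal_le_liesOver_of_le (p := q) (q := p) p'' hqp
    obtain ⟨q'', hq''min, hq''le⟩ := Ideal.exists_minimalPrimes_le (I := ⊥) (J := q₀) bot_le
    haveI : q''.IsPrime := hq''min.1.1
    have hq''A : q''.comap (algebraMap A App) = q := by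
      have h1 : q''.comap (algebraMap A App) ≤ q := by
        rw [hq₀over.over]
        exact Ideal.comap_mono (f := algebraMap A App) hq''le
      exact le_antisymm h1 (hqmin.2 ⟨Ideal.comap_isPrime _ _, bot_le⟩ h1)
    refine ⟨q'', hq''min, hq''le.trans hq₀le, ?_⟩
    rw [ringKrullDim_quotient_App k A k' M q'' hq''min, hq''A, hqdim]
  exact (free_geomRegular_of_genAt_local k' App p'' hne n h₁ h₂ hgen).2.2

/-- **(a') ⟹ (b), local form.** -/
theorem genAt_of_isRegularLocalRing_App [PerfectField k'] (p : Ideal A) [p.IsPrime] (n : ℕ)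
    (hn₁ : ∀ q ∈ minimalPrimes A, q ≤ p → ringKrullDim (A ⧸ q) ≤ n)
    (hn₂ : ∃ q ∈ minimalPrimes A, q ≤ p ∧ ringKrullDim (A ⧸ q) = n)
    (p'' : Ideal App) [p''.IsPrime] (hp'' : p''.comap (algebraMap A App) = p)
    (hreg : IsRegularLocalRing (Localization.AtPrime p'')) : GenAt p (Ωh k A) n := by
  subst hp''
  obtain ⟨pp, hpp⟩ := ExpChar.exists k'
  haveI := hpp
  have hgr : CAlg.IsGeometricallyRegular k' (Localization.AtPrime p'') :=
    isGeometricallyRegular_of_perfectField k' _
  obtain ⟨q'', hq''min, hq''le⟩ := Ideal.exists_minimalPrimes_le (I := ⊥) (J := p'') bot_le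
  have hqA := comap_mem_minimalPrimes_App k A k' M q'' hq''min
  have hqAle : q''.comap (algebraMap A App) ≤ p''.comap (algebraMap A App) :=
    Ideal.comap_mono hq''le
  have hd := ringKrullDim_quotient_App k A k' M q'' hq''min
  haveI : (q''.comap (algebraMap A App)).IsPrime := hqA.1.1
  obtain ⟨m, hm, hmn⟩ := exists_nat_eq_of_le
    (d := ringKrullDim (A ⧸ q''.comap (algebraMap A App))) ringKrullDim_nonneg_of_nontrivial
    (hn₁ _ hqA hqAle)
  have hgen'' : GenAt p'' (Ωh k' App) m :=
    Groth.Agent.Helper8.PSK.genAt_of_geomRegular pp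
      (Or.inr (finite_fieldRange_of_perfect k' pp)) p'' hgr q'' hq''min hq''le m (hd.trans hm)
  have hgen : GenAt (p''.comap (algebraMap A App)) (Ωh k A) m :=
    genAt_descent k A k' M p'' m hgen''
  obtain ⟨q, hqmin, hqp, hqdim⟩ := hn₂
  haveI := hqmin.1.1
  have hle := Groth.Agent.Helper8.EK.ringKrullDim_quotient_le_of_genAt k A q _ hqp m hgen
  rw [hqdim] at hle
  have h1 : n ≤ m := by exact_mod_cast hle
  have h2 : m = n := le_antisymm hmn h1
  rwa [h2] at hgen

end loc

section global

variable (k A k' : Type u) [Field k] [CommRing A] [Algebra k A] [IsNoetherianRing A]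
  [IsLocalRing A] [Module.Finite k (ResidueField A)] [Field k'] [Algebra k k']
  [IsAdicComplete (maximalIdeal A) A]

local notation "Ck'" => EGA4.CTensor k A k'

omit [IsAdicComplete (maximalIdeal A) A] in
theorem nontrivial_cTensor_field : Nontrivial Ck' := by
  obtain ⟨e⟩ := nonempty_quotient_maximalIdeal_equiv k A k'
  haveI : Nontrivial ((A ⧸ maximalIdeal A) ⊗[k] k') :=
    Algebra.TensorProduct.nontrivial_of_algebraMap_injective_of_flat_left k _ _
      (algebraMap k k').injective
  haveI : Nontrivial (Ck' ⧸ (maximalIdeal A).map (algebraMap A Ck')) := e.toEquiv.nontrivial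
  exact (Ideal.Quotient.mk ((maximalIdeal A).map (algebraMap A Ck'))).domain_nontrivial

omit [IsAdicComplete (maximalIdeal A) A] [IsNoetherianRing A] [Module.Finite k (ResidueField A)] in
/-- Every prime of the completed base change comes from a prime of one of its local rings. -/
theorem exists_App_prime (p' : Ideal Ck') [p'.IsPrime] :
    ∃ (M : Ideal Ck') (_ : M.IsMaximal) (p'' : Ideal (Localization.AtPrime M)) (_ : p''.IsPrime),
      p''.comap (algebraMap Ck' (Localization.AtPrime M)) = p' := by
  obtain ⟨M, hM, hle⟩ := Ideal.exists_le_maximal p' (Ideal.IsPrime.ne_top inferInstance)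
  haveI := hM
  have hdisj : Disjoint (M.primeCompl : Set Ck') (p' : Set Ck') := by
    rw [Set.disjoint_left]
    intro x hx hx'
    exact hx (hle hx')
  exact ⟨M, hM, p'.map (algebraMap Ck' (Localization.AtPrime M)),
    IsLocalization.isPrime_of_isPrime_disjoint M.primeCompl _ p' inferInstance hdisj,
    IsLocalization.under_map_of_isPrime_disjoint M.primeCompl _ inferInstance hdisj⟩

/-- **(b) ⟹ (a).** -/
theorem isRegularLocalRing_cTensor_of_genAt (p : Ideal A) [p.IsPrime] (hp : p ≠ maximalIdeal A)
    (n : ℕ) (hn₁ : ∀ q ∈ minimalPrimes A, q ≤ p → ringKrullDim (A ⧸ q) ≤ n)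
    (hn₂ : ∃ q ∈ minimalPrimes A, q ≤ p ∧ ringKrullDim (A ⧸ q) = n)
    (h : GenAt p (Ωh k A) n) (p' : Ideal Ck') [p'.IsPrime]
    (hp' : p'.comap (algebraMap A Ck') = p) :
    IsRegularLocalRing (Localization.AtPrime p') := by
  obtain ⟨M, hM, p'', hp''prime, hp''⟩ := exists_App_prime k A k' p'
  haveI := hM
  haveI := hp''prime
  have hcomap : p''.comap (algebraMap A (Localization.AtPrime M)) = p := by
    rw [IsScalarTower.algebraMap_eq A Ck' (Localization.AtPrime M), ← Ideal.comap_comap, hp'', hp']
  haveI hreg := isRegularLocalRing_App_of_genAt k A k' M p hp n hn₁ hn₂ h p'' hcomap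
  let e := IsLocalization.localizationLocalizationAtPrimeIsoLocalization M.primeCompl p''
  have h1 : IsRegularLocalRing (Localization.AtPrime
      (p''.comap (algebraMap Ck' (Localization M.primeCompl)))) :=
    IsRegularLocalRing.of_ringEquiv e.symm.toRingEquiv
  exact isRegularLocalRing_atPrime_congr _ _ hp'' h1

/-- **(a') ⟹ (b).** -/
theorem genAt_of_isRegularLocalRing_cTensor [PerfectField k'] (p : Ideal A) [p.IsPrime] (n : ℕ)
    (hn₁ : ∀ q ∈ minimalPrimes A, q ≤ p → ringKrullDim (A ⧸ q) ≤ n)
    (hn₂ : ∃ q ∈ minimalPrimes A, q ≤ p ∧ ringKrullDim (A ⧸ q) = n)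
    (p' : Ideal Ck') [p'.IsPrime] (hp' : p'.comap (algebraMap A Ck') = p)
    (hreg : IsRegularLocalRing (Localization.AtPrime p')) : GenAt p (Ωh k A) n := by
  obtain ⟨M, hM, p'', hp''prime, hp''⟩ := exists_App_prime k A k' p'
  haveI := hM
  haveI := hp''prime
  have hcomap : p''.comap (algebraMap A (Localization.AtPrime M)) = p := by
    rw [IsScalarTower.algebraMap_eq A Ck' (Localization.AtPrime M), ← Ideal.comap_comap, hp'', hp']
  haveI h1 : IsRegularLocalRing (Localization.AtPrime
      (p''.comap (algebraMap Ck' (Localization M.primeCompl)))) :=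
    isRegularLocalRing_atPrime_congr _ _ hp''.symm hreg
  let e := IsLocalization.localizationLocalizationAtPrimeIsoLocalization M.primeCompl p''
  have h2 : IsRegularLocalRing (Localization.AtPrime p'') :=
    IsRegularLocalRing.of_ringEquiv e.toRingEquiv
  exact genAt_of_isRegularLocalRing_App k A k' M p n hn₁ hn₂ p'' hcomap h2

omit [IsAdicComplete (maximalIdeal A) A] in
/-- Every prime of `A` is the contraction of a prime of the completed base change. -/
theorem exists_prime_cTensor (p : Ideal A) [p.IsPrime] :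
    ∃ p' : Ideal Ck', p'.IsPrime ∧ p'.comap (algebraMap A Ck') = p := by
  haveI := nontrivial_cTensor_field k A k'
  obtain ⟨M, hM⟩ := Ideal.exists_maximal Ck'
  haveI := hM
  haveI := faithfullyFlat_localization k A k' M
  obtain ⟨P, hP, hPover⟩ :=
    Ideal.exists_isPrime_liesOver_of_faithfullyFlat (B := Localization.AtPrime M) p
  haveI := hP
  refine ⟨P.comap (algebraMap Ck' (Localization.AtPrime M)), Ideal.comap_isPrime _ _, ?_⟩
  rw [Ideal.comap_comap, ← IsScalarTower.algebraMap_eq]
  exact hPover.over.symm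

end global

end Groth.Agent.Helper8.CT
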