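import Mathlib
import Groth.Prelude
import Groth.Agent.Lib.Helper8.CT16

/-!
# Glue for EGA 0_IV 22.7.3 in the form with the completion of `A ⊗_k k'` at `m_A (A ⊗_k k')`
-/

set_option autoImplicit false
universe u

namespace Groth.Agent.Helper8.CT17

open IsLocalRing TensorProduct Groth.Agent.Helper8.EK Groth.Agent.Helper8.CT

variable (k A : Type u) [Field k] [CommRing A]
    [IsLocalRing A] [IsNoetherianRing A] [Algebra k A] [IsAdicComplete (IsLocalRing.maximalIdeal A) A]
    [Module.Finite k (IsLocalRing.ResidueField A)] (p : Ideal A) [p.IsPrime]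

/-- Freeness of rank `n` gives local generation by `n` elements. -/
theorem genAt_of_free (n : ℕ)
    (h : Module.Free (Localization.AtPrime p) (LocalizedModule p.primeCompl (Ωh k A)) ∧
      Module.finrank (Localization.AtPrime p) (LocalizedModule p.primeCompl (Ωh k A)) = n) :
    GenAt p (Ωh k A) n := by
  obtain ⟨hfree, hrank⟩ := h
  haveI := hfree
  haveI : Module.Finite A (Ωh k A) := finite_Ωh k A
  haveI : Module.Finite (Localization.AtPrime p) (LocalizedModule p.primeCompl (Ωh k A)) :=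
    Module.Finite.of_isLocalizedModule p.primeCompl
      (LocalizedModule.mkLinearMap p.primeCompl (Ωh k A))
  let b := Module.finBasisOfFinrankEq (Localization.AtPrime p)
    (LocalizedModule p.primeCompl (Ωh k A)) hrank
  exact genAt_iff_span_localizedModule.mpr ⟨b, b.span_eq⟩

variable (k' : Type u) [Field k'] [Algebra k k']

omit [IsAdicComplete (maximalIdeal A) A] in
theorem ideal_eq : (IsLocalRing.maximalIdeal A).map
    (Algebra.TensorProduct.includeLeft : A →ₐ[k] A ⊗[k] k') = EGA4.cTensorIdeal k A k' :=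
  (cTensorIdeal_field k A k').symm

omit [IsNoetherianRing A] [IsAdicComplete (maximalIdeal A) A] [Module.Finite k (ResidueField A)] in
theorem comap_eq (p' : Ideal (EGA4.CTensor k A k')) :
    (p'.comap (algebraMap (A ⊗[k] k') (EGA4.CTensor k A k'))).comap
      (Algebra.TensorProduct.includeLeft : A →ₐ[k] A ⊗[k] k').toRingHom =
    p'.comap (algebraMap A (EGA4.CTensor k A k')) := by
  rw [Ideal.comap_comap]
  rfl

theorem regular_of_genAt (hp : p ≠ maximalIdeal A) (n : ℕ)
    (hn₁ : ∀ q ∈ minimalPrimes A, q ≤ p → ringKrullDim (A ⧸ q) ≤ n)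
    (hn₂ : ∃ q ∈ minimalPrimes A, q ≤ p ∧ ringKrullDim (A ⧸ q) = n)
    (h : GenAt p (Ωh k A) n) (I : Ideal (A ⊗[k] k')) (hI : I = EGA4.cTensorIdeal k A k')
    (p' : Ideal (AdicCompletion I (A ⊗[k] k'))) [p'.IsPrime]
    (hp' : (p'.comap (algebraMap (A ⊗[k] k') _)).comap
      (Algebra.TensorProduct.includeLeft : A →ₐ[k] A ⊗[k] k').toRingHom = p) :
    IsRegularLocalRing (Localization.AtPrime p') := by
  subst hI
  rw [comap_eq] at hp'
  exact isRegularLocalRing_cTensor_of_genAt k A k' p hp n hn₁ hn₂ h p' hp'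

theorem genAt_of_regular [PerfectField k'] (n : ℕ)
    (hn₁ : ∀ q ∈ minimalPrimes A, q ≤ p → ringKrullDim (A ⧸ q) ≤ n)
    (hn₂ : ∃ q ∈ minimalPrimes A, q ≤ p ∧ ringKrullDim (A ⧸ q) = n)
    (I : Ideal (A ⊗[k] k')) (hI : I = EGA4.cTensorIdeal k A k')
    (p' : Ideal (AdicCompletion I (A ⊗[k] k'))) [p'.IsPrime]
    (hp' : (p'.comap (algebraMap (A ⊗[k] k') _)).comap
      (Algebra.TensorProduct.includeLeft : A →ₐ[k] A ⊗[k] k').toRingHom = p)
    (hreg : IsRegularLocalRing (Localization.AtPrime p')) : GenAt p (Ωh k A) n := by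
  subst hI
  rw [comap_eq] at hp'
  exact genAt_of_isRegularLocalRing_cTensor k A k' p n hn₁ hn₂ p' hp' hreg

theorem exists_prime (I : Ideal (A ⊗[k] k')) (hI : I = EGA4.cTensorIdeal k A k') :
    ∃ (p' : Ideal (AdicCompletion I (A ⊗[k] k'))) (_ : p'.IsPrime),
      (p'.comap (algebraMap (A ⊗[k] k') _)).comap
        (Algebra.TensorProduct.includeLeft : A →ₐ[k] A ⊗[k] k').toRingHom = p := by
  subst hI
  obtain ⟨p', hp'prime, hp'⟩ := exists_prime_cTensor k A k' p
  exact ⟨p', hp'prime, by rw [comap_eq]; exact hp'⟩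

end Groth.Agent.Helper8.CT17
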