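import Mathlib
import Groth.Agent.Lib.Helper8.Cartier3
import Groth.Agent.Lib.Helper8.PRad4

/-!
# Formal smoothness over a field and the imperfection module of the residue field
-/

set_option autoImplicit false
universe u

namespace Groth.Agent.Helper8.PSL

open IsLocalRing KaehlerDifferential TensorProduct CAlgX

section transfer

variable {A : Type u} [CommRing A] [IsLocalRing A] (L : Type u) [Field L] [Algebra A L]

/-- A field which is a quotient of a local ring is its residue field. -/
theorem ker_algebraMap_eq_maximalIdeal (hsurj : Function.Surjective (algebraMap A L)) :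
    RingHom.ker (algebraMap A L) = maximalIdeal A := by
  haveI : (RingHom.ker (algebraMap A L)).IsMaximal := RingHom.ker_isMaximal_of_surjective _ hsurj
  exact IsLocalRing.eq_maximalIdeal inferInstance

/-- The residue field is any field quotient. -/
theorem nonempty_residueField_algEquiv (hsurj : Function.Surjective (algebraMap A L)) :
    Nonempty (ResidueField A ≃ₐ[A] L) := by
  have h1 := ker_algebraMap_eq_maximalIdeal L hsurj
  have hsurj' : Function.Surjective (Algebra.ofId A L) := hsurj
  let e₁ : (A ⧸ RingHom.ker (Algebra.ofId A L)) ≃ₐ[A] L :=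
    Ideal.quotientKerAlgEquivOfSurjective hsurj'
  have h2 : maximalIdeal A = RingHom.ker (Algebra.ofId A L) := h1.symm
  let e₂ : (A ⧸ maximalIdeal A) ≃ₐ[A] (A ⧸ RingHom.ker (Algebra.ofId A L)) :=
    Ideal.quotientEquivAlgOfEq A h2
  exact ⟨e₂.trans e₁⟩

/-- The residue field, as a module, is any field quotient. -/
theorem nonempty_residueField_linearEquiv (hsurj : Function.Surjective (algebraMap A L)) :
    Nonempty (ResidueField A ≃ₗ[A] L) := by
  obtain ⟨e⟩ := nonempty_residueField_algEquiv L hsurj
  exact ⟨e.toLinearEquiv⟩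

/-- Injectivity after tensoring with the residue field can be tested on any field quotient. -/
theorem lTensor_injective_iff {M N : Type u} [AddCommGroup M] [Module A M] [AddCommGroup N]
    [Module A N] (f : M →ₗ[A] N) (hsurj : Function.Surjective (algebraMap A L)) :
    Function.Injective (f.lTensor (ResidueField A)) ↔ Function.Injective (f.lTensor L) := by
  obtain ⟨ε⟩ := nonempty_residueField_linearEquiv L hsurj
  have hcomm : (TensorProduct.congr ε (LinearEquiv.refl A N) : _ →ₗ[A] _) ∘ₗ
      f.lTensor (ResidueField A) =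
      f.lTensor L ∘ₗ (TensorProduct.congr ε (LinearEquiv.refl A M) : _ →ₗ[A] _) := by
    apply TensorProduct.ext'
    intro x m
    simp
  have hc : ∀ x, TensorProduct.congr ε (LinearEquiv.refl A N) (f.lTensor (ResidueField A) x) =
      f.lTensor L (TensorProduct.congr ε (LinearEquiv.refl A M) x) :=
    fun x => LinearMap.congr_fun hcomm x
  constructor
  · intro h x y hxy
    obtain ⟨x', rfl⟩ := (TensorProduct.congr ε (LinearEquiv.refl A M)).surjective x
    obtain ⟨y', rfl⟩ := (TensorProduct.congr ε (LinearEquiv.refl A M)).surjective y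
    rw [← hc, ← hc] at hxy
    exact congrArg _ (h ((TensorProduct.congr ε (LinearEquiv.refl A N)).injective hxy))
  · intro h x y hxy
    have h1 := congrArg (TensorProduct.congr ε (LinearEquiv.refl A N)) hxy
    rw [hc, hc] at h1
    exact (TensorProduct.congr ε (LinearEquiv.refl A M)).injective (h h1)

end transfer

section comm

variable (k A K : Type u) [Field k] [CommRing A] [Algebra k A] [Field K] [Algebra k K]
  [Algebra A K] [IsScalarTower k A K]

/-- The identification `K ⊗_A (A ⊗_k Ω_k) = K ⊗_k Ω_k`. -/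
noncomputable def iota : K ⊗[A] (A ⊗[k] Ω[k⁄ℤ]) ≃ₗ[K] K ⊗[k] Ω[k⁄ℤ] :=
  TensorProduct.AlgebraTensorModule.cancelBaseChange k A K K Ω[k⁄ℤ]

/-- The first map, as a `K`-linear map. -/
noncomputable def alpha : K ⊗[A] (A ⊗[k] Ω[k⁄ℤ]) →ₗ[K] K ⊗[A] Ω[A⁄ℤ] :=
  (mapBaseChange ℤ k A).baseChange K

theorem alpha_apply (x : K ⊗[A] (A ⊗[k] Ω[k⁄ℤ])) :
    alpha k A K x = (mapBaseChange ℤ k A).lTensor K x := rfl

theorem alpha_iota_symm_one_tmul (a : k) :
    alpha k A K ((iota k A K).symm ((1 : K) ⊗ₜ[k] D ℤ k a)) =
      (1 : K) ⊗ₜ[A] D ℤ A (algebraMap k A a) := by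
  have h1 : (iota k A K).symm ((1 : K) ⊗ₜ[k] D ℤ k a) =
      (1 : K) ⊗ₜ[A] ((1 : A) ⊗ₜ[k] D ℤ k a) :=
    TensorProduct.AlgebraTensorModule.cancelBaseChange_symm_tmul _ _ _ _ _
  rw [h1]
  have h2 : alpha k A K ((1 : K) ⊗ₜ[A] ((1 : A) ⊗ₜ[k] D ℤ k a)) =
      (1 : K) ⊗ₜ[A] (mapBaseChange ℤ k A ((1 : A) ⊗ₜ[k] D ℤ k a)) := rfl
  rw [h2, mapBaseChange_tmul, KaehlerDifferential.map_D, one_smul]

theorem mapBaseChange_comp_alpha :
    (mapBaseChange ℤ A K ∘ₗ alpha k A K) ∘ₗ
      ((iota k A K).symm : K ⊗[k] Ω[k⁄ℤ] →ₗ[K] _) = mapBaseChange ℤ k K := by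
  apply Groth.Agent.Helper8.PRad.linearMap_ext_D
  intro a
  rw [LinearMap.comp_apply, LinearMap.comp_apply, LinearEquiv.coe_coe, alpha_iota_symm_one_tmul,
    mapBaseChange_tmul, KaehlerDifferential.map_D, one_smul, mapBaseChange_tmul,
    KaehlerDifferential.map_D, one_smul, ← IsScalarTower.algebraMap_apply]

end comm

section part1

variable {k A K : Type u} [Field k] [CommRing A] [IsLocalRing A] [IsNoetherianRing A] [Algebra k A]
  [Field K] [Algebra k K] [Algebra A K] [IsScalarTower k A K]

omit [IsLocalRing A] in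
/-- The kernel of `K ⊗_A Ω_A → Ω_K` is finite dimensional. -/
theorem finite_ker_mapBaseChange (hsurj : Function.Surjective (algebraMap A K)) :
    Module.Finite K (LinearMap.ker (mapBaseChange ℤ A K)) := by
  have hex := KaehlerDifferential.exact_kerCotangentToTensor_mapBaseChange ℤ A K hsurj
  haveI h3 : Module.Finite A (RingHom.ker (algebraMap A K)).Cotangent :=
    Module.Finite.of_surjective (Ideal.toCotangent _) (Ideal.toCotangent_surjective _)
  have hmem : ∀ x, kerCotangentToTensor ℤ A K x ∈
      (LinearMap.ker (mapBaseChange ℤ A K)).restrictScalars A := fun x =>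
    (hex (kerCotangentToTensor ℤ A K x)).mpr ⟨x, rfl⟩
  let κ' : (RingHom.ker (algebraMap A K)).Cotangent →ₗ[A]
      ((LinearMap.ker (mapBaseChange ℤ A K)).restrictScalars A) :=
    (kerCotangentToTensor ℤ A K).codRestrict _ hmem
  have hκ' : Function.Surjective κ' := by
    rintro ⟨y, hy⟩
    obtain ⟨x, hx⟩ := (hex y).mp hy
    exact ⟨x, Subtype.ext hx⟩
  haveI h4 : Module.Finite A ((LinearMap.ker (mapBaseChange ℤ A K)).restrictScalars A) :=
    Module.Finite.of_surjective κ' hκ'
  haveI h5 : Module.Finite A (LinearMap.ker (mapBaseChange ℤ A K)) :=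
    Module.Finite.equiv ((Submodule.restrictScalarsEquiv A K _
      (LinearMap.ker (mapBaseChange ℤ A K))).restrictScalars A)
  exact Module.Finite.of_restrictScalars_finite A K _

/-- **EGA 0_IV 22.2.6, necessity.** If `A` is formally smooth over `k` then the imperfection
module of its residue field over `k` is finite dimensional. -/
theorem finite_imperfection_of_formallySmooth (hsurj : Function.Surjective (algebraMap A K))
    (h : IsAdicFormallySmooth k A (maximalIdeal A)) :
    Module.Finite K (LinearMap.ker (mapBaseChange ℤ k K)) := by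
  have hinj0 :=
    (Groth.Agent.Helper8.Cartier.isAdicFormallySmooth_iff_regular_and_injective.mp h).2
  have hinj : Function.Injective ((mapBaseChange ℤ k A).lTensor K) :=
    (lTensor_injective_iff K _ hsurj).mp hinj0
  let g : K ⊗[k] Ω[k⁄ℤ] →ₗ[K] K ⊗[A] Ω[A⁄ℤ] :=
    alpha k A K ∘ₗ ((iota k A K).symm : K ⊗[k] Ω[k⁄ℤ] →ₗ[K] _)
  have hg : Function.Injective g := by
    intro x y hxy
    have h1 : (mapBaseChange ℤ k A).lTensor K ((iota k A K).symm x) =
        (mapBaseChange ℤ k A).lTensor K ((iota k A K).symm y) := hxy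
    exact (iota k A K).symm.injective (hinj h1)
  have hmap : ∀ ω ∈ LinearMap.ker (mapBaseChange ℤ k K),
      g ω ∈ LinearMap.ker (mapBaseChange ℤ A K) := by
    intro ω hω
    rw [LinearMap.mem_ker] at hω ⊢
    have h1 := LinearMap.congr_fun (mapBaseChange_comp_alpha k A K) ω
    rw [hω] at h1
    exact h1
  haveI := finite_ker_mapBaseChange (A := A) (K := K) hsurj
  haveI : IsNoetherian K (LinearMap.ker (mapBaseChange ℤ A K)) :=
    isNoetherian_of_isNoetherianRing_of_finite K (LinearMap.ker (mapBaseChange ℤ A K))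
  refine Module.Finite.of_injective (g.restrict hmap) ?_
  intro x y hxy
  have h1 : g x = g y := congrArg Subtype.val hxy
  exact Subtype.ext (hg h1)

end part1

section core

variable {k A K : Type u} [Field k] [CommRing A] [IsLocalRing A] [IsNoetherianRing A] [Algebra k A]
  [Field K] [Algebra k K] [Algebra A K] [IsScalarTower k A K]

omit [IsLocalRing A] [IsNoetherianRing A] in
/-- The functional on `K ⊗_k Ω_k` induced by a derivation of `A` into `K`. -/
theorem functional_eq (δ : Derivation ℤ A K) (c : Derivation ℤ k K)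
    (hc : ∀ a, δ (algebraMap k A a) = c a) :
    (δ.liftKaehlerDifferential.liftBaseChange K ∘ₗ alpha k A K) ∘ₗ
      ((iota k A K).symm : K ⊗[k] Ω[k⁄ℤ] →ₗ[K] _) =
      c.liftKaehlerDifferential.liftBaseChange K := by
  apply Groth.Agent.Helper8.PRad.linearMap_ext_D
  intro a
  rw [LinearMap.comp_apply, LinearMap.comp_apply, LinearEquiv.coe_coe, alpha_iota_symm_one_tmul,
    LinearMap.liftBaseChange_tmul, LinearMap.liftBaseChange_tmul, one_smul, one_smul,
    Derivation.liftKaehlerDifferential_comp_D, Derivation.liftKaehlerDifferential_comp_D, hc]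

/-- **Sufficiency criterion.** A regular local `k`-algebra with residue field `K` is formally
smooth over `k` as soon as derivations `k → K` induced by derivations `A → K` separate the points
of the imperfection module. -/
theorem isAdicFormallySmooth_of_derivations (hsurj : Function.Surjective (algebraMap A K))
    (hreg : IsRegularLocalRing A) {n : ℕ} (δ : Fin n → Derivation ℤ A K)
    (c : Fin n → Derivation ℤ k K) (hc : ∀ j a, δ j (algebraMap k A a) = c j a)
    (hsep : ∀ ω ∈ LinearMap.ker (mapBaseChange ℤ k K),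
      (∀ j, (c j).liftKaehlerDifferential.liftBaseChange K ω = 0) → ω = 0) :
    IsAdicFormallySmooth k A (maximalIdeal A) := by
  refine Groth.Agent.Helper8.Cartier.isAdicFormallySmooth_iff_regular_and_injective.mpr
    ⟨hreg, (lTensor_injective_iff K _ hsurj).mpr ?_⟩
  rw [injective_iff_map_eq_zero]
  intro x hx
  have hx' : alpha k A K x = 0 := hx
  have h1 : iota k A K x = 0 := by
    apply hsep
    · rw [LinearMap.mem_ker]
      have h2 := LinearMap.congr_fun (mapBaseChange_comp_alpha k A K) (iota k A K x)
      rw [← h2, LinearMap.comp_apply, LinearMap.comp_apply, LinearEquiv.coe_coe,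
        LinearEquiv.symm_apply_apply, hx', map_zero]
    · intro j
      have h2 := LinearMap.congr_fun (functional_eq (δ j) (c j) (hc j)) (iota k A K x)
      rw [← h2, LinearMap.comp_apply, LinearMap.comp_apply, LinearEquiv.coe_coe,
        LinearEquiv.symm_apply_apply, hx', map_zero]
  exact (iota k A K).injective (by rw [h1, map_zero])

end core

end Groth.Agent.Helper8.PSL
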