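import Mathlib
import Groth.Agent.Lib.Helper8.PSL1
import Groth.Agent.Lib.Helper2.CartierFinal
import Groth.Agent.Lib.Helper2.Fredholm2

/-!
# Differentials of a finite extension of a field `F` over a subfield `k` of `F`

For fields `k ⊆ F ⊆ L` with `L` finite over `F` and `F ⊗_k Ω_k → Ω_F` injective, the kernel and
the cokernel of `L ⊗_k Ω_k → Ω_L` are compared with `Ω_{F/k}` through Cartier's equality.
-/

set_option autoImplicit false
universe u

namespace Groth.Agent.Helper8.CTF

open KaehlerDifferential TensorProduct Module Groth.Agent.Helper2.Fredholm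
  Groth.Agent.Helper2.Cartier Groth.Agent.Helper8.PSL

section linalg

variable {K : Type*} [Field K] {U V W : Type u} [AddCommGroup U] [Module K U]
  [AddCommGroup V] [Module K V] [AddCommGroup W] [Module K W]

/-- The kernel of a composite with an injective first map. -/
noncomputable def kerCompEquiv (g : U →ₗ[K] V) (β : V →ₗ[K] W) (hg : Function.Injective g) :
    LinearMap.ker (β ∘ₗ g) ≃ₗ[K]
      LinearMap.ker ((LinearMap.range g).mkQ.domRestrict (LinearMap.ker β)) := by
  have h1 : ∀ u : LinearMap.ker (β ∘ₗ g), (g ∘ₗ (LinearMap.ker (β ∘ₗ g)).subtype) u ∈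
      LinearMap.ker β := by
    intro u
    have := u.2
    rw [LinearMap.mem_ker, LinearMap.comp_apply] at this
    rw [LinearMap.mem_ker]
    exact this
  let f1 : LinearMap.ker (β ∘ₗ g) →ₗ[K] LinearMap.ker β :=
    (g ∘ₗ (LinearMap.ker (β ∘ₗ g)).subtype).codRestrict _ h1
  have h2 : ∀ u : LinearMap.ker (β ∘ₗ g), f1 u ∈
      LinearMap.ker ((LinearMap.range g).mkQ.domRestrict (LinearMap.ker β)) := by
    intro u
    rw [LinearMap.mem_ker, LinearMap.domRestrict_apply, Submodule.mkQ_apply,
      Submodule.Quotient.mk_eq_zero]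
    exact ⟨u.1, rfl⟩
  let f2 : LinearMap.ker (β ∘ₗ g) →ₗ[K]
      LinearMap.ker ((LinearMap.range g).mkQ.domRestrict (LinearMap.ker β)) :=
    f1.codRestrict _ h2
  refine LinearEquiv.ofBijective f2 ⟨?_, ?_⟩
  · intro a b hab
    have h3 : g a.1 = g b.1 := congrArg (fun z => ((z.1 : LinearMap.ker β) : V)) hab
    exact Subtype.ext (hg h3)
  · rintro ⟨⟨v, hv⟩, hv2⟩
    rw [LinearMap.mem_ker, LinearMap.domRestrict_apply, Submodule.mkQ_apply,
      Submodule.Quotient.mk_eq_zero] at hv2
    obtain ⟨u, hu⟩ := hv2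
    have hu' : g u = v := hu
    refine ⟨⟨u, ?_⟩, ?_⟩
    · rw [LinearMap.mem_ker, LinearMap.comp_apply, hu']
      exact hv
    · apply Subtype.ext; apply Subtype.ext
      exact hu'

/-- **The index computation with an infinite dimensional cokernel.** If `g` is injective and `β`
has finite dimensional kernel and cokernel of the same dimension, then the cokernel of `β ∘ g` has
dimension `dim coker g + dim ker (β ∘ g)`. -/
theorem rank_coker_comp (g : U →ₗ[K] V) (β : V →ₗ[K] W) (hg : Function.Injective g)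
    [FiniteDimensional K (LinearMap.ker β)] [FiniteDimensional K (W ⧸ LinearMap.range β)]
    (hind : finrank K (W ⧸ LinearMap.range β) = finrank K (LinearMap.ker β)) :
    Module.rank K (V ⧸ LinearMap.range g) + Module.rank K (LinearMap.ker (β ∘ₗ g)) =
      Module.rank K (W ⧸ LinearMap.range (β ∘ₗ g)) := by
  set P := LinearMap.range g with hP
  set Γ := LinearMap.range (β ∘ₗ g) with hΓ
  set N := LinearMap.ker β with hN
  have hΓP : Γ = P.map β := by rw [hΓ, hP, LinearMap.range_comp]
  have hΓle : Γ ≤ LinearMap.range β := by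
    rw [hΓP]; rintro _ ⟨v, -, rfl⟩; exact ⟨v, rfl⟩
  let φ : V →ₗ[K] W ⧸ Γ := Γ.mkQ ∘ₗ β
  have hPφ : P ≤ LinearMap.ker φ := by
    intro v hv
    rw [LinearMap.mem_ker, LinearMap.comp_apply, Submodule.mkQ_apply,
      Submodule.Quotient.mk_eq_zero, hΓP]
    exact ⟨v, hv, rfl⟩
  let φb : V ⧸ P →ₗ[K] W ⧸ Γ := P.liftQ φ hPφ
  -- the range of `φb`
  have hrange : LinearMap.range φb = (LinearMap.range β).map Γ.mkQ := by
    rw [Submodule.range_liftQ, LinearMap.range_comp]
  -- the kernel of `φb`
  have hkerφ : LinearMap.ker φ = P ⊔ N := by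
    rw [LinearMap.ker_comp, Submodule.ker_mkQ, hΓP, Submodule.comap_map_eq]
  have hker : LinearMap.ker φb = N.map P.mkQ := by
    rw [Submodule.ker_liftQ, hkerφ, Submodule.map_sup]
    have : P.map P.mkQ = ⊥ := by
      rw [eq_bot_iff]; rintro _ ⟨v, hv, rfl⟩
      rw [Submodule.mem_bot, Submodule.mkQ_apply, Submodule.Quotient.mk_eq_zero]; exact hv
    rw [this, bot_sup_eq]
  -- the dimension of the kernel
  let ψ : N →ₗ[K] V ⧸ P := P.mkQ.domRestrict N
  have hψrange : LinearMap.range ψ = N.map P.mkQ := LinearMap.range_domRestrict _ _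
  haveI : FiniteDimensional K (LinearMap.ker (β ∘ₗ g)) :=
    Module.Finite.equiv (kerCompEquiv g β hg).symm
  have hd : finrank K (LinearMap.range ψ) + finrank K (LinearMap.ker (β ∘ₗ g)) = finrank K N := by
    rw [(kerCompEquiv g β hg).finrank_eq]
    exact LinearMap.finrank_range_add_finrank_ker ψ
  -- rank-nullity for `φb`
  have h1 := LinearMap.rank_range_add_rank_ker φb
  have h2 := Submodule.rank_quotient_add_rank (LinearMap.range φb)
  have h3 : Module.rank K ((W ⧸ Γ) ⧸ LinearMap.range φb) = finrank K (W ⧸ LinearMap.range β) := by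
    rw [hrange, (Submodule.quotientQuotientEquivQuotient Γ (LinearMap.range β) hΓle).rank_eq,
      finrank_eq_rank]
  have h4 : Module.rank K (LinearMap.ker φb) = finrank K (LinearMap.range ψ) := by
    rw [hker, ← hψrange, finrank_eq_rank]
  have h5 : Module.rank K (LinearMap.ker (β ∘ₗ g)) = finrank K (LinearMap.ker (β ∘ₗ g)) :=
    (finrank_eq_rank _ _).symm
  rw [h3] at h2
  rw [h4] at h1
  rw [← h1, ← h2, h5, hind, ← hd]
  push_cast
  ring

end linalg

section core

variable (k F L : Type u) [Field k] [Field F] [Field L] [Algebra k F] [Algebra F L] [Algebra k L]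
  [IsScalarTower k F L]

/-- The first map `L ⊗_k Ω_k → L ⊗_F Ω_F`. -/
noncomputable def gmap : L ⊗[k] Ω[k⁄ℤ] →ₗ[L] L ⊗[F] Ω[F⁄ℤ] :=
  alpha k F L ∘ₗ ((iota k F L).symm : L ⊗[k] Ω[k⁄ℤ] →ₗ[L] _)

theorem beta_comp_gmap : mapBaseChange ℤ F L ∘ₗ gmap k F L = mapBaseChange ℤ k L := by
  rw [gmap, ← LinearMap.comp_assoc]
  exact mapBaseChange_comp_alpha k F L

theorem gmap_injective (h : Function.Injective (mapBaseChange ℤ k F)) :
    Function.Injective (gmap k F L) := by
  have h1 : Function.Injective ((mapBaseChange ℤ k F).lTensor L) :=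
    Module.Flat.lTensor_preserves_injective_linearMap _ h
  intro x y hxy
  have h2 : (mapBaseChange ℤ k F).lTensor L ((iota k F L).symm x) =
      (mapBaseChange ℤ k F).lTensor L ((iota k F L).symm y) := hxy
  exact (iota k F L).symm.injective (h1 h2)

theorem range_gmap : LinearMap.range (gmap k F L) = LinearMap.range (alpha k F L) := by
  rw [gmap, LinearMap.range_comp]
  rw [LinearEquiv.range, Submodule.map_top]

/-- The cokernel of the first map is `L ⊗_F Ω_{F/k}`. -/
noncomputable def cokerG :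
    ((L ⊗[F] Ω[F⁄ℤ]) ⧸ LinearMap.range (gmap k F L)) ≃ₗ[L] L ⊗[F] Ω[F⁄k] := by
  let q : L ⊗[F] Ω[F⁄ℤ] →ₗ[L] L ⊗[F] Ω[F⁄k] := (KaehlerDifferential.map ℤ k F F).baseChange L
  have hq : Function.Surjective q := by
    have : Function.Surjective ((KaehlerDifferential.map ℤ k F F).lTensor L) :=
      LinearMap.lTensor_surjective _ (KaehlerDifferential.map_surjective ℤ k F)
    exact this
  have hex : Function.Exact ((mapBaseChange ℤ k F).lTensor L)
      ((KaehlerDifferential.map ℤ k F F).lTensor L) :=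
    lTensor_exact _ (KaehlerDifferential.exact_mapBaseChange_map ℤ k F)
      (KaehlerDifferential.map_surjective ℤ k F)
  have hker : LinearMap.ker q = LinearMap.range (gmap k F L) := by
    rw [range_gmap]
    ext x
    rw [LinearMap.mem_ker, LinearMap.mem_range]
    exact hex x
  exact (Submodule.quotEquivOfEq _ _ hker.symm).trans (q.quotKerEquivOfSurjective hq)

variable [Module.Finite F L]

theorem isFred_beta : IsFred (mapBaseChange ℤ F L) ∧ ind (mapBaseChange ℤ F L) = 0 := by
  obtain ⟨hg, -, he⟩ := Q_of_essFiniteType ℤ F L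
  refine ⟨hg, ?_⟩
  have h1 : idx ℤ F L = (Cardinal.toNat (Algebra.trdeg F L) : ℤ) := he nonDeg_int
  have h2 : Algebra.trdeg F L = 0 := _root_.trdeg_eq_zero
  rw [h2] at h1
  have h3 : ind (mapBaseChange ℤ F L) = idx ℤ F L := rfl
  rw [h3, h1]
  simp

/-- The imperfection module of `L` over `k` is finite dimensional. -/
theorem finite_ker (h : Function.Injective (mapBaseChange ℤ k F)) :
    Module.Finite L (LinearMap.ker (mapBaseChange ℤ k L)) := by
  obtain ⟨hβ, -⟩ := isFred_beta F L
  haveI := hβ.ker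
  have hmap : ∀ ω ∈ LinearMap.ker (mapBaseChange ℤ k L),
      gmap k F L ω ∈ LinearMap.ker (mapBaseChange ℤ F L) := by
    intro ω hω
    rw [LinearMap.mem_ker] at hω ⊢
    have h1 := LinearMap.congr_fun (beta_comp_gmap k F L) ω
    rw [hω] at h1
    exact h1
  haveI : IsNoetherian L (LinearMap.ker (mapBaseChange ℤ F L)) :=
    isNoetherian_of_isNoetherianRing_of_finite L (LinearMap.ker (mapBaseChange ℤ F L))
  refine Module.Finite.of_injective ((gmap k F L).restrict hmap) ?_
  intro x y hxy
  have h1 : gmap k F L x = gmap k F L y := congrArg Subtype.val hxy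
  exact Subtype.ext (gmap_injective k F L h h1)

/-- **The rank formula.** -/
theorem rank_kaehler_eq (h : Function.Injective (mapBaseChange ℤ k F)) :
    Module.rank L (L ⊗[F] Ω[F⁄k]) + Module.rank L (LinearMap.ker (mapBaseChange ℤ k L)) =
      Module.rank L Ω[L⁄k] := by
  obtain ⟨hβ, hind⟩ := isFred_beta F L
  haveI := hβ.ker
  haveI := hβ.coker
  have hind' : finrank L (Ω[L⁄ℤ] ⧸ LinearMap.range (mapBaseChange ℤ F L)) =
      finrank L (LinearMap.ker (mapBaseChange ℤ F L)) := by
    unfold ind at hind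
    omega
  have key := rank_coker_comp (gmap k F L) (mapBaseChange ℤ F L) (gmap_injective k F L h) hind'
  rw [beta_comp_gmap] at key
  rw [(cokerG k F L).rank_eq, (cokerEquiv ℤ k L).rank_eq] at key
  exact key

end core

end Groth.Agent.Helper8.CTF
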