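import Mathlib
import Groth.Agent.Lib.Helper8.PRad4
import Groth.Agent.Lib.Helper8.PSDer5
import Groth.Agent.Lib.Helper8.PSJ11

/-!
# Differentials of the fraction field of a power series ring over a field
-/

set_option autoImplicit false
universe u

namespace Groth.Agent.Helper8.CTF

open KaehlerDifferential TensorProduct Module MvPowerSeries Groth.Agent.Helper8.PSDer
  Groth.Agent.Helper8.PSJ

section general

variable (k F : Type u) [Field k] [Field F] [Algebra k F]

/-- If every derivation of `k` extends to `F` then `F ⊗_k Ω_k → Ω_F` is injective. -/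
theorem injective_mapBaseChange_of_extension
    (H : ∀ δ : Derivation ℤ k k, ∃ δ' : Derivation ℤ F F,
      ∀ a, δ' (algebraMap k F a) = algebraMap k F (δ a)) :
    Function.Injective (mapBaseChange ℤ k F) := by
  classical
  let b := Module.Free.chooseBasis k Ω[k⁄ℤ]
  let bF := b.baseChange F
  rw [injective_iff_map_eq_zero]
  intro ω hω
  apply bF.ext_elem
  intro i
  rw [map_zero, Finsupp.zero_apply]
  let δ : Derivation ℤ k k := (b.coord i).compDer (D ℤ k)
  obtain ⟨δ', hδ'⟩ := H δ
  have hfun : (δ'.liftKaehlerDifferential ∘ₗ mapBaseChange ℤ k F) = bF.coord i := by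
    apply Groth.Agent.Helper8.PRad.linearMap_ext_D
    intro a
    rw [LinearMap.comp_apply, mapBaseChange_tmul, KaehlerDifferential.map_D, one_smul,
      Derivation.liftKaehlerDifferential_comp_D, hδ', Basis.coord_apply,
      Basis.baseChange_repr_tmul, Algebra.smul_def, mul_one]
    rfl
  have h1 := LinearMap.congr_fun hfun ω
  rw [LinearMap.comp_apply, hω, map_zero] at h1
  rw [← Basis.coord_apply, ← h1]

/-- A derivation of `F` over `ℤ` killing `k` is a derivation over `k`. -/
def derOfKillsAlg (δ : Derivation ℤ F F) (h : ∀ c : k, δ (algebraMap k F c) = 0) :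
    Derivation k F F where
  toLinearMap :=
    { toFun := δ
      map_add' := map_add δ
      map_smul' := fun c a => by
        show δ (c • a) = c • δ a
        rw [Algebra.smul_def, Derivation.leibniz, h c, smul_zero, add_zero, smul_eq_mul,
          Algebra.smul_def] }
  map_one_eq_zero' := δ.map_one_eq_zero
  leibniz' := δ.leibniz

@[simp] theorem derOfKillsAlg_apply (δ : Derivation ℤ F F)
    (h : ∀ c : k, δ (algebraMap k F c) = 0) (a : F) : derOfKillsAlg k F δ h a = δ a := rfl

end general

section ps

variable (k : Type u) [Field k] {σ : Type} [Fintype σ] [DecidableEq σ]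
  (F : Type u) [Field F] [Algebra (MvPowerSeries σ k) F] [IsFractionRing (MvPowerSeries σ k) F]
  [Algebra k F] [IsScalarTower k (MvPowerSeries σ k) F]

omit [Fintype σ] [DecidableEq σ] in
theorem coeffDer_C (δ : Derivation ℤ k k) (a : k) :
    coeffDer (σ := σ) δ (C a) = C (δ a) := by
  classical
  ext n
  rw [coeff_coeffDer, coeff_C, coeff_C]
  split_ifs
  · rfl
  · exact map_zero δ

end ps

/-- **The fraction field of a power series ring over `k` is separable over `k`.** -/
theorem injective_mapBaseChange_fraction (k : Type u) [Field k] (σ : Type)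
    (F : Type u) [Field F] [Algebra (MvPowerSeries σ k) F] [IsFractionRing (MvPowerSeries σ k) F]
    [Algebra k F] [IsScalarTower k (MvPowerSeries σ k) F] :
    Function.Injective (mapBaseChange ℤ k F) := by
  apply injective_mapBaseChange_of_extension
  intro δ
  obtain ⟨δ', hδ'⟩ := exists_derivation_extension (S := F)
    (nonZeroDivisors (MvPowerSeries σ k)) (coeffDer (σ := σ) δ)
  refine ⟨δ', fun a => ?_⟩
  rw [IsScalarTower.algebraMap_apply k (MvPowerSeries σ k) F, MvPowerSeries.algebraMap_apply,
    Algebra.algebraMap_self, RingHom.id_apply, hδ', coeffDer_C,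
    IsScalarTower.algebraMap_apply k (MvPowerSeries σ k) F, MvPowerSeries.algebraMap_apply,
    Algebra.algebraMap_self, RingHom.id_apply]

section ps

variable (k : Type u) [Field k] {σ : Type} [Fintype σ] [DecidableEq σ]
  (F : Type u) [Field F] [Algebra (MvPowerSeries σ k) F] [IsFractionRing (MvPowerSeries σ k) F]
  [Algebra k F] [IsScalarTower k (MvPowerSeries σ k) F]

omit [Fintype σ] in
/-- The differentials of the variables are linearly independent. -/
theorem linearIndependent_D_X :
    LinearIndependent F (fun i : σ => D k F (algebraMap (MvPowerSeries σ k) F (X i))) := by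
  classical
  have hext : ∀ i : σ, ∃ ψ : Ω[F⁄k] →ₗ[F] F, ∀ j : σ,
      ψ (D k F (algebraMap (MvPowerSeries σ k) F (X j))) = if j = i then 1 else 0 := by
    intro i
    obtain ⟨δ', hδ'⟩ := exists_derivation_extension (S := F)
      (nonZeroDivisors (MvPowerSeries σ k)) (pd (k := k) i)
    have hkill : ∀ c : k, δ' (algebraMap k F c) = 0 := by
      intro c
      rw [IsScalarTower.algebraMap_apply k (MvPowerSeries σ k) F, hδ', pd_apply,
        Derivation.map_algebraMap, map_zero]
    refine ⟨(derOfKillsAlg k F δ' hkill).liftKaehlerDifferential, fun j => ?_⟩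
    rw [Derivation.liftKaehlerDifferential_comp_D, derOfKillsAlg_apply, hδ', pd_apply,
      pderiv_X]
    by_cases hji : j = i
    · subst hji
      rw [Pi.single_eq_same, if_pos rfl, map_one]
    · rw [Pi.single_eq_of_ne hji, if_neg hji, map_zero]
  choose ψ hψ using hext
  rw [linearIndependent_iff']
  intro s c hc j hj
  have := congrArg (ψ j) hc
  rw [map_sum, map_zero] at this
  simp only [map_smul, hψ, smul_eq_mul] at this
  rw [Finset.sum_eq_single j] at this
  · simpa using this
  · intro i _ hij
    rw [if_neg hij, mul_zero]
  · intro h; exact absurd hj h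

variable (p : ℕ) [hp : Fact p.Prime] [CharP k p]

/-- When `k` is finite over `k^p`, the differentials of the variables span `Ω_{F/k}`. -/
theorem span_D_X [Module.Finite (frobenius k p).fieldRange k] :
    Submodule.span F (Set.range fun i : σ => D k F (algebraMap (MvPowerSeries σ k) F (X i))) =
      ⊤ := by
  classical
  set N := Submodule.span F
    (Set.range fun i : σ => D k F (algebraMap (MvPowerSeries σ k) F (X i))) with hN
  have htop := adjoin_psSub_eq_top (σ := σ) p (frobenius k p).fieldRange (fun c : k => c)
    (by rw [show (Set.range fun c : k => c) = Set.univ from Set.range_id, Algebra.adjoin_univ])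
  have h1 : ∀ a : MvPowerSeries σ k, D k F (algebraMap (MvPowerSeries σ k) F a) ∈ N := by
    intro a
    have ha : a ∈ Algebra.adjoin (psSub (σ := σ) p (frobenius k p).fieldRange)
        (Set.range (fun c : k => (C c : MvPowerSeries σ k)) ∪
          Set.range (fun i : σ => (MvPowerSeries.X i : MvPowerSeries σ k))) := by
      rw [htop]; trivial
    induction ha using Algebra.adjoin_induction with
    | mem x hx =>
      rcases hx with ⟨c, rfl⟩ | ⟨i, rfl⟩
      · have h0 : algebraMap (MvPowerSeries σ k) F (C c) = algebraMap k F c := by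
          rw [IsScalarTower.algebraMap_apply k (MvPowerSeries σ k) F,
            MvPowerSeries.algebraMap_apply, Algebra.algebraMap_self, RingHom.id_apply]
        show D k F (algebraMap (MvPowerSeries σ k) F (C c)) ∈ N
        rw [h0, Derivation.map_algebraMap]
        exact zero_mem N
      · exact Submodule.subset_span ⟨i, rfl⟩
    | algebraMap r =>
      obtain ⟨g, hg⟩ := exists_pow_eq_of_mem_psSub p (r : MvPowerSeries σ k) r.2
      show D k F (algebraMap (MvPowerSeries σ k) F (r : MvPowerSeries σ k)) ∈ N
      rw [← hg, map_pow, Derivation.leibniz_pow]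
      have hp0 : (p : F) = 0 := by
        haveI : CharP F p := charP_of_injective_algebraMap (algebraMap k F).injective p
        exact CharP.cast_eq_zero F p
      rw [← Nat.cast_smul_eq_nsmul F, hp0, zero_smul]
      exact zero_mem N
    | add x y _ _ hx hy => rw [map_add, map_add]; exact add_mem hx hy
    | mul x y _ _ hx hy =>
      rw [map_mul, Derivation.leibniz]
      exact add_mem (Submodule.smul_mem _ _ hy) (Submodule.smul_mem _ _ hx)
  rw [eq_top_iff, ← KaehlerDifferential.span_range_derivation k F, Submodule.span_le]
  rintro _ ⟨x, rfl⟩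
  obtain ⟨a, b, hb, rfl⟩ := IsFractionRing.div_surjective (A := MvPowerSeries σ k) x
  rw [div_eq_mul_inv, Derivation.leibniz, Derivation.leibniz_inv]
  exact add_mem (Submodule.smul_mem _ _ (Submodule.smul_mem _ _ (h1 b)))
    (Submodule.smul_mem _ _ (h1 a))

end ps

end Groth.Agent.Helper8.CTF
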