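import Mathlib
import Groth.Agent.Lib.Helper8.CTF1
import Groth.Agent.Lib.Helper8.CTF2
import Groth.Agent.Lib.Helper8.EK6

/-!
# Differentials of the fraction field of a complete local domain over a field of
characteristic `p`
-/

set_option autoImplicit false
universe u

namespace Groth.Agent.Helper8.CTF

open KaehlerDifferential TensorProduct Module MvPowerSeries IsLocalRing

section param

variable (k C : Type u) [Field k] [CommRing C] [IsNoetherianRing C] [IsLocalRing C]
  [Algebra k C] [IsAdicComplete (maximalIdeal C) C] [Module.Finite k (ResidueField C)]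

/-- A complete local algebra of dimension `n` with finite residue field extension is finite and
faithful over a power series ring in `n` variables. -/
theorem exists_finite_injective_powerSeries (n : ℕ) (hn : ringKrullDim C = n) :
    ∃ (_ : Algebra (MvPowerSeries (Fin n) k) C) (_ : IsScalarTower k (MvPowerSeries (Fin n) k) C),
      Module.Finite (MvPowerSeries (Fin n) k) C ∧
        Function.Injective (algebraMap (MvPowerSeries (Fin n) k) C) := by
  obtain ⟨m, x, hx, hprim, hm⟩ := Groth.Agent.Helper8.FinPS.exists_sop (R := C)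
  have hdim : ringKrullDim C ≤ m :=
    Groth.Agent.Helper8.EK.ringKrullDim_le_of_mem_minimalPrimes x hprim
  have hmn : m = n := by
    rw [hn] at hm hdim
    have h1 : m ≤ n := by exact_mod_cast hm
    have h2 : n ≤ m := by exact_mod_cast hdim
    omega
  subst hmn
  obtain ⟨alg, tower, -, hfin, -⟩ :=
    Groth.Agent.Helper8.EK.exists_algebra_powerSeries k C m x hx hprim
  refine ⟨alg, tower, hfin, ?_⟩
  haveI : IsDomain (MvPowerSeries (Fin m) k) := NoZeroDivisors.to_isDomain _
  exact Groth.Agent.Helper8.FinPS.injective_of_finite_of_dim (MvPowerSeries (Fin m) k) C m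
    (le_of_eq (Groth.Agent.Helper8.ringKrullDim_mvPowerSeries_fin k m)) hm

end param

section main

variable (p : ℕ) [hp : Fact p.Prime] (k C L : Type u) [Field k] [CharP k p] [CommRing C]
  [IsDomain C] [IsNoetherianRing C] [IsLocalRing C] [Algebra k C]
  [IsAdicComplete (maximalIdeal C) C] [Module.Finite k (ResidueField C)]
  [Field L] [Algebra C L] [IsFractionRing C L] [Algebra k L] [IsScalarTower k C L]

/-- The common setup: a subfield `F ⊆ L`, the fraction field of a power series ring. -/
theorem exists_setup (n : ℕ) (hn : ringKrullDim C = n) :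
    ∃ (F : Type u) (_ : Field F) (_ : Algebra k F) (_ : Algebra F L) (_ : IsScalarTower k F L)
      (_ : Algebra (MvPowerSeries (Fin n) k) F) (_ : IsFractionRing (MvPowerSeries (Fin n) k) F)
      (_ : IsScalarTower k (MvPowerSeries (Fin n) k) F), Module.Finite F L := by
  obtain ⟨alg, tower, hfin, hinj⟩ := exists_finite_injective_powerSeries k C n hn
  haveI : IsDomain (MvPowerSeries (Fin n) k) := NoZeroDivisors.to_isDomain _
  letI algL : Algebra (MvPowerSeries (Fin n) k) L :=
    ((algebraMap C L).comp (algebraMap (MvPowerSeries (Fin n) k) C)).toAlgebra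
  haveI t1 : IsScalarTower (MvPowerSeries (Fin n) k) C L := IsScalarTower.of_algebraMap_eq fun _ => rfl
  have hinjL : Function.Injective (algebraMap (MvPowerSeries (Fin n) k) L) :=
    (IsFractionRing.injective C L).comp hinj
  haveI f1 : FaithfulSMul (MvPowerSeries (Fin n) k) L :=
    (faithfulSMul_iff_algebraMap_injective _ _).mpr hinjL
  haveI f2 : FaithfulSMul (MvPowerSeries (Fin n) k) C :=
    (faithfulSMul_iff_algebraMap_injective _ _).mpr hinj
  letI algF : Algebra (FractionRing (MvPowerSeries (Fin n) k)) L :=
    FractionRing.liftAlgebra (MvPowerSeries (Fin n) k) L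
  haveI t2 : IsScalarTower (MvPowerSeries (Fin n) k) (FractionRing (MvPowerSeries (Fin n) k)) L :=
    FractionRing.isScalarTower_liftAlgebra (MvPowerSeries (Fin n) k) L
  haveI t3 : IsScalarTower k (FractionRing (MvPowerSeries (Fin n) k)) L := by
    refine IsScalarTower.of_algebraMap_eq fun c => ?_
    rw [IsScalarTower.algebraMap_apply k (MvPowerSeries (Fin n) k)
      (FractionRing (MvPowerSeries (Fin n) k)),
      ← IsScalarTower.algebraMap_apply (MvPowerSeries (Fin n) k)
        (FractionRing (MvPowerSeries (Fin n) k)) L,
      IsScalarTower.algebraMap_apply (MvPowerSeries (Fin n) k) C L,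
      ← IsScalarTower.algebraMap_apply k (MvPowerSeries (Fin n) k) C,
      ← IsScalarTower.algebraMap_apply k C L]
  haveI : Algebra.IsIntegral (MvPowerSeries (Fin n) k) C := Algebra.IsIntegral.of_finite _ _
  haveI : Algebra.IsAlgebraic (MvPowerSeries (Fin n) k) C := Algebra.IsIntegral.isAlgebraic
  haveI : Module.Finite (FractionRing (MvPowerSeries (Fin n) k)) L :=
    Module.Finite.of_isLocalization (MvPowerSeries (Fin n) k) C
      (nonZeroDivisors (MvPowerSeries (Fin n) k))
  exact ⟨FractionRing (MvPowerSeries (Fin n) k), inferInstance, inferInstance, algF, t3,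
    inferInstance, inferInstance, inferInstance, inferInstance⟩

/-- **S5988.** -/
theorem finite_ker_and_rank_ge (n : ℕ) (hn : ringKrullDim C = n) :
    Module.Finite L (LinearMap.ker (KaehlerDifferential.mapBaseChange ℤ k L)) ∧
      (n : Cardinal.{u}) + Module.rank L (LinearMap.ker (KaehlerDifferential.mapBaseChange ℤ k L)) ≤
        Module.rank L (Ω[L⁄k]) := by
  classical
  obtain ⟨F, _, _, _, _, _, _, _, hfin⟩ := exists_setup k C L n hn
  have hinj := injective_mapBaseChange_fraction k (Fin n) F
  refine ⟨finite_ker k F L hinj, ?_⟩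
  rw [← rank_kaehler_eq k F L hinj]
  gcongr
  rw [Module.rank_baseChange, Cardinal.lift_id]
  have h := (linearIndependent_D_X k (σ := Fin n) F).cardinal_lift_le_rank
  simpa using h

omit hp in
theorem finite_fieldRange_of_finite [ExpChar k p]
    (hk : (frobenius k p).Finite) : Module.Finite (frobenius k p).fieldRange k := by
  have h1 : @Module.Finite k k _ _ (frobenius k p).toAlgebra.toModule := hk
  obtain ⟨S, hS⟩ := @Module.Finite.fg_top k k _ _ (frobenius k p).toAlgebra.toModule h1
  refine ⟨⟨S, ?_⟩⟩
  rw [eq_top_iff]
  intro x _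
  have hx : x ∈ @Submodule.span k k _ _ (frobenius k p).toAlgebra.toModule (S : Set k) := by
    rw [hS]; trivial
  refine @Submodule.span_induction k k _ _ (frobenius k p).toAlgebra.toModule (S : Set k)
    (fun y _ => y ∈ Submodule.span (frobenius k p).fieldRange (S : Set k)) ?_ ?_ ?_ ?_ x hx
  · intro y hy
    exact Submodule.subset_span hy
  · exact Submodule.zero_mem _
  · intro y z _ _ hy hz
    exact Submodule.add_mem _ hy hz
  · intro c y _ hy
    exact Submodule.smul_mem _ (⟨frobenius k p c, ⟨c, rfl⟩⟩ : (frobenius k p).fieldRange) hy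

/-- **S5989**, the rank formula. -/
theorem finrank_kaehler_eq (hk : (frobenius k p).Finite) (n : ℕ) (hn : ringKrullDim C = n) :
    Module.finrank L (Ω[L⁄k]) =
      n + Module.finrank L (LinearMap.ker (KaehlerDifferential.mapBaseChange ℤ k L)) := by
  classical
  haveI : ExpChar k p := ExpChar.prime hp.out
  haveI := finite_fieldRange_of_finite p k hk
  obtain ⟨F, _, _, _, _, _, _, _, hfin⟩ := exists_setup k C L n hn
  have hinj := injective_mapBaseChange_fraction k (Fin n) F
  haveI := finite_ker k F L hinj
  have hkey := rank_kaehler_eq k F L hinj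
  have hli := linearIndependent_D_X k (σ := Fin n) F
  have hspan := span_D_X k (σ := Fin n) F p
  let b : Basis (Fin n) F Ω[F⁄k] := Basis.mk hli (le_of_eq hspan.symm)
  have h1 : Module.rank F Ω[F⁄k] = n := by
    rw [rank_eq_card_basis b, Fintype.card_fin]
  rw [Module.rank_baseChange, Cardinal.lift_id, h1,
    ← finrank_eq_rank L (LinearMap.ker (KaehlerDifferential.mapBaseChange ℤ k L))] at hkey
  have h2 : Module.rank L Ω[L⁄k] = ((n + Module.finrank L
      (LinearMap.ker (KaehlerDifferential.mapBaseChange ℤ k L)) : ℕ) : Cardinal) := by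
    rw [← hkey]; push_cast; rfl
  exact Module.finrank_eq_of_rank_eq h2

/-- **S5989**, finiteness of the module of differentials. -/
theorem finite_kaehler (hk : (frobenius k p).Finite) (n : ℕ) (hn : ringKrullDim C = n) :
    Module.Finite C (Ω[C⁄k]) := by
  classical
  haveI : ExpChar k p := ExpChar.prime hp.out
  haveI := finite_fieldRange_of_finite p k hk
  obtain ⟨alg, tower, hfin, hinj⟩ := exists_finite_injective_powerSeries k C n hn
  obtain ⟨S, hS⟩ := hfin.fg_top
  let G : Finset Ω[C⁄k] := S.image (D k C) ∪
    (Finset.univ : Finset (Fin n)).image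
      (fun i => D k C (algebraMap (MvPowerSeries (Fin n) k) C (X i)))
  refine ⟨⟨G, ?_⟩⟩
  set N := Submodule.span C (G : Set Ω[C⁄k]) with hN
  have htop := Groth.Agent.Helper8.PSJ.adjoin_psSub_eq_top (σ := Fin n) p
    (frobenius k p).fieldRange (fun c : k => c)
    (by rw [show (Set.range fun c : k => c) = Set.univ from Set.range_id, Algebra.adjoin_univ])
  have hp0 : (p : C) = 0 := by
    haveI : Nontrivial C := inferInstance
    haveI : CharP C p := charP_of_injective_algebraMap (algebraMap k C).injective p
    exact CharP.cast_eq_zero C p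
  have h1 : ∀ a : MvPowerSeries (Fin n) k, D k C (algebraMap (MvPowerSeries (Fin n) k) C a) ∈ N := by
    intro a
    have ha : a ∈ Algebra.adjoin (Groth.Agent.Helper8.PSJ.psSub (σ := Fin n) p
        (frobenius k p).fieldRange)
        (Set.range (fun c : k => (MvPowerSeries.C c : MvPowerSeries (Fin n) k)) ∪
          Set.range (fun i : Fin n => (MvPowerSeries.X i : MvPowerSeries (Fin n) k))) := by
      rw [htop]; trivial
    induction ha using Algebra.adjoin_induction with
    | mem x hx =>
      rcases hx with ⟨c, rfl⟩ | ⟨i, rfl⟩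
      · have h0 : algebraMap (MvPowerSeries (Fin n) k) C (MvPowerSeries.C c) = algebraMap k C c := by
          rw [IsScalarTower.algebraMap_apply k (MvPowerSeries (Fin n) k) C,
            MvPowerSeries.algebraMap_apply, Algebra.algebraMap_self, RingHom.id_apply]
        show D k C (algebraMap (MvPowerSeries (Fin n) k) C (MvPowerSeries.C c)) ∈ N
        rw [h0, Derivation.map_algebraMap]
        exact zero_mem N
      · refine Submodule.subset_span ?_
        rw [Finset.coe_union]
        exact Or.inr (Finset.mem_coe.mpr (Finset.mem_image.mpr ⟨i, Finset.mem_univ _, rfl⟩))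
    | algebraMap r =>
      obtain ⟨g, hg⟩ := Groth.Agent.Helper8.PSJ.exists_pow_eq_of_mem_psSub p
        (r : MvPowerSeries (Fin n) k) r.2
      show D k C (algebraMap (MvPowerSeries (Fin n) k) C (r : MvPowerSeries (Fin n) k)) ∈ N
      rw [← hg, map_pow, Derivation.leibniz_pow, ← Nat.cast_smul_eq_nsmul C, hp0, zero_smul]
      exact zero_mem N
    | add x y _ _ hx hy => rw [map_add, map_add]; exact add_mem hx hy
    | mul x y _ _ hx hy =>
      rw [map_mul, Derivation.leibniz]
      exact add_mem (Submodule.smul_mem _ _ hy) (Submodule.smul_mem _ _ hx)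
  rw [eq_top_iff, ← KaehlerDifferential.span_range_derivation k C, Submodule.span_le]
  rintro _ ⟨x, rfl⟩
  have hx : x ∈ Submodule.span (MvPowerSeries (Fin n) k) (S : Set C) := by rw [hS]; trivial
  induction hx using Submodule.span_induction with
  | mem y hy =>
    refine Submodule.subset_span ?_
    rw [Finset.coe_union]
    exact Or.inl (Finset.mem_coe.mpr (Finset.mem_image.mpr ⟨y, hy, rfl⟩))
  | zero => rw [map_zero]; exact zero_mem N
  | add y z _ _ hy hz => rw [map_add]; exact add_mem hy hz
  | smul r y _ hy =>
    rw [Algebra.smul_def, Derivation.leibniz]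
    exact add_mem (Submodule.smul_mem _ _ hy) (Submodule.smul_mem _ _ (h1 r))

end main

end Groth.Agent.Helper8.CTF
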