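import Groth.Agent.Lib.Helper8.LC40

set_option autoImplicit false
universe u
open CategoryTheory CategoryTheory.Limits Opposite

namespace Groth.Agent.Helper8.LC

open Abelian localCohomology LocCoh

variable {R : Type u} [CommRing R]

/-- local cohomology of isomorphic modules. -/
noncomputable def Hcongr (J : Ideal R) (k : ℕ) {M M' : Type u} [AddCommGroup M] [Module R M]
    [AddCommGroup M'] [Module R M'] (e : M ≃ₗ[R] M') : H J k M ≃ₗ[R] H J k M' :=
  ((localCohomology J k).mapIso e.toModuleIso).toLinearEquiv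

/-- kernels of maps intertwined by isomorphisms are isomorphic. -/
noncomputable def kerEquivOfComm {X Y X' Y' : Type u} [AddCommGroup X] [Module R X]
    [AddCommGroup Y] [Module R Y] [AddCommGroup X'] [Module R X'] [AddCommGroup Y'] [Module R Y']
    (f : X →ₗ[R] Y) (f' : X' →ₗ[R] Y') (e₁ : X ≃ₗ[R] X') (e₂ : Y ≃ₗ[R] Y')
    (h : ∀ x, f' (e₁ x) = e₂ (f x)) : LinearMap.ker f ≃ₗ[R] LinearMap.ker f' :=
  LinearEquiv.ofSubmodules e₁ (LinearMap.ker f) (LinearMap.ker f') (by
    ext y
    rw [Submodule.mem_map, LinearMap.mem_ker]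
    constructor
    · rintro ⟨x, hx, rfl⟩
      rw [LinearMap.mem_ker] at hx
      change f' (e₁ x) = 0
      rw [h, hx, map_zero]
    · intro hy
      refine ⟨e₁.symm y, ?_, e₁.apply_symm_apply y⟩
      rw [LinearMap.mem_ker]
      apply e₂.injective
      rw [← h, e₁.apply_symm_apply, hy, map_zero])

lemma torsionSub_sup_eq' (a B : Ideal R) {X : Type u} [AddCommGroup X] [Module R X]
    (hX : IsPowerTorsion a X) : DRing.torsionSub (a ⊔ B) X = DRing.torsionSub B X := by
  rw [sup_comm]
  exact torsionSub_sup_eq B a hX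

variable [IsNoetherianRing R]

lemma subsingleton_H_of_ext (J : Ideal R) (i : ℕ) (E : ModuleCat.{u} R)
    (hE : ∀ F : ModuleCat.{u} R, Subsingleton (Abelian.Ext F E i)) :
    Subsingleton ((localCohomology J i).obj E) := by
  apply subsingleton_of_forall_eq_zero
  intro z
  obtain ⟨n, e, rfl⟩ := ι_rep J i E z
  rw [(hE (Q J n)).elim e 0, map_zero]

/-- (α) the comparison map in degree one is injective on torsion-free modules. -/
lemma θ_injective_one_of_torsionSub_eq_bot {I I' : Ideal R} (h : I ≤ I') (N : Type u)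
    [AddCommGroup N] [Module R N] (hN : DRing.torsionSub I N = ⊥) :
    Function.Injective (θ h 1 (ModuleCat.of R N)) := by
  obtain ⟨E, _, _, f, hf, hE0, hEH, hEE⟩ := exists_good_embedding I N hN
  have hS := sesQuot_shortExact f hf
  rw [injective_iff_map_eq_zero]
  intro x hx
  have h1 : ((localCohomology I' (0 + 1)).map (sesQuot f).f) x = 0 :=
    (subsingleton_H_of_ext I' 1 (ModuleCat.of R E)
      (fun F => hEE F 1 Nat.one_pos)).elim _ _
  obtain ⟨q, rfl⟩ := (exact_δ_f I' 0 hS x).mp h1
  have h2 : δ I 0 hS (θ h 0 _ q) = 0 := by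
    rw [← θ_δ h 0 hS q]; exact hx
  obtain ⟨e, he⟩ := (exact_g_δ I 0 hS _).mp h2
  have he0 : e = 0 := (subsingleton_h0_of_torsionSub_eq_bot I E hE0).elim _ _
  rw [he0, map_zero] at he
  have hq : q = 0 := by
    apply θ_injective_zero h
    rw [← he, map_zero]
  rw [hq, map_zero]

/-- the comparison map in degree zero is bijective on torsion modules. -/
lemma θ_bijective_zero_of_isPowerTorsion (a B : Ideal R) (X : Type u) [AddCommGroup X]
    [Module R X] (hX : IsPowerTorsion a X) :
    Function.Bijective (θ (le_sup_right : B ≤ a ⊔ B) 0 (ModuleCat.of R X)) := by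
  refine ⟨θ_injective_zero _ _, ?_⟩
  intro y
  have hm : ev0 B (ModuleCat.of R X) y ∈ DRing.torsionSub (a ⊔ B) X := by
    rw [torsionSub_sup_eq' a B hX]
    exact ev0_mem B _ y
  obtain ⟨z, hz⟩ := exists_ev0_eq (a ⊔ B) (ModuleCat.of R X) _ hm
  refine ⟨z, ?_⟩
  apply ev0_injective B
  rw [ev0_θ, hz]

/-- (β) the comparison map in degree one is bijective on torsion modules. -/
lemma θ_bijective_one_of_isPowerTorsion (a B : Ideal R) (T : Type u) [AddCommGroup T]
    [Module R T] (hT : IsPowerTorsion a T) :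
    Function.Bijective (θ (le_sup_right : B ≤ a ⊔ B) 1 (ModuleCat.of R T)) := by
  obtain ⟨E, _, _, _, f, hf, hE⟩ := exists_torsion_embedding a T hT
  have hS := sesQuot_shortExact f hf
  haveI : Injective (ModuleCat.of R E) := Module.injective_object_of_injective_module R E
  have hQ : IsPowerTorsion a (E ⧸ LinearMap.range f) := isPowerTorsion_quotient a _ hE
  have hE0 := θ_bijective_zero_of_isPowerTorsion a B E hE
  have hQ0 := θ_bijective_zero_of_isPowerTorsion a B _ hQ
  have hle : B ≤ a ⊔ B := le_sup_right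
  constructor
  · rw [injective_iff_map_eq_zero]
    intro x hx
    have h1 : ((localCohomology (a ⊔ B) (0 + 1)).map (sesQuot f).f) x = 0 :=
      (subsingleton_of_injective (a ⊔ B) 1 (ModuleCat.of R E) Nat.one_pos).elim _ _
    obtain ⟨q, rfl⟩ := (exact_δ_f (a ⊔ B) 0 hS x).mp h1
    have h2 : δ B 0 hS (θ hle 0 _ q) = 0 := by
      rw [← θ_δ hle 0 hS q]; exact hx
    obtain ⟨e, he⟩ := (exact_g_δ B 0 hS _).mp h2
    obtain ⟨e', rfl⟩ := hE0.2 e
    have h3 : ((localCohomology (a ⊔ B) 0).map (sesQuot f).g) e' = q := by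
      apply hQ0.1
      rw [← he]
      exact θ_map hle 0 (sesQuot f).g e'
    rw [← h3]
    exact (exact_g_δ (a ⊔ B) 0 hS _).mpr ⟨e', rfl⟩
  · intro y
    have h1 : ((localCohomology B (0 + 1)).map (sesQuot f).f) y = 0 :=
      (subsingleton_of_injective B 1 (ModuleCat.of R E) Nat.one_pos).elim _ _
    obtain ⟨q, rfl⟩ := (exact_δ_f B 0 hS y).mp h1
    obtain ⟨q', rfl⟩ := hQ0.2 q
    exact ⟨δ (a ⊔ B) 0 hS q', θ_δ hle 0 hS q'⟩

/-- a quotient of an injective module has no `H^1_B` when `cd B ≤ 1`. -/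
lemma subsingleton_H_one_of_surjective_of_injective (B : Ideal R) (hB : CdLE R B 1)
    {E K : Type u} [AddCommGroup E] [Module R E] [Module.Injective R E] [AddCommGroup K]
    [Module R K] (p : E →ₗ[R] K) (hp : Function.Surjective p) : Subsingleton (H B 1 K) := by
  haveI : Injective (ModuleCat.of R E) := Module.injective_object_of_injective_module R E
  exact subsingleton_of_surjective B 1 (fun N _ _ => hB N 2 (by omega)) p hp
    (subsingleton_of_injective B 1 (ModuleCat.of R E) Nat.one_pos)

/-- (RE) right exactness of `H^1_B` when `cd B ≤ 1`. -/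
lemma nonempty_H_one_equiv_of_surjective (B : Ideal R) (hB : CdLE R B 1)
    {X Y : Type u} [AddCommGroup X] [Module R X] [AddCommGroup Y] [Module R Y]
    (π : X →ₗ[R] Y) (hπ : Function.Surjective π)
    (hK : Subsingleton (H B 1 (LinearMap.ker π))) : Nonempty (H B 1 X ≃ₗ[R] H B 1 Y) := by
  have hS := LinearMap.shortExact_shortComplexKer hπ
  have hbij : Function.Bijective ((localCohomology B 1).map (ModuleCat.ofHom π)).hom := by
    constructor
    · rw [injective_iff_map_eq_zero]
      intro x hx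
      obtain ⟨w, rfl⟩ := (exact_f_g B 1 hS x).mp hx
      have : w = 0 := hK.elim _ _
      rw [this, map_zero]
    · intro y
      have h1 : δ B 1 hS y = 0 := (hB _ 2 (by omega)).elim _ _
      exact (exact_g_δ B 1 hS y).mp h1
  exact ⟨LinearEquiv.ofBijective _ hbij⟩

end Groth.Agent.Helper8.LC
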