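import Groth.Agent.Lib.Helper8.NV8

set_option autoImplicit false
universe u
open CategoryTheory CategoryTheory.Limits Opposite

namespace Groth.Agent.Helper8.NV

open LocCoh Groth.Agent.Helper8.LC Abelian IsLocalRing

/-- transfer of divisibility along a semilinear additive equivalence. -/
lemma smul_top_eq_top_of_semilinear {R R' : Type*} [CommRing R] [CommRing R'] [Algebra R R']
    (hsurj : Function.Surjective (algebraMap R R')) (I : Ideal R)
    {X Y : Type*} [AddCommGroup X] [Module R' X] [AddCommGroup Y] [Module R Y]
    (φ : X ≃+ Y) (hφ : ∀ (r : R) (x : X), φ (algebraMap R R' r • x) = r • φ x)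
    (h : (I.map (algebraMap R R')) • (⊤ : Submodule R' X) = ⊤) :
    I • (⊤ : Submodule R Y) = ⊤ := by
  rw [eq_top_iff]
  intro y _
  obtain ⟨x, rfl⟩ := φ.surjective y
  have hx : x ∈ (I.map (algebraMap R R')) • (⊤ : Submodule R' X) := by rw [h]; trivial
  refine Submodule.smul_induction_on hx ?_ ?_
  · intro r' hr' z _
    obtain ⟨r, hr, rfl⟩ := (Ideal.mem_map_iff_of_surjective _ hsurj).mp hr'
    rw [hφ]
    exact Submodule.smul_mem_smul hr trivial
  · intro a b ha hb
    rw [map_add]
    exact Submodule.add_mem _ ha hb

section Local

variable {R : Type u} [CommRing R] [IsNoetherianRing R] [IsLocalRing R]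

/-- the top local cohomology module of a finite module of positive dimension is divisible by
the maximal ideal. -/
theorem maximalIdeal_smul_top_H_supportDim (M : Type u) [AddCommGroup M] [Module R M]
    [Module.Finite R M] (n : ℕ) (hn0 : 0 < n) (hn : Module.supportDim R M = n) :
    maximalIdeal R • (⊤ : Submodule R (H (maximalIdeal R) n M)) = ⊤ := by
  let m := maximalIdeal R
  let R' := R ⧸ Module.annihilator R M
  letI : Module R' M := Module.quotientAnnihilator
  haveI : IsScalarTower R R' M := IsScalarTower.of_algebraMap_smul (fun r x => rfl)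
  have hdim : ringKrullDim R' = (n : WithBot ℕ∞) := by
    rw [← hn, Module.supportDim_eq_ringKrullDim_quotient_annihilator]
  have hcd : CdLE R' (m.map (algebraMap R R')) n := cdLE_of_ringKrullDim_le _ n hdim.le
  have htop' := smul_top_eq_top_of_cdLE (I := m.map (algebraMap R R')) n hn0 hcd M
  obtain ⟨φ, hφ⟩ := exists_semilinear_equiv (R := R) (R' := R') m n M
  exact smul_top_eq_top_of_semilinear Ideal.Quotient.mk_surjective m φ hφ htop'

/-- the top local cohomology module of a finite module of positive dimension is not finitely
generated. -/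
theorem not_finite_H_supportDim (M : Type u) [AddCommGroup M] [Module R M]
    [Module.Finite R M] (n : ℕ) (hn0 : 0 < n) (hn : Module.supportDim R M = n) :
    ¬ Module.Finite R (H (maximalIdeal R) n M) := by
  intro hfin
  haveI : Nontrivial M := (Module.supportDim_ne_bot_iff_nontrivial R M).mp (by
    rw [hn]; exact WithBot.coe_ne_bot)
  haveI hnt := nontrivial_H_supportDim M n hn
  have htop := maximalIdeal_smul_top_H_supportDim M n hn0 hn
  have h1 := Submodule.eq_bot_of_le_smul_of_le_jacobson_bot (maximalIdeal R)
    (⊤ : Submodule R (H (maximalIdeal R) n M)) Module.Finite.fg_top htop.ge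
    (maximalIdeal_le_jacobson _)
  exact top_ne_bot h1

end Local

end Groth.Agent.Helper8.NV
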