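import Groth.Agent.Lib.Helper8.FD3
import Groth.Agent.Lib.Helper8.NV9

/-!
# The first local cohomology of a one-dimensional local domain is divisible
-/

set_option autoImplicit false
universe u
open CategoryTheory CategoryTheory.Limits Opposite

namespace Groth.Agent.Helper8.FD

open Abelian localCohomology LocCoh IsLocalRing Groth.Agent.Helper8.LC Groth.Agent.Helper8.NV

section Gen

variable {A : Type u} [CommRing A]

/-- multiplication by a regular element is surjective on `H^{d}` when `H^d` of the quotient
vanishes. -/
lemma smul_surjective_H_of_regular (I : Ideal A) (d : ℕ) (M : ModuleCat.{u} A) (x : A)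
    (hreg : IsSMulRegular M x)
    (h : Subsingleton ((localCohomology I d).obj (ModuleCat.of A (QuotSMulTop x M))))
    (y : (localCohomology I d).obj M) : ∃ z : (localCohomology I d).obj M, x • z = y := by
  have hS := hreg.smulShortComplex_shortExact
  have h1 : ((localCohomology I d).map (ModuleCat.smulShortComplex M x).g) y = 0 :=
    h.elim _ _
  obtain ⟨z, hz⟩ := (exact_f_g I d hS y).mp h1
  refine ⟨z, ?_⟩
  rw [← hz]
  exact (map_smul_id I d M x z).symm

lemma pow_smul_top_eq_top {X : Type*} [AddCommGroup X] [Module A X] (I : Ideal A)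
    (h : I • (⊤ : Submodule A X) = ⊤) (j : ℕ) : I ^ j • (⊤ : Submodule A X) = ⊤ := by
  induction j with
  | zero => rw [pow_zero, Ideal.one_eq_top, Submodule.top_smul]
  | succ j ih => rw [pow_succ, Submodule.mul_smul, h, ih]

end Gen

section Dom

variable {A : Type u} [CommRing A] [IsNoetherianRing A] [IsLocalRing A] [IsDomain A]

/-- in a one-dimensional Noetherian local domain, the first local cohomology with respect to a
primary ideal of the maximal ideal is not killed by `I^j s` for a nonzero `s`. -/
theorem not_forall_mul_smul_eq_zero (hdim : ringKrullDim A = 1) (I : Ideal A)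
    (hI : I.radical = maximalIdeal A) (s : A) (hs : s ≠ 0) (j : ℕ)
    (hkill : ∀ c ∈ I ^ j, ∀ h : H I 1 A, (c * s) • h = 0) : False := by
  have hdim' : ringKrullDim A = ((1 : ℕ) : WithBot ℕ∞) := by rw [hdim]; rfl
  have hnt0 : Nontrivial (H (maximalIdeal A) 1 A) := nontrivial_H_dim 1 hdim'
  have hrad : I.radical = (maximalIdeal A).radical := by
    rw [hI]
    exact (Ideal.IsPrime.radical (Ideal.IsMaximal.isPrime' _)).symm
  let e := (localCohomology.isoOfSameRadical hrad 1).app (ModuleCat.of A A)
  haveI hnt : Nontrivial (H I 1 A) := e.toLinearEquiv.toEquiv.nontrivial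
  have hcd : CdLE A I 1 := cdLE_of_ringKrullDim_le I 1 hdim'.le
  have htop := smul_top_eq_top_of_cdLE I 1 Nat.one_pos hcd A
  have htopj := pow_smul_top_eq_top I htop j
  -- `s` kills `H`
  have hs0 : ∀ h : H I 1 A, s • h = 0 := by
    intro h
    have hh : h ∈ I ^ j • (⊤ : Submodule A (H I 1 A)) := by rw [htopj]; trivial
    refine Submodule.smul_induction_on hh ?_ ?_
    · intro c hc z _
      rw [smul_smul, mul_comm]
      exact hkill c hc z
    · intro x y hx hy
      rw [smul_add, hx, hy, add_zero]
  -- but `s` acts surjectively
  have hreg : IsSMulRegular (ModuleCat.of A A) s := by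
    intro x y hxy
    exact mul_left_cancel₀ hs hxy
  have hquot : Subsingleton ((localCohomology I 1).obj
      (ModuleCat.of A (QuotSMulTop s (ModuleCat.of A A)))) := by
    apply subsingleton_of_supportDim_lt I
    have hmin : ∀ p ∈ (Module.annihilator A A).minimalPrimes, s ∉ p := by
      intro p hp hsp
      have hann : Module.annihilator A A = ⊥ := by
        rw [eq_bot_iff]
        intro r hr
        have := Module.mem_annihilator.mp hr (1 : A)
        rw [smul_eq_mul, mul_one] at this
        rw [this]
        exact Ideal.zero_mem _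
      rw [hann] at hp
      have hp' : p ∈ minimalPrimes A := hp
      rw [IsDomain.minimalPrimes_eq_singleton_bot, Set.mem_singleton_iff] at hp'
      rw [hp'] at hsp
      exact hs hsp
    have h1 := Module.supportDim_quotSMulTop_succ_le_of_notMem_minimalPrimes (M := A) hmin
    rw [Module.supportDim_self_eq_ringKrullDim, hdim'] at h1
    exact lt_natCast_of_add_one_le h1
  obtain ⟨x, hx⟩ := exists_ne (0 : H I 1 A)
  obtain ⟨z, hz⟩ := smul_surjective_H_of_regular I 1 (ModuleCat.of A A) s hreg hquot x
  exact hx (hz.symm.trans (hs0 z))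

end Dom

end Groth.Agent.Helper8.FD
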