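import Mathlib
import Groth.Prelude.Def_GrMap
import Groth.Agent.Lib.Helper6.GrMapBij

/-!
# Associated graded rings of two quotients with the same initial ideal
-/

set_option autoImplicit false
set_option linter.unusedSectionVars false
universe u

namespace Groth.Agent.Helper8.CdJ

open AssocGr FiltBl.IdealFiltration

variable {S T₁ T₂ : Type u} [CommRing S] [CommRing T₁] [CommRing T₂]

theorem adic_F (I : Ideal S) (n : ℕ) : (adic I).F n = I ^ n := rfl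

/-- The filtered-hom structure of a map sending `I` onto `I₁`. -/
theorem isFiltHom_of_map_eq (φ : S →+* T₁) (I : Ideal S) (I₁ : Ideal T₁) (h₁ : I.map φ = I₁) :
    IsFiltHom φ (adic I) (adic I₁) := IsFiltHom.adic (le_of_eq h₁)

theorem mem_pow_map_iff (φ : S →+* T₁) (hφ : Function.Surjective φ) (I : Ideal S) (I₁ : Ideal T₁)
    (h₁ : I.map φ = I₁) (n : ℕ) (b : T₁) : b ∈ I₁ ^ n ↔ ∃ a ∈ I ^ n, φ a = b := by
  rw [← h₁, ← Ideal.map_pow, Ideal.mem_map_iff_of_surjective φ hφ]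

theorem map_surjective_of_surjective (φ : S →+* T₁) (hφ : Function.Surjective φ) (I : Ideal S)
    (I₁ : Ideal T₁) (h₁ : I.map φ = I₁) :
    Function.Surjective (AssocGr.map (isFiltHom_of_map_eq φ I I₁ h₁)) := by
  apply Groth.Agent.Lib.Helper6.GrMapBij.map_surjective_of
  intro n b hb
  obtain ⟨a, ha, rfl⟩ := (mem_pow_map_iff φ hφ I I₁ h₁ n b).1 hb
  exact ⟨a, ha, by rw [sub_self]; exact Ideal.zero_mem _⟩

theorem map_mkG_eq_zero_iff (φ : S →+* T₁) (hφ : Function.Surjective φ) (I : Ideal S)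
    (I₁ : Ideal T₁) (h₁ : I.map φ = I₁) (f : (adic I).rees) :
    AssocGr.map (isFiltHom_of_map_eq φ I I₁ h₁) (mkG _ f) = 0 ↔
      ∀ n, (f : Polynomial S).coeff n ∈ (RingHom.ker φ ⊓ I ^ n) ⊔ I ^ (n + 1) := by
  rw [map_mkG, mkG_eq_zero_iff, mem_succIdeal_iff]
  refine forall_congr' (fun n => ?_)
  rw [coe_reesMap, Polynomial.coeff_map]
  change φ _ ∈ I₁ ^ (n + 1) ↔ _
  have hfn : (f : Polynomial S).coeff n ∈ I ^ n := f.2 n
  constructor
  · intro h
    obtain ⟨a, ha, hab⟩ := (mem_pow_map_iff φ hφ I I₁ h₁ (n + 1) _).1 h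
    have h2 : (f : Polynomial S).coeff n = ((f : Polynomial S).coeff n - a) + a := by ring
    rw [h2]
    refine Ideal.add_mem _ (Ideal.mem_sup_left ⟨?_, ?_⟩) (Ideal.mem_sup_right ha)
    · change _ ∈ RingHom.ker φ
      rw [RingHom.mem_ker, map_sub, hab, sub_self]
    · exact Ideal.sub_mem _ hfn (Ideal.pow_le_pow_right (Nat.le_succ n) ha)
  · intro h
    obtain ⟨x, hx, y, hy, hxy⟩ := Submodule.mem_sup.1 h
    rw [← hxy, map_add, (RingHom.mem_ker).1 hx.1, zero_add]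
    exact (mem_pow_map_iff φ hφ I I₁ h₁ (n + 1) _).2 ⟨y, hy, rfl⟩

/-- Two quotients of a filtered ring with the same initial ideal have isomorphic associated graded
rings, compatibly with the maps from the associated graded ring of the source. -/
theorem exists_grEquiv (φ₁ : S →+* T₁) (hφ₁ : Function.Surjective φ₁) (φ₂ : S →+* T₂)
    (hφ₂ : Function.Surjective φ₂) (I : Ideal S) (I₁ : Ideal T₁) (I₂ : Ideal T₂)
    (h₁ : I.map φ₁ = I₁) (h₂ : I.map φ₂ = I₂)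
    (hker : ∀ n, (RingHom.ker φ₁ ⊓ I ^ n) ⊔ I ^ (n + 1) = (RingHom.ker φ₂ ⊓ I ^ n) ⊔ I ^ (n + 1)) :
    ∃ e : GrRing (adic I₁) ≃+* GrRing (adic I₂),
      ∀ x, e (AssocGr.map (isFiltHom_of_map_eq φ₁ I I₁ h₁) x) =
        AssocGr.map (isFiltHom_of_map_eq φ₂ I I₂ h₂) x := by
  set g₁ := AssocGr.map (isFiltHom_of_map_eq φ₁ I I₁ h₁) with hg₁
  set g₂ := AssocGr.map (isFiltHom_of_map_eq φ₂ I I₂ h₂) with hg₂
  have hs₁ : Function.Surjective g₁ := map_surjective_of_surjective φ₁ hφ₁ I I₁ h₁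
  have hs₂ : Function.Surjective g₂ := map_surjective_of_surjective φ₂ hφ₂ I I₂ h₂
  have hk : RingHom.ker g₁ = RingHom.ker g₂ := by
    ext x
    obtain ⟨f, rfl⟩ := mkG_surjective _ x
    rw [RingHom.mem_ker, RingHom.mem_ker, hg₁, hg₂, map_mkG_eq_zero_iff φ₁ hφ₁ I I₁ h₁,
      map_mkG_eq_zero_iff φ₂ hφ₂ I I₂ h₂]
    exact forall_congr' (fun n => by rw [hker n])
  let e : GrRing (adic I₁) ≃+* GrRing (adic I₂) :=
    (RingHom.quotientKerEquivOfSurjective hs₁).symm.trans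
      ((Ideal.quotEquivOfEq hk).trans (RingHom.quotientKerEquivOfSurjective hs₂))
  refine ⟨e, fun x => ?_⟩
  have h3 : (RingHom.quotientKerEquivOfSurjective hs₁).symm (g₁ x) =
      Ideal.Quotient.mk (RingHom.ker g₁) x := by
    rw [RingEquiv.symm_apply_eq]
    rfl
  change (RingHom.quotientKerEquivOfSurjective hs₂)
    ((Ideal.quotEquivOfEq hk) ((RingHom.quotientKerEquivOfSurjective hs₁).symm (g₁ x))) = g₂ x
  rw [h3, Ideal.quotEquivOfEq_mk]
  rfl

/-- An isomorphism as in `exists_grEquiv` preserves the degrees. -/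
theorem grEquiv_mem_gr (φ₁ : S →+* T₁) (hφ₁ : Function.Surjective φ₁) (φ₂ : S →+* T₂)
    (I : Ideal S) (I₁ : Ideal T₁) (I₂ : Ideal T₂)
    (h₁ : I.map φ₁ = I₁) (h₂ : I.map φ₂ = I₂)
    (e : GrRing (adic I₁) ≃+* GrRing (adic I₂))
    (he : ∀ x, e (AssocGr.map (isFiltHom_of_map_eq φ₁ I I₁ h₁) x) =
        AssocGr.map (isFiltHom_of_map_eq φ₂ I I₂ h₂) x)
    {n : ℕ} {x : GrRing (adic I₁)} (hx : x ∈ gr (adic I₁) n) : e x ∈ gr (adic I₂) n := by
  obtain ⟨⟨b, hb⟩, hbx⟩ := inDeg_surjective (adic I₁) n ⟨x, hx⟩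
  obtain ⟨a, ha, rfl⟩ := (mem_pow_map_iff φ₁ hφ₁ I I₁ h₁ n b).1 hb
  have h3 : x = AssocGr.map (isFiltHom_of_map_eq φ₁ I I₁ h₁)
      (inDeg (adic I) n ⟨a, ha⟩ : GrRing (adic I)) := by
    rw [map_inDeg]
    exact (congrArg Subtype.val hbx).symm
  rw [h3, he]
  exact map_mem_gr _ (inDeg (adic I) n ⟨a, ha⟩).2

/-- An isomorphism as in `exists_grEquiv` is compatible with the structure maps. -/
theorem grEquiv_algebraMap (φ₁ : S →+* T₁) (φ₂ : S →+* T₂)
    (I : Ideal S) (I₁ : Ideal T₁) (I₂ : Ideal T₂)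
    (h₁ : I.map φ₁ = I₁) (h₂ : I.map φ₂ = I₂)
    (e : GrRing (adic I₁) ≃+* GrRing (adic I₂))
    (he : ∀ x, e (AssocGr.map (isFiltHom_of_map_eq φ₁ I I₁ h₁) x) =
        AssocGr.map (isFiltHom_of_map_eq φ₂ I I₂ h₂) x) (r : S) :
    e (algebraMap T₁ _ (φ₁ r)) = algebraMap T₂ _ (φ₂ r) := by
  rw [← map_algebraMap (isFiltHom_of_map_eq φ₁ I I₁ h₁), he, map_algebraMap]

/-- Bijectivity criterion for the map of associated graded rings (adic filtrations). -/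
theorem map_bijective_of {A B : Type u} [CommRing A] [CommRing B] (φ : A →+* B) (I : Ideal A)
    (J : Ideal B) (h : I.map φ ≤ J)
    (hinj : ∀ n a, a ∈ I ^ n → φ a ∈ J ^ (n + 1) → a ∈ I ^ (n + 1))
    (hsurj : ∀ n b, b ∈ J ^ n → ∃ a ∈ I ^ n, φ a - b ∈ J ^ (n + 1)) :
    Function.Bijective (AssocGr.map (IsFiltHom.adic h : IsFiltHom φ (adic I) (adic J))) :=
  ⟨Groth.Agent.Lib.Helper6.GrMapBij.map_injective_of _ hinj,
    Groth.Agent.Lib.Helper6.GrMapBij.map_surjective_of _ hsurj⟩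

end Groth.Agent.Helper8.CdJ
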