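import Mathlib
import Groth.Agent.Lib.Helper7.CAlg.EtaleSection
import Groth.Agent.Lib.Helper8.AppB2

/-!
# Refining an étale neighbourhood mapping to the completion at a maximal ideal

Let `p` be a maximal ideal of a Noetherian ring `P`, `P'` an étale `P`-algebra and
`ψ : P' → Ŝ` a `P`-algebra map to the `p`-adic completion.  After a principal localisation
`P''` of `P'` the map `ψ` extends, `P/p → P''/pP''` is bijective, and an element of `P''` lies in
`p^n P''` as soon as its image lies in `p^n Ŝ`.
-/

set_option autoImplicit false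
set_option linter.unusedSectionVars false
universe u

namespace Groth.Agent.Helper8.CdJ

variable {P : Type u} [CommRing P] (p : Ideal P)

theorem mem_pow_of_algebraMap_mem (n : ℕ) (a : P)
    (h : algebraMap P (AdicCompletion p P) a ∈ (p ^ n).map (algebraMap P (AdicCompletion p P))) :
    a ∈ p ^ n := by
  have h1 := Groth.Agent.Helper8.AdicFS.map_pow_le_ker_evalₐ p n h
  rw [RingHom.mem_ker, AlgHom.commutes, Ideal.Quotient.algebraMap_eq,
    Ideal.Quotient.eq_zero_iff_mem] at h1
  exact h1

theorem isUnit_of_evalOne_eq_one (fg : p.FG) (x : AdicCompletion p P)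
    (hx : AdicCompletion.evalOneₐ p x = 1) : IsUnit x := by
  haveI := AdicCompletion.isAdicComplete_self p fg
  have h1 : x - 1 ∈ p.map (algebraMap P (AdicCompletion p P)) := by
    rw [← AdicCompletion.ker_evalOneₐ_eq_map p fg, RingHom.mem_ker]
    change AdicCompletion.evalOneₐ p (x - 1) = 0
    rw [map_sub, hx, map_one, sub_self]
  have h2 := IsAdicComplete.le_jacobson_bot _ h1
  have h3 := Ideal.mem_jacobson_bot.1 h2 1
  rwa [mul_one, sub_add_cancel] at h3

/-- Nakayama-type induction: if `P → B/pB` is surjective then `P → B/p^n B` is surjective. -/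
theorem exists_sub_mem_pow_map {B : Type u} [CommRing B] [Algebra P B]
    (h1 : ∀ x : B, ∃ a : P, x - algebraMap P B a ∈ p.map (algebraMap P B)) (n : ℕ) (x : B) :
    ∃ a : P, x - algebraMap P B a ∈ (p ^ n).map (algebraMap P B) := by
  induction n generalizing x with
  | zero => exact ⟨0, by rw [pow_zero, Ideal.one_eq_top, Ideal.map_top]; trivial⟩
  | succ n ih =>
    obtain ⟨a, ha⟩ := ih x
    -- elements of `p^n B` are approximated modulo `p^(n+1) B` by elements of `p^n`
    have key : ∀ z ∈ (p ^ n • ⊤ : Submodule P B),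
        ∃ b ∈ p ^ n, z - algebraMap P B b ∈ (p ^ (n + 1)).map (algebraMap P B) := by
      intro z hz
      refine Submodule.smul_induction_on hz ?_ ?_
      · intro r hr m _
        obtain ⟨b, hb⟩ := h1 m
        refine ⟨r * b, Ideal.mul_mem_right _ _ hr, ?_⟩
        have h2 : r • m - algebraMap P B (r * b) = algebraMap P B r * (m - algebraMap P B b) := by
          rw [Algebra.smul_def, map_mul]; ring
        rw [h2, pow_succ, Ideal.map_mul]
        exact Ideal.mul_mem_mul (Ideal.mem_map_of_mem _ hr) hb
      · rintro y z ⟨b, hb, hyb⟩ ⟨c, hc, hzc⟩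
        refine ⟨b + c, Ideal.add_mem _ hb hc, ?_⟩
        have h2 : y + z - algebraMap P B (b + c) =
            (y - algebraMap P B b) + (z - algebraMap P B c) := by
          rw [map_add]; ring
        rw [h2]
        exact Ideal.add_mem _ hyb hzc
    have hmem : x - algebraMap P B a ∈ (p ^ n • ⊤ : Submodule P B) := by
      rw [Ideal.smul_top_eq_map]
      exact ha
    obtain ⟨b, _, hb⟩ := key _ hmem
    refine ⟨a + b, ?_⟩
    have h2 : x - algebraMap P B (a + b) = x - algebraMap P B a - algebraMap P B b := by
      rw [map_add]; ring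
    rw [h2]
    exact hb

variable [IsNoetherianRing P]

set_option maxHeartbeats 1600000 in
set_option synthInstance.maxHeartbeats 200000 in
theorem exists_refine (P' : Type u) [CommRing P'] [Algebra P P'] [Algebra.Etale P P']
    (ψ : P' →ₐ[P] AdicCompletion p P) :
    ∃ (P'' : Type u) (_ : CommRing P'') (_ : Algebra P P'') (_ : Algebra.Etale P P'')
      (ρ : P' →ₐ[P] P'') (ψ'' : P'' →ₐ[P] AdicCompletion p P),
      ψ''.comp ρ = ψ ∧
      (∀ x : P'', ∃ a : P, x - algebraMap P P'' a ∈ p.map (algebraMap P P'')) ∧
      ∀ (n : ℕ) (x : P''), ψ'' x ∈ (p ^ n).map (algebraMap P (AdicCompletion p P)) →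
        x ∈ (p ^ n).map (algebraMap P P'') := by
  classical
  have fg : p.FG := IsNoetherian.noetherian p
  let s : P' →ₐ[P] P ⧸ p := (AdicCompletion.evalOneₐ p).comp ψ
  obtain ⟨g, hg1, hg2⟩ := Groth.Agent.Helper7.EtaleSection.exists_elem p s
  have hbij := Groth.Agent.Helper7.EtaleSection.away_bijective p s g hg1 hg2 (Localization.Away g)
  haveI : Algebra.Etale P' (Localization.Away g) := Algebra.Etale.of_isLocalizationAway g
  haveI : Algebra.Etale P (Localization.Away g) := Algebra.Etale.comp P P' (Localization.Away g)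
  have hgu : IsUnit (ψ g) := isUnit_of_evalOne_eq_one p fg (ψ g) hg1
  have hu : ∀ y : Submonoid.powers g, IsUnit (ψ y) := by
    rintro ⟨_, n, rfl⟩
    rw [map_pow]
    exact hgu.pow n
  let ψ'' : Localization.Away g →ₐ[P] AdicCompletion p P := IsLocalization.liftAlgHom hu
  have hψ'' : ∀ x : P', ψ'' (algebraMap P' (Localization.Away g) x) = ψ x := fun x => by
    change IsLocalization.lift hu (algebraMap P' (Localization.Away g) x) = ψ x
    rw [IsLocalization.lift_eq]
    rfl
  have h1 : ∀ x : Localization.Away g, ∃ a : P,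
      x - algebraMap P (Localization.Away g) a ∈ p.map (algebraMap P (Localization.Away g)) := by
    intro x
    obtain ⟨ab, hab⟩ := hbij.1.2 (Ideal.Quotient.mk _ x)
    obtain ⟨a, rfl⟩ := Ideal.Quotient.mk_surjective ab
    refine ⟨a, ?_⟩
    have h2 : algebraMap (P ⧸ p) (Localization.Away g ⧸ p.map (algebraMap P (Localization.Away g)))
        (Ideal.Quotient.mk p a) = Ideal.Quotient.mk _ (algebraMap P (Localization.Away g) a) := rfl
    rw [h2] at hab
    exact Ideal.Quotient.eq.1 hab.symm
  refine ⟨Localization.Away g, inferInstance, inferInstance, inferInstance,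
    IsScalarTower.toAlgHom P P' (Localization.Away g), ψ'', AlgHom.ext hψ'', h1, ?_⟩
  intro n x hx
  obtain ⟨a, ha⟩ := exists_sub_mem_pow_map p h1 n x
  have h3 : ψ'' (x - algebraMap P (Localization.Away g) a) ∈
      (p ^ n).map (algebraMap P (AdicCompletion p P)) := by
    have hle : (p ^ n).map (algebraMap P (Localization.Away g)) ≤
        ((p ^ n).map (algebraMap P (AdicCompletion p P))).comap ψ''.toRingHom := by
      rw [Ideal.map_le_iff_le_comap]
      intro y hy
      rw [Ideal.mem_comap, Ideal.mem_comap]
      change ψ'' (algebraMap P _ y) ∈ _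
      rw [AlgHom.commutes]
      exact Ideal.mem_map_of_mem _ hy
    exact hle ha
  rw [map_sub, AlgHom.commutes] at h3
  have h4 : algebraMap P (AdicCompletion p P) a ∈
      (p ^ n).map (algebraMap P (AdicCompletion p P)) := by
    have : algebraMap P (AdicCompletion p P) a = ψ'' x - (ψ'' x - algebraMap P _ a) := by ring
    rw [this]
    exact Ideal.sub_mem _ hx h3
  have h5 := mem_pow_of_algebraMap_mem p n a h4
  have h6 : x = (x - algebraMap P (Localization.Away g) a) + algebraMap P _ a := by ring
  rw [h6]
  exact Ideal.add_mem _ ha (Ideal.mem_map_of_mem _ h5)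

end Groth.Agent.Helper8.CdJ
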