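import Mathlib
import Groth.Agent.Lib.Helper8.CdJ2
import Groth.Agent.Lib.Helper8.CdJ3

/-!
# Auxiliary results for the algebraization of versal formal objects

* quotients by powers of a maximal ideal are local Artinian;
* a surjective ring endomorphism of a Noetherian ring is injective;
* the associated graded ring of an adic filtration of a Noetherian ring is Noetherian;
* the associated graded rings of a ring and of its completion agree;
* a filtered map out of a separated ring which is injective on associated graded rings is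
  injective.
-/

set_option autoImplicit false
set_option linter.unusedSectionVars false
universe u

namespace Groth.Agent.Helper8.CdJ

open AssocGr FiltBl.IdealFiltration

section localArt

variable {A : Type u} [CommRing A] (m : Ideal A) [hm : m.IsMaximal]

theorem isMaximal_map_mk_pow {d : ℕ} (hd : d ≠ 0) :
    (m.map (Ideal.Quotient.mk (m ^ d))).IsMaximal := by
  have hker : RingHom.ker (Ideal.Quotient.mk (m ^ d)) ≤ m := by
    rw [Ideal.mk_ker]; exact Ideal.pow_le_self hd
  exact Ideal.IsMaximal.map_of_surjective_of_ker_le Ideal.Quotient.mk_surjective hker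

theorem isLocalRing_quot_pow {d : ℕ} (hd : d ≠ 0) : IsLocalRing (A ⧸ m ^ d) := by
  have hmax := isMaximal_map_mk_pow m hd
  apply IsLocalRing.of_unique_max_ideal
  refine ⟨_, hmax, fun M hM => ?_⟩
  have h1 : (M.comap (Ideal.Quotient.mk (m ^ d))).IsMaximal :=
    Ideal.comap_isMaximal_of_surjective _ Ideal.Quotient.mk_surjective
  have h2 : m ^ d ≤ M.comap (Ideal.Quotient.mk (m ^ d)) := by
    intro x hx
    rw [Ideal.mem_comap, Ideal.Quotient.eq_zero_iff_mem.2 hx]
    exact M.zero_mem
  have h3 : m ≤ M.comap (Ideal.Quotient.mk (m ^ d)) := h1.isPrime.le_of_pow_le h2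
  have h4 : m = M.comap (Ideal.Quotient.mk (m ^ d)) := hm.eq_of_le h1.ne_top h3
  have h5 : (M.comap (Ideal.Quotient.mk (m ^ d))).map (Ideal.Quotient.mk (m ^ d)) = M :=
    Ideal.map_comap_of_surjective _ Ideal.Quotient.mk_surjective M
  rw [← h5, ← h4]

theorem maximalIdeal_quot_pow {d : ℕ} (hd : d ≠ 0) :
    haveI := isLocalRing_quot_pow m hd
    IsLocalRing.maximalIdeal (A ⧸ m ^ d) = m.map (Ideal.Quotient.mk (m ^ d)) := by
  haveI := isLocalRing_quot_pow m hd
  exact (IsLocalRing.eq_maximalIdeal (isMaximal_map_mk_pow m hd)).symm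

theorem isArtinianRing_quot_pow [IsNoetherianRing A] {d : ℕ} (hd : d ≠ 0) :
    IsArtinianRing (A ⧸ m ^ d) := by
  haveI := isLocalRing_quot_pow m hd
  rw [isArtinianRing_iff_isNilpotent_maximalIdeal, maximalIdeal_quot_pow m hd]
  refine ⟨d, ?_⟩
  rw [← Ideal.map_pow, Ideal.map_quotient_self, Ideal.zero_eq_bot]

theorem residue_surjective_quot_pow {k : Type u} [Field k] [Algebra k A]
    (hs : Function.Surjective (fun c : k => Ideal.Quotient.mk m (algebraMap k A c)))
    {d : ℕ} (hd : d ≠ 0) :
    haveI := isLocalRing_quot_pow m hd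
    Function.Surjective (fun c : k => IsLocalRing.residue (A ⧸ m ^ d)
      (algebraMap k (A ⧸ m ^ d) c)) := by
  haveI := isLocalRing_quot_pow m hd
  intro y
  obtain ⟨y, rfl⟩ := Ideal.Quotient.mk_surjective y
  obtain ⟨a, rfl⟩ := Ideal.Quotient.mk_surjective y
  obtain ⟨c, hc⟩ := hs (Ideal.Quotient.mk m a)
  refine ⟨c, ?_⟩
  change Ideal.Quotient.mk _ (Ideal.Quotient.mk (m ^ d) (algebraMap k A c)) = _
  rw [Ideal.Quotient.eq, ← map_sub, maximalIdeal_quot_pow m hd]
  exact Ideal.mem_map_of_mem _ (Ideal.Quotient.eq.1 hc)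

end localArt

/-- A surjective endomorphism of a Noetherian ring is injective. -/
theorem injective_of_surjective_ringEnd {S : Type u} [CommRing S] [IsNoetherianRing S]
    (f : S →+* S) (hf : Function.Surjective f) : Function.Injective f := by
  have hmono : Monotone (fun n : ℕ => RingHom.ker (f ^ n)) := by
    apply monotone_nat_of_le_succ
    intro n x hx
    rw [RingHom.mem_ker] at hx ⊢
    rw [pow_succ', RingHom.mul_def, RingHom.comp_apply, hx, map_zero]
  obtain ⟨n, hn⟩ := monotone_stabilizes_iff_noetherian.2 (inferInstance : IsNoetherian S S)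
    ⟨fun n : ℕ => RingHom.ker (f ^ n), hmono⟩
  have hsn : Function.Surjective (f ^ n) := by
    rw [RingHom.coe_pow]
    exact hf.iterate n
  rw [injective_iff_map_eq_zero]
  intro x hx
  obtain ⟨y, rfl⟩ := hsn x
  have h1 : y ∈ RingHom.ker (f ^ (n + 1)) := by
    rw [RingHom.mem_ker, pow_succ', RingHom.mul_def, RingHom.comp_apply]
    exact hx
  have h2 : RingHom.ker (f ^ n) = RingHom.ker (f ^ (n + 1)) := hn (n + 1) (Nat.le_succ n)
  rw [← h2] at h1
  exact h1

section gr

variable {A : Type u} [CommRing A]

theorem rees_adic_eq (I : Ideal A) : (adic I).rees = reesAlgebra I := by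
  ext f
  exact Iff.rfl

theorem isNoetherianRing_grRing [IsNoetherianRing A] (I : Ideal A) :
    IsNoetherianRing (GrRing (adic I)) := by
  haveI : IsNoetherianRing (adic I).rees := by
    rw [rees_adic_eq]
    infer_instance
  exact inferInstanceAs (IsNoetherianRing ((adic I).rees ⧸ succIdeal (adic I)))

/-- The associated graded rings of a ring and of its completion agree. -/
theorem gr_algebraMap_bijective (m : Ideal A) (fg : m.FG)
    (h : IsFiltHom (algebraMap A (AdicCompletion m A)) (adic m)
      (adic (m.map (algebraMap A (AdicCompletion m A))))) :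
    Function.Bijective (AssocGr.map h) := by
  have hpow : ∀ n, (m.map (algebraMap A (AdicCompletion m A))) ^ n =
      (m ^ n).map (algebraMap A (AdicCompletion m A)) := fun n => (Ideal.map_pow _ _ _).symm
  refine map_bijective_of (algebraMap A (AdicCompletion m A)) m _ le_rfl ?_ ?_
  · intro n a _ ha
    rw [hpow] at ha
    exact mem_pow_of_algebraMap_mem m (n + 1) a ha
  · intro n b hb
    obtain ⟨a, ha⟩ := Groth.Agent.Helper8.AppB.exists_sub_mem_map_pow m fg b (n + 1)
    have h1 : algebraMap A (AdicCompletion m A) a ∈ (m ^ n).map (algebraMap A _) := by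
      have h2 : algebraMap A (AdicCompletion m A) a = b - (b - algebraMap A _ a) := by ring
      rw [h2, ← hpow]
      refine Ideal.sub_mem _ hb ?_
      rw [hpow]
      exact Ideal.map_mono (Ideal.pow_le_pow_right (Nat.le_succ n)) ha
    refine ⟨a, mem_pow_of_algebraMap_mem m n a h1, ?_⟩
    rw [hpow, ← neg_sub]
    exact neg_mem ha

/-- A filtered map out of a separated ring which is injective on associated graded rings is
injective. -/
theorem injective_of_gr_injective {T : Type u} [CommRing T] (φ : A →+* T) (I : Ideal A)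
    (J : Ideal T) [IsHausdorff I A] (h : IsFiltHom φ (adic I) (adic J))
    (hinj : Function.Injective (AssocGr.map h)) : Function.Injective φ := by
  rw [injective_iff_map_eq_zero]
  intro x hx
  have key : ∀ n, x ∈ I ^ n := by
    intro n
    induction n with
    | zero => rw [pow_zero, Ideal.one_eq_top]; trivial
    | succ n ih =>
      have ih' : x ∈ (adic I).F n := ih
      have h1 : AssocGr.map h (inDeg (adic I) n ⟨x, ih'⟩ : GrRing (adic I)) = 0 := by
        rw [map_inDeg]
        have h2 : (⟨φ x, h.apply_mem ih'⟩ : (adic J).F n) = 0 := Subtype.ext hx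
        rw [h2, map_zero]
        rfl
      have h3 : (inDeg (adic I) n ⟨x, ih'⟩ : GrRing (adic I)) = 0 := by
        apply hinj
        rw [h1, map_zero]
      have h4 : inDeg (adic I) n ⟨x, ih'⟩ = 0 := Subtype.ext h3
      exact (inDeg_eq_zero_iff (adic I) n ⟨x, ih'⟩).1 h4
  apply IsHausdorff.haus (inferInstance : IsHausdorff I A)
  intro n
  rw [SModEq.zero, smul_eq_mul, Ideal.mul_top]
  exact key n

end gr

end Groth.Agent.Helper8.CdJ
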