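import Mathlib
import Groth.Agent.Lib.Helper8.CdJ10

/-!
# Algebraization of versal formal objects: the compatible family of liftings
-/

set_option autoImplicit false
set_option linter.unusedSectionVars false
universe u

open CategoryTheory CategoryTheory.Limits

namespace Groth.Agent.Helper8.CdJ

section versal

variable {k : Type u} [Field k] (F : CommAlgCat.{u} k ⥤ Type u)
  {R : Type u} [CommRing R] [Algebra k R] (ξ : F.obj (CommAlgCat.of k R))
  {A : Type u} [CommRing A] [Algebra k A] (m : Ideal A) (η : F.obj (CommAlgCat.of k A))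

/-- A map `R → A/m^(n+2)` compatible with `ξ` and `η`. -/
structure Lift (n : ℕ) : Type u where
  /-- the map -/
  g : R →ₐ[k] A ⧸ m ^ (n + 2)
  hg : F.map (CommAlgCat.ofHom g) ξ =
    F.map (CommAlgCat.ofHom (Ideal.Quotient.mkₐ k (m ^ (n + 2)))) η

/-- Versality, as in the statement. -/
def Versal : Prop :=
  ∀ (B B₀ : Type u) [CommRing B] [Algebra k B] [IsLocalRing B] [IsArtinianRing B]
    [CommRing B₀] [Algebra k B₀] [IsLocalRing B₀] [IsArtinianRing B₀],
    Function.Surjective (fun c : k => IsLocalRing.residue B (algebraMap k B c)) →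
    ∀ (π : B →ₐ[k] B₀), Function.Surjective π →
      ∀ (g₀ : R →ₐ[k] B₀) (y : F.obj (CommAlgCat.of k B)),
        F.map (CommAlgCat.ofHom π) y = F.map (CommAlgCat.ofHom g₀) ξ →
          ∃ g : R →ₐ[k] B, π.comp g = g₀ ∧ F.map (CommAlgCat.ofHom g) ξ = y

variable [hm : m.IsMaximal] [IsNoetherianRing A]
  (hs : Function.Surjective (fun c : k => Ideal.Quotient.mk m (algebraMap k A c)))
  (hvers : Versal F ξ)

include hs hvers in
theorem exists_next (n : ℕ) (l : Lift F ξ m η n) :
    ∃ l' : Lift F ξ m η (n + 1),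
      (Ideal.Quotient.factorₐ k
        (Ideal.pow_le_pow_right (by omega : n + 2 ≤ n + 1 + 2))).comp l'.g = l.g := by
  haveI := isLocalRing_quot_pow m (d := n + 1 + 2) (by omega)
  haveI := isLocalRing_quot_pow m (d := n + 2) (by omega)
  haveI := isArtinianRing_quot_pow m (d := n + 1 + 2) (by omega)
  haveI := isArtinianRing_quot_pow m (d := n + 2) (by omega)
  have hres := residue_surjective_quot_pow m hs (d := n + 1 + 2) (by omega)
  have hle : m ^ (n + 1 + 2) ≤ m ^ (n + 2) := Ideal.pow_le_pow_right (by omega)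
  obtain ⟨g, hg1, hg2⟩ := hvers (A ⧸ m ^ (n + 1 + 2)) (A ⧸ m ^ (n + 2)) hres
    (Ideal.Quotient.factorₐ k hle)
    (Ideal.Quotient.factor_surjective hle)
    l.g (F.map (CommAlgCat.ofHom (Ideal.Quotient.mkₐ k (m ^ (n + 1 + 2)))) η) (by
      rw [l.hg, ← FunctorToTypes.map_comp_apply, ← CommAlgCat.ofHom_comp,
        Ideal.Quotient.factorₐ_comp_mk])
  exact ⟨⟨g, hg2⟩, hg1⟩

/-- The sequence of liftings. -/
noncomputable def seq (l₀ : Lift F ξ m η 0) : ∀ n, Lift F ξ m η n
  | 0 => l₀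
  | n + 1 => Classical.choose (exists_next F ξ m η hs hvers n (seq l₀ n))

theorem seq_succ (l₀ : Lift F ξ m η 0) (n : ℕ) :
    (Ideal.Quotient.factorₐ k
        (Ideal.pow_le_pow_right (by omega : n + 2 ≤ n + 1 + 2))).comp
      (seq F ξ m η hs hvers l₀ (n + 1)).g = (seq F ξ m η hs hvers l₀ n).g :=
  Classical.choose_spec (exists_next F ξ m η hs hvers n (seq F ξ m η hs hvers l₀ n))

end versal

section fam

variable {k : Type u} [Field k] {R : Type u} [CommRing R] [Algebra k R]
  {A : Type u} [CommRing A] [Algebra k A] (m : Ideal A)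

/-- The family of maps `R → A/m^d` obtained from a family `R → A/m^(n+2)`. -/
noncomputable def fam (G : ∀ n, R →ₐ[k] A ⧸ m ^ (n + 2)) : ∀ d, R →ₐ[k] A ⧸ m ^ d
  | 0 => (Ideal.Quotient.factorₐ k (Ideal.pow_le_pow_right (by omega : 0 ≤ 0 + 2))).comp (G 0)
  | 1 => (Ideal.Quotient.factorₐ k (Ideal.pow_le_pow_right (by omega : 1 ≤ 0 + 2))).comp (G 0)
  | d + 2 => G d

theorem fam_succ (G : ∀ n, R →ₐ[k] A ⧸ m ^ (n + 2))
    (hG : ∀ n, (Ideal.Quotient.factorₐ k
        (Ideal.pow_le_pow_right (by omega : n + 2 ≤ n + 1 + 2))).comp (G (n + 1)) = G n)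
    (d : ℕ) :
    (Ideal.Quotient.factorₐ k (Ideal.pow_le_pow_right (Nat.le_succ d))).comp (fam m G (d + 1)) =
      fam m G d := by
  match d with
  | 0 =>
    change (Ideal.Quotient.factorₐ k _).comp ((Ideal.Quotient.factorₐ k _).comp (G 0)) =
      (Ideal.Quotient.factorₐ k _).comp (G 0)
    rw [← AlgHom.comp_assoc, Ideal.Quotient.factorₐ_comp]
  | 1 => rfl
  | d + 2 => exact hG d

theorem fam_compat (G : ∀ n, R →ₐ[k] A ⧸ m ^ (n + 2))
    (hG : ∀ n, (Ideal.Quotient.factorₐ k
        (Ideal.pow_le_pow_right (by omega : n + 2 ≤ n + 1 + 2))).comp (G (n + 1)) = G n)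
    {a b : ℕ} (hle : a ≤ b) :
    (Ideal.Quotient.factorₐ k (Ideal.pow_le_pow_right hle)).comp (fam m G b) = fam m G a := by
  induction b, hle using Nat.le_induction with
  | base =>
    rw [Ideal.Quotient.factorₐ_refl]
    rfl
  | succ b hab ih =>
    rw [← ih, ← fam_succ m G hG b, ← AlgHom.comp_assoc, Ideal.Quotient.factorₐ_comp]

end fam

end Groth.Agent.Helper8.CdJ
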