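import Mathlib
import Groth.Agent.Lib.Helper8.CdJ10
import Groth.Agent.Lib.Helper8.AdicFS2

/-!
# Algebraization of versal formal objects: the map to the completion is an isomorphism
-/

set_option autoImplicit false
set_option linter.unusedSectionVars false
universe u

namespace Groth.Agent.Helper8.CdJ

open IsLocalRing AssocGr FiltBl.IdealFiltration

section completion

variable {k : Type u} [Field k] {R : Type u} [CommRing R] [Algebra k R] [IsLocalRing R]
  [IsNoetherianRing R] [IsAdicComplete (maximalIdeal R) R]
  {A : Type u} [CommRing A] [Algebra k A] [IsNoetherianRing A] (m : Ideal A) [hm : m.IsMaximal]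
  (hs : Function.Surjective (fun c : k => Ideal.Quotient.mk m (algebraMap k A c)))
  (f : ∀ d, R →ₐ[k] A ⧸ m ^ d)
  (hf : ∀ {a b : ℕ} (hle : a ≤ b),
    (Ideal.Quotient.factorₐ k (Ideal.pow_le_pow_right hle)).comp (f b) = f a)

theorem mem_map_pow_iff (n : ℕ) (x : AdicCompletion m A) :
    x ∈ (m ^ n).map (algebraMap A (AdicCompletion m A)) ↔ AdicCompletion.evalₐ m n x = 0 :=
  ⟨fun h => Groth.Agent.Helper8.AdicFS.map_pow_le_ker_evalₐ m n h,
    fun h => Groth.Agent.Helper8.AdicFS.ker_evalₐ_le_map_pow m (IsNoetherian.noetherian m) n h⟩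

include hs in
theorem f_one_eq_zero_iff (x : R) : f 1 x = 0 ↔ x ∈ maximalIdeal R := by
  letI : Field (A ⧸ m) := Ideal.Quotient.field m
  have hle : m ^ 1 ≤ m := (pow_one m).le
  let χ : R →+* A ⧸ m := (Ideal.Quotient.factor hle).comp (f 1).toRingHom
  have hχs : Function.Surjective χ := by
    intro y
    obtain ⟨c, hc⟩ := hs y
    refine ⟨algebraMap k R c, ?_⟩
    change Ideal.Quotient.factor hle (f 1 (algebraMap k R c)) = y
    rw [AlgHom.commutes, ← hc]
    rfl
  have hmax : (RingHom.ker χ).IsMaximal := RingHom.ker_isMaximal_of_surjective χ hχs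
  have hker : RingHom.ker χ = maximalIdeal R := IsLocalRing.eq_maximalIdeal hmax
  rw [← hker, RingHom.mem_ker]
  change _ ↔ Ideal.Quotient.factor hle (f 1 x) = 0
  obtain ⟨a, ha⟩ := Ideal.Quotient.mk_surjective (f 1 x)
  rw [← ha, Ideal.Quotient.factor_mk, Ideal.Quotient.eq_zero_iff_mem,
    Ideal.Quotient.eq_zero_iff_mem, pow_one]

include hs in
theorem map_maximalIdeal_eq (hf2 : Function.Surjective (f 2)) :
    (maximalIdeal R).map (AdicCompletion.liftAlgHom m f hf).toRingHom =
      m.map (algebraMap A (AdicCompletion m A)) := by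
  have fg : m.FG := IsNoetherian.noetherian m
  have hev : ∀ d x, AdicCompletion.evalₐ m d (AdicCompletion.liftAlgHom m f hf x) = f d x :=
    fun d x => AdicCompletion.evalₐ_liftAlgHom m f hf d x
  apply le_antisymm
  · rw [Ideal.map_le_iff_le_comap]
    intro x hx
    rw [Ideal.mem_comap]
    have h1 : AdicCompletion.liftAlgHom m f hf x ∈
        (m ^ 1).map (algebraMap A (AdicCompletion m A)) := by
      rw [mem_map_pow_iff, hev]
      exact (f_one_eq_zero_iff m hs f x).2 hx
    rwa [pow_one] at h1
  · haveI := AdicCompletion.isAdicComplete_self m fg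
    have hjac : m.map (algebraMap A (AdicCompletion m A)) ≤ Ideal.jacobson ⊥ :=
      IsAdicComplete.le_jacobson_bot _
    have hfg : (m.map (algebraMap A (AdicCompletion m A))).FG := Ideal.FG.map fg _
    refine Submodule.le_of_le_smul_of_le_jacobson_bot hfg hjac ?_
    rw [Ideal.map_le_iff_le_comap]
    intro a ha
    rw [Ideal.mem_comap]
    obtain ⟨x, hx⟩ := hf2 (Ideal.Quotient.mk (m ^ 2) a)
    have hx1 : f 1 x = 0 := by
      have h1 := DFunLike.congr_fun (hf (show 1 ≤ 2 by omega)) x
      rw [← h1, AlgHom.comp_apply, hx]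
      change Ideal.Quotient.mk (m ^ 1) a = 0
      rw [Ideal.Quotient.eq_zero_iff_mem, pow_one]
      exact ha
    have hxm : x ∈ maximalIdeal R := (f_one_eq_zero_iff m hs f x).1 hx1
    have h2 : AdicCompletion.liftAlgHom m f hf x - algebraMap A (AdicCompletion m A) a ∈
        (m ^ 2).map (algebraMap A (AdicCompletion m A)) := by
      rw [mem_map_pow_iff, map_sub, hev, hx, AlgHom.commutes, Ideal.Quotient.algebraMap_eq,
        sub_self]
    have h3 : algebraMap A (AdicCompletion m A) a = AdicCompletion.liftAlgHom m f hf x -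
        (AdicCompletion.liftAlgHom m f hf x - algebraMap A (AdicCompletion m A) a) := by ring
    rw [h3]
    refine Submodule.sub_mem _ (Submodule.mem_sup_left (Ideal.mem_map_of_mem _ hxm))
      (Submodule.mem_sup_right ?_)
    rw [Ideal.map_pow, pow_two] at h2
    exact h2

include hs in
theorem lift_surjective (hf2 : Function.Surjective (f 2)) :
    Function.Surjective (AdicCompletion.liftAlgHom m f hf) := by
  have fg : m.FG := IsNoetherian.noetherian m
  have hmap := map_maximalIdeal_eq m hs f hf hf2
  haveI : IsHausdorff ((maximalIdeal R).map (AdicCompletion.liftAlgHom m f hf).toRingHom)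
      (AdicCompletion m A) := by
    rw [hmap]
    haveI := AdicCompletion.isAdicComplete_self m fg
    infer_instance
  apply surjective_of_mk_map_comp_surjective (I := maximalIdeal R)
    (AdicCompletion.liftAlgHom m f hf).toRingHom
  intro y
  obtain ⟨z, rfl⟩ := Ideal.Quotient.mk_surjective y
  obtain ⟨a, ha⟩ := Groth.Agent.Helper8.AppB.exists_sub_mem_map_pow m fg z 1
  obtain ⟨c, hc⟩ := hs (Ideal.Quotient.mk m a)
  refine ⟨algebraMap k R c, ?_⟩
  change Ideal.Quotient.mk _ (AdicCompletion.liftAlgHom m f hf (algebraMap k R c)) = _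
  rw [Ideal.Quotient.eq, hmap, AlgHom.commutes, IsScalarTower.algebraMap_apply k A]
  have h1 : algebraMap A (AdicCompletion m A) (algebraMap k A c) - z =
      algebraMap A (AdicCompletion m A) (algebraMap k A c - a) -
        (z - algebraMap A (AdicCompletion m A) a) := by
    rw [map_sub]; ring
  rw [h1]
  rw [pow_one] at ha
  exact Ideal.sub_mem _ (Ideal.mem_map_of_mem _ (Ideal.Quotient.eq.1 hc)) ha

include hs in
theorem lift_bijective (hf2 : Function.Surjective (f 2))
    (e : GrRing (adic (maximalIdeal R)) ≃+* GrRing (adic m)) :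
    Function.Bijective (AdicCompletion.liftAlgHom m f hf) := by
  have fg : m.FG := IsNoetherian.noetherian m
  have hmap := map_maximalIdeal_eq m hs f hf hf2
  have hsurj := lift_surjective m hs f hf hf2
  refine ⟨?_, hsurj⟩
  have hfilt : IsFiltHom (AdicCompletion.liftAlgHom m f hf).toRingHom (adic (maximalIdeal R))
      (adic (m.map (algebraMap A (AdicCompletion m A)))) :=
    isFiltHom_of_map_eq _ _ _ hmap
  have hgs : Function.Surjective (AssocGr.map hfilt) :=
    map_surjective_of_surjective _ hsurj _ _ hmap
  have hfiltA : IsFiltHom (algebraMap A (AdicCompletion m A)) (adic m)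
      (adic (m.map (algebraMap A (AdicCompletion m A)))) := IsFiltHom.adic le_rfl
  have hγ := gr_algebraMap_bijective m fg hfiltA
  let γ : GrRing (adic m) ≃+* GrRing (adic (m.map (algebraMap A (AdicCompletion m A)))) :=
    RingEquiv.ofBijective _ hγ
  let h : GrRing (adic (maximalIdeal R)) →+* GrRing (adic (maximalIdeal R)) :=
    (e.symm.toRingHom.comp γ.symm.toRingHom).comp (AssocGr.map hfilt)
  have hhs : Function.Surjective h := by
    intro y
    obtain ⟨x, hx⟩ := hgs (γ (e y))
    refine ⟨x, ?_⟩
    change e.symm (γ.symm (AssocGr.map hfilt x)) = y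
    rw [hx, RingEquiv.symm_apply_apply, RingEquiv.symm_apply_apply]
  haveI := isNoetherianRing_grRing (maximalIdeal R)
  have hhi := injective_of_surjective_ringEnd h hhs
  have hgi : Function.Injective (AssocGr.map hfilt) := by
    intro x y hxy
    apply hhi
    change e.symm (γ.symm (AssocGr.map hfilt x)) = e.symm (γ.symm (AssocGr.map hfilt y))
    rw [hxy]
  exact injective_of_gr_injective _ _ _ hfilt hgi

end completion

end Groth.Agent.Helper8.CdJ
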