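import Mathlib
import Groth.Agent.Lib.Helper8.AppB2
import Groth.Agent.Lib.Helper8.PolyG4
import Groth.Agent.Lib.Helper8.GRing1
import Groth.Agent.Lib.Helper8.AdicReg1
import Groth.Agent.S0600

/-!
# Approximation of solutions of polynomial systems over a finite type algebra over a field
-/

set_option autoImplicit false
set_option linter.unusedSectionVars false
universe u

namespace Groth.Agent.Helper8.CdJ

open TensorProduct

/-- `exists_etale_solution` for systems indexed by arbitrary finite types. -/
theorem exists_etale_solution_fintype {R Λ : Type u} [CommRing R] [IsNoetherianRing R]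
    [CommRing Λ] [IsNoetherianRing Λ] [Algebra R Λ] (hreg : CAlg.IsRegularHom R Λ) (J : Ideal Λ)
    [HenselianRing Λ J]
    (H : ∀ (k : ℕ) (c' : Fin k → Λ), ∃ (R₁ : Type u) (_ : CommRing R₁) (_ : Algebra R R₁)
      (_ : Algebra R₁ Λ) (_ : IsScalarTower R R₁ Λ), Algebra.Etale R R₁ ∧
      ∃ c : Fin k → R₁, ∀ i, c' i - algebraMap R₁ Λ (c i) ∈ J)
    {ι κ : Type} [Fintype ι] [Fintype κ] (F : κ → MvPolynomial ι R) (a : ι → Λ)
    (ha : ∀ j, MvPolynomial.aeval a (F j) = 0) :
    ∃ (R' : Type u) (_ : CommRing R') (_ : Algebra R R'), Algebra.Etale R R' ∧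
      ∃ (ψ : R' →ₐ[R] Λ) (b : ι → R'), (∀ j, MvPolynomial.aeval b (F j) = 0) ∧
        ∀ i, a i - ψ (b i) ∈ J := by
  classical
  let e := Fintype.equivFin ι
  let e' := Fintype.equivFin κ
  obtain ⟨R', _, _, het, ψ, b, hb, hab⟩ := Groth.Agent.Helper8.AppB.exists_etale_solution hreg J H
    (fun j => MvPolynomial.rename e (F (e'.symm j))) (fun i => a (e.symm i))
    (fun j => by
      rw [MvPolynomial.aeval_rename]
      have : (fun i => a (e.symm i)) ∘ e = a := by ext i; simp
      rw [this]
      exact ha _)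
  refine ⟨R', inferInstance, inferInstance, het, ψ, fun i => b (e i), fun j => ?_, fun i => ?_⟩
  · have h1 := hb (e' j)
    rw [MvPolynomial.aeval_rename] at h1
    simp only [Equiv.symm_apply_apply] at h1
    exact h1
  · have h1 := hab (e i)
    simpa using h1

variable (k : Type u) [Field k] (r : ℕ)

/-- The polynomial ring. -/
abbrev Pol : Type u := MvPolynomial (Fin r) k

/-- The ideal of the origin. -/
noncomputable abbrev org : Ideal (Pol k r) := MvPolynomial.idealOfVars (Fin r) k

/-- The completion at the origin. -/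
abbrev Cpl : Type u := AdicCompletion (org k r) (Pol k r)

theorem isGRing_field : CAlg.IsGRing k := by
  haveI : IsAdicComplete (IsLocalRing.maximalIdeal k) k := by
    rw [IsLocalRing.maximalIdeal_eq_bot]
    infer_instance
  exact Groth.Agent.Helper8.GRing.isGRing_of_isAdicComplete k

instance isNoetherianRing_cpl : IsNoetherianRing (Cpl k r) :=
  Groth.Agent.Helper8.AdicReg.isNoetherianRing (Pol k r) (org k r)

theorem org_fg : (org k r).FG := IsNoetherian.noetherian _

set_option maxHeartbeats 800000 in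
/-- Approximation of solutions in the completion at the origin by solutions in étale
neighbourhoods. -/
theorem exists_approx (N : ℕ) {ι κ : Type} [Fintype ι] [Fintype κ]
    (F : κ → MvPolynomial ι (Pol k r)) (a : ι → Cpl k r)
    (ha : ∀ j, MvPolynomial.aeval a (F j) = 0) :
    ∃ (P' : Type u) (_ : CommRing P') (_ : Algebra (Pol k r) P'), Algebra.Etale (Pol k r) P' ∧
      ∃ (ψ : P' →ₐ[Pol k r] Cpl k r) (b : ι → P'), (∀ j, MvPolynomial.aeval b (F j) = 0) ∧
        ∀ i, a i - ψ (b i) ∈ ((org k r) ^ (N + 1)).map (algebraMap (Pol k r) (Cpl k r)) := by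
  have hP : CAlg.IsGRing (Pol k r) :=
    Groth.Agent.Helper8.PolyG.isGRing_of_finiteType k (isGRing_field k) (Pol k r)
  have hreg : CAlg.IsRegularHom (Pol k r) (Cpl k r) := Groth.Agent.S0600.result _ hP (org k r)
  haveI : HenselianRing (Cpl k r) (((org k r) ^ (N + 1)).map (algebraMap (Pol k r) (Cpl k r))) :=
    Groth.Agent.Helper8.AppB.henselianRing_map_pow (org k r) (org_fg k r) N
  have H : ∀ (n : ℕ) (c' : Fin n → Cpl k r), ∃ (R₁ : Type u) (_ : CommRing R₁)
      (_ : Algebra (Pol k r) R₁) (_ : Algebra R₁ (Cpl k r))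
      (_ : IsScalarTower (Pol k r) R₁ (Cpl k r)), Algebra.Etale (Pol k r) R₁ ∧
      ∃ c : Fin n → R₁, ∀ i, c' i - algebraMap R₁ (Cpl k r) (c i) ∈
        ((org k r) ^ (N + 1)).map (algebraMap (Pol k r) (Cpl k r)) := by
    intro n c'
    refine ⟨Pol k r, inferInstance, inferInstance, inferInstance, inferInstance, inferInstance, ?_⟩
    choose c hc using fun i =>
      Groth.Agent.Helper8.AppB.exists_sub_mem_map_pow (org k r) (org_fg k r) (c' i) (N + 1)
    exact ⟨c, hc⟩
  exact exists_etale_solution_fintype hreg _ H F a ha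

end Groth.Agent.Helper8.CdJ
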