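import Mathlib
import Groth.Agent.Lib.Helper8.CdJ4
import Groth.Agent.Lib.Helper8.CohenStr1
import Groth.Agent.Lib.Helper8.CohenFact3

/-!
# A complete local Noetherian algebra with residue field `k` is a quotient of the completion of a
polynomial ring at the origin
-/

set_option autoImplicit false
set_option linter.unusedSectionVars false
universe u

namespace Groth.Agent.Helper8.CdJ

open IsLocalRing

variable {k : Type u} [Field k] {R : Type u} [CommRing R] [Algebra k R] [IsLocalRing R]
  [IsNoetherianRing R] [IsAdicComplete (maximalIdeal R) R]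

/-- The maximal ideal of the completion at the origin. -/
noncomputable abbrev mCpl (k : Type u) [Field k] (r : ℕ) : Ideal (Cpl k r) :=
  (org k r).map (algebraMap (Pol k r) (Cpl k r))

theorem algebraMap_pol_mvPowerSeries (r : ℕ) (q : Pol k r) :
    algebraMap (Pol k r) (MvPowerSeries (Fin r) k) q = (q : MvPowerSeries (Fin r) k) := by
  rw [MvPowerSeries.algebraMap_apply']
  simp

set_option maxHeartbeats 800000 in
theorem exists_presentation
    (hres : Function.Surjective (fun c : k => IsLocalRing.residue R (algebraMap k R c))) :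
    ∃ (r : ℕ) (π : Cpl k r →ₐ[k] R), Function.Surjective π ∧
      (mCpl k r).map π.toRingHom = maximalIdeal R := by
  have hfg : (maximalIdeal R).FG := IsNoetherian.noetherian _
  obtain ⟨r, b, hb⟩ := Submodule.fg_iff_exists_fin_generating_family.1 hfg
  have hbm : ∀ i, b i ∈ maximalIdeal R := fun i => by
    rw [← hb]; exact Submodule.subset_span ⟨i, rfl⟩
  obtain ⟨ψ, hψ⟩ := Groth.Agent.Helper8.CohenStr.exists_algHom k R r b hbm
  have hψs : Function.Surjective ψ := by
    apply Groth.Agent.Helper8.CohenFact.surjective_of_generators r ψ.toRingHom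
    · intro y
      obtain ⟨c, hc⟩ := hres y
      refine ⟨c, ?_⟩
      rw [← hc]
      change residue R (ψ (MvPowerSeries.C c)) = _
      have : (MvPowerSeries.C c : MvPowerSeries (Fin r) k) =
          algebraMap k (MvPowerSeries (Fin r) k) c := rfl
      rw [this, ψ.commutes]
    · have : (fun i => ψ.toRingHom (MvPowerSeries.X i)) = b := funext hψ
      rw [this]
      exact hb
  let e := MvPowerSeries.toAdicCompletionAlgEquiv (Fin r) k
  let π₀ : Cpl k r →+* R := ψ.toRingHom.comp (e.symm : Cpl k r →+* MvPowerSeries (Fin r) k)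
  have hπ₀P : ∀ q : Pol k r, π₀ (algebraMap (Pol k r) (Cpl k r) q) =
      ψ (q : MvPowerSeries (Fin r) k) := by
    intro q
    change ψ (e.symm (algebraMap (Pol k r) (Cpl k r) q)) = _
    rw [AlgEquiv.commutes, algebraMap_pol_mvPowerSeries]
  let π : Cpl k r →ₐ[k] R :=
    { π₀ with
      commutes' := fun c => by
        change π₀ (algebraMap k (Cpl k r) c) = _
        have h1 : algebraMap k (Cpl k r) c =
            algebraMap (Pol k r) (Cpl k r) (MvPolynomial.C c) := rfl
        rw [h1, hπ₀P, MvPolynomial.coe_C]
        have : (MvPowerSeries.C c : MvPowerSeries (Fin r) k) =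
          algebraMap k (MvPowerSeries (Fin r) k) c := rfl
        rw [this, ψ.commutes] }
  refine ⟨r, π, ?_, ?_⟩
  · intro y
    obtain ⟨z, rfl⟩ := hψs y
    exact ⟨e z, by change ψ (e.symm (e z)) = _; rw [AlgEquiv.symm_apply_apply]⟩
  · change ((org k r).map (algebraMap (Pol k r) (Cpl k r))).map π₀ = _
    rw [Ideal.map_map, Ideal.map_span, ← Set.range_comp, ← hb]
    congr 2
    ext i
    change π₀ (algebraMap (Pol k r) (Cpl k r) (MvPolynomial.X i)) = b i
    rw [hπ₀P, MvPolynomial.coe_X, hψ]

end Groth.Agent.Helper8.CdJ
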