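import Mathlib
import Groth.Agent.Lib.Helper8.CdJ2

/-!
# Conrad–de Jong approximation: comparing a quotient of an étale neighbourhood with a quotient of
the completion

Abstract setting: `P` a ring with an ideal `p`, `S` and `B` two `P`-algebras and `ψ : B → S` a
`P`-algebra map such that
* `hF`: `ψ x ∈ p^n S → x ∈ p^n B` (the `p`-adic filtration of `B` is induced from that of `S`);
* `hD`: `P` is dense in `S` for the `p`-adic topology.
Then for `f'' : Fin s → B` the associated graded rings of `B/(f'')` and `S/(ψ f'')` (for the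
`p`-adic filtrations) are isomorphic, and so are the truncations.
-/

set_option autoImplicit false
set_option linter.unusedSectionVars false
universe u

namespace Groth.Agent.Helper8.CdJ

open AssocGr FiltBl.IdealFiltration

section abstract

variable {P S B : Type u} [CommRing P] [CommRing S] [CommRing B] [Algebra P S] [Algebra P B]
  (p : Ideal P) (ψ : B →ₐ[P] S)

theorem map_mem_sup {s : ℕ} (f'' : Fin s → B) (n : ℕ) (x : B)
    (hx : x ∈ Ideal.span (Set.range f'') ⊔ (p ^ n).map (algebraMap P B)) :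
    ψ x ∈ Ideal.span (Set.range (fun a => ψ (f'' a))) ⊔ (p ^ n).map (algebraMap P S) := by
  have h : Ideal.span (Set.range f'') ⊔ (p ^ n).map (algebraMap P B) ≤
      (Ideal.span (Set.range (fun a => ψ (f'' a))) ⊔
        (p ^ n).map (algebraMap P S)).comap ψ.toRingHom := by
    refine sup_le ?_ ?_
    · rw [Ideal.span_le]
      rintro _ ⟨a, rfl⟩
      exact Ideal.mem_sup_left (Ideal.subset_span ⟨a, rfl⟩)
    · rw [Ideal.map_le_iff_le_comap]
      intro y hy
      rw [Ideal.mem_comap, Ideal.mem_comap]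
      change ψ (algebraMap P B y) ∈ _
      rw [AlgHom.commutes]
      exact Ideal.mem_sup_right (Ideal.mem_map_of_mem _ hy)
  exact h hx

variable (hF : ∀ (n : ℕ) (x : B), ψ x ∈ (p ^ n).map (algebraMap P S) →
    x ∈ (p ^ n).map (algebraMap P B))
  (hD : ∀ (n : ℕ) (x : S), ∃ a : P, x - algebraMap P S a ∈ (p ^ n).map (algebraMap P S))

include hF hD in
theorem mem_sup_of_map_mem {s : ℕ} (f'' : Fin s → B) (n : ℕ) (x : B)
    (hx : ψ x ∈ Ideal.span (Set.range (fun a => ψ (f'' a))) ⊔ (p ^ n).map (algebraMap P S)) :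
    x ∈ Ideal.span (Set.range f'') ⊔ (p ^ n).map (algebraMap P B) := by
  obtain ⟨y, hy, z, hz, hyz⟩ := Submodule.mem_sup.1 hx
  obtain ⟨c, rfl⟩ := Ideal.mem_span_range_iff_exists_fun.1 hy
  choose c' hc' using fun a => hD n (c a)
  have h1 : ψ (x - ∑ a, algebraMap P B (c' a) * f'' a) ∈ (p ^ n).map (algebraMap P S) := by
    have h3 : ψ (x - ∑ a, algebraMap P B (c' a) * f'' a) =
        ∑ a, (c a - algebraMap P S (c' a)) * ψ (f'' a) + z := by
      rw [map_sub, ← hyz, map_sum]
      simp only [map_mul, AlgHom.commutes, sub_mul, Finset.sum_sub_distrib]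
      ring
    rw [h3]
    exact Ideal.add_mem _ (Ideal.sum_mem _ fun a _ => Ideal.mul_mem_right _ _ (hc' a)) hz
  have h2 := hF n _ h1
  have h4 : x = ∑ a, algebraMap P B (c' a) * f'' a +
      (x - ∑ a, algebraMap P B (c' a) * f'' a) := by ring
  rw [h4]
  exact Ideal.add_mem _ (Ideal.mem_sup_left (Ideal.sum_mem _ fun a _ =>
    Ideal.mul_mem_left _ _ (Ideal.subset_span ⟨a, rfl⟩))) (Ideal.mem_sup_right h2)

include hF hD in
/-- The associated graded rings of `B/(f'')` and of `S/(ψ f'')` are isomorphic. -/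
theorem exists_grEquiv_quot {s : ℕ} (f'' : Fin s → B) :
    ∃ e₁ : GrRing (adic ((p.map (algebraMap P B)).map
          (Ideal.Quotient.mk (Ideal.span (Set.range f''))))) ≃+*
        GrRing (adic ((p.map (algebraMap P S)).map
          (Ideal.Quotient.mk (Ideal.span (Set.range (fun a => ψ (f'' a))))))),
      (∀ (n : ℕ) (x : GrRing (adic ((p.map (algebraMap P S)).map
          (Ideal.Quotient.mk (Ideal.span (Set.range (fun a => ψ (f'' a)))))))),
        x ∈ gr (adic ((p.map (algebraMap P S)).map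
          (Ideal.Quotient.mk (Ideal.span (Set.range (fun a => ψ (f'' a))))))) n →
        e₁.symm x ∈ gr (adic ((p.map (algebraMap P B)).map
          (Ideal.Quotient.mk (Ideal.span (Set.range f''))))) n) ∧
      ∀ b : B, e₁ (algebraMap (B ⧸ Ideal.span (Set.range f'')) _
          (Ideal.Quotient.mk (Ideal.span (Set.range f'')) b)) =
        algebraMap (S ⧸ Ideal.span (Set.range (fun a => ψ (f'' a)))) _
          (Ideal.Quotient.mk (Ideal.span (Set.range (fun a => ψ (f'' a)))) (ψ b)) := by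
  set K := Ideal.span (Set.range f'') with hK
  set K' := Ideal.span (Set.range (fun a => ψ (f'' a))) with hK'
  have hle : K ≤ K'.comap ψ.toRingHom := by
    rw [hK, Ideal.span_le]
    rintro _ ⟨a, rfl⟩
    exact Ideal.subset_span ⟨a, rfl⟩
  let ψb : B ⧸ K →+* S ⧸ K' := Ideal.quotientMap K' ψ.toRingHom hle
  have hψb : ∀ x : B, ψb (Ideal.Quotient.mk K x) = Ideal.Quotient.mk K' (ψ x) := fun x =>
    Ideal.quotientMap_mk
  set m := (p.map (algebraMap P B)).map (Ideal.Quotient.mk K) with hm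
  set I₂ := (p.map (algebraMap P S)).map (Ideal.Quotient.mk K') with hI₂
  have hpowm : ∀ n, m ^ n = ((p ^ n).map (algebraMap P B)).map (Ideal.Quotient.mk K) := fun n => by
    rw [hm, ← Ideal.map_pow, ← Ideal.map_pow]
  have hpowI : ∀ n, I₂ ^ n = ((p ^ n).map (algebraMap P S)).map (Ideal.Quotient.mk K') :=
    fun n => by rw [hI₂, ← Ideal.map_pow, ← Ideal.map_pow]
  have hmI : m.map ψb ≤ I₂ := by
    rw [hm, Ideal.map_map, Ideal.map_le_iff_le_comap, Ideal.map_le_iff_le_comap]
    intro y hy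
    rw [Ideal.mem_comap, Ideal.mem_comap]
    change ψb (Ideal.Quotient.mk K (algebraMap P B y)) ∈ _
    rw [hψb, AlgHom.commutes]
    exact Ideal.mem_map_of_mem _ (Ideal.mem_map_of_mem _ hy)
  have hinj : ∀ n a, a ∈ m ^ n → ψb a ∈ I₂ ^ (n + 1) → a ∈ m ^ (n + 1) := by
    intro n a _ ha
    obtain ⟨x, rfl⟩ := Ideal.Quotient.mk_surjective a
    rw [hψb, hpowI, Ideal.mem_quotient_iff_mem_sup, sup_comm] at ha
    have h1 := mem_sup_of_map_mem p ψ hF hD f'' (n + 1) x ha
    rw [hpowm, Ideal.mem_quotient_iff_mem_sup, sup_comm]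
    exact h1
  have hsurj : ∀ n b, b ∈ I₂ ^ n → ∃ a ∈ m ^ n, ψb a - b ∈ I₂ ^ (n + 1) := by
    intro n b hb
    obtain ⟨y, rfl⟩ := Ideal.Quotient.mk_surjective b
    rw [hpowI, Ideal.mem_quotient_iff_mem_sup] at hb
    obtain ⟨y₁, hy₁, y₂, hy₂, hy⟩ := Submodule.mem_sup.1 hb
    obtain ⟨a₀, ha₀⟩ := hD (n + 1) y₁
    have h1 : algebraMap P S a₀ ∈ (p ^ n).map (algebraMap P S) := by
      have h2 : algebraMap P S a₀ = y₁ - (y₁ - algebraMap P S a₀) := by ring
      rw [h2]
      refine Ideal.sub_mem _ hy₁ ?_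
      exact Ideal.map_mono (Ideal.pow_le_pow_right (Nat.le_succ n)) ha₀
    have h3 : algebraMap P B a₀ ∈ (p ^ n).map (algebraMap P B) := by
      apply hF
      rw [AlgHom.commutes]
      exact h1
    refine ⟨Ideal.Quotient.mk K (algebraMap P B a₀), ?_, ?_⟩
    · rw [hpowm]
      exact Ideal.mem_map_of_mem _ h3
    · rw [hψb, AlgHom.commutes, ← map_sub, hpowI, Ideal.mem_quotient_iff_mem_sup]
      have h4 : algebraMap P S a₀ - y = -(y₁ - algebraMap P S a₀) + -y₂ := by
        rw [← hy]; ring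
      rw [h4]
      exact Ideal.add_mem _ (Ideal.mem_sup_left (neg_mem ha₀))
        (Ideal.mem_sup_right (neg_mem hy₂))
  have hbij := map_bijective_of ψb m I₂ hmI hinj hsurj
  have hfilt : IsFiltHom ψb (adic m) (adic I₂) := IsFiltHom.adic hmI
  let e₁ : GrRing (adic m) ≃+* GrRing (adic I₂) := RingEquiv.ofBijective (AssocGr.map hfilt) hbij
  have he₁ : ∀ y, e₁ y = AssocGr.map hfilt y := fun y => rfl
  refine ⟨e₁, ?_, ?_⟩
  · intro n x hx
    obtain ⟨⟨b, hb⟩, hbx⟩ := inDeg_surjective (adic I₂) n ⟨x, hx⟩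
    have hx' : x = (inDeg (adic I₂) n ⟨b, hb⟩ : GrRing (adic I₂)) :=
      (congrArg Subtype.val hbx).symm
    obtain ⟨a, ha, hab⟩ := hsurj n b hb
    have ha' : a ∈ (adic m).F n := ha
    have h1 : e₁ (inDeg (adic m) n ⟨a, ha'⟩ : GrRing (adic m)) = x := by
      rw [he₁, map_inDeg, hx']
      congr 1
      rw [← sub_eq_zero, ← map_sub, inDeg_eq_zero_iff]
      exact hab
    rw [← h1, RingEquiv.symm_apply_apply]
    exact (inDeg (adic m) n ⟨a, ha'⟩).2
  · intro b
    rw [he₁, map_algebraMap, hψb]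

end abstract

end Groth.Agent.Helper8.CdJ
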