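import Mathlib
import Groth.Agent.Lib.Helper8.CdJ6

/-!
# Conrad–de Jong approximation: truncations and the maximal ideal
-/

set_option autoImplicit false
set_option linter.unusedSectionVars false
universe u

namespace Groth.Agent.Helper8.CdJ

/-- An ideal of an algebra over a field whose quotient is (the image of) the field is maximal. -/
theorem isMaximal_of_surjective_field {k A : Type u} [Field k] [CommRing A] [Algebra k A]
    (m : Ideal A) (hm : m ≠ ⊤)
    (hs : Function.Surjective (fun c : k => Ideal.Quotient.mk m (algebraMap k A c))) :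
    m.IsMaximal := by
  haveI : Nontrivial (A ⧸ m) := Ideal.Quotient.nontrivial_iff.2 hm
  let g : k →+* A ⧸ m := (Ideal.Quotient.mk m).comp (algebraMap k A)
  have hg : Function.Bijective g := ⟨g.injective, hs⟩
  apply Ideal.Quotient.maximal_of_isField
  exact (RingEquiv.ofBijective g hg).symm.toMulEquiv.isField (Field.toIsField k)

section trunc

variable {k P S B R : Type u} [CommRing k] [CommRing P] [CommRing S] [CommRing B] [CommRing R]
  [Algebra k P] [Algebra k S] [Algebra k B] [Algebra k R] [Algebra P S] [Algebra P B]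
  [IsScalarTower k P S] [IsScalarTower k P B]

/-- The truncation isomorphism. -/
theorem exists_truncEquiv (p : Ideal P) (ψ : B →ₐ[P] S) (π : S →ₐ[k] R)
    (hπ : Function.Surjective π) (K : Ideal B) (mR : Ideal R) (N : ℕ)
    (hD : ∀ x : S, ∃ a : P, x - algebraMap P S a ∈ (p ^ (N + 1)).map (algebraMap P S))
    (hDR : ∀ x : S, x ∈ (p ^ (N + 1)).map (algebraMap P S) → π x ∈ mR ^ (N + 1))
    (hK : ∀ x : B, π (ψ x) ∈ mR ^ (N + 1) ↔ x ∈ K ⊔ (p ^ (N + 1)).map (algebraMap P B)) :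
    ∃ θ : ((B ⧸ K) ⧸ ((p.map (algebraMap P B)).map (Ideal.Quotient.mk K)) ^ (N + 1)) ≃ₐ[k]
        (R ⧸ mR ^ (N + 1)),
      ∀ x : B, θ (Ideal.Quotient.mk _ (Ideal.Quotient.mk K x)) =
        Ideal.Quotient.mk _ (π (ψ x)) := by
  let ψk : B →ₐ[k] S := ψ.restrictScalars k
  let θ₀ : B →ₐ[k] R ⧸ mR ^ (N + 1) := (Ideal.Quotient.mkₐ k (mR ^ (N + 1))).comp (π.comp ψk)
  have hθ₀ : ∀ x, θ₀ x = Ideal.Quotient.mk _ (π (ψ x)) := fun x => rfl
  have hθ₀K : ∀ a ∈ K, θ₀ a = 0 := by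
    intro a ha
    rw [hθ₀, Ideal.Quotient.eq_zero_iff_mem, hK]
    exact Ideal.mem_sup_left ha
  let θ₁ : B ⧸ K →ₐ[k] R ⧸ mR ^ (N + 1) := Ideal.Quotient.liftₐ K θ₀ hθ₀K
  have hθ₁ : ∀ x, θ₁ (Ideal.Quotient.mk K x) = Ideal.Quotient.mk _ (π (ψ x)) := fun x => rfl
  have hsurj : Function.Surjective θ₁ := by
    intro y
    obtain ⟨y, rfl⟩ := Ideal.Quotient.mk_surjective y
    obtain ⟨z, rfl⟩ := hπ y
    obtain ⟨a, ha⟩ := hD z
    refine ⟨Ideal.Quotient.mk K (algebraMap P B a), ?_⟩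
    rw [hθ₁, AlgHom.commutes, Ideal.Quotient.eq, ← map_sub]
    have h2 : algebraMap P S a - z = -(z - algebraMap P S a) := by ring
    rw [h2]
    exact hDR _ (neg_mem ha)
  have hker : RingHom.ker θ₁.toRingHom =
      ((p.map (algebraMap P B)).map (Ideal.Quotient.mk K)) ^ (N + 1) := by
    ext y
    obtain ⟨x, rfl⟩ := Ideal.Quotient.mk_surjective y
    rw [RingHom.mem_ker]
    change θ₁ (Ideal.Quotient.mk K x) = 0 ↔ _
    rw [hθ₁, Ideal.Quotient.eq_zero_iff_mem, hK, ← Ideal.map_pow, ← Ideal.map_pow,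
      Ideal.mem_quotient_iff_mem_sup, sup_comm]
  let θ : ((B ⧸ K) ⧸ ((p.map (algebraMap P B)).map (Ideal.Quotient.mk K)) ^ (N + 1)) ≃ₐ[k]
        (R ⧸ mR ^ (N + 1)) :=
    (Ideal.quotientEquivAlgOfEq k hker.symm).trans
      (Ideal.quotientKerAlgEquivOfSurjective hsurj)
  refine ⟨θ, fun x => ?_⟩
  have h1 : θ (Ideal.Quotient.mk _ (Ideal.Quotient.mk K x)) =
      (Ideal.quotientKerAlgEquivOfSurjective hsurj)
        ((Ideal.quotientEquivAlgOfEq k hker.symm) (Ideal.Quotient.mk _ (Ideal.Quotient.mk K x))) :=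
    rfl
  rw [h1, Ideal.quotientEquivAlgOfEq_mk]
  rfl

end trunc

end Groth.Agent.Helper8.CdJ
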