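import Mathlib
import Groth.Agent.Lib.Helper8.CdJ3
import Groth.Agent.Lib.Helper8.CdJ4

/-!
# Conrad–de Jong approximation: the system of equations and its algebraic solution
-/

set_option autoImplicit false
set_option linter.unusedSectionVars false
universe u

namespace Groth.Agent.Helper8.CdJ

/-- A finite presentation of an ideal of a Noetherian ring, with generators of the relations. -/
theorem exists_presentation_ideal {S : Type u} [CommRing S] [IsNoetherianRing S] (J : Ideal S) :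
    ∃ (s : ℕ) (f : Fin s → S) (t : ℕ) (w : Fin t → Fin s → S), Ideal.span (Set.range f) = J ∧
      (∀ b, ∑ a, w b a * f a = 0) ∧
      ∀ v : Fin s → S, ∑ a, v a * f a = 0 → v ∈ Submodule.span S (Set.range w) := by
  obtain ⟨s, f, hf⟩ := Submodule.fg_iff_exists_fin_generating_family.1 (IsNoetherian.noetherian J)
  let L : (Fin s → S) →ₗ[S] S := Fintype.linearCombination S f
  have hL : ∀ v, L v = ∑ a, v a * f a := fun v => by
    simp [L, Fintype.linearCombination_apply]
  obtain ⟨t, w, hw⟩ := Submodule.fg_iff_exists_fin_generating_family.1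
    (IsNoetherian.noetherian (LinearMap.ker L))
  refine ⟨s, f, t, w, hf, fun b => ?_, fun v hv => ?_⟩
  · rw [← hL]
    have : w b ∈ LinearMap.ker L := by
      rw [← hw]; exact Submodule.subset_span ⟨b, rfl⟩
    exact this
  · rw [hw, LinearMap.mem_ker, hL]
    exact hv

section system

variable (k : Type u) [Field k] (r : ℕ) {s t n l : ℕ}

/-- The unknowns of the system. -/
abbrev Var (s t n l : ℕ) : Type := (Fin s ⊕ Fin t × Fin s) ⊕ (Fin n ⊕ Fin l × Fin s)

/-- The equations of the system: relations among the `f`, and membership of the `g i (y)` in the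
ideal generated by the `f`. -/
noncomputable def eqn (g : Fin l → MvPolynomial (Fin n) (Pol k r)) :
    Fin t ⊕ Fin l → MvPolynomial (Var s t n l) (Pol k r)
  | Sum.inl b => ∑ a, MvPolynomial.X (Sum.inl (Sum.inr (b, a))) * MvPolynomial.X (Sum.inl (Sum.inl a))
  | Sum.inr i => MvPolynomial.rename (fun j => Sum.inr (Sum.inl j)) (g i) -
      ∑ a, MvPolynomial.X (Sum.inr (Sum.inr (i, a))) * MvPolynomial.X (Sum.inl (Sum.inl a))

theorem aeval_eqn_inl {B : Type u} [CommRing B] [Algebra (Pol k r) B]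
    (g : Fin l → MvPolynomial (Fin n) (Pol k r)) (v : Var s t n l → B) (b : Fin t) :
    MvPolynomial.aeval v (eqn k r g (Sum.inl b)) =
      ∑ a, v (Sum.inl (Sum.inr (b, a))) * v (Sum.inl (Sum.inl a)) := by
  simp [eqn]

theorem aeval_eqn_inr {B : Type u} [CommRing B] [Algebra (Pol k r) B]
    (g : Fin l → MvPolynomial (Fin n) (Pol k r)) (v : Var s t n l → B) (i : Fin l) :
    MvPolynomial.aeval v (eqn k r g (Sum.inr i)) =
      MvPolynomial.aeval (fun j => v (Sum.inr (Sum.inl j))) (g i) -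
      ∑ a, v (Sum.inr (Sum.inr (i, a))) * v (Sum.inl (Sum.inl a)) := by
  simp only [eqn, map_sub, map_sum, map_mul, MvPolynomial.aeval_X, MvPolynomial.aeval_rename]
  rfl

set_option maxHeartbeats 800000 in
/-- The algebraic approximation of a presentation of the ideal together with auxiliary data. -/
theorem exists_algebraic_approx (f : Fin s → Cpl k r) (w : Fin t → Fin s → Cpl k r)
    (hw : ∀ b, ∑ a, w b a * f a = 0) (g : Fin l → MvPolynomial (Fin n) (Pol k r))
    (y : Fin n → Cpl k r) (h : Fin l → Fin s → Cpl k r)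
    (hg : ∀ i, MvPolynomial.aeval y (g i) = ∑ a, h i a * f a) (M : ℕ) :
    ∃ (B : Type u) (_ : CommRing B) (_ : Algebra (Pol k r) B) (_ : Algebra.Etale (Pol k r) B)
      (ψ : B →ₐ[Pol k r] Cpl k r) (f'' : Fin s → B) (w'' : Fin t → Fin s → B) (y'' : Fin n → B)
      (h'' : Fin l → Fin s → B),
      (∀ x : B, ∃ a : Pol k r, x - algebraMap (Pol k r) B a ∈
        (org k r).map (algebraMap (Pol k r) B)) ∧
      (∀ (d : ℕ) (x : B), ψ x ∈ ((org k r) ^ d).map (algebraMap (Pol k r) (Cpl k r)) →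
        x ∈ ((org k r) ^ d).map (algebraMap (Pol k r) B)) ∧
      (∀ b, ∑ a, w'' b a * f'' a = 0) ∧
      (∀ i, MvPolynomial.aeval y'' (g i) = ∑ a, h'' i a * f'' a) ∧
      (∀ a, f a - ψ (f'' a) ∈ ((org k r) ^ (M + 1)).map (algebraMap (Pol k r) (Cpl k r))) ∧
      (∀ b a, w b a - ψ (w'' b a) ∈
        ((org k r) ^ (M + 1)).map (algebraMap (Pol k r) (Cpl k r))) ∧
      (∀ j, y j - ψ (y'' j) ∈ ((org k r) ^ (M + 1)).map (algebraMap (Pol k r) (Cpl k r))) := by
  let a₀ : Var s t n l → Cpl k r :=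
    Sum.elim (Sum.elim f (fun ba => w ba.1 ba.2)) (Sum.elim y (fun ia => h ia.1 ia.2))
  have ha₀ : ∀ j, MvPolynomial.aeval a₀ (eqn k r g j) = 0 := by
    rintro (b | i)
    · rw [aeval_eqn_inl]
      exact hw b
    · rw [aeval_eqn_inr, sub_eq_zero]
      exact hg i
  obtain ⟨P', _, _, hP'et, ψ', b, hb, happ⟩ := exists_approx k r M (eqn k r g) a₀ ha₀
  obtain ⟨B, _, _, hBet, ρ, ψ, hcomp, H1, F1⟩ := exists_refine (org k r) P' ψ'
  have hψρ : ∀ x, ψ (ρ x) = ψ' x := fun x => DFunLike.congr_fun hcomp x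
  have hb' : ∀ j, MvPolynomial.aeval (fun i => ρ (b i)) (eqn k r g j) = 0 := by
    intro j
    have h1 := MvPolynomial.comp_aeval_apply (f := b) ρ (eqn k r g j)
    rw [hb j, map_zero] at h1
    exact h1.symm
  refine ⟨B, inferInstance, inferInstance, hBet, ψ, fun a => ρ (b (Sum.inl (Sum.inl a))),
    fun b' a => ρ (b (Sum.inl (Sum.inr (b', a)))), fun j => ρ (b (Sum.inr (Sum.inl j))),
    fun i a => ρ (b (Sum.inr (Sum.inr (i, a)))), H1, F1, ?_, ?_, ?_, ?_, ?_⟩
  · intro b'
    have h1 := hb' (Sum.inl b')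
    rw [aeval_eqn_inl] at h1
    exact h1
  · intro i
    have h1 := hb' (Sum.inr i)
    rw [aeval_eqn_inr, sub_eq_zero] at h1
    exact h1
  · intro a
    rw [hψρ]
    exact happ (Sum.inl (Sum.inl a))
  · intro b' a
    rw [hψρ]
    exact happ (Sum.inl (Sum.inr (b', a)))
  · intro j
    rw [hψρ]
    exact happ (Sum.inr (Sum.inl j))

end system

end Groth.Agent.Helper8.CdJ
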