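import Mathlib
import Groth.Agent.Lib.Helper7.ArtinFun.Core

/-!
# Elements of a functor commuting with filtered colimits come from finitely presented algebras
-/

set_option autoImplicit false
universe u

namespace Groth.Agent.Helper8.FunFP

open CategoryTheory CategoryTheory.Limits Groth.Agent.Helper7.FPColim Groth.Agent.Helper7.ArtinFun

variable {A : Type u} [CommRing A]

/-- Under-category form. -/
theorem under_exists_fp (G : Under (CommRingCat.of A) ⥤ Type u)
    (hG : ∀ (J : Type u) [SmallCategory J] [IsFiltered J], PreservesColimitsOfShape J G)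
    (B : Type u) [CommRing B] [Algebra A B] (y : G.obj (objB A B)) :
    ∃ (j : Idx A B) (hj : Valid j) (yj : G.obj (objJ j)), G.map (toB j hj) yj = y := by
  have hQ : GoodFamily (Valid (A := A) (B := B)) := goodFamily_valid
  obtain ⟨hc⟩ := isColimit_cocone Valid hQ
  haveI := isFiltered_idx Valid hQ
  haveI := hG {j : Idx A B // Valid j}
  have hc' := isColimitOfPreserves G hc
  obtain ⟨j, yj, hyj⟩ := Types.jointly_surjective_of_isColimit hc' y
  exact ⟨j.1, j.2, yj, hyj⟩

set_option maxHeartbeats 1600000 in
/-- An element of `F(B)`, for a functor `F` on `A`-algebras commuting with filtered colimits,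
comes from a finitely presented `A`-algebra mapping to `B`. -/
theorem exists_fp (F : CommAlgCat.{u} A ⥤ Type u) [PreservesFilteredColimitsOfSize.{u, u} F]
    (B : Type u) [CommRing B] [Algebra A B] (y : F.obj (CommAlgCat.of A B)) :
    ∃ (C : Type u) (_ : CommRing C) (_ : Algebra A C) (_ : Algebra.FinitePresentation A C)
      (σ : C →ₐ[A] B) (yC : F.obj (CommAlgCat.of A C)), F.map (CommAlgCat.ofHom σ) yC = y := by
  let e : CommAlgCat.{u} A ≌ Under (CommRingCat.of A) := commAlgCatEquivUnder (CommRingCat.of A)
  let G : Under (CommRingCat.of A) ⥤ Type u := e.inverse ⋙ F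
  have hG : ∀ (J : Type u) [SmallCategory J] [IsFiltered J], PreservesColimitsOfShape J G := by
    intro J _ _
    haveI : PreservesColimitsOfShape J F := PreservesFilteredColimitsOfSize.preserves_filtered_colimits J
    infer_instance
  let η : F ≅ e.functor ⋙ G :=
    (Functor.leftUnitor F).symm ≪≫ Functor.isoWhiskerRight e.unitIso F ≪≫
      Functor.associator e.functor e.inverse F
  have hnat : ∀ {X Y : CommAlgCat.{u} A} (φ : X ⟶ Y) (x : F.obj X),
      η.hom.app Y (F.map φ x) = G.map (e.functor.map φ) (η.hom.app X x) := by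
    intro X Y φ x
    exact FunctorToTypes.naturality η.hom φ x
  have hinj : ∀ X : CommAlgCat.{u} A, Function.Injective (η.hom.app X) := by
    intro X x y hxy
    have := congrArg (η.inv.app X) hxy
    simpa using this
  have hsurj : ∀ X : CommAlgCat.{u} A, Function.Surjective (η.hom.app X) := by
    intro X y
    exact ⟨η.inv.app X y, by simp⟩
  obtain ⟨j, hj, yj, hyj⟩ := under_exists_fp G hG B (η.hom.app (CommAlgCat.of A B) y)
  obtain ⟨yC, hyC⟩ := hsurj (CommAlgCat.of A (C j)) yj
  refine ⟨C j, inferInstance, inferInstance, finitePresentation j, π j hj, yC, ?_⟩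
  apply hinj
  rw [hnat, hyC]
  exact hyj

end Groth.Agent.Helper8.FunFP
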