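import Mathlib
import Groth.Agent.Lib.Helper8.CdJ1
import Groth.Agent.Lib.Helper8.CdJ5
import Groth.Agent.Lib.Helper8.CdJ7
import Groth.Agent.Lib.Helper8.CdJ8
import Groth.Agent.Lib.Helper8.FunFP1

/-!
# Conrad–de Jong approximation: the main assembly
-/

set_option autoImplicit false
set_option linter.unusedSectionVars false
universe u

open CategoryTheory CategoryTheory.Limits

namespace Groth.Agent.Helper8.CdJ

open IsLocalRing AssocGr FiltBl.IdealFiltration

section prelim

variable (k : Type u) [Field k] (r : ℕ)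

theorem map_pow_eq (d : ℕ) :
    ((org k r) ^ d).map (algebraMap (Pol k r) (Cpl k r)) = (mCpl k r) ^ d :=
  Ideal.map_pow _ _ _

theorem dense_cpl (d : ℕ) (x : Cpl k r) : ∃ a : Pol k r,
    x - algebraMap (Pol k r) (Cpl k r) a ∈ ((org k r) ^ d).map (algebraMap (Pol k r) (Cpl k r)) :=
  Groth.Agent.Helper8.AppB.exists_sub_mem_map_pow (org k r) (org_fg k r) x d

theorem exists_C_sub_mem (a : Pol k r) : ∃ c : k, a - MvPolynomial.C c ∈ org k r := by
  refine ⟨MvPolynomial.constantCoeff a, ?_⟩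
  rw [← pow_one (org k r), MvPolynomial.mem_pow_idealOfVars_iff']
  intro x hx
  have hx0 : x = 0 := by
    have : Finsupp.degree x = 0 := by omega
    exact (Finsupp.degree_eq_zero_iff x).1 this
  subst hx0
  simp [MvPolynomial.constantCoeff_eq]

theorem one_notMem_mCpl : (1 : Cpl k r) ∉ mCpl k r := by
  intro h
  have h1 : algebraMap (Pol k r) (Cpl k r) 1 ∈
      ((org k r) ^ 1).map (algebraMap (Pol k r) (Cpl k r)) := by
    rw [map_one, pow_one]; exact h
  have h2 := mem_pow_of_algebraMap_mem (org k r) 1 1 h1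
  have h3 : (MvPolynomial.C (1 : k) : Pol k r) ∈ (org k r) ^ 1 := by
    rw [map_one]; exact h2
  rw [MvPolynomial.C_mem_pow_idealOfVars_iff] at h3
  rcases h3 with h3 | h3
  · exact one_ne_zero h3
  · exact one_ne_zero h3

theorem quot_props {B : Type u} [CommRing B] [Algebra (Pol k r) B] [Algebra k B]
    [IsScalarTower k (Pol k r) B] (ψ : B →ₐ[Pol k r] Cpl k r)
    (H1 : ∀ x : B, ∃ a : Pol k r, x - algebraMap (Pol k r) B a ∈
      (org k r).map (algebraMap (Pol k r) B))
    (F1 : ∀ (d : ℕ) (x : B), ψ x ∈ ((org k r) ^ d).map (algebraMap (Pol k r) (Cpl k r)) →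
      x ∈ ((org k r) ^ d).map (algebraMap (Pol k r) B))
    (K : Ideal B) (hK : ∀ x ∈ K, ψ x ∈ mCpl k r) :
    (((org k r).map (algebraMap (Pol k r) B)).map (Ideal.Quotient.mk K)).IsMaximal ∧
      Function.Surjective (fun c : k =>
        Ideal.Quotient.mk (((org k r).map (algebraMap (Pol k r) B)).map (Ideal.Quotient.mk K))
          (algebraMap k (B ⧸ K) c)) := by
  set m := ((org k r).map (algebraMap (Pol k r) B)).map (Ideal.Quotient.mk K) with hm
  have hKle : K ≤ (org k r).map (algebraMap (Pol k r) B) := by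
    intro x hx
    have h1 := F1 1 x (by rw [pow_one]; exact hK x hx)
    rwa [pow_one] at h1
  have hψp : ∀ x ∈ (org k r).map (algebraMap (Pol k r) B), ψ x ∈ mCpl k r := by
    have hle : (org k r).map (algebraMap (Pol k r) B) ≤ (mCpl k r).comap ψ.toRingHom := by
      rw [Ideal.map_le_iff_le_comap]
      intro y hy
      rw [Ideal.mem_comap, Ideal.mem_comap]
      change ψ (algebraMap (Pol k r) B y) ∈ _
      rw [AlgHom.commutes]
      exact Ideal.mem_map_of_mem _ hy
    exact fun x hx => hle hx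
  have hne : m ≠ ⊤ := by
    intro htop
    have h1 : (Ideal.Quotient.mk K (1 : B)) ∈ m := by rw [htop]; trivial
    rw [hm, Ideal.mem_quotient_iff_mem_sup, sup_eq_left.2 hKle] at h1
    have h2 := hψp 1 h1
    rw [map_one] at h2
    exact one_notMem_mCpl k r h2
  have hs : Function.Surjective (fun c : k => Ideal.Quotient.mk m (algebraMap k (B ⧸ K) c)) := by
    intro y
    obtain ⟨y, rfl⟩ := Ideal.Quotient.mk_surjective y
    obtain ⟨x, rfl⟩ := Ideal.Quotient.mk_surjective y
    obtain ⟨a, ha⟩ := H1 x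
    obtain ⟨c, hc⟩ := exists_C_sub_mem k r a
    refine ⟨c, ?_⟩
    change Ideal.Quotient.mk m (Ideal.Quotient.mk K (algebraMap k B c)) = _
    rw [Ideal.Quotient.eq, ← map_sub]
    apply Ideal.mem_map_of_mem
    have h1 : algebraMap k B c = algebraMap (Pol k r) B (MvPolynomial.C c) := by
      rw [IsScalarTower.algebraMap_apply k (Pol k r) B, MvPolynomial.algebraMap_eq]
    have h2 : algebraMap k B c - x =
        -(x - algebraMap (Pol k r) B a) - algebraMap (Pol k r) B (a - MvPolynomial.C c) := by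
      rw [h1, map_sub]; ring
    rw [h2]
    exact Ideal.sub_mem _ (neg_mem ha) (Ideal.mem_map_of_mem _ hc)
  exact ⟨isMaximal_of_surjective_field m hne hs, hs⟩

theorem ker_le_mCpl {R : Type u} [CommRing R] [Algebra k R] [IsLocalRing R]
    (π : Cpl k r →ₐ[k] R) (hπm : (mCpl k r).map π.toRingHom = maximalIdeal R) :
    RingHom.ker π.toRingHom ≤ mCpl k r := by
  intro z hz
  obtain ⟨a, ha⟩ := dense_cpl k r 1 z
  rw [pow_one] at ha
  obtain ⟨c, hc⟩ := exists_C_sub_mem k r a
  have h1 : z - algebraMap k (Cpl k r) c ∈ mCpl k r := by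
    have h0 : z - algebraMap k (Cpl k r) c = (z - algebraMap (Pol k r) (Cpl k r) a) +
        algebraMap (Pol k r) (Cpl k r) (a - MvPolynomial.C c) := by
      rw [IsScalarTower.algebraMap_apply k (Pol k r) (Cpl k r), MvPolynomial.algebraMap_eq,
        map_sub]
      ring
    rw [h0]
    exact Ideal.add_mem _ ha (Ideal.mem_map_of_mem _ hc)
  have h2 : π.toRingHom (z - algebraMap k (Cpl k r) c) ∈ maximalIdeal R := by
    rw [← hπm]; exact Ideal.mem_map_of_mem _ h1
  have hz0 : π z = 0 := hz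
  change π (z - algebraMap k (Cpl k r) c) ∈ _ at h2
  rw [map_sub, hz0, zero_sub, AlgHom.commutes] at h2
  have h3 : algebraMap k R c ∈ maximalIdeal R := by
    have := neg_mem h2
    rwa [neg_neg] at this
  by_cases hc0 : c = 0
  · subst hc0
    rw [map_zero, sub_zero] at h1
    exact h1
  · exfalso
    have hu : IsUnit (algebraMap k R c) := (IsUnit.mk0 c hc0).map _
    exact (IsLocalRing.mem_maximalIdeal _).1 h3 hu

end prelim

section main

variable (k : Type u) [Field k]

set_option maxHeartbeats 1600000 in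
theorem assemble (F : CommAlgCat.{u} k ⥤ Type u)
    (R : Type u) [CommRing R] [Algebra k R] [IsLocalRing R]
    (r : ℕ) (π : Cpl k r →ₐ[k] R) (hπ : Function.Surjective π)
    (hπm : (mCpl k r).map π.toRingHom = maximalIdeal R)
    {C : Type u} [CommRing C] [Algebra k C] (σ : C →ₐ[k] R) (ξC : F.obj (CommAlgCat.of k C))
    {n : ℕ} (πC : MvPolynomial (Fin n) k →ₐ[k] C) (hπC : Function.Surjective πC) {l : ℕ}
    (g₀ : Fin l → MvPolynomial (Fin n) k)
    (hg₀ : Ideal.span (Set.range g₀) = RingHom.ker πC.toRingHom)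
    (y : Fin n → Cpl k r) (hy : ∀ j, π (y j) = σ (πC (MvPolynomial.X j)))
    {s t : ℕ} (f : Fin s → Cpl k r) (w : Fin t → Fin s → Cpl k r)
    (hf : Ideal.span (Set.range f) = RingHom.ker π.toRingHom) (c : ℕ)
    (hc : ∀ (f' : Fin s → Cpl k r) (w' : Fin t → Fin s → Cpl k r),
      (∀ a, f' a - f a ∈ (mCpl k r) ^ (c + 1)) →
      (∀ b a, w' b a - w b a ∈ (mCpl k r) ^ (c + 1)) → (∀ b, ∑ a, w' b a * f' a = 0) →
      ∀ n, (Ideal.span (Set.range f') ⊓ (mCpl k r) ^ n) ⊔ (mCpl k r) ^ (n + 1) =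
        (Ideal.span (Set.range f) ⊓ (mCpl k r) ^ n) ⊔ (mCpl k r) ^ (n + 1))
    (N : ℕ) (B : Type u) [CommRing B] [Algebra (Pol k r) B] [Algebra.Etale (Pol k r) B]
    [Algebra k B] [IsScalarTower k (Pol k r) B]
    (ψ : B →ₐ[Pol k r] Cpl k r) (f'' : Fin s → B) (w'' : Fin t → Fin s → B) (y'' : Fin n → B)
    (H1 : ∀ x : B, ∃ a : Pol k r, x - algebraMap (Pol k r) B a ∈
        (org k r).map (algebraMap (Pol k r) B))
    (F1 : ∀ (d : ℕ) (x : B), ψ x ∈ ((org k r) ^ d).map (algebraMap (Pol k r) (Cpl k r)) →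
        x ∈ ((org k r) ^ d).map (algebraMap (Pol k r) B))
    (hrel : ∀ b, ∑ a, w'' b a * f'' a = 0)
    (hgrel : ∀ i, MvPolynomial.aeval y'' (g₀ i) ∈ Ideal.span (Set.range f''))
    (hfapp : ∀ a, f a - ψ (f'' a) ∈
      ((org k r) ^ (max c N + 1)).map (algebraMap (Pol k r) (Cpl k r)))
    (hwapp : ∀ b a, w b a - ψ (w'' b a) ∈
        ((org k r) ^ (max c N + 1)).map (algebraMap (Pol k r) (Cpl k r)))
    (hyapp : ∀ j, y j - ψ (y'' j) ∈
      ((org k r) ^ (max c N + 1)).map (algebraMap (Pol k r) (Cpl k r))) :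
    ∃ (A : Type u) (_ : CommRing A) (_ : Algebra k A) (_ : Algebra.FiniteType k A)
      (m : Ideal A) (_ : m.IsMaximal)
      (_ : Function.Surjective (fun c : k => Ideal.Quotient.mk m (algebraMap k A c)))
      (η : F.obj (CommAlgCat.of k A))
      (φ : (R ⧸ IsLocalRing.maximalIdeal R ^ (N + 1)) ≃ₐ[k] (A ⧸ m ^ (N + 1))),
      F.map (CommAlgCat.ofHom (φ.toAlgHom.comp
          (Ideal.Quotient.mkₐ k (IsLocalRing.maximalIdeal R ^ (N + 1))))) (F.map (CommAlgCat.ofHom σ) ξC) =
        F.map (CommAlgCat.ofHom (Ideal.Quotient.mkₐ k (m ^ (N + 1)))) η ∧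
      ∃ e : AssocGr.GrRing (FiltBl.IdealFiltration.adic (IsLocalRing.maximalIdeal R)) ≃+*
          AssocGr.GrRing (FiltBl.IdealFiltration.adic m),
        (∀ (n : ℕ) (x : AssocGr.GrRing (FiltBl.IdealFiltration.adic (IsLocalRing.maximalIdeal R))),
            x ∈ AssocGr.gr (FiltBl.IdealFiltration.adic (IsLocalRing.maximalIdeal R)) n →
              e x ∈ AssocGr.gr (FiltBl.IdealFiltration.adic m) n) ∧
        (∀ c : k, e (algebraMap R _ (algebraMap k R c)) = algebraMap A _ (algebraMap k A c)) := by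
  set K := Ideal.span (Set.range f'') with hK
  set K' := Ideal.span (Set.range (fun a => ψ (f'' a))) with hK'
  -- the approximations in terms of powers of the maximal ideal
  have hpow_le : ∀ d, d ≤ max c N + 1 →
      ((org k r) ^ (max c N + 1)).map (algebraMap (Pol k r) (Cpl k r)) ≤ (mCpl k r) ^ d := by
    intro d hd
    rw [map_pow_eq]
    exact Ideal.pow_le_pow_right hd
  have hf'c : ∀ a, ψ (f'' a) - f a ∈ (mCpl k r) ^ (c + 1) := fun a => by
    rw [← neg_sub]
    exact neg_mem (hpow_le (c + 1) (by omega) (hfapp a))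
  have hw'c : ∀ b a, ψ (w'' b a) - w b a ∈ (mCpl k r) ^ (c + 1) := fun b a => by
    rw [← neg_sub]
    exact neg_mem (hpow_le (c + 1) (by omega) (hwapp b a))
  have hf'N : ∀ a, ψ (f'' a) - f a ∈ (mCpl k r) ^ (N + 1) := fun a => by
    rw [← neg_sub]
    exact neg_mem (hpow_le (N + 1) (by omega) (hfapp a))
  have hrel' : ∀ b, ∑ a, ψ (w'' b a) * ψ (f'' a) = 0 := fun b => by
    have h1 := congrArg ψ (hrel b)
    rw [map_sum, map_zero] at h1
    simpa only [map_mul] using h1
  have hinit := hc (fun a => ψ (f'' a)) (fun b a => ψ (w'' b a)) hf'c hw'c hrel'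
  have hD := dense_cpl k r
  -- the graded isomorphism on the side of the completion
  obtain ⟨e₀, he₀⟩ := exists_grEquiv π.toRingHom hπ (Ideal.Quotient.mk K')
    Ideal.Quotient.mk_surjective (mCpl k r) (maximalIdeal R)
    ((mCpl k r).map (Ideal.Quotient.mk K')) hπm rfl (by
      intro d
      rw [← hf, Ideal.mk_ker]
      exact (hinit d).symm)
  -- the graded isomorphism between the algebraic and the formal quotient
  obtain ⟨e₁, he₁deg, he₁alg⟩ := exists_grEquiv_quot (org k r) ψ F1 hD f''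
  -- the truncation
  have hDR : ∀ x : Cpl k r, x ∈ ((org k r) ^ (N + 1)).map (algebraMap (Pol k r) (Cpl k r)) →
      π x ∈ (maximalIdeal R) ^ (N + 1) := by
    intro x hx
    rw [map_pow_eq] at hx
    rw [← hπm, ← Ideal.map_pow]
    exact Ideal.mem_map_of_mem _ hx
  have hsup : K' ⊔ (mCpl k r) ^ (N + 1) = Ideal.span (Set.range f) ⊔ (mCpl k r) ^ (N + 1) :=
    span_sup_pow_eq (mCpl k r) f _ hf'N
  have hKiff : ∀ x : B, π (ψ x) ∈ (maximalIdeal R) ^ (N + 1) ↔
      x ∈ K ⊔ ((org k r) ^ (N + 1)).map (algebraMap (Pol k r) B) := by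
    intro x
    constructor
    · intro hx
      rw [← hπm, ← Ideal.map_pow] at hx
      obtain ⟨z, hz, hzx⟩ := (Ideal.mem_map_iff_of_surjective π.toRingHom hπ).1 hx
      have h1 : ψ x - z ∈ Ideal.span (Set.range f) := by
        rw [hf, RingHom.mem_ker, map_sub, sub_eq_zero]; exact hzx.symm
      have h2 : ψ x ∈ K' ⊔ ((org k r) ^ (N + 1)).map (algebraMap (Pol k r) (Cpl k r)) := by
        rw [map_pow_eq, hsup]
        have h3 : ψ x = (ψ x - z) + z := by ring
        rw [h3]
        exact Ideal.add_mem _ (Ideal.mem_sup_left h1) (Ideal.mem_sup_right hz)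
      exact mem_sup_of_map_mem (org k r) ψ F1 hD f'' (N + 1) x h2
    · intro hx
      have h2 := map_mem_sup (org k r) ψ f'' (N + 1) x hx
      rw [map_pow_eq] at h2
      change ψ x ∈ K' ⊔ _ at h2
      rw [hsup] at h2
      obtain ⟨u, hu, v, hv, huv⟩ := Submodule.mem_sup.1 h2
      rw [← huv, map_add]
      have hu0 : π u = 0 := by rw [hf] at hu; exact hu
      rw [hu0, zero_add]
      apply hDR; rw [map_pow_eq]; exact hv
  obtain ⟨θ, hθ⟩ := exists_truncEquiv (org k r) ψ π hπ K (maximalIdeal R) N (hD (N + 1)) hDR hKiff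
  -- the maximal ideal
  have hKm : ∀ x ∈ K, ψ x ∈ mCpl k r := by
    have hle : K ≤ (mCpl k r).comap ψ.toRingHom := by
      rw [hK, Ideal.span_le]
      rintro _ ⟨a, rfl⟩
      rw [SetLike.mem_coe, Ideal.mem_comap]
      change ψ (f'' a) ∈ _
      have h1 : ψ (f'' a) = f a + (ψ (f'' a) - f a) := by ring
      rw [h1]
      refine Ideal.add_mem _ (ker_le_mCpl k r π hπm ?_)
        (Ideal.pow_le_self (Nat.succ_ne_zero N) (hf'N a))
      rw [← hf]
      exact Ideal.subset_span ⟨a, rfl⟩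
    exact fun x hx => hle hx
  obtain ⟨hmax, hsurjk⟩ := quot_props k r ψ H1 F1 K hKm
  -- finite type
  haveI : Algebra.FiniteType k B :=
    Algebra.FiniteType.trans (inferInstance : Algebra.FiniteType k (Pol k r))
      (inferInstance : Algebra.FiniteType (Pol k r) B)
  have hft : Algebra.FiniteType k (B ⧸ K) :=
    Algebra.FiniteType.of_surjective (Ideal.Quotient.mkₐ k K) (Ideal.Quotient.mkₐ_surjective k K)
  -- the element of `F (B ⧸ K)`
  let τ₀ : MvPolynomial (Fin n) k →ₐ[k] B ⧸ K :=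
    (Ideal.Quotient.mkₐ k K).comp (MvPolynomial.aeval y'')
  have hτ₀ : ∀ q ∈ RingHom.ker πC, τ₀ q = 0 := by
    have hle : RingHom.ker πC.toRingHom ≤ RingHom.ker τ₀.toRingHom := by
      rw [← hg₀, Ideal.span_le]
      rintro _ ⟨i, rfl⟩
      rw [SetLike.mem_coe, RingHom.mem_ker]
      change Ideal.Quotient.mk K (MvPolynomial.aeval y'' (g₀ i)) = 0
      exact Ideal.Quotient.eq_zero_iff_mem.2 (hgrel i)
    exact fun q hq => hle hq
  let τ : C →ₐ[k] B ⧸ K := (Ideal.Quotient.liftₐ (RingHom.ker πC) τ₀ hτ₀).comp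
    (Ideal.quotientKerAlgEquivOfSurjective hπC).symm.toAlgHom
  have hτ : ∀ q, τ (πC q) = τ₀ q := by
    intro q
    have h1 : (Ideal.quotientKerAlgEquivOfSurjective hπC).symm (πC q) =
        Ideal.Quotient.mk _ q := by
      rw [AlgEquiv.symm_apply_eq]; rfl
    change (Ideal.Quotient.liftₐ _ τ₀ hτ₀)
      ((Ideal.quotientKerAlgEquivOfSurjective hπC).symm (πC q)) = _
    rw [h1]; rfl
  have hcompat : (θ.symm.toAlgHom.comp
      (Ideal.Quotient.mkₐ k ((maximalIdeal R) ^ (N + 1)))).comp σ =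
      (Ideal.Quotient.mkₐ k ((((org k r).map (algebraMap (Pol k r) B)).map
        (Ideal.Quotient.mk K)) ^ (N + 1))).comp τ := by
    have h1 : ((θ.symm.toAlgHom.comp
        (Ideal.Quotient.mkₐ k ((maximalIdeal R) ^ (N + 1)))).comp σ).comp πC =
        ((Ideal.Quotient.mkₐ k ((((org k r).map (algebraMap (Pol k r) B)).map
          (Ideal.Quotient.mk K)) ^ (N + 1))).comp τ).comp πC := by
      apply MvPolynomial.algHom_ext
      intro j
      change θ.symm (Ideal.Quotient.mk _ (σ (πC (MvPolynomial.X j)))) =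
        Ideal.Quotient.mk _ (τ (πC (MvPolynomial.X j)))
      rw [hτ, AlgEquiv.symm_apply_eq]
      change _ = θ (Ideal.Quotient.mk _ (Ideal.Quotient.mk K
        (MvPolynomial.aeval y'' (MvPolynomial.X j))))
      rw [MvPolynomial.aeval_X, hθ, ← hy, Ideal.Quotient.eq, ← map_sub]
      apply hDR
      exact Ideal.map_mono (Ideal.pow_le_pow_right (by omega)) (hyapp j)
    ext x
    obtain ⟨q, rfl⟩ := hπC x
    exact DFunLike.congr_fun h1 q
  refine ⟨B ⧸ K, inferInstance, inferInstance, hft, _, hmax, hsurjk,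
    F.map (CommAlgCat.ofHom τ) ξC, θ.symm, ?_, e₀.trans e₁.symm, ?_, ?_⟩
  · rw [← FunctorToTypes.map_comp_apply, ← FunctorToTypes.map_comp_apply,
      ← CommAlgCat.ofHom_comp, ← CommAlgCat.ofHom_comp, hcompat]
  · intro d x hx
    exact he₁deg d _ (grEquiv_mem_gr π.toRingHom hπ (Ideal.Quotient.mk K') (mCpl k r)
      (maximalIdeal R) _ hπm rfl e₀ he₀ hx)
  · intro c'
    change e₁.symm (e₀ _) = _
    rw [RingEquiv.symm_apply_eq]
    have h1 : algebraMap k R c' = π.toRingHom (algebraMap k (Cpl k r) c') := (π.commutes c').symm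
    rw [h1, grEquiv_algebraMap π.toRingHom (Ideal.Quotient.mk K') (mCpl k r) (maximalIdeal R) _
      hπm rfl e₀ he₀]
    have h2 : algebraMap k (B ⧸ K) c' = Ideal.Quotient.mk K (algebraMap k B c') := rfl
    rw [h2, he₁alg]
    congr 2
    rw [IsScalarTower.algebraMap_apply k (Pol k r) B, AlgHom.commutes,
      ← IsScalarTower.algebraMap_apply]

set_option maxHeartbeats 1600000 in
theorem main (F : CommAlgCat.{u} k ⥤ Type u)
    (hF : ∀ (J : Type u) [SmallCategory J] [IsFiltered J], PreservesColimitsOfShape J F)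
    (R : Type u) [CommRing R] [Algebra k R] [IsLocalRing R] [IsNoetherianRing R]
    [IsAdicComplete (IsLocalRing.maximalIdeal R) R]
    (hres : Function.Surjective (fun c : k => IsLocalRing.residue R (algebraMap k R c)))
    (ξ : F.obj (CommAlgCat.of k R)) (N : ℕ) :
    ∃ (A : Type u) (_ : CommRing A) (_ : Algebra k A) (_ : Algebra.FiniteType k A)
      (m : Ideal A) (_ : m.IsMaximal)
      (_ : Function.Surjective (fun c : k => Ideal.Quotient.mk m (algebraMap k A c)))
      (η : F.obj (CommAlgCat.of k A))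
      (φ : (R ⧸ IsLocalRing.maximalIdeal R ^ (N + 1)) ≃ₐ[k] (A ⧸ m ^ (N + 1))),
      F.map (CommAlgCat.ofHom (φ.toAlgHom.comp
          (Ideal.Quotient.mkₐ k (IsLocalRing.maximalIdeal R ^ (N + 1))))) ξ =
        F.map (CommAlgCat.ofHom (Ideal.Quotient.mkₐ k (m ^ (N + 1)))) η ∧
      ∃ e : AssocGr.GrRing (FiltBl.IdealFiltration.adic (IsLocalRing.maximalIdeal R)) ≃+*
          AssocGr.GrRing (FiltBl.IdealFiltration.adic m),
        (∀ (n : ℕ) (x : AssocGr.GrRing (FiltBl.IdealFiltration.adic (IsLocalRing.maximalIdeal R))),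
            x ∈ AssocGr.gr (FiltBl.IdealFiltration.adic (IsLocalRing.maximalIdeal R)) n →
              e x ∈ AssocGr.gr (FiltBl.IdealFiltration.adic m) n) ∧
        (∀ c : k, e (algebraMap R _ (algebraMap k R c)) = algebraMap A _ (algebraMap k A c)) := by
  haveI : PreservesFilteredColimitsOfSize.{u, u} F := ⟨hF⟩
  obtain ⟨C, _, _, hCfp, σ, ξC, hξC⟩ := Groth.Agent.Helper8.FunFP.exists_fp F R ξ
  obtain ⟨r, π, hπ, hπm⟩ := exists_presentation (k := k) (R := R) hres
  obtain ⟨n, πC, hπC, hkerC⟩ := hCfp.out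
  obtain ⟨l, g₀, hg₀⟩ := Submodule.fg_iff_exists_fin_generating_family.1 hkerC
  choose y hy using fun j => hπ (σ (πC (MvPolynomial.X j)))
  obtain ⟨s, f, t, w, hf, hw, hex⟩ := exists_presentation_ideal (RingHom.ker π.toRingHom)
  have key : ∀ q : MvPolynomial (Fin n) k, π (MvPolynomial.aeval y q) = σ (πC q) := by
    intro q
    have h1 : π.comp (MvPolynomial.aeval y) = σ.comp πC := by
      apply MvPolynomial.algHom_ext
      intro j
      simp [hy]
    exact DFunLike.congr_fun h1 q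
  have hmem : ∀ i, MvPolynomial.aeval y (g₀ i) ∈ Ideal.span (Set.range f) := by
    intro i
    rw [hf, RingHom.mem_ker]
    change π (MvPolynomial.aeval y (g₀ i)) = 0
    rw [key]
    have h1 : g₀ i ∈ RingHom.ker πC.toRingHom := by
      rw [← hg₀]; exact Submodule.subset_span ⟨i, rfl⟩
    have h2 : πC (g₀ i) = 0 := h1
    rw [h2, map_zero]
  choose h hh using fun i => Ideal.mem_span_range_iff_exists_fun.1 (hmem i)
  let g : Fin l → MvPolynomial (Fin n) (Pol k r) := fun i =>
    MvPolynomial.map (algebraMap k (Pol k r)) (g₀ i)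
  have hg : ∀ i, MvPolynomial.aeval y (g i) = ∑ a, h i a * f a := by
    intro i
    rw [hh i]
    exact MvPolynomial.aeval_map_algebraMap (Pol k r) y (g₀ i)
  obtain ⟨c, hc⟩ := initial_ideal_eq (mCpl k r) f w hex
  obtain ⟨B, _, _, hBet, ψ, f'', w'', y'', h'', H1, F1, hrel, hgrel, hfapp, hwapp, hyapp⟩ :=
    exists_algebraic_approx k r f w hw g y h hg (max c N)
  letI : Algebra k B := ((algebraMap (Pol k r) B).comp (algebraMap k (Pol k r))).toAlgebra
  haveI : IsScalarTower k (Pol k r) B := IsScalarTower.of_algebraMap_eq (fun _ => rfl)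
  have hgrel' : ∀ i, MvPolynomial.aeval y'' (g₀ i) ∈ Ideal.span (Set.range f'') := by
    intro i
    have h1 : MvPolynomial.aeval y'' (g₀ i) = MvPolynomial.aeval y'' (g i) :=
      (MvPolynomial.aeval_map_algebraMap (Pol k r) y'' (g₀ i)).symm
    rw [h1, hgrel i]
    exact Ideal.sum_mem _ fun a _ => Ideal.mul_mem_left _ _ (Ideal.subset_span ⟨a, rfl⟩)
  rw [← hξC]
  exact assemble k F R r π hπ hπm σ ξC πC hπC g₀ hg₀ y hy f w hf c hc N B ψ f'' w'' y''
    H1 F1 hrel hgrel' hfapp hwapp hyapp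

end main

end Groth.Agent.Helper8.CdJ
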