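import Mathlib
import Groth.Agent.Lib.Helper8.CdJ9
import Groth.Agent.Lib.Helper8.CdJ11
import Groth.Agent.Lib.Helper8.CdJ12

/-!
# Algebraization of versal formal objects (Conrad–de Jong): the main theorem
-/

set_option autoImplicit false
set_option linter.unusedSectionVars false
universe u

open CategoryTheory CategoryTheory.Limits

namespace Groth.Agent.Helper8.CdJ

open IsLocalRing AssocGr FiltBl.IdealFiltration

set_option maxHeartbeats 1600000 in
theorem main_versal (k : Type u) [Field k]
    (F : CommAlgCat.{u} k ⥤ Type u)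
    (hF : ∀ (J : Type u) [SmallCategory J] [IsFiltered J], PreservesColimitsOfShape J F)
    (R : Type u) [CommRing R] [Algebra k R] [IsLocalRing R] [IsNoetherianRing R]
    [IsAdicComplete (IsLocalRing.maximalIdeal R) R]
    (hres : Function.Surjective (fun c : k => IsLocalRing.residue R (algebraMap k R c)))
    (ξ : F.obj (CommAlgCat.of k R))
    (hvers : Versal F ξ) :
    ∃ (A : Type u) (_ : CommRing A) (_ : Algebra k A) (_ : Algebra.FiniteType k A)
      (m : Ideal A) (_ : m.IsMaximal)
      (_ : Function.Surjective (fun c : k => Ideal.Quotient.mk m (algebraMap k A c)))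
      (η : F.obj (CommAlgCat.of k A))
      (α : R ≃+* AdicCompletion m A),
      (∀ c : k, α (algebraMap k R c) = algebraMap A (AdicCompletion m A) (algebraMap k A c)) ∧
      ∀ (n : ℕ) (ψ : R →ₐ[k] A ⧸ m ^ (n + 1)),
        ψ.toRingHom = (AdicCompletion.evalₐ m (n + 1) :
            AdicCompletion m A →ₐ[A] A ⧸ m ^ (n + 1)).toRingHom.comp α.toRingHom →
          F.map (CommAlgCat.ofHom ψ) ξ =
            F.map (CommAlgCat.ofHom (Ideal.Quotient.mkₐ k (m ^ (n + 1)))) η := by
  obtain ⟨A, _, _, hft, m, hmax, hs, η, φ, hφ, e, _, _⟩ := main k F hF R hres ξ 1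
  haveI := hmax
  haveI : IsNoetherianRing A := Algebra.FiniteType.isNoetherianRing k A
  let l₀ : Lift F ξ m η 0 :=
    ⟨φ.toAlgHom.comp (Ideal.Quotient.mkₐ k (maximalIdeal R ^ (1 + 1))), hφ⟩
  let G : ∀ n, R →ₐ[k] A ⧸ m ^ (n + 2) := fun n => (seq F ξ m η hs hvers l₀ n).g
  have hG : ∀ n, (Ideal.Quotient.factorₐ k
      (Ideal.pow_le_pow_right (by omega : n + 2 ≤ n + 1 + 2))).comp (G (n + 1)) = G n :=
    seq_succ F ξ m η hs hvers l₀
  have hf : ∀ {a b : ℕ} (hle : a ≤ b),
      (Ideal.Quotient.factorₐ k (Ideal.pow_le_pow_right hle)).comp (fam m G b) = fam m G a :=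
    fun hle => fam_compat m G hG hle
  have hf2 : Function.Surjective (fam m G 2) := by
    change Function.Surjective
      (φ.toAlgHom.comp (Ideal.Quotient.mkₐ k (maximalIdeal R ^ (1 + 1))))
    exact φ.surjective.comp (Ideal.Quotient.mkₐ_surjective k _)
  have hbij := lift_bijective m hs (fam m G) hf hf2 e
  let α : R ≃+* AdicCompletion m A :=
    RingEquiv.ofBijective (AdicCompletion.liftAlgHom m (fam m G) hf).toRingHom hbij
  have hα : ∀ x, α x = AdicCompletion.liftAlgHom m (fam m G) hf x := fun x => rfl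
  refine ⟨A, inferInstance, inferInstance, hft, m, hmax, hs, η, α, ?_, ?_⟩
  · intro c
    rw [hα, AlgHom.commutes, IsScalarTower.algebraMap_apply k A]
  · intro n ψ hψ
    have h1 : ψ = fam m G (n + 1) := by
      ext x
      have h2 := DFunLike.congr_fun hψ x
      change ψ x = AdicCompletion.evalₐ m (n + 1) (α x) at h2
      rw [h2, hα, AdicCompletion.evalₐ_liftAlgHom]
    rw [h1]
    match n with
    | 0 =>
      change F.map (CommAlgCat.ofHom ((Ideal.Quotient.factorₐ k _).comp (G 0))) ξ = _
      rw [CommAlgCat.ofHom_comp, FunctorToTypes.map_comp_apply,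
        (seq F ξ m η hs hvers l₀ 0).hg, ← FunctorToTypes.map_comp_apply,
        ← CommAlgCat.ofHom_comp, Ideal.Quotient.factorₐ_comp_mk]
    | n + 1 => exact (seq F ξ m η hs hvers l₀ n).hg

end Groth.Agent.Helper8.CdJ
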