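import Groth.Agent.Lib.Helper6.ExtCechH0
import Groth.Agent.Lib.Helper8.LC38
import Groth.Agent.Lib.Helper8.LC12

set_option autoImplicit false
universe u
open CategoryTheory CategoryTheory.Limits Opposite

namespace Groth.Agent.Helper8.Cech

open Groth.Agent.Lib.Helper6.ExtCech Groth.Agent.Helper8.LC

variable {R : Type u} [CommRing R] [IsNoetherianRing R]

/-- over a Noetherian ring an injective module surjects onto its localization at an element. -/
lemma mkLinearMap_surjective_of_injective (E : Type u) [AddCommGroup E] [Module R E]
    [Module.Injective R E] (f : R) :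
    Function.Surjective (LocalizedModule.mkLinearMap (Submonoid.powers f) E) := by
  intro z
  induction z using LocalizedModule.induction_on with
  | h e s =>
    obtain ⟨n, hn⟩ := s.2
    obtain ⟨e', m, hm⟩ := exists_div_of_injective E f n e
    refine ⟨e', ?_⟩
    rw [LocalizedModule.mkLinearMap_apply, LocalizedModule.mk_eq]
    refine ⟨⟨f ^ m, m, rfl⟩, ?_⟩
    rw [smul_sub, sub_eq_zero] at hm
    rw [one_smul]
    change f ^ m • (s : R) • e' = f ^ m • e
    rw [hm, ← hn]

theorem isZero_extCechH_pos_of_injective : ∀ (fs : List R) (E : Type u) [AddCommGroup E]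
    [Module R E] [Module.Injective R E] (q : ℤ), 1 ≤ q →
    IsZero (DerCA.extCechH fs (ModuleCat.of R E) q) := by
  intro fs
  induction fs with
  | nil =>
    intro E _ _ _ q hq
    exact s9264 [] (ModuleCat.of R E) q (Or.inr (by simp only [List.length_nil, Nat.cast_zero]; omega))
  | cons f fs ih =>
    intro E _ _ _ q hq
    let K := DerCA.extCech (ModuleCat.of R E) fs
    let S := Submonoid.powers f
    let φ := DerCA.locCxUnit S K
    rw [ModuleCat.isZero_iff_subsingleton]
    apply subsingleton_of_forall_eq 0
    intro x
    have hKq : IsZero (K.homology q) := ih E q hq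
    have hx0 : HomologicalComplex.homologyMap (CochainComplex.mappingCocone.fst φ) q x = 0 :=
      (ModuleCat.isZero_iff_subsingleton.mp hKq).elim _ _
    by_cases hq1 : q = 1
    · subst hq1
      obtain ⟨z, rfl⟩ := exists_delta_eq φ 0 1 (by norm_num) x hx0
      -- `H^0(K)` is an injective module
      obtain ⟨e0⟩ := s17776 fs E
      haveI : Module.Injective R (DRing.torsionSub (Ideal.span {x | x ∈ fs}) E) :=
        torsionSub_injective _ E
      haveI h1 : Injective (ModuleCat.of R (DRing.torsionSub (Ideal.span {x | x ∈ fs}) E)) :=
        Module.injective_object_of_injective_module R _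
      haveI h2 : Injective (K.homology 0) := Injective.of_iso e0.symm h1
      haveI h3 : Module.Injective R (K.homology 0) :=
        Module.injective_module_of_injective_object R (K.homology 0)
      obtain ⟨a, b, hab⟩ := exists_isos S K 0
      obtain ⟨w0, hw0⟩ := mkLinearMap_surjective_of_injective (K.homology 0) f (b.hom z)
      have hz : HomologicalComplex.homologyMap φ 0 (a.inv w0) = z := by
        rw [hab]
        change b.inv ((DerCA.locUnit S).app (K.homology 0) (a.hom (a.inv w0))) = z
        rw [iso_inv_hom_apply]
        change b.inv (LocalizedModule.mkLinearMap S (K.homology 0) w0) = z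
        rw [hw0, iso_hom_inv_apply]
      rw [← hz]
      exact delta_map φ 0 1 (by norm_num) _
    · obtain ⟨z, rfl⟩ := exists_delta_eq φ (q - 1) q (by omega) x hx0
      obtain ⟨s, w, hw⟩ := exists_smul_eq_map S K (q - 1) z
      have hK' : IsZero (K.homology (q - 1)) := ih E (q - 1) (by omega)
      have hw0 : w = 0 := (ModuleCat.isZero_iff_subsingleton.mp hK').elim _ _
      rw [hw0, map_zero] at hw
      rw [eq_zero_of_smul_eq_zero S K (q - 1) z s hw]
      exact map_zero _

end Groth.Agent.Helper8.Cech
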