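import Mathlib

set_option autoImplicit false
universe u
open CategoryTheory CategoryTheory.Limits Opposite

namespace Groth.Agent.Helper8.Cech

open CochainComplex HomComplex

section General

variable {C : Type*} [Category C] [Preadditive C] [HasBinaryBiproducts C]
  {K₁ L₁ K₂ L₂ : CochainComplex C ℤ} (φ₁ : K₁ ⟶ L₁) (φ₂ : K₂ ⟶ L₂)
  (a : K₁ ⟶ K₂) (b : L₁ ⟶ L₂) (comm : φ₁ ≫ b = a ≫ φ₂)

lemma inl_v_map_f (p q : ℤ) (hpq : p + (-1) = q) :
    (mappingCone.inl φ₁).v p q hpq ≫ (mappingCone.map φ₁ φ₂ a b comm).f q =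
      a.f p ≫ (mappingCone.inl φ₂).v p q hpq := by
  simp [mappingCone.map]

lemma inr_f_map_f (p : ℤ) :
    (mappingCone.inr φ₁).f p ≫ (mappingCone.map φ₁ φ₂ a b comm).f p =
      b.f p ≫ (mappingCone.inr φ₂).f p := by
  simp [mappingCone.map]

lemma map_f_fst_v (p q : ℤ) (hpq : p + 1 = q) :
    (mappingCone.map φ₁ φ₂ a b comm).f p ≫ (mappingCone.fst φ₂).1.v p q hpq =
      (mappingCone.fst φ₁).1.v p q hpq ≫ a.f q := by
  rw [mappingCone.ext_from_iff φ₁ q p hpq]
  constructor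
  · rw [reassoc_of% (inl_v_map_f φ₁ φ₂ a b comm q p (by omega))]
    simp
  · rw [reassoc_of% (inr_f_map_f φ₁ φ₂ a b comm p)]
    simp

lemma map_f_snd_v (p : ℤ) :
    (mappingCone.map φ₁ φ₂ a b comm).f p ≫ (mappingCone.snd φ₂).v p p (add_zero p) =
      (mappingCone.snd φ₁).v p p (add_zero p) ≫ b.f p := by
  rw [mappingCone.ext_from_iff φ₁ (p + 1) p rfl]
  constructor
  · rw [reassoc_of% (inl_v_map_f φ₁ φ₂ a b comm (p + 1) p (by omega))]
    simp
  · rw [reassoc_of% (inr_f_map_f φ₁ φ₂ a b comm p)]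
    simp

end General


section ModuleCat

variable {R : Type u} [Ring R]

/-- a degreewise short exact sequence of complexes of modules. -/
def DegSE {K' K K'' : CochainComplex (ModuleCat.{u} R) ℤ} (α : K' ⟶ K) (β : K ⟶ K'') : Prop :=
  ∀ n : ℤ, Function.Injective (α.f n) ∧ Function.Exact (α.f n) (β.f n) ∧
    Function.Surjective (β.f n)

variable {K' K K'' L' L L'' : CochainComplex (ModuleCat.{u} R) ℤ}
  (φ' : K' ⟶ L') (φ : K ⟶ L) (φ'' : K'' ⟶ L'')
  (a' : K' ⟶ K) (a'' : K ⟶ K'') (b' : L' ⟶ L) (b'' : L ⟶ L'')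
  (comm' : φ' ≫ b' = a' ≫ φ) (comm'' : φ ≫ b'' = a'' ≫ φ'')

section elements

variable {K₁ L₁ K₂ L₂ : CochainComplex (ModuleCat.{u} R) ℤ} (φ₁ : K₁ ⟶ L₁) (φ₂ : K₂ ⟶ L₂)
  (a : K₁ ⟶ K₂) (b : L₁ ⟶ L₂) (comm : φ₁ ≫ b = a ≫ φ₂)

lemma cone_decomp (n : ℤ) (x : (mappingCone φ₁).X n) :
    x = (mappingCone.inl φ₁).v (n + 1) n (by omega)
        ((mappingCone.fst φ₁).1.v n (n + 1) rfl x) +
      (mappingCone.inr φ₁).f n ((mappingCone.snd φ₁).v n n (add_zero n) x) := by
  have h := congrArg (fun g => g.hom x) (mappingCone.id_X φ₁ n (n + 1) rfl)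
  simpa using h.symm

lemma cone_ext (n : ℤ) (x y : (mappingCone φ₁).X n)
    (h1 : (mappingCone.fst φ₁).1.v n (n + 1) rfl x = (mappingCone.fst φ₁).1.v n (n + 1) rfl y)
    (h2 : (mappingCone.snd φ₁).v n n (add_zero n) x = (mappingCone.snd φ₁).v n n (add_zero n) y) :
    x = y := by
  rw [cone_decomp φ₁ n x, cone_decomp φ₁ n y, h1, h2]

lemma fst_map_apply (n : ℤ) (x : (mappingCone φ₁).X n) :
    (mappingCone.fst φ₂).1.v n (n + 1) rfl ((mappingCone.map φ₁ φ₂ a b comm).f n x) =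
      a.f (n + 1) ((mappingCone.fst φ₁).1.v n (n + 1) rfl x) := by
  have h := congrArg (fun g => g.hom x) (map_f_fst_v φ₁ φ₂ a b comm n (n + 1) rfl)
  simpa using h

lemma snd_map_apply (n : ℤ) (x : (mappingCone φ₁).X n) :
    (mappingCone.snd φ₂).v n n (add_zero n) ((mappingCone.map φ₁ φ₂ a b comm).f n x) =
      b.f n ((mappingCone.snd φ₁).v n n (add_zero n) x) := by
  have h := congrArg (fun g => g.hom x) (map_f_snd_v φ₁ φ₂ a b comm n)
  simpa using h

lemma map_inl_apply (n : ℤ) (u : K₁.X (n + 1)) :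
    (mappingCone.map φ₁ φ₂ a b comm).f n ((mappingCone.inl φ₁).v (n + 1) n (by omega) u) =
      (mappingCone.inl φ₂).v (n + 1) n (by omega) (a.f (n + 1) u) := by
  have h := congrArg (fun g => g.hom u) (inl_v_map_f φ₁ φ₂ a b comm (n + 1) n (by omega))
  simpa using h

lemma map_inr_apply (n : ℤ) (v : L₁.X n) :
    (mappingCone.map φ₁ φ₂ a b comm).f n ((mappingCone.inr φ₁).f n v) =
      (mappingCone.inr φ₂).f n (b.f n v) := by
  have h := congrArg (fun g => g.hom v) (inr_f_map_f φ₁ φ₂ a b comm n)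
  simpa using h

lemma fst_inl_apply (n : ℤ) (u : K₁.X (n + 1)) :
    (mappingCone.fst φ₁).1.v n (n + 1) rfl ((mappingCone.inl φ₁).v (n + 1) n (by omega) u) = u := by
  rw [← ConcreteCategory.comp_apply, mappingCone.inl_v_fst_v]
  rfl

lemma snd_inl_apply (n : ℤ) (u : K₁.X (n + 1)) :
    (mappingCone.snd φ₁).v n n (add_zero n)
      ((mappingCone.inl φ₁).v (n + 1) n (by omega) u) = 0 := by
  rw [← ConcreteCategory.comp_apply, mappingCone.inl_v_snd_v]
  rfl

lemma fst_inr_apply (n : ℤ) (v : L₁.X n) :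
    (mappingCone.fst φ₁).1.v n (n + 1) rfl ((mappingCone.inr φ₁).f n v) = 0 := by
  rw [← ConcreteCategory.comp_apply, mappingCone.inr_f_fst_v]
  rfl

lemma snd_inr_apply (n : ℤ) (v : L₁.X n) :
    (mappingCone.snd φ₁).v n n (add_zero n) ((mappingCone.inr φ₁).f n v) = v := by
  rw [← ConcreteCategory.comp_apply, mappingCone.inr_f_snd_v]
  rfl

end elements

include comm' comm'' in
/-- the mapping cone of a degreewise short exact sequence of arrows is degreewise short exact. -/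
theorem degSE_cone (ha : DegSE a' a'') (hb : DegSE b' b'') :
    DegSE (mappingCone.map φ' φ a' b' comm') (mappingCone.map φ φ'' a'' b'' comm'') := by
  intro n
  obtain ⟨ha1, ha2, ha3⟩ := ha (n + 1)
  obtain ⟨hb1, hb2, hb3⟩ := hb n
  refine ⟨?_, ?_, ?_⟩
  · intro x y hxy
    apply cone_ext φ' n
    · apply ha1
      rw [← fst_map_apply φ' φ a' b' comm', ← fst_map_apply φ' φ a' b' comm', hxy]
    · apply hb1
      rw [← snd_map_apply φ' φ a' b' comm', ← snd_map_apply φ' φ a' b' comm', hxy]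
  · intro x
    constructor
    · intro hx
      have h1 : a''.f (n + 1) ((mappingCone.fst φ).1.v n (n + 1) rfl x) = 0 := by
        rw [← fst_map_apply φ φ'' a'' b'' comm'', hx, map_zero]
      have h2 : b''.f n ((mappingCone.snd φ).v n n (add_zero n) x) = 0 := by
        rw [← snd_map_apply φ φ'' a'' b'' comm'', hx, map_zero]
      obtain ⟨u, hu⟩ := (ha2 _).mp h1
      obtain ⟨v, hv⟩ := (hb2 _).mp h2
      refine ⟨(mappingCone.inl φ').v (n + 1) n (by omega) u + (mappingCone.inr φ').f n v, ?_⟩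
      rw [map_add, map_inl_apply, map_inr_apply, hu, hv]
      exact (cone_decomp φ n x).symm
    · rintro ⟨y, rfl⟩
      apply cone_ext φ'' n
      · rw [fst_map_apply, fst_map_apply, map_zero]
        exact (ha2 _).mpr ⟨_, rfl⟩
      · rw [snd_map_apply, snd_map_apply, map_zero]
        exact (hb2 _).mpr ⟨_, rfl⟩
  · intro y
    obtain ⟨u, hu⟩ := ha3 ((mappingCone.fst φ'').1.v n (n + 1) rfl y)
    obtain ⟨v, hv⟩ := hb3 ((mappingCone.snd φ'').v n n (add_zero n) y)
    refine ⟨(mappingCone.inl φ).v (n + 1) n (by omega) u + (mappingCone.inr φ).f n v, ?_⟩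
    rw [map_add, map_inl_apply, map_inr_apply, hu, hv]
    exact (cone_decomp φ'' n y).symm

end ModuleCat

end Groth.Agent.Helper8.Cech
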