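import Groth.Agent.Lib.Helper8.Cech2
import Groth.Agent.Lib.Helper8.Cech1

set_option autoImplicit false
universe u
open CategoryTheory CategoryTheory.Limits Opposite

namespace Groth.Agent.Helper8.Cech

open CochainComplex HomComplex DerCA

variable {R : Type u} [CommRing R]

section Cocone

variable {K₁ L₁ K₂ L₂ : CochainComplex (ModuleCat.{u} R) ℤ} (φ₁ : K₁ ⟶ L₁) (φ₂ : K₂ ⟶ L₂)
  (a : K₁ ⟶ K₂) (b : L₁ ⟶ L₂) (comm : φ₁ ≫ b = a ≫ φ₂)

/-- the map induced on mapping cocones by a commutative square. -/
noncomputable def coconeMap : mappingCocone φ₁ ⟶ mappingCocone φ₂ :=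
  (mappingCone.map φ₁ φ₂ a b comm)⟦(-1 : ℤ)⟧'

lemma coconeMap_f (n : ℤ) :
    (coconeMap φ₁ φ₂ a b comm).f n = (mappingCone.map φ₁ φ₂ a b comm).f (n + (-1)) := rfl

lemma coconeMap_fst :
    coconeMap φ₁ φ₂ a b comm ≫ mappingCocone.fst φ₂ = mappingCocone.fst φ₁ ≫ a := by
  ext n x
  simp only [HomologicalComplex.comp_f, coconeMap_f]
  simp [mappingCocone.fst, Cochain.leftShift_v (n := 1) _ _ _ _ _ n _ (n + -1) (by lia)]
  have h := map_f_fst_v φ₁ φ₂ a b comm (n + -1) n (by omega)
  erw [neg_neg, neg_neg, Category.id_comp, Category.id_comp]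
  exact congrArg (fun g => g.hom x) h

end Cocone


section CechMap

lemma locCxUnit_naturality (S : Submonoid R) {K₁ K₂ : DRing.Cx R} (a : K₁ ⟶ K₂) :
    locCxUnit S K₁ ≫ (locCx S).map a = a ≫ locCxUnit S K₂ := by
  refine HomologicalComplex.hom_ext _ _ (fun i => ?_)
  exact ((locUnit S).naturality (a.f i)).symm

/-- the map of extended Čech complexes induced by a module map. -/
noncomputable def cechMap {M N : ModuleCat.{u} R} (g : M ⟶ N) :
    ∀ fs : List R, extCech M fs ⟶ extCech N fs
  | [] => (HomologicalComplex.single (ModuleCat.{u} R) (ComplexShape.up ℤ) 0).map g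
  | f :: fs => coconeMap (locCxUnit (Submonoid.powers f) (extCech M fs))
      (locCxUnit (Submonoid.powers f) (extCech N fs)) (cechMap g fs)
      ((locCx (Submonoid.powers f)).map (cechMap g fs)) (locCxUnit_naturality _ _)

lemma cechMap_cons {M N : ModuleCat.{u} R} (g : M ⟶ N) (f : R) (fs : List R) :
    cechMap g (f :: fs) = coconeMap (locCxUnit (Submonoid.powers f) (extCech M fs))
      (locCxUnit (Submonoid.powers f) (extCech N fs)) (cechMap g fs)
      ((locCx (Submonoid.powers f)).map (cechMap g fs)) (locCxUnit_naturality _ _) := rfl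

/-- the augmentation of the extended Čech complex. -/
noncomputable def aug (M : ModuleCat.{u} R) : ∀ fs : List R,
    extCech M fs ⟶ (HomologicalComplex.single (ModuleCat.{u} R) (ComplexShape.up ℤ) 0).obj M
  | [] => 𝟙 _
  | f :: fs => mappingCocone.fst (locCxUnit (Submonoid.powers f) (extCech M fs)) ≫ aug M fs

lemma cechMap_aug {M N : ModuleCat.{u} R} (g : M ⟶ N) : ∀ fs : List R,
    cechMap g fs ≫ aug N fs =
      aug M fs ≫ (HomologicalComplex.single (ModuleCat.{u} R) (ComplexShape.up ℤ) 0).map g
  | [] => (Category.comp_id _).trans (Category.id_comp _).symm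
  | f :: fs => by
    change coconeMap _ _ _ _ _ ≫ (mappingCocone.fst _ ≫ aug N fs) =
      (mappingCocone.fst _ ≫ aug M fs) ≫ _
    rw [← Category.assoc, coconeMap_fst, Category.assoc, cechMap_aug g fs, Category.assoc]

end CechMap


section Exactness

lemma degSE_single {M' M M'' : ModuleCat.{u} R} (f : M' ⟶ M) (g : M ⟶ M'')
    (hf : Function.Injective f) (hfg : Function.Exact f g) (hg : Function.Surjective g) :
    DegSE ((HomologicalComplex.single (ModuleCat.{u} R) (ComplexShape.up ℤ) 0).map f)
      ((HomologicalComplex.single (ModuleCat.{u} R) (ComplexShape.up ℤ) 0).map g) := by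
  intro n
  by_cases hn : n = 0
  · subst hn
    rw [HomologicalComplex.single_map_f_self, HomologicalComplex.single_map_f_self]
    let e' := HomologicalComplex.singleObjXSelf (ComplexShape.up ℤ) 0 M'
    let e := HomologicalComplex.singleObjXSelf (ComplexShape.up ℤ) 0 M
    let e'' := HomologicalComplex.singleObjXSelf (ComplexShape.up ℤ) 0 M''
    have he' : Function.Bijective e'.hom := (ConcreteCategory.isIso_iff_bijective e'.hom).mp
      inferInstance
    have hei : Function.Bijective e.inv := (ConcreteCategory.isIso_iff_bijective e.inv).mp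
      inferInstance
    have hei'' : Function.Bijective e''.inv := (ConcreteCategory.isIso_iff_bijective e''.inv).mp
      inferInstance
    refine ⟨?_, ?_, ?_⟩
    · intro x y hxy
      apply he'.1
      apply hf
      apply hei.1
      exact hxy
    · intro y
      constructor
      · intro hy
        have h1 : g (e.hom y) = 0 := by
          apply hei''.1
          rw [map_zero]
          exact hy
        obtain ⟨u, hu⟩ := (hfg _).mp h1
        obtain ⟨v, rfl⟩ := he'.2 u
        refine ⟨v, ?_⟩
        change e.inv (f (e'.hom v)) = y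
        rw [hu]
        exact Groth.Agent.Lib.Helper6.ExtCech.iso_hom_inv_apply e y
      · rintro ⟨v, rfl⟩
        change e''.inv (g (e.hom (e.inv (f (e'.hom v))))) = 0
        rw [Groth.Agent.Lib.Helper6.ExtCech.iso_inv_hom_apply e, (hfg _).mpr ⟨_, rfl⟩, map_zero]
    · intro z
      obtain ⟨w, hw⟩ := hei''.2 z
      obtain ⟨y, hy⟩ := hg w
      refine ⟨e.inv y, ?_⟩
      change e''.inv (g (e.hom (e.inv y))) = z
      rw [Groth.Agent.Lib.Helper6.ExtCech.iso_inv_hom_apply e, hy, hw]
  · have hz : ∀ A : ModuleCat.{u} R, Subsingleton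
        (((HomologicalComplex.single (ModuleCat.{u} R) (ComplexShape.up ℤ) 0).obj A).X n) :=
      fun A => ModuleCat.isZero_iff_subsingleton.mp
        (HomologicalComplex.isZero_single_obj_X (ComplexShape.up ℤ) 0 A n hn)
    haveI := hz M'
    haveI := hz M
    haveI := hz M''
    refine ⟨fun x y _ => Subsingleton.elim _ _, fun y => ⟨fun _ => ⟨0, Subsingleton.elim _ _⟩,
      fun _ => Subsingleton.elim _ _⟩, fun z => ⟨0, Subsingleton.elim _ _⟩⟩

lemma degSE_loc (S : Submonoid R) {K' K K'' : DRing.Cx R} {α : K' ⟶ K} {β : K ⟶ K''}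
    (h : DegSE α β) : DegSE ((locCx S).map α) ((locCx S).map β) := by
  intro n
  obtain ⟨h1, h2, h3⟩ := h n
  refine ⟨?_, ?_, ?_⟩
  · exact IsLocalizedModule.map_injective S (LocalizedModule.mkLinearMap S (K'.X n))
      (LocalizedModule.mkLinearMap S (K.X n)) (α.f n).hom h1
  · exact IsLocalizedModule.map_exact S (LocalizedModule.mkLinearMap S (K'.X n))
      (LocalizedModule.mkLinearMap S (K.X n)) (LocalizedModule.mkLinearMap S (K''.X n))
      (α.f n).hom (β.f n).hom h2
  · exact IsLocalizedModule.map_surjective S (LocalizedModule.mkLinearMap S (K.X n))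
      (LocalizedModule.mkLinearMap S (K''.X n)) (β.f n).hom h3

theorem degSE_cechMap {M' M M'' : ModuleCat.{u} R} (f : M' ⟶ M) (g : M ⟶ M'')
    (hf : Function.Injective f) (hfg : Function.Exact f g) (hg : Function.Surjective g) :
    ∀ fs : List R, DegSE (cechMap f fs) (cechMap g fs)
  | [] => degSE_single f g hf hfg hg
  | r :: fs => fun n =>
    degSE_cone _ _ _ _ _ _ _ (locCxUnit_naturality _ _) (locCxUnit_naturality _ _)
      (degSE_cechMap f g hf hfg hg fs)
      (degSE_loc (Submonoid.powers r) (degSE_cechMap f g hf hfg hg fs)) (n + (-1))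

end Exactness

end Groth.Agent.Helper8.Cech
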