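import Groth.Agent.Lib.Helper8.Cech3

set_option autoImplicit false
universe u
open CategoryTheory CategoryTheory.Limits Opposite

namespace Groth.Agent.Helper8.Cech

open CochainComplex HomComplex DerCA Groth.Agent.Lib.Helper6.ExtCech

variable {R : Type u} [CommRing R]

/-- the canonical map `H^0` of the extended Čech complex `→ M`. -/
noncomputable def jmap (M : ModuleCat.{u} R) (fs : List R) : extCechH fs M 0 →ₗ[R] M :=
  (HomologicalComplex.singleObjHomologySelfIso (ComplexShape.up ℤ) 0 M).hom.hom ∘ₗ
    (HomologicalComplex.homologyMap (aug M fs) 0).hom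

lemma jmap_cons (M : ModuleCat.{u} R) (f : R) (fs : List R) (x : extCechH (f :: fs) M 0) :
    jmap M (f :: fs) x = jmap M fs (HomologicalComplex.homologyMap
      (mappingCocone.fst (locCxUnit (Submonoid.powers f) (extCech M fs))) 0 x) := by
  unfold jmap
  have h : HomologicalComplex.homologyMap (aug M (f :: fs)) 0 =
      HomologicalComplex.homologyMap
        (mappingCocone.fst (locCxUnit (Submonoid.powers f) (extCech M fs))) 0 ≫
      HomologicalComplex.homologyMap (aug M fs) 0 := by
    rw [← HomologicalComplex.homologyMap_comp]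
    rfl
  rw [h]
  rfl

lemma jmap_natural {M N : ModuleCat.{u} R} (g : M ⟶ N) (fs : List R) (x : extCechH fs M 0) :
    jmap N fs (HomologicalComplex.homologyMap (cechMap g fs) 0 x) = g (jmap M fs x) := by
  unfold jmap
  have h1 : HomologicalComplex.homologyMap (cechMap g fs) 0 ≫
      HomologicalComplex.homologyMap (aug N fs) 0 =
      HomologicalComplex.homologyMap (aug M fs) 0 ≫ HomologicalComplex.homologyMap
        ((HomologicalComplex.single (ModuleCat.{u} R) (ComplexShape.up ℤ) 0).map g) 0 := by
    rw [← HomologicalComplex.homologyMap_comp, ← HomologicalComplex.homologyMap_comp,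
      cechMap_aug]
  have h2 := HomologicalComplex.singleObjHomologySelfIso_hom_naturality (ComplexShape.up ℤ) 0 g
  have h3 : (HomologicalComplex.homologyMap (cechMap g fs) 0 ≫
      HomologicalComplex.homologyMap (aug N fs) 0) ≫
      (HomologicalComplex.singleObjHomologySelfIso (ComplexShape.up ℤ) 0 N).hom =
      (HomologicalComplex.homologyMap (aug M fs) 0 ≫
      (HomologicalComplex.singleObjHomologySelfIso (ComplexShape.up ℤ) 0 M).hom) ≫ g := by
    rw [h1, Category.assoc, h2, Category.assoc]
  exact congrArg (fun k => k.hom x) h3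

theorem jmap_spec (M : ModuleCat.{u} R) : ∀ fs : List R,
    Function.Injective (jmap M fs) ∧
      ∀ m : M, m ∈ LinearMap.range (jmap M fs) ↔ ∀ f ∈ fs, ∃ n : ℕ, f ^ n • m = 0 := by
  intro fs
  induction fs with
  | nil =>
    have hbij : Function.Bijective (jmap M []) := by
      have h1 : Function.Bijective
          (HomologicalComplex.singleObjHomologySelfIso (ComplexShape.up ℤ) 0 M).hom :=
        (ConcreteCategory.isIso_iff_bijective _).1 inferInstance
      have h2 : HomologicalComplex.homologyMap (aug M []) 0 = 𝟙 _ :=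
        HomologicalComplex.homologyMap_id _ 0
      unfold jmap
      rw [h2]
      exact h1
    refine ⟨hbij.1, fun m => ⟨fun _ f hf => by simp at hf, fun _ => ?_⟩⟩
    exact LinearMap.mem_range.2 (hbij.2 m)
  | cons f fs ih =>
    obtain ⟨hj, hr⟩ := ih
    let K := DerCA.extCech M fs
    let S := Submonoid.powers f
    let φ := DerCA.locCxUnit S K
    have hL : IsZero (((DerCA.locCx S).obj K).homology (-1)) := by
      apply ShortComplex.isZero_homology_of_isZero_X₂
      exact (DerCA.locFunctor S).map_isZero (isZero_terms M fs (-1) (Or.inl (by norm_num)))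
    have hinj := fst_injective φ (-1) 0 (by norm_num) hL
    have hcons : ∀ x, jmap M (f :: fs) x = jmap M fs (HomologicalComplex.homologyMap
        (CochainComplex.mappingCocone.fst φ) 0 x) := jmap_cons M f fs
    refine ⟨?_, ?_⟩
    · intro x y hxy
      rw [hcons, hcons] at hxy
      exact hinj (hj hxy)
    intro m
    constructor
    · rintro ⟨x, rfl⟩ g hg
      rw [hcons]
      rcases List.mem_cons.1 hg with rfl | hg
      · have h0 := map_fst_map φ 0 x
        obtain ⟨s, hs⟩ := exists_smul_eq_zero S K 0 _ h0
        obtain ⟨n, hn⟩ := s.2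
        refine ⟨n, ?_⟩
        have hn' : g ^ n = (s : R) := hn
        rw [← map_smul, hn', hs, map_zero]
      · exact (hr _).1 ⟨_, rfl⟩ g hg
    · intro hm
      obtain ⟨y, rfl⟩ := (hr m).2 (fun g hg => hm g (List.mem_cons_of_mem _ hg))
      obtain ⟨n, hn⟩ := hm f List.mem_cons_self
      have hy : f ^ n • y = 0 := by
        apply hj
        rw [map_smul, hn, map_zero]
      have h0 : HomologicalComplex.homologyMap φ 0 y = 0 :=
        map_eq_zero_of_smul_eq_zero S K 0 y ⟨f ^ n, n, rfl⟩ hy
      obtain ⟨x, hx⟩ := exists_fst_eq φ 0 y h0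
      refine ⟨x, ?_⟩
      exact (hcons x).trans (congrArg (jmap M fs) hx)

end Groth.Agent.Helper8.Cech
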