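import Mathlib

/-!
# A contracting homotopy for ordered simplices with repetitions (helper8)

Formal ℤ-linear combinations of lists of elements of `ι` ("ordered simplices, repetitions allowed"),
with the usual alternating boundary `bd`.  Using cones over the least vertex we build, by recursion
on the length, a chain endomorphism `e` and a homotopy `H` with `bd H + H bd = 1 - e`, both not
enlarging the set of vertices.  `e` is alternating, hence kills every list with a repeated entry; so
for lists longer than the cardinality of `ι` one gets `bd H + H bd = 1`.  This is the combinatorial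
input for the vanishing of the Čech cohomology (full complex of ordered cochains) of a covering by
`n` open sets in degrees `≥ n`.
-/

set_option autoImplicit false
set_option linter.unusedSectionVars false
set_option linter.unusedVariables false

namespace Groth.Agent.Helper8.CechAlt

open Finsupp

/-- formal chains of lists -/
abbrev C (ι : Type*) := List ι →₀ ℤ

section Basic

variable {ι : Type*}

lemma single_eq_smul (l : List ι) (c : ℤ) : (single l c : C ι) = c • single l (1 : ℤ) := by
  rw [Finsupp.smul_single, smul_eq_mul, mul_one]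

lemma hom_ext {M : Type*} [AddCommGroup M] (φ ψ : C ι →ₗ[ℤ] M)
    (h : ∀ l, φ (single l 1) = ψ (single l 1)) : φ = ψ := by
  apply Finsupp.lhom_ext
  intro l c
  rw [single_eq_smul, map_smul, map_smul, h]

/-- the cone with vertex `a` -/
noncomputable def cone (a : ι) : C ι →ₗ[ℤ] C ι := Finsupp.lmapDomain ℤ ℤ (List.cons a)

lemma cone_single (a : ι) (l : List ι) (c : ℤ) : cone a (single l c) = single (a :: l) c := by
  simp [cone, Finsupp.lmapDomain_apply, Finsupp.mapDomain_single]

/-- the boundary of a list -/
noncomputable def D : List ι → C ι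
  | [] => 0
  | a :: l => single l 1 - cone a (D l)

lemma D_nil : D ([] : List ι) = 0 := rfl

lemma D_cons (a : ι) (l : List ι) : D (a :: l) = single l 1 - cone a (D l) := rfl

/-- the boundary operator -/
noncomputable def bd : C ι →ₗ[ℤ] C ι := Finsupp.linearCombination ℤ D

lemma bd_single (l : List ι) : bd (single l 1) = D l := by
  simp [bd, Finsupp.linearCombination_single]

lemma bd_cone (a : ι) (z : C ι) : bd (cone a z) = z - cone a (bd z) := by
  have h : bd ∘ₗ cone a = LinearMap.id - cone a ∘ₗ bd := by
    apply hom_ext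
    intro l
    simp only [LinearMap.comp_apply, LinearMap.sub_apply, LinearMap.id_apply, cone_single,
      bd_single, D_cons]
  exact LinearMap.congr_fun h z

lemma bd_D (l : List ι) : bd (D l) = 0 := by
  induction l with
  | nil => simp [D_nil]
  | cons a l ih =>
    rw [D_cons, map_sub, bd_single, bd_cone, ih, map_zero, sub_zero, sub_self]

lemma bd_bd (z : C ι) : bd (bd z) = 0 := by
  have h : bd ∘ₗ bd = (0 : C ι →ₗ[ℤ] C ι) := by
    apply hom_ext
    intro l
    simp only [LinearMap.comp_apply, bd_single, bd_D, LinearMap.zero_apply]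
  exact LinearMap.congr_fun h z

/-- chains of lists of length `m` with entries in `s` -/
def TS (m : ℕ) (s : Set ι) : Submodule ℤ (C ι) :=
  Finsupp.supported ℤ ℤ {l : List ι | l.length = m ∧ ∀ x ∈ l, x ∈ s}

lemma mem_TS {m : ℕ} {s : Set ι} {z : C ι} :
    z ∈ TS m s ↔ ∀ l ∈ z.support, l.length = m ∧ ∀ x ∈ l, x ∈ s := by
  unfold TS
  rw [Finsupp.mem_supported]
  rfl

lemma single_mem {m : ℕ} {s : Set ι} (l : List ι) (c : ℤ) (hl : l.length = m)
    (hs : ∀ x ∈ l, x ∈ s) : single l c ∈ TS m s := by
  rw [mem_TS]
  intro l' hl'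
  have := Finsupp.support_single_subset hl'
  rw [Finset.mem_singleton] at this
  subst this
  exact ⟨hl, hs⟩

lemma TS_mono {m : ℕ} {s t : Set ι} (h : s ⊆ t) : TS m s ≤ TS m t := by
  intro z hz
  rw [mem_TS] at hz ⊢
  intro l hl
  exact ⟨(hz l hl).1, fun x hx => h ((hz l hl).2 x hx)⟩

/-- a linear map defined on generators has its values on `TS m s` in `N` as soon as the
generators of the right shape are sent to `N` -/
lemma map_mem_of_single {M : Type*} [AddCommGroup M] (N : Submodule ℤ M) (φ : C ι →ₗ[ℤ] M)
    {m : ℕ} {s : Set ι}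
    (h : ∀ l : List ι, l.length = m → (∀ x ∈ l, x ∈ s) → φ (single l 1) ∈ N)
    {z : C ι} (hz : z ∈ TS m s) : φ z ∈ N := by
  rw [← Finsupp.sum_single z, Finsupp.sum, map_sum]
  refine Submodule.sum_mem _ fun l hl => ?_
  rw [single_eq_smul, map_smul]
  have := (mem_TS.1 hz) l hl
  exact Submodule.smul_mem _ _ (h l this.1 this.2)

lemma eq_of_single {M : Type*} [AddCommGroup M] (φ ψ : C ι →ₗ[ℤ] M) {m : ℕ} {s : Set ι}
    (h : ∀ l : List ι, l.length = m → (∀ x ∈ l, x ∈ s) → φ (single l 1) = ψ (single l 1))
    {z : C ι} (hz : z ∈ TS m s) : φ z = ψ z := by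
  have h1 : (φ - ψ) z ∈ (⊥ : Submodule ℤ M) := by
    refine map_mem_of_single ⊥ (φ - ψ) (fun l hl hs => ?_) hz
    rw [Submodule.mem_bot, LinearMap.sub_apply, h l hl hs, sub_self]
  rw [Submodule.mem_bot, LinearMap.sub_apply, sub_eq_zero] at h1
  exact h1

lemma cone_mem {m : ℕ} {s : Set ι} (a : ι) (ha : a ∈ s) {z : C ι} (hz : z ∈ TS m s) :
    cone a z ∈ TS (m + 1) s := by
  refine map_mem_of_single (TS (m + 1) s) (cone a) (fun l hl hs => ?_) hz
  rw [cone_single]
  refine single_mem _ _ (by simp [hl]) ?_
  intro x hx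
  rcases List.mem_cons.1 hx with rfl | hx
  · exact ha
  · exact hs x hx

lemma D_mem {s : Set ι} : ∀ (l : List ι) (m : ℕ), l.length = m + 1 → (∀ x ∈ l, x ∈ s) →
    D l ∈ TS m s := by
  intro l
  induction l with
  | nil => intro m h; simp at h
  | cons a l ih =>
    intro m hl hs
    have hl' : l.length = m := by simpa using hl
    have hs' : ∀ x ∈ l, x ∈ s := fun x hx => hs x (List.mem_cons_of_mem _ hx)
    rw [D_cons]
    refine Submodule.sub_mem _ (single_mem _ _ hl' hs') ?_
    cases m with
    | zero =>
      have : l = [] := List.eq_nil_of_length_eq_zero hl'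
      subst this
      rw [D_nil, map_zero]
      exact Submodule.zero_mem _
    | succ m' =>
      exact cone_mem a (hs a (List.mem_cons_self)) (ih m' hl' hs')

lemma bd_mem {m : ℕ} {s : Set ι} {z : C ι} (hz : z ∈ TS (m + 1) s) : bd z ∈ TS m s := by
  refine map_mem_of_single (TS m s) bd (fun l hl hs => ?_) hz
  rw [bd_single]
  exact D_mem l m hl hs

end Basic

section Order

variable {ι : Type*} [LinearOrder ι]

/-- the least entry of a nonempty list -/
noncomputable def mu (l : List ι) (h : l ≠ []) : ι :=
  l.toFinset.min' (by rwa [List.toFinset_nonempty_iff])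

lemma mu_mem (l : List ι) (h : l ≠ []) : mu l h ∈ l := by
  have := Finset.min'_mem l.toFinset (by rwa [List.toFinset_nonempty_iff])
  exact List.mem_toFinset.1 this

lemma mu_congr {l l' : List ι} (h : l ≠ []) (h' : l' ≠ []) (e : l.toFinset = l'.toFinset) :
    mu l h = mu l' h' := by
  unfold mu
  congr 1

/-- the alternating projector, level by level -/
noncomputable def e : ℕ → (C ι →ₗ[ℤ] C ι)
  | 0 => LinearMap.id
  | n + 1 => Finsupp.linearCombination ℤ
      (fun l => if h : l ≠ [] then cone (mu l h) (e n (D l)) else 0)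

lemma e_zero (z : C ι) : e 0 z = z := by
  unfold e
  rfl

lemma e_succ_single (n : ℕ) (l : List ι) (h : l ≠ []) :
    e (n + 1) (single l 1) = cone (mu l h) (e n (D l)) := by
  simp [e, Finsupp.linearCombination_single, h]

/-- the homotopy, level by level -/
noncomputable def H : ℕ → (C ι →ₗ[ℤ] C ι)
  | 0 => 0
  | n + 1 => Finsupp.linearCombination ℤ
      (fun l => if h : l ≠ [] then
        cone (mu l h) (single l 1 - e (n + 1) (single l 1) - H n (D l)) else 0)

lemma H_zero (z : C ι) : H 0 z = 0 := by
  unfold H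
  rfl

lemma H_succ_single (n : ℕ) (l : List ι) (h : l ≠ []) :
    H (n + 1) (single l 1) =
      cone (mu l h) (single l 1 - e (n + 1) (single l 1) - H n (D l)) := by
  simp [H, Finsupp.linearCombination_single, h]

attribute [irreducible] e H

lemma ne_nil_of_length {l : List ι} {m : ℕ} (h : l.length = m + 1) : l ≠ [] := by
  intro h'
  subst h'
  simp at h

lemma e_mem {s : Set ι} : ∀ (m : ℕ) {z : C ι}, z ∈ TS m s → e m z ∈ TS m s := by
  intro m
  induction m with
  | zero => intro z hz; rw [e_zero]; exact hz
  | succ m ih =>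
    intro z hz
    refine map_mem_of_single (TS (m + 1) s) (e (m + 1)) (fun l hl hs => ?_) hz
    rw [e_succ_single m l (ne_nil_of_length hl)]
    exact cone_mem _ (hs _ (mu_mem l _)) (ih (D_mem l m hl hs))

lemma H_mem {s : Set ι} : ∀ (m : ℕ) {z : C ι}, z ∈ TS m s → H m z ∈ TS (m + 1) s := by
  intro m
  induction m with
  | zero => intro z hz; rw [H_zero]; exact Submodule.zero_mem _
  | succ m ih =>
    intro z hz
    refine map_mem_of_single (TS (m + 2) s) (H (m + 1)) (fun l hl hs => ?_) hz
    rw [H_succ_single m l (ne_nil_of_length hl)]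
    refine cone_mem _ (hs _ (mu_mem l _)) ?_
    refine Submodule.sub_mem _ (Submodule.sub_mem _ (single_mem l 1 hl hs) ?_) ?_
    · exact e_mem (m + 1) (single_mem l 1 hl hs)
    · exact ih (D_mem l m hl hs)

/-- `e` is a chain map -/
theorem e_chain : ∀ n : ℕ,
    (∀ z ∈ TS n (Set.univ : Set ι), bd z = 0 → bd (e n z) = 0) ∧
    (∀ z ∈ TS (n + 1) (Set.univ : Set ι), bd (e (n + 1) z) = e n (bd z)) := by
  have key : ∀ n : ℕ, (∀ z ∈ TS n (Set.univ : Set ι), bd z = 0 → bd (e n z) = 0) →
      (∀ z ∈ TS (n + 1) (Set.univ : Set ι), bd (e (n + 1) z) = e n (bd z)) := by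
    intro n hQ z hz
    refine eq_of_single (bd ∘ₗ e (n + 1)) (e n ∘ₗ bd) (fun l hl hs => ?_) hz
    simp only [LinearMap.comp_apply]
    rw [e_succ_single n l (ne_nil_of_length hl), bd_cone, bd_single,
      hQ (D l) (D_mem l n hl hs) (bd_D l), map_zero, sub_zero]
  intro n
  induction n with
  | zero =>
    have hQ : ∀ z ∈ TS 0 (Set.univ : Set ι), bd z = 0 → bd (e 0 z) = 0 := by
      intro z _ h
      rw [e_zero]
      exact h
    exact ⟨hQ, key 0 hQ⟩
  | succ n ih =>
    have hQ : ∀ z ∈ TS (n + 1) (Set.univ : Set ι), bd z = 0 → bd (e (n + 1) z) = 0 := by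
      intro z hz h
      rw [ih.2 z hz, h, map_zero]
    exact ⟨hQ, key (n + 1) hQ⟩

/-- the homotopy identity `bd H + H bd = 1 - e` -/
theorem H_homotopy : ∀ n : ℕ,
    (∀ z ∈ TS n (Set.univ : Set ι), bd z = 0 → bd (H n z) = z - e n z) ∧
    (∀ z ∈ TS (n + 1) (Set.univ : Set ι), bd (H (n + 1) z) + H n (bd z) = z - e (n + 1) z) := by
  have key : ∀ n : ℕ, (∀ z ∈ TS n (Set.univ : Set ι), bd z = 0 → bd (H n z) = z - e n z) →
      (∀ z ∈ TS (n + 1) (Set.univ : Set ι),
        bd (H (n + 1) z) + H n (bd z) = z - e (n + 1) z) := by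
    intro n hT z hz
    refine eq_of_single (bd ∘ₗ H (n + 1) + H n ∘ₗ bd) (LinearMap.id - e (n + 1))
      (fun l hl hs => ?_) hz
    simp only [LinearMap.add_apply, LinearMap.comp_apply, LinearMap.sub_apply,
      LinearMap.id_apply]
    have hy : bd (single l 1 - e (n + 1) (single l 1) - H n (D l)) = 0 := by
      rw [map_sub, map_sub, (e_chain n).2 _ (single_mem l 1 hl hs), bd_single,
        hT (D l) (D_mem l n hl hs) (bd_D l)]
      abel
    rw [H_succ_single n l (ne_nil_of_length hl), bd_cone, hy, map_zero, sub_zero, bd_single]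
    abel
  intro n
  induction n with
  | zero =>
    have hT : ∀ z ∈ TS 0 (Set.univ : Set ι), bd z = 0 → bd (H 0 z) = z - e 0 z := by
      intro z _ _
      rw [H_zero, e_zero, map_zero, sub_self]
    exact ⟨hT, key 0 hT⟩
  | succ n ih =>
    have hT : ∀ z ∈ TS (n + 1) (Set.univ : Set ι), bd z = 0 →
        bd (H (n + 1) z) = z - e (n + 1) z := by
      intro z hz h
      have := ih.2 z hz
      rw [h, map_zero, add_zero] at this
      exact this
    exact ⟨hT, key (n + 1) hT⟩

/-! ### `e` is alternating -/

/-- the generators of the "symmetric" relations of length `m` -/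
noncomputable def Gs (ι : Type*) (m : ℕ) : Set (C ι) :=
  {g | ∃ (p : List ι) (a b : ι) (t : List ι), (p ++ a :: b :: t).length = m ∧
    g = single (p ++ a :: b :: t) 1 + single (p ++ b :: a :: t) 1}

/-- the submodule of "symmetric" relations -/
noncomputable def A (ι : Type*) (m : ℕ) : Submodule ℤ (C ι) := Submodule.span ℤ (Gs ι m)

lemma cone_A (x : ι) {m : ℕ} {z : C ι} (hz : z ∈ A ι m) : cone x z ∈ A ι (m + 1) := by
  have h : A ι m ≤ (A ι (m + 1)).comap (cone x) := by
    unfold A
    rw [Submodule.span_le]
    rintro g ⟨p, a, b, t, hlen, rfl⟩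
    rw [SetLike.mem_coe, Submodule.mem_comap, map_add, cone_single, cone_single]
    apply Submodule.subset_span
    refine ⟨x :: p, a, b, t, ?_, rfl⟩
    simp only [List.cons_append, List.length_cons, hlen]
  exact h hz

lemma swap_cone (a b : ι) (k : ℕ) {w : C ι} (hw : w ∈ TS k (Set.univ : Set ι)) :
    cone a (cone b w) + cone b (cone a w) ∈ A ι (k + 2) := by
  refine map_mem_of_single (A ι (k + 2)) (cone a ∘ₗ cone b + cone b ∘ₗ cone a)
    (fun l hl hs => ?_) hw
  simp only [LinearMap.add_apply, LinearMap.comp_apply, cone_single]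
  apply Submodule.subset_span
  refine ⟨[], a, b, l, ?_, rfl⟩
  simp [hl]

lemma bd_G : ∀ (p : List ι) (a b : ι) (t : List ι) (m : ℕ),
    (p ++ a :: b :: t).length = m + 1 →
    bd (single (p ++ a :: b :: t) 1 + single (p ++ b :: a :: t) 1) ∈ A ι m := by
  intro p
  induction p with
  | nil =>
    intro a b t m hlen
    simp only [List.nil_append] at hlen ⊢
    rw [map_add, bd_single, bd_single, D_cons, D_cons, D_cons, D_cons]
    have h : single (b :: t) (1 : ℤ) - cone a (single t 1 - cone b (D t)) +
        (single (a :: t) 1 - cone b (single t 1 - cone a (D t))) =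
        cone a (cone b (D t)) + cone b (cone a (D t)) := by
      simp only [map_sub, cone_single]
      abel
    rw [h]
    cases t with
    | nil =>
      rw [D_nil]
      simp
    | cons c t' =>
      have hm : m = t'.length + 2 := by
        simp only [List.length_cons] at hlen
        omega
      subst hm
      exact swap_cone a b t'.length (D_mem (c :: t') t'.length (by simp) (fun _ _ => trivial))
  | cons x p ih =>
    intro a b t m hlen
    have hlen' : (p ++ a :: b :: t).length = m := by
      simpa using hlen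
    have hg : single (p ++ a :: b :: t) (1 : ℤ) + single (p ++ b :: a :: t) 1 ∈ A ι m := by
      apply Submodule.subset_span
      exact ⟨p, a, b, t, hlen', rfl⟩
    have hrw : single ((x :: p) ++ a :: b :: t) (1 : ℤ) + single ((x :: p) ++ b :: a :: t) 1 =
        cone x (single (p ++ a :: b :: t) 1 + single (p ++ b :: a :: t) 1) := by
      rw [map_add, cone_single, cone_single]
      rfl
    rw [hrw, bd_cone]
    refine Submodule.sub_mem _ hg ?_
    obtain ⟨m', rfl⟩ : ∃ m', m = m' + 1 := by
      refine ⟨m - 1, ?_⟩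
      simp only [List.length_append, List.length_cons] at hlen'
      omega
    exact cone_A x (ih a b t m' hlen')

lemma bd_A {m : ℕ} {z : C ι} (hz : z ∈ A ι (m + 1)) : bd z ∈ A ι m := by
  have h : A ι (m + 1) ≤ (A ι m).comap bd := by
    unfold A
    rw [Submodule.span_le]
    rintro g ⟨p, a, b, t, hlen, rfl⟩
    exact bd_G p a b t m hlen
  exact h hz

/-- `e` kills the symmetric relations -/
theorem e_A : ∀ (m : ℕ) {z : C ι}, z ∈ A ι m → e m z = 0 := by
  intro m
  induction m with
  | zero =>
    intro z hz
    have h : A ι 0 ≤ (⊥ : Submodule ℤ (C ι)) := by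
      unfold A
      rw [Submodule.span_le]
      rintro g ⟨p, a, b, t, hlen, rfl⟩
      simp at hlen
    have := h hz
    rw [Submodule.mem_bot] at this
    rw [this, map_zero]
  | succ m ih =>
    intro z hz
    have h : A ι (m + 1) ≤ LinearMap.ker (e (m + 1)) := by
      unfold A
      rw [Submodule.span_le]
      rintro g ⟨p, a, b, t, hlen, rfl⟩
      show _ ∈ LinearMap.ker _
      rw [LinearMap.mem_ker, map_add]
      have h1 : p ++ a :: b :: t ≠ [] := by simp
      have h2 : p ++ b :: a :: t ≠ [] := by simp
      have hmu : mu (p ++ a :: b :: t) h1 = mu (p ++ b :: a :: t) h2 := by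
        apply mu_congr
        ext x
        simp only [List.mem_toFinset, List.mem_append, List.mem_cons]
        tauto
      rw [e_succ_single m _ h1, e_succ_single m _ h2, hmu, ← map_add, ← map_add,
        ← bd_single, ← bd_single, ← map_add, ih (bd_G p a b t m hlen), map_zero]
    exact LinearMap.mem_ker.1 (h hz)

/-- `e` kills a list with a repeated entry -/
theorem e_repeat : ∀ (q p : List ι) (x : ι) (r : List ι),
    e (p ++ x :: (q ++ x :: r)).length (single (p ++ x :: (q ++ x :: r)) 1) = 0 := by
  intro q
  induction q with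
  | nil =>
    intro p x r
    have hg : single (p ++ x :: ([] ++ x :: r)) (1 : ℤ) + single (p ++ x :: ([] ++ x :: r)) 1 ∈
        A ι (p ++ x :: ([] ++ x :: r)).length := by
      apply Submodule.subset_span
      exact ⟨p, x, x, r, rfl, rfl⟩
    have h := e_A _ hg
    rw [map_add, ← two_smul ℤ, smul_eq_zero] at h
    rcases h with h | h
    · norm_num at h
    · exact h
  | cons y q ih =>
    intro p x r
    have hlen : ((p ++ [y]) ++ x :: (q ++ x :: r)).length =
        (p ++ x :: (y :: q ++ x :: r)).length := by
      simp only [List.length_append, List.length_cons, List.length_nil]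
      omega
    have hl' : (p ++ [y]) ++ x :: (q ++ x :: r) = p ++ y :: x :: (q ++ x :: r) := by simp
    have hg : single (p ++ x :: (y :: q ++ x :: r)) (1 : ℤ) +
        single (p ++ y :: x :: (q ++ x :: r)) 1 ∈ A ι (p ++ x :: (y :: q ++ x :: r)).length := by
      apply Submodule.subset_span
      exact ⟨p, x, y, q ++ x :: r, rfl, rfl⟩
    have h := e_A _ hg
    have h2 := ih (p ++ [y]) x r
    rw [hlen, hl'] at h2
    rw [map_add, h2, add_zero] at h
    exact h

lemma exists_repeat : ∀ l : List ι, ¬ l.Nodup →
    ∃ (p : List ι) (x : ι) (q r : List ι), l = p ++ x :: (q ++ x :: r) := by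
  intro l
  induction l with
  | nil => intro h; exact absurd List.nodup_nil h
  | cons a l ih =>
    intro h
    rw [List.nodup_cons, not_and_or, not_not] at h
    rcases h with h | h
    · obtain ⟨s, t, rfl⟩ := List.append_of_mem h
      exact ⟨[], a, s, t, rfl⟩
    · obtain ⟨p, x, q, r, rfl⟩ := ih h
      exact ⟨a :: p, x, q, r, rfl⟩

/-- `e` vanishes on lists longer than the cardinality of `ι` -/
theorem e_eq_zero [Finite ι] (m : ℕ) (hm : Nat.card ι < m) {z : C ι}
    (hz : z ∈ TS m (Set.univ : Set ι)) : e m z = 0 := by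
  have := Fintype.ofFinite ι
  have h := eq_of_single (e m) 0 (fun l hl hs => ?_) hz
  · simpa using h
  · rw [LinearMap.zero_apply]
    have hnd : ¬ l.Nodup := by
      intro hnd
      have := hnd.length_le_card
      rw [Nat.card_eq_fintype_card] at hm
      omega
    obtain ⟨p, x, q, r, rfl⟩ := exists_repeat l hnd
    rw [← hl]
    exact e_repeat q p x r

/-- **The contracting homotopy above the cardinality of `ι`.** -/
theorem main [Finite ι] (q : ℕ) (hq : Nat.card ι ≤ q) (l : List ι) (hl : l.length = q + 1) :
    H q (D l) = single l 1 - bd (H (q + 1) (single l 1)) := by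
  have hz : single l (1 : ℤ) ∈ TS (q + 1) (Set.univ : Set ι) :=
    single_mem l 1 hl (fun _ _ => trivial)
  have h := (H_homotopy q).2 _ hz
  rw [e_eq_zero (q + 1) (by omega) hz, sub_zero, bd_single] at h
  exact eq_sub_iff_add_eq'.2 h

end Order

end Groth.Agent.Helper8.CechAlt
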