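import Mathlib
import Groth.Prelude.Def_CohTop
import Groth.Agent.Lib.Helper1.TCx
import Groth.Agent.Lib.Helper8.CechAlt1

/-!
# Čech cohomology of a covering by `n` opens vanishes in degrees `≥ n` (helper8)

For a presheaf of abelian groups `P` on a topological space and a family `U` of opens indexed by a
finite type with `n` elements, the Čech cohomology computed from the full complex of ordered
cochains (`CohTop.cechH`) vanishes in every degree `q ≥ n`.  The combinatorial input is the
contracting homotopy of `CechAlt1`, evaluated on cochains.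
-/

set_option autoImplicit false
set_option linter.unusedSectionVars false
set_option linter.unusedVariables false
universe u
open CategoryTheory Limits Opposite TopologicalSpace

namespace Groth.Agent.Helper8.CechAlt

open Groth.Agent.Helper1 Finsupp

/-! ### lists and tuples -/

section Lists

variable {ι : Type*}

/-- the tuple of a list of given length -/
def tup (l : List ι) {n : ℕ} (h : l.length = n) : Fin n → ι := fun k => l.get (k.cast h.symm)

lemma tup_mem (l : List ι) {n : ℕ} (h : l.length = n) (k : Fin n) : tup l h k ∈ l :=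
  List.get_mem _ _

lemma tup_ofFn {n : ℕ} (a : Fin n → ι) (h : (List.ofFn a).length = n) : tup (List.ofFn a) h = a := by
  funext k
  simp [tup]

lemma tup_eraseIdx (l : List ι) {q : ℕ} (h : l.length = q + 2) (i : Fin (q + 2))
    (h' : (l.eraseIdx i).length = q + 1) :
    tup (l.eraseIdx i) h' = fun k => tup l h (i.succAbove k) := by
  funext k
  simp only [tup, List.get_eq_getElem, Fin.val_cast]
  rw [List.getElem_eraseIdx]
  by_cases hk : (k : ℕ) < i
  · have h1 : i.succAbove k = k.castSucc :=
      Fin.succAbove_of_castSucc_lt _ _ (by rw [Fin.lt_def]; simpa using hk)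
    simp [hk, h1]
  · have h1 : i.succAbove k = k.succ :=
      Fin.succAbove_of_le_castSucc _ _ (by rw [Fin.le_def]; simpa using not_lt.1 hk)
    simp [hk, h1]

lemma length_eraseIdx' (l : List ι) {q : ℕ} (h : l.length = q + 2) (i : Fin (q + 2)) :
    (l.eraseIdx i).length = q + 1 := by
  rw [List.length_eraseIdx_of_lt (by rw [h]; exact i.2), h]
  rfl

lemma ofFn_tup (m : List ι) {n : ℕ} (h : m.length = n) : List.ofFn (tup m h) = m := by
  subst h
  have h1 : tup m rfl = m.get := by
    funext k
    simp [tup]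
  rw [h1, List.ofFn_get]

lemma ofFn_succAbove {q : ℕ} (a : Fin (q + 2) → ι) (i : Fin (q + 2)) :
    List.ofFn (fun k => a (i.succAbove k)) = (List.ofFn a).eraseIdx i := by
  have hlen : (List.ofFn a).length = q + 2 := by simp
  have h' := length_eraseIdx' (List.ofFn a) hlen i
  have h1 := tup_eraseIdx (List.ofFn a) hlen i h'
  rw [tup_ofFn] at h1
  rw [← h1]
  exact ofFn_tup _ h'

/-- the boundary of a list as an alternating sum of faces -/
lemma D_eq_sum : ∀ l : List ι,
    D l = ∑ i ∈ Finset.range l.length, (-1 : ℤ) ^ i • single (l.eraseIdx i) (1 : ℤ) := by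
  intro l
  induction l with
  | nil => simp [D_nil]
  | cons a l ih =>
    rw [D_cons, List.length_cons, Finset.sum_range_succ', ih, map_sum]
    simp only [List.eraseIdx_cons_succ, List.eraseIdx_zero, List.tail_cons, pow_zero, one_smul,
      map_smul, cone_single, pow_succ, mul_neg, mul_one, neg_smul, Finset.sum_neg_distrib]
    abel

end Lists

variable {X : TopCat.{u}} {ι : Type u} (U : ι → Opens X) (P : (Opens X)ᵒᵖ ⥤ AddCommGrpCat.{u})

lemma res_res {O' O W : Opens X} (h' : O' ≤ O) (h : O ≤ W) (y : P.obj (op W)) :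
    (P.map (homOfLE h').op).hom ((P.map (homOfLE h).op).hom y) =
      (P.map (homOfLE (h'.trans h)).op).hom y := by
  have e1 : P.map (homOfLE (h'.trans h)).op = P.map (homOfLE h).op ≫ P.map (homOfLE h').op := by
    rw [← P.map_comp]
    rfl
  rw [e1, AddCommGrpCat.hom_comp]
  rfl

lemma res_self {O : Opens X} (h : O ≤ O) (y : P.obj (op O)) :
    (P.map (homOfLE h).op).hom y = y := by
  have e1 : (homOfLE h).op = 𝟙 (op O) := rfl
  rw [e1, P.map_id]
  rfl

/-- the component at the tuple `a` of a cochain, restricted to `O` -/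
noncomputable def rr (q : ℕ) (x : (TCx.K U P).X q) (O : Opens X) (a : Fin (q + 1) → ι)
    (h : O ≤ TCx.W U a) : P.obj (op O) :=
  (P.map (homOfLE h).op).hom ((TCx.proj U P q a).hom x)

lemma rr_congr (q : ℕ) (x : (TCx.K U P).X q) (O : Opens X) {a a' : Fin (q + 1) → ι} (e : a = a')
    (h : O ≤ TCx.W U a) (h' : O ≤ TCx.W U a') : rr U P q x O a h = rr U P q x O a' h' := by
  subst e
  rfl

lemma rr_res (q : ℕ) (x : (TCx.K U P).X q) {O' O : Opens X} (hO : O' ≤ O) (a : Fin (q + 1) → ι)
    (h : O ≤ TCx.W U a) :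
    (P.map (homOfLE hO).op).hom (rr U P q x O a h) = rr U P q x O' a (hO.trans h) :=
  res_res P hO h _

lemma rr_zero (q : ℕ) (O : Opens X) (a : Fin (q + 1) → ι) (h : O ≤ TCx.W U a) :
    rr U P q 0 O a h = 0 := by
  unfold rr
  rw [map_zero, map_zero]

open scoped Classical in
/-- evaluation of a cochain on a list, restricted to `O` (zero if this makes no sense) -/
noncomputable def ev (q : ℕ) (x : (TCx.K U P).X q) (O : Opens X) (l : List ι) : P.obj (op O) :=
  if h1 : l.length = q + 1 then
    (if h2 : O ≤ TCx.W U (tup l h1) then rr U P q x O (tup l h1) h2 else 0)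
  else 0

lemma ev_eq (q : ℕ) (x : (TCx.K U P).X q) (O : Opens X) (l : List ι) (h1 : l.length = q + 1)
    (h2 : O ≤ TCx.W U (tup l h1)) : ev U P q x O l = rr U P q x O (tup l h1) h2 := by
  unfold ev
  rw [dif_pos h1, dif_pos h2]

lemma ev_zero (q : ℕ) (O : Opens X) (l : List ι) : ev U P q 0 O l = 0 := by
  unfold ev
  by_cases h1 : l.length = q + 1
  · rw [dif_pos h1]
    by_cases h2 : O ≤ TCx.W U (tup l h1)
    · rw [dif_pos h2]
      exact rr_zero U P q O _ _
    · rw [dif_neg h2]
  · rw [dif_neg h1]

lemma le_W_tup (O : Opens X) (s : Set ι) (hO : ∀ i ∈ s, O ≤ U i) (l : List ι) {n : ℕ}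
    (h1 : l.length = n + 1) (hs : ∀ x ∈ l, x ∈ s) : O ≤ TCx.W U (tup l h1) :=
  TCx.le_W U _ O (fun k => hO _ (hs _ (tup_mem l h1 k)))

/-- the pairing of a cochain with chains of lists, with values in `P(O)` -/
noncomputable def pair (q : ℕ) (x : (TCx.K U P).X q) (O : Opens X) :
    C ι →ₗ[ℤ] ↥(P.obj (op O)) :=
  Finsupp.linearCombination ℤ (ev U P q x O)

lemma pair_single (q : ℕ) (x : (TCx.K U P).X q) (O : Opens X) (l : List ι) :
    pair U P q x O (single l 1) = ev U P q x O l := by
  simp [pair, Finsupp.linearCombination_single]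

lemma pair_zero (q : ℕ) (O : Opens X) (z : C ι) : pair U P q 0 O z = 0 := by
  have h : pair U P q 0 O = 0 := by
    apply hom_ext
    intro l
    rw [pair_single, ev_zero, LinearMap.zero_apply]
  rw [h, LinearMap.zero_apply]

/-- restriction is compatible with the pairing -/
lemma pair_res (q : ℕ) (x : (TCx.K U P).X q) {O' O : Opens X} (hO' : O' ≤ O) (s : Set ι)
    (hO : ∀ i ∈ s, O ≤ U i) {z : C ι} (hz : z ∈ TS (q + 1) s) :
    (P.map (homOfLE hO').op).hom (pair U P q x O z) = pair U P q x O' z := by
  have h := eq_of_single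
    ((P.map (homOfLE hO').op).hom.toIntLinearMap ∘ₗ pair U P q x O) (pair U P q x O')
    (fun l hl hs => ?_) hz
  · exact h
  · simp only [LinearMap.comp_apply, AddMonoidHom.coe_toIntLinearMap, pair_single]
    have h2 := le_W_tup U O s hO l hl hs
    rw [ev_eq U P q x O l hl h2, ev_eq U P q x O' l hl (hO'.trans h2)]
    exact rr_res U P q x hO' _ h2

/-- the pairing is adjoint to the differentials -/
lemma pair_d_single (q : ℕ) (x : (TCx.K U P).X q) (O : Opens X) (l : List ι)
    (h1 : l.length = q + 2) (h2 : O ≤ TCx.W U (tup l h1)) :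
    pair U P (q + 1) (((TCx.K U P).d q (q + 1)).hom x) O (single l 1) =
      pair U P q x O (D l) := by
  rw [pair_single, ev_eq U P (q + 1) _ O l h1 h2, D_eq_sum, map_sum, h1,
    ← Fin.sum_univ_eq_sum_range
      (fun i => pair U P q x O ((-1 : ℤ) ^ i • single (l.eraseIdx i) (1 : ℤ))) (q + 2)]
  unfold rr
  rw [TCx.d_apply, map_sum]
  refine Finset.sum_congr rfl fun i _ => ?_
  rw [map_zsmul, map_smul, pair_single]
  congr 1
  have hlen := length_eraseIdx' l h1 i
  have htup := tup_eraseIdx l h1 i hlen
  have hW : O ≤ TCx.W U (tup (l.eraseIdx i) hlen) := by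
    rw [htup]
    exact h2.trans (TCx.W_face_le U (tup l h1) i)
  rw [ev_eq U P q x O _ hlen hW, res_res]
  exact (rr_congr U P q x O htup hW _).symm

lemma pair_d (q : ℕ) (x : (TCx.K U P).X q) (O : Opens X) (s : Set ι)
    (hO : ∀ i ∈ s, O ≤ U i) {z : C ι} (hz : z ∈ TS (q + 2) s) :
    pair U P (q + 1) (((TCx.K U P).d q (q + 1)).hom x) O z = pair U P q x O (bd z) := by
  have h := eq_of_single (pair U P (q + 1) (((TCx.K U P).d q (q + 1)).hom x) O)
    (pair U P q x O ∘ₗ bd) (fun l hl hs => ?_) hz
  · exact h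
  · rw [LinearMap.comp_apply, bd_single]
    exact pair_d_single U P q x O l hl (le_W_tup U O s hO l hl hs)

/-- **Exactness of the Čech complex above the number of opens.** -/
theorem exact_of_card [Finite ι] (p : ℕ) (hp : Nat.card ι ≤ p + 1)
    (x : (TCx.K U P).X (p + 1)) (hx : ((TCx.K U P).d (p + 1) (p + 2)).hom x = 0) :
    ∃ y : (TCx.K U P).X p, ((TCx.K U P).d p (p + 1)).hom y = x := by
  classical
  have := Fintype.ofFinite ι
  letI : LinearOrder ι := LinearOrder.lift' (Fintype.equivFin ι) (Fintype.equivFin ι).injective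
  -- the cochain `y`
  obtain ⟨y, hy⟩ := TCx.exists_cochain U P p (fun b =>
    pair U P (p + 1) x (TCx.W U b) (H (p + 1) (single (List.ofFn b) 1)))
  refine ⟨y, ?_⟩
  apply TCx.ext U P (p + 1)
  intro a
  rw [TCx.d_apply]
  set O := TCx.W U a with hOdef
  set l := List.ofFn a with hl
  have hlen : l.length = p + 2 := by simp [hl]
  set s : Set ι := Set.range a with hs
  have hO : ∀ i ∈ s, O ≤ U i := by
    rintro i ⟨k, rfl⟩
    exact TCx.W_le U a k
  have hls : ∀ x ∈ l, x ∈ s := by
    intro x hx
    rw [hl, List.mem_ofFn] at hx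
    exact hx
  -- the faces
  have hface : ∀ i : Fin (p + 2),
      (P.map (homOfLE (TCx.W_face_le U a i)).op).hom
        ((TCx.proj U P p (fun k => a (i.succAbove k))).hom y) =
      pair U P (p + 1) x O (H (p + 1) (single (l.eraseIdx i) 1)) := by
    intro i
    rw [hy, ← ofFn_succAbove a i]
    have hmem : H (p + 1) (single (List.ofFn fun k => a (i.succAbove k)) (1 : ℤ)) ∈
        TS (p + 2) (Set.range fun k => a (i.succAbove k)) := by
      refine H_mem (p + 1) (single_mem _ 1 (by simp) ?_)
      intro x hx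
      rw [List.mem_ofFn] at hx
      exact hx
    refine pair_res U P (p + 1) x (TCx.W_face_le U a i) _ ?_ hmem
    rintro j ⟨k, rfl⟩
    exact TCx.W_le U (fun k => a (i.succAbove k)) k
  rw [Finset.sum_congr rfl (fun i _ => by rw [hface i])]
  -- assemble
  have hsum : ∑ i : Fin (p + 2), (-1 : ℤ) ^ (i : ℕ) •
      pair U P (p + 1) x O (H (p + 1) (single (l.eraseIdx i) 1)) =
      pair U P (p + 1) x O (H (p + 1) (D l)) := by
    rw [D_eq_sum, hlen, map_sum, map_sum,
      ← Fin.sum_univ_eq_sum_range (fun i => pair U P (p + 1) x O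
        (H (p + 1) ((-1 : ℤ) ^ i • single (l.eraseIdx i) (1 : ℤ)))) (p + 2)]
    refine Finset.sum_congr rfl fun i _ => ?_
    rw [map_smul, map_smul]
  rw [hsum, main (p + 1) hp l hlen, map_sub]
  have hmem2 : H (p + 2) (single l (1 : ℤ)) ∈ TS (p + 3) s :=
    H_mem (p + 2) (single_mem l 1 hlen hls)
  rw [← pair_d U P (p + 1) x O s hO hmem2, hx, pair_zero, sub_zero, pair_single,
    ev_eq U P (p + 1) x O l hlen (le_W_tup U O s hO l hlen hls)]
  have htup : tup l hlen = a := tup_ofFn a hlen
  rw [rr_congr U P (p + 1) x O htup _ (le_refl _)]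
  unfold rr
  exact res_self P _ _

/-- **The Čech cohomology of a covering by `n` opens vanishes in degrees `≥ n`.** -/
theorem isZero_cechH [Finite ι] (q : ℕ) (hq : Nat.card ι ≤ q) : IsZero (CohTop.cechH P U q) := by
  cases q with
  | zero =>
    have hemp : IsEmpty ι := by
      have h0 : Nat.card ι = 0 := Nat.le_zero.1 hq
      rcases (Nat.card_eq_zero.1 h0) with h | h
      · exact h
      · exact absurd ‹Finite ι› (not_finite_iff_infinite.2 h)
    haveI : Subsingleton ((TCx.K U P).X 0) :=
      ⟨fun x y => TCx.ext U P 0 x y (fun a => isEmptyElim (a 0))⟩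
    have hz : IsZero ((TCx.K U P).X 0) := AddCommGrpCat.isZero_of_subsingleton _
    rw [← HomologicalComplex.exactAt_iff_isZero_homology]
    exact HomologicalComplex.ExactAt.of_isZero hz
  | succ p =>
    exact TCx.isZero_cechH_succ U P p (fun x hx => exact_of_card U P p hq x hx)

end Groth.Agent.Helper8.CechAlt
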