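import Groth.Agent.Lib.Helper8.Cech6

/-!
# Top cohomology of the extended Čech complex: generators and a complete set of relations (helper8)

Strengthening of `Cech6.exists_top_gens`: the classes `θ t m` ("`m / (f₁ ⋯ fₙ) ^ t`") generate the
top cohomology of the extended Čech complex of `M` on `fs`, and `θ t m = 0` exactly when
`(f₁ ⋯ fₙ) ^ k • m ∈ Σ_g g ^ (k + t) M` for some `k`.
-/

set_option autoImplicit false
set_option linter.style.haveILetI false
set_option linter.unusedSectionVars false
set_option linter.unusedVariables false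
universe u
open CategoryTheory CategoryTheory.Limits Opposite
attribute [local instance] HasDerivedCategory.standard

namespace Groth.Agent.Helper8.CechTop

open CochainComplex HomComplex DerCA Groth.Agent.Lib.Helper6.ExtCech Groth.Agent.Helper8.Cech

variable {R : Type u} [CommRing R]

section LES

variable {K L : CochainComplex (ModuleCat.{u} R) ℤ} (φ : K ⟶ L)

lemma exactQ₃ (n₀ n₁ : ℤ) (h : n₀ + 1 = n₁) :
    (ShortComplex.mk _ _ (map_δQ φ n₀ n₁ h)).Exact :=
  DerivedCategory.HomologySequence.exact₃ (T φ) (hT φ) n₀ n₁ h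

/-- exactness at `H^{n₀}(L)`. -/
lemma exists_map_eq (n₀ n₁ : ℤ) (h : n₀ + 1 = n₁) (z : L.homology n₀)
    (hz : delta φ n₀ n₁ h z = 0) :
    ∃ w : K.homology n₀, HomologicalComplex.homologyMap φ n₀ w = z := by
  have hex := exactQ₃ φ n₀ n₁ h
  rw [ShortComplex.ShortExact.moduleCat_exact_iff_function_exact] at hex
  let z' := (eH L n₀).inv z
  have hz0 : δQ φ n₀ n₁ h z' = 0 := by
    have h1 : (eH (CochainComplex.mappingCocone φ) n₁).hom (δQ φ n₀ n₁ h z') = 0 := hz
    have h2 := congrArg (eH (CochainComplex.mappingCocone φ) n₁).inv h1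
    rw [iso_hom_inv_apply, map_zero] at h2
    exact h2
  obtain ⟨w', hw'⟩ := (hex z').1 hz0
  have hw'' : (DerivedCategory.homologyFunctor (ModuleCat.{u} R) n₀).map
      (DerivedCategory.Q.map φ) w' = z' := hw'
  refine ⟨(eH K n₀).hom w', ?_⟩
  have h3 := eH_naturality φ n₀
  have h4 := congrArg (fun g => g.hom w') h3
  have h5 : HomologicalComplex.homologyMap φ n₀ ((eH K n₀).hom w') =
      (eH L n₀).hom ((DerivedCategory.homologyFunctor (ModuleCat.{u} R) n₀).map
        (DerivedCategory.Q.map φ) w') := h4.symm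
  rw [h5, hw'']
  exact iso_inv_hom_apply (eH L n₀) z

end LES

section W

variable (M : Type u) [AddCommGroup M] [Module R M]

/-- `Σ_{g ∈ fs} g ^ N M`. -/
def W (fs : List R) (N : ℕ) : Submodule R M :=
  Submodule.span R {y : M | ∃ g ∈ fs, ∃ c : M, y = g ^ N • c}

lemma pow_smul_mem_W (fs : List R) (N : ℕ) (g : R) (hg : g ∈ fs) (c : M) :
    g ^ N • c ∈ W M fs N :=
  Submodule.subset_span ⟨g, hg, c, rfl⟩

lemma W_le_cons (f : R) (fs : List R) (N : ℕ) : W M fs N ≤ W M (f :: fs) N := by
  apply Submodule.span_mono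
  rintro y ⟨g, hg, c, rfl⟩
  exact ⟨g, List.mem_cons_of_mem _ hg, c, rfl⟩

lemma smul_mem_W (fs : List R) (N j : ℕ) (a : R) (ha : ∀ g ∈ fs, g ^ j ∣ a) (y : M)
    (hy : y ∈ W M fs N) : a • y ∈ W M fs (N + j) := by
  unfold W at hy
  induction hy using Submodule.span_induction with
  | mem y hy =>
    obtain ⟨g, hg, c, rfl⟩ := hy
    obtain ⟨b, hb⟩ := ha g hg
    have : a • g ^ N • c = g ^ (N + j) • (b • c) := by
      rw [smul_smul, smul_smul, hb, pow_add]
      congr 1
      ring
    rw [this]
    exact pow_smul_mem_W M fs (N + j) g hg _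
  | zero => rw [smul_zero]; exact Submodule.zero_mem _
  | add y z _ _ hy hz => rw [smul_add]; exact Submodule.add_mem _ hy hz
  | smul r y _ hy => rw [smul_comm]; exact Submodule.smul_mem _ r hy

lemma prod_pow_smul_mem_W (fs : List R) (N j : ℕ) (y : M) (hy : y ∈ W M fs N) :
    fs.prod ^ j • y ∈ W M fs (N + j) :=
  smul_mem_W M fs N j _ (fun g hg => pow_dvd_pow_of_dvd (List.dvd_prod hg) j) y hy

end W

section Top

variable (M : ModuleCat.{u} R)

/-- generators and a complete set of relations for the top cohomology of the extended Čech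
complex. -/
theorem exists_top_gens' : ∀ fs : List R,
    ∃ θ : ℕ → (M →ₗ[R] DerCA.extCechH fs M (fs.length : ℤ)),
      (∀ x, ∃ t m, θ t m = x) ∧ (∀ t m, θ t m = θ (t + 1) (fs.prod • m)) ∧
        (∀ t, ∀ g ∈ fs, ∀ m, θ t (g ^ t • m) = 0) ∧
        (∀ t m, θ t m = 0 → ∃ n, fs.prod ^ n • m ∈ W M fs (n + t)) := by
  intro fs
  induction fs with
  | nil =>
    let e := HomologicalComplex.singleObjHomologySelfIso (ComplexShape.up ℤ) 0 M
    refine ⟨fun _ => e.inv.hom, ?_, ?_, ?_, ?_⟩
    · intro x
      exact ⟨0, e.hom x, iso_hom_inv_apply e x⟩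
    · intro t m
      simp
    · intro t g hg
      simp at hg
    · intro t m hm
      have hm' : e.inv m = 0 := hm
      have h2 := congrArg e.hom hm'
      rw [iso_inv_hom_apply, map_zero] at h2
      refine ⟨0, ?_⟩
      rw [h2, smul_zero]
      exact Submodule.zero_mem _
  | cons f fs ih =>
    obtain ⟨θ, hG, hR1, hR2, hK⟩ := ih
    let K := DerCA.extCech M fs
    let S := Submonoid.powers f
    let φ := DerCA.locCxUnit S K
    let n : ℤ := (fs.length : ℤ)
    have hn : n + 1 = ((f :: fs).length : ℤ) := by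
      simp [n]
    let δ := (delta φ n ((f :: fs).length : ℤ) hn).hom
    -- iterated relation (R1)
    have hR1' : ∀ (s t : ℕ) (m : M), θ t m = θ (t + s) (fs.prod ^ s • m) := by
      intro s
      induction s with
      | zero => intro t m; simp
      | succ s ihs =>
        intro t m
        rw [ihs t m, hR1 (t + s), ← add_assoc, pow_succ, mul_comm, mul_smul]
    refine ⟨fun t => δ ∘ₗ frac K f n t ∘ₗ θ t, ?_, ?_, ?_, ?_⟩
    · intro x
      have hK0 : IsZero (K.homology ((f :: fs).length : ℤ)) :=
        s9264 fs M _ (Or.inr (by simp))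
      have hx0 : HomologicalComplex.homologyMap (CochainComplex.mappingCocone.fst φ)
          ((f :: fs).length : ℤ) x = 0 :=
        (ModuleCat.isZero_iff_subsingleton.mp hK0).elim _ _
      obtain ⟨z, rfl⟩ := exists_delta_eq φ n _ hn x hx0
      obtain ⟨s, w, rfl⟩ := exists_frac K f n z
      obtain ⟨t, m, rfl⟩ := hG w
      refine ⟨s + t, f ^ t • fs.prod ^ s • m, ?_⟩
      change δ (frac K f n (s + t) (θ (s + t) (f ^ t • fs.prod ^ s • m))) =
        δ (frac K f n s (θ t m))
      rw [map_smul, frac_add_pow, add_comm s t, ← hR1' s t m]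
    · intro t m
      change δ (frac K f n t (θ t m)) =
        δ (frac K f n (t + 1) (θ (t + 1) ((f :: fs).prod • m)))
      rw [List.prod_cons, mul_smul, map_smul, frac_smul_succ, ← hR1]
    · intro t g hg m
      change δ (frac K f n t (θ t (g ^ t • m))) = 0
      rcases List.mem_cons.1 hg with rfl | hg
      · rw [map_smul, frac_pow_smul]
        exact delta_map φ n _ hn _
      · rw [hR2 t g hg m, map_zero, map_zero]
    · intro t m h0
      have h0' : delta φ n ((f :: fs).length : ℤ) hn (frac K f n t (θ t m)) = 0 := h0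
      obtain ⟨w, hw⟩ := exists_map_eq φ n _ hn _ h0'
      obtain ⟨s, m', rfl⟩ := hG w
      have h1 : HomologicalComplex.homologyMap φ n (θ t m - f ^ t • θ s m') = 0 := by
        rw [map_sub, map_smul, hw, pow_smul_frac, sub_self]
      obtain ⟨sr, hsr⟩ := exists_smul_eq_zero S K n _ h1
      obtain ⟨r, hr⟩ := sr.2
      have hr' : f ^ r = (sr : R) := hr
      have ha : θ t m = θ (t + s) (fs.prod ^ s • m) := hR1' s t m
      have hb : θ s m' = θ (t + s) (fs.prod ^ t • m') := by
        rw [add_comm t s]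
        exact hR1' t s m'
      have h2 : θ (t + s) (f ^ r • fs.prod ^ s • m - f ^ (r + t) • fs.prod ^ t • m') = 0 := by
        have e1 : θ (t + s) (f ^ r • fs.prod ^ s • m) = f ^ r • θ t m := by
          rw [map_smul, ← ha]
        have e2 : θ (t + s) (f ^ (r + t) • fs.prod ^ t • m') = f ^ (r + t) • θ s m' := by
          rw [map_smul, ← hb]
        rw [map_sub, e1, e2, pow_add, mul_smul, ← smul_sub, hr']
        exact hsr
      obtain ⟨n0, hn0⟩ := hK (t + s) _ h2
      refine ⟨r + n0 + s, ?_⟩
      have key : (f :: fs).prod ^ (r + n0 + s) • m =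
          f ^ (n0 + s) • fs.prod ^ r •
            (fs.prod ^ n0 • (f ^ r • fs.prod ^ s • m - f ^ (r + t) • fs.prod ^ t • m')) +
          f ^ (r + n0 + s + t) • (fs.prod ^ (r + n0 + t) • m') := by
        rw [List.prod_cons]
        module
      rw [key]
      apply Submodule.add_mem
      · apply Submodule.smul_mem
        have h3 := prod_pow_smul_mem_W M fs (n0 + (t + s)) r _ hn0
        have h4 : n0 + (t + s) + r = r + n0 + s + t := by omega
        rw [h4] at h3
        exact W_le_cons M f fs _ h3
      · exact pow_smul_mem_W M (f :: fs) _ f List.mem_cons_self _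

end Top

end Groth.Agent.Helper8.CechTop
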