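import Groth.Agent.Lib.Helper8.CechTop1

/-!
# `R_p / Σ_g R_{p/g}` by generators and relations (helper8)

* `nonempty_equiv_of_gens`: two modules generated by families `θ t m`, `q t m` (`t : ℕ`, `m : M`,
  linear in `m`, with `θ t m = θ (t+1) (p • m)`) having the same vanishing locus are isomorphic.
* For `p : R` and a list `fs` of divisors of `p`, the quotient of `R_p` by the `R`-span of the
  fractions `g ^ n / p ^ n` (`g ∈ fs`) is generated by the classes `q t m = [m / p ^ t]`, and
  `q t m = 0` iff `p ^ k m ∈ Σ_g g ^ (k + t) R` for some `k`.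
-/

set_option autoImplicit false
set_option linter.style.haveILetI false
set_option linter.unusedSectionVars false
set_option linter.unusedVariables false
universe u

namespace Groth.Agent.Helper8.CechTop

section Gens

variable {R : Type u} [CommRing R] {M H Q : Type u} [AddCommGroup M] [Module R M]
  [AddCommGroup H] [Module R H] [AddCommGroup Q] [Module R Q]

lemma iterate_rel {X : Type u} [AddCommGroup X] [Module R X] (p : R) (θ : ℕ → (M →ₗ[R] X))
    (hθ1 : ∀ t m, θ t m = θ (t + 1) (p • m)) :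
    ∀ (s t : ℕ) (m : M), θ t m = θ (t + s) (p ^ s • m) := by
  intro s
  induction s with
  | zero => intro t m; simp
  | succ s ihs =>
    intro t m
    rw [ihs t m, hθ1 (t + s), ← add_assoc, pow_succ, mul_comm, mul_smul]

lemma sub_rel {X : Type u} [AddCommGroup X] [Module R X] (p : R) (θ : ℕ → (M →ₗ[R] X))
    (hθ1 : ∀ t m, θ t m = θ (t + 1) (p • m)) (t : ℕ) (m : M) (t' : ℕ) (m' : M) :
    θ t m - θ t' m' = θ (t + t') (p ^ t' • m - p ^ t • m') := by
  have e1 : θ t m = θ (t + t') (p ^ t' • m) := iterate_rel p θ hθ1 t' t m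
  have e2 : θ t' m' = θ (t + t') (p ^ t • m') := by
    rw [add_comm]
    exact iterate_rel p θ hθ1 t t' m'
  rw [map_sub, ← e1, ← e2]

lemma add_rel {X : Type u} [AddCommGroup X] [Module R X] (p : R) (θ : ℕ → (M →ₗ[R] X))
    (hθ1 : ∀ t m, θ t m = θ (t + 1) (p • m)) (t : ℕ) (m : M) (t' : ℕ) (m' : M) :
    θ t m + θ t' m' = θ (t + t') (p ^ t' • m + p ^ t • m') := by
  have e1 : θ t m = θ (t + t') (p ^ t' • m) := iterate_rel p θ hθ1 t' t m
  have e2 : θ t' m' = θ (t + t') (p ^ t • m') := by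
    rw [add_comm]
    exact iterate_rel p θ hθ1 t t' m'
  rw [map_add, ← e1, ← e2]

theorem nonempty_equiv_of_gens (p : R) (θ : ℕ → (M →ₗ[R] H)) (q : ℕ → (M →ₗ[R] Q))
    (hGθ : ∀ x, ∃ t m, θ t m = x) (hGq : ∀ x, ∃ t m, q t m = x)
    (hθ1 : ∀ t m, θ t m = θ (t + 1) (p • m)) (hq1 : ∀ t m, q t m = q (t + 1) (p • m))
    (hker : ∀ t m, q t m = 0 ↔ θ t m = 0) : Nonempty (Q ≃ₗ[R] H) := by
  have key : ∀ t m t' m', q t m = q t' m' ↔ θ t m = θ t' m' := by
    intro t m t' m'
    rw [← sub_eq_zero, sub_rel p q hq1, hker, ← sub_rel p θ hθ1, sub_eq_zero]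
  choose tt mm hqtm using hGq
  have hψ : ∀ t m, θ (tt (q t m)) (mm (q t m)) = θ t m :=
    fun t m => (key _ _ _ _).1 (hqtm (q t m))
  have hadd : ∀ y y', θ (tt (y + y')) (mm (y + y')) =
      θ (tt y) (mm y) + θ (tt y') (mm y') := by
    intro y y'
    have h1 : y + y' = q (tt y + tt y') (p ^ tt y' • mm y + p ^ tt y • mm y') := by
      rw [← add_rel p q hq1, hqtm y, hqtm y']
    have h2 : θ (tt (y + y')) (mm (y + y')) =
        θ (tt y + tt y') (p ^ tt y' • mm y + p ^ tt y • mm y') := by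
      conv_lhs => rw [h1]
      exact hψ _ _
    rw [h2, ← add_rel p θ hθ1]
  have hsmul : ∀ (r : R) y, θ (tt (r • y)) (mm (r • y)) = r • θ (tt y) (mm y) := by
    intro r y
    have h1 : r • y = q (tt y) (r • mm y) := by rw [map_smul, hqtm y]
    have h2 : θ (tt (r • y)) (mm (r • y)) = θ (tt y) (r • mm y) := by
      conv_lhs => rw [h1]
      exact hψ _ _
    rw [h2, map_smul]
  let ψ : Q →ₗ[R] H :=
    { toFun := fun y => θ (tt y) (mm y)
      map_add' := hadd
      map_smul' := fun r y => hsmul r y }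
  refine ⟨LinearEquiv.ofBijective ψ ⟨?_, ?_⟩⟩
  · rw [injective_iff_map_eq_zero]
    intro y hy
    have h1 : θ (tt y) (mm y) = 0 := hy
    rw [← hqtm y]
    exact (hker _ _).2 h1
  · intro x
    obtain ⟨t, m, rfl⟩ := hGθ x
    exact ⟨q t m, hψ t m⟩

end Gens

section Away

variable {R : Type u} [CommRing R] (p : R) (fs : List R)

/-- the `R`-span of the fractions `g ^ n / p ^ n`, `g ∈ fs`. -/
def Sub : Submodule R (Localization.Away p) :=
  Submodule.span R {y : Localization.Away p | ∃ g ∈ fs, ∃ n : ℕ,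
    y = algebraMap R (Localization.Away p) (g ^ n) * IsLocalization.Away.invSelf p ^ n}

/-- `1 / p`. -/
noncomputable abbrev ip : Localization.Away p := IsLocalization.Away.invSelf p

lemma map_mul_ip : algebraMap R (Localization.Away p) p * ip p = 1 :=
  IsLocalization.Away.mul_invSelf p

lemma smul_ip_succ (m : R) (n : ℕ) : (p • m) • ip p ^ (n + 1) = m • ip p ^ n := by
  rw [smul_eq_mul, Algebra.smul_def (p * m), Algebra.smul_def m, map_mul]
  linear_combination (algebraMap R (Localization.Away p) m * ip p ^ n) * map_mul_ip p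

lemma smul_ip_add (m : R) (n k : ℕ) : (p ^ k • m) • ip p ^ (n + k) = m • ip p ^ n := by
  induction k generalizing m with
  | zero => simp
  | succ k ih =>
    have h1 : p ^ (k + 1) • m = p • (p ^ k • m) := by
      rw [pow_succ, mul_comm, mul_smul]
    rw [h1, ← add_assoc, smul_ip_succ, ih]

lemma algebraMap_eq_zero_of_smul_ip (a : R) (j : ℕ) (h : a • ip p ^ j = 0) :
    algebraMap R (Localization.Away p) a = 0 := by
  rw [Algebra.smul_def] at h
  have h1 : (algebraMap R (Localization.Away p) p * ip p) ^ j = 1 := by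
    rw [map_mul_ip, one_pow]
  have h2 : algebraMap R (Localization.Away p) a =
      (algebraMap R (Localization.Away p) a * ip p ^ j) *
        algebraMap R (Localization.Away p) p ^ j := by
    rw [mul_pow] at h1
    linear_combination (- algebraMap R (Localization.Away p) a) * h1
  rw [h2, h, zero_mul]

/-- the classes `[m / p ^ t]`. -/
noncomputable def qq (n : ℕ) : R →ₗ[R] (Localization.Away p ⧸ Sub p fs) :=
  (Sub p fs).mkQ ∘ₗ LinearMap.toSpanSingleton R (Localization.Away p) (ip p ^ n)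

lemma qq_apply (n : ℕ) (m : R) : qq p fs n m = Submodule.Quotient.mk (m • ip p ^ n) := rfl

lemma qq_succ (n : ℕ) (m : R) : qq p fs n m = qq p fs (n + 1) (p • m) := by
  rw [qq_apply, qq_apply, smul_ip_succ]

lemma qq_surj (y : Localization.Away p ⧸ Sub p fs) : ∃ t m, qq p fs t m = y := by
  obtain ⟨z, rfl⟩ := Submodule.Quotient.mk_surjective _ y
  obtain ⟨n, a, ha⟩ := IsLocalization.Away.surj p z
  refine ⟨n, a, ?_⟩
  rw [qq_apply]
  congr 1
  rw [Algebra.smul_def, ← ha]
  have h1 : (algebraMap R (Localization.Away p) p * ip p) ^ n = 1 := by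
    rw [map_mul_ip, one_pow]
  rw [mul_pow] at h1
  linear_combination z * h1

/-- the vanishing condition. -/
def CC (t : ℕ) (m : R) : Prop := ∃ k, p ^ k • m ∈ W R fs (k + t)

lemma smul_ip_mem_Sub (N : ℕ) (y : R) (hy : y ∈ W R fs N) : y • ip p ^ N ∈ Sub p fs := by
  unfold W at hy
  induction hy using Submodule.span_induction with
  | mem y hy =>
    obtain ⟨g, hg, c, rfl⟩ := hy
    have h1 : (g ^ N • c) • ip p ^ N =
        c • (algebraMap R (Localization.Away p) (g ^ N) * ip p ^ N) := by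
      rw [smul_eq_mul, mul_comm, mul_smul, Algebra.smul_def (g ^ N)]
    rw [h1]
    exact Submodule.smul_mem _ _ (Submodule.subset_span ⟨g, hg, N, rfl⟩)
  | zero => rw [zero_smul]; exact Submodule.zero_mem _
  | add y z _ _ hy hz => rw [add_smul]; exact Submodule.add_mem _ hy hz
  | smul r y _ hy => rw [smul_assoc]; exact Submodule.smul_mem _ r hy

lemma qq_eq_zero_of_CC (t : ℕ) (m : R) (h : CC p fs t m) : qq p fs t m = 0 := by
  obtain ⟨k, hk⟩ := h
  rw [qq_apply, Submodule.Quotient.mk_eq_zero, ← smul_ip_add p m t k, add_comm t k]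
  exact smul_ip_mem_Sub p fs (k + t) _ hk

variable (hdvd : ∀ g ∈ fs, g ∣ p)

include hdvd in
lemma pow_smul_mem_W' (N j : ℕ) (y : R) (hy : y ∈ W R fs N) : p ^ j • y ∈ W R fs (N + j) :=
  smul_mem_W R fs N j _ (fun g hg => pow_dvd_pow_of_dvd (hdvd g hg) j) y hy

include hdvd in
lemma exists_rep_of_mem_Sub (y : Localization.Away p) (hy : y ∈ Sub p fs) :
    ∃ N, ∃ w ∈ W R fs N, y = w • ip p ^ N := by
  unfold Sub at hy
  induction hy using Submodule.span_induction with
  | mem y hy =>
    obtain ⟨g, hg, n, rfl⟩ := hy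
    refine ⟨n, g ^ n, ?_, ?_⟩
    · have := pow_smul_mem_W R fs n g hg (1 : R)
      rwa [smul_eq_mul, mul_one] at this
    · rw [Algebra.smul_def]
  | zero => exact ⟨0, 0, Submodule.zero_mem _, by rw [zero_smul]⟩
  | add y z _ _ hy hz =>
    obtain ⟨N, w, hw, rfl⟩ := hy
    obtain ⟨N', w', hw', rfl⟩ := hz
    refine ⟨N + N', p ^ N' • w + p ^ N • w', ?_, ?_⟩
    · apply Submodule.add_mem
      · exact pow_smul_mem_W' p fs hdvd N N' w hw
      · have := pow_smul_mem_W' p fs hdvd N' N w' hw'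
        rwa [add_comm N' N] at this
    · rw [add_smul, smul_ip_add p w N N']
      have h2 := smul_ip_add p w' N' N
      rw [add_comm N' N] at h2
      rw [h2]
  | smul r y _ hy =>
    obtain ⟨N, w, hw, rfl⟩ := hy
    exact ⟨N, r • w, Submodule.smul_mem _ r hw, by rw [smul_assoc]⟩

include hdvd in
lemma CC_of_qq_eq_zero (t : ℕ) (m : R) (h : qq p fs t m = 0) : CC p fs t m := by
  rw [qq_apply, Submodule.Quotient.mk_eq_zero] at h
  obtain ⟨N, w, hw, hEq⟩ := exists_rep_of_mem_Sub p fs hdvd _ h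
  -- `m / p ^ t = w / p ^ N`
  have h1 : (p ^ N • m - p ^ t • w) • ip p ^ (t + N) = 0 := by
    rw [sub_smul, smul_ip_add p m t N]
    have h2 := smul_ip_add p w N t
    rw [add_comm N t] at h2
    rw [h2, hEq, sub_self]
  have h3 := algebraMap_eq_zero_of_smul_ip p _ _ h1
  obtain ⟨⟨s, k, rfl⟩, hs⟩ := (IsLocalization.map_eq_zero_iff (Submonoid.powers p)
    (Localization.Away p) _).1 h3
  have hs' : p ^ k * (p ^ N • m - p ^ t • w) = 0 := hs
  refine ⟨k + N, ?_⟩
  have h4 : p ^ (k + N) • m = p ^ (k + t) • w := by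
    have h5 : p ^ (k + N) • m - p ^ (k + t) • w = p ^ k * (p ^ N • m - p ^ t • w) := by
      simp only [smul_eq_mul]
      ring
    rw [← sub_eq_zero, h5, hs']
  rw [h4]
  have h6 := pow_smul_mem_W' p fs hdvd N (k + t) w hw
  have h7 : N + (k + t) = k + N + t := by omega
  rw [h7] at h6
  exact h6

include hdvd in
theorem qq_eq_zero_iff (t : ℕ) (m : R) : qq p fs t m = 0 ↔ CC p fs t m :=
  ⟨CC_of_qq_eq_zero p fs hdvd t m, qq_eq_zero_of_CC p fs t m⟩

end Away

end Groth.Agent.Helper8.CechTop
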