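import Groth.Agent.Lib.Helper8.LD4
import Groth.Agent.Lib.Helper8.ExtReg
import Groth.Agent.Lib.Helper8.Goren5

/-!
# The top local cohomology of a Gorenstein local ring is an injective hull of the residue field
-/

set_option autoImplicit false
universe u

namespace Groth.Agent.Helper8.LD

open CategoryTheory Abelian IsLocalRing LocCoh localCohomology RingTheory.Sequence
open Groth.Agent.Helper8.LC Groth.Agent.Helper8.Depth

variable {R : Type u} [CommRing R] [IsLocalRing R] [IsNoetherianRing R]

omit [IsLocalRing R] [IsNoetherianRing R] in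
lemma mu_zero_eq_length_hom (X Y : ModuleCat.{u} R) :
    mu X Y 0 = Module.length R (X →ₗ[R] Y) := by
  unfold mu
  exact (Ext.linearEquiv₀.trans ModuleCat.homLinearEquiv).length_eq

omit [IsNoetherianRing R] in
/-- lengths of `Hom(N, H)` for an injective module `H`. -/
theorem length_hom_of_injective (H : Type u) [AddCommGroup H] [Module R H] [Module.Injective R H]
    (r : ℕ∞) (hr : Module.length R ((R ⧸ maximalIdeal R) →ₗ[R] H) = r)
    (N : Type u) [AddCommGroup N] [Module R N] (hN : IsFiniteLength R N) :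
    Module.length R (N →ₗ[R] H) = r * Module.length R N := by
  induction hN with
  | of_subsingleton =>
    rw [Module.length_eq_zero, Module.length_eq_zero, mul_zero]
  | @of_simple_quotient M _ _ N _ hN ih =>
    have hsimple : Module.length R ((M ⧸ N) →ₗ[R] H) = r := by
      obtain ⟨m, hm, ⟨e⟩⟩ := isSimpleModule_iff_quot_maximal.mp
        (inferInstance : IsSimpleModule R (M ⧸ N))
      rw [eq_maximalIdeal hm] at e
      rw [(LinearEquiv.arrowCongr e (LinearEquiv.refl R H)).length_eq]
      exact hr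
    rw [Module.length_eq_add_of_exact (LinearMap.lcomp R H N.mkQ) (LinearMap.lcomp R H N.subtype)
      (Groth.Agent.Helper1.MatlisL.lcomp_mkQ_injective N)
      (Groth.Agent.Helper1.MatlisL.lcomp_surjective_of_injective _ N.injective_subtype)
      (Groth.Agent.Helper1.MatlisL.exact_lcomp_mkQ_subtype N), ih, hsimple,
      Module.length_eq_add_of_exact N.subtype N.mkQ N.injective_subtype N.mkQ_surjective
      (LinearMap.exact_subtype_mkQ N), Module.length_eq_one R (M ⧸ N), mul_add, mul_one, add_comm]

omit [IsLocalRing R] [IsNoetherianRing R] in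
lemma enat_eq_one_of_mul_eq {r L : ℕ∞} (h : r * L = L) (h0 : L ≠ 0) (htop : L ≠ ⊤) : r = 1 := by
  lift L to ℕ using htop
  have hr : r ≠ ⊤ := by
    rintro rfl
    rw [ENat.top_mul h0] at h
    exact ENat.top_ne_natCast _ h
  lift r to ℕ using hr
  have h' : r * L = L := by exact_mod_cast h
  have hL : 0 < L := Nat.pos_of_ne_zero (by exact_mod_cast h0)
  have : r = 1 := by
    have h2 : r * L = 1 * L := by rw [h', one_mul]
    exact Nat.eq_of_mul_eq_mul_right hL h2
  rw [this]; rfl

/-- **The top local cohomology of a Gorenstein local ring is an injective hull of the residue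
field.** -/
theorem exists_isInjectiveHull_H_of_gorenstein (R : Type u) [CommRing R]
    [IsGorensteinLocalRing R] (n : ℕ) (hn : ringKrullDim R = n) :
    ∃ g : ResidueField R →ₗ[R] H (maximalIdeal R) n R, InjHull.IsInjectiveHull g := by
  have hCM : IsCohenMacaulayLocalRing R :=
    Groth.Agent.Helper8.Goren.isCohenMacaulayLocalRing_of_isGorensteinLocalRing R
  have hM : IsCohenMacaulayModule R R := hCM.supportDim_eq_depth
  have hdim : Module.supportDim R R = n := by rw [Module.supportDim_self_eq_ringKrullDim, hn]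
  have hmR : maximalIdeal R • (⊤ : Submodule R R) ≠ ⊤ := smul_top_ne_top_of_local R R
  obtain ⟨xs, hreg, hmem, -, hlen⟩ := exists_maximal_isWeaklyRegular (M := R) hmR
  obtain ⟨n', hn', hdepth⟩ := cm_exists_nat hM
  have hnn : n' = n := by
    rw [hdim] at hn'
    exact_mod_cast hn'.symm
  subst hnn
  have hlen' : xs.length = n' := by
    have : (xs.length : ℕ∞) = (n' : ℕ∞) := hlen.trans hdepth
    exact_mod_cast this
  obtain ⟨hid, -⟩ := Groth.Agent.Helper8.Goren.exists_injectiveDimension_eq_dim R n' hn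
  -- comparison for the residue field
  have hkk : ∀ x ∈ xs, ∀ m : kk R, x • m = 0 := fun x hx m => smul_kk (hmem x hx) m
  have hcomp := mu_H_eq_of_regular (kk R) 1
    (fun a ha m => smul_kk (by rwa [pow_one] at ha) m) xs R hM (by rw [hdim, hlen']) hreg hmem hkk
  rw [hlen'] at hcomp
  set Hn := (localCohomology (maximalIdeal R) n').obj (ModuleCat.of R R) with hHn
  have h1 : mu (kk R) (ModuleCat.of R Hn) 1 = 0 := by
    change mu (kk R) Hn 1 = 0
    rw [hcomp 1]
    unfold mu
    have : Subsingleton (Ext (kk R) (ModuleCat.of R R) (1 + n')) :=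
      HasInjectiveDimensionLT.subsingleton (ModuleCat.of R R) (n' + 1) (1 + n') (by omega) _
    exact Module.length_eq_zero
  have hpt : IsPowerTorsion (maximalIdeal R) Hn :=
    fun x => isPowerTorsion (maximalIdeal R) n' _ x
  have hinj : Module.Injective R Hn := injective_of_mu_one_eq_zero Hn hpt h1
  -- the type is one
  set J := Ideal.ofList xs with hJ
  have hJm : J ≤ maximalIdeal R := Ideal.span_le.mpr hmem
  let X : ModuleCat.{u} R := ModuleCat.of R (R ⧸ J)
  have hXkill : ∀ x ∈ xs, ∀ m : X, x • m = 0 := by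
    intro x hx m
    obtain ⟨r, rfl⟩ := Submodule.Quotient.mk_surjective _ m
    change x • (Submodule.Quotient.mk r : R ⧸ J) = 0
    rw [← Submodule.Quotient.mk_smul, Submodule.Quotient.mk_eq_zero, smul_eq_mul]
    exact Ideal.mul_mem_right _ _ (Ideal.subset_span hx)
  obtain ⟨hiff, hcm⟩ := cm_list xs hmem R hM
  have hB' := hcm hreg
  have hdimB := hiff.mp hreg
  obtain ⟨k', hk', -⟩ := cm_exists_nat hB'
  rw [hk', hdim, hlen'] at hdimB
  have hk0 : k' = 0 := by
    have : k' + n' = n' := by exact_mod_cast hdimB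
    omega
  subst hk0
  have hsuppB := support_of_supportDim_eq_zero (R := R)
    (N := R ⧸ (J • (⊤ : Submodule R R))) (by exact_mod_cast hk')
  have hptB : IsPowerTorsion (maximalIdeal R) (R ⧸ (J • (⊤ : Submodule R R))) :=
    isPowerTorsion_of_support_subset (maximalIdeal R) _ hsuppB.le
  obtain ⟨k, hk⟩ := exists_pow_le_annihilator (maximalIdeal R) _ hptB
  rw [(quotSMulTopRingEquiv J).annihilator_eq] at hk
  have hX : ∀ a ∈ maximalIdeal R ^ k, ∀ m : X, a • m = 0 :=
    fun a ha m => Module.mem_annihilator.mp (hk ha) m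
  have a1 := mu_H_eq_of_regular X k hX xs R hM (by rw [hdim, hlen']) hreg hmem hXkill 0
  rw [hlen', zero_add] at a1
  obtain ⟨e⟩ := Groth.Agent.Helper8.ExtReg.main xs hreg R
  rw [hlen'] at e
  have a2 : mu X (ModuleCat.of R R) n' = Module.length R (R ⧸ J) := by
    unfold mu
    rw [e.length_eq, (quotSMulTopRingEquiv J).length_eq]
  have a3 : mu X Hn 0 = Module.length R ((R ⧸ maximalIdeal R) →ₗ[R] Hn) *
      Module.length R (R ⧸ J) := by
    rw [mu_zero_eq_length_hom]
    exact length_hom_of_injective Hn _ rfl (R ⧸ J)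
      (isFiniteLength_of_pow_smul_eq_zero (R ⧸ J) k hX)
  have hL0 : Module.length R (R ⧸ J) ≠ 0 := by
    have : Nontrivial (R ⧸ J) := Ideal.Quotient.nontrivial_iff.mpr
      (fun h => (Ideal.IsPrime.ne_top (Ideal.IsMaximal.isPrime' (maximalIdeal R)))
        (top_le_iff.mp (h ▸ hJm)))
    exact (Module.length_pos_iff.mpr this).ne'
  have hLtop : Module.length R (R ⧸ J) ≠ ⊤ :=
    Module.length_ne_top_iff.mpr (isFiniteLength_of_pow_smul_eq_zero (R ⧸ J) k hX)
  have hr1 : Module.length R ((R ⧸ maximalIdeal R) →ₗ[R] Hn) = 1 :=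
    enat_eq_one_of_mul_eq (by rw [← a3, a1, a2]) hL0 hLtop
  have hsimple : IsSimpleModule R (ResidueField R →ₗ[R] Hn) := Module.length_eq_one_iff.mp hr1
  exact (Groth.Agent.Helper1.MatlisL2.isInjectiveHull_iff (E := Hn)).mpr ⟨hinj, hpt, hsimple⟩

end Groth.Agent.Helper8.LD
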