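import Groth.Agent.Lib.Helper8.CechTop2
import Groth.Agent.Lib.Helper8.LD5

/-!
# The top Čech cohomology of a Gorenstein local ring on a system of parameters (helper8)

For a Gorenstein local ring `R` of dimension `d` and a system of parameters `x₁, …, x_d` with
product `p`, the module `R_p / Σ_i R_{p / x_i}` is an injective hull of the residue field: it is the
top cohomology of the extended Čech complex (`CechTop1`, `CechTop2`), which is `H^d_𝔪(R)`
(`Cech5` and independence of the radical), an injective hull of `k` by `LD5`.
-/

set_option autoImplicit false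
set_option linter.style.haveILetI false
set_option linter.unusedSectionVars false
set_option linter.unusedVariables false
universe u
open CategoryTheory CategoryTheory.Limits Opposite
attribute [local instance] HasDerivedCategory.standard

namespace Groth.Agent.Helper8.CechTop

section Hull

variable {R : Type u} [CommRing R] {M E E' : Type u} [AddCommGroup M] [Module R M]
  [AddCommGroup E] [Module R E] [AddCommGroup E'] [Module R E']

lemma isInjectiveHull_of_equiv (g : M →ₗ[R] E) (hg : InjHull.IsInjectiveHull g) (e : E ≃ₗ[R] E') :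
    InjHull.IsInjectiveHull (e.toLinearMap ∘ₗ g) := by
  refine { injective := ?_, essential := ?_, isInjective := ?_ }
  · exact e.injective.comp hg.injective
  · intro N hN
    have hN' : N.comap e.toLinearMap ≠ ⊥ := by
      intro h
      apply hN
      rw [eq_bot_iff]
      intro y hy
      have h1 : e.symm y ∈ N.comap e.toLinearMap := by
        rw [Submodule.mem_comap]
        show e (e.symm y) ∈ N
        rw [e.apply_symm_apply]
        exact hy
      rw [h, Submodule.mem_bot] at h1
      have h2 := congrArg e h1
      rw [e.apply_symm_apply, map_zero] at h2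
      rw [h2]
      exact Submodule.zero_mem _
    have h1 := hg.essential _ hN'
    intro h
    apply h1
    rw [eq_bot_iff]
    rintro z ⟨hz1, hz2⟩
    have hz : e z ∈ N ⊓ LinearMap.range (e.toLinearMap ∘ₗ g) := by
      refine ⟨hz1, ?_⟩
      obtain ⟨m, rfl⟩ := hz2
      exact ⟨m, rfl⟩
    rw [h, Submodule.mem_bot] at hz
    have h2 := congrArg e.symm hz
    rw [e.symm_apply_apply, map_zero] at h2
    rw [h2]
    exact Submodule.zero_mem _
  · exact (Module.Baer.of_equiv e (Module.Baer.of_injective hg.isInjective)).injective

end Hull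

section Main

variable {R : Type u} [CommRing R]

/-- the top cohomology of the extended Čech complex of `R` on `fs` is `R_p / Σ_g R_{p/g}`,
`p = ∏ fs`. -/
theorem nonempty_quot_equiv_top (fs : List R) (e : ℤ) (he : e = (fs.length : ℤ)) :
    Nonempty ((Localization.Away fs.prod ⧸ Sub fs.prod fs) ≃ₗ[R]
      DerCA.extCechH fs (ModuleCat.of R R) e) := by
  subst he
  have hdvd : ∀ g ∈ fs, g ∣ fs.prod := fun g hg => List.dvd_prod hg
  obtain ⟨θ, hG, hR1, hR2, hK⟩ := exists_top_gens' (ModuleCat.of R R) fs
  have hθ' := iterate_rel fs.prod θ hR1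
  have hW : ∀ (N : ℕ) (y : R), y ∈ W R fs N → θ N y = 0 := by
    intro N y hy
    unfold W at hy
    induction hy using Submodule.span_induction with
    | mem y hy =>
      obtain ⟨g, hg, c, rfl⟩ := hy
      exact hR2 N g hg c
    | zero => exact map_zero _
    | add y z _ _ hy hz => rw [map_add, hy, hz, add_zero]
    | smul r y _ hy => rw [map_smul, hy, smul_zero]
  refine nonempty_equiv_of_gens fs.prod θ (qq fs.prod fs) hG (qq_surj fs.prod fs) hR1
    (qq_succ fs.prod fs) ?_
  intro t m
  rw [qq_eq_zero_iff fs.prod fs hdvd]
  constructor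
  · rintro ⟨k, hk⟩
    rw [hθ' k t m, add_comm t k]
    exact hW _ _ hk
  · intro h
    exact hK t m h

theorem main17775 (R : Type u) [CommRing R] [LocCoh.IsGorensteinLocalRing R] (d : ℕ)
    (hd : ringKrullDim R = d) (x : Fin d → R)
    (hx : (Ideal.span (Set.range x)).radical = IsLocalRing.maximalIdeal R) :
    ∃ f : IsLocalRing.ResidueField R →ₗ[R] (Localization.Away (∏ i, x i) ⧸
      Submodule.span R {y : Localization.Away (∏ i, x i) | ∃ (i : Fin d) (n : ℕ),
        y = algebraMap R (Localization.Away (∏ i, x i)) (x i ^ n) *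
          IsLocalization.Away.invSelf (∏ i, x i) ^ n}),
      InjHull.IsInjectiveHull f := by
  classical
  have hprod : (List.ofFn x).prod = ∏ i, x i := List.prod_ofFn
  have hlen : ((d : ℕ) : ℤ) = ((List.ofFn x).length : ℤ) := by simp
  obtain ⟨e1⟩ := nonempty_quot_equiv_top (List.ofFn x) (d : ℤ) hlen
  obtain ⟨e2⟩ := Groth.Agent.Helper8.Cech.nonempty_extCechH_iso_localCohomology (List.ofFn x) R d
  have hspan : Ideal.span {y | y ∈ List.ofFn x} = Ideal.span (Set.range x) :=
    congrArg Ideal.span (Set.ext fun y => List.mem_ofFn' x y)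
  have hrad : (IsLocalRing.maximalIdeal R).radical = IsLocalRing.maximalIdeal R :=
    (IsLocalRing.maximalIdeal.isMaximal R).isPrime.radical
  have hJK : (Ideal.span {y | y ∈ List.ofFn x}).radical =
      (IsLocalRing.maximalIdeal R).radical := by
    rw [hspan, hx, hrad]
  have e3 := (localCohomology.isoOfSameRadical hJK d).app (ModuleCat.of R R)
  obtain ⟨g, hg⟩ := Groth.Agent.Helper8.LD.exists_isInjectiveHull_H_of_gorenstein R d hd
  -- the submodule of the statement
  have hSub : ∀ (p : R) (hp : (List.ofFn x).prod = p),
      Sub p (List.ofFn x) = Submodule.span R {y : Localization.Away p | ∃ (i : Fin d) (n : ℕ),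
        y = algebraMap R (Localization.Away p) (x i ^ n) *
          IsLocalization.Away.invSelf p ^ n} := by
    intro p hp
    unfold Sub
    congr 1
    ext y
    constructor
    · rintro ⟨g, hg, n, rfl⟩
      obtain ⟨i, rfl⟩ := (List.mem_ofFn' x g).1 hg
      exact ⟨i, n, rfl⟩
    · rintro ⟨i, n, rfl⟩
      exact ⟨x i, (List.mem_ofFn' x _).2 ⟨i, rfl⟩, n, rfl⟩
  -- transport along the product identity
  have key : ∀ (p : R) (hp : (List.ofFn x).prod = p),
      ∃ f : IsLocalRing.ResidueField R →ₗ[R] (Localization.Away p ⧸
        Submodule.span R {y : Localization.Away p | ∃ (i : Fin d) (n : ℕ),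
          y = algebraMap R (Localization.Away p) (x i ^ n) *
            IsLocalization.Away.invSelf p ^ n}),
        InjHull.IsInjectiveHull f := by
    intro p hp
    subst hp
    let E : LocCoh.H (IsLocalRing.maximalIdeal R) d R ≃ₗ[R]
        (Localization.Away (List.ofFn x).prod ⧸
          Submodule.span R {y : Localization.Away (List.ofFn x).prod | ∃ (i : Fin d) (n : ℕ),
            y = algebraMap R (Localization.Away (List.ofFn x).prod) (x i ^ n) *
              IsLocalization.Away.invSelf (List.ofFn x).prod ^ n}) :=
      (e3.symm ≪≫ e2.symm).toLinearEquiv ≪≫ₗ e1.symm ≪≫ₗ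
        Submodule.quotEquivOfEq _ _ (hSub _ rfl)
    exact ⟨E.toLinearMap ∘ₗ g, isInjectiveHull_of_equiv g hg E⟩
  exact key _ hprod

end Main

end Groth.Agent.Helper8.CechTop
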