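import Mathlib

/-!
# Primes of dimension one avoiding a given non-nilpotent element
-/

set_option autoImplicit false
universe u

namespace Groth.Agent.Helper8.Chev

open IsLocalRing

/-- In a Noetherian local domain, if a nonzero `x` lies in every prime other than `⊥` and the
maximal ideal, then there are no such primes. -/
theorem eq_bot_or_eq_maximalIdeal {E : Type u} [CommRing E] [IsDomain E] [IsNoetherianRing E]
    [IsLocalRing E] (x : E) (hx : x ≠ 0)
    (h : ∀ Q : Ideal E, Q.IsPrime → Q ≠ ⊥ → Q ≠ maximalIdeal E → x ∈ Q)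
    (Q : Ideal E) [hQ : Q.IsPrime] : Q = ⊥ ∨ Q = maximalIdeal E := by
  classical
  by_contra hcon
  push Not at hcon
  obtain ⟨hQ0, hQm⟩ := hcon
  have hxQ : x ∈ Q := h Q hQ hQ0 hQm
  have hxm : x ∈ maximalIdeal E := le_maximalIdeal hQ.ne_top hxQ
  have hall : ∀ P : Ideal E, P.IsPrime → P ≠ ⊥ → x ∈ P := by
    intro P hP hP0
    by_cases hPm : P = maximalIdeal E
    · rw [hPm]; exact hxm
    · exact h P hP hP0 hPm
  have hIm : Ideal.span {x} ≤ maximalIdeal E := (Ideal.span_singleton_le_iff_mem _).mpr hxm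
  let T : Finset (Ideal E) :=
    (Ideal.finite_minimalPrimes_of_isNoetherianRing E (Ideal.span {x})).toFinset
  have hT : ∀ P, P ∈ T ↔ P ∈ (Ideal.span {x}).minimalPrimes := fun P => by
    simp only [T, Set.Finite.mem_toFinset]
  have hprime : ∀ P ∈ T, P ≠ ⊥ → P ≠ ⊥ → (id P : Ideal E).IsPrime :=
    fun P hP _ _ => ((hT P).mp hP).1.1
  have hav := Ideal.subset_union_prime (s := T) (f := id) ⊥ ⊥ hprime (I := maximalIdeal E)
  have hnot : ¬ ∃ P ∈ T, maximalIdeal E ≤ id P := by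
    rintro ⟨P, hP, hle⟩
    have hmin := (hT P).mp hP
    have hPm : P = maximalIdeal E := le_antisymm (le_maximalIdeal hmin.1.1.ne_top) hle
    have hIQ : Ideal.span {x} ≤ Q := (Ideal.span_singleton_le_iff_mem _).mpr hxQ
    have hQP : Q ≤ P := hPm ▸ le_maximalIdeal hQ.ne_top
    have h1 : P ≤ Q := hmin.2 ⟨hQ, hIQ⟩ hQP
    exact hQm (le_antisymm (le_maximalIdeal hQ.ne_top) (hPm ▸ h1))
  rw [← hav, Set.not_subset] at hnot
  obtain ⟨y, hym, hyT⟩ := hnot
  obtain ⟨P0, hP0min, -⟩ := Ideal.exists_minimalPrimes_le hIm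
  have hy0 : y ≠ 0 := by
    rintro rfl
    apply hyT
    simp only [Set.mem_iUnion, id]
    exact ⟨P0, Finset.mem_coe.mpr ((hT P0).mpr hP0min), P0.zero_mem⟩
  have hyle : Ideal.span {y} ≤ maximalIdeal E := (Ideal.span_singleton_le_iff_mem _).mpr hym
  obtain ⟨P2, hP2min, -⟩ := Ideal.exists_minimalPrimes_le hyle
  haveI hP2 : P2.IsPrime := hP2min.1.1
  have hyP2 : y ∈ P2 := hP2min.1.2 (Ideal.mem_span_singleton_self y)
  have hht : P2.height ≤ 1 :=
    Ideal.height_le_one_of_isPrincipal_of_mem_minimalPrimes _ _ hP2min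
  have hP2ne : P2 ≠ ⊥ := fun hb => hy0 (by rw [hb, Ideal.mem_bot] at hyP2; exact hyP2)
  have hxP2 : x ∈ P2 := hall P2 hP2 hP2ne
  obtain ⟨P1, hP1min, hP1le⟩ :=
    Ideal.exists_minimalPrimes_le ((Ideal.span_singleton_le_iff_mem _).mpr hxP2 :
      Ideal.span {x} ≤ P2)
  haveI hP1 : P1.IsPrime := hP1min.1.1
  have hxP1 : x ∈ P1 := hP1min.1.2 (Ideal.mem_span_singleton_self x)
  have hP1ne : P1 ≠ ⊥ := fun hb => hx (by rw [hb, Ideal.mem_bot] at hxP1; exact hxP1)
  have hbotlt : (⊥ : Ideal E) < P1 := bot_lt_iff_ne_bot.mpr hP1ne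
  have heq : P1 = P2 := by
    by_contra hne
    have hlt : P1 < P2 := lt_of_le_of_ne hP1le hne
    haveI : (⊥ : Ideal E).IsPrime := Ideal.isPrime_bot
    have e1 : (⊥ : Ideal E).height < P1.height := Ideal.height_strict_mono_of_isPrime hbotlt
    have e2 : P1.height < P2.height := Ideal.height_strict_mono_of_isPrime hlt
    have e3 : (1 : ℕ∞) ≤ P1.height := Order.one_le_iff_pos.mpr (lt_of_le_of_lt bot_le e1)
    have e4 : (1 : ℕ∞) < P2.height := lt_of_le_of_lt e3 e2
    exact absurd hht (not_le.mpr e4)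
  apply hyT
  simp only [Set.mem_iUnion, id]
  exact ⟨P1, Finset.mem_coe.mpr ((hT P1).mpr hP1min), heq ▸ hyP2⟩

variable {A : Type u} [CommRing A] [IsNoetherianRing A] [IsLocalRing A]

/-- In a Noetherian local ring whose maximal ideal is not a minimal prime, every
non-nilpotent element is avoided by some prime `p` with `dim A / p = 1`. -/
theorem exists_prime_dim_one_notMem (hm : maximalIdeal A ∉ minimalPrimes A) (x : A)
    (hx : ¬ IsNilpotent x) :
    ∃ p : Ideal A, p.IsPrime ∧ x ∉ p ∧ ringKrullDim (A ⧸ p) = 1 := by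
  -- a minimal prime not containing x
  have h1 : ∃ q : Ideal A, q.IsPrime ∧ x ∉ q ∧ q ≠ maximalIdeal A := by
    have hx' : x ∉ nilradical A := hx
    rw [nilradical_eq_sInf, Submodule.mem_sInf] at hx'
    push Not at hx'
    obtain ⟨q0, hq0, hxq0⟩ := hx'
    haveI : Ideal.IsPrime q0 := hq0
    obtain ⟨q, hqmin, hqle⟩ := Ideal.exists_minimalPrimes_le (bot_le : (⊥ : Ideal A) ≤ q0)
    refine ⟨q, hqmin.1.1, fun hxq => hxq0 (hqle hxq), ?_⟩
    rintro rfl
    exact hm hqmin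
  let 𝒮 : Set (Ideal A) := {q | q.IsPrime ∧ x ∉ q ∧ q ≠ maximalIdeal A}
  have h𝒮 : 𝒮.Nonempty := h1
  obtain ⟨P, ⟨hP, hxP, hPm⟩, hmax⟩ :=
    (set_has_maximal_iff_noetherian (R := A) (M := A)).mpr inferInstance 𝒮 h𝒮
  haveI := hP
  refine ⟨P, hP, hxP, ?_⟩
  -- the quotient domain
  have hsurj : Function.Surjective (Ideal.Quotient.mk P) := Ideal.Quotient.mk_surjective
  haveI : IsLocalRing (A ⧸ P) := IsLocalRing.of_surjective' (Ideal.Quotient.mk P) hsurj
  have hcm : (maximalIdeal (A ⧸ P)).comap (Ideal.Quotient.mk P) = maximalIdeal A := by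
    have : ((maximalIdeal (A ⧸ P)).comap (Ideal.Quotient.mk P)).IsMaximal :=
      Ideal.comap_isMaximal_of_surjective _ hsurj
    exact IsLocalRing.eq_maximalIdeal this
  have hxbar : Ideal.Quotient.mk P x ≠ 0 := fun h0 => hxP (Ideal.Quotient.eq_zero_iff_mem.mp h0)
  have hkey : ∀ Q : Ideal (A ⧸ P), Q.IsPrime → Q ≠ ⊥ → Q ≠ maximalIdeal (A ⧸ P) →
      Ideal.Quotient.mk P x ∈ Q := by
    intro Q hQ hQ0 hQm
    by_contra hxQ
    have hQ' : (Q.comap (Ideal.Quotient.mk P)).IsPrime := Ideal.comap_isPrime _ Q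
    have hne : Q.comap (Ideal.Quotient.mk P) ≠ maximalIdeal A := by
      intro heq
      apply hQm
      rw [← Ideal.map_comap_of_surjective _ hsurj Q, heq, ← hcm,
        Ideal.map_comap_of_surjective _ hsurj]
    have hmem : Q.comap (Ideal.Quotient.mk P) ∈ 𝒮 := ⟨hQ', hxQ, hne⟩
    have hle : P ≤ Q.comap (Ideal.Quotient.mk P) := by
      intro a ha
      rw [Ideal.mem_comap, Ideal.Quotient.eq_zero_iff_mem.mpr ha]
      exact Q.zero_mem
    have heq : P = Q.comap (Ideal.Quotient.mk P) := by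
      by_contra hne'
      exact hmax _ hmem (lt_of_le_of_ne hle hne')
    apply hQ0
    rw [← Ideal.map_comap_of_surjective _ hsurj Q, ← heq, Ideal.map_quotient_self]
  have hdich : ∀ Q : Ideal (A ⧸ P), Q.IsPrime → Q = ⊥ ∨ Q = maximalIdeal (A ⧸ P) :=
    fun Q hQ => eq_bot_or_eq_maximalIdeal _ hxbar hkey Q
  have hnf : ¬ IsField (A ⧸ P) := by
    intro hf
    apply hPm
    have : Ideal.IsMaximal P := Ideal.Quotient.maximal_of_isField P hf
    exact IsLocalRing.eq_maximalIdeal this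
  have hle1 : Ring.KrullDimLE 1 (A ⧸ P) := by
    refine Ring.krullDimLE_one_iff_of_noZeroDivisors.mpr fun I hI hIp => ?_
    rcases hdich I hIp with h | h
    · exact absurd h hI
    · rw [h]; exact maximalIdeal.isMaximal _
  have hnle0 : ¬ ringKrullDim (A ⧸ P) ≤ 0 := fun h => by
    have : Ring.KrullDimLE 0 (A ⧸ P) := Ring.krullDimLE_iff.mpr h
    exact hnf Ring.KrullDimLE.isField_of_isDomain
  rw [Ring.krullDimLE_iff] at hle1
  exact le_antisymm hle1 (Order.succ_le_of_lt (lt_of_not_ge hnle0))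

end Groth.Agent.Helper8.Chev
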