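import Groth.Agent.Lib.Helper8.Chev1
import Groth.Agent.Lib.Helper8.Chev2
import Groth.Agent.Lib.Helper8.FlatS1_3
import Groth.Agent.Lib.Helper8.FinExt1

/-!
# Complete reduced Noetherian local rings: finitely many finite DVR quotients separate `m ^ n`
-/

set_option autoImplicit false
universe u

namespace Groth.Agent.Helper8.Chev

open IsLocalRing

variable (A : Type u) [CommRing A] [IsNoetherianRing A] [IsLocalRing A]
  [IsAdicComplete (maximalIdeal A) A]

/-- The normalization of `A ⧸ p`, for `p` of dimension one, is a DVR finite over `A`. -/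
theorem exists_dvr (p : Ideal A) [p.IsPrime] (hp : ringKrullDim (A ⧸ p) = 1) :
    ∃ (T : Type u) (_ : CommRing T) (_ : IsDomain T) (_ : IsDiscreteValuationRing T)
      (φ : A →+* T), IsLocalHom φ ∧ φ.Finite ∧ RingHom.ker φ = p := by
  obtain ⟨T, i1, i2, alg, hfin, hloc, hic, hker⟩ := FlatS1.exists_normalization A p
  haveI : IsNoetherianRing T := IsNoetherianRing.of_finite A T
  haveI : Algebra.IsIntegral A T := Algebra.IsIntegral.of_finite A T
  have hcm := FlatS1.comap_maximalIdeal_eq A T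
  have hpm : p ≠ maximalIdeal A := by
    intro h
    have hf : IsField (A ⧸ p) := by
      rw [h]
      exact (Ideal.Quotient.maximal_ideal_iff_isField_quotient _).mp (maximalIdeal.isMaximal A)
    rw [ringKrullDim_eq_zero_of_isField hf] at hp
    exact zero_ne_one hp
  have hcomap_bot : (⊥ : Ideal T).comap (algebraMap A T) = p := by
    rw [← hker]; rfl
  have hdich : ∀ Q : Ideal T, Q.IsPrime → Q ≠ ⊥ → Q = maximalIdeal T := by
    intro Q hQ hQ0
    haveI hQ' : (Q.comap (algebraMap A T)).IsPrime := Ideal.comap_isPrime _ Q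
    have hle : p ≤ Q.comap (algebraMap A T) := by
      rw [← hcomap_bot]; exact Ideal.comap_mono bot_le
    rcases FinExt.eq_or_eq_maximalIdeal_of_le p hp _ hle with h | h
    · exfalso
      obtain ⟨x, hxQ, hx0⟩ : ∃ x ∈ Q, x ≠ 0 := by
        by_contra hcon
        push Not at hcon
        exact hQ0 ((Submodule.eq_bot_iff _).mpr hcon)
      haveI : (⊥ : Ideal T).IsPrime := Ideal.isPrime_bot
      have hlt := Ideal.comap_lt_comap_of_integral_mem_sdiff (R := A) (I := (⊥ : Ideal T))
        (J := Q) bot_le (x := x) ⟨hxQ, by simpa using hx0⟩ (Algebra.IsIntegral.isIntegral x)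
      rw [hcomap_bot, h] at hlt
      exact lt_irrefl _ hlt
    · exact FlatS1.eq_maximalIdeal_of_comap_eq A T Q h.ge
  have hnf : ¬ IsField T := by
    intro hf
    letI := hf.toField
    haveI : (⊥ : Ideal T).IsMaximal := Ideal.bot_isMaximal
    have : ((⊥ : Ideal T).comap (algebraMap A T)).IsMaximal :=
      Ideal.isMaximal_comap_of_isIntegral_of_isMaximal (R := A) (⊥ : Ideal T)
    rw [hcomap_bot] at this
    exact hpm (IsLocalRing.eq_maximalIdeal this)
  have hmne : maximalIdeal T ≠ ⊥ := isField_iff_maximalIdeal_eq.not.mp hnf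
  have hdvr : IsDiscreteValuationRing T := by
    have h4 : IsIntegrallyClosed T ∧ ∃! P : Ideal T, P ≠ ⊥ ∧ P.IsPrime :=
      ⟨hic, maximalIdeal T, ⟨hmne, inferInstance⟩, fun Q hQ => hdich Q hQ.2 hQ.1⟩
    exact ((IsDiscreteValuationRing.TFAE T hnf).out 0 3).mpr h4
  have hfin' : (algebraMap A T).Finite := by
    rw [RingHom.finite_algebraMap]; exact hfin
  refine ⟨T, i1, i2, hdvr, algebraMap A T, ?_, hfin', hker⟩
  constructor
  intro a ha
  by_contra hna
  have h1 : a ∈ maximalIdeal A := (mem_maximalIdeal a).mpr hna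
  rw [← hcm, Ideal.mem_comap, mem_maximalIdeal] at h1
  exact h1 ha

variable {A}

omit [IsNoetherianRing A] [IsAdicComplete (maximalIdeal A) A] in
/-- In a reduced local ring which is not a field, the maximal ideal is not a minimal prime. -/
theorem maximalIdeal_notMem_minimalPrimes [IsReduced A] (hA : ¬ IsField A) :
    maximalIdeal A ∉ minimalPrimes A := by
  intro hmin
  apply hA
  rw [isField_iff_maximalIdeal_eq]
  have hnil : nilradical A = maximalIdeal A := by
    rw [nilradical_eq_sInf]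
    apply le_antisymm
    · exact sInf_le (inferInstance : (maximalIdeal A).IsPrime)
    · refine le_sInf fun q hq => ?_
      have hq' : q.IsPrime := hq
      exact hmin.2 ⟨hq', bot_le⟩ (le_maximalIdeal hq'.ne_top)
  rw [← hnil]
  exact nilradical_eq_zero A

/-- The main statement on ideals: finitely many primes of dimension one with intersection in
`m ^ n`. -/
theorem exists_finset_primes [IsReduced A] (hA : ¬ IsField A) (n : ℕ) :
    ∃ F : Finset (Ideal A), (∀ p ∈ F, p.IsPrime ∧ ringKrullDim (A ⧸ p) = 1) ∧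
      F.inf id ≤ maximalIdeal A ^ n := by
  classical
  let 𝓕 : Set (Ideal A) := {a | ∃ F : Finset (Ideal A),
    (∀ p ∈ F, p.IsPrime ∧ ringKrullDim (A ⧸ p) = 1) ∧ a = F.inf id}
  have hne : 𝓕.Nonempty := ⟨⊤, ∅, by simp, by simp⟩
  have hdir : ∀ a ∈ 𝓕, ∀ b ∈ 𝓕, ∃ c ∈ 𝓕, c ≤ a ∧ c ≤ b := by
    rintro a ⟨F, hF, rfl⟩ b ⟨G, hG, rfl⟩
    refine ⟨(F ∪ G).inf id, ⟨F ∪ G, ?_, rfl⟩, ?_, ?_⟩
    · intro p hp
      rcases Finset.mem_union.mp hp with h | h
      · exact hF p h
      · exact hG p h
    · exact Finset.inf_mono Finset.subset_union_left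
    · exact Finset.inf_mono Finset.subset_union_right
  have hinf : sInf 𝓕 = ⊥ := by
    rw [eq_bot_iff]
    intro x hx
    rw [Ideal.mem_bot]
    by_contra hx0
    have hnil : ¬ IsNilpotent x := fun h => hx0 (IsReduced.eq_zero x h)
    obtain ⟨p, hp, hxp, hdim⟩ :=
      exists_prime_dim_one_notMem (maximalIdeal_notMem_minimalPrimes hA) x hnil
    rw [Ideal.mem_sInf] at hx
    have : x ∈ ({p} : Finset (Ideal A)).inf id := hx ⟨{p}, by simpa using ⟨hp, hdim⟩, rfl⟩
    rw [Finset.inf_singleton] at this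
    exact hxp this
  obtain ⟨a, ⟨F, hF, rfl⟩, hle⟩ := exists_le_pow_of_directed 𝓕 hne hdir hinf n
  exact ⟨F, hF, hle⟩

end Groth.Agent.Helper8.Chev
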