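import Mathlib
import Groth.Agent.S2451
import Groth.Agent.Lib.Helper2.SepPerfect
import Groth.Agent.Lib.Helper8.Cohen2

/-!
# The prime local rings `ℤ_(p)` and Cohen rings as Cohen algebras over them
-/

set_option autoImplicit false

namespace Groth.Agent.Helper8.CohenAlg

open IsLocalRing

section P

variable (p : ℕ) [hp : (Ideal.span {(p : ℤ)}).IsPrime]

/-- The prime local ring. -/
abbrev P : Type := Localization.AtPrime (Ideal.span {(p : ℤ)})

theorem maximalIdeal_P : maximalIdeal (P p) = Ideal.span {(p : P p)} := by
  rw [← Localization.AtPrime.map_eq_maximalIdeal, Ideal.map_span, Set.image_singleton,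
    map_natCast]

theorem algebraMap_int_injective : Function.Injective (algebraMap ℤ (P p)) :=
  IsLocalization.injective _ (Ideal.primeCompl_le_nonZeroDivisors (Ideal.span {(p : ℤ)}))

theorem natCast_ne_zero_P (hp0 : p ≠ 0) : (p : P p) ≠ 0 := by
  intro h
  have h1 : algebraMap ℤ (P p) (p : ℤ) = algebraMap ℤ (P p) 0 := by
    rw [map_natCast, map_zero]; exact h
  have := algebraMap_int_injective p h1
  exact hp0 (by exact_mod_cast this)

include hp in
theorem prime_of_ne_zero (hp0 : p ≠ 0) : p.Prime := by
  have h1 : (p : ℤ) ≠ 0 := by exact_mod_cast hp0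
  exact Nat.prime_iff_prime_int.2 ((Ideal.span_singleton_prime h1).1 hp)

theorem finite_residueField_P (hp0 : p ≠ 0) : Finite (ResidueField (P p)) := by
  have h1 : (p : ℤ) ≠ 0 := by exact_mod_cast hp0
  haveI : (Ideal.span {(p : ℤ)}).IsMaximal :=
    Ideal.IsPrime.isMaximal hp (by rwa [Ne, Ideal.span_singleton_eq_bot])
  haveI : NeZero p := ⟨hp0⟩
  haveI : Finite (ℤ ⧸ Ideal.span {(p : ℤ)}) :=
    Finite.of_equiv _ (Int.quotientSpanNatEquivZMod p).symm.toEquiv
  exact Finite.of_equiv _
    (IsLocalization.AtPrime.equivQuotMaximalIdeal (Ideal.span {(p : ℤ)}) (P p)).toEquiv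

/-- Every field extension of the residue field of the prime local ring is separable. -/
theorem isGeometricallyReduced_of_residueField_P [CharP (ResidueField (P p)) p]
    (K : Type) [Field K] [Algebra (ResidueField (P p)) K] :
    Algebra.IsGeometricallyReduced (ResidueField (P p)) K := by
  by_cases hp0 : p = 0
  · haveI : CharZero (ResidueField (P p)) := by
      haveI : CharP (ResidueField (P p)) 0 := by rw [← hp0]; infer_instance
      exact CharP.charP_to_charZero _
    haveI : Algebra.FormallySmooth (ResidueField (P p)) K :=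
      Groth.Agent.Helper2.Sep.formallySmooth_of_charZero _ K
    exact Groth.Agent.S2451.result.1 inferInstance
  · haveI : Fact p.Prime := ⟨prime_of_ne_zero p hp0⟩
    haveI := finite_residueField_P p hp0
    haveI : PerfectRing (ResidueField (P p)) p := PerfectRing.ofFiniteOfIsReduced p _
    haveI : Algebra.FormallySmooth (ResidueField (P p)) K :=
      Groth.Agent.Helper2.Sep.formallySmooth_of_perfect p _ K
    exact Groth.Agent.S2451.result.1 inferInstance

end P

end Groth.Agent.Helper8.CohenAlg
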