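import Mathlib
import Groth.Prelude.Def_EGA41
import Groth.Agent.S2363
import Groth.Agent.Lib.Helper8.CoeffField4

/-!
# Existence of Cohen algebras with prescribed residue field (EGA 0_IV 19.8.2 (i))
-/

set_option autoImplicit false

namespace Groth.Agent.Helper8.CohenAlg

open IsLocalRing

universe u

/-- Existence of a Cohen `A`-algebra with residue field `K`. -/
theorem exists_cohenAlgebra {A : Type u} [CommRing A] [IsLocalRing A] [IsNoetherianRing A]
    (K : Type u) [Field K] [Algebra (ResidueField A) K]
    [Algebra.IsGeometricallyReduced (ResidueField A) K] :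
    ∃ (B : Type u) (_ : CommRing B) (_ : IsLocalRing B) (_ : Algebra A B)
      (_ : IsLocalHom (algebraMap A B)),
      EGA41.IsCohenAlgebra A B ∧ Nonempty (ResidueField B ≃ₐ[ResidueField A] K) := by
  obtain ⟨B₀, _, _, hN, hL, hloc, hflat, e, he⟩ := Groth.Agent.S2363.result (A := A) K
  have hmax₀ : (maximalIdeal A).map (algebraMap A B₀) = maximalIdeal B₀ := by
    have hfield : IsField (B₀ ⧸ (maximalIdeal A).map (algebraMap A B₀)) :=
      e.toMulEquiv.isField (Field.toIsField K)
    have := Ideal.Quotient.maximal_of_isField _ hfield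
    exact IsLocalRing.eq_maximalIdeal this
  let B := AdicCompletion (maximalIdeal B₀) B₀
  haveI : IsScalarTower A B₀ B := IsScalarTower.of_algebraMap_eq (fun _ => rfl)
  haveI hlocB : IsLocalHom (algebraMap A B) := by
    refine ⟨fun a ha => ?_⟩
    rw [IsScalarTower.algebraMap_apply A B₀ B] at ha
    exact IsLocalHom.map_nonunit (f := algebraMap A B₀) a
      (IsLocalHom.map_nonunit (f := algebraMap B₀ B) _ ha)
  have hmaxB : (maximalIdeal A).map (algebraMap A B) = maximalIdeal B := by
    rw [IsScalarTower.algebraMap_eq A B₀ B, ← Ideal.map_map, hmax₀]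
    exact (AdicCompletion.maximalIdeal_eq_map (R := B₀)).symm
  -- the residue field
  let ι : ResidueField B₀ ≃+* ResidueField B :=
    RingEquiv.ofBijective _ (AdicCompletion.residueField_map_bijective B₀)
  let q : ResidueField B₀ ≃+* K :=
    (Ideal.quotEquivOfEq hmax₀.symm : (B₀ ⧸ maximalIdeal B₀) ≃+* _).trans e
  let ε₀ : ResidueField B ≃+* K := ι.symm.trans q
  have hε₀ : ∀ x : ResidueField A, ε₀ (algebraMap (ResidueField A) (ResidueField B) x) =
      algebraMap (ResidueField A) K x := by
    intro x
    obtain ⟨a, rfl⟩ := IsLocalRing.residue_surjective x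
    have h1 : algebraMap (ResidueField A) (ResidueField B) (residue A a) =
        ι (residue B₀ (algebraMap A B₀ a)) := by
      rw [IsLocalRing.ResidueField.algebraMap_residue]
      show _ = IsLocalRing.ResidueField.map (algebraMap B₀ B) (residue B₀ (algebraMap A B₀ a))
      rw [IsLocalRing.ResidueField.map_residue, ← IsScalarTower.algebraMap_apply A B₀ B]
    rw [h1]
    show q (ι.symm (ι _)) = _
    rw [RingEquiv.symm_apply_apply]
    exact he a
  let ε : ResidueField B ≃ₐ[ResidueField A] K := AlgEquiv.ofRingEquiv (f := ε₀) hε₀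
  haveI : Module.Flat A B₀ := hflat
  refine ⟨B, inferInstance, inferInstance, inferInstance, hlocB, ⟨inferInstance, inferInstance,
    inferInstance, Module.Flat.trans A B₀ B, hmaxB, ?_⟩, ⟨ε⟩⟩
  exact Algebra.IsGeometricallyReduced.of_injective ε.toAlgHom ε.injective

end Groth.Agent.Helper8.CohenAlg
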