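import Mathlib
import Groth.Prelude.Def_EGA41
import Groth.Agent.Lib.Helper8.CohenSm3
import Groth.Agent.S2451

/-!
# Uniqueness of Cohen algebras with prescribed residue field (EGA 0_IV 19.8.2 (ii))
-/

set_option autoImplicit false

namespace Groth.Agent.Helper8.CohenAlg

open IsLocalRing

universe u

section bij

variable {A : Type u} [CommRing A] [IsLocalRing A]
  {B B' : Type u} [CommRing B] [IsLocalRing B] [Algebra A B] [CommRing B'] [IsLocalRing B']
  [Algebra A B'] [IsNoetherianRing B] [Module.Flat A B']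
  [IsAdicComplete (maximalIdeal B) B] [IsAdicComplete (maximalIdeal B') B']

/-- An `A`-homomorphism of complete local rings with `𝔪_A B`, `𝔪_A B'` maximal, `B'` flat over `A`,
inducing an isomorphism on residue fields, is bijective. -/
theorem bijective_of_residue
    (hB : (maximalIdeal A).map (algebraMap A B) = maximalIdeal B)
    (hB' : (maximalIdeal A).map (algebraMap A B') = maximalIdeal B')
    (v : B →ₐ[A] B') (hinj : ∀ x : B, v x ∈ maximalIdeal B' → x ∈ maximalIdeal B)
    (hsurj : ∀ y : B', ∃ x : B, y - v x ∈ maximalIdeal B') : Function.Bijective v := by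
  have hmap : (maximalIdeal B).map (v : B →+* B') = maximalIdeal B' := by
    rw [← hB, Ideal.map_map, ← hB']
    congr 1
    exact v.comp_algebraMap
  have hsv : Function.Surjective v := by
    haveI : IsHausdorff ((maximalIdeal B).map (v : B →+* B')) B' := by
      rw [hmap]; infer_instance
    apply surjective_of_mk_map_comp_surjective (v : B →+* B') (I := maximalIdeal B)
    intro y
    obtain ⟨y', rfl⟩ := Ideal.Quotient.mk_surjective y
    obtain ⟨x, hx⟩ := hsurj y'
    refine ⟨x, ?_⟩
    rw [RingHom.comp_apply, eq_comm, Ideal.Quotient.eq, hmap]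
    exact hx
  refine ⟨?_, hsv⟩
  -- injectivity
  let N : Ideal B := RingHom.ker (v : B →+* B')
  have hmemN : ∀ x : B, x ∈ N ↔ v x = 0 := fun x => RingHom.mem_ker
  have hNm : N ≤ maximalIdeal B := by
    intro x hx
    apply hinj
    rw [(hmemN x).1 hx]
    exact zero_mem _
  let L : Submodule A B := LinearMap.ker v.toLinearMap
  have hmemL : ∀ x : B, x ∈ L ↔ v x = 0 := fun x => LinearMap.mem_ker
  have hL : ∀ x : L, x ∈ maximalIdeal A • (⊤ : Submodule A L) := by
    intro x
    apply Groth.Agent.Helper8.CohenSm.mem_smul_top_of_flat L.subtype v.toLinearMap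
      L.subtype_injective hsv (LinearMap.exact_subtype_ker_map v.toLinearMap)
    rw [Ideal.smul_top_eq_map, Submodule.restrictScalars_mem, hB]
    exact hNm ((hmemN _).2 ((hmemL _).1 x.2))
  have hsub : ∀ y ∈ maximalIdeal A • (⊤ : Submodule A L), (y : B) ∈ maximalIdeal B * N := by
    intro y hy
    refine Submodule.smul_induction_on (p := fun y : L => (y : B) ∈ maximalIdeal B * N) hy ?_ ?_
    · intro a ha l _
      show (a • (l : B)) ∈ _
      rw [Algebra.smul_def]
      refine Ideal.mul_mem_mul ?_ ((hmemN _).2 ((hmemL _).1 l.2))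
      rw [← hB]
      exact Ideal.mem_map_of_mem _ ha
    · intro y z hy hz
      exact Ideal.add_mem _ hy hz
  have hN0 : N = ⊥ := by
    apply Submodule.eq_bot_of_le_smul_of_le_jacobson_bot (maximalIdeal B) N
      (IsNoetherian.noetherian N) _ (IsLocalRing.maximalIdeal_le_jacobson _)
    intro x hx
    rw [smul_eq_mul]
    exact hsub ⟨x, (hmemL x).2 ((hmemN x).1 hx)⟩ (hL _)
  rw [injective_iff_map_eq_zero]
  intro x hx
  have : x ∈ N := (hmemN x).2 hx
  rw [hN0] at this
  exact this

end bij

/-- Uniqueness of Cohen algebras with given residue field. -/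
theorem exists_algEquiv {A : Type u} [CommRing A] [IsLocalRing A]
    (K : Type u) [Field K] [Algebra (ResidueField A) K]
    (B B' : Type u) [CommRing B] [IsLocalRing B] [Algebra A B] [IsLocalHom (algebraMap A B)]
    [CommRing B'] [IsLocalRing B'] [Algebra A B'] [IsLocalHom (algebraMap A B')]
    (h : EGA41.IsCohenAlgebra A B) (h' : EGA41.IsCohenAlgebra A B')
    (ε : ResidueField B ≃ₐ[ResidueField A] K) (ε' : ResidueField B' ≃ₐ[ResidueField A] K) :
    Nonempty (B ≃ₐ[A] B') := by
  obtain ⟨hNA, hNB, hcompl, hflat, hmax, hgr⟩ := h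
  obtain ⟨_, hNB', hcompl', hflat', hmax', hgr'⟩ := h'
  letI : Algebra (A ⧸ IsLocalRing.maximalIdeal A) (IsLocalRing.ResidueField B) :=
    inferInstanceAs (Algebra (IsLocalRing.ResidueField A) (IsLocalRing.ResidueField B))
  haveI : IsScalarTower A (A ⧸ IsLocalRing.maximalIdeal A) (IsLocalRing.ResidueField B) :=
    inferInstanceAs (IsScalarTower A (IsLocalRing.ResidueField A) (IsLocalRing.ResidueField B))
  haveI : Algebra.FormallySmooth (A ⧸ IsLocalRing.maximalIdeal A) (IsLocalRing.ResidueField B) :=
    (Groth.Agent.S2451.result (k := IsLocalRing.ResidueField A)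
      (K := IsLocalRing.ResidueField B)).2 hgr
  let ρ : B →ₐ[A] IsLocalRing.ResidueField B :=
    IsScalarTower.toAlgHom A B (IsLocalRing.ResidueField B)
  have hρ : Function.Surjective ρ := IsLocalRing.residue_surjective
  have hker : RingHom.ker ρ = (IsLocalRing.maximalIdeal A).map (algebraMap A B) := by
    rw [hmax]
    exact IsLocalRing.ker_residue (R := B)
  let τ : ResidueField B ≃ₐ[ResidueField A] ResidueField B' := ε.trans ε'.symm
  let u : B →ₐ[A] B' ⧸ maximalIdeal B' := (τ.toAlgHom.restrictScalars A).comp ρ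
  obtain ⟨v, hv⟩ := Groth.Agent.Helper8.CohenSm.exists_lift_complete (maximalIdeal A) ρ hρ hker
    (maximalIdeal B') (le_of_eq hmax') u
  have hvx : ∀ x, residue B' (v x) = τ (residue B x) := fun x => AlgHom.congr_fun hv x
  refine ⟨AlgEquiv.ofBijective v (bijective_of_residue hmax hmax' v ?_ ?_)⟩
  · intro x hx
    rw [← residue_eq_zero_iff] at hx ⊢
    rw [hvx] at hx
    exact (map_eq_zero_iff τ τ.injective).1 hx
  · intro y
    obtain ⟨x, hx⟩ := residue_surjective (τ.symm (residue B' y))
    refine ⟨x, ?_⟩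
    rw [← residue_eq_zero_iff, map_sub, hvx, hx, τ.apply_symm_apply, sub_self]

end Groth.Agent.Helper8.CohenAlg
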