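import Mathlib
import Groth.Agent.Lib.Helper8.CohenLift2

/-!
# Cohen rings with isomorphic residue fields are isomorphic
-/

set_option autoImplicit false

namespace Groth.Agent.Helper8.CohenIso

open IsLocalRing

universe u

/-- A field is isomorphic to its residue field through the residue map. -/
theorem residue_bijective_of_isField (W : Type u) [CommRing W] [IsLocalRing W] (hW : IsField W) :
    Function.Bijective (residue W) := by
  refine ⟨?_, residue_surjective⟩
  rw [injective_iff_map_eq_zero]
  intro x hx
  rw [residue_eq_zero_iff] at hx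
  by_contra hne
  letI := hW.toField
  exact (mem_maximalIdeal x).1 hx (isUnit_iff_ne_zero.2 hne)

section dvr

variable (W : Type u) [CommRing W] [IsDomain W] [IsDiscreteValuationRing W]
  [IsAdicComplete (maximalIdeal W) W] (p : ℕ) (hp : p.Prime)
  (hm : maximalIdeal W = Ideal.span {(p : W)})
  (W' : Type u) [CommRing W'] [IsDomain W'] [IsDiscreteValuationRing W']
  [IsAdicComplete (maximalIdeal W') W']
  (hm' : maximalIdeal W' = Ideal.span {(p : W')})

include hp hm hm' in
theorem exists_ringEquiv_of_residue (u : ResidueField W ≃+* ResidueField W') :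
    ∃ v : W ≃+* W', ∀ x : W, residue W' (v x) = u (residue W x) := by
  have hpW' : (p : W') ∈ maximalIdeal W' := by rw [hm']; exact Ideal.mem_span_singleton_self _
  let g : W →+* W' ⧸ maximalIdeal W' := u.toRingHom.comp (residue W)
  obtain ⟨φ, hφ⟩ := Groth.Agent.Helper8.CohenLift.exists_lift_complete W p hp hm
    (maximalIdeal W') hpW' g
  have hmap : (maximalIdeal W).map φ = maximalIdeal W' := by
    rw [hm, hm', Ideal.map_span, Set.image_singleton, map_natCast]
  have hsurj : Function.Surjective φ := by
    haveI : IsHausdorff ((maximalIdeal W).map φ) W' := by rw [hmap]; infer_instance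
    apply surjective_of_mk_map_comp_surjective φ (I := maximalIdeal W)
    intro y
    obtain ⟨r, rfl⟩ := Ideal.Quotient.mk_surjective y
    obtain ⟨w, hw⟩ := (u.surjective.comp residue_surjective) (residue W' r)
    refine ⟨w, ?_⟩
    rw [RingHom.comp_apply, Ideal.Quotient.eq, hmap]
    have h1 : residue W' (φ w) = g w := RingHom.congr_fun hφ w
    have h2 : residue W' (φ w - r) = 0 := by
      rw [map_sub, h1, ← hw]
      exact sub_self _
    exact (residue_eq_zero_iff _).1 h2
  have hirr : Irreducible (p : W) :=
    (IsDiscreteValuationRing.irreducible_iff_uniformizer _).2 hm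
  have hirr' : Irreducible (p : W') :=
    (IsDiscreteValuationRing.irreducible_iff_uniformizer _).2 hm'
  have hinj : Function.Injective φ := by
    rw [injective_iff_map_eq_zero]
    intro x hx
    by_contra hne
    obtain ⟨n, c, hc⟩ := IsDiscreteValuationRing.eq_unit_mul_pow_irreducible hne hirr
    rw [hc, map_mul, map_pow, map_natCast] at hx
    rcases mul_eq_zero.1 hx with h | h
    · exact (c.isUnit.map φ).ne_zero h
    · exact hirr'.ne_zero (pow_eq_zero_iff (n := n) (by
        intro hn0; subst hn0; simp at h) |>.1 h)
  refine ⟨RingEquiv.ofBijective φ ⟨hinj, hsurj⟩, fun x => ?_⟩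
  exact RingHom.congr_fun hφ x

end dvr

end Groth.Agent.Helper8.CohenIso
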