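import Mathlib.RingTheory.Spectrum.Prime.FreeLocus
import Mathlib.RingTheory.LocalRing.Module
import Mathlib.LinearAlgebra.TensorProduct.RightExactness
import Mathlib.RingTheory.TensorProduct.Finite
import Mathlib.RingTheory.LocalRing.ResidueField.Ideal
import Mathlib.RingTheory.Flat.Localization

/-!
Projectivity of the cokernel of a map of finite projective modules in terms of the fibrewise
behaviour of the kernel.
-/

set_option autoImplicit false

namespace Groth.Agent.Helper8

open TensorProduct

section General

variable {R : Type*} [CommRing R] {M N : Type*} [AddCommGroup M] [Module R M] [AddCommGroup N]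
  [Module R N] (d : M →ₗ[R] N) (A : Type*) [CommRing A] [Algebra R A]

/-- `A ⊗ ker d → ker (A ⊗ d)` is surjective iff `A ⊗ im d → A ⊗ N` is injective. -/
theorem ker_baseChange_le_iff_injective :
    LinearMap.ker (d.baseChange A) ≤ LinearMap.range ((LinearMap.ker d).subtype.baseChange A) ↔
      Function.Injective ((LinearMap.range d).subtype.baseChange A) := by
  have hcomp : d.baseChange A
      = (LinearMap.range d).subtype.baseChange A ∘ₗ d.rangeRestrict.baseChange A := by
    rw [← LinearMap.baseChange_comp]; rfl
  have hsurj : Function.Surjective (d.rangeRestrict.baseChange A) := by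
    rw [LinearMap.baseChange_eq_ltensor]
    exact LinearMap.lTensor_surjective A d.surjective_rangeRestrict
  have hex : Function.Exact ((LinearMap.ker d).subtype.baseChange A)
      (d.rangeRestrict.baseChange A) := by
    rw [LinearMap.baseChange_eq_ltensor, LinearMap.baseChange_eq_ltensor]
    refine lTensor_exact A ?_ d.surjective_rangeRestrict
    intro x
    constructor
    · intro h
      have h' := congrArg Subtype.val h
      exact ⟨⟨x, by simpa using h'⟩, rfl⟩
    · rintro ⟨y, rfl⟩
      apply Subtype.ext
      simpa using y.2
  constructor
  · intro h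
    rw [injective_iff_map_eq_zero]
    intro y hy
    obtain ⟨x, rfl⟩ := hsurj y
    have hx : x ∈ LinearMap.ker (d.baseChange A) := by
      rw [LinearMap.mem_ker, hcomp, LinearMap.comp_apply, hy]
    exact (hex x).mpr (h hx)
  · intro h x hx
    rw [LinearMap.mem_ker, hcomp, LinearMap.comp_apply] at hx
    have : d.rangeRestrict.baseChange A x = 0 := h (by rw [hx, map_zero])
    exact (hex x).mp this

end General

section Local

variable {R : Type*} [CommRing R] {M N : Type*} [AddCommGroup M] [Module R M] [AddCommGroup N]
  [Module R N] [Module.Finite R M] [Module.Finite R N] [Module.Projective R N]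
  (d : M →ₗ[R] N) (p : PrimeSpectrum R)

/-- `κ(p) ⊗ im d → κ(p) ⊗ N` is injective iff the cokernel of `d` is free at `p`. -/
theorem injective_baseChange_residueField_iff_mem_freeLocus :
    Function.Injective ((LinearMap.range d).subtype.baseChange p.asIdeal.ResidueField) ↔
      p ∈ Module.freeLocus R (N ⧸ LinearMap.range d) := by
  let Rp := Localization.AtPrime p.asIdeal
  let κ := p.asIdeal.ResidueField
  let ι : (LinearMap.range d) →ₗ[R] N := (LinearMap.range d).subtype
  let f : Rp ⊗[R] (LinearMap.range d) →ₗ[Rp] Rp ⊗[R] N := ι.baseChange Rp
  let g : Rp ⊗[R] N →ₗ[Rp] Rp ⊗[R] (N ⧸ LinearMap.range d) := (LinearMap.range d).mkQ.baseChange Rp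
  have hg : Function.Surjective g := by
    show Function.Surjective ((LinearMap.range d).mkQ.baseChange Rp)
    rw [LinearMap.baseChange_eq_ltensor]
    exact LinearMap.lTensor_surjective Rp (Submodule.mkQ_surjective _)
  have hfg : Function.Exact f g := by
    show Function.Exact (ι.baseChange Rp) ((LinearMap.range d).mkQ.baseChange Rp)
    rw [LinearMap.baseChange_eq_ltensor, LinearMap.baseChange_eq_ltensor]
    exact lTensor_exact Rp (LinearMap.exact_subtype_mkQ _) (Submodule.mkQ_surjective _)
  have hfin : Module.Finite R (LinearMap.range d) := Module.Finite.range d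
  have hNfree : Module.Free Rp (Rp ⊗[R] N) := Module.free_of_flat_of_isLocalRing
  -- reduce the injectivity over `κ ⊗[R]` to injectivity of `κ ⊗[Rp] f`
  have hiff : Function.Injective (ι.baseChange κ) ↔ Function.Injective (f.lTensor κ) := by
    have h1 : (f.baseChange κ) = (TensorProduct.AlgebraTensorModule.cancelBaseChange R Rp κ κ N).symm ∘ₗ
        (ι.baseChange κ) ∘ₗ (TensorProduct.AlgebraTensorModule.cancelBaseChange R Rp κ κ
          (LinearMap.range d)) := LinearMap.baseChange_baseChange ι
    rw [← LinearMap.baseChange_eq_ltensor, h1]
    simp only [LinearMap.coe_comp, LinearEquiv.coe_coe]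
    rw [Function.Injective.of_comp_iff (LinearEquiv.injective _),
      Function.Injective.of_comp_iff' _ (LinearEquiv.bijective _)]
  rw [Module.mem_freeLocus_iff_tensor p Rp]
  show Function.Injective (ι.baseChange κ) ↔ _
  rw [hiff]
  constructor
  · intro h
    exact Module.free_of_lTensor_residueField_injective f g hg hfg h
  · intro hfree
    -- the sequence splits
    have hfinj : Function.Injective f := by
      show Function.Injective (ι.baseChange Rp)
      rw [LinearMap.baseChange_eq_ltensor]
      exact Module.Flat.lTensor_preserves_injective_linearMap _ (Submodule.subtype_injective _)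
    obtain ⟨l, hl⟩ := ((Function.Exact.split_tfae' hfg).out 0 1 rfl rfl).mp
      ⟨hfinj, Module.projective_lifting_property g LinearMap.id hg⟩ |>.2
    exact (IsLocalRing.split_injective_iff_lTensor_residueField_injective f).mp ⟨l, hl⟩

end Local

section Main

variable {R : Type*} [CommRing R] {M N : Type*} [AddCommGroup M] [Module R M] [AddCommGroup N]
  [Module R N] [Module.Finite R M] [Module.Finite R N] [Module.Projective R N]
  (d : M →ₗ[R] N)

theorem finitePresentation_coker : Module.FinitePresentation R (N ⧸ LinearMap.range d) := by
  have : Module.FinitePresentation R N := Module.finitePresentation_of_projective R N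
  refine Module.finitePresentation_of_surjective (LinearMap.range d).mkQ
    (Submodule.mkQ_surjective _) ?_
  rw [Submodule.ker_mkQ, LinearMap.range_eq_map]
  exact Module.Finite.fg_top.map d

/-- The fibrewise kernel criterion at `p` is equivalent to freeness of the cokernel at `p`. -/
theorem ker_baseChange_le_iff_mem_freeLocus (p : PrimeSpectrum R) :
    LinearMap.ker (d.baseChange p.asIdeal.ResidueField) ≤
        LinearMap.range ((LinearMap.ker d).subtype.baseChange p.asIdeal.ResidueField) ↔
      p ∈ Module.freeLocus R (N ⧸ LinearMap.range d) := by
  rw [ker_baseChange_le_iff_injective, injective_baseChange_residueField_iff_mem_freeLocus]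

end Main

end Groth.Agent.Helper8
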