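import Mathlib

/-!
# Directed colimits (`_root_.DirectLimit`) of algebras: flatness and tensor products
-/

set_option autoImplicit false
universe u

namespace Groth.Agent.Helper8.ColimSm

open TensorProduct

variable {R : Type u} [CommRing R] {ι : Type u} [Preorder ι] [IsDirectedOrder ι] [Nonempty ι]
  (G : ι → Type u) [∀ i, CommRing (G i)] [∀ i, Algebra R (G i)]
  (f : ∀ i j : ι, i ≤ j → (G i →ₐ[R] G j)) [DirectedSystem G (fun i j h => f i j h)]

/-- The canonical linear map from a stage to the colimit. -/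
noncomputable abbrev ofL (i : ι) : G i →ₗ[R] DirectLimit G f := DirectLimit.Module.of R ι G f i

theorem ofL_apply (i : ι) (g : G i) : ofL G f i g = (⟦⟨i, g⟩⟧ : DirectLimit G f) := rfl

theorem ofL_f (i j : ι) (h : i ≤ j) (g : G i) : ofL G f j (f i j h g) = ofL G f i g :=
  DirectLimit.Module.of_f

theorem exists_ofL (x : DirectLimit G f) : ∃ i g, ofL G f i g = x := by
  obtain ⟨i, g, rfl⟩ := DirectLimit.exists_eq_mk (f := f) x
  exact ⟨i, g, rfl⟩

theorem ofL_eq_zero {i : ι} {g : G i} (h : ofL G f i g = 0) : ∃ j, ∃ hij : i ≤ j, f i j hij g = 0 := by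
  have := (DirectLimit.exists_eq_zero (f := f) ⟨i, g⟩).1 h
  exact this

theorem exists_common {l : ℕ} (x : Fin l → DirectLimit G f) :
    ∃ i, ∃ g : Fin l → G i, ∀ k, ofL G f i (g k) = x k := by
  classical
  choose i₀ g₀ hg₀ using fun k => exists_ofL G f (x k)
  obtain ⟨i, hi⟩ := Finset.exists_le (Finset.univ.image i₀)
  refine ⟨i, fun k => f (i₀ k) i (hi _ (Finset.mem_image_of_mem _ (Finset.mem_univ k))) (g₀ k),
    fun k => ?_⟩
  rw [ofL_f, hg₀]

theorem flat_directLimit (hfl : ∀ i, Module.Flat R (G i)) : Module.Flat R (DirectLimit G f) := by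
  classical
  apply Module.Flat.of_forall_isTrivialRelation
  intro l r x hrx
  obtain ⟨i, g, hg⟩ := exists_common G f x
  have h0 : ofL G f i (∑ k, r k • g k) = 0 := by
    rw [map_sum]
    simp_rw [map_smul, hg]
    exact hrx
  obtain ⟨j, hij, hj⟩ := ofL_eq_zero G f h0
  have hrel : ∑ k, r k • (f i j hij (g k)) = 0 := by
    rw [← hj, map_sum]
    simp_rw [map_smul]
  haveI := hfl j
  obtain ⟨κ, a, y, hxy, hra⟩ := Module.Flat.isTrivialRelation_of_sum_smul_eq_zero
    (R := R) (M := G j) (f := r) (x := fun k => f i j hij (g k)) hrel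
  refine ⟨κ, a, fun k => ofL G f j (y k), fun k => ?_, hra⟩
  have h1 : f i j hij (g k) = ∑ j_1, a k j_1 • y j_1 := hxy k
  rw [← hg k, ← ofL_f G f i j hij, h1, map_sum]
  simp_rw [map_smul]

end Groth.Agent.Helper8.ColimSm
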