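import Mathlib
import Groth.Agent.Lib.Helper8.ColimSm1

/-!
# Tensor products commute with `_root_.DirectLimit` of algebras
-/

set_option autoImplicit false
universe u

namespace Groth.Agent.Helper8.ColimSm

open TensorProduct

variable {R : Type u} [CommRing R] {ι : Type u} [Preorder ι] [IsDirectedOrder ι] [Nonempty ι]
  (G : ι → Type u) [∀ i, CommRing (G i)] [∀ i, Algebra R (G i)]
  (f : ∀ i j : ι, i ≤ j → (G i →ₐ[R] G j)) [DirectedSystem G (fun i j h => f i j h)]
  (K : Type u) [CommRing K] [Algebra R K]

set_option maxHeartbeats 800000 in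
/-- Zero-exactness after tensoring. -/
theorem lTensor_ofL_eq_zero {i : ι} (t : K ⊗[R] G i)
    (h : LinearMap.lTensor K (ofL G f i) t = 0) :
    ∃ j, ∃ hij : i ≤ j, LinearMap.lTensor K (f i j hij).toLinearMap t = 0 := by
  classical
  let f' : ∀ i j, i ≤ j → G i →ₗ[R] G j := fun i j h => (f i j h).toLinearMap
  haveI : DirectedSystem G (fun i j h => f' i j h) :=
    ⟨fun i x => DirectedSystem.map_self' (f := fun i j h => f i j h) x,
      fun i j k hij hjk x => DirectedSystem.map_map' (f := fun i j h => f i j h) hij hjk x⟩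
  let θ : Module.DirectLimit G f' →ₗ[R] DirectLimit G f :=
    Module.DirectLimit.lift R ι G f' (ofL G f) (fun i j hij x => ofL_f G f i j hij x)
  have hθof : ∀ i x, θ (Module.DirectLimit.of R ι G f' i x) = ofL G f i x :=
    fun i x => Module.DirectLimit.lift_of _ _ x
  have hθinj : Function.Injective θ := by
    rw [injective_iff_map_eq_zero]
    intro z hz
    obtain ⟨i, x, rfl⟩ := Module.DirectLimit.exists_of z
    rw [hθof] at hz
    obtain ⟨j, hij, hj⟩ := ofL_eq_zero G f hz
    rw [← Module.DirectLimit.of_f (hij := hij), show f' i j hij x = 0 from hj, map_zero]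
  have hθsurj : Function.Surjective θ := fun x => by
    obtain ⟨i, g, rfl⟩ := exists_ofL G f x
    exact ⟨_, hθof i g⟩
  let e : Module.DirectLimit G f' ≃ₗ[R] DirectLimit G f :=
    LinearEquiv.ofBijective θ ⟨hθinj, hθsurj⟩
  have h1 : LinearMap.lTensor K (Module.DirectLimit.of R ι G f' i) t = 0 := by
    have h3 : LinearMap.lTensor K θ
        (LinearMap.lTensor K (Module.DirectLimit.of R ι G f' i) t) = 0 := by
      rw [← LinearMap.comp_apply, ← LinearMap.lTensor_comp]
      have h4 : θ ∘ₗ Module.DirectLimit.of R ι G f' i = ofL G f i := LinearMap.ext (hθof i)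
      rw [h4]
      exact h
    have hinj : Function.Injective (LinearMap.lTensor K θ) :=
      (LinearEquiv.lTensor K e).injective
    exact hinj (h3.trans (map_zero _).symm)
  have key : ∀ t : K ⊗[R] G i, TensorProduct.directLimitRight f' K
      (LinearMap.lTensor K (Module.DirectLimit.of R ι G f' i) t) =
      Module.DirectLimit.of R ι (fun i => K ⊗[R] G i)
        (fun i j h => LinearMap.lTensor K (f' i j h)) i t := by
    intro t
    induction t using TensorProduct.induction_on with
    | zero => simp
    | tmul m g => simp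
    | add a b ha hb => simp only [map_add, ha, hb]
  have h2 : Module.DirectLimit.of R ι (fun i => K ⊗[R] G i)
      (fun i j h => LinearMap.lTensor K (f' i j h)) i t = 0 := by
    rw [← key, h1, map_zero]
  obtain ⟨j, hij, hj⟩ := Module.DirectLimit.of.zero_exact h2
  exact ⟨j, hij, hj⟩

end Groth.Agent.Helper8.ColimSm
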