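import Mathlib
import Groth.Agent.Lib.Helper8.ColimSm2
import Groth.Agent.S7770

/-!
# Base change of a directed colimit of algebras is a ring-theoretic direct limit
-/

set_option autoImplicit false
universe u

namespace Groth.Agent.Helper8.ColimSm

open TensorProduct

variable {R : Type u} [CommRing R] {ι : Type u} [Preorder ι] [IsDirectedOrder ι] [Nonempty ι]
  (G : ι → Type u) [∀ i, CommRing (G i)] [∀ i, Algebra R (G i)]
  (f : ∀ i j : ι, i ≤ j → (G i →ₐ[R] G j)) [DirectedSystem G (fun i j h => f i j h)]
  (K : Type u) [CommRing K] [Algebra R K]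

/-- The algebra map from a stage. -/
noncomputable def ofA (i : ι) : G i →ₐ[R] DirectLimit G f :=
  { DirectLimit.Ring.of G f i with
    commutes' := fun r => (DirectLimit.algebraMap_def (f := f) i r).symm }

theorem ofA_apply (i : ι) (g : G i) : ofA G f i g = ofL G f i g := rfl

theorem ofA_toLinearMap (i : ι) : (ofA G f i).toLinearMap = ofL G f i := rfl

theorem ofA_comp (i j : ι) (h : i ≤ j) : (ofA G f j).comp (f i j h) = ofA G f i :=
  AlgHom.ext (fun g => ofL_f G f i j h g)

/-- The transition maps of the base-changed system. -/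
noncomputable def tf (i j : ι) (h : i ≤ j) : K ⊗[R] G i →+* K ⊗[R] G j :=
  (Algebra.TensorProduct.map (AlgHom.id R K) (f i j h)).toRingHom

theorem tf_apply (i j : ι) (h : i ≤ j) (t : K ⊗[R] G i) :
    tf G f K i j h t = Algebra.TensorProduct.map (AlgHom.id R K) (f i j h) t := rfl

theorem map_eq_lTensor {A B : Type u} [CommRing A] [CommRing B] [Algebra R A] [Algebra R B]
    (g : A →ₐ[R] B) (t : K ⊗[R] A) :
    Algebra.TensorProduct.map (AlgHom.id R K) g t = LinearMap.lTensor K g.toLinearMap t := by
  induction t using TensorProduct.induction_on with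
  | zero => simp
  | tmul m a => simp
  | add a b ha hb => simp only [map_add, ha, hb]

instance directedSystem_tf :
    DirectedSystem (fun i => K ⊗[R] G i) (fun i j h => tf G f K i j h) where
  map_self i t := by
    have hid : f i i le_rfl = AlgHom.id R (G i) :=
      AlgHom.ext (fun x => DirectedSystem.map_self' (f := fun i j h => f i j h) x)
    change Algebra.TensorProduct.map (AlgHom.id R K) (f i i le_rfl) t = t
    rw [hid, Algebra.TensorProduct.map_id]
    rfl
  map_map k j i hij hjk t := by
    have hc : (f j k hjk).comp (f i j hij) = f i k (hij.trans hjk) :=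
      AlgHom.ext (fun x => DirectedSystem.map_map' (f := fun i j h => f i j h) hij hjk x)
    change Algebra.TensorProduct.map (AlgHom.id R K) (f j k hjk)
      (Algebra.TensorProduct.map (AlgHom.id R K) (f i j hij) t) =
      Algebra.TensorProduct.map (AlgHom.id R K) (f i k (hij.trans hjk)) t
    rw [← hc, ← AlgHom.comp_apply, ← Algebra.TensorProduct.map_comp]
    rfl

/-- The comparison map. -/
noncomputable def Φ : Ring.DirectLimit (fun i => K ⊗[R] G i) (fun i j h => tf G f K i j h) →+*
    K ⊗[R] DirectLimit G f :=
  Ring.DirectLimit.lift _ _ _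
    (fun i => (Algebra.TensorProduct.map (AlgHom.id R K) (ofA G f i)).toRingHom)
    (fun i j hij t => by
      change Algebra.TensorProduct.map (AlgHom.id R K) (ofA G f j)
        (Algebra.TensorProduct.map (AlgHom.id R K) (f i j hij) t) =
        Algebra.TensorProduct.map (AlgHom.id R K) (ofA G f i) t
      rw [← ofA_comp G f i j hij, ← AlgHom.comp_apply, ← Algebra.TensorProduct.map_comp]
      rfl)

theorem Φ_of (i : ι) (t : K ⊗[R] G i) :
    Φ G f K (Ring.DirectLimit.of _ _ i t) =
      Algebra.TensorProduct.map (AlgHom.id R K) (ofA G f i) t :=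
  Ring.DirectLimit.lift_of _ _ _ _ _

theorem Φ_bijective : Function.Bijective (Φ G f K) := by
  constructor
  · rw [injective_iff_map_eq_zero]
    intro z hz
    obtain ⟨i, t, rfl⟩ := Ring.DirectLimit.exists_of z
    rw [Φ_of, map_eq_lTensor, ofA_toLinearMap] at hz
    obtain ⟨j, hij, hj⟩ := lTensor_ofL_eq_zero G f K t hz
    rw [← Ring.DirectLimit.of_f hij, tf_apply, map_eq_lTensor, hj, map_zero]
  · intro x
    induction x using TensorProduct.induction_on with
    | zero => exact ⟨0, map_zero _⟩
    | tmul c y =>
      obtain ⟨i, g, rfl⟩ := exists_ofL G f y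
      refine ⟨Ring.DirectLimit.of _ _ i (c ⊗ₜ g), ?_⟩
      rw [Φ_of, Algebra.TensorProduct.map_tmul]
      rfl
    | add a b ha hb =>
      obtain ⟨a', rfl⟩ := ha
      obtain ⟨b', rfl⟩ := hb
      exact ⟨a' + b', map_add _ _ _⟩

/-- If the base changes of all stages are regular rings and the base change of the colimit is
Noetherian, then the base change of the colimit is regular. -/
theorem isRegularRing_tensor_directLimit [IsNoetherianRing (K ⊗[R] DirectLimit G f)]
    (hreg : ∀ i, IsRegularRing (K ⊗[R] G i)) : IsRegularRing (K ⊗[R] DirectLimit G f) := by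
  let e : Ring.DirectLimit (fun i => K ⊗[R] G i) (fun i j h => tf G f K i j h) ≃+*
      K ⊗[R] DirectLimit G f := RingEquiv.ofBijective (Φ G f K) (Φ_bijective G f K)
  haveI : IsNoetherianRing
      (Ring.DirectLimit (fun i => K ⊗[R] G i) (fun i j h => tf G f K i j h)) :=
    isNoetherianRing_of_ringEquiv _ e.symm
  haveI := Groth.Agent.S7770.result ι (fun i => K ⊗[R] G i) (fun i j h => tf G f K i j h) hreg
  exact IsRegularRing.of_ringEquiv e

end Groth.Agent.Helper8.ColimSm
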