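import Mathlib

/-!
# Connections along a derivation

For a derivation `θ` of a commutative ring `A`, a `θ`-connection on an `A`-module `N` is an additive
map `D : N → N` with `D (a • n) = θ a • n + a • D n`.  Injective modules carry connections, and
connections extend along embeddings into injective modules and descend to quotients.
-/

set_option autoImplicit false
universe u

namespace Groth.Agent.Helper8.Conn

variable {A : Type u} [CommRing A] (θ : Derivation ℤ A A)

/-- `D` is a `θ`-connection. -/
def IsConn {N : Type*} [AddCommGroup N] [Module A N] (D : N →+ N) : Prop :=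
  ∀ (a : A) (n : N), D (a • n) = θ a • n + a • D n

section Tw

/-- `E × E` with the twisted scalar multiplication `a • (x, y) = (a x, θ a x + a y)`. -/
def Tw (_θ : Derivation ℤ A A) (E : Type u) : Type u := E × E

variable (E : Type u) [AddCommGroup E] [Module A E]

instance : AddCommGroup (Tw θ E) := inferInstanceAs (AddCommGroup (E × E))

instance : SMul A (Tw θ E) := ⟨fun a p => ((a • p.1, θ a • p.1 + a • p.2) : E × E)⟩

lemma tw_smul_def (a : A) (p : Tw θ E) :
    a • p = ((a • p.1, θ a • p.1 + a • p.2) : E × E) := rfl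

lemma tw_fst_add (p q : Tw θ E) : (p + q).1 = p.1 + q.1 := rfl
lemma tw_snd_add (p q : Tw θ E) : (p + q).2 = p.2 + q.2 := rfl
lemma tw_fst_zero : (0 : Tw θ E).1 = 0 := rfl
lemma tw_snd_zero : (0 : Tw θ E).2 = 0 := rfl
lemma tw_fst_smul (a : A) (p : Tw θ E) : (a • p).1 = a • p.1 := rfl
lemma tw_snd_smul (a : A) (p : Tw θ E) : (a • p).2 = θ a • p.1 + a • p.2 := rfl

instance : Module A (Tw θ E) where
  one_smul p := by
    apply Prod.ext
    · rw [tw_fst_smul, one_smul]
    · rw [tw_snd_smul, Derivation.map_one_eq_zero, zero_smul, zero_add, one_smul]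
  mul_smul a b p := by
    apply Prod.ext
    · rw [tw_fst_smul, tw_fst_smul, tw_fst_smul, mul_smul]
    · rw [tw_snd_smul, tw_snd_smul, tw_fst_smul, tw_snd_smul, Derivation.leibniz, smul_eq_mul,
        smul_eq_mul, add_smul, mul_smul, mul_smul, mul_smul, smul_add, smul_comm b (θ a) p.1]
      abel
  smul_zero a := by
    apply Prod.ext
    · rw [tw_fst_smul, tw_fst_zero, smul_zero]
    · rw [tw_snd_smul, tw_fst_zero, tw_snd_zero, smul_zero, smul_zero, add_zero]
  smul_add a p q := by
    apply Prod.ext
    · rw [tw_fst_smul, tw_fst_add, tw_fst_add, tw_fst_smul, tw_fst_smul, smul_add]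
    · rw [tw_snd_smul, tw_fst_add, tw_snd_add, tw_snd_add, tw_snd_smul, tw_snd_smul, smul_add,
        smul_add]
      abel
  add_smul a b p := by
    apply Prod.ext
    · rw [tw_fst_smul, tw_fst_add, tw_fst_smul, tw_fst_smul, add_smul]
    · rw [tw_snd_smul, tw_snd_add, tw_snd_smul, tw_snd_smul, map_add, add_smul, add_smul]
      abel
  zero_smul p := by
    apply Prod.ext
    · rw [tw_fst_smul, zero_smul, tw_fst_zero]
    · rw [tw_snd_smul, map_zero, zero_smul, zero_smul, add_zero, tw_snd_zero]

/-- constructor. -/
def twMk (x y : E) : Tw θ E := ((x, y) : E × E)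

lemma twMk_fst (x y : E) : (twMk θ E x y).1 = x := rfl
lemma twMk_snd (x y : E) : (twMk θ E x y).2 = y := rfl

variable {E} in
lemma tw_ext {p q : Tw θ E} (h1 : p.1 = q.1) (h2 : p.2 = q.2) : p = q := Prod.ext h1 h2

/-- the inclusion of the second factor. -/
def twInr : E →ₗ[A] Tw θ E where
  toFun y := twMk θ E 0 y
  map_add' y y' := by
    apply tw_ext
    · rw [tw_fst_add, twMk_fst, twMk_fst, twMk_fst, add_zero]
    · rw [tw_snd_add, twMk_snd, twMk_snd, twMk_snd]
  map_smul' a y := by
    apply tw_ext
    · rw [tw_fst_smul, twMk_fst, twMk_fst, smul_zero]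
    · rw [tw_snd_smul, twMk_snd, twMk_fst, twMk_snd, smul_zero, zero_add, RingHom.id_apply]

lemma twInr_apply (y : E) : twInr θ E y = twMk θ E 0 y := rfl

lemma twInr_injective : Function.Injective (twInr θ E) := by
  intro y y' h
  have := congrArg Prod.snd h
  exact this

/-- every injective module carries a connection. -/
theorem exists_isConn_of_injective [Module.Injective A E] : ∃ D : E →+ E, IsConn θ D := by
  obtain ⟨r, hr⟩ := Module.Injective.extension_property A E E (Tw θ E) (twInr θ E)
    (twInr_injective θ E) LinearMap.id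
  have hr' : ∀ y : E, r (twMk θ E 0 y) = y := fun y => LinearMap.congr_fun hr y
  let D' : E →+ E :=
    { toFun := fun x => r (twMk θ E x 0)
      map_zero' := by
        have : twMk θ E (0 : E) 0 = 0 := rfl
        rw [this, map_zero]
      map_add' := fun x x' => by
        have : twMk θ E (x + x') 0 = twMk θ E x 0 + twMk θ E x' 0 := by
          apply tw_ext
          · rw [tw_fst_add, twMk_fst, twMk_fst, twMk_fst]
          · rw [tw_snd_add, twMk_snd, twMk_snd, twMk_snd, add_zero]
        rw [this, map_add] }
  have hD' : ∀ x, D' x = r (twMk θ E x 0) := fun _ => rfl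
  refine ⟨-D', ?_⟩
  intro a x
  have h1 : a • twMk θ E x 0 = twMk θ E (a • x) 0 + twMk θ E 0 (θ a • x) := by
    apply tw_ext
    · rw [tw_fst_smul, tw_fst_add, twMk_fst, twMk_fst, twMk_fst, add_zero]
    · rw [tw_snd_smul, tw_snd_add, twMk_fst, twMk_snd, twMk_snd, twMk_snd, smul_zero, add_zero,
        zero_add]
  have h2 := congrArg r h1
  rw [map_smul, map_add, hr'] at h2
  rw [AddMonoidHom.neg_apply, AddMonoidHom.neg_apply, hD', hD', smul_neg]
  have h3 : r (twMk θ E (a • x) 0) = a • r (twMk θ E x 0) - θ a • x := by
    rw [h2]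
    abel
  rw [h3]
  abel

end Tw

section Ops

variable {N E Q : Type u} [AddCommGroup N] [Module A N] [AddCommGroup E] [Module A E]
  [AddCommGroup Q] [Module A Q]

/-- subtracting a linear map from a connection gives a connection. -/
lemma isConn_sub_linear {D : E →+ E} (hD : IsConn θ D) (l : E →ₗ[A] E) :
    IsConn θ (D - l.toAddMonoidHom) := by
  intro a x
  change D (a • x) - l (a • x) = θ a • x + a • (D x - l x)
  rw [hD, map_smul, smul_sub]
  abel

/-- connections extend along embeddings into injective modules. -/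
theorem exists_isConn_extending [Module.Injective A E] (j : N →ₗ[A] E)
    (hj : Function.Injective j) {DN : N →+ N} (hDN : IsConn θ DN) :
    ∃ DE : E →+ E, IsConn θ DE ∧ ∀ n, DE (j n) = j (DN n) := by
  obtain ⟨D, hD⟩ := exists_isConn_of_injective θ E
  let c : N →ₗ[A] E :=
    { toFun := fun n => D (j n) - j (DN n)
      map_add' := fun n n' => by
        rw [map_add, map_add, map_add, map_add]
        abel
      map_smul' := fun a n => by
        rw [map_smul, hD, hDN, map_add, map_smul, map_smul, RingHom.id_apply, smul_sub]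
        abel }
  obtain ⟨l, hl⟩ := Module.Injective.extension_property A E N E j hj c
  refine ⟨D - l.toAddMonoidHom, isConn_sub_linear θ hD l, fun n => ?_⟩
  have h1 : l (j n) = D (j n) - j (DN n) := LinearMap.congr_fun hl n
  change D (j n) - l (j n) = j (DN n)
  rw [h1]
  abel

/-- connections descend along surjections whose kernel is preserved. -/
theorem exists_isConn_of_surjective {X : Type u} [AddCommGroup X] [Module A X]
    (f : X →ₗ[A] E) (g : E →ₗ[A] Q) (hg : Function.Surjective g) (hfg : Function.Exact f g)
    {DE : E →+ E} (hDE : IsConn θ DE) (hpres : ∀ x, ∃ x', DE (f x) = f x') :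
    ∃ DQ : Q →+ Q, IsConn θ DQ ∧ ∀ e, DQ (g e) = g (DE e) := by
  have key : ∀ e e' : E, g e = g e' → g (DE e) = g (DE e') := by
    intro e e' h
    have h0 : g (e - e') = 0 := by rw [map_sub, h, sub_self]
    obtain ⟨x, hx⟩ := (hfg (e - e')).mp h0
    obtain ⟨x', hx'⟩ := hpres x
    have h1 : g (DE (e - e')) = 0 := by
      rw [← hx, hx']
      exact (hfg (f x')).mpr ⟨x', rfl⟩
    rw [map_sub, map_sub, sub_eq_zero] at h1
    exact h1
  have hsec : ∀ q : Q, g (Function.surjInv hg q) = q := Function.surjInv_eq hg
  let DQ : Q →+ Q :=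
    { toFun := fun q => g (DE (Function.surjInv hg q))
      map_zero' := by
        have := key (Function.surjInv hg 0) 0 (by rw [hsec, map_zero])
        rw [this, map_zero, map_zero]
      map_add' := fun q q' => by
        have := key (Function.surjInv hg (q + q'))
          (Function.surjInv hg q + Function.surjInv hg q') (by rw [hsec, map_add, hsec, hsec])
        rw [this, map_add, map_add] }
  have hDQ : ∀ e, DQ (g e) = g (DE e) := fun e => key _ _ (hsec (g e))
  refine ⟨DQ, ?_, hDQ⟩
  intro a q
  obtain ⟨e, rfl⟩ := hg q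
  rw [← map_smul, hDQ, hDQ, hDE, map_add, map_smul, map_smul]

/-- connections transport along linear equivalences. -/
theorem exists_isConn_of_linearEquiv (e : E ≃ₗ[A] Q) {DE : E →+ E} (hDE : IsConn θ DE) :
    ∃ DQ : Q →+ Q, IsConn θ DQ := by
  obtain ⟨DQ, hDQ, -⟩ := exists_isConn_of_surjective θ (0 : E →ₗ[A] E) e.toLinearMap e.surjective
    (by
      intro x
      constructor
      · intro hx
        have : x = 0 := e.injective (by rw [map_zero]; exact hx)
        exact ⟨0, by rw [this]; rfl⟩
      · rintro ⟨y, rfl⟩
        exact map_zero _)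
    hDE (fun x => ⟨0, by
      change DE 0 = 0
      exact map_zero _⟩)
  exact ⟨DQ, hDQ⟩

end Ops

section Torsion

variable {N : Type u} [AddCommGroup N] [Module A N] (I : Ideal A)

/-- a connection raises the torsion exponent by at most one. -/
lemma pow_succ_smul_conn_eq_zero {D : N →+ N} (hD : IsConn θ D) (n : ℕ) :
    ∀ m : N, (∀ a ∈ I ^ n, a • m = 0) → ∀ a ∈ I ^ (n + 1), a • D m = 0 := by
  induction n with
  | zero =>
    intro m hm a _
    have : m = 0 := by
      have := hm 1 (by rw [pow_zero, Ideal.one_eq_top]; trivial)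
      rwa [one_smul] at this
    rw [this, map_zero, smul_zero]
  | succ n ih =>
    intro m hm a ha
    rw [pow_succ] at ha
    refine Submodule.mul_induction_on ha ?_ ?_
    · intro c hc b hb
      have h1 : ∀ a' ∈ I ^ n, a' • (b • m) = 0 := by
        intro a' ha'
        rw [← mul_smul]
        exact hm _ (by rw [pow_succ]; exact Ideal.mul_mem_mul ha' hb)
      have h2 := ih (b • m) h1 c hc
      rw [hD, smul_add] at h2
      have h3 : c • θ b • m = 0 := by
        rw [smul_comm, hm c hc, smul_zero]
      rw [h3, zero_add, ← mul_smul] at h2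
      exact h2
    · intro x y hx hy
      rw [add_smul, hx, hy, add_zero]

end Torsion

end Groth.Agent.Helper8.Conn
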