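import Groth.Agent.Lib.Helper8.ExtRep2

/-!
# `Extⁿ(F, G) ≅ Hom(F, Hⁿ_J(G))` when `Extⁿ⁻¹(-, G)` vanishes on finite `J`-torsion modules
-/

set_option autoImplicit false
universe u

namespace Groth.Agent.Helper8.ExtRep

open CategoryTheory Abelian localCohomology LocCoh Groth.Agent.Helper8.LC

variable {R : Type u} [CommRing R] [IsNoetherianRing R] (J : Ideal R)

/-- every map from a finite power-torsion module lifts along `π`. -/
def LiftProp {E G : Type u} [AddCommGroup E] [Module R E] [AddCommGroup G] [Module R G]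
    (π : E →ₗ[R] G) : Prop :=
  ∀ (K : Type u) [AddCommGroup K] [Module R K], Module.Finite R K → IsPowerTorsion J K →
    ∀ κ : K →ₗ[R] G, ∃ α : K →ₗ[R] E, π ∘ₗ α = κ

section Key

variable {Q E₀ : Type u} [AddCommGroup Q] [Module R Q] [AddCommGroup E₀] [Module R E₀]
  [Module.Injective R E₀] (ι : Q →ₗ[R] E₀) (hι : Function.Injective ι)
  (F : Type u) [AddCommGroup F] [Module R F]

/-- the connecting map `Hom(F, E₀/Q) → Ext¹(F, Q)`. -/
noncomputable def cMap :
    (F →ₗ[R] (E₀ ⧸ LinearMap.range ι)) →ₗ[R]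
      Abelian.Ext (ModuleCat.of R F) (ModuleCat.of R Q) 1 where
  toFun φ := (Ext.mk₀ (ModuleCat.ofHom φ)).comp (sesQuot_shortExact ι hι).extClass (zero_add 1)
  map_add' φ ψ := by
    have : ModuleCat.ofHom (φ + ψ) = ModuleCat.ofHom φ + ModuleCat.ofHom ψ := rfl
    rw [this, Ext.mk₀_add, Ext.add_comp]
  map_smul' r φ := by
    have : ModuleCat.ofHom (r • φ) = r • ModuleCat.ofHom φ := rfl
    rw [this, Ext.mk₀_smul, Ext.smul_comp, RingHom.id_apply]

lemma cMap_surjective : Function.Surjective (cMap ι hι F) := by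
  intro x₁
  haveI : Injective (sesQuot ι).X₂ := Module.injective_object_of_injective_module R E₀
  have h0 : x₁.comp (Ext.mk₀ (sesQuot ι).f) (add_zero 1) = 0 := Ext.eq_zero_of_injective _
  obtain ⟨x₃, hx₃⟩ := Ext.covariant_sequence_exact₁ _ (sesQuot_shortExact ι hι) x₁ h0 rfl
  obtain ⟨φ, rfl⟩ := (Ext.mk₀_bijective _ _).2 x₃
  exact ⟨φ.hom, hx₃⟩

lemma cMap_eq_zero_iff (φ : F →ₗ[R] (E₀ ⧸ LinearMap.range ι)) :
    cMap ι hι F φ = 0 ↔ ∃ ψ : F →ₗ[R] E₀, (LinearMap.range ι).mkQ ∘ₗ ψ = φ := by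
  constructor
  · intro h
    obtain ⟨x₂, hx₂⟩ := Ext.covariant_sequence_exact₃ _ (sesQuot_shortExact ι hι)
      (Ext.mk₀ (ModuleCat.ofHom φ)) rfl h
    obtain ⟨ψ, rfl⟩ := (Ext.mk₀_bijective _ _).2 x₂
    rw [Ext.mk₀_comp_mk₀, (Ext.mk₀_bijective _ _).1.eq_iff] at hx₂
    refine ⟨ψ.hom, ?_⟩
    have := congrArg ModuleCat.Hom.hom hx₂
    exact this
  · rintro ⟨ψ, rfl⟩
    have h1 : ModuleCat.ofHom ((LinearMap.range ι).mkQ ∘ₗ ψ) =
        ModuleCat.ofHom ψ ≫ (sesQuot ι).g := rfl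
    change (Ext.mk₀ (ModuleCat.ofHom ((LinearMap.range ι).mkQ ∘ₗ ψ))).comp
      (sesQuot_shortExact ι hι).extClass (zero_add 1) = 0
    rw [h1, ← Ext.mk₀_comp_mk₀, Ext.comp_assoc_of_second_deg_zero,
      (sesQuot_shortExact ι hι).comp_extClass, Ext.comp_zero]

variable [Module.Finite R F] (hF : IsPowerTorsion J F)

/-- the map `Hom(F, E₀/Q) → Hom(F, H¹_J(Q))`. -/
noncomputable def dMap :
    (F →ₗ[R] (E₀ ⧸ LinearMap.range ι)) →ₗ[R] (F →ₗ[R] H J 1 Q) where
  toFun φ := Δ J ι hι ∘ₗ φ.codRestrict (DRing.torsionSub J _) (map_mem_torsionSub J hF φ)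
  map_add' φ ψ := by
    apply LinearMap.ext
    intro x
    simp only [LinearMap.coe_comp, Function.comp_apply, LinearMap.add_apply]
    rw [← map_add]
    rfl
  map_smul' r φ := by
    apply LinearMap.ext
    intro x
    simp only [LinearMap.coe_comp, Function.comp_apply, LinearMap.smul_apply, RingHom.id_apply]
    rw [← map_smul]
    rfl

lemma dMap_apply (φ : F →ₗ[R] (E₀ ⧸ LinearMap.range ι)) (x : F) :
    dMap J ι hι F hF φ x = Δ J ι hι ⟨φ x, map_mem_torsionSub J hF φ x⟩ := rfl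

include hι hF in
/-- The key lemma. -/
theorem key {E : Type u} [AddCommGroup E] [Module R E] [Module.Injective R E]
    (π : E →ₗ[R] Q) (hπ : LiftProp J π) :
    Nonempty (Abelian.Ext (ModuleCat.of R F) (ModuleCat.of R Q) 1 ≃ₗ[R] (F →ₗ[R] H J 1 Q)) := by
  apply nonempty_linearEquiv_of_ker_eq (cMap ι hι F) (dMap J ι hι F hF) (cMap_surjective ι hι F)
  · intro ψ
    obtain ⟨φ₀, hφ₀⟩ := exists_lift_b J ι hι π hπ F hF ψ
    refine ⟨(DRing.torsionSub J _).subtype ∘ₗ φ₀, ?_⟩
    apply LinearMap.ext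
    intro x
    rw [dMap_apply, ← hφ₀]
    rfl
  · ext φ
    rw [LinearMap.mem_ker, LinearMap.mem_ker, cMap_eq_zero_iff]
    constructor
    · rintro ⟨ψ, rfl⟩
      apply LinearMap.ext
      intro x
      rw [dMap_apply, LinearMap.zero_apply, Δ_eq_zero_iff]
      exact ⟨⟨ψ x, map_mem_torsionSub J hF ψ x⟩, rfl⟩
    · intro h
      have hrange : LinearMap.range φ ≤ LinearMap.range (ga J ι) := by
        rintro _ ⟨x, rfl⟩
        have h1 := LinearMap.congr_fun h x
        rw [dMap_apply, LinearMap.zero_apply, Δ_eq_zero_iff] at h1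
        obtain ⟨e, he⟩ := h1
        exact ⟨e, he⟩
      obtain ⟨ψ₀, hψ₀⟩ := exists_lift_a J ι hι π hπ F hF φ hrange
      exact ⟨(DRing.torsionSub J E₀).subtype ∘ₗ ψ₀, hψ₀⟩

end Key

section Shift

variable {G E₀ : Type u} [AddCommGroup G] [Module R G] [AddCommGroup E₀] [Module R E₀]
  [Module.Injective R E₀] (ι : G →ₗ[R] E₀) (hι : Function.Injective ι)

include hι in
/-- dimension shifting for `Ext`. -/
theorem nonempty_ext_shift (F : Type u) [AddCommGroup F] [Module R F] (n : ℕ) (hn : 0 < n) :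
    Nonempty (Abelian.Ext (ModuleCat.of R F) (ModuleCat.of R (E₀ ⧸ LinearMap.range ι)) n ≃ₗ[R]
      Abelian.Ext (ModuleCat.of R F) (ModuleCat.of R G) (n + 1)) := by
  have hS := sesQuot_shortExact ι hι
  haveI : Injective (sesQuot ι).X₂ := Module.injective_object_of_injective_module R E₀
  let s : Abelian.Ext (ModuleCat.of R F) (ModuleCat.of R (E₀ ⧸ LinearMap.range ι)) n →ₗ[R]
      Abelian.Ext (ModuleCat.of R F) (ModuleCat.of R G) (n + 1) :=
    { toFun := fun x => x.comp hS.extClass rfl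
      map_add' := fun x y => Ext.add_comp _ _ _ _
      map_smul' := fun r x => by rw [Ext.smul_comp, RingHom.id_apply] }
  refine ⟨LinearEquiv.ofBijective s ⟨?_, ?_⟩⟩
  · rw [injective_iff_map_eq_zero]
    intro x hx
    obtain ⟨x₂, hx₂⟩ := Ext.covariant_sequence_exact₃ _ hS x rfl hx
    obtain ⟨m, rfl⟩ : ∃ m, n = m + 1 := ⟨n - 1, by omega⟩
    rw [← hx₂, Ext.eq_zero_of_injective x₂, Ext.zero_comp]
  · intro y
    have h0 : y.comp (Ext.mk₀ (sesQuot ι).f) (add_zero (n + 1)) = 0 := Ext.eq_zero_of_injective _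
    obtain ⟨x₃, hx₃⟩ := Ext.covariant_sequence_exact₁ _ hS y h0 rfl
    exact ⟨x₃, hx₃⟩

include hι in
/-- dimension shifting for local cohomology. -/
theorem nonempty_H_shift (n : ℕ) (hn : 0 < n) :
    Nonempty (H J n (E₀ ⧸ LinearMap.range ι) ≃ₗ[R] H J (n + 1) G) := by
  have hS := sesQuot_shortExact ι hι
  haveI : Injective (sesQuot ι).X₂ := Module.injective_object_of_injective_module R E₀
  exact ⟨LinearEquiv.ofBijective (δ J n hS) (δ_bijective_of_injective J n hn hS)⟩

end Shift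

/-- an injective envelope as a plain module. -/
theorem exists_injective_embedding (G : Type u) [AddCommGroup G] [Module R G] :
    ∃ (E₀ : Type u) (_ : AddCommGroup E₀) (_ : Module R E₀) (_ : Module.Injective R E₀)
      (ι : G →ₗ[R] E₀), Function.Injective ι := by
  let E₀ : ModuleCat.{u} R := Injective.under (ModuleCat.of R G)
  let ι₀ : ModuleCat.of R G ⟶ E₀ := Injective.ι (ModuleCat.of R G)
  have hι₀ : Function.Injective ι₀ := (ModuleCat.mono_iff_injective _).mp inferInstance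
  haveI hinj : Injective (ModuleCat.of R E₀) :=
    (inferInstance : Injective (Injective.under (ModuleCat.of R G)))
  haveI : Module.Injective R E₀ := Module.injective_module_of_injective_object R E₀
  exact ⟨E₀, inferInstance, inferInstance, inferInstance, ι₀.hom, hι₀⟩

/-- the hypothesis in degree `n + 1`. -/
def Hyp (n : ℕ) (G : Type u) [AddCommGroup G] [Module R G] : Prop :=
  match n with
  | 0 => ∃ (E : Type u) (_ : AddCommGroup E) (_ : Module R E) (_ : Module.Injective R E)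
      (π : E →ₗ[R] G), LiftProp J π
  | m + 1 => ∀ (K : Type u) [AddCommGroup K] [Module R K], Module.Finite R K →
      IsPowerTorsion J K →
      Subsingleton (Abelian.Ext (ModuleCat.of R K) (ModuleCat.of R G) (m + 1))

theorem main (n : ℕ) : ∀ (G : Type u) [AddCommGroup G] [Module R G], Hyp J n G →
    ∀ (F : Type u) [AddCommGroup F] [Module R F] [Module.Finite R F], IsPowerTorsion J F →
    Nonempty (Abelian.Ext (ModuleCat.of R F) (ModuleCat.of R G) (n + 1) ≃ₗ[R]
      (F →ₗ[R] H J (n + 1) G)) := by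
  induction n with
  | zero =>
    intro G _ _ hG F _ _ _ hF
    obtain ⟨E, _, _, _, π, hπ⟩ := hG
    obtain ⟨E₀, _, _, _, ι, hι⟩ := exists_injective_embedding (R := R) G
    exact key J ι hι F hF π hπ
  | succ n ih =>
    intro G _ _ hG F _ _ _ hF
    obtain ⟨E₀, _, _, _, ι, hι⟩ := exists_injective_embedding (R := R) G
    have hS := sesQuot_shortExact ι hι
    have hQ : Hyp J n (E₀ ⧸ LinearMap.range ι) := by
      cases n with
      | zero =>
        refine ⟨E₀, inferInstance, inferInstance, inferInstance, (LinearMap.range ι).mkQ, ?_⟩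
        intro K _ _ hKfin hKt κ
        have h1 : cMap ι hι K κ = 0 := (hG K hKfin hKt).elim _ _
        exact (cMap_eq_zero_iff ι hι K κ).mp h1
      | succ m =>
        intro K _ _ hKfin hKt
        obtain ⟨e⟩ := nonempty_ext_shift ι hι K (m + 1) (Nat.succ_pos m)
        haveI := hG K hKfin hKt
        exact e.toEquiv.subsingleton
    obtain ⟨e₁⟩ := ih (E₀ ⧸ LinearMap.range ι) hQ F hF
    obtain ⟨e₂⟩ := nonempty_ext_shift ι hι F (n + 1) (Nat.succ_pos n)
    obtain ⟨e₃⟩ := nonempty_H_shift J ι hι (n + 1) (Nat.succ_pos n)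
    exact ⟨e₂.symm.trans (e₁.trans (LinearEquiv.arrowCongr (LinearEquiv.refl R F) e₃))⟩

end Groth.Agent.Helper8.ExtRep
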