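import Groth.Agent.Lib.Helper8.LC41

set_option autoImplicit false
universe u
open CategoryTheory CategoryTheory.Limits Opposite

namespace Groth.Agent.Helper8.LC

open Abelian localCohomology LocCoh

variable {R : Type u} [CommRing R] [IsNoetherianRing R]

theorem cdLE_span_singleton (b : R) : CdLE R (Ideal.span {b}) 1 := by
  have h := cdLE_span_finset ({b} : Finset R)
  rw [Finset.coe_singleton, Finset.card_singleton] at h
  exact h

/-- the connecting map is bijective in positive degrees when the middle term is injective. -/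
lemma δ_bijective_of_injective (J : Ideal R) (k : ℕ) (hk : 0 < k)
    {S : ShortComplex (ModuleCat.{u} R)} (hS : S.ShortExact) [Injective S.X₂] :
    Function.Bijective (δ J k hS) := by
  constructor
  · rw [injective_iff_map_eq_zero]
    intro x hx
    obtain ⟨w, rfl⟩ := (exact_g_δ J k hS x).mp hx
    have : w = 0 := (subsingleton_of_injective J k S.X₂ hk).elim _ _
    rw [this, map_zero]
  · intro y
    have h1 : ((localCohomology J (k + 1)).map S.f) y = 0 :=
      (subsingleton_of_injective J (k + 1) S.X₂ (Nat.succ_pos k)).elim _ _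
    exact (exact_δ_f J k hS y).mp h1

lemma δ_surjective_of_injective (J : Ideal R) (k : ℕ)
    {S : ShortComplex (ModuleCat.{u} R)} (hS : S.ShortExact) [Injective S.X₂] :
    Function.Surjective (δ J k hS) := by
  intro y
  have h1 : ((localCohomology J (k + 1)).map S.f) y = 0 :=
    (subsingleton_of_injective J (k + 1) S.X₂ (Nat.succ_pos k)).elim _ _
  exact (exact_δ_f J k hS y).mp h1

section T2

variable (a : Ideal R) (b : R)

/-- base case of (T2). -/
theorem nonempty_ker_θb_one_equiv (M : Type u) [AddCommGroup M] [Module R M] :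
    Nonempty (LinearMap.ker (θb a b 1 (ModuleCat.of R M)) ≃ₗ[R]
      H (Ideal.span {b}) 1 (H a 0 M)) := by
  let B : Ideal R := Ideal.span {b}
  let c : Ideal R := a ⊔ B
  let G := DRing.torsionSub a M
  have hT : IsPowerTorsion a G := isPowerTorsion_torsionSub a M
  have hS₀ := sesSub_shortExact G
  have hbar : DRing.torsionSub a (M ⧸ G) = ⊥ := torsionSub_quotient_torsionSub_eq_bot a M
  have hbarc : DRing.torsionSub c (M ⧸ G) = ⊥ := by
    rw [eq_bot_iff, ← hbar]
    rintro x ⟨n, hn⟩
    exact ⟨n, fun r hr => hn r (Ideal.pow_right_mono le_sup_left n hr)⟩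
  have hc0 : Subsingleton (H c 0 (M ⧸ G)) := subsingleton_h0_of_torsionSub_eq_bot c _ hbarc
  let fs : H c 1 G →ₗ[R] H c 1 M := ((localCohomology c 1).map (sesSub G).f).hom
  have hfs : Function.Injective fs := by
    rw [injective_iff_map_eq_zero]
    intro x hx
    obtain ⟨w, rfl⟩ := (exact_δ_f c 0 hS₀ x).mp hx
    have : w = 0 := hc0.elim _ _
    rw [this, map_zero]
  have hle : a ≤ c := le_sup_left
  have hrange : LinearMap.range fs = LinearMap.ker (θb a b 1 (ModuleCat.of R M)) := by
    ext x
    rw [LinearMap.mem_ker]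
    constructor
    · rintro ⟨t, rfl⟩
      have h1 : θ hle 1 _ (((localCohomology c 1).map (sesSub G).f) t) =
          ((localCohomology a 1).map (sesSub G).f) (θ hle 1 _ t) := θ_map hle 1 _ t
      have h2 : θ hle 1 (sesSub G).X₁ t = 0 :=
        (subsingleton_of_isPowerTorsion a 1 Nat.one_pos G hT).elim _ _
      rw [h2, map_zero] at h1
      exact h1
    · intro hx
      have h1 : θ hle 1 _ (((localCohomology c 1).map (sesSub G).g) x) =
          ((localCohomology a 1).map (sesSub G).g) (θ hle 1 _ x) := θ_map hle 1 _ x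
      have hx' : θ hle 1 (sesSub G).X₂ x = 0 := hx
      rw [hx', map_zero] at h1
      have h2 : ((localCohomology c 1).map (sesSub G).g) x = 0 := by
        apply θ_injective_one_of_torsionSub_eq_bot hle (M ⧸ G) hbar
        rw [map_zero]
        exact h1
      exact (exact_f_g c 1 hS₀ x).mp h2
  let e₁ : H c 1 G ≃ₗ[R] LinearMap.range fs := LinearEquiv.ofInjective fs hfs
  let e₂ : LinearMap.range fs ≃ₗ[R] LinearMap.ker (θb a b 1 (ModuleCat.of R M)) :=
    LinearEquiv.ofEq _ _ hrange
  let e₃ : H c 1 G ≃ₗ[R] H B 1 G :=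
    LinearEquiv.ofBijective _ (θ_bijective_one_of_isPowerTorsion a B G hT)
  let e₄ : H B 1 G ≃ₗ[R] H B 1 (H a 0 M) := Hcongr B 1 (h0Equiv a (ModuleCat.of R M)).symm
  exact ⟨e₂.symm.trans (e₁.symm.trans (e₃.trans e₄))⟩

/-- (T2) the kernel of the comparison map. -/
theorem nonempty_ker_θb_equiv (j : ℕ) (M : Type u) [AddCommGroup M] [Module R M] :
    Nonempty (LinearMap.ker (θb a b (j + 1) (ModuleCat.of R M)) ≃ₗ[R]
      H (Ideal.span {b}) 1 (H a j M)) := by
  induction j generalizing M with
  | zero => exact nonempty_ker_θb_one_equiv a b M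
  | succ j ih =>
    let B : Ideal R := Ideal.span {b}
    let c : Ideal R := a ⊔ B
    have hle : a ≤ c := le_sup_left
    let E₀ : ModuleCat.{u} R := Injective.under (ModuleCat.of R M)
    let ι₀ : ModuleCat.of R M ⟶ E₀ := Injective.ι (ModuleCat.of R M)
    have hι₀ : Function.Injective ι₀.hom := (ModuleCat.mono_iff_injective _).mp inferInstance
    haveI hinj : Injective (ModuleCat.of R E₀) :=
      (inferInstance : Injective (Injective.under (ModuleCat.of R M)))
    haveI : Module.Injective R E₀ := Module.injective_module_of_injective_object R E₀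
    have hS := sesQuot_shortExact ι₀.hom hι₀
    haveI : Injective (sesQuot ι₀.hom).X₂ := hinj
    let Qm := E₀ ⧸ LinearMap.range ι₀.hom
    obtain ⟨e₀⟩ := ih Qm
    let dc : H c (j + 1) Qm ≃ₗ[R] H c (j + 1 + 1) M :=
      LinearEquiv.ofBijective (δ c (j + 1) hS) (δ_bijective_of_injective c (j + 1)
        (Nat.succ_pos j) hS)
    let da : H a (j + 1) Qm ≃ₗ[R] H a (j + 1 + 1) M :=
      LinearEquiv.ofBijective (δ a (j + 1) hS) (δ_bijective_of_injective a (j + 1)
        (Nat.succ_pos j) hS)
    let e₁ : LinearMap.ker (θb a b (j + 1) (ModuleCat.of R Qm)) ≃ₗ[R]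
        LinearMap.ker (θb a b (j + 1 + 1) (ModuleCat.of R M)) :=
      kerEquivOfComm _ _ dc da (fun x => θ_δ hle (j + 1) hS x)
    -- compare `H^1_B(H^j_a(Q))` with `H^1_B(H^{j+1}_a(M))`
    have h2 : Nonempty (H B 1 (H a j Qm) ≃ₗ[R] H B 1 (H a (j + 1) M)) := by
      rcases Nat.eq_zero_or_pos j with rfl | hj
      · apply nonempty_H_one_equiv_of_surjective B (cdLE_span_singleton b) (δ a 0 hS)
          (δ_surjective_of_injective a 0 hS)
        haveI : Module.Injective R (DRing.torsionSub a E₀) := torsionSub_injective a E₀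
        let gs : H a 0 E₀ →ₗ[R] H a 0 Qm := ((localCohomology a 0).map (sesQuot ι₀.hom).g).hom
        have hmem : ∀ t : DRing.torsionSub a E₀,
            gs ((h0Equiv a (ModuleCat.of R E₀)).symm t) ∈ LinearMap.ker (δ a 0 hS) := by
          intro t
          rw [LinearMap.mem_ker]
          exact (exact_g_δ a 0 hS _).mpr ⟨_, rfl⟩
        let p : DRing.torsionSub a E₀ →ₗ[R] LinearMap.ker (δ a 0 hS) :=
          LinearMap.codRestrict _ (gs ∘ₗ (h0Equiv a (ModuleCat.of R E₀)).symm.toLinearMap) hmem
        have hp : Function.Surjective p := by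
          rintro ⟨y, hy⟩
          rw [LinearMap.mem_ker] at hy
          obtain ⟨w, hw⟩ := (exact_g_δ a 0 hS y).mp hy
          refine ⟨h0Equiv a (ModuleCat.of R E₀) w, ?_⟩
          apply Subtype.ext
          change gs ((h0Equiv a (ModuleCat.of R E₀)).symm (h0Equiv a (ModuleCat.of R E₀) w)) = y
          rw [LinearEquiv.symm_apply_apply]
          exact hw
        exact subsingleton_H_one_of_surjective_of_injective B (cdLE_span_singleton b) p hp
      · let da' : H a j Qm ≃ₗ[R] H a (j + 1) M :=
          LinearEquiv.ofBijective (δ a j hS) (δ_bijective_of_injective a j hj hS)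
        exact ⟨Hcongr B 1 da'⟩
    obtain ⟨e₂⟩ := h2
    exact ⟨e₁.symm.trans (e₀.trans e₂)⟩

end T2

end Groth.Agent.Helper8.LC
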