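import Mathlib
import Groth.Agent.Lib.Helper8.Conn1
import Groth.Agent.Lib.Helper8.LC42
import Groth.Agent.Lib.Helper8.ExtRep3

/-!
# Connections on local cohomology

A `θ`-connection on a module induces `θ`-connections on all its local cohomology modules.
-/

set_option autoImplicit false
universe u

namespace Groth.Agent.Helper8.Conn

open CategoryTheory Abelian LocCoh localCohomology Groth.Agent.Helper8.LC

variable {A : Type u} [CommRing A] (θ : Derivation ℤ A A) (I : Ideal A)

/-- degree zero. -/
theorem exists_isConn_H_zero (N : Type u) [AddCommGroup N] [Module A N] {DN : N →+ N}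
    (hDN : IsConn θ DN) :
    ∃ D : H I 0 N →+ H I 0 N, IsConn θ D ∧
      ∀ x, ev0 I (ModuleCat.of A N) (D x) = DN (ev0 I (ModuleCat.of A N) x) := by
  have hpres : ∀ m : N, m ∈ DRing.torsionSub I N → DN m ∈ DRing.torsionSub I N := by
    rintro m ⟨n, hn⟩
    exact ⟨n + 1, pow_succ_smul_conn_eq_zero θ I hDN n m hn⟩
  have hex : ∀ x : H I 0 N, ∃ y : H I 0 N,
      ev0 I (ModuleCat.of A N) y = DN (ev0 I (ModuleCat.of A N) x) :=
    fun x => exists_ev0_eq I (ModuleCat.of A N) _ (hpres _ (ev0_mem I (ModuleCat.of A N) x))
  choose D hD using hex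
  have hinj := ev0_injective I (ModuleCat.of A N)
  let D' : H I 0 N →+ H I 0 N :=
    { toFun := D
      map_zero' := by
        apply hinj
        rw [hD, map_zero, map_zero]
      map_add' := fun x y => by
        apply hinj
        rw [hD, map_add, map_add, map_add, hD, hD] }
  refine ⟨D', ?_, hD⟩
  intro a x
  apply hinj
  change ev0 I (ModuleCat.of A N) (D (a • x)) = _
  rw [hD, map_smul, hDN, map_add, map_smul, map_smul]
  change _ = θ a • _ + a • ev0 I (ModuleCat.of A N) (D x)
  rw [hD]

variable [IsNoetherianRing A]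

/-- **connections on local cohomology.** -/
theorem exists_isConn_H : ∀ (i : ℕ) (N : Type u) [AddCommGroup N] [Module A N] (DN : N →+ N),
    IsConn θ DN → ∃ D : H I i N →+ H I i N, IsConn θ D := by
  intro i
  induction i with
  | zero =>
    intro N _ _ DN hDN
    obtain ⟨D, hD, -⟩ := exists_isConn_H_zero θ I N hDN
    exact ⟨D, hD⟩
  | succ i ih =>
    intro N _ _ DN hDN
    obtain ⟨E, _, _, _, j, hj⟩ := Groth.Agent.Helper8.ExtRep.exists_injective_embedding (R := A) N
    obtain ⟨DE, hDE, hDEj⟩ := exists_isConn_extending θ j hj hDN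
    obtain ⟨DQ, hDQ, hDQπ⟩ := exists_isConn_of_surjective θ j (LinearMap.range j).mkQ
      (Submodule.mkQ_surjective _)
      (by
        intro x
        rw [Submodule.mkQ_apply, Submodule.Quotient.mk_eq_zero]
        rfl)
      hDE (fun n => ⟨DN n, hDEj n⟩)
    have hS := sesQuot_shortExact j hj
    haveI : Injective (sesQuot j).X₂ := Module.injective_object_of_injective_module A E
    cases i with
    | zero =>
      obtain ⟨D0E, hD0E, hev0E⟩ := exists_isConn_H_zero θ I E hDE
      obtain ⟨D0Q, hD0Q, hev0Q⟩ := exists_isConn_H_zero θ I (E ⧸ LinearMap.range j) hDQ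
      obtain ⟨D1, hD1, -⟩ := exists_isConn_of_surjective θ
        ((localCohomology I 0).map (sesQuot j).g).hom (δ I 0 hS)
        (δ_surjective_of_injective I 0 hS) (exact_g_δ I 0 hS) hD0Q
        (fun x => ⟨D0E x, by
          apply ev0_injective I (ModuleCat.of A (E ⧸ LinearMap.range j))
          have h1 := ev0_map I (sesQuot j).g x
          have h2 := ev0_map I (sesQuot j).g (D0E x)
          have h3 := hev0Q (((localCohomology I 0).map (sesQuot j).g).hom x)
          refine h3.trans ?_
          refine Eq.trans ?_ h2.symm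
          rw [hev0E]
          refine (congrArg DQ h1).trans ?_
          exact hDQπ _⟩)
      exact ⟨D1, hD1⟩
    | succ k =>
      obtain ⟨Dk, hDk⟩ := ih (E ⧸ LinearMap.range j) DQ hDQ
      exact exists_isConn_of_linearEquiv θ
        (LinearEquiv.ofBijective (δ I (k + 1) hS)
          (δ_bijective_of_injective I (k + 1) (Nat.succ_pos k) hS)) hDk

end Groth.Agent.Helper8.Conn
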