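import Mathlib
import Groth.Prelude.Def_CotT2
import Groth.Agent.Lib.Helper9.CotHom2
import Groth.Agent.Lib.Helper8.CotK4

/-!
# `T¹`, `T²` of a finitely generated algebra over an algebraically closed field and regularity
-/

set_option autoImplicit false

namespace Groth.Agent.Helper8.CotK

universe u

open CotT TensorProduct Groth.Agent.Helper9

section Pres

variable {A B ι : Type u} [CommRing A] [CommRing B] [Algebra A B]

/-- The presentation attached to a family of generators, with every element of the kernel as a
relation. -/
noncomputable def presOfGen (G : Algebra.Generators A B ι) : Algebra.Presentation A B ι G.ker where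
  __ := G
  relation := Subtype.val
  span_range_relation_eq_ker := by
    refine le_antisymm (Ideal.span_le.mpr ?_) fun x hx => Ideal.subset_span ⟨⟨x, hx⟩, rfl⟩
    rintro _ ⟨r, rfl⟩
    exact r.2

end Pres

section Main

variable (k C : Type u) [Field k] [IsAlgClosed k] [CommRing C] [Algebra k C]
  [Algebra.FiniteType k C]

theorem subsingleton_T2_canon_of_regular
    (h : ∀ (p : Ideal C) [p.IsPrime], IsRegularLocalRing (Localization.AtPrime p))
    (M : Type u) [AddCommGroup M] [Module C M] : Subsingleton (T2 (canon k C) M) := by
  haveI : Algebra.FormallySmooth k C := formallySmooth_of_forall_regular k C h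
  obtain ⟨n, ⟨G₀⟩⟩ := Algebra.FiniteType.iff_exists_generators.mp
    (inferInstance : Algebra.FiniteType k C)
  let G : Algebra.Generators k C (ULift.{u} (Fin n)) := G₀.reindex Equiv.ulift
  let P₀ := presOfGen G
  have hK : LocKoszul P₀ := locKoszul_of_regular P₀ h
  have hproj := projective_cotangent_of_formallySmooth P₀
  haveI := subsingleton_T2 hproj hK M
  obtain ⟨e⟩ := CotHom.nonempty_T2equiv (canon k C) P₀ M
  exact e.toEquiv.subsingleton

theorem forall_regular_iff_subsingleton_T1 :
    (∀ (p : Ideal C) [p.IsPrime], IsRegularLocalRing (Localization.AtPrime p)) ↔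
      ∀ (M : Type u) [AddCommGroup M] [Module C M], Subsingleton (T1 (canon k C) M) :=
  (forall_regular_iff_formallySmooth k C).trans (formallySmooth_iff_subsingleton_T1 (canon k C))

end Main

end Groth.Agent.Helper8.CotK
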