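import Mathlib
import Groth.Agent.Lib.Helper8.CotK1

/-!
# Koszul relations for (possibly infinite) families regular in every order

* `mem_triv_of_reg`: if every `f s` is a nonzerodivisor modulo the ideal generated by any finite
  set of other members of the family, then every relation among the `f s` is trivial.
* `mem_map_C_of_mul_mem`: `C c * X - 1` is a nonzerodivisor modulo `J[X]`.
* `reg_inv_family`: the family `C s * X_s - 1` in a polynomial ring has the above property.
-/

set_option autoImplicit false

namespace Groth.Agent.Helper8.CotK

universe u v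

section Abstract

variable {R : Type u} [CommRing R] {σ : Type v} (f : σ → R)

theorem mem_triv_of_reg
    (hreg : ∀ (T : Finset σ) (s : σ), s ∉ T → ∀ r : R,
      r * f s ∈ Ideal.span (f '' (T : Set σ)) → r ∈ Ideal.span (f '' (T : Set σ)))
    (x : σ →₀ R) (hx : jj f x = 0) : x ∈ triv f := by
  classical
  have key : ∀ (T : Finset σ) (x : σ →₀ R), x.support ⊆ T → jj f x = 0 → x ∈ triv f := by
    intro T
    induction T using Finset.induction_on with
    | empty =>
      intro x hsupp _
      have : x = 0 := by
        rw [← Finsupp.support_eq_empty]
        exact Finset.subset_empty.mp hsupp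
      rw [this]
      exact zero_mem _
    | insert s T hs ih =>
      intro x hsupp hx
      -- the part of `x` away from `s`
      let x' : σ →₀ R := x.erase s
      have hx'supp : x'.support ⊆ T := by
        intro t ht
        rw [Finsupp.support_erase, Finset.mem_erase] at ht
        have := hsupp ht.2
        rw [Finset.mem_insert] at this
        rcases this with h | h
        · exact absurd h ht.1
        · exact h
      have hdecomp : x = Finsupp.single s (x s) + x' := (Finsupp.single_add_erase s x).symm
      have hjx' : jj f x' ∈ Ideal.span (f '' (T : Set σ)) := by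
        change Finsupp.linearCombination R f x' ∈ Submodule.span R (f '' (T : Set σ))
        rw [Finsupp.mem_span_image_iff_linearCombination]
        refine ⟨x', ?_, rfl⟩
        rw [Finsupp.mem_supported]
        exact_mod_cast hx'supp
      have h1 : x s * f s ∈ Ideal.span (f '' (T : Set σ)) := by
        have h2 : jj f x = x s * f s + jj f x' := by
          conv_lhs => rw [hdecomp]
          rw [map_add, Finsupp.linearCombination_single, smul_eq_mul]
        rw [hx] at h2
        have h3 : x s * f s = - jj f x' := by
          rw [eq_neg_iff_add_eq_zero]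
          exact h2.symm
        rw [h3]
        exact neg_mem hjx'
      have h4 := hreg T s hs (x s) h1
      change x s ∈ Submodule.span R (f '' (T : Set σ)) at h4
      rw [Finsupp.mem_span_image_iff_linearCombination] at h4
      obtain ⟨a, hasupp, ha⟩ := h4
      rw [Finsupp.mem_supported] at hasupp
      have has : a s = 0 := by
        rw [← Finsupp.notMem_support_iff]
        intro h
        exact hs (by exact_mod_cast hasupp h)
      -- the corrected relation
      let y : σ →₀ R := x' + f s • a
      have hysupp : y.support ⊆ T := by
        intro t ht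
        by_contra htT
        have h5 : x' t = 0 := by
          rw [← Finsupp.notMem_support_iff]
          exact fun h => htT (hx'supp h)
        have h6 : a t = 0 := by
          rw [← Finsupp.notMem_support_iff]
          exact fun h => htT (by exact_mod_cast hasupp h)
        rw [Finsupp.mem_support_iff] at ht
        apply ht
        change x' t + (f s • a) t = 0
        rw [Finsupp.smul_apply, h5, h6, smul_zero, add_zero]
      have hgen : x - y = jj f a • Finsupp.single s (1 : R) - jj f (Finsupp.single s (1 : R)) • a := by
        rw [Finsupp.linearCombination_single, one_smul, ha, Finsupp.smul_single, smul_eq_mul,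
          mul_one]
        conv_lhs => rw [hdecomp]
        change Finsupp.single s (x s) + x' - (x' + f s • a) = _
        abel
      have hgenmem : x - y ∈ triv f := by
        rw [hgen]
        exact gen_mem_triv f _ _
      have hjy : jj f y = 0 := by
        have h7 := triv_le_ker f hgenmem
        rw [LinearMap.mem_ker, map_sub, hx, zero_sub, neg_eq_zero] at h7
        exact h7
      have hy := ih y hysupp hjy
      have := add_mem hgenmem hy
      rwa [sub_add_cancel] at this
  exact key x.support x (Finset.Subset.refl _) hx

end Abstract

section Poly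

open Polynomial

variable {R : Type u} [CommRing R]

/-- `C c * X - 1` is a nonzerodivisor modulo `J[X]`. -/
theorem mem_map_C_of_mul_mem (J : Ideal R) (c : R) (p : R[X])
    (h : p * (C c * X - 1) ∈ J.map (C : R →+* R[X])) : p ∈ J.map (C : R →+* R[X]) := by
  rw [Ideal.mem_map_C_iff] at h ⊢
  have hcoeff0 : (p * (C c * X - 1)).coeff 0 = - p.coeff 0 := by
    rw [mul_sub, mul_one, ← mul_assoc, coeff_sub, coeff_mul_X_zero, zero_sub]
  have hcoeffS : ∀ n, (p * (C c * X - 1)).coeff (n + 1) = p.coeff n * c - p.coeff (n + 1) := by
    intro n
    rw [mul_sub, mul_one, ← mul_assoc, coeff_sub, coeff_mul_X, coeff_mul_C]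
  intro n
  induction n with
  | zero =>
    have := h 0
    rw [hcoeff0] at this
    exact neg_mem_iff.mp this
  | succ n ih =>
    have := h (n + 1)
    rw [hcoeffS] at this
    have h2 : p.coeff (n + 1) = p.coeff n * c - (p.coeff n * c - p.coeff (n + 1)) := by ring
    rw [h2]
    exact sub_mem (J.mul_mem_right _ ih) this

theorem eval_mem_of_mem_map_C (J : Ideal R) (a : R) (p : R[X])
    (h : p ∈ J.map (C : R →+* R[X])) : p.eval a ∈ J := by
  rw [Ideal.mem_map_C_iff] at h
  rw [eval_eq_sum_range]
  exact Ideal.sum_mem _ fun n _ => J.mul_mem_right _ (h n)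

end Poly

section MvPoly

open MvPolynomial

variable {C : Type u} [CommRing C] {ι : Type v} (c : ι → C)

/-- the family `c_s X_s - 1` -/
noncomputable def invRel (s : ι) : MvPolynomial ι C := MvPolynomial.C (c s) * X s - 1

theorem reg_invRel (T : Finset ι) (s : ι) (hs : s ∉ T) (r : MvPolynomial ι C)
    (hr : r * invRel c s ∈ Ideal.span (invRel c '' (T : Set ι))) :
    r ∈ Ideal.span (invRel c '' (T : Set ι)) := by
  classical
  let J : Ideal (MvPolynomial ι C) := Ideal.span (invRel c '' (T : Set ι))
  -- substitute a new polynomial variable for `X s`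
  let θ : MvPolynomial ι C →ₐ[C] Polynomial (MvPolynomial ι C) :=
    aeval (fun t => if t = s then Polynomial.X else Polynomial.C (X t))
  have hθX : ∀ t, θ (X t) = if t = s then Polynomial.X else Polynomial.C (X t) := fun t =>
    aeval_X _ t
  have hθC : ∀ a : C, θ (MvPolynomial.C a) = Polynomial.C (MvPolynomial.C a) := by
    intro a
    rw [← MvPolynomial.algebraMap_eq, AlgHom.commutes]
    rfl
  have hev : ∀ q : MvPolynomial ι C, Polynomial.eval (X s) (θ q) = q := by
    intro q
    induction q using MvPolynomial.induction_on with
    | C a => rw [hθC, Polynomial.eval_C]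
    | add p q hp hq => rw [map_add, Polynomial.eval_add, hp, hq]
    | mul_X p t hp =>
      rw [map_mul, Polynomial.eval_mul, hp, hθX]
      split_ifs with h
      · rw [Polynomial.eval_X, h]
      · rw [Polynomial.eval_C]
  have hθrel : ∀ t, t ≠ s → θ (invRel c t) = Polynomial.C (invRel c t) := by
    intro t ht
    rw [invRel, map_sub, map_mul, map_one, hθC, hθX, if_neg ht, Polynomial.C_sub,
      Polynomial.C_mul, Polynomial.C_1]
  have hθs : θ (invRel c s) = Polynomial.C (MvPolynomial.C (c s)) * Polynomial.X - 1 := by
    rw [invRel, map_sub, map_mul, map_one, hθC, hθX, if_pos rfl]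
  have hθJ : ∀ q ∈ J, θ q ∈ J.map (Polynomial.C : MvPolynomial ι C →+* _) := by
    intro q hq
    have hle : J ≤ (J.map (Polynomial.C : MvPolynomial ι C →+* _)).comap θ.toRingHom := by
      refine Ideal.span_le.mpr ?_
      rintro _ ⟨t, ht, rfl⟩
      have hts : t ≠ s := fun h => hs (h ▸ (by exact_mod_cast ht))
      rw [SetLike.mem_coe, Ideal.mem_comap]
      change θ (invRel c t) ∈ _
      rw [hθrel t hts]
      exact Ideal.mem_map_of_mem _ (Ideal.subset_span ⟨t, ht, rfl⟩)
    exact hle hq
  have h1 := hθJ _ hr
  rw [map_mul, hθs] at h1
  have h2 := mem_map_C_of_mul_mem J _ _ h1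
  have h3 := eval_mem_of_mem_map_C J (X s) _ h2
  rwa [hev] at h3

theorem mem_triv_invRel (x : ι →₀ MvPolynomial ι C) (hx : jj (invRel c) x = 0) :
    x ∈ triv (invRel c) :=
  mem_triv_of_reg (invRel c) (reg_invRel c) x hx

end MvPoly

end Groth.Agent.Helper8.CotK
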