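import Mathlib
import Groth.Prelude.Def_CotT2
import Groth.Agent.Lib.Helper9.CotHom2
import Groth.Agent.Lib.Helper9.CotHom5
import Groth.Agent.Lib.Helper8.CotK2
import Groth.Agent.Lib.Helper8.CotK6

/-!
# `T²` of a localization vanishes
-/

set_option autoImplicit false

namespace Groth.Agent.Helper8.CotK

universe u

open CotT TensorProduct MvPolynomial Groth.Agent.Helper9

variable (C : Type u) [CommRing C] (S : Submonoid C) (D : Type u) [CommRing D] [Algebra C D]
  [IsLocalization S D]

/-- generators of a localization: one inverse for every element of the submonoid -/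
noncomputable def locGen : Algebra.Generators C D S where
  val s := IsLocalization.mk' D 1 s
  σ' d := MvPolynomial.C (IsLocalization.sec S d).1 * X (IsLocalization.sec S d).2
  aeval_val_σ' d := by
    rw [map_mul, aeval_C, aeval_X, ← IsLocalization.sec_spec (M := S) d, mul_assoc,
      mul_comm (algebraMap C D _), IsLocalization.mk'_spec, map_one, mul_one]

lemma locGen_val (s : S) : (locGen C S D).val s = IsLocalization.mk' D 1 s := rfl

lemma aeval_invRel (s : S) :
    aeval (locGen C S D).val (invRel (fun s : S => (s : C)) s) = 0 := by
  rw [invRel, map_sub, map_mul, map_one, aeval_C, aeval_X, locGen_val, mul_comm,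
    IsLocalization.mk'_spec, map_one, sub_self]

lemma span_invRel_eq_ker :
    Ideal.span (Set.range (invRel (fun s : S => (s : C)))) = (locGen C S D).ker := by
  rw [Algebra.Generators.ker_eq_ker_aeval_val]
  apply le_antisymm
  · refine Ideal.span_le.mpr ?_
    rintro _ ⟨s, rfl⟩
    rw [SetLike.mem_coe, RingHom.mem_ker]
    exact aeval_invRel C S D s
  · intro x hx
    rw [RingHom.mem_ker] at hx
    let J : Ideal (MvPolynomial S C) := Ideal.span (Set.range (invRel (fun s : S => (s : C))))
    let q : MvPolynomial S C →+* MvPolynomial S C ⧸ J := Ideal.Quotient.mk J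
    have hinv : ∀ s : S, q (MvPolynomial.C (s : C)) * q (X s) = 1 := by
      intro s
      rw [← map_mul, ← map_one q, ← sub_eq_zero, ← map_sub]
      exact Ideal.Quotient.eq_zero_iff_mem.mpr (Ideal.subset_span ⟨s, rfl⟩)
    have hunit : ∀ s : S, IsUnit ((q.comp MvPolynomial.C) (s : C)) := by
      intro s
      exact IsUnit.of_mul_eq_one _ (hinv s)
    let ψ : D →+* MvPolynomial S C ⧸ J := IsLocalization.lift (M := S) hunit
    have hψ : ∀ a : C, ψ (algebraMap C D a) = q (MvPolynomial.C a) := fun a =>
      IsLocalization.lift_eq hunit a
    have hcomp : ψ.comp (aeval (locGen C S D).val : MvPolynomial S C →ₐ[C] D).toRingHom = q := by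
      refine MvPolynomial.ringHom_ext (fun a => ?_) (fun s => ?_)
      · change ψ (aeval (locGen C S D).val (MvPolynomial.C a)) = q (MvPolynomial.C a)
        rw [aeval_C, hψ]
      · change ψ (aeval (locGen C S D).val (X s)) = q (X s)
        rw [aeval_X, locGen_val]
        have h1 : ψ (IsLocalization.mk' D 1 s) * q (MvPolynomial.C (s : C)) = 1 := by
          rw [← hψ, ← map_mul, IsLocalization.mk'_spec, map_one, map_one]
        calc ψ (IsLocalization.mk' D 1 s)
            = ψ (IsLocalization.mk' D 1 s) * (q (MvPolynomial.C (s : C)) * q (X s)) := by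
              rw [hinv, mul_one]
          _ = q (X s) := by rw [← mul_assoc, h1, one_mul]
    have h2 : q x = 0 := by
      rw [← hcomp]
      change ψ (aeval (locGen C S D).val x) = 0
      rw [hx, map_zero]
    exact Ideal.Quotient.eq_zero_iff_mem.mp h2

/-- the presentation of a localization by inverses -/
noncomputable def locPres : Algebra.Presentation C D S S where
  __ := locGen C S D
  relation := invRel (fun s : S => (s : C))
  span_range_relation_eq_ker := span_invRel_eq_ker C S D

lemma relKer_le_trivRel_locPres : relKer (locPres C S D) ≤ trivRel (locPres C S D) := by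
  intro q hq
  exact mem_triv_invRel (fun s : S => (s : C)) q hq

include S in
theorem subsingleton_T2_canon_of_isLocalization (M : Type u) [AddCommGroup M] [Module D M] :
    Subsingleton (T2 (canon C D) M) := by
  haveI := CotHom.subsingleton_T2_of_le (locPres C S D) M (relKer_le_trivRel_locPres C S D)
  obtain ⟨e⟩ := CotHom.nonempty_T2equiv (canon C D) (locPres C S D) M
  exact e.toEquiv.subsingleton

end Groth.Agent.Helper8.CotK
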