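import Mathlib
import Groth.Prelude.Def_CotT2
import Groth.Agent.Lib.Helper9.CotNine6
import Groth.Agent.Lib.Helper8.CotK5
import Groth.Agent.Lib.Helper8.CotK7

/-!
# `T¹`, `T²` of the local ring of a finitely generated algebra over an algebraically closed field
-/

set_option autoImplicit false

namespace Groth.Agent.Helper8.CotK

universe u

open CotT TensorProduct Groth.Agent.Helper9

section Exact

/-- the middle term of an exact sequence of additive maps between trivial groups is trivial -/
lemma subsingleton_of_exact {X Y Z : Type*} [AddCommGroup X] [AddCommGroup Y] [AddCommGroup Z]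
    [Subsingleton X] [Subsingleton Z] (f : X →+ Y) (g : Y →+ Z) (h : Function.Exact f g) :
    Subsingleton Y := by
  have key : ∀ y : Y, y = 0 := by
    intro y
    obtain ⟨x, rfl⟩ := (h y).1 (Subsingleton.elim _ _)
    rw [Subsingleton.elim x 0, map_zero]
  exact ⟨fun a b => by rw [key a, key b]⟩

end Exact

variable (k B : Type u) [Field k] [IsAlgClosed k] [CommRing B] [Algebra k B]
  [Algebra.FiniteType k B] (m : Ideal B) [m.IsPrime]

theorem regular_atPrime_iff_subsingleton_T1 :
    IsRegularLocalRing (Localization.AtPrime m) ↔
      ∀ (M : Type u) [AddCommGroup M] [Module (Localization.AtPrime m) M],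
        Subsingleton (T1 (canon k (Localization.AtPrime m)) M) :=
  (isSmoothAt_iff_regular k B m).symm.trans
    (formallySmooth_iff_subsingleton_T1 (canon k (Localization.AtPrime m)))

theorem subsingleton_T2_atPrime_of_regular (hreg : IsRegularLocalRing (Localization.AtPrime m))
    (M : Type u) [AddCommGroup M] [Module (Localization.AtPrime m) M] :
    Subsingleton (T2 (canon k (Localization.AtPrime m)) M) := by
  haveI : Algebra.FinitePresentation k B := Algebra.FinitePresentation.of_finiteType.mp inferInstance
  haveI : Algebra.IsSmoothAt k m := (isSmoothAt_iff_regular k B m).2 hreg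
  obtain ⟨g, hg, hsm⟩ := Algebra.IsSmoothAt.exists_notMem_smooth k m
  have hle : Submonoid.powers g ≤ m.primeCompl := Submonoid.powers_le.mpr hg
  letI : Algebra (Localization.Away g) (Localization.AtPrime m) :=
    IsLocalization.localizationAlgebraOfSubmonoidLe (Localization.Away g) (Localization.AtPrime m)
      (Submonoid.powers g) m.primeCompl hle
  haveI : IsScalarTower B (Localization.Away g) (Localization.AtPrime m) :=
    IsLocalization.localization_isScalarTower_of_submonoid_le (Localization.Away g)
      (Localization.AtPrime m) (Submonoid.powers g) m.primeCompl hle
  haveI : IsLocalization (m.primeCompl.map (algebraMap B (Localization.Away g)))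
      (Localization.AtPrime m) :=
    IsLocalization.isLocalization_of_submonoid_le (Localization.Away g) (Localization.AtPrime m)
      (Submonoid.powers g) m.primeCompl hle
  haveI : IsScalarTower k (Localization.Away g) (Localization.AtPrime m) :=
    IsScalarTower.of_algebraMap_eq fun x => by
      rw [IsScalarTower.algebraMap_apply k B (Localization.AtPrime m),
        IsScalarTower.algebraMap_apply k B (Localization.Away g),
        ← IsScalarTower.algebraMap_apply B (Localization.Away g) (Localization.AtPrime m)]
  haveI : Algebra.FormallySmooth k (Localization.Away g) := hsm.formallySmooth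
  haveI : Algebra.FinitePresentation k (Localization.Away g) := hsm.finitePresentation
  haveI : Algebra.FiniteType k (Localization.Away g) := inferInstance
  letI : Module (Localization.Away g) M :=
    Module.compHom M (algebraMap (Localization.Away g) (Localization.AtPrime m))
  haveI : IsScalarTower (Localization.Away g) (Localization.AtPrime m) M :=
    ⟨fun c b x => by
      change (c • b) • x = algebraMap (Localization.Away g) (Localization.AtPrime m) c • (b • x)
      rw [Algebra.smul_def, mul_smul]⟩
  haveI h1 : Subsingleton (T2 (canon k (Localization.Away g)) M) :=
    subsingleton_T2_canon_of_regular k (Localization.Away g)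
      (fun p _ => regular_of_formallySmooth k (Localization.Away g) p) M
  haveI h2 : Subsingleton (T2 (canon (Localization.Away g) (Localization.AtPrime m)) M) :=
    subsingleton_T2_canon_of_isLocalization (Localization.Away g)
      (m.primeCompl.map (algebraMap B (Localization.Away g))) (Localization.AtPrime m) M
  have h3 := (CotNine.nine_canon k (Localization.Away g) (Localization.AtPrime m) M).2.2.2.1
  exact subsingleton_of_exact
    ((canonHom k (Localization.AtPrime m) (Localization.Away g)
      (Localization.AtPrime m)).T2pull M).toAddMonoidHom
    ((canonHom k (Localization.Away g) k (Localization.AtPrime m)).T2pull M).toAddMonoidHom h3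

end Groth.Agent.Helper8.CotK
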