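import Mathlib
import Groth.Prelude.Def_CotT2
import Groth.Prelude.Def_CAlgX
import Groth.Agent.Lib.Helper9.CotNine6
import Groth.Agent.Lib.Helper9.CotHom5
import Groth.Agent.Lib.Helper8.CotK8

/-!
# Nine-term consequences and `H₁`-regularity from `L₂ = 0`
-/

set_option autoImplicit false

namespace Groth.Agent.Helper8.CotK

universe u

open CotT TensorProduct Groth.Agent.Helper9

section Nine

variable (A B C : Type u) [CommRing A] [CommRing B] [CommRing C]
variable [Algebra A B] [Algebra B C] [Algebra A C] [IsScalarTower A B C]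
variable (M : Type u) [AddCommGroup M] [Module C M] [Module B M] [IsScalarTower B C M]

theorem subsingleton_T2_of_tower [Subsingleton (T2 (canon A B) M)]
    [Subsingleton (T2 (canon B C) M)] : Subsingleton (T2 (canon A C) M) := by
  have h3 := (CotNine.nine_canon A B C M).2.2.2.1
  exact subsingleton_of_exact ((canonHom A C B C).T2pull M).toAddMonoidHom
    ((canonHom A B A C).T2pull M).toAddMonoidHom h3

theorem subsingleton_T2_top_of_tower [Subsingleton (T1 (canon A B) M)]
    [Subsingleton (T2 (canon A C) M)] : Subsingleton (T2 (canon B C) M) := by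
  obtain ⟨δ₀, δ₁, -, -, -, h4⟩ := (CotNine.nine_canon A B C M).2.2.2.2
  exact subsingleton_of_exact δ₁ ((canonHom A C B C).T2pull M).toAddMonoidHom h4

end Nine

section Kos

variable {A : Type u} [CommRing A] {r : ℕ} (f : Fin r → A)

lemma pair_mem_kos (u v : Fin r → A) :
    (∑ i, u i * f i) • v - (∑ i, v i * f i) • u ∈
      Submodule.span A {w : Fin r → A | ∃ i j : Fin r, w = Pi.single i (f j) - Pi.single j (f i)} := by
  classical
  have h : (∑ i, u i * f i) • v - (∑ i, v i * f i) • u =
      ∑ i, ∑ j, (u i * v j) • (Pi.single j (f i) - Pi.single i (f j) : Fin r → A) := by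
    ext l
    have e1 : ∀ i j, ((u i * v j) • (Pi.single j (f i) - Pi.single i (f j) : Fin r → A)) l =
        (if l = j then u i * v j * f i else 0) - (if l = i then u i * v j * f j else 0) := by
      intro i j
      simp only [Pi.smul_apply, Pi.sub_apply, Pi.single_apply, smul_eq_mul, mul_sub, mul_ite,
        mul_zero]
    simp only [Pi.sub_apply, Pi.smul_apply, Finset.sum_apply, smul_eq_mul, e1,
      Finset.sum_sub_distrib]
    congr 1
    · rw [Finset.sum_mul]
      refine Finset.sum_congr rfl fun i _ => ?_
      rw [Finset.sum_ite_eq, if_pos (Finset.mem_univ _)]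
      ring
    · rw [Finset.sum_mul, Finset.sum_comm]
      refine Finset.sum_congr rfl fun j _ => ?_
      rw [Finset.sum_ite_eq, if_pos (Finset.mem_univ _)]
      ring
  rw [h]
  refine Submodule.sum_mem _ fun i _ => Submodule.sum_mem _ fun j _ => ?_
  exact Submodule.smul_mem _ _ (Submodule.subset_span ⟨j, i, rfl⟩)

end Kos

end Groth.Agent.Helper8.CotK
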