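import Mathlib
import Groth.Agent.Lib.Helper8.Depth3
import Groth.Agent.Lib.Helper8.LD3

/-!
# Generators of an ideal with a regular prefix

Coset prime avoidance and the construction of a generating sequence of an ideal `J`
(of prescribed length) whose first `depth_J` terms form a regular sequence.
-/

set_option autoImplicit false
universe u

namespace Groth.Agent.Helper8.RegPrefix

open RingTheory.Sequence LocCoh IsLocalRing Pointwise

/-- Coset prime avoidance for an antichain-free finite set of primes. -/
theorem exists_add_notMem {R : Type*} [CommRing R] (P : Finset (Ideal R))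
    (hP : ∀ p ∈ P, p.IsPrime) (x : R) (I : Ideal R)
    (h : ∀ p ∈ P, ¬ (Ideal.span {x} ⊔ I ≤ p)) :
    ∃ y ∈ I, ∀ p ∈ P, x + y ∉ p := by
  classical
  -- reduce to the maximal elements
  set Pm : Finset (Ideal R) := P.filter (fun p => Maximal (· ∈ P) p) with hPm
  have hcover : ∀ p ∈ P, ∃ p' ∈ Pm, p ≤ p' := by
    intro p hp
    obtain ⟨b, hpb, hb⟩ := P.exists_le_maximal hp
    exact ⟨b, Finset.mem_filter.mpr ⟨hb.prop, hb⟩, hpb⟩
  have hanti : ∀ p ∈ Pm, ∀ q ∈ Pm, q ≤ p → q = p := by
    intro p hp q hq hqp
    have hq' := (Finset.mem_filter.mp hq).2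
    have hp' := (Finset.mem_filter.mp hp).1
    exact le_antisymm hqp (hq'.le_of_ge hp' hqp)
  have hPm_sub : ∀ p ∈ Pm, p ∈ P := fun p hp => (Finset.mem_filter.mp hp).1
  suffices hs : ∃ y ∈ I, ∀ p ∈ Pm, x + y ∉ p by
    obtain ⟨y, hyI, hy⟩ := hs
    refine ⟨y, hyI, fun p hp hmem => ?_⟩
    obtain ⟨p', hp', hle⟩ := hcover p hp
    exact hy p' hp' (hle hmem)
  set P1 : Finset (Ideal R) := Pm.filter (fun p => x ∈ p) with hP1
  set P2 : Finset (Ideal R) := Pm.filter (fun p => x ∉ p) with hP2
  have hprime1 : ∀ p ∈ P1, p.IsPrime := fun p hp =>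
    hP p (hPm_sub p (Finset.mem_filter.mp hp).1)
  -- y0 ∈ I avoiding P1
  have h1 : ¬ ((I : Set R) ⊆ ⋃ p ∈ (↑P1 : Set (Ideal R)), (p : Set R)) := by
    intro hsub
    obtain ⟨p, hp1, hle⟩ := (Ideal.subset_union_prime (s := P1) (f := fun p => p) ⊥ ⊥
      (fun p hp _ _ => hprime1 p hp) (I := I)).mp hsub
    have hp := Finset.mem_filter.mp hp1
    exact h p (hPm_sub p hp.1) (sup_le ((Ideal.span_singleton_le_iff_mem _).mpr hp.2) hle)
  rw [Set.not_subset] at h1
  obtain ⟨y0, hy0I, hy0⟩ := h1
  have hy0' : ∀ p ∈ P1, y0 ∉ p := fun p hp hmem =>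
    hy0 (Set.mem_biUnion (Finset.mem_coe.mpr hp) hmem)
  -- z in all of P2 avoiding P1
  have h2 : ¬ (((P2.inf fun q => q : Ideal R) : Set R) ⊆
      ⋃ p ∈ (↑P1 : Set (Ideal R)), (p : Set R)) := by
    intro hsub
    obtain ⟨p, hp1, hle⟩ := (Ideal.subset_union_prime (s := P1) (f := fun p => p) ⊥ ⊥
      (fun p hp _ _ => hprime1 p hp) (I := P2.inf fun q => q)).mp hsub
    haveI := hprime1 p hp1
    obtain ⟨q, hq2, hqp⟩ := (Ideal.IsPrime.inf_le' (s := P2) (f := fun q => q) (P := p) inferInstance).mp hle
    have hp := Finset.mem_filter.mp hp1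
    have hq := Finset.mem_filter.mp hq2
    have := hanti p hp.1 q hq.1 hqp
    subst this
    exact hq.2 hp.2
  rw [Set.not_subset] at h2
  obtain ⟨z, hzQ, hz⟩ := h2
  have hz' : ∀ p ∈ P1, z ∉ p := fun p hp hmem =>
    hz (Set.mem_biUnion (Finset.mem_coe.mpr hp) hmem)
  have hzQ' : ∀ q ∈ P2, z ∈ q := by
    intro q hq
    have : (P2.inf fun q => q) ≤ q := Finset.inf_le (f := fun q : Ideal R => q) hq
    exact this hzQ
  refine ⟨y0 * z, I.mul_mem_right _ hy0I, fun p hp hmem => ?_⟩
  by_cases hx : x ∈ p
  · have hp1 : p ∈ P1 := Finset.mem_filter.mpr ⟨hp, hx⟩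
    haveI := hprime1 p hp1
    have : y0 * z ∈ p := by
      have := p.sub_mem hmem hx
      simpa using this
    rcases (Ideal.IsPrime.mem_or_mem ‹_› this) with h' | h'
    · exact hy0' p hp1 h'
    · exact hz' p hp1 h'
  · have hp2 : p ∈ P2 := Finset.mem_filter.mpr ⟨hp, hx⟩
    have h3 : y0 * z ∈ p := p.mul_mem_left _ (hzQ' p hp2)
    have := p.sub_mem hmem h3
    exact hx (by simpa using this)

theorem isWeaklyRegular_of_subsingleton {R : Type*} [CommRing R] (M : Type*) [AddCommGroup M]
    [Module R M] [Subsingleton M] (rs : List R) : IsWeaklyRegular M rs := by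
  refine ⟨fun i hi => ?_⟩
  exact Function.injective_of_subsingleton _

theorem span_add_sup_eq {R : Type*} [CommRing R] (x y : R) (L : Ideal R) (hy : y ∈ L) :
    Ideal.span {x + y} ⊔ L = Ideal.span {x} ⊔ L := by
  apply le_antisymm
  · refine sup_le ?_ le_sup_right
    rw [Ideal.span_singleton_le_iff_mem]
    exact Ideal.add_mem _ (Ideal.mem_sup_left (Ideal.mem_span_singleton_self x))
      (Ideal.mem_sup_right hy)
  · refine sup_le ?_ le_sup_right
    rw [Ideal.span_singleton_le_iff_mem]
    have h : (x + y) - y ∈ Ideal.span {x + y} ⊔ L :=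
      Ideal.sub_mem _ (Ideal.mem_sup_left (Ideal.mem_span_singleton_self _))
        (Ideal.mem_sup_right hy)
    simpa using h

section main

variable {T : Type u} [CommRing T] [IsNoetherianRing T] [IsLocalRing T]

theorem smul_top_ne_top_of_ne_top (J : Ideal T) (hJ : J ≠ ⊤) (M : Type u) [AddCommGroup M]
    [Module T M] [Module.Finite T M] [Nontrivial M] : J • (⊤ : Submodule T M) ≠ ⊤ := by
  intro h
  have h1 := Groth.Agent.Helper8.Depth.smul_top_ne_top_of_local T M
  have h2 : J • (⊤ : Submodule T M) ≤ maximalIdeal T • (⊤ : Submodule T M) :=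
    Submodule.smul_mono_left (IsLocalRing.le_maximalIdeal hJ)
  rw [h] at h2
  exact h1 (top_le_iff.mp h2)

theorem exists_regular_prefix (J : Ideal T) (hJ : J ≠ ⊤) :
    ∀ (i : ℕ) (M : Type u) [AddCommGroup M] [Module T M] [Module.Finite T M]
      (K : Ideal T) (rest : List T), (∀ k ∈ K, ∀ m : M, k • m = 0) →
      K ⊔ Ideal.ofList rest = J → (i : ℕ∞) ≤ idealDepth J M →
      ∃ ts : List T, ts.length = rest.length ∧ K ⊔ Ideal.ofList ts = J ∧
        IsWeaklyRegular M (ts.take i) ∧ (Nontrivial M → i ≤ rest.length) := by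
  classical
  intro i
  induction i with
  | zero =>
    intro M _ _ _ K rest hK hJeq _
    exact ⟨rest, rfl, hJeq, by simp [IsWeaklyRegular.nil T M], fun _ => Nat.zero_le _⟩
  | succ i ih =>
    intro M _ _ _ K rest hK hJeq hdepth
    rcases subsingleton_or_nontrivial M with hM | hM
    · exact ⟨rest, rfl, hJeq, isWeaklyRegular_of_subsingleton M _,
        fun h => (not_subsingleton M hM).elim⟩
    · have hJM : J • (⊤ : Submodule T M) ≠ ⊤ := smul_top_ne_top_of_ne_top J hJ M
      have h1 : (1 : ℕ∞) ≤ idealDepth J M := by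
        refine le_trans ?_ hdepth
        exact_mod_cast Nat.succ_le_succ (Nat.zero_le i)
      obtain ⟨r, hrJ, hrreg⟩ :=
        Groth.Agent.Helper8.LD.exists_isSMulRegular_of_one_le_idealDepth J M hJM h1
      have hKp : ∀ p ∈ associatedPrimes T M, K ≤ p := by
        intro p hp k hk
        refine (IsAssociatedPrime.annihilator_le hp) ?_
        rw [Submodule.mem_annihilator]
        intro m _
        exact hK k hk m
      have hJp : ∀ p ∈ associatedPrimes T M, ¬ J ≤ p := by
        intro p hp hle
        have hp' := hp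
        rw [AssociatedPrimes.mem_iff, isAssociatedPrime_iff] at hp'
        obtain ⟨hprime, m, hm⟩ := hp'
        have hrp : r ∈ p := hle hrJ
        rw [hm, Submodule.mem_colon_singleton, Submodule.mem_bot] at hrp
        have hm0 : m = 0 := hrreg (by simp [hrp])
        subst hm0
        apply hprime.ne_top
        rw [hm, eq_top_iff]
        intro a _
        rw [Submodule.mem_colon_singleton]
        simp
      -- rest is nonempty
      obtain ⟨m0, hm0⟩ := exists_ne (0 : M)
      cases rest with
      | nil =>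
        exfalso
        have hKJ : K = J := by simpa [Ideal.ofList_nil] using hJeq
        have : r • m0 = 0 := hK r (hKJ ▸ hrJ) m0
        exact hm0 (hrreg (by simpa using this))
      | cons x ys =>
        have hfin := associatedPrimes.finite T M
        obtain ⟨y, hyI, hy⟩ := exists_add_notMem hfin.toFinset
          (fun p hp => (hfin.mem_toFinset.mp hp).isPrime) x (Ideal.ofList ys) (by
            intro p hp hle
            have hp' := hfin.mem_toFinset.mp hp
            apply hJp p hp'
            rw [← hJeq, Ideal.ofList_cons]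
            exact sup_le (hKp p hp') hle)
        set t := x + y with ht
        have htreg : IsSMulRegular M t := by
          have := biUnion_associatedPrimes_eq_compl_regular T M
          by_contra hnot
          have hmem : t ∈ ({r : T | IsSMulRegular M r}ᶜ : Set T) := hnot
          rw [← this] at hmem
          simp only [Set.mem_iUnion, SetLike.mem_coe] at hmem
          obtain ⟨p, hp, htp⟩ := hmem
          exact hy p (hfin.mem_toFinset.mpr hp) htp
        have hJeq' : (K ⊔ Ideal.span {t}) ⊔ Ideal.ofList ys = J := by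
          rw [← hJeq, Ideal.ofList_cons, sup_assoc, span_add_sup_eq x y _ hyI]
        have htJ : t ∈ J := by
          rw [← hJeq']
          exact Ideal.mem_sup_left (Ideal.mem_sup_right (Ideal.mem_span_singleton_self t))
        have hK' : ∀ k ∈ K ⊔ Ideal.span {t}, ∀ m : QuotSMulTop t M, k • m = 0 := by
          intro k hk m
          obtain ⟨k1, hk1, k2, hk2, rfl⟩ := Submodule.mem_sup.mp hk
          obtain ⟨a, rfl⟩ := Ideal.mem_span_singleton'.mp hk2
          obtain ⟨m', rfl⟩ := Submodule.Quotient.mk_surjective _ m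
          rw [add_smul, ← Submodule.Quotient.mk_smul, hK k1 hk1 m', Submodule.Quotient.mk_zero,
            zero_add, ← Submodule.Quotient.mk_smul, Submodule.Quotient.mk_eq_zero, mul_smul]
          refine Submodule.smul_mem _ a ?_
          exact Submodule.smul_mem_pointwise_smul m' t ⊤ Submodule.mem_top
        have hdepth' : (i : ℕ∞) ≤ idealDepth J (QuotSMulTop t M) := by
          have h2 := Groth.Agent.Helper8.Depth.idealDepth_quotSMulTop_add_one hJM htJ htreg
          rw [← h2] at hdepth
          have h3 : ((i : ℕ∞) + 1) ≤ idealDepth J (QuotSMulTop t M) + 1 := by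
            exact_mod_cast hdepth
          exact (WithTop.add_le_add_iff_right ENat.one_ne_top).mp h3
        have hnt : Nontrivial (QuotSMulTop t M) := by
          by_contra hns
          rw [not_nontrivial_iff_subsingleton] at hns
          exact Groth.Agent.Helper8.Depth.smul_top_quotSMulTop_ne_top htJ hJM
            (Subsingleton.elim _ _)
        obtain ⟨ts', hlen, hgen, hreg, hle⟩ :=
          ih (QuotSMulTop t M) (K ⊔ Ideal.span {t}) ys hK' hJeq' hdepth'
        refine ⟨t :: ts', by simp [hlen], ?_, ?_, fun _ => ?_⟩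
        · rw [Ideal.ofList_cons, ← sup_assoc]
          exact hgen
        · rw [List.take_succ_cons, isWeaklyRegular_cons_iff]
          exact ⟨htreg, hreg⟩
        · simpa using Nat.succ_le_succ (hle hnt)

end main

end Groth.Agent.Helper8.RegPrefix
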