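import Mathlib
import Groth.Agent.Lib.Helper8.Depth33
import Groth.Agent.Lib.Helper8.RegPrefix1

/-!
# Exchange lemma for generators in a local ring, and Cohen–Macaulay facts
-/

set_option autoImplicit false
universe u

namespace Groth.Agent.Helper8.RegPrefix

open RingTheory.Sequence LocCoh IsLocalRing Pointwise Groth.Agent.Helper8.Depth

/-- Exchange lemma: an element of `P = I + (r)` which is not in `𝔪 P + I` can replace one
of the `r j`. -/
theorem exists_exchange {R : Type*} [CommRing R] [IsLocalRing R] (I : Ideal R) {ι : Type*}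
    [Fintype ι] (r : ι → R) (t : R) (ht : t ∈ I ⊔ Ideal.span (Set.range r))
    (hnt : t ∉ maximalIdeal R • (I ⊔ Ideal.span (Set.range r)) ⊔ I) :
    ∃ j : ι, I ⊔ Ideal.span {t} ⊔ Ideal.span (Set.range fun k : {k : ι // k ≠ j} => r k) =
      I ⊔ Ideal.span (Set.range r) := by
  classical
  set P := I ⊔ Ideal.span (Set.range r) with hP
  obtain ⟨a, ha, w, hw, hsum⟩ := Submodule.mem_sup.mp ht
  obtain ⟨c, hc⟩ := Ideal.mem_span_range_iff_exists_fun.mp hw
  have hrP : ∀ k, r k ∈ P := fun k =>
    Ideal.mem_sup_right (Ideal.subset_span ⟨k, rfl⟩)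
  have hex : ∃ j, IsUnit (c j) := by
    by_contra hno
    push Not at hno
    apply hnt
    rw [← hsum]
    refine Ideal.add_mem _ (Ideal.mem_sup_right ha) (Ideal.mem_sup_left ?_)
    rw [← hc]
    refine Ideal.sum_mem _ fun k _ => ?_
    rw [smul_eq_mul]
    exact Ideal.mul_mem_mul ((mem_maximalIdeal _).mpr (hno k)) (hrP k)
  obtain ⟨j, hj⟩ := hex
  refine ⟨j, ?_⟩
  set L := I ⊔ Ideal.span {t} ⊔ Ideal.span (Set.range fun k : {k : ι // k ≠ j} => r k) with hL
  have hrk : ∀ k, k ≠ j → r k ∈ L := fun k hk =>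
    Ideal.mem_sup_right (Ideal.subset_span ⟨⟨k, hk⟩, rfl⟩)
  apply le_antisymm
  · refine sup_le (sup_le le_sup_left ?_) ?_
    · rw [Ideal.span_singleton_le_iff_mem]; exact ht
    · rw [Ideal.span_le]
      rintro _ ⟨k, rfl⟩
      exact hrP k
  · refine sup_le (le_sup_of_le_left le_sup_left) ?_
    rw [Ideal.span_le]
    rintro _ ⟨k, rfl⟩
    by_cases hk : k = j
    · subst hk
      have h1 : c k * r k = t - a - ∑ k' ∈ Finset.univ.erase k, c k' * r k' := by
        rw [← hsum, ← hc, ← Finset.add_sum_erase Finset.univ (fun k' => c k' * r k')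
          (Finset.mem_univ k)]
        ring
      have h2 : c k * r k ∈ L := by
        rw [h1]
        refine Ideal.sub_mem _ (Ideal.sub_mem _ ?_ ?_) ?_
        · exact Ideal.mem_sup_left (Ideal.mem_sup_right (Ideal.mem_span_singleton_self t))
        · exact Ideal.mem_sup_left (Ideal.mem_sup_left ha)
        · refine Ideal.sum_mem _ fun k' hk' => ?_
          exact Ideal.mul_mem_left _ _ (hrk k' (Finset.ne_of_mem_erase hk'))
      exact (Ideal.unit_mul_mem_iff_mem _ hj).mp h2
    · exact hrk k hk

/-- Krull's height theorem for lists. -/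
theorem height_ofList_le {R : Type*} [CommRing R] [IsNoetherianRing R] (ts : List R)
    (h : Ideal.ofList ts ≠ ⊤) : (Ideal.ofList ts).height ≤ ts.length := by
  classical
  refine (Ideal.height_le_spanFinrank _ h).trans ?_
  have h1 : Ideal.ofList ts = Ideal.span (↑ts.toFinset : Set R) := by
    unfold Ideal.ofList
    congr 1
    ext x
    simp
  rw [h1]
  have h2 := Submodule.spanFinrank_span_le_ncard_of_finite (R := R)
    (Finset.finite_toSet ts.toFinset)
  rw [Set.ncard_coe_finset] at h2
  exact_mod_cast h2.trans (List.toFinset_card_le ts)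

theorem height_map_ofList_le {R S : Type*} [CommRing R] [CommRing S] [IsNoetherianRing S]
    (f : R →+* S) (ts : List R) (h : (Ideal.ofList ts).map f ≠ ⊤) :
    ((Ideal.ofList ts).map f).height ≤ ts.length := by
  have h1 : (Ideal.ofList ts).map f = Ideal.ofList (ts.map f) := by
    unfold Ideal.ofList
    rw [Ideal.map_span]
    congr 1
    ext x
    simp
  rw [h1] at h ⊢
  simpa using height_ofList_le (ts.map f) h

section CM

variable {T : Type u} [CommRing T] [IsCohenMacaulayLocalRing T]

theorem cm_self : IsCohenMacaulayModule T T :=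
  IsCohenMacaulayLocalRing.supportDim_eq_depth

theorem support_self : Module.support T T = Set.univ := by
  have hann : Module.annihilator T T = ⊥ := by
    rw [eq_bot_iff]
    intro r hr
    have := Module.mem_annihilator.mp hr 1
    rw [smul_eq_mul, mul_one] at this
    exact this
  rw [Module.support_eq_zeroLocus, hann]
  simp

/-- In a Cohen–Macaulay local ring, grade equals height. -/
theorem cm_idealDepth_eq_height (p : Ideal T) [p.IsPrime] : idealDepth p T = p.height := by
  have hT : IsCohenMacaulayModule T T := cm_self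
  have h1 := cm_supportDim_eq_add_idealDepth p (Ideal.IsPrime.ne_top inferInstance) T hT
  have h2 := cm_height_add_dim_quotient hT support_self ⟨p, inferInstance⟩
  rw [supportDim_quot_smul_top_self, Module.supportDim_self_eq_ringKrullDim] at h1
  simp only at h2
  obtain ⟨n, hn, -⟩ := cm_exists_nat hT
  rw [Module.supportDim_self_eq_ringKrullDim] at hn
  have hnn : (0 : WithBot ℕ∞) ≤ ringKrullDim (T ⧸ p) := ringKrullDim_nonneg_of_nontrivial
  have hle : ringKrullDim (T ⧸ p) ≤ (n : WithBot ℕ∞) := by
    rw [← hn, ← h2]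
    exact le_add_of_nonneg_left (WithBot.coe_nonneg.mpr zero_le)
  obtain ⟨e, he, hen⟩ := exists_nat_of_le hnn hle
  rw [he, hn] at h1 h2
  have hd : idealDepth p T ≠ ⊤ := by
    intro htop
    rw [htop] at h1
    have : ((n : ℕ∞) : WithBot ℕ∞) = ((e : ℕ∞) : WithBot ℕ∞) + ((⊤ : ℕ∞) : WithBot ℕ∞) := by
      exact_mod_cast h1
    rw [← WithBot.coe_add, WithBot.coe_inj, add_top] at this
    exact ENat.natCast_ne_top n this
  have hh : p.height ≠ ⊤ := Ideal.height_ne_top (Ideal.IsPrime.ne_top inferInstance)
  obtain ⟨d, hd'⟩ := ENat.ne_top_iff_exists.mp hd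
  obtain ⟨k, hk⟩ := ENat.ne_top_iff_exists.mp hh
  rw [← hd'] at h1 ⊢
  rw [← hk] at h2 ⊢
  have e1 : n = e + d := by exact_mod_cast h1
  have e2 : k + e = n := by exact_mod_cast h2
  have : d = k := by omega
  rw [this]

/-- Associated primes of the quotient by a regular sequence of length `h` have height `h`. -/
theorem cm_height_of_mem_associatedPrimes (ts : List T) (hts : ∀ x ∈ ts, x ∈ maximalIdeal T)
    (hreg : IsWeaklyRegular T ts) (q : Ideal T)
    (hq : q ∈ associatedPrimes T (T ⧸ (Ideal.ofList ts • (⊤ : Submodule T T)))) :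
    q.height = ts.length := by
  have hT : IsCohenMacaulayModule T T := cm_self
  obtain ⟨hiff, hcm⟩ := cm_list ts hts T hT
  have hN := hcm hreg
  have hdimN := hiff.mp hreg
  haveI : q.IsPrime := hq.isPrime
  have h1 := cm_dim_quotient_eq hN q hq
  have h2 := cm_height_add_dim_quotient hT support_self ⟨q, inferInstance⟩
  simp only at h2
  rw [Module.supportDim_self_eq_ringKrullDim] at hdimN
  obtain ⟨k, hk, -⟩ := cm_exists_nat hN
  rw [h1, hk, ← hdimN, hk] at h2
  have hh : q.height ≠ ⊤ := Ideal.height_ne_top (Ideal.IsPrime.ne_top inferInstance)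
  obtain ⟨d, hd⟩ := ENat.ne_top_iff_exists.mp hh
  rw [← hd] at h2 ⊢
  have e2 : d + k = k + ts.length := by exact_mod_cast h2
  have : d = ts.length := by omega
  rw [this]

end CM

end Groth.Agent.Helper8.RegPrefix
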