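import Mathlib
import Groth.Agent.Lib.Helper8.RegPrefix2

/-!
# Construction of generators adapted to a prime of a Cohen–Macaulay local ring
-/

set_option autoImplicit false
universe u

namespace Groth.Agent.Helper8.RegPrefix

open RingTheory.Sequence LocCoh IsLocalRing Pointwise Groth.Agent.Helper8.Depth

section

variable {T : Type u} [CommRing T] [IsCohenMacaulayLocalRing T] (p : Ideal T) [p.IsPrime]

theorem ofList_le_of_mem {ts : List T} (hmem : ∀ x ∈ ts, x ∈ p) : Ideal.ofList ts ≤ p :=
  Ideal.span_le.mpr hmem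

theorem nakayama_ideal {R : Type*} [CommRing R] [IsLocalRing R] {P I : Ideal R} (hP : P.FG)
    (h : P ≤ I ⊔ maximalIdeal R • P) : P ≤ I :=
  Submodule.le_of_le_smul_of_le_jacobson_bot hP (IsLocalRing.maximalIdeal_le_jacobson ⊥) h

/-- The data carried along the construction. -/
def State [IsRegularLocalRing (Localization.AtPrime p)] (h i : ℕ) (ts : List T) : Prop :=
  ts.length = i ∧ (∀ x ∈ ts, x ∈ p) ∧ IsWeaklyRegular T ts ∧
    (∃ (ι : Type u) (_ : Fintype ι) (r : ι → T),
      Fintype.card ι + i = Submodule.spanFinrank p ∧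
      Ideal.ofList ts ⊔ Ideal.span (Set.range r) = p) ∧
    (∃ (ι' : Type u) (_ : Fintype ι') (r' : ι' → Localization.AtPrime p),
      Fintype.card ι' + i = h ∧
      (Ideal.ofList ts).map (algebraMap T (Localization.AtPrime p)) ⊔ Ideal.span (Set.range r') =
        maximalIdeal (Localization.AtPrime p))

theorem exists_fintype_span_eq {R : Type u} [CommRing R] [IsNoetherianRing R] (P : Ideal R) :
    ∃ (ι : Type u) (_ : Fintype ι) (r : ι → R),
      Fintype.card ι = Submodule.spanFinrank P ∧ Ideal.span (Set.range r) = P := by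
  obtain ⟨s, hscard, hsspan⟩ :=
    Submodule.FG.exists_span_finset_card_eq_spanFinrank (IsNoetherian.noetherian P)
  refine ⟨↥s, inferInstance, Subtype.val, by simpa using hscard, ?_⟩
  rw [Subtype.range_coe_subtype]
  exact hsspan

theorem state_zero [IsRegularLocalRing (Localization.AtPrime p)] (h : ℕ) (hh : p.height = h) :
    State p h 0 [] := by
  refine ⟨rfl, by simp, IsWeaklyRegular.nil T T, ?_, ?_⟩
  · obtain ⟨ι, _, r, hcard, hspan⟩ := exists_fintype_span_eq p
    exact ⟨ι, inferInstance, r, by simpa using hcard, by simpa [Ideal.ofList_nil] using hspan⟩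
  · obtain ⟨ι, _, r, hcard, hspan⟩ :=
      exists_fintype_span_eq (maximalIdeal (Localization.AtPrime p))
    refine ⟨ι, inferInstance, r, ?_, by simpa [Ideal.ofList_nil] using hspan⟩
    have h1 := IsRegularLocalRing.spanFinrank_maximalIdeal (R := Localization.AtPrime p)
    rw [IsLocalization.AtPrime.ringKrullDim_eq_height p (Localization.AtPrime p), hh,
      ← hcard] at h1
    have : Fintype.card ι = h := by exact_mod_cast h1
    simpa using this

theorem state_succ [IsRegularLocalRing (Localization.AtPrime p)] (h : ℕ) (hh : p.height = h)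
    (i : ℕ) (hi : i < h) (ts : List T) (hst : State p h i ts) :
    ∃ t : T, State p h (i + 1) (ts ++ [t]) := by
  classical
  obtain ⟨hlen, hmem, hreg, ⟨ι, _, r, hcard, hG⟩, ⟨ι', _, r', hcard', hL⟩⟩ := hst
  set I := Ideal.ofList ts with hI
  set φ := algebraMap T (Localization.AtPrime p) with hφ
  have hIp : I ≤ p := ofList_le_of_mem p hmem
  have hp_ne : p ≠ ⊤ := Ideal.IsPrime.ne_top inferInstance
  have hI_ne : I ≠ ⊤ := fun h' => hp_ne (top_le_iff.mp (h' ▸ hIp))
  have hmapp : p.map φ = maximalIdeal (Localization.AtPrime p) :=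
    Localization.AtPrime.map_eq_maximalIdeal
  set N1 : Ideal T := maximalIdeal T • p ⊔ I with hN1
  set N2 : Ideal T := ((maximalIdeal (Localization.AtPrime p) •
    maximalIdeal (Localization.AtPrime p)) ⊔ I.map φ).comap φ with hN2
  -- (1)
  have h1 : ¬ p ≤ N1 := by
    intro hle
    have hle' : p ≤ I ⊔ maximalIdeal T • p := by rw [sup_comm]; exact hle
    have hpI : p ≤ I := nakayama_ideal (IsNoetherian.noetherian p) hle'
    have hIeq : I = p := le_antisymm hIp hpI
    have := height_ofList_le ts hI_ne
    rw [← hI, hIeq, hh, hlen] at this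
    have : h ≤ i := by exact_mod_cast this
    omega
  -- (2)
  have h2 : ¬ p ≤ N2 := by
    intro hle
    have hle1 : maximalIdeal (Localization.AtPrime p) ≤
        I.map φ ⊔ maximalIdeal (Localization.AtPrime p) • maximalIdeal (Localization.AtPrime p) := by
      rw [← hmapp, sup_comm]
      refine (Ideal.map_mono hle).trans ?_
      rw [hN2, hmapp]
      exact Ideal.map_comap_le
    have hmI : maximalIdeal (Localization.AtPrime p) ≤ I.map φ :=
      nakayama_ideal (IsNoetherian.noetherian _) hle1
    have hIm : I.map φ ≤ maximalIdeal (Localization.AtPrime p) := by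
      rw [← hmapp]; exact Ideal.map_mono hIp
    have heq : I.map φ = maximalIdeal (Localization.AtPrime p) := le_antisymm hIm hmI
    have hne : I.map φ ≠ ⊤ := by
      rw [heq]; exact Ideal.IsPrime.ne_top inferInstance
    have := height_map_ofList_le φ ts hne
    rw [← hI, heq, hlen] at this
    have hdim := IsLocalRing.maximalIdeal_height_eq_ringKrullDim (R := Localization.AtPrime p)
    rw [IsLocalization.AtPrime.ringKrullDim_eq_height p (Localization.AtPrime p), hh] at hdim
    have hm : (maximalIdeal (Localization.AtPrime p)).height = (h : ℕ∞) := by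
      exact_mod_cast hdim
    rw [hm] at this
    have : h ≤ i := by exact_mod_cast this
    omega
  -- (3)
  have hpT : p • (⊤ : Submodule T T) ≠ ⊤ := smul_top_ne_top_of_ne_top p hp_ne T
  have hntN : Nontrivial (T ⧸ (I • (⊤ : Submodule T T))) := by
    rw [Submodule.Quotient.nontrivial_iff]
    intro htop
    have hle' : I • (⊤ : Submodule T T) ≤ p • (⊤ : Submodule T T) :=
      Submodule.smul_mono_left hIp
    rw [htop] at hle'
    exact hpT (top_le_iff.mp hle')
  have hpN : p • (⊤ : Submodule T (T ⧸ (I • (⊤ : Submodule T T)))) ≠ ⊤ :=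
    smul_top_ne_top_of_ne_top p hp_ne _
  have hdepth : idealDepth p (T ⧸ (I • (⊤ : Submodule T T))) + i = h := by
    have := idealDepth_quotient_ofList_add_length (I := p) ts T hpT hreg hmem
    rw [cm_idealDepth_eq_height p, hh, hlen] at this
    exact this
  have hone : (1 : ℕ∞) ≤ idealDepth p (T ⧸ (I • (⊤ : Submodule T T))) := by
    obtain ⟨d, hd⟩ := ENat.ne_top_iff_exists.mp
      (idealDepth_ne_top (I := p) (M := T ⧸ (I • (⊤ : Submodule T T))) hpN)
    rw [← hd] at hdepth ⊢
    have : d + i = h := by exact_mod_cast hdepth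
    have : 1 ≤ d := by omega
    exact_mod_cast this
  obtain ⟨x, hxp, hxreg⟩ :=
    Groth.Agent.Helper8.LD.exists_isSMulRegular_of_one_le_idealDepth p _ hpN hone
  have hfin := associatedPrimes.finite T (T ⧸ (I • (⊤ : Submodule T T)))
  have h3 : ∀ q ∈ hfin.toFinset, ¬ p ≤ q := by
    intro q hq hle
    exact notMem_associatedPrime_of_isSMulRegular (hfin.mem_toFinset.mp hq) hxreg (hle hxp)
  -- prime avoidance
  have havoid : ¬ ((p : Set T) ⊆ ⋃ q ∈ (↑(insert N1 (insert N2 hfin.toFinset)) : Set (Ideal T)),
      (q : Set T)) := by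
    intro hsub
    obtain ⟨q, hq, hle⟩ := (Ideal.subset_union_prime (s := insert N1 (insert N2 hfin.toFinset))
      (f := fun q => q) N1 N2 (fun q hq h1' h2' => by
        rcases Finset.mem_insert.mp hq with rfl | hq
        · exact absurd rfl h1'
        rcases Finset.mem_insert.mp hq with rfl | hq
        · exact absurd rfl h2'
        exact (hfin.mem_toFinset.mp hq).isPrime) (I := p)).mp hsub
    rcases Finset.mem_insert.mp hq with rfl | hq
    · exact h1 hle
    rcases Finset.mem_insert.mp hq with rfl | hq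
    · exact h2 hle
    exact h3 q hq hle
  rw [Set.not_subset] at havoid
  obtain ⟨t, htp, htU⟩ := havoid
  have ht1 : t ∉ N1 := fun hmem' => htU (Set.mem_biUnion
    (Finset.mem_coe.mpr (Finset.mem_insert_self _ _)) hmem')
  have ht2 : t ∉ N2 := fun hmem' => htU (Set.mem_biUnion
    (Finset.mem_coe.mpr (Finset.mem_insert_of_mem (Finset.mem_insert_self _ _))) hmem')
  have ht3 : ∀ q ∈ associatedPrimes T (T ⧸ (I • (⊤ : Submodule T T))), t ∉ q :=
    fun q hq hmem' => htU (Set.mem_biUnion
      (Finset.mem_coe.mpr (Finset.mem_insert_of_mem (Finset.mem_insert_of_mem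
        (hfin.mem_toFinset.mpr hq)))) hmem')
  have htreg : IsSMulRegular (T ⧸ (I • (⊤ : Submodule T T))) t := by
    have := biUnion_associatedPrimes_eq_compl_regular T (T ⧸ (I • (⊤ : Submodule T T)))
    by_contra hnot
    have hmem' : t ∈ ({r : T | IsSMulRegular (T ⧸ (I • (⊤ : Submodule T T))) r}ᶜ : Set T) := hnot
    rw [← this] at hmem'
    simp only [Set.mem_iUnion, SetLike.mem_coe] at hmem'
    obtain ⟨q, hq, htq⟩ := hmem'
    exact ht3 q hq htq
  refine ⟨t, by simp [hlen], ?_, ?_, ?_, ?_⟩
  · intro y hy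
    rcases List.mem_append.mp hy with hy | hy
    · exact hmem y hy
    · rw [List.mem_singleton] at hy; rw [hy]; exact htp
  · rw [isWeaklyRegular_append_iff]
    refine ⟨hreg, ?_⟩
    rw [isWeaklyRegular_cons_iff]
    exact ⟨htreg, IsWeaklyRegular.nil _ _⟩
  · -- (G)
    have htP : t ∈ I ⊔ Ideal.span (Set.range r) := by rw [hG]; exact htp
    have hnt : t ∉ maximalIdeal T • (I ⊔ Ideal.span (Set.range r)) ⊔ I := by rw [hG]; exact ht1
    obtain ⟨j, hj⟩ := exists_exchange I r t htP hnt
    refine ⟨{k : ι // k ≠ j}, inferInstance, fun k => r k, ?_, ?_⟩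
    · rw [Fintype.card_subtype_compl, Fintype.card_subtype_eq]
      have : 0 < Fintype.card ι := Fintype.card_pos_iff.mpr ⟨j⟩
      omega
    · rw [Ideal.ofList_append, Ideal.ofList_singleton, hj, hG]
  · -- (L)
    have htP : φ t ∈ I.map φ ⊔ Ideal.span (Set.range r') := by
      rw [hL, ← hmapp]; exact Ideal.mem_map_of_mem _ htp
    have hnt : φ t ∉ maximalIdeal (Localization.AtPrime p) •
        (I.map φ ⊔ Ideal.span (Set.range r')) ⊔ I.map φ := by
      rw [hL]
      intro hmem'
      exact ht2 hmem'
    obtain ⟨j, hj⟩ := exists_exchange (I.map φ) r' (φ t) htP hnt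
    refine ⟨{k : ι' // k ≠ j}, inferInstance, fun k => r' k, ?_, ?_⟩
    · rw [Fintype.card_subtype_compl, Fintype.card_subtype_eq]
      have : 0 < Fintype.card ι' := Fintype.card_pos_iff.mpr ⟨j⟩
      omega
    · have hmapt : (Ideal.span {t}).map φ = Ideal.span {φ t} := by
        rw [Ideal.map_span, Set.image_singleton]
      rw [Ideal.ofList_append, Ideal.ofList_singleton, Ideal.map_sup, hmapt, hj, hL]

theorem exists_state [IsRegularLocalRing (Localization.AtPrime p)] (h : ℕ) (hh : p.height = h) :
    ∀ i ≤ h, ∃ ts : List T, State p h i ts := by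
  intro i
  induction i with
  | zero => exact fun _ => ⟨[], state_zero p h hh⟩
  | succ i ih =>
    intro hi
    obtain ⟨ts, hts⟩ := ih (by omega)
    obtain ⟨t, ht⟩ := state_succ p h hh i (by omega) ts hts
    exact ⟨_, ht⟩

end

end Groth.Agent.Helper8.RegPrefix
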