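import Mathlib
import Groth.Prelude.Def_W4c5grrsingularflatDSeq
import Groth.Agent.Lib.Helper8.RegPrefix3

/-!
# A prime of small deviation in a Cohen–Macaulay local ring is generated by a d-sequence
-/

set_option autoImplicit false
universe u

namespace Groth.Agent.Helper8.RegPrefix

open RingTheory.Sequence LocCoh IsLocalRing Pointwise Groth.Agent.Helper8.Depth

theorem smul_top_self {R : Type*} [CommRing R] (I : Ideal R) :
    I • (⊤ : Submodule R R) = I := by
  rw [smul_eq_mul, Ideal.mul_top]

/-- The colon condition of a d-sequence at `(i, k)` when `rs[i]` is regular modulo the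
previous terms. -/
theorem colon_eq_of_isSMulRegular {R : Type*} [CommRing R] (J : Ideal R) (x y : R)
    (hreg : IsSMulRegular (R ⧸ (J • (⊤ : Submodule R R))) x) :
    J.colon {y * x} = J.colon {y} := by
  ext a
  rw [Submodule.mem_colon_singleton, Submodule.mem_colon_singleton]
  constructor
  · intro ha
    have h1 : x • (Submodule.Quotient.mk (a * y) : R ⧸ (J • (⊤ : Submodule R R))) = 0 := by
      rw [← Submodule.Quotient.mk_smul, Submodule.Quotient.mk_eq_zero, smul_top_self]
      have : x • (a * y) = a • (y * x) := by simp only [smul_eq_mul]; ring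
      rw [this]
      exact ha
    have h2 := hreg.right_eq_zero_of_smul h1
    rw [Submodule.Quotient.mk_eq_zero, smul_top_self] at h2
    exact h2
  · intro ha
    have : a • (y * x) = x * (a • y) := by simp only [smul_eq_mul]; ring
    rw [this]
    exact J.mul_mem_left _ ha

section

variable {T : Type u} [CommRing T] [IsCohenMacaulayLocalRing T] (p : Ideal T) [p.IsPrime]

/-- The key colon inclusion at the last index. -/
theorem colon_sq_le (ts : List T) (hmem : ∀ x ∈ ts, x ∈ p) (hreg : IsWeaklyRegular T ts)
    (hlen : (ts.length : ℕ∞) = p.height) (x : T)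
    (hgen : Ideal.ofList ts ⊔ Ideal.span {x} = p)
    (hloc : (Ideal.ofList ts).map (algebraMap T (Localization.AtPrime p)) =
      maximalIdeal (Localization.AtPrime p)) :
    (Ideal.ofList ts).colon {x * x} ≤ (Ideal.ofList ts).colon {x} := by
  set I := Ideal.ofList ts with hI
  intro a ha
  rw [Submodule.mem_colon_singleton] at ha ⊢
  by_contra hnot
  set m : T ⧸ (I • (⊤ : Submodule T T)) := Submodule.Quotient.mk (a * x) with hm
  have hm0 : m ≠ 0 := by
    intro h0
    rw [hm, Submodule.Quotient.mk_eq_zero, smul_top_self] at h0
    exact hnot h0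
  obtain ⟨q, hq, hle⟩ := exists_le_isAssociatedPrime_of_isNoetherianRing T m hm0
  haveI : q.IsPrime := hq.isPrime
  have hcol : ∀ y : T, y * (a * x) ∈ I → y ∈ q := by
    intro y hy
    apply hle
    rw [Submodule.mem_colon_singleton, Submodule.mem_bot, hm, ← Submodule.Quotient.mk_smul,
      Submodule.Quotient.mk_eq_zero, smul_top_self]
    exact hy
  have hxq : x ∈ q := by
    apply hcol
    have : x * (a * x) = a • (x * x) := by simp only [smul_eq_mul]; ring
    rw [this]; exact ha
  have hIq : I ≤ q := fun y hy => hcol y (I.mul_mem_right _ hy)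
  have hpq : p ≤ q := by
    rw [← hgen]
    exact sup_le hIq ((Ideal.span_singleton_le_iff_mem _).mpr hxq)
  have hpm : p ≤ maximalIdeal T := le_maximalIdeal (Ideal.IsPrime.ne_top inferInstance)
  have hqh : q.height = ts.length :=
    cm_height_of_mem_associatedPrimes ts (fun y hy => hpm (hmem y hy)) hreg q hq
  have hqp : q = p := by
    by_contra hne
    have hlt : p < q := lt_of_le_of_ne hpq (Ne.symm hne)
    have := Ideal.height_strict_mono_of_isPrime hlt
    rw [hqh, hlen] at this
    exact lt_irrefl _ this
  have hxp : x ∈ p := by
    rw [← hgen]; exact Ideal.mem_sup_right (Ideal.mem_span_singleton_self x)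
  have haxp : a * x ∈ p := p.mul_mem_left _ hxp
  have h1 : algebraMap T (Localization.AtPrime p) (a * x) ∈
      I.map (algebraMap T (Localization.AtPrime p)) := by
    rw [hloc, ← Localization.AtPrime.map_eq_maximalIdeal]
    exact Ideal.mem_map_of_mem _ haxp
  obtain ⟨s, hs, hsI⟩ := (IsLocalization.algebraMap_mem_map_algebraMap_iff p.primeCompl
    (Localization.AtPrime p) I (a * x)).mp h1
  have : s ∈ q := hcol s hsI
  rw [hqp] at this
  exact hs this

end

section dseq

variable {R : Type*} [CommRing R]

/-- Condition (a) of a d-sequence from minimality of the number of generators. -/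
theorem notMem_span_others (full : List R)
    (hlen : full.length = Submodule.spanFinrank (Ideal.ofList full)) (i : Fin full.length) :
    full[i] ∉ Ideal.span (Set.range fun j : {j : Fin full.length // j ≠ i} =>
      full[(j : Fin full.length)]) := by
  classical
  intro hmem
  set S := Ideal.span (Set.range fun j : {j : Fin full.length // j ≠ i} =>
      full[(j : Fin full.length)]) with hS
  have h1 : Ideal.ofList full ≤ S := by
    refine Ideal.span_le.mpr ?_
    intro y hy
    obtain ⟨k, hk, rfl⟩ := List.getElem_of_mem hy
    by_cases hki : (⟨k, hk⟩ : Fin full.length) = i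
    · subst hki; exact hmem
    · exact Ideal.subset_span ⟨⟨⟨k, hk⟩, hki⟩, rfl⟩
  have h2 : S ≤ Ideal.ofList full := by
    refine Ideal.span_le.mpr ?_
    rintro _ ⟨j, rfl⟩
    exact Ideal.subset_span (List.getElem_mem _)
  have heq : Ideal.ofList full = S := le_antisymm h1 h2
  have h3 := Submodule.spanFinrank_span_le_ncard_of_finite (R := R)
    (Set.finite_range fun j : {j : Fin full.length // j ≠ i} => full[(j : Fin full.length)])
  have h4 : (Set.range fun j : {j : Fin full.length // j ≠ i} =>
      full[(j : Fin full.length)]).ncard ≤ full.length - 1 := by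
    rw [← Set.image_univ]
    refine (Set.ncard_image_le Set.finite_univ).trans ?_
    rw [Set.ncard_univ, Nat.card_eq_fintype_card, Fintype.card_subtype_compl,
      Fintype.card_subtype_eq, Fintype.card_fin]
  have h5 : Submodule.spanFinrank (Ideal.ofList full) ≤ (Set.range fun j :
      {j : Fin full.length // j ≠ i} => full[(j : Fin full.length)]).ncard := by
    rw [heq]; exact h3
  rw [← hlen] at h5
  have hpos : 0 < full.length := i.pos
  omega

end dseq

section main

variable {T : Type u} [CommRing T] [IsCohenMacaulayLocalRing T] (p : Ideal T) [p.IsPrime]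

theorem exists_isDSeq [IsRegularLocalRing (Localization.AtPrime p)]
    (hgen : (Submodule.spanFinrank p : ℕ∞) ≤ p.height + 1) :
    ∃ ts : List T, Ideal.ofList ts = p ∧ W4c5grrsingularflat.IsDSeq ts := by
  classical
  obtain ⟨h, hh⟩ := ENat.ne_top_iff_exists.mp
    (Ideal.height_ne_top (I := p) (Ideal.IsPrime.ne_top inferInstance))
  obtain ⟨ts, hlen, hmem, hreg, ⟨ι, _, r, hcard, hG⟩, ⟨ι', _, r', hcard', hL⟩⟩ :=
    exists_state p h hh.symm h le_rfl
  -- the local condition
  have hι' : IsEmpty ι' := Fintype.card_eq_zero_iff.mp (by omega)
  have hL' : (Ideal.ofList ts).map (algebraMap T (Localization.AtPrime p)) =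
      maximalIdeal (Localization.AtPrime p) := by
    rw [← hL, Set.range_eq_empty, Ideal.span_empty, sup_bot_eq]
  have hlen' : (ts.length : ℕ∞) = p.height := by rw [hlen, hh]
  have hc : Submodule.spanFinrank p ≤ h + 1 := by
    rw [← hh] at hgen
    exact_mod_cast hgen
  -- the remaining generators as a list
  set rest : List T := (Finset.univ : Finset ι).toList.map r with hrest
  have hrestlen : rest.length = Fintype.card ι := by
    rw [hrest, List.length_map, Finset.length_toList, Finset.card_univ]
  have hrestspan : Ideal.ofList rest = Ideal.span (Set.range r) := by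
    unfold Ideal.ofList
    congr 1
    ext y
    simp [hrest]
  have hfull : Ideal.ofList (ts ++ rest) = p := by
    rw [Ideal.ofList_append, hrestspan, hG]
  have hfulllen : (ts ++ rest).length = Submodule.spanFinrank (Ideal.ofList (ts ++ rest)) := by
    rw [hfull, List.length_append, hrestlen, hlen]
    omega
  refine ⟨ts ++ rest, hfull, fun i => notMem_span_others (ts ++ rest) hfulllen i, ?_⟩
  intro i k hk hik
  by_cases hi : i < ts.length
  · -- regular range
    have h1 := hreg.regular_mod_prev i hi
    have h2 : (ts ++ rest).take i = ts.take i := List.take_append_of_le_length hi.le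
    have h3 : (ts ++ rest)[i]'(Nat.lt_of_le_of_lt hik hk) = ts[i] :=
      List.getElem_append_left hi
    rw [h2, h3]
    exact colon_eq_of_isSMulRegular _ _ _ h1
  · -- last index
    have hk' : k < ts.length + rest.length := by simpa using hk
    have hrl : rest.length = 1 := by omega
    obtain ⟨x, hx⟩ := List.length_eq_one_iff.mp hrl
    have hi' : i = ts.length := by omega
    have hk'' : k = ts.length := by omega
    subst hi' hk''
    have h2 : (ts ++ rest).take ts.length = ts := List.take_left' rfl
    have h3 : (ts ++ rest)[ts.length]'hk = x := by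
      simp [hx]
    rw [h2, h3]
    apply le_antisymm
    · refine colon_sq_le p ts hmem hreg hlen' x ?_ hL'
      rw [← hfull, Ideal.ofList_append, hx, Ideal.ofList_singleton]
    · intro a ha
      rw [Submodule.mem_colon_singleton] at ha ⊢
      have : a • (x * x) = x * (a • x) := by simp only [smul_eq_mul]; ring
      rw [this]
      exact Ideal.mul_mem_left _ _ ha

end main

end Groth.Agent.Helper8.RegPrefix
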