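import Mathlib
import Groth.Prelude.Def_CotT2
import Groth.Prelude.Def_CAlgX
import Groth.Agent.Lib.Helper9.CotHom5
import Groth.Agent.Lib.Helper8.CotK9
import Groth.Agent.Lib.Helper8.RegPrefix4

/-!
# The presentation of a quotient by a list: `H₁`-regularity from `Q = F₀`; minimal generators
-/

set_option autoImplicit false

namespace Groth.Agent.Helper8.CotK

universe u

open CotT TensorProduct Groth.Agent.Helper9

section SeqH1

variable {A : Type u} {B : Type u} [CommRing A] [CommRing B] [Algebra A B]
  (hs : Function.Surjective (algebraMap A B)) (rs : List A)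
  (hI : RingHom.ker (algebraMap A B) = Ideal.ofList rs)

/-- the constant coefficient map on the polynomial ring of the presentation -/
noncomputable def cc : (CotHom.seqPres hs rs hI).toExtension.Ring →+* A :=
  (MvPolynomial.constantCoeff : MvPolynomial PEmpty.{1} A →+* A)

lemma cc_C (a : A) :
    cc hs rs hI ((MvPolynomial.C a : MvPolynomial PEmpty.{1} A)) = a :=
  MvPolynomial.constantCoeff_C _ a

lemma C_cc (x : (CotHom.seqPres hs rs hI).toExtension.Ring) :
    (MvPolynomial.C (cc hs rs hI x) : MvPolynomial PEmpty.{1} A) = x :=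
  CotHom.C_coeff_zero (ι := PEmpty.{1}) (A := A) x

/-- constant coefficients of a relation vector -/
noncomputable def EE (x : relMod (CotHom.seqPres hs rs hI)) : Fin rs.length → A :=
  fun i => cc hs rs hI (x i)

lemma EE_add (x y : relMod (CotHom.seqPres hs rs hI)) :
    EE hs rs hI (x + y) = EE hs rs hI x + EE hs rs hI y := by
  ext i
  exact map_add (cc hs rs hI) (x i) (y i)

lemma EE_smul (c : (CotHom.seqPres hs rs hI).toExtension.Ring)
    (x : relMod (CotHom.seqPres hs rs hI)) :
    EE hs rs hI (c • x) = cc hs rs hI c • EE hs rs hI x := by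
  ext i
  exact map_mul (cc hs rs hI) c (x i)

lemma EE_sub (x y : relMod (CotHom.seqPres hs rs hI)) :
    EE hs rs hI (x - y) = EE hs rs hI x - EE hs rs hI y := by
  ext i
  exact map_sub (cc hs rs hI) (x i) (y i)

lemma EE_zero : EE hs rs hI 0 = 0 := by
  ext i
  exact map_zero (cc hs rs hI)

lemma cc_jmap (x : relMod (CotHom.seqPres hs rs hI)) :
    cc hs rs hI (jmap (CotHom.seqPres hs rs hI) x) = ∑ i, EE hs rs hI x i * rs.get i := by
  rw [jmap, Finsupp.linearCombination_apply,
    Finsupp.sum_fintype x (fun i a => a • rel (CotHom.seqPres hs rs hI) i)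
      (fun i => zero_smul _ _), map_sum]
  refine Finset.sum_congr rfl fun i _ => ?_
  rw [smul_eq_mul, map_mul]
  congr 1
  exact cc_C hs rs hI (rs.get i)

lemma EE_mem_of_mem_trivRel (x : relMod (CotHom.seqPres hs rs hI))
    (hx : x ∈ trivRel (CotHom.seqPres hs rs hI)) :
    EE hs rs hI x ∈ Submodule.span A {w : Fin rs.length → A |
      ∃ i j : Fin rs.length, w = Pi.single i (rs.get j) - Pi.single j (rs.get i)} := by
  induction hx using Submodule.span_induction with
  | mem y hy =>
    obtain ⟨a, b, rfl⟩ := hy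
    rw [EE_sub, EE_smul, EE_smul, cc_jmap, cc_jmap]
    exact pair_mem_kos (fun i => rs.get i) (EE hs rs hI a) (EE hs rs hI b)
  | zero =>
    rw [EE_zero]
    exact zero_mem _
  | add y z _ _ hy hz =>
    rw [EE_add]
    exact add_mem hy hz
  | smul c y _ hy =>
    rw [EE_smul]
    exact Submodule.smul_mem _ _ hy

theorem isH1Regular_of_relKer_le
    (h : relKer (CotHom.seqPres hs rs hI) ≤ trivRel (CotHom.seqPres hs rs hI)) :
    CAlgX.IsH1Regular (fun i : Fin rs.length => rs.get i) := by
  intro a ha
  let q : relMod (CotHom.seqPres hs rs hI) :=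
    Finsupp.equivFunOnFinite.symm
      (fun i => ((MvPolynomial.C (a i) : MvPolynomial PEmpty.{1} A) :
        (CotHom.seqPres hs rs hI).toExtension.Ring))
  have hEq : EE hs rs hI q = a := by
    ext i
    exact cc_C hs rs hI (a i)
  have hq : q ∈ relKer (CotHom.seqPres hs rs hI) := by
    change jmap (CotHom.seqPres hs rs hI) q = 0
    rw [← C_cc hs rs hI (jmap (CotHom.seqPres hs rs hI) q), cc_jmap, hEq, ha]
    exact map_zero _
  have := EE_mem_of_mem_trivRel hs rs hI q (h hq)
  rwa [hEq] at this

end SeqH1

section Min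

variable {A : Type u} [CommRing A] [IsLocalRing A]

/-- coefficients of a relation among a minimal system of generators lie in the maximal ideal -/
theorem coeff_mem_maximalIdeal_of_minimal (rs : List A)
    (hlen : rs.length = Submodule.spanFinrank (Ideal.ofList rs)) (a : Fin rs.length → A)
    (ha : ∑ i, a i * rs.get i = 0) (j : Fin rs.length) : a j ∈ IsLocalRing.maximalIdeal A := by
  classical
  by_contra hj
  have hu : IsUnit (a j) := IsLocalRing.notMem_maximalIdeal.mp hj
  obtain ⟨u, hu'⟩ := hu
  apply Groth.Agent.Helper8.RegPrefix.notMem_span_others rs hlen j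
  have h1 : a j * rs.get j = - ∑ i ∈ Finset.univ.erase j, a i * rs.get i := by
    rw [eq_neg_iff_add_eq_zero,
      Finset.add_sum_erase Finset.univ (fun i => a i * rs.get i) (Finset.mem_univ j)]
    exact ha
  have h2 : rs.get j = (↑u⁻¹ : A) * (a j * rs.get j) := by
    rw [← mul_assoc, ← hu', Units.inv_mul, one_mul]
  change rs.get j ∈ _
  rw [h2, h1]
  refine Ideal.mul_mem_left _ _ (neg_mem (Ideal.sum_mem _ fun i hi => ?_))
  refine Ideal.mul_mem_left _ _ (Ideal.subset_span ⟨⟨i, Finset.ne_of_mem_erase hi⟩, rfl⟩)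

end Min

end Groth.Agent.Helper8.CotK
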