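import Mathlib
import Groth.Prelude.Def_CotT2
import Groth.Prelude.Def_CAlgX
import Groth.Agent.Lib.Helper9.CotHom5
import Groth.Agent.Lib.Helper9.CotLib1
import Groth.Agent.Lib.Helper1.QuasiReg
import Groth.Agent.Lib.Helper4.QReg1
import Groth.Agent.Lib.Helper8.CotK10
import Groth.Agent.Lib.Helper8.CIPres4

/-!
# Vanishing of `T²(B/A, -)` for a quotient `B = A/I` of a Noetherian local ring forces `I` to be
generated by a regular sequence
-/

set_option autoImplicit false

namespace Groth.Agent.Helper8.CotK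

universe u v w t

open CotT TensorProduct Groth.Agent.Helper9 IsLocalRing

section Retraction

variable {A : Type u} {B : Type v} {ι : Type w} {σ : Type t}
variable [CommRing A] [CommRing B] [Algebra A B]
variable (P : Algebra.Presentation A B ι σ)

/-- If `T²(P, L₂)` vanishes then `d₂` has a retraction. -/
theorem exists_retraction_d2 (h : Subsingleton (T2 P (L2 P))) :
    ∃ φ : L1 P →ₗ[B] L2 P, ∀ z, φ (d2 P z) = z := by
  have h00 : (LinearMap.range (d2Star P (L2 P))).mkQ (LinearMap.id : L2 P →ₗ[B] L2 P) = 0 :=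
    h.elim _ _
  rw [Submodule.mkQ_apply, Submodule.Quotient.mk_eq_zero] at h00
  obtain ⟨φ, hφ⟩ := h00
  exact ⟨φ, fun z => LinearMap.congr_fun hφ z⟩

end Retraction

section Local

variable (A : Type u) [CommRing A] [IsLocalRing A] (I : Ideal A)

lemma mk_mem_maximalIdeal [IsLocalRing (A ⧸ I)] (hI : I ≠ ⊤) (a : A) (ha : a ∈ maximalIdeal A) :
    Ideal.Quotient.mk I a ∈ maximalIdeal (A ⧸ I) := by
  rw [mem_maximalIdeal, mem_nonunits_iff]
  intro hu
  obtain ⟨b, hb⟩ := hu.exists_right_inv
  obtain ⟨b, rfl⟩ := Ideal.Quotient.mk_surjective b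
  rw [← map_mul, ← map_one (Ideal.Quotient.mk I), Ideal.Quotient.eq] at hb
  have h1 : a * b - 1 ∈ maximalIdeal A := le_maximalIdeal hI hb
  have h2 : a * b ∈ maximalIdeal A := Ideal.mul_mem_right _ _ ha
  have h3 : (1 : A) ∈ maximalIdeal A := by
    have := sub_mem h2 h1
    rwa [sub_sub_cancel] at this
  exact (maximalIdeal.isMaximal A).ne_top ((Ideal.eq_top_iff_one _).2 h3)

end Local

section Seq

variable {A : Type u} [CommRing A] [IsLocalRing A] [IsNoetherianRing A] (I : Ideal A)
  [IsLocalRing (A ⧸ I)] (hI : I ≠ ⊤)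
  (hs : Function.Surjective (algebraMap A (A ⧸ I))) (rs : List A)
  (hI' : RingHom.ker (algebraMap A (A ⧸ I)) = Ideal.ofList rs)
  (hlen : rs.length = Submodule.spanFinrank (Ideal.ofList rs))

include hI hlen in
/-- for a minimal system of generators, the image of `d₂` lies in `m L₁` -/
lemma d2_mem_smul_top (z : L2 (CotHom.seqPres hs rs hI')) :
    d2 (CotHom.seqPres hs rs hI') z ∈
      (maximalIdeal (A ⧸ I)) • (⊤ : Submodule (A ⧸ I) (L1 (CotHom.seqPres hs rs hI'))) := by
  obtain ⟨q, rfl⟩ := L2_exists_rep' (CotHom.seqPres hs rs hI') z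
  rw [d2_mk_tmul]
  have hq0 : ∑ i, EE hs rs hI' (q : relMod (CotHom.seqPres hs rs hI')) i * rs.get i = 0 := by
    rw [← cc_jmap]
    have : jmap (CotHom.seqPres hs rs hI') (q : relMod (CotHom.seqPres hs rs hI')) = 0 := q.2
    rw [this, map_zero]
  have hqm : ∀ i, EE hs rs hI' (q : relMod (CotHom.seqPres hs rs hI')) i ∈ maximalIdeal A :=
    coeff_mem_maximalIdeal_of_minimal rs hlen _ hq0
  have hdec : (q : relMod (CotHom.seqPres hs rs hI')) =
      ∑ i, ((q : relMod (CotHom.seqPres hs rs hI')) i) •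
        Finsupp.single i (1 : (CotHom.seqPres hs rs hI').toExtension.Ring) := by
    conv_lhs => rw [← Finsupp.univ_sum_single (q : relMod (CotHom.seqPres hs rs hI'))]
    refine Finset.sum_congr rfl fun i _ => ?_
    rw [Finsupp.smul_single, smul_eq_mul, mul_one]
  rw [hdec, tmul_sum]
  refine Submodule.sum_mem _ fun i _ => ?_
  have h3 : (1 : A ⧸ I) ⊗ₜ[(CotHom.seqPres hs rs hI').toExtension.Ring]
      (((q : relMod (CotHom.seqPres hs rs hI')) i) •
        Finsupp.single i (1 : (CotHom.seqPres hs rs hI').toExtension.Ring)) =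
      (algebraMap (CotHom.seqPres hs rs hI').toExtension.Ring (A ⧸ I)
        ((q : relMod (CotHom.seqPres hs rs hI')) i)) •
        ((1 : A ⧸ I) ⊗ₜ[(CotHom.seqPres hs rs hI').toExtension.Ring]
          Finsupp.single i (1 : (CotHom.seqPres hs rs hI').toExtension.Ring)) := by
    rw [tmul_smul, smul_tmul', smul_tmul', Algebra.smul_def, smul_eq_mul]
  rw [h3]
  refine Submodule.smul_mem_smul ?_ Submodule.mem_top
  have h4 : algebraMap (CotHom.seqPres hs rs hI').toExtension.Ring (A ⧸ I)
      ((q : relMod (CotHom.seqPres hs rs hI')) i) =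
      Ideal.Quotient.mk I (EE hs rs hI' (q : relMod (CotHom.seqPres hs rs hI')) i) := by
    rw [algebraMap_toExtension]
    have e := C_cc hs rs hI' ((q : relMod (CotHom.seqPres hs rs hI')) i)
    have e2 : MvPolynomial.aeval (CotHom.seqPres hs rs hI').val
        ((q : relMod (CotHom.seqPres hs rs hI')) i) =
        MvPolynomial.aeval (CotHom.seqPres hs rs hI').val
          (MvPolynomial.C (cc hs rs hI' ((q : relMod (CotHom.seqPres hs rs hI')) i)) :
            MvPolynomial PEmpty.{1} A) := by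
      rw [e]
    rw [e2, MvPolynomial.aeval_C]
    rfl
  rw [h4]
  exact mk_mem_maximalIdeal A I hI _ (hqm i)

instance : IsNoetherianRing (CotHom.seqPres hs rs hI').toExtension.Ring :=
  inferInstanceAs (IsNoetherianRing (MvPolynomial PEmpty.{1} A))

include hI hlen in
/-- if `d₂` has a retraction and the generators are minimal, then `L₂ = 0` -/
lemma L2_eq_zero_of_retraction
    (φ : L1 (CotHom.seqPres hs rs hI') →ₗ[A ⧸ I] L2 (CotHom.seqPres hs rs hI'))
    (hφ : ∀ z, φ (d2 (CotHom.seqPres hs rs hI') z) = z) (z : L2 (CotHom.seqPres hs rs hI')) :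
    z = 0 := by
  haveI : Module.Finite (A ⧸ I) (L2 (CotHom.seqPres hs rs hI')) := inferInstance
  have htop : (⊤ : Submodule (A ⧸ I) (L2 (CotHom.seqPres hs rs hI'))) ≤
      (maximalIdeal (A ⧸ I)) • ⊤ := by
    intro z _
    rw [← hφ z]
    have h5 : φ (d2 (CotHom.seqPres hs rs hI') z) ∈
        ((maximalIdeal (A ⧸ I)) •
          (⊤ : Submodule (A ⧸ I) (L1 (CotHom.seqPres hs rs hI')))).map φ :=
      Submodule.mem_map_of_mem (d2_mem_smul_top I hI hs rs hI' hlen z)
    rw [Submodule.map_smul''] at h5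
    exact Submodule.smul_mono le_rfl le_top h5
  have hbot : (⊤ : Submodule (A ⧸ I) (L2 (CotHom.seqPres hs rs hI'))) = ⊥ :=
    Submodule.eq_bot_of_le_smul_of_le_jacobson_bot (maximalIdeal (A ⧸ I)) ⊤
      Module.Finite.fg_top htop (maximalIdeal_le_jacobson ⊥)
  have : z ∈ (⊤ : Submodule (A ⧸ I) (L2 (CotHom.seqPres hs rs hI'))) := Submodule.mem_top
  rw [hbot] at this
  exact (Submodule.mem_bot _).1 this

include hI hlen in
/-- vanishing of `T²` of the presentation by a minimal system of generators forces regularity -/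
theorem isRegular_of_subsingleton_T2_seqPres
    (h : Subsingleton (T2 (CotHom.seqPres hs rs hI') (L2 (CotHom.seqPres hs rs hI')))) :
    RingTheory.Sequence.IsRegular A rs := by
  obtain ⟨φ, hφ⟩ := exists_retraction_d2 (CotHom.seqPres hs rs hI') h
  have hzero := L2_eq_zero_of_retraction I hI hs rs hI' hlen φ hφ
  have hle : relKer (CotHom.seqPres hs rs hI') ≤ trivRel (CotHom.seqPres hs rs hI') := by
    intro q hq
    exact (L2_mk_eq_zero_iff' (CotHom.seqPres hs rs hI') ⟨q, hq⟩).1 (hzero _)
  have hmem : ∀ r ∈ rs, r ∈ maximalIdeal A := by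
    intro r hr
    apply le_maximalIdeal hI
    have : Ideal.ofList rs = I := by rw [← hI']; exact Ideal.mk_ker
    rw [← this]
    exact Ideal.subset_span hr
  have hH1 : CAlgX.IsH1Regular (fun i : Fin rs.length => rs.get i) :=
    isH1Regular_of_relKer_le hs rs hI' hle
  have hQR := Groth.Agent.Lib.Helper4.QReg1.S2103_main _ hH1
  have hW := Groth.Agent.Helper1.QuasiReg.isWeaklyRegular_of_isQuasiRegular rs.length A
    (fun i : Fin rs.length => rs.get i) (fun i => by
      rw [ringJacobson_eq_maximalIdeal]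
      exact hmem _ (List.get_mem rs i)) hQR
  have hofn : List.ofFn (fun i : Fin rs.length => rs.get i) = rs := List.ofFn_get rs
  rw [hofn] at hW
  exact RingTheory.Sequence.IsRegular.of_isWeaklyRegular_of_mem_maximalIdeal A hmem hW

end Seq

section CI

variable (A : Type u) [CommRing A] [IsLocalRing A] [IsNoetherianRing A] (I : Ideal A)

theorem exists_isRegular_of_subsingleton_T2 (hI : I ≠ ⊤)
    (h : ∀ (M : Type u) [AddCommGroup M] [Module (A ⧸ I) M],
      Subsingleton (T2 (canon A (A ⧸ I)) M)) :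
    ∃ rs : List A, Ideal.ofList rs = I ∧ RingTheory.Sequence.IsRegular A rs := by
  classical
  haveI : Nontrivial (A ⧸ I) := Ideal.Quotient.nontrivial_iff.2 hI
  haveI : IsLocalRing (A ⧸ I) :=
    IsLocalRing.of_surjective' (Ideal.Quotient.mk I) Ideal.Quotient.mk_surjective
  obtain ⟨s, hs1, hs2⟩ := Submodule.FG.exists_span_finset_card_eq_spanFinrank
    (IsNoetherian.noetherian I)
  have hof : Ideal.ofList s.toList = I := by
    unfold Ideal.ofList
    have : {r | r ∈ s.toList} = (s : Set A) := by ext; simp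
    rw [this]; exact hs2
  have hlen : s.toList.length = Submodule.spanFinrank (Ideal.ofList s.toList) := by
    rw [hof, Finset.length_toList, hs1]
  have hsurj : Function.Surjective (algebraMap A (A ⧸ I)) := Ideal.Quotient.mk_surjective
  have hI' : RingHom.ker (algebraMap A (A ⧸ I)) = Ideal.ofList s.toList := by
    rw [hof]
    exact Ideal.mk_ker
  refine ⟨s.toList, hof, isRegular_of_subsingleton_T2_seqPres I hI hsurj s.toList hI' hlen ?_⟩
  haveI := h (L2 (CotHom.seqPres hsurj s.toList hI'))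
  obtain ⟨e⟩ := CotHom.nonempty_T2equiv (canon A (A ⧸ I)) (CotHom.seqPres hsurj s.toList hI')
    (L2 (CotHom.seqPres hsurj s.toList hI'))
  exact e.symm.toEquiv.subsingleton

end CI

end Groth.Agent.Helper8.CotK
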