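import Mathlib
import Groth.Prelude.Def_CotT2
import Groth.Agent.Lib.Helper9.CotHom5
import Groth.Agent.Lib.Helper8.CotK11
import Groth.Agent.Lib.Helper8.CIPres4
import Groth.Agent.Lib.Helper8.Depth9
import Groth.Agent.Lib.Helper8.FlatReg5

/-!
# Complete intersections in a regular local ring and vanishing of `T²`
-/

set_option autoImplicit false

namespace Groth.Agent.Helper8.CotK

universe u

open CotT TensorProduct Groth.Agent.Helper9 IsLocalRing LocCoh

theorem ci_iff_subsingleton_T2
    (k A : Type u) [Field k] [CommRing A] [IsRegularLocalRing A] [Algebra k A]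
    (hT : ∀ (N : Type u) [AddCommGroup N] [Module A N],
      Subsingleton (T1 (canon k A) N) ∧ Subsingleton (T2 (canon k A) N))
    (I : Ideal A) (hI : I ≠ ⊤) :
    (∃ rs : List A, Ideal.ofList rs = I ∧
      (rs.length : WithBot ℕ∞) + ringKrullDim (A ⧸ I) = ringKrullDim A) ↔
      ∀ (M : Type u) [AddCommGroup M] [Module (A ⧸ I) M],
        Subsingleton (T2 (canon k (A ⧸ I)) M) := by
  have hsurj : Function.Surjective (algebraMap A (A ⧸ I)) := Ideal.Quotient.mk_surjective
  constructor
  · rintro ⟨rs, hof, hdim⟩ M _ _
    have hmem : ∀ r ∈ rs, r ∈ maximalIdeal A := by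
      intro r hr
      apply le_maximalIdeal hI
      rw [← hof]
      exact Ideal.subset_span hr
    have hCMring := FlatReg.isCohenMacaulayLocalRing_of_isRegularLocalRing A
    have hCM : IsCohenMacaulayModule A A := hCMring.supportDim_eq_depth
    have hw : RingTheory.Sequence.IsWeaklyRegular A rs := by
      refine ((Depth.cm_list rs hmem A hCM).1).mpr ?_
      rw [CIPres.supportDim_quot_ofList, Module.supportDim_self_eq_ringKrullDim, hof, add_comm]
      exact hdim
    have hreg := RingTheory.Sequence.IsRegular.of_isWeaklyRegular_of_mem_maximalIdeal A hmem hw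
    have hI' : RingHom.ker (algebraMap A (A ⧸ I)) = Ideal.ofList rs := by
      rw [hof]
      exact Ideal.mk_ker
    letI : Module A M := Module.compHom M (Ideal.Quotient.mk I)
    haveI : IsScalarTower A (A ⧸ I) M := ⟨fun a b x => by
      change (a • b) • x = Ideal.Quotient.mk I a • (b • x)
      rw [Algebra.smul_def, mul_smul]
      rfl⟩
    haveI := CotHom.main12288 A (A ⧸ I) hsurj rs hreg hI' M
    haveI := (hT M).2
    exact subsingleton_T2_of_tower k A (A ⧸ I) M
  · intro h
    have h2 : ∀ (M : Type u) [AddCommGroup M] [Module (A ⧸ I) M],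
        Subsingleton (T2 (canon A (A ⧸ I)) M) := by
      intro M _ _
      letI : Module A M := Module.compHom M (Ideal.Quotient.mk I)
      haveI : IsScalarTower A (A ⧸ I) M := ⟨fun a b x => by
        change (a • b) • x = Ideal.Quotient.mk I a • (b • x)
        rw [Algebra.smul_def, mul_smul]
        rfl⟩
      haveI := (hT M).1
      haveI := h M
      exact subsingleton_T2_top_of_tower k A (A ⧸ I) M
    obtain ⟨rs, hof, hreg⟩ := exists_isRegular_of_subsingleton_T2 A I hI h2
    refine ⟨rs, hof, ?_⟩
    have h3 := ringKrullDim_add_length_eq_ringKrullDim_of_isRegular rs hreg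
    rw [hof] at h3
    rw [add_comm]
    exact h3

end Groth.Agent.Helper8.CotK
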