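import Mathlib
import Groth.Agent.Lib.Helper8.Lift1

/-!
# Ascent of regularity along flat maps with trivial closed fibre
-/

set_option autoImplicit false
universe u

namespace Groth.Agent.Helper8.RegPS

open LocCoh IsLocalRing

/-- If `R → S` is flat, `P` lies over `p` with `P = pS`, and `R_p` is regular, then `S_P` is
regular. -/
theorem isRegularLocalRing_of_flat_of_map_eq (R S : Type u) [CommRing R] [CommRing S]
    [Algebra R S] [Module.Flat R S] [IsNoetherianRing R] [IsNoetherianRing S]
    (p : Ideal R) [p.IsPrime] (P : Ideal S) [P.IsPrime] [P.LiesOver p]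
    (hP : P = p.map (algebraMap R S))
    [IsRegularLocalRing (Localization.AtPrime p)] :
    IsRegularLocalRing (Localization.AtPrime P) := by
  set φ := Localization.localRingHom p P (algebraMap R S) Ideal.LiesOver.over with hφ
  have hcomp : φ.comp (algebraMap R (Localization.AtPrime p)) =
      (algebraMap S (Localization.AtPrime P)).comp (algebraMap R S) := by
    ext x
    simp [hφ, Localization.localRingHom_to_map]
  have hmax : maximalIdeal (Localization.AtPrime P) =
      (maximalIdeal (Localization.AtPrime p)).map φ := by
    rw [← Localization.AtPrime.map_eq_maximalIdeal, ← Localization.AtPrime.map_eq_maximalIdeal,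
      Ideal.map_map, hcomp, ← Ideal.map_map, ← hP]
  have h1 : (maximalIdeal (Localization.AtPrime P)).spanFinrank ≤
      (maximalIdeal (Localization.AtPrime p)).spanFinrank := by
    rw [hmax]
    exact Ideal.spanFinrank_map_le_of_fg φ (IsNoetherian.noetherian _)
  have h2 : P.height = p.height := by
    haveI : Algebra.HasGoingDown R S := Algebra.HasGoingDown.of_flat
    rw [Ideal.height_eq_height_add_of_liesOver_of_hasGoingDown p P]
    have h3 : P.map (Ideal.Quotient.mk (p.map (algebraMap R S))) = ⊥ := by
      rw [Ideal.map_eq_bot_iff_le_ker, Ideal.mk_ker, hP]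
    have hnt : Nontrivial (S ⧸ p.map (algebraMap R S)) := by
      rw [Ideal.Quotient.nontrivial_iff, ← hP]
      exact Ideal.IsPrime.ne_top inferInstance
    rw [h3, Ideal.height_bot, add_zero]
  apply IsRegularLocalRing.of_spanFinrank_maximalIdeal_le
  rw [IsLocalization.AtPrime.ringKrullDim_eq_height P (Localization.AtPrime P), h2,
    ← IsLocalization.AtPrime.ringKrullDim_eq_height p (Localization.AtPrime p),
    ← IsRegularLocalRing.spanFinrank_maximalIdeal (R := Localization.AtPrime p)]
  exact_mod_cast h1

end Groth.Agent.Helper8.RegPS
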