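import Mathlib
import Groth.Agent.Lib.Helper8.RegPS2
import Groth.Agent.Lib.Helper2.CompleteNoeth

/-!
# Adic completions of regular rings are regular
-/

set_option autoImplicit false
universe u

namespace Groth.Agent.Helper8.RegPS

open LocCoh IsLocalRing

theorem isRegularRing_adicCompletion (A : Type u) [CommRing A] [IsRegularRing A] (J : Ideal A) :
    IsRegularRing (AdicCompletion J A) := by
  have fg : J.FG := IsNoetherian.noetherian J
  haveI hN : IsNoetherianRing (AdicCompletion J A) :=
    Groth.Agent.Helper2.CompleteNoeth.isNoetherianRing_adicCompletion A J fg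
  have hcomp := AdicCompletion.isAdicComplete_self J fg
  have hker := AdicCompletion.ker_evalOneₐ_eq_map (I := J) fg
  have hsurj : Function.Surjective (AdicCompletion.evalOneₐ J).toRingHom :=
    AdicCompletion.evalOneₐ_surjective J
  set ev := (AdicCompletion.evalOneₐ J).toRingHom with hev
  have hevof : ∀ x : A, ev (algebraMap A (AdicCompletion J A) x) = Ideal.Quotient.mk J x :=
    fun x => rfl
  refine ⟨fun P hP => ?_⟩
  obtain ⟨n, hn, hPn⟩ := Ideal.exists_le_maximal P hP.ne_top
  haveI : n.IsPrime := hn.isPrime
  have hJn : J.map (algebraMap A (AdicCompletion J A)) ≤ n :=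
    (IsAdicComplete.le_jacobson_bot (J.map (algebraMap A (AdicCompletion J A)))).trans
      (sInf_le ⟨bot_le, hn⟩)
  have hkern : RingHom.ker ev ≤ n := hker ▸ hJn
  have hn' : (n.map ev).IsMaximal := Ideal.IsMaximal.map_of_surjective_of_ker_le hsurj hkern
  have hcm : (n.map ev).comap ev = n := by
    rw [Ideal.comap_map_of_surjective' ev hsurj, sup_eq_left.mpr hkern]
  set m := (n.map ev).comap (Ideal.Quotient.mk J) with hm
  haveI hmmax : m.IsMaximal := Ideal.comap_isMaximal_of_surjective _ Ideal.Quotient.mk_surjective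
  have hJm : J ≤ m := by
    intro x hx
    rw [hm, Ideal.mem_comap, Ideal.Quotient.eq_zero_iff_mem.mpr hx]
    exact Ideal.zero_mem _
  have hmn : m ≤ n.comap (algebraMap A (AdicCompletion J A)) := by
    intro x hx
    rw [Ideal.mem_comap, ← hcm, Ideal.mem_comap, hevof]
    exact hx
  have hmax := AdicCompletion.isMaximal_map_of_le J m hJm fg
  have hnm : n = m.map (algebraMap A (AdicCompletion J A)) :=
    (hmax.eq_of_le hn.ne_top (Ideal.map_le_iff_le_comap.mpr hmn)).symm
  have hover : n.LiesOver m := by
    refine ⟨?_⟩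
    exact hmmax.eq_of_le (Ideal.comap_ne_top _ hn.ne_top) hmn
  haveI : m.IsPrime := hmmax.isPrime
  haveI := isRegularLocalRing_of_flat_of_map_eq A (AdicCompletion J A) m n hnm
  exact Lift.isRegularLocalRing_atPrime_of_le (AdicCompletion J A) P n hPn

end Groth.Agent.Helper8.RegPS
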