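import Mathlib
import Groth.Prelude
import Groth.Agent.Lib.Helper7.ComplFin.Main
import Groth.Agent.Lib.Helper8.Cpl2
import Groth.Agent.Lib.Helper8.CplMap3
import Groth.Agent.Lib.Helper8.CompFib3
import Groth.Agent.Lib.Helper8.RegPS3
import Groth.Agent.Lib.Helper8.GRing11
import Groth.Agent.Lib.Helper9.Reg5807
import Groth.Agent.S0600

/-!
# Completions of localizations of excellent normal domains
-/

set_option autoImplicit false
universe u

namespace Groth.Agent.Helper8.CplAway

open IsLocalRing

/-- A localization of an integrally closed domain is a normal ring. -/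
theorem isNormalRing_of_isLocalization (A : Type u) [CommRing A] [IsDomain A] [IsIntegrallyClosed A]
    (M : Submonoid A) (S : Type u) [CommRing S] [Algebra A S] [IsLocalization M S] :
    EGA4.IsNormalRing S := by
  intro P hP
  have h1 : IsLocalization.AtPrime (Localization.AtPrime P) (P.comap (algebraMap A S)) :=
    IsLocalization.isLocalization_isLocalization_atPrime_isLocalization M
      (Localization.AtPrime P) P
  have hle : (P.comap (algebraMap A S)).primeCompl ≤ nonZeroDivisors A := by
    intro x hx
    rw [mem_nonZeroDivisors_iff_ne_zero]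
    rintro rfl
    exact hx (Ideal.zero_mem _)
  haveI := h1
  exact ⟨IsLocalization.isDomain_of_le_nonZeroDivisors (Localization.AtPrime P) hle,
    isIntegrallyClosed_of_isLocalization (Localization.AtPrime P)
      (P.comap (algebraMap A S)).primeCompl hle⟩

section surj

variable {S T : Type u} [CommRing S] [CommRing T] (I : Ideal S) (K : Ideal T) (g : S →+* T)
  (h : I.map g ≤ K)

/-- A surjective ring map carrying `I` onto `K` induces a surjection of completions. -/
theorem complMap_surjective (hg : Function.Surjective g) (hK : K ≤ I.map g) :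
    Function.Surjective (FSch.complMap I K g h) := by
  have hKeq : K = I.map g := le_antisymm hK h
  intro y
  obtain ⟨c, rfl⟩ := AdicCompletion.mk_surjective K T y
  have hd : ∀ n, ∃ j ∈ I ^ n, g j = c.val (n + 1) - c.val n := by
    intro n
    have h1 : c.val (n + 1) - c.val n ∈ K ^ n := by
      have := AdicCompletion.Ideal.mk_eq_mk K (Nat.le_succ n) c
      rwa [Ideal.Quotient.eq] at this
    have h2 : c.val (n + 1) - c.val n ∈ (I ^ n).map g := by
      rw [Ideal.map_pow, ← hKeq]; exact h1
    exact (Ideal.mem_map_iff_of_surjective g hg).1 h2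
  choose j hjI hj using hd
  obtain ⟨s0, hs0⟩ := hg (c.val 0)
  let s : ℕ → S := fun n => s0 + ∑ i ∈ Finset.range n, j i
  have hgs : ∀ n, g (s n) = c.val n := by
    intro n
    show g (s0 + ∑ i ∈ Finset.range n, j i) = c.val n
    rw [map_add, map_sum, hs0]
    simp only [hj]
    rw [Finset.sum_range_sub (fun i => c.val i) n]
    ring
  have hcauchy : ∀ n, s n ≡ s (n + 1) [SMOD (I ^ n • ⊤ : Submodule S S)] := by
    intro n
    rw [SModEq.sub_mem, smul_eq_mul, Ideal.mul_top]
    have : s n - s (n + 1) = -(j n) := by
      show (s0 + ∑ i ∈ Finset.range n, j i) - (s0 + ∑ i ∈ Finset.range (n + 1), j i) = -(j n)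
      rw [Finset.sum_range_succ]
      ring
    rw [this]
    exact (I ^ n).neg_mem (hjI n)
  refine ⟨AdicCompletion.mk I S (AdicCompletion.AdicCauchySequence.mk I S s hcauchy), ?_⟩
  refine AdicCompletion.ext_evalₐ fun n => ?_
  rw [Groth.Agent.Helper7.ComplFin.evalₐ_complMap_mk, AdicCompletion.evalₐ_mk]
  show Ideal.Quotient.mk (K ^ n) (g (s n)) = _
  rw [hgs n]

end surj

/-- The completion of a normal G-ring along any ideal is a normal ring. -/
theorem isNormalRing_adicCompletion (S : Type u) [CommRing S] (hG : CAlg.IsGRing S)
    (hS : EGA4.IsNormalRing S) (J : Ideal S) : EGA4.IsNormalRing (AdicCompletion J S) := by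
  haveI : IsNoetherianRing S := hG.1
  have hreg : CAlg.IsRegularHom S (AdicCompletion J S) := Groth.Agent.S0600.result S hG J
  haveI : IsNoetherianRing (AdicCompletion J S) :=
    Groth.Agent.Helper2.CompleteNoeth.isNoetherianRing_adicCompletion S J
      (IsNoetherian.noetherian J)
  haveI : Module.Flat S (AdicCompletion J S) := hreg.1
  refine Groth.Agent.Helper8.Cpl.isNormalRing_of_flat_of_fibres S (AdicCompletion J S) hS ?_
  intro p _
  haveI : IsRegularRing (p.Fiber (AdicCompletion J S)) :=
    Groth.Agent.Helper8.CplMap.isRegularRing_of_isGeometricallyRegular p.ResidueField _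
      (hreg.2 p).2
  exact Groth.Agent.Helper8.CompFib.isNormalRing_of_isRegularRing _

end Groth.Agent.Helper8.CplAway
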