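import Mathlib

/-!
# Extension of a derivation to adic completions

For an `A₀`-derivation `D : A → M` and an ideal `I` of `A`, we have `D (I^(n+1)) ⊆ I^n M`, so `D`
extends to a map `Â → M̂` of `I`-adic completions which is again a derivation.
-/

set_option autoImplicit false

namespace Groth.Agent.Helper8.CplDer

open AdicCompletion

variable {A₀ A : Type*} [CommRing A₀] [CommRing A] [Algebra A₀ A] (I : Ideal A)
  {M : Type*} [AddCommGroup M] [Module A M] [Module A₀ M] [IsScalarTower A₀ A M]
  (D : Derivation A₀ A M)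

theorem D_mem_pow (n : ℕ) : ∀ x ∈ I ^ (n + 1), D x ∈ (I ^ n • ⊤ : Submodule A M) := by
  induction n with
  | zero =>
    intro x _
    rw [pow_zero, Ideal.one_eq_top, Submodule.top_smul]
    trivial
  | succ n ih =>
    intro x hx
    rw [pow_succ] at hx
    refine Submodule.mul_induction_on hx (fun a ha b hb => ?_) (fun x y hx hy => ?_)
    · rw [Derivation.leibniz]
      refine Submodule.add_mem _ (Submodule.smul_mem_smul ha Submodule.mem_top) ?_
      have h1 : b • D a ∈ I • (I ^ n • ⊤ : Submodule A M) :=
        Submodule.smul_mem_smul hb (ih a ha)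
      rwa [← Submodule.mul_smul, ← pow_succ'] at h1
    · rw [map_add]
      exact Submodule.add_mem _ hx hy

/-- The image under `D` of a Cauchy sequence, shifted by one. -/
noncomputable def Dseq (c : AdicCauchySequence I A) : AdicCauchySequence I M :=
  ⟨fun n => D (c (n + 1)), fun {m n} hmn => by
    have h1 := c.2 (Nat.succ_le_succ hmn)
    rw [SModEq.sub_mem] at h1 ⊢
    rw [← map_sub]
    refine D_mem_pow I D m _ ?_
    rwa [smul_eq_mul, Ideal.mul_top] at h1⟩

theorem Dseq_apply (c : AdicCauchySequence I A) (n : ℕ) : Dseq I D c n = D (c (n + 1)) := rfl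

theorem mk_eq_mk_iff {N : Type*} [AddCommGroup N] [Module A N] (c c' : AdicCauchySequence I N) :
    AdicCompletion.mk I N c = AdicCompletion.mk I N c' ↔
      ∀ n, c n - c' n ∈ (I ^ n • ⊤ : Submodule A N) := by
  constructor
  · intro h n
    have h1 := congrArg (fun x => x.val n) h
    simp only [mk_apply_coe, Submodule.mkQ_apply] at h1
    exact (Submodule.Quotient.eq _).1 h1
  · intro h
    apply AdicCompletion.ext
    intro n
    simp only [mk_apply_coe, Submodule.mkQ_apply]
    exact (Submodule.Quotient.eq _).2 (h n)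

theorem mk_Dseq_congr (c c' : AdicCauchySequence I A)
    (h : AdicCompletion.mk I A c = AdicCompletion.mk I A c') :
    AdicCompletion.mk I M (Dseq I D c) = AdicCompletion.mk I M (Dseq I D c') := by
  rw [mk_eq_mk_iff] at h ⊢
  intro n
  rw [Dseq_apply, Dseq_apply, ← map_sub]
  refine D_mem_pow I D n _ ?_
  have := h (n + 1)
  rwa [smul_eq_mul, Ideal.mul_top] at this

/-- The extension of `D` to the completions. -/
noncomputable def Dhat (x : AdicCompletion I A) : AdicCompletion I M :=
  AdicCompletion.mk I M (Dseq I D (Function.surjInv (AdicCompletion.mk_surjective I A) x))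

theorem Dhat_mk (c : AdicCauchySequence I A) :
    Dhat I D (AdicCompletion.mk I A c) = AdicCompletion.mk I M (Dseq I D c) :=
  mk_Dseq_congr I D _ _ (Function.surjInv_eq (AdicCompletion.mk_surjective I A) _)

theorem Dhat_add (x y : AdicCompletion I A) : Dhat I D (x + y) = Dhat I D x + Dhat I D y := by
  obtain ⟨c, rfl⟩ := AdicCompletion.mk_surjective I A x
  obtain ⟨c', rfl⟩ := AdicCompletion.mk_surjective I A y
  rw [← map_add, Dhat_mk, Dhat_mk, Dhat_mk, ← map_add]
  congr 1
  apply AdicCauchySequence.ext
  intro n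
  show D ((c + c') (n + 1)) = D (c (n + 1)) + D (c' (n + 1))
  rw [AdicCauchySequence.add_apply, map_add]

/-- The constant Cauchy sequence. -/
def constSeq (a : A) : AdicCauchySequence I A := ⟨fun _ => a, fun {_ _} _ => SModEq.rfl⟩

theorem Dhat_of (a : A) : Dhat I D (AdicCompletion.of I A a) = AdicCompletion.of I M (D a) := by
  have h1 : AdicCompletion.of I A a = AdicCompletion.mk I A (constSeq I a) := rfl
  rw [h1, Dhat_mk]
  rfl

theorem Dhat_mul (x y : AdicCompletion I A) :
    Dhat I D (x * y) = x • Dhat I D y + y • Dhat I D x := by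
  obtain ⟨c, rfl⟩ := AdicCompletion.mk_surjective I A x
  obtain ⟨c', rfl⟩ := AdicCompletion.mk_surjective I A y
  have h1 : AdicCompletion.mk I A c * AdicCompletion.mk I A c' =
      AdicCompletion.mk I A (c * c') := rfl
  rw [h1, Dhat_mk, Dhat_mk, Dhat_mk]
  apply AdicCompletion.ext
  intro n
  rw [val_add_apply, smul_eval, smul_eval]
  simp only [mk_apply_coe, Submodule.mkQ_apply, Dseq_apply]
  rw [AdicCompletion.mul_apply, Derivation.leibniz, Submodule.Quotient.mk_add,
    Submodule.Quotient.mk_smul, Submodule.Quotient.mk_smul]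
  have h2 : ∀ (e : AdicCauchySequence I A) (ξ : M),
      (Submodule.Quotient.mk (e n) : A ⧸ (I ^ n • ⊤ : Ideal A)) •
        (Submodule.Quotient.mk ξ : M ⧸ (I ^ n • ⊤ : Submodule A M)) =
      e (n + 1) • (Submodule.Quotient.mk ξ : M ⧸ (I ^ n • ⊤ : Submodule A M)) := by
    intro e ξ
    have h3 : (Submodule.Quotient.mk (e n) : A ⧸ (I ^ n • ⊤ : Ideal A)) =
        Submodule.Quotient.mk (e (n + 1)) := (e.2 (Nat.le_succ n))
    rw [h3]
    rfl
  rw [h2, h2]

end Groth.Agent.Helper8.CplDer
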