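import Mathlib
import Groth.Agent.Lib.Helper8.CplDer1

/-!
# The differentials of an adic completion: a retraction onto the base-changed differentials
-/

set_option autoImplicit false

namespace Groth.Agent.Helper8.CplDer

open AdicCompletion TensorProduct

universe u

variable (A₀ A : Type u) [CommRing A₀] [CommRing A] [Algebra A₀ A] (I : Ideal A)
  [IsNoetherianRing A] [Module.Finite A (Ω[A⁄A₀])]

/-- The universal derivation of `A`, extended to the completion, with values in
`Â ⊗ Ω_{A/A₀}`. -/
noncomputable def Dtens (x : AdicCompletion I A) : AdicCompletion I A ⊗[A] Ω[A⁄A₀] :=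
  (ofTensorProductEquivOfFiniteNoetherian I (Ω[A⁄A₀])).symm
    (Dhat I (KaehlerDifferential.D A₀ A) x)

theorem Dtens_add (x y : AdicCompletion I A) :
    Dtens A₀ A I (x + y) = Dtens A₀ A I x + Dtens A₀ A I y := by
  unfold Dtens
  rw [Dhat_add, map_add]

theorem Dtens_mul (x y : AdicCompletion I A) :
    Dtens A₀ A I (x * y) = x • Dtens A₀ A I y + y • Dtens A₀ A I x := by
  unfold Dtens
  rw [Dhat_mul, map_add, map_smul, map_smul]

theorem Dtens_of (a : A) :
    Dtens A₀ A I (AdicCompletion.of I A a) = 1 ⊗ₜ[A] KaehlerDifferential.D A₀ A a := by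
  unfold Dtens
  rw [Dhat_of, ofTensorProductEquivOfFiniteNoetherian_symm_of]

theorem Dtens_smul (a₀ : A₀) (x : AdicCompletion I A) :
    Dtens A₀ A I (a₀ • x) = a₀ • Dtens A₀ A I x := by
  have h1 : a₀ • x = AdicCompletion.of I A (algebraMap A₀ A a₀) * x := by
    rw [Algebra.smul_def]
    rfl
  rw [h1, Dtens_mul, Dtens_of, Derivation.map_algebraMap, TensorProduct.tmul_zero, smul_zero,
    add_zero]
  have h2 : AdicCompletion.of I A (algebraMap A₀ A a₀) =
      algebraMap A₀ (AdicCompletion I A) a₀ := rfl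
  rw [h2, algebraMap_smul]

/-- The extended derivation. -/
noncomputable def DtensDer :
    Derivation A₀ (AdicCompletion I A) (AdicCompletion I A ⊗[A] Ω[A⁄A₀]) :=
  Derivation.mk'
    { toFun := Dtens A₀ A I
      map_add' := Dtens_add A₀ A I
      map_smul' := Dtens_smul A₀ A I }
    (Dtens_mul A₀ A I)

theorem DtensDer_apply (x : AdicCompletion I A) : DtensDer A₀ A I x = Dtens A₀ A I x := rfl

/-- **The retraction** `Ω_{Â/A₀} → Â ⊗ Ω_{A/A₀}`. -/
theorem exists_retraction :
    ∃ l : Ω[AdicCompletion I A⁄A₀] →ₗ[AdicCompletion I A] AdicCompletion I A ⊗[A] Ω[A⁄A₀],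
      l ∘ₗ KaehlerDifferential.mapBaseChange A₀ A (AdicCompletion I A) = LinearMap.id := by
  refine ⟨(DtensDer A₀ A I).liftKaehlerDifferential, ?_⟩
  have key : ∀ ω : Ω[A⁄A₀], (DtensDer A₀ A I).liftKaehlerDifferential
      (KaehlerDifferential.map A₀ A₀ A (AdicCompletion I A) ω) = 1 ⊗ₜ[A] ω := by
    have h1 : ((DtensDer A₀ A I).liftKaehlerDifferential.restrictScalars A) ∘ₗ
        (KaehlerDifferential.map A₀ A₀ A (AdicCompletion I A)) =
        (TensorProduct.mk A (AdicCompletion I A) (Ω[A⁄A₀]) 1) := by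
      apply Derivation.liftKaehlerDifferential_unique
      ext a
      show (DtensDer A₀ A I).liftKaehlerDifferential
        (KaehlerDifferential.map A₀ A₀ A (AdicCompletion I A) (KaehlerDifferential.D A₀ A a)) =
        1 ⊗ₜ[A] KaehlerDifferential.D A₀ A a
      rw [KaehlerDifferential.map_D, Derivation.liftKaehlerDifferential_comp_D]
      exact Dtens_of A₀ A I a
    intro ω
    exact LinearMap.congr_fun h1 ω
  refine LinearMap.ext fun z => ?_
  induction z using TensorProduct.induction_on with
  | zero => rw [_root_.map_zero, _root_.map_zero]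
  | add x y hx hy => rw [_root_.map_add, _root_.map_add, hx, hy]
  | tmul x ω =>
    rw [LinearMap.comp_apply, KaehlerDifferential.mapBaseChange_tmul, map_smul, key,
      LinearMap.id_apply, TensorProduct.smul_tmul', smul_eq_mul, mul_one]

end Groth.Agent.Helper8.CplDer
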