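import Mathlib
import Groth.Prelude
import Groth.Agent.Lib.Helper8.CplIso2

/-!
# The completion of `B` and of the local rings of `B ⊗_A Â` over the closed point
-/

set_option autoImplicit false
universe u

namespace Groth.Agent.Helper8.CplIso

open IsLocalRing TensorProduct

section tensor

variable (A B : Type u) [CommRing A] [CommRing B] [IsNoetherianRing A] [IsLocalRing A]
  [IsLocalRing B] [Algebra A B] [IsLocalHom (algebraMap A B)]

/-- `b ⊗ y ∈ 𝔪_B (B ⊗ Â)` for `y ∈ 𝔪_A Â`. -/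
theorem tmul_mem_map (b : B) (y : EGA4.Cpl A)
    (hy : y ∈ (maximalIdeal A).map (algebraMap A (EGA4.Cpl A))) :
    b ⊗ₜ[A] y ∈ (maximalIdeal B).map (algebraMap B (B ⊗[A] EGA4.Cpl A)) := by
  rw [Ideal.map] at hy
  refine Submodule.span_induction (p := fun y _ => b ⊗ₜ[A] y ∈
    (maximalIdeal B).map (algebraMap B (B ⊗[A] EGA4.Cpl A))) ?_ ?_ ?_ ?_ hy
  · rintro _ ⟨a, ha, rfl⟩
    have h1 : b ⊗ₜ[A] (algebraMap A (EGA4.Cpl A) a) =
        algebraMap B (B ⊗[A] EGA4.Cpl A) (algebraMap A B a * b) := by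
      rw [Algebra.TensorProduct.algebraMap_apply, Algebra.algebraMap_eq_smul_one,
        ← TensorProduct.smul_tmul, Algebra.smul_def]
      rfl
    rw [h1]
    refine Ideal.mem_map_of_mem _ (Ideal.mul_mem_right _ _ ?_)
    exact map_nonunit (algebraMap A B) a ha
  · rw [TensorProduct.tmul_zero]; exact Ideal.zero_mem _
  · intro x y _ _ hx hy
    rw [TensorProduct.tmul_add]; exact Ideal.add_mem _ hx hy
  · intro c y _ hy
    have : b ⊗ₜ[A] (c • y) = ((1 : B) ⊗ₜ[A] c) * (b ⊗ₜ[A] y) := by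
      rw [Algebra.TensorProduct.tmul_mul_tmul, one_mul, smul_eq_mul]
    rw [this]
    exact Ideal.mul_mem_left _ _ hy

/-- Every element of `B ⊗ Â` is congruent to an element of `B` modulo `𝔪_B (B ⊗ Â)`. -/
theorem exists_sub_mem_map_tensor (z : B ⊗[A] EGA4.Cpl A) :
    ∃ b : B, z - algebraMap B (B ⊗[A] EGA4.Cpl A) b ∈
      (maximalIdeal B).map (algebraMap B (B ⊗[A] EGA4.Cpl A)) := by
  induction z using TensorProduct.induction_on with
  | zero => exact ⟨0, by rw [map_zero, sub_zero]; exact Ideal.zero_mem _⟩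
  | add x y hx hy =>
    obtain ⟨b1, h1⟩ := hx
    obtain ⟨b2, h2⟩ := hy
    refine ⟨b1 + b2, ?_⟩
    have : x + y - algebraMap B (B ⊗[A] EGA4.Cpl A) (b1 + b2) =
        (x - algebraMap B _ b1) + (y - algebraMap B _ b2) := by
      rw [map_add]; ring
    rw [this]
    exact Ideal.add_mem _ h1 h2
  | tmul b x =>
    obtain ⟨a, ha⟩ := exists_sub_mem_map A (maximalIdeal A) x
    refine ⟨algebraMap A B a * b, ?_⟩
    have h1 : b ⊗ₜ[A] (algebraMap A (EGA4.Cpl A) a) =
        algebraMap B (B ⊗[A] EGA4.Cpl A) (algebraMap A B a * b) := by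
      rw [Algebra.TensorProduct.algebraMap_apply, Algebra.algebraMap_eq_smul_one,
        ← TensorProduct.smul_tmul, Algebra.smul_def]
      rfl
    rw [← h1, ← TensorProduct.tmul_sub]
    exact tmul_mem_map A B b _ ha

variable (n' : Ideal (B ⊗[A] EGA4.Cpl A)) [hn : n'.IsPrime]
  (h1 : n'.comap (algebraMap B (B ⊗[A] EGA4.Cpl A)) = maximalIdeal B)

include h1 in
theorem eq_map_of_comap_eq :
    n' = (maximalIdeal B).map (algebraMap B (B ⊗[A] EGA4.Cpl A)) := by
  have hle : (maximalIdeal B).map (algebraMap B (B ⊗[A] EGA4.Cpl A)) ≤ n' := by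
    rw [Ideal.map_le_iff_le_comap, h1]
  apply le_antisymm _ hle
  intro z hz
  obtain ⟨b, hb⟩ := exists_sub_mem_map_tensor A B z
  have hb' : algebraMap B (B ⊗[A] EGA4.Cpl A) b ∈ n' := by
    have : algebraMap B (B ⊗[A] EGA4.Cpl A) b = z - (z - algebraMap B _ b) := by ring
    rw [this]
    exact n'.sub_mem hz (hle hb)
  have hb'' : b ∈ maximalIdeal B := by rw [← h1]; exact hb'
  have : z = algebraMap B (B ⊗[A] EGA4.Cpl A) b + (z - algebraMap B _ b) := by ring
  rw [this]
  exact Ideal.add_mem _ (Ideal.mem_map_of_mem _ hb'') hb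

include h1 in
theorem isMaximal_of_comap_eq : n'.IsMaximal := by
  have hle : (maximalIdeal B).map (algebraMap B (B ⊗[A] EGA4.Cpl A)) ≤ n' := by
    rw [Ideal.map_le_iff_le_comap, h1]
  rw [Ideal.isMaximal_iff]
  refine ⟨fun h => hn.ne_top ((Ideal.eq_top_iff_one _).mpr h), ?_⟩
  intro J z hnJ hz hzJ
  obtain ⟨b, hb⟩ := exists_sub_mem_map_tensor A B z
  have hbu : IsUnit b := by
    by_contra hnu
    have hbm : b ∈ maximalIdeal B := (mem_maximalIdeal b).2 hnu
    apply hz
    have : z = algebraMap B (B ⊗[A] EGA4.Cpl A) b + (z - algebraMap B _ b) := by ring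
    rw [this]
    exact Ideal.add_mem _ (hle (Ideal.mem_map_of_mem _ hbm)) (hle hb)
  have h2 : algebraMap B (B ⊗[A] EGA4.Cpl A) b ∈ J := by
    have : algebraMap B (B ⊗[A] EGA4.Cpl A) b = z - (z - algebraMap B _ b) := by ring
    rw [this]
    exact J.sub_mem hzJ (hnJ (hle hb))
  have h3 : IsUnit (algebraMap B (B ⊗[A] EGA4.Cpl A) b) := hbu.map _
  exact (Ideal.eq_top_iff_one _).mp (Ideal.eq_top_of_isUnit_mem _ h2 h3)

include h1 in
theorem isLocalHom_of_comap_eq :
    IsLocalHom (algebraMap B (Localization.AtPrime n')) := by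
  refine ⟨fun b hb => ?_⟩
  by_contra hnu
  have hbm : b ∈ maximalIdeal B := (mem_maximalIdeal b).2 hnu
  have h2 : algebraMap B (B ⊗[A] EGA4.Cpl A) b ∈ n' := by
    rw [← Ideal.mem_comap, h1]; exact hbm
  have h3 : algebraMap (B ⊗[A] EGA4.Cpl A) (Localization.AtPrime n')
      (algebraMap B (B ⊗[A] EGA4.Cpl A) b) ∈ maximalIdeal (Localization.AtPrime n') :=
    (IsLocalization.AtPrime.to_map_mem_maximal_iff (Localization.AtPrime n') n' _).mpr h2
  rw [← IsScalarTower.algebraMap_apply] at h3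
  exact (mem_maximalIdeal _).1 h3 hb

include h1 in
theorem map_maximalIdeal_of_comap_eq :
    (maximalIdeal B).map (algebraMap B (Localization.AtPrime n')) =
      maximalIdeal (Localization.AtPrime n') := by
  rw [IsScalarTower.algebraMap_eq B (B ⊗[A] EGA4.Cpl A) (Localization.AtPrime n'),
    ← Ideal.map_map, ← eq_map_of_comap_eq A B n' h1, Localization.AtPrime.map_eq_maximalIdeal]

include h1 in
theorem exists_sub_mem_maximalIdeal_of_comap_eq (s : Localization.AtPrime n') :
    ∃ b : B, s - algebraMap B (Localization.AtPrime n') b ∈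
      maximalIdeal (Localization.AtPrime n') := by
  haveI := isMaximal_of_comap_eq A B n' h1
  have hle : (maximalIdeal B).map (algebraMap B (B ⊗[A] EGA4.Cpl A)) ≤ n' := by
    rw [Ideal.map_le_iff_le_comap, h1]
  obtain ⟨z, hz⟩ := Ideal.algebraMap_residueField_surjective n' (IsLocalRing.residue _ s)
  obtain ⟨b, hb⟩ := exists_sub_mem_map_tensor A B z
  refine ⟨b, ?_⟩
  have h2 : s - algebraMap (B ⊗[A] EGA4.Cpl A) (Localization.AtPrime n') z ∈
      maximalIdeal (Localization.AtPrime n') := by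
    refine (IsLocalRing.residue_eq_zero_iff (R := Localization.AtPrime n')
      (s - algebraMap (B ⊗[A] EGA4.Cpl A) (Localization.AtPrime n') z)).1 ?_
    rw [map_sub, sub_eq_zero, ← hz]
    rfl
  have h3 : algebraMap (B ⊗[A] EGA4.Cpl A) (Localization.AtPrime n')
      (z - algebraMap B (B ⊗[A] EGA4.Cpl A) b) ∈ maximalIdeal (Localization.AtPrime n') :=
    (IsLocalization.AtPrime.to_map_mem_maximal_iff (Localization.AtPrime n') n' _).mpr (hle hb)
  have h4 : s - algebraMap B (Localization.AtPrime n') b =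
      (s - algebraMap (B ⊗[A] EGA4.Cpl A) (Localization.AtPrime n') z) +
        algebraMap (B ⊗[A] EGA4.Cpl A) (Localization.AtPrime n')
          (z - algebraMap B (B ⊗[A] EGA4.Cpl A) b) := by
    rw [IsScalarTower.algebraMap_apply B (B ⊗[A] EGA4.Cpl A) (Localization.AtPrime n'), map_sub]
    ring
  rw [h4]
  exact Ideal.add_mem _ h2 h3

include h1 in
/-- **S4739.** -/
theorem nonempty_cpl_ringEquiv [IsNoetherianRing B] [IsNoetherianRing (B ⊗[A] EGA4.Cpl A)] :
    Nonempty (EGA4.Cpl B ≃+* EGA4.Cpl (Localization.AtPrime n')) := by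
  haveI := isLocalHom_of_comap_eq A B n' h1
  haveI : IsNoetherianRing (Localization.AtPrime n') :=
    IsLocalization.isNoetherianRing n'.primeCompl _ inferInstance
  haveI : Module.Flat B (Localization.AtPrime n') :=
    Module.Flat.trans B (B ⊗[A] EGA4.Cpl A) (Localization.AtPrime n')
  exact ⟨(cplEquiv B (Localization.AtPrime n') (map_maximalIdeal_of_comap_eq A B n' h1)
    (exists_sub_mem_maximalIdeal_of_comap_eq A B n' h1)).toRingEquiv⟩

end tensor

end Groth.Agent.Helper8.CplIso
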