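import Mathlib
import Groth.Prelude
import Groth.Agent.Lib.Helper7.ComplFin.Main

/-!
# Lifting finite maps modulo `I` between formally smooth algebras to the completions
-/

set_option autoImplicit false
universe u

namespace Groth.Agent.Helper8.CplLift

open Groth.Agent.Helper7

variable (V : Type u) [CommRing V] (I : Ideal V)
  (A C : Type u) [CommRing A] [Algebra V A] [Algebra.FormallySmooth V A]
  [CommRing C] [Algebra V C]

theorem aux (hI : I.FG) (JA : Ideal A) (JC : Ideal C) (hJA : JA = I.map (algebraMap V A))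
    (hJC : JC = I.map (algebraMap V C))
    (φ₀ : (A ⧸ JA) →ₐ[V] (C ⧸ JC))
    (hφ₀ : φ₀.toRingHom.Finite) :
    ∃ φ : AdicCompletion JA A →ₐ[V] AdicCompletion JC C,
      φ.toRingHom.Finite ∧
      (AdicCompletion.evalOneₐ JC).toRingHom.comp φ.toRingHom =
        φ₀.toRingHom.comp (AdicCompletion.evalOneₐ JA).toRingHom := by
  have hJAfg : JA.FG := hJA ▸ Ideal.FG.map hI _
  have hJCfg : JC.FG := hJC ▸ Ideal.FG.map hI _
  set Ah := AdicCompletion JA A with hAh
  set Ch := AdicCompletion JC C with hCh
  let f : A →ₐ[V] C ⧸ JC := φ₀.comp (Ideal.Quotient.mkₐ V JA)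
  obtain ⟨g, hg⟩ := Algebra.FormallySmooth.exists_adicCompletionEvalOneₐ_comp_eq (I := JC) f
  have hg' : ∀ a : A, AdicCompletion.evalOneₐ JC (g a) = φ₀ (Ideal.Quotient.mk JA a) := by
    intro a
    exact AlgHom.congr_fun hg a
  set K : Ideal Ch := JC.map (algebraMap C Ch) with hK
  haveI hKc : IsAdicComplete K Ch := AdicCompletion.isAdicComplete_self JC hJCfg
  have hKker : RingHom.ker (AdicCompletion.evalOneₐ JC).toRingHom = K :=
    AdicCompletion.ker_evalOneₐ_eq_map JC hJCfg
  set Ih : Ideal Ah := JA.map (algebraMap A Ah) with hIh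
  haveI hIc : IsAdicComplete Ih Ah := AdicCompletion.isAdicComplete_self JA hJAfg
  have hIker : RingHom.ker (AdicCompletion.evalOneₐ JA).toRingHom = Ih :=
    AdicCompletion.ker_evalOneₐ_eq_map JA hJAfg
  have hgJ : ∀ a ∈ JA, g a ∈ K := by
    intro a ha
    rw [← hKker, RingHom.mem_ker]
    show AdicCompletion.evalOneₐ JC (g a) = 0
    rw [hg' a, Ideal.Quotient.eq_zero_iff_mem.2 ha, map_zero]
  have h : JA.map (g : A →+* Ch) ≤ K := by
    rw [Ideal.map_le_iff_le_comap]
    intro a ha
    exact hgJ a ha
  let φ₁ : Ah →+* AdicCompletion K Ch := FSch.complMap JA K (g : A →+* Ch) h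
  let e : Ch ≃ₐ[Ch] AdicCompletion K Ch := AdicCompletion.ofAlgEquiv K
  let φr : Ah →+* Ch := (e.symm : AdicCompletion K Ch →+* Ch).comp φ₁
  have hφof : ∀ a : A, φr (algebraMap A Ah a) = g a := by
    intro a
    show e.symm (φ₁ (algebraMap A Ah a)) = g a
    have h1 : φ₁ (algebraMap A Ah a) = algebraMap Ch (AdicCompletion K Ch) (g a) :=
      ComplFin.complMap_of JA K (g : A →+* Ch) h a
    rw [h1]
    exact AdicCompletion.ofAlgEquiv_symm_of K (g a)
  let φ : Ah →ₐ[V] Ch :=
    { φr with
      commutes' := fun v => by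
        show φr (algebraMap V Ah v) = algebraMap V Ch v
        rw [IsScalarTower.algebraMap_apply V A Ah, hφof, AlgHom.commutes] }
  have hφr : ∀ x : Ah, φ x = φr x := fun _ => rfl
  have hφIh : ∀ y ∈ Ih, φr y ∈ K := by
    have : Ih ≤ K.comap φr := by
      rw [hIh, Ideal.map_le_iff_le_comap]
      intro a ha
      rw [Ideal.mem_comap, Ideal.mem_comap, hφof]
      exact hgJ a ha
    exact fun y hy => this hy
  have hcomp : ∀ x : Ah, AdicCompletion.evalOneₐ JC (φr x) =
      φ₀ (AdicCompletion.evalOneₐ JA x) := by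
    intro x
    obtain ⟨a, ha⟩ := Ideal.Quotient.mk_surjective (AdicCompletion.evalOneₐ JA x)
    have hx : x - algebraMap A Ah a ∈ Ih := by
      rw [← hIker, RingHom.mem_ker]
      show AdicCompletion.evalOneₐ JA (x - algebraMap A Ah a) = 0
      rw [map_sub, AlgHom.commutes, ← ha, sub_eq_zero]
      rfl
    have h2 : AdicCompletion.evalOneₐ JC (φr (x - algebraMap A Ah a)) = 0 := by
      have := hφIh _ hx
      rw [← hKker, RingHom.mem_ker] at this
      exact this
    rw [map_sub, map_sub, sub_eq_zero, hφof, hg' a, ha] at h2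
    exact h2
  refine ⟨φ, ?_, ?_⟩
  · -- finiteness
    letI : Algebra Ah Ch := φr.toAlgebra
    show Module.Finite Ah Ch
    have hsmul : ∀ (r : Ah) (z : Ch), r • z = φr r * z := fun r z => rfl
    have hpow : ∀ (n : ℕ) (r : Ah), r ∈ Ih ^ n → φr r ∈ K ^ n := by
      intro n r hr
      have h1 : (Ih ^ n).map φr ≤ K ^ n := by
        rw [Ideal.map_pow]
        refine Ideal.pow_right_mono ?_ n
        rw [Ideal.map_le_iff_le_comap]
        exact fun y hy => hφIh y hy
      exact h1 (Ideal.mem_map_of_mem _ hr)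
    haveI : IsHausdorff Ih Ch := by
      refine ⟨fun x hx => ?_⟩
      refine IsHausdorff.haus (I := K) inferInstance x (fun n => ?_)
      have hxn := hx n
      rw [SModEq.zero] at hxn ⊢
      rw [smul_eq_mul, Ideal.mul_top]
      refine Submodule.smul_induction_on hxn ?_ ?_
      · intro r hr z _
        rw [hsmul]
        exact Ideal.mul_mem_right _ _ (hpow n r hr)
      · intro y z hy hz
        exact (K ^ n).add_mem hy hz
    apply ComplFin.finite_of_complete Ah Ih Ch
    -- `K ⊆ Ih • ⊤`
    have c1 : ∀ y ∈ K, y ∈ (Ih • ⊤ : Submodule Ah Ch) := by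
      intro y hy
      have hKV : K ≤ I.map (algebraMap V Ch) := by
        rw [hK, Ideal.map_le_iff_le_comap]
        intro c hc
        rw [hJC] at hc
        have h3 : I.map (algebraMap V C) ≤ (I.map (algebraMap V Ch)).comap (algebraMap C Ch) := by
          rw [Ideal.map_le_iff_le_comap]
          intro v hv
          rw [Ideal.mem_comap, Ideal.mem_comap, ← IsScalarTower.algebraMap_apply]
          exact Ideal.mem_map_of_mem _ hv
        exact h3 hc
      replace hy := hKV hy
      rw [Ideal.map] at hy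
      refine Submodule.span_induction ?_ ?_ ?_ ?_ hy
      · rintro _ ⟨v, hv, rfl⟩
        have h1 : algebraMap V Ch v = (algebraMap V Ah v) • (1 : Ch) := by
          rw [hsmul, mul_one]
          have := φ.commutes v
          rw [hφr] at this
          exact this.symm
        rw [h1]
        refine Submodule.smul_mem_smul ?_ Submodule.mem_top
        rw [hIh, IsScalarTower.algebraMap_apply V A Ah]
        refine Ideal.mem_map_of_mem _ ?_
        rw [hJA]
        exact Ideal.mem_map_of_mem _ hv
      · exact Submodule.zero_mem _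
      · intro a b _ _ iha ihb
        exact Submodule.add_mem _ iha ihb
      · intro t a _ iha
        -- multiplication by an element of `Ch` preserves `Ih • ⊤`
        refine Submodule.smul_induction_on iha ?_ ?_
        · intro r hr z _
          rw [smul_eq_mul, hsmul, ← mul_assoc, mul_comm t, mul_assoc, ← hsmul]
          exact Submodule.smul_mem_smul hr Submodule.mem_top
        · intro y z hy hz
          rw [smul_add]
          exact Submodule.add_mem _ hy hz
    -- generators
    letI : Algebra (A ⧸ JA) (C ⧸ JC) := φ₀.toRingHom.toAlgebra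
    haveI : Module.Finite (A ⧸ JA) (C ⧸ JC) := hφ₀
    obtain ⟨r, s, hs⟩ := Module.Finite.exists_fin (R := A ⧸ JA) (M := C ⧸ JC)
    choose c hc using fun i => AdicCompletion.evalOneₐ_surjective JC (s i)
    refine Module.finite_def.2 (Submodule.fg_iff_exists_fin_generating_family.2
      ⟨r, fun i => Submodule.Quotient.mk (c i), ?_⟩)
    rw [eq_top_iff]
    rintro q -
    obtain ⟨y, rfl⟩ := Submodule.Quotient.mk_surjective _ q
    have h1 : AdicCompletion.evalOneₐ JC y ∈ Submodule.span (A ⧸ JA) (Set.range s) := by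
      rw [hs]; trivial
    obtain ⟨d, hd⟩ := (Submodule.mem_span_range_iff_exists_fun (A ⧸ JA)).1 h1
    choose x hx using fun i => AdicCompletion.evalOneₐ_surjective JA (d i)
    have h2 : y - ∑ i, x i • c i ∈ (Ih • ⊤ : Submodule Ah Ch) := by
      apply c1
      rw [← hKker, RingHom.mem_ker]
      show AdicCompletion.evalOneₐ JC (y - ∑ i, x i • c i) = 0
      rw [map_sub, ← hd, sub_eq_zero, map_sum]
      refine Finset.sum_congr rfl fun i _ => ?_
      rw [hsmul, map_mul, hcomp, hx, hc]
      rfl
    have e2 : (Submodule.Quotient.mk y : Ch ⧸ (Ih • ⊤ : Submodule Ah Ch)) =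
        ∑ i, x i • Submodule.Quotient.mk (c i) := by
      rw [← sub_eq_zero]
      rw [← Submodule.Quotient.mk_eq_zero] at h2
      rw [← h2, Submodule.Quotient.mk_sub, ← Submodule.mkQ_apply, ← Submodule.mkQ_apply, map_sum]
      simp only [map_smul]
      rfl
    rw [e2]
    exact Submodule.sum_mem _ fun i _ => Submodule.smul_mem _ _ (Submodule.subset_span ⟨i, rfl⟩)
  · ext x
    exact hcomp x

theorem main (hI : I.FG)
    (φ₀ : (A ⧸ I.map (algebraMap V A)) →ₐ[V] (C ⧸ I.map (algebraMap V C)))
    (hφ₀ : φ₀.toRingHom.Finite) :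
    ∃ φ : AdicCompletion (I.map (algebraMap V A)) A →ₐ[V]
        AdicCompletion (I.map (algebraMap V C)) C,
      φ.toRingHom.Finite ∧
      (AdicCompletion.evalOneₐ (I.map (algebraMap V C))).toRingHom.comp φ.toRingHom =
        φ₀.toRingHom.comp (AdicCompletion.evalOneₐ (I.map (algebraMap V A))).toRingHom :=
  aux V I A C hI _ _ rfl rfl φ₀ hφ₀

end Groth.Agent.Helper8.CplLift
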