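import Mathlib
import Groth.Prelude
import Groth.Agent.Lib.Helper8.ArtFlat1

/-!
# Completion of a short exact sequence with flat cokernel (arbitrary base ring)
-/

set_option autoImplicit false

universe u

namespace Groth.Agent.Helper8.CplSplit

open TensorProduct Groth.Agent.Helper8.FreeCpl Groth.Agent.Helper8.ArtFlat

section family

variable {R : Type u} [CommRing R]

theorem exists_family {X : Type*} [AddCommGroup X] [Module R X] (J : Ideal R)
    (X' : Submodule R X) {x : X} (hx : x ∈ J • X') :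
    ∃ (ι : Type) (_ : Fintype ι) (r : ι → R) (u : ι → X),
      (∀ k, r k ∈ J) ∧ (∀ k, u k ∈ X') ∧ x = ∑ k, r k • u k := by
  refine Submodule.smul_induction_on hx (fun a ha y hy => ?_) (fun x y hx hy => ?_)
  · exact ⟨Unit, inferInstance, fun _ => a, fun _ => y, fun _ => ha, fun _ => hy, by simp⟩
  · obtain ⟨ι₁, _, r₁, u₁, h₁, h₁', rfl⟩ := hx
    obtain ⟨ι₂, _, r₂, u₂, h₂, h₂', rfl⟩ := hy
    refine ⟨ι₁ ⊕ ι₂, inferInstance, Sum.elim r₁ r₂, Sum.elim u₁ u₂, ?_, ?_, ?_⟩
    · rintro (k | k)
      · exact h₁ k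
      · exact h₂ k
    · rintro (k | k)
      · exact h₁' k
      · exact h₂' k
    · rw [Fintype.sum_sum_type]
      rfl

theorem exists_common_family {X Y : Type*} [AddCommGroup X] [Module R X] [AddCommGroup Y]
    [Module R Y] (J : Ideal R) (Y' : Submodule R Y) {x : X} {y : Y}
    (hx : x ∈ J • (⊤ : Submodule R X)) (hy : y ∈ J • Y') :
    ∃ (ι : Type) (_ : Fintype ι) (r : ι → R) (f : ι → X) (u : ι → Y),
      (∀ k, r k ∈ J) ∧ (∀ k, u k ∈ Y') ∧ x = ∑ k, r k • f k ∧ y = ∑ k, r k • u k := by
  obtain ⟨ι₁, _, r₁, f₁, h₁, -, rfl⟩ := exists_family J ⊤ hx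
  obtain ⟨ι₂, _, r₂, u₂, h₂, h₂', rfl⟩ := exists_family J Y' hy
  refine ⟨ι₁ ⊕ ι₂, inferInstance, Sum.elim r₁ r₂, Sum.elim f₁ (fun _ => 0),
    Sum.elim (fun _ => 0) u₂, ?_, ?_, ?_, ?_⟩
  · rintro (k | k)
    · exact h₁ k
    · exact h₂ k
  · rintro (k | k)
    · exact Y'.zero_mem
    · exact h₂' k
  · rw [Fintype.sum_sum_type]
    simp
  · rw [Fintype.sum_sum_type]
    simp

end family

section general

variable {R : Type u} [CommRing R] (I : Ideal R)
  {F M : Type u} [AddCommGroup F] [Module R F] [AddCommGroup M] [Module R M] [Module.Flat R M]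
  (φ : F →ₗ[R] M)
  (hinj : ∀ x, φ x ∈ I • (⊤ : Submodule R M) → x ∈ I • (⊤ : Submodule R F))
  (hsurj : ∀ m, ∃ g, m - φ g ∈ I • (⊤ : Submodule R M))

include hinj hsurj in
theorem mem_pow_smul_top_of_map_mem'' (n : ℕ) :
    ∀ x, φ x ∈ I ^ n • (⊤ : Submodule R M) → x ∈ I ^ n • (⊤ : Submodule R F) := by
  induction n with
  | zero =>
    intro x _
    rw [pow_zero, Ideal.one_eq_top, Submodule.top_smul]
    trivial
  | succ n ih =>
    intro x hx
    have hx' : φ x ∈ I ^ n • (⊤ : Submodule R M) :=
      Submodule.smul_mono_left (Ideal.pow_le_pow_right (Nat.le_succ n)) hx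
    have hxn := ih x hx'
    rw [pow_succ_smul_top'] at hx
    obtain ⟨ι, _, r, f, u, hr, hu, hf, hφx⟩ := exists_common_family (I ^ n) _ hxn hx
    have hrel : ∑ k, r k • (φ (f k) - u k) = 0 := by
      simp only [smul_sub, Finset.sum_sub_distrib]
      rw [← hφx, hf, map_sum]
      simp only [map_smul, sub_self]
    obtain ⟨l, a, y, hy1, hy2⟩ := Module.Flat.isTrivialRelation_of_sum_smul_eq_zero hrel
    have hy1' : ∀ k, ∑ j, a k j • y j = φ (f k) - u k := fun k => (hy1 k).symm
    choose g hg using fun j => hsurj (y j)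
    have hw : ∀ k, f k - ∑ j, a k j • g j ∈ I • (⊤ : Submodule R F) := by
      intro k
      apply hinj
      have h1 : φ (f k - ∑ j, a k j • g j) = u k + ∑ j, a k j • (y j - φ (g j)) := by
        rw [map_sub, map_sum]
        simp only [map_smul, smul_sub, Finset.sum_sub_distrib]
        rw [hy1' k]
        abel
      rw [h1]
      exact Submodule.add_mem _ (hu k)
        (Submodule.sum_mem _ fun j _ => Submodule.smul_mem _ _ (hg j))
    have hxsum : x = ∑ k, r k • (f k - ∑ j, a k j • g j) := by
      have h2 : ∑ k, r k • ∑ j, a k j • g j = 0 := by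
        simp only [Finset.smul_sum]
        rw [Finset.sum_comm]
        apply Finset.sum_eq_zero
        intro j _
        simp only [← mul_smul]
        rw [← Finset.sum_smul, hy2 j, zero_smul]
      simp only [smul_sub, Finset.sum_sub_distrib]
      rw [h2, sub_zero]
      exact hf
    rw [hxsum, pow_succ_smul_top']
    exact Submodule.sum_mem _ fun k _ => Submodule.smul_mem_smul (hr k) (hw k)

include hinj hsurj in
theorem map_bijective' : Function.Bijective (AdicCompletion.map I φ) := by
  constructor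
  · rw [injective_iff_map_eq_zero]
    intro x
    obtain ⟨s, rfl⟩ := AdicCompletion.mk_surjective I _ x
    intro hs
    apply AdicCompletion.ext
    intro n
    rw [AdicCompletion.mk_apply_coe, Submodule.mkQ_apply, AdicCompletion.val_zero_apply,
      Submodule.Quotient.mk_eq_zero]
    apply mem_pow_smul_top_of_map_mem'' I φ hinj hsurj n
    have h1 : (AdicCompletion.map I φ (AdicCompletion.mk I F s)).val n = 0 := by
      rw [hs]; rfl
    rw [AdicCompletion.map_mk, AdicCompletion.mk_apply_coe, Submodule.mkQ_apply,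
      Submodule.Quotient.mk_eq_zero] at h1
    exact h1
  · intro y
    obtain ⟨t, rfl⟩ := AdicCompletion.mk_surjective I _ y
    choose g hg using fun n => exists_sub_mem_pow' I φ hsurj n (t n)
    have hcauchy : ∀ n, g n ≡ g (n + 1) [SMOD (I ^ n • ⊤ : Submodule R F)] := by
      intro n
      rw [SModEq.sub_mem]
      apply mem_pow_smul_top_of_map_mem'' I φ hinj hsurj n
      have h1 : φ (g n - g (n + 1)) =
          -(t n - φ (g n)) + (t n - t (n + 1)) + (t (n + 1) - φ (g (n + 1))) := by
        rw [map_sub]; abel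
      rw [h1]
      refine Submodule.add_mem _ (Submodule.add_mem _ (Submodule.neg_mem _ (hg n)) ?_) ?_
      · exact (SModEq.sub_mem).mp (t.2 (Nat.le_succ n))
      · exact Submodule.smul_mono_left (Ideal.pow_le_pow_right (Nat.le_succ n)) (hg (n + 1))
    refine ⟨AdicCompletion.mk I F (AdicCompletion.AdicCauchySequence.mk I F g hcauchy), ?_⟩
    apply AdicCompletion.ext
    intro n
    rw [AdicCompletion.map_mk, AdicCompletion.mk_apply_coe, AdicCompletion.mk_apply_coe,
      Submodule.mkQ_apply, Submodule.mkQ_apply, Submodule.Quotient.eq]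
    have := hg n
    rw [← Submodule.neg_mem_iff, neg_sub] at this
    exact this

end general

end Groth.Agent.Helper8.CplSplit
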