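import Mathlib
import Groth.Prelude
import Groth.Agent.Lib.Helper8.CplSplit1

/-!
# Split exactness of the completion of a short exact sequence with flat cokernel whose reduction
is projective
-/

set_option autoImplicit false

universe u

namespace Groth.Agent.Helper8.CplSplit

open TensorProduct Groth.Agent.Helper8.FreeCpl Groth.Agent.Helper8.ArtFlat

section exact

variable {R : Type u} [CommRing R] (I : Ideal R)
  {K P M : Type u} [AddCommGroup K] [Module R K] [AddCommGroup P] [Module R P]
  [AddCommGroup M] [Module R M] (f : K →ₗ[R] P) (g : P →ₗ[R] M)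
  (hf : Function.Injective f) (hg : Function.Surjective g) (hfg : Function.Exact f g)

include hf hg hfg in
theorem mem_smul_top_of_exact [Module.Flat R M] (J : Ideal R) (k : K)
    (hk : f k ∈ J • (⊤ : Submodule R P)) : k ∈ J • (⊤ : Submodule R K) := by
  have h := LinearMap.lTensor_injective_of_exact_of_flat g hg f hf hfg (R ⧸ J)
  have h1 : (f.lTensor (R ⧸ J)) ((1 : R ⧸ J) ⊗ₜ[R] k) = 0 := by
    rw [LinearMap.lTensor_tmul]
    apply (TensorProduct.quotTensorEquivQuotSMul P J).injective
    rw [TensorProduct.quotTensorEquivQuotSMul_mk_one_tmul, map_zero,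
      Submodule.Quotient.mk_eq_zero]
    exact hk
  have h2 : ((1 : R ⧸ J) ⊗ₜ[R] k : (R ⧸ J) ⊗[R] K) = 0 := h (h1.trans (map_zero _).symm)
  have h3 := congrArg (TensorProduct.quotTensorEquivQuotSMul K J) h2
  rw [TensorProduct.quotTensorEquivQuotSMul_mk_one_tmul, map_zero,
    Submodule.Quotient.mk_eq_zero] at h3
  exact h3

include hg in
omit [AddCommGroup K] [Module R K] in
theorem exists_mem_smul_top_map_eq (J : Ideal R) {m : M} (hm : m ∈ J • (⊤ : Submodule R M)) :
    ∃ p ∈ J • (⊤ : Submodule R P), g p = m := by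
  refine Submodule.smul_induction_on hm (fun a ha y _ => ?_) (fun x y hx hy => ?_)
  · obtain ⟨p, rfl⟩ := hg y
    exact ⟨a • p, Submodule.smul_mem_smul ha Submodule.mem_top, map_smul _ _ _⟩
  · obtain ⟨p₁, h₁, rfl⟩ := hx
    obtain ⟨p₂, h₂, rfl⟩ := hy
    exact ⟨p₁ + p₂, Submodule.add_mem _ h₁ h₂, map_add _ _ _⟩

include hf hg hfg in
theorem map_injective_of_flat [Module.Flat R M] : Function.Injective (AdicCompletion.map I f) := by
  rw [injective_iff_map_eq_zero]
  intro x
  obtain ⟨s, rfl⟩ := AdicCompletion.mk_surjective I _ x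
  intro hs
  apply AdicCompletion.ext
  intro n
  rw [AdicCompletion.mk_apply_coe, Submodule.mkQ_apply, AdicCompletion.val_zero_apply,
    Submodule.Quotient.mk_eq_zero]
  apply mem_smul_top_of_exact f g hf hg hfg (I ^ n)
  have h1 : (AdicCompletion.map I f (AdicCompletion.mk I K s)).val n = 0 := by
    rw [hs]; rfl
  rw [AdicCompletion.map_mk, AdicCompletion.mk_apply_coe, Submodule.mkQ_apply,
    Submodule.Quotient.mk_eq_zero] at h1
  exact h1

include hf hg hfg in
theorem map_exact_of_flat [Module.Flat R M] :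
    Function.Exact (AdicCompletion.map I f) (AdicCompletion.map I g) := by
  intro y
  constructor
  · obtain ⟨t, rfl⟩ := AdicCompletion.mk_surjective I _ y
    intro hy
    have hgt : ∀ n, g (t n) ∈ I ^ n • (⊤ : Submodule R M) := by
      intro n
      have h1 : (AdicCompletion.map I g (AdicCompletion.mk I P t)).val n = 0 := by
        rw [hy]; rfl
      rw [AdicCompletion.map_mk, AdicCompletion.mk_apply_coe, Submodule.mkQ_apply,
        Submodule.Quotient.mk_eq_zero] at h1
      exact h1
    choose p hp hgp using fun n => exists_mem_smul_top_map_eq g hg (I ^ n) (hgt n)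
    have hker : ∀ n, ∃ k : K, f k = t n - p n := by
      intro n
      apply (hfg _).mp
      rw [map_sub, hgp n, sub_self]
    choose k hk using hker
    have hcauchy : ∀ n, k n ≡ k (n + 1) [SMOD (I ^ n • ⊤ : Submodule R K)] := by
      intro n
      rw [SModEq.sub_mem]
      apply mem_smul_top_of_exact f g hf hg hfg (I ^ n)
      have h1 : f (k n - k (n + 1)) = (t n - t (n + 1)) - p n + p (n + 1) := by
        rw [map_sub, hk, hk]; abel
      rw [h1]
      refine Submodule.add_mem _ (Submodule.sub_mem _ ?_ (hp n)) ?_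
      · exact (SModEq.sub_mem).mp (t.2 (Nat.le_succ n))
      · exact Submodule.smul_mono_left (Ideal.pow_le_pow_right (Nat.le_succ n)) (hp (n + 1))
    refine ⟨AdicCompletion.mk I K (AdicCompletion.AdicCauchySequence.mk I K k hcauchy), ?_⟩
    apply AdicCompletion.ext
    intro n
    rw [AdicCompletion.map_mk, AdicCompletion.mk_apply_coe, AdicCompletion.mk_apply_coe,
      Submodule.mkQ_apply, Submodule.mkQ_apply, Submodule.Quotient.eq]
    change f (k n) - t n ∈ _
    rw [hk n, sub_sub_cancel_left]
    exact Submodule.neg_mem _ (hp n)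
  · rintro ⟨x, rfl⟩
    rw [AdicCompletion.map_comp_apply]
    have h0 : g ∘ₗ f = 0 := by
      ext k
      exact (hfg (f k)).mpr ⟨k, rfl⟩
    rw [h0]
    apply AdicCompletion.ext
    intro n
    obtain ⟨s, rfl⟩ := AdicCompletion.mk_surjective I _ x
    rw [AdicCompletion.map_mk, AdicCompletion.mk_apply_coe, AdicCompletion.val_zero_apply]
    rfl

end exact

section split

variable (R : Type u) [CommRing R] (I : Ideal R)
  (K P M : Type u) [AddCommGroup K] [Module R K] [AddCommGroup P] [Module R P]
  [AddCommGroup M] [Module R M] (f : K →ₗ[R] P) (g : P →ₗ[R] M)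
  (hg : Function.Surjective g)
  [Module.Flat R M] [Module.Projective (R ⧸ I) (M ⧸ (I • ⊤ : Submodule R M))]

include hg in
omit [AddCommGroup K] [Module R K] in
theorem exists_section :
    ∃ s : AdicCompletion I M →ₗ[AdicCompletion I R] AdicCompletion I P,
      AdicCompletion.map I g ∘ₗ s = LinearMap.id := by
  classical
  obtain ⟨β, φ, hinj, hsurj⟩ := exists_cover R I M
  haveI : Module.Flat R (M × (β →₀ R)) := flat_prod M (β →₀ R)
  have hbij := map_bijective' I φ hinj hsurj
  let Φ : AdicCompletion I (β →₀ R) ≃ₗ[AdicCompletion I R] AdicCompletion I (M × (β →₀ R)) :=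
    LinearEquiv.ofBijective (AdicCompletion.map I φ) hbij
  choose v hv using fun b : β => hg ((φ (Finsupp.single b 1)).1)
  let ψ : (β →₀ R) →ₗ[R] P := Finsupp.linearCombination R v
  have hψ : g ∘ₗ ψ = (LinearMap.fst R M (β →₀ R)) ∘ₗ φ := by
    apply Finsupp.lhom_ext
    intro b r
    simp only [LinearMap.comp_apply, ψ, Finsupp.linearCombination_single, map_smul, hv,
      LinearMap.fst_apply]
    rw [← Prod.smul_fst, ← map_smul, Finsupp.smul_single, smul_eq_mul, mul_one]
  refine ⟨AdicCompletion.map I ψ ∘ₗ Φ.symm.toLinearMap ∘ₗ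
    AdicCompletion.map I (LinearMap.inl R M (β →₀ R)), ?_⟩
  apply LinearMap.ext
  intro x
  simp only [LinearMap.comp_apply, LinearEquiv.coe_coe, LinearMap.id_apply]
  rw [AdicCompletion.map_comp_apply, hψ, ← AdicCompletion.map_comp_apply]
  have h1 : AdicCompletion.map I φ
      (Φ.symm (AdicCompletion.map I (LinearMap.inl R M (β →₀ R)) x)) =
      AdicCompletion.map I (LinearMap.inl R M (β →₀ R)) x := Φ.apply_symm_apply _
  rw [h1, AdicCompletion.map_comp_apply, LinearMap.fst_comp_inl, AdicCompletion.map_id]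
  rfl

end split

end Groth.Agent.Helper8.CplSplit
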