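import Mathlib
import Groth.Agent.Lib.Helper8.RegularLocal

/-!
# Curvilinear jets: truncated polynomial rings and polynomial approximation in a local ring
-/

set_option autoImplicit false
universe u
open Polynomial IsLocalRing

namespace Groth.Agent.Helper8.CurvJet

/-- the truncated polynomial ring `k[X]/(X^n)` -/
abbrev Q (k : Type u) [Field k] (n : ℕ) : Type u := k[X] ⧸ Ideal.span {(X : k[X]) ^ n}

theorem hle (k : Type u) [Field k] (l : ℕ) :
    Ideal.span {(X : k[X]) ^ (l + 1)} ≤ Ideal.span {(X : k[X]) ^ l} :=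
  Ideal.span_singleton_le_span_singleton.mpr (pow_dvd_pow X (Nat.le_succ l))

/-- constant coefficient on the truncated polynomial ring -/
noncomputable def eps (k : Type u) [Field k] (n : ℕ) (hn : n ≠ 0) : Q k n →ₐ[k] k :=
  Ideal.Quotient.liftₐ (Ideal.span {(X : k[X]) ^ n}) (Polynomial.aeval (0 : k)) (by
    intro q hq
    obtain ⟨w, rfl⟩ := Ideal.mem_span_singleton.mp hq
    rw [map_mul, map_pow, Polynomial.aeval_X, zero_pow hn, zero_mul])

section Trunc
variable (k : Type u) [Field k]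

theorem eps_mk (n : ℕ) (hn : n ≠ 0) (q : k[X]) :
    eps k n hn (Ideal.Quotient.mk _ q) = q.coeff 0 := by
  rw [Polynomial.coeff_zero_eq_aeval_zero]
  rfl

theorem exists_eq_mk_X_mul (n : ℕ) (hn : n ≠ 0) (z : Q k n) (hz : eps k n hn z = 0) :
    ∃ w : k[X], z = Ideal.Quotient.mk _ (X * w) := by
  obtain ⟨q, rfl⟩ := Ideal.Quotient.mk_surjective z
  rw [eps_mk] at hz
  refine ⟨q.divX, ?_⟩
  have h := Polynomial.X_mul_divX_add q
  rw [hz, map_zero, add_zero] at h
  rw [h]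

theorem mk_X_mul_pow (n : ℕ) (w : k[X]) :
    (Ideal.Quotient.mk (Ideal.span {(X : k[X]) ^ n}) (X * w)) ^ n = 0 := by
  rw [← map_pow, Ideal.Quotient.eq_zero_iff_mem, Ideal.mem_span_singleton, mul_pow]
  exact Dvd.intro _ rfl

theorem isUnit_of_eps_ne_zero (n : ℕ) (hn : n ≠ 0) (z : Q k n) (hz : eps k n hn z ≠ 0) :
    IsUnit z := by
  obtain ⟨q, rfl⟩ := Ideal.Quotient.mk_surjective z
  rw [eps_mk] at hz
  have hq : Ideal.Quotient.mk (Ideal.span {(X : k[X]) ^ n}) q =
      Ideal.Quotient.mk _ (C (q.coeff 0)) + Ideal.Quotient.mk _ (X * q.divX) := by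
    rw [← map_add, add_comm, Polynomial.X_mul_divX_add q]
  rw [hq]
  have hu : IsUnit (Ideal.Quotient.mk (Ideal.span {(X : k[X]) ^ n}) (C (q.coeff 0))) :=
    (Polynomial.isUnit_C.mpr (IsUnit.mk0 _ hz)).map _
  have hnil : IsNilpotent (Ideal.Quotient.mk (Ideal.span {(X : k[X]) ^ n}) (X * q.divX)) :=
    ⟨n, mk_X_mul_pow k n _⟩
  exact hnil.isUnit_add_left_of_commute hu (Commute.all _ _)

theorem eps_factor (l : ℕ) (hl : l ≠ 0) (z : Q k (l + 1)) :
    eps k l hl (Ideal.Quotient.factorₐ k (hle k l) z) = eps k (l + 1) (Nat.succ_ne_zero l) z := by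
  obtain ⟨q, rfl⟩ := Ideal.Quotient.mk_surjective z
  rw [eps_mk]
  exact eps_mk k l hl q

theorem ker_factor_sq (l : ℕ) (hl : l ≠ 0) :
    RingHom.ker (Ideal.Quotient.factorₐ k (hle k l) : Q k (l + 1) →+* Q k l) ^ 2 = ⊥ := by
  rw [sq, eq_bot_iff, Ideal.mul_le]
  intro x hx y hy
  obtain ⟨p, rfl⟩ := Ideal.Quotient.mk_surjective x
  obtain ⟨q, rfl⟩ := Ideal.Quotient.mk_surjective y
  rw [RingHom.mem_ker] at hx hy
  have hx' : (X : k[X]) ^ l ∣ p := by
    rw [← Ideal.mem_span_singleton, ← Ideal.Quotient.eq_zero_iff_mem]; exact hx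
  have hy' : (X : k[X]) ^ l ∣ q := by
    rw [← Ideal.mem_span_singleton, ← Ideal.Quotient.eq_zero_iff_mem]; exact hy
  rw [Ideal.mem_bot, ← map_mul, Ideal.Quotient.eq_zero_iff_mem, Ideal.mem_span_singleton]
  have h2 : (X : k[X]) ^ (l + 1) ∣ X ^ l * X ^ l := by
    rw [← pow_add]; exact pow_dvd_pow X (by omega)
  exact dvd_trans h2 (mul_dvd_mul hx' hy')

end Trunc

section Local
variable {k : Type u} [Field k] {B : Type u} [CommRing B] [IsLocalRing B] [Algebra k B]

theorem exists_const (hres : Function.Surjective (algebraMap k (ResidueField B))) (b : B) :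
    ∃ c : k, b - algebraMap k B c ∈ maximalIdeal B := by
  obtain ⟨c, hc⟩ := hres (residue B b)
  refine ⟨c, ?_⟩
  rw [← IsLocalRing.residue_eq_zero_iff, map_sub, ← hc]
  rw [IsScalarTower.algebraMap_apply k B (ResidueField B)]
  simp

theorem algebraMap_notMem {c : k} (hc : c ≠ 0) : algebraMap k B c ∉ maximalIdeal B := fun h =>
  (IsLocalRing.mem_maximalIdeal _).mp h ((IsUnit.mk0 c hc).map (algebraMap k B))

/-- a jet sends the maximal ideal to elements without constant term -/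
theorem eps_jet_eq_zero (n : ℕ) (hn : n ≠ 0) (Φ : B →ₐ[k] Q k n) (y : B)
    (hy : y ∈ maximalIdeal B) : eps k n hn (Φ y) = 0 := by
  by_contra hc
  have h1 : ((eps k n hn).comp Φ) (y - algebraMap k B (eps k n hn (Φ y))) = 0 := by
    rw [map_sub, AlgHom.commutes, AlgHom.comp_apply]
    simp
  have hunit : IsUnit (y - algebraMap k B (eps k n hn (Φ y))) := by
    by_contra hnu
    have hmem : y - algebraMap k B (eps k n hn (Φ y)) ∈ maximalIdeal B :=
      (IsLocalRing.mem_maximalIdeal _).mpr hnu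
    have h2 := Ideal.sub_mem _ hy hmem
    rw [sub_sub_cancel] at h2
    exact algebraMap_notMem hc h2
  have h3 := hunit.map ((eps k n hn).comp Φ)
  rw [h1] at h3
  exact not_isUnit_zero h3

theorem jet_maximalIdeal (n : ℕ) (hn : n ≠ 0) (Φ : B →ₐ[k] Q k n) (y : B)
    (hy : y ∈ maximalIdeal B) : ∃ w : k[X], Φ y = Ideal.Quotient.mk _ (X * w) :=
  exists_eq_mk_X_mul k n hn _ (eps_jet_eq_zero n hn Φ y hy)

theorem jet_pow_eq_zero (n : ℕ) (hn : n ≠ 0) (Φ : B →ₐ[k] Q k n) :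
    ∀ (m : ℕ) (y : B), y ∈ maximalIdeal B ^ m →
      ∃ w : k[X], Φ y = Ideal.Quotient.mk _ (X ^ m * w) := by
  intro m
  induction m with
  | zero =>
    intro y _
    obtain ⟨q, hq⟩ := Ideal.Quotient.mk_surjective (Φ y)
    exact ⟨q, by rw [pow_zero, one_mul, hq]⟩
  | succ m ih =>
    intro y hy
    rw [pow_succ] at hy
    refine Submodule.mul_induction_on hy ?_ ?_
    · intro a ha b hb
      obtain ⟨wa, hwa⟩ := ih a ha
      obtain ⟨wb, hwb⟩ := jet_maximalIdeal n hn Φ b hb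
      refine ⟨wa * wb, ?_⟩
      rw [map_mul, hwa, hwb, ← map_mul]
      congr 1
      ring
    · intro x x' ⟨w, hw⟩ ⟨w', hw'⟩
      exact ⟨w + w', by rw [map_add, hw, hw', ← map_add]; congr 1; ring⟩

theorem jet_eq_zero_of_mem_pow (n : ℕ) (hn : n ≠ 0) (Φ : B →ₐ[k] Q k n) (y : B)
    (hy : y ∈ maximalIdeal B ^ n) : Φ y = 0 := by
  obtain ⟨w, hw⟩ := jet_pow_eq_zero n hn Φ n y hy
  rw [hw, Ideal.Quotient.eq_zero_iff_mem, Ideal.mem_span_singleton]
  exact Dvd.intro _ rfl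

end Local

end Groth.Agent.Helper8.CurvJet
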