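import Groth.Agent.Lib.Helper8.CurvJet1

/-!
# Curvilinear jets: polynomial approximation in a local ring with residue field `k`
-/

set_option autoImplicit false
universe u
open Polynomial IsLocalRing

namespace Groth.Agent.Helper8.CurvJet

section Poly
variable {k : Type u} [Field k] {B : Type u} [CommRing B] [IsLocalRing B] [Algebra k B]
variable {ι : Type u} [Fintype ι] (g : ι → B) (hg : ∀ i, g i ∈ maximalIdeal B)
include hg

theorem aeval_mem_pow (D : ℕ) (p : MvPolynomial ι k)
    (hp : p ∈ MvPolynomial.idealOfVars ι k ^ D) :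
    MvPolynomial.aeval g p ∈ maximalIdeal B ^ D := by
  have h1 : MvPolynomial.aeval g p ∈
      Ideal.map (MvPolynomial.aeval g) (MvPolynomial.idealOfVars ι k ^ D) :=
    Ideal.mem_map_of_mem _ hp
  rw [Ideal.map_pow, Ideal.map_span, ← Set.range_comp] at h1
  refine Ideal.pow_right_mono (Ideal.span_le.mpr ?_) D h1
  rintro _ ⟨i, rfl⟩
  simpa using hg i

theorem sub_C_mem (q : MvPolynomial ι k) :
    q - MvPolynomial.C (MvPolynomial.coeff 0 q) ∈ MvPolynomial.idealOfVars ι k := by
  rw [← pow_one (MvPolynomial.idealOfVars ι k), MvPolynomial.mem_pow_idealOfVars_iff']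
  intro x hx
  have hx0 : x = 0 := by
    rw [Nat.lt_one_iff] at hx
    exact (Finsupp.degree_eq_zero_iff _).mp hx
  subst hx0
  simp

theorem mem_idealOfVars_of_aeval_mem (p : MvPolynomial ι k)
    (h : MvPolynomial.aeval g p ∈ maximalIdeal B) : p ∈ MvPolynomial.idealOfVars ι k := by
  have h1 := sub_C_mem g hg p
  have h2 : MvPolynomial.aeval g (p - MvPolynomial.C (MvPolynomial.coeff 0 p)) ∈
      maximalIdeal B := by
    have := aeval_mem_pow g hg 1 _ (by rwa [pow_one])
    rwa [pow_one] at this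
  have h3 : algebraMap k B (MvPolynomial.coeff 0 p) ∈ maximalIdeal B := by
    rw [map_sub, MvPolynomial.aeval_C] at h2
    have := Ideal.sub_mem _ h h2
    rwa [sub_sub_cancel] at this
  have h4 : MvPolynomial.coeff 0 p = 0 := by
    by_contra hne
    exact algebraMap_notMem hne h3
  rw [h4, map_zero, sub_zero] at h1
  exact h1

omit [Fintype ι] in
theorem coeff_eq_zero_of_linear_mem_sq [Fintype ι]
    (hli : LinearIndependent (ResidueField B)
      (fun i => (maximalIdeal B).toCotangent ⟨g i, hg i⟩))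
    (c : ι → k) (h : ∑ j, algebraMap k B (c j) * g j ∈ maximalIdeal B ^ 2) : ∀ j, c j = 0 := by
  intro j
  have hz : (maximalIdeal B).toCotangent
      (∑ j, algebraMap k B (c j) • (⟨g j, hg j⟩ : maximalIdeal B)) = 0 := by
    rw [Ideal.toCotangent_eq_zero]
    simpa [Submodule.coe_sum, smul_eq_mul, Algebra.smul_def] using h
  rw [map_sum] at hz
  have hz' : ∑ j, algebraMap k (ResidueField B) (c j) •
      (maximalIdeal B).toCotangent ⟨g j, hg j⟩ = 0 := by
    rw [← hz]
    refine Finset.sum_congr rfl fun j _ => ?_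
    rw [map_smul, IsScalarTower.algebraMap_apply k B (ResidueField B), algebraMap_smul]
  have := Fintype.linearIndependent_iff.mp hli _ hz' j
  exact (map_eq_zero (algebraMap k (ResidueField B))).mp this

theorem mem_sq_of_aeval_mem_sq
    (hli : LinearIndependent (ResidueField B)
      (fun i => (maximalIdeal B).toCotangent ⟨g i, hg i⟩))
    (p : MvPolynomial ι k) (h : MvPolynomial.aeval g p ∈ maximalIdeal B ^ 2) :
    p ∈ MvPolynomial.idealOfVars ι k ^ 2 := by
  have hp1 : p ∈ MvPolynomial.idealOfVars ι k :=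
    mem_idealOfVars_of_aeval_mem g hg p (Ideal.pow_le_self two_ne_zero h)
  obtain ⟨q, rfl⟩ := Ideal.mem_span_range_iff_exists_fun.mp hp1
  have hq' : ∀ j, q j - MvPolynomial.C (MvPolynomial.coeff 0 (q j)) ∈
      MvPolynomial.idealOfVars ι k := fun j => sub_C_mem g hg (q j)
  have hrest : ∑ j, (q j - MvPolynomial.C (MvPolynomial.coeff 0 (q j))) * MvPolynomial.X j ∈
      MvPolynomial.idealOfVars ι k ^ 2 := by
    rw [sq]
    exact Ideal.sum_mem _ fun j _ => Ideal.mul_mem_mul (hq' j) (Ideal.subset_span ⟨j, rfl⟩)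
  have hsplit : ∑ j, q j * MvPolynomial.X j =
      ∑ j, MvPolynomial.C (MvPolynomial.coeff 0 (q j)) * MvPolynomial.X j +
        ∑ j, (q j - MvPolynomial.C (MvPolynomial.coeff 0 (q j))) * MvPolynomial.X j := by
    rw [← Finset.sum_add_distrib]
    exact Finset.sum_congr rfl fun j _ => by ring
  have h5 : ∑ j, algebraMap k B (MvPolynomial.coeff 0 (q j)) * g j ∈ maximalIdeal B ^ 2 := by
    have h6 := aeval_mem_pow g hg 2 _ hrest
    rw [hsplit, map_add] at h
    have h7 := Ideal.sub_mem _ h h6
    rw [add_sub_cancel_right] at h7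
    simpa [map_sum, MvPolynomial.aeval_C, MvPolynomial.aeval_X] using h7
  have hc := coeff_eq_zero_of_linear_mem_sq g hg hli _ h5
  rw [hsplit]
  have h0 : ∑ j, MvPolynomial.C (MvPolynomial.coeff 0 (q j)) * MvPolynomial.X j =
      (0 : MvPolynomial ι k) :=
    Finset.sum_eq_zero fun j _ => by rw [hc j, map_zero, zero_mul]
  rw [h0, zero_add]
  exact hrest

theorem mem_pow_succ_of_aeval (D : ℕ)
    (hJ : ∀ p : MvPolynomial ι k,
      MvPolynomial.aeval g (MvPolynomial.homogeneousComponent D p) ∈ maximalIdeal B ^ (D + 1) →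
        MvPolynomial.homogeneousComponent D p = 0)
    (hI : ∀ p : MvPolynomial ι k, MvPolynomial.aeval g p ∈ maximalIdeal B ^ D →
      p ∈ MvPolynomial.idealOfVars ι k ^ D)
    (p : MvPolynomial ι k) (h : MvPolynomial.aeval g p ∈ maximalIdeal B ^ (D + 1)) :
    p ∈ MvPolynomial.idealOfVars ι k ^ (D + 1) := by
  have hpD : p ∈ MvPolynomial.idealOfVars ι k ^ D :=
    hI p (Ideal.pow_le_pow_right (Nat.le_succ D) h)
  have hrest : p - MvPolynomial.homogeneousComponent D p ∈
      MvPolynomial.idealOfVars ι k ^ (D + 1) := by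
    rw [MvPolynomial.mem_pow_idealOfVars_iff']
    intro x hx
    rw [MvPolynomial.coeff_sub, MvPolynomial.coeff_homogeneousComponent]
    split_ifs with hdeg
    · exact sub_self _
    · rw [sub_zero]
      exact (MvPolynomial.mem_pow_idealOfVars_iff' D p).mp hpD x (by omega)
  have h1 := aeval_mem_pow g hg (D + 1) _ hrest
  have h2 : MvPolynomial.aeval g (MvPolynomial.homogeneousComponent D p) ∈
      maximalIdeal B ^ (D + 1) := by
    have := Ideal.sub_mem _ h h1
    rwa [map_sub, sub_sub_cancel] at this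
  rw [hJ p h2, sub_zero] at hrest
  exact hrest

end Poly

section Approx
variable {k : Type u} [Field k] {B : Type u} [CommRing B] [IsLocalRing B] [Algebra k B]
variable {ι : Type u} [Fintype ι] (g : ι → B) (hg : ∀ i, g i ∈ maximalIdeal B)
  (hspan : Ideal.span (Set.range g) = maximalIdeal B)
  (hres : Function.Surjective (algebraMap k (ResidueField B)))
include hg hspan hres

theorem exists_linear_approx (b : B) (hb : b ∈ maximalIdeal B) :
    ∃ q : MvPolynomial ι k, MvPolynomial.aeval g q ∈ maximalIdeal B ∧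
      b - MvPolynomial.aeval g q ∈ maximalIdeal B ^ 2 := by
  rw [← hspan] at hb
  obtain ⟨β, rfl⟩ := Ideal.mem_span_range_iff_exists_fun.mp hb
  choose γ hγ using fun i => exists_const hres (β i)
  refine ⟨∑ i, MvPolynomial.C (γ i) * MvPolynomial.X i, ?_, ?_⟩
  · rw [map_sum]
    refine Ideal.sum_mem _ fun i _ => ?_
    rw [map_mul, MvPolynomial.aeval_X]
    exact Ideal.mul_mem_left _ _ (hg i)
  · rw [map_sum, ← Finset.sum_sub_distrib]
    refine Ideal.sum_mem _ fun i _ => ?_
    rw [map_mul, MvPolynomial.aeval_X, MvPolynomial.aeval_C, ← sub_mul, sq]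
    exact Ideal.mul_mem_mul (hγ i) (hg i)

theorem exists_approx_of_mem_pow (D : ℕ) : ∀ y ∈ maximalIdeal B ^ D,
    ∃ q : MvPolynomial ι k, y - MvPolynomial.aeval g q ∈ maximalIdeal B ^ (D + 1) := by
  induction D with
  | zero =>
    intro y _
    obtain ⟨c, hc⟩ := exists_const hres y
    exact ⟨MvPolynomial.C c, by rwa [MvPolynomial.aeval_C, zero_add, pow_one]⟩
  | succ D ih =>
    intro y hy
    rw [pow_succ] at hy
    refine Submodule.mul_induction_on hy ?_ ?_
    · intro a ha b hb
      obtain ⟨qa, hqa⟩ := ih a ha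
      obtain ⟨qb, hqb1, hqb2⟩ := exists_linear_approx g hg hspan hres b hb
      refine ⟨qa * qb, ?_⟩
      have e : a * b - MvPolynomial.aeval g (qa * qb) =
          a * (b - MvPolynomial.aeval g qb) +
            (a - MvPolynomial.aeval g qa) * MvPolynomial.aeval g qb := by
        rw [map_mul]; ring
      rw [e]
      refine Ideal.add_mem _ ?_ ?_
      · rw [show D + 1 + 1 = D + 2 from rfl, pow_add]
        exact Ideal.mul_mem_mul ha hqb2
      · rw [pow_succ]
        exact Ideal.mul_mem_mul hqa hqb1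
    · intro x x' ⟨q, hq⟩ ⟨q', hq'⟩
      refine ⟨q + q', ?_⟩
      have e : x + x' - MvPolynomial.aeval g (q + q') =
          (x - MvPolynomial.aeval g q) + (x' - MvPolynomial.aeval g q') := by
        rw [map_add]; ring
      rw [e]
      exact Ideal.add_mem _ hq hq'

theorem exists_approx (D : ℕ) (b : B) :
    ∃ p : MvPolynomial ι k, b - MvPolynomial.aeval g p ∈ maximalIdeal B ^ D := by
  induction D with
  | zero => exact ⟨0, by simp⟩
  | succ D ih =>
    obtain ⟨p, hp⟩ := ih
    obtain ⟨q, hq⟩ := exists_approx_of_mem_pow g hg hspan hres D _ hp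
    exact ⟨p + q, by rw [map_add, ← sub_sub]; exact hq⟩

/-- the generic construction of algebra maps out of `B` killing a power of the maximal ideal -/
theorem exists_algHom_of_vanish (D : ℕ)
    (hI : ∀ p : MvPolynomial ι k, MvPolynomial.aeval g p ∈ maximalIdeal B ^ D →
      p ∈ MvPolynomial.idealOfVars ι k ^ D)
    {T : Type u} [CommRing T] [Algebra k T] (c : ι → T)
    (hc : ∀ p ∈ MvPolynomial.idealOfVars ι k ^ D, MvPolynomial.aeval c p = 0) :
    ∃ Θ : B →ₐ[k] T, (∀ p : MvPolynomial ι k, Θ (MvPolynomial.aeval g p) = MvPolynomial.aeval c p) ∧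
      ∀ y ∈ maximalIdeal B ^ D, Θ y = 0 := by
  let evD : MvPolynomial ι k →ₐ[k] B ⧸ maximalIdeal B ^ D :=
    (Ideal.Quotient.mkₐ k (maximalIdeal B ^ D)).comp (MvPolynomial.aeval g)
  have hsurj : Function.Surjective evD := by
    intro x
    obtain ⟨b, rfl⟩ := Ideal.Quotient.mk_surjective x
    obtain ⟨p, hp⟩ := exists_approx g hg hspan hres D b
    exact ⟨p, (Ideal.Quotient.eq.mpr hp).symm⟩
  have hker : RingHom.ker evD.toRingHom ≤
      RingHom.ker (MvPolynomial.aeval c : MvPolynomial ι k →ₐ[k] T).toRingHom := by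
    intro p hp
    rw [RingHom.mem_ker] at hp ⊢
    apply hc
    apply hI
    exact Ideal.Quotient.eq_zero_iff_mem.mp hp
  refine ⟨(AlgHom.liftOfSurjective evD hsurj (MvPolynomial.aeval c) hker).comp
    (Ideal.Quotient.mkₐ k (maximalIdeal B ^ D)), ?_, ?_⟩
  · intro p
    exact AlgHom.liftOfSurjective_apply evD hsurj (MvPolynomial.aeval c) hker p
  · intro y hy
    have : Ideal.Quotient.mkₐ k (maximalIdeal B ^ D) y = 0 :=
      Ideal.Quotient.eq_zero_iff_mem.mpr hy
    rw [AlgHom.comp_apply, this, map_zero]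

end Approx

/-- evaluating a homogeneous component at a multiple of `X` -/
theorem aeval_X_mul_homogeneousComponent {k : Type u} [Field k] {ι : Type u} [Fintype ι]
    (e : ℕ) (p : MvPolynomial ι k) (u : ι → k[X]) :
    MvPolynomial.aeval (fun i => X * u i) (MvPolynomial.homogeneousComponent e p) =
      X ^ e * MvPolynomial.aeval u (MvPolynomial.homogeneousComponent e p) := by
  rw [MvPolynomial.aeval_def, MvPolynomial.aeval_def, MvPolynomial.eval₂_eq',
    MvPolynomial.eval₂_eq', Finset.mul_sum]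
  refine Finset.sum_congr rfl fun d hd => ?_
  have hdeg : ∑ i, d i = e := by
    have hne := MvPolynomial.mem_support_iff.mp hd
    rw [MvPolynomial.coeff_homogeneousComponent] at hne
    by_contra hcon
    rw [if_neg (by rwa [Finsupp.degree_eq_sum])] at hne
    exact hne rfl
  simp_rw [mul_pow]
  rw [Finset.prod_mul_distrib, Finset.prod_pow_eq_pow_sum, hdeg]
  ring

end Groth.Agent.Helper8.CurvJet
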