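import Groth.Agent.Lib.Helper8.CurvJet2
import Groth.Prelude.Def_CAlgX
import Groth.Agent.S2453
import Groth.Agent.S2451

/-!
# Curvilinear jets detect regularity (local statement)
-/

set_option autoImplicit false
universe u
open Polynomial IsLocalRing

namespace Groth.Agent.Helper8.CurvJet

section Jets
variable {k : Type u} [Field k] {B : Type u} [CommRing B] [IsLocalRing B] [Algebra k B]
variable {ι : Type u} [Fintype ι] (g : ι → B) (hg : ∀ i, g i ∈ maximalIdeal B)
  (hspan : Ideal.span (Set.range g) = maximalIdeal B)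
  (hres : Function.Surjective (algebraMap k (ResidueField B)))
include hg

section
include hspan hres

theorem exists_jet_two
    (hI2 : ∀ p : MvPolynomial ι k, MvPolynomial.aeval g p ∈ maximalIdeal B ^ 2 →
      p ∈ MvPolynomial.idealOfVars ι k ^ 2) (a : ι → k) :
    ∃ Φ : B →ₐ[k] Q k 2, ∀ i, Φ (g i) = Ideal.Quotient.mk _ (C (a i) * X) := by
  have hc : ∀ p ∈ MvPolynomial.idealOfVars ι k ^ 2,
      MvPolynomial.aeval
        (fun i => (Ideal.Quotient.mk (Ideal.span {(X : k[X]) ^ 2}) (C (a i) * X))) p = 0 := by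
    intro p hp
    set c : ι → Q k 2 :=
      fun i => Ideal.Quotient.mk (Ideal.span {(X : k[X]) ^ 2}) (C (a i) * X) with hcdef
    have h1 : MvPolynomial.aeval c p ∈
        Ideal.map (MvPolynomial.aeval c) (MvPolynomial.idealOfVars ι k ^ 2) :=
      Ideal.mem_map_of_mem _ hp
    rw [Ideal.map_pow, Ideal.map_span, ← Set.range_comp] at h1
    have h2 : MvPolynomial.aeval c p ∈
        (Ideal.span {Ideal.Quotient.mk (Ideal.span {(X : k[X]) ^ 2}) X}) ^ 2 := by
      refine Ideal.pow_right_mono (Ideal.span_le.mpr ?_) 2 h1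
      rintro _ ⟨i, rfl⟩
      simp only [Function.comp_apply, MvPolynomial.aeval_X, hcdef, SetLike.mem_coe]
      rw [map_mul]
      exact Ideal.mul_mem_left _ _ (Ideal.subset_span rfl)
    rw [Ideal.span_singleton_pow, ← map_pow] at h2
    have h0 : Ideal.Quotient.mk (Ideal.span {(X : k[X]) ^ 2}) (X ^ 2) = 0 :=
      Ideal.Quotient.eq_zero_iff_mem.mpr (Ideal.subset_span rfl)
    rw [h0, Ideal.span_singleton_eq_bot.mpr rfl] at h2
    exact Ideal.mem_bot.mp h2
  obtain ⟨Θ, hΘ, -⟩ := exists_algHom_of_vanish g hg hspan hres 2 hI2 _ hc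
  refine ⟨Θ, fun i => ?_⟩
  have := hΘ (MvPolynomial.X i)
  rwa [MvPolynomial.aeval_X, MvPolynomial.aeval_X] at this

theorem exists_jet
    (hH : ∀ l, 1 ≤ l → ∀ φ : B →ₐ[k] Q k l, ∃ ψ : B →ₐ[k] Q k (l + 1),
      (Ideal.Quotient.factorₐ k (hle k l)).comp ψ = φ)
    (hI2 : ∀ p : MvPolynomial ι k, MvPolynomial.aeval g p ∈ maximalIdeal B ^ 2 →
      p ∈ MvPolynomial.idealOfVars ι k ^ 2) (a : ι → k) (l : ℕ) (hl : 2 ≤ l) :
    ∃ Φ : B →ₐ[k] Q k l, ∀ i, ∃ q : k[X],
      Φ (g i) = Ideal.Quotient.mk _ q ∧ X ^ 2 ∣ q - C (a i) * X := by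
  induction l, hl using Nat.le_induction with
  | base =>
    obtain ⟨Φ, hΦ⟩ := exists_jet_two g hg hspan hres hI2 a
    exact ⟨Φ, fun i => ⟨C (a i) * X, hΦ i, by rw [sub_self]; exact dvd_zero _⟩⟩
  | succ l hl ih =>
    obtain ⟨Φ, hΦ⟩ := ih
    obtain ⟨Ψ, hΨ⟩ := hH l (by omega) Φ
    refine ⟨Ψ, fun i => ?_⟩
    obtain ⟨q, hq1, hq2⟩ := hΦ i
    obtain ⟨q', hq'⟩ := Ideal.Quotient.mk_surjective (Ψ (g i))
    refine ⟨q', hq'.symm, ?_⟩
    have h1 : Ideal.Quotient.mk (Ideal.span {(X : k[X]) ^ l}) q' = Ideal.Quotient.mk _ q := by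
      have h := DFunLike.congr_fun hΨ (g i)
      rw [AlgHom.comp_apply, ← hq', hq1] at h
      exact h
    rw [Ideal.Quotient.eq, Ideal.mem_span_singleton] at h1
    have h2 : (X : k[X]) ^ 2 ∣ q' - q := dvd_trans (pow_dvd_pow X hl) h1
    have e : q' - C (a i) * X = (q' - q) + (q - C (a i) * X) := by ring
    rw [e]
    exact dvd_add h2 hq2

end

theorem homogeneousComponent_eq_zero_of_jets [Infinite k] (e : ℕ)
    (hjet : ∀ a : ι → k, ∃ Φ : B →ₐ[k] Q k (e + 1), ∀ i, ∃ q : k[X],
      Φ (g i) = Ideal.Quotient.mk _ q ∧ X ^ 2 ∣ q - C (a i) * X)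
    (p : MvPolynomial ι k)
    (h : MvPolynomial.aeval g (MvPolynomial.homogeneousComponent e p) ∈
      maximalIdeal B ^ (e + 1)) :
    MvPolynomial.homogeneousComponent e p = 0 := by
  apply MvPolynomial.funext
  intro a
  rw [map_zero]
  obtain ⟨Φ, hΦ⟩ := hjet a
  choose q hq1 hq2 using hΦ
  have hdiv : ∀ i, (X : k[X]) ∣ q i := by
    intro i
    have h1 : (X : k[X]) ∣ q i - C (a i) * X :=
      dvd_trans (dvd_pow_self X two_ne_zero) (hq2 i)
    have h2 : (X : k[X]) ∣ C (a i) * X := dvd_mul_left _ _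
    have h3 := dvd_add h1 h2
    rwa [sub_add_cancel] at h3
  choose u hu using hdiv
  have hu0 : ∀ i, (u i).coeff 0 = a i := by
    intro i
    obtain ⟨w, hw⟩ := hq2 i
    rw [hu i] at hw
    have h3 : X * (u i - C (a i)) = X * (X * w) := by
      rw [← mul_assoc, ← sq, ← hw]; ring
    have h4 := mul_left_cancel₀ Polynomial.X_ne_zero h3
    have h5 : u i = C (a i) + X * w := by rw [← h4]; ring
    rw [h5, coeff_add, coeff_C_zero, coeff_X_mul_zero, add_zero]
  have hzero : Φ (MvPolynomial.aeval g (MvPolynomial.homogeneousComponent e p)) = 0 :=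
    jet_eq_zero_of_mem_pow (e + 1) (Nat.succ_ne_zero e) Φ _ h
  have hcomp : Φ (MvPolynomial.aeval g (MvPolynomial.homogeneousComponent e p)) =
      Ideal.Quotient.mk _
        (MvPolynomial.aeval (fun i => X * u i) (MvPolynomial.homogeneousComponent e p)) := by
    rw [MvPolynomial.comp_aeval_apply]
    have hfun : (fun i => Φ (g i)) =
        fun i => Ideal.Quotient.mkₐ k (Ideal.span {(X : k[X]) ^ (e + 1)}) (X * u i) := by
      funext i
      rw [hq1 i, hu i]
      rfl
    rw [hfun, ← MvPolynomial.comp_aeval_apply]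
    rfl
  rw [hcomp, aeval_X_mul_homogeneousComponent, Ideal.Quotient.eq_zero_iff_mem,
    Ideal.mem_span_singleton, pow_succ] at hzero
  have hX : (X : k[X]) ∣ MvPolynomial.aeval u (MvPolynomial.homogeneousComponent e p) :=
    (mul_dvd_mul_iff_left (pow_ne_zero e Polynomial.X_ne_zero)).mp hzero
  rw [Polynomial.X_dvd_iff, Polynomial.coeff_zero_eq_aeval_zero,
    MvPolynomial.comp_aeval_apply] at hX
  have hfun2 : (fun i => Polynomial.aeval (0 : k) (u i)) = a := by
    funext i
    rw [← Polynomial.coeff_zero_eq_aeval_zero, hu0 i]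
  rw [hfun2, MvPolynomial.aeval_eq_eval] at hX
  exact hX

end Jets

theorem geomRed {k : Type u} [Field k] {B : Type u} [CommRing B] [IsLocalRing B] [Algebra k B]
    (hres : Function.Surjective (algebraMap k (ResidueField B))) :
    Algebra.IsGeometricallyReduced k (ResidueField B) := by
  have hbij : Function.Bijective (algebraMap k (ResidueField B)) :=
    ⟨(algebraMap k (ResidueField B)).injective, hres⟩
  let e : k ≃ₐ[k] ResidueField B := AlgEquiv.ofBijective (Algebra.ofId k _) hbij
  haveI : Algebra.FormallySmooth k (ResidueField B) := Algebra.FormallySmooth.of_equiv e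
  exact (Groth.Agent.S2451.result (k := k) (K := ResidueField B)).1 inferInstance

/-- A Noetherian local `k`-algebra with residue field `k` (`k` infinite) all of whose curvilinear
jets lift is regular. -/
theorem isRegularLocalRing_of_jets {k : Type u} [Field k] [Infinite k] {B : Type u} [CommRing B]
    [IsLocalRing B] [IsNoetherianRing B] [Algebra k B]
    (hres : Function.Surjective (algebraMap k (ResidueField B)))
    (hH : ∀ l, 1 ≤ l → ∀ φ : B →ₐ[k] Q k l, ∃ ψ : B →ₐ[k] Q k (l + 1),
      (Ideal.Quotient.factorₐ k (hle k l)).comp ψ = φ) :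
    IsRegularLocalRing B := by
  classical
  have hfg : (maximalIdeal B).FG := IsNoetherian.noetherian _
  obtain ⟨s, hscard, hsspan⟩ := Submodule.FG.exists_span_finset_card_eq_spanFinrank hfg
  have hsm : ∀ a ∈ s, a ∈ maximalIdeal B := fun a ha => hsspan ▸ Submodule.subset_span ha
  let g : s → B := fun a => a.1
  have hg : ∀ i, g i ∈ maximalIdeal B := fun a => hsm a.1 a.2
  have hrange : Set.range g = (s : Set B) := by
    ext z
    constructor
    · rintro ⟨a, rfl⟩
      exact a.2
    · intro hz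
      exact ⟨⟨z, hz⟩, rfl⟩
  have hspan : Ideal.span (Set.range g) = maximalIdeal B := by
    rw [hrange]; exact hsspan
  have hli : LinearIndependent (ResidueField B)
      (fun i => (maximalIdeal B).toCotangent ⟨g i, hg i⟩) :=
    RLR.linearIndependent_of_span_eq (fun i => (⟨g i, hg i⟩ : maximalIdeal B)) hspan (by
      rw [← spanFinrank_maximalIdeal_eq_finrank_cotangentSpace, ← hscard]
      simp)
  have hI1 := mem_idealOfVars_of_aeval_mem (k := k) g hg
  have hI2 := mem_sq_of_aeval_mem_sq (k := k) g hg hli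
  have hJ : ∀ e, 1 ≤ e → ∀ p : MvPolynomial s k,
      MvPolynomial.aeval g (MvPolynomial.homogeneousComponent e p) ∈ maximalIdeal B ^ (e + 1) →
        MvPolynomial.homogeneousComponent e p = 0 := fun e he =>
    homogeneousComponent_eq_zero_of_jets g hg e
      (fun a => exists_jet g hg hspan hres hH hI2 a (e + 1) (by omega))
  have hI : ∀ (D : ℕ) (p : MvPolynomial s k), MvPolynomial.aeval g p ∈ maximalIdeal B ^ D →
      p ∈ MvPolynomial.idealOfVars s k ^ D := by
    intro D
    induction D with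
    | zero =>
      intro p _
      rw [pow_zero, Ideal.one_eq_top]
      exact Submodule.mem_top
    | succ D ih =>
      rcases Nat.eq_zero_or_pos D with rfl | hD
      · intro p h
        rw [zero_add, pow_one] at h ⊢
        exact hI1 p h
      · exact mem_pow_succ_of_aeval g hg D (hJ D hD) ih
  haveI : Algebra.IsGeometricallyReduced k (ResidueField B) := geomRed hres
  refine ((Groth.Agent.S2453.result (k := k) (A := B)).out 0 3).mp ?_
  intro T _ _ N hN u hu
  obtain ⟨d, hd⟩ := hu
  choose c hc using fun i => Ideal.Quotient.mk_surjective (u (g i))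
  have hcn : ∀ i, c i ^ (2 * d) = 0 := by
    intro i
    have h1 : c i ^ d ∈ N := by
      rw [← Ideal.Quotient.eq_zero_iff_mem, map_pow, hc i, ← map_pow]
      exact hd _ (Ideal.pow_mem_pow (hg i) d)
    have h2 : c i ^ d * c i ^ d ∈ N ^ 2 := by
      rw [sq]; exact Ideal.mul_mem_mul h1 h1
    rw [hN, Ideal.mem_bot] at h2
    rw [two_mul, pow_add]; exact h2
  have hvan : ∀ p ∈ MvPolynomial.idealOfVars s k ^ (Fintype.card s * (2 * d) + d + 1),
      MvPolynomial.aeval c p = 0 := by
    intro p hp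
    rw [MvPolynomial.mem_pow_idealOfVars_iff] at hp
    rw [MvPolynomial.aeval_def, MvPolynomial.eval₂_eq']
    refine Finset.sum_eq_zero fun x hx => ?_
    have hdeg := hp x hx
    rw [Finsupp.degree_eq_sum] at hdeg
    have hlt : ∑ _i : s, 2 * d < ∑ i, x i := by
      rw [Finset.sum_const, Finset.card_univ, smul_eq_mul]
      omega
    obtain ⟨i, -, hi⟩ := Finset.exists_lt_of_sum_lt hlt
    have hprod : ∏ j, c j ^ x j = 0 :=
      Finset.prod_eq_zero (Finset.mem_univ i) (pow_eq_zero_of_le hi.le (hcn i))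
    rw [hprod, mul_zero]
  obtain ⟨Θ, hΘ1, hΘ2⟩ := exists_algHom_of_vanish g hg hspan hres _ (hI _) c hvan
  refine ⟨Θ, ?_⟩
  apply AlgHom.ext
  intro b
  obtain ⟨p, hp⟩ := exists_approx g hg hspan hres (Fintype.card s * (2 * d) + d + 1) b
  have hu0 : u (b - MvPolynomial.aeval g p) = 0 :=
    hd _ (Ideal.pow_le_pow_right (by omega) hp)
  have hΘb : Θ b = MvPolynomial.aeval c p := by
    have h1 : Θ b = Θ (MvPolynomial.aeval g p) + Θ (b - MvPolynomial.aeval g p) := by
      rw [← map_add]; congr 1; ring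
    rw [h1, hΘ1, hΘ2 _ hp, add_zero]
  have hub : u b = u (MvPolynomial.aeval g p) := by
    have h1 : u b = u (MvPolynomial.aeval g p) + u (b - MvPolynomial.aeval g p) := by
      rw [← map_add]; congr 1; ring
    rw [h1, hu0, add_zero]
  rw [AlgHom.comp_apply, hΘb, hub, MvPolynomial.comp_aeval_apply, MvPolynomial.comp_aeval_apply]
  have hfun : (fun i => (Ideal.Quotient.mkₐ k N) (c i)) = fun i => u (g i) := funext hc
  rw [hfun]

end Groth.Agent.Helper8.CurvJet
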