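import Groth.Agent.Lib.Helper8.CurvJet3
import Groth.Agent.Lib.Helper8.SmoothAtReg

/-!
# Regularity of a closed point of an affine variety is detected by curvilinear jets
-/

set_option autoImplicit false
universe u
open Polynomial IsLocalRing

namespace Groth.Agent.Helper8.CurvJet

section Main
variable (k : Type u) [Field k] [IsAlgClosed k] (A : Type u) [CommRing A] [Algebra k A]
  [Algebra.FiniteType k A] (m : Ideal A) [m.IsMaximal]

theorem exists_const_of_maximal (a : A) : ∃ c : k, a - algebraMap k A c ∈ m := by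
  letI : Field (A ⧸ m) := Ideal.Quotient.field m
  haveI : Algebra.FiniteType k (A ⧸ m) :=
    Algebra.FiniteType.of_surjective (Ideal.Quotient.mkₐ k m) Ideal.Quotient.mk_surjective
  haveI : Module.Finite k (A ⧸ m) := finite_of_finite_type_of_isJacobsonRing k (A ⧸ m)
  have hbij : Function.Bijective (algebraMap k (A ⧸ m)) :=
    IsAlgClosed.algebraMap_bijective_of_isIntegral
  obtain ⟨c, hc⟩ := hbij.2 (Ideal.Quotient.mk m a)
  refine ⟨c, ?_⟩
  rw [← Ideal.Quotient.eq, ← hc]
  rfl

theorem hres_localization :
    Function.Surjective (algebraMap k (ResidueField (Localization.AtPrime m))) := by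
  have key : ∀ (a : A) (c : k), a - algebraMap k A c ∈ m →
      residue (Localization.AtPrime m) (algebraMap A (Localization.AtPrime m) a) =
        algebraMap k (ResidueField (Localization.AtPrime m)) c := by
    intro a c h
    have h1 : algebraMap A (Localization.AtPrime m) (a - algebraMap k A c) ∈
        maximalIdeal (Localization.AtPrime m) :=
      (IsLocalization.AtPrime.to_map_mem_maximal_iff (Localization.AtPrime m) m _).mpr h
    rw [← IsLocalRing.residue_eq_zero_iff, map_sub, map_sub, sub_eq_zero] at h1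
    rw [h1, ← IsScalarTower.algebraMap_apply k A (Localization.AtPrime m),
      IsScalarTower.algebraMap_apply k (Localization.AtPrime m)
        (ResidueField (Localization.AtPrime m))]
    rfl
  intro x
  obtain ⟨b, rfl⟩ := IsLocalRing.residue_surjective x
  obtain ⟨⟨a, s⟩, hb⟩ := IsLocalization.surj m.primeCompl b
  obtain ⟨ca, hca⟩ := exists_const_of_maximal k A m a
  obtain ⟨cs, hcs⟩ := exists_const_of_maximal k A m (s : A)
  have hs0 : algebraMap k (ResidueField (Localization.AtPrime m)) cs ≠ 0 := by
    rw [← key s cs hcs]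
    intro h0
    rw [IsLocalRing.residue_eq_zero_iff] at h0
    exact (IsLocalRing.mem_maximalIdeal _).mp h0
      (IsLocalization.map_units (Localization.AtPrime m) s)
  refine ⟨ca / cs, ?_⟩
  have h2 := congrArg (residue (Localization.AtPrime m)) hb
  rw [map_mul, key a ca hca, key s cs hcs] at h2
  rw [map_div₀, div_eq_iff hs0]
  exact h2.symm

theorem hH_of_hyp
    (H : ∀ l, 1 ≤ l → ∀ φ : A →ₐ[k] Q k l, (∀ a ∈ m, IsNilpotent (φ a)) →
      ∃ ψ : A →ₐ[k] Q k (l + 1), (Ideal.Quotient.factorₐ k (hle k l)).comp ψ = φ) :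
    ∀ l, 1 ≤ l → ∀ φ : Localization.AtPrime m →ₐ[k] Q k l,
      ∃ ψ : Localization.AtPrime m →ₐ[k] Q k (l + 1),
        (Ideal.Quotient.factorₐ k (hle k l)).comp ψ = φ := by
  intro l hl φB
  have hl0 : l ≠ 0 := by omega
  have hnil : ∀ a ∈ m, IsNilpotent
      ((φB.comp (IsScalarTower.toAlgHom k A (Localization.AtPrime m))) a) := by
    intro a ha
    obtain ⟨w, hw⟩ := jet_maximalIdeal l hl0 φB (algebraMap A _ a)
      ((IsLocalization.AtPrime.to_map_mem_maximal_iff (Localization.AtPrime m) m a).mpr ha)
    refine ⟨l, ?_⟩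
    have h1 : (φB.comp (IsScalarTower.toAlgHom k A (Localization.AtPrime m))) a =
        Ideal.Quotient.mk _ (X * w) := hw
    rw [h1]
    exact mk_X_mul_pow k l w
  obtain ⟨ψ, hψ⟩ := H l hl _ hnil
  have hunit : ∀ y : m.primeCompl, IsUnit (ψ y) := by
    intro y
    apply isUnit_of_eps_ne_zero k (l + 1) (Nat.succ_ne_zero l)
    rw [← eps_factor k l hl0]
    have h1 : Ideal.Quotient.factorₐ k (hle k l) (ψ y) =
        φB (algebraMap A (Localization.AtPrime m) (y : A)) := by
      have h := DFunLike.congr_fun hψ (y : A)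
      rw [AlgHom.comp_apply] at h
      rw [h]
      rfl
    rw [h1]
    have h2 := (IsLocalization.map_units (Localization.AtPrime m) y).map
      ((eps k l hl0).comp φB)
    exact h2.ne_zero
  refine ⟨IsLocalization.liftAlgHom (M := m.primeCompl) (S := Localization.AtPrime m)
    (f := ψ) hunit, ?_⟩
  apply AlgHom.coe_ringHom_injective
  apply IsLocalization.ringHom_ext m.primeCompl
  ext a
  have h1 : (IsLocalization.liftAlgHom (M := m.primeCompl) (S := Localization.AtPrime m)
      (f := ψ) hunit) (algebraMap A _ a) = ψ a := IsLocalization.lift_eq _ a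
  have h2 := DFunLike.congr_fun hψ a
  rw [AlgHom.comp_apply] at h2
  show Ideal.Quotient.factorₐ k (hle k l)
    ((IsLocalization.liftAlgHom (M := m.primeCompl) (S := Localization.AtPrime m)
      (f := ψ) hunit) (algebraMap A _ a)) = φB (algebraMap A _ a)
  rw [h1, h2]
  rfl

theorem lift_of_regular (hreg : IsRegularLocalRing (Localization.AtPrime m)) (l : ℕ)
    (hl : 1 ≤ l) (φ : A →ₐ[k] Q k l) (hnil : ∀ a ∈ m, IsNilpotent (φ a)) :
    ∃ ψ : A →ₐ[k] Q k (l + 1), (Ideal.Quotient.factorₐ k (hle k l)).comp ψ = φ := by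
  have hl0 : l ≠ 0 := by omega
  have hres := hres_localization k A m
  haveI : Algebra.IsGeometricallyReduced k (ResidueField (Localization.AtPrime m)) :=
    geomRed hres
  haveI hsm : Algebra.FormallySmooth k (Localization.AtPrime m) :=
    (SmoothAtReg.isSmoothAt_iff_isRegularLocalRing k A m).mpr hreg
  have hker : m = RingHom.ker ((eps k l hl0).comp φ).toRingHom := by
    apply Ideal.IsMaximal.eq_of_le ‹m.IsMaximal› (RingHom.ker_ne_top _)
    intro a ha
    rw [RingHom.mem_ker]
    exact ((hnil a ha).map (eps k l hl0)).eq_zero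
  have hunit : ∀ y : m.primeCompl, IsUnit (φ y) := by
    intro y
    apply isUnit_of_eps_ne_zero k l hl0
    intro h0
    apply y.2
    have hmem : (y : A) ∈ RingHom.ker ((eps k l hl0).comp φ).toRingHom := by
      rw [RingHom.mem_ker]
      exact h0
    exact hker.ge hmem
  have hsurj : Function.Surjective (Ideal.Quotient.factorₐ k (hle k l)) :=
    Ideal.Quotient.factor_surjective (hle k l)
  have hnilker : IsNilpotent
      (RingHom.ker (Ideal.Quotient.factorₐ k (hle k l) : Q k (l + 1) →+* Q k l)) :=
    ⟨2, by rw [Ideal.zero_eq_bot]; exact ker_factor_sq k l hl0⟩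
  refine ⟨(Algebra.FormallySmooth.liftOfSurjective
    (IsLocalization.liftAlgHom (M := m.primeCompl) (S := Localization.AtPrime m) (f := φ) hunit)
    (Ideal.Quotient.factorₐ k (hle k l)) hsurj hnilker).comp
      (IsScalarTower.toAlgHom k A (Localization.AtPrime m)), ?_⟩
  rw [← AlgHom.comp_assoc, Algebra.FormallySmooth.comp_liftOfSurjective]
  apply AlgHom.ext
  intro a
  exact IsLocalization.lift_eq _ a

theorem main :
    IsRegularLocalRing (Localization.AtPrime m) ↔
      ∀ (l : ℕ), 1 ≤ l →
        ∀ (φ : A →ₐ[k] (k[X] ⧸ Ideal.span {(X : k[X]) ^ l})),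
          (∀ a ∈ m, IsNilpotent (φ a)) →
          ∃ ψ : A →ₐ[k] (k[X] ⧸ Ideal.span {(X : k[X]) ^ (l + 1)}),
            (Ideal.Quotient.factorₐ k
                (Ideal.span_singleton_le_span_singleton.mpr
                  (pow_dvd_pow (X : k[X]) (Nat.le_succ l)))).comp ψ = φ := by
  constructor
  · intro hreg l hl φ hnil
    exact lift_of_regular k A m hreg l hl φ hnil
  · intro H
    haveI : IsNoetherianRing A := Algebra.FiniteType.isNoetherianRing k A
    haveI : IsNoetherianRing (Localization.AtPrime m) :=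
      IsLocalization.isNoetherianRing m.primeCompl _ inferInstance
    exact isRegularLocalRing_of_jets (hres_localization k A m) (hH_of_hyp k A m H)

end Main

end Groth.Agent.Helper8.CurvJet
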