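import Mathlib
import Groth.Prelude
import Groth.Agent.Lib.Helper8.Refl3

/-!
# Duals of base-changed maps which are isomorphisms off a closed set
-/

set_option autoImplicit false
universe u

namespace Groth.Agent.Helper8.DDualBC

open TensorProduct LocCoh Groth.Agent.Helper8.Depth Groth.Agent.Helper8.Refl

section dual

variable {R : Type u} [CommRing R] [IsNoetherianRing R] (I : Ideal R)

/-- The dual of a finite module has `I`-depth at least two if the ring does. -/
theorem two_le_idealDepth_dual (hR : 2 ≤ idealDepth I R) (P : Type u) [AddCommGroup P]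
    [Module R P] [Module.Finite R P] : 2 ≤ idealDepth I (Module.Dual R P) := by
  obtain ⟨n, m, u, ⟨e⟩⟩ := exists_ker_equiv_dual (A := R) P
  rw [idealDepth_congr e]
  exact (idealDepth_ker I u).2 (le_trans hR (idealDepth_le_pi I R n))
    (le_trans (le_trans (by norm_num) hR) (idealDepth_le_pi I R (m + 1)))

end dual

section main

variable {B B' : Type u} [CommRing B] [CommRing B'] [IsNoetherianRing B'] [Algebra B B']
  (J : Ideal B) {M N : Type u} [AddCommGroup M] [Module B M] [AddCommGroup N] [Module B N]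
  [Module.Finite B M] [Module.Finite B N] (ε : M →ₗ[B] N)

omit [IsNoetherianRing B'] [Module.Finite B M] [Module.Finite B N] in
theorem not_le_comap {p' : Ideal B'} (hp' : ¬ J.map (algebraMap B B') ≤ p') :
    ¬ J ≤ p'.comap (algebraMap B B') := fun h => hp' (Ideal.map_le_iff_le_comap.mpr h)

omit [IsNoetherianRing B'] [Module.Finite B M] [Module.Finite B N] in
/-- Elements of `B' ⊗ N` are, up to the complement of a prime, in the range of the base
change. -/
theorem exists_smul_mem_range_baseChange (p : Ideal B) [p.IsPrime]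
    (hb : ∀ y : N, ∃ s : p.primeCompl, (s : B) • y ∈ LinearMap.range ε) (z : B' ⊗[B] N) :
    ∃ s : p.primeCompl, algebraMap B B' (s : B) • z ∈ LinearMap.range (ε.baseChange B') := by
  induction z using TensorProduct.induction_on with
  | zero => exact ⟨1, by rw [smul_zero]; exact Submodule.zero_mem _⟩
  | tmul b' y =>
    obtain ⟨s, x, hx⟩ := hb y
    refine ⟨s, b' ⊗ₜ x, ?_⟩
    rw [LinearMap.baseChange_tmul, hx, TensorProduct.smul_tmul', ← TensorProduct.smul_tmul,
      Algebra.smul_def, smul_eq_mul]
  | add z₁ z₂ h₁ h₂ =>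
    obtain ⟨s₁, hs₁⟩ := h₁
    obtain ⟨s₂, hs₂⟩ := h₂
    refine ⟨s₁ * s₂, ?_⟩
    rw [Submonoid.coe_mul, map_mul, smul_add]
    refine Submodule.add_mem _ ?_ ?_
    · rw [mul_comm, mul_smul]
      exact Submodule.smul_mem _ _ hs₁
    · rw [mul_smul]
      exact Submodule.smul_mem _ _ hs₂

/-- A functional on `B' ⊗ M` is, up to the complement of a prime off `V(J)`, induced from a
functional on `B' ⊗ N`. -/
theorem exists_smul_mem_range_dualMap (h1 : 1 ≤ idealDepth (J.map (algebraMap B B')) B')
    (ha : ∀ p : PrimeSpectrum B, ¬ J ≤ p.asIdeal → ∀ x, ε x = 0 →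
      ∃ s : p.asIdeal.primeCompl, (s : B) • x = 0)
    (p : Ideal B) [p.IsPrime]
    (hbp : ∀ y : N, ∃ s : p.primeCompl, (s : B) • y ∈ LinearMap.range ε)
    (h : Module.Dual B' (B' ⊗[B] M)) :
    ∃ s : p.primeCompl,
      algebraMap B B' (s : B) • h ∈ LinearMap.range (ε.baseChange B').dualMap := by
  classical
  let h₀ : M →ₗ[B] B' := (h.restrictScalars B) ∘ₗ (TensorProduct.mk B B' M 1)
  have hker : LinearMap.ker ε ≤ LinearMap.ker h₀ := by
    intro x hx
    rw [LinearMap.mem_ker] at hx ⊢
    apply eq_zero_of_one_le_idealDepth (J.map (algebraMap B B')) B' h1 (h₀ x)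
    intro p'' hp''
    obtain ⟨s, hs⟩ := ha ⟨p''.asIdeal.comap (algebraMap B B'), inferInstance⟩
      (not_le_comap J hp'') x hx
    refine ⟨⟨algebraMap B B' s, s.2⟩, ?_⟩
    change algebraMap B B' (s : B) • h₀ x = 0
    rw [algebraMap_smul, ← map_smul, hs, map_zero]
  let hbar : LinearMap.range ε →ₗ[B] B' :=
    ((LinearMap.ker ε).liftQ h₀ hker) ∘ₗ ε.quotKerEquivRange.symm.toLinearMap
  have hbar_apply : ∀ x (hx : ε x ∈ LinearMap.range ε), hbar ⟨ε x, hx⟩ = h₀ x := by
    intro x hx
    simp only [hbar, LinearMap.comp_apply, LinearEquiv.coe_coe]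
    rw [LinearMap.quotKerEquivRange_symm_apply_image]
    rfl
  obtain ⟨T, hT⟩ := (Module.Finite.fg_top : (⊤ : Submodule B N).FG)
  choose sfun hsfun using hbp
  let sP : p.primeCompl := ∏ t ∈ T, sfun t
  have hsN : ∀ y : N, (sP : B) • y ∈ LinearMap.range ε := by
    intro y
    have hy : y ∈ Submodule.span B (T : Set N) := by rw [hT]; trivial
    induction hy using Submodule.span_induction with
    | mem t ht =>
      have : sP = (∏ t' ∈ T.erase t, sfun t') * sfun t := by
        rw [Finset.prod_erase_mul _ _ ht]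
      rw [this, Submonoid.coe_mul, mul_smul]
      exact Submodule.smul_mem _ _ (hsfun t)
    | zero => rw [smul_zero]; exact Submodule.zero_mem _
    | add a b _ _ ha hb => rw [smul_add]; exact Submodule.add_mem _ ha hb
    | smul r a _ ha => rw [smul_comm]; exact Submodule.smul_mem _ _ ha
  have hsN' : ∀ c : N, (LinearMap.lsmul B N (sP : B)) c ∈ LinearMap.range ε := hsN
  let g₀ : N →ₗ[B] B' := hbar ∘ₗ
    (LinearMap.codRestrict (LinearMap.range ε) (LinearMap.lsmul B N (sP : B)) hsN')
  refine ⟨sP, LinearMap.liftBaseChange B' g₀, ?_⟩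
  refine LinearMap.ext fun z => ?_
  induction z using TensorProduct.induction_on with
  | zero => simp
  | tmul b' x =>
    rw [LinearMap.dualMap_apply, LinearMap.baseChange_tmul, LinearMap.liftBaseChange_tmul,
      LinearMap.smul_apply]
    have h5 : g₀ (ε x) = algebraMap B B' sP * h (1 ⊗ₜ x) := by
      simp only [g₀, LinearMap.comp_apply]
      have h7 : LinearMap.codRestrict (LinearMap.range ε) (LinearMap.lsmul B N (sP : B)) hsN'
          (ε x) = ⟨ε ((sP : B) • x), LinearMap.mem_range_self _ _⟩ := by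
        apply Subtype.ext
        rw [LinearMap.codRestrict_apply, LinearMap.lsmul_apply]
        exact (map_smul ε _ _).symm
      rw [h7, hbar_apply, map_smul, Algebra.smul_def]
      rfl
    rw [h5]
    have h6 : h (b' ⊗ₜ x) = b' * h (1 ⊗ₜ x) := by
      rw [← smul_eq_mul, ← map_smul, TensorProduct.smul_tmul', smul_eq_mul, mul_one]
    rw [h6, smul_eq_mul, smul_eq_mul]
    ring
  | add z₁ z₂ h₁ h₂ => rw [map_add, map_add, h₁, h₂]

/-- If `ε : M → N` is an isomorphism off `V(J)` and `B'` has `JB'`-depth at least two, the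
dual of the base change of `ε` to `B'` is bijective. -/
theorem dualMap_baseChange_bijective (h2 : 2 ≤ idealDepth (J.map (algebraMap B B')) B')
    (ha : ∀ p : PrimeSpectrum B, ¬ J ≤ p.asIdeal → ∀ x, ε x = 0 →
      ∃ s : p.asIdeal.primeCompl, (s : B) • x = 0)
    (hb : ∀ p : PrimeSpectrum B, ¬ J ≤ p.asIdeal → ∀ y : N,
      ∃ s : p.asIdeal.primeCompl, (s : B) • y ∈ LinearMap.range ε) :
    Function.Bijective (ε.baseChange B').dualMap := by
  have h1 : 1 ≤ idealDepth (J.map (algebraMap B B')) B' := le_trans (by norm_num) h2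
  have hinj : Function.Injective (ε.baseChange B').dualMap := by
    rw [injective_iff_map_eq_zero]
    intro g hg
    refine LinearMap.ext fun z => ?_
    rw [LinearMap.zero_apply]
    apply eq_zero_of_one_le_idealDepth (J.map (algebraMap B B')) B' h1 (g z)
    intro p' hp'
    obtain ⟨s, w, hw⟩ := exists_smul_mem_range_baseChange ε
      (p'.asIdeal.comap (algebraMap B B'))
      (hb ⟨p'.asIdeal.comap (algebraMap B B'), inferInstance⟩ (not_le_comap J hp')) z
    refine ⟨⟨algebraMap B B' s, s.2⟩, ?_⟩
    change algebraMap B B' (s : B) • g z = 0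
    rw [← map_smul, ← hw]
    exact LinearMap.congr_fun hg w
  refine ⟨hinj, ?_⟩
  have hX : 2 ≤ idealDepth (J.map (algebraMap B B')) (Module.Dual B' (B' ⊗[B] N)) :=
    two_le_idealDepth_dual _ h2 _
  have hY : 2 ≤ idealDepth (J.map (algebraMap B B')) (Module.Dual B' (B' ⊗[B] M)) :=
    two_le_idealDepth_dual _ h2 _
  have hC : 1 ≤ idealDepth (J.map (algebraMap B B'))
      (Module.Dual B' (B' ⊗[B] M) ⧸ LinearMap.range (ε.baseChange B').dualMap) := by
    have h3 := idealDepth_right_ge (J.map (algebraMap B B')) (ε.baseChange B').dualMap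
      (LinearMap.range (ε.baseChange B').dualMap).mkQ hinj (Submodule.mkQ_surjective _)
      (LinearMap.exact_map_mkQ_range _)
    refine le_trans (le_min (le_trans (by norm_num) hY) ?_) h3
    have h4 : (1 : ℕ∞) + 1 ≤ idealDepth (J.map (algebraMap B B'))
        (Module.Dual B' (B' ⊗[B] N)) := by
      rw [one_add_one_eq_two]
      exact hX
    exact ENat.le_sub_of_add_le_right (by norm_num) h4
  intro h
  have h0 : (LinearMap.range (ε.baseChange B').dualMap).mkQ h = 0 := by
    apply eq_zero_of_one_le_idealDepth (J.map (algebraMap B B')) _ hC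
    intro p' hp'
    obtain ⟨s, hs⟩ := exists_smul_mem_range_dualMap J ε h1 ha
      (p'.asIdeal.comap (algebraMap B B'))
      (hb ⟨p'.asIdeal.comap (algebraMap B B'), inferInstance⟩ (not_le_comap J hp')) h
    refine ⟨⟨algebraMap B B' s, s.2⟩, ?_⟩
    change algebraMap B B' (s : B) • (LinearMap.range (ε.baseChange B').dualMap).mkQ h = 0
    rw [← map_smul]
    exact (Submodule.Quotient.mk_eq_zero _).mpr hs
  exact LinearMap.mem_range.mp ((Submodule.Quotient.mk_eq_zero _).mp h0)

end main

end Groth.Agent.Helper8.DDualBC
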