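import Groth.Agent.Lib.Helper8.HLV17

/-!
# Top local cohomology over a complete local ring is killed by an ideal `𝔟` with `𝔟 + J` primary
to the maximal ideal (towards the Delfino–Marley cofiniteness theorem, S17760)
-/

set_option autoImplicit false
universe u

namespace Groth.Agent.Helper8.DM

open IsLocalRing LocCoh CategoryTheory Groth.Agent.Helper8.LC Groth.Agent.Helper8.HLV

section ann

variable {R : Type u} [CommRing R] (J : Ideal R) (d : ℕ)

/-- an element killing the module kills its local cohomology. -/
lemma smul_H_eq_zero_of_smul_eq_zero (N : Type u) [AddCommGroup N] [Module R N] (a : R)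
    (ha : ∀ n : N, a • n = 0) (z : H J d N) : a • z = 0 := by
  rw [← map_smul_id]
  have h0 : a • 𝟙 (ModuleCat.of R N) = 0 := by
    apply ModuleCat.hom_ext
    apply LinearMap.ext
    intro x
    exact ha x
  rw [h0]
  exact map_zero' J d _ _ z

end ann

variable {B : Type u} [CommRing B] [IsNoetherianRing B] [IsLocalRing B]
  [IsAdicComplete (maximalIdeal B) B]

theorem exists_ideal_le_annihilator (J : Ideal B) (d : ℕ) (N : Type u) [AddCommGroup N]
    [Module B N] [hN : Module.Finite B N] :
    Module.supportDim B N ≤ (d : WithBot ℕ∞) →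
    ∃ 𝔟 : Ideal B, maximalIdeal B ≤ (𝔟 ⊔ J).radical ∧
      𝔟 ≤ Module.annihilator B (H J d N) := by
  induction hN using IsNoetherianRing.induction_on_isQuotientEquivQuotientPrime B with
  | subsingleton N =>
    intro _
    refine ⟨⊤, ?_, ?_⟩
    · rw [top_sup_eq, Ideal.radical_top]; exact le_top
    · haveI := subsingleton_of_subsingleton J d (ModuleCat.of B N)
      intro a _
      rw [Module.mem_annihilator]
      intro x
      exact Subsingleton.elim _ _
  | quotient N p e =>
    intro hdim
    have hann : Module.annihilator B (H J d N) =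
        Module.annihilator B (H J d (B ⧸ p.asIdeal)) :=
      (((localCohomology J d).mapIso e.toModuleIso).toLinearEquiv).annihilator_eq
    rw [hann]
    have hdimp : ringKrullDim (B ⧸ p.asIdeal) ≤ d := by
      rw [← Module.supportDim_quotient_eq_ringKrullDim, ← Module.supportDim_eq_of_equiv e]
      exact hdim
    haveI := p.2
    by_cases hcase : ringKrullDim (B ⧸ p.asIdeal) = d ∧
        (J ⊔ p.asIdeal).radical = maximalIdeal B
    · refine ⟨p.asIdeal, ?_, ?_⟩
      · rw [sup_comm, hcase.2]
      · intro a ha
        rw [Module.mem_annihilator]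
        intro z
        apply smul_H_eq_zero_of_smul_eq_zero J d (B ⧸ p.asIdeal) a _ z
        intro x
        obtain ⟨b, rfl⟩ := Ideal.Quotient.mk_surjective x
        rw [Algebra.smul_def, Ideal.Quotient.algebraMap_eq, ← map_mul,
          Ideal.Quotient.eq_zero_iff_mem]
        exact Ideal.mul_mem_right _ _ ha
    · have hsub : Subsingleton (H J d (B ⧸ p.asIdeal)) := by
        by_cases hd : ringKrullDim (B ⧸ p.asIdeal) = d
        · exact subsingleton_H_of_radical_ne J p.asIdeal d hd (fun h => hcase ⟨hd, h⟩)
            (B ⧸ p.asIdeal)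
        · apply subsingleton_of_supportDim_lt J _ d
          rw [Module.supportDim_quotient_eq_ringKrullDim]
          exact lt_of_le_of_ne hdimp hd
      refine ⟨⊤, ?_, ?_⟩
      · rw [top_sup_eq, Ideal.radical_top]; exact le_top
      · intro a _
        rw [Module.mem_annihilator]
        intro x
        exact Subsingleton.elim _ _
  | exact N₁ N₂ N₃ f g hf hg hfg h₁ h₃ =>
    intro hdim
    obtain ⟨𝔟₁, hr₁, ha₁⟩ := h₁ ((Module.supportDim_le_of_injective f hf).trans hdim)
    obtain ⟨𝔟₃, hr₃, ha₃⟩ := h₃ ((Module.supportDim_le_of_surjective g hg).trans hdim)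
    refine ⟨𝔟₁ * 𝔟₃, ?_, ?_⟩
    · have h1 : (𝔟₁ ⊔ J) * (𝔟₃ ⊔ J) ≤ 𝔟₁ * 𝔟₃ ⊔ J := by
        rw [Ideal.sup_mul, Ideal.mul_sup, Ideal.mul_sup]
        exact sup_le (sup_le le_sup_left (le_sup_of_le_right Ideal.mul_le_right))
          (sup_le (le_sup_of_le_right Ideal.mul_le_left)
            (le_sup_of_le_right Ideal.mul_le_left))
      refine le_trans ?_ (Ideal.radical_mono h1)
      rw [Ideal.radical_mul]
      exact le_inf hr₁ hr₃
    · rw [Ideal.mul_le]
      intro a₁ h₁' a₃ h₃'
      rw [Module.mem_annihilator]
      intro x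
      have hS : (ModuleCat.shortComplexOfCompEqZero f g hfg.linearMap_comp_eq_zero).ShortExact :=
        ModuleCat.shortComplex_shortExact _ hfg hf hg
      have hex := exact_f_g J d hS
      have h3 : ((localCohomology J d).map (ModuleCat.ofHom g)) (a₃ • x) = 0 := by
        rw [map_smul]
        exact Module.mem_annihilator.mp (ha₃ h₃') _
      obtain ⟨y, hy⟩ := (hex (a₃ • x)).mp h3
      have hy' : ((localCohomology J d).map (ModuleCat.ofHom f)) y = a₃ • x := hy
      rw [mul_smul, ← hy', ← map_smul, Module.mem_annihilator.mp (ha₁ h₁') y, map_zero]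

end Groth.Agent.Helper8.DM
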