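import Groth.Agent.Lib.Helper8.HLV14
import Groth.Agent.Lib.Helper8.Ratliff3
import Groth.Agent.Lib.Helper8.FC3

/-!
# Connectedness dimension and subdimension of the completion (B–S 19.3.1, S11671)
-/

set_option autoImplicit false
universe u

namespace Groth.Agent.Helper8.HLV

open IsLocalRing LocCoh Groth.Agent.Helper8.LC

variable (R : Type u) [CommRing R] [IsNoetherianRing R] [IsLocalRing R]

local notation "Rh" => AdicCompletion (maximalIdeal R) R

theorem faithfullyFlat_cpl : Module.FaithfullyFlat R Rh := by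
  haveI : IsNoetherianRing Rh := Groth.Agent.Helper8.AdicReg.isNoetherianRing R _
  exact Module.FaithfullyFlat.of_flat_of_isLocalHom

theorem map_cpl_ne_top (I : Ideal R) (hI : I ≠ ⊤) : I.map (algebraMap R Rh) ≠ ⊤ := by
  haveI := faithfullyFlat_cpl R
  intro h
  have h1 : (I.map (algebraMap R Rh)).comap (algebraMap R Rh) = I :=
    Ideal.comap_map_eq_self_of_faithfullyFlat I
  rw [h, Ideal.comap_top] at h1
  exact hI h1.symm

/-- The preimage in `Spec R̂` of a closed subset of `Spec R` has the same dimension. -/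
theorem topDim_preimage_comap (Z : Set (PrimeSpectrum R)) (hZ : IsClosed Z) :
    topologicalKrullDim ↥(PrimeSpectrum.comap (algebraMap R Rh) ⁻¹' Z) =
      topologicalKrullDim ↥Z := by
  obtain ⟨J, rfl⟩ := (PrimeSpectrum.isClosed_iff_zeroLocus_ideal Z).mp hZ
  have hpre : PrimeSpectrum.comap (algebraMap R Rh) ⁻¹' PrimeSpectrum.zeroLocus (J : Set R) =
      PrimeSpectrum.zeroLocus ((J.map (algebraMap R Rh) : Ideal Rh) : Set Rh) := by
    rw [PrimeSpectrum.preimage_comap_zeroLocus, ← PrimeSpectrum.zeroLocus_span]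
    rfl
  rw [hpre, topDim_zeroLocus, topDim_zeroLocus]
  by_cases hJ : J = ⊤
  · subst hJ
    rw [Ideal.map_top]
    haveI : Subsingleton (R ⧸ (⊤ : Ideal R)) := Ideal.Quotient.subsingleton_iff.mpr rfl
    haveI : Subsingleton (Rh ⧸ (⊤ : Ideal Rh)) := Ideal.Quotient.subsingleton_iff.mpr rfl
    rw [ringKrullDim_eq_bot_of_subsingleton, ringKrullDim_eq_bot_of_subsingleton]
  · exact dim_cpl_quot_map R J hJ

/-- **Part 1**: `c(R̂) ≤ c(R)`. -/
theorem connDim_cpl_le : connDim (PrimeSpectrum Rh) ≤ connDim (PrimeSpectrum R) := by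
  haveI := faithfullyFlat_cpl R
  obtain ⟨Z₀, hc, hn, he⟩ := exists_closed_connDim_eq (PrimeSpectrum R)
  rw [he, ← topDim_preimage_comap R Z₀ hc]
  unfold connDim
  refine iInf₂_le _ ⟨hc.preimage (PrimeSpectrum.continuous_comap _), ?_⟩
  intro hcon
  apply hn
  have := hcon.image _ (PrimeSpectrum.continuous_comap (algebraMap R Rh)).continuousOn
  rwa [← Set.preimage_compl,
    Set.image_preimage_eq _ PrimeSpectrum.comap_surjective_of_faithfullyFlat] at this

/-- A minimal prime over `pR̂`, `p` a minimal prime of `R`, is a minimal prime of `R̂`. -/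
theorem mem_minimalPrimes_of_mem_minimalPrimes_map {p : Ideal R} (hp : p ∈ minimalPrimes R)
    {Q : Ideal Rh} (hQ : Q ∈ (p.map (algebraMap R Rh)).minimalPrimes) :
    Q ∈ minimalPrimes Rh := by
  haveI : p.IsPrime := hp.1.1
  haveI : Q.IsPrime := hQ.1.1
  have hpQ : p ≤ Q.under R := by
    rw [Ideal.under_def, ← Ideal.map_le_iff_le_comap]
    exact hQ.1.2
  haveI : Q.LiesOver (Q.under R) := ⟨rfl⟩
  obtain ⟨Q₁, hQ₁le, hQ₁prime, hQ₁over⟩ :=
    Ideal.exists_ideal_le_liesOver_of_le (p := p) (q := Q.under R) Q hpQ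
  have hpQ₁ : p.map (algebraMap R Rh) ≤ Q₁ := by
    rw [Ideal.map_le_iff_le_comap, ← Ideal.under_def, ← hQ₁over.over]
  have hQQ₁ : Q = Q₁ := le_antisymm (hQ.2 ⟨hQ₁prime, hpQ₁⟩ hQ₁le) hQ₁le
  have hunder : Q.under R = p := by
    rw [hQQ₁]; exact hQ₁over.over.symm
  refine ⟨⟨inferInstance, bot_le⟩, ?_⟩
  rintro P ⟨hP, -⟩ hPQ
  haveI := hP
  have h1 : P.under R ≤ p := by
    rw [← hunder]; exact Ideal.comap_mono hPQ
  have h2 : p ≤ P.under R := hp.2 ⟨inferInstance, bot_le⟩ h1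
  have h3 : p.map (algebraMap R Rh) ≤ P := by
    rw [Ideal.map_le_iff_le_comap]; exact h2
  exact hQ.2 ⟨hP, h3⟩ hPQ

/-- **Part 3**: `sdim R̂ ≤ sdim R`. -/
theorem subdim_cpl_le : subdim (PrimeSpectrum Rh) ≤ subdim (PrimeSpectrum R) := by
  haveI : IsNoetherianRing Rh := Groth.Agent.Helper8.AdicReg.isNoetherianRing R _
  obtain ⟨p, hp, hpe⟩ := exists_minimalPrimes_subdim_eq R
  haveI : p.IsPrime := hp.1.1
  have hptop : p ≠ ⊤ := Ideal.IsPrime.ne_top inferInstance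
  rw [hpe, ← dim_cpl_quot_map R p hptop]
  obtain ⟨⟨Q, hQ⟩⟩ := Ideal.nonempty_minimalPrimes (map_cpl_ne_top R p hptop)
  exact (subdim_le_dim_quotient (mem_minimalPrimes_of_mem_minimalPrimes_map R hp hQ)).trans
    (dim_quotient_mono hQ.1.2)

/-- For universally catenary `R`: `dim R̂/Q = dim R/(Q ∩ R)` for minimal primes `Q` of `R̂`. -/
theorem dim_cpl_quot_minimal (hUC : CAlg.IsUniversallyCatenary R) (Q : Ideal Rh)
    (hQ : Q ∈ minimalPrimes Rh) :
    ringKrullDim (Rh ⧸ Q) = ringKrullDim (R ⧸ Q.under R) := by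
  haveI : IsNoetherianRing Rh := Groth.Agent.Helper8.AdicReg.isNoetherianRing R _
  haveI : Q.IsPrime := hQ.1.1
  have hpmin : Q.under R ∈ minimalPrimes R := Groth.Agent.Helper8.FC.under_mem_minimalPrimes Q hQ
  haveI : (Q.under R).IsPrime := hpmin.1.1
  have hfe : EGA4.IsFormallyEquidim (R ⧸ Q.under R) :=
    Groth.Agent.Helper8.Ratliff.isFormallyCatenary_of_isUniversallyCatenary R hUC (Q.under R)
  have hD : EGA4.IsEquidim (EGA4.Cpl R ⧸ (Q.under R).map (algebraMap R (EGA4.Cpl R))) :=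
    Groth.Agent.Helper8.FC.isEquidim_of_ringEquiv
      (Groth.Agent.Helper8.FC.quotCplEquiv R (Q.under R)).symm hfe
  have hle : (Q.under R).map (algebraMap R (EGA4.Cpl R)) ≤ Q := Ideal.map_comap_le
  have hQmin : Q ∈ ((Q.under R).map (algebraMap R (EGA4.Cpl R))).minimalPrimes :=
    ⟨⟨inferInstance, hle⟩, fun Q' hQ' hle' => hQ.2 ⟨hQ'.1, bot_le⟩ hle'⟩
  rw [Ideal.minimalPrimes_eq_comap] at hQmin
  obtain ⟨q, hqmin, hqQ⟩ := hQmin
  haveI : q.IsPrime := hqmin.1.1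
  have h1 := hD q hqmin
  rw [Groth.Agent.Helper8.FC.dim_quot_quot, hqQ,
    Groth.Agent.Helper8.FC.ringKrullDim_quot_map] at h1
  exact h1

/-- **Part 4**: for universally catenary `R`, `sdim R ≤ sdim R̂`. -/
theorem subdim_le_subdim_cpl (hUC : CAlg.IsUniversallyCatenary R) :
    subdim (PrimeSpectrum R) ≤ subdim (PrimeSpectrum Rh) := by
  obtain ⟨Q, hQ, hQe⟩ := exists_minimalPrimes_subdim_eq Rh
  rw [hQe, dim_cpl_quot_minimal R hUC Q hQ]
  exact subdim_le_dim_quotient (Groth.Agent.Helper8.FC.under_mem_minimalPrimes Q hQ)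

/-- **Part 2**: if `pR̂` is prime for every minimal prime `p` of `R`, then `c(R) ≤ c(R̂)`. -/
theorem connDim_le_connDim_cpl
    (h : ∀ p ∈ minimalPrimes R, (p.map (algebraMap R Rh)).IsPrime) :
    connDim (PrimeSpectrum R) ≤ connDim (PrimeSpectrum Rh) := by
  haveI : IsNoetherianRing Rh := Groth.Agent.Helper8.AdicReg.isNoetherianRing R _
  obtain ⟨A', B', hA', hB', hA'ne, hB'ne, hAB', hconn⟩ :=
    exists_pair_connDim_eq (T := PrimeSpectrum Rh)
  set φ := PrimeSpectrum.comap (algebraMap R Rh) with hφ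
  have hpre : ∀ J : Ideal R, φ ⁻¹' PrimeSpectrum.zeroLocus (J : Set R) =
      PrimeSpectrum.zeroLocus ((J.map (algebraMap R Rh) : Ideal Rh) : Set Rh) := by
    intro J
    rw [hφ, PrimeSpectrum.preimage_comap_zeroLocus, ← PrimeSpectrum.zeroLocus_span]
    rfl
  have K1 : ∀ Z ∈ irreducibleComponents (PrimeSpectrum R),
      φ ⁻¹' Z ∈ irreducibleComponents (PrimeSpectrum Rh) := by
    intro Z hZ
    obtain ⟨p, hp, rfl⟩ := exists_minimalPrimes_of_mem_irreducibleComponents hZ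
    rw [hpre]
    haveI := h p hp
    apply zeroLocus_mem_irreducibleComponents
    apply mem_minimalPrimes_of_mem_minimalPrimes_map R hp
    rw [Ideal.minimalPrimes_eq_subsingleton_self]
    exact Set.mem_singleton _
  have K2 : ∀ Z' ∈ irreducibleComponents (PrimeSpectrum Rh),
      ∃ Z ∈ irreducibleComponents (PrimeSpectrum R), Z' = φ ⁻¹' Z := by
    intro Z' hZ'
    obtain ⟨Q, hQ, rfl⟩ := exists_minimalPrimes_of_mem_irreducibleComponents hZ'
    haveI : Q.IsPrime := hQ.1.1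
    have hpmin : Q.under R ∈ minimalPrimes R :=
      Groth.Agent.Helper8.FC.under_mem_minimalPrimes Q hQ
    refine ⟨_, zeroLocus_mem_irreducibleComponents hpmin, ?_⟩
    rw [hpre]
    have hle : (Q.under R).map (algebraMap R Rh) ≤ Q := Ideal.map_comap_le
    have : Q = (Q.under R).map (algebraMap R Rh) :=
      le_antisymm (hQ.2 ⟨h _ hpmin, bot_le⟩ hle) hle
    rw [← this]
  set A : Set (Set (PrimeSpectrum R)) :=
    {Z | Z ∈ irreducibleComponents (PrimeSpectrum R) ∧ φ ⁻¹' Z ∈ A'} with hAdef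
  set B : Set (Set (PrimeSpectrum R)) :=
    {Z | Z ∈ irreducibleComponents (PrimeSpectrum R) ∧ φ ⁻¹' Z ∈ B'} with hBdef
  have hA : A ⊆ irreducibleComponents (PrimeSpectrum R) := fun Z hZ => hZ.1
  have hB : B ⊆ irreducibleComponents (PrimeSpectrum R) := fun Z hZ => hZ.1
  have hAne : A.Nonempty := by
    obtain ⟨Z', hZ'⟩ := hA'ne
    obtain ⟨Z, hZ, rfl⟩ := K2 Z' (hA' hZ')
    exact ⟨Z, hZ, hZ'⟩
  have hBne : B.Nonempty := by
    obtain ⟨Z', hZ'⟩ := hB'ne
    obtain ⟨Z, hZ, rfl⟩ := K2 Z' (hB' hZ')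
    exact ⟨Z, hZ, hZ'⟩
  have hAB : A ∪ B = irreducibleComponents (PrimeSpectrum R) := by
    apply Set.Subset.antisymm (Set.union_subset hA hB)
    intro Z hZ
    have := K1 Z hZ
    rw [← hAB'] at this
    rcases this with h1 | h1
    · exact Or.inl ⟨hZ, h1⟩
    · exact Or.inr ⟨hZ, h1⟩
  have hUA : ⋃₀ A' = φ ⁻¹' (⋃₀ A) := by
    ext x
    constructor
    · rintro ⟨Z', hZ', hx⟩
      obtain ⟨Z, hZ, rfl⟩ := K2 Z' (hA' hZ')
      exact ⟨Z, ⟨hZ, hZ'⟩, hx⟩
    · rintro ⟨Z, ⟨hZ, hZ'⟩, hx⟩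
      exact ⟨φ ⁻¹' Z, hZ', hx⟩
  have hUB : ⋃₀ B' = φ ⁻¹' (⋃₀ B) := by
    ext x
    constructor
    · rintro ⟨Z', hZ', hx⟩
      obtain ⟨Z, hZ, rfl⟩ := K2 Z' (hB' hZ')
      exact ⟨Z, ⟨hZ, hZ'⟩, hx⟩
    · rintro ⟨Z, ⟨hZ, hZ'⟩, hx⟩
      exact ⟨φ ⁻¹' Z, hZ', hx⟩
  have hset : ⋃₀ A' ∩ ⋃₀ B' = φ ⁻¹' (⋃₀ A ∩ ⋃₀ B) := by
    rw [hUA, hUB, Set.preimage_inter]
  have hcl : IsClosed (⋃₀ A ∩ ⋃₀ B) :=
    (isClosed_sUnion_of_subset_irreducibleComponents hA).inter
      (isClosed_sUnion_of_subset_irreducibleComponents hB)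
  rw [hconn, hset, topDim_preimage_comap R _ hcl]
  exact connDim_le_of_pair A B hA hB hAne hBne hAB

/-- **S11671.** -/
theorem main_S11671 :
    connDim (PrimeSpectrum Rh) ≤ connDim (PrimeSpectrum R) ∧
      ((∀ p ∈ minimalPrimes R, (p.map (algebraMap R Rh)).IsPrime) →
        connDim (PrimeSpectrum Rh) = connDim (PrimeSpectrum R)) ∧
      subdim (PrimeSpectrum Rh) ≤ subdim (PrimeSpectrum R) ∧
      (CAlg.IsUniversallyCatenary R →
        subdim (PrimeSpectrum Rh) = subdim (PrimeSpectrum R)) :=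
  ⟨connDim_cpl_le R, fun h => le_antisymm (connDim_cpl_le R) (connDim_le_connDim_cpl R h),
    subdim_cpl_le R, fun hUC => le_antisymm (subdim_cpl_le R) (subdim_le_subdim_cpl R hUC)⟩

end Groth.Agent.Helper8.HLV
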