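import Groth.Agent.Lib.Helper8.LC35

set_option autoImplicit false
universe u
open CategoryTheory CategoryTheory.Limits Opposite

namespace Groth.Agent.Helper8.LC

open Abelian localCohomology LocCoh

variable {R : Type u} [CommRing R] [IsNoetherianRing R] [IsLocalRing R]

lemma le_natCast_of_add_one_le {a : WithBot ℕ∞} {n : ℕ}
    (h : a + 1 ≤ ((n + 1 : ℕ) : WithBot ℕ∞)) : a ≤ (n : WithBot ℕ∞) := by
  by_cases hne : a = ⊥
  · rw [hne]; exact bot_le
  · obtain ⟨d', rfl, hd'⟩ := exists_nat_of_add_one_le hne h
    have : d' ≤ n := by omega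
    exact_mod_cast this

/-- a finite module of support dimension `≤ 0` over a local ring is Artinian. -/
lemma isArtinian_of_supportDim_le_zero (M : Type u) [AddCommGroup M] [Module R M]
    [Module.Finite R M] (h : Module.supportDim R M ≤ ((0 : ℕ) : WithBot ℕ∞)) : IsArtinian R M := by
  apply isArtinian_of_finite_of_isPowerTorsion
  apply isPowerTorsion_of_support_subset
  intro p hp
  rw [PrimeSpectrum.mem_zeroLocus]
  -- `p` is the maximal ideal
  by_contra hnot
  have hle : p.asIdeal ≤ IsLocalRing.maximalIdeal R := IsLocalRing.le_maximalIdeal p.2.ne_top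
  have hne : p.asIdeal ≠ IsLocalRing.maximalIdeal R := by
    intro heq
    apply hnot
    rw [heq]
  let m : PrimeSpectrum R := ⟨IsLocalRing.maximalIdeal R, inferInstance⟩
  have hlt : p < m := lt_of_le_of_ne hle (fun h' => hne (congrArg PrimeSpectrum.asIdeal h'))
  have hm : m ∈ Module.support R M :=
    Module.mem_support_mono hlt.le hp
  have h1 : (1 : WithBot ℕ∞) ≤ Module.supportDim R M := by
    apply Order.one_le_krullDim_iff.mpr
    exact ⟨⟨p, hp⟩, ⟨m, hm⟩, hlt⟩
  have := h1.trans h
  exact absurd this (by decide)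

end Groth.Agent.Helper8.LC

namespace Groth.Agent.Helper8.LC

open Abelian localCohomology LocCoh

variable {R : Type u} [CommRing R] [IsNoetherianRing R] [IsLocalRing R]

theorem isArtinian_H_top (a : Ideal R) (n : ℕ) :
    ∀ (M : Type u) [AddCommGroup M] [Module R M] [Module.Finite R M],
      Module.supportDim R M ≤ (n : WithBot ℕ∞) → IsArtinian R (H a n M) := by
  induction n with
  | zero =>
    intro M _ _ _ h
    haveI := isArtinian_of_supportDim_le_zero M h
    have e := h0Equiv a (ModuleCat.of R M)
    exact isArtinian_of_linearEquiv e.symm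
  | succ n ih =>
    intro M _ _ _ h
    let T := DRing.torsionSub a M
    have hbij := bijective_map_mkQ_torsionSub a M (n + 1) (Nat.succ_pos n)
    suffices h' : IsArtinian R (H a (n + 1) (M ⧸ T)) from
      isArtinian_of_linearEquiv (LinearEquiv.ofBijective _ hbij).symm
    have hM' : DRing.torsionSub a (M ⧸ T) = ⊥ := torsionSub_quotient_torsionSub_eq_bot a M
    have hdim' : Module.supportDim R (M ⧸ T) ≤ ((n + 1 : ℕ) : WithBot ℕ∞) :=
      (Module.supportDim_le_of_surjective T.mkQ (Submodule.mkQ_surjective T)).trans h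
    obtain ⟨x, hx, hreg⟩ := exists_isSMulRegular_mem_pow a (M ⧸ T) hM' 1
    rw [pow_one] at hx
    have hS := IsSMulRegular.smulShortComplex_shortExact (M := ModuleCat.of R (M ⧸ T)) hreg
    have hdimq : Module.supportDim R (QuotSMulTop x (M ⧸ T)) ≤ (n : WithBot ℕ∞) := by
      apply le_natCast_of_add_one_le
      exact (Module.supportDim_quotSMulTop_succ_le_of_notMem_minimalPrimes
        (fun _ hp => hreg.notMem_of_mem_minimalPrimes hp)).trans hdim'
    haveI : IsArtinian R ((localCohomology a n).obj
        (ModuleCat.smulShortComplex (ModuleCat.of R (M ⧸ T)) x).X₃) :=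
      ih (QuotSMulTop x (M ⧸ T)) hdimq
    change IsArtinian R ((localCohomology a (n + 1)).obj
      (ModuleCat.smulShortComplex (ModuleCat.of R (M ⧸ T)) x).X₁)
    apply Melk.isArtinian_of_isArtinian_torsionBy x
    · intro z
      obtain ⟨k, hk⟩ := isPowerTorsion a (n + 1) _ z
      exact ⟨k, hk _ (Ideal.pow_mem_pow hx k)⟩
    · have hmem : ∀ y, δ a n hS y ∈ Submodule.torsionBy R
          ((localCohomology a (n + 1)).obj
            (ModuleCat.smulShortComplex (ModuleCat.of R (M ⧸ T)) x).X₁) x := by
        intro y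
        apply (Submodule.mem_torsionBy_iff _ _).mpr
        have h1 := (exact_δ_f a n hS (δ a n hS y)).mpr ⟨y, rfl⟩
        exact (map_smul_id a (n + 1) (ModuleCat.of R (M ⧸ T)) x _).symm.trans h1
      refine isArtinian_of_surjective _ (LinearMap.codRestrict _ (δ a n hS) hmem) ?_
      rintro ⟨z, hz⟩
      have hz' : x • z = 0 := (Submodule.mem_torsionBy_iff _ _).mp hz
      have h1 : ((localCohomology a (n + 1)).map
          (ModuleCat.smulShortComplex (ModuleCat.of R (M ⧸ T)) x).f) z = 0 :=
        (map_smul_id a (n + 1) (ModuleCat.of R (M ⧸ T)) x z).trans hz'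
      obtain ⟨y, hy⟩ := (exact_δ_f a n hS z).mp h1
      exact ⟨y, Subtype.ext hy⟩

end Groth.Agent.Helper8.LC
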