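import Groth.Agent.Lib.Helper8.DM1
import Groth.Agent.Lib.Helper8.AppB2
import Groth.Agent.Lib.Helper8.LD3
import Groth.Agent.Lib.Helper8.LC36
import Groth.Agent.Lib.Helper8.HLV15
import Mathlib.Algebra.Category.ModuleCat.Ext.Finite

/-!
# The Delfino–Marley cofiniteness theorem for top local cohomology (S17760)
-/

set_option autoImplicit false
universe u

namespace Groth.Agent.Helper8.DM

open TensorProduct IsLocalRing LocCoh CategoryTheory Abelian
open Groth.Agent.Helper8.LC Groth.Agent.Helper8.HLV

section art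

variable {R : Type u} [CommRing R]

lemma isArtinian_hom (N T : Type u) [AddCommGroup N] [Module R N] [AddCommGroup T] [Module R T]
    [Module.Finite R N] [IsArtinian R T] : IsArtinian R (N →ₗ[R] T) := by
  obtain ⟨b, s, hs⟩ := Module.Finite.exists_fin (R := R) (M := N)
  let φ : (N →ₗ[R] T) →ₗ[R] (Fin b → T) :=
    { toFun := fun f j => f (s j)
      map_add' := fun f g => rfl
      map_smul' := fun r f => rfl }
  apply isArtinian_of_injective φ
  intro f g hfg
  apply LinearMap.ext_on_range hs
  intro j
  exact congrFun hfg j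

lemma isArtinian_ext [IsNoetherianRing R] (N T : ModuleCat.{u} R) [Module.Finite R N]
    [IsArtinian R T] (i : ℕ) : IsArtinian R (Ext N T i) := by
  induction i generalizing N with
  | zero =>
    haveI := isArtinian_hom (R := R) N T
    exact isArtinian_of_linearEquiv (Ext.linearEquiv₀.trans ModuleCat.homLinearEquiv).symm
  | succ n ih =>
    obtain ⟨P, _, _, _, _, f, surjf⟩ := Module.exists_finite_presentation R N
    let exac := LinearMap.shortExact_shortComplexKer surjf
    exact isArtinian_of_surjective _ (exac.extClass.precompOfLinear R T (add_comm 1 n))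
      (precomp_extClass_surjective_of_projective_X₂ T exac n)

end art

section cpl

variable (R : Type u) [CommRing R] [IsNoetherianRing R] [IsLocalRing R]

local notation "Rh" => AdicCompletion (maximalIdeal R) R

lemma mk_one_bijective (T : Type u) [AddCommGroup T] [Module R T]
    (hT : IsPowerTorsion (maximalIdeal R) T) :
    Function.Bijective (TensorProduct.mk R Rh T 1) := by
  haveI : IsNoetherianRing Rh := Groth.Agent.Helper8.AdicReg.isNoetherianRing R _
  haveI : Module.FaithfullyFlat R Rh := faithfullyFlat_cpl R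
  constructor
  · exact Module.FaithfullyFlat.tensorProduct_mk_injective T
  · intro z
    induction z using TensorProduct.induction_on with
    | zero => exact ⟨0, map_zero _⟩
    | add x y hx hy =>
      obtain ⟨a, rfl⟩ := hx
      obtain ⟨b, rfl⟩ := hy
      exact ⟨a + b, map_add _ _ _⟩
    | tmul b t =>
      obtain ⟨j, hj⟩ := hT t
      obtain ⟨r, hr⟩ := Groth.Agent.Helper8.AppB.exists_sub_mem_map_pow (maximalIdeal R)
        (IsNoetherian.noetherian _) b j
      refine ⟨r • t, ?_⟩
      have key : ∀ c ∈ ((maximalIdeal R) ^ j).map (algebraMap R Rh),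
          c ⊗ₜ[R] t = (0 : Rh ⊗[R] T) := by
        intro c hc
        have hc' : c ∈ Submodule.span Rh
            ((algebraMap R Rh) '' (((maximalIdeal R) ^ j : Ideal R) : Set R)) := hc
        clear hc
        induction hc' using Submodule.span_induction with
        | mem x hx =>
          obtain ⟨a, ha, rfl⟩ := hx
          rw [Algebra.algebraMap_eq_smul_one, TensorProduct.smul_tmul, hj a ha,
            TensorProduct.tmul_zero]
        | zero => exact TensorProduct.zero_tmul _ _
        | add x y _ _ hx hy => rw [TensorProduct.add_tmul, hx, hy, add_zero]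
        | smul a x _ hx => rw [← TensorProduct.smul_tmul', hx, smul_zero]
      have h1 : b ⊗ₜ[R] t = (algebraMap R Rh r) ⊗ₜ[R] t := by
        have := key _ hr
        rw [TensorProduct.sub_tmul, sub_eq_zero] at this
        exact this
      rw [TensorProduct.mk_apply, h1, Algebra.algebraMap_eq_smul_one, TensorProduct.smul_tmul]

lemma supportDim_baseChange_le (M : Type u) [AddCommGroup M] [Module R M] [Module.Finite R M] :
    Module.supportDim Rh (Rh ⊗[R] M) ≤ Module.supportDim R M := by
  haveI : IsNoetherianRing Rh := Groth.Agent.Helper8.AdicReg.isNoetherianRing R _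
  by_cases hsub : Subsingleton M
  · haveI : Subsingleton (Rh ⊗[R] M) := inferInstance
    rw [Module.supportDim_eq_bot_of_subsingleton]
    exact bot_le
  · rw [not_subsingleton_iff_nontrivial] at hsub
    rw [Module.supportDim_eq_ringKrullDim_quotient_annihilator,
      Module.supportDim_eq_ringKrullDim_quotient_annihilator]
    have h𝔞 : Module.annihilator R M ≠ ⊤ := by
      intro h
      have h1 : (1 : R) ∈ Module.annihilator R M := h ▸ Submodule.mem_top
      rw [Module.mem_annihilator] at h1
      obtain ⟨x, hx⟩ := exists_ne (0 : M)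
      exact hx (by simpa using h1 x)
    have hle : (Module.annihilator R M).map (algebraMap R Rh) ≤
        Module.annihilator Rh (Rh ⊗[R] M) := by
      rw [Ideal.map_le_iff_le_comap]
      intro a ha
      rw [Ideal.mem_comap, Module.mem_annihilator]
      intro z
      induction z using TensorProduct.induction_on with
      | zero => exact smul_zero _
      | add x y hx hy => rw [smul_add, hx, hy, add_zero]
      | tmul b m =>
        rw [algebraMap_smul, ← TensorProduct.tmul_smul, Module.mem_annihilator.mp ha m,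
          TensorProduct.tmul_zero]
    calc ringKrullDim (Rh ⧸ Module.annihilator Rh (Rh ⊗[R] M))
        ≤ ringKrullDim (Rh ⧸ (Module.annihilator R M).map (algebraMap R Rh)) :=
          ringKrullDim_le_of_surjective (Ideal.Quotient.factor hle)
            (Ideal.Quotient.factor_surjective hle)
      _ = ringKrullDim (R ⧸ Module.annihilator R M) := dim_cpl_quot_map R _ h𝔞

lemma isFiniteLength_of_isArtinian_of_pow_smul (X : Type u) [AddCommGroup X] [Module R X]
    [IsArtinian R X] (k : ℕ) (h : ∀ a ∈ maximalIdeal R ^ k, ∀ x : X, a • x = 0) :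
    IsFiniteLength R X := by
  have htors : Module.IsTorsionBySet R X ((maximalIdeal R ^ k : Ideal R) : Set R) := by
    intro x a
    exact h a.1 a.2 x
  letI : Module (R ⧸ maximalIdeal R ^ k) X := htors.module
  haveI : IsScalarTower R (R ⧸ maximalIdeal R ^ k) X := htors.isScalarTower
  have hA : IsFiniteLength R (R ⧸ maximalIdeal R ^ k) :=
    Groth.Agent.Helper1.MatlisL.isFiniteLength_quotient_of_pow_le (maximalIdeal R ^ k) k le_rfl
  have hA' : IsArtinian R (R ⧸ maximalIdeal R ^ k) :=
    (isFiniteLength_iff_isNoetherian_isArtinian.mp hA).2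
  haveI : IsArtinianRing (R ⧸ maximalIdeal R ^ k) := isArtinian_of_tower R hA'
  have hX : IsArtinian (R ⧸ maximalIdeal R ^ k) X := isArtinian_of_tower R inferInstance
  haveI : IsNoetherian (R ⧸ maximalIdeal R ^ k) X :=
    IsSemiprimaryRing.isNoetherian_iff_isArtinian.mpr hX
  haveI : Module.Finite (R ⧸ maximalIdeal R ^ k) X := inferInstance
  haveI : Module.Finite R X := Module.Finite.trans (R ⧸ maximalIdeal R ^ k) X
  exact Groth.Agent.Helper8.LD.isFiniteLength_of_pow_smul_eq_zero X k h

theorem isFiniteLength_newExt (I : Ideal R) (M : Type u) [AddCommGroup M] [Module R M]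
    [Module.Finite R M] (n : ℕ) (hn : Module.supportDim R M ≤ (n : WithBot ℕ∞)) (i : ℕ) :
    IsFiniteLength R (Ext (ModuleCat.of R (R ⧸ I)) (ModuleCat.of R (H I n M)) i) := by
  haveI : IsNoetherianRing Rh := Groth.Agent.Helper8.AdicReg.isNoetherianRing R _
  haveI : Module.FaithfullyFlat R Rh := faithfullyFlat_cpl R
  haveI hart : IsArtinian R (H I n M) := isArtinian_H_top I n M hn
  have hpt : IsPowerTorsion (maximalIdeal R) (H I n M) :=
    Groth.Agent.Helper1.MatlisL.isPowerTorsion_of_isArtinian (H I n M)
  haveI hartE : IsArtinian R (Ext (ModuleCat.of R (R ⧸ I)) (ModuleCat.of R (H I n M)) i) :=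
    isArtinian_ext (ModuleCat.of R (R ⧸ I)) (ModuleCat.of R (H I n M)) i
  obtain ⟨𝔟, hrad, hann⟩ := exists_ideal_le_annihilator (I.map (algebraMap R Rh)) n (Rh ⊗[R] M)
    ((supportDim_baseChange_le R M).trans hn)
  obtain ⟨e⟩ := Groth.Agent.Helper8.FBC.nonempty_baseChange_H_equiv (R' := Rh) I n M
  have hkill : ∀ s ∈ 𝔟, ∀ z : Rh ⊗[R] H I n M, s • z = 0 := by
    intro s hs z
    apply e.injective
    rw [map_smul, map_zero]
    exact Module.mem_annihilator.mp (hann hs) _
  obtain ⟨k, hk⟩ := Ideal.exists_pow_le_of_le_radical_of_fg hrad (IsNoetherian.noetherian _)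
  let Y : ModuleCat.{u} R := ModuleCat.of R (Rh ⊗[R] H I n M)
  let μ : Rh → (Y ⟶ Y) := fun s =>
    ModuleCat.ofHom ((LinearMap.lsmul Rh (Rh ⊗[R] H I n M) s).restrictScalars R)
  have μ_apply : ∀ (s : Rh) (z : Rh ⊗[R] H I n M), (μ s).hom z = s • z := fun s z => rfl
  let 𝔠 : Ideal Rh :=
    { carrier := {s | ∀ α : Ext (ModuleCat.of R (R ⧸ I)) Y i,
        α.comp (Ext.mk₀ (μ s)) (add_zero i) = 0}
      add_mem' := by
        intro s t hs ht α
        have h1 : μ (s + t) = μ s + μ t := by
          apply ModuleCat.hom_ext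
          apply LinearMap.ext
          intro z
          exact add_smul s t z
        rw [h1, Ext.mk₀_add, Ext.comp_add, hs α, ht α, add_zero]
      zero_mem' := by
        intro α
        have h1 : μ 0 = 0 := by
          apply ModuleCat.hom_ext
          apply LinearMap.ext
          intro z
          exact zero_smul Rh z
        rw [h1, Ext.mk₀_zero, Ext.comp_zero]
      smul_mem' := by
        intro c s hs α
        have h1 : μ (c • s) = μ s ≫ μ c := by
          apply ModuleCat.hom_ext
          apply LinearMap.ext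
          intro z
          exact mul_smul c s z
        have h2 : α.comp (Ext.mk₀ (μ s ≫ μ c)) (add_zero i) =
            (α.comp (Ext.mk₀ (μ s)) (add_zero i)).comp (Ext.mk₀ (μ c)) (add_zero i) := by
          rw [Ext.comp_assoc_of_third_deg_zero, Ext.mk₀_comp_mk₀]
        rw [h1, h2, hs α, Ext.zero_comp] }
  have h𝔟𝔠 : 𝔟 ≤ 𝔠 := by
    intro s hs α
    have h1 : μ s = 0 := by
      apply ModuleCat.hom_ext
      apply LinearMap.ext
      intro z
      exact hkill s hs z
    rw [h1, Ext.mk₀_zero, Ext.comp_zero]
  have hI𝔠 : I.map (algebraMap R Rh) ≤ 𝔠 := by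
    rw [Ideal.map_le_iff_le_comap]
    intro a ha α
    have h1 : μ (algebraMap R Rh a) = a • 𝟙 Y := by
      apply ModuleCat.hom_ext
      apply LinearMap.ext
      intro z
      exact algebraMap_smul Rh a z
    rw [h1, ← Ext.smul_eq_comp_mk₀]
    apply Groth.Agent.Helper8.LD.smul_ext_eq_zero_of_left a _ i α
    intro (x : R ⧸ I)
    obtain ⟨b, rfl⟩ := Ideal.Quotient.mk_surjective x
    rw [Algebra.smul_def, Ideal.Quotient.algebraMap_eq, ← map_mul,
      Ideal.Quotient.eq_zero_iff_mem]
    exact Ideal.mul_mem_right _ _ ha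
  have hm𝔠 : maximalIdeal Rh ^ k ≤ 𝔠 := hk.trans (sup_le h𝔟𝔠 hI𝔠)
  have hY : ∀ r ∈ maximalIdeal R ^ k, ∀ α : Ext (ModuleCat.of R (R ⧸ I)) Y i, r • α = 0 := by
    intro r hr α
    have h1 : algebraMap R Rh r ∈ maximalIdeal Rh ^ k := by
      rw [AdicCompletion.maximalIdeal_eq_map, ← Ideal.map_pow]
      exact Ideal.mem_map_of_mem _ hr
    have h2 : μ (algebraMap R Rh r) = r • 𝟙 Y := by
      apply ModuleCat.hom_ext
      apply LinearMap.ext
      intro z
      exact algebraMap_smul Rh r z
    have h3 := hm𝔠 h1 α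
    rw [h2, ← Ext.smul_eq_comp_mk₀] at h3
    exact h3
  let ε : ModuleCat.of R (H I n M) ≅ Y :=
    (LinearEquiv.ofBijective (TensorProduct.mk R Rh (H I n M) 1)
      (mk_one_bijective R (H I n M) hpt)).toModuleIso
  apply isFiniteLength_of_isArtinian_of_pow_smul R _ k
  intro r hr β
  have h1 : β = (β.comp (Ext.mk₀ ε.hom) (add_zero i)).comp (Ext.mk₀ ε.inv) (add_zero i) := by
    rw [Ext.comp_assoc_of_third_deg_zero, Ext.mk₀_comp_mk₀, ε.hom_inv_id, Ext.comp_mk₀_id]
  rw [h1, ← Ext.smul_comp, hY r hr, Ext.zero_comp]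

theorem main_S17760 (I : Ideal R) (M : Type u) [AddCommGroup M] [Module R M]
    [Module.Finite R M] (n : ℕ) (hn : Module.supportDim R M = n) (i : ℕ) :
    IsFiniteLength R (((_root_.Ext R (ModuleCat.{u} R) i).obj
      (Opposite.op (ModuleCat.of R (R ⧸ I)))).obj (ModuleCat.of R (LocCoh.H I n M))) :=
  (cmpC (ModuleCat.of R (R ⧸ I)) (ModuleCat.of R (H I n M)) i).symm.isFiniteLength
    (isFiniteLength_newExt R I M n hn.le i)

end cpl

end Groth.Agent.Helper8.DM
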