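import Groth.Agent.Lib.Helper8.LC52
import Groth.Prelude.Def_W4bk5brsh16IT

set_option autoImplicit false
universe u
open CategoryTheory CategoryTheory.Limits Opposite

namespace Groth.Agent.Helper8.DT

open LocCoh Groth.Agent.Helper8.LC

variable {R : Type u} [CommRing R] (I : Ideal R)

/-- the inclusion `I ^ k → I ^ n` for `n ≤ k`. -/
def incl {n k : ℕ} (h : n ≤ k) : (I ^ k : Ideal R) →ₗ[R] (I ^ n : Ideal R) :=
  Submodule.inclusion (Ideal.pow_le_pow_right h)

lemma incl_apply {n k : ℕ} (h : n ≤ k) (x : (I ^ k : Ideal R)) : (incl I h x : R) = x := rfl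

/-- hom-module element from a linear map. -/
def toObj (n : ℕ) (M : ModuleCat.{u} R) (φ : (I ^ n : Ideal R) →ₗ[R] M) :
    ((transformDiagram I).obj (idx n)).obj M :=
  (ModuleCat.ofHom φ : ModuleCat.of R (I ^ n : Ideal R) ⟶ M)

/-- linear map from a hom-module element. -/
def ofObj (n : ℕ) (M : ModuleCat.{u} R) (g : ((transformDiagram I).obj (idx n)).obj M) :
    (I ^ n : Ideal R) →ₗ[R] M :=
  ModuleCat.Hom.hom (show ModuleCat.of R (I ^ n : Ideal R) ⟶ M from g)

lemma toObj_ofObj (n : ℕ) (M : ModuleCat.{u} R) (g : ((transformDiagram I).obj (idx n)).obj M) :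
    toObj I n M (ofObj I n M g) = g := rfl

lemma ofObj_toObj (n : ℕ) (M : ModuleCat.{u} R) (φ : (I ^ n : Ideal R) →ₗ[R] M) :
    ofObj I n M (toObj I n M φ) = φ := rfl

lemma toObj_injective (n : ℕ) (M : ModuleCat.{u} R) : Function.Injective (toObj I n M) := by
  intro φ ψ h
  have := congrArg (ofObj I n M) h
  exact this

lemma diagram_map_toObj {n k : ℕ} (h : n ≤ k) (M : ModuleCat.{u} R)
    (φ : (I ^ n : Ideal R) →ₗ[R] M) :
    (((transformDiagram I).map (idxHom h)).app M) (toObj I n M φ) =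
      toObj I k M (φ ∘ₗ incl I h) := rfl

lemma diagram_obj_map_toObj (n : ℕ) {M M' : ModuleCat.{u} R} (f : M ⟶ M')
    (φ : (I ^ n : Ideal R) →ₗ[R] M) :
    (((transformDiagram I).obj (idx n)).map f) (toObj I n M φ) =
      toObj I n M' (f.hom ∘ₗ φ) := rfl

/-- the evaluated colimit cocone is a colimit. -/
noncomputable def isColimitEvalD (M : ModuleCat.{u} R) :
    IsColimit (((evaluation _ _).obj M).mapCocone (colimit.cocone (transformDiagram I))) :=
  isColimitOfPreserves _ (colimit.isColimit _)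

/-- the structure map into the ideal transform. -/
noncomputable def ιD (n : ℕ) (M : ModuleCat.{u} R) :
    ((I ^ n : Ideal R) →ₗ[R] M) →ₗ[R] (idealTransform I).obj M where
  toFun φ := ((colimit.ι (transformDiagram I) (idx n)).app M) (toObj I n M φ)
  map_add' φ ψ := by
    have : toObj I n M (φ + ψ) = toObj I n M φ + toObj I n M ψ := rfl
    rw [this, map_add]
    rfl
  map_smul' r φ := by
    have : toObj I n M (r • φ) = r • toObj I n M φ := rfl
    rw [this, map_smul]
    rfl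

lemma ιD_apply (n : ℕ) (M : ModuleCat.{u} R) (φ : (I ^ n : Ideal R) →ₗ[R] M) :
    ιD I n M φ = ((colimit.ι (transformDiagram I) (idx n)).app M) (toObj I n M φ) := rfl

lemma ιD_trans {n k : ℕ} (h : n ≤ k) (M : ModuleCat.{u} R) (φ : (I ^ n : Ideal R) →ₗ[R] M) :
    ιD I k M (φ ∘ₗ incl I h) = ιD I n M φ := by
  have hw := colimit.w (transformDiagram I) (idxHom h)
  have hw' := congrArg (fun α => (α.app M).hom (toObj I n M φ)) hw
  exact hw'

lemma ιD_map (n : ℕ) {M M' : ModuleCat.{u} R} (f : M ⟶ M') (φ : (I ^ n : Ideal R) →ₗ[R] M) :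
    ((idealTransform I).map f) (ιD I n M φ) = ιD I n M' (f.hom ∘ₗ φ) := by
  have hn := (colimit.ι (transformDiagram I) (idx n)).naturality f
  have hn' := congrArg (fun α => α.hom (toObj I n M φ)) hn
  exact hn'.symm

lemma ιD_rep (M : ModuleCat.{u} R) (x : (idealTransform I).obj M) :
    ∃ (n : ℕ) (φ : (I ^ n : Ideal R) →ₗ[R] M), ιD I n M φ = x := by
  obtain ⟨j, y, hy⟩ := Concrete.isColimit_exists_rep
    (transformDiagram I ⋙ (evaluation _ _).obj M) (isColimitEvalD I M) x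
  exact ⟨j.unop.unop, ofObj I _ M y, hy⟩

lemma ιD_eq_iff {n m : ℕ} (M : ModuleCat.{u} R) (φ : (I ^ n : Ideal R) →ₗ[R] M)
    (ψ : (I ^ m : Ideal R) →ₗ[R] M) :
    ιD I n M φ = ιD I m M ψ ↔ ∃ (k : ℕ) (hn : n ≤ k) (hm : m ≤ k),
      φ ∘ₗ incl I hn = ψ ∘ₗ incl I hm := by
  constructor
  · intro h
    obtain ⟨k, f, g, hfg⟩ := Concrete.isColimit_exists_of_rep_eq
      (transformDiagram I ⋙ (evaluation _ _).obj M)
      (i := idx n) (j := idx m) (isColimitEvalD I M) (toObj I n M φ) (toObj I m M ψ) h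
    have hn : n ≤ k.unop.unop := leOfHom f.unop.unop
    have hm : m ≤ k.unop.unop := leOfHom g.unop.unop
    refine ⟨k.unop.unop, hn, hm, ?_⟩
    have hf : f = idxHom hn := Subsingleton.elim _ _
    have hg : g = idxHom hm := Subsingleton.elim _ _
    rw [hf, hg] at hfg
    exact toObj_injective I _ M hfg
  · rintro ⟨k, hn, hm, h⟩
    rw [← ιD_trans I hn, ← ιD_trans I hm, h]

lemma ιD_eq_zero_iff {n : ℕ} (M : ModuleCat.{u} R) (φ : (I ^ n : Ideal R) →ₗ[R] M) :
    ιD I n M φ = 0 ↔ ∃ (k : ℕ) (hn : n ≤ k), φ ∘ₗ incl I hn = 0 := by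
  constructor
  · intro h
    have h' : ιD I n M φ = ιD I n M 0 := by rw [h, map_zero]
    obtain ⟨k, hn, hm, hk⟩ := (ιD_eq_iff I M φ 0).mp h'
    exact ⟨k, hn, by rw [hk, LinearMap.zero_comp]⟩
  · rintro ⟨k, hn, hk⟩
    rw [← ιD_trans I hn, hk, map_zero]

/-- multiplication by an element, restricted to an ideal. -/
def smulMap (J : Ideal R) (M : ModuleCat.{u} R) (m : M) : J →ₗ[R] M :=
  ((LinearMap.lsmul R M).domRestrict J).flip m

lemma smulMap_apply (J : Ideal R) (M : ModuleCat.{u} R) (m : M) (r : J) :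
    smulMap J M m r = (r : R) • m := rfl

lemma toDT_eq (M : Type u) [AddCommGroup M] [Module R M] (m : M) :
    toDT I M m = ιD I 0 (ModuleCat.of R M) (smulMap (I ^ 0) (ModuleCat.of R M) m) := rfl

lemma toDT_eq' (M : Type u) [AddCommGroup M] [Module R M] (m : M) (n : ℕ) :
    toDT I M m = ιD I n (ModuleCat.of R M) (smulMap (I ^ n) (ModuleCat.of R M) m) := by
  rw [toDT_eq, ← ιD_trans I (Nat.zero_le n)]
  rfl

end Groth.Agent.Helper8.DT
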