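import Groth.Agent.Lib.Helper8.DT7
import Groth.Agent.Lib.Helper8.LC28

set_option autoImplicit false
universe u
open CategoryTheory CategoryTheory.Limits Opposite

namespace Groth.Agent.Helper8.DT

open LocCoh Groth.Agent.Helper8.LC Abelian

variable {R : Type u} [CommRing R] [IsNoetherianRing R] (I : Ideal R)
  (M : Type u) [AddCommGroup M] [Module R M]

omit [IsNoetherianRing R] in
lemma torsionSub_eq_bot_of_isSMulRegular (x : R) (hx : x ∈ I) (hreg : IsSMulRegular M x) :
    DRing.torsionSub I M = ⊥ := by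
  rw [eq_bot_iff]
  rintro m ⟨n, hn⟩
  have h1 : x ^ n • m = x ^ n • (0 : M) := by
    rw [smul_zero]
    exact hn _ (Ideal.pow_mem_pow hx n)
  exact (hreg.pow n) h1

theorem toDT_bijective_of_regular_pair (x y : R) (hx : x ∈ I) (hy : y ∈ I)
    (hreg : RingTheory.Sequence.IsRegular M [x, y]) : Function.Bijective (toDT I M) := by
  have hw := hreg.toIsWeaklyRegular
  rw [RingTheory.Sequence.isWeaklyRegular_cons_iff] at hw
  obtain ⟨hxreg, hw2⟩ := hw
  rw [RingTheory.Sequence.isWeaklyRegular_cons_iff] at hw2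
  have hyreg := hw2.1
  apply toDT_bijective_of_vanishing I M (torsionSub_eq_bot_of_isSMulRegular I M x hx hxreg)
  -- `H^1_I(M) = 0`
  have hf : Function.Injective (LinearMap.lsmul R M x) := hxreg
  have hS := sesQuot_shortExact _ hf
  have hQ0 : DRing.torsionSub I (M ⧸ LinearMap.range (LinearMap.lsmul R M x)) = ⊥ := by
    rw [eq_bot_iff]
    rintro q ⟨n, hn⟩
    obtain ⟨m, rfl⟩ := Submodule.Quotient.mk_surjective _ q
    have h1 := hn (y ^ n) (Ideal.pow_mem_pow hy n)
    rw [← Submodule.Quotient.mk_smul, Submodule.Quotient.mk_eq_zero] at h1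
    obtain ⟨m', hm'⟩ := h1
    rw [Submodule.mem_bot, Submodule.Quotient.mk_eq_zero]
    -- in `M ⧸ x • ⊤`, `y ^ n • [m] = 0`
    have h2 : y ^ n • (Submodule.Quotient.mk m : QuotSMulTop x M) =
        y ^ n • (0 : QuotSMulTop x M) := by
      rw [smul_zero, ← Submodule.Quotient.mk_smul, Submodule.Quotient.mk_eq_zero]
      rw [Submodule.mem_smul_pointwise_iff_exists]
      exact ⟨m', Submodule.mem_top, hm'⟩
    have h3 := (hyreg.pow n) h2
    rw [Submodule.Quotient.mk_eq_zero, Submodule.mem_smul_pointwise_iff_exists] at h3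
    obtain ⟨m'', -, hm''⟩ := h3
    exact ⟨m'', hm''⟩
  have hQ := subsingleton_h0_of_torsionSub_eq_bot I _ hQ0
  apply subsingleton_of_smul_injective I x hx 1 (ModuleCat.of R M)
  intro z hz
  have h1 : ((localCohomology I (0 + 1)).map (sesQuot (LinearMap.lsmul R M x)).f) z = 0 := by
    have : (sesQuot (LinearMap.lsmul R M x)).f = x • 𝟙 (ModuleCat.of R M) := rfl
    rw [this, map_smul_id]
    exact hz
  obtain ⟨w, rfl⟩ := (exact_δ_f I 0 hS z).mp h1
  have hw0 : w = 0 := hQ.elim _ _
  rw [hw0, map_zero]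

theorem DT_map_mkQ_torsionSub_bijective :
    Function.Bijective ((idealTransform I).map
      (ModuleCat.ofHom (DRing.torsionSub I M).mkQ)).hom := by
  apply DT_map_bijective_of_surjective I _ (Submodule.mkQ_surjective _)
  rw [Submodule.ker_mkQ]

theorem DT_map_toDT_bijective :
    Function.Bijective ((idealTransform I).map (ModuleCat.ofHom (toDT I M))).hom :=
  DT_map_bijective I (toDT I M) (ker_toDT_le I M) (isPowerTorsion_coker_toDT I M)

end Groth.Agent.Helper8.DT
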