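import Groth.Agent.Lib.Helper8.LC31

set_option autoImplicit false
universe u
open CategoryTheory CategoryTheory.Limits Opposite

namespace Groth.Agent.Helper8.LC

open Abelian localCohomology LocCoh

variable {R : Type u} [CommRing R] [IsNoetherianRing R]

section

variable {J : Type u} [SmallCategory J] [IsFiltered J] {F : J ⥤ ModuleCat.{u} R}
  {c : Cocone F} (hc : IsColimit c) (I : Ideal R) (i : ℕ)

include hc in
lemma H_exists_rep (x : (localCohomology I i).obj c.pt) :
    ∃ (j : J) (y : (localCohomology I i).obj (F.obj j)),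
      ((localCohomology I i).map (c.ι.app j)) y = x := by
  obtain ⟨n, e, rfl⟩ := ι_rep I i c.pt x
  haveI : Module.Finite R (R ⧸ I ^ n) := Module.Finite.quotient R _
  obtain ⟨j, e', rfl⟩ := (extLift_extKill hc i (R ⧸ I ^ n)).1 e
  exact ⟨j, ι I i n (F.obj j) e', ι_map I i n (c.ι.app j) e'⟩

include hc in
lemma H_exists_kill {j : J} (y : (localCohomology I i).obj (F.obj j))
    (hy : ((localCohomology I i).map (c.ι.app j)) y = 0) :
    ∃ (k : J) (f : j ⟶ k), ((localCohomology I i).map (F.map f)) y = 0 := by
  obtain ⟨n, e, rfl⟩ := ι_rep I i (F.obj j) y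
  rw [ι_map] at hy
  obtain ⟨k, hk, hk'⟩ := (ι_eq_zero_iff I i c.pt _).mp hy
  rw [← Ext.comp_assoc_of_third_deg_zero] at hk'
  haveI : Module.Finite R (R ⧸ I ^ k) := Module.Finite.quotient R _
  obtain ⟨j', f, hf⟩ := (extLift_extKill hc i (R ⧸ I ^ k)).2 j _ hk'
  refine ⟨j', f, ?_⟩
  rw [ι_map, ← ι_trans I i hk, ← Ext.comp_assoc_of_third_deg_zero, hf, map_zero]

end

theorem preservesFilteredColimits (I : Ideal R) (i : ℕ) (J : Type u) [SmallCategory J]
    [IsFiltered J] : PreservesColimitsOfShape J (localCohomology I i) := by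
  constructor
  intro F
  constructor
  intro c hc
  constructor
  apply isColimitOfReflects (forget (ModuleCat.{u} R))
  apply Types.FilteredColimit.isColimitOf
  · intro x
    obtain ⟨j, y, hy⟩ := H_exists_rep hc I i x
    exact ⟨j, y, hy.symm⟩
  · intro j₁ j₂ x₁ x₂ h
    change (localCohomology I i).obj (F.obj j₁) at x₁
    change (localCohomology I i).obj (F.obj j₂) at x₂
    have h' : ((localCohomology I i).map (c.ι.app j₁)) x₁ =
        ((localCohomology I i).map (c.ι.app j₂)) x₂ := h
    let j₀ := IsFiltered.max j₁ j₂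
    let a : j₁ ⟶ j₀ := IsFiltered.leftToMax j₁ j₂
    let b : j₂ ⟶ j₀ := IsFiltered.rightToMax j₁ j₂
    let y : (localCohomology I i).obj (F.obj j₀) :=
      ((localCohomology I i).map (F.map a)) x₁ - ((localCohomology I i).map (F.map b)) x₂
    have hy : ((localCohomology I i).map (c.ι.app j₀)) y = 0 := by
      have e1 : ((localCohomology I i).map (c.ι.app j₀))
          (((localCohomology I i).map (F.map a)) x₁) =
          ((localCohomology I i).map (c.ι.app j₁)) x₁ := by
        rw [← c.w a, Functor.map_comp]; rfl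
      have e2 : ((localCohomology I i).map (c.ι.app j₀))
          (((localCohomology I i).map (F.map b)) x₂) =
          ((localCohomology I i).map (c.ι.app j₂)) x₂ := by
        rw [← c.w b, Functor.map_comp]; rfl
      simp only [y, map_sub]
      rw [e1, e2, h', sub_self]
    obtain ⟨k, f, hk⟩ := H_exists_kill hc I i y hy
    refine ⟨k, a ≫ f, b ≫ f, ?_⟩
    simp only [y, map_sub, sub_eq_zero] at hk
    change ((localCohomology I i).map (F.map (a ≫ f))) x₁ =
      ((localCohomology I i).map (F.map (b ≫ f))) x₂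
    rw [F.map_comp, F.map_comp, Functor.map_comp, Functor.map_comp]
    exact hk

theorem preservesDirectedColimits (I : Ideal R) (i : ℕ) (Λ : Type u) [PartialOrder Λ]
    [IsDirected Λ (· ≤ ·)] [Nonempty Λ] : PreservesColimitsOfShape Λ (localCohomology I i) :=
  preservesFilteredColimits I i Λ

end Groth.Agent.Helper8.LC
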