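import Groth.Agent.Lib.Helper8.DT2

set_option autoImplicit false
universe u
open CategoryTheory CategoryTheory.Limits Opposite

namespace Groth.Agent.Helper8.DT

open LocCoh Groth.Agent.Helper8.LC Abelian

variable {R : Type u} [CommRing R] (I : Ideal R)

section Basic

variable (M : Type u) [AddCommGroup M] [Module R M]

lemma toDT_eq_zero_iff (m : M) : toDT I M m = 0 ↔ m ∈ DRing.torsionSub I M := by
  rw [toDT_eq, ιD_eq_zero_iff]
  constructor
  · rintro ⟨k, hk, h⟩
    refine ⟨k, fun a ha => ?_⟩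
    have := LinearMap.congr_fun h ⟨a, ha⟩
    exact this
  · rintro ⟨k, hk⟩
    refine ⟨k, Nat.zero_le k, ?_⟩
    apply LinearMap.ext
    intro a
    exact hk a.1 a.2

lemma ker_toDT : LinearMap.ker (toDT I M) = DRing.torsionSub I M := by
  ext m
  rw [LinearMap.mem_ker, toDT_eq_zero_iff]

lemma smul_ιD (n : ℕ) (M' : ModuleCat.{u} R) (a : R) (φ : (I ^ n : Ideal R) →ₗ[R] M') :
    a • ιD I n M' φ = ιD I n M' (a • φ) := (map_smul _ _ _).symm

/-- vanishing criterion: the restriction to a product of ideals. -/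
lemma comp_incl_eq_zero_of_mul {n k m : ℕ} (hnm : n ≤ m) (M' : ModuleCat.{u} R)
    (φ : (I ^ n : Ideal R) →ₗ[R] M')
    (h : ∀ r ∈ I ^ k, ∀ (s : R) (hs : s ∈ I ^ m),
      r • φ ⟨s, Ideal.pow_le_pow_right hnm hs⟩ = 0) :
    φ ∘ₗ incl I (show n ≤ k + m by omega) = 0 := by
  let W : Ideal R := Submodule.map (I ^ n : Submodule R R).subtype (LinearMap.ker φ)
  have hW : I ^ k * I ^ m ≤ W := by
    rw [Ideal.mul_le]
    intro r hr s hs
    refine ⟨r • ⟨s, Ideal.pow_le_pow_right hnm hs⟩, ?_, rfl⟩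
    change r • (⟨s, Ideal.pow_le_pow_right hnm hs⟩ : (I ^ n : Ideal R)) ∈ LinearMap.ker φ
    rw [LinearMap.mem_ker, map_smul]
    exact h r hr s hs
  apply LinearMap.ext
  intro z
  have hz : (z : R) ∈ I ^ k * I ^ m := by rw [← pow_add]; exact z.2
  obtain ⟨x, hx, hxz⟩ := hW hz
  have : x = incl I (show n ≤ k + m by omega) z := Subtype.ext hxz
  rw [LinearMap.comp_apply, ← this]
  exact hx

end Basic

section Noeth

variable [IsNoetherianRing R] (M : Type u) [AddCommGroup M] [Module R M]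

/-- (D3) the ideal transform has no power torsion. -/
theorem torsionSub_DT_eq_bot : DRing.torsionSub I (DT I M) = ⊥ := by
  classical
  rw [eq_bot_iff]
  rintro x ⟨k, hk⟩
  rw [Submodule.mem_bot]
  obtain ⟨n, φ, rfl⟩ := ιD_rep I (ModuleCat.of R M) x
  obtain ⟨A, hA⟩ := (IsNoetherian.noetherian (I ^ k) : (I ^ k).FG)
  have hA' : Ideal.span (A : Set R) = I ^ k := hA
  have hex : ∀ a : R, ∃ m : ℕ, a ∈ A → ∃ hn : n ≤ m, (a • φ) ∘ₗ incl I hn = 0 := by
    intro a
    by_cases ha : a ∈ A
    · have h1 : ιD I n (ModuleCat.of R M) (a • φ) = 0 := by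
        rw [← smul_ιD]
        exact hk a (hA' ▸ Ideal.subset_span ha)
      obtain ⟨m, hn, hm⟩ := (ιD_eq_zero_iff I _ _).mp h1
      exact ⟨m, fun _ => ⟨hn, hm⟩⟩
    · exact ⟨0, fun h => absurd h ha⟩
  choose mf hmf using hex
  let m := n + A.sup mf
  have hnm : n ≤ m := Nat.le_add_right _ _
  rw [ιD_eq_zero_iff]
  refine ⟨k + m, by omega, ?_⟩
  apply comp_incl_eq_zero_of_mul I hnm
  intro r hr s hs
  let V : Ideal R := LinearMap.ker (LinearMap.toSpanSingleton R M
    (φ ⟨s, Ideal.pow_le_pow_right hnm hs⟩))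
  have hV : I ^ k ≤ V := by
    rw [← hA', Ideal.span_le]
    intro a ha
    obtain ⟨hn, hm⟩ := hmf a ha
    have hle : mf a ≤ m := le_trans (Finset.le_sup ha) (Nat.le_add_left _ _)
    have hs' : s ∈ I ^ (mf a) := Ideal.pow_le_pow_right hle hs
    have := LinearMap.congr_fun hm ⟨s, hs'⟩
    change a ∈ LinearMap.ker _
    rw [LinearMap.mem_ker, LinearMap.toSpanSingleton_apply]
    exact this
  have := hV hr
  rw [LinearMap.mem_ker, LinearMap.toSpanSingleton_apply] at this
  exact this

/-- (D4) the ideal transform of a power torsion module vanishes. -/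
theorem subsingleton_DT_of_isPowerTorsion (T : Type u) [AddCommGroup T] [Module R T]
    (hT : IsPowerTorsion I T) : Subsingleton (DT I T) := by
  apply subsingleton_of_forall_eq_zero
  intro x
  obtain ⟨n, φ, rfl⟩ := ιD_rep I (ModuleCat.of R T) x
  let N := LinearMap.range φ
  haveI : Module.Finite R N := by
    haveI : Module.Finite R (I ^ n : Ideal R) := Module.IsNoetherian.finite R _
    exact Module.Finite.range φ
  have hN : IsPowerTorsion I N := by
    rintro ⟨y, hy⟩
    obtain ⟨k, hk⟩ := hT y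
    exact ⟨k, fun a ha => Subtype.ext (hk a ha)⟩
  obtain ⟨k, hk⟩ := exists_pow_le_annihilator I N hN
  rw [ιD_eq_zero_iff]
  refine ⟨k + n, by omega, ?_⟩
  apply comp_incl_eq_zero_of_mul I le_rfl
  intro r hr s hs
  have h1 := Module.mem_annihilator.mp (hk hr) ⟨φ ⟨s, hs⟩, ⟨_, rfl⟩⟩
  exact congrArg Subtype.val h1

end Noeth

section LeftExact

variable {X Y : Type u} [AddCommGroup X] [Module R X] [AddCommGroup Y] [Module R Y]

lemma DT_map_injective (f : X →ₗ[R] Y) (hf : Function.Injective f) :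
    Function.Injective ((idealTransform I).map (ModuleCat.ofHom f)).hom := by
  rw [injective_iff_map_eq_zero]
  intro x hx
  obtain ⟨n, φ, rfl⟩ := ιD_rep I (ModuleCat.of R X) x
  have hx' : ((idealTransform I).map (ModuleCat.ofHom f)) (ιD I n (ModuleCat.of R X) φ) = 0 := hx
  rw [ιD_map, ιD_eq_zero_iff] at hx'
  obtain ⟨k, hn, hk⟩ := hx'
  rw [ιD_eq_zero_iff]
  refine ⟨k, hn, ?_⟩
  apply LinearMap.ext
  intro z
  apply hf
  rw [LinearMap.zero_apply, map_zero]
  exact LinearMap.congr_fun hk z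

lemma toDT_natural (f : X →ₗ[R] Y) (x : X) :
    ((idealTransform I).map (ModuleCat.ofHom f)) (toDT I X x) = toDT I Y (f x) := by
  rw [toDT_eq, ιD_map, toDT_eq]
  congr 1
  apply LinearMap.ext
  intro r
  change f ((r : R) • x) = (r : R) • f x
  rw [map_smul]

/-- exactness in the middle. -/
lemma DT_exact {S : ShortComplex (ModuleCat.{u} R)} (hS : S.ShortExact)
    (y : (idealTransform I).obj S.X₂) (hy : ((idealTransform I).map S.g) y = 0) :
    ∃ x : (idealTransform I).obj S.X₁, ((idealTransform I).map S.f) x = y := by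
  obtain ⟨n, φ, rfl⟩ := ιD_rep I S.X₂ y
  rw [ιD_map, ιD_eq_zero_iff] at hy
  obtain ⟨k, hn, hk⟩ := hy
  have hf : Function.Injective S.f.hom := (ModuleCat.mono_iff_injective _).mp hS.mono_f
  have hex : ∀ z : (I ^ k : Ideal R), ∃ w : S.X₁, S.f.hom w = φ (incl I hn z) := by
    intro z
    have h1 : S.g.hom (φ (incl I hn z)) = 0 := LinearMap.congr_fun hk z
    exact (ShortComplex.ShortExact.moduleCat_exact_iff_function_exact S |>.mp hS.exact _).mp h1
  choose w hw using hex
  let ψ : (I ^ k : Ideal R) →ₗ[R] S.X₁ :=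
    { toFun := w
      map_add' := by
        intro a b
        apply hf
        rw [map_add, hw, hw, hw, map_add, map_add]
      map_smul' := by
        intro r a
        apply hf
        rw [map_smul, hw, hw, RingHom.id_apply, map_smul, map_smul] }
  refine ⟨ιD I k S.X₁ ψ, ?_⟩
  rw [ιD_map, ← ιD_trans I hn]
  congr 1
  apply LinearMap.ext
  intro z
  exact hw z

end LeftExact

end Groth.Agent.Helper8.DT
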