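import Groth.Agent.Lib.Helper8.DT3

set_option autoImplicit false
universe u
open CategoryTheory CategoryTheory.Limits Opposite

namespace Groth.Agent.Helper8.DT

open LocCoh Groth.Agent.Helper8.LC Abelian

variable {R : Type u} [CommRing R] (I : Ideal R)

section ConnE

variable (X : ModuleCat.{u} R)

/-- the object `I ^ n`. -/
abbrev P (n : ℕ) : ModuleCat.{u} R := ModuleCat.of R (I ^ n : Ideal R)

/-- the connecting map `Ext^j(I^n, X) → Ext^{j+1}(R/I^n, X)`. -/
noncomputable def connE (n j : ℕ) (e : Abelian.Ext (P I n) X j) : Abelian.Ext (Q I n) X (j + 1) :=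
  (sesPow_shortExact I n).extClass.comp e (add_comm 1 j)

lemma connE_incl {n k : ℕ} (h : n ≤ k) (j : ℕ) (e : Abelian.Ext (P I n) X j) :
    connE I X k j ((Ext.mk₀ (ModuleCat.ofHom (incl I h))).comp e (zero_add j)) =
      (Ext.mk₀ (proj I h)).comp (connE I X n j e) (zero_add (j + 1)) := by
  unfold connE
  rw [← Ext.comp_assoc _ _ _ (add_zero 1) (zero_add j) (by omega), extClass_incl,
    Ext.comp_assoc _ _ _ (zero_add 1) (add_comm 1 j) (by omega)]

lemma connE_injective (n j : ℕ) (hj : 0 < j) (e : Abelian.Ext (P I n) X j)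
    (he : connE I X n j e = 0) : e = 0 := by
  obtain ⟨x₂, hx₂⟩ := Ext.contravariant_sequence_exact₁ (sesPow_shortExact I n) X e
    (add_comm 1 j) he
  haveI : Projective (sesPow I n).X₂ := by
    change Projective (ModuleCat.of R R)
    infer_instance
  obtain ⟨i, rfl⟩ : ∃ i, j = i + 1 := ⟨j - 1, by omega⟩
  have : x₂ = 0 := Ext.eq_zero_of_projective _
  rw [← hx₂, this, Ext.comp_zero]

lemma connE_surjective (n j : ℕ) (e' : Abelian.Ext (Q I n) X (j + 1)) :
    ∃ e : Abelian.Ext (P I n) X j, connE I X n j e = e' := by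
  haveI : Projective (sesPow I n).X₂ := by
    change Projective (ModuleCat.of R R)
    infer_instance
  have h1 : (Ext.mk₀ (sesPow I n).g).comp e' (zero_add (j + 1)) = 0 :=
    Ext.eq_zero_of_projective _
  exact Ext.contravariant_sequence_exact₃ (sesPow_shortExact I n) X e' h1 (add_comm 1 j)

end ConnE

section Surj

variable {S : ShortComplex (ModuleCat.{u} R)} (hS : S.ShortExact)

include hS in
/-- the obstruction to lifting an element of `D_I(X₃)` lies in `H^2_I(X₁)`. -/
lemma DT_map_g_surjective_of_subsingleton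
    (h2 : Subsingleton ((localCohomology I 2).obj S.X₁)) :
    Function.Surjective ((idealTransform I).map S.g).hom := by
  intro y
  obtain ⟨n, φ, rfl⟩ := ιD_rep I S.X₃ y
  let e₁ : Abelian.Ext (P I n) S.X₁ 1 :=
    (Ext.mk₀ (ModuleCat.ofHom φ)).comp hS.extClass (zero_add 1)
  have h3 : ι I 2 n S.X₁ (connE I S.X₁ n 1 e₁) = 0 := h2.elim _ _
  obtain ⟨k, hk, hk'⟩ := (ι_eq_zero_iff I 2 S.X₁ _).mp h3
  rw [← connE_incl] at hk'
  have h4 := connE_injective I S.X₁ k 1 Nat.one_pos _ hk'
  rw [← Ext.comp_assoc _ _ _ (zero_add 0) (zero_add 1) (by omega), Ext.mk₀_comp_mk₀] at h4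
  obtain ⟨x₂, hx₂⟩ := Ext.covariant_sequence_exact₃ (P I k) hS _ rfl h4
  obtain ⟨f, rfl⟩ : ∃ f, Ext.mk₀ f = x₂ := ⟨_, Ext.mk₀_linearEquiv₀_apply (R := R) x₂⟩
  rw [Ext.mk₀_comp_mk₀] at hx₂
  have h5 : f ≫ S.g = ModuleCat.ofHom (incl I hk) ≫ ModuleCat.ofHom φ := by
    have := congrArg (Ext.linearEquiv₀ (R := R)) hx₂
    have e1 : ∀ g : P I k ⟶ S.X₃, Ext.linearEquiv₀ (R := R) (Ext.mk₀ g) = g := by
      intro g
      apply (Ext.linearEquiv₀ (R := R)).symm.injective
      rw [LinearEquiv.symm_apply_apply]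
      rfl
    rw [e1, e1] at this
    exact this
  refine ⟨ιD I k S.X₂ f.hom, ?_⟩
  change ((idealTransform I).map S.g) (ιD I k S.X₂ f.hom) = _
  rw [ιD_map, ← ιD_trans I hk]
  congr 1
  apply LinearMap.ext
  intro z
  exact congrArg (fun g => g.hom z) h5

end Surj

section Bij

variable [IsNoetherianRing R] {M M' : Type u} [AddCommGroup M] [Module R M] [AddCommGroup M']
  [Module R M']

/-- the ideal transform inverts surjections with torsion kernel. -/
lemma DT_map_bijective_of_surjective (f : M →ₗ[R] M') (hf : Function.Surjective f)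
    (hker : LinearMap.ker f ≤ DRing.torsionSub I M) :
    Function.Bijective ((idealTransform I).map (ModuleCat.ofHom f)).hom := by
  have hS := LinearMap.shortExact_shortComplexKer hf
  have hT : IsPowerTorsion I (LinearMap.ker f) := by
    rintro ⟨x, hx⟩
    obtain ⟨k, hk⟩ := hker hx
    exact ⟨k, fun a ha => Subtype.ext (hk a ha)⟩
  constructor
  · rw [injective_iff_map_eq_zero]
    intro x hx
    obtain ⟨w, rfl⟩ := DT_exact I hS x hx
    have : w = 0 := (subsingleton_DT_of_isPowerTorsion I _ hT).elim _ _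
    rw [this, map_zero]
  · exact DT_map_g_surjective_of_subsingleton I hS
      (subsingleton_of_isPowerTorsion I 2 (by omega) _ hT)

/-- the ideal transform inverts injections with torsion cokernel. -/
lemma DT_map_bijective_of_injective (f : M →ₗ[R] M') (hf : Function.Injective f)
    (hcoker : IsPowerTorsion I (M' ⧸ LinearMap.range f)) :
    Function.Bijective ((idealTransform I).map (ModuleCat.ofHom f)).hom := by
  refine ⟨DT_map_injective I f hf, ?_⟩
  have hS := sesQuot_shortExact f hf
  intro y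
  have h1 : ((idealTransform I).map (sesQuot f).g) y = 0 :=
    (subsingleton_DT_of_isPowerTorsion I _ hcoker).elim _ _
  exact DT_exact I hS y h1

/-- the ideal transform inverts maps with torsion kernel and cokernel. -/
theorem DT_map_bijective (e : M →ₗ[R] M') (hker : LinearMap.ker e ≤ DRing.torsionSub I M)
    (hcoker : IsPowerTorsion I (M' ⧸ LinearMap.range e)) :
    Function.Bijective ((idealTransform I).map (ModuleCat.ofHom e)).hom := by
  have h1 := DT_map_bijective_of_surjective I e.rangeRestrict e.surjective_rangeRestrict (by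
    rw [LinearMap.ker_rangeRestrict]; exact hker)
  have h2 := DT_map_bijective_of_injective I (LinearMap.range e).subtype
    (LinearMap.range e).injective_subtype (by
      rw [Submodule.range_subtype]; exact hcoker)
  have h3 : ModuleCat.ofHom e = ModuleCat.ofHom e.rangeRestrict ≫
      ModuleCat.ofHom (LinearMap.range e).subtype := rfl
  rw [h3, Functor.map_comp]
  exact h2.comp h1

/-- maps into the ideal transform are determined on a submodule with torsion quotient. -/
lemma eq_of_comp_eq {K : Type u} [AddCommGroup K] [Module R K] (e : M →ₗ[R] M')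
    (hcoker : IsPowerTorsion I (M' ⧸ LinearMap.range e)) (ψ₁ ψ₂ : M' →ₗ[R] DT I K)
    (h : ψ₁ ∘ₗ e = ψ₂ ∘ₗ e) : ψ₁ = ψ₂ := by
  apply LinearMap.ext
  intro x
  rw [← sub_eq_zero]
  have hmem : ψ₁ x - ψ₂ x ∈ DRing.torsionSub I (DT I K) := by
    obtain ⟨k, hk⟩ := hcoker ((LinearMap.range e).mkQ x)
    refine ⟨k, fun a ha => ?_⟩
    have h1 := hk a ha
    rw [← map_smul, Submodule.mkQ_apply, Submodule.Quotient.mk_eq_zero] at h1
    obtain ⟨m, hm⟩ := h1
    rw [smul_sub, ← map_smul, ← map_smul, ← hm]
    have := LinearMap.congr_fun h m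
    rw [LinearMap.comp_apply, LinearMap.comp_apply] at this
    rw [this, sub_self]
  rw [torsionSub_DT_eq_bot] at hmem
  exact hmem

end Bij

end Groth.Agent.Helper8.DT
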