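import Groth.Agent.Lib.Helper8.DT4

set_option autoImplicit false
universe u
open CategoryTheory CategoryTheory.Limits Opposite

namespace Groth.Agent.Helper8.DT

open LocCoh Groth.Agent.Helper8.LC Abelian

variable {R : Type u} [CommRing R] [IsNoetherianRing R] (I : Ideal R)

section Universal

variable {M M' K : Type u} [AddCommGroup M] [Module R M] [AddCommGroup M'] [Module R M']
  [AddCommGroup K] [Module R K]

/-- the factorization through the ideal transform. -/
noncomputable def factor (e : M →ₗ[R] M') (hker : LinearMap.ker e ≤ DRing.torsionSub I M)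
    (hcoker : IsPowerTorsion I (M' ⧸ LinearMap.range e)) (ψ : M →ₗ[R] K) :
    M' →ₗ[R] DT I K :=
  ((idealTransform I).map (ModuleCat.ofHom ψ)).hom ∘ₗ
    ((LinearEquiv.ofBijective ((idealTransform I).map (ModuleCat.ofHom e)).hom
      (DT_map_bijective I e hker hcoker)).symm.toLinearMap ∘ₗ toDT I M')

lemma factor_comp (e : M →ₗ[R] M') (hker : LinearMap.ker e ≤ DRing.torsionSub I M)
    (hcoker : IsPowerTorsion I (M' ⧸ LinearMap.range e)) (ψ : M →ₗ[R] K) :
    factor I e hker hcoker ψ ∘ₗ e = toDT I K ∘ₗ ψ := by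
  apply LinearMap.ext
  intro m
  let De := LinearEquiv.ofBijective ((idealTransform I).map (ModuleCat.ofHom e)).hom
    (DT_map_bijective I e hker hcoker)
  change ((idealTransform I).map (ModuleCat.ofHom ψ)) (De.symm (toDT I M' (e m))) =
    toDT I K (ψ m)
  have h1 : toDT I M' (e m) = De (toDT I M m) := (toDT_natural I e m).symm
  rw [h1, LinearEquiv.symm_apply_apply]
  exact toDT_natural I ψ m

theorem existsUnique_factor (e : M →ₗ[R] M') (hker : LinearMap.ker e ≤ DRing.torsionSub I M)
    (hcoker : IsPowerTorsion I (M' ⧸ LinearMap.range e)) (ψ : M →ₗ[R] K) :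
    ∃! ψ' : M' →ₗ[R] DT I K, ψ' ∘ₗ e = toDT I K ∘ₗ ψ := by
  refine ⟨factor I e hker hcoker ψ, factor_comp I e hker hcoker ψ, ?_⟩
  intro ψ' hψ'
  apply eq_of_comp_eq I e hcoker
  rw [hψ', factor_comp]

theorem factor_bijective (e : M →ₗ[R] M') (hker : LinearMap.ker e ≤ DRing.torsionSub I M)
    (hcoker : IsPowerTorsion I (M' ⧸ LinearMap.range e)) (ψ : M →ₗ[R] K)
    (hψ : Function.Bijective ψ) (ψ' : M' →ₗ[R] DT I K)
    (hψ' : ψ' ∘ₗ e = toDT I K ∘ₗ ψ) (hη : Function.Bijective (toDT I M')) :
    Function.Bijective ψ' := by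
  have heq : ψ' = factor I e hker hcoker ψ := by
    apply eq_of_comp_eq I e hcoker
    rw [hψ', factor_comp]
  rw [heq]
  have hDψ : Function.Bijective ((idealTransform I).map (ModuleCat.ofHom ψ)).hom := by
    apply DT_map_bijective I ψ
    · rw [LinearMap.ker_eq_bot.mpr hψ.1]; exact bot_le
    · intro x
      have : LinearMap.range ψ = ⊤ := LinearMap.range_eq_top.mpr hψ.2
      haveI : Subsingleton (K ⧸ LinearMap.range ψ) := Submodule.Quotient.subsingleton_iff.mpr this
      exact ⟨0, fun a _ => Subsingleton.elim _ _⟩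
  unfold factor
  rw [LinearMap.coe_comp, LinearMap.coe_comp]
  exact hDψ.comp ((LinearEquiv.bijective _).comp hη)

end Universal

section Eta

variable (M : Type u) [AddCommGroup M] [Module R M]

omit [IsNoetherianRing R] in
lemma isPowerTorsion_coker_toDT :
    IsPowerTorsion I (DT I M ⧸ LinearMap.range (toDT I M)) := by
  obtain ⟨e⟩ := nonempty_coker_toDT_equiv I M
  intro x
  obtain ⟨k, hk⟩ := isPowerTorsion I 1 (ModuleCat.of R M) (e x)
  refine ⟨k, fun a ha => ?_⟩
  apply e.injective
  rw [map_smul, map_zero]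
  exact hk a ha

omit [IsNoetherianRing R] in
lemma ker_toDT_le : LinearMap.ker (toDT I M) ≤ DRing.torsionSub I M := (ker_toDT I M).le

/-- (D6) the canonical map of an ideal transform is bijective. -/
theorem toDT_DT_bijective : Function.Bijective (toDT I (DT I M)) := by
  have h1 : toDT I (DT I M) =
      ((idealTransform I).map (ModuleCat.ofHom (toDT I M))).hom := by
    apply eq_of_comp_eq I (toDT I M) (isPowerTorsion_coker_toDT I M)
    apply LinearMap.ext
    intro m
    exact (toDT_natural I (toDT I M) m).symm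
  rw [h1]
  exact DT_map_bijective I (toDT I M) (ker_toDT_le I M) (isPowerTorsion_coker_toDT I M)

theorem torsionSub_and_H_one_DT :
    DRing.torsionSub I (DT I M) = ⊥ ∧ Subsingleton (H I 1 (DT I M)) := by
  refine ⟨torsionSub_DT_eq_bot I M, ?_⟩
  obtain ⟨e⟩ := nonempty_coker_toDT_equiv I (DT I M)
  have htop : LinearMap.range (toDT I (DT I M)) = ⊤ :=
    LinearMap.range_eq_top.mpr (toDT_DT_bijective I M).2
  haveI : Subsingleton (DT I (DT I M) ⧸ LinearMap.range (toDT I (DT I M))) :=
    Submodule.Quotient.subsingleton_iff.mpr htop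
  exact e.symm.toEquiv.subsingleton

theorem H_map_toDT_bijective (i : ℕ) (hi : 1 < i) :
    Function.Bijective ((localCohomology I i).map (ModuleCat.ofHom (toDT I M))).hom := by
  let T := DRing.torsionSub I M
  let ηbar : (M ⧸ T) →ₗ[R] DT I M := T.liftQ (toDT I M) (ker_toDT I M).ge
  have hinj : Function.Injective ηbar := by
    rw [← LinearMap.ker_eq_bot]
    exact Submodule.ker_liftQ_eq_bot' T (toDT I M) (ker_toDT I M).symm
  have hrange : LinearMap.range ηbar = LinearMap.range (toDT I M) :=
    Submodule.range_liftQ T (toDT I M) (ker_toDT I M).ge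
  have hC : IsPowerTorsion I (DT I M ⧸ LinearMap.range ηbar) := by
    rw [hrange]; exact isPowerTorsion_coker_toDT I M
  have hS := sesQuot_shortExact ηbar hinj
  obtain ⟨j, rfl⟩ : ∃ j, i = j + 1 := ⟨i - 1, by omega⟩
  have hC1 : Subsingleton (H I j (DT I M ⧸ LinearMap.range ηbar)) :=
    subsingleton_of_isPowerTorsion I j (by omega) _ hC
  have hC2 : Subsingleton (H I (j + 1) (DT I M ⧸ LinearMap.range ηbar)) :=
    subsingleton_of_isPowerTorsion I (j + 1) (by omega) _ hC
  have h1 : Function.Bijective ((localCohomology I (j + 1)).map (ModuleCat.ofHom ηbar)).hom := by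
    constructor
    · rw [injective_iff_map_eq_zero]
      intro x hx
      obtain ⟨w, rfl⟩ := (exact_δ_f I j hS x).mp hx
      have : w = 0 := hC1.elim _ _
      rw [this, map_zero]
    · intro y
      have h2 : ((localCohomology I (j + 1)).map (sesQuot ηbar).g) y = 0 := hC2.elim _ _
      exact (exact_f_g I (j + 1) hS y).mp h2
  have h2 := bijective_map_mkQ_torsionSub I M (j + 1) (Nat.succ_pos j)
  have h3 : ModuleCat.ofHom (toDT I M) = ModuleCat.ofHom T.mkQ ≫ ModuleCat.ofHom ηbar := by
    apply ModuleCat.hom_ext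
    apply LinearMap.ext
    intro m
    rfl
  rw [h3, Functor.map_comp]
  exact h1.comp h2

end Eta

end Groth.Agent.Helper8.DT
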