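import Groth.Agent.Lib.Helper8.DT5
import Groth.Agent.Lib.Helper8.LC46

set_option autoImplicit false
universe u
open CategoryTheory CategoryTheory.Limits Opposite

namespace Groth.Agent.Helper8.DT

open LocCoh Groth.Agent.Helper8.LC Abelian

variable {R R' : Type u} [CommRing R] [CommRing R'] [Algebra R R'] [IsNoetherianRing R]
  [IsNoetherianRing R']

omit [IsNoetherianRing R] in
/-- a module whose `Γ_I` and `H^1_I` vanish is its own ideal transform. -/
lemma toDT_bijective_of_vanishing (I : Ideal R) (N : Type u) [AddCommGroup N] [Module R N]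
    (h0 : DRing.torsionSub I N = ⊥) (h1 : Subsingleton (H I 1 N)) :
    Function.Bijective (toDT I N) := by
  constructor
  · rw [← LinearMap.ker_eq_bot, ker_toDT, h0]
  · obtain ⟨e⟩ := nonempty_coker_toDT_equiv I N
    haveI : Subsingleton (DT I N ⧸ LinearMap.range (toDT I N)) := e.toEquiv.subsingleton
    exact LinearMap.range_eq_top.mp (Submodule.Quotient.subsingleton_iff.mp inferInstance)

/-- independence of the base for ideal transforms. -/
theorem exists_DT_semilinear_equiv (I : Ideal R) (M' : Type u) [AddCommGroup M']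
    [Module R' M'] [Module R M'] [IsScalarTower R R' M'] :
    ∃ ε : DT (I.map (algebraMap R R')) M' ≃+ DT I M',
      (∀ (r : R) (x : DT (I.map (algebraMap R R')) M'), ε (algebraMap R R' r • x) = r • ε x) ∧
      ∀ m : M', ε (toDT (I.map (algebraMap R R')) M' m) = toDT I M' m := by
  let J' : Ideal R' := I.map (algebraMap R R')
  let D' : Type u := DT J' M'
  letI : Module R D' := Module.compHom D' (algebraMap R R')
  haveI : IsScalarTower R R' D' := IsScalarTower.of_algebraMap_smul (fun r x => rfl)
  let e : M' →ₗ[R] D' := (toDT J' M').restrictScalars R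
  have hker : LinearMap.ker e ≤ DRing.torsionSub I M' := by
    intro m hm
    have h1 : toDT J' M' m = 0 := hm
    rw [toDT_eq_zero_iff] at h1
    exact (mem_torsionSub_map_iff I M' m).mp h1
  have hcoker : IsPowerTorsion I (D' ⧸ LinearMap.range e) := by
    intro x
    obtain ⟨d, rfl⟩ := Submodule.Quotient.mk_surjective _ x
    obtain ⟨n, hn⟩ := isPowerTorsion_coker_toDT J' M' (Submodule.Quotient.mk d)
    refine ⟨n, fun a ha => ?_⟩
    have h1 := hn (algebraMap R R' a) (by
      rw [← Ideal.map_pow]
      exact Ideal.mem_map_of_mem _ ha)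
    rw [← Submodule.Quotient.mk_smul, Submodule.Quotient.mk_eq_zero] at h1 ⊢
    obtain ⟨m, hm⟩ := h1
    exact ⟨m, hm⟩
  obtain ⟨ψ', hψ', -⟩ := existsUnique_factor I e hker hcoker (LinearMap.id : M' →ₗ[R] M')
  have hη : Function.Bijective (toDT I D') := by
    apply toDT_bijective_of_vanishing
    · rw [eq_bot_iff]
      intro x hx
      have h1 := (mem_torsionSub_map_iff (R' := R') I D' x).mpr hx
      have h2 : DRing.torsionSub J' (DT J' M') = ⊥ := torsionSub_DT_eq_bot J' M'
      rw [h2] at h1
      exact h1
    · obtain ⟨φ, -⟩ := exists_semilinear_equiv (R' := R') I 1 D'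
      haveI : Subsingleton (H J' 1 (DT J' M')) := (torsionSub_and_H_one_DT J' M').2
      exact φ.symm.toEquiv.subsingleton
  have hbij := factor_bijective I e hker hcoker (LinearMap.id : M' →ₗ[R] M')
    Function.bijective_id ψ' hψ' hη
  refine ⟨AddEquiv.ofBijective ψ'.toAddMonoidHom hbij, ?_, ?_⟩
  · intro r x
    exact ψ'.map_smul r x
  · intro m
    exact LinearMap.congr_fun hψ' m

end Groth.Agent.Helper8.DT
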