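import Mathlib
import Groth.Prelude
import Groth.Agent.Lib.Helper6.Det.Rank

/-!
# Matrix lemmas for the smooth locus of generic determinantal rings (helper8)

* `det_submatrix_mul_eq_zero'`: minors of a product with small inner dimension vanish (any commutative ring);
* `eq_mul_inv_mul_of_minors_eq_zero`: Schur complement form of "rank `≤ r`";
* `det_add_sub_det_mem`: first order perturbation of a determinant.
-/

set_option autoImplicit false

namespace Groth.Agent.Helper8.DetSm

open Matrix

universe u

theorem det_submatrix_map {R S : Type*} [CommRing R] [CommRing S] (φ : R →+* S) {α β : Type*}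
    (Z : Matrix α β R) {t : ℕ} (f : Fin t → α) (g : Fin t → β) :
    ((Z.map φ).submatrix f g).det = φ ((Z.submatrix f g).det) := by
  rw [Matrix.submatrix_map, RingHom.map_det]
  rfl

section general

variable {T : Type u} [CommRing T]

/-- Minors of a product with small inner dimension vanish, over any commutative ring. -/
theorem det_submatrix_mul_eq_zero' {α β : Type} [Fintype α] [Fintype β] (r t : ℕ)
    (U : Matrix α (Fin r) T) (V : Matrix (Fin r) β T) (f : Fin t → α) (g : Fin t → β)
    (h : r < t) : ((U * V).submatrix f g).det = 0 := by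
  classical
  let σ := (α × Fin r) ⊕ (Fin r × β)
  let T₀ := MvPolynomial σ ℤ
  let U₀ : Matrix α (Fin r) T₀ := Matrix.of fun i k => MvPolynomial.X (Sum.inl (i, k))
  let V₀ : Matrix (Fin r) β T₀ := Matrix.of fun k j => MvPolynomial.X (Sum.inr (k, j))
  let ev : T₀ →+* T := MvPolynomial.eval₂Hom (Int.castRingHom T)
    (Sum.elim (fun p => U p.1 p.2) (fun p => V p.1 p.2))
  have hU : U₀.map ev = U := by
    ext i k
    change MvPolynomial.eval₂Hom _ _ (MvPolynomial.X _) = _
    rw [MvPolynomial.eval₂Hom_X']
    rfl
  have hV : V₀.map ev = V := by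
    ext k j
    change MvPolynomial.eval₂Hom _ _ (MvPolynomial.X _) = _
    rw [MvPolynomial.eval₂Hom_X']
    rfl
  have h0 := Groth.Agent.Lib.Helper6.Det.det_submatrix_mul_eq_zero r t U₀ V₀ f g h
  have h1 : ev (((U₀ * V₀).submatrix f g).det) = ((U * V).submatrix f g).det := by
    rw [← det_submatrix_map, Matrix.map_mul, hU, hV]
  rw [← h1, h0, map_zero]

/-- If all `(r+1)`-minors of `Z` vanish and the `r`-minor `Z[a, b]` is a unit, then
`Z = Z[:, b] * Z[a, b]⁻¹ * Z[a, :]`. -/
theorem eq_mul_inv_mul_of_minors_eq_zero {n m r : ℕ} (Z : Matrix (Fin n) (Fin m) T)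
    (a : Fin r → Fin n) (b : Fin r → Fin m)
    (hmin : ∀ (f : Fin (r + 1) → Fin n) (g : Fin (r + 1) → Fin m), (Z.submatrix f g).det = 0)
    (hA : IsUnit (Z.submatrix a b).det) :
    Z = Z.submatrix id b * (Z.submatrix a b)⁻¹ * Z.submatrix a id := by
  classical
  ext i j
  letI := Matrix.invertibleOfIsUnitDet _ hA
  let F : Unit ⊕ Fin r → Fin n := Sum.elim (fun _ => i) a
  let G : Unit ⊕ Fin r → Fin m := Sum.elim (fun _ => j) b
  have hW : Z.submatrix F G = Matrix.fromBlocks (Matrix.of fun (_ _ : Unit) => Z i j)
      (Matrix.of fun (_ : Unit) c => Z i (b c)) (Matrix.of fun c (_ : Unit) => Z (a c) j)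
      (Z.submatrix a b) := by
    ext x y
    rcases x with x | x <;> rcases y with y | y <;> rfl
  have e : Fin (r + 1) ≃ Unit ⊕ Fin r := Fintype.equivOfCardEq (by
    rw [Fintype.card_sum, Fintype.card_unit, Fintype.card_fin, Fintype.card_fin, Nat.add_comm])
  have hdet : (Z.submatrix F G).det = 0 := by
    rw [← Matrix.det_submatrix_equiv_self e (Z.submatrix F G)]
    exact hmin (F ∘ e) (G ∘ e)
  rw [hW, Matrix.det_fromBlocks₂₂, hA.mul_right_eq_zero, Matrix.det_unique,
    Matrix.invOf_eq_nonsing_inv] at hdet
  rw [Matrix.sub_apply, sub_eq_zero] at hdet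
  have h3 : (Matrix.of (fun (_ : Unit) c => Z i (b c)) * (Z.submatrix a b)⁻¹ *
      Matrix.of (fun c (_ : Unit) => Z (a c) j)) default default =
      (Z.submatrix id b * (Z.submatrix a b)⁻¹ * Z.submatrix a id) i j := by
    simp only [Matrix.mul_apply, Matrix.of_apply, Matrix.submatrix_apply, id]
  rw [← h3, ← hdet]
  rfl

end general

section pert

variable {C : Type u} [CommRing C]

theorem det_sub_det_mem_of_entries (J : Ideal C) {ι : Type} [Fintype ι] [DecidableEq ι]
    (A₁ A₂ : Matrix ι ι C) (h : ∀ i j, A₁ i j - A₂ i j ∈ J) : A₁.det - A₂.det ∈ J := by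
  rw [← Ideal.Quotient.eq, RingHom.map_det, RingHom.map_det]
  congr 1
  ext i j
  simp only [RingHom.mapMatrix_apply, Matrix.map_apply]
  exact Ideal.Quotient.eq.mpr (h i j)

/-- First order perturbation of a determinant: if the entries of `E` lie in `J`, then
`det (N + E) - det N ∈ J * (I_t(N) + J)` where `N` has size `t + 1`. -/
theorem det_add_sub_det_mem_aux (J : Ideal C) (t : ℕ)
    (N : Matrix (Fin (t + 1)) (Fin (t + 1)) C) :
    ∀ (s : ℕ) (E : Matrix (Fin (t + 1)) (Fin (t + 1)) C), (∀ i j, E i j ∈ J) →
      (∀ i : Fin (t + 1), s ≤ i.val → E i = 0) →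
      (N + E).det - N.det ∈ J * (CAlgX.minorIdeal N t ⊔ J) := by
  intro s
  induction s with
  | zero =>
    intro E _ h0
    have hE0 : E = 0 := by
      ext i j
      rw [h0 i (Nat.zero_le _)]
      rfl
    rw [hE0, add_zero, sub_self]
    exact Ideal.zero_mem _
  | succ s ih =>
    intro E hE h0
    by_cases hs : s < t + 1
    · let i₀ : Fin (t + 1) := ⟨s, hs⟩
      let E' := E.updateRow i₀ 0
      have hE' : ∀ i j, E' i j ∈ J := by
        intro i j
        by_cases hi : i = i₀
        · rw [hi]
          simp only [E', Matrix.updateRow_self]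
          exact J.zero_mem
        · simp only [E', Matrix.updateRow_ne hi]
          exact hE i j
      have h0' : ∀ i : Fin (t + 1), s ≤ i.val → E' i = 0 := by
        intro i hi
        by_cases hii : i = i₀
        · rw [hii]
          exact Matrix.updateRow_self
        · have hlt : s + 1 ≤ i.val := by
            have hne : i.val ≠ s := fun h => hii (Fin.ext h)
            omega
          funext j
          simp only [E', Matrix.updateRow_ne hii]
          rw [h0 i hlt]
      have ih' := ih E' hE' h0'
      have e1 : N + E = (N + E').updateRow i₀ (N i₀ + E i₀) := by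
        ext i j
        by_cases hi : i = i₀
        · rw [hi, Matrix.updateRow_self]
          rfl
        · rw [Matrix.updateRow_ne hi]
          simp only [Matrix.add_apply, E', Matrix.updateRow_ne hi]
      have e2 : N + E' = (N + E').updateRow i₀ (N i₀) := by
        ext i j
        by_cases hi : i = i₀
        · rw [hi, Matrix.updateRow_self]
          simp only [Matrix.add_apply, E', Matrix.updateRow_self, Pi.zero_apply, add_zero]
        · rw [Matrix.updateRow_ne hi]
      have e3 : (N + E).det = (N + E').det + ((N + E').updateRow i₀ (E i₀)).det := by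
        rw [e1, Matrix.det_updateRow_add, ← e2]
      have e4 : ((N + E').updateRow i₀ (E i₀)).det ∈ J * (CAlgX.minorIdeal N t ⊔ J) := by
        rw [Matrix.det_succ_row _ i₀]
        apply Ideal.sum_mem
        intro j _
        rw [Matrix.updateRow_self, Matrix.submatrix_updateRow_succAbove]
        have h5 : ((N + E').submatrix i₀.succAbove j.succAbove).det ∈
            CAlgX.minorIdeal N t ⊔ J := by
          have h6 := det_sub_det_mem_of_entries J ((N + E').submatrix i₀.succAbove j.succAbove)
            (N.submatrix i₀.succAbove j.succAbove) (by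
              intro p q
              simp only [Matrix.submatrix_apply, Matrix.add_apply, add_sub_cancel_left]
              exact hE' _ _)
          have h7 : (N.submatrix i₀.succAbove j.succAbove).det ∈ CAlgX.minorIdeal N t :=
            Ideal.subset_span ⟨(i₀.succAbove, j.succAbove), rfl⟩
          have h8 : ((N + E').submatrix i₀.succAbove j.succAbove).det =
              (((N + E').submatrix i₀.succAbove j.succAbove).det -
                (N.submatrix i₀.succAbove j.succAbove).det) +
              (N.submatrix i₀.succAbove j.succAbove).det := by ring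
          rw [h8]
          exact Ideal.add_mem _ (Ideal.mem_sup_right h6) (Ideal.mem_sup_left h7)
        have h9 : (-1 : C) ^ ((i₀ : ℕ) + (j : ℕ)) * E i₀ j ∈ J := J.mul_mem_left _ (hE _ _)
        exact Ideal.mul_mem_mul h9 h5
      have e5 : (N + E).det - N.det =
          ((N + E').det - N.det) + ((N + E').updateRow i₀ (E i₀)).det := by
        rw [e3]
        ring
      rw [e5]
      exact Ideal.add_mem _ ih' e4
    · apply ih E hE
      intro i _
      exact absurd i.isLt (by omega)

theorem det_add_sub_det_mem (J : Ideal C) (t : ℕ)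
    (N E : Matrix (Fin (t + 1)) (Fin (t + 1)) C) (hE : ∀ i j, E i j ∈ J) :
    (N + E).det - N.det ∈ J * (CAlgX.minorIdeal N t ⊔ J) :=
  det_add_sub_det_mem_aux J t N (t + 1) E hE (fun i hi => absurd i.isLt (by omega))

end pert

end Groth.Agent.Helper8.DetSm
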