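import Mathlib
import Groth.Prelude
import Groth.Agent.Lib.Helper8.DetSm1

/-!
# The smooth locus of the generic determinantal ring (helper8)

For `B = k[X_ij] / I_{r+1}(X)` and a prime `P` of `B`: `B_P` is formally smooth over `k` iff
`I_r(X) B ⊄ P`.
-/

set_option autoImplicit false

namespace Groth.Agent.Helper8.DetSm

open Matrix

universe u

theorem minorIdeal_map {R S : Type u} [CommRing R] [CommRing S] (f : R →+* S) {a b : Type}
    [Fintype a] [Fintype b] (M : Matrix a b R) (t : ℕ) :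
    (CAlgX.minorIdeal M t).map f = CAlgX.minorIdeal (M.map f) t := by
  unfold CAlgX.minorIdeal
  rw [Ideal.map_span]
  congr 1
  ext x
  simp only [Set.mem_image, Set.mem_range]
  constructor
  · rintro ⟨_, ⟨fg, rfl⟩, rfl⟩
    refine ⟨fg, ?_⟩
    rw [Matrix.submatrix_map, RingHom.map_det]
    rfl
  · rintro ⟨fg, rfl⟩
    refine ⟨_, ⟨fg, rfl⟩, ?_⟩
    rw [Matrix.submatrix_map, RingHom.map_det]
    rfl

section lift

/-- Lifting a matrix of "rank exactly `r`" along a square zero extension. -/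
theorem exists_lift_matrix {C : Type u} [CommRing C] (J : Ideal C) (hJ : J ^ 2 = ⊥) {n m r : ℕ}
    (zb : Matrix (Fin n) (Fin m) (C ⧸ J)) (a : Fin r → Fin n) (b : Fin r → Fin m)
    (hmin : ∀ (f : Fin (r + 1) → Fin n) (g : Fin (r + 1) → Fin m), (zb.submatrix f g).det = 0)
    (hunit : IsUnit (zb.submatrix a b).det) :
    ∃ z : Matrix (Fin n) (Fin m) C, z.map (Ideal.Quotient.mk J) = zb ∧
      ∀ (f : Fin (r + 1) → Fin n) (g : Fin (r + 1) → Fin m), (z.submatrix f g).det = 0 := by
  classical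
  have hS := eq_mul_inv_mul_of_minors_eq_zero zb a b hmin hunit
  obtain ⟨z0, hz0⟩ : ∃ z0 : Matrix (Fin n) (Fin m) C, z0.map (Ideal.Quotient.mk J) = zb :=
    ⟨fun i j => Function.surjInv (Ideal.Quotient.mk_surjective (I := J)) (zb i j), by
      ext i j
      exact Function.surjInv_eq (Ideal.Quotient.mk_surjective (I := J)) (zb i j)⟩
  subst hz0
  have hA0 : IsUnit (z0.submatrix a b).det := by
    apply (IsNilpotent.isUnit_quotient_mk_iff (I := J) ⟨2, hJ⟩).mp
    rw [← det_submatrix_map (Ideal.Quotient.mk J) z0 a b]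
    exact hunit
  refine ⟨z0.submatrix id b * (z0.submatrix a b)⁻¹ * z0.submatrix a id, ?_, ?_⟩
  · have hinv : ((z0.submatrix a b)⁻¹).map (Ideal.Quotient.mk J) =
        ((z0.map (Ideal.Quotient.mk J)).submatrix a b)⁻¹ := by
      symm
      apply Matrix.inv_eq_right_inv
      have h1 : (z0.map (Ideal.Quotient.mk J)).submatrix a b =
          (z0.submatrix a b).map (Ideal.Quotient.mk J) := rfl
      rw [h1, ← Matrix.map_mul, Matrix.mul_nonsing_inv _ hA0,
        Matrix.map_one _ (map_zero _) (map_one _)]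
    refine Eq.trans ?_ hS.symm
    rw [Matrix.map_mul, Matrix.map_mul, hinv]
    rfl
  · intro f g
    exact det_submatrix_mul_eq_zero' r (r + 1) (z0.submatrix id b * (z0.submatrix a b)⁻¹)
      (z0.submatrix a id) f g (Nat.lt_succ_self r)

end lift

section retraction

/-- The key computation: a first order retraction forces the ideal of `(r+1)`-minors to vanish
at a point where all `r`-minors vanish. -/
theorem eq_bot_of_retraction {L Q : Type u} [CommRing L] [CommRing Q] [IsLocalRing L] {n m : ℕ}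
    (r : ℕ) (Z : Matrix (Fin n) (Fin m) L) (K : Ideal L)
    (hKZ : K = CAlgX.minorIdeal Z (r + 1))
    (hZr : CAlgX.minorIdeal Z r ≤ IsLocalRing.maximalIdeal L)
    (hKm : K ≤ IsLocalRing.maximalIdeal L)
    (π ρ : L →+* Q) (hπ : Function.Surjective π)
    (hker : RingHom.ker π ≤ K * IsLocalRing.maximalIdeal L)
    (hρ0 : ∀ x ∈ K, ρ x = 0)
    (hρ1 : ∀ x, ρ x - π x ∈ K.map π) :
    K = ⊥ := by
  classical
  have key : ∀ (f₁ : Fin (r + 1) → Fin n) (g₁ : Fin (r + 1) → Fin m),
      (Z.submatrix f₁ g₁).det ∈ K * IsLocalRing.maximalIdeal L := by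
    intro f₁ g₁
    have hdetN : ((Z.map π).submatrix f₁ g₁).det = π ((Z.submatrix f₁ g₁).det) :=
      det_submatrix_map π Z f₁ g₁
    have hdetN' : ((Z.map ρ).submatrix f₁ g₁).det = 0 := by
      have h1 : ((Z.map ρ).submatrix f₁ g₁).det = ρ ((Z.submatrix f₁ g₁).det) :=
        det_submatrix_map ρ Z f₁ g₁
      rw [h1]
      apply hρ0
      rw [hKZ]
      exact Ideal.subset_span ⟨(f₁, g₁), rfl⟩
    have hE : ∀ i j, ((Z.map ρ).submatrix f₁ g₁ - (Z.map π).submatrix f₁ g₁) i j ∈ K.map π := by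
      intro i j
      exact hρ1 (Z (f₁ i) (g₁ j))
    have h2 := det_add_sub_det_mem (K.map π) r ((Z.map π).submatrix f₁ g₁)
      ((Z.map ρ).submatrix f₁ g₁ - (Z.map π).submatrix f₁ g₁) hE
    rw [add_sub_cancel, hdetN', zero_sub, hdetN] at h2
    have h3 : CAlgX.minorIdeal ((Z.map π).submatrix f₁ g₁) r ⊔ K.map π ≤
        (IsLocalRing.maximalIdeal L).map π := by
      apply sup_le
      · refine Ideal.span_le.mpr ?_
        rintro _ ⟨fg, rfl⟩
        have h4 : ((((Z.map π).submatrix f₁ g₁).submatrix fg.1 fg.2)).det =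
            π ((Z.submatrix (f₁ ∘ fg.1) (g₁ ∘ fg.2)).det) := by
          rw [← det_submatrix_map π Z (f₁ ∘ fg.1) (g₁ ∘ fg.2)]
          rfl
        show ((((Z.map π).submatrix f₁ g₁).submatrix fg.1 fg.2)).det ∈
          (IsLocalRing.maximalIdeal L).map π
        rw [h4]
        apply Ideal.mem_map_of_mem
        apply hZr
        exact Ideal.subset_span ⟨(f₁ ∘ fg.1, g₁ ∘ fg.2), rfl⟩
      · exact Ideal.map_mono hKm
    have h5 : π ((Z.submatrix f₁ g₁).det) ∈ (K * IsLocalRing.maximalIdeal L).map π := by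
      rw [Ideal.map_mul]
      have h6 : -π ((Z.submatrix f₁ g₁).det) ∈ K.map π * (IsLocalRing.maximalIdeal L).map π :=
        Ideal.mul_mono le_rfl h3 h2
      exact neg_mem_iff.mp h6
    obtain ⟨y, hy, hyπ⟩ := (Ideal.mem_map_iff_of_surjective π hπ).mp h5
    have h7 : (Z.submatrix f₁ g₁).det - y ∈ RingHom.ker π := by
      rw [RingHom.mem_ker, map_sub, hyπ, sub_self]
    have h8 : (Z.submatrix f₁ g₁).det = ((Z.submatrix f₁ g₁).det - y) + y := by ring
    rw [h8]
    exact Ideal.add_mem _ (hker h7) hy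
  have hle : K ≤ IsLocalRing.maximalIdeal L • K := by
    rw [smul_eq_mul, mul_comm]
    have h1 : CAlgX.minorIdeal Z (r + 1) ≤ K * IsLocalRing.maximalIdeal L := by
      refine Ideal.span_le.mpr ?_
      rintro _ ⟨fg, rfl⟩
      exact key fg.1 fg.2
    exact hKZ.le.trans h1
  have hfg : (K : Submodule L L).FG := by
    rw [hKZ]
    exact Submodule.fg_span (Set.finite_range _)
  exact Submodule.eq_bot_of_le_smul_of_le_jacobson_bot (IsLocalRing.maximalIdeal L) K hfg hle
    (IsLocalRing.maximalIdeal_le_jacobson ⊥)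

/-- If `L` is local and formally smooth over `k`, all `r`-minors of `Z` lie in the maximal ideal
and `L ⧸ I_{r+1}(Z)` is formally smooth over `k`, then `I_{r+1}(Z) = 0`. -/
theorem minorIdeal_eq_bot_of_formallySmooth {k L : Type u} [CommRing k] [CommRing L]
    [IsLocalRing L] [Algebra k L] [Algebra.FormallySmooth k L] {n m : ℕ} (r : ℕ)
    (Z : Matrix (Fin n) (Fin m) L)
    (hZr : CAlgX.minorIdeal Z r ≤ IsLocalRing.maximalIdeal L)
    (hZr1 : CAlgX.minorIdeal Z (r + 1) ≤ IsLocalRing.maximalIdeal L)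
    (hsm : Algebra.FormallySmooth k (L ⧸ CAlgX.minorIdeal Z (r + 1))) :
    CAlgX.minorIdeal Z (r + 1) = ⊥ := by
  classical
  let f : L →ₐ[k] L ⧸ CAlgX.minorIdeal Z (r + 1) :=
    Ideal.Quotient.mkₐ k (CAlgX.minorIdeal Z (r + 1))
  have hf : Function.Surjective f := Ideal.Quotient.mkₐ_surjective k _
  obtain ⟨g, hg⟩ := (Algebra.FormallySmooth.iff_split_surjection f hf).mp hsm
  have hK : RingHom.ker f.toRingHom = CAlgX.minorIdeal Z (r + 1) :=
    Ideal.Quotient.mkₐ_ker k _
  let ρ : L →+* L ⧸ RingHom.ker f.toRingHom ^ 2 := g.toRingHom.comp f.toRingHom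
  have hkerπ : RingHom.ker (Ideal.Quotient.mk (RingHom.ker f.toRingHom ^ 2)) ≤
      RingHom.ker f.toRingHom * IsLocalRing.maximalIdeal L := by
    rw [Ideal.mk_ker, pow_two]
    exact Ideal.mul_mono le_rfl (hK.le.trans hZr1)
  have hρ0 : ∀ x ∈ RingHom.ker f.toRingHom, ρ x = 0 := by
    intro x hx
    have h1 : f x = 0 := hx
    show g (f x) = 0
    rw [h1, map_zero]
  have hρ1 : ∀ x, ρ x - Ideal.Quotient.mk (RingHom.ker f.toRingHom ^ 2) x ∈
      (RingHom.ker f.toRingHom).map (Ideal.Quotient.mk (RingHom.ker f.toRingHom ^ 2)) := by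
    intro x
    have h1 : f.kerSquareLift (g (f x)) = f x := AlgHom.congr_fun hg (f x)
    have h2 : f.kerSquareLift (Ideal.Quotient.mk (RingHom.ker f.toRingHom ^ 2) x) = f x := rfl
    have h3 : f.kerSquareLift (g (f x) - Ideal.Quotient.mk (RingHom.ker f.toRingHom ^ 2) x) = 0 := by
      rw [map_sub, h1, h2, sub_self]
    obtain ⟨y, hy⟩ := Ideal.Quotient.mk_surjective
      (g (f x) - Ideal.Quotient.mk (RingHom.ker f.toRingHom ^ 2) x)
    show g (f x) - Ideal.Quotient.mk (RingHom.ker f.toRingHom ^ 2) x ∈ _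
    rw [← hy] at h3 ⊢
    apply Ideal.mem_map_of_mem
    exact h3
  have hres := eq_bot_of_retraction r Z (RingHom.ker f.toRingHom) hK hZr (hK.le.trans hZr1)
    (Ideal.Quotient.mk (RingHom.ker f.toRingHom ^ 2)) ρ Ideal.Quotient.mk_surjective hkerπ hρ0 hρ1
  rw [← hK]
  exact hres

end retraction

section locquot

variable {R0 : Type u} [CommRing R0] (I : Ideal R0) (P : Ideal (R0 ⧸ I)) [P.IsPrime]

/-- The preimage of `P` in `R0`. -/
abbrev Pp : Ideal R0 := P.comap (Ideal.Quotient.mk I)

/-- The localization of `R0` at the preimage of `P`. -/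
abbrev LL : Type u := Localization.AtPrime (Pp I P)

/-- The extension of `I` to the localization. -/
abbrev ILL : Ideal (LL I P) := I.map (algebraMap R0 (LL I P))

theorem formallySmooth_quot_of_loc {k : Type u} [CommRing k] [Algebra k R0]
    (hsm : Algebra.FormallySmooth k (Localization.AtPrime P)) :
    Algebra.FormallySmooth k (LL I P ⧸ ILL I P) := by
  have inst : IsLocalization (Algebra.algebraMapSubmonoid (R0 ⧸ I) (Pp I P).primeCompl)
      (LL I P ⧸ ILL I P) := inferInstance
  have hsub : Algebra.algebraMapSubmonoid (R0 ⧸ I) (Pp I P).primeCompl = P.primeCompl := by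
    ext y
    obtain ⟨a, rfl⟩ := Ideal.Quotient.mk_surjective y
    constructor
    · rintro ⟨s, hs, hsa⟩
      have : Ideal.Quotient.mk I s = Ideal.Quotient.mk I a := hsa
      rw [← this]
      exact hs
    · intro ha
      exact ⟨a, ha, rfl⟩
  rw [hsub] at inst
  haveI : IsScalarTower k (R0 ⧸ I) (LL I P ⧸ ILL I P) :=
    IsScalarTower.of_algebraMap_eq (fun x => by
      have h1 : algebraMap k (LL I P) x = algebraMap R0 (LL I P) (algebraMap k R0 x) :=
        IsScalarTower.algebraMap_apply k R0 (LL I P) x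
      show Ideal.Quotient.mk (ILL I P) (algebraMap k (LL I P) x) = _
      rw [h1]
      rfl)
  haveI := hsm
  exact Algebra.FormallySmooth.of_equiv
    ((IsLocalization.algEquiv P.primeCompl (Localization.AtPrime P)
      (LL I P ⧸ ILL I P)).restrictScalars k)

theorem eq_bot_of_formallySmooth_localization {k : Type u} [CommRing k] [Algebra k R0]
    [IsDomain R0] [Algebra.FormallySmooth k R0] {n m : ℕ}
    (X : Matrix (Fin n) (Fin m) R0) (r : ℕ) (hI : I = CAlgX.minorIdeal X (r + 1))
    (hP : (CAlgX.minorIdeal X r).map (Ideal.Quotient.mk I) ≤ P)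
    (hsm : Algebra.FormallySmooth k (Localization.AtPrime P)) :
    I = ⊥ := by
  classical
  have hsmL := formallySmooth_quot_of_loc I P hsm
  have hIP : I ≤ Pp I P := by
    intro x hx
    show Ideal.Quotient.mk I x ∈ P
    rw [Ideal.Quotient.eq_zero_iff_mem.2 hx]
    exact P.zero_mem
  have hrP : CAlgX.minorIdeal X r ≤ Pp I P := by
    intro x hx
    exact hP (Ideal.mem_map_of_mem _ hx)
  have hmapI : ILL I P = CAlgX.minorIdeal (X.map (algebraMap R0 (LL I P))) (r + 1) := by
    have h0 := minorIdeal_map (algebraMap R0 (LL I P)) X (r + 1)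
    rw [← hI] at h0
    exact h0
  have hZr : CAlgX.minorIdeal (X.map (algebraMap R0 (LL I P))) r ≤
      IsLocalRing.maximalIdeal (LL I P) := by
    rw [← minorIdeal_map, ← Localization.AtPrime.map_eq_maximalIdeal]
    exact Ideal.map_mono hrP
  have hZr1 : CAlgX.minorIdeal (X.map (algebraMap R0 (LL I P))) (r + 1) ≤
      IsLocalRing.maximalIdeal (LL I P) := by
    rw [← hmapI, ← Localization.AtPrime.map_eq_maximalIdeal]
    exact Ideal.map_mono hIP
  rw [hmapI] at hsmL
  have hbot := minorIdeal_eq_bot_of_formallySmooth (k := k) r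
    (X.map (algebraMap R0 (LL I P))) hZr hZr1 hsmL
  rw [← hmapI] at hbot
  rw [eq_bot_iff]
  intro x hx
  have h1 : algebraMap R0 (LL I P) x ∈ ILL I P := Ideal.mem_map_of_mem _ hx
  rw [hbot, Ideal.mem_bot] at h1
  have hinj : Function.Injective (algebraMap R0 (LL I P)) :=
    IsLocalization.injective (LL I P) (M := (Pp I P).primeCompl)
      (Pp I P).primeCompl_le_nonZeroDivisors
  rw [Ideal.mem_bot]
  exact hinj (h1.trans (map_zero _).symm)

end locquot

section generic

variable (k : Type u) [Field k] (n m : ℕ)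

/-- The generic matrix. -/
noncomputable abbrev Xmat : Matrix (Fin n) (Fin m) (MvPolynomial (Fin n × Fin m) k) :=
  Matrix.of fun (i : Fin n) (j : Fin m) =>
    (MvPolynomial.X (i, j) : MvPolynomial (Fin n × Fin m) k)

theorem minor_ne_zero (r : ℕ) (hn : r + 1 ≤ n) (hm : r + 1 ≤ m) :
    ((Xmat k n m).submatrix (Fin.castLE hn) (Fin.castLE hm)).det ≠ 0 := by
  classical
  intro h
  have h1 := det_submatrix_map
    (MvPolynomial.eval (fun p : Fin n × Fin m => if p.1.val = p.2.val then (1 : k) else 0))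
    (Xmat k n m) (Fin.castLE hn) (Fin.castLE hm)
  rw [h, map_zero] at h1
  have h2 : ((Xmat k n m).map
      (MvPolynomial.eval (fun p : Fin n × Fin m => if p.1.val = p.2.val then (1 : k) else 0))).submatrix
      (Fin.castLE hn) (Fin.castLE hm) = (1 : Matrix (Fin (r + 1)) (Fin (r + 1)) k) := by
    ext i j
    have e1 : (((Xmat k n m).map
        (MvPolynomial.eval (fun p : Fin n × Fin m =>
          if p.1.val = p.2.val then (1 : k) else 0))).submatrix
        (Fin.castLE hn) (Fin.castLE hm)) i j =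
        (if (Fin.castLE hn i).val = (Fin.castLE hm j).val then (1 : k) else 0) :=
      MvPolynomial.eval_X _
    rw [e1, Matrix.one_apply]
    by_cases hij : i = j
    · subst hij
      rw [if_pos (show (Fin.castLE hn i).val = (Fin.castLE hm i).val from rfl), if_pos rfl]
    · rw [if_neg hij, if_neg]
      intro h'
      exact hij (Fin.ext h')
  rw [h2, Matrix.det_one] at h1
  exact one_ne_zero h1

theorem not_formallySmooth_of_le (r : ℕ) (hr : r < min n m)
    (P : Ideal (MvPolynomial (Fin n × Fin m) k ⧸ CAlgX.minorIdeal (Xmat k n m) (r + 1)))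
    [P.IsPrime]
    (hP : (CAlgX.minorIdeal (Xmat k n m) r).map
      (Ideal.Quotient.mk (CAlgX.minorIdeal (Xmat k n m) (r + 1))) ≤ P) :
    ¬ Algebra.FormallySmooth k (Localization.AtPrime P) := by
  intro hsm
  have hbot := eq_bot_of_formallySmooth_localization (k := k)
    (CAlgX.minorIdeal (Xmat k n m) (r + 1)) P (Xmat k n m) r rfl hP hsm
  have hn : r + 1 ≤ n := by omega
  have hm : r + 1 ≤ m := by omega
  have hmem : ((Xmat k n m).submatrix (Fin.castLE hn) (Fin.castLE hm)).det ∈
      CAlgX.minorIdeal (Xmat k n m) (r + 1) :=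
    Ideal.subset_span ⟨(Fin.castLE hn, Fin.castLE hm), rfl⟩
  rw [hbot, Ideal.mem_bot] at hmem
  exact minor_ne_zero k n m r hn hm hmem

theorem formallySmooth_of_notMem (r : ℕ)
    (P : Ideal (MvPolynomial (Fin n × Fin m) k ⧸ CAlgX.minorIdeal (Xmat k n m) (r + 1)))
    [P.IsPrime] (a : Fin r → Fin n) (b : Fin r → Fin m)
    (hδ : Ideal.Quotient.mk (CAlgX.minorIdeal (Xmat k n m) (r + 1))
      ((Xmat k n m).submatrix a b).det ∉ P) :
    Algebra.FormallySmooth k (Localization.AtPrime P) := by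
  classical
  refine Algebra.FormallySmooth.of_comp_surjective ?_
  intro C _ _ J hJ ψ
  let θ : MvPolynomial (Fin n × Fin m) k →ₐ[k] C ⧸ J :=
    ψ.comp ((IsScalarTower.toAlgHom k
      (MvPolynomial (Fin n × Fin m) k ⧸ CAlgX.minorIdeal (Xmat k n m) (r + 1))
      (Localization.AtPrime P)).comp
      (Ideal.Quotient.mkₐ k (CAlgX.minorIdeal (Xmat k n m) (r + 1))))
  have hθ : ∀ x, θ x = ψ (algebraMap _ (Localization.AtPrime P)
      (Ideal.Quotient.mk (CAlgX.minorIdeal (Xmat k n m) (r + 1)) x)) := fun x => rfl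
  have hzb_min : ∀ (f : Fin (r + 1) → Fin n) (g : Fin (r + 1) → Fin m),
      (((Xmat k n m).map θ).submatrix f g).det = 0 := by
    intro f g
    have h1 : (((Xmat k n m).map θ).submatrix f g).det = θ (((Xmat k n m).submatrix f g).det) :=
      det_submatrix_map (θ : MvPolynomial (Fin n × Fin m) k →+* C ⧸ J) (Xmat k n m) f g
    rw [h1, hθ]
    have h2 : Ideal.Quotient.mk (CAlgX.minorIdeal (Xmat k n m) (r + 1))
        (((Xmat k n m).submatrix f g).det) = 0 :=
      Ideal.Quotient.eq_zero_iff_mem.mpr (Ideal.subset_span ⟨(f, g), rfl⟩)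
    rw [h2, map_zero, map_zero]
  have hzb_unit : IsUnit (((Xmat k n m).map θ).submatrix a b).det := by
    have h1 : (((Xmat k n m).map θ).submatrix a b).det = θ (((Xmat k n m).submatrix a b).det) :=
      det_submatrix_map (θ : MvPolynomial (Fin n × Fin m) k →+* C ⧸ J) (Xmat k n m) a b
    rw [h1, hθ]
    have h2 : IsUnit (algebraMap _ (Localization.AtPrime P)
        (Ideal.Quotient.mk (CAlgX.minorIdeal (Xmat k n m) (r + 1))
          ((Xmat k n m).submatrix a b).det)) :=
      IsLocalization.map_units (Localization.AtPrime P) (⟨_, hδ⟩ : P.primeCompl)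
    exact h2.map ψ
  obtain ⟨z, hz, hzmin⟩ := exists_lift_matrix J hJ ((Xmat k n m).map θ) a b hzb_min hzb_unit
  let φ0 : MvPolynomial (Fin n × Fin m) k →ₐ[k] C :=
    MvPolynomial.aeval (fun p : Fin n × Fin m => z p.1 p.2)
  have hφ0X : (Xmat k n m).map (φ0 : MvPolynomial (Fin n × Fin m) k →+* C) = z := by
    ext i j
    exact MvPolynomial.aeval_X _ _
  have hφ0I : ∀ x ∈ CAlgX.minorIdeal (Xmat k n m) (r + 1), φ0 x = 0 := by
    have hle : CAlgX.minorIdeal (Xmat k n m) (r + 1) ≤
        RingHom.ker (φ0 : MvPolynomial (Fin n × Fin m) k →+* C) := by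
      refine Ideal.span_le.mpr ?_
      rintro _ ⟨fg, rfl⟩
      show ((Xmat k n m).submatrix fg.1 fg.2).det ∈
        RingHom.ker (φ0 : MvPolynomial (Fin n × Fin m) k →+* C)
      rw [RingHom.mem_ker]
      have h1 := det_submatrix_map (φ0 : MvPolynomial (Fin n × Fin m) k →+* C)
        (Xmat k n m) fg.1 fg.2
      rw [hφ0X] at h1
      rw [← h1]
      exact hzmin fg.1 fg.2
    intro x hx
    exact hle hx
  let φ1 : (MvPolynomial (Fin n × Fin m) k ⧸ CAlgX.minorIdeal (Xmat k n m) (r + 1)) →ₐ[k] C :=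
    Ideal.Quotient.liftₐ (CAlgX.minorIdeal (Xmat k n m) (r + 1)) φ0 hφ0I
  have hcomp0 : (Ideal.Quotient.mkₐ k J).comp φ0 = θ := by
    apply MvPolynomial.algHom_ext
    intro p
    have h1 : φ0 (MvPolynomial.X p) = z p.1 p.2 := MvPolynomial.aeval_X _ _
    have h2 : (z.map (Ideal.Quotient.mk J)) p.1 p.2 = ((Xmat k n m).map θ) p.1 p.2 := by
      rw [hz]
    show Ideal.Quotient.mk J (φ0 (MvPolynomial.X p)) = θ (MvPolynomial.X p)
    rw [h1]
    exact h2
  have hcomp : ∀ y, Ideal.Quotient.mk J (φ1 y) = ψ (algebraMap _ (Localization.AtPrime P) y) := by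
    intro y
    obtain ⟨x, rfl⟩ := Ideal.Quotient.mk_surjective y
    have h1 : φ1 (Ideal.Quotient.mk _ x) = φ0 x := rfl
    rw [h1]
    exact AlgHom.congr_fun hcomp0 x
  have hu : ∀ s : P.primeCompl, IsUnit (φ1 s) := by
    intro s
    apply (IsNilpotent.isUnit_quotient_mk_iff (I := J) ⟨2, hJ⟩).mp
    rw [hcomp]
    exact (IsLocalization.map_units (Localization.AtPrime P) s).map ψ
  refine ⟨IsLocalization.liftAlgHom (M := P.primeCompl) (f := φ1) hu, ?_⟩
  apply AlgHom.coe_ringHom_injective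
  refine IsLocalization.ringHom_ext P.primeCompl ?_
  refine RingHom.ext fun y => ?_
  show Ideal.Quotient.mk J (IsLocalization.lift hu (algebraMap _ (Localization.AtPrime P) y)) =
    ψ (algebraMap _ (Localization.AtPrime P) y)
  rw [IsLocalization.lift_eq]
  exact hcomp y

theorem main_S10883 (r : ℕ) (hr : r < min n m)
    (P : PrimeSpectrum (MvPolynomial (Fin n × Fin m) k ⧸
      CAlgX.minorIdeal (Xmat k n m) (r + 1))) :
    P ∈ Algebra.smoothLocus k (MvPolynomial (Fin n × Fin m) k ⧸
      CAlgX.minorIdeal (Xmat k n m) (r + 1)) ↔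
      ¬ (CAlgX.minorIdeal (Xmat k n m) r).map
          (Ideal.Quotient.mk (CAlgX.minorIdeal (Xmat k n m) (r + 1))) ≤ P.asIdeal := by
  classical
  constructor
  · intro hsm hle
    exact not_formallySmooth_of_le k n m r hr P.asIdeal hle hsm
  · intro hnle
    have hex : ∃ fg : (Fin r → Fin n) × (Fin r → Fin m),
        Ideal.Quotient.mk (CAlgX.minorIdeal (Xmat k n m) (r + 1))
          ((Xmat k n m).submatrix fg.1 fg.2).det ∉ P.asIdeal := by
      by_contra hcon
      push Not at hcon
      apply hnle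
      rw [Ideal.map_le_iff_le_comap]
      refine Ideal.span_le.mpr ?_
      rintro _ ⟨fg, rfl⟩
      exact hcon fg
    obtain ⟨fg, hfg⟩ := hex
    exact formallySmooth_of_notMem k n m r P.asIdeal fg.1 fg.2 hfg

end generic

end Groth.Agent.Helper8.DetSm
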