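import Mathlib

/-! Generic splitting of a submodule of a finite module over a domain. -/

namespace Groth.Agent.Helper8.GenFree

open Submodule

variable {A : Type*} [CommRing A] [IsDomain A]

/-- For a finite module `Q` over a domain there are a nonzero `f` and a linearly independent
finite family whose span contains `f • Q`. -/
theorem exists_free_span {Q : Type*} [AddCommGroup Q] [Module A Q] [Module.Finite A Q] :
    ∃ (f : A) (n : ℕ) (q : Fin n → Q), f ≠ 0 ∧ LinearIndependent A q ∧
      ∀ y : Q, f • y ∈ span A (Set.range q) := by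
  classical
  obtain ⟨G, hG⟩ := (Module.Finite.fg_top : (⊤ : Submodule A Q).FG)
  obtain ⟨s, hs, hmax⟩ := exists_maximal_linearIndepOn A (fun g : G => (g : Q))
  -- coefficients
  have hco : ∀ g : G, ∃ a : A, a ≠ 0 ∧ a • (g : Q) ∈ span A ((fun g : G => (g : Q)) '' s) := by
    intro g
    by_cases hg : g ∈ s
    · exact ⟨1, one_ne_zero, by rw [one_smul]; exact subset_span ⟨g, hg, rfl⟩⟩
    · exact hmax g hg
  choose a ha0 ha using hco
  haveI : Fintype s := Fintype.ofFinite s
  let e := (Fintype.equivFin s).symm
  refine ⟨∏ g : G, a g, Fintype.card s, fun i => ((e i : G) : Q), ?_, ?_, ?_⟩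
  · exact Finset.prod_ne_zero_iff.mpr fun g _ => ha0 g
  · have := hs.linearIndependent
    exact this.comp e e.injective
  · have hrange : Set.range (fun i => ((e i : G) : Q)) = (fun g : G => (g : Q)) '' s := by
      ext y
      constructor
      · rintro ⟨i, rfl⟩
        exact ⟨(e i : G), (e i).2, rfl⟩
      · rintro ⟨g, hg, rfl⟩
        exact ⟨e.symm ⟨g, hg⟩, by simp⟩
    rw [hrange]
    intro y
    have hy : y ∈ span A (G : Set Q) := by rw [hG]; trivial
    induction hy using Submodule.span_induction with
    | mem y hy =>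
      have h1 := ha ⟨y, hy⟩
      have h2 : (∏ g : G, a g) = (∏ g ∈ Finset.univ.erase (⟨y, hy⟩ : G), a g) * a ⟨y, hy⟩ := by
        rw [Finset.prod_erase_mul _ _ (Finset.mem_univ _)]
      rw [h2, mul_smul]
      exact smul_mem _ _ h1
    | zero => simp
    | add x y _ _ hx hy => rw [smul_add]; exact add_mem hx hy
    | smul c x _ hx => rw [smul_comm]; exact smul_mem _ _ hx

/-- Generic splitting: for an injective map `j : N → M` into a finite module over a domain there is
`f ≠ 0` such that, at every prime `u` not containing `f`, membership of `j x` in `u M` up to a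
multiplier outside `u` descends to `N`. -/
theorem core {M N : Type*} [AddCommGroup M] [Module A M] [AddCommGroup N] [Module A N]
    [Module.Finite A M] (j : N →ₗ[A] M) (hj : Function.Injective j) :
    ∃ f : A, f ≠ 0 ∧ ∀ (u : Ideal A), u.IsPrime → f ∉ u → ∀ (x : N) (s : A), s ∉ u →
      s • j x ∈ u • (⊤ : Submodule A M) → ∃ s' : A, s' ∉ u ∧ s' • x ∈ u • (⊤ : Submodule A N) := by
  classical
  let Q := M ⧸ LinearMap.range j
  obtain ⟨f, n, q, hf0, hq, hfq⟩ := exists_free_span (A := A) (Q := Q)
  refine ⟨f, hf0, ?_⟩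
  intro u hu hfu x s hs hx
  -- lifts
  have hlift : ∀ i, ∃ m : M, (LinearMap.range j).mkQ m = q i := fun i =>
    Submodule.mkQ_surjective _ (q i)
  choose m hm using hlift
  let g : (N × (Fin n → A)) →ₗ[A] M :=
    LinearMap.coprod j (Fintype.linearCombination A m)
  have hg_apply : ∀ p : N × (Fin n → A), g p = j p.1 + ∑ i, p.2 i • m i := by
    intro p
    simp [g, Fintype.linearCombination_apply]
  have hg_inj : Function.Injective g := by
    rw [← LinearMap.ker_eq_bot, LinearMap.ker_eq_bot']
    intro p hp
    rw [hg_apply] at hp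
    have h1 := congrArg (LinearMap.range j).mkQ hp
    rw [map_add, map_zero, map_sum] at h1
    have h2 : (LinearMap.range j).mkQ (j p.1) = 0 := by
      rw [Submodule.mkQ_apply, Submodule.Quotient.mk_eq_zero]
      exact ⟨_, rfl⟩
    rw [h2, zero_add] at h1
    simp only [map_smul, hm] at h1
    have h3 := Fintype.linearIndependent_iff.mp hq p.2 h1
    have h4 : p.2 = 0 := funext h3
    rw [h4] at hp
    simp only [Pi.zero_apply, zero_smul, Finset.sum_const_zero, add_zero] at hp
    have h5 : p.1 = 0 := hj (by rw [hp, map_zero])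
    exact Prod.ext h5 h4
  -- `f • M ⊆ range g`
  have hfM : ∀ y : M, f • y ∈ LinearMap.range g := by
    intro y
    have h1 := hfq ((LinearMap.range j).mkQ y)
    obtain ⟨c, hc⟩ := (Submodule.mem_span_range_iff_exists_fun A).mp h1
    have h2 : f • y - ∑ i, c i • m i ∈ LinearMap.range j := by
      rw [← Submodule.Quotient.mk_eq_zero, ← Submodule.mkQ_apply, map_sub, map_smul, map_sum]
      simp only [map_smul, hm]
      rw [hc, sub_self]
    obtain ⟨z, hz⟩ := h2
    refine ⟨(z, c), ?_⟩
    rw [hg_apply]
    simp only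
    rw [hz]
    abel
  -- `f • (s • j x) ∈ u • range g`
  have h1 : ∀ z ∈ u • (⊤ : Submodule A M), f • z ∈ u • LinearMap.range g := by
    intro z hz
    induction hz using Submodule.smul_induction_on' with
    | smul r hr z _ =>
      rw [smul_comm]
      exact Submodule.smul_mem_smul hr (hfM z)
    | add z w _ _ hz hw => rw [smul_add]; exact add_mem hz hw
  have h2 := h1 _ hx
  rw [LinearMap.range_eq_map, ← Submodule.map_smul''] at h2
  obtain ⟨p, hp, hpe⟩ := h2
  -- the preimage under `g`
  have h3 : g ((f * s) • x, 0) = f • s • j x := by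
    rw [hg_apply]
    simp [mul_smul]
  have h4 : p = ((f * s) • x, 0) := hg_inj (by rw [hpe, h3])
  refine ⟨f * s, fun h => (hu.mem_or_mem h).elim hfu hs, ?_⟩
  have h5 : u • (⊤ : Submodule A (N × (Fin n → A))) ≤
      Submodule.prod (u • (⊤ : Submodule A N)) ⊤ := by
    rw [Submodule.smul_le]
    intro r hr z _
    refine ⟨?_, trivial⟩
    exact Submodule.smul_mem_smul hr trivial
  have h6 := h5 hp
  rw [h4] at h6
  exact h6.1

end Groth.Agent.Helper8.GenFree
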