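import Mathlib

/-!
# Finiteness of torsion modules: the socle criterion and a local-global principle
-/

set_option autoImplicit false
universe u

namespace Groth.Agent.Helper8.LG

section basic

variable {R : Type*} [CommRing R]

/-- the elements killed by `I`. -/
def annSub (I : Ideal R) (X : Type*) [AddCommGroup X] [Module R X] : Submodule R X where
  carrier := {y | ∀ a ∈ I, a • y = 0}
  add_mem' := by
    intro x y hx hy a ha
    rw [smul_add, hx a ha, hy a ha, add_zero]
  zero_mem' := fun a _ => smul_zero a
  smul_mem' := by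
    intro c x hx a ha
    rw [smul_comm, hx a ha, smul_zero]

lemma mem_annSub {I : Ideal R} {X : Type*} [AddCommGroup X] [Module R X] {y : X} :
    y ∈ annSub I X ↔ ∀ a ∈ I, a • y = 0 := Iff.rfl

/-- the elements moved into `U` by `I`. -/
def colonSub (I : Ideal R) {X : Type*} [AddCommGroup X] [Module R X] (U : Submodule R X) :
    Submodule R X where
  carrier := {y | ∀ a ∈ I, a • y ∈ U}
  add_mem' := by
    intro x y hx hy a ha
    rw [smul_add]
    exact U.add_mem (hx a ha) (hy a ha)
  zero_mem' := fun a _ => by rw [smul_zero]; exact U.zero_mem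
  smul_mem' := by
    intro c x hx a ha
    rw [smul_comm]
    exact U.smul_mem c (hx a ha)

lemma mem_colonSub {I : Ideal R} {X : Type*} [AddCommGroup X] [Module R X] {U : Submodule R X}
    {y : X} : y ∈ colonSub I U ↔ ∀ a ∈ I, a • y ∈ U := Iff.rfl

variable [IsNoetherianRing R]

/-- if `U` and the socle `(0 : I)` are finitely generated then so is `(U : I)`. -/
theorem colonSub_fg (I : Ideal R) {X : Type*} [AddCommGroup X] [Module R X] (U : Submodule R X)
    (hU : U.FG) (hann : (annSub I X).FG) : (colonSub I U).FG := by
  obtain ⟨r, a, ha⟩ := Submodule.fg_iff_exists_fin_generating_family.mp (IsNoetherian.noetherian I)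
  let Φ : X →ₗ[R] (Fin r → X) := LinearMap.pi (fun t => LinearMap.lsmul R X (a t))
  have haI : ∀ t, a t ∈ I := by
    intro t
    rw [← ha]
    exact Submodule.subset_span ⟨t, rfl⟩
  apply Submodule.fg_of_fg_map_of_fg_inf_ker Φ
  · refine Submodule.FG.of_le (Submodule.fg_pi (p := fun _ : Fin r => U) (fun _ => hU)) ?_
    rintro _ ⟨z, hz, rfl⟩
    rw [Submodule.mem_pi]
    intro t _
    exact hz (a t) (haI t)
  · refine Submodule.FG.of_le hann ?_
    rintro z ⟨_, hz⟩
    have hz : Φ z = 0 := hz
    intro b hb
    rw [← ha] at hb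
    refine Submodule.span_induction (p := fun b _ => b • z = 0) ?_ ?_ ?_ ?_ hb
    · rintro _ ⟨t, rfl⟩
      exact congrFun hz t
    · exact zero_smul R z
    · intro x y _ _ hx hy
      rw [add_smul, hx, hy, add_zero]
    · intro c x _ hx
      rw [smul_assoc, hx, smul_zero]

/-- a module killed by `I^k` with finitely generated socle `(0 : I)` is finite. -/
theorem finite_of_pow_smul_eq_zero (I : Ideal R) {X : Type*} [AddCommGroup X] [Module R X]
    (k : ℕ) (hk : ∀ a ∈ I ^ k, ∀ y : X, a • y = 0) (hann : (annSub I X).FG) :
    Module.Finite R X := by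
  have key : ∀ j : ℕ, (annSub (I ^ j) X).FG := by
    intro j
    induction j with
    | zero =>
      have : annSub (I ^ 0) X = ⊥ := by
        rw [eq_bot_iff]
        intro y hy
        have h0 : (1 : R) ∈ I ^ 0 := by
          rw [pow_zero, Ideal.one_eq_top]
          exact Submodule.mem_top
        have h1 : (1 : R) • y = 0 := hy 1 h0
        rw [one_smul] at h1
        exact h1
      rw [this]
      exact Submodule.fg_bot
    | succ j ih =>
      refine Submodule.FG.of_le (colonSub_fg I (annSub (I ^ j) X) ih hann) ?_
      intro y hy a ha b hb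
      rw [smul_smul]
      apply hy
      rw [pow_succ]
      exact Ideal.mul_mem_mul hb ha
  refine ⟨Submodule.FG.of_le (key k) ?_⟩
  intro y _ a ha
  exact hk a ha y

end basic

section assoc

variable {R : Type u} [CommRing R] [IsNoetherianRing R]

omit [IsNoetherianRing R] in
/-- a finite localized torsion module is killed by a power of `I` (acting through `R`). -/
theorem exists_pow_smul_localized_eq_zero (I : Ideal R) (X : Type u) [AddCommGroup X] [Module R X]
    (htors : ∀ y : X, ∃ n : ℕ, ∀ a ∈ I ^ n, a • y = 0) (p : Ideal R) [p.IsPrime]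
    [Module.Finite (Localization.AtPrime p) (LocalizedModule p.primeCompl X)] :
    ∃ k : ℕ, ∀ a ∈ I ^ k, ∀ y : X, ∃ s : R, s ∉ p ∧ s • a • y = 0 := by
  obtain ⟨n, g, hg⟩ := Module.Finite.exists_fin (R := Localization.AtPrime p)
    (M := LocalizedModule p.primeCompl X)
  have hrep : ∀ t : Fin n, ∃ (y : X) (s : p.primeCompl), g t = LocalizedModule.mk y s := by
    intro t
    induction g t using LocalizedModule.induction_on with
    | h y s => exact ⟨y, s, rfl⟩
  choose y s hys using hrep
  choose m hm using fun t => htors (y t)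
  refine ⟨Finset.univ.sup m, fun a ha x => ?_⟩
  have hker : ∀ z : LocalizedModule p.primeCompl X, a • z = 0 := by
    intro z
    have hz : z ∈ Submodule.span (Localization.AtPrime p) (Set.range g) := by
      rw [hg]
      exact Submodule.mem_top
    refine Submodule.span_induction (p := fun z _ => a • z = 0) ?_ ?_ ?_ ?_ hz
    · rintro _ ⟨t, rfl⟩
      rw [hys t, LocalizedModule.smul'_mk]
      have : a • y t = 0 :=
        hm t a (Ideal.pow_le_pow_right (Finset.le_sup (Finset.mem_univ t)) ha)
      rw [this, LocalizedModule.zero_mk]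
    · exact smul_zero a
    · intro u v _ _ hu hv
      rw [smul_add, hu, hv, add_zero]
    · intro c u _ hu
      rw [smul_comm, hu, smul_zero]
  have h1 := hker (LocalizedModule.mk x 1)
  rw [LocalizedModule.smul'_mk, ← LocalizedModule.zero_mk 1, LocalizedModule.mk_eq] at h1
  obtain ⟨u, hu⟩ := h1
  refine ⟨u, u.2, ?_⟩
  rw [one_smul, one_smul, smul_zero] at hu
  exact hu

/-- **local-global principle for torsion modules with finite socle.** -/
theorem finite_of_locally_finite (I : Ideal R) (X : Type u) [AddCommGroup X] [Module R X]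
    (htors : ∀ y : X, ∃ n : ℕ, ∀ a ∈ I ^ n, a • y = 0)
    (hann : (annSub I X).FG)
    (hloc : ∀ (p : Ideal R) [p.IsPrime],
      Module.Finite (Localization.AtPrime p) (LocalizedModule p.primeCompl X)) :
    Module.Finite R X := by
  haveI : Module.Finite R (annSub I X) := Module.Finite.iff_fg.mpr hann
  have hsub : associatedPrimes R X ⊆ associatedPrimes R (annSub I X) := by
    intro p hp
    obtain ⟨hpp, y, hy⟩ := isAssociatedPrime_iff.mp hp
    obtain ⟨n, hn⟩ := htors y
    have hIp : I ≤ p := by
      have h1 : I ^ n ≤ p := by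
        intro a ha
        rw [hy, Submodule.mem_colon_singleton, hn a ha]
        exact Submodule.zero_mem _
      exact hpp.le_of_pow_le h1
    have hymem : y ∈ annSub I X := by
      intro a ha
      have := hIp ha
      rw [hy, Submodule.mem_colon_singleton, Submodule.mem_bot] at this
      exact this
    refine isAssociatedPrime_iff.mpr ⟨hpp, ⟨y, hymem⟩, ?_⟩
    ext r
    rw [hy, Submodule.mem_colon_singleton, Submodule.mem_colon_singleton, Submodule.mem_bot,
      Submodule.mem_bot]
    constructor
    · intro h
      exact Subtype.ext h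
    · intro h
      exact congrArg Subtype.val h
  have hfin : (associatedPrimes R X).Finite :=
    (associatedPrimes.finite R (annSub I X)).subset hsub
  have hlocexp : ∀ p : Ideal R, ∃ k : ℕ, p ∈ associatedPrimes R X →
      ∀ a ∈ I ^ k, ∀ y : X, ∃ s : R, s ∉ p ∧ s • a • y = 0 := by
    intro p
    by_cases hp : p ∈ associatedPrimes R X
    · haveI : p.IsPrime := hp.1
      haveI := hloc p
      obtain ⟨k, hk⟩ := exists_pow_smul_localized_eq_zero I X htors p
      exact ⟨k, fun _ => hk⟩
    · exact ⟨0, fun h => absurd h hp⟩
  choose kf hkf using hlocexp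
  apply finite_of_pow_smul_eq_zero I (hfin.toFinset.sup kf) ?_ hann
  intro a ha y
  by_contra hne
  obtain ⟨P, hP, hle⟩ := exists_le_isAssociatedPrime_of_isNoetherianRing R (a • y) hne
  have hP' : P ∈ associatedPrimes R X := hP
  have hkP : kf P ≤ hfin.toFinset.sup kf := Finset.le_sup (hfin.mem_toFinset.mpr hP')
  obtain ⟨s, hsP, hs⟩ := hkf P hP' a (Ideal.pow_le_pow_right hkP ha) y
  apply hsP
  apply hle
  rw [Submodule.mem_colon_singleton, hs]
  exact Submodule.zero_mem _

end assoc

end Groth.Agent.Helper8.LG
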