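import Mathlib
import Groth.Agent.Lib.Helper8.GenFree
import Groth.Agent.Lib.Helper8.LG1

/-!
# A devissage principle for finite modules over a Noetherian ring

A property of modules which passes to submodules and to extensions, and which holds for `A ⧸ p`
for every associated prime `p` of a finite module `M`, holds for `M`.
-/

set_option autoImplicit false
universe u

namespace Groth.Agent.Helper8.Dev

open Submodule

section tf

variable {A : Type*} [CommRing A] [IsDomain A]

/-- a finite torsion-free module over a domain embeds in a finite free module. -/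
theorem exists_injective_to_free {K : Type*} [AddCommGroup K] [Module A K] [Module.Finite A K]
    (htf : ∀ (a : A) (x : K), a ≠ 0 → a • x = 0 → x = 0) :
    ∃ (n : ℕ) (g : K →ₗ[A] (Fin n → A)), Function.Injective g := by
  obtain ⟨f, n, q, hf, hli, hspan⟩ := Groth.Agent.Helper8.GenFree.exists_free_span (A := A) (Q := K)
  let b : Module.Basis (Fin n) A (Submodule.span A (Set.range q)) := Module.Basis.span hli
  let g : K →ₗ[A] Submodule.span A (Set.range q) :=
    LinearMap.codRestrict _ (f • (LinearMap.id : K →ₗ[A] K)) hspan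
  refine ⟨n, b.equivFun.toLinearMap.comp g, ?_⟩
  rw [LinearMap.coe_comp]
  refine b.equivFun.injective.comp ?_
  rw [injective_iff_map_eq_zero]
  intro y hy
  have h2 : f • y = 0 := congrArg Subtype.val hy
  exact htf f y hf h2

end tf

section prime

variable {A : Type u} [CommRing A]

/-- a finite module killed by a prime `p`, on which the elements outside `p` are regular, embeds
in a finite free `A ⧸ p`-module. -/
theorem exists_injective_to_free_quotient (p : Ideal A) [p.IsPrime] (Y : Type u)
    [AddCommGroup Y] [Module A Y] [Module.Finite A Y]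
    (hkill : ∀ a ∈ p, ∀ y : Y, a • y = 0)
    (htf : ∀ (a : A) (y : Y), a ∉ p → a • y = 0 → y = 0) :
    ∃ (n : ℕ) (g : Y →ₗ[A] (Fin n → A ⧸ p)), Function.Injective g := by
  have hT : Module.IsTorsionBySet A Y (p : Set A) := by
    intro y a
    exact hkill a.1 a.2 y
  letI : Module (A ⧸ p) Y := hT.module
  haveI : IsScalarTower A (A ⧸ p) Y := hT.isScalarTower
  haveI : Module.Finite (A ⧸ p) Y := Module.Finite.of_restrictScalars_finite A (A ⧸ p) Y
  obtain ⟨n, g, hg⟩ := exists_injective_to_free (A := A ⧸ p) (K := Y) (by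
    intro a y ha hay
    obtain ⟨a', rfl⟩ := Ideal.Quotient.mk_surjective a
    have ha' : a' ∉ p := fun h => ha (Ideal.Quotient.eq_zero_iff_mem.mpr h)
    exact htf a' y ha' hay)
  exact ⟨n, g.restrictScalars A, hg⟩

end prime

section main

variable {A : Type u} [CommRing A] [IsNoetherianRing A]

omit [IsNoetherianRing A] in
/-- the property passes to finite free modules over `A ⧸ p`. -/
theorem pi_of_quotient
    (F : ∀ (X : Type u) [AddCommGroup X] [Module A X], Prop)
    (h0 : ∀ (X : Type u) [AddCommGroup X] [Module A X] [Module.Finite A X], Subsingleton X → F X)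
    (h1 : ∀ (X Y : Type u) [AddCommGroup X] [Module A X] [AddCommGroup Y] [Module A Y]
      [Module.Finite A X] [Module.Finite A Y] (f : X →ₗ[A] Y), Function.Injective f → F Y → F X)
    (h2 : ∀ (X Y Z : Type u) [AddCommGroup X] [Module A X] [AddCommGroup Y] [Module A Y]
      [AddCommGroup Z] [Module A Z] [Module.Finite A X] [Module.Finite A Y] [Module.Finite A Z]
      (f : X →ₗ[A] Y) (g : Y →ₗ[A] Z), Function.Injective f → Function.Exact f g →
      Function.Surjective g → F X → F Z → F Y)
    (p : Ideal A) (hp : F (A ⧸ p)) (n : ℕ) : F (Fin n → A ⧸ p) := by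
  induction n with
  | zero => exact h0 _ inferInstance
  | succ n ih =>
    have hprod : F ((A ⧸ p) × (Fin n → A ⧸ p)) :=
      h2 (A ⧸ p) ((A ⧸ p) × (Fin n → A ⧸ p)) (Fin n → A ⧸ p)
        (LinearMap.inl A (A ⧸ p) (Fin n → A ⧸ p)) (LinearMap.snd A (A ⧸ p) (Fin n → A ⧸ p))
        LinearMap.inl_injective Function.Exact.inl_snd LinearMap.snd_surjective hp ih
    let e : ((A ⧸ p) × (Fin n → A ⧸ p)) ≃ₗ[A] (Fin (n + 1) → A ⧸ p) :=
      Fin.consLinearEquiv A (fun _ : Fin (n + 1) => A ⧸ p)
    exact h1 _ _ e.symm.toLinearMap e.symm.injective hprod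

/-- **Devissage.** A property of finite modules which holds for the zero module, passes to
submodules and to extensions, and holds for `A ⧸ p` for every associated prime `p` of `M`,
holds for `M`. -/
theorem devissage
    (F : ∀ (X : Type u) [AddCommGroup X] [Module A X], Prop)
    (h0 : ∀ (X : Type u) [AddCommGroup X] [Module A X] [Module.Finite A X], Subsingleton X → F X)
    (h1 : ∀ (X Y : Type u) [AddCommGroup X] [Module A X] [AddCommGroup Y] [Module A Y]
      [Module.Finite A X] [Module.Finite A Y] (f : X →ₗ[A] Y), Function.Injective f → F Y → F X)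
    (h2 : ∀ (X Y Z : Type u) [AddCommGroup X] [Module A X] [AddCommGroup Y] [Module A Y]
      [AddCommGroup Z] [Module A Z] [Module.Finite A X] [Module.Finite A Y] [Module.Finite A Z]
      (f : X →ₗ[A] Y) (g : Y →ₗ[A] Z), Function.Injective f → Function.Exact f g →
      Function.Surjective g → F X → F Z → F Y)
    (M : Type u) [AddCommGroup M] [Module A M] [Module.Finite A M]
    (h : ∀ p ∈ associatedPrimes A M, F (A ⧸ p)) : F M := by
  classical
  haveI : IsNoetherian A M := isNoetherian_of_isNoetherianRing_of_finite A M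
  let S : Set (Submodule A M) :=
    {N | F N ∧ associatedPrimes A (M ⧸ N) ⊆ associatedPrimes A M}
  have hbot : (⊥ : Submodule A M) ∈ S := by
    refine ⟨h0 _ inferInstance, ?_⟩
    rw [LinearEquiv.AssociatedPrimes.eq (Submodule.quotEquivOfEqBot (⊥ : Submodule A M) rfl)]
  obtain ⟨N, hNS, hmax⟩ :=
    (set_has_maximal_iff_noetherian (R := A) (M := M)).mpr inferInstance S ⟨⊥, hbot⟩
  by_cases hN : N = ⊤
  · subst hN
    exact h1 M (⊤ : Submodule A M) (Submodule.topEquiv.symm.toLinearMap)
      (Submodule.topEquiv.symm.injective) hNS.1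
  exfalso
  haveI : Nontrivial (M ⧸ N) := Submodule.Quotient.nontrivial_iff.mpr hN
  have hfin : (associatedPrimes A (M ⧸ N)).Finite := associatedPrimes.finite A (M ⧸ N)
  have hne : (associatedPrimes A (M ⧸ N)).Nonempty := associatedPrimes.nonempty A (M ⧸ N)
  obtain ⟨p, hpmax⟩ := hfin.exists_maximal hne
  have hp : p ∈ associatedPrimes A (M ⧸ N) := hpmax.prop
  haveI hpP : p.IsPrime := hp.isPrime
  obtain ⟨_, xb, hxb⟩ := (isAssociatedPrime_iff).mp hp
  obtain ⟨x, rfl⟩ := N.mkQ_surjective xb
  let N' : Submodule A M := Groth.Agent.Helper8.LG.colonSub p N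
  have hNN' : N ≤ N' := fun y hy a _ => N.smul_mem a hy
  have hxN' : x ∈ N' := by
    intro a ha
    rw [hxb, Submodule.mem_colon_singleton, Submodule.mem_bot, ← map_smul, Submodule.mkQ_apply,
      Submodule.Quotient.mk_eq_zero] at ha
    exact ha
  have hxN : x ∉ N := by
    intro hxN
    apply hpP.ne_top
    rw [Ideal.eq_top_iff_one, hxb, Submodule.mem_colon_singleton, one_smul, Submodule.mem_bot,
      Submodule.mkQ_apply, Submodule.Quotient.mk_eq_zero]
    exact hxN
  have hlt : N < N' := lt_of_le_of_ne hNN' (fun h => hxN (h ▸ hxN'))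
  refine hmax N' ⟨?_, ?_⟩ hlt
  · -- `F N'`
    let N₀ : Submodule A N' := Submodule.comap N'.subtype N
    have hFN₀ : F N₀ :=
      h1 N₀ N (Submodule.comapSubtypeEquivOfLe hNN').toLinearMap
        (Submodule.comapSubtypeEquivOfLe hNN').injective hNS.1
    have hkill : ∀ a ∈ p, ∀ y : N' ⧸ N₀, a • y = 0 := by
      intro a ha y
      obtain ⟨⟨m, hm⟩, rfl⟩ := N₀.mkQ_surjective y
      rw [← map_smul, Submodule.mkQ_apply, Submodule.Quotient.mk_eq_zero]
      exact hm a ha
    have htf : ∀ (a : A) (y : N' ⧸ N₀), a ∉ p → a • y = 0 → y = 0 := by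
      intro a y ha hay
      obtain ⟨⟨m, hm⟩, rfl⟩ := N₀.mkQ_surjective y
      rw [← map_smul, Submodule.mkQ_apply, Submodule.Quotient.mk_eq_zero] at hay
      have hay' : a • m ∈ N := hay
      rw [Submodule.mkQ_apply, Submodule.Quotient.mk_eq_zero]
      change m ∈ N
      by_contra hmN
      have hm0 : N.mkQ m ≠ 0 := by
        rw [Submodule.mkQ_apply, Ne, Submodule.Quotient.mk_eq_zero]
        exact hmN
      obtain ⟨P, hP, hle⟩ := exists_le_isAssociatedPrime_of_isNoetherianRing A (N.mkQ m) hm0
      have hpP' : p ≤ P := by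
        intro b hb
        apply hle
        rw [Submodule.mem_colon_singleton, Submodule.mem_bot, ← map_smul, Submodule.mkQ_apply,
          Submodule.Quotient.mk_eq_zero]
        exact hm b hb
      have hPp : P ≤ p := hpmax.le_of_ge hP hpP'
      apply ha
      apply hPp
      apply hle
      rw [Submodule.mem_colon_singleton, Submodule.mem_bot, ← map_smul, Submodule.mkQ_apply,
        Submodule.Quotient.mk_eq_zero]
      exact hay'
    obtain ⟨n, g, hg⟩ := exists_injective_to_free_quotient p (N' ⧸ N₀) hkill htf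
    have hFp : F (A ⧸ p) := h p (hNS.2 hp)
    have hFY : F (N' ⧸ N₀) := h1 _ _ g hg (pi_of_quotient F h0 h1 h2 p hFp n)
    exact h2 N₀ N' (N' ⧸ N₀) N₀.subtype N₀.mkQ N₀.injective_subtype
      (LinearMap.exact_subtype_mkQ N₀) N₀.mkQ_surjective hFN₀ hFY
  · -- associated primes of `M ⧸ N'`
    intro q hq
    apply hNS.2
    haveI hqP : q.IsPrime := hq.isPrime
    obtain ⟨_, yb, hyb⟩ := (isAssociatedPrime_iff).mp hq
    obtain ⟨y, rfl⟩ := N'.mkQ_surjective yb
    obtain ⟨T, hT⟩ := (IsNoetherian.noetherian p : p.FG)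
    have hmem : ∀ a : A, a ∈ q ↔ ∀ t ∈ T, (t * a) • y ∈ N := by
      intro a
      rw [hyb, Submodule.mem_colon_singleton, Submodule.mem_bot, ← map_smul, Submodule.mkQ_apply,
        Submodule.Quotient.mk_eq_zero]
      constructor
      · intro hay t ht
        rw [mul_smul]
        exact hay t (hT ▸ Submodule.subset_span ht)
      · intro hay b hb
        rw [← hT] at hb
        refine Submodule.span_induction (p := fun b _ => b • a • y ∈ N) ?_ ?_ ?_ ?_ hb
        · intro t ht
          rw [← mul_smul]
          exact hay t ht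
        · rw [zero_smul]
          exact N.zero_mem
        · intro b c _ _ hb hc
          rw [add_smul]
          exact N.add_mem hb hc
        · intro c b _ hb
          rw [smul_assoc]
          exact N.smul_mem c hb
    have hqeq : q = T.inf (fun t => (⊥ : Submodule A (M ⧸ N)).colon {N.mkQ (t • y)}) := by
      ext a
      rw [hmem a, Submodule.mem_finsetInf]
      refine forall₂_congr fun t _ => ?_
      rw [Submodule.mem_colon_singleton, Submodule.mem_bot, ← map_smul, Submodule.mkQ_apply,
        Submodule.Quotient.mk_eq_zero, smul_smul, mul_comm]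
    obtain ⟨t, htT, hle⟩ := (Ideal.IsPrime.inf_le' hqP).mp hqeq.ge
    have hge : q ≤ (⊥ : Submodule A (M ⧸ N)).colon {N.mkQ (t • y)} := by
      rw [hqeq]
      exact Finset.inf_le htT
    exact (isAssociatedPrime_iff).mpr ⟨hqP, N.mkQ (t • y), le_antisymm hge hle⟩

end main

end Groth.Agent.Helper8.Dev
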