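import Groth.Agent.Lib.Helper8.Dev1
import Groth.Agent.Lib.Helper8.DT5

/-!
# Finiteness of `H^1_I(M)` through the associated primes of `M`
-/

set_option autoImplicit false
universe u
open CategoryTheory CategoryTheory.Limits Opposite

namespace Groth.Agent.Helper8.Dev

open LocCoh Groth.Agent.Helper8.LC Groth.Agent.Helper8.DT Abelian

variable {A : Type u} [CommRing A] [IsNoetherianRing A] (I : Ideal A)

omit [IsNoetherianRing A] in
/-- for a finite module, `H^1_I(M)` is finite iff the ideal transform `D_I(M)` is. -/
theorem finite_H_one_iff_finite_DT (M : Type u) [AddCommGroup M] [Module A M]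
    [Module.Finite A M] :
    Module.Finite A (H I 1 M) ↔ Module.Finite A (DT I M) := by
  obtain ⟨e⟩ := nonempty_coker_toDT_equiv I M
  constructor
  · intro h
    haveI : Module.Finite A (LinearMap.range (toDT I M)) := Module.Finite.range _
    haveI : Module.Finite A (DT I M ⧸ LinearMap.range (toDT I M)) := Module.Finite.equiv e.symm
    exact Module.Finite.of_submodule_quotient (LinearMap.range (toDT I M))
  · intro h
    exact Module.Finite.equiv e

/-- finiteness of the ideal transform passes to submodules. -/
theorem finite_DT_of_injective {X Y : Type u} [AddCommGroup X] [Module A X] [AddCommGroup Y]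
    [Module A Y] (f : X →ₗ[A] Y) (hf : Function.Injective f) (hY : Module.Finite A (DT I Y)) :
    Module.Finite A (DT I X) := by
  haveI : IsNoetherian A (DT I Y) := isNoetherian_of_isNoetherianRing_of_finite A _
  exact Module.Finite.of_injective ((idealTransform I).map (ModuleCat.ofHom f)).hom
    (DT_map_injective I f hf)

/-- finiteness of the ideal transform passes to extensions. -/
theorem finite_DT_of_exact {X Y Z : Type u} [AddCommGroup X] [Module A X] [AddCommGroup Y]
    [Module A Y] [AddCommGroup Z] [Module A Z] (f : X →ₗ[A] Y) (g : Y →ₗ[A] Z)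
    (hf : Function.Injective f) (hfg : Function.Exact f g) (hg : Function.Surjective g)
    (hX : Module.Finite A (DT I X)) (hZ : Module.Finite A (DT I Z)) :
    Module.Finite A (DT I Y) := by
  let S : ShortComplex (ModuleCat.{u} A) :=
    ModuleCat.shortComplexOfCompEqZero f g (hfg.linearMap_comp_eq_zero)
  have hS : S.ShortExact := ModuleCat.shortComplex_shortExact S hfg hf hg
  let F : DT I X →ₗ[A] DT I Y := ((idealTransform I).map S.f).hom
  let G : DT I Y →ₗ[A] DT I Z := ((idealTransform I).map S.g).hom
  haveI : IsNoetherian A (DT I Z) := isNoetherian_of_isNoetherianRing_of_finite A _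
  haveI : Module.Finite A (LinearMap.ker G) := by
    have hker : LinearMap.ker G = LinearMap.range F := by
      apply le_antisymm
      · intro y hy
        obtain ⟨x, hx⟩ := DT_exact I hS y hy
        exact ⟨x, hx⟩
      · rintro _ ⟨x, rfl⟩
        rw [LinearMap.mem_ker]
        change ((idealTransform I).map S.g) (((idealTransform I).map S.f) x) = 0
        rw [← ModuleCat.comp_apply, ← Functor.map_comp, S.zero, Functor.map_zero]
        rfl
    rw [hker]
    exact Module.Finite.range F
  haveI : Module.Finite A (DT I Y ⧸ LinearMap.ker G) :=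
    Module.Finite.of_injective ((LinearMap.ker G).liftQ G le_rfl)
      (LinearMap.ker_eq_bot.mp (Submodule.ker_liftQ_eq_bot _ _ _ le_rfl))
  exact Module.Finite.of_submodule_quotient (LinearMap.ker G)

/-- the ideal transform of `A ⧸ p` vanishes when `I ≤ p`. -/
theorem subsingleton_DT_quotient_of_le (p : Ideal A) (hp : I ≤ p) :
    Subsingleton (DT I (A ⧸ p)) := by
  apply subsingleton_DT_of_isPowerTorsion
  intro y
  refine ⟨1, fun a ha => ?_⟩
  rw [pow_one] at ha
  obtain ⟨b, rfl⟩ := Ideal.Quotient.mk_surjective y
  rw [← Ideal.Quotient.mk_eq_mk, ← Submodule.Quotient.mk_smul, Ideal.Quotient.mk_eq_mk,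
    Ideal.Quotient.eq_zero_iff_mem, smul_eq_mul]
  exact Ideal.mul_mem_right _ _ (hp ha)

/-- **Finiteness of `H^1_I` through associated primes.** -/
theorem finite_H_one_iff (M : Type u) [AddCommGroup M] [Module A M] [Module.Finite A M] :
    Module.Finite A (H I 1 M) ↔
      ∀ p : Ideal A, p ∈ associatedPrimes A M → ¬ I ≤ p → Module.Finite A (H I 1 (A ⧸ p)) := by
  constructor
  · intro h p hp _
    obtain ⟨hpP, f, hf⟩ := (isAssociatedPrime_iff_exists_injective_linearMap p M).mp hp
    rw [finite_H_one_iff_finite_DT] at h ⊢
    exact finite_DT_of_injective I f hf h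
  · intro h
    rw [finite_H_one_iff_finite_DT]
    refine devissage (A := A) (fun X _ _ => Module.Finite A (DT I X)) ?_ ?_ ?_ M ?_
    · intro X _ _ _ hX
      haveI : Subsingleton (DT I X) := by
        apply subsingleton_DT_of_isPowerTorsion
        intro y
        exact ⟨0, fun a _ => by rw [Subsingleton.elim y 0, smul_zero]⟩
      exact Module.Finite.of_finite
    · intro X Y _ _ _ _ _ _ f hf hY
      exact finite_DT_of_injective I f hf hY
    · intro X Y Z _ _ _ _ _ _ _ _ _ f g hf hfg hg hX hZ
      exact finite_DT_of_exact I f g hf hfg hg hX hZ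
    · intro p hp
      by_cases hIp : I ≤ p
      · haveI := subsingleton_DT_quotient_of_le I p hIp
        exact Module.Finite.of_finite
      · exact (finite_H_one_iff_finite_DT I (A ⧸ p)).mp (h p hp hIp)

end Groth.Agent.Helper8.Dev
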