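import Mathlib

/-!
# Detecting coefficients of homogeneous polynomials with derivations (characteristic zero)

`R` is a `B`-algebra, `I` an ideal of `R`, `ζ` a family of elements of `I` and `Δ α` a family of
`B`-linear derivations of `R` with `Δ α (ζ β) ≡ δ_{αβ}` modulo `I`.  If `B` contains `ℚ`, a
homogeneous polynomial `Q` of degree `n` over `B` with `Q(ζ) ∈ I^(n+1)` has all its coefficients
in the kernel of `B → R/I`.
-/

set_option autoImplicit false

namespace Groth.Agent.Helper8.DiffCh

open MvPolynomial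

universe u

variable {B R : Type u} [CommRing B] [CommRing R] [Algebra B R] (I : Ideal R)

/-- The Leibniz rule for a `B`-linear endomorphism of `R`. -/
def IsDer (Δ : R →ₗ[B] R) : Prop := ∀ x y, Δ (x * y) = x * Δ y + y * Δ x

variable {I}

theorem IsDer.map_pow_mem {Δ : R →ₗ[B] R} (h : IsDer Δ) (m : ℕ) :
    ∀ x ∈ I ^ (m + 1), Δ x ∈ I ^ m := by
  induction m with
  | zero =>
    intro x _
    rw [pow_zero, Ideal.one_eq_top]
    trivial
  | succ m ih =>
    intro x hx
    rw [pow_succ'] at hx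
    induction hx using Submodule.mul_induction_on' with
    | mem_mul_mem a ha b hb =>
      rw [h]
      refine Ideal.add_mem _ ?_ ?_
      · rw [pow_succ']
        exact Ideal.mul_mem_mul ha (ih b hb)
      · exact Ideal.mul_mem_right _ _ hb
    | add x _ y _ hx hy =>
      rw [map_add]
      exact Ideal.add_mem _ hx hy

variable (I) {σ : Type*} (ζ : σ → ↥I)

/-- Evaluation of polynomials at the family `ζ`. -/
noncomputable def ev : MvPolynomial σ B →ₐ[B] R := aeval (fun β => (ζ β : R))

theorem ev_X (β : σ) : ev I ζ (X β : MvPolynomial σ B) = (ζ β : R) := by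
  rw [ev, aeval_X]

theorem ev_monomial_one_mem (d : σ →₀ ℕ) :
    ev I ζ (monomial d (1 : B)) ∈ I ^ (Finsupp.degree d) := by
  classical
  rw [ev, aeval_monomial, map_one, one_mul, Finsupp.degree_apply, Finsupp.prod,
    ← Finset.prod_pow_eq_pow_sum]
  apply Ideal.prod_mem_prod
  intro β _
  exact Ideal.pow_mem_pow (ζ β).2 _

theorem smul_mem_pow (n : ℕ) (b : B) {y : R} (hy : y ∈ I ^ n) : b • y ∈ I ^ n := by
  rw [Algebra.smul_def]
  exact Ideal.mul_mem_left _ _ hy

/-- A `B`-linear map on polynomials which sends the monomials of degree `n` into `I ^ n` sends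
every homogeneous polynomial of degree `n` into `I ^ n`. -/
theorem mem_of_monomials (E : MvPolynomial σ B →ₗ[B] R) (n : ℕ)
    (h : ∀ d : σ →₀ ℕ, Finsupp.degree d = n → E (monomial d 1) ∈ I ^ n)
    (Q : MvPolynomial σ B) (hQ : Q.IsHomogeneous n) : E Q ∈ I ^ n := by
  rw [← MvPolynomial.support_sum_monomial_coeff Q, map_sum]
  refine Ideal.sum_mem _ fun d hd => ?_
  have h1 : (monomial d (Q.coeff d) : MvPolynomial σ B) = Q.coeff d • monomial d 1 := by
    rw [smul_monomial, smul_eq_mul, mul_one]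
  rw [h1, map_smul]
  apply smul_mem_pow
  apply h
  rw [Finsupp.degree_eq_weight_one]
  exact hQ (mem_support_iff.1 hd)

theorem ev_mem_pow (n : ℕ) (Q : MvPolynomial σ B) (hQ : Q.IsHomogeneous n) :
    ev I ζ Q ∈ I ^ n :=
  mem_of_monomials I (ev I ζ).toLinearMap n
    (fun d hd => by rw [← hd]; exact ev_monomial_one_mem I ζ d) Q hQ

section congr

variable {I ζ} [DecidableEq σ]
variable {Δ : R →ₗ[B] R} (hΔ : IsDer Δ) (α : σ)
  (hα : ∀ β, Δ (ζ β) - (if β = α then 1 else 0) ∈ I)

/-- The difference `Δ ∘ ev - ev ∘ ∂_α`. -/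
noncomputable def Ediff (Δ : R →ₗ[B] R) (α : σ) : MvPolynomial σ B →ₗ[B] R :=
  Δ ∘ₗ (ev I ζ).toLinearMap - (ev I ζ).toLinearMap ∘ₗ (pderiv α).toLinearMap

theorem Ediff_apply (P : MvPolynomial σ B) :
    Ediff (ζ := ζ) Δ α P = Δ (ev I ζ P) - ev I ζ (pderiv α P) := rfl

include hΔ in
theorem Ediff_mul (P Q : MvPolynomial σ B) :
    Ediff (ζ := ζ) Δ α (P * Q) =
      ev I ζ P * Ediff (ζ := ζ) Δ α Q + ev I ζ Q * Ediff (ζ := ζ) Δ α P := by
  rw [Ediff_apply, Ediff_apply, Ediff_apply, map_mul, hΔ, Derivation.leibniz, map_add,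
    smul_eq_mul, smul_eq_mul, map_mul, map_mul]
  ring

include hα in
theorem Ediff_X (β : σ) : Ediff (ζ := ζ) Δ α (X β) ∈ I := by
  classical
  rw [Ediff_apply, ev_X, pderiv_X, Pi.single_apply]
  have h1 : ev I ζ (if β = α then (1 : MvPolynomial σ B) else 0) = if β = α then 1 else 0 := by
    split_ifs
    · rw [map_one]
    · rw [map_zero]
  rw [h1]
  exact hα β

include hΔ hα in
theorem Ediff_monomial_mem : ∀ (n : ℕ) (d : σ →₀ ℕ), Finsupp.degree d = n →
    Ediff (ζ := ζ) Δ α (monomial d 1) ∈ I ^ n := by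
  classical
  intro n
  induction n with
  | zero =>
    intro d _
    rw [pow_zero, Ideal.one_eq_top]
    trivial
  | succ n ih =>
    intro d hd
    have hne : d ≠ 0 := by
      rintro rfl
      rw [map_zero] at hd
      exact absurd hd (Nat.succ_ne_zero n).symm
    obtain ⟨β, hβ⟩ := Finsupp.ne_iff.1 hne
    rw [Finsupp.zero_apply] at hβ
    have hd' : d = (d - Finsupp.single β 1) + Finsupp.single β 1 := by
      ext γ
      by_cases hγ : γ = β
      · subst hγ
        simp only [Finsupp.coe_add, Finsupp.coe_tsub, Pi.add_apply, Pi.sub_apply,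
          Finsupp.single_eq_same]
        omega
      · simp [Ne.symm hγ]
    have hdeg : Finsupp.degree (d - Finsupp.single β 1) = n := by
      have := congrArg Finsupp.degree hd'
      rw [map_add, hd, Finsupp.degree_single] at this
      omega
    have hmon : (monomial d (1 : B) : MvPolynomial σ B) =
        monomial (d - Finsupp.single β 1) 1 * X β := by
      conv_lhs => rw [hd']
      rw [monomial_add_single, pow_one]
    rw [hmon, Ediff_mul hΔ, pow_succ]
    refine Ideal.add_mem _ ?_ ?_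
    · have h1 := ev_monomial_one_mem (B := B) I ζ (d - Finsupp.single β 1)
      rw [hdeg] at h1
      exact Ideal.mul_mem_mul h1 (Ediff_X α hα β)
    · have h2 : ev I ζ (X β : MvPolynomial σ B) *
          Ediff (ζ := ζ) Δ α (monomial (d - Finsupp.single β 1) 1) =
          Ediff (ζ := ζ) Δ α (monomial (d - Finsupp.single β 1) 1) * (ζ β : R) := by
        rw [ev_X, mul_comm]
      rw [h2]
      exact Ideal.mul_mem_mul (ih _ hdeg) (ζ β).2

include hΔ hα in
theorem Ediff_mem (n : ℕ) (Q : MvPolynomial σ B) (hQ : Q.IsHomogeneous n) :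
    Δ (ev I ζ Q) - ev I ζ (pderiv α Q) ∈ I ^ n :=
  mem_of_monomials I (Ediff (ζ := ζ) Δ α) n (Ediff_monomial_mem hΔ α hα n) Q hQ

end congr

section main

variable {I ζ} [DecidableEq σ] [Algebra ℚ B]

/-- **Detection of coefficients in characteristic zero.** -/
theorem coeff_mem_of_ev_mem (Δ : σ → R →ₗ[B] R) (hΔ : ∀ α, IsDer (Δ α))
    (hα : ∀ α β, Δ α (ζ β) - (if β = α then 1 else 0) ∈ I) :
    ∀ (n : ℕ) (Q : MvPolynomial σ B), Q.IsHomogeneous n → ev I ζ Q ∈ I ^ (n + 1) →
      ∀ d, algebraMap B R (Q.coeff d) ∈ I := by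
  intro n
  induction n with
  | zero =>
    intro Q hQ hev d
    have h0 : Q = C (Q.coeff 0) :=
      totalDegree_eq_zero_iff_eq_C.1 (Nat.le_zero.1 hQ.totalDegree_le)
    rw [h0, ev, aeval_C, zero_add, pow_one] at hev
    rw [h0, coeff_C]
    split_ifs
    · exact hev
    · rw [map_zero]
      exact Ideal.zero_mem _
  | succ n ih =>
    intro Q hQ hev d
    by_cases hd : Q.coeff d = 0
    · rw [hd, map_zero]
      exact Ideal.zero_mem _
    have hdeg : Finsupp.degree d = n + 1 := by
      rw [Finsupp.degree_eq_weight_one]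
      exact hQ hd
    have hne : d ≠ 0 := by
      rintro rfl
      rw [map_zero] at hdeg
      exact absurd hdeg (Nat.succ_ne_zero n).symm
    obtain ⟨α, hαd⟩ := Finsupp.ne_iff.1 hne
    rw [Finsupp.zero_apply] at hαd
    have hQ' : (pderiv α Q).IsHomogeneous n := hQ.pderiv
    have h1 : Δ α (ev I ζ Q) ∈ I ^ (n + 1) := (hΔ α).map_pow_mem (n + 1) _ hev
    have h2 := Ediff_mem (hΔ α) α (hα α) (n + 1) Q hQ
    have h3 : ev I ζ (pderiv α Q) ∈ I ^ (n + 1) := by
      have := Ideal.sub_mem _ h1 h2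
      rwa [sub_sub_cancel] at this
    have h4 := ih (pderiv α Q) hQ' h3 (d - Finsupp.single α 1)
    rw [coeff_pderiv] at h4
    have hd' : d - Finsupp.single α 1 + Finsupp.single α 1 = d := by
      ext γ
      by_cases hγ : γ = α
      · subst hγ
        simp only [Finsupp.coe_add, Finsupp.coe_tsub, Pi.add_apply, Pi.sub_apply,
          Finsupp.single_eq_same]
        omega
      · simp [Ne.symm hγ]
    rw [hd'] at h4
    have h5 : (((d - Finsupp.single α 1 : σ →₀ ℕ) α : ℕ) : B) + 1 = ((d α : ℕ) : B) := by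
      simp only [Finsupp.coe_tsub, Pi.sub_apply, Finsupp.single_eq_same]
      have : d α - 1 + 1 = d α := by omega
      exact_mod_cast congrArg (Nat.cast (R := B)) this
    rw [h5, map_mul] at h4
    have hu : IsUnit ((d α : ℕ) : B) := by
      have : ((d α : ℕ) : B) = algebraMap ℚ B (d α : ℚ) := by
        rw [map_natCast]
      rw [this]
      exact (IsUnit.mk0 _ (Nat.cast_ne_zero.2 hαd)).map _
    rw [mul_comm] at h4
    exact (Ideal.unit_mul_mem_iff_mem _ (hu.map (algebraMap B R))).1 h4

end main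

end Groth.Agent.Helper8.DiffCh
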