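import Mathlib
import Groth.Prelude.Def_PP16
import Groth.Agent.Lib.Helper8.QRGen1
import Groth.Agent.Lib.Helper8.DiffCh1
import Groth.Agent.Lib.Helper8.DiffSm4

/-!
# Characteristic zero: free differentials imply differential smoothness
-/

set_option autoImplicit false

namespace Groth.Agent.Helper8.DiffCh

open PP16 MvPolynomial TensorProduct Groth.Agent.Helper8.SymPow Groth.Agent.Helper8.QRGen
  Groth.Agent.Helper8.DiffSm

universe u

section tauZero

variable {R : Type u} [CommRing R] (J : Ideal R) {σ : Type*} (F : σ → ↥J) (ι : Type u) [Fintype ι]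
  [Nonempty ι]

theorem tau_eq_zero_of_coeff_mem (p : MvPolynomial σ R) (h : ∀ d, p.coeff d ∈ J) :
    tau J F ι p = 0 := by
  rw [tau_apply]
  exact Finset.sum_eq_zero fun d _ => smul_eq_zero_of_mem R J ι _ (h d) _

end tauZero

section deriv

variable (A B : Type u) [CommRing A] [CommRing B] [Algebra A B]

/-- The `B`-linear derivation `id ⊗ D` of `B ⊗ B` attached to a derivation `D` of `B`. -/
noncomputable def DeltaOf (D : Derivation A B B) : B ⊗[A] B →ₗ[B] B ⊗[A] B :=
  TensorProduct.AlgebraTensorModule.map (LinearMap.id : B →ₗ[B] B) (D : B →ₗ[A] B)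

theorem DeltaOf_tmul (D : Derivation A B B) (a b : B) :
    DeltaOf A B D (a ⊗ₜ b) = a ⊗ₜ D b := rfl

theorem isDer_DeltaOf (D : Derivation A B B) : IsDer (DeltaOf A B D) := by
  intro x y
  induction x with
  | zero => simp
  | add x₁ x₂ h₁ h₂ => rw [add_mul, map_add, h₁, h₂, map_add]; ring
  | tmul a b =>
    induction y with
    | zero => simp
    | add y₁ y₂ h₁ h₂ => rw [mul_add, map_add, h₁, h₂, map_add]; ring
    | tmul a' b' =>
      rw [Algebra.TensorProduct.tmul_mul_tmul, DeltaOf_tmul, DeltaOf_tmul, DeltaOf_tmul,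
        Derivation.leibniz, tmul_add, Algebra.TensorProduct.tmul_mul_tmul,
        Algebra.TensorProduct.tmul_mul_tmul, smul_eq_mul, smul_eq_mul, mul_comm a' a]

end deriv

section pairing

variable (A B : Type u) [CommRing A] [CommRing B] [Algebra A B]
  (lam : (KaehlerDifferential.ideal A B).Cotangent →ₗ[B] B)

/-- The derivation of `B` attached to a linear form on the differentials. -/
noncomputable def derOf : Derivation A B B :=
  LinearMap.compDer (show KaehlerDifferential A B →ₗ[B] B from lam) (KaehlerDifferential.D A B)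

theorem derOf_apply (b : B) : derOf A B lam b = lam ((KaehlerDifferential.ideal A B).toCotangent
    ⟨1 ⊗ₜ b - b ⊗ₜ 1, KaehlerDifferential.one_smul_sub_smul_one_mem_ideal A b⟩) := rfl

theorem sigma_smul (b : B) (y : B ⊗[A] B) : sigma A B (b • y) = b * sigma A B y := by
  rw [Algebra.smul_def, map_mul, sigma_algebraMap]

theorem sigma_DeltaOf_aux (y : B ⊗[A] B)
    (hy : y ∈ Submodule.span B (Set.range fun s : B => (1 : B) ⊗ₜ[A] s - s ⊗ₜ[A] (1 : B))) :
    ∃ hy' : y ∈ KaehlerDifferential.ideal A B,
      sigma A B (DeltaOf A B (derOf A B lam) y) =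
        lam ((KaehlerDifferential.ideal A B).toCotangent ⟨y, hy'⟩) := by
  induction hy using Submodule.span_induction with
  | mem y hy =>
    obtain ⟨b, rfl⟩ := hy
    refine ⟨KaehlerDifferential.one_smul_sub_smul_one_mem_ideal A b, ?_⟩
    rw [map_sub, DeltaOf_tmul, DeltaOf_tmul, Derivation.map_one_eq_zero, tmul_zero, sub_zero,
      derOf_apply]
    show Algebra.TensorProduct.lmul' A ((1 : B) ⊗ₜ[A] lam _) = _
    rw [Algebra.TensorProduct.lmul'_apply_tmul, one_mul]
  | zero =>
    refine ⟨Ideal.zero_mem _, ?_⟩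
    rw [map_zero, map_zero]
    have : (⟨0, Ideal.zero_mem _⟩ : ↥(KaehlerDifferential.ideal A B)) = 0 := rfl
    rw [this, map_zero, map_zero]
  | add x y _ _ hx hy =>
    obtain ⟨hx', ex⟩ := hx
    obtain ⟨hy', ey⟩ := hy
    refine ⟨Ideal.add_mem _ hx' hy', ?_⟩
    have : (⟨x + y, Ideal.add_mem _ hx' hy'⟩ : ↥(KaehlerDifferential.ideal A B)) =
        ⟨x, hx'⟩ + ⟨y, hy'⟩ := rfl
    rw [this, map_add, map_add, map_add, map_add, ex, ey]
  | smul b x _ hx =>
    obtain ⟨hx', ex⟩ := hx
    have hbx : b • x ∈ KaehlerDifferential.ideal A B := by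
      rw [Algebra.smul_def]
      exact Ideal.mul_mem_left _ _ hx'
    refine ⟨hbx, ?_⟩
    have : (⟨b • x, hbx⟩ : ↥(KaehlerDifferential.ideal A B)) =
        algebraMap B (B ⊗[A] B) b • ⟨x, hx'⟩ := by
      apply Subtype.ext
      show b • x = algebraMap B (B ⊗[A] B) b * x
      rw [Algebra.smul_def]
    rw [this, map_smul, sigma_smul, ex, map_smul, algebraMap_smul, map_smul, smul_eq_mul]

theorem sigma_DeltaOf (x : ↥(KaehlerDifferential.ideal A B)) :
    sigma A B (DeltaOf A B (derOf A B lam) x) =
      lam ((KaehlerDifferential.ideal A B).toCotangent x) := by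
  have hx : (x : B ⊗[A] B) ∈
      Submodule.span B (Set.range fun s : B => (1 : B) ⊗ₜ[A] s - s ⊗ₜ[A] (1 : B)) := by
    rw [KaehlerDifferential.submodule_span_range_eq_ideal]
    exact x.2
  obtain ⟨_, h⟩ := sigma_DeltaOf_aux A B lam x hx
  exact h

end pairing

section main

variable (A B : Type u) [CommRing A] [CommRing B] [Algebra A B] [Algebra ℚ B]

theorem symGrBijective_of_free (hΩ : Module.Free B (KaehlerDifferential A B)) :
    SymGrBijective (B ⊗[A] B) (KaehlerDifferential.ideal A B) := by
  classical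
  rw [symGrBijective_iff]
  intro ι _ _
  let bΩ := Module.Free.chooseBasis B (KaehlerDifferential A B)
  have hζ : ∀ α, ∃ z : ↥(KaehlerDifferential.ideal A B),
      (KaehlerDifferential.ideal A B).toCotangent z = bΩ α :=
    fun α => Ideal.toCotangent_surjective _ _
  choose ζ hζ using hζ
  let lam : Module.Free.ChooseBasisIndex B (KaehlerDifferential A B) →
      (KaehlerDifferential.ideal A B).Cotangent →ₗ[B] B := fun α => bΩ.coord α
  let Δ : Module.Free.ChooseBasisIndex B (KaehlerDifferential A B) →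
      (B ⊗[A] B) →ₗ[B] (B ⊗[A] B) := fun α => DeltaOf A B (derOf A B (lam α))
  have hΔ : ∀ α, IsDer (Δ α) := fun α => isDer_DeltaOf A B _
  have hα : ∀ α β, Δ α (ζ β) - (if β = α then 1 else 0) ∈ KaehlerDifferential.ideal A B := by
    intro α β
    have h1 : sigma A B (Δ α (ζ β)) = if β = α then 1 else 0 := by
      show sigma A B (DeltaOf A B (derOf A B (lam α)) (ζ β)) = _
      rw [sigma_DeltaOf, hζ]
      show bΩ.coord α (bΩ β) = _
      rw [Module.Basis.coord_apply, Module.Basis.repr_self, Finsupp.single_apply]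
    rw [mem_ideal_iff, map_sub, h1]
    split_ifs
    · rw [map_one, sub_self]
    · rw [map_zero, sub_self]
  have hspanB : Submodule.span B (Set.range fun l =>
      (KaehlerDifferential.ideal A B).toCotangent (ζ l)) = ⊤ := by
    have h1 : (fun l => (KaehlerDifferential.ideal A B).toCotangent (ζ l)) = bΩ := funext hζ
    rw [h1]
    exact bΩ.span_eq
  have hspan : Submodule.span (B ⊗[A] B) (Set.range fun l =>
      (KaehlerDifferential.ideal A B).toCotangent (ζ l)) = ⊤ := by
    rw [eq_top_iff]
    intro m _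
    have hm : m ∈ Submodule.span B (Set.range fun l =>
        (KaehlerDifferential.ideal A B).toCotangent (ζ l)) := by
      rw [hspanB]; trivial
    exact Submodule.span_le_restrictScalars B (B ⊗[A] B) _ hm
  rw [injective_iff_map_eq_zero]
  intro x hx
  obtain ⟨QR, hQR, rfl⟩ := exists_tau_eq_of_span _ ζ ι hspan x
  have hQ : (map (sigma A B) QR).IsHomogeneous (Fintype.card ι) := hQR.map _
  have h1 : tau _ ζ ι QR =
      tau _ ζ ι (map (algebraMap B (B ⊗[A] B)) (map (sigma A B) QR)) := by
    rw [← sub_eq_zero, ← map_sub]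
    apply tau_eq_zero_of_coeff_mem
    intro d
    rw [coeff_sub, coeff_map, coeff_map]
    exact sub_mem_ideal A B _
  rw [h1] at hx ⊢
  rw [phi_tau_eq_zero_iff _ ζ ι _ (hQ.map _)] at hx
  have h2 : ev (KaehlerDifferential.ideal A B) ζ (map (sigma A B) QR) =
      eval (fun l => (ζ l : B ⊗[A] B)) (map (algebraMap B (B ⊗[A] B)) (map (sigma A B) QR)) := by
    rw [ev, aeval_def, eval₂_eq_eval_map]
  rw [← h2] at hx
  have h3 := coeff_mem_of_ev_mem Δ hΔ hα (Fintype.card ι) _ hQ hx
  apply tau_eq_zero_of_coeff_mem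
  intro d
  rw [coeff_map]
  exact h3 d

theorem isDiffSmooth_of_free (hΩ : Module.Free B (KaehlerDifferential A B)) : IsDiffSmooth A B :=
  isDiffSmooth_of_symGrBijective A B inferInstance (symGrBijective_of_free A B hΩ)

end main

end Groth.Agent.Helper8.DiffCh
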