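import Mathlib
import Groth.Prelude.Def_PP16
import Groth.Agent.Lib.Helper8.DiffSm4
import Groth.Agent.Lib.Helper8.SymPow13

/-!
# Differential smoothness as adic formal smoothness of the diagonal; base change
-/

set_option autoImplicit false

namespace Groth.Agent.Helper8.DiffSm

open PP16 TensorProduct Groth.Agent.Helper8.SymPow CAlgX

universe u

section iff

variable (A B : Type u) [CommRing A] [CommRing B] [Algebra A B]

theorem symGrBijective_of_isDiffSmooth (h : IsDiffSmooth A B) :
    SymGrBijective (B ⊗[A] B) (KaehlerDifferential.ideal A B) := by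
  rw [symGrBijective_iff]
  intro ι _ _
  obtain ⟨φ, hφ, hbij⟩ := h.2 ι
  rw [phiB_unique A B ι φ hφ] at hbij
  have hΨ := Psi_bijective (B := B) (M := (KaehlerDifferential.ideal A B).Cotangent) ι
    (sigma A B) (smul_cotangent A B) (sigma_algebraMap A B)
  have hfun : (phiΩ A B ι : _ → _) = (cmpG A B (Fintype.card ι)) ∘
      (phi (B ⊗[A] B) (KaehlerDifferential.ideal A B) ι) ∘ (Psi B ι) := by
    funext x
    exact phiB_eq A B ι x
  rw [hfun] at hbij
  have h1 : Function.Injective ((phi (B ⊗[A] B) (KaehlerDifferential.ideal A B) ι) ∘ (Psi B ι)) :=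
    Function.Injective.of_comp hbij.1
  exact Function.Injective.of_comp_right h1 hΨ.2

/-- Differential smoothness of `B` over `A` is formal smoothness of `B ⊗ B` over `B` for the
adic topology of the diagonal ideal. -/
theorem isDiffSmooth_iff_isAdicFormallySmooth :
    IsDiffSmooth A B ↔ IsAdicFormallySmooth B (B ⊗[A] B) (KaehlerDifferential.ideal A B) := by
  haveI : Algebra.FormallySmooth B ((B ⊗[A] B) ⧸ KaehlerDifferential.ideal A B) :=
    Algebra.FormallySmooth.of_equiv (quotEquiv A B).symm
  constructor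
  · intro h
    exact isAdicFormallySmooth_of_projective_of_symGrBijective _
      (projective_cotangent_of_projective A B h.1) (symGrBijective_of_isDiffSmooth A B h)
  · intro h
    have h2 := projective_and_symGrBijective (KaehlerDifferential.ideal A B) h
    exact isDiffSmooth_of_symGrBijective A B (projective_of_projective_cotangent A B h2.1) h2.2

end iff

section baseChange

variable (A B A' B' : Type u) [CommRing A] [CommRing B] [Algebra A B]
  [CommRing A'] [CommRing B'] [Algebra A' B'] [Algebra A A'] [Algebra B B'] [Algebra A B']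
  [IsScalarTower A A' B'] [IsScalarTower A B B'] [Algebra.IsPushout A B A' B']

open Algebra.TensorProduct in
theorem isAdicFormallySmooth_baseChange
    (h : IsAdicFormallySmooth B (B ⊗[A] B) (KaehlerDifferential.ideal A B)) :
    IsAdicFormallySmooth B' (B' ⊗[A'] B') (KaehlerDifferential.ideal A' B') := by
  intro E _ _ N hN ψ ⟨k, hk⟩
  letI algBE : Algebra B E := Algebra.compHom E (algebraMap B B')
  haveI : IsScalarTower B B' E := IsScalarTower.of_algebraMap_eq fun _ => rfl
  letI algAE : Algebra A E := Algebra.compHom E (algebraMap A B)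
  haveI : IsScalarTower A B E := IsScalarTower.of_algebraMap_eq fun _ => rfl
  letI algA'E : Algebra A' E := Algebra.compHom E (algebraMap A' B')
  haveI : IsScalarTower A' B' E := IsScalarTower.of_algebraMap_eq fun _ => rfl
  haveI : IsScalarTower A B' E := IsScalarTower.of_algebraMap_eq fun a => by
    show algebraMap B' E (algebraMap B B' (algebraMap A B a)) = _
    rw [← IsScalarTower.algebraMap_apply A B B']
  haveI : IsScalarTower A A' E := IsScalarTower.of_algebraMap_eq fun a => by
    show algebraMap B' E (algebraMap B B' (algebraMap A B a)) =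
      algebraMap B' E (algebraMap A' B' (algebraMap A A' a))
    rw [← IsScalarTower.algebraMap_apply A B B', ← IsScalarTower.algebraMap_apply A A' B']
  -- the second-factor map
  let g₀ : B' →ₐ[A'] E ⧸ N := (ψ.restrictScalars A').comp includeRight
  let g : B →ₐ[A] E ⧸ N := (g₀.restrictScalars A).comp (IsScalarTower.toAlgHom A B B')
  let ψ₀ : B ⊗[A] B →ₐ[B] E ⧸ N :=
    lift (Algebra.ofId B (E ⧸ N)) g (fun _ _ => Commute.all _ _)
  have hψ₀r : ∀ b : B, ψ₀ (1 ⊗ₜ b) = ψ (1 ⊗ₜ algebraMap B B' b) := by
    intro b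
    show lift _ g _ (1 ⊗ₜ b) = _
    rw [lift_tmul, map_one, one_mul]
    rfl
  have hψ₀l : ∀ b : B, ψ₀ (b ⊗ₜ 1) = ψ (algebraMap B B' b ⊗ₜ 1) := by
    intro b
    show lift _ g _ (b ⊗ₜ 1) = _
    rw [lift_tmul, map_one, mul_one]
    have h1 : (algebraMap B B' b ⊗ₜ[A'] (1 : B')) =
        algebraMap B' (B' ⊗[A'] B') (algebraMap B B' b) := rfl
    rw [h1, ψ.commutes]
    rfl
  have hkill : ∀ x ∈ KaehlerDifferential.ideal A B ^ k, ψ₀ x = 0 := by
    have h1 : KaehlerDifferential.ideal A B ≤
        Ideal.comap ψ₀ (Ideal.map ψ (KaehlerDifferential.ideal A' B')) := by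
      rw [← KaehlerDifferential.span_range_eq_ideal, Ideal.span_le]
      rintro _ ⟨b, rfl⟩
      rw [SetLike.mem_coe, Ideal.mem_comap, map_sub, hψ₀r, hψ₀l, ← map_sub]
      exact Ideal.mem_map_of_mem _ (KaehlerDifferential.one_smul_sub_smul_one_mem_ideal A' _)
    intro x hx
    have h2 := Ideal.pow_right_mono h1 k hx
    have h3 := Ideal.le_comap_pow ψ₀ k h2
    have h4 : Ideal.map ψ (KaehlerDifferential.ideal A' B' ^ k) = ⊥ := by
      rw [Ideal.map_eq_bot_iff_le_ker]
      intro y hy
      exact hk y hy
    rw [Ideal.mem_comap, ← Ideal.map_pow, h4] at h3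
    exact h3
  obtain ⟨χ₀, hχ₀⟩ := h E N hN ψ₀ ⟨k, hkill⟩
  let f : B →ₐ[A] E := (χ₀.restrictScalars A).comp includeRight
  let u₁ : B' →ₐ[A] E :=
    Algebra.pushoutDesc B' f (IsScalarTower.toAlgHom A A' E) (fun _ _ => mul_comm _ _)
  let u : B' →ₐ[A'] E :=
    { u₁.toRingHom with
      commutes' := fun a' => Algebra.pushoutDesc_right B' f (IsScalarTower.toAlgHom A A' E) _ a' }
  let χ : B' ⊗[A'] B' →ₐ[B'] E := lift (Algebra.ofId B' E) u (fun _ _ => Commute.all _ _)
  refine ⟨χ, ?_⟩
  apply Algebra.TensorProduct.ext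
  · ext
  · have key : ((((Ideal.Quotient.mkₐ B' N).comp χ).restrictScalars A').comp
        includeRight).restrictScalars A =
        ((ψ.restrictScalars A').comp includeRight).restrictScalars A := by
      apply Algebra.IsPushout.algHom_ext (R := A) (S := B) (R' := A') (S' := B')
      · ext a'
        simp only [AlgHom.coe_comp, AlgHom.coe_restrictScalars', Function.comp_apply,
          IsScalarTower.coe_toAlgHom', AlgHom.commutes]
        rw [IsScalarTower.algebraMap_apply A' B' (B' ⊗[A'] B'), χ.commutes, ψ.commutes,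
          AlgHom.commutes]
      · ext b
        show Ideal.Quotient.mk N (χ (1 ⊗ₜ algebraMap B B' b)) = ψ (1 ⊗ₜ algebraMap B B' b)
        have h1 : χ (1 ⊗ₜ algebraMap B B' b) = χ₀ (1 ⊗ₜ b) := by
          show lift _ u _ (1 ⊗ₜ algebraMap B B' b) = _
          rw [lift_tmul, map_one, one_mul]
          exact Algebra.pushoutDesc_left B' f (IsScalarTower.toAlgHom A A' E) _ b
        rw [h1, ← hψ₀r, ← hχ₀]
        rfl
    exact AlgHom.ext fun x => AlgHom.congr_fun key x

end baseChange

end Groth.Agent.Helper8.DiffSm
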