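import Mathlib
import Groth.Prelude
import Groth.Agent.Lib.Helper8.LocalFib
import Groth.Agent.Lib.Helper8.NormBase5
import Groth.Agent.Lib.Helper8.Cpl2
import Groth.Agent.Lib.Helper8.FlatReg11
import Groth.Agent.Lib.Helper8.Fib5

/-!
# Normal local homomorphisms out of a one-dimensional local domain
-/

set_option autoImplicit false
universe u

namespace Groth.Agent.Helper8.DimOne

open IsLocalRing TensorProduct

section ker

variable (A B : Type u) [CommRing A] [CommRing B] [IsLocalRing A] [Algebra A B]

/-- The kernel of `B → κ(𝔪) ⊗ B` is `𝔪 B`. -/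
theorem ker_includeRight :
    RingHom.ker (Algebra.TensorProduct.includeRight : B →ₐ[A] (maximalIdeal A).Fiber B) =
      (maximalIdeal A).map (algebraMap A B) := by
  apply le_antisymm
  · intro b hb
    rw [RingHom.mem_ker, Algebra.TensorProduct.includeRight_apply] at hb
    let e0 : (A ⧸ maximalIdeal A) ≃ₗ[A] (maximalIdeal A).ResidueField :=
      (LinearEquiv.ofBijective
        ((Algebra.linearMap (A ⧸ maximalIdeal A) (maximalIdeal A).ResidueField).restrictScalars A)
        (Ideal.bijective_algebraMap_quotient_residueField (maximalIdeal A)))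
    have he0 : e0 1 = 1 := by
      show algebraMap (A ⧸ maximalIdeal A) (maximalIdeal A).ResidueField 1 = 1
      exact map_one _
    let e1 : (A ⧸ maximalIdeal A) ⊗[A] B ≃ₗ[A] (maximalIdeal A).ResidueField ⊗[A] B :=
      TensorProduct.congr e0 (LinearEquiv.refl A B)
    have h1 : e1 ((1 : A ⧸ maximalIdeal A) ⊗ₜ[A] b) = 0 := by
      show (e0 1) ⊗ₜ[A] b = 0
      rw [he0]; exact hb
    have h2 : ((1 : A ⧸ maximalIdeal A) ⊗ₜ[A] b) = 0 := by
      apply e1.injective
      rw [h1, map_zero]
    have h3 := congrArg (TensorProduct.quotTensorEquivQuotSMul B (maximalIdeal A)) h2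
    have h4 : (TensorProduct.quotTensorEquivQuotSMul B (maximalIdeal A))
        ((1 : A ⧸ maximalIdeal A) ⊗ₜ[A] b) = Submodule.Quotient.mk b :=
      TensorProduct.quotTensorEquivQuotSMul_mk_one_tmul _ b
    rw [h4, map_zero, Submodule.Quotient.mk_eq_zero, Ideal.smul_top_eq_map] at h3
    exact h3
  · rw [Ideal.map_le_iff_le_comap]
    intro a ha
    rw [Ideal.mem_comap, RingHom.mem_ker, Algebra.TensorProduct.includeRight_apply,
      Algebra.algebraMap_eq_smul_one, ← TensorProduct.smul_tmul, Algebra.smul_def, mul_one,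
      Ideal.algebraMap_residueField_eq_zero.2 ha, TensorProduct.zero_tmul]

end ker

section main

variable (A A' : Type u) [CommRing A] [CommRing A']
  [IsNoetherianRing A] [IsNoetherianRing A'] [IsLocalRing A] [IsLocalRing A']
  [Algebra A A'] [IsLocalHom (algebraMap A A')]

/-- `𝔪 A'` is prime for a normal local homomorphism. -/
theorem isPrime_map_maximalIdeal (h : EGA4.IsNormalHom A A') :
    ((maximalIdeal A).map (algebraMap A A')).IsPrime := by
  haveI : IsNoetherianRing ((maximalIdeal A).Fiber A') :=
    Groth.Agent.Helper8.Fib.isNoetherianRing_fiber _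
  have h1 : EGA4.IsNormalRing ((maximalIdeal A).Fiber A') :=
    Groth.Agent.Helper8.Cpl.isNormalRing_of_isGeomNormal _ _ (h.2 (maximalIdeal A))
  obtain ⟨hd, -⟩ :=
    Groth.Agent.Helper8.NormBase.isDomain_and_isIntegrallyClosed_of_isLocalRing _ h1
  rw [← ker_includeRight]
  exact RingHom.ker_isPrime _

end main

end Groth.Agent.Helper8.DimOne
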