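import Mathlib
import Groth.Prelude
import Groth.Agent.Lib.Helper8.DimOne1

/-!
# Normal local homomorphisms out of a one-dimensional local domain: the height of `𝔪 A'`
-/

set_option autoImplicit false
universe u

namespace Groth.Agent.Helper8.DimOne

open IsLocalRing TensorProduct

section main

variable (A A' : Type u) [CommRing A] [CommRing A']
  [IsNoetherianRing A] [IsNoetherianRing A'] [IsLocalRing A] [IsLocalRing A']
  [Algebra A A'] [IsLocalHom (algebraMap A A')]

/-- If `𝔪 A'` is prime and `A'` is flat over `A`, the height of `𝔪 A'` is `dim A`. -/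
theorem height_map_maximalIdeal [Module.Flat A A']
    [hP : ((maximalIdeal A).map (algebraMap A A')).IsPrime] :
    (((maximalIdeal A).map (algebraMap A A')).height : WithBot ℕ∞) = ringKrullDim A := by
  set P := (maximalIdeal A).map (algebraMap A A') with hPdef
  let L := Localization.AtPrime P
  have hmapL : (maximalIdeal A).map (algebraMap A L) = maximalIdeal L := by
    rw [IsScalarTower.algebraMap_eq A A' L, ← Ideal.map_map]
    exact Localization.AtPrime.map_eq_maximalIdeal
  haveI : IsLocalHom (algebraMap A L) := by
    refine ⟨fun a ha => ?_⟩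
    by_contra hna
    have h1 : a ∈ maximalIdeal A := (mem_maximalIdeal a).2 hna
    have h2 : algebraMap A L a ∈ maximalIdeal L := by
      rw [← hmapL]; exact Ideal.mem_map_of_mem _ h1
    exact (mem_maximalIdeal _).1 h2 ha
  haveI : Module.Flat A L := Module.Flat.trans A A' L
  have h1 := Groth.Agent.Helper8.FlatReg.ringKrullDim_eq_add_of_flat A L
  rw [hmapL] at h1
  have h2 : ringKrullDim (L ⧸ maximalIdeal L) = 0 := by
    letI : Field (L ⧸ maximalIdeal L) := Ideal.Quotient.field _
    exact ringKrullDim_eq_zero_of_field _
  rw [h2, add_zero, IsLocalization.AtPrime.ringKrullDim_eq_height P L] at h1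
  exact h1

end main

end Groth.Agent.Helper8.DimOne
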