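import Mathlib
import Groth.Prelude.Def_Disp2
import Groth.Agent.Lib.Helper4.Witt2

/-! helper8: twisted composition of semilinear-target maps `P → W ⊗_{g} P`, its associativity,
the resulting composition law for the iterates `V^{N#}`, and the ideal calculus showing that a
`V`-nilpotent `V#` has iterates landing in the kernel of any truncation. -/

set_option autoImplicit false

noncomputable section

namespace Groth.Agent.Helper8.DispPow

open Dieu

universe u v

section General

variable {W : Type u} [CommRing W] {P : Type v} [AddCommGroup P] [Module W P]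

/-- the twist `u ⊗ x ↦ u • push (φ x)` of `φ : P → W ⊗_{g₂} P` by `g₁`. -/
def tw (g₁ : W →+* W) {g₂ : W →+* W} (φ : P →ₗ[W] BC g₂ P) :
    BC g₁ P →ₗ[W] BC (g₁.comp g₂) P :=
  (BC.lift g₁ (BC.push g₂ g₁)).comp (BC.map g₁ φ)

theorem tw_tmul (g₁ : W →+* W) {g₂ : W →+* W} (φ : P →ₗ[W] BC g₂ P) (u : W) (x : P) :
    tw g₁ φ (BC.tmul g₁ u x) = u • BC.push g₂ g₁ (φ x) := by
  rw [tw, LinearMap.comp_apply, BC.map_tmul, BC.lift_tmul]

theorem castHom_castHom {g g' g'' : W →+* W} (e₁ : g = g') (e₂ : g' = g'') (z : BC g P) :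
    BC.castHom e₂ (BC.castHom e₁ z) = BC.castHom (e₁.trans e₂) z := by
  subst e₁; subst e₂; rfl

theorem castHom_mem {g g' : W →+* W} (e : g = g') (J : Ideal W) (z : BC g P)
    (hz : z ∈ J • (⊤ : Submodule W (BC g P))) :
    BC.castHom e z ∈ J • (⊤ : Submodule W (BC g' P)) := by
  subst e; exact hz

theorem mem_of_castHom_mem {g g' : W →+* W} (e : g = g') (J : Ideal W) (z : BC g P)
    (hz : BC.castHom e z ∈ J • (⊤ : Submodule W (BC g' P))) :
    z ∈ J • (⊤ : Submodule W (BC g P)) := by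
  subst e; exact hz

theorem tw_castHom_comp (g₁ : W →+* W) {g₂ g₂' : W →+* W} (h : g₂ = g₂')
    (φ : P →ₗ[W] BC g₂ P) :
    tw g₁ ((BC.castHom h).comp φ) =
      (BC.castHom (congrArg (fun g => g₁.comp g) h)).comp (tw g₁ φ) := by
  subst h; rfl

theorem push_push (g₁ g₂ g₃ : W →+* W) (t : BC g₃ P) :
    BC.castHom (rfl : (g₁.comp g₂).comp g₃ = g₁.comp (g₂.comp g₃))
        (BC.push g₃ (g₁.comp g₂) t)
      = BC.push (g₂.comp g₃) g₁ (BC.push g₃ g₂ t) := by
  induction t using BC.induction_on g₃ with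
  | zero => simp only [map_zero]
  | tmul a x =>
    simp only [BC.push_tmul, BC.castHom_tmul, RingHom.comp_apply]
    rfl
  | add z₁ z₂ h₁ h₂ => simp only [map_add, h₁, h₂]

theorem tw_push (g₁ g₂ g₃ : W →+* W) (φ : P →ₗ[W] BC g₃ P) (v : BC g₂ P) :
    BC.castHom (rfl : (g₁.comp g₂).comp g₃ = g₁.comp (g₂.comp g₃))
        (tw (g₁.comp g₂) φ (BC.push g₂ g₁ v))
      = BC.push (g₂.comp g₃) g₁ (tw g₂ φ v) := by
  induction v using BC.induction_on g₂ with
  | zero => simp only [map_zero]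
  | tmul u x =>
    rw [BC.push_tmul, tw_tmul, tw_tmul, map_smul, LinearMap.map_smulₛₗ, push_push]
  | add z₁ z₂ h₁ h₂ => simp only [map_add, h₁, h₂]

theorem tw_assoc (g₁ g₂ g₃ : W →+* W) (ψ : P →ₗ[W] BC g₂ P) (φ : P →ₗ[W] BC g₃ P) :
    (BC.castHom (rfl : (g₁.comp g₂).comp g₃ = g₁.comp (g₂.comp g₃))).comp
        ((tw (g₁.comp g₂) φ).comp (tw g₁ ψ))
      = tw g₁ ((tw g₂ φ).comp ψ) := by
  apply BC.ext
  intro y
  simp only [LinearMap.comp_apply, tw_tmul, one_smul, tw_push]

/-- a map `P → W ⊗_{g} P` together with its twisting endomorphism -/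
structure TwMap (W : Type u) [CommRing W] (P : Type v) [AddCommGroup P] [Module W P] where
  g : W →+* W
  φ : P →ₗ[W] BC g P

theorem TwMap.mk_eq {g g' : W →+* W} (φ : P →ₗ[W] BC g P) (φ' : P →ₗ[W] BC g' P) (h : g = g')
    (h2 : (BC.castHom h).comp φ = φ') : (⟨g, φ⟩ : TwMap W P) = ⟨g', φ'⟩ := by
  subst h
  subst h2
  rfl

/-- first `A`, then the `A.g`-twist of `B`. -/
def comp2 (A B : TwMap W P) : TwMap W P := ⟨A.g.comp B.g, (tw A.g B.φ).comp A.φ⟩

theorem comp2_assoc (A B C : TwMap W P) : comp2 (comp2 A B) C = comp2 A (comp2 B C) := by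
  have h3 := tw_assoc A.g B.g C.g B.φ C.φ
  show (⟨(A.g.comp B.g).comp C.g, (tw (A.g.comp B.g) C.φ).comp ((tw A.g B.φ).comp A.φ)⟩ :
      TwMap W P) = ⟨A.g.comp (B.g.comp C.g), (tw A.g ((tw B.g C.φ).comp B.φ)).comp A.φ⟩
  refine TwMap.mk_eq _ _ rfl ?_
  rw [← h3]
  rfl

/-- image in `J • ⊤` -/
def Img (A : TwMap W P) (J : Ideal W) : Prop :=
  ∀ x : P, A.φ x ∈ J • (⊤ : Submodule W (BC A.g P))

theorem Img.mono {A : TwMap W P} {J J' : Ideal W} (h : Img A J) (hJ : J ≤ J') : Img A J' :=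
  fun x => Submodule.smul_mono_left hJ (h x)

theorem push_mem (g h : W →+* W) (J : Ideal W) (t : BC g P)
    (ht : t ∈ J • (⊤ : Submodule W (BC g P))) :
    BC.push g h t ∈ (Ideal.map h J) • (⊤ : Submodule W (BC (h.comp g) P)) := by
  refine Submodule.smul_induction_on ht ?_ ?_
  · intro j hj z _
    rw [LinearMap.map_smulₛₗ]
    exact Submodule.smul_mem_smul (Ideal.mem_map_of_mem h hj) Submodule.mem_top
  · intro a b ha hb
    rw [map_add]
    exact add_mem ha hb

theorem tw_mem (g₁ : W →+* W) {g₂ : W →+* W} (φ : P →ₗ[W] BC g₂ P) (J : Ideal W)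
    (hφ : ∀ y, φ y ∈ J • (⊤ : Submodule W (BC g₂ P))) (z : BC g₁ P) :
    tw g₁ φ z ∈ (Ideal.map g₁ J) • (⊤ : Submodule W (BC (g₁.comp g₂) P)) := by
  induction z using BC.induction_on g₁ with
  | zero => rw [map_zero]; exact zero_mem _
  | tmul u y => rw [tw_tmul]; exact Submodule.smul_mem _ u (push_mem g₂ g₁ J _ (hφ y))
  | add z₁ z₂ h₁ h₂ => rw [map_add]; exact add_mem h₁ h₂

theorem comp2_img (A B : TwMap W P) (J₁ J₂ : Ideal W) (hA : Img A J₁) (hB : Img B J₂) :
    Img (comp2 A B) (J₁ * Ideal.map A.g J₂) := by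
  intro x
  show tw A.g B.φ (A.φ x) ∈
    (J₁ * Ideal.map A.g J₂) • (⊤ : Submodule W (BC (A.g.comp B.g) P))
  rw [Submodule.mul_smul]
  refine Submodule.smul_induction_on (hA x) ?_ ?_
  · intro j hj z _
    rw [map_smul]
    exact Submodule.smul_mem_smul hj (tw_mem A.g B.φ J₂ hB z)
  · intro a b ha hb
    rw [map_add]; exact add_mem ha hb

/-- iterates: `myPow σ Vs n` is `V^{(n+1)#}` with its twisting map. -/
def myPow (σ : W →+* W) (Vs : P →ₗ[W] BC σ P) : ℕ → TwMap W P
  | 0 => ⟨σ, Vs⟩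
  | n + 1 => comp2 ⟨σ, Vs⟩ (myPow σ Vs n)

theorem myPow_add (σ : W →+* W) (Vs : P →ₗ[W] BC σ P) (b m : ℕ) :
    myPow σ Vs (m + b + 1) = comp2 (myPow σ Vs b) (myPow σ Vs m) := by
  induction b with
  | zero => rfl
  | succ b ih =>
    show comp2 ⟨σ, Vs⟩ (myPow σ Vs (m + b + 1)) =
      comp2 (comp2 ⟨σ, Vs⟩ (myPow σ Vs b)) (myPow σ Vs m)
    rw [ih, comp2_assoc]

/-- block indices -/
def idx (n₀ : ℕ) : ℕ → ℕ
  | 0 => n₀
  | k + 1 => idx n₀ k + n₀ + 1

theorem img_idx (σ : W →+* W) (Vs : P →ₗ[W] BC σ P) (𝔞 : Ideal W) (n₀ : ℕ)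
    (h0 : Img (myPow σ Vs n₀) 𝔞) (hmap : Ideal.map (myPow σ Vs n₀).g 𝔞 ≤ 𝔞) (k : ℕ) :
    Img (myPow σ Vs (idx n₀ k)) (𝔞 ^ (k + 1)) := by
  induction k with
  | zero =>
    show Img (myPow σ Vs n₀) (𝔞 ^ (0 + 1))
    rw [zero_add, pow_one]; exact h0
  | succ k ih =>
    show Img (myPow σ Vs (idx n₀ k + n₀ + 1)) (𝔞 ^ (k + 1 + 1))
    rw [myPow_add]
    refine (comp2_img _ _ _ _ h0 ih).mono ?_
    rw [Ideal.map_pow, pow_succ' 𝔞 (k + 1)]
    exact Ideal.mul_mono_right (Ideal.pow_right_mono hmap _)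

end General

section Witt

variable {p : ℕ} [Fact p.Prime] {R : Type u} [CommRing R]
variable {P : Type v} [AddCommGroup P] [Module (WittVector p R) P]

theorem bridge
    (Vs : P →ₗ[WittVector p R] BC (WittVector.frobenius : WittVector p R →+* WittVector p R) P)
    (n : ℕ) :
    ∃ h : (myPow (WittVector.frobenius : WittVector p R →+* WittVector p R) Vs n).g =
        (WittVector.frobenius : WittVector p R →+* WittVector p R) ^ (n + 1),
      vSharpPow Vs n = (BC.castHom h).comp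
        (myPow (WittVector.frobenius : WittVector p R →+* WittVector p R) Vs n).φ := by
  induction n with
  | zero => exact ⟨(pow_one _).symm, rfl⟩
  | succ n ih =>
    obtain ⟨h, ih⟩ := ih
    have hg : (myPow (WittVector.frobenius : WittVector p R →+* WittVector p R) Vs (n + 1)).g =
        (WittVector.frobenius : WittVector p R →+* WittVector p R) ^ (n + 1 + 1) := by
      show (WittVector.frobenius : WittVector p R →+* WittVector p R).comp
        (myPow (WittVector.frobenius : WittVector p R →+* WittVector p R) Vs n).g = _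
      rw [h]; exact comp_pow_eq_pow_succ _ _
    refine ⟨hg, ?_⟩
    have e1 : vSharpPow Vs (n + 1) =
        (BC.castHom (comp_pow_eq_pow_succ
          (WittVector.frobenius : WittVector p R →+* WittVector p R) (n + 1))).comp
        ((tw (WittVector.frobenius : WittVector p R →+* WittVector p R)
          (vSharpPow Vs n)).comp Vs) := rfl
    have e2 : (myPow (WittVector.frobenius : WittVector p R →+* WittVector p R) Vs (n + 1)).φ =
        (tw (WittVector.frobenius : WittVector p R →+* WittVector p R)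
          (myPow (WittVector.frobenius : WittVector p R →+* WittVector p R) Vs n).φ).comp Vs := rfl
    rw [e1, ih, tw_castHom_comp, e2]
    apply LinearMap.ext
    intro x
    simp only [LinearMap.comp_apply, castHom_castHom]
    rfl

theorem frob_mem (a : WittVector p R)
    (ha : a ∈ W4c1extbt610.IV p R ⊔ Ideal.span {(p : WittVector p R)}) :
    WittVector.frobenius a ∈ W4c1extbt610.IV p R ⊔ Ideal.span {(p : WittVector p R)} := by
  have hle : W4c1extbt610.IV p R ⊔ Ideal.span {(p : WittVector p R)} ≤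
      Ideal.comap (WittVector.frobenius : WittVector p R →+* WittVector p R)
        (W4c1extbt610.IV p R ⊔ Ideal.span {(p : WittVector p R)}) := by
    refine sup_le ?_ ?_
    · unfold W4c1extbt610.IV
      rw [Ideal.span_le]
      rintro _ ⟨w, rfl⟩
      rw [SetLike.mem_coe, Ideal.mem_comap, WittVector.frobenius_verschiebung]
      exact Ideal.mul_mem_left _ w
        (Ideal.mem_sup_right (Ideal.mem_span_singleton_self _))
    · rw [Ideal.span_singleton_le_iff_mem]
      rw [Ideal.mem_comap, map_natCast]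
      exact Ideal.mem_sup_right (Ideal.mem_span_singleton_self _)
  exact hle ha

theorem frob_pow_mem (k : ℕ) (a : WittVector p R)
    (ha : a ∈ W4c1extbt610.IV p R ⊔ Ideal.span {(p : WittVector p R)}) :
    ((WittVector.frobenius : WittVector p R →+* WittVector p R) ^ k) a ∈
      W4c1extbt610.IV p R ⊔ Ideal.span {(p : WittVector p R)} := by
  induction k with
  | zero => rw [pow_zero, RingHom.one_def, RingHom.id_apply]; exact ha
  | succ k ih =>
    rw [pow_succ', RingHom.mul_def, RingHom.comp_apply]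
    exact frob_mem _ ih

theorem sq_le :
    (W4c1extbt610.IV p R ⊔ Ideal.span {(p : WittVector p R)}) *
      (W4c1extbt610.IV p R ⊔ Ideal.span {(p : WittVector p R)}) ≤
    Ideal.span {(p : WittVector p R)} := by
  have h1 : W4c1extbt610.IV p R ≤
      RingHom.ker (WittVector.constantCoeff : WittVector p R →+* R) := by
    unfold W4c1extbt610.IV
    rw [Ideal.span_le]
    rintro _ ⟨w, rfl⟩
    exact (Groth.Agent.Helper4.Witt.mem_ker_constantCoeff_iff _).mpr ⟨w, rfl⟩
  have hII : W4c1extbt610.IV p R * W4c1extbt610.IV p R ≤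
      Ideal.span {(p : WittVector p R)} :=
    ((Ideal.mul_mono h1 h1).trans Groth.Agent.Helper4.Witt.ker_mul_ker_le).trans
      Ideal.mul_le_left
  rw [Ideal.sup_mul, Ideal.mul_sup, Ideal.mul_sup]
  exact sup_le (sup_le hII Ideal.mul_le_right) (sup_le Ideal.mul_le_left Ideal.mul_le_left)

theorem main (hp : IsNilpotent (p : R))
    (Vs : P →ₗ[WittVector p R] BC (WittVector.frobenius : WittVector p R →+* WittVector p R) P)
    (hnil : Dieu.IsVNilpotent Vs) (n : ℕ) :
    ∃ N : ℕ, ∀ x : P, Dieu.vSharpPow Vs N x ∈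
      (RingHom.ker (WittVector.truncate (p := p) (R := R) n)) •
        (⊤ : Submodule (WittVector p R)
          (Dieu.BC ((WittVector.frobenius : WittVector p R →+* WittVector p R) ^ (N + 1)) P)) := by
  obtain ⟨N₀, hN₀⟩ := hp
  obtain ⟨n₀, hn₀⟩ := hnil
  obtain ⟨h, hb⟩ := bridge Vs n₀
  have h0 : Img (myPow (WittVector.frobenius : WittVector p R →+* WittVector p R) Vs n₀)
      (W4c1extbt610.IV p R ⊔ Ideal.span {(p : WittVector p R)}) := by
    intro x
    apply mem_of_castHom_mem h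
    have h1 := hn₀ x
    rw [hb] at h1
    exact h1
  have hmap : Ideal.map
      (myPow (WittVector.frobenius : WittVector p R →+* WittVector p R) Vs n₀).g
      (W4c1extbt610.IV p R ⊔ Ideal.span {(p : WittVector p R)}) ≤
      W4c1extbt610.IV p R ⊔ Ideal.span {(p : WittVector p R)} := by
    rw [h, Ideal.map_le_iff_le_comap]
    intro a ha
    exact frob_pow_mem _ a ha
  have hk := img_idx _ Vs _ n₀ h0 hmap (2 * (N₀ * n))
  have hle : (W4c1extbt610.IV p R ⊔ Ideal.span {(p : WittVector p R)}) ^ (2 * (N₀ * n) + 1) ≤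
      RingHom.ker (WittVector.truncate (p := p) (R := R) n) := by
    calc (W4c1extbt610.IV p R ⊔ Ideal.span {(p : WittVector p R)}) ^ (2 * (N₀ * n) + 1)
        ≤ (W4c1extbt610.IV p R ⊔ Ideal.span {(p : WittVector p R)}) ^ (2 * (N₀ * n)) :=
          Ideal.pow_le_pow_right (Nat.le_succ _)
      _ = ((W4c1extbt610.IV p R ⊔ Ideal.span {(p : WittVector p R)}) ^ 2) ^ (N₀ * n) :=
          pow_mul _ _ _
      _ ≤ (Ideal.span {(p : WittVector p R)}) ^ (N₀ * n) :=
          Ideal.pow_right_mono (by rw [pow_two]; exact sq_le) _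
      _ ≤ _ := Groth.Agent.Helper4.Witt.span_pow_le_ker_truncate hN₀ n
  refine ⟨idx n₀ (2 * (N₀ * n)), fun x => ?_⟩
  obtain ⟨h', hb'⟩ := bridge Vs (idx n₀ (2 * (N₀ * n)))
  rw [hb']
  exact castHom_mem h' _ _ (Submodule.smul_mono_left hle (hk x))

end Witt

end Groth.Agent.Helper8.DispPow
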