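import Mathlib
import Groth.Prelude.Def_Disp2
import Groth.Agent.Lib.Helper8.DispPow1

/-! helper8: base change of `V#` along a ring map: the semilinear comparison map `Theta`,
compatibility of twisted composition with base change, and the proof that the base change of a
display is a display. -/

set_option autoImplicit false

noncomputable section

namespace Groth.Agent.Helper8.DispPow

open Dieu TensorProduct

universe u v

theorem semilin_mem {A' B' : Type*} [CommRing A'] [CommRing B'] {h : A' →+* B'} {M N : Type*}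
    [AddCommGroup M] [Module A' M] [AddCommGroup N] [Module B' N] (ℓ : M →ₛₗ[h] N)
    (J : Ideal A') (t : M) (ht : t ∈ J • (⊤ : Submodule A' M)) :
    ℓ t ∈ Ideal.map h J • (⊤ : Submodule B' N) := by
  refine Submodule.smul_induction_on ht ?_ ?_
  · intro j hj z _
    rw [LinearMap.map_smulₛₗ]
    exact Submodule.smul_mem_smul (Ideal.mem_map_of_mem h hj) Submodule.mem_top
  · intro a b ha hb
    rw [map_add]
    exact add_mem ha hb

section BaseChange

variable {A B : Type u} [CommRing A] [CommRing B] (φ : A →+* B)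
variable {P : Type v} [AddCommGroup P] [Module A P]

theorem tmul_tmul_eq (g' : B →+* B) (w' w : B) (x : P) :
    BC.tmul g' w' (BC.tmul φ w x) = (w' * g' w) • BC.tmul g' 1 (BC.tmul φ 1 x) := by
  rw [BC.tmul_eq_smul_tmul_one φ w x, ← BC.tmul_mul_apply,
    BC.tmul_eq_smul_tmul_one g' (w' * g' w)]

/-- `y ↦ 1 ⊗ (1 ⊗ y)` -/
def iota2 (g' : B →+* B) : P →ₛₗ[g'.comp φ] BC g' (BC φ P) where
  toFun y := BC.tmul g' 1 (BC.tmul φ 1 y)
  map_add' x y := by rw [BC.tmul_add, BC.tmul_add]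
  map_smul' a y := by
    show BC.tmul g' 1 (BC.tmul φ 1 (a • y)) = g' (φ a) • BC.tmul g' 1 (BC.tmul φ 1 y)
    rw [← BC.tmul_apply_eq φ a y, BC.tmul_eq_smul_tmul_one φ (φ a) y,
      ← BC.tmul_apply_eq g' (φ a) (BC.tmul φ 1 y), BC.smul_tmul, mul_one]

/-- `b ⊗ y ↦ b ⊗ (1 ⊗ y)` -/
def Lam (g' : B →+* B) : BC (g'.comp φ) P →ₗ[B] BC g' (BC φ P) :=
  BC.lift (g'.comp φ) (iota2 φ g')

theorem Lam_tmul (g' : B →+* B) (b : B) (y : P) :
    Lam φ g' (BC.tmul (g'.comp φ) b y) = BC.tmul g' b (BC.tmul φ 1 y) := by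
  rw [Lam, BC.lift_tmul]
  show b • BC.tmul g' 1 (BC.tmul φ 1 y) = _
  rw [BC.smul_tmul, mul_one]

/-- `u ⊗ y ↦ φ u ⊗ (1 ⊗ y)` -/
def Theta (g : A →+* A) (g' : B →+* B) (e : φ.comp g = g'.comp φ) :
    BC g P →ₛₗ[φ] BC g' (BC φ P) :=
  ((Lam φ g').comp (BC.castHom e)).comp (BC.push g φ)

theorem Theta_tmul (g : A →+* A) (g' : B →+* B) (e : φ.comp g = g'.comp φ) (u : A) (y : P) :
    Theta φ g g' e (BC.tmul g u y) = BC.tmul g' (φ u) (BC.tmul φ 1 y) := by
  rw [Theta, LinearMap.comp_apply, LinearMap.comp_apply, BC.push_tmul, BC.castHom_tmul, Lam_tmul]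

/-- `X'` is the base change of `X`. -/
def BCRel (X : TwMap A P) (X' : TwMap B (BC φ P)) : Prop :=
  ∃ e : φ.comp X.g = X'.g.comp φ,
    ∀ x : P, X'.φ (BC.tmul φ 1 x) = Theta φ X.g X'.g e (X.φ x)

theorem push_Theta (gA gB : A →+* A) (gA' gB' : B →+* B) (eA : φ.comp gA = gA'.comp φ)
    (eB : φ.comp gB = gB'.comp φ) (eAB : φ.comp (gA.comp gB) = (gA'.comp gB').comp φ)
    (t : BC gB P) :
    BC.push gB' gA' (Theta φ gB gB' eB t) =
      Theta φ (gA.comp gB) (gA'.comp gB') eAB (BC.push gB gA t) := by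
  induction t using BC.induction_on gB with
  | zero => simp only [map_zero]
  | tmul a y =>
    rw [Theta_tmul, BC.push_tmul, BC.push_tmul, Theta_tmul]
    have h1 : φ (gA a) = gA' (φ a) := RingHom.congr_fun eA a
    rw [h1]
  | add z₁ z₂ h₁ h₂ => simp only [map_add, h₁, h₂]

theorem tw_Theta (gA gB : A →+* A) (gA' gB' : B →+* B) (eA : φ.comp gA = gA'.comp φ)
    (eB : φ.comp gB = gB'.comp φ) (eAB : φ.comp (gA.comp gB) = (gA'.comp gB').comp φ)
    (φB : P →ₗ[A] BC gB P) (φB' : BC φ P →ₗ[B] BC gB' (BC φ P))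
    (hB : ∀ y, φB' (BC.tmul φ 1 y) = Theta φ gB gB' eB (φB y)) (v : BC gA P) :
    tw gA' φB' (Theta φ gA gA' eA v) =
      Theta φ (gA.comp gB) (gA'.comp gB') eAB (tw gA φB v) := by
  induction v using BC.induction_on gA with
  | zero => simp only [map_zero]
  | tmul u y =>
    rw [Theta_tmul, tw_tmul, hB, push_Theta φ gA gB gA' gB' eA eB eAB, tw_tmul,
      LinearMap.map_smulₛₗ]
  | add z₁ z₂ h₁ h₂ => simp only [map_add, h₁, h₂]

theorem bcRel_comp2 {X Y : TwMap A P} {X' Y' : TwMap B (BC φ P)} (hX : BCRel φ X X')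
    (hY : BCRel φ Y Y') : BCRel φ (comp2 X Y) (comp2 X' Y') := by
  obtain ⟨eX, hX⟩ := hX
  obtain ⟨eY, hY⟩ := hY
  have eXY : φ.comp (X.g.comp Y.g) = (X'.g.comp Y'.g).comp φ := by
    ext a
    have h1 : φ (X.g (Y.g a)) = X'.g (φ (Y.g a)) := RingHom.congr_fun eX _
    have h2 : φ (Y.g a) = Y'.g (φ a) := RingHom.congr_fun eY a
    simp only [RingHom.comp_apply, h1, h2]
  refine ⟨eXY, fun x => ?_⟩
  show tw X'.g Y'.φ (X'.φ (BC.tmul φ 1 x)) =
    Theta φ (X.g.comp Y.g) (X'.g.comp Y'.g) eXY (tw X.g Y.φ (X.φ x))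
  rw [hX, tw_Theta φ X.g Y.g X'.g Y'.g eX eY eXY Y.φ Y'.φ hY]

theorem bcRel_myPow (σ : A →+* A) (σ' : B →+* B) (Vs : P →ₗ[A] BC σ P)
    (Vs' : BC φ P →ₗ[B] BC σ' (BC φ P)) (h : BCRel φ ⟨σ, Vs⟩ ⟨σ', Vs'⟩) (n : ℕ) :
    BCRel φ (myPow σ Vs n) (myPow σ' Vs' n) := by
  induction n with
  | zero => exact h
  | succ n ih =>
    show BCRel φ (comp2 ⟨σ, Vs⟩ (myPow σ Vs n)) (comp2 ⟨σ', Vs'⟩ (myPow σ' Vs' n))
    exact bcRel_comp2 φ h ih

theorem bcRel_img {X : TwMap A P} {X' : TwMap B (BC φ P)} (h : BCRel φ X X') (J : Ideal A)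
    (hJ : Img X J) : Img X' (Ideal.map φ J) := by
  obtain ⟨e, h⟩ := h
  intro z
  induction z using BC.induction_on φ with
  | zero => rw [map_zero]; exact zero_mem _
  | tmul w x =>
    rw [BC.tmul_eq_smul_tmul_one, map_smul, h]
    exact Submodule.smul_mem _ w (semilin_mem _ J _ (hJ x))
  | add z₁ z₂ h₁ h₂ => rw [map_add]; exact add_mem h₁ h₂

end BaseChange

section Witt

open W4c1extbt610

variable {p : ℕ} [Fact p.Prime] {S R : Type u} [CommRing S] [CommRing R] (f : S →+* R)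
variable {P : Type v} [AddCommGroup P] [Module (WittVector p S) P]

local notation "φf" => (WittVector.map f : WittVector p S →+* WittVector p R)
local notation "σS" => (WittVector.frobenius : WittVector p S →+* WittVector p S)
local notation "σR" => (WittVector.frobenius : WittVector p R →+* WittVector p R)
local notation "c₀" => (WittVector.constantCoeff : WittVector p R →+* R)

theorem map_comp_frobenius : (φf).comp σS = (σR).comp φf :=
  RingHom.ext fun x => (WittVector.frobenius_isPoly p).map f x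

/-- the base change of `V#` -/
def VsR (Vs : P →ₗ[WittVector p S] BC σS P) :
    BC φf P →ₗ[WittVector p R] BC σR (BC φf P) :=
  BC.lift φf ((Theta φf σS σR (map_comp_frobenius f)).comp Vs)

theorem VsR_tmul (Vs : P →ₗ[WittVector p S] BC σS P) (w : WittVector p R) (x : P) :
    VsR f Vs (BC.tmul φf w x) = w • Theta φf σS σR (map_comp_frobenius f) (Vs x) := by
  rw [VsR, BC.lift_tmul]
  rfl

theorem bcRel_base (Vs : P →ₗ[WittVector p S] BC σS P) :
    BCRel φf ⟨σS, Vs⟩ ⟨σR, VsR f Vs⟩ :=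
  ⟨map_comp_frobenius f, fun x => by
    show VsR f Vs (BC.tmul φf 1 x) = _
    rw [VsR_tmul, one_smul]⟩

theorem vsR_F (D : Display3n p S P) (DR : Display3n p R (BC φf P))
    (hDR : IsDispBaseChange f D DR) (Vs : P →ₗ[WittVector p S] BC σS P) (hVs : IsVSharp D Vs)
    (w' : WittVector p R) (z : BC φf P) :
    VsR f Vs (w' • DR.F z) = (p : WittVector p R) • BC.tmul σR w' z := by
  induction z using BC.induction_on φf with
  | zero => simp only [map_zero, smul_zero, BC.tmul_zero]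
  | tmul w x =>
    rw [hDR.F_tmul, BC.smul_tmul, VsR_tmul]
    have h1 := hVs.app_smul_F 1 x
    rw [one_smul] at h1
    rw [h1, LinearMap.map_smulₛₗ, map_natCast, Theta_tmul, map_one,
      tmul_tmul_eq φf σR w' w x, smul_comm]
  | add z₁ z₂ h₁ h₂ => rw [map_add, smul_add, map_add, h₁, h₂, BC.tmul_add, smul_add]

/-- the property to be propagated over `Q_R` -/
def TT (DR : Display3n p R (BC φf P)) (Vs : P →ₗ[WittVector p S] BC σS P) (z : BC φf P) : Prop :=
  ∃ hz : z ∈ DR.Q, ∀ w' : WittVector p R,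
    VsR f Vs (w' • DR.Vinv ⟨z, hz⟩) = BC.tmul σR w' z

theorem TT_zero (DR : Display3n p R (BC φf P)) (Vs : P →ₗ[WittVector p S] BC σS P) :
    TT f DR Vs 0 :=
  ⟨DR.Q.zero_mem, fun w' => by
    have h1 : (⟨0, DR.Q.zero_mem⟩ : DR.Q) = 0 := rfl
    rw [h1, map_zero, smul_zero, map_zero, BC.tmul_zero]⟩

theorem TT_add (DR : Display3n p R (BC φf P)) (Vs : P →ₗ[WittVector p S] BC σS P)
    (a b : BC φf P) (ha : TT f DR Vs a) (hb : TT f DR Vs b) : TT f DR Vs (a + b) := by
  obtain ⟨ha, h1⟩ := ha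
  obtain ⟨hb, h2⟩ := hb
  refine ⟨DR.Q.add_mem ha hb, fun w' => ?_⟩
  have h3 : (⟨a + b, DR.Q.add_mem ha hb⟩ : DR.Q) = ⟨a, ha⟩ + ⟨b, hb⟩ := rfl
  rw [h3, map_add, smul_add, map_add, h1, h2, BC.tmul_add]

theorem hT1 (D : Display3n p S P) (DR : Display3n p R (BC φf P))
    (hDR : IsDispBaseChange f D DR) (Vs : P →ₗ[WittVector p S] BC σS P) (hVs : IsVSharp D Vs)
    (w : WittVector p R) (q : D.Q) : TT f DR Vs (BC.tmul φf w (q : P)) := by
  have hmem : BC.tmul φf w (q : P) ∈ DR.Q := by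
    rw [hDR.Q_eq, LinearMap.mem_ker, bcQuotMap_tmul]
    have h1 : D.Q.mkQ (q : P) = 0 := by
      rw [Submodule.mkQ_apply, Submodule.Quotient.mk_eq_zero]; exact q.2
    rw [h1, BC.tmul_zero]
  refine ⟨hmem, fun w' => ?_⟩
  rw [hDR.Vinv_tmul w q hmem, BC.smul_tmul, VsR_tmul]
  have h1 := hVs.app_smul_Vinv 1 q
  rw [one_smul] at h1
  rw [h1, Theta_tmul, map_one, tmul_tmul_eq φf σR w' w (q : P)]

theorem hT2 (D : Display3n p S P) (DR : Display3n p R (BC φf P))
    (hDR : IsDispBaseChange f D DR) (Vs : P →ₗ[WittVector p S] BC σS P) (hVs : IsVSharp D Vs)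
    (w : WittVector p R) (x : P) :
    TT f DR Vs (BC.tmul φf (WittVector.verschiebung w) x) := by
  have hmem : BC.tmul φf (WittVector.verschiebung w) x ∈ DR.Q := by
    rw [hDR.Q_eq, LinearMap.mem_ker, bcQuotMap_tmul]
    have h1 : WittVector.constantCoeff (WittVector.verschiebung w) = 0 :=
      WittVector.verschiebung_coeff_zero w
    rw [h1, BC.zero_tmul]
  refine ⟨hmem, fun w' => ?_⟩
  rw [hDR.Vinv_verschiebung_tmul w x hmem, BC.smul_tmul, VsR_tmul]
  have h1 := hVs.app_smul_F 1 x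
  rw [one_smul] at h1
  rw [h1, LinearMap.map_smulₛₗ, map_natCast, Theta_tmul, map_one,
    tmul_tmul_eq φf σR w' (WittVector.verschiebung w) x, WittVector.frobenius_verschiebung,
    smul_smul, mul_assoc]

/-- the zeroth-coefficient map on `Res` -/
def resCoeff : Res φf →ₗ[WittVector p S] Res ((c₀).comp φf) where
  toFun t := Res.mk _ (WittVector.constantCoeff t.val)
  map_add' s t := by
    apply Res.ext
    simp only [Res.val_add, Res.val_mk, map_add]
  map_smul' a t := by
    apply Res.ext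
    simp only [Res.val_smul, Res.val_mk, map_mul, RingHom.id_apply, RingHom.comp_apply]

theorem resCoeff_surjective : Function.Surjective (resCoeff (p := p) f) := by
  intro r
  refine ⟨Res.mk φf (WittVector.teichmuller p r.val), ?_⟩
  apply Res.ext
  show WittVector.constantCoeff (WittVector.teichmuller p r.val) = r.val
  exact WittVector.teichmuller_coeff_zero p _

theorem bcQuotMap_eq (Q : Submodule (WittVector p S) P) (z : BC φf P) :
    bcQuotMap f Q z = TensorProduct.map (resCoeff f) Q.mkQ z := by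
  induction z using BC.induction_on φf with
  | zero =>
    rw [map_zero]
    exact (map_zero (TensorProduct.map (resCoeff f) Q.mkQ)).symm
  | tmul b x => rw [bcQuotMap_tmul]; rfl
  | add z₁ z₂ h₁ h₂ =>
    rw [map_add, h₁, h₂]
    exact (map_add (TensorProduct.map (resCoeff f) Q.mkQ) z₁ z₂).symm

theorem ker_TT (D : Display3n p S P) (DR : Display3n p R (BC φf P))
    (hDR : IsDispBaseChange f D DR) (Vs : P →ₗ[WittVector p S] BC σS P) (hVs : IsVSharp D Vs)
    (z : BC φf P) (hz : z ∈ LinearMap.ker (bcQuotMap f D.Q)) : TT f DR Vs z := by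
  have key : ∀ z : Res φf ⊗[WittVector p S] P,
      z ∈ LinearMap.ker (TensorProduct.map (resCoeff f) D.Q.mkQ) → TT f DR Vs z := by
    intro z hz'
    rw [TensorProduct.map_ker (LinearMap.exact_subtype_ker_map (resCoeff f))
      (resCoeff_surjective f) (LinearMap.exact_subtype_mkQ D.Q)
      (Submodule.mkQ_surjective D.Q)] at hz'
    obtain ⟨y, hy, y', hy', rfl⟩ := Submodule.mem_sup.mp hz'
    clear hz'
    refine TT_add f DR Vs y y' ?_ ?_
    · obtain ⟨ζ, rfl⟩ := hy
      clear hy'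
      induction ζ using TensorProduct.induction_on with
      | zero => rw [map_zero]; exact TT_zero f DR Vs
      | tmul t q =>
        rw [LinearMap.lTensor_tmul]
        exact hT1 f D DR hDR Vs hVs t.val q
      | add a b ha hb => rw [map_add]; exact TT_add f DR Vs _ _ ha hb
    · obtain ⟨ζ, rfl⟩ := hy'
      clear hy
      induction ζ using TensorProduct.induction_on with
      | zero => rw [map_zero]; exact TT_zero f DR Vs
      | tmul k x =>
        rw [LinearMap.rTensor_tmul]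
        have h0 : WittVector.constantCoeff ((k : Res φf).val) = 0 :=
          congrArg Res.val (LinearMap.mem_ker.mp k.2)
        obtain ⟨w, hw⟩ := Groth.Agent.Helper4.Witt.eq_verschiebung_of_coeff_zero _ h0
        have h1 : (((LinearMap.ker (resCoeff f)).subtype k) ⊗ₜ[WittVector p S] x : BC φf P) =
            BC.tmul φf (WittVector.verschiebung w) x := by
          rw [← hw]; rfl
        rw [h1]
        exact hT2 f D DR hDR Vs hVs w x
      | add a b ha hb => rw [map_add]; exact TT_add f DR Vs _ _ ha hb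
  apply key z
  show TensorProduct.map (resCoeff f) D.Q.mkQ z = 0
  rw [← bcQuotMap_eq]
  exact hz

theorem vsR_isVSharp (D : Display3n p S P) (DR : Display3n p R (BC φf P))
    (hDR : IsDispBaseChange f D DR) (Vs : P →ₗ[WittVector p S] BC σS P) (hVs : IsVSharp D Vs) :
    IsVSharp DR (VsR f Vs) where
  app_smul_F w z := vsR_F f D DR hDR Vs hVs w z
  app_smul_Vinv w y := by
    have hy : (y : BC φf P) ∈ LinearMap.ker (bcQuotMap f D.Q) := by
      rw [← hDR.Q_eq]; exact y.2
    obtain ⟨hz, h⟩ := ker_TT f D DR hDR Vs hVs _ hy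
    exact h w

theorem map_ideal_le :
    Ideal.map φf (IV p S ⊔ Ideal.span {(p : WittVector p S)}) ≤
      IV p R ⊔ Ideal.span {(p : WittVector p R)} := by
  rw [Ideal.map_le_iff_le_comap]
  refine sup_le ?_ ?_
  · unfold IV
    rw [Ideal.span_le]
    rintro _ ⟨w, rfl⟩
    rw [SetLike.mem_coe, Ideal.mem_comap, WittVector.map_verschiebung]
    exact Ideal.mem_sup_left (Ideal.subset_span ⟨_, rfl⟩)
  · rw [Ideal.span_singleton_le_iff_mem, Ideal.mem_comap, map_natCast]
    exact Ideal.mem_sup_right (Ideal.mem_span_singleton_self _)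

theorem vsR_nilp (Vs : P →ₗ[WittVector p S] BC σS P) (hnil : IsVNilpotent Vs) :
    IsVNilpotent (VsR f Vs) := by
  obtain ⟨n₀, hn₀⟩ := hnil
  obtain ⟨h, hb⟩ := bridge Vs n₀
  have h0 : Img (myPow σS Vs n₀) (IV p S ⊔ Ideal.span {(p : WittVector p S)}) := by
    intro x
    apply mem_of_castHom_mem h
    have h1 := hn₀ x
    rw [hb] at h1
    exact h1
  have h1 := bcRel_img φf (bcRel_myPow φf σS σR Vs (VsR f Vs) (bcRel_base f Vs) n₀) _ h0
  refine ⟨n₀, fun z => ?_⟩
  obtain ⟨h', hb'⟩ := bridge (VsR f Vs) n₀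
  rw [hb']
  exact castHom_mem h' _ _ (Submodule.smul_mono_left (map_ideal_le f) (h1 z))

theorem main_bc (D : Display3n p S P) (hD : IsDisplay D) (DR : Display3n p R (BC φf P))
    (hDR : IsDispBaseChange f D DR) : IsDisplay DR := by
  obtain ⟨Vs, hVs, hnil⟩ := hD
  exact ⟨VsR f Vs, vsR_isVSharp f D DR hDR Vs hVs, vsR_nilp f Vs hnil⟩

end Witt

end Groth.Agent.Helper8.DispPow
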