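import Mathlib
import Groth.Prelude.Def_Disp2
import Groth.Agent.Lib.Helper8.DispPow1

/-! helper8: existence and uniqueness of `V#` for a 3n-display over a ring in which `p` is
nilpotent: `I_R + pW` lies in the Jacobson radical of `W(R)`, Frobenius fixes the maximal ideals,
so `W ⊗_σ P` and `P` have the same local ranks and the linearisation of `V⁻¹ ⊕ F` is bijective. -/

set_option autoImplicit false

noncomputable section

namespace Groth.Agent.Helper8.DispPow

open Dieu TensorProduct W4c1extbt610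

universe u v

section Rank

variable {A B : Type u} [CommRing A] [CommRing B]

section Alg

variable [Algebra A B] (P : Type v) [AddCommGroup P] [Module A P]

/-- `x ↦ 1 ⊗ x` into Mathlib's base change -/
def iotaT : P →ₛₗ[algebraMap A B] B ⊗[A] P where
  toFun x := (1 : B) ⊗ₜ[A] x
  map_add' x y := TensorProduct.tmul_add _ _ _
  map_smul' a x := by
    show (1 : B) ⊗ₜ[A] (a • x) = algebraMap A B a • ((1 : B) ⊗ₜ[A] x)
    rw [TensorProduct.tmul_smul, algebraMap_smul]

def toT : BC (algebraMap A B) P →ₗ[B] B ⊗[A] P := BC.lift (algebraMap A B) (iotaT P)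

theorem toT_tmul (b : B) (x : P) : toT P (BC.tmul (algebraMap A B) b x) = b ⊗ₜ[A] x := by
  rw [toT, BC.lift_tmul]
  show b • ((1 : B) ⊗ₜ[A] x) = _
  rw [TensorProduct.smul_tmul', smul_eq_mul, mul_one]

def fromT : B ⊗[A] P →+ BC (algebraMap A B) P :=
  TensorProduct.liftAddHom
    (AddMonoidHom.mk' (fun b => AddMonoidHom.mk' (fun x => BC.tmul (algebraMap A B) b x)
      (BC.tmul_add (algebraMap A B) b))
      (by intro b c; ext x; exact BC.add_tmul (algebraMap A B) b c x))
    (by
      intro r b x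
      show BC.tmul (algebraMap A B) (r • b) x = BC.tmul (algebraMap A B) b (r • x)
      rw [Algebra.smul_def, mul_comm, BC.tmul_mul_apply])

theorem fromT_tmul (b : B) (x : P) : fromT P (b ⊗ₜ[A] x) = BC.tmul (algebraMap A B) b x := by
  rw [fromT, TensorProduct.liftAddHom_tmul]
  rfl

theorem fromT_toT (z : BC (algebraMap A B) P) : fromT P (toT P z) = z := by
  induction z using BC.induction_on (algebraMap A B) with
  | zero => rw [map_zero, map_zero]
  | tmul b x => rw [toT_tmul, fromT_tmul]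
  | add z₁ z₂ h₁ h₂ => rw [map_add, map_add, h₁, h₂]

theorem toT_fromT (t : B ⊗[A] P) : toT P (fromT P t) = t := by
  induction t using TensorProduct.induction_on with
  | zero => rw [map_zero, map_zero]
  | tmul b x => rw [fromT_tmul, toT_tmul]
  | add z₁ z₂ h₁ h₂ => rw [map_add, map_add, h₁, h₂]

def bcEquiv : BC (algebraMap A B) P ≃ₗ[B] B ⊗[A] P :=
  LinearEquiv.ofBijective (toT P)
    (Function.bijective_iff_has_inverse.mpr ⟨fromT P, fromT_toT P, toT_fromT P⟩)

theorem bc_facts_alg [Module.Finite A P] [Module.Projective A P] :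
    Module.Finite B (BC (algebraMap A B) P) ∧ Module.Projective B (BC (algebraMap A B) P) ∧
      ∀ q : PrimeSpectrum B, Module.rankAtStalk (BC (algebraMap A B) P) q =
        Module.rankAtStalk P (q.comap (algebraMap A B)) := by
  refine ⟨Module.Finite.equiv (bcEquiv P).symm, Module.Projective.of_equiv (bcEquiv P).symm,
    fun q => ?_⟩
  rw [Module.rankAtStalk_eq_of_equiv (bcEquiv P), Module.rankAtStalk_baseChange]

end Alg

theorem bc_facts (g : A →+* B) (P : Type v) [AddCommGroup P] [Module A P] [Module.Finite A P]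
    [Module.Projective A P] :
    Module.Finite B (BC g P) ∧ Module.Projective B (BC g P) ∧
      ∀ q : PrimeSpectrum B, Module.rankAtStalk (BC g P) q = Module.rankAtStalk P (q.comap g) := by
  letI : Algebra A B := g.toAlgebra
  exact bc_facts_alg P

end Rank

section Units

variable {p : ℕ} [Fact p.Prime] {R : Type u} [CommRing R]

theorem aPow_le {N₀ : ℕ} (hN₀ : (p : R) ^ N₀ = 0) (n : ℕ) :
    (IV p R ⊔ Ideal.span {(p : WittVector p R)}) ^ (2 * (N₀ * n)) ≤
      RingHom.ker (WittVector.truncate (p := p) (R := R) n) := by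
  calc (IV p R ⊔ Ideal.span {(p : WittVector p R)}) ^ (2 * (N₀ * n))
      = ((IV p R ⊔ Ideal.span {(p : WittVector p R)}) ^ 2) ^ (N₀ * n) := pow_mul _ _ _
    _ ≤ (Ideal.span {(p : WittVector p R)}) ^ (N₀ * n) :=
        Ideal.pow_right_mono (by rw [pow_two]; exact sq_le) _
    _ ≤ _ := Groth.Agent.Helper4.Witt.span_pow_le_ker_truncate hN₀ n

theorem pow_mem_ker {N₀ : ℕ} (hN₀ : (p : R) ^ N₀ = 0) (x : WittVector p R)
    (hx : x ∈ IV p R ⊔ Ideal.span {(p : WittVector p R)}) (n k : ℕ) (hk : 2 * (N₀ * n) ≤ k) :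
    x ^ k ∈ RingHom.ker (WittVector.truncate (p := p) (R := R) n) :=
  aPow_le hN₀ n (Ideal.pow_le_pow_right hk (Ideal.pow_mem_pow hx k))

theorem truncate_geom_eq {N₀ : ℕ} (hN₀ : (p : R) ^ N₀ = 0) (x : WittVector p R)
    (hx : x ∈ IV p R ⊔ Ideal.span {(p : WittVector p R)}) (m K : ℕ) (hK : 2 * (N₀ * m) ≤ K) :
    WittVector.truncate m (∑ j ∈ Finset.range K, x ^ j) =
      WittVector.truncate m (∑ j ∈ Finset.range (2 * (N₀ * m)), x ^ j) := by
  rw [← sub_eq_zero, ← map_sub, ← Finset.sum_Ico_eq_sub _ hK, ← RingHom.mem_ker]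
  exact Ideal.sum_mem _ (fun j hj => pow_mem_ker hN₀ x hx m j (Finset.mem_Ico.mp hj).1)

/-- the sum of the geometric series, defined coefficientwise -/
def geomInv (N₀ : ℕ) (x : WittVector p R) : WittVector p R :=
  WittVector.mk p (fun n => (∑ j ∈ Finset.range (2 * (N₀ * (n + 1))), x ^ j).coeff n)

theorem truncate_geomInv {N₀ : ℕ} (hN₀ : (p : R) ^ N₀ = 0) (x : WittVector p R)
    (hx : x ∈ IV p R ⊔ Ideal.span {(p : WittVector p R)}) (m K : ℕ) (hK : 2 * (N₀ * m) ≤ K) :
    WittVector.truncate m (geomInv N₀ x) =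
      WittVector.truncate m (∑ j ∈ Finset.range K, x ^ j) := by
  apply TruncatedWittVector.ext
  intro i
  rw [WittVector.coeff_truncate, WittVector.coeff_truncate, geomInv, WittVector.coeff_mk]
  have hi : (i : ℕ) + 1 ≤ m := i.2
  have hK' : 2 * (N₀ * ((i : ℕ) + 1)) ≤ K :=
    le_trans (Nat.mul_le_mul_left 2 (Nat.mul_le_mul_left N₀ hi)) hK
  have h1 := truncate_geom_eq hN₀ x hx ((i : ℕ) + 1) K hK'
  have h2 := congrArg
    (fun t => TruncatedWittVector.coeff (⟨(i : ℕ), Nat.lt_succ_self _⟩ : Fin ((i : ℕ) + 1)) t) h1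
  simp only [WittVector.coeff_truncate] at h2
  exact h2.symm

theorem isUnit_one_sub {N₀ : ℕ} (hN₀ : (p : R) ^ N₀ = 0) (x : WittVector p R)
    (hx : x ∈ IV p R ⊔ Ideal.span {(p : WittVector p R)}) : IsUnit (1 - x) := by
  refine isUnit_iff_exists_inv.mpr ⟨geomInv N₀ x, ?_⟩
  apply WittVector.ext
  intro n
  have h0 : WittVector.truncate (n + 1) (x ^ (2 * (N₀ * (n + 1)))) = 0 :=
    RingHom.mem_ker.mp (pow_mem_ker hN₀ x hx (n + 1) _ le_rfl)
  have h1 : WittVector.truncate (n + 1) ((1 - x) * geomInv N₀ x) =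
      WittVector.truncate (n + 1) (1 : WittVector p R) := by
    rw [map_mul, truncate_geomInv hN₀ x hx (n + 1) _ le_rfl, ← map_mul, mul_neg_geom_sum,
      map_sub, h0, sub_zero]
  have h2 := congrArg
    (fun t => TruncatedWittVector.coeff (⟨n, Nat.lt_succ_self n⟩ : Fin (n + 1)) t) h1
  simp only [WittVector.coeff_truncate] at h2
  exact h2

theorem a_le_maximal (hp : IsNilpotent (p : R)) (m : Ideal (WittVector p R)) [hm : m.IsMaximal] :
    IV p R ⊔ Ideal.span {(p : WittVector p R)} ≤ m := by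
  obtain ⟨N₀, hN₀⟩ := hp
  have hjac : IV p R ⊔ Ideal.span {(p : WittVector p R)} ≤ Ideal.jacobson ⊥ := by
    intro x hx
    rw [Ideal.mem_jacobson_bot]
    intro y
    have h1 : -(x * y) ∈ IV p R ⊔ Ideal.span {(p : WittVector p R)} :=
      neg_mem (Ideal.mul_mem_right y _ hx)
    have h2 := isUnit_one_sub hN₀ _ h1
    rwa [sub_neg_eq_add, add_comm] at h2
  refine hjac.trans ?_
  rw [Ideal.jacobson]
  exact sInf_le ⟨bot_le, hm⟩

theorem mem_IV_iff (a : WittVector p R) : a ∈ IV p R ↔ ∃ w, a = WittVector.verschiebung w := by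
  constructor
  · intro ha
    have h1 : IV p R ≤ RingHom.ker (WittVector.constantCoeff : WittVector p R →+* R) := by
      unfold IV
      rw [Ideal.span_le]
      rintro _ ⟨w, rfl⟩
      exact (Groth.Agent.Helper4.Witt.mem_ker_constantCoeff_iff _).mpr ⟨w, rfl⟩
    exact (Groth.Agent.Helper4.Witt.mem_ker_constantCoeff_iff a).mp (h1 ha)
  · rintro ⟨w, rfl⟩
    exact verschiebung_mem_IV p R w

theorem frobenius_sub_pow_mem (m : Ideal (WittVector p R))
    (hm : IV p R ⊔ Ideal.span {(p : WittVector p R)} ≤ m) (w : WittVector p R) :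
    WittVector.frobenius w - w ^ p ∈ m := by
  have hc : ∀ z : WittVector p R, z.coeff 0 = WittVector.constantCoeff z := fun z => rfl
  have hr : (WittVector.frobenius w).coeff 0 = w.coeff 0 ^ p +
      (p : R) * MvPolynomial.aeval w.coeff (WittVector.frobeniusPolyAux p 0) := by
    rw [WittVector.coeff_frobenius, WittVector.frobeniusPoly, map_add, map_mul, map_pow,
      MvPolynomial.aeval_X, MvPolynomial.aeval_C]
    simp
  obtain ⟨r, hr'⟩ : ∃ r, r = MvPolynomial.aeval w.coeff (WittVector.frobeniusPolyAux p 0) :=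
    ⟨_, rfl⟩
  rw [← hr'] at hr
  have hd : (WittVector.frobenius w - w ^ p -
      (p : WittVector p R) * WittVector.teichmuller p r).coeff 0 = 0 := by
    rw [hc, map_sub, map_sub, map_mul, map_pow, map_natCast, ← hc, ← hc, ← hc, hr,
      WittVector.teichmuller_coeff_zero]
    ring
  obtain ⟨y, hy⟩ := Groth.Agent.Helper4.Witt.eq_verschiebung_of_coeff_zero _ hd
  have h1 : WittVector.frobenius w - w ^ p =
      WittVector.verschiebung y + (p : WittVector p R) * WittVector.teichmuller p r := by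
    rw [← hy]; ring
  rw [h1]
  exact m.add_mem (hm (Ideal.mem_sup_left (verschiebung_mem_IV p R y)))
    (m.mul_mem_right _ (hm (Ideal.mem_sup_right (Ideal.mem_span_singleton_self _))))

theorem comap_frobenius_eq (m : Ideal (WittVector p R)) [hm : m.IsMaximal]
    (h : IV p R ⊔ Ideal.span {(p : WittVector p R)} ≤ m) :
    Ideal.comap (WittVector.frobenius : WittVector p R →+* WittVector p R) m = m := by
  ext w
  rw [Ideal.mem_comap]
  have h1 := frobenius_sub_pow_mem m h w
  have hp0 : 0 < p := (Fact.out : p.Prime).pos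
  constructor
  · intro h2
    have h3 : w ^ p ∈ m := by
      have h4 := m.sub_mem h2 h1
      rwa [sub_sub_cancel] at h4
    exact hm.isPrime.mem_of_pow_mem _ h3
  · intro h2
    have h3 : w ^ p ∈ m := m.pow_mem_of_mem h2 p hp0
    have h4 := m.add_mem h1 h3
    rwa [sub_add_cancel] at h4

end Units

section Exist

variable {p : ℕ} [Fact p.Prime] {R : Type u} [CommRing R]
variable {P : Type v} [AddCommGroup P] [Module (WittVector p R) P]

local notation "σR" => (WittVector.frobenius : WittVector p R →+* WittVector p R)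

/-- `V⁻¹ ∘ pr_L + F ∘ pr_T` -/
def gMap (D : Display3n p R P) (L T : Submodule (WittVector p R) P) (hLT : IsCompl L T)
    (hLQ : L ≤ D.Q) : P →ₛₗ[σR] P :=
  D.Vinv.comp ((Submodule.inclusion hLQ).comp (L.projectionOnto T hLT)) +
    D.F.comp (T.projection L hLT.symm)

theorem gMap_L (D : Display3n p R P) (L T : Submodule (WittVector p R) P) (hLT : IsCompl L T)
    (hLQ : L ≤ D.Q) (l : P) (hl : l ∈ L) : gMap D L T hLT hLQ l = D.Vinv ⟨l, hLQ hl⟩ := by
  show D.Vinv (Submodule.inclusion hLQ (L.projectionOnto T hLT l)) +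
    D.F (T.projection L hLT.symm l) = _
  rw [show L.projectionOnto T hLT l = ⟨l, hl⟩ from Submodule.projectionOnto_apply_left hLT ⟨l, hl⟩,
    show T.projection L hLT.symm l = 0 from Submodule.projection_apply_right hLT.symm ⟨l, hl⟩,
    map_zero, add_zero]
  rfl

theorem gMap_T (D : Display3n p R P) (L T : Submodule (WittVector p R) P) (hLT : IsCompl L T)
    (hLQ : L ≤ D.Q) (t : P) (ht : t ∈ T) : gMap D L T hLT hLQ t = D.F t := by
  show D.Vinv (Submodule.inclusion hLQ (L.projectionOnto T hLT t)) +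
    D.F (T.projection L hLT.symm t) = _
  rw [show L.projectionOnto T hLT t = 0 from Submodule.projectionOnto_apply_right hLT ⟨t, ht⟩,
    show T.projection L hLT.symm t = t from Submodule.projection_apply_left hLT.symm ⟨t, ht⟩,
    map_zero, map_zero, zero_add]

/-- `pr_L + p • pr_T` -/
def thetaMap (L T : Submodule (WittVector p R) P) (hLT : IsCompl L T) :
    P →ₗ[WittVector p R] P :=
  L.projection T hLT + (p : WittVector p R) • T.projection L hLT.symm

theorem thetaMap_L (L T : Submodule (WittVector p R) P) (hLT : IsCompl L T) (l : P)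
    (hl : l ∈ L) : thetaMap L T hLT l = l := by
  show L.projection T hLT l + (p : WittVector p R) • T.projection L hLT.symm l = l
  rw [show L.projection T hLT l = l from Submodule.projection_apply_left hLT ⟨l, hl⟩,
    show T.projection L hLT.symm l = 0 from Submodule.projection_apply_right hLT.symm ⟨l, hl⟩,
    smul_zero, add_zero]

theorem thetaMap_T (L T : Submodule (WittVector p R) P) (hLT : IsCompl L T) (t : P)
    (ht : t ∈ T) : thetaMap L T hLT t = (p : WittVector p R) • t := by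
  show L.projection T hLT t + (p : WittVector p R) • T.projection L hLT.symm t = _
  rw [show L.projection T hLT t = 0 from Submodule.projection_apply_right hLT ⟨t, ht⟩,
    show T.projection L hLT.symm t = t from Submodule.projection_apply_left hLT.symm ⟨t, ht⟩,
    zero_add]

/-- the property propagated over `Q` -/
def RR (D : Display3n p R P) (L T : Submodule (WittVector p R) P) (hLT : IsCompl L T)
    (hLQ : L ≤ D.Q) (q : P) : Prop :=
  ∃ hq : q ∈ D.Q, ∃ z : BC σR P, BC.lift σR (gMap D L T hLT hLQ) z = D.Vinv ⟨q, hq⟩ ∧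
    BC.map σR (thetaMap L T hLT) z = BC.tmul σR 1 q

theorem RR_add (D : Display3n p R P) (L T : Submodule (WittVector p R) P) (hLT : IsCompl L T)
    (hLQ : L ≤ D.Q) (a b : P) (ha : RR D L T hLT hLQ a) (hb : RR D L T hLT hLQ b) :
    RR D L T hLT hLQ (a + b) := by
  obtain ⟨ha, z₁, h1, h1'⟩ := ha
  obtain ⟨hb, z₂, h2, h2'⟩ := hb
  refine ⟨D.Q.add_mem ha hb, z₁ + z₂, ?_, ?_⟩
  · have h3 : (⟨a + b, D.Q.add_mem ha hb⟩ : D.Q) = ⟨a, ha⟩ + ⟨b, hb⟩ := rfl
    rw [map_add, h1, h2, h3, map_add]
  · rw [map_add, h1', h2', BC.tmul_add]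

theorem RR_L (D : Display3n p R P) (L T : Submodule (WittVector p R) P) (hLT : IsCompl L T)
    (hLQ : L ≤ D.Q) (l : P) (hl : l ∈ L) : RR D L T hLT hLQ l := by
  refine ⟨hLQ hl, BC.tmul σR 1 l, ?_, ?_⟩
  · rw [BC.lift_tmul, one_smul, gMap_L D L T hLT hLQ l hl]
  · rw [BC.map_tmul, thetaMap_L L T hLT l hl]

theorem RR_VT (D : Display3n p R P) (L T : Submodule (WittVector p R) P) (hLT : IsCompl L T)
    (hLQ : L ≤ D.Q) (w : WittVector p R) (t : P) (ht : t ∈ T) :
    RR D L T hLT hLQ (WittVector.verschiebung w • t) := by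
  refine ⟨D.IV_smul_le (Submodule.smul_mem_smul (verschiebung_mem_IV p R w) Submodule.mem_top),
    BC.tmul σR w t, ?_, ?_⟩
  · rw [BC.lift_tmul, gMap_T D L T hLT hLQ t ht]
    exact (D.Vinv_verschiebung_smul w t).symm
  · rw [BC.map_tmul, thetaMap_T L T hLT t ht, ← BC.tmul_mul_apply, ← BC.tmul_mul_apply,
      map_natCast, WittVector.frobenius_verschiebung, one_mul]

theorem RR_all (D : Display3n p R P) (L T : Submodule (WittVector p R) P) (hLT : IsCompl L T)
    (hQ : D.Q = L ⊔ IV p R • T) (hLQ : L ≤ D.Q) (q : P) (hq : q ∈ D.Q) :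
    RR D L T hLT hLQ q := by
  rw [hQ] at hq
  obtain ⟨l, hl, s, hs, rfl⟩ := Submodule.mem_sup.mp hq
  refine RR_add D L T hLT hLQ l s (RR_L D L T hLT hLQ l hl) ?_
  refine Submodule.smul_induction_on hs ?_ ?_
  · intro a ha t ht
    obtain ⟨w, rfl⟩ := (mem_IV_iff a).mp ha
    exact RR_VT D L T hLT hLQ w t ht
  · intro a b ha hb
    exact RR_add D L T hLT hLQ a b ha hb

theorem phi_surjective (D : Display3n p R P) (L T : Submodule (WittVector p R) P)
    (hLT : IsCompl L T) (hQ : D.Q = L ⊔ IV p R • T) (hLQ : L ≤ D.Q) :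
    Function.Surjective (BC.lift σR (gMap D L T hLT hLQ)) := by
  rw [← LinearMap.range_eq_top, eq_top_iff, ← D.span_range_Vinv, Submodule.span_le]
  rintro _ ⟨q, rfl⟩
  obtain ⟨_, z, hz, -⟩ := RR_all D L T hLT hQ hLQ q.1 q.2
  exact ⟨z, hz⟩

theorem bijective_of_rank (hp : IsNilpotent (p : R)) [hPf : Module.Finite (WittVector p R) P]
    [hPp : Module.Projective (WittVector p R) P]
    (Φ : BC σR P →ₗ[WittVector p R] P) (hΦ : Function.Surjective Φ) : Function.Bijective Φ := by
  obtain ⟨hfin, hproj, hrank⟩ := bc_facts σR P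
  have hflat : Module.Flat (WittVector p R) (BC σR P) := @Module.Flat.of_projective _ _ _ _ _ hproj
  have hflatP : Module.Flat (WittVector p R) P := @Module.Flat.of_projective _ _ _ _ _ hPp
  have hmain : ∀ (m : Ideal (WittVector p R)) [m.IsMaximal],
      Module.rankAtStalk (BC σR P) ⟨m, inferInstance⟩ = Module.rankAtStalk P ⟨m, inferInstance⟩ := by
    intro m hm
    have h1 := hrank ⟨m, hm.isPrime⟩
    have h2 : PrimeSpectrum.comap σR ⟨m, hm.isPrime⟩ = ⟨m, hm.isPrime⟩ :=
      PrimeSpectrum.ext (comap_frobenius_eq m (a_le_maximal hp m))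
    rw [h2] at h1
    exact h1
  exact @Module.bijective_of_surjective_of_rankAtStalk_eq (WittVector p R) _ (BC σR P) P _ _
    hfin hflat _ _ hPf hflatP Φ hΦ hmain

/-- the candidate `V#` -/
def vsOf (D : Display3n p R P) (L T : Submodule (WittVector p R) P) (hLT : IsCompl L T)
    (hLQ : L ≤ D.Q) (hbij : Function.Bijective (BC.lift σR (gMap D L T hLT hLQ))) :
    P →ₗ[WittVector p R] BC σR P :=
  (BC.map σR (thetaMap L T hLT)).comp
    (LinearEquiv.ofBijective (BC.lift σR (gMap D L T hLT hLQ)) hbij).symm.toLinearMap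

theorem vsOf_Vinv (D : Display3n p R P) (L T : Submodule (WittVector p R) P) (hLT : IsCompl L T)
    (hQ : D.Q = L ⊔ IV p R • T) (hLQ : L ≤ D.Q)
    (hbij : Function.Bijective (BC.lift σR (gMap D L T hLT hLQ))) (y : D.Q) :
    vsOf D L T hLT hLQ hbij (D.Vinv y) = BC.tmul σR 1 (y : P) := by
  obtain ⟨_, z, hz, hΘ⟩ := RR_all D L T hLT hQ hLQ y.1 y.2
  have h1 : (LinearEquiv.ofBijective (BC.lift σR (gMap D L T hLT hLQ)) hbij).symm (D.Vinv y)
      = z := by
    rw [LinearEquiv.symm_apply_eq, LinearEquiv.ofBijective_apply]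
    exact hz.symm
  show (BC.map σR (thetaMap L T hLT))
    ((LinearEquiv.ofBijective (BC.lift σR (gMap D L T hLT hLQ)) hbij).symm (D.Vinv y)) = _
  rw [h1, hΘ]

theorem vsOf_isVSharp (D : Display3n p R P) (L T : Submodule (WittVector p R) P)
    (hLT : IsCompl L T) (hQ : D.Q = L ⊔ IV p R • T) (hLQ : L ≤ D.Q)
    (hbij : Function.Bijective (BC.lift σR (gMap D L T hLT hLQ))) :
    IsVSharp D (vsOf D L T hLT hLQ hbij) where
  app_smul_F w x := by
    have hF : D.F x = D.Vinv ⟨WittVector.verschiebung (1 : WittVector p R) • x,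
        D.IV_smul_le (Submodule.smul_mem_smul (verschiebung_mem_IV p R 1)
          Submodule.mem_top)⟩ := by
      rw [D.Vinv_verschiebung_smul, one_smul]
    rw [map_smul, hF, vsOf_Vinv D L T hLT hQ hLQ hbij]
    show w • BC.tmul σR 1 (WittVector.verschiebung (1 : WittVector p R) • x) = _
    rw [← BC.tmul_mul_apply, WittVector.frobenius_verschiebung, one_mul, one_mul, BC.smul_tmul,
      BC.smul_tmul, mul_comm]
  app_smul_Vinv w y := by
    rw [map_smul, vsOf_Vinv D L T hLT hQ hLQ hbij, BC.smul_tmul, mul_one]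

theorem exists_vSharp (hp : IsNilpotent (p : R)) (D : Display3n p R P) :
    ∃ Vs : P →ₗ[WittVector p R] BC σR P, IsVSharp D Vs := by
  obtain ⟨L, T, hLT, hQ⟩ := D.exists_normal
  have hLQ : L ≤ D.Q := by rw [hQ]; exact le_sup_left
  have := D.finite
  have := D.projective
  have hbij := bijective_of_rank hp _ (phi_surjective D L T hLT hQ hLQ)
  exact ⟨vsOf D L T hLT hLQ hbij, vsOf_isVSharp D L T hLT hQ hLQ hbij⟩

theorem existsUnique_vSharp (hp : IsNilpotent (p : R)) (D : Display3n p R P) :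
    ∃! Vs : P →ₗ[WittVector p R] BC σR P, IsVSharp D Vs := by
  obtain ⟨Vs, hVs⟩ := exists_vSharp hp D
  refine ⟨Vs, hVs, fun Vs' hVs' => ?_⟩
  apply LinearMap.ext_on D.span_range_Vinv
  rintro _ ⟨y, rfl⟩
  have h1 := hVs.app_smul_Vinv 1 y
  have h2 := hVs'.app_smul_Vinv 1 y
  rw [one_smul] at h1 h2
  rw [h1, h2]

end Exist

end Groth.Agent.Helper8.DispPow
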