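import Mathlib
import Groth.Prelude.Def_Disp2
import Groth.Agent.Lib.Helper8.DispBC1
import Groth.Agent.Lib.Helper8.DispVS1
import Groth.Agent.Lib.Helper9.AdicProj

/-! helper8: existence and uniqueness of the base change of a 3n-display along a ring map. -/

set_option autoImplicit false

noncomputable section

namespace Groth.Agent.Helper8.DispPow

open Dieu TensorProduct W4c1extbt610
open Groth.Agent.Helper9.AdicLim9 (mem_smul_top_pi map_mem_smul_top')

universe u v

section Div

variable {p : ℕ} [Fact p.Prime] {R : Type u} [CommRing R]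
variable {M : Type v} [AddCommGroup M] [Module (WittVector p R) M]

local notation "σR" => (WittVector.frobenius : WittVector p R →+* WittVector p R)

/-- inverse of `V` on its image -/
def unV (x : WittVector p R) : WittVector p R := WittVector.mk p (fun n => x.coeff (n + 1))

theorem unV_verschiebung (w : WittVector p R) : unV (WittVector.verschiebung w) = w := by
  ext n
  show (WittVector.mk p fun n => (WittVector.verschiebung w).coeff (n + 1)).coeff n = w.coeff n
  rw [WittVector.coeff_mk]
  exact WittVector.verschiebung_coeff_succ w n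

/-- standard basis vector -/
def stdE {r : ℕ} (j : Fin r) : Fin r → WittVector p R := fun j' => if j = j' then 1 else 0

/-- the division-by-`V` map, in coordinates -/
def divFun (Fm : M →ₛₗ[σR] M) {r : ℕ}
    (ι : M →ₗ[WittVector p R] (Fin r → WittVector p R))
    (ρ : (Fin r → WittVector p R) →ₗ[WittVector p R] M) (y : M) : M :=
  ∑ j, unV (ι y j) • Fm (ρ (stdE j))

theorem coord_mem (r : ℕ) (ι : M →ₗ[WittVector p R] (Fin r → WittVector p R))
    (y : M) (hy : y ∈ IV p R • (⊤ : Submodule (WittVector p R) M)) (j : Fin r) :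
    ι y j ∈ IV p R :=
  (mem_smul_top_pi _ _).mp (map_mem_smul_top' _ ι hy) j

/-- the division-by-`V` map on `I_R • M` -/
def divMap (Fm : M →ₛₗ[σR] M) {r : ℕ}
    (ι : M →ₗ[WittVector p R] (Fin r → WittVector p R))
    (ρ : (Fin r → WittVector p R) →ₗ[WittVector p R] M) :
    (IV p R • (⊤ : Submodule (WittVector p R) M) : Submodule (WittVector p R) M) →ₛₗ[σR] M where
  toFun y := divFun Fm ι ρ y.1
  map_add' y y' := by
    show ∑ j, unV (ι (y.1 + y'.1) j) • Fm (ρ (stdE j)) =
      ∑ j, unV (ι y.1 j) • Fm (ρ (stdE j)) + ∑ j, unV (ι y'.1 j) • Fm (ρ (stdE j))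
    rw [← Finset.sum_add_distrib]
    refine Finset.sum_congr rfl fun j _ => ?_
    rw [← add_smul]
    congr 1
    obtain ⟨a, ha⟩ := (mem_IV_iff _).mp (coord_mem r ι y.1 y.2 j)
    obtain ⟨b, hb⟩ := (mem_IV_iff _).mp (coord_mem r ι y'.1 y'.2 j)
    rw [map_add, Pi.add_apply, ha, hb, ← map_add, unV_verschiebung, unV_verschiebung,
      unV_verschiebung]
  map_smul' c y := by
    show ∑ j, unV (ι (c • y.1) j) • Fm (ρ (stdE j)) =
      σR c • ∑ j, unV (ι y.1 j) • Fm (ρ (stdE j))
    rw [Finset.smul_sum]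
    refine Finset.sum_congr rfl fun j _ => ?_
    rw [smul_smul]
    congr 1
    obtain ⟨a, ha⟩ := (mem_IV_iff _).mp (coord_mem r ι y.1 y.2 j)
    rw [map_smul, Pi.smul_apply, smul_eq_mul, ha, mul_comm c,
      ← WittVector.verschiebung_mul_frobenius, unV_verschiebung, unV_verschiebung, mul_comm]

theorem divMap_apply (Fm : M →ₛₗ[σR] M) {r : ℕ}
    (ι : M →ₗ[WittVector p R] (Fin r → WittVector p R))
    (ρ : (Fin r → WittVector p R) →ₗ[WittVector p R] M)
    (y : (IV p R • (⊤ : Submodule (WittVector p R) M) : Submodule (WittVector p R) M)) :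
    divMap Fm ι ρ y = ∑ j, unV (ι y.1 j) • Fm (ρ (stdE j)) := rfl

theorem divMap_verschiebung_smul (Fm : M →ₛₗ[σR] M) {r : ℕ}
    (ι : M →ₗ[WittVector p R] (Fin r → WittVector p R))
    (ρ : (Fin r → WittVector p R) →ₗ[WittVector p R] M) (hρι : ∀ m, ρ (ι m) = m)
    (w : WittVector p R) (m : M)
    (h : WittVector.verschiebung w • m ∈ IV p R • (⊤ : Submodule (WittVector p R) M)) :
    divMap Fm ι ρ ⟨WittVector.verschiebung w • m, h⟩ = w • Fm m := by
  rw [divMap_apply]
  have h1 : ∀ j, unV (ι (WittVector.verschiebung w • m) j) = w * σR (ι m j) := by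
    intro j
    rw [map_smul, Pi.smul_apply, smul_eq_mul, ← WittVector.verschiebung_mul_frobenius,
      unV_verschiebung]
  have h2 : Fm m = ∑ j, σR (ι m j) • Fm (ρ (stdE j)) := by
    conv_lhs => rw [← hρι m]
    rw [LinearMap.pi_apply_eq_sum_univ ρ (ι m), map_sum]
    exact Finset.sum_congr rfl fun j _ => LinearMap.map_smulₛₗ _ _ _
  rw [h2, Finset.smul_sum]
  refine Finset.sum_congr rfl fun j _ => ?_
  show unV (ι (WittVector.verschiebung w • m) j) • Fm (ρ (stdE j)) = _
  rw [h1 j, smul_smul]

end Div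

section BC1

variable {p : ℕ} [Fact p.Prime] {S R : Type u} [CommRing S] [CommRing R] (f : S →+* R)
variable {P : Type v} [AddCommGroup P] [Module (WittVector p S) P]

local notation "φf" => (WittVector.map f : WittVector p S →+* WittVector p R)
local notation "σS" => (WittVector.frobenius : WittVector p S →+* WittVector p S)
local notation "σR" => (WittVector.frobenius : WittVector p R →+* WittVector p R)
local notation "c₀" => (WittVector.constantCoeff : WittVector p R →+* R)

/-- `x ↦ 1 ⊗ g x` -/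
def iotaG (g : P →ₛₗ[σS] P) : P →ₛₗ[(σR).comp φf] BC φf P where
  toFun x := BC.tmul φf 1 (g x)
  map_add' x y := by rw [map_add, BC.tmul_add]
  map_smul' a x := by
    show BC.tmul φf 1 (g (a • x)) = σR (φf a) • BC.tmul φf 1 (g x)
    rw [LinearMap.map_smulₛₗ, ← BC.tmul_apply_eq, BC.smul_tmul, mul_one]
    congr 1
    exact RingHom.congr_fun (map_comp_frobenius f) a

/-- base change of a Frobenius-semilinear endomorphism: `w ⊗ x ↦ σ w ⊗ g x` -/
def bcSemi (g : P →ₛₗ[σS] P) : BC φf P →ₛₗ[σR] BC φf P :=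
  (BC.lift ((σR).comp φf) (iotaG f g)).comp (BC.push φf σR)

theorem bcSemi_tmul (g : P →ₛₗ[σS] P) (w : WittVector p R) (x : P) :
    bcSemi f g (BC.tmul φf w x) = BC.tmul φf (σR w) (g x) := by
  rw [bcSemi, LinearMap.comp_apply, BC.push_tmul, BC.lift_tmul]
  show σR w • BC.tmul φf 1 (g x) = _
  rw [BC.smul_tmul, mul_one]

theorem ker_induction (Q : Submodule (WittVector p S) P) (C : BC φf P → Prop)
    (h0 : C 0) (hadd : ∀ a b, C a → C b → C (a + b))
    (h1 : ∀ (w : WittVector p R) (q : P), q ∈ Q → C (BC.tmul φf w q))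
    (h2 : ∀ (w : WittVector p R) (x : P), C (BC.tmul φf (WittVector.verschiebung w) x))
    (z : BC φf P) (hz : z ∈ LinearMap.ker (bcQuotMap f Q)) : C z := by
  have key : ∀ z : Res φf ⊗[WittVector p S] P,
      z ∈ LinearMap.ker (TensorProduct.map (resCoeff f) Q.mkQ) → C z := by
    intro z hz'
    rw [TensorProduct.map_ker (LinearMap.exact_subtype_ker_map (resCoeff f))
      (resCoeff_surjective f) (LinearMap.exact_subtype_mkQ Q)
      (Submodule.mkQ_surjective Q)] at hz'
    obtain ⟨y, hy, y', hy', rfl⟩ := Submodule.mem_sup.mp hz'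
    clear hz'
    refine hadd y y' ?_ ?_
    · obtain ⟨ζ, rfl⟩ := hy
      clear hy'
      induction ζ using TensorProduct.induction_on with
      | zero => rw [map_zero]; exact h0
      | tmul t q =>
        rw [LinearMap.lTensor_tmul]
        exact h1 t.val q q.2
      | add a b ha hb => rw [map_add]; exact hadd _ _ ha hb
    · obtain ⟨ζ, rfl⟩ := hy'
      clear hy
      induction ζ using TensorProduct.induction_on with
      | zero => rw [map_zero]; exact h0
      | tmul k x =>
        rw [LinearMap.rTensor_tmul]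
        have hk0 : WittVector.constantCoeff ((k : Res φf).val) = 0 :=
          congrArg Res.val (LinearMap.mem_ker.mp k.2)
        obtain ⟨w, hw⟩ := Groth.Agent.Helper4.Witt.eq_verschiebung_of_coeff_zero _ hk0
        have h3 : (((LinearMap.ker (resCoeff f)).subtype k) ⊗ₜ[WittVector p S] x : BC φf P) =
            BC.tmul φf (WittVector.verschiebung w) x := by
          rw [← hw]; rfl
        rw [h3]
        exact h2 w x
      | add a b ha hb => rw [map_add]; exact hadd _ _ ha hb
  apply key z
  show TensorProduct.map (resCoeff f) Q.mkQ z = 0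
  rw [← bcQuotMap_eq]
  exact hz

theorem tmul_mem_ker (Q : Submodule (WittVector p S) P) (w : WittVector p R) (q : P)
    (hq : q ∈ Q) : BC.tmul φf w q ∈ LinearMap.ker (bcQuotMap f Q) := by
  rw [LinearMap.mem_ker, bcQuotMap_tmul]
  have h1 : Q.mkQ q = 0 := by
    rw [Submodule.mkQ_apply, Submodule.Quotient.mk_eq_zero]; exact hq
  rw [h1, BC.tmul_zero]

theorem vtmul_mem_ker (Q : Submodule (WittVector p S) P) (w : WittVector p R) (x : P) :
    BC.tmul φf (WittVector.verschiebung w) x ∈ LinearMap.ker (bcQuotMap f Q) := by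
  rw [LinearMap.mem_ker, bcQuotMap_tmul]
  have h1 : WittVector.constantCoeff (WittVector.verschiebung w) = 0 :=
    WittVector.verschiebung_coeff_zero w
  rw [h1, BC.zero_tmul]

theorem IV_smul_le_ker (Q : Submodule (WittVector p S) P) :
    IV p R • (⊤ : Submodule (WittVector p R) (BC φf P)) ≤ LinearMap.ker (bcQuotMap f Q) := by
  rw [Submodule.smul_le]
  intro a ha z _
  obtain ⟨w, rfl⟩ := (mem_IV_iff a).mp ha
  rw [LinearMap.mem_ker, LinearMap.map_smulₛₗ]
  have h1 : WittVector.constantCoeff (WittVector.verschiebung w) = 0 :=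
    WittVector.verschiebung_coeff_zero w
  rw [h1, zero_smul]

theorem map_IV_le : Ideal.map φf (IV p S) ≤ IV p R := by
  rw [Ideal.map_le_iff_le_comap]
  intro a ha
  obtain ⟨w, rfl⟩ := (mem_IV_iff a).mp ha
  rw [Ideal.mem_comap, WittVector.map_verschiebung]
  exact verschiebung_mem_IV p R _

theorem tmul_mem_IV (w : WittVector p R) (s : P)
    (hs : s ∈ IV p S • (⊤ : Submodule (WittVector p S) P)) :
    BC.tmul φf w s ∈ IV p R • (⊤ : Submodule (WittVector p R) (BC φf P)) := by
  rw [BC.tmul_eq_smul_tmul_one]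
  refine Submodule.smul_mem _ w ?_
  have h1 := semilin_mem (BC.ι φf P) (IV p S) s hs
  exact Submodule.smul_mono_left (map_IV_le f) h1

/-- `F q = p • V⁻¹ q` for `q ∈ Q`. -/
theorem F_eq_p_smul_Vinv (D : Display3n p S P) (q : P) (hq : q ∈ D.Q) :
    D.F q = (p : WittVector p S) • D.Vinv ⟨q, hq⟩ := by
  have h1 := D.Vinv_verschiebung_smul 1 q
  rw [one_smul] at h1
  rw [← h1]
  have h2 : (⟨WittVector.verschiebung (1 : WittVector p S) • q,
      D.IV_smul_le (Submodule.smul_mem_smul (verschiebung_mem_IV p S 1) Submodule.mem_top)⟩ : D.Q)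
      = WittVector.verschiebung (1 : WittVector p S) • (⟨q, hq⟩ : D.Q) := rfl
  rw [h2, LinearMap.map_smulₛₗ, WittVector.frobenius_verschiebung, one_mul]

end BC1

end Groth.Agent.Helper8.DispPow
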