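import Mathlib
import Groth.Agent.Lib.Helper8.DispBCX1

/-! helper8: construction of the base change of a 3n-display, and its uniqueness. -/

set_option autoImplicit false

noncomputable section

namespace Groth.Agent.Helper8.DispPow

open Dieu TensorProduct W4c1extbt610
open Groth.Agent.Helper9.AdicLim9 (mem_smul_top_pi map_mem_smul_top')

universe u v

section Constr

variable {p : ℕ} [Fact p.Prime] {S R : Type u} [CommRing S] [CommRing R] (f : S →+* R)
variable {P : Type v} [AddCommGroup P] [Module (WittVector p S) P]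

local notation "φf" => (WittVector.map f : WittVector p S →+* WittVector p R)
local notation "σS" => (WittVector.frobenius : WittVector p S →+* WittVector p S)
local notation "σR" => (WittVector.frobenius : WittVector p R →+* WittVector p R)

variable (D : Display3n p S P) (L T : Submodule (WittVector p S) P) (hLT : IsCompl L T)

/-- base change of the projection onto `L` -/
def PLr : BC φf P →ₗ[WittVector p R] BC φf P := BC.map φf (L.projection T hLT)

/-- base change of the projection onto `T` -/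
def PTr : BC φf P →ₗ[WittVector p R] BC φf P := BC.map φf (T.projection L hLT.symm)

theorem PLr_tmul (w : WittVector p R) (x : P) :
    PLr f L T hLT (BC.tmul φf w x) = BC.tmul φf w (L.projection T hLT x) :=
  BC.map_tmul _ _ _ _

theorem PTr_tmul (w : WittVector p R) (x : P) :
    PTr f L T hLT (BC.tmul φf w x) = BC.tmul φf w (T.projection L hLT.symm x) :=
  BC.map_tmul _ _ _ _

theorem PLr_add_PTr (z : BC φf P) : PLr f L T hLT z + PTr f L T hLT z = z := by
  induction z using BC.induction_on φf with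
  | zero => simp only [map_zero, add_zero]
  | tmul w x =>
    rw [PLr_tmul, PTr_tmul, ← BC.tmul_add, Submodule.projection_add_projection_eq_self]
  | add a b ha hb => rw [map_add, map_add, add_add_add_comm, ha, hb]

theorem PTr_PTr (z : BC φf P) : PTr f L T hLT (PTr f L T hLT z) = PTr f L T hLT z := by
  induction z using BC.induction_on φf with
  | zero => simp only [map_zero]
  | tmul w x =>
    have h0 : T.projection L hLT.symm (T.projection L hLT.symm x) = T.projection L hLT.symm x :=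
      Submodule.projection_apply_left hLT.symm ⟨_, Submodule.projection_apply_mem hLT.symm x⟩
    rw [PTr_tmul, PTr_tmul, h0]
  | add a b ha hb => rw [map_add, map_add, ha, hb]

theorem PLr_PLr (z : BC φf P) : PLr f L T hLT (PLr f L T hLT z) = PLr f L T hLT z := by
  induction z using BC.induction_on φf with
  | zero => simp only [map_zero]
  | tmul w x =>
    have h0 : L.projection T hLT (L.projection T hLT x) = L.projection T hLT x :=
      Submodule.projection_apply_left hLT ⟨_, Submodule.projection_apply_mem hLT x⟩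
    rw [PLr_tmul, PLr_tmul, h0]
  | add a b ha hb => rw [map_add, map_add, ha, hb]

theorem PLr_PTr (z : BC φf P) : PLr f L T hLT (PTr f L T hLT z) = 0 := by
  induction z using BC.induction_on φf with
  | zero => simp only [map_zero]
  | tmul w x =>
    have h0 : L.projection T hLT (T.projection L hLT.symm x) = 0 :=
      Submodule.projection_apply_right hLT ⟨_, Submodule.projection_apply_mem hLT.symm x⟩
    rw [PTr_tmul, PLr_tmul, h0, BC.tmul_zero]
  | add a b ha hb => rw [map_add, map_add, ha, hb, add_zero]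

theorem projT_mem (hQ : D.Q = L ⊔ IV p S • T) (y : P) (hy : y ∈ D.Q) :
    T.projection L hLT.symm y ∈ IV p S • (⊤ : Submodule (WittVector p S) P) := by
  rw [hQ] at hy
  obtain ⟨l, hl, s, hs, rfl⟩ := Submodule.mem_sup.mp hy
  have hsT : s ∈ T := Submodule.smul_le_right hs
  have h1 : T.projection L hLT.symm l = 0 := Submodule.projection_apply_right hLT.symm ⟨l, hl⟩
  have h2 : T.projection L hLT.symm s = s := Submodule.projection_apply_left hLT.symm ⟨s, hsT⟩
  rw [map_add, h1, h2, zero_add]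
  exact Submodule.smul_mono le_rfl le_top hs

theorem PTr_mem (hQ : D.Q = L ⊔ IV p S • T) (z : BC φf P)
    (hz : z ∈ LinearMap.ker (bcQuotMap f D.Q)) :
    PTr f L T hLT z ∈ IV p R • (⊤ : Submodule (WittVector p R) (BC φf P)) := by
  refine ker_induction f D.Q
    (fun z => PTr f L T hLT z ∈ IV p R • (⊤ : Submodule (WittVector p R) (BC φf P)))
    ?_ ?_ ?_ ?_ z hz
  · show PTr f L T hLT 0 ∈ _
    rw [map_zero]; exact Submodule.zero_mem _
  · intro a b ha hb
    show PTr f L T hLT (a + b) ∈ _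
    rw [map_add]; exact Submodule.add_mem _ ha hb
  · intro w q hq
    show PTr f L T hLT (BC.tmul φf w q) ∈ _
    rw [PTr_tmul]
    exact tmul_mem_IV f w _ (projT_mem D L T hLT hQ q hq)
  · intro w x
    show PTr f L T hLT (BC.tmul φf (WittVector.verschiebung w) x) ∈ _
    rw [PTr_tmul, BC.tmul_eq_smul_tmul_one]
    exact Submodule.smul_mem_smul (verschiebung_mem_IV p R w) Submodule.mem_top

variable (hQ : D.Q = L ⊔ IV p S • T) (hLQ : L ≤ D.Q) {r : ℕ}
  (ι : BC (WittVector.map f : WittVector p S →+* WittVector p R) P →ₗ[WittVector p R]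
    (Fin r → WittVector p R))
  (ρ : (Fin r → WittVector p R) →ₗ[WittVector p R]
    BC (WittVector.map f : WittVector p S →+* WittVector p R) P)

/-- the operator `V_R⁻¹` -/
def VinvR :
    (LinearMap.ker (bcQuotMap f D.Q) : Submodule (WittVector p R) (BC φf P)) →ₛₗ[σR] BC φf P :=
  (bcSemi f (gMap D L T hLT hLQ)).comp ((PLr f L T hLT).comp (Submodule.subtype _)) +
    (divMap (bcSemi f D.F) ι ρ).comp
      (LinearMap.codRestrict (IV p R • (⊤ : Submodule (WittVector p R) (BC φf P)))
        ((PTr f L T hLT).comp (Submodule.subtype _)) (fun z => PTr_mem f D L T hLT hQ z.1 z.2))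

theorem VinvR_apply (z : BC φf P) (hz : z ∈ LinearMap.ker (bcQuotMap f D.Q)) :
    VinvR f D L T hLT hQ hLQ ι ρ ⟨z, hz⟩ =
      bcSemi f (gMap D L T hLT hLQ) (PLr f L T hLT z) +
        divMap (bcSemi f D.F) ι ρ ⟨PTr f L T hLT z, PTr_mem f D L T hLT hQ z hz⟩ := rfl

theorem p_smul_Phi_PLr (z : BC φf P) :
    (p : WittVector p R) • bcSemi f (gMap D L T hLT hLQ) (PLr f L T hLT z) =
      bcSemi f D.F (PLr f L T hLT z) := by
  induction z using BC.induction_on φf with
  | zero => simp only [map_zero, smul_zero]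
  | tmul w x =>
    have hl : L.projection T hLT x ∈ L := Submodule.projection_apply_mem hLT x
    rw [PLr_tmul, bcSemi_tmul, bcSemi_tmul, gMap_L D L T hLT hLQ _ hl,
      F_eq_p_smul_Vinv D _ (hLQ hl), BC.smul_tmul, ← BC.tmul_mul_apply, map_natCast, mul_comm]
  | add a b ha hb => simp only [map_add, smul_add, ha, hb]

theorem VinvR_verschiebung_smul (hρι : ∀ m, ρ (ι m) = m) (w : WittVector p R) (z : BC φf P)
    (h : WittVector.verschiebung w • z ∈ LinearMap.ker (bcQuotMap f D.Q)) :
    VinvR f D L T hLT hQ hLQ ι ρ ⟨WittVector.verschiebung w • z, h⟩ = w • bcSemi f D.F z := by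
  rw [VinvR_apply]
  have h1 : (⟨PTr f L T hLT (WittVector.verschiebung w • z), PTr_mem f D L T hLT hQ _ h⟩ :
      (IV p R • (⊤ : Submodule (WittVector p R) (BC φf P)) : Submodule _ _)) =
      ⟨WittVector.verschiebung w • PTr f L T hLT z,
        Submodule.smul_mem_smul (verschiebung_mem_IV p R w) Submodule.mem_top⟩ :=
    Subtype.ext (map_smul _ _ _)
  rw [h1, divMap_verschiebung_smul _ ι ρ hρι, map_smul, LinearMap.map_smulₛₗ,
    WittVector.frobenius_verschiebung, mul_smul, p_smul_Phi_PLr f D L T hLT hLQ, ← smul_add,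
    ← map_add, PLr_add_PTr]

theorem divMap_tmul (hρι : ∀ m, ρ (ι m) = m) (w : WittVector p R) (s : P)
    (hs : s ∈ IV p S • (⊤ : Submodule (WittVector p S) P)) :
    ∃ (h1 : s ∈ D.Q)
      (h2 : BC.tmul φf w s ∈ IV p R • (⊤ : Submodule (WittVector p R) (BC φf P))),
      divMap (bcSemi f D.F) ι ρ ⟨BC.tmul φf w s, h2⟩ =
        BC.tmul φf (σR w) (D.Vinv ⟨s, h1⟩) := by
  refine Submodule.smul_induction_on
    (p := fun s => ∃ (h1 : s ∈ D.Q)
      (h2 : BC.tmul φf w s ∈ IV p R • (⊤ : Submodule (WittVector p R) (BC φf P))),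
      divMap (bcSemi f D.F) ι ρ ⟨BC.tmul φf w s, h2⟩ =
        BC.tmul φf (σR w) (D.Vinv ⟨s, h1⟩)) hs ?_ ?_
  · intro a ha x _
    obtain ⟨s', rfl⟩ := (mem_IV_iff a).mp ha
    have hmem : WittVector.verschiebung s' • x ∈ IV p S • (⊤ : Submodule (WittVector p S) P) :=
      Submodule.smul_mem_smul (verschiebung_mem_IV p S s') Submodule.mem_top
    have hq : WittVector.verschiebung s' • x ∈ D.Q := D.IV_smul_le hmem
    have e0 : BC.tmul φf (WittVector.verschiebung (φf s' * σR w)) x =
        WittVector.verschiebung (φf s' * σR w) • BC.tmul φf 1 x :=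
      BC.tmul_eq_smul_tmul_one _ _ _
    have e1 : BC.tmul φf w (WittVector.verschiebung s' • x) =
        WittVector.verschiebung (φf s' * σR w) • BC.tmul φf 1 x := by
      rw [← BC.tmul_mul_apply, WittVector.map_verschiebung, mul_comm w,
        ← WittVector.verschiebung_mul_frobenius, e0]
    have h2 : BC.tmul φf w (WittVector.verschiebung s' • x) ∈
        IV p R • (⊤ : Submodule (WittVector p R) (BC φf P)) := tmul_mem_IV f w _ hmem
    refine ⟨hq, h2, ?_⟩
    have e2 : (⟨BC.tmul φf w (WittVector.verschiebung s' • x), h2⟩ :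
        (IV p R • (⊤ : Submodule (WittVector p R) (BC φf P)) : Submodule _ _)) =
        ⟨WittVector.verschiebung (φf s' * σR w) • BC.tmul φf 1 x,
          Submodule.smul_mem_smul (verschiebung_mem_IV p R _) Submodule.mem_top⟩ :=
      Subtype.ext e1
    have e3 : D.Vinv ⟨WittVector.verschiebung s' • x, hq⟩ = s' • D.F x :=
      D.Vinv_verschiebung_smul s' x
    rw [e2, divMap_verschiebung_smul _ ι ρ hρι, bcSemi_tmul, map_one, e3, BC.smul_tmul, mul_one,
      ← BC.tmul_mul_apply, mul_comm]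
  · rintro s s' ⟨h1, h2, e⟩ ⟨h1', h2', e'⟩
    have h2'' : BC.tmul φf w (s + s') ∈
        IV p R • (⊤ : Submodule (WittVector p R) (BC φf P)) := by
      rw [BC.tmul_add]; exact Submodule.add_mem _ h2 h2'
    refine ⟨D.Q.add_mem h1 h1', h2'', ?_⟩
    have e3 : (⟨BC.tmul φf w (s + s'), h2''⟩ :
        (IV p R • (⊤ : Submodule (WittVector p R) (BC φf P)) : Submodule _ _)) =
        ⟨BC.tmul φf w s, h2⟩ + ⟨BC.tmul φf w s', h2'⟩ := Subtype.ext (BC.tmul_add _ _ _ _)
    have e4 : (⟨s + s', D.Q.add_mem h1 h1'⟩ : D.Q) = ⟨s, h1⟩ + ⟨s', h1'⟩ := rfl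
    rw [e3, map_add, e, e', e4, map_add, BC.tmul_add]

theorem VinvR_tmul (hρι : ∀ m, ρ (ι m) = m) (w : WittVector p R) (y : P) (hy : y ∈ D.Q)
    (h : BC.tmul φf w y ∈ LinearMap.ker (bcQuotMap f D.Q)) :
    VinvR f D L T hLT hQ hLQ ι ρ ⟨BC.tmul φf w y, h⟩ =
      BC.tmul φf (σR w) (D.Vinv ⟨y, hy⟩) := by
  rw [VinvR_apply]
  have hl : L.projection T hLT y ∈ L := Submodule.projection_apply_mem hLT y
  have hs := projT_mem D L T hLT hQ y hy
  obtain ⟨h1, h2, e⟩ := divMap_tmul f D ι ρ hρι w _ hs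
  have e1 : (⟨PTr f L T hLT (BC.tmul φf w y), PTr_mem f D L T hLT hQ _ h⟩ :
      (IV p R • (⊤ : Submodule (WittVector p R) (BC φf P)) : Submodule _ _)) =
      ⟨BC.tmul φf w (T.projection L hLT.symm y), h2⟩ := Subtype.ext (PTr_tmul f L T hLT w y)
  have e2 : (⟨L.projection T hLT y, hLQ hl⟩ : D.Q) + ⟨T.projection L hLT.symm y, h1⟩ = ⟨y, hy⟩ :=
    Subtype.ext (Submodule.projection_add_projection_eq_self hLT y)
  rw [e1, e, PLr_tmul, bcSemi_tmul, gMap_L D L T hLT hLQ _ hl, ← BC.tmul_add, ← map_add, e2]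

include hLQ in
theorem PLr_mem_ker (z : BC φf P) : PLr f L T hLT z ∈ LinearMap.ker (bcQuotMap f D.Q) := by
  induction z using BC.induction_on φf with
  | zero => rw [map_zero]; exact Submodule.zero_mem _
  | tmul w x =>
    rw [PLr_tmul]
    exact tmul_mem_ker f D.Q w _ (hLQ (Submodule.projection_apply_mem hLT x))
  | add a b ha hb => rw [map_add]; exact Submodule.add_mem _ ha hb

include hQ hLQ in
theorem ker_eq_sup : LinearMap.ker (bcQuotMap f D.Q) =
    LinearMap.range (PLr f L T hLT) ⊔ IV p R • LinearMap.range (PTr f L T hLT) := by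
  apply le_antisymm
  · intro z hz
    have h1 := PTr_mem f D L T hLT hQ z hz
    have h2 : PTr f L T hLT z ∈ IV p R • LinearMap.range (PTr f L T hLT) := by
      have h3 : PTr f L T hLT (PTr f L T hLT z) ∈
          (IV p R • (⊤ : Submodule (WittVector p R) (BC φf P))).map (PTr f L T hLT) :=
        Submodule.mem_map_of_mem h1
      rw [Submodule.map_smul'', Submodule.map_top, PTr_PTr] at h3
      exact h3
    have h4 := PLr_add_PTr f L T hLT z
    rw [← h4]
    exact Submodule.add_mem_sup (LinearMap.mem_range_self _ z) h2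
  · apply sup_le
    · rintro _ ⟨z, rfl⟩; exact PLr_mem_ker f D L T hLT hLQ z
    · exact (Submodule.smul_mono le_rfl le_top).trans (IV_smul_le_ker f D.Q)

theorem isCompl_ranges :
    IsCompl (LinearMap.range (PLr f L T hLT)) (LinearMap.range (PTr f L T hLT)) := by
  have hidem : IsIdempotentElem (PLr f L T hLT) := by
    apply LinearMap.ext; intro z
    rw [Module.End.mul_apply]
    exact PLr_PLr f L T hLT z
  have hker : LinearMap.ker (PLr f L T hLT) = LinearMap.range (PTr f L T hLT) := by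
    apply le_antisymm
    · intro z hz
      have h0 := PLr_add_PTr f L T hLT z
      rw [LinearMap.mem_ker.mp hz, zero_add] at h0
      exact ⟨z, h0⟩
    · rintro _ ⟨z, rfl⟩; exact LinearMap.mem_ker.mpr (PLr_PTr f L T hLT z)
  rw [← hker]
  exact LinearMap.IsIdempotentElem.isCompl hidem

theorem span_range_VinvR (hρι : ∀ m, ρ (ι m) = m) :
    Submodule.span (WittVector p R) (Set.range (VinvR f D L T hLT hQ hLQ ι ρ)) = ⊤ := by
  have key : ∀ z : BC φf P,
      z ∈ Submodule.span (WittVector p R) (Set.range (VinvR f D L T hLT hQ hLQ ι ρ)) := by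
    intro z
    induction z using BC.induction_on φf with
    | zero => exact Submodule.zero_mem _
    | tmul w x =>
      rw [BC.tmul_eq_smul_tmul_one]
      refine Submodule.smul_mem _ w ?_
      have hx : x ∈ Submodule.span (WittVector p S) (Set.range D.Vinv) := by
        rw [D.span_range_Vinv]; trivial
      refine Submodule.span_induction
        (p := fun x _ => BC.tmul φf 1 x ∈
          Submodule.span (WittVector p R) (Set.range (VinvR f D L T hLT hQ hLQ ι ρ)))
        ?_ ?_ ?_ ?_ hx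
      · rintro _ ⟨y, rfl⟩
        apply Submodule.subset_span
        refine ⟨⟨BC.tmul φf 1 (y : P), tmul_mem_ker f D.Q 1 _ y.2⟩, ?_⟩
        rw [VinvR_tmul f D L T hLT hQ hLQ ι ρ hρι 1 y.1 y.2, map_one]
      · rw [BC.tmul_zero]; exact Submodule.zero_mem _
      · intro a b _ _ ha hb
        rw [BC.tmul_add]; exact Submodule.add_mem _ ha hb
      · intro a x _ hx
        rw [← BC.tmul_apply_eq, BC.tmul_eq_smul_tmul_one]
        exact Submodule.smul_mem _ _ hx
    | add a b ha hb => exact Submodule.add_mem _ ha hb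
  rw [eq_top_iff]
  exact fun z _ => key z

end Constr

section Main

variable {p : ℕ} [Fact p.Prime] {S R : Type u} [CommRing S] [CommRing R] (f : S →+* R)
variable {P : Type v} [AddCommGroup P] [Module (WittVector p S) P]

local notation "φf" => (WittVector.map f : WittVector p S →+* WittVector p R)
local notation "σR" => (WittVector.frobenius : WittVector p R →+* WittVector p R)

theorem exists_baseChange (D : Display3n p S P) :
    ∃ DR : Display3n p R (BC φf P), IsDispBaseChange f D DR := by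
  obtain ⟨L, T, hLT, hQ⟩ := D.exists_normal
  have hLQ : L ≤ D.Q := by rw [hQ]; exact le_sup_left
  have hfin := D.finite
  have hproj := D.projective
  obtain ⟨hfinR, hprojR, -⟩ := bc_facts φf P
  obtain ⟨r, ρ, ι, -, -, hρι0⟩ :=
    Module.Finite.exists_comp_eq_id_of_projective (WittVector p R) (BC φf P)
  have hρι : ∀ m, ρ (ι m) = m := fun m => by
    have := LinearMap.congr_fun hρι0 m; simpa using this
  refine ⟨{ Q := LinearMap.ker (bcQuotMap f D.Q)
            F := bcSemi f D.F
            Vinv := VinvR f D L T hLT hQ hLQ ι ρ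
            finite := hfinR
            projective := hprojR
            IV_smul_le := IV_smul_le_ker f D.Q
            exists_normal := ⟨_, _, isCompl_ranges f L T hLT, ker_eq_sup f D L T hLT hQ hLQ⟩
            span_range_Vinv := span_range_VinvR f D L T hLT hQ hLQ ι ρ hρι
            Vinv_verschiebung_smul := fun w x =>
              VinvR_verschiebung_smul f D L T hLT hQ hLQ ι ρ hρι w x _ }, ?_⟩
  refine { Q_eq := rfl
           F_tmul := fun w x => bcSemi_tmul f D.F w x
           Vinv_tmul := fun w y h => VinvR_tmul f D L T hLT hQ hLQ ι ρ hρι w y.1 y.2 h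
           Vinv_verschiebung_tmul := fun w x h => ?_ }
  have e1 : BC.tmul φf (WittVector.verschiebung w) x =
      WittVector.verschiebung w • BC.tmul φf 1 x := BC.tmul_eq_smul_tmul_one _ _ _
  have h' : WittVector.verschiebung w • BC.tmul φf 1 x ∈ LinearMap.ker (bcQuotMap f D.Q) :=
    e1 ▸ h
  have e2 : (⟨BC.tmul φf (WittVector.verschiebung w) x, h⟩ :
      (LinearMap.ker (bcQuotMap f D.Q) : Submodule (WittVector p R) (BC φf P))) =
      ⟨WittVector.verschiebung w • BC.tmul φf 1 x, h'⟩ := Subtype.ext e1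
  show VinvR f D L T hLT hQ hLQ ι ρ ⟨_, h⟩ = _
  rw [e2, VinvR_verschiebung_smul f D L T hLT hQ hLQ ι ρ hρι, bcSemi_tmul, map_one, BC.smul_tmul,
    mul_one]

theorem display_ext {M : Type v} [AddCommGroup M] [Module (WittVector p R) M]
    (D₁ D₂ : Display3n p R M) (hQ : D₁.Q = D₂.Q) (hF : D₁.F = D₂.F)
    (hV : ∀ z (h1 : z ∈ D₁.Q) (h2 : z ∈ D₂.Q), D₁.Vinv ⟨z, h1⟩ = D₂.Vinv ⟨z, h2⟩) :
    D₁ = D₂ := by
  obtain ⟨Q₁, F₁, V₁, a1, a2, a3, a4, a5, a6⟩ := D₁
  obtain ⟨Q₂, F₂, V₂, b1, b2, b3, b4, b5, b6⟩ := D₂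
  dsimp only at hQ hF hV
  subst hQ
  subst hF
  have hV' : V₁ = V₂ := LinearMap.ext fun ⟨z, hz⟩ => hV z hz hz
  subst hV'
  rfl

theorem baseChange_unique (D : Display3n p S P) (DR₁ DR₂ : Display3n p R (BC φf P))
    (h₁ : IsDispBaseChange f D DR₁) (h₂ : IsDispBaseChange f D DR₂) : DR₁ = DR₂ := by
  apply display_ext
  · rw [h₁.Q_eq, h₂.Q_eq]
  · apply LinearMap.ext; intro z
    induction z using BC.induction_on φf with
    | zero => rw [map_zero, map_zero]
    | tmul w x => rw [h₁.F_tmul, h₂.F_tmul]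
    | add a b ha hb => rw [map_add, map_add, ha, hb]
  · intro z hz1 hz2
    have hz : z ∈ LinearMap.ker (bcQuotMap f D.Q) := by rw [← h₁.Q_eq]; exact hz1
    have h0 : ∃ (h1 : (0 : BC φf P) ∈ DR₁.Q) (h2 : (0 : BC φf P) ∈ DR₂.Q),
        DR₁.Vinv ⟨0, h1⟩ = DR₂.Vinv ⟨0, h2⟩ := by
      refine ⟨DR₁.Q.zero_mem, DR₂.Q.zero_mem, ?_⟩
      have e1 : (⟨0, DR₁.Q.zero_mem⟩ : DR₁.Q) = 0 := rfl
      have e2 : (⟨0, DR₂.Q.zero_mem⟩ : DR₂.Q) = 0 := rfl
      rw [e1, e2, map_zero, map_zero]
    obtain ⟨_, _, e⟩ := ker_induction f D.Q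
      (fun z => ∃ (h1 : z ∈ DR₁.Q) (h2 : z ∈ DR₂.Q), DR₁.Vinv ⟨z, h1⟩ = DR₂.Vinv ⟨z, h2⟩)
      h0
      (by
        rintro a b ⟨ha1, ha2, ea⟩ ⟨hb1, hb2, eb⟩
        refine ⟨DR₁.Q.add_mem ha1 hb1, DR₂.Q.add_mem ha2 hb2, ?_⟩
        have e1 : (⟨a + b, DR₁.Q.add_mem ha1 hb1⟩ : DR₁.Q) = ⟨a, ha1⟩ + ⟨b, hb1⟩ := rfl
        have e2 : (⟨a + b, DR₂.Q.add_mem ha2 hb2⟩ : DR₂.Q) = ⟨a, ha2⟩ + ⟨b, hb2⟩ := rfl
        rw [e1, e2, map_add, map_add, ea, eb])
      (by
        intro w q hq
        have m1 : BC.tmul φf w q ∈ DR₁.Q := by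
          rw [h₁.Q_eq]; exact tmul_mem_ker f D.Q w q hq
        have m2 : BC.tmul φf w q ∈ DR₂.Q := by
          rw [h₂.Q_eq]; exact tmul_mem_ker f D.Q w q hq
        exact ⟨m1, m2, (h₁.Vinv_tmul w ⟨q, hq⟩ m1).trans (h₂.Vinv_tmul w ⟨q, hq⟩ m2).symm⟩)
      (by
        intro w x
        have m1 : BC.tmul φf (WittVector.verschiebung w) x ∈ DR₁.Q := by
          rw [h₁.Q_eq]; exact vtmul_mem_ker f D.Q w x
        have m2 : BC.tmul φf (WittVector.verschiebung w) x ∈ DR₂.Q := by
          rw [h₂.Q_eq]; exact vtmul_mem_ker f D.Q w x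
        exact ⟨m1, m2, (h₁.Vinv_verschiebung_tmul w x m1).trans
          (h₂.Vinv_verschiebung_tmul w x m2).symm⟩)
      z hz
    exact e

end Main

end Groth.Agent.Helper8.DispPow
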