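import Mathlib
import Groth.Agent.Lib.Helper8.DispBCX1

/-! helper8: descent of homomorphisms of 3n-displays along a ring map `f : S → R` for which
`P' → W(R) ⊗ P'` is injective: abstract form. -/

set_option autoImplicit false

noncomputable section

namespace Groth.Agent.Helper8.DispPow

open Dieu W4c1extbt610

universe u v

section CastGen

variable {A B : Type*} [CommRing A] [CommRing B] {P : Type*} [AddCommGroup P] [Module A P]

theorem eq_of_castHom_eq {g₁ g₂ g₀ : A →+* B} (e₁ : g₁ = g₀) (e₂ : g₂ = g₀) (e : g₁ = g₂)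
    (a : BC g₁ P) (b : BC g₂ P) (h : BC.castHom e₁ a = BC.castHom e₂ b) :
    BC.castHom e a = b := by
  subst e₁
  subst e₂
  exact h

end CastGen

section Desc

variable {p : ℕ} [Fact p.Prime] {S R : Type u} [CommRing S] [CommRing R] (f : S →+* R)
variable {P P' : Type v} [AddCommGroup P] [Module (WittVector p S) P]
  [AddCommGroup P'] [Module (WittVector p S) P']

local notation "φf" => (WittVector.map f : WittVector p S →+* WittVector p R)

theorem hom_descent (D : Display3n p S P) (D' : Display3n p S P')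
    (DR : Display3n p R (BC φf P)) (DR' : Display3n p R (BC φf P'))
    (hDR : IsDispBaseChange f D DR) (hDR' : IsDispBaseChange f D' DR')
    (χ : BC φf P →ₗ[WittVector p R] BC φf P') (hχ : IsHom DR DR' χ)
    (hinj : Function.Injective (BC.ι φf P'))
    (hQ' : ∀ y : P', BC.ι φf P' y ∈ DR'.Q → y ∈ D'.Q)
    (hrange : ∀ x : P, χ (BC.ι φf P x) ∈ Set.range (BC.ι φf P')) :
    ∃! ψ : P →ₗ[WittVector p S] P', IsHom D D' ψ ∧ BC.map φf ψ = χ := by
  choose g hg using hrange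
  obtain ⟨ψ, hψ⟩ : ∃ ψ : P →ₗ[WittVector p S] P', ∀ x, BC.ι φf P' (ψ x) = χ (BC.ι φf P x) := by
    refine ⟨{ toFun := g, map_add' := fun x y => hinj ?_, map_smul' := fun a x => hinj ?_ }, hg⟩
    · simp only [hg, map_add]
    · simp only [RingHom.id_apply, hg, LinearMap.map_smulₛₗ]
  have hQR : ∀ q : P, q ∈ D.Q → BC.ι φf P q ∈ DR.Q := by
    intro q hq
    rw [hDR.Q_eq]
    exact tmul_mem_ker f D.Q 1 q hq
  have hιF : ∀ x : P, BC.ι φf P (D.F x) = DR.F (BC.ι φf P x) := by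
    intro x
    rw [BC.ι_apply, BC.ι_apply, hDR.F_tmul, map_one]
  have hιF' : ∀ y : P', BC.ι φf P' (D'.F y) = DR'.F (BC.ι φf P' y) := by
    intro y
    rw [BC.ι_apply, BC.ι_apply, hDR'.F_tmul, map_one]
  have hmaps : ∀ q : P, q ∈ D.Q → ψ q ∈ D'.Q := by
    intro q hq
    apply hQ'
    rw [hψ]
    exact hχ.mapsTo _ (hQR q hq)
  have hmap : BC.map φf ψ = χ := by
    apply BC.ext
    intro x
    rw [BC.map_tmul]
    exact hψ x
  refine ⟨ψ, ⟨⟨hmaps, ?_, ?_⟩, hmap⟩, ?_⟩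
  · intro x
    apply hinj
    rw [hψ, hιF, hχ.comm_F, ← hψ, ← hιF']
  · intro q
    apply hinj
    have hq1 : BC.ι φf P (q : P) ∈ DR.Q := hQR q q.2
    have hq2 : BC.ι φf P' (ψ q) ∈ DR'.Q := by
      rw [hψ]; exact hχ.mapsTo _ hq1
    have e1 : BC.ι φf P (D.Vinv q) = DR.Vinv ⟨BC.ι φf P (q : P), hq1⟩ := by
      have h0 := hDR.Vinv_tmul 1 q hq1
      rw [map_one] at h0
      exact h0.symm
    have e2 : BC.ι φf P' (D'.Vinv ⟨ψ q, hmaps q q.2⟩) =
        DR'.Vinv ⟨BC.ι φf P' (ψ q), hq2⟩ := by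
      have h0 := hDR'.Vinv_tmul 1 ⟨ψ q, hmaps q q.2⟩ hq2
      rw [map_one] at h0
      exact h0.symm
    have e3 := hχ.comm_Vinv ⟨BC.ι φf P (q : P), hq1⟩
    rw [hψ, e1, e3, e2]
    congr 1
    exact Subtype.ext (hψ q).symm
  · rintro ψ' ⟨-, h'⟩
    apply LinearMap.ext
    intro x
    apply hinj
    rw [hψ]
    have h1 : BC.map φf ψ' (BC.tmul φf 1 x) = χ (BC.tmul φf 1 x) := by rw [h']
    rw [BC.map_tmul] at h1
    exact h1

end Desc

end Groth.Agent.Helper8.DispPow
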