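import Mathlib
import Groth.Prelude.Def_W4c1extbt610Disp

/-! helper8: the normal decomposition of the exterior power of a 3n-display whose `L` is free and
whose `T` is free of rank one; rank of the tangent module. -/

set_option autoImplicit false

noncomputable section

namespace Groth.Agent.Helper8.DispExt

open W4c1extbt610 Module

universe u v

theorem card_filter_zero_mem (m k : ℕ) :
    (((Finset.univ : Finset (Fin (m + 1))).powersetCard (k + 1)).filter
      (fun s => (0 : Fin (m + 1)) ∈ s)).card = m.choose k := by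
  classical
  obtain ⟨U, hU⟩ : ∃ U : Finset (Fin (m + 1)),
      U = Finset.univ.map ⟨Fin.succ, Fin.succ_injective m⟩ := ⟨_, rfl⟩
  have h0 : (0 : Fin (m + 1)) ∉ U := by
    rw [hU]
    intro h
    obtain ⟨i, _, hi⟩ := Finset.mem_map.mp h
    exact Fin.succ_ne_zero i hi
  have huniv : (Finset.univ : Finset (Fin (m + 1))) = insert 0 U := by
    rw [hU, Fin.univ_succ, Finset.cons_eq_insert]
  have hcU : U.card = m := by
    rw [hU, Finset.card_map, Finset.card_univ, Fintype.card_fin]
  rw [huniv, Finset.powersetCard_succ_insert h0, Finset.filter_union]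
  have h1 : (U.powersetCard (k + 1)).filter (fun s => (0 : Fin (m + 1)) ∈ s) = ∅ := by
    rw [Finset.filter_eq_empty_iff]
    intro s hs h0s
    exact h0 ((Finset.mem_powersetCard.mp hs).1 h0s)
  have h2 : ((U.powersetCard k).image (insert 0)).filter (fun s => (0 : Fin (m + 1)) ∈ s) =
      (U.powersetCard k).image (insert 0) := by
    apply Finset.filter_true_of_mem
    intro s hs
    obtain ⟨t, _, rfl⟩ := Finset.mem_image.mp hs
    exact Finset.mem_insert_self 0 t
  have hinj : Set.InjOn (insert (0 : Fin (m + 1))) (↑(U.powersetCard k) : Set (Finset (Fin (m + 1)))) := by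
    intro t ht t' ht' htt
    have h3 : (0 : Fin (m + 1)) ∉ t := fun h => h0 ((Finset.mem_powersetCard.mp ht).1 h)
    have h4 : (0 : Fin (m + 1)) ∉ t' := fun h => h0 ((Finset.mem_powersetCard.mp ht').1 h)
    have h5 := congrArg (fun s => s.erase 0) htt
    simp only [Finset.erase_insert h3, Finset.erase_insert h4] at h5
    exact h5
  rw [h1, h2, Finset.empty_union, Finset.card_image_of_injOn hinj, Finset.card_powersetCard, hcU]

theorem natCard_zero_mem (m k : ℕ) :
    Nat.card {s : Set.powersetCard (Fin (m + 1)) (k + 1) // (0 : Fin (m + 1)) ∈ s} =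
      m.choose k := by
  classical
  have e : {s : Set.powersetCard (Fin (m + 1)) (k + 1) // (0 : Fin (m + 1)) ∈ s} ≃
      {t : Finset (Fin (m + 1)) //
        t ∈ ((Finset.univ : Finset (Fin (m + 1))).powersetCard (k + 1)).filter
          (fun s => (0 : Fin (m + 1)) ∈ s)} :=
    { toFun := fun s => ⟨s.1.1, Finset.mem_filter.mpr
        ⟨Finset.mem_powersetCard.mpr ⟨Finset.subset_univ _, s.1.2⟩, s.2⟩⟩
      invFun := fun t => ⟨⟨t.1, (Finset.mem_powersetCard.mp (Finset.mem_filter.mp t.2).1).2⟩,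
        (Finset.mem_filter.mp t.2).2⟩
      left_inv := fun s => rfl
      right_inv := fun t => rfl }
  rw [Nat.card_congr e, Nat.card_eq_fintype_card, Fintype.card_coe, card_filter_zero_mem]

theorem det_mem_of_col_mem {A : Type*} [CommRing A] {n : Type*} [Fintype n] [DecidableEq n]
    (I : Ideal A) (M : Matrix n n A) (j : n) (h : ∀ i, M i j ∈ I) : M.det ∈ I := by
  rw [Matrix.det_eq_sum_mul_adjugate_col M j]
  exact I.sum_mem fun i _ => I.mul_mem_right _ (h i)

theorem extPow_rank {p : ℕ} [Fact p.Prime] {R : Type u} [CommRing R] [Nontrivial R]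
    {P : Type v} [AddCommGroup P] [Module (WittVector p R) P] (D : Display3n p R P) (m : ℕ)
    (L T : Submodule (WittVector p R) P) (hLT : IsCompl L T) (hQ : D.Q = L ⊔ IV p R • T)
    (hL : Module.Free (WittVector p R) L) (hLr : Module.finrank (WittVector p R) L = m)
    (hT : Nonempty (T ≃ₗ[WittVector p R] WittVector p R))
    (r : ℕ) (hr : 1 ≤ r) (E : Display3n p R (⋀[WittVector p R]^r P)) (hE : IsExtPow D r E) :
    ∃ L' T' : Submodule (WittVector p R) (⋀[WittVector p R]^r P), IsCompl L' T' ∧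
      E.Q = L' ⊔ IV p R • T' ∧ Module.Free (WittVector p R) T' ∧
      Module.finrank (WittVector p R) T' = m.choose (r - 1) := by
  classical
  obtain ⟨k, rfl⟩ : ∃ k, r = k + 1 := ⟨r - 1, by omega⟩
  obtain ⟨eT⟩ := hT
  have hfinP : Module.Finite (WittVector p R) P := D.finite
  have hfinL : Module.Finite (WittVector p R) L :=
    Module.Finite.of_surjective (Submodule.linearProjOfIsCompl L T hLT)
      (Submodule.linearProjOfIsCompl_surjective hLT)
  obtain ⟨bL⟩ : Nonempty (Basis (Fin m) (WittVector p R) L) :=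
    ⟨Module.finBasisOfFinrankEq _ _ hLr⟩
  obtain ⟨t₀, ht₀⟩ : ∃ t₀ : P, t₀ = ((eT.symm 1 : T) : P) := ⟨_, rfl⟩
  have ht₀T : t₀ ∈ T := by rw [ht₀]; exact (eT.symm 1).2
  have hTgen : ∀ s ∈ T, ∃ c : WittVector p R, s = c • t₀ := by
    intro s hs
    refine ⟨eT ⟨s, hs⟩, ?_⟩
    have h1 : (⟨s, hs⟩ : T) = eT ⟨s, hs⟩ • eT.symm 1 := by
      rw [← map_smul, smul_eq_mul, mul_one, LinearEquiv.symm_apply_apply]
    have h2 := congrArg Subtype.val h1
    rw [ht₀]
    exact h2
  have hli : ∀ (c : WittVector p R), ∀ x ∈ L, c • t₀ + x = 0 → c = 0 := by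
    intro c x hx h
    have h1 : c • t₀ ∈ L ⊓ T := by
      refine ⟨?_, T.smul_mem c ht₀T⟩
      have h2 : c • t₀ = -x := eq_neg_of_add_eq_zero_left h
      rw [h2]; exact L.neg_mem hx
    rw [hLT.inf_eq_bot, Submodule.mem_bot] at h1
    have h3 : (c • eT.symm 1 : T) = 0 := by
      apply Subtype.ext
      rw [Submodule.coe_smul, ← ht₀, h1, Submodule.coe_zero]
    have h4 : eT (c • eT.symm 1) = 0 := by rw [h3, map_zero]
    rwa [map_smul, LinearEquiv.apply_symm_apply, smul_eq_mul, mul_one] at h4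
  have hsp : ∀ z : P, ∃ c : WittVector p R, z + c • t₀ ∈ L := by
    intro z
    have hz : z ∈ L ⊔ T := by rw [hLT.sup_eq_top]; trivial
    obtain ⟨l, hl, s, hs, rfl⟩ := Submodule.mem_sup.mp hz
    obtain ⟨c, rfl⟩ := hTgen s hs
    refine ⟨-c, ?_⟩
    rw [neg_smul, add_neg_cancel_right]
    exact hl
  obtain ⟨b, hbcoe⟩ : ∃ b : Basis (Fin (m + 1)) (WittVector p R) P,
      (b : Fin (m + 1) → P) = Fin.cons t₀ ((↑) ∘ bL) :=
    ⟨Basis.mkFinCons t₀ bL hli hsp, Basis.coe_mkFinCons _ _ _ _⟩
  have hb0 : b 0 = t₀ := by rw [hbcoe, Fin.cons_zero]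
  have hbs : ∀ i : Fin m, b i.succ = (bL i : P) := by
    intro i
    rw [hbcoe, Fin.cons_succ]
    rfl
  have hbL : ∀ j : Fin (m + 1), j ≠ 0 → b j ∈ L := by
    intro j hj
    obtain ⟨i, rfl⟩ := Fin.exists_succ_eq.mpr hj
    rw [hbs]
    exact (bL i).2
  have hbQ : ∀ j : Fin (m + 1), j ≠ 0 → b j ∈ D.Q := by
    intro j hj
    rw [hQ]
    exact Submodule.mem_sup_left (hbL j hj)
  have hb0Q : ∀ a ∈ IV p R, a • b 0 ∈ D.Q := by
    intro a ha
    rw [hQ, hb0]
    exact Submodule.mem_sup_right (Submodule.smul_mem_smul ha ht₀T)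
  have hcoordL : ∀ l ∈ L, b.coord 0 l = 0 := by
    intro l hl
    have h1 : l = ∑ i, bL.repr ⟨l, hl⟩ i • b i.succ := by
      have h2 := congrArg Subtype.val (bL.sum_repr ⟨l, hl⟩)
      rw [Submodule.coe_sum] at h2
      have h3 : (∑ i, ((bL.repr ⟨l, hl⟩ i • bL i : L) : P)) = l := h2
      refine h3.symm.trans (Finset.sum_congr rfl fun i _ => ?_)
      rw [Submodule.coe_smul, hbs]
    rw [h1, map_sum]
    refine Finset.sum_eq_zero fun i _ => ?_
    rw [map_smul, Basis.coord_apply, Basis.repr_self, Finsupp.single_apply,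
      if_neg (Fin.succ_ne_zero i), smul_zero]
  have hcoordQ : ∀ x ∈ D.Q, b.coord 0 x ∈ IV p R := by
    intro x hx
    rw [hQ] at hx
    obtain ⟨l, hl, s, hs, rfl⟩ := Submodule.mem_sup.mp hx
    rw [map_add, hcoordL l hl, zero_add]
    refine Submodule.smul_induction_on hs ?_ ?_
    · intro a ha y _
      rw [map_smul, smul_eq_mul]
      exact Ideal.mul_mem_right _ _ ha
    · intro x y hx hy
      rw [map_add]; exact Ideal.add_mem _ hx hy
  -- the basis of the exterior power
  obtain ⟨B, hB⟩ : ∃ B : Basis (Set.powersetCard (Fin (m + 1)) (k + 1)) (WittVector p R)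
      (⋀[WittVector p R]^(k + 1) P),
      ∀ s, B s = exteriorPower.ιMulti (WittVector p R) (k + 1)
        (fun i => b (Set.powersetCard.ofFinEmbEquiv.symm s i)) := by
    refine ⟨b.exteriorPower (k + 1), fun s => ?_⟩
    rw [exteriorPower.basis_apply]
    rfl
  have hrepr : ∀ (q : Fin (k + 1) → P) (s : Set.powersetCard (Fin (m + 1)) (k + 1)),
      B.repr (exteriorPower.ιMulti (WittVector p R) (k + 1) q) s =
        (Matrix.of fun i j => b.coord (Set.powersetCard.ofFinEmbEquiv.symm s j) (q i)).det := by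
    intro q s
    have hBe : B = b.exteriorPower (k + 1) := by
      apply Basis.eq_of_apply_eq
      intro s'
      rw [hB s', exteriorPower.basis_apply]
      rfl
    rw [hBe, exteriorPower.basis_repr_apply, exteriorPower.ιMultiDual_apply_ιMulti]
  have hemb_mem : ∀ (s : Set.powersetCard (Fin (m + 1)) (k + 1)) (i : Fin (k + 1)),
      Set.powersetCard.ofFinEmbEquiv.symm s i ∈ s := fun s i =>
    (Set.powersetCard.mem_range_ofFinEmbEquiv_symm_iff_mem s _).mp ⟨i, rfl⟩
  have hemb_ex : ∀ (s : Set.powersetCard (Fin (m + 1)) (k + 1)), (0 : Fin (m + 1)) ∈ s →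
      ∃ j₀ : Fin (k + 1), Set.powersetCard.ofFinEmbEquiv.symm s j₀ = 0 := fun s hs =>
    (Set.powersetCard.mem_range_ofFinEmbEquiv_symm_iff_mem s 0).mpr hs
  -- the two submodules
  obtain ⟨T', hT'⟩ : ∃ T' : Submodule (WittVector p R) (⋀[WittVector p R]^(k + 1) P),
      T' = Submodule.span (WittVector p R) (Set.range
        fun s : {s : Set.powersetCard (Fin (m + 1)) (k + 1) // (0 : Fin (m + 1)) ∈ s} => B s.1) :=
    ⟨_, rfl⟩
  obtain ⟨L', hL'⟩ : ∃ L' : Submodule (WittVector p R) (⋀[WittVector p R]^(k + 1) P),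
      L' = Submodule.span (WittVector p R) (Set.range
        fun s : {s : Set.powersetCard (Fin (m + 1)) (k + 1) // (0 : Fin (m + 1)) ∉ s} => B s.1) :=
    ⟨_, rfl⟩
  have hBT' : ∀ s : Set.powersetCard (Fin (m + 1)) (k + 1), (0 : Fin (m + 1)) ∈ s → B s ∈ T' := by
    intro s hs
    rw [hT']
    exact Submodule.subset_span ⟨⟨s, hs⟩, rfl⟩
  have hBL' : ∀ s : Set.powersetCard (Fin (m + 1)) (k + 1), (0 : Fin (m + 1)) ∉ s → B s ∈ L' := by
    intro s hs
    rw [hL']
    exact Submodule.subset_span ⟨⟨s, hs⟩, rfl⟩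
  have hrT : (Set.range fun s : {s : Set.powersetCard (Fin (m + 1)) (k + 1) //
      (0 : Fin (m + 1)) ∈ s} => B s.1) = B '' {s | (0 : Fin (m + 1)) ∈ s} := by
    ext x
    constructor
    · rintro ⟨⟨s, hs⟩, rfl⟩; exact ⟨s, hs, rfl⟩
    · rintro ⟨s, hs, rfl⟩; exact ⟨⟨s, hs⟩, rfl⟩
  have hrL : (Set.range fun s : {s : Set.powersetCard (Fin (m + 1)) (k + 1) //
      (0 : Fin (m + 1)) ∉ s} => B s.1) = B '' {s | (0 : Fin (m + 1)) ∈ s}ᶜ := by
    ext x
    constructor
    · rintro ⟨⟨s, hs⟩, rfl⟩; exact ⟨s, hs, rfl⟩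
    · rintro ⟨s, hs, rfl⟩; exact ⟨⟨s, hs⟩, rfl⟩
  have hcompl : IsCompl L' T' := by
    constructor
    · rw [hL', hT', hrT, hrL]
      exact B.linearIndependent.disjoint_span_image disjoint_compl_left
    · rw [codisjoint_iff, eq_top_iff]
      intro x _
      rw [← B.sum_repr x]
      refine Submodule.sum_mem _ fun s _ => ?_
      by_cases hs : (0 : Fin (m + 1)) ∈ s
      · exact Submodule.mem_sup_right (Submodule.smul_mem _ _ (hBT' s hs))
      · exact Submodule.mem_sup_left (Submodule.smul_mem _ _ (hBL' s hs))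
  have hvli : LinearIndependent (WittVector p R)
      (fun s : {s : Set.powersetCard (Fin (m + 1)) (k + 1) // (0 : Fin (m + 1)) ∈ s} => B s.1) :=
    B.linearIndependent.comp Subtype.val Subtype.val_injective
  have hbasisT' : Nonempty (Basis {s : Set.powersetCard (Fin (m + 1)) (k + 1) //
      (0 : Fin (m + 1)) ∈ s} (WittVector p R) T') := by
    rw [hT']
    exact ⟨Basis.span hvli⟩
  obtain ⟨bT'⟩ := hbasisT'
  refine ⟨L', T', hcompl, ?_, Module.Free.of_basis bT', ?_⟩
  · -- the submodule `Q`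
    have hmemN : ∀ x : ⋀[WittVector p R]^(k + 1) P,
        (∀ s, (0 : Fin (m + 1)) ∈ s → B.repr x s ∈ IV p R) → x ∈ L' ⊔ IV p R • T' := by
      intro x hx
      rw [← B.sum_repr x]
      refine Submodule.sum_mem _ fun s _ => ?_
      by_cases hs : (0 : Fin (m + 1)) ∈ s
      · exact Submodule.mem_sup_right (Submodule.smul_mem_smul (hx s hs) (hBT' s hs))
      · exact Submodule.mem_sup_left (Submodule.smul_mem _ _ (hBL' s hs))
    rw [hE.1]
    apply le_antisymm
    · rw [Submodule.span_le]
      rintro _ ⟨q, rfl⟩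
      refine hmemN _ fun s hs => ?_
      rw [hrepr]
      obtain ⟨j₀, hj₀⟩ := hemb_ex s hs
      refine det_mem_of_col_mem _ _ j₀ fun i => ?_
      rw [Matrix.of_apply, hj₀]
      exact hcoordQ _ (q i).2
    · apply sup_le
      · rw [hL', Submodule.span_le]
        rintro _ ⟨⟨s, hs⟩, rfl⟩
        have hne : ∀ i, Set.powersetCard.ofFinEmbEquiv.symm s i ≠ 0 := by
          intro i h0
          exact hs (h0 ▸ hemb_mem s i)
        show B s ∈ _
        rw [hB s]
        exact Submodule.subset_span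
          ⟨fun i => ⟨b (Set.powersetCard.ofFinEmbEquiv.symm s i), hbQ _ (hne i)⟩, rfl⟩
      · rw [Submodule.smul_le]
        intro a ha x hx
        rw [hT'] at hx
        induction hx using Submodule.span_induction with
        | mem x hx =>
          obtain ⟨⟨s, hs⟩, rfl⟩ := hx
          obtain ⟨j₀, hj₀⟩ := hemb_ex s hs
          show a • B s ∈ _
          rw [hB s]
          obtain ⟨w, hw⟩ : ∃ w : Fin (k + 1) → P,
              w = fun i => b (Set.powersetCard.ofFinEmbEquiv.symm s i) := ⟨_, rfl⟩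
          rw [← hw]
          have h1 := (exteriorPower.ιMulti (WittVector p R) (k + 1)).map_update_smul w j₀ a (w j₀)
          rw [Function.update_eq_self] at h1
          rw [← h1]
          have hw' : ∀ i, Function.update w j₀ (a • w j₀) i ∈ D.Q := by
            intro i
            by_cases hi : i = j₀
            · subst hi
              rw [Function.update_self, hw]
              show a • b (Set.powersetCard.ofFinEmbEquiv.symm s i) ∈ D.Q
              rw [hj₀]
              exact hb0Q a ha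
            · rw [Function.update_of_ne hi, hw]
              refine hbQ _ fun h0 => hi ?_
              exact (Set.powersetCard.ofFinEmbEquiv.symm s).injective (h0.trans hj₀.symm)
          exact Submodule.subset_span
            ⟨fun i => ⟨Function.update w j₀ (a • w j₀) i, hw' i⟩, rfl⟩
        | zero => rw [smul_zero]; exact Submodule.zero_mem _
        | add x y _ _ hx hy => rw [smul_add]; exact Submodule.add_mem _ hx hy
        | smul c x _ hx => rw [smul_comm]; exact Submodule.smul_mem _ _ hx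
  · rw [Module.finrank_eq_nat_card_basis bT', natCard_zero_mem, Nat.add_sub_cancel]

end Groth.Agent.Helper8.DispExt
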