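import Mathlib
import Groth.Agent.Lib.Helper8.DispBCX2

/-! helper8: the exterior power of a 3n-display whose tangent module is free of rank one:
existence, uniqueness and the universal property. -/

set_option autoImplicit false

noncomputable section

namespace Groth.Agent.Helper8.DispExt2

open W4c1extbt610 Module
open Groth.Agent.Helper8.DispPow

universe u v w

section Tw

/-- type synonym carrying the `σ`-twisted scalar action -/
def Tw {A : Type*} [CommRing A] (_σ : A →+* A) (N : Type*) : Type _ := N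

variable {A : Type*} [CommRing A] (σ : A →+* A)

variable {N : Type*} [AddCommGroup N] [Module A N]

instance : AddCommGroup (Tw σ N) := inferInstanceAs (AddCommGroup N)

instance : SMul A (Tw σ N) := ⟨fun a x => (σ a • (id x : N) : N)⟩

instance : Module A (Tw σ N) where
  one_smul x := by
    show (σ 1 • (id x : N) : N) = id x
    rw [map_one, one_smul]
    rfl
  mul_smul a b x := by
    show (σ (a * b) • (id x : N) : N) = σ a • (σ b • (id x : N) : N)
    rw [map_mul, mul_smul]
  smul_zero a := by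
    show (σ a • (0 : N) : N) = 0
    rw [smul_zero]
  smul_add a x y := by
    show (σ a • ((id x : N) + (id y : N)) : N) = σ a • (id x : N) + σ a • (id y : N)
    rw [smul_add]
  add_smul a b x := by
    show (σ (a + b) • (id x : N) : N) = σ a • (id x : N) + σ b • (id x : N)
    rw [map_add, add_smul]
  zero_smul x := by
    show (σ 0 • (id x : N) : N) = 0
    rw [map_zero, zero_smul]

variable {M : Type*} [AddCommGroup M] [Module A M]

/-- the alternating map `x ↦ g x₁ ∧ ⋯ ∧ g x_r` into the twisted exterior power -/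
def twAlt (g : M →ₛₗ[σ] N) (r : ℕ) : M [⋀^Fin r]→ₗ[A] Tw σ (⋀[A]^r N) where
  toFun x := (exteriorPower.ιMulti A r (fun i => g (x i)) : ⋀[A]^r N)
  map_update_add' := by
    intro _ m i x y
    have h : ∀ z : M, (fun j => g (Function.update m i z j)) =
        Function.update (fun j => g (m j)) i (g z) := fun z => by
      funext j
      by_cases hj : j = i
      · subst hj; rw [Function.update_self, Function.update_self]
      · rw [Function.update_of_ne hj, Function.update_of_ne hj]
    show (exteriorPower.ιMulti A r (fun j => g (Function.update m i (x + y) j)) : ⋀[A]^r N) =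
      exteriorPower.ιMulti A r (fun j => g (Function.update m i x j)) +
      exteriorPower.ιMulti A r (fun j => g (Function.update m i y j))
    rw [h, h, h, map_add, AlternatingMap.map_update_add]
  map_update_smul' := by
    intro _ m i c x
    have h : ∀ z : M, (fun j => g (Function.update m i z j)) =
        Function.update (fun j => g (m j)) i (g z) := fun z => by
      funext j
      by_cases hj : j = i
      · subst hj; rw [Function.update_self, Function.update_self]
      · rw [Function.update_of_ne hj, Function.update_of_ne hj]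
    show (exteriorPower.ιMulti A r (fun j => g (Function.update m i (c • x) j)) : ⋀[A]^r N) =
      σ c • exteriorPower.ιMulti A r (fun j => g (Function.update m i x j))
    rw [h, h, LinearMap.map_smulₛₗ, AlternatingMap.map_update_smul]
  map_eq_zero_of_eq' := by
    intro v i j hv hij
    show (exteriorPower.ιMulti A r (fun k => g (v k)) : ⋀[A]^r N) = 0
    exact AlternatingMap.map_eq_zero_of_eq _ _ (by show g (v i) = g (v j); rw [hv]) hij

/-- the semilinear map induced on exterior powers by a semilinear map -/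
def extPowSemi (g : M →ₛₗ[σ] N) (r : ℕ) : ⋀[A]^r M →ₛₗ[σ] ⋀[A]^r N where
  toFun z := exteriorPower.alternatingMapLinearEquiv (twAlt σ g r) z
  map_add' z z' := map_add (exteriorPower.alternatingMapLinearEquiv (twAlt σ g r)) z z'
  map_smul' c z := (exteriorPower.alternatingMapLinearEquiv (twAlt σ g r)).map_smul c z

theorem extPowSemi_ιMulti (g : M →ₛₗ[σ] N) (r : ℕ) (x : Fin r → M) :
    extPowSemi σ g r (exteriorPower.ιMulti A r x) =
      exteriorPower.ιMulti A r (fun i => g (x i)) :=
  exteriorPower.alternatingMapLinearEquiv_apply_ιMulti (twAlt σ g r) x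

end Tw

section Expand

variable {A : Type*} [CommRing A] {M : Type*} [AddCommGroup M] [Module A M]
  {N : Type*} [AddCommGroup N] [Module A N] {r : ℕ}

theorem alt_update_update_eq_zero (f : M [⋀^Fin r]→ₗ[A] N) (l : Fin r → M) (t : M)
    {i j : Fin r} (hij : i ≠ j) :
    f (Function.update (Function.update l i t) j t) = 0 := by
  refine f.map_eq_zero_of_eq (Function.update (Function.update l i t) j t) ?_ hij
  rw [Function.update_self, Function.update_of_ne hij, Function.update_self]

theorem alt_expand_aux (f : M [⋀^Fin r]→ₗ[A] N) (c : Fin r → A) (t : M) (s : Finset (Fin r)) :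
    ∀ l : Fin r → M, f (fun i => if i ∈ s then l i + c i • t else l i) =
      f l + ∑ i ∈ s, c i • f (Function.update l i t) := by
  induction s using Finset.induction_on with
  | empty =>
    intro l
    simp
  | insert a s ha ih =>
    intro l
    have h1 : (fun i => if i ∈ insert a s then l i + c i • t else l i) =
        Function.update (fun i => if i ∈ s then l i + c i • t else l i) a (l a + c a • t) := by
      funext i
      by_cases hi : i = a
      · subst hi
        rw [Function.update_self, if_pos (Finset.mem_insert_self _ _)]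
      · rw [Function.update_of_ne hi]
        simp only [Finset.mem_insert, hi, false_or]
    have h2 : Function.update (fun i => if i ∈ s then l i + c i • t else l i) a (l a) =
        (fun i => if i ∈ s then l i + c i • t else l i) := by
      funext i
      by_cases hi : i = a
      · subst hi
        rw [Function.update_self, if_neg ha]
      · rw [Function.update_of_ne hi]
    have h3 : Function.update (fun i => if i ∈ s then l i + c i • t else l i) a t =
        (fun i => if i ∈ s then Function.update l a t i + c i • t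
          else Function.update l a t i) := by
      funext i
      by_cases hi : i = a
      · subst hi
        rw [Function.update_self, if_neg ha, Function.update_self]
      · rw [Function.update_of_ne hi, Function.update_of_ne hi]
    have h4 : ∑ i ∈ s, c i • f (Function.update (Function.update l a t) i t) = 0 := by
      refine Finset.sum_eq_zero fun i hi => ?_
      have hia : a ≠ i := fun h => ha (h ▸ hi)
      rw [alt_update_update_eq_zero f l t hia, smul_zero]
    rw [h1, f.map_update_add, f.map_update_smul, h2, h3, ih l, ih (Function.update l a t), h4,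
      add_zero, Finset.sum_insert ha]
    abel

theorem alt_expand (f : M [⋀^Fin r]→ₗ[A] N) (l : Fin r → M) (c : Fin r → A) (t : M) :
    f (fun i => l i + c i • t) = f l + ∑ i, c i • f (Function.update l i t) := by
  have h := alt_expand_aux f c t Finset.univ l
  simpa using h

end Expand

section Constr

variable {p : ℕ} [Fact p.Prime] {R : Type u} [CommRing R]
variable {P : Type v} [AddCommGroup P] [Module (WittVector p R) P]

local notation "σR" => (WittVector.frobenius : WittVector p R →+* WittVector p R)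
local notation "WR" => WittVector p R

theorem exists_coord (L T : Submodule WR P) (hLT : IsCompl L T) (t₀ : P)
    (hT : ∀ t ∈ T, ∃ c : WR, t = c • t₀) (x : P) :
    ∃ c : WR, x = L.projection T hLT x + c • t₀ := by
  obtain ⟨c, hc⟩ := hT _ (Submodule.projection_apply_mem hLT.symm x)
  refine ⟨c, ?_⟩
  rw [← hc]
  exact (Submodule.projection_add_projection_eq_self hLT x).symm

theorem exists_coord_Q (D : Display3n p R P) (L T : Submodule WR P) (hLT : IsCompl L T)
    (hQ : D.Q = L ⊔ IV p R • T) (t₀ : P)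
    (hT : ∀ t ∈ T, ∃ c : WR, t = c • t₀) (q : P) (hq : q ∈ D.Q) :
    ∃ b : WR, q = L.projection T hLT q + WittVector.verschiebung b • t₀ := by
  rw [hQ] at hq
  obtain ⟨l, hl, s, hs, rfl⟩ := Submodule.mem_sup.mp hq
  have hsT : s ∈ T := Submodule.smul_le_right hs
  have h1 : L.projection T hLT l = l := Submodule.projection_apply_left hLT ⟨l, hl⟩
  have h2 : L.projection T hLT s = 0 := Submodule.projection_apply_right hLT ⟨s, hsT⟩
  have h3 : ∃ b : WR, s = WittVector.verschiebung b • t₀ := by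
    refine Submodule.smul_induction_on
      (p := fun s => ∃ b : WR, s = WittVector.verschiebung b • t₀) hs ?_ ?_
    · intro a ha t ht
      obtain ⟨w', rfl⟩ := (mem_IV_iff a).mp ha
      obtain ⟨c, rfl⟩ := hT t ht
      refine ⟨w' * σR c, ?_⟩
      rw [WittVector.verschiebung_mul_frobenius, mul_smul]
    · rintro _ _ ⟨b, rfl⟩ ⟨b', rfl⟩
      exact ⟨b + b', by rw [map_add, add_smul]⟩
  obtain ⟨b, hb⟩ := h3
  exact ⟨b, by rw [map_add, h1, h2, add_zero, ← hb]⟩

/-- the distinguished submodule of the exterior power -/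
def QE (D : Display3n p R P) (r : ℕ) : Submodule WR (⋀[WR]^r P) :=
  Submodule.span WR
    (Set.range fun q : Fin r → D.Q => exteriorPower.ιMulti WR r (fun i => (q i : P)))

theorem ιMulti_mem_QE (D : Display3n p R P) (r : ℕ) (x : Fin r → P) (hx : ∀ i, x i ∈ D.Q) :
    exteriorPower.ιMulti WR r x ∈ QE D r :=
  Submodule.subset_span ⟨fun i => ⟨x i, hx i⟩, rfl⟩

/-- the projection onto the `L`-part of the exterior power -/
def eL (L T : Submodule WR P) (hLT : IsCompl L T) (r : ℕ) : ⋀[WR]^r P →ₗ[WR] ⋀[WR]^r P :=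
  exteriorPower.map r (L.projection T hLT)

theorem eL_ιMulti (L T : Submodule WR P) (hLT : IsCompl L T) (r : ℕ) (x : Fin r → P) :
    eL L T hLT r (exteriorPower.ιMulti WR r x) =
      exteriorPower.ιMulti WR r (fun i => L.projection T hLT (x i)) :=
  exteriorPower.map_apply_ιMulti _ _

theorem eL_eL (L T : Submodule WR P) (hLT : IsCompl L T) (r : ℕ) (z : ⋀[WR]^r P) :
    eL L T hLT r (eL L T hLT r z) = eL L T hLT r z := by
  have h : (L.projection T hLT) ∘ₗ (L.projection T hLT) = L.projection T hLT := by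
    apply LinearMap.ext; intro x
    exact Submodule.projection_apply_left hLT ⟨_, Submodule.projection_apply_mem hLT x⟩
  show (exteriorPower.map r (L.projection T hLT) ∘ₗ exteriorPower.map r (L.projection T hLT)) z
    = _
  rw [← exteriorPower.map_comp, h]
  rfl

/-- the complementary projection -/
def eT (L T : Submodule WR P) (hLT : IsCompl L T) (r : ℕ) : ⋀[WR]^r P →ₗ[WR] ⋀[WR]^r P :=
  LinearMap.id - eL L T hLT r

theorem eT_apply (L T : Submodule WR P) (hLT : IsCompl L T) (r : ℕ) (z : ⋀[WR]^r P) :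
    eT L T hLT r z = z - eL L T hLT r z := rfl

theorem ιMulti_expand (L T : Submodule WR P) (hLT : IsCompl L T) (t₀ : P)
    (hT : ∀ t ∈ T, ∃ c : WR, t = c • t₀) (r : ℕ) (x : Fin r → P) :
    ∃ c : Fin r → WR, (∀ i, x i = L.projection T hLT (x i) + c i • t₀) ∧
      exteriorPower.ιMulti WR r x =
        exteriorPower.ιMulti WR r (fun i => L.projection T hLT (x i)) +
        ∑ i, c i • exteriorPower.ιMulti WR r
          (Function.update (fun j => L.projection T hLT (x j)) i t₀) := by
  choose c hc using fun i => exists_coord L T hLT t₀ hT (x i)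
  refine ⟨c, hc, ?_⟩
  have h := alt_expand (exteriorPower.ιMulti WR r) (fun i => L.projection T hLT (x i)) c t₀
  have h2 : (fun i => L.projection T hLT (x i) + c i • t₀) = x := funext fun i => (hc i).symm
  rw [h2] at h
  exact h

theorem ιMulti_expand_Q (D : Display3n p R P) (L T : Submodule WR P) (hLT : IsCompl L T)
    (hQ : D.Q = L ⊔ IV p R • T) (t₀ : P)
    (hT : ∀ t ∈ T, ∃ c : WR, t = c • t₀) (r : ℕ) (x : Fin r → P) (hx : ∀ i, x i ∈ D.Q) :
    ∃ b : Fin r → WR,
      (∀ i, x i = L.projection T hLT (x i) + WittVector.verschiebung (b i) • t₀) ∧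
      exteriorPower.ιMulti WR r x =
        exteriorPower.ιMulti WR r (fun i => L.projection T hLT (x i)) +
        ∑ i, WittVector.verschiebung (b i) • exteriorPower.ιMulti WR r
          (Function.update (fun j => L.projection T hLT (x j)) i t₀) := by
  choose b hb using fun i => exists_coord_Q D L T hLT hQ t₀ hT (x i) (hx i)
  refine ⟨b, hb, ?_⟩
  have h := alt_expand (exteriorPower.ιMulti WR r) (fun i => L.projection T hLT (x i))
    (fun i => WittVector.verschiebung (b i)) t₀
  have h2 : (fun i => L.projection T hLT (x i) + WittVector.verschiebung (b i) • t₀) = x :=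
    funext fun i => (hb i).symm
  rw [h2] at h
  exact h

theorem IV_smul_ιMulti_mem (D : Display3n p R P) (L T : Submodule WR P) (hLT : IsCompl L T)
    (hLQ : L ≤ D.Q) (t₀ : P) (hT : ∀ t ∈ T, ∃ c : WR, t = c • t₀) (r : ℕ)
    (a : WR) (ha : a ∈ IV p R) (x : Fin r → P) :
    a • exteriorPower.ιMulti WR r x ∈ QE D r := by
  obtain ⟨c, -, hx⟩ := ιMulti_expand L T hLT t₀ hT r x
  rw [hx, smul_add, Finset.smul_sum]
  refine Submodule.add_mem _ (Submodule.smul_mem _ _ ?_) (Submodule.sum_mem _ fun i _ => ?_)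
  · exact ιMulti_mem_QE D r _ fun i => hLQ (Submodule.projection_apply_mem hLT (x i))
  · rw [smul_comm, ← (exteriorPower.ιMulti WR r).map_update_smul]
    refine Submodule.smul_mem _ _ (ιMulti_mem_QE D r _ fun j => ?_)
    by_cases hj : j = i
    · subst hj
      rw [Function.update_self]
      exact D.IV_smul_le (Submodule.smul_mem_smul ha Submodule.mem_top)
    · rw [Function.update_of_ne hj]
      exact hLQ (Submodule.projection_apply_mem hLT (x j))

theorem IV_smul_le_QE (D : Display3n p R P) (L T : Submodule WR P) (hLT : IsCompl L T)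
    (hLQ : L ≤ D.Q) (t₀ : P) (hT : ∀ t ∈ T, ∃ c : WR, t = c • t₀) (r : ℕ) :
    IV p R • (⊤ : Submodule WR (⋀[WR]^r P)) ≤ QE D r := by
  rw [Submodule.smul_le]
  intro a ha z _
  have hz : z ∈ Submodule.span WR (Set.range (exteriorPower.ιMulti WR r (M := P))) := by
    rw [exteriorPower.ιMulti_span]; trivial
  refine Submodule.span_induction (p := fun z _ => a • z ∈ QE D r) ?_ ?_ ?_ ?_ hz
  · rintro _ ⟨x, rfl⟩
    exact IV_smul_ιMulti_mem D L T hLT hLQ t₀ hT r a ha x
  · rw [smul_zero]; exact Submodule.zero_mem _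
  · intro x y _ _ hx hy
    rw [smul_add]; exact Submodule.add_mem _ hx hy
  · intro c x _ hx
    rw [smul_comm]; exact Submodule.smul_mem _ _ hx

theorem sub_eL_mem (D : Display3n p R P) (L T : Submodule WR P) (hLT : IsCompl L T)
    (hQ : D.Q = L ⊔ IV p R • T) (t₀ : P) (hT : ∀ t ∈ T, ∃ c : WR, t = c • t₀) (r : ℕ)
    (z : ⋀[WR]^r P) (hz : z ∈ QE D r) :
    z - eL L T hLT r z ∈ IV p R • (⊤ : Submodule WR (⋀[WR]^r P)) := by
  have hz' : z ∈ Submodule.span WR
      (Set.range fun q : Fin r → D.Q => exteriorPower.ιMulti WR r (fun i => (q i : P))) := hz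
  refine Submodule.span_induction
    (p := fun z _ => z - eL L T hLT r z ∈ IV p R • (⊤ : Submodule WR (⋀[WR]^r P)))
    ?_ ?_ ?_ ?_ hz'
  · rintro _ ⟨q, rfl⟩
    obtain ⟨b, -, hx⟩ := ιMulti_expand_Q D L T hLT hQ t₀ hT r (fun i => (q i : P))
      (fun i => (q i).2)
    have h1 : exteriorPower.ιMulti WR r (fun i => (q i : P)) -
        eL L T hLT r (exteriorPower.ιMulti WR r (fun i => (q i : P))) =
        ∑ i, WittVector.verschiebung (b i) • exteriorPower.ιMulti WR r
          (Function.update (fun j => L.projection T hLT (q j : P)) i t₀) := by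
      rw [eL_ιMulti]
      exact sub_eq_of_eq_add' hx
    rw [h1]
    exact Submodule.sum_mem _ fun i _ =>
      Submodule.smul_mem_smul (verschiebung_mem_IV p R _) Submodule.mem_top
  · rw [map_zero, sub_zero]; exact Submodule.zero_mem _
  · intro a b _ _ ha hb
    rw [map_add, add_sub_add_comm]; exact Submodule.add_mem _ ha hb
  · intro c a _ ha
    rw [map_smul, ← smul_sub]; exact Submodule.smul_mem _ _ ha

/-- the Frobenius-semilinear map `⋀^r (V⁻¹ pr_L + F pr_T)` -/
def PhiE (D : Display3n p R P) (L T : Submodule WR P) (hLT : IsCompl L T) (hLQ : L ≤ D.Q)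
    (r : ℕ) : ⋀[WR]^r P →ₛₗ[σR] ⋀[WR]^r P :=
  extPowSemi σR (gMap D L T hLT hLQ) r

theorem PhiE_ιMulti (D : Display3n p R P) (L T : Submodule WR P) (hLT : IsCompl L T)
    (hLQ : L ≤ D.Q) (r : ℕ) (x : Fin r → P) :
    PhiE D L T hLT hLQ r (exteriorPower.ιMulti WR r x) =
      exteriorPower.ιMulti WR r (fun i => gMap D L T hLT hLQ (x i)) :=
  extPowSemi_ιMulti σR _ r x

/-- the operator `F` of the exterior power -/
def FE (D : Display3n p R P) (L T : Submodule WR P) (hLT : IsCompl L T) (hLQ : L ≤ D.Q)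
    (r : ℕ) : ⋀[WR]^r P →ₛₗ[σR] ⋀[WR]^r P :=
  (PhiE D L T hLT hLQ r).comp
    ((p : WR) • eL L T hLT r + (eT L T hLT r))

theorem FE_apply (D : Display3n p R P) (L T : Submodule WR P) (hLT : IsCompl L T)
    (hLQ : L ≤ D.Q) (r : ℕ) (z : ⋀[WR]^r P) :
    FE D L T hLT hLQ r z =
      PhiE D L T hLT hLQ r ((p : WR) • eL L T hLT r z + (z - eL L T hLT r z)) := rfl

/-- the operator `V⁻¹` of the exterior power -/
def VinvE (D : Display3n p R P) (L T : Submodule WR P) (hLT : IsCompl L T)
    (hQ : D.Q = L ⊔ IV p R • T) (hLQ : L ≤ D.Q) (t₀ : P)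
    (hT : ∀ t ∈ T, ∃ c : WR, t = c • t₀) (r : ℕ) {n : ℕ}
    (ι : ⋀[WittVector p R]^r P →ₗ[WittVector p R] (Fin n → WittVector p R))
    (ρ : (Fin n → WittVector p R) →ₗ[WittVector p R] ⋀[WittVector p R]^r P) :
    (QE D r) →ₛₗ[σR] ⋀[WR]^r P :=
  (PhiE D L T hLT hLQ r).comp ((eL L T hLT r).comp (Submodule.subtype _)) +
    (divMap (PhiE D L T hLT hLQ r) ι ρ).comp
      (LinearMap.codRestrict (IV p R • (⊤ : Submodule WR (⋀[WR]^r P)))
        ((eT L T hLT r).comp (Submodule.subtype _))
        (fun z => sub_eL_mem D L T hLT hQ t₀ hT r z.1 z.2))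

theorem VinvE_apply (D : Display3n p R P) (L T : Submodule WR P) (hLT : IsCompl L T)
    (hQ : D.Q = L ⊔ IV p R • T) (hLQ : L ≤ D.Q) (t₀ : P)
    (hT : ∀ t ∈ T, ∃ c : WR, t = c • t₀) (r : ℕ) {n : ℕ}
    (ι : ⋀[WittVector p R]^r P →ₗ[WittVector p R] (Fin n → WittVector p R))
    (ρ : (Fin n → WittVector p R) →ₗ[WittVector p R] ⋀[WittVector p R]^r P)
    (z : ⋀[WR]^r P) (hz : z ∈ QE D r) :
    VinvE D L T hLT hQ hLQ t₀ hT r ι ρ ⟨z, hz⟩ =
      PhiE D L T hLT hLQ r (eL L T hLT r z) +
        divMap (PhiE D L T hLT hLQ r) ι ρ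
          ⟨z - eL L T hLT r z, sub_eL_mem D L T hLT hQ t₀ hT r z hz⟩ := rfl

theorem VinvE_verschiebung_smul (D : Display3n p R P) (L T : Submodule WR P)
    (hLT : IsCompl L T)
    (hQ : D.Q = L ⊔ IV p R • T) (hLQ : L ≤ D.Q) (t₀ : P)
    (hT : ∀ t ∈ T, ∃ c : WR, t = c • t₀) (r : ℕ) {n : ℕ}
    (ι : ⋀[WittVector p R]^r P →ₗ[WittVector p R] (Fin n → WittVector p R))
    (ρ : (Fin n → WittVector p R) →ₗ[WittVector p R] ⋀[WittVector p R]^r P)
    (hρι : ∀ m, ρ (ι m) = m) (w' : WR) (z : ⋀[WR]^r P)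
    (h : WittVector.verschiebung w' • z ∈ QE D r) :
    VinvE D L T hLT hQ hLQ t₀ hT r ι ρ ⟨WittVector.verschiebung w' • z, h⟩ =
      w' • FE D L T hLT hLQ r z := by
  rw [VinvE_apply, FE_apply]
  have h1 : (⟨WittVector.verschiebung w' • z - eL L T hLT r (WittVector.verschiebung w' • z),
      sub_eL_mem D L T hLT hQ t₀ hT r _ h⟩ :
      (IV p R • (⊤ : Submodule WR (⋀[WR]^r P)) : Submodule WR (⋀[WR]^r P))) =
      ⟨WittVector.verschiebung w' • (z - eL L T hLT r z),
        Submodule.smul_mem_smul (verschiebung_mem_IV p R w') Submodule.mem_top⟩ :=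
    Subtype.ext (show (WittVector.verschiebung w' • z -
      eL L T hLT r (WittVector.verschiebung w' • z) : ⋀[WR]^r P) =
      WittVector.verschiebung w' • (z - eL L T hLT r z) by rw [map_smul, smul_sub])
  have e1 : PhiE D L T hLT hLQ r (eL L T hLT r (WittVector.verschiebung w' • z)) =
      (w' * (p : WR)) • PhiE D L T hLT hLQ r (eL L T hLT r z) := by
    rw [map_smul, LinearMap.map_smulₛₗ, WittVector.frobenius_verschiebung]
  have e2 : PhiE D L T hLT hLQ r ((p : WR) • eL L T hLT r z + (z - eL L T hLT r z)) =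
      (p : WR) • PhiE D L T hLT hLQ r (eL L T hLT r z) +
        PhiE D L T hLT hLQ r (z - eL L T hLT r z) := by
    rw [map_add, LinearMap.map_smulₛₗ, map_natCast]
  rw [h1, divMap_verschiebung_smul _ ι ρ hρι, e1, e2, smul_add, smul_smul]

theorem Vinv_decomp (D : Display3n p R P) (L : Submodule WR P) (hLQ : L ≤ D.Q) (t₀ : P)
    (l : P) (hl : l ∈ L) (b : WR) (q : D.Q)
    (hq : (q : P) = l + WittVector.verschiebung b • t₀) :
    D.Vinv q = D.Vinv ⟨l, hLQ hl⟩ + b • D.F t₀ := by
  have h1 : q = ⟨l, hLQ hl⟩ + ⟨WittVector.verschiebung b • t₀,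
      D.IV_smul_le (Submodule.smul_mem_smul (verschiebung_mem_IV p R b) Submodule.mem_top)⟩ :=
    Subtype.ext hq
  rw [h1, map_add, D.Vinv_verschiebung_smul]

theorem VinvE_ιMulti (D : Display3n p R P) (L T : Submodule WR P)
    (hLT : IsCompl L T)
    (hQ : D.Q = L ⊔ IV p R • T) (hLQ : L ≤ D.Q) (t₀ : P) (ht₀ : t₀ ∈ T)
    (hT : ∀ t ∈ T, ∃ c : WR, t = c • t₀) (r : ℕ) {n : ℕ}
    (ι : ⋀[WittVector p R]^r P →ₗ[WittVector p R] (Fin n → WittVector p R))
    (ρ : (Fin n → WittVector p R) →ₗ[WittVector p R] ⋀[WittVector p R]^r P)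
    (hρι : ∀ m, ρ (ι m) = m) (q : Fin r → D.Q)
    (h : exteriorPower.ιMulti WR r (fun i => (q i : P)) ∈ QE D r) :
    VinvE D L T hLT hQ hLQ t₀ hT r ι ρ ⟨_, h⟩ =
      exteriorPower.ιMulti WR r (fun i => D.Vinv (q i)) := by
  obtain ⟨b, hb, hx⟩ := ιMulti_expand_Q D L T hLT hQ t₀ hT r (fun i => (q i : P))
    (fun i => (q i).2)
  have hlL : ∀ i, L.projection T hLT (q i : P) ∈ L :=
    fun i => Submodule.projection_apply_mem hLT _
  have hV : ∀ i, D.Vinv (q i) =
      D.Vinv ⟨L.projection T hLT (q i : P), hLQ (hlL i)⟩ + b i • D.F t₀ :=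
    fun i => Vinv_decomp D L hLQ t₀ _ (hlL i) (b i) (q i) (hb i)
  have hR : exteriorPower.ιMulti WR r (fun i => D.Vinv (q i)) =
      exteriorPower.ιMulti WR r
        (fun i => D.Vinv ⟨L.projection T hLT (q i : P), hLQ (hlL i)⟩) +
      ∑ i, b i • exteriorPower.ιMulti WR r
        (Function.update (fun j => D.Vinv ⟨L.projection T hLT (q j : P), hLQ (hlL j)⟩) i
          (D.F t₀)) :=
    (congrArg (fun v => exteriorPower.ιMulti WR r v) (funext hV)).trans
      (alt_expand (exteriorPower.ιMulti WR r)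
        (fun i => D.Vinv ⟨L.projection T hLT (q i : P), hLQ (hlL i)⟩) b (D.F t₀))
  rw [hR, VinvE_apply]
  have e1 : PhiE D L T hLT hLQ r
      (eL L T hLT r (exteriorPower.ιMulti WR r (fun i => (q i : P)))) =
      exteriorPower.ιMulti WR r
        (fun i => D.Vinv ⟨L.projection T hLT (q i : P), hLQ (hlL i)⟩) := by
    rw [eL_ιMulti, PhiE_ιMulti]
    exact congrArg (fun v => exteriorPower.ιMulti WR r v)
      (funext fun i => gMap_L D L T hLT hLQ _ (hlL i))
  have e2 : (⟨exteriorPower.ιMulti WR r (fun i => (q i : P)) -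
        eL L T hLT r (exteriorPower.ιMulti WR r (fun i => (q i : P))),
      sub_eL_mem D L T hLT hQ t₀ hT r _ h⟩ :
      (IV p R • (⊤ : Submodule WR (⋀[WR]^r P)) : Submodule WR (⋀[WR]^r P))) =
      ∑ i, ⟨WittVector.verschiebung (b i) • exteriorPower.ιMulti WR r
          (Function.update (fun j => L.projection T hLT (q j : P)) i t₀),
        Submodule.smul_mem_smul (verschiebung_mem_IV p R (b i)) Submodule.mem_top⟩ := by
    apply Subtype.ext
    rw [Submodule.coe_sum]
    show exteriorPower.ιMulti WR r (fun i => (q i : P)) -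
        eL L T hLT r (exteriorPower.ιMulti WR r (fun i => (q i : P))) =
      ∑ i, WittVector.verschiebung (b i) • exteriorPower.ιMulti WR r
          (Function.update (fun j => L.projection T hLT (q j : P)) i t₀)
    rw [eL_ιMulti]
    exact sub_eq_of_eq_add' hx
  rw [e1, e2, map_sum]
  refine congrArg _ (Finset.sum_congr rfl fun i _ => ?_)
  rw [divMap_verschiebung_smul _ ι ρ hρι, PhiE_ιMulti]
  refine congrArg (fun v => b i • exteriorPower.ιMulti WR r v) (funext fun j => ?_)
  by_cases hj : j = i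
  · subst hj
    rw [Function.update_self, Function.update_self]
    exact gMap_T D L T hLT hLQ t₀ ht₀
  · rw [Function.update_of_ne hj, Function.update_of_ne hj]
    exact gMap_L D L T hLT hLQ _ (hlL j)

theorem span_range_VinvE (D : Display3n p R P) (L T : Submodule WR P)
    (hLT : IsCompl L T)
    (hQ : D.Q = L ⊔ IV p R • T) (hLQ : L ≤ D.Q) (t₀ : P) (ht₀ : t₀ ∈ T)
    (hT : ∀ t ∈ T, ∃ c : WR, t = c • t₀) (r : ℕ) {n : ℕ}
    (ι : ⋀[WittVector p R]^r P →ₗ[WittVector p R] (Fin n → WittVector p R))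
    (ρ : (Fin n → WittVector p R) →ₗ[WittVector p R] ⋀[WittVector p R]^r P)
    (hρι : ∀ m, ρ (ι m) = m) :
    Submodule.span WR (Set.range (VinvE D L T hLT hQ hLQ t₀ hT r ι ρ)) = ⊤ := by
  have h := exteriorPower.ιMulti_span_of_span WR r P D.span_range_Vinv
  rw [eq_top_iff, ← h]
  apply Submodule.span_mono
  rintro _ ⟨a, ha, rfl⟩
  choose q hq using fun i => ha (Set.mem_range_self i)
  have hm : exteriorPower.ιMulti WR r (fun i => (q i : P)) ∈ QE D r :=
    ιMulti_mem_QE D r _ fun i => (q i).2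
  refine ⟨⟨_, hm⟩, ?_⟩
  rw [VinvE_ιMulti D L T hLT hQ hLQ t₀ ht₀ hT r ι ρ hρι q hm]
  exact congrArg (fun v => exteriorPower.ιMulti WR r v) (funext hq)

theorem isCompl_ranges (L T : Submodule WR P) (hLT : IsCompl L T) (r : ℕ) :
    IsCompl (LinearMap.range (eL L T hLT r))
      (LinearMap.range (eT L T hLT r)) := by
  have hidem : IsIdempotentElem (eL L T hLT r) := by
    apply LinearMap.ext; intro z
    rw [Module.End.mul_apply]
    exact eL_eL L T hLT r z
  have hker : LinearMap.ker (eL L T hLT r) =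
      LinearMap.range (eT L T hLT r) := by
    apply le_antisymm
    · intro z hz
      refine ⟨z, ?_⟩
      rw [eT_apply, LinearMap.mem_ker.mp hz, sub_zero]
    · rintro _ ⟨z, rfl⟩
      rw [LinearMap.mem_ker, eT_apply, map_sub, eL_eL, sub_self]
  rw [← hker]
  exact LinearMap.IsIdempotentElem.isCompl hidem

theorem QE_eq_sup (D : Display3n p R P) (L T : Submodule WR P) (hLT : IsCompl L T)
    (hQ : D.Q = L ⊔ IV p R • T) (hLQ : L ≤ D.Q) (t₀ : P)
    (hT : ∀ t ∈ T, ∃ c : WR, t = c • t₀) (r : ℕ) :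
    QE D r = LinearMap.range (eL L T hLT r) ⊔
      IV p R • LinearMap.range (eT L T hLT r) := by
  apply le_antisymm
  · intro z hz
    have h1 := sub_eL_mem D L T hLT hQ t₀ hT r z hz
    have h2 : z - eL L T hLT r z ∈
        IV p R • LinearMap.range (eT L T hLT r) := by
      have h3 : (eT L T hLT r) (z - eL L T hLT r z) ∈
          (IV p R • (⊤ : Submodule WR (⋀[WR]^r P))).map (eT L T hLT r) :=
        Submodule.mem_map_of_mem h1
      rw [Submodule.map_smul'', Submodule.map_top] at h3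
      have h4 : (eT L T hLT r) (z - eL L T hLT r z) = z - eL L T hLT r z := by
        rw [eT_apply, map_sub, eL_eL, sub_self, sub_zero]
      rw [h4] at h3
      exact h3
    have h6 := Submodule.add_mem_sup (LinearMap.mem_range_self (eL L T hLT r) z) h2
    have h7 : eL L T hLT r z + (z - eL L T hLT r z) = z := by abel
    rw [h7] at h6
    exact h6
  · apply sup_le
    · rintro _ ⟨z, rfl⟩
      have hz : z ∈ Submodule.span WR (Set.range (exteriorPower.ιMulti WR r (M := P))) := by
        rw [exteriorPower.ιMulti_span]; trivial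
      refine Submodule.span_induction (p := fun z _ => eL L T hLT r z ∈ QE D r) ?_ ?_ ?_ ?_ hz
      · rintro _ ⟨x, rfl⟩
        rw [eL_ιMulti]
        exact ιMulti_mem_QE D r _ fun i => hLQ (Submodule.projection_apply_mem hLT (x i))
      · rw [map_zero]; exact Submodule.zero_mem _
      · intro x y _ _ hx hy
        rw [map_add]; exact Submodule.add_mem _ hx hy
      · intro c x _ hx
        rw [map_smul]; exact Submodule.smul_mem _ _ hx
    · exact (Submodule.smul_mono le_rfl le_top).trans (IV_smul_le_QE D L T hLT hLQ t₀ hT r)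

theorem extPow_projective [Module.Finite WR P] [Module.Projective WR P] (r : ℕ) :
    Module.Projective WR (⋀[WR]^r P) := by
  obtain ⟨n, f, g, -, -, hfg⟩ := Module.Finite.exists_comp_eq_id_of_projective WR P
  have h : exteriorPower.map r f ∘ₗ exteriorPower.map r g = LinearMap.id := by
    rw [← exteriorPower.map_comp, hfg, exteriorPower.map_id]
  exact Module.Projective.of_split (exteriorPower.map r g) (exteriorPower.map r f) h

theorem exists_extPow (D : Display3n p R P) (L T : Submodule WR P) (hLT : IsCompl L T)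
    (hQ : D.Q = L ⊔ IV p R • T) (t₀ : P) (ht₀ : t₀ ∈ T)
    (hT : ∀ t ∈ T, ∃ c : WR, t = c • t₀) (r : ℕ) :
    ∃ E : Display3n p R (⋀[WR]^r P), IsExtPow D r E := by
  have hLQ : L ≤ D.Q := by rw [hQ]; exact le_sup_left
  have := D.finite
  have := D.projective
  have hprojE : Module.Projective WR (⋀[WR]^r P) := extPow_projective r
  obtain ⟨n, ρ, ι, -, -, hρι0⟩ :=
    Module.Finite.exists_comp_eq_id_of_projective WR (⋀[WR]^r P)
  have hρι : ∀ m, ρ (ι m) = m := fun m => by
    have := LinearMap.congr_fun hρι0 m; simpa using this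
  refine ⟨{ Q := QE D r
            F := FE D L T hLT hLQ r
            Vinv := VinvE D L T hLT hQ hLQ t₀ hT r ι ρ
            finite := inferInstance
            projective := hprojE
            IV_smul_le := IV_smul_le_QE D L T hLT hLQ t₀ hT r
            exists_normal := ⟨_, _, isCompl_ranges L T hLT r, QE_eq_sup D L T hLT hQ hLQ t₀ hT r⟩
            span_range_Vinv := span_range_VinvE D L T hLT hQ hLQ t₀ ht₀ hT r ι ρ hρι
            Vinv_verschiebung_smul := fun w' x =>
              VinvE_verschiebung_smul D L T hLT hQ hLQ t₀ hT r ι ρ hρι w' x _ }, ?_⟩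
  exact And.intro rfl
    (fun q hq => VinvE_ιMulti D L T hLT hQ hLQ t₀ ht₀ hT r ι ρ hρι q hq)

theorem extPow_Vinv_eq (D : Display3n p R P) (r : ℕ) (E E' : Display3n p R (⋀[WR]^r P))
    (hE : IsExtPow D r E) (hE' : IsExtPow D r E') (z : ⋀[WR]^r P)
    (h1 : z ∈ E'.Q) (h2 : z ∈ E.Q) : E'.Vinv ⟨z, h1⟩ = E.Vinv ⟨z, h2⟩ := by
  have hz : z ∈ Submodule.span WR
      (Set.range fun q : Fin r → D.Q => exteriorPower.ιMulti WR r (fun i => (q i : P))) := by
    rw [← hE.1]; exact h2
  have key : ∃ (h1 : z ∈ E'.Q) (h2 : z ∈ E.Q), E'.Vinv ⟨z, h1⟩ = E.Vinv ⟨z, h2⟩ := by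
    refine Submodule.span_induction
      (p := fun z _ => ∃ (h1 : z ∈ E'.Q) (h2 : z ∈ E.Q), E'.Vinv ⟨z, h1⟩ = E.Vinv ⟨z, h2⟩)
      ?_ ?_ ?_ ?_ hz
    · rintro _ ⟨q, rfl⟩
      have m1 : exteriorPower.ιMulti WR r (fun i => (q i : P)) ∈ E'.Q := by
        rw [hE'.1]; exact Submodule.subset_span ⟨q, rfl⟩
      have m2 : exteriorPower.ιMulti WR r (fun i => (q i : P)) ∈ E.Q := by
        rw [hE.1]; exact Submodule.subset_span ⟨q, rfl⟩
      exact ⟨m1, m2, (hE'.2 q m1).trans (hE.2 q m2).symm⟩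
    · refine ⟨E'.Q.zero_mem, E.Q.zero_mem, ?_⟩
      have e1 : (⟨0, E'.Q.zero_mem⟩ : E'.Q) = 0 := rfl
      have e2 : (⟨0, E.Q.zero_mem⟩ : E.Q) = 0 := rfl
      rw [e1, e2, map_zero, map_zero]
    · rintro a b _ _ ⟨ha1, ha2, ea⟩ ⟨hb1, hb2, eb⟩
      refine ⟨E'.Q.add_mem ha1 hb1, E.Q.add_mem ha2 hb2, ?_⟩
      have e1 : (⟨a + b, E'.Q.add_mem ha1 hb1⟩ : E'.Q) = ⟨a, ha1⟩ + ⟨b, hb1⟩ := rfl
      have e2 : (⟨a + b, E.Q.add_mem ha2 hb2⟩ : E.Q) = ⟨a, ha2⟩ + ⟨b, hb2⟩ := rfl
      rw [e1, e2, map_add, map_add, ea, eb]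
    · rintro c a _ ⟨ha1, ha2, ea⟩
      refine ⟨E'.Q.smul_mem c ha1, E.Q.smul_mem c ha2, ?_⟩
      have e1 : (⟨c • a, E'.Q.smul_mem c ha1⟩ : E'.Q) = c • ⟨a, ha1⟩ := rfl
      have e2 : (⟨c • a, E.Q.smul_mem c ha2⟩ : E.Q) = c • ⟨a, ha2⟩ := rfl
      rw [e1, e2, LinearMap.map_smulₛₗ, LinearMap.map_smulₛₗ, ea]
  obtain ⟨_, _, e⟩ := key
  exact e

theorem extPow_unique (D : Display3n p R P) (r : ℕ) (E E' : Display3n p R (⋀[WR]^r P))
    (hE : IsExtPow D r E) (hE' : IsExtPow D r E') : E' = E := by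
  apply display_ext
  · rw [hE'.1, hE.1]
  · apply LinearMap.ext; intro x
    have h1 := E'.Vinv_verschiebung_smul 1 x
    have h2 := E.Vinv_verschiebung_smul 1 x
    rw [one_smul] at h1 h2
    rw [← h1, ← h2]
    exact extPow_Vinv_eq D r E E' hE hE' _ _ _
  · exact fun z h1 h2 => extPow_Vinv_eq D r E E' hE hE' z h1 h2

theorem existsUnique_extPow (D : Display3n p R P)
    (hT : ∃ L T : Submodule WR P, IsCompl L T ∧ D.Q = L ⊔ IV p R • T ∧
      Nonempty (T ≃ₗ[WR] WR)) (r : ℕ) :
    ∃ E : Display3n p R (⋀[WR]^r P), IsExtPow D r E ∧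
      ∀ E' : Display3n p R (⋀[WR]^r P), IsExtPow D r E' → E' = E := by
  obtain ⟨L, T, hLT, hQ, ⟨e⟩⟩ := hT
  have hT' : ∀ t ∈ T, ∃ c : WR, t = c • ((e.symm 1 : T) : P) := by
    intro t ht
    refine ⟨e ⟨t, ht⟩, ?_⟩
    have h1 : (⟨t, ht⟩ : T) = e ⟨t, ht⟩ • e.symm 1 := by
      apply e.injective
      rw [map_smul, e.apply_symm_apply, smul_eq_mul, mul_one]
    exact congrArg Subtype.val h1
  obtain ⟨E, hE⟩ := exists_extPow D L T hLT hQ ((e.symm 1 : T) : P) (e.symm 1).2 hT' r
  exact ⟨E, hE, fun E' hE' => extPow_unique D r E E' hE hE'⟩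

end Constr

section Univ

variable {p : ℕ} [Fact p.Prime] {R : Type u} [CommRing R]
variable {P : Type v} [AddCommGroup P] [Module (WittVector p R) P]

local notation "WR" => WittVector p R

theorem isAltMult_ιMulti (D : Display3n p R P) (r : ℕ) (E : Display3n p R (⋀[WR]^r P))
    (hE : IsExtPow D r E) : IsAltMult D E (exteriorPower.ιMulti WR r) := by
  have hmem : ∀ q : Fin r → D.Q, exteriorPower.ιMulti WR r (fun i => (q i : P)) ∈ E.Q :=
    fun q => by rw [hE.1]; exact Submodule.subset_span ⟨q, rfl⟩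
  refine ⟨hmem, fun q => hE.2 q (hmem q), fun i x q => ?_⟩
  have h1 := E.Vinv_verschiebung_smul 1
    (exteriorPower.ιMulti WR r (Function.update (fun j => (q j : P)) i x))
  rw [one_smul] at h1
  rw [← h1]
  have hx : WittVector.verschiebung (1 : WR) • x ∈ D.Q :=
    D.IV_smul_le (Submodule.smul_mem_smul (verschiebung_mem_IV p R 1) Submodule.mem_top)
  obtain ⟨q', hq'⟩ : ∃ q' : Fin r → D.Q,
      q' = Function.update q i ⟨WittVector.verschiebung (1 : WR) • x, hx⟩ := ⟨_, rfl⟩
  have h2 : WittVector.verschiebung (1 : WR) •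
      exteriorPower.ιMulti WR r (Function.update (fun j => (q j : P)) i x) =
      exteriorPower.ιMulti WR r (fun j => (q' j : P)) := by
    rw [← (exteriorPower.ιMulti WR r).map_update_smul]
    refine congrArg (fun v => exteriorPower.ιMulti WR r v) (funext fun j => ?_)
    rw [hq']
    by_cases hj : j = i
    · subst hj
      rw [Function.update_self, Function.update_self]
    · rw [Function.update_of_ne hj, Function.update_of_ne hj]
  have h3 : (⟨WittVector.verschiebung (1 : WR) •
        exteriorPower.ιMulti WR r (Function.update (fun j => (q j : P)) i x),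
      E.IV_smul_le (Submodule.smul_mem_smul (verschiebung_mem_IV p R 1) Submodule.mem_top)⟩ :
      E.Q) = ⟨exteriorPower.ιMulti WR r (fun j => (q' j : P)), hmem q'⟩ := Subtype.ext h2
  rw [h3, hE.2 q' (hmem q')]
  refine congrArg (fun v => exteriorPower.ιMulti WR r v) (funext fun j => ?_)
  rw [hq']
  by_cases hj : j = i
  · subst hj
    rw [Function.update_self, Function.update_self]
    exact (D.Vinv_verschiebung_smul 1 x).trans (one_smul _ _)
  · rw [Function.update_of_ne hj, Function.update_of_ne hj]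

theorem extPow_universal (D : Display3n p R P) (r : ℕ) (E : Display3n p R (⋀[WR]^r P))
    (hE : IsExtPow D r E) {P' : Type w} [AddCommGroup P'] [Module WR P']
    (D' : Display3n p R P') (φ : P [⋀^Fin r]→ₗ[WR] P') (hφ : IsAltMult D D' φ) :
    ∃! ψ : ⋀[WR]^r P →ₗ[WR] P',
      IsHom E D' ψ ∧ ψ.compAlternatingMap (exteriorPower.ιMulti WR r) = φ := by
  obtain ⟨ψ, hψ⟩ : ∃ ψ : ⋀[WR]^r P →ₗ[WR] P', ψ = exteriorPower.alternatingMapLinearEquiv φ :=
    ⟨_, rfl⟩
  have hψι : ∀ x, ψ (exteriorPower.ιMulti WR r x) = φ x := fun x => by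
    rw [hψ]; exact exteriorPower.alternatingMapLinearEquiv_apply_ιMulti φ x
  have hcomp : ψ.compAlternatingMap (exteriorPower.ιMulti WR r) = φ := by
    rw [hψ]; exact exteriorPower.alternatingMapLinearEquiv_comp_ιMulti φ
  have key : ∀ z (hz : z ∈ E.Q), ∃ h : ψ z ∈ D'.Q, ψ (E.Vinv ⟨z, hz⟩) = D'.Vinv ⟨ψ z, h⟩ := by
    intro z hz
    have hz' : z ∈ Submodule.span WR
        (Set.range fun q : Fin r → D.Q => exteriorPower.ιMulti WR r (fun i => (q i : P))) := by
      rw [← hE.1]; exact hz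
    have h0 : ∃ (hz : z ∈ E.Q) (h : ψ z ∈ D'.Q), ψ (E.Vinv ⟨z, hz⟩) = D'.Vinv ⟨ψ z, h⟩ := by
      refine Submodule.span_induction
        (p := fun z _ => ∃ (hz : z ∈ E.Q) (h : ψ z ∈ D'.Q),
          ψ (E.Vinv ⟨z, hz⟩) = D'.Vinv ⟨ψ z, h⟩) ?_ ?_ ?_ ?_ hz'
      · rintro _ ⟨q, rfl⟩
        have m : exteriorPower.ιMulti WR r (fun i => (q i : P)) ∈ E.Q := by
          rw [hE.1]; exact Submodule.subset_span ⟨q, rfl⟩
        have h' : ψ (exteriorPower.ιMulti WR r (fun i => (q i : P))) ∈ D'.Q := by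
          rw [hψι]; exact hφ.mapsTo q
        refine ⟨m, h', ?_⟩
        have e1 : (⟨ψ (exteriorPower.ιMulti WR r (fun i => (q i : P))), h'⟩ : D'.Q) =
            ⟨φ (fun i => (q i : P)), hφ.mapsTo q⟩ := Subtype.ext (hψι _)
        rw [hE.2 q m, hψι, e1, hφ.vCond q]
      · refine ⟨E.Q.zero_mem, by rw [map_zero]; exact D'.Q.zero_mem, ?_⟩
        have e1 : (⟨0, E.Q.zero_mem⟩ : E.Q) = 0 := rfl
        have e2 : (⟨ψ 0, by rw [map_zero]; exact D'.Q.zero_mem⟩ : D'.Q) = 0 :=
          Subtype.ext (map_zero ψ)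
        rw [e1, e2, map_zero, map_zero, map_zero]
      · rintro a b _ _ ⟨ha1, ha2, ea⟩ ⟨hb1, hb2, eb⟩
        have hab : ψ (a + b) ∈ D'.Q := by rw [map_add]; exact D'.Q.add_mem ha2 hb2
        refine ⟨E.Q.add_mem ha1 hb1, hab, ?_⟩
        have e1 : (⟨a + b, E.Q.add_mem ha1 hb1⟩ : E.Q) = ⟨a, ha1⟩ + ⟨b, hb1⟩ := rfl
        have e2 : (⟨ψ (a + b), hab⟩ : D'.Q) = ⟨ψ a, ha2⟩ + ⟨ψ b, hb2⟩ :=
          Subtype.ext (map_add ψ a b)
        rw [e1, e2, map_add, map_add, map_add, ea, eb]
      · rintro c a _ ⟨ha1, ha2, ea⟩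
        have hca : ψ (c • a) ∈ D'.Q := by rw [map_smul]; exact D'.Q.smul_mem c ha2
        refine ⟨E.Q.smul_mem c ha1, hca, ?_⟩
        have e1 : (⟨c • a, E.Q.smul_mem c ha1⟩ : E.Q) = c • ⟨a, ha1⟩ := rfl
        have e2 : (⟨ψ (c • a), hca⟩ : D'.Q) = c • ⟨ψ a, ha2⟩ :=
          Subtype.ext (map_smul ψ c a)
        rw [e1, e2, E.Vinv.map_smulₛₗ, D'.Vinv.map_smulₛₗ, map_smul, ea]
    obtain ⟨_, h, e⟩ := h0
    exact ⟨h, e⟩
  refine ⟨ψ, ⟨⟨fun q hq => (key q hq).fst, ?_, fun q => (key q.1 q.2).snd⟩, hcomp⟩, ?_⟩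
  · intro x
    have h1 := E.Vinv_verschiebung_smul 1 x
    rw [one_smul] at h1
    have h2 := D'.Vinv_verschiebung_smul 1 (ψ x)
    rw [one_smul] at h2
    rw [← h1, ← h2]
    obtain ⟨h, e⟩ := key _
      (E.IV_smul_le (Submodule.smul_mem_smul (verschiebung_mem_IV p R 1) Submodule.mem_top))
    rw [e]
    exact congrArg D'.Vinv (Subtype.ext (map_smul ψ _ x))
  · rintro ψ' ⟨-, h⟩
    exact exteriorPower.linearMap_ext (h.trans hcomp.symm)

end Univ

end Groth.Agent.Helper8.DispExt2
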