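import Mathlib
import Groth.Agent.Lib.Helper8.DispBCX1
import Groth.Agent.Lib.Helper6.WittTeich

set_option autoImplicit false

/-! Witt vectors with coefficients in a square-zero ideal killed by `p`. -/

namespace Groth.Agent.Helper8.DispInj

open W4c1extbt610 Groth.Agent.Helper8.DispPow

universe u

section Poly

variable {S : Type u} [CommRing S]

/-- evaluation of integer polynomials -/
noncomputable def ev {ι : Type} (g : ι → S) : MvPolynomial ι ℤ →+* S :=
  MvPolynomial.eval₂Hom (Int.castRingHom S) g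

theorem ev_C {ι : Type} (g : ι → S) (c : ℤ) : ev g (MvPolynomial.C c) = (c : S) := by
  simp [ev]

theorem ev_X {ι : Type} (g : ι → S) (i : ι) : ev g (MvPolynomial.X i) = g i := by
  simp [ev]

theorem ev_sub_mem (𝔟 : Ideal S) {ι : Type} (g g' : ι → S) (h : ∀ i, g i - g' i ∈ 𝔟)
    (T : MvPolynomial ι ℤ) : ev g T - ev g' T ∈ 𝔟 := by
  induction T using MvPolynomial.induction_on with
  | C c => rw [ev_C, ev_C, sub_self]; exact 𝔟.zero_mem
  | add a b ha hb =>
    rw [map_add, map_add, add_sub_add_comm]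
    exact 𝔟.add_mem ha hb
  | mul_X T i hT =>
    rw [map_mul, map_mul, ev_X, ev_X]
    have e : ev g T * g i - ev g' T * g' i =
        (ev g T - ev g' T) * g i + ev g' T * (g i - g' i) := by ring
    rw [e]
    exact 𝔟.add_mem (𝔟.mul_mem_right _ hT) (𝔟.mul_mem_left _ (h i))

theorem ev_mixed (𝔟 : Ideal S) (a b z : ℕ → S) (ha : ∀ i, a i ∈ 𝔟) (hb : ∀ i, b i ∈ 𝔟)
    (hz : ∀ i, z i = 0) (T : MvPolynomial (ℕ ⊕ ℕ) ℤ) :
    ev (Sum.elim a b) T - ev (Sum.elim z b) T - ev (Sum.elim a z) T + ev (Sum.elim z z) T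
      ∈ 𝔟 * 𝔟 := by
  induction T using MvPolynomial.induction_on with
  | C c =>
    rw [ev_C, ev_C, ev_C, ev_C]
    have e : ((c : S) - c - c + c) = 0 := by ring
    rw [e]
    exact Ideal.zero_mem _
  | add x y hx hy =>
    rw [map_add, map_add, map_add, map_add]
    convert (𝔟 * 𝔟).add_mem hx hy using 1
    ring
  | mul_X T i hT =>
    rw [map_mul, map_mul, map_mul, map_mul, ev_X, ev_X, ev_X, ev_X]
    rcases i with k | k
    · simp only [Sum.elim_inl, hz k, mul_zero, sub_zero, add_zero]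
      have h1 := ev_sub_mem 𝔟 (Sum.elim a b) (Sum.elim a z) (by
        rintro (j | j)
        · simp only [Sum.elim_inl, sub_self]; exact 𝔟.zero_mem
        · simp only [Sum.elim_inr, hz j, sub_zero]; exact hb j) T
      convert Ideal.mul_mem_mul h1 (ha k) using 1
      ring
    · simp only [Sum.elim_inr, hz k, mul_zero, sub_zero, add_zero]
      have h1 := ev_sub_mem 𝔟 (Sum.elim a b) (Sum.elim z b) (by
        rintro (j | j)
        · simp only [Sum.elim_inl, hz j, sub_zero]; exact ha j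
        · simp only [Sum.elim_inr, sub_self]; exact 𝔟.zero_mem) T
      convert Ideal.mul_mem_mul h1 (hb k) using 1
      ring

variable (p : ℕ) [Fact p.Prime]

/-- first universal Witt vector -/
noncomputable def X0 : WittVector p (MvPolynomial (ℕ ⊕ ℕ) ℤ) :=
  WittVector.mk p fun n => MvPolynomial.X (Sum.inl n)

/-- second universal Witt vector -/
noncomputable def X1 : WittVector p (MvPolynomial (ℕ ⊕ ℕ) ℤ) :=
  WittVector.mk p fun n => MvPolynomial.X (Sum.inr n)

theorem ev_coeff_add (a b : WittVector p S) (n : ℕ) :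
    ev (Sum.elim a.coeff b.coeff) ((X0 p + X1 p).coeff n) = (a + b).coeff n := by
  have ea : WittVector.map (ev (Sum.elim a.coeff b.coeff)) (X0 p) = a := by
    ext k
    rw [WittVector.map_coeff]
    show ev (Sum.elim a.coeff b.coeff) (MvPolynomial.X (Sum.inl k)) = _
    rw [ev_X, Sum.elim_inl]
  have eb : WittVector.map (ev (Sum.elim a.coeff b.coeff)) (X1 p) = b := by
    ext k
    rw [WittVector.map_coeff]
    show ev (Sum.elim a.coeff b.coeff) (MvPolynomial.X (Sum.inr k)) = _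
    rw [ev_X, Sum.elim_inr]
  rw [← WittVector.map_coeff, map_add, ea, eb]

theorem coeff_add_of_sq_zero (𝔟 : Ideal S) (h2 : 𝔟 * 𝔟 = ⊥) (a b : WittVector p S)
    (ha : ∀ n, a.coeff n ∈ 𝔟) (hb : ∀ n, b.coeff n ∈ 𝔟) (n : ℕ) :
    (a + b).coeff n = a.coeff n + b.coeff n := by
  have hm := ev_mixed 𝔟 a.coeff b.coeff (0 : WittVector p S).coeff ha hb
    (WittVector.zero_coeff p S) ((X0 p + X1 p).coeff n)
  rw [h2, Ideal.mem_bot, ev_coeff_add, ev_coeff_add, ev_coeff_add, ev_coeff_add, zero_add,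
    add_zero, add_zero, WittVector.zero_coeff] at hm
  linear_combination hm

end Poly

section WIdeal

variable (p : ℕ) [Fact p.Prime] {S : Type u} [CommRing S]

/-- Witt vectors with all coefficients in `𝔟` -/
noncomputable def WI (𝔟 : Ideal S) : Ideal (WittVector p S) :=
  RingHom.ker (WittVector.map (Ideal.Quotient.mk 𝔟) : WittVector p S →+* WittVector p (S ⧸ 𝔟))

variable {p}
variable {𝔟 : Ideal S}

theorem mem_WI_iff {a : WittVector p S} : a ∈ WI p 𝔟 ↔ ∀ n, a.coeff n ∈ 𝔟 := by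
  rw [WI, RingHom.mem_ker, WittVector.ext_iff]
  refine forall_congr' fun n => ?_
  rw [WittVector.map_coeff, WittVector.zero_coeff, Ideal.Quotient.eq_zero_iff_mem]

omit [Fact (Nat.Prime p)] in
theorem unV_coeff (x : WittVector p S) (n : ℕ) : (unV x).coeff n = x.coeff (n + 1) := rfl

theorem coeff_add_WI (h2 : 𝔟 * 𝔟 = ⊥) {a b : WittVector p S} (ha : a ∈ WI p 𝔟)
    (hb : b ∈ WI p 𝔟) (n : ℕ) : (a + b).coeff n = a.coeff n + b.coeff n :=
  coeff_add_of_sq_zero p 𝔟 h2 a b (mem_WI_iff.mp ha) (mem_WI_iff.mp hb) n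

theorem nsmul_coeff (h2 : 𝔟 * 𝔟 = ⊥) {a : WittVector p S} (ha : a ∈ WI p 𝔟) (k n : ℕ) :
    (k • a).coeff n = k • a.coeff n := by
  induction k with
  | zero => rw [zero_smul, zero_smul, WittVector.zero_coeff]
  | succ k ih =>
    rw [succ_nsmul, succ_nsmul, coeff_add_WI h2 (nsmul_mem ha k) ha, ih]

theorem p_mul_eq_zero (h2 : 𝔟 * 𝔟 = ⊥) (hpb : ∀ x ∈ 𝔟, (p : S) * x = 0)
    {a : WittVector p S} (ha : a ∈ WI p 𝔟) : (p : WittVector p S) * a = 0 := by
  rw [← nsmul_eq_mul]
  ext n
  rw [nsmul_coeff h2 ha, WittVector.zero_coeff, nsmul_eq_mul]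
  exact hpb _ (mem_WI_iff.mp ha n)

theorem unV_mem_WI {a : WittVector p S} (ha : a ∈ WI p 𝔟) : unV a ∈ WI p 𝔟 :=
  mem_WI_iff.mpr fun n => by rw [unV_coeff]; exact mem_WI_iff.mp ha (n + 1)

theorem teich_add_disjoint (v : S) (w : WittVector p S) (k : ℕ) :
    (WittVector.teichmuller p v).coeff k = 0 ∨ (WittVector.verschiebung w).coeff k = 0 := by
  cases k with
  | zero => exact Or.inr (WittVector.verschiebung_coeff_zero w)
  | succ k => exact Or.inl (WittVector.teichmuller_coeff_pos p v (k + 1) (Nat.succ_pos k))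

theorem eq_teich_add (x : WittVector p S) :
    x = WittVector.teichmuller p (x.coeff 0) + WittVector.verschiebung (unV x) := by
  ext n
  rw [WittVector.coeff_add_of_disjoint n _ _ (teich_add_disjoint _ _)]
  cases n with
  | zero => rw [WittVector.teichmuller_coeff_zero, WittVector.verschiebung_coeff_zero, add_zero]
  | succ k =>
    rw [WittVector.teichmuller_coeff_pos p _ (k + 1) (Nat.succ_pos k), zero_add,
      WittVector.verschiebung_coeff_succ, unV_coeff]

theorem unV_teich_add (v : S) (w : WittVector p S) :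
    unV (WittVector.teichmuller p v + WittVector.verschiebung w) = w := by
  ext n
  rw [unV_coeff, WittVector.coeff_add_of_disjoint (n + 1) _ _ (teich_add_disjoint _ _),
    WittVector.teichmuller_coeff_pos p v (n + 1) (Nat.succ_pos n), zero_add,
    WittVector.verschiebung_coeff_succ]

theorem unV_add (h2 : 𝔟 * 𝔟 = ⊥) {a b : WittVector p S} (ha : a ∈ WI p 𝔟) (hb : b ∈ WI p 𝔟) :
    unV (a + b) = unV a + unV b := by
  ext n
  rw [unV_coeff, coeff_add_WI h2 ha hb, coeff_add_WI h2 (unV_mem_WI ha) (unV_mem_WI hb),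
    unV_coeff, unV_coeff]

theorem sq_eq_zero (h2 : 𝔟 * 𝔟 = ⊥) {v : S} (hv : v ∈ 𝔟) : v * v = 0 := by
  have := Ideal.mul_mem_mul hv hv
  rwa [h2, Ideal.mem_bot] at this

theorem pow_eq_zero_of_two_le (h2 : 𝔟 * 𝔟 = ⊥) {v : S} (hv : v ∈ 𝔟) {m : ℕ} (hm : 2 ≤ m) :
    v ^ m = 0 :=
  pow_eq_zero_of_le hm (by rw [pow_two]; exact sq_eq_zero h2 hv)

theorem teich_mul (h2 : 𝔟 * 𝔟 = ⊥) (c : WittVector p S) {v : S} (hv : v ∈ 𝔟) :
    c * WittVector.teichmuller p v = WittVector.teichmuller p (c.coeff 0 * v) := by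
  ext j
  rw [Groth.Agent.Helper6.WittTeich.mul_teichmuller_coeff]
  cases j with
  | zero => rw [pow_zero, pow_one, WittVector.teichmuller_coeff_zero]
  | succ k =>
    rw [WittVector.teichmuller_coeff_pos p _ (k + 1) (Nat.succ_pos k),
      pow_eq_zero_of_two_le h2 hv
        ((Fact.out : p.Prime).two_le.trans (Nat.le_self_pow (Nat.succ_ne_zero k) p)), mul_zero]

theorem unV_mul (h2 : 𝔟 * 𝔟 = ⊥) (c : WittVector p S) {a : WittVector p S} (ha : a ∈ WI p 𝔟) :
    unV (c * a) = WittVector.frobenius c * unV a := by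
  have e : c * a = WittVector.teichmuller p (c.coeff 0 * a.coeff 0) +
      WittVector.verschiebung (WittVector.frobenius c * unV a) := by
    conv_lhs => rw [eq_teich_add a]
    rw [mul_add, teich_mul h2 c (mem_WI_iff.mp ha 0), mul_comm c (WittVector.verschiebung _),
      ← WittVector.verschiebung_mul_frobenius, mul_comm (unV a) (WittVector.frobenius c)]
  rw [e, unV_teich_add]

theorem verschiebung_inj {x y : WittVector p S}
    (h : WittVector.verschiebung x = WittVector.verschiebung y) : x = y := by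
  rw [← unV_verschiebung x, ← unV_verschiebung y, h]

theorem frobenius_eq_zero (h2 : 𝔟 * 𝔟 = ⊥) (hpb : ∀ x ∈ 𝔟, (p : S) * x = 0)
    {a : WittVector p S} (ha : a ∈ WI p 𝔟) : WittVector.frobenius a = 0 := by
  apply verschiebung_inj
  have e1 : WittVector.verschiebung (WittVector.frobenius a) =
      WittVector.verschiebung (1 : WittVector p S) * a := by
    rw [← WittVector.verschiebung_mul_frobenius, one_mul]
  rw [e1, map_zero]
  conv_lhs => rw [eq_teich_add a]
  rw [mul_add, teich_mul h2 _ (mem_WI_iff.mp ha 0), WittVector.verschiebung_coeff_zero, zero_mul,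
    WittVector.teichmuller_zero, zero_add, ← WittVector.verschiebung_mul_frobenius, one_mul,
    WittVector.frobenius_verschiebung, mul_comm, p_mul_eq_zero h2 hpb (unV_mem_WI ha), map_zero]

theorem mul_eq_zero_of_mem (h2 : 𝔟 * 𝔟 = ⊥) (hpb : ∀ x ∈ 𝔟, (p : S) * x = 0)
    {u a : WittVector p S} (hu : u ∈ IV p S ⊔ Ideal.span {(p : WittVector p S)})
    (ha : a ∈ WI p 𝔟) : u * a = 0 := by
  obtain ⟨v, hv, c, hc, rfl⟩ := Submodule.mem_sup.mp hu
  obtain ⟨w, rfl⟩ := (mem_IV_iff v).mp hv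
  obtain ⟨d, rfl⟩ := Ideal.mem_span_singleton'.mp hc
  rw [add_mul, mul_assoc, p_mul_eq_zero h2 hpb ha, mul_zero, add_zero,
    ← WittVector.verschiebung_mul_frobenius, frobenius_eq_zero h2 hpb ha, mul_zero, map_zero]

end WIdeal

end Groth.Agent.Helper8.DispInj
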