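import Mathlib
import Groth.Agent.Lib.Helper8.DispBCX2
import Groth.Agent.Lib.Helper8.DispInj1

set_option autoImplicit false

/-! The extension `τ` of `V⁻¹` to `W(𝔟) P'` and the base case of injectivity. -/

namespace Groth.Agent.Helper8.DispInj

open Dieu W4c1extbt610 Groth.Agent.Helper8.DispPow
open Groth.Agent.Helper9.AdicLim9 (mem_smul_top_pi map_mem_smul_top')

universe u v

section Tau

variable {p : ℕ} [Fact p.Prime] {S : Type u} [CommRing S]
variable {M : Type v} [AddCommGroup M] [Module (WittVector p S) M]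
variable {𝔟 : Ideal S}

local notation "σS" => (WittVector.frobenius : WittVector p S →+* WittVector p S)

variable (Fm : M →ₛₗ[(WittVector.frobenius : WittVector p S →+* WittVector p S)] M) {r : ℕ}
  (ι : M →ₗ[WittVector p S] (Fin r → WittVector p S))
  (ρ : (Fin r → WittVector p S) →ₗ[WittVector p S] M)

theorem coord_mem_WI (y : M) (hy : y ∈ WI p 𝔟 • (⊤ : Submodule (WittVector p S) M))
    (j : Fin r) : ι y j ∈ WI p 𝔟 :=
  (mem_smul_top_pi _ _).mp (map_mem_smul_top' _ ι hy) j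

theorem tau_mem (y : M) (hy : y ∈ WI p 𝔟 • (⊤ : Submodule (WittVector p S) M)) :
    divFun Fm ι ρ y ∈ WI p 𝔟 • (⊤ : Submodule (WittVector p S) M) := by
  show ∑ j, unV (ι y j) • Fm (ρ (stdE j)) ∈ _
  exact Submodule.sum_mem _ fun j _ =>
    Submodule.smul_mem_smul (unV_mem_WI (coord_mem_WI ι y hy j)) Submodule.mem_top

theorem tau_add (h2 : 𝔟 * 𝔟 = ⊥) (y y' : M)
    (hy : y ∈ WI p 𝔟 • (⊤ : Submodule (WittVector p S) M))
    (hy' : y' ∈ WI p 𝔟 • (⊤ : Submodule (WittVector p S) M)) :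
    divFun Fm ι ρ (y + y') = divFun Fm ι ρ y + divFun Fm ι ρ y' := by
  show ∑ j, unV (ι (y + y') j) • Fm (ρ (stdE j)) =
    ∑ j, unV (ι y j) • Fm (ρ (stdE j)) + ∑ j, unV (ι y' j) • Fm (ρ (stdE j))
  rw [← Finset.sum_add_distrib]
  refine Finset.sum_congr rfl fun j _ => ?_
  rw [← add_smul, map_add, Pi.add_apply,
    unV_add h2 (coord_mem_WI ι y hy j) (coord_mem_WI ι y' hy' j)]

theorem tau_smul (h2 : 𝔟 * 𝔟 = ⊥) (c : WittVector p S) (y : M)
    (hy : y ∈ WI p 𝔟 • (⊤ : Submodule (WittVector p S) M)) :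
    divFun Fm ι ρ (c • y) = σS c • divFun Fm ι ρ y := by
  show ∑ j, unV (ι (c • y) j) • Fm (ρ (stdE j)) = σS c • ∑ j, unV (ι y j) • Fm (ρ (stdE j))
  rw [Finset.smul_sum]
  refine Finset.sum_congr rfl fun j _ => ?_
  rw [smul_smul, map_smul, Pi.smul_apply, smul_eq_mul, unV_mul h2 c (coord_mem_WI ι y hy j)]

theorem Fm_eq_sum (hρι : ∀ m, ρ (ι m) = m) (x : M) :
    Fm x = ∑ j, σS (ι x j) • Fm (ρ (stdE j)) := by
  conv_lhs => rw [← hρι x]
  rw [LinearMap.pi_apply_eq_sum_univ ρ (ι x), map_sum]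
  exact Finset.sum_congr rfl fun j _ => LinearMap.map_smulₛₗ _ _ _

theorem tau_smul_apply (h2 : 𝔟 * 𝔟 = ⊥) (hρι : ∀ m, ρ (ι m) = m) {a : WittVector p S}
    (ha : a ∈ WI p 𝔟) (x : M) : divFun Fm ι ρ (a • x) = unV a • Fm x := by
  rw [Fm_eq_sum Fm ι ρ hρι x, Finset.smul_sum]
  show ∑ j, unV (ι (a • x) j) • Fm (ρ (stdE j)) = _
  refine Finset.sum_congr rfl fun j _ => ?_
  rw [smul_smul, map_smul, Pi.smul_apply, smul_eq_mul, mul_comm a, unV_mul h2 _ ha,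
    mul_comm (unV a)]

theorem tau_zero (h2 : 𝔟 * 𝔟 = ⊥) : divFun Fm ι ρ (0 : M) = 0 := by
  have := tau_smul (𝔟 := 𝔟) Fm ι ρ h2 0 (0 : M) (Submodule.zero_mem _)
  rwa [smul_zero, map_zero, zero_smul] at this

theorem tauIt_mem (k : ℕ) (y : M) (hy : y ∈ WI p 𝔟 • (⊤ : Submodule (WittVector p S) M)) :
    (divFun Fm ι ρ)^[k] y ∈ WI p 𝔟 • (⊤ : Submodule (WittVector p S) M) := by
  induction k with
  | zero => exact hy
  | succ k ih => rw [Function.iterate_succ_apply']; exact tau_mem Fm ι ρ _ ih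

theorem tauIt_add (h2 : 𝔟 * 𝔟 = ⊥) (k : ℕ) (y y' : M)
    (hy : y ∈ WI p 𝔟 • (⊤ : Submodule (WittVector p S) M))
    (hy' : y' ∈ WI p 𝔟 • (⊤ : Submodule (WittVector p S) M)) :
    (divFun Fm ι ρ)^[k] (y + y') = (divFun Fm ι ρ)^[k] y + (divFun Fm ι ρ)^[k] y' := by
  induction k with
  | zero => rfl
  | succ k ih =>
    rw [Function.iterate_succ_apply', Function.iterate_succ_apply',
      Function.iterate_succ_apply', ih]
    exact tau_add Fm ι ρ h2 _ _ (tauIt_mem Fm ι ρ k y hy) (tauIt_mem Fm ι ρ k y' hy')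

theorem tauIt_smul (h2 : 𝔟 * 𝔟 = ⊥) (k : ℕ) (c : WittVector p S) (y : M)
    (hy : y ∈ WI p 𝔟 • (⊤ : Submodule (WittVector p S) M)) :
    (divFun Fm ι ρ)^[k] (c • y) = (σS ^ k) c • (divFun Fm ι ρ)^[k] y := by
  induction k with
  | zero => rw [pow_zero]; rfl
  | succ k ih =>
    rw [Function.iterate_succ_apply', Function.iterate_succ_apply', ih,
      tau_smul Fm ι ρ h2 _ _ (tauIt_mem Fm ι ρ k y hy), pow_succ']
    rfl

variable {P : Type v} [AddCommGroup P] [Module (WittVector p S) P]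

/-- `x ↦ τ^k (ψ x)` -/
noncomputable def theta (h2 : 𝔟 * 𝔟 = ⊥) (ψ : P →ₗ[WittVector p S] M)
    (hψN : ∀ x, ψ x ∈ WI p 𝔟 • (⊤ : Submodule (WittVector p S) M)) (k : ℕ) :
    P →ₛₗ[(σS ^ k)] M where
  toFun x := (divFun Fm ι ρ)^[k] (ψ x)
  map_add' x y := by
    show (divFun Fm ι ρ)^[k] (ψ (x + y)) =
      (divFun Fm ι ρ)^[k] (ψ x) + (divFun Fm ι ρ)^[k] (ψ y)
    rw [map_add]
    exact tauIt_add Fm ι ρ h2 k _ _ (hψN x) (hψN y)
  map_smul' c x := by
    show (divFun Fm ι ρ)^[k] (ψ (c • x)) = (σS ^ k) c • (divFun Fm ι ρ)^[k] (ψ x)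
    rw [map_smul]
    exact tauIt_smul Fm ι ρ h2 k c _ (hψN x)

theorem Lam_mem (h2 : 𝔟 * 𝔟 = ⊥) (ψ : P →ₗ[WittVector p S] M)
    (hψN : ∀ x, ψ x ∈ WI p 𝔟 • (⊤ : Submodule (WittVector p S) M)) (k : ℕ)
    (u : BC (σS ^ k) P) :
    BC.lift (σS ^ k) (theta Fm ι ρ h2 ψ hψN k) u ∈
      WI p 𝔟 • (⊤ : Submodule (WittVector p S) M) := by
  induction u using BC.induction_on (σS ^ k) with
  | zero => rw [map_zero]; exact Submodule.zero_mem _
  | tmul b x =>
    rw [BC.lift_tmul]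
    exact Submodule.smul_mem _ b (tauIt_mem Fm ι ρ k _ (hψN x))
  | add a b ha hb => rw [map_add]; exact Submodule.add_mem _ ha hb

theorem Lam_push (h2 : 𝔟 * 𝔟 = ⊥) (ψ : P →ₗ[WittVector p S] M)
    (hψN : ∀ x, ψ x ∈ WI p 𝔟 • (⊤ : Submodule (WittVector p S) M)) (n : ℕ)
    (u : BC (σS ^ (n + 1)) P) :
    BC.lift (σS ^ (n + 1 + 1)) (theta Fm ι ρ h2 ψ hψN (n + 1 + 1))
        (BC.castHom (comp_pow_eq_pow_succ σS (n + 1)) (BC.push (σS ^ (n + 1)) σS u)) =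
      divFun Fm ι ρ (BC.lift (σS ^ (n + 1)) (theta Fm ι ρ h2 ψ hψN (n + 1)) u) := by
  induction u using BC.induction_on (σS ^ (n + 1)) with
  | zero =>
    simp only [map_zero]
    exact (tau_zero (𝔟 := 𝔟) Fm ι ρ h2).symm
  | tmul b x =>
    rw [BC.push_tmul, BC.castHom_tmul, BC.lift_tmul, BC.lift_tmul]
    show σS b • (divFun Fm ι ρ)^[n + 1 + 1] (ψ x) =
      divFun Fm ι ρ (b • (divFun Fm ι ρ)^[n + 1] (ψ x))
    rw [tau_smul Fm ι ρ h2 b _ (tauIt_mem Fm ι ρ (n + 1) _ (hψN x))]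
    exact congrArg (fun t => σS b • t)
      (Function.iterate_succ_apply' (divFun Fm ι ρ) (n + 1) (ψ x))
  | add a b ha hb =>
    simp only [map_add]
    rw [ha, hb, tau_add Fm ι ρ h2 _ _ (Lam_mem Fm ι ρ h2 ψ hψN _ a)
      (Lam_mem Fm ι ρ h2 ψ hψN _ b)]

theorem smul_NN_eq_zero (h2 : 𝔟 * 𝔟 = ⊥) (hpb : ∀ x ∈ 𝔟, (p : S) * x = 0)
    {c : WittVector p S} (hc : c ∈ IV p S ⊔ Ideal.span {(p : WittVector p S)})
    (y : M) (hy : y ∈ WI p 𝔟 • (⊤ : Submodule (WittVector p S) M)) : c • y = 0 := by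
  refine Submodule.smul_induction_on hy ?_ ?_
  · intro a ha x _
    rw [smul_smul, mul_eq_zero_of_mem h2 hpb hc ha, zero_smul]
  · intro x y' hx hy'
    rw [smul_add, hx, hy', add_zero]

theorem Lam_kill (h2 : 𝔟 * 𝔟 = ⊥) (hpb : ∀ x ∈ 𝔟, (p : S) * x = 0)
    (ψ : P →ₗ[WittVector p S] M)
    (hψN : ∀ x, ψ x ∈ WI p 𝔟 • (⊤ : Submodule (WittVector p S) M)) (k : ℕ)
    (u : BC (σS ^ k) P)
    (hu : u ∈ (IV p S ⊔ Ideal.span {(p : WittVector p S)}) •
      (⊤ : Submodule (WittVector p S) (BC (σS ^ k) P))) :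
    BC.lift (σS ^ k) (theta Fm ι ρ h2 ψ hψN k) u = 0 := by
  refine Submodule.smul_induction_on hu ?_ ?_
  · intro c hc z _
    rw [map_smul]
    exact smul_NN_eq_zero h2 hpb hc _ (Lam_mem Fm ι ρ h2 ψ hψN k z)
  · intro x y hx hy
    rw [map_add, hx, hy, add_zero]

theorem semilin_zero_of_mem (h2 : 𝔟 * 𝔟 = ⊥) (hpb : ∀ x ∈ 𝔟, (p : S) * x = 0)
    (G : M →ₛₗ[σS] M) (y : M) (hy : y ∈ WI p 𝔟 • (⊤ : Submodule (WittVector p S) M)) :
    G y = 0 := by
  refine Submodule.smul_induction_on hy ?_ ?_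
  · intro a ha x _
    rw [LinearMap.map_smulₛₗ, frobenius_eq_zero h2 hpb ha, zero_smul]
  · intro x y' hx hy'
    rw [map_add, hx, hy', add_zero]

theorem Vinv_eq_divFun (hρι : ∀ m, ρ (ι m) = m) (D : Display3n p S M) (y : M)
    (hy : y ∈ IV p S • (⊤ : Submodule (WittVector p S) M)) :
    D.Vinv ⟨y, D.IV_smul_le hy⟩ = divFun D.F ι ρ y := by
  have e : (⟨y, D.IV_smul_le hy⟩ : D.Q) =
      ∑ j, (⟨WittVector.verschiebung (unV (ι y j)) • ρ (stdE j),
        D.IV_smul_le (Submodule.smul_mem_smul (verschiebung_mem_IV p S _)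
          Submodule.mem_top)⟩ : D.Q) := by
    apply Subtype.ext
    rw [Submodule.coe_sum]
    show y = ∑ j, WittVector.verschiebung (unV (ι y j)) • ρ (stdE j)
    conv_lhs => rw [← hρι y, LinearMap.pi_apply_eq_sum_univ ρ (ι y)]
    refine Finset.sum_congr rfl fun j _ => ?_
    obtain ⟨w, hw⟩ := (mem_IV_iff _).mp (coord_mem r ι y hy j)
    rw [hw, unV_verschiebung]
    rfl
  rw [e, map_sum]
  exact Finset.sum_congr rfl fun j _ => D.Vinv_verschiebung_smul _ _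

theorem tau_smul_Q (h2 : 𝔟 * 𝔟 = ⊥) (hpb : ∀ x ∈ 𝔟, (p : S) * x = 0)
    (hρι : ∀ m, ρ (ι m) = m) (D : Display3n p S M) {a : WittVector p S} (ha : a ∈ WI p 𝔟)
    (q : M) (hq : q ∈ D.Q) : divFun D.F ι ρ (a • q) = 0 := by
  rw [tau_smul_apply D.F ι ρ h2 hρι ha q, F_eq_p_smul_Vinv D q hq, smul_smul, mul_comm,
    p_mul_eq_zero h2 hpb (unV_mem_WI ha), zero_smul]

theorem tauL_zero (h2 : 𝔟 * 𝔟 = ⊥) (hpb : ∀ x ∈ 𝔟, (p : S) * x = 0)
    (hρι : ∀ m, ρ (ι m) = m) (D : Display3n p S M) (L T : Submodule (WittVector p S) M)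
    (hLT : IsCompl L T) (hLQ : L ≤ D.Q) (y : M)
    (hy : y ∈ WI p 𝔟 • (⊤ : Submodule (WittVector p S) M)) :
    divFun D.F ι ρ (L.projection T hLT y) = 0 := by
  refine Submodule.smul_induction_on'
    (p := fun y _ => divFun D.F ι ρ (L.projection T hLT y) = 0) hy ?_ ?_
  · intro a ha x _
    show divFun D.F ι ρ (L.projection T hLT (a • x)) = 0
    rw [map_smul]
    exact tau_smul_Q ι ρ h2 hpb hρι D ha _ (hLQ (Submodule.projection_apply_mem hLT x))
  · intro x hx y' hy' ex ey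
    show divFun D.F ι ρ (L.projection T hLT (x + y')) = 0
    rw [map_add, tau_add D.F ι ρ h2 _ _ (map_mem_smul_top' _ _ hx) (map_mem_smul_top' _ _ hy'),
      ex, ey, add_zero]

theorem tau_eq_Vinv (h2 : 𝔟 * 𝔟 = ⊥) (hpb : ∀ x ∈ 𝔟, (p : S) * x = 0)
    (hρι : ∀ m, ρ (ι m) = m) (D : Display3n p S M) (z : M)
    (hz : z ∈ WI p 𝔟 • (⊤ : Submodule (WittVector p S) M)) (hzQ : z ∈ D.Q) :
    D.Vinv ⟨z, hzQ⟩ = divFun D.F ι ρ z := by
  obtain ⟨L, T, hLT, hQ⟩ := D.exists_normal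
  have hLQ : L ≤ D.Q := by rw [hQ]; exact le_sup_left
  have hl : L.projection T hLT z ∈ L := Submodule.projection_apply_mem hLT z
  have ht : T.projection L hLT.symm z ∈ IV p S • (⊤ : Submodule (WittVector p S) M) :=
    projT_mem D L T hLT hQ z hzQ
  have hlN : L.projection T hLT z ∈ WI p 𝔟 • (⊤ : Submodule (WittVector p S) M) :=
    map_mem_smul_top' _ _ hz
  have htN : T.projection L hLT.symm z ∈ WI p 𝔟 • (⊤ : Submodule (WittVector p S) M) :=
    map_mem_smul_top' _ _ hz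
  have ez : z = L.projection T hLT z + T.projection L hLT.symm z :=
    (Submodule.projection_add_projection_eq_self hLT z).symm
  have e1 : (⟨z, hzQ⟩ : D.Q) =
      ⟨L.projection T hLT z, hLQ hl⟩ + ⟨T.projection L hLT.symm z, D.IV_smul_le ht⟩ :=
    Subtype.ext ez
  have e2 : D.Vinv ⟨L.projection T hLT z, hLQ hl⟩ = 0 := by
    rw [← gMap_L D L T hLT hLQ _ hl]
    exact semilin_zero_of_mem h2 hpb _ _ hlN
  have h0 : L.projection T hLT (L.projection T hLT z) = L.projection T hLT z :=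
    Submodule.projection_apply_left hLT ⟨_, hl⟩
  have e3 := tauL_zero ι ρ h2 hpb hρι D L T hLT hLQ _ hlN
  rw [h0] at e3
  have e4 : divFun D.F ι ρ z =
      divFun D.F ι ρ (L.projection T hLT z) + divFun D.F ι ρ (T.projection L hLT.symm z) := by
    rw [← tau_add D.F ι ρ h2 _ _ hlN htN, ← ez]
  rw [e1, map_add, e2, zero_add, Vinv_eq_divFun ι ρ hρι D _ ht, e4, e3, zero_add]

end Tau

section Base

variable {p : ℕ} [Fact p.Prime] {S : Type u} [CommRing S]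
variable {P : Type v} [AddCommGroup P] [Module (WittVector p S) P]
variable {M : Type v} [AddCommGroup M] [Module (WittVector p S) M]
variable {𝔟 : Ideal S}

local notation "σS" => (WittVector.frobenius : WittVector p S →+* WittVector p S)

theorem base_case (h2 : 𝔟 * 𝔟 = ⊥) (hpb : ∀ x ∈ 𝔟, (p : S) * x = 0)
    (D : Display3n p S P) (D' : Display3n p S M) (hD : IsDisplay D)
    (ψ : P →ₗ[WittVector p S] M) (hψ : IsHom D D' ψ)
    (hψN : ∀ x, ψ x ∈ WI p 𝔟 • (⊤ : Submodule (WittVector p S) M)) : ψ = 0 := by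
  obtain ⟨Vs, hVs, n₀, hn₀⟩ := hD
  have := D'.finite
  have := D'.projective
  obtain ⟨r, ρ, ι, -, -, hρι0⟩ :=
    Module.Finite.exists_comp_eq_id_of_projective (WittVector p S) M
  have hρι : ∀ m, ρ (ι m) = m := fun m => by
    have := LinearMap.congr_fun hρι0 m; simpa using this
  have hV : ∀ y : D.Q, ψ (D.Vinv y) = divFun D'.F ι ρ (ψ y) := by
    intro y
    rw [hψ.comm_Vinv y]
    exact tau_eq_Vinv ι ρ h2 hpb hρι D' _ (hψN y) _
  have key : ∀ n, ψ = (BC.lift (σS ^ (n + 1)) (theta D'.F ι ρ h2 ψ hψN (n + 1))).comp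
      (vSharpPow Vs n) := by
    intro n
    induction n with
    | zero =>
      refine LinearMap.ext_on D.span_range_Vinv ?_
      rintro _ ⟨y, rfl⟩
      have h1 := hVs.app_smul_Vinv 1 y
      rw [one_smul] at h1
      rw [LinearMap.comp_apply, vSharpPow_zero_apply, h1, BC.castHom_tmul, BC.lift_tmul,
        one_smul, hV y]
      rfl
    | succ n ih =>
      refine LinearMap.ext_on D.span_range_Vinv ?_
      rintro _ ⟨y, rfl⟩
      have h1 := hVs.app_smul_Vinv 1 y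
      rw [one_smul] at h1
      rw [LinearMap.comp_apply, vSharpPow_succ_apply, h1, BC.map_tmul, BC.lift_tmul, one_smul,
        Lam_push D'.F ι ρ h2 ψ hψN n, hV y]
      congr 1
      exact LinearMap.congr_fun ih y
  apply LinearMap.ext
  intro x
  rw [LinearMap.congr_fun (key n₀) x, LinearMap.comp_apply]
  exact Lam_kill D'.F ι ρ h2 hpb ψ hψN _ _ (hn₀ x)

end Base

end Groth.Agent.Helper8.DispInj
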