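import Mathlib
import Groth.Agent.Lib.Helper8.DispInj2

set_option autoImplicit false

/-! Injectivity of base change on homomorphisms of displays (nilpotent kernel). -/

namespace Groth.Agent.Helper8.DispInj

open Dieu W4c1extbt610 Groth.Agent.Helper8.DispPow

universe u v

section General

theorem mem_of_tmul_eq_zero {A B : Type u} [CommRing A] [CommRing B] (g : A →+* B)
    {M : Type v} [AddCommGroup M] [Module A M] [Module.Finite A M] [Module.Projective A M]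
    (x : M) (hx : BC.tmul g 1 x = 0) : x ∈ RingHom.ker g • (⊤ : Submodule A M) := by
  obtain ⟨r, ρ, ι, -, -, hρι0⟩ := Module.Finite.exists_comp_eq_id_of_projective A M
  have hρι : ρ (ι x) = x := by
    have := LinearMap.congr_fun hρι0 x; simpa using this
  have hj : ∀ j, ι x j ∈ RingHom.ker g := by
    intro j
    let φ : M →ₛₗ[g] B := (semilinearOfRingHom g).comp ((LinearMap.proj j).comp ι)
    have h1 : BC.lift g φ (BC.tmul g 1 x) = g (ι x j) := by
      rw [BC.lift_tmul, one_smul]; rfl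
    rw [hx, map_zero] at h1
    exact h1.symm
  rw [← hρι, LinearMap.pi_apply_eq_sum_univ ρ (ι x)]
  exact Submodule.sum_mem _ fun j _ => Submodule.smul_mem_smul (hj j) Submodule.mem_top

end General

section BCHom

variable {p : ℕ} [Fact p.Prime] {S R : Type u} [CommRing S] [CommRing R] (f : S →+* R)
variable {P : Type v} [AddCommGroup P] [Module (WittVector p S) P]
variable {P' : Type v} [AddCommGroup P'] [Module (WittVector p S) P']

local notation "φf" => (WittVector.map f : WittVector p S →+* WittVector p R)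

theorem isHom_bcMap (D : Display3n p S P) (D' : Display3n p S P')
    (DR : Display3n p R (BC (WittVector.map f : WittVector p S →+* WittVector p R) P))
    (DR' : Display3n p R (BC (WittVector.map f : WittVector p S →+* WittVector p R) P'))
    (hDR : IsDispBaseChange f D DR) (hDR' : IsDispBaseChange f D' DR')
    (ψ : P →ₗ[WittVector p S] P') (hψ : IsHom D D' ψ) :
    IsHom DR DR' (BC.map φf ψ) := by
  have hmaps : ∀ q, q ∈ DR.Q → BC.map φf ψ q ∈ DR'.Q := by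
    intro q hq
    rw [hDR.Q_eq] at hq
    rw [hDR'.Q_eq]
    refine ker_induction f D.Q
      (fun z => BC.map φf ψ z ∈ LinearMap.ker (bcQuotMap f D'.Q)) ?_ ?_ ?_ ?_ q hq
    · show BC.map φf ψ 0 ∈ _
      rw [map_zero]; exact Submodule.zero_mem _
    · intro a b ha hb
      show BC.map φf ψ (a + b) ∈ _
      rw [map_add]; exact Submodule.add_mem _ ha hb
    · intro w q hq
      show BC.map φf ψ (BC.tmul φf w q) ∈ _
      rw [BC.map_tmul]; exact tmul_mem_ker f D'.Q w _ (hψ.mapsTo q hq)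
    · intro w x
      show BC.map φf ψ (BC.tmul φf (WittVector.verschiebung w) x) ∈ _
      rw [BC.map_tmul]; exact vtmul_mem_ker f D'.Q w _
  have hC : ∀ z, z ∈ LinearMap.ker (bcQuotMap f D.Q) →
      ∃ (h1 : z ∈ DR.Q) (h2 : BC.map φf ψ z ∈ DR'.Q),
        BC.map φf ψ (DR.Vinv ⟨z, h1⟩) = DR'.Vinv ⟨BC.map φf ψ z, h2⟩ := by
    intro z hz
    refine ker_induction f D.Q
      (fun z => ∃ (h1 : z ∈ DR.Q) (h2 : BC.map φf ψ z ∈ DR'.Q),
        BC.map φf ψ (DR.Vinv ⟨z, h1⟩) = DR'.Vinv ⟨BC.map φf ψ z, h2⟩) ?_ ?_ ?_ ?_ z hz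
    · have hm : BC.map φf ψ 0 ∈ DR'.Q := by rw [map_zero]; exact DR'.Q.zero_mem
      refine ⟨DR.Q.zero_mem, hm, ?_⟩
      have e1 : (⟨0, DR.Q.zero_mem⟩ : DR.Q) = 0 := rfl
      have e2 : (⟨BC.map φf ψ 0, hm⟩ : DR'.Q) = 0 := Subtype.ext (map_zero _)
      rw [e1, e2, map_zero, map_zero, map_zero]
    · rintro a b ⟨ha1, ha2, ea⟩ ⟨hb1, hb2, eb⟩
      have hm : BC.map φf ψ (a + b) ∈ DR'.Q := by
        rw [map_add]; exact DR'.Q.add_mem ha2 hb2
      refine ⟨DR.Q.add_mem ha1 hb1, hm, ?_⟩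
      have e1 : (⟨a + b, DR.Q.add_mem ha1 hb1⟩ : DR.Q) = ⟨a, ha1⟩ + ⟨b, hb1⟩ := rfl
      have e2 : (⟨BC.map φf ψ (a + b), hm⟩ : DR'.Q) =
          ⟨BC.map φf ψ a, ha2⟩ + ⟨BC.map φf ψ b, hb2⟩ := Subtype.ext (map_add _ _ _)
      rw [e1, e2, map_add, map_add, map_add, ea, eb]
    · intro w q hq
      have m1 : BC.tmul φf w q ∈ DR.Q := by
        rw [hDR.Q_eq]; exact tmul_mem_ker f D.Q w q hq
      have m2' : BC.tmul φf w (ψ q) ∈ DR'.Q := by
        rw [hDR'.Q_eq]; exact tmul_mem_ker f D'.Q w _ (hψ.mapsTo q hq)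
      have em : BC.map φf ψ (BC.tmul φf w q) = BC.tmul φf w (ψ q) := BC.map_tmul _ _ _ _
      have m2 : BC.map φf ψ (BC.tmul φf w q) ∈ DR'.Q := by rw [em]; exact m2'
      refine ⟨m1, m2, ?_⟩
      have e2 : (⟨BC.map φf ψ (BC.tmul φf w q), m2⟩ : DR'.Q) = ⟨BC.tmul φf w (ψ q), m2'⟩ :=
        Subtype.ext em
      calc BC.map φf ψ (DR.Vinv ⟨BC.tmul φf w q, m1⟩)
          = BC.map φf ψ (BC.tmul φf (WittVector.frobenius w) (D.Vinv ⟨q, hq⟩)) :=
            congrArg _ (hDR.Vinv_tmul w ⟨q, hq⟩ m1)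
        _ = BC.tmul φf (WittVector.frobenius w) (ψ (D.Vinv ⟨q, hq⟩)) := BC.map_tmul _ _ _ _
        _ = BC.tmul φf (WittVector.frobenius w) (D'.Vinv ⟨ψ q, hψ.mapsTo q hq⟩) :=
            congrArg (BC.tmul φf (WittVector.frobenius w)) (hψ.comm_Vinv ⟨q, hq⟩)
        _ = DR'.Vinv ⟨BC.tmul φf w (ψ q), m2'⟩ :=
            (hDR'.Vinv_tmul w ⟨ψ q, hψ.mapsTo q hq⟩ m2').symm
        _ = DR'.Vinv ⟨BC.map φf ψ (BC.tmul φf w q), m2⟩ := by rw [e2]
    · intro w x
      have m1 : BC.tmul φf (WittVector.verschiebung w) x ∈ DR.Q := by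
        rw [hDR.Q_eq]; exact vtmul_mem_ker f D.Q w x
      have m2' : BC.tmul φf (WittVector.verschiebung w) (ψ x) ∈ DR'.Q := by
        rw [hDR'.Q_eq]; exact vtmul_mem_ker f D'.Q w _
      have em : BC.map φf ψ (BC.tmul φf (WittVector.verschiebung w) x) =
          BC.tmul φf (WittVector.verschiebung w) (ψ x) := BC.map_tmul _ _ _ _
      have m2 : BC.map φf ψ (BC.tmul φf (WittVector.verschiebung w) x) ∈ DR'.Q := by
        rw [em]; exact m2'
      refine ⟨m1, m2, ?_⟩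
      have e2 : (⟨BC.map φf ψ (BC.tmul φf (WittVector.verschiebung w) x), m2⟩ : DR'.Q) =
          ⟨BC.tmul φf (WittVector.verschiebung w) (ψ x), m2'⟩ := Subtype.ext em
      calc BC.map φf ψ (DR.Vinv ⟨BC.tmul φf (WittVector.verschiebung w) x, m1⟩)
          = BC.map φf ψ (BC.tmul φf w (D.F x)) :=
            congrArg _ (hDR.Vinv_verschiebung_tmul w x m1)
        _ = BC.tmul φf w (ψ (D.F x)) := BC.map_tmul _ _ _ _
        _ = BC.tmul φf w (D'.F (ψ x)) := congrArg (BC.tmul φf w) (hψ.comm_F x)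
        _ = DR'.Vinv ⟨BC.tmul φf (WittVector.verschiebung w) (ψ x), m2'⟩ :=
            (hDR'.Vinv_verschiebung_tmul w (ψ x) m2').symm
        _ = DR'.Vinv ⟨BC.map φf ψ (BC.tmul φf (WittVector.verschiebung w) x), m2⟩ := by
            rw [e2]
  refine ⟨hmaps, ?_, ?_⟩
  · intro z
    induction z using BC.induction_on φf with
    | zero => simp only [map_zero]
    | tmul w x => rw [hDR.F_tmul, BC.map_tmul, BC.map_tmul, hDR'.F_tmul, hψ.comm_F]
    | add a b ha hb => rw [map_add, map_add, map_add, map_add, ha, hb]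
  · intro q
    have hq : (q : BC φf P) ∈ LinearMap.ker (bcQuotMap f D.Q) := by
      rw [← hDR.Q_eq]; exact q.2
    obtain ⟨h1, h2, e⟩ := hC q hq
    exact e

theorem map_WI_le (𝔞 : Ideal S) :
    Ideal.map (WittVector.map f : WittVector p S →+* WittVector p R) (WI p 𝔞) ≤
      WI p (Ideal.map f 𝔞) := by
  rw [Ideal.map_le_iff_le_comap]
  intro a ha
  rw [Ideal.mem_comap, mem_WI_iff]
  intro n
  rw [WittVector.map_coeff]
  exact Ideal.mem_map_of_mem f (mem_WI_iff.mp ha n)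

theorem bcMap_mem (𝔞 : Ideal S) (ψ : P →ₗ[WittVector p S] P')
    (hψN : ∀ x, ψ x ∈ WI p 𝔞 • (⊤ : Submodule (WittVector p S) P')) (z : BC φf P) :
    BC.map φf ψ z ∈ WI p (Ideal.map f 𝔞) • (⊤ : Submodule (WittVector p R) (BC φf P')) := by
  induction z using BC.induction_on φf with
  | zero => rw [map_zero]; exact Submodule.zero_mem _
  | tmul w x =>
    rw [BC.map_tmul, BC.tmul_eq_smul_tmul_one]
    refine Submodule.smul_mem _ w ?_
    have h1 := semilin_mem (BC.ι φf P') (WI p 𝔞) (ψ x) (hψN x)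
    exact Submodule.smul_mono_left (map_WI_le f 𝔞) h1
  | add a b ha hb => rw [map_add]; exact Submodule.add_mem _ ha hb

end BCHom

section Induction

theorem step {p : ℕ} [Fact p.Prime] {S : Type u} [CommRing S]
    {P P' : Type v} [AddCommGroup P] [Module (WittVector p S) P] [AddCommGroup P']
    [Module (WittVector p S) P'] (𝔟 : Ideal S) (h2 : 𝔟 * 𝔟 = ⊥)
    (hpb : ∀ x ∈ 𝔟, (p : S) * x = 0) (D : Display3n p S P) (D' : Display3n p S P')
    (hD : IsDisplay D) (ψ : P →ₗ[WittVector p S] P') (hψ : IsHom D D' ψ)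
    (h0 : BC.map (WittVector.map (Ideal.Quotient.mk 𝔟) :
      WittVector p S →+* WittVector p (S ⧸ 𝔟)) ψ = 0) : ψ = 0 := by
  apply base_case h2 hpb D D' hD ψ hψ
  intro x
  have := D'.finite
  have := D'.projective
  have h1 : BC.tmul (WittVector.map (Ideal.Quotient.mk 𝔟) :
      WittVector p S →+* WittVector p (S ⧸ 𝔟)) 1 (ψ x) = 0 := by
    have h3 := LinearMap.congr_fun h0 (BC.tmul _ 1 x)
    rwa [BC.map_tmul, LinearMap.zero_apply] at h3
  exact mem_of_tmul_eq_zero _ (ψ x) h1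

/-- the injectivity property for ideals with `𝔞 (𝔞 + p)^N = 0` -/
def InjProp.{u1, v1} (p : ℕ) [Fact p.Prime] (N : ℕ) : Prop :=
  ∀ (S : Type u1) [CommRing S] (𝔞 : Ideal S), 𝔞 * (𝔞 ⊔ Ideal.span {(p : S)}) ^ N = ⊥ →
    ∀ (P P' : Type v1) [AddCommGroup P] [Module (WittVector p S) P] [AddCommGroup P']
      [Module (WittVector p S) P'] (D : Display3n p S P) (D' : Display3n p S P'),
      IsDisplay D → ∀ ψ : P →ₗ[WittVector p S] P', IsHom D D' ψ →
        (∀ x, ψ x ∈ WI p 𝔞 • (⊤ : Submodule (WittVector p S) P')) → ψ = 0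

theorem WI_bot {S : Type u} [CommRing S] (p : ℕ) [Fact p.Prime] :
    WI p (⊥ : Ideal S) = ⊥ := by
  ext a
  rw [mem_WI_iff, Ideal.mem_bot, WittVector.ext_iff]
  refine forall_congr' fun n => ?_
  rw [Ideal.mem_bot, WittVector.zero_coeff]

theorem injProp_zero.{u1, v1} {p : ℕ} [Fact p.Prime] : InjProp.{u1, v1} p 0 := by
  intro S _ 𝔞 h𝔞 P P' _ _ _ _ D D' _ ψ _ hψN
  rw [pow_zero, Ideal.one_eq_top, Ideal.mul_top] at h𝔞
  subst h𝔞
  apply LinearMap.ext
  intro x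
  have := hψN x
  rw [WI_bot, Submodule.bot_smul, Submodule.mem_bot] at this
  exact this

theorem injProp_succ.{u1, v1} {p : ℕ} [Fact p.Prime] (N : ℕ)
    (h : InjProp.{u1, max u1 v1} p N) : InjProp.{u1, v1} p (N + 1) := by
  intro S _ 𝔞 h𝔞 P P' _ _ _ _ D D' hD ψ hψ hψN
  set 𝔠 : Ideal S := 𝔞 ⊔ Ideal.span {(p : S)} with h𝔠
  have hb𝔠 : 𝔞 * 𝔠 ^ N ≤ 𝔠 := Ideal.mul_le_inf.trans (inf_le_left.trans le_sup_left)
  have hbc : 𝔞 * 𝔠 ^ N * 𝔠 = ⊥ := by
    rw [mul_assoc, ← pow_succ]; exact h𝔞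
  have h2 : (𝔞 * 𝔠 ^ N) * (𝔞 * 𝔠 ^ N) = ⊥ := by
    rw [eq_bot_iff, ← hbc]
    exact Ideal.mul_mono le_rfl hb𝔠
  have hpb : ∀ x ∈ 𝔞 * 𝔠 ^ N, (p : S) * x = 0 := by
    intro x hx
    have hp𝔠 : (p : S) ∈ 𝔠 := Ideal.mem_sup_right (Ideal.mem_span_singleton_self _)
    have h3 := Ideal.mul_mem_mul hx hp𝔠
    rw [hbc, Ideal.mem_bot] at h3
    rw [mul_comm]; exact h3
  obtain ⟨DR, hDR⟩ := exists_baseChange (Ideal.Quotient.mk (𝔞 * 𝔠 ^ N)) D
  obtain ⟨DR', hDR'⟩ := exists_baseChange (Ideal.Quotient.mk (𝔞 * 𝔠 ^ N)) D'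
  have hDRd : IsDisplay DR := main_bc _ D hD DR hDR
  have hψ' := isHom_bcMap _ D D' DR DR' hDR hDR' ψ hψ
  have hmem := bcMap_mem (Ideal.Quotient.mk (𝔞 * 𝔠 ^ N)) 𝔞 ψ hψN
  have hI : Ideal.map (Ideal.Quotient.mk (𝔞 * 𝔠 ^ N)) 𝔞 *
      (Ideal.map (Ideal.Quotient.mk (𝔞 * 𝔠 ^ N)) 𝔞 ⊔
        Ideal.span {(p : S ⧸ 𝔞 * 𝔠 ^ N)}) ^ N = ⊥ := by
    have e : Ideal.map (Ideal.Quotient.mk (𝔞 * 𝔠 ^ N)) 𝔠 =
        Ideal.map (Ideal.Quotient.mk (𝔞 * 𝔠 ^ N)) 𝔞 ⊔ Ideal.span {(p : S ⧸ 𝔞 * 𝔠 ^ N)} := by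
      rw [h𝔠, Ideal.map_sup, Ideal.map_span, Set.image_singleton, map_natCast]
    rw [← e, ← Ideal.map_pow, ← Ideal.map_mul]
    exact Ideal.map_quotient_self _
  have h0 := h (S ⧸ 𝔞 * 𝔠 ^ N) (Ideal.map (Ideal.Quotient.mk (𝔞 * 𝔠 ^ N)) 𝔞) hI _ _ DR DR' hDRd
    _ hψ' hmem
  exact step (𝔞 * 𝔠 ^ N) h2 hpb D D' hD ψ hψ h0

theorem injProp_max.{u1, v1} {p : ℕ} [Fact p.Prime] (N : ℕ) :
    InjProp.{u1, max u1 v1} p N := by
  induction N with
  | zero => exact injProp_zero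
  | succ N ih => exact injProp_succ.{u1, max u1 v1} N ih

theorem injProp_all.{u1, v1} {p : ℕ} [Fact p.Prime] (N : ℕ) : InjProp.{u1, v1} p N := by
  cases N with
  | zero => exact injProp_zero
  | succ N => exact injProp_succ N (injProp_max N)

theorem inj_main {p : ℕ} [Fact p.Prime] {S : Type u} [CommRing S] (hp : IsNilpotent (p : S))
    (𝔞 : Ideal S) (h𝔞 : IsNilpotent 𝔞)
    {P P' : Type v} [AddCommGroup P] [Module (WittVector p S) P] [AddCommGroup P']
    [Module (WittVector p S) P'] (D : Display3n p S P) (D' : Display3n p S P')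
    (hD : IsDisplay D) (ψ : P →ₗ[WittVector p S] P') (hψ : IsHom D D' ψ)
    (hψN : ∀ x, ψ x ∈ WI p 𝔞 • (⊤ : Submodule (WittVector p S) P')) : ψ = 0 := by
  obtain ⟨m, hm⟩ := h𝔞
  obtain ⟨n, hn⟩ := hp
  have hN : 𝔞 * (𝔞 ⊔ Ideal.span {(p : S)}) ^ (m + n) = ⊥ := by
    have h1 : (𝔞 ⊔ Ideal.span {(p : S)}) ^ (m + n) ≤ ⊥ := by
      refine Ideal.sup_pow_add_le_pow_sup_pow.trans ?_
      rw [hm, Ideal.span_singleton_pow, hn]
      simp
    rw [eq_bot_iff.mpr h1, Ideal.mul_bot]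
  exact injProp_all (m + n) S 𝔞 hN P P' D D' hD ψ hψ hψN

theorem ker_map_le {p : ℕ} [Fact p.Prime] {S R : Type u} [CommRing S] [CommRing R]
    (f : S →+* R) :
    RingHom.ker (WittVector.map f : WittVector p S →+* WittVector p R) ≤
      WI p (RingHom.ker f) := by
  intro a ha
  rw [RingHom.mem_ker, WittVector.ext_iff] at ha
  rw [mem_WI_iff]
  intro n
  have := ha n
  rwa [WittVector.map_coeff, WittVector.zero_coeff] at this

end Induction

section Torsion

variable {p : ℕ} [Fact p.Prime]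

theorem witt_p_torsion_free {R : Type u} [CommRing R] [IsReduced R] (hpR : (p : R) = 0)
    (a : WittVector p R) (h : (p : WittVector p R) * a = 0) : a = 0 := by
  rcases subsingleton_or_nontrivial R with hs | hnt
  · ext n; exact Subsingleton.elim _ _
  · have : CharP R p := (CharP.charP_iff_prime_eq_zero (Fact.out : p.Prime)).mpr hpR
    have h1 : WittVector.verschiebung (WittVector.frobenius a) = 0 := by
      rw [WittVector.verschiebung_frobenius, mul_comm]; exact h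
    have h2 : WittVector.frobenius a = 0 := verschiebung_inj (by rw [h1, map_zero])
    ext n
    have h3 := congrArg (fun x => x.coeff n) h2
    simp only [WittVector.coeff_frobenius_charP, WittVector.zero_coeff] at h3
    rw [WittVector.zero_coeff]
    exact IsNilpotent.eq_zero ⟨p, h3⟩

theorem module_p_torsion_free {R : Type u} [CommRing R] [IsReduced R] (hpR : (p : R) = 0)
    {M : Type v} [AddCommGroup M] [Module (WittVector p R) M]
    [Module.Finite (WittVector p R) M] [Module.Projective (WittVector p R) M]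
    (z : M) (h : (p : WittVector p R) • z = 0) : z = 0 := by
  obtain ⟨r, ρ, ι, -, -, hρι0⟩ :=
    Module.Finite.exists_comp_eq_id_of_projective (WittVector p R) M
  have hρι : ρ (ι z) = z := by
    have := LinearMap.congr_fun hρι0 z; simpa using this
  have h1 : ι z = 0 := by
    funext j
    apply witt_p_torsion_free hpR
    have h4 := congrFun (congrArg ι h) j
    rw [map_smul, map_zero] at h4
    simpa using h4
  rw [← hρι, h1, map_zero]

end Torsion

end Groth.Agent.Helper8.DispInj
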