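import Mathlib
import Groth.Agent.Lib.Helper8.DispInj3

set_option autoImplicit false

/-! `Hom` of displays has no `p`-torsion (nilradical nilpotent). -/

namespace Groth.Agent.Helper8.DispInj

open Dieu W4c1extbt610 Groth.Agent.Helper8.DispPow

universe u v

theorem natCast_smul_tmul {A B : Type u} [CommRing A] [CommRing B] (g : A →+* B)
    {M : Type v} [AddCommGroup M] [Module A M] (n : ℕ) (y : M) :
    (n : B) • BC.tmul g 1 y = BC.tmul g 1 ((n : A) • y) := by
  rw [BC.smul_tmul, mul_one, ← map_natCast g n, BC.tmul_apply_eq]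

theorem p_torsion_mem {p : ℕ} [Fact p.Prime] {S : Type u} [CommRing S]
    (hp : IsNilpotent (p : S))
    {M : Type v} [AddCommGroup M] [Module (WittVector p S) M]
    [Module.Finite (WittVector p S) M] [Module.Projective (WittVector p S) M]
    (y : M) (hy : (p : WittVector p S) • y = 0) :
    y ∈ WI p (nilradical S) • (⊤ : Submodule (WittVector p S) M) := by
  have hred : IsReduced (S ⧸ nilradical S) :=
    (Ideal.isRadical_iff_quotient_reduced (nilradical S)).mp
      (Ideal.radical_isRadical _ : (nilradical S).IsRadical)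
  have hpR : ((p : ℕ) : S ⧸ nilradical S) = 0 := by
    rw [← map_natCast (Ideal.Quotient.mk (nilradical S))]
    exact Ideal.Quotient.eq_zero_iff_mem.mpr (mem_nilradical.mpr hp)
  obtain ⟨hfinR, hprojR, -⟩ := bc_facts
    (WittVector.map (Ideal.Quotient.mk (nilradical S)) :
      WittVector p S →+* WittVector p (S ⧸ nilradical S)) M
  have h2 : (p : WittVector p (S ⧸ nilradical S)) •
      BC.tmul (WittVector.map (Ideal.Quotient.mk (nilradical S)) :
        WittVector p S →+* WittVector p (S ⧸ nilradical S)) 1 y = 0 := by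
    rw [natCast_smul_tmul, hy, BC.tmul_zero]
  have h3 := module_p_torsion_free hpR _ h2
  exact mem_of_tmul_eq_zero _ y h3

theorem hom_p_torsion_free {p : ℕ} [Fact p.Prime] {S : Type u} [CommRing S]
    (hp : IsNilpotent (p : S)) (hn : IsNilpotent (nilradical S))
    {P P' : Type v} [AddCommGroup P] [Module (WittVector p S) P] [AddCommGroup P']
    [Module (WittVector p S) P'] (D : Display3n p S P) (D' : Display3n p S P')
    (hD : IsDisplay D) (ψ : P →ₗ[WittVector p S] P') (hψ : IsHom D D' ψ)
    (h : (p : WittVector p S) • ψ = 0) : ψ = 0 := by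
  have hfin := D'.finite
  have hproj := D'.projective
  refine inj_main hp (nilradical S) hn D D' hD ψ hψ fun x => ?_
  exact p_torsion_mem hp (ψ x) (LinearMap.congr_fun h x)

end Groth.Agent.Helper8.DispInj
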