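import Mathlib
import Groth.Agent.Lib.Helper8.DispInj4

set_option autoImplicit false

/-! Lifting homomorphisms of displays up to a power of `p` (nilpotent kernel). -/

namespace Groth.Agent.Helper8.DispInj

open Dieu W4c1extbt610 Groth.Agent.Helper8.DispPow

universe u v

section PowKill

variable {p : ℕ} [Fact p.Prime] {S : Type u} [CommRing S]

theorem p_mul_mem (𝔞₁ 𝔞₂ : Ideal S) (hsq : 𝔞₁ * 𝔞₁ ≤ 𝔞₂)
    (hp𝔞 : ∀ x ∈ 𝔞₁, (p : S) * x ∈ 𝔞₂) {a : WittVector p S} (ha : a ∈ WI p 𝔞₁) :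
    (p : WittVector p S) * a ∈ WI p 𝔞₂ := by
  have h2 : Ideal.map (Ideal.Quotient.mk 𝔞₂) 𝔞₁ * Ideal.map (Ideal.Quotient.mk 𝔞₂) 𝔞₁ = ⊥ := by
    refine eq_bot_iff.mpr ?_
    rw [← Ideal.map_mul]
    exact (Ideal.map_mono hsq).trans (Ideal.map_quotient_self 𝔞₂).le
  have hpb : ∀ x ∈ Ideal.map (Ideal.Quotient.mk 𝔞₂) 𝔞₁, (p : S ⧸ 𝔞₂) * x = 0 := by
    intro x hx
    obtain ⟨y, hy, rfl⟩ :=
      (Ideal.mem_map_iff_of_surjective _ Ideal.Quotient.mk_surjective).mp hx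
    rw [← map_natCast (Ideal.Quotient.mk 𝔞₂), ← map_mul]
    exact Ideal.Quotient.eq_zero_iff_mem.mpr (hp𝔞 y hy)
  have hā : WittVector.map (Ideal.Quotient.mk 𝔞₂) a ∈
      WI p (Ideal.map (Ideal.Quotient.mk 𝔞₂) 𝔞₁) :=
    map_WI_le _ 𝔞₁ (Ideal.mem_map_of_mem _ ha)
  have h3 := p_mul_eq_zero h2 hpb hā
  rw [WI, RingHom.mem_ker, map_mul, map_natCast]
  exact h3

theorem pow_p_mul_mem (𝔞 : Ideal S) (k : ℕ) {a : WittVector p S} (ha : a ∈ WI p 𝔞) :
    (p : WittVector p S) ^ k * a ∈ WI p (𝔞 * (𝔞 ⊔ Ideal.span {(p : S)}) ^ k) := by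
  induction k with
  | zero => rw [pow_zero, pow_zero, one_mul, mul_one]; exact ha
  | succ k ih =>
    have e : 𝔞 * (𝔞 ⊔ Ideal.span {(p : S)}) ^ (k + 1) =
        𝔞 * (𝔞 ⊔ Ideal.span {(p : S)}) ^ k * (𝔞 ⊔ Ideal.span {(p : S)}) := by
      rw [pow_succ, mul_assoc]
    rw [pow_succ' (p : WittVector p S) k, mul_assoc, e]
    refine p_mul_mem _ _ ?_ ?_ ih
    · exact Ideal.mul_mono le_rfl (Ideal.mul_le_inf.trans (inf_le_left.trans le_sup_left))
    · intro x hx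
      rw [mul_comm (p : S) x]
      exact Ideal.mul_mem_mul hx (Ideal.mem_sup_right (Ideal.mem_span_singleton_self _))

theorem exists_pow_p_kill (hp : IsNilpotent (p : S)) (𝔞 : Ideal S) (h𝔞 : IsNilpotent 𝔞) :
    ∃ N : ℕ, ∀ a ∈ WI p 𝔞, (p : WittVector p S) ^ N * a = 0 := by
  obtain ⟨m, hm⟩ := h𝔞
  obtain ⟨n, hn⟩ := hp
  have hN : 𝔞 * (𝔞 ⊔ Ideal.span {(p : S)}) ^ (m + n) = ⊥ := by
    have h1 : (𝔞 ⊔ Ideal.span {(p : S)}) ^ (m + n) ≤ ⊥ := by
      refine Ideal.sup_pow_add_le_pow_sup_pow.trans ?_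
      rw [hm, Ideal.span_singleton_pow, hn]
      simp
    rw [eq_bot_iff.mpr h1, Ideal.mul_bot]
  refine ⟨m + n, fun a ha => ?_⟩
  have h3 := pow_p_mul_mem 𝔞 (m + n) ha
  rw [hN, WI_bot, Ideal.mem_bot] at h3
  exact h3

end PowKill

section Lift

variable {p : ℕ} [Fact p.Prime] {S R : Type u} [CommRing S] [CommRing R] (f : S →+* R)
variable {P : Type v} [AddCommGroup P] [Module (WittVector p S) P]
variable {P' : Type v} [AddCommGroup P'] [Module (WittVector p S) P']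

local notation "φf" => (WittVector.map f : WittVector p S →+* WittVector p R)

theorem tmul_one_surj (hf : Function.Surjective f) (z : BC φf P) :
    ∃ x : P, BC.tmul φf 1 x = z := by
  induction z using BC.induction_on φf with
  | zero => exact ⟨0, BC.tmul_zero _ _⟩
  | tmul w x =>
    obtain ⟨w', rfl⟩ := WittVector.map_surjective f hf w
    exact ⟨w' • x, (BC.tmul_apply_eq _ _ _).symm⟩
  | add a b ha hb =>
    obtain ⟨x, rfl⟩ := ha
    obtain ⟨y, rfl⟩ := hb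
    exact ⟨x + y, BC.tmul_add _ _ _ _⟩

theorem exists_Q_lift (hf : Function.Surjective f) (Q : Submodule (WittVector p S) P)
    (hIV : IV p S • (⊤ : Submodule (WittVector p S) P) ≤ Q) (z : BC φf P)
    (hz : z ∈ LinearMap.ker (bcQuotMap f Q)) : ∃ q ∈ Q, BC.tmul φf 1 q = z := by
  refine ker_induction f Q (fun z => ∃ q ∈ Q, BC.tmul φf 1 q = z) ?_ ?_ ?_ ?_ z hz
  · exact ⟨0, Q.zero_mem, BC.tmul_zero _ _⟩
  · rintro a b ⟨q, hq, rfl⟩ ⟨q', hq', rfl⟩
    exact ⟨q + q', Q.add_mem hq hq', BC.tmul_add _ _ _ _⟩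
  · intro w q hq
    obtain ⟨w', rfl⟩ := WittVector.map_surjective f hf w
    exact ⟨w' • q, Q.smul_mem w' hq, (BC.tmul_apply_eq _ _ _).symm⟩
  · intro w x
    obtain ⟨w', rfl⟩ := WittVector.map_surjective f hf w
    refine ⟨WittVector.verschiebung w' • x,
      hIV (Submodule.smul_mem_smul (verschiebung_mem_IV p S w') Submodule.mem_top), ?_⟩
    rw [← BC.tmul_apply_eq, WittVector.map_verschiebung]

theorem exists_lin_lift (hf : Function.Surjective f) [Module.Finite (WittVector p S) P]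
    [Module.Projective (WittVector p S) P]
    (χ : BC φf P →ₗ[WittVector p R] BC φf P') :
    ∃ α : P →ₗ[WittVector p S] P', ∀ x, BC.tmul φf 1 (α x) = χ (BC.tmul φf 1 x) := by
  obtain ⟨r, ρ, ι, -, -, hρι0⟩ :=
    Module.Finite.exists_comp_eq_id_of_projective (WittVector p S) P
  have hρι : ∀ m, ρ (ι m) = m := fun m => by
    have := LinearMap.congr_fun hρι0 m; simpa using this
  choose y hy using fun j : Fin r =>
    tmul_one_surj (P := P') f hf (χ (BC.tmul φf 1 (ρ (stdE j))))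
  refine ⟨∑ j, ((LinearMap.proj j).comp ι).smulRight (y j), fun x => ?_⟩
  have hα : (∑ j, ((LinearMap.proj j).comp ι).smulRight (y j)) x = ∑ j, ι x j • y j := by
    rw [LinearMap.sum_apply]
    exact Finset.sum_congr rfl fun j _ => rfl
  rw [hα]
  conv_rhs => rw [← hρι x, LinearMap.pi_apply_eq_sum_univ ρ (ι x)]
  show BC.ι φf P' (∑ j, ι x j • y j) =
    χ (BC.ι φf P (∑ j, ι x j • ρ (fun j' => if j = j' then 1 else 0)))
  rw [map_sum, map_sum, map_sum]
  refine Finset.sum_congr rfl fun j _ => ?_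
  rw [LinearMap.map_smulₛₗ, LinearMap.map_smulₛₗ, map_smul]
  congr 1
  exact hy j

theorem isHom_of_Vinv (D : Display3n p S P) (D' : Display3n p S P')
    (ψ : P →ₗ[WittVector p S] P') (hmaps : ∀ q, q ∈ D.Q → ψ q ∈ D'.Q)
    (hV : ∀ q : D.Q, ψ (D.Vinv q) = D'.Vinv ⟨ψ q, hmaps q q.2⟩) : IsHom D D' ψ := by
  refine ⟨hmaps, fun x => ?_, hV⟩
  have h1 := D.Vinv_verschiebung_smul 1 x
  have h2 := D'.Vinv_verschiebung_smul 1 (ψ x)
  rw [one_smul] at h1 h2
  rw [← h1, ← h2, hV]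
  exact congrArg D'.Vinv (Subtype.ext (map_smul ψ _ x))

theorem isHom_sub (D : Display3n p S P) (D' : Display3n p S P')
    {ψ χ : P →ₗ[WittVector p S] P'} (hψ : IsHom D D' ψ) (hχ : IsHom D D' χ) :
    IsHom D D' (ψ - χ) := by
  have hmaps : ∀ q, q ∈ D.Q → (ψ - χ) q ∈ D'.Q := fun q hq =>
    D'.Q.sub_mem (hψ.mapsTo q hq) (hχ.mapsTo q hq)
  refine ⟨hmaps, fun x => ?_, fun q => ?_⟩
  · rw [LinearMap.sub_apply, LinearMap.sub_apply, hψ.comm_F, hχ.comm_F, map_sub]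
  · rw [LinearMap.sub_apply, hψ.comm_Vinv, hχ.comm_Vinv, ← map_sub]
    exact congrArg D'.Vinv (Subtype.ext rfl)

theorem bc_injective (hp : IsNilpotent (p : S)) (hker : IsNilpotent (RingHom.ker f))
    (D : Display3n p S P) (D' : Display3n p S P') (hD : IsDisplay D)
    (ψ χ : P →ₗ[WittVector p S] P') (hψ : IsHom D D' ψ) (hχ : IsHom D D' χ)
    (e : BC.map φf ψ = BC.map φf χ) : ψ = χ := by
  have := D'.finite
  have := D'.projective
  have hδ : IsHom D D' (ψ - χ) := isHom_sub D D' hψ hχ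
  have h0 : ψ - χ = 0 := by
    refine inj_main hp (RingHom.ker f) hker D D' hD _ hδ fun x => ?_
    have h1 : BC.tmul φf 1 ((ψ - χ) x) = 0 := by
      show BC.ι φf P' (ψ x - χ x) = 0
      rw [map_sub, sub_eq_zero]
      have h3 := LinearMap.congr_fun e (BC.tmul φf 1 x)
      rwa [BC.map_tmul, BC.map_tmul] at h3
    exact Submodule.smul_mono_left (ker_map_le f) (mem_of_tmul_eq_zero φf _ h1)
  exact sub_eq_zero.mp h0

theorem exists_lift_pow (hp : IsNilpotent (p : S)) (hf : Function.Surjective f)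
    (hker : IsNilpotent (RingHom.ker f))
    (D : Display3n p S P) (D' : Display3n p S P')
    (DR : Display3n p R (BC (WittVector.map f : WittVector p S →+* WittVector p R) P))
    (hDR : IsDispBaseChange f D DR)
    (DR' : Display3n p R (BC (WittVector.map f : WittVector p S →+* WittVector p R) P'))
    (hDR' : IsDispBaseChange f D' DR')
    (χ : BC φf P →ₗ[WittVector p R] BC φf P') (hχ : IsHom DR DR' χ) :
    ∃ (n : ℕ) (ψ : P →ₗ[WittVector p S] P'), IsHom D D' ψ ∧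
      BC.map φf ψ = ((p : WittVector p R) ^ n) • χ := by
  have := D.finite
  have := D.projective
  have := D'.finite
  have := D'.projective
  obtain ⟨N, hN⟩ := exists_pow_p_kill hp (RingHom.ker f) hker
  obtain ⟨α, hα⟩ := exists_lin_lift f hf χ
  have hkill : ∀ n' : P', BC.tmul φf 1 n' = 0 → (p : WittVector p S) ^ N • n' = 0 := by
    intro n' hn'
    have h1 := mem_of_tmul_eq_zero φf n' hn'
    refine Submodule.smul_induction_on h1 ?_ ?_
    · intro c hc x _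
      rw [smul_smul, hN c (ker_map_le f hc), zero_smul]
    · intro x y hx hy
      rw [smul_add, hx, hy, add_zero]
  have hdec : ∀ y ∈ D.Q, ∃ q ∈ D'.Q, BC.tmul φf 1 q = χ (BC.tmul φf 1 y) := by
    intro y hy
    have h1 : BC.tmul φf 1 y ∈ DR.Q := by
      rw [hDR.Q_eq]; exact tmul_mem_ker f D.Q 1 y hy
    have h2 := hχ.mapsTo _ h1
    rw [hDR'.Q_eq] at h2
    exact exists_Q_lift f hf D'.Q D'.IV_smul_le _ h2
  have hpq : ∀ y ∈ D.Q, ∀ q ∈ D'.Q, BC.tmul φf 1 q = χ (BC.tmul φf 1 y) →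
      (p : WittVector p S) ^ N • α y = (p : WittVector p S) ^ N • q := by
    intro y _ q _ e
    have h3 : BC.tmul φf 1 (α y - q) = 0 := by
      show BC.ι φf P' (α y - q) = 0
      rw [map_sub, sub_eq_zero]
      exact (hα y).trans e.symm
    have h4 := hkill _ h3
    rw [smul_sub, sub_eq_zero] at h4
    exact h4
  have hmaps : ∀ y, y ∈ D.Q → ((p : WittVector p S) ^ N • α) y ∈ D'.Q := by
    intro y hy
    obtain ⟨q, hq, e⟩ := hdec y hy
    rw [LinearMap.smul_apply, hpq y hy q hq e]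
    exact D'.Q.smul_mem _ hq
  refine ⟨N, (p : WittVector p S) ^ N • α, isHom_of_Vinv D D' _ hmaps ?_, ?_⟩
  · intro y
    obtain ⟨q, hq, e⟩ := hdec y y.2
    have e1 : (⟨((p : WittVector p S) ^ N • α) y, hmaps y y.2⟩ : D'.Q) =
        (p : WittVector p S) ^ N • (⟨q, hq⟩ : D'.Q) := Subtype.ext (hpq y y.2 q hq e)
    rw [e1, LinearMap.map_smulₛₗ, map_pow, map_natCast, LinearMap.smul_apply]
    have h5 : BC.tmul φf 1 (α (D.Vinv y) - D'.Vinv ⟨q, hq⟩) = 0 := by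
      show BC.ι φf P' (α (D.Vinv y) - D'.Vinv ⟨q, hq⟩) = 0
      rw [map_sub, sub_eq_zero]
      show BC.tmul φf 1 (α (D.Vinv y)) = BC.tmul φf 1 (D'.Vinv ⟨q, hq⟩)
      rw [hα]
      have m1 : BC.tmul φf 1 (y : P) ∈ DR.Q := by
        rw [hDR.Q_eq]; exact tmul_mem_ker f D.Q 1 y y.2
      have m2 : BC.tmul φf 1 q ∈ DR'.Q := by
        rw [hDR'.Q_eq]; exact tmul_mem_ker f D'.Q 1 q hq
      have a1 := hDR.Vinv_tmul 1 y m1
      have a2 := hDR'.Vinv_tmul 1 ⟨q, hq⟩ m2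
      rw [map_one] at a1 a2
      rw [← a1, ← a2, hχ.comm_Vinv]
      exact congrArg DR'.Vinv (Subtype.ext e.symm)
    have h6 := hkill _ h5
    rw [smul_sub, sub_eq_zero] at h6
    exact h6
  · apply BC.ext
    intro x
    rw [BC.map_tmul, LinearMap.smul_apply, LinearMap.smul_apply, ← hα x, ← BC.tmul_apply_eq,
      map_pow, map_natCast]
    exact BC.tmul_eq_smul_tmul_one _ _ _

end Lift

end Groth.Agent.Helper8.DispInj
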