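import Mathlib
import Groth.Agent.Lib.Helper8.DispPow1
import Groth.Agent.Lib.Helper8.DispVS1

/-! helper8: matrix description of `V#` and of its iterates; the matrix criterion for a
3n-display to be a display. -/

set_option autoImplicit false

noncomputable section

namespace Groth.Agent.Helper8.DispPow

open Dieu W4c1extbt610

universe u v w

section General

variable {W : Type u} [CommRing W] {P : Type v} [AddCommGroup P] [Module W P]
variable {ι : Type w} [Fintype ι]

/-- `A.φ (e k) = Σ_j M j k • (1 ⊗ e j)` -/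
def Rep (e : ι → P) (A : TwMap W P) (M : Matrix ι ι W) : Prop :=
  ∀ k, A.φ (e k) = ∑ j, M j k • BC.tmul A.g 1 (e j)

theorem rep_comp2 (e : ι → P) (A B : TwMap W P) (M N : Matrix ι ι W) (hA : Rep e A M)
    (hB : Rep e B N) : Rep e (comp2 A B) (N.map A.g * M) := by
  intro k
  show tw A.g B.φ (A.φ (e k)) = ∑ i, (N.map A.g * M) i k • BC.tmul (A.g.comp B.g) 1 (e i)
  rw [hA k, map_sum]
  have h1 : ∀ j, tw A.g B.φ (M j k • BC.tmul A.g 1 (e j)) =
      ∑ i, (A.g (N i j) * M j k) • BC.tmul (A.g.comp B.g) 1 (e i) := by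
    intro j
    rw [map_smul, tw_tmul, one_smul, hB j, map_sum, Finset.smul_sum]
    refine Finset.sum_congr rfl fun i _ => ?_
    rw [LinearMap.map_smulₛₗ, BC.push_tmul, map_one, smul_smul, mul_comm]
  simp only [h1]
  rw [Finset.sum_comm]
  refine Finset.sum_congr rfl fun i _ => ?_
  rw [Matrix.mul_apply, Finset.sum_smul]
  refine Finset.sum_congr rfl fun j _ => ?_
  rw [Matrix.map_apply]

variable [DecidableEq ι]

/-- the `g`-semilinear coordinate `x ↦ g (b.repr x i)` -/
def coordS (g : W →+* W) (b : Module.Basis ι W P) (i : ι) : P →ₛₗ[g] W where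
  toFun x := g (b.repr x i)
  map_add' x y := by
    show g (b.repr (x + y) i) = g (b.repr x i) + g (b.repr y i)
    rw [map_add, Finsupp.add_apply, map_add]
  map_smul' a x := by
    show g (b.repr (a • x) i) = g a • g (b.repr x i)
    simp only [map_smul, Finsupp.smul_apply, smul_eq_mul, map_mul]

theorem coord_mem_of_mem (g : W →+* W) (b : Module.Basis ι W P) (J : Ideal W) (c : ι → W)
    (h : (∑ j, c j • BC.tmul g 1 (b j)) ∈ J • (⊤ : Submodule W (BC g P))) (i : ι) : c i ∈ J := by
  have h1 : ∀ z : BC g P, z ∈ J • (⊤ : Submodule W (BC g P)) →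
      BC.lift g (coordS g b i) z ∈ J := by
    intro z hz
    refine Submodule.smul_induction_on hz ?_ ?_
    · intro a ha y _
      rw [map_smul, smul_eq_mul]
      exact J.mul_mem_right _ ha
    · intro x y hx hy
      rw [map_add]; exact J.add_mem hx hy
  have h2 := h1 _ h
  rw [map_sum] at h2
  have h3 : ∀ j, BC.lift g (coordS g b i) (c j • BC.tmul g 1 (b j)) =
      if j = i then c j else 0 := by
    intro j
    rw [map_smul, BC.lift_tmul, one_smul]
    show c j • g (b.repr (b j) i) = _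
    rw [b.repr_self, Finsupp.single_apply]
    split_ifs with hji
    · rw [map_one, smul_eq_mul, mul_one]
    · rw [map_zero, smul_zero]
  simp only [h3] at h2
  rw [Finset.sum_ite_eq' Finset.univ i, if_pos (Finset.mem_univ i)] at h2
  exact h2

theorem img_iff_of_rep (b : Module.Basis ι W P) (A : TwMap W P) (M : Matrix ι ι W)
    (hA : Rep (⇑b) A M) (J : Ideal W) : Img A J ↔ ∀ j k, M j k ∈ J := by
  constructor
  · intro h j k
    have h1 := h (b k)
    rw [hA k] at h1
    exact coord_mem_of_mem A.g b J (fun j => M j k) h1 j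
  · intro h x
    rw [← b.sum_repr x, map_sum]
    refine Submodule.sum_mem _ fun k _ => ?_
    rw [map_smul]
    refine Submodule.smul_mem _ _ ?_
    rw [hA k]
    exact Submodule.sum_mem _ fun j _ => Submodule.smul_mem_smul (h j k) Submodule.mem_top

theorem rep_of_inverse (e φ : ι → P) (g : W →+* W) (Vs : P →ₗ[W] BC g P) (α β : Matrix ι ι W)
    (hαβ : α * β = 1) (dd : ι → W) (hφ : ∀ j, φ j = ∑ i, α i j • e i)
    (hV : ∀ j, Vs (φ j) = dd j • BC.tmul g 1 (e j)) :
    Rep e ⟨g, Vs⟩ (Matrix.of fun j k => β j k * dd j) := by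
  intro k
  show Vs (e k) = ∑ j, (β j k * dd j) • BC.tmul g 1 (e j)
  have hek : e k = ∑ j, β j k • φ j := by
    have h1 : ∀ i, ∑ j, β j k * α i j = if i = k then 1 else 0 := by
      intro i
      have h2 := congrFun (congrFun hαβ i) k
      rw [Matrix.mul_apply, Matrix.one_apply] at h2
      rw [← h2]
      exact Finset.sum_congr rfl fun j _ => mul_comm _ _
    symm
    simp only [hφ, Finset.smul_sum, smul_smul]
    rw [Finset.sum_comm]
    simp only [← Finset.sum_smul]
    simp only [h1, ite_smul, one_smul, zero_smul]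
    rw [Finset.sum_ite_eq' Finset.univ k, if_pos (Finset.mem_univ k)]
  have h3 : Vs (e k) = Vs (∑ j, β j k • φ j) := congrArg Vs hek
  rw [h3, map_sum]
  refine Finset.sum_congr rfl fun j _ => ?_
  rw [map_smul, hV j, smul_smul]

end General

section Witt0

variable (p : ℕ) [Fact p.Prime] (R : Type u) [CommRing R]

/-- `R/p` -/
abbrev KK : Type u := R ⧸ Ideal.span {(p : R)}

/-- `W(R) → R/p` -/
def piK : WittVector p R →+* KK p R :=
  (Ideal.Quotient.mk (Ideal.span {(p : R)})).comp WittVector.constantCoeff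

theorem piK_apply (w : WittVector p R) :
    piK p R w = Ideal.Quotient.mk (Ideal.span {(p : R)}) (WittVector.constantCoeff w) := rfl

theorem piK_surjective : Function.Surjective (piK p R) := by
  intro x
  obtain ⟨r, rfl⟩ := Ideal.Quotient.mk_surjective x
  refine ⟨WittVector.teichmuller p r, ?_⟩
  rw [piK_apply]
  have h : WittVector.constantCoeff (WittVector.teichmuller p r) = r :=
    WittVector.teichmuller_coeff_zero p r
  rw [h]

theorem piK_natCast : piK p R (p : WittVector p R) = 0 := by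
  rw [piK_apply, map_natCast]
  exact Ideal.Quotient.eq_zero_iff_mem.mpr (Ideal.mem_span_singleton_self _)

theorem piK_eq_zero_iff (w : WittVector p R) :
    piK p R w = 0 ↔ w ∈ IV p R ⊔ Ideal.span {(p : WittVector p R)} := by
  have hc : ∀ z : WittVector p R, z.coeff 0 = WittVector.constantCoeff z := fun z => rfl
  constructor
  · intro h
    rw [piK_apply] at h
    have h1 : WittVector.constantCoeff w ∈ Ideal.span {(p : R)} :=
      Ideal.Quotient.eq_zero_iff_mem.mp h
    obtain ⟨r, hr⟩ := Ideal.mem_span_singleton'.mp h1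
    have ht : WittVector.constantCoeff (WittVector.teichmuller p r) = r :=
      WittVector.teichmuller_coeff_zero p r
    have hd : (w - (p : WittVector p R) * WittVector.teichmuller p r).coeff 0 = 0 := by
      rw [hc, map_sub, map_mul, map_natCast, ht, ← hr]
      ring
    obtain ⟨y, hy⟩ := Groth.Agent.Helper4.Witt.eq_verschiebung_of_coeff_zero _ hd
    have h2 : w = WittVector.verschiebung y +
        (p : WittVector p R) * WittVector.teichmuller p r := by
      rw [← hy]; ring
    rw [h2]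
    exact Ideal.add_mem _ (Ideal.mem_sup_left (verschiebung_mem_IV p R y))
      (Ideal.mul_mem_right _ _ (Ideal.mem_sup_right (Ideal.mem_span_singleton_self _)))
  · intro h
    have hle : IV p R ⊔ Ideal.span {(p : WittVector p R)} ≤ RingHom.ker (piK p R) := by
      refine sup_le ?_ ?_
      · unfold IV
        rw [Ideal.span_le]
        rintro _ ⟨y, rfl⟩
        rw [SetLike.mem_coe, RingHom.mem_ker, piK_apply]
        have hv : WittVector.constantCoeff (WittVector.verschiebung y) = 0 :=
          WittVector.verschiebung_coeff_zero y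
        rw [hv, map_zero]
      · rw [Ideal.span_singleton_le_iff_mem, RingHom.mem_ker]
        exact piK_natCast p R
    exact hle h

theorem piK_frobenius (w : WittVector p R) :
    piK p R (WittVector.frobenius w) = piK p R w ^ p := by
  have h1 := frobenius_sub_pow_mem (IV p R ⊔ Ideal.span {(p : WittVector p R)}) le_rfl w
  have h2 := (piK_eq_zero_iff p R _).mpr h1
  rw [map_sub, map_pow, sub_eq_zero] at h2
  exact h2

/-- Frobenius of `R/p` as a ring hom (no characteristic hypothesis needed). -/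
def frobK : KK p R →+* KK p R where
  toFun x := x ^ p
  map_one' := one_pow p
  map_mul' x y := mul_pow x y p
  map_zero' := zero_pow (Fact.out : p.Prime).ne_zero
  map_add' x y := by
    show (x + y) ^ p = x ^ p + y ^ p
    obtain ⟨a, rfl⟩ := piK_surjective p R x
    obtain ⟨b, rfl⟩ := piK_surjective p R y
    rw [← map_add, ← piK_frobenius p R, ← piK_frobenius p R, ← piK_frobenius p R, map_add,
      map_add]

theorem frobK_apply (x : KK p R) : frobK p R x = x ^ p := rfl

end Witt0

section Witt1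

variable {p : ℕ} [Fact p.Prime] {R : Type u} [CommRing R]

local notation "σR" => (WittVector.frobenius : WittVector p R →+* WittVector p R)

section Mats

variable {ι : Type w} [Fintype ι]

/-- the iterated matrices over `W(R)`: `M`, `σ(M)·M`, … -/
def Mn (M : Matrix ι ι (WittVector p R)) : ℕ → Matrix ι ι (WittVector p R)
  | 0 => M
  | n + 1 => (Mn M n).map σR * M

/-- the iterated matrices over `R/p` -/
def Kn (Mb : Matrix ι ι (KK p R)) : ℕ → Matrix ι ι (KK p R)
  | 0 => Mb
  | n + 1 => (Kn Mb n).map (frobK p R) * Mb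

theorem map_piK_Mn (M : Matrix ι ι (WittVector p R)) (n : ℕ) :
    (Mn M n).map (piK p R) = Kn (M.map (piK p R)) n := by
  induction n with
  | zero => rfl
  | succ n ih =>
    show ((Mn M n).map σR * M).map (piK p R) =
      (Kn (M.map (piK p R)) n).map (frobK p R) * M.map (piK p R)
    rw [Matrix.map_mul, ← ih]
    congr 1
    ext i j
    simp only [Matrix.map_apply]
    rw [frobK_apply]
    exact piK_frobenius p R _

theorem rep_myPow {P : Type v} [AddCommGroup P] [Module (WittVector p R) P] (e : ι → P)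
    (Vs : P →ₗ[WittVector p R] BC σR P) (M : Matrix ι ι (WittVector p R))
    (h0 : Rep e ⟨σR, Vs⟩ M) (n : ℕ) : Rep e (myPow σR Vs n) (Mn M n) := by
  induction n with
  | zero => exact h0
  | succ n ih => exact rep_comp2 e ⟨σR, Vs⟩ (myPow σR Vs n) M (Mn M n) h0 ih

theorem nilp_iff [DecidableEq ι] {P : Type v} [AddCommGroup P] [Module (WittVector p R) P]
    (b : Module.Basis ι (WittVector p R) P)
    (Vs : P →ₗ[WittVector p R] BC σR P) (M : Matrix ι ι (WittVector p R))
    (h0 : Rep (⇑b) ⟨σR, Vs⟩ M) (n : ℕ) :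
    (∀ x : P, vSharpPow Vs n x ∈ (IV p R ⊔ Ideal.span {(p : WittVector p R)}) •
        (⊤ : Submodule (WittVector p R) (BC (σR ^ (n + 1)) P))) ↔
      Kn (M.map (piK p R)) n = 0 := by
  obtain ⟨h, hbr⟩ := bridge Vs n
  have hrep := rep_myPow (⇑b) Vs M h0 n
  have himg := img_iff_of_rep b (myPow σR Vs n) (Mn M n) hrep
    (IV p R ⊔ Ideal.span {(p : WittVector p R)})
  rw [← map_piK_Mn]
  constructor
  · intro hx
    have hI : Img (myPow σR Vs n) (IV p R ⊔ Ideal.span {(p : WittVector p R)}) := by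
      intro x
      have h1 := hx x
      rw [hbr, LinearMap.comp_apply] at h1
      exact mem_of_castHom_mem h _ _ h1
    have h2 := himg.mp hI
    ext j k
    rw [Matrix.map_apply, Matrix.zero_apply]
    exact (piK_eq_zero_iff p R _).mpr (h2 j k)
  · intro hM x
    have h2 : ∀ j k, Mn M n j k ∈ IV p R ⊔ Ideal.span {(p : WittVector p R)} := by
      intro j k
      have h3 := congrFun (congrFun hM j) k
      rw [Matrix.map_apply, Matrix.zero_apply] at h3
      exact (piK_eq_zero_iff p R _).mp h3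
    have hI := himg.mpr h2
    rw [hbr, LinearMap.comp_apply]
    exact castHom_mem h _ _ (hI x)

end Mats

section Blocks

variable {ιT ιL : Type w} [Fintype ιT] [Fintype ιL]

/-- the `L`-`L` block of the iterates -/
def Cn (B : Matrix ιL ιL (KK p R)) : ℕ → Matrix ιL ιL (KK p R)
  | 0 => B
  | n + 1 => (Cn B n).map (frobK p R) * B

/-- the `L`-`T` block of the iterates -/
def Cn' (B' : Matrix ιL ιT (KK p R)) (B : Matrix ιL ιL (KK p R)) : ℕ → Matrix ιL ιT (KK p R)
  | 0 => B'
  | n + 1 => (Cn B n).map (frobK p R) * B'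

theorem Kn_blocks (B' : Matrix ιL ιT (KK p R)) (B : Matrix ιL ιL (KK p R)) (n : ℕ) :
    Kn (Matrix.fromBlocks (0 : Matrix ιT ιT (KK p R)) (0 : Matrix ιT ιL (KK p R)) B' B) n =
      Matrix.fromBlocks 0 0 (Cn' B' B n) (Cn B n) := by
  have hz : ∀ (m n : Type w), (0 : Matrix m n (KK p R)).map (frobK p R) = 0 :=
    fun m n => Matrix.map_zero _ (map_zero _)
  induction n with
  | zero => rfl
  | succ n ih =>
    show (Kn (Matrix.fromBlocks (0 : Matrix ιT ιT (KK p R)) (0 : Matrix ιT ιL (KK p R))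
        B' B) n).map (frobK p R) *
        Matrix.fromBlocks (0 : Matrix ιT ιT (KK p R)) (0 : Matrix ιT ιL (KK p R)) B' B =
      Matrix.fromBlocks 0 0 ((Cn B n).map (frobK p R) * B') ((Cn B n).map (frobK p R) * B)
    rw [ih, Matrix.fromBlocks_map, hz, hz, Matrix.fromBlocks_multiply]
    simp only [Matrix.zero_mul, Matrix.mul_zero, add_zero, zero_add]

variable [DecidableEq ιL]

/-- the product `B^{(p^{N-1})} ⋯ B^{(p)} · B` -/
def Ln (B : Matrix ιL ιL (KK p R)) (N : ℕ) : Matrix ιL ιL (KK p R) :=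
  ((List.range N).reverse.map fun i : ℕ => B.map fun x : KK p R => x ^ p ^ i).prod

theorem Ln_zero (B : Matrix ιL ιL (KK p R)) : Ln B 0 = 1 := by
  simp [Ln]

theorem Ln_succ (B : Matrix ιL ιL (KK p R)) (N : ℕ) :
    Ln B (N + 1) = (B.map fun x : KK p R => x ^ p ^ N) * Ln B N := by
  unfold Ln
  rw [List.range_succ, List.reverse_append, List.reverse_singleton, List.singleton_append,
    List.map_cons, List.prod_cons]

theorem map_pow_frobK (B : Matrix ιL ιL (KK p R)) (N : ℕ) :
    (B.map fun x : KK p R => x ^ p ^ N).map (frobK p R) =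
      B.map fun x : KK p R => x ^ p ^ (N + 1) := by
  ext i j
  simp only [Matrix.map_apply]
  rw [frobK_apply, ← pow_mul, ← pow_succ]

theorem Ln_frob_mul (B : Matrix ιL ιL (KK p R)) (N : ℕ) :
    (Ln B N).map (frobK p R) * B = Ln B (N + 1) := by
  induction N with
  | zero =>
    rw [Ln_succ, Ln_zero, Matrix.map_one (frobK p R) (map_zero _) (map_one _), one_mul, mul_one]
    ext i j
    simp only [Matrix.map_apply, pow_zero, pow_one]
  | succ N ih =>
    rw [Ln_succ B N, Matrix.map_mul, Matrix.mul_assoc, ih, map_pow_frobK, ← Ln_succ]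

theorem Cn_eq_Ln (B : Matrix ιL ιL (KK p R)) (n : ℕ) : Cn B n = Ln B (n + 1) := by
  induction n with
  | zero =>
    rw [← Ln_frob_mul, Ln_zero, Matrix.map_one (frobK p R) (map_zero _) (map_one _), one_mul]
    rfl
  | succ n ih =>
    show (Cn B n).map (frobK p R) * B = _
    rw [ih, Ln_frob_mul]

/-- the scalars `p` (on `T`-indices) and `1` (on `L`-indices) -/
def ddw (p : ℕ) [Fact p.Prime] (R : Type u) [CommRing R] (ιT ιL : Type w) :
    ιT ⊕ ιL → WittVector p R :=
  Sum.elim (fun _ => (p : WittVector p R)) (fun _ => 1)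

/-- the matrix of `V#` -/
def vsMat (β : Matrix (ιT ⊕ ιL) (ιT ⊕ ιL) (WittVector p R)) :
    Matrix (ιT ⊕ ιL) (ιT ⊕ ιL) (WittVector p R) :=
  Matrix.of fun j k => β j k * ddw p R ιT ιL j

theorem vsMat_inl (β : Matrix (ιT ⊕ ιL) (ιT ⊕ ιL) (WittVector p R)) (j : ιT) (k : ιT ⊕ ιL) :
    vsMat β (Sum.inl j) k = β (Sum.inl j) k * (p : WittVector p R) := rfl

theorem vsMat_inr (β : Matrix (ιT ⊕ ιL) (ιT ⊕ ιL) (WittVector p R)) (j : ιL) (k : ιT ⊕ ιL) :
    vsMat β (Sum.inr j) k = β (Sum.inr j) k := mul_one _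

theorem vsMat_map_piK (β : Matrix (ιT ⊕ ιL) (ιT ⊕ ιL) (WittVector p R)) :
    (vsMat β).map (piK p R) =
      Matrix.fromBlocks 0 0
        (Matrix.of fun (k : ιL) (l : ιT) => piK p R (β (Sum.inr k) (Sum.inl l)))
        (Matrix.of fun (k : ιL) (l : ιL) => piK p R (β (Sum.inr k) (Sum.inr l))) := by
  ext i k
  rcases i with i | i <;> rcases k with k | k
  · rw [Matrix.map_apply, Matrix.fromBlocks_apply₁₁, Matrix.zero_apply, vsMat_inl, map_mul,
      piK_natCast, mul_zero]
  · rw [Matrix.map_apply, Matrix.fromBlocks_apply₁₂, Matrix.zero_apply, vsMat_inl, map_mul,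
      piK_natCast, mul_zero]
  · rw [Matrix.map_apply, Matrix.fromBlocks_apply₂₁, vsMat_inr]; rfl
  · rw [Matrix.map_apply, Matrix.fromBlocks_apply₂₂, vsMat_inr]; rfl

variable [DecidableEq ιT]

theorem matrix_criterion (hp : IsNilpotent (p : R))
    {P : Type v} [AddCommGroup P] [Module (WittVector p R) P] (D : Display3n p R P)
    (L T : Submodule (WittVector p R) P) (hLT : IsCompl L T) (hLQ : L ≤ D.Q)
    (bT : Module.Basis ιT (WittVector p R) T) (bL : Module.Basis ιL (WittVector p R) L)
    (α β : Matrix (ιT ⊕ ιL) (ιT ⊕ ιL) (WittVector p R)) (hαβ : α * β = 1)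
    (hF : ∀ j : ιT, D.F (bT j : P) =
      Finset.univ.sum fun i : ιT ⊕ ιL => α i (Sum.inl j) •
        Sum.elim (fun a : ιT => (bT a : P)) (fun a : ιL => (bL a : P)) i)
    (hV : ∀ k : ιL, D.Vinv ⟨(bL k : P), hLQ (bL k).2⟩ =
      Finset.univ.sum fun i : ιT ⊕ ιL => α i (Sum.inr k) •
        Sum.elim (fun a : ιT => (bT a : P)) (fun a : ιL => (bL a : P)) i) :
    Dieu.IsDisplay D ↔
      ∃ N : ℕ, 0 < N ∧
        (((List.range N).reverse.map fun i : ℕ =>
            (Matrix.of fun k l : ιL =>
                Ideal.Quotient.mk (Ideal.span {(p : R)})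
                  (WittVector.constantCoeff (β (Sum.inr k) (Sum.inr l)))).map
              fun x : R ⧸ Ideal.span {(p : R)} => x ^ p ^ i).prod
          = 0) := by
  classical
  change Dieu.IsDisplay D ↔ ∃ N : ℕ, 0 < N ∧
    Ln (p := p) (R := R) (Matrix.of fun k l : ιL => piK p R (β (Sum.inr k) (Sum.inr l))) N = 0
  obtain ⟨b, hb⟩ : ∃ b : Module.Basis (ιT ⊕ ιL) (WittVector p R) P,
      ∀ i, b i = Sum.elim (fun a : ιT => (bT a : P)) (fun a : ιL => (bL a : P)) i := by
    refine ⟨(bT.prod bL).map (Submodule.prodEquivOfIsCompl T L hLT.symm), ?_⟩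
    intro i
    rw [Module.Basis.map_apply, Submodule.coe_prodEquivOfIsCompl']
    rcases i with j | k
    · rw [Module.Basis.prod_apply_inl_fst, Module.Basis.prod_apply_inl_snd, Sum.elim_inl,
        Submodule.coe_zero, add_zero]
    · rw [Module.Basis.prod_apply_inr_fst, Module.Basis.prod_apply_inr_snd, Sum.elim_inr,
        Submodule.coe_zero, zero_add]
  obtain ⟨B, hB⟩ : ∃ B : Matrix ιL ιL (KK p R),
      B = Matrix.of fun k l : ιL => piK p R (β (Sum.inr k) (Sum.inr l)) := ⟨_, rfl⟩
  obtain ⟨B', hB'⟩ : ∃ B' : Matrix ιL ιT (KK p R),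
      B' = Matrix.of fun (k : ιL) (l : ιT) => piK p R (β (Sum.inr k) (Sum.inl l)) := ⟨_, rfl⟩
  rw [← hB]
  have key : ∀ Vs : P →ₗ[WittVector p R] BC σR P, IsVSharp D Vs →
      Rep (⇑b) ⟨σR, Vs⟩ (vsMat β) := by
    intro Vs hVs
    refine rep_of_inverse (⇑b)
      (Sum.elim (fun j : ιT => D.F (bT j : P))
        (fun k : ιL => D.Vinv ⟨(bL k : P), hLQ (bL k).2⟩)) σR Vs α β hαβ (ddw p R ιT ιL) ?_ ?_
    · rintro (j | k)
      · rw [Sum.elim_inl, hF j]
        exact Finset.sum_congr rfl fun i _ => by rw [hb i]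
      · rw [Sum.elim_inr, hV k]
        exact Finset.sum_congr rfl fun i _ => by rw [hb i]
    · rintro (j | k)
      · have h1 := hVs.app_smul_F 1 (bT j : P)
        rw [one_smul] at h1
        rw [Sum.elim_inl, h1, hb]
        rfl
      · have h1 := hVs.app_smul_Vinv 1 ⟨(bL k : P), hLQ (bL k).2⟩
        rw [one_smul] at h1
        rw [Sum.elim_inr, h1, hb]
        exact (one_smul _ _).symm
  have hMb : (vsMat β).map (piK p R) =
      Matrix.fromBlocks (0 : Matrix ιT ιT (KK p R)) (0 : Matrix ιT ιL (KK p R)) B' B := by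
    rw [hB, hB']; exact vsMat_map_piK β
  have hchain : ∀ n, Kn ((vsMat β).map (piK p R)) n =
      Matrix.fromBlocks (0 : Matrix ιT ιT (KK p R)) (0 : Matrix ιT ιL (KK p R))
        (Cn' B' B n) (Cn B n) := by
    intro n; rw [hMb]; exact Kn_blocks B' B n
  unfold Dieu.IsDisplay Dieu.IsVNilpotent
  constructor
  · rintro ⟨Vs, hVs, n, hn⟩
    have h1 := (nilp_iff b Vs (vsMat β) (key Vs hVs) n).mp hn
    have h2 : Matrix.fromBlocks (0 : Matrix ιT ιT (KK p R)) (0 : Matrix ιT ιL (KK p R))
        (Cn' B' B n) (Cn B n) = Matrix.fromBlocks 0 0 0 0 := by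
      rw [← hchain n, h1, Matrix.fromBlocks_zero]
    refine ⟨n + 1, Nat.succ_pos n, ?_⟩
    rw [← Cn_eq_Ln]
    exact (Matrix.fromBlocks_inj.mp h2).2.2.2
  · rintro ⟨N, hN, hL⟩
    obtain ⟨n, rfl⟩ : ∃ n, N = n + 1 := ⟨N - 1, by omega⟩
    obtain ⟨Vs, hVs⟩ := exists_vSharp hp D
    refine ⟨Vs, hVs, n + 1, (nilp_iff b Vs (vsMat β) (key Vs hVs) (n + 1)).mpr ?_⟩
    rw [hchain (n + 1)]
    have hC : Cn B n = 0 := by rw [Cn_eq_Ln]; exact hL
    show Matrix.fromBlocks (0 : Matrix ιT ιT (KK p R)) (0 : Matrix ιT ιL (KK p R))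
      ((Cn B n).map (frobK p R) * B') ((Cn B n).map (frobK p R) * B) = 0
    rw [hC, Matrix.map_zero (frobK p R) (map_zero _), Matrix.zero_mul, Matrix.zero_mul,
      Matrix.fromBlocks_zero]

end Blocks

end Witt1

end Groth.Agent.Helper8.DispPow
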