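import Mathlib
import Groth.Agent.Lib.Helper8.DiffCh1

/-!
# Approximating elements of `R` by polynomials in a family generating `J/J²`
-/

set_option autoImplicit false

namespace Groth.Agent.Helper8.DivPow

open MvPolynomial Groth.Agent.Helper8.DiffCh

universe u

variable {B R : Type u} [CommRing B] [CommRing R] [Algebra B R] {J : Ideal R}
  {σ : Type*} [Fintype σ] {F : σ → ↥J}

section approx

variable (hsurj : ∀ r : R, ∃ b : B, r - algebraMap B R b ∈ J)
  (hspan : Submodule.span R (Set.range fun l => J.toCotangent (F l)) = ⊤)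

include hsurj in
theorem approx_zero (x : R) : ∃ P : MvPolynomial σ B, P.IsHomogeneous 0 ∧ x - ev J F P ∈ J ^ 1 := by
  obtain ⟨b, hb⟩ := hsurj x
  refine ⟨C b, isHomogeneous_C σ b, ?_⟩
  rw [ev, aeval_C, pow_one]
  exact hb

include hsurj hspan in
theorem approx_one (x : R) (hx : x ∈ J) :
    ∃ P : MvPolynomial σ B, P.IsHomogeneous 1 ∧ x - ev J F P ∈ J ^ 2 := by
  have h1 : J.toCotangent ⟨x, hx⟩ ∈ Submodule.span R (Set.range fun l => J.toCotangent (F l)) := by
    rw [hspan]; trivial
  obtain ⟨c, hc⟩ := (Submodule.mem_span_range_iff_exists_fun R).1 h1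
  choose b hb using fun l => hsurj (c l)
  refine ⟨∑ l, C (b l) * X l, ?_, ?_⟩
  · apply IsHomogeneous.sum
    intro l _
    have := (isHomogeneous_C σ (b l)).mul (isHomogeneous_X B l)
    rwa [zero_add] at this
  · have h2 : J.toCotangent ⟨x, hx⟩ = J.toCotangent (∑ l, c l • F l) := by
      rw [map_sum, ← hc]
      exact Finset.sum_congr rfl fun l _ => (map_smul _ _ _).symm
    rw [Ideal.toCotangent_eq] at h2
    have h3 : ev J F (∑ l, C (b l) * X l) = ∑ l, algebraMap B R (b l) * (F l : R) := by
      rw [map_sum]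
      refine Finset.sum_congr rfl fun l _ => ?_
      rw [map_mul, ev_X, ev, aeval_C]
    have h4 : x - ev J F (∑ l, C (b l) * X l) =
        (x - ((∑ l, c l • F l : ↥J) : R)) + ∑ l, (c l - algebraMap B R (b l)) * (F l : R) := by
      rw [h3, Submodule.coe_sum]
      simp only [Submodule.coe_smul, smul_eq_mul, sub_mul, Finset.sum_sub_distrib]
      ring
    rw [h4]
    refine Ideal.add_mem _ h2 (Ideal.sum_mem _ fun l _ => ?_)
    rw [pow_two]
    exact Ideal.mul_mem_mul (hb l) (F l).2

include hsurj hspan in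
theorem approx_pow (k : ℕ) : ∀ x ∈ J ^ k,
    ∃ P : MvPolynomial σ B, P.IsHomogeneous k ∧ x - ev J F P ∈ J ^ (k + 1) := by
  induction k with
  | zero =>
    intro x _
    exact approx_zero hsurj x
  | succ k ih =>
    intro x hx
    rw [pow_succ'] at hx
    induction hx using Submodule.mul_induction_on' with
    | mem_mul_mem a ha y hy =>
      obtain ⟨P₁, hP₁, e₁⟩ := approx_one hsurj hspan a ha
      obtain ⟨Pk, hPk, ek⟩ := ih y hy
      refine ⟨P₁ * Pk, ?_, ?_⟩
      · have := hP₁.mul hPk
        rwa [add_comm] at this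
      · have h1 : a * y - ev J F (P₁ * Pk) =
            a * (y - ev J F Pk) + (a - ev J F P₁) * ev J F Pk := by
          rw [map_mul]
          ring
        rw [h1]
        refine Ideal.add_mem _ ?_ ?_
        · rw [pow_succ']
          exact Ideal.mul_mem_mul ha ek
        · have h2 : J ^ 2 * J ^ k = J ^ (k + 1 + 1) := by
            rw [← pow_add]
            congr 1
            omega
          rw [← h2]
          exact Ideal.mul_mem_mul e₁ (ev_mem_pow J F k Pk hPk)
    | add x₁ _ x₂ _ h₁ h₂ =>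
      obtain ⟨P₁, hP₁, e₁⟩ := h₁
      obtain ⟨P₂, hP₂, e₂⟩ := h₂
      refine ⟨P₁ + P₂, hP₁.add hP₂, ?_⟩
      have : x₁ + x₂ - ev J F (P₁ + P₂) = (x₁ - ev J F P₁) + (x₂ - ev J F P₂) := by
        rw [map_add]; ring
      rw [this]
      exact Ideal.add_mem _ e₁ e₂

include hsurj hspan in
/-- Every element of `R` is, modulo `J^(m+1)`, a polynomial of degree `≤ m` in the `F l` with
coefficients in `B`. -/
theorem approx (m : ℕ) (x : R) :
    ∃ Q : MvPolynomial σ B, Q.totalDegree ≤ m ∧ x - ev J F Q ∈ J ^ (m + 1) := by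
  induction m with
  | zero =>
    obtain ⟨P, hP, e⟩ := approx_zero (F := F) hsurj x
    exact ⟨P, hP.totalDegree_le, e⟩
  | succ m ih =>
    obtain ⟨Q, hQ, e⟩ := ih
    obtain ⟨P, hP, e'⟩ := approx_pow hsurj hspan (m + 1) _ e
    refine ⟨Q + P, ?_, ?_⟩
    · refine (totalDegree_add _ _).trans (max_le (hQ.trans (Nat.le_succ m)) hP.totalDegree_le)
    · have : x - ev J F (Q + P) = x - ev J F Q - ev J F P := by
        rw [map_add]; ring
      rw [this]
      exact e'

end approx

end Groth.Agent.Helper8.DivPow
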