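import Mathlib
import Groth.Prelude.Def_PP16
import Groth.Agent.Lib.Helper8.QRGen1

/-!
# Coordinates on the symmetric powers of `J/J²` (finite family of functionals, general index type)
-/

set_option autoImplicit false

namespace Groth.Agent.Helper8.QRGen

open PP16 MvPolynomial Groth.Agent.Helper8.SymPow

universe u

section Lam

variable {R : Type u} [CommRing R] (J : Ideal R) {σ : Type*} [Fintype σ] [DecidableEq σ] (F : σ → ↥J) (ι : Type u)
  [Fintype ι]
variable {L : Type u} [CommRing L] [Algebra R L] (lam : σ → J.Cotangent →ₗ[R] L)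

/-- The linear form `Σ_l λ_l(m) X_l`. -/
noncomputable def ell : J.Cotangent →ₗ[R] MvPolynomial σ L where
  toFun m := ∑ l, C (lam l m) * X l
  map_add' m m' := by
    simp only [map_add, add_mul, Finset.sum_add_distrib]
  map_smul' c m := by
    simp only [map_smul, RingHom.id_apply, Finset.smul_sum]
    refine Finset.sum_congr rfl fun l _ => ?_
    rw [Algebra.smul_def c (lam l m), map_mul, mul_assoc, Algebra.smul_def, MvPolynomial.algebraMap_apply]

theorem ell_apply (m : J.Cotangent) : ell J lam m = ∑ l, C (lam l m) * X l := rfl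

/-- The coordinate map on the symmetric power. -/
noncomputable def Lam : SymmetricPower R ι J.Cotangent →ₗ[R] MvPolynomial σ L :=
  SymPow.lift ((MultilinearMap.mkPiAlgebra R ι (MvPolynomial σ L)).compLinearMap
    (fun _ => ell J lam)) (by
    intro e v
    simp only [MultilinearMap.compLinearMap_apply, MultilinearMap.mkPiAlgebra_apply]
    exact Equiv.prod_comp e (fun i => ell J lam (v i)))

theorem Lam_tprod (v : ι → J.Cotangent) :
    Lam J ι lam (SymmetricPower.tprod R v) = ∏ i, ell J lam (v i) := by
  unfold Lam
  rw [SymPow.lift_tprod]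
  simp only [MultilinearMap.compLinearMap_apply, MultilinearMap.mkPiAlgebra_apply]

variable {lam}

theorem ell_F (hlam : ∀ l l', lam l (J.toCotangent (F l')) = if l = l' then 1 else 0)
    (l' : σ) : ell J lam (J.toCotangent (F l')) = X l' := by
  classical
  rw [ell_apply, Finset.sum_eq_single l']
  · rw [hlam, if_pos rfl, map_one, one_mul]
  · intro l _ hl
    rw [hlam, if_neg hl, map_zero, zero_mul]
  · intro h
    exact absurd (Finset.mem_univ _) h

theorem Lam_Tw (hlam : ∀ l l', lam l (J.toCotangent (F l')) = if l = l' then 1 else 0)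
    (w : ι → σ) : Lam J ι lam (Tw J F ι w) = ∏ i, X (w i) := by
  unfold Tw
  rw [Lam_tprod]
  exact Finset.prod_congr rfl fun i _ => ell_F J F hlam (w i)

theorem Lam_tau (hlam : ∀ l l', lam l (J.toCotangent (F l')) = if l = l' then 1 else 0)
    (p : MvPolynomial σ R) :
    Lam J ι lam (tau J F ι p) =
      map (algebraMap R L) (homogeneousComponent (Fintype.card ι) p) := by
  induction p using MvPolynomial.induction_on' with
  | monomial d c =>
    rw [tau_monomial, map_smul]
    by_cases h : Finsupp.degree d = Fintype.card ι
    · obtain ⟨w, rfl⟩ := exists_word (ι := ι) d h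
      rw [Td_expo, Lam_Tw J F ι hlam, homogeneousComponent_of_mem (isHomogeneous_monomial c rfl),
        if_pos (degree_expo w).symm, map_monomial, ← monomial_expo, smul_monomial,
        Algebra.smul_def, mul_one]
    · rw [Td_of_ne J F ι d h, map_zero, smul_zero,
        homogeneousComponent_of_mem (isHomogeneous_monomial c rfl), if_neg (Ne.symm h), map_zero]
  | add p q hp hq => rw [map_add, map_add, hp, hq, map_add, map_add]

theorem algebraMap_coeff_eq_zero
    (hlam : ∀ l l', lam l (J.toCotangent (F l')) = if l = l' then 1 else 0)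
    (p : MvPolynomial σ R) (hp : p.IsHomogeneous (Fintype.card ι))
    (h : tau J F ι p = 0) (d : σ →₀ ℕ) : algebraMap R L (p.coeff d) = 0 := by
  have h1 := Lam_tau J F ι hlam p
  rw [h, map_zero, homogeneousComponent_of_mem hp, if_pos rfl] at h1
  rw [← coeff_map, ← h1, coeff_zero]

end Lam

end Groth.Agent.Helper8.QRGen
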