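import Mathlib
import Groth.Prelude.Def_PP16
import Groth.Agent.Lib.Helper8.QRGen2
import Groth.Agent.Lib.Helper8.DiffCh1

/-!
# Independence of the monomials in a family lifting a basis of `J/J²`, modulo powers of `J`

`R` is a `B`-algebra with `B → R/J` injective, `F` a finite family of elements of `J` and `lam` a
family of functionals on `J/J²` dual to the classes of the `F l`.  If `Sym^n(J/J²) → J^n/J^(n+1)` is
injective for all `n ≥ 1`, a polynomial `Q` over `B` of total degree `≤ m` with `Q(F) ∈ J^(m+1)`
vanishes.
-/

set_option autoImplicit false

namespace Groth.Agent.Helper8.QRGen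

open PP16 MvPolynomial Groth.Agent.Helper8.SymPow Groth.Agent.Helper8.DiffCh

universe u

variable {B R : Type u} [CommRing B] [CommRing R] [Algebra B R] {J : Ideal R}
  {σ : Type*} [Fintype σ] [DecidableEq σ] {F : σ → ↥J}
  {L : Type u} [CommRing L] [Algebra R L] {lam : σ → J.Cotangent →ₗ[R] L}

theorem ev_eq_eval_map (P : MvPolynomial σ B) :
    ev J F P = eval (fun l => (F l : R)) (map (algebraMap B R) P) := by
  rw [ev, aeval_def, eval₂_eq_eval_map]

/-- Detection of the coefficients of a homogeneous polynomial. -/
theorem eq_zero_of_isHomogeneous
    (hinj : ∀ b : B, algebraMap B R b ∈ J → b = 0)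
    (hL : ∀ b : B, algebraMap R L (algebraMap B R b) = 0 → b = 0)
    (hlam : ∀ l l', lam l (J.toCotangent (F l')) = if l = l' then 1 else 0)
    (hsym : SymGrBijective R J)
    (k : ℕ) (P : MvPolynomial σ B) (hP : P.IsHomogeneous k) (hev : ev J F P ∈ J ^ (k + 1)) :
    P = 0 := by
  rcases Nat.eq_zero_or_pos k with rfl | hk
  · have h0 : P = C (P.coeff 0) :=
      totalDegree_eq_zero_iff_eq_C.1 (Nat.le_zero.1 hP.totalDegree_le)
    rw [h0, ev, aeval_C, zero_add, pow_one] at hev
    rw [h0, hinj _ hev, map_zero]
  · have hcard : Fintype.card (ULift.{u} (Fin k)) = k := by simp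
    haveI : Nonempty (ULift.{u} (Fin k)) := ⟨⟨⟨0, hk⟩⟩⟩
    have hP' : (map (algebraMap B R) P).IsHomogeneous (Fintype.card (ULift.{u} (Fin k))) := by
      rw [hcard]
      exact hP.map _
    have h2 : phi R J (ULift.{u} (Fin k)) (tau J F (ULift.{u} (Fin k)) (map (algebraMap B R) P))
        = 0 := by
      rw [phi_tau_eq_zero_iff J F _ _ hP', hcard, ← ev_eq_eval_map]
      exact hev
    have hinj' := (symGrBijective_iff R J).1 hsym (ULift.{u} (Fin k))
    have h3 : tau J F (ULift.{u} (Fin k)) (map (algebraMap B R) P) = 0 :=
      hinj' (h2.trans (map_zero _).symm)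
    ext d
    have h4 := algebraMap_coeff_eq_zero J F (ULift.{u} (Fin k)) hlam _ hP' h3 d
    rw [coeff_map] at h4
    rw [hL _ h4, coeff_zero]

/-- Independence of the monomials of degree `≤ m` modulo `J^(m+1)`. -/
theorem eq_zero_of_ev_mem
    (hinj : ∀ b : B, algebraMap B R b ∈ J → b = 0)
    (hL : ∀ b : B, algebraMap R L (algebraMap B R b) = 0 → b = 0)
    (hlam : ∀ l l', lam l (J.toCotangent (F l')) = if l = l' then 1 else 0)
    (hsym : SymGrBijective R J)
    (m : ℕ) (Q : MvPolynomial σ B) (hdeg : Q.totalDegree ≤ m) (hev : ev J F Q ∈ J ^ (m + 1)) :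
    Q = 0 := by
  have key : ∀ k, k ≤ m + 1 → ∀ j < k, homogeneousComponent j Q = 0 := by
    intro k
    induction k with
    | zero => intro _ j hj; exact absurd hj (Nat.not_lt_zero j)
    | succ k ih =>
      intro hk j hj
      have ih' := ih (Nat.le_of_succ_le hk)
      rcases Nat.lt_succ_iff_lt_or_eq.1 hj with hlt | rfl
      · exact ih' j hlt
      · apply eq_zero_of_isHomogeneous hinj hL hlam hsym j _
          (homogeneousComponent_isHomogeneous j Q)
        -- decompose `Q`
        have hsum := sum_homogeneousComponent Q
        have hsplit : ev J F Q = ev J F (homogeneousComponent j Q) +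
            ∑ i ∈ (Finset.range (Q.totalDegree + 1)).filter (fun i => j < i),
              ev J F (homogeneousComponent i Q) := by
          conv_lhs => rw [← hsum, map_sum]
          by_cases hjm : j ∈ Finset.range (Q.totalDegree + 1)
          · rw [← Finset.add_sum_erase _ _ hjm]
            congr 1
            rw [Finset.sum_filter]
            have h1 : ∀ i ∈ (Finset.range (Q.totalDegree + 1)).erase j,
                ev J F (homogeneousComponent i Q) =
                  if j < i then ev J F (homogeneousComponent i Q) else 0 := by
              intro i hi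
              split_ifs with h
              · rfl
              · have hij : i < j := lt_of_le_of_ne (not_lt.1 h) (Finset.ne_of_mem_erase hi)
                rw [ih' i hij, map_zero]
            rw [Finset.sum_congr rfl h1]
            apply Finset.sum_subset (Finset.erase_subset _ _)
            intro i hi hi'
            have : i = j := by
              by_contra hne
              exact hi' (Finset.mem_erase.2 ⟨hne, hi⟩)
            rw [this, if_neg (lt_irrefl j)]
          · have hjd : Q.totalDegree < j := by
              rw [Finset.mem_range, not_lt] at hjm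
              exact hjm
            rw [homogeneousComponent_eq_zero _ _ hjd, map_zero, zero_add, Finset.sum_filter]
            refine Finset.sum_congr rfl fun i hi => ?_
            split_ifs with h
            · rfl
            · have hij : i < j := by
                rw [Finset.mem_range] at hi
                omega
              rw [ih' i hij, map_zero]
        have hrest : ∑ i ∈ (Finset.range (Q.totalDegree + 1)).filter (fun i => j < i),
            ev J F (homogeneousComponent i Q) ∈ J ^ (j + 1) := by
          refine Ideal.sum_mem _ fun i hi => ?_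
          have hji : j + 1 ≤ i := (Finset.mem_filter.1 hi).2
          exact Ideal.pow_le_pow_right hji
            (ev_mem_pow J F i _ (homogeneousComponent_isHomogeneous i Q))
        have hQ : ev J F Q ∈ J ^ (j + 1) :=
          Ideal.pow_le_pow_right (by omega) hev
        have := Ideal.sub_mem _ hQ hrest
        rwa [hsplit, add_sub_cancel_right] at this
  rw [← sum_homogeneousComponent Q]
  refine Finset.sum_eq_zero fun i hi => ?_
  rw [Finset.mem_range] at hi
  exact key (m + 1) le_rfl i (by omega)

end Groth.Agent.Helper8.QRGen
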