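import Mathlib
import Groth.Prelude.Def_PP16
import Groth.Agent.Lib.Helper8.QRGen3
import Groth.Agent.Lib.Helper8.DivPow1
import Groth.Agent.Lib.Helper8.DiffSm5

/-!
# The monomial basis of the principal parts of a differentially smooth algebra
-/

set_option autoImplicit false

namespace Groth.Agent.Helper8.DivPow

open PP16 MvPolynomial TensorProduct Groth.Agent.Helper8.SymPow Groth.Agent.Helper8.QRGen
  Groth.Agent.Helper8.DiffSm Groth.Agent.Helper8.DiffCh

universe u

section setup

variable (A B : Type u) [CommRing A] [CommRing B] [Algebra A B] {ι : Type} [Fintype ι]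
  [DecidableEq ι] (z : ι → B)

/-- The elements `1 ⊗ z_i - z_i ⊗ 1` of the diagonal ideal. -/
noncomputable def zeta (i : ι) : ↥(KaehlerDifferential.ideal A B) :=
  ⟨1 ⊗ₜ z i - z i ⊗ₜ 1, KaehlerDifferential.one_smul_sub_smul_one_mem_ideal A (z i)⟩

theorem toCotangent_zeta (i : ι) :
    (KaehlerDifferential.ideal A B).toCotangent (zeta A B z i) = KaehlerDifferential.D A B (z i) :=
  rfl

theorem hsurj (r : B ⊗[A] B) :
    ∃ b : B, r - algebraMap B (B ⊗[A] B) b ∈ KaehlerDifferential.ideal A B :=
  ⟨sigma A B r, sub_mem_ideal A B r⟩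

theorem hinj (b : B) (h : algebraMap B (B ⊗[A] B) b ∈ KaehlerDifferential.ideal A B) : b = 0 := by
  rw [mem_ideal_iff, sigma_algebraMap] at h
  exact h

variable {A B z}

theorem hspan (hz : Submodule.span B (Set.range fun i => KaehlerDifferential.D A B (z i)) = ⊤) :
    Submodule.span (B ⊗[A] B) (Set.range fun l =>
      (KaehlerDifferential.ideal A B).toCotangent (zeta A B z l)) = ⊤ := by
  rw [eq_top_iff]
  intro m _
  have hm : m ∈ Submodule.span B (Set.range fun l =>
      (KaehlerDifferential.ideal A B).toCotangent (zeta A B z l)) := by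
    have : Submodule.span B (Set.range fun l =>
      (KaehlerDifferential.ideal A B).toCotangent (zeta A B z l)) = ⊤ := hz
    rw [this]; trivial
  exact Submodule.span_le_restrictScalars B (B ⊗[A] B) _ hm

end setup

section indep

variable {A B : Type u} [CommRing A] [CommRing B] [Algebra A B] {ι : Type} [Fintype ι]
  [DecidableEq ι] {z : ι → B}

/-- `B` as an algebra over `B ⊗ B` through multiplication (to be used locally). -/
@[reducible] noncomputable def sigmaAlgebra (A B : Type u) [CommRing A] [CommRing B]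
    [Algebra A B] : Algebra (B ⊗[A] B) B := (sigma A B).toAlgebra

/-- The coordinate functionals of a basis of the differentials, as `B ⊗ B`-linear maps. -/
noncomputable def lamOf (bΩ : Module.Basis ι B (KaehlerDifferential A B)) (l : ι) :
    letI := sigmaAlgebra A B
    (KaehlerDifferential.ideal A B).Cotangent →ₗ[B ⊗[A] B] B :=
  letI := sigmaAlgebra A B
  { toFun := fun m => bΩ.coord l m
    map_add' := fun x y => map_add _ x y
    map_smul' := fun r m => by
      rw [smul_cotangent]
      exact (bΩ.coord l).map_smul (sigma A B r) m }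

theorem eq_zero_of_ev_mem_diag (hB : IsDiffSmooth A B)
    (bΩ : Module.Basis ι B (KaehlerDifferential A B))
    (hbΩ : ∀ i, bΩ i = KaehlerDifferential.D A B (z i)) (m : ℕ) (Q : MvPolynomial ι B)
    (hdeg : Q.totalDegree ≤ m)
    (hev : ev (KaehlerDifferential.ideal A B) (zeta A B z) Q ∈
      KaehlerDifferential.ideal A B ^ (m + 1)) : Q = 0 := by
  letI := sigmaAlgebra A B
  refine eq_zero_of_ev_mem (L := B) (lam := lamOf bΩ) (hinj A B) (fun b h => ?_) (fun l l' => ?_)
    (symGrBijective_of_isDiffSmooth A B hB) m Q hdeg hev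
  · have h1 : algebraMap (B ⊗[A] B) B (algebraMap B (B ⊗[A] B) b) = b := sigma_algebraMap A B b
    rwa [h1] at h
  · show bΩ.coord l (KaehlerDifferential.D A B (z l')) = _
    rw [← hbΩ, Module.Basis.coord_apply, Module.Basis.repr_self, Finsupp.single_apply]
    simp only [eq_comm]

end indep

section basis

variable {A B : Type u} [CommRing A] [CommRing B] [Algebra A B] {ι : Type} [Fintype ι]
  [DecidableEq ι] (z : ι → B) (m : ℕ)

/-- The monomials `ζ^p`, `|p| ≤ m`, in the ring of principal parts of order `m`. -/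
noncomputable def vP (p : {p : ι → ℕ // ∑ i, p i ≤ m}) : P m A B :=
  ∏ i, (dn m A B (z i) - algebraMap B (P m A B) (z i)) ^ (p.1 i)

theorem mk_zeta (i : ι) :
    Ideal.Quotient.mk (KaehlerDifferential.ideal A B ^ (m + 1)) (zeta A B z i : B ⊗[A] B) =
      dn m A B (z i) - algebraMap B (P m A B) (z i) := by
  show Ideal.Quotient.mk _ (1 ⊗ₜ z i - z i ⊗ₜ 1) = _
  rw [map_sub]
  rfl

theorem mk_ev_monomial (d : ι →₀ ℕ) :
    Ideal.Quotient.mk (KaehlerDifferential.ideal A B ^ (m + 1))
      (ev (KaehlerDifferential.ideal A B) (zeta A B z) (monomial d (1 : B))) =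
      ∏ i, (dn m A B (z i) - algebraMap B (P m A B) (z i)) ^ (d i) := by
  rw [ev, aeval_monomial, map_one, one_mul, Finsupp.prod_fintype _ _ (fun i => pow_zero _),
    map_prod]
  refine Finset.prod_congr rfl fun i _ => ?_
  rw [map_pow, mk_zeta]

theorem vP_eq (p : {p : ι → ℕ // ∑ i, p i ≤ m}) :
    vP z m p = Ideal.Quotient.mk (KaehlerDifferential.ideal A B ^ (m + 1))
      (ev (KaehlerDifferential.ideal A B) (zeta A B z)
        (monomial (Finsupp.equivFunOnFinite.symm p.1) (1 : B))) := by
  rw [mk_ev_monomial]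
  rfl

theorem mk_smul (b : B) (r : B ⊗[A] B) :
    Ideal.Quotient.mk (KaehlerDifferential.ideal A B ^ (m + 1)) (b • r) =
      b • Ideal.Quotient.mk (KaehlerDifferential.ideal A B ^ (m + 1)) r := rfl

/-- The image in `P^m` of the value of a polynomial. -/
theorem mk_ev (Q : MvPolynomial ι B) :
    Ideal.Quotient.mk (KaehlerDifferential.ideal A B ^ (m + 1))
      (ev (KaehlerDifferential.ideal A B) (zeta A B z) Q) =
      ∑ d ∈ Q.support, Q.coeff d •
        ∏ i, (dn m A B (z i) - algebraMap B (P m A B) (z i)) ^ (d i) := by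
  conv_lhs => rw [← MvPolynomial.support_sum_monomial_coeff Q, map_sum, map_sum]
  refine Finset.sum_congr rfl fun d _ => ?_
  have h1 : (monomial d (Q.coeff d) : MvPolynomial ι B) = Q.coeff d • monomial d 1 := by
    rw [smul_monomial, smul_eq_mul, mul_one]
  rw [h1, map_smul, mk_smul, mk_ev_monomial]

end basis

section basis2

variable {A B : Type u} [CommRing A] [CommRing B] [Algebra A B] {ι : Type} [Fintype ι]
  [DecidableEq ι] {z : ι → B} (m : ℕ)

theorem degree_equivFunOnFinite_symm (p : ι → ℕ) :
    Finsupp.degree (Finsupp.equivFunOnFinite.symm p) = ∑ i, p i := by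
  rw [Finsupp.degree_apply]
  exact Finset.sum_subset (Finset.subset_univ _) fun i _ hi => by
    rw [Finsupp.notMem_support_iff] at hi
    exact hi

theorem linearIndependent_vP (hB : IsDiffSmooth A B)
    (bΩ : Module.Basis ι B (KaehlerDifferential A B))
    (hbΩ : ∀ i, bΩ i = KaehlerDifferential.D A B (z i)) :
    LinearIndependent B (vP (A := A) z m) := by
  classical
  rw [linearIndependent_iff']
  intro s g hg p₀ hp₀
  let Q : MvPolynomial ι B := ∑ p ∈ s, monomial (Finsupp.equivFunOnFinite.symm p.1) (g p)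
  have hdeg : Q.totalDegree ≤ m := by
    refine (totalDegree_finsetSum s _).trans (Finset.sup_le fun p _ => ?_)
    refine (totalDegree_monomial_le _ _).trans ?_
    have h1 : ((Finsupp.equivFunOnFinite.symm p.1).sum fun _ => id) = ∑ i, p.1 i :=
      Finsupp.sum_fintype _ _ (fun _ => rfl)
    rw [h1]
    exact p.2
  have hev : ev (KaehlerDifferential.ideal A B) (zeta A B z) Q ∈
      KaehlerDifferential.ideal A B ^ (m + 1) := by
    rw [← Ideal.Quotient.eq_zero_iff_mem, map_sum, map_sum, ← hg]
    refine Finset.sum_congr rfl fun p _ => ?_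
    have h1 : (monomial (Finsupp.equivFunOnFinite.symm p.1) (g p) : MvPolynomial ι B) =
        g p • monomial (Finsupp.equivFunOnFinite.symm p.1) 1 := by
      rw [smul_monomial, smul_eq_mul, mul_one]
    rw [h1, map_smul, mk_smul, ← vP_eq]
  have hQ := eq_zero_of_ev_mem_diag hB bΩ hbΩ m Q hdeg hev
  have h2 : Q.coeff (Finsupp.equivFunOnFinite.symm p₀.1) = g p₀ := by
    show (∑ p ∈ s, monomial (Finsupp.equivFunOnFinite.symm p.1) (g p)).coeff _ = _
    rw [coeff_sum, Finset.sum_eq_single p₀]
    · rw [coeff_monomial, if_pos rfl]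
    · intro p _ hp
      rw [coeff_monomial, if_neg]
      intro h
      exact hp (Subtype.ext (Finsupp.equivFunOnFinite.symm.injective h))
    · intro h
      exact absurd hp₀ h
  rw [← h2, hQ, coeff_zero]

theorem span_vP (hz : Submodule.span B (Set.range fun i => KaehlerDifferential.D A B (z i)) = ⊤) :
    ⊤ ≤ Submodule.span B (Set.range (vP (A := A) z m)) := by
  intro x _
  obtain ⟨r, rfl⟩ := Ideal.Quotient.mk_surjective x
  obtain ⟨Q, hdeg, hQ⟩ := approx (F := zeta A B z) (hsurj A B) (hspan hz) m r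
  rw [← Ideal.Quotient.eq_zero_iff_mem, map_sub, sub_eq_zero] at hQ
  rw [hQ, mk_ev]
  refine Submodule.sum_mem _ fun d hd => Submodule.smul_mem _ _ (Submodule.subset_span ?_)
  have hd' : ∑ i, (Finsupp.equivFunOnFinite d) i ≤ m := by
    have h1 := le_totalDegree hd
    have h2 : (d.sum fun _ e => e) = ∑ i, d i :=
      Finsupp.sum_fintype _ _ (fun _ => rfl)
    rw [h2] at h1
    exact h1.trans hdeg
  exact ⟨⟨Finsupp.equivFunOnFinite d, hd'⟩, rfl⟩

/-- **The monomial basis of `P^m`.** -/
theorem exists_basis_P (hB : IsDiffSmooth A B)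
    (hz : ∃ b : Module.Basis ι B (KaehlerDifferential A B),
      ∀ i, b i = KaehlerDifferential.D A B (z i)) :
    ∃ b : Module.Basis {p : ι → ℕ // ∑ i, p i ≤ m} B (P m A B),
      ∀ p, b p = ∏ i, (dn m A B (z i) - algebraMap B (P m A B) (z i)) ^ (p.1 i) := by
  obtain ⟨bΩ, hbΩ⟩ := hz
  have hspanB : Submodule.span B (Set.range fun i => KaehlerDifferential.D A B (z i)) = ⊤ := by
    have h1 : (fun i => KaehlerDifferential.D A B (z i)) = bΩ := funext fun i => (hbΩ i).symm
    rw [h1]
    exact bΩ.span_eq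
  refine ⟨Module.Basis.mk (linearIndependent_vP m hB bΩ hbΩ) (span_vP m hspanB), fun p => ?_⟩
  rw [Module.Basis.mk_apply]
  rfl

end basis2

end Groth.Agent.Helper8.DivPow
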