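import Mathlib
import Groth.Prelude.Def_PP16
import Groth.Prelude.Def_DiffOp
import Groth.Agent.Lib.Helper3.DiffOpK

/-!
# Divided-power operators: the values of their linearizations on the monomials `ζ^q`
-/

set_option autoImplicit false

namespace Groth.Agent.Helper8.DivPow

open TensorProduct Diff16 Groth.Agent.Helper3.DiffOp

universe u

section combinatorics

variable {M : Type*} [CommMonoid M] {ι : Type*} [Fintype ι] [DecidableEq ι]

theorem prod_pow_update (f : ι → M) (q : ι → ℕ) (i : ι) (k : ℕ) :
    ∏ j, f j ^ (Function.update q i k j) = f i ^ k * ∏ j ∈ Finset.univ.erase i, f j ^ q j := by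
  rw [← Finset.mul_prod_erase Finset.univ _ (Finset.mem_univ i), Function.update_self]
  congr 1
  refine Finset.prod_congr rfl fun j hj => ?_
  rw [Function.update_of_ne (Finset.ne_of_mem_erase hj)]

theorem prod_pow_eq (f : ι → M) (q : ι → ℕ) (i : ι) :
    ∏ j, f j ^ q j = f i ^ q i * ∏ j ∈ Finset.univ.erase i, f j ^ q j := by
  rw [← Finset.mul_prod_erase Finset.univ _ (Finset.mem_univ i)]

theorem prod_pow_update_succ (f : ι → M) (q : ι → ℕ) (i : ι) :
    ∏ j, f j ^ (Function.update q i (q i + 1) j) = (∏ j, f j ^ q j) * f i := by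
  rw [prod_pow_update, prod_pow_eq f q i, pow_succ]
  ac_rfl

theorem prod_pow_update_pred (f : ι → M) (q : ι → ℕ) (i : ι) (hi : 1 ≤ q i) :
    ∏ j, f j ^ q j = (∏ j, f j ^ (Function.update q i (q i - 1) j)) * f i := by
  have h := prod_pow_update_succ f (Function.update q i (q i - 1)) i
  rw [Function.update_self, Function.update_idem, Nat.sub_add_cancel hi,
    Function.update_eq_self] at h
  exact h

end combinatorics

section pascal

variable {B : Type*} [CommRing B]

/-- The one-variable term `binom(b, a) x^(b-a)`. -/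
def tz (a b : ℕ) (x : B) : B := (b.choose a : B) * x ^ (b - a)

theorem tz_succ (a b : ℕ) (x : B) :
    tz a (b + 1) x = x * tz a b x + (if 1 ≤ a then tz (a - 1) b x else 0) := by
  unfold tz
  rcases a with _ | a
  · simp only [Nat.choose_zero_right, Nat.cast_one, one_mul, Nat.sub_zero, pow_succ]
    simp [mul_comm]
  · rw [if_pos (Nat.succ_le_succ (Nat.zero_le a)), Nat.add_sub_cancel, Nat.choose_succ_succ,
      Nat.succ_sub_succ]
    by_cases h : a + 1 ≤ b
    · have h1 : b - a = (b - (a + 1)) + 1 := by omega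
      rw [h1, pow_succ]
      push_cast
      ring
    · rw [Nat.choose_eq_zero_of_lt (not_le.1 h)]
      push_cast
      ring

end pascal

section multi

variable {B : Type u} [CommRing B] {ι : Type} [Fintype ι] [DecidableEq ι] (z : ι → B)

/-- The value prescribed for `D_p (z^q)`. -/
def cz (p q : ι → ℕ) : B :=
  ((∏ i, Nat.choose (q i) (p i) : ℕ) : B) * ∏ i, z i ^ (q i - p i)

theorem cz_eq_prod (p q : ι → ℕ) : cz z p q = ∏ i, tz (p i) (q i) (z i) := by
  unfold cz tz
  rw [Nat.cast_prod, Finset.prod_mul_distrib]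

theorem cz_update_succ (p q : ι → ℕ) (i : ι) :
    cz z p (Function.update q i (q i + 1)) =
      z i * cz z p q + (if 1 ≤ p i then cz z (Function.update p i (p i - 1)) q else 0) := by
  have h1 : cz z p (Function.update q i (q i + 1)) =
      tz (p i) (q i + 1) (z i) * ∏ j ∈ Finset.univ.erase i, tz (p j) (q j) (z j) := by
    rw [cz_eq_prod, ← Finset.mul_prod_erase Finset.univ _ (Finset.mem_univ i),
      Function.update_self]
    congr 1
    refine Finset.prod_congr rfl fun j hj => ?_
    rw [Function.update_of_ne (Finset.ne_of_mem_erase hj)]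
  have h2 : cz z p q = tz (p i) (q i) (z i) * ∏ j ∈ Finset.univ.erase i, tz (p j) (q j) (z j) := by
    rw [cz_eq_prod, ← Finset.mul_prod_erase Finset.univ _ (Finset.mem_univ i)]
  have h3 : cz z (Function.update p i (p i - 1)) q =
      tz (p i - 1) (q i) (z i) * ∏ j ∈ Finset.univ.erase i, tz (p j) (q j) (z j) := by
    rw [cz_eq_prod, ← Finset.mul_prod_erase Finset.univ _ (Finset.mem_univ i),
      Function.update_self]
    congr 1
    refine Finset.prod_congr rfl fun j hj => ?_
    rw [Function.update_of_ne (Finset.ne_of_mem_erase hj)]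
  rw [h1, h2, h3, tz_succ]
  split_ifs <;> ring

theorem cz_zero (p : ι → ℕ) : cz z p 0 = if p = 0 then 1 else 0 := by
  rw [cz_eq_prod]
  split_ifs with h
  · subst h
    refine Finset.prod_eq_one fun i _ => ?_
    simp [tz]
  · obtain ⟨i, hi⟩ := Function.ne_iff.1 h
    refine Finset.prod_eq_zero (Finset.mem_univ i) ?_
    have hi' : p i ≠ 0 := hi
    simp [tz, Nat.choose_eq_zero_of_lt (Nat.pos_of_ne_zero hi')]

end multi

section lin

variable {A B : Type u} [CommRing A] [CommRing B] [Algebra A B] {ι : Type} [Fintype ι]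
  [DecidableEq ι] (z : ι → B)

/-- The elements `1 ⊗ z_i - z_i ⊗ 1` of `B ⊗ B`. -/
def zt (i : ι) : B ⊗[A] B := 1 ⊗ₜ z i - z i ⊗ₜ 1

theorem linearize_smul (E : B →ₗ[A] B) (b : B) (x : B ⊗[A] B) :
    linearize A B B B E (b • x) = b * linearize A B B B E x := by
  induction x using TensorProduct.induction_on with
  | zero => simp
  | tmul c c' =>
    rw [TensorProduct.smul_tmul', linearize_tmul, linearize_tmul, smul_eq_mul, smul_eq_mul,
      smul_eq_mul, mul_assoc]
  | add x y hx hy => rw [smul_add, map_add, hx, hy, map_add, mul_add]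

/-- The `B`-span of the elements `1 ⊗ z^r`. -/
def W : Submodule B (B ⊗[A] B) :=
  Submodule.span B (Set.range fun r : ι → ℕ => (1 : B) ⊗ₜ[A] ∏ i, z i ^ r i)

theorem linearize_eq_of_agree (E E' : B →ₗ[A] B)
    (h : ∀ r : ι → ℕ, E (∏ i, z i ^ r i) = E' (∏ i, z i ^ r i)) :
    ∀ x ∈ W (A := A) z, linearize A B B B E x = linearize A B B B E' x := by
  intro x hx
  induction hx using Submodule.span_induction with
  | mem x hx =>
    obtain ⟨r, rfl⟩ := hx
    rw [linearize_tmul, linearize_tmul, h]
  | zero => rw [map_zero, map_zero]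
  | add x y _ _ hx hy => rw [map_add, map_add, hx, hy]
  | smul b x _ hx => rw [linearize_smul, linearize_smul, hx]

theorem one_mem_W : (1 : B ⊗[A] B) ∈ W (A := A) z := by
  apply Submodule.subset_span
  refine ⟨0, ?_⟩
  simp [Algebra.TensorProduct.one_def]

theorem mul_zt_mem_W (x : B ⊗[A] B) (hx : x ∈ W (A := A) z) (i : ι) :
    x * zt (A := A) z i ∈ W (A := A) z := by
  unfold zt
  rw [mul_sub]
  refine Submodule.sub_mem _ ?_ ?_
  · induction hx using Submodule.span_induction with
    | mem x hx =>
      obtain ⟨r, rfl⟩ := hx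
      apply Submodule.subset_span
      refine ⟨Function.update r i (r i + 1), ?_⟩
      show (1 : B) ⊗ₜ[A] _ = _
      rw [prod_pow_update_succ, Algebra.TensorProduct.tmul_mul_tmul, mul_one]
    | zero => rw [zero_mul]; exact Submodule.zero_mem _
    | add x y _ _ hx hy => rw [add_mul]; exact Submodule.add_mem _ hx hy
    | smul b x _ hx => rw [smul_mul_assoc]; exact Submodule.smul_mem _ _ hx
  · have h1 : x * (z i ⊗ₜ[A] (1 : B)) = z i • x := by
      rw [Algebra.smul_def, mul_comm]
      rfl
    rw [h1]
    exact Submodule.smul_mem _ _ hx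

theorem prod_zt_mem_W : ∀ (n : ℕ) (q : ι → ℕ), ∑ i, q i = n →
    ∏ i, zt (A := A) z i ^ q i ∈ W (A := A) z := by
  intro n
  induction n with
  | zero =>
    intro q hq
    have hq0 : ∀ i, q i = 0 := fun i =>
      (Finset.sum_eq_zero_iff.1 hq) i (Finset.mem_univ i)
    have : ∏ i, zt (A := A) z i ^ q i = 1 :=
      Finset.prod_eq_one fun i _ => by rw [hq0 i, pow_zero]
    rw [this]
    exact one_mem_W z
  | succ n ih =>
    intro q hq
    have hex : ∃ i, 1 ≤ q i := by
      by_contra hne
      push_neg at hne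
      have : ∑ i, q i = 0 := Finset.sum_eq_zero fun i _ => by
        have := hne i
        omega
      omega
    obtain ⟨i, hi⟩ := hex
    rw [prod_pow_update_pred _ q i hi]
    apply mul_zt_mem_W
    apply ih
    have h1 : ∑ j, Function.update q i (q i - 1) j + 1 = ∑ j, q j := by
      rw [← Finset.add_sum_erase Finset.univ _ (Finset.mem_univ i),
        ← Finset.add_sum_erase Finset.univ q (Finset.mem_univ i), Function.update_self]
      have : ∑ j ∈ Finset.univ.erase i, Function.update q i (q i - 1) j =
          ∑ j ∈ Finset.univ.erase i, q j :=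
        Finset.sum_congr rfl fun j hj => by
          rw [Function.update_of_ne (Finset.ne_of_mem_erase hj)]
      rw [this]
      omega
    omega

end lin

section main

variable {A B : Type u} [CommRing A] [CommRing B] [Algebra A B] {ι : Type} [Fintype ι]
  [DecidableEq ι] (z : ι → B)

theorem sum_update_pred (q : ι → ℕ) (i : ι) (hi : 1 ≤ q i) :
    ∑ j, Function.update q i (q i - 1) j + 1 = ∑ j, q j := by
  rw [← Finset.add_sum_erase Finset.univ _ (Finset.mem_univ i),
    ← Finset.add_sum_erase Finset.univ q (Finset.mem_univ i), Function.update_self]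
  have : ∑ j ∈ Finset.univ.erase i, Function.update q i (q i - 1) j =
      ∑ j ∈ Finset.univ.erase i, q j :=
    Finset.sum_congr rfl fun j hj => by
      rw [Function.update_of_ne (Finset.ne_of_mem_erase hj)]
  rw [this]
  omega

theorem exists_one_le_of_sum_succ (q : ι → ℕ) (n : ℕ) (hq : ∑ i, q i = n + 1) : ∃ i, 1 ≤ q i := by
  by_contra hne
  have : ∑ i, q i = 0 := Finset.sum_eq_zero fun i _ => by
    have := not_exists.1 hne i
    omega
  omega

theorem update_pred_eq_iff (p q : ι → ℕ) (i : ι) (hi : 1 ≤ q i) :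
    (1 ≤ p i ∧ Function.update p i (p i - 1) = Function.update q i (q i - 1)) ↔ p = q := by
  constructor
  · rintro ⟨hp, h⟩
    funext j
    by_cases hj : j = i
    · subst hj
      have := congrFun h j
      rw [Function.update_self, Function.update_self] at this
      omega
    · have := congrFun h j
      rwa [Function.update_of_ne hj, Function.update_of_ne hj] at this
  · rintro rfl
    exact ⟨hi, rfl⟩

variable (Dp : (ι → ℕ) → (B →ₗ[A] B))
  (hDz : ∀ p q : ι → ℕ, Dp p (∏ i, z i ^ q i) = cz z p q)

include hDz in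
theorem commutator_Dp (p : ι → ℕ) (i : ι) (r : ι → ℕ) :
    commutator A B B B (Dp p) (z i) (∏ j, z j ^ r j) =
      (if 1 ≤ p i then Dp (Function.update p i (p i - 1)) else 0) (∏ j, z j ^ r j) := by
  rw [commutator_apply, smul_eq_mul, smul_eq_mul, mul_comm (z i),
    ← prod_pow_update_succ z r i, hDz, hDz, cz_update_succ]
  split_ifs
  · rw [hDz]; ring
  · rw [LinearMap.zero_apply]; ring

include hDz in
/-- **The linearization of `D_p` takes the value `δ_{pq}` on `ζ^q`.** -/
theorem linearize_Dp_prod_zt : ∀ (n : ℕ) (p q : ι → ℕ), ∑ i, q i = n →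
    linearize A B B B (Dp p) (∏ i, zt (A := A) z i ^ q i) = if p = q then 1 else 0 := by
  intro n
  induction n with
  | zero =>
    intro p q hq
    have hq0 : q = 0 := funext fun i => (Finset.sum_eq_zero_iff.1 hq) i (Finset.mem_univ i)
    subst hq0
    have h1 : ∏ i, zt (A := A) z i ^ (0 : ι → ℕ) i = (1 : B) ⊗ₜ[A] ∏ i, z i ^ (0 : ι → ℕ) i := by
      simp [Algebra.TensorProduct.one_def]
    rw [h1, linearize_tmul, hDz, cz_zero, one_smul]
  | succ n ih =>
    intro p q hq
    obtain ⟨i, hi⟩ := exists_one_le_of_sum_succ q n hq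
    have hq' : ∑ j, Function.update q i (q i - 1) j = n := by
      have := sum_update_pred q i hi
      omega
    rw [prod_pow_update_pred _ q i hi]
    show linearize A B B B (Dp p) (_ * ((1 : B) ⊗ₜ[A] z i - z i ⊗ₜ[A] (1 : B))) = _
    rw [linearize_mul_delta,
      linearize_eq_of_agree z _ _ (commutator_Dp z Dp hDz p i) _ (prod_zt_mem_W z n _ hq')]
    by_cases hp : 1 ≤ p i
    · rw [if_pos hp, ih _ _ hq']
      by_cases hpq : p = q
      · rw [if_pos hpq, if_pos ((update_pred_eq_iff p q i hi).2 hpq).2]
      · rw [if_neg hpq, if_neg]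
        intro h
        exact hpq ((update_pred_eq_iff p q i hi).1 ⟨hp, h⟩)
    · rw [if_neg hp, linearize_zero_map, if_neg]
      rintro rfl
      exact hp hi

end main

end Groth.Agent.Helper8.DivPow
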