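import Mathlib
import Groth.Prelude.Def_PP16
import Groth.Agent.Lib.Helper8.DivPow2
import Groth.Agent.Lib.Helper8.DivPow3
import Groth.Agent.S2796
import Groth.Agent.Lib.Helper8.DiffCh2

/-!
# Divided-power operators: order bounds, differential smoothness and the basis of operators
-/

set_option autoImplicit false

namespace Groth.Agent.Helper8.DivPow

open PP16 MvPolynomial TensorProduct Diff16 Groth.Agent.Helper3.DiffOp
  Groth.Agent.Helper8.SymPow Groth.Agent.Helper8.QRGen Groth.Agent.Helper8.DiffSm
  Groth.Agent.Helper8.DiffCh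

universe u

section approxFrom

variable {B R : Type u} [CommRing B] [CommRing R] [Algebra B R] {J : Ideal R}
  {σ : Type*} [Fintype σ] {F : σ → ↥J}
  (hsurj : ∀ r : R, ∃ b : B, r - algebraMap B R b ∈ J)
  (hspan : Submodule.span R (Set.range fun l => J.toCotangent (F l)) = ⊤)

include hsurj hspan in
/-- An element of `J^j` is, modulo `J^(j+n)`, a polynomial in the `F l` all of whose monomials
have degree at least `j`. -/
theorem approx_from (j n : ℕ) (x : R) (hx : x ∈ J ^ j) :
    ∃ Q : MvPolynomial σ B, (∀ d ∈ Q.support, j ≤ Finsupp.degree d) ∧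
      x - ev J F Q ∈ J ^ (j + n) := by
  induction n with
  | zero =>
    refine ⟨0, fun d hd => ?_, ?_⟩
    · simp at hd
    · rw [map_zero, sub_zero, add_zero]
      exact hx
  | succ n ih =>
    obtain ⟨Q, hQ, e⟩ := ih
    obtain ⟨P, hP, e'⟩ := approx_pow hsurj hspan (j + n) _ e
    refine ⟨Q + P, fun d hd => ?_, ?_⟩
    · classical
      rcases Finset.mem_union.1 (support_add hd) with h | h
      · exact hQ d h
      · have := hP (mem_support_iff.1 h)
        rw [Finsupp.degree_eq_weight_one]
        show j ≤ Finsupp.weight 1 d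
        omega
    · have : x - ev J F (Q + P) = x - ev J F Q - ev J F P := by
        rw [map_add]; ring
      rw [this, ← add_assoc]
      exact e'

end approxFrom

section order

variable {A B : Type u} [CommRing A] [CommRing B] [Algebra A B] {ι : Type} [Fintype ι]
  [DecidableEq ι] {z : ι → B}

theorem ev_monomial_eq (d : ι →₀ ℕ) :
    ev (KaehlerDifferential.ideal A B) (zeta A B z) (monomial d (1 : B)) =
      ∏ i, zt (A := A) z i ^ d i := by
  rw [ev, aeval_monomial, map_one, one_mul, Finsupp.prod_fintype _ _ (fun i => pow_zero _)]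
  rfl

variable (hz : Submodule.span B (Set.range fun i => KaehlerDifferential.D A B (z i)) = ⊤)
  (Dp : (ι → ℕ) → (B →ₗ[A] B))
  (hD : ∀ p, ∃ k : ℕ, IsDiffOpLE A B B B k (Dp p))
  (hDz : ∀ p q : ι → ℕ, Dp p (∏ i, z i ^ q i) = cz z p q)

include hDz in
/-- The linearization of `D_p` reads off the coefficient of `ζ^p`. -/
theorem linearize_Dp_ev (p : ι → ℕ) (Q : MvPolynomial ι B) :
    linearize A B B B (Dp p) (ev (KaehlerDifferential.ideal A B) (zeta A B z) Q) =
      Q.coeff (Finsupp.equivFunOnFinite.symm p) := by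
  classical
  conv_lhs => rw [← MvPolynomial.support_sum_monomial_coeff Q, map_sum, map_sum]
  have h1 : ∀ d ∈ Q.support, linearize A B B B (Dp p)
      (ev (KaehlerDifferential.ideal A B) (zeta A B z) (monomial d (Q.coeff d))) =
      if Finsupp.equivFunOnFinite.symm p = d then Q.coeff d else 0 := by
    intro d _
    have h2 : (monomial d (Q.coeff d) : MvPolynomial ι B) = Q.coeff d • monomial d 1 := by
      rw [smul_monomial, smul_eq_mul, mul_one]
    rw [h2, map_smul, linearize_smul, ev_monomial_eq,
      linearize_Dp_prod_zt z Dp hDz _ p (fun i => d i) rfl]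
    have h3 : (p = fun i => d i) ↔ Finsupp.equivFunOnFinite.symm p = d := by
      constructor
      · rintro rfl
        ext i
        rfl
      · rintro rfl
        rfl
    by_cases h : p = fun i => d i
    · rw [if_pos h, if_pos (h3.1 h), mul_one]
    · rw [if_neg h, if_neg (fun h' => h (h3.2 h')), mul_zero]
  rw [Finset.sum_congr rfl h1, Finset.sum_ite_eq]
  split_ifs with h
  · rfl
  · rw [notMem_support_iff.1 h]

include hz hD hDz in
/-- **`D_p` has order at most `|p|`**, in the form: its linearization kills `I^(|p|+1)`. -/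
theorem linearize_Dp_vanish (p : ι → ℕ) :
    ∀ x ∈ KaehlerDifferential.ideal A B ^ (∑ i, p i + 1), linearize A B B B (Dp p) x = 0 := by
  intro x hx
  obtain ⟨k, hk⟩ := hD p
  rw [Groth.Agent.S2796.result] at hk
  obtain ⟨Q, hQ, e⟩ := approx_from (F := zeta A B z) (hsurj A B) (hspan hz) (∑ i, p i + 1)
    (k + 1) x hx
  have h1 : x = ev (KaehlerDifferential.ideal A B) (zeta A B z) Q +
      (x - ev (KaehlerDifferential.ideal A B) (zeta A B z) Q) := by ring
  rw [h1, map_add, hk _ (Ideal.pow_le_pow_right (by omega) e), add_zero,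
    linearize_Dp_ev Dp hDz]
  by_contra hne
  have h2 := hQ _ (mem_support_iff.2 hne)
  rw [degree_equivFunOnFinite_symm] at h2
  omega

include hz hD hDz in
theorem isDiffOpLE_Dp (p : ι → ℕ) : IsDiffOpLE A B B B (∑ i, p i) (Dp p) := by
  rw [Groth.Agent.S2796.result]
  exact linearize_Dp_vanish hz Dp hD hDz p

end order

section converse

variable {A B : Type u} [CommRing A] [CommRing B] [Algebra A B] {ι : Type} [Fintype ι]
  [DecidableEq ι] {z : ι → B}
  (hz : Submodule.span B (Set.range fun i => KaehlerDifferential.D A B (z i)) = ⊤)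
  (Dp : (ι → ℕ) → (B →ₗ[A] B))
  (hD : ∀ p, ∃ k : ℕ, IsDiffOpLE A B B B k (Dp p))
  (hDz : ∀ p q : ι → ℕ, Dp p (∏ i, z i ^ q i) = cz z p q)

include hz hD hDz in
/-- A homogeneous polynomial over `B` whose value at `ζ` lies in the next power of the diagonal
ideal vanishes. -/
theorem eq_zero_of_ev_mem_of_Dp (n : ℕ) (Q : MvPolynomial ι B) (hQ : Q.IsHomogeneous n)
    (hev : ev (KaehlerDifferential.ideal A B) (zeta A B z) Q ∈
      KaehlerDifferential.ideal A B ^ (n + 1)) : Q = 0 := by
  ext d
  rw [coeff_zero]
  by_contra hne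
  have hdeg : ∑ i, d i = n := by
    have h1 : Finsupp.degree d = n := by
      rw [Finsupp.degree_eq_weight_one]
      exact hQ hne
    rw [Finsupp.degree_apply] at h1
    rw [← h1]
    exact (Finset.sum_subset (Finset.subset_univ _) fun i _ hi => by
      rw [Finsupp.notMem_support_iff] at hi
      exact hi).symm
  have h2 := linearize_Dp_vanish hz Dp hD hDz (fun i => d i) _ (by rw [hdeg]; exact hev)
  rw [linearize_Dp_ev Dp hDz] at h2
  apply hne
  have h3 : Finsupp.equivFunOnFinite.symm (fun i => d i) = d := by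
    ext i
    rfl
  rwa [h3] at h2

include hz hD hDz in
theorem linearIndependent_D : LinearIndependent B (fun i => KaehlerDifferential.D A B (z i)) := by
  classical
  rw [Fintype.linearIndependent_iff]
  intro c hc j
  let Q : MvPolynomial ι B := ∑ i, C (c i) * X i
  have hQ : Q.IsHomogeneous 1 := by
    apply IsHomogeneous.sum
    intro l _
    have := (isHomogeneous_C ι (c l)).mul (isHomogeneous_X B l)
    rwa [zero_add] at this
  have hevQ : ev (KaehlerDifferential.ideal A B) (zeta A B z) Q =
      ((∑ i, c i • zeta A B z i : ↥(KaehlerDifferential.ideal A B)) : B ⊗[A] B) := by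
    rw [map_sum, Submodule.coe_sum]
    refine Finset.sum_congr rfl fun i _ => ?_
    rw [map_mul, ev_X, ev, aeval_C]
    show _ = c i • (zeta A B z i : B ⊗[A] B)
    rw [Algebra.smul_def]
  have hev : ev (KaehlerDifferential.ideal A B) (zeta A B z) Q ∈
      KaehlerDifferential.ideal A B ^ (1 + 1) := by
    rw [hevQ, ← Ideal.toCotangent_eq_zero, map_sum]
    refine Eq.trans ?_ hc
    refine Finset.sum_congr rfl fun i _ => ?_
    exact map_smul ((KaehlerDifferential.ideal A B).toCotangent.restrictScalars B) (c i)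
      (zeta A B z i)
  have h0 := eq_zero_of_ev_mem_of_Dp hz Dp hD hDz 1 Q hQ hev
  have h1 : Q.coeff (Finsupp.single j 1) = c j := by
    show (∑ i, C (c i) * X i : MvPolynomial ι B).coeff _ = _
    rw [coeff_sum, Finset.sum_eq_single j]
    · rw [coeff_C_mul, coeff_X, if_pos rfl, mul_one]
    · intro i _ hi
      rw [coeff_C_mul, coeff_X, if_neg, mul_zero]
      intro h
      exact hi ((Finsupp.single_left_inj one_ne_zero).1 h)
    · intro h
      exact absurd (Finset.mem_univ j) h
  rw [← h1, h0, coeff_zero]

include hz hD hDz in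
theorem symGrBijective_of_Dp :
    SymGrBijective (B ⊗[A] B) (KaehlerDifferential.ideal A B) := by
  classical
  rw [symGrBijective_iff]
  intro ι' _ _
  rw [injective_iff_map_eq_zero]
  intro x hx
  obtain ⟨QR, hQR, rfl⟩ := exists_tau_eq_of_span _ (zeta A B z) ι' (hspan hz) x
  have hQ : (map (sigma A B) QR).IsHomogeneous (Fintype.card ι') := hQR.map _
  have h1 : tau _ (zeta A B z) ι' QR =
      tau _ (zeta A B z) ι' (map (algebraMap B (B ⊗[A] B)) (map (sigma A B) QR)) := by
    rw [← sub_eq_zero, ← map_sub]
    apply tau_eq_zero_of_coeff_mem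
    intro d
    rw [coeff_sub, coeff_map, coeff_map]
    exact sub_mem_ideal A B _
  rw [h1] at hx ⊢
  rw [phi_tau_eq_zero_iff _ (zeta A B z) ι' _ (hQ.map _), ← ev_eq_eval_map] at hx
  rw [eq_zero_of_ev_mem_of_Dp hz Dp hD hDz _ _ hQ hx, map_zero, map_zero]

include hz hD hDz in
/-- **(b) ⇒ (a)**: divided-power operators force differential smoothness, with `(dz_i)` a basis. -/
theorem isDiffSmooth_and_basis_of_Dp :
    IsDiffSmooth A B ∧ ∃ b : Module.Basis ι B (KaehlerDifferential A B),
      ∀ i, b i = KaehlerDifferential.D A B (z i) := by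
  let b : Module.Basis ι B (KaehlerDifferential A B) :=
    Module.Basis.mk (linearIndependent_D hz Dp hD hDz) hz.ge
  have hb : ∀ i, b i = KaehlerDifferential.D A B (z i) := fun i => by
    rw [Module.Basis.mk_apply]
  refine ⟨isDiffSmooth_of_symGrBijective A B (Module.Projective.of_basis b)
    (symGrBijective_of_Dp hz Dp hD hDz), b, hb⟩

end converse

end Groth.Agent.Helper8.DivPow
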