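import Mathlib
import Groth.Prelude.Def_PP16
import Groth.Agent.Lib.Helper8.DivPow4

/-!
# Divided-power operators from the monomial basis of the principal parts
-/

set_option autoImplicit false

namespace Groth.Agent.Helper8.DivPow

open PP16 MvPolynomial TensorProduct Diff16 Groth.Agent.Helper3.DiffOp
  Groth.Agent.Helper8.DiffSm Groth.Agent.Helper8.DiffCh

universe u

section forward

variable {A B : Type u} [CommRing A] [CommRing B] [Algebra A B] {ι : Type} [Fintype ι]
  [DecidableEq ι] (z : ι → B) (m : ℕ)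

/-- `ξ_i = d^m z_i - z_i` in `P^m`. -/
noncomputable def xi (i : ι) : P m A B := dn m A B (z i) - algebraMap B (P m A B) (z i)

theorem prod_xi_eq_zero (r : ι → ℕ) (hr : m < ∑ i, r i) : ∏ i, xi (A := A) z m i ^ r i = 0 := by
  have h1 : ∏ i, xi (A := A) z m i ^ r i =
      Ideal.Quotient.mk (KaehlerDifferential.ideal A B ^ (m + 1))
        (∏ i, (zeta A B z i : B ⊗[A] B) ^ r i) := by
    rw [map_prod]
    refine Finset.prod_congr rfl fun i _ => ?_
    rw [map_pow, mk_zeta]
    rfl
  rw [h1, Ideal.Quotient.eq_zero_iff_mem]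
  apply Ideal.pow_le_pow_right (Nat.succ_le_of_lt hr)
  rw [← Finset.prod_pow_eq_pow_sum]
  exact Ideal.prod_mem_prod fun i _ => Ideal.pow_mem_pow (zeta A B z i).2 _

/-- The multi-binomial expansion of `d^m (z^q)`. -/
theorem dn_prod_pow (q : ι → ℕ) :
    dn m A B (∏ i, z i ^ q i) =
      ∑ r ∈ Fintype.piFinset (fun i => Finset.range (q i + 1)),
        cz z r q • ∏ i, xi (A := A) z m i ^ r i := by
  have h1 : ∀ i, dn m A B (z i) = xi (A := A) z m i + algebraMap B (P m A B) (z i) := fun i => by
    unfold xi; ring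
  rw [map_prod]
  simp_rw [map_pow, h1, add_pow]
  rw [Finset.prod_univ_sum]
  refine Finset.sum_congr rfl fun r _ => ?_
  rw [cz, Algebra.smul_def, map_mul, map_natCast, map_prod, Finset.prod_mul_distrib,
    Finset.prod_mul_distrib, Nat.cast_prod]
  simp_rw [map_pow]
  ring

end forward

end Groth.Agent.Helper8.DivPow
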