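import Mathlib
import Groth.Prelude.Def_PP16
import Groth.Agent.Lib.Helper8.DivPow5

/-!
# Divided-power operators from the monomial basis of the principal parts, II
-/

set_option autoImplicit false

namespace Groth.Agent.Helper8.DivPow

open PP16 MvPolynomial TensorProduct Diff16 Groth.Agent.Helper3.DiffOp
  Groth.Agent.Helper8.DiffSm Groth.Agent.Helper8.DiffCh

universe u

section opOf

variable {A B : Type u} [CommRing A] [CommRing B] [Algebra A B] (m : ℕ)

/-- The operator `u ∘ d^m` attached to a `B`-linear functional `u` on `P^m`. -/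
noncomputable def opOf (u : P m A B →ₗ[B] B) : B →ₗ[A] B :=
  (u.restrictScalars A) ∘ₗ (dn m A B).toLinearMap

theorem opOf_apply (u : P m A B →ₗ[B] B) (b : B) : opOf m u b = u (dn m A B b) := rfl

theorem linearize_opOf (u : P m A B →ₗ[B] B) (x : B ⊗[A] B) :
    linearize A B B B (opOf m u) x =
      u (Ideal.Quotient.mk (KaehlerDifferential.ideal A B ^ (m + 1)) x) := by
  induction x using TensorProduct.induction_on with
  | zero => rw [map_zero, map_zero, map_zero]
  | add x y hx hy => rw [map_add, map_add, map_add, hx, hy]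
  | tmul b c =>
    rw [linearize_tmul, opOf_apply, ← map_smul]
    congr 1
    show b • Ideal.Quotient.mk _ ((1 : B) ⊗ₜ[A] c) = _
    rw [← mk_smul, TensorProduct.smul_tmul', smul_eq_mul, mul_one]

theorem isDiffOpLE_opOf (u : P m A B →ₗ[B] B) : IsDiffOpLE A B B B m (opOf m u) := by
  rw [Groth.Agent.S2796.result]
  intro x hx
  rw [linearize_opOf, Ideal.Quotient.eq_zero_iff_mem.2 hx, map_zero]

end opOf

section forward

variable {A B : Type u} [CommRing A] [CommRing B] [Algebra A B] {ι : Type} [Fintype ι]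
  [DecidableEq ι] {z : ι → B}

/-- The coordinate functional of the monomial basis reads off the monomials `ξ^r`. -/
theorem coord_prod_xi (m : ℕ) (bP : Module.Basis {p : ι → ℕ // ∑ i, p i ≤ m} B (P m A B))
    (hbP : ∀ p, bP p = ∏ i, (dn m A B (z i) - algebraMap B (P m A B) (z i)) ^ (p.1 i))
    (p : {p : ι → ℕ // ∑ i, p i ≤ m}) (r : ι → ℕ) :
    bP.coord p (∏ i, xi (A := A) z m i ^ r i) = if r = p.1 then 1 else 0 := by
  by_cases hr : ∑ i, r i ≤ m
  · have h1 : ∏ i, xi (A := A) z m i ^ r i = bP ⟨r, hr⟩ := (hbP ⟨r, hr⟩).symm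
    rw [h1, Module.Basis.coord_apply, Module.Basis.repr_self, Finsupp.single_apply]
    by_cases h : r = p.1
    · rw [if_pos h, if_pos (Subtype.ext h)]
    · rw [if_neg h, if_neg (fun h' => h (congrArg Subtype.val h'))]
  · rw [prod_xi_eq_zero z m r (not_le.1 hr), map_zero, if_neg]
    rintro rfl
    exact hr p.2

theorem cz_eq_zero_of_lt (p q : ι → ℕ) (i : ι) (hi : q i < p i) : cz z p q = 0 := by
  rw [cz, Finset.prod_eq_zero (Finset.mem_univ i) (Nat.choose_eq_zero_of_lt hi), Nat.cast_zero,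
    zero_mul]

/-- The operator attached to the coordinate functional of `ξ^p` is the divided-power operator. -/
theorem opOf_coord_prod_pow (m : ℕ)
    (bP : Module.Basis {p : ι → ℕ // ∑ i, p i ≤ m} B (P m A B))
    (hbP : ∀ p, bP p = ∏ i, (dn m A B (z i) - algebraMap B (P m A B) (z i)) ^ (p.1 i))
    (p : {p : ι → ℕ // ∑ i, p i ≤ m}) (q : ι → ℕ) :
    opOf m (bP.coord p) (∏ i, z i ^ q i) = cz z p.1 q := by
  rw [opOf_apply, dn_prod_pow, map_sum]
  simp_rw [map_smul, coord_prod_xi m bP hbP, smul_eq_mul, mul_ite, mul_one, mul_zero]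
  rw [Finset.sum_ite_eq']
  split_ifs with h
  · rfl
  · rw [Fintype.mem_piFinset] at h
    push_neg at h
    obtain ⟨i, hi⟩ := h
    rw [Finset.mem_range] at hi
    exact (cz_eq_zero_of_lt p.1 q i (by omega)).symm

/-- **(a) ⇒ (b)**: the divided-power operators of a differentially smooth algebra. -/
theorem exists_Dp_of_isDiffSmooth (hB : IsDiffSmooth A B)
    (hb : ∃ b : Module.Basis ι B (KaehlerDifferential A B),
      ∀ i, b i = KaehlerDifferential.D A B (z i)) :
    ∃ Dp : (ι → ℕ) → (B →ₗ[A] B),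
      (∀ p, ∃ k : ℕ, IsDiffOpLE A B B B k (Dp p)) ∧
      ∀ p q : ι → ℕ, Dp p (∏ i, z i ^ q i) = cz z p q := by
  have h := fun m : ℕ => exists_basis_P (z := z) m hB hb
  choose bP hbP using h
  refine ⟨fun p => opOf (∑ i, p i) ((bP (∑ i, p i)).coord ⟨p, le_rfl⟩),
    fun p => ⟨∑ i, p i, isDiffOpLE_opOf _ _⟩, fun p q => ?_⟩
  exact opOf_coord_prod_pow (∑ i, p i) (bP _) (hbP _) ⟨p, le_rfl⟩ q

end forward

end Groth.Agent.Helper8.DivPow
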