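import Mathlib
import Groth.Prelude.Def_PP16
import Groth.Agent.Lib.Helper8.DivPow4

/-!
# Divided-power operators form a basis of the differential operators of bounded order
-/

set_option autoImplicit false

namespace Groth.Agent.Helper8.DivPow

open PP16 MvPolynomial TensorProduct Diff16 Groth.Agent.Helper3.DiffOp
  Groth.Agent.Helper8.DiffSm Groth.Agent.Helper8.DiffCh

universe u

section linB

variable {A B : Type u} [CommRing A] [CommRing B] [Algebra A B]

theorem linearize_add_map (E E' : B →ₗ[A] B) (x : B ⊗[A] B) :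
    linearize A B B B (E + E') x = linearize A B B B E x + linearize A B B B E' x := by
  induction x using TensorProduct.induction_on with
  | zero => simp
  | tmul b c =>
    rw [linearize_tmul, linearize_tmul, linearize_tmul, LinearMap.add_apply, smul_add]
  | add x y hx hy => rw [map_add, map_add, map_add, hx, hy]; abel

theorem linearize_smul_map (c : B) (E : B →ₗ[A] B) (x : B ⊗[A] B) :
    linearize A B B B (c • E) x = c * linearize A B B B E x := by
  induction x using TensorProduct.induction_on with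
  | zero => simp
  | tmul b c' =>
    rw [linearize_tmul, linearize_tmul, LinearMap.smul_apply, smul_eq_mul, smul_eq_mul,
      smul_eq_mul]
    ring
  | add x y hx hy => rw [map_add, map_add, hx, hy, mul_add]

/-- Linearization, as a `B`-linear map in the operator, with values in the left-`B`-linear maps. -/
noncomputable def linB : (B →ₗ[A] B) →ₗ[B] (B ⊗[A] B →ₗ[B] B) where
  toFun E :=
    { toFun := linearize A B B B E
      map_add' := map_add _
      map_smul' := fun b x => linearize_smul E b x }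
  map_add' E E' := LinearMap.ext fun x => linearize_add_map E E' x
  map_smul' c E := LinearMap.ext fun x => linearize_smul_map c E x

theorem linB_apply (E : B →ₗ[A] B) (x : B ⊗[A] B) : linB E x = linearize A B B B E x := rfl

end linB

section main

variable {A B : Type u} [CommRing A] [CommRing B] [Algebra A B] {ι : Type} [Fintype ι]
  [DecidableEq ι] {z : ι → B}
  (hz : Submodule.span B (Set.range fun i => KaehlerDifferential.D A B (z i)) = ⊤)

instance finite_multiIndex (m : ℕ) : Finite {p : ι → ℕ // ∑ i, p i ≤ m} := by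
  have h : {p : ι → ℕ | ∑ i, p i ≤ m}.Finite := by
    refine Set.Finite.subset (Set.finite_Iic (fun _ : ι => m)) fun p hp i => ?_
    exact (Finset.single_le_sum (fun j _ => Nat.zero_le (p j)) (Finset.mem_univ i)).trans hp
  exact h.to_subtype

include hz in
/-- A left-`B`-linear functional on `B ⊗ B` killing `I^(m+1)` and the monomials `ζ^q`, `|q| ≤ m`,
vanishes. -/
theorem eq_zero_of_vanish (m : ℕ) (Ψ : B ⊗[A] B →ₗ[B] B)
    (h1 : ∀ x ∈ KaehlerDifferential.ideal A B ^ (m + 1), Ψ x = 0)
    (h2 : ∀ q : ι → ℕ, ∑ i, q i ≤ m → Ψ (∏ i, zt (A := A) z i ^ q i) = 0) : Ψ = 0 := by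
  refine LinearMap.ext fun x => ?_
  obtain ⟨Q, hdeg, hQ⟩ := approx (F := zeta A B z) (hsurj A B) (hspan hz) m x
  have h3 : x = ev (KaehlerDifferential.ideal A B) (zeta A B z) Q +
      (x - ev (KaehlerDifferential.ideal A B) (zeta A B z) Q) := by ring
  rw [h3, map_add, h1 _ hQ, add_zero, LinearMap.zero_apply]
  conv_lhs => rw [← MvPolynomial.support_sum_monomial_coeff Q, map_sum, map_sum]
  refine Finset.sum_eq_zero fun d hd => ?_
  have h4 : (monomial d (Q.coeff d) : MvPolynomial ι B) = Q.coeff d • monomial d 1 := by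
    rw [smul_monomial, smul_eq_mul, mul_one]
  rw [h4, map_smul, map_smul, ev_monomial_eq, h2, smul_zero]
  have h5 := le_totalDegree hd
  have h6 : (d.sum fun _ e => e) = ∑ i, d i := Finsupp.sum_fintype _ _ (fun _ => rfl)
  rw [h6] at h5
  exact h5.trans hdeg

variable (Dp : (ι → ℕ) → (B →ₗ[A] B))
  (hD : ∀ p, ∃ k : ℕ, IsDiffOpLE A B B B k (Dp p))
  (hDz : ∀ p q : ι → ℕ, Dp p (∏ i, z i ^ q i) = cz z p q)

/-- The combination `∑ a_p D_p`. -/
noncomputable def comb (m : ℕ) (a : {p : ι → ℕ // ∑ i, p i ≤ m} →₀ B) : B →ₗ[A] B :=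
  a.sum fun p c => c • Dp p.1

theorem linB_comb (m : ℕ) (a : {p : ι → ℕ // ∑ i, p i ≤ m} →₀ B) :
    linB (comb Dp m a) = ∑ p ∈ a.support, a p • linB (Dp p.1) := by
  rw [comb, Finsupp.sum, map_sum]
  simp_rw [map_smul]

include hDz in
theorem linearize_comb_prod_zt (m : ℕ) (a : {p : ι → ℕ // ∑ i, p i ≤ m} →₀ B)
    (q : {p : ι → ℕ // ∑ i, p i ≤ m}) :
    linearize A B B B (comb Dp m a) (∏ i, zt (A := A) z i ^ q.1 i) = a q := by
  rw [← linB_apply, linB_comb, LinearMap.sum_apply]
  simp_rw [LinearMap.smul_apply, linB_apply, linearize_Dp_prod_zt z Dp hDz _ _ _ rfl,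
    smul_eq_mul, mul_ite, mul_one, mul_zero]
  have h1 : ∀ p : {p : ι → ℕ // ∑ i, p i ≤ m}, (p.1 = q.1) ↔ (q = p) :=
    fun p => ⟨fun h => (Subtype.ext h).symm, fun h => congrArg Subtype.val h.symm⟩
  simp_rw [h1]
  rw [Finset.sum_ite_eq]
  split_ifs with h
  · rfl
  · exact (Finsupp.notMem_support_iff.1 h).symm

include hz hD hDz in
theorem linearize_comb_vanish (m : ℕ) (a : {p : ι → ℕ // ∑ i, p i ≤ m} →₀ B) :
    ∀ x ∈ KaehlerDifferential.ideal A B ^ (m + 1), linearize A B B B (comb Dp m a) x = 0 := by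
  intro x hx
  rw [← linB_apply, linB_comb, LinearMap.sum_apply]
  refine Finset.sum_eq_zero fun p _ => ?_
  rw [LinearMap.smul_apply, linB_apply, linearize_Dp_vanish hz Dp hD hDz p.1 x
    (Ideal.pow_le_pow_right (Nat.succ_le_succ p.2) hx), smul_zero]

include hz hD hDz in
theorem exists_comb (m : ℕ) (D : B →ₗ[A] B) (hDm : IsDiffOpLE A B B B m D) :
    ∃ a : {p : ι → ℕ // ∑ i, p i ≤ m} →₀ B, D = comb Dp m a := by
  let a : {p : ι → ℕ // ∑ i, p i ≤ m} →₀ B :=
    Finsupp.equivFunOnFinite.symm
      (fun q => linearize A B B B D (∏ i, zt (A := A) z i ^ q.1 i))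
  refine ⟨a, ?_⟩
  have h0 : linB D - linB (comb Dp m a) = 0 := by
    refine eq_zero_of_vanish hz m _ ?_ ?_
    · intro x hx
      rw [LinearMap.sub_apply, linB_apply, linB_apply,
        (Groth.Agent.S2796.result A B B m D).1 hDm x hx,
        linearize_comb_vanish hz Dp hD hDz m a x hx, sub_zero]
    · intro q hq
      rw [LinearMap.sub_apply, linB_apply, linB_apply,
        linearize_comb_prod_zt Dp hDz m a ⟨q, hq⟩, sub_eq_zero]
      rfl
  refine LinearMap.ext fun b => ?_
  have h1 := LinearMap.congr_fun h0 ((1 : B) ⊗ₜ[A] b)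
  rw [LinearMap.sub_apply, linB_apply, linB_apply, linearize_tmul, linearize_tmul, one_smul,
    one_smul, LinearMap.zero_apply, sub_eq_zero] at h1
  exact h1

include hDz in
theorem comb_injective (m : ℕ) (a a' : {p : ι → ℕ // ∑ i, p i ≤ m} →₀ B)
    (h : comb Dp m a = comb Dp m a') : a = a' := by
  ext q
  rw [← linearize_comb_prod_zt Dp hDz m a q, h, linearize_comb_prod_zt Dp hDz m a' q]

include hz hD hDz in
/-- **Every differential operator of order at most `m` is uniquely `∑_{|p| ≤ m} a_p D_p`.** -/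
theorem existsUnique_comb (m : ℕ) (D : B →ₗ[A] B) (hDm : IsDiffOpLE A B B B m D) :
    ∃! a : {p : ι → ℕ // ∑ i, p i ≤ m} →₀ B, D = a.sum fun p c => c • Dp p.1 := by
  obtain ⟨a, ha⟩ := exists_comb hz Dp hD hDz m D hDm
  refine ⟨a, ha, fun a' ha' => ?_⟩
  exact comb_injective Dp hDz m a' a ((show D = comb Dp m a' from ha').symm.trans ha)

end main

end Groth.Agent.Helper8.DivPow
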