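import Groth.Agent.Lib.Helper8.TorsDescA

/-!
# Descent of objects along a finite free quotient for stacks (helper8), part B

`exists_descent`: descent of an object `ξ : overCat E ⥤ᵇ 𝒵` of a stack along a finite free
quotient `q : E ⟶ Y = E/Γ`, given a `Γ`-equivariant structure `Λ` (T-point form).
Intermediate API: `Geom`, `IsEquivariant`, `Lam` (transported `Λ`), `Rll` (sieve where two lifts
differ by a group element), `Phi` (canonical iso `ξ(l) ⟶ ξ(l')` for `l ≫ q = l' ≫ q`) with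
`Phi_spec`, `Phi_eq_Lam`, `Phi_self`, `Phi_nat`, `Phi_comp`, the descent datum `Dfun` on the sieve
generated by `q`, and `iotaApp`.  Part A (`TorsDescA`) has `zarLE_fppf`, `zarLE_etale`,
`exists_nat_of_invariant`.
-/

set_option backward.isDefEq.respectTransparency false
set_option linter.style.haveILetI false
set_option linter.unusedSectionVars false
set_option linter.unusedVariables false
set_option backward.isDefEq.respectTransparency.types false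
set_option autoImplicit false
set_option synthInstance.maxHeartbeats 400000
set_option maxHeartbeats 1000000

open CategoryTheory CategoryTheory.Limits AlgebraicGeometry Opposite

namespace Groth.Agent.TorsDescSpec
open Groth.Agent.Helper2 Groth.Agent.Helper2.StkLib Groth.Agent.Helper2.FibCatLib

universe u
variable {S : Scheme.{u}} {𝒵 : AlgSt.Cat S}

/-- Morphisms of a stack over the same base map with empty source are equal. -/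
theorem hom_ext_of_isEmpty (K : Precoverage Scheme.{u}) (h𝒵 : Stk.IsStack (QuotSh.J K S) 𝒵)
    (hZ : ZarLE K S) {T W : Over S} (hT : IsEmpty T.left) (g : T ⟶ W) {a b : 𝒵.obj}
    (m m' : a ⟶ b) (hm : 𝒵.p.IsHomLift g m) (hm' : 𝒵.p.IsHomLift g m') : m = m' := by
  have hcov := hZ T (ι := PEmpty.{u+1}) (fun i => i.elim) (fun i => i.elim) (fun i => i.elim)
    (fun x => (hT.false x).elim)
  refine sep_obj h𝒵 hcov g m m' hm hm' ?_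
  rintro V f ⟨_, _, _, ⟨i⟩, _⟩
  exact i.elim

section Thm1
/-- The geometric hypotheses of the descent theorem. -/
structure Geom (K : Precoverage Scheme.{u}) (𝒵 : AlgSt.Cat S) {E Y : Over S} (q : E ⟶ Y)
    {Γ : Type u} [Group Γ] (ρ : Γ →* Aut E) : Prop where
  st : Stk.IsStack (QuotSh.J K S) 𝒵
  zar : ZarLE K S
  hρq : ∀ γ, (ρ γ).hom ≫ q = q
  free : ∀ (g : Γ) (x : E.left), g ≠ 1 →
      E.left.fromSpecResidueField x ≫ (ρ g).hom.left ≠ E.left.fromSpecResidueField x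
  eff : ∀ {T : Over S} (l l' : T ⟶ E), l ≫ q = l' ≫ q →
      ∃ (W : Γ → Over S) (j : ∀ γ, W γ ⟶ T), (∀ γ, IsOpenImmersion (j γ).left) ∧
        (∀ x : T.left, ∃ γ, x ∈ Set.range (j γ).left) ∧
        ∀ γ, j γ ≫ l' = (j γ ≫ l) ≫ (ρ γ).hom

variable (K : Precoverage Scheme.{u}) {E Y : Over S} (q : E ⟶ Y) {Γ : Type u} [Group Γ]
  (ρ : Γ →* Aut E)

variable (ξ : FibCat.overCat E ⥤ᵇ 𝒵)
  (Λ : ∀ {T : Over S} (l : T ⟶ E) (γ : Γ),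
      ξ.obj (Over.mk l) ⟶ ξ.obj (Over.mk (l ≫ (ρ γ).hom)))

/-- The equivariant structure hypotheses. -/
structure IsEquivariant : Prop where
  lift : ∀ {T : Over S} (l : T ⟶ E) (γ : Γ), 𝒵.p.IsHomLift (𝟙 T) (Λ l γ)
  nat : ∀ {T' T : Over S} (g : T' ⟶ T) (l : T ⟶ E) (γ : Γ),
      ξ.map (Over.homMk g rfl : Over.mk (g ≫ l) ⟶ Over.mk l) ≫ Λ l γ =
        Λ (g ≫ l) γ ≫ ξ.map (Over.homMk g (Category.assoc _ _ _).symm :
          Over.mk ((g ≫ l) ≫ (ρ γ).hom) ⟶ Over.mk (l ≫ (ρ γ).hom))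
  mul : ∀ {T : Over S} (l : T ⟶ E) (γ δ : Γ),
      Λ l δ ≫ Λ (l ≫ (ρ δ).hom) γ =
        Λ l (γ * δ) ≫ ξ.map (eqToHom (by
          rw [Groth.Agent.Helper2.FreeAct.act_mul, Category.assoc]) :
          Over.mk (l ≫ (ρ (γ * δ)).hom) ⟶ Over.mk ((l ≫ (ρ δ).hom) ≫ (ρ γ).hom))

/-- `Λ l γ` with target transported along `l ≫ ρ γ = l'`. -/
def Lam {T : Over S} (l : T ⟶ E) (γ : Γ) (l' : T ⟶ E) (h : l ≫ (ρ γ).hom = l') :
    ξ.obj (Over.mk l) ⟶ ξ.obj (Over.mk l') :=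
  Λ l γ ≫ ξ.map (mkHom (𝟙 T) (show 𝟙 T ≫ l' = l ≫ (ρ γ).hom by rw [Category.id_comp, h]))

variable {K q ρ ξ Λ}

theorem Lam_rfl {T : Over S} (l : T ⟶ E) (γ : Γ) :
    Lam ρ ξ Λ l γ (l ≫ (ρ γ).hom) rfl = Λ l γ := by
  have h1 : ξ.map (mkHom (𝟙 T)
      (show 𝟙 T ≫ (l ≫ (ρ γ).hom) = l ≫ (ρ γ).hom by rw [Category.id_comp])) = 𝟙 _ :=
    map_eq_id_of_left ξ _ rfl
  unfold Lam
  rw [h1, Category.comp_id]

theorem Lam_lift (hΛ : IsEquivariant ρ ξ Λ) {T : Over S} (l : T ⟶ E) (γ : Γ) (l' : T ⟶ E)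
    (h : l ≫ (ρ γ).hom = l') : 𝒵.p.IsHomLift (𝟙 T) (Lam ρ ξ Λ l γ l' h) := by
  subst h
  rw [Lam_rfl]
  exact hΛ.lift l γ

theorem Lam_nat (hΛ : IsEquivariant ρ ξ Λ) {T' T : Over S} (g : T' ⟶ T) (l l' : T ⟶ E)
    (l₁ l₁' : T' ⟶ E) (γ : Γ)
    (h : l ≫ (ρ γ).hom = l') (h₁ : l₁ ≫ (ρ γ).hom = l₁') (e : g ≫ l = l₁) (e' : g ≫ l' = l₁') :
    ξ.map (mkHom g e) ≫ Lam ρ ξ Λ l γ l' h = Lam ρ ξ Λ l₁ γ l₁' h₁ ≫ ξ.map (mkHom g e') := by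
  subst e
  subst h
  subst h₁
  rw [Lam_rfl, Lam_rfl]
  exact hΛ.nat g l γ

theorem Lam_mul (hΛ : IsEquivariant ρ ξ Λ) {T : Over S} (l l' l'' : T ⟶ E) (γ δ ε : Γ)
    (hε : ε = γ * δ)
    (h : l ≫ (ρ δ).hom = l') (h' : l' ≫ (ρ γ).hom = l'') (h'' : l ≫ (ρ ε).hom = l'') :
    Lam ρ ξ Λ l δ l' h ≫ Lam ρ ξ Λ l' γ l'' h' = Lam ρ ξ Λ l ε l'' h'' := by
  subst hε
  subst h
  subst h'
  rw [Lam_rfl, Lam_rfl, hΛ.mul l γ δ]
  unfold Lam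
  rw [eqToHom_eq_mkHom h'']

theorem Lam_one (hfg : FibCat.IsFibGrpd 𝒵.p) (hΛ : IsEquivariant ρ ξ Λ) {T : Over S}
    (l l' : T ⟶ E) (h : l ≫ (ρ 1).hom = l') :
    Lam ρ ξ Λ l 1 l' h = ξ.map (mkHom (𝟙 T) (show 𝟙 T ≫ l' = l by
      rw [Category.id_comp, ← h, FreeAct.act_one, Category.comp_id])) := by
  have hl : l = l' := by rw [← h, FreeAct.act_one, Category.comp_id]
  subst hl
  have hm := Lam_mul hΛ l l l 1 1 1 (mul_one 1).symm h h h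
  have hlift := Lam_lift hΛ l 1 l h
  haveI : IsIso (Lam ρ ξ Λ l 1 l h) := IsFibGrpd.isIso_of_isHomLift_id 𝒵.p hfg (S := T) _
  have h1 : Lam ρ ξ Λ l 1 l h = 𝟙 _ := by
    have : Lam ρ ξ Λ l 1 l h ≫ Lam ρ ξ Λ l 1 l h = 𝟙 _ ≫ Lam ρ ξ Λ l 1 l h := by
      rw [hm, Category.id_comp]
    exact (cancel_mono _).mp this
  rw [h1]
  exact (map_eq_id_of_left ξ _ rfl).symm

theorem Lam_indep (hG : Geom K 𝒵 q ρ) (hΛ : IsEquivariant ρ ξ Λ) {T : Over S} (l₁ l₂ : T ⟶ E)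
    (γ γ' : Γ) (h : l₁ ≫ (ρ γ).hom = l₂) (h' : l₁ ≫ (ρ γ').hom = l₂) :
    Lam ρ ξ Λ l₁ γ l₂ h = Lam ρ ξ Λ l₁ γ' l₂ h' := by
  by_cases hT : IsEmpty T.left
  · exact hom_ext_of_isEmpty K hG.st hG.zar hT (𝟙 T) _ _ (Lam_lift hΛ _ _ _ _)
      (Lam_lift hΛ _ _ _ _)
  · rw [not_isEmpty_iff] at hT
    obtain ⟨x⟩ := hT
    have : γ = γ' := FreeAct.eq_of_act_eq ρ hG.free γ γ' x l₁ (h.trans h'.symm)
    subst this
    rfl

variable (ρ) in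
/-- The sieve of arrows on which `l'` is a translate of `l`. -/
def Rll {T : Over S} (l l' : T ⟶ E) : Sieve T where
  arrows T' g := ∃ γ : Γ, (g ≫ l) ≫ (ρ γ).hom = g ≫ l'
  downward_closed := by
    rintro T' T'' g ⟨γ, h⟩ k
    refine ⟨γ, ?_⟩
    simp only [Category.assoc] at h ⊢
    rw [h]

theorem Rll_mem (hG : Geom K 𝒵 q ρ) {T : Over S} (l l' : T ⟶ E) (h : l ≫ q = l' ≫ q) :
    Rll ρ l l' ∈ QuotSh.J K S T := by
  obtain ⟨W, j, hopen, hcov, hj⟩ := hG.eff l l' h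
  refine (QuotSh.J K S).superset_covering ?_ (hG.zar T W j hopen hcov)
  rintro V f ⟨_, u, _, ⟨γ⟩, rfl⟩
  refine ⟨γ, ?_⟩
  have hj' := hj γ
  simp only [Category.assoc] at hj' ⊢
  rw [hj']

theorem Fl_map {T : Over S} (l : T ⟶ E) {A B : Over T} (f : A ⟶ B) :
    (BasedFunctor.comp (AlgSt.overMap l) ξ).map f =
      ξ.map (mkHom f.left (show f.left ≫ (B.hom ≫ l) = A.hom ≫ l by
        rw [← Category.assoc, Over.w f])) := by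
  rfl

theorem exists_PhiF (hG : Geom K 𝒵 q ρ) (hΛ : IsEquivariant ρ ξ Λ) {T : Over S} (l l' : T ⟶ E)
    (h : l ≫ q = l' ≫ q) :
    ∃ α : BasedFunctor.comp (AlgSt.overMap l) ξ ⟶ BasedFunctor.comp (AlgSt.overMap l') ξ,
      ∀ (A : Over T) (γ : Γ) (hγ : (A.hom ≫ l) ≫ (ρ γ).hom = A.hom ≫ l'),
        α.toNatTrans.app A = Lam ρ ξ Λ (A.hom ≫ l) γ (A.hom ≫ l') hγ := by
  have hR := Rll_mem hG l l' h
  obtain ⟨α, hα⟩ := exists_nat_of_sieve hG.st hR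
    (G := BasedFunctor.comp (AlgSt.overMap l) ξ) (H := BasedFunctor.comp (AlgSt.overMap l') ξ)
    (fun A hA => Lam ρ ξ Λ (A.hom ≫ l) hA.choose (A.hom ≫ l') hA.choose_spec)
    (fun A hA => Lam_lift hΛ _ _ _ _)
    (fun A B f hA hB => by
      have hw : f.left ≫ B.hom = A.hom := Over.w f
      have e : f.left ≫ (B.hom ≫ l) = A.hom ≫ l := by rw [← Category.assoc, hw]
      have e' : f.left ≫ (B.hom ≫ l') = A.hom ≫ l' := by rw [← Category.assoc, hw]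
      have hγB : (A.hom ≫ l) ≫ (ρ hB.choose).hom = A.hom ≫ l' := by
        rw [← e, ← e', Category.assoc, hB.choose_spec]
      have n := Lam_nat hΛ f.left (B.hom ≫ l) (B.hom ≫ l') (A.hom ≫ l) (A.hom ≫ l') hB.choose
        hB.choose_spec hγB e e'
      have i := Lam_indep hG hΛ (A.hom ≫ l) (A.hom ≫ l') hB.choose hA.choose hγB hA.choose_spec
      rw [i] at n
      exact n)
  exact ⟨α, fun A γ hγ => (hα A ⟨γ, hγ⟩).trans (Lam_indep hG hΛ _ _ _ _ _ _)⟩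

theorem exists_Phi (hG : Geom K 𝒵 q ρ) (hΛ : IsEquivariant ρ ξ Λ) {T : Over S} (l l' : T ⟶ E)
    (h : l ≫ q = l' ≫ q) :
    ∃ m : ξ.obj (Over.mk l) ⟶ ξ.obj (Over.mk l'), 𝒵.p.IsHomLift (𝟙 T) m ∧
      ∀ {T' : Over S} (g : T' ⟶ T) (l₁ l₁' : T' ⟶ E) (e : g ≫ l = l₁) (e' : g ≫ l' = l₁')
        (γ : Γ) (hγ : l₁ ≫ (ρ γ).hom = l₁'),
        ξ.map (mkHom g e) ≫ m = Lam ρ ξ Λ l₁ γ l₁' hγ ≫ ξ.map (mkHom g e') := by
  obtain ⟨α, hα⟩ := exists_PhiF hG hΛ l l' h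
  have P1 : 𝟙 T ≫ (𝟙 T ≫ l) = l := by simp
  have P2 : 𝟙 T ≫ l' = 𝟙 T ≫ l' := rfl
  have hlift0 : 𝒵.p.IsHomLift (𝟙 T) (α.toNatTrans.app (Over.mk (𝟙 T))) :=
    isHomLift_app_over T α (Over.mk (𝟙 T))
  refine ⟨ξ.map (mkHom (𝟙 T) P1) ≫ (α.toNatTrans.app (Over.mk (𝟙 T)) :
    ξ.obj (Over.mk (𝟙 T ≫ l)) ⟶ ξ.obj (Over.mk (𝟙 T ≫ l'))) ≫ ξ.map (mkHom (𝟙 T) P2), ?_, ?_⟩
  · have h1 : 𝒵.p.IsHomLift (𝟙 T) (ξ.map (mkHom (𝟙 T) P1)) :=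
      isHomLift_map' ξ (mkHom (𝟙 T) P1) rfl
    have h2 : 𝒵.p.IsHomLift (𝟙 T) (ξ.map (mkHom (𝟙 T) P2)) :=
      isHomLift_map' ξ (mkHom (𝟙 T) P2) rfl
    have h3 : 𝒵.p.IsHomLift (𝟙 T) ((α.toNatTrans.app (Over.mk (𝟙 T)) :
      ξ.obj (Over.mk (𝟙 T ≫ l)) ⟶ ξ.obj (Over.mk (𝟙 T ≫ l'))) ≫ ξ.map (mkHom (𝟙 T) P2)) :=
      inferInstance
    infer_instance
  · intro T' g l₁ l₁' e e' γ hγ
    subst e
    subst e'
    have Q1 : g ≫ (𝟙 T ≫ l) = g ≫ l := by rw [Category.id_comp]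
    have Q2 : g ≫ (𝟙 T ≫ l') = g ≫ l' := by rw [Category.id_comp]
    have hA : (α.toNatTrans.app (Over.mk g) :
        ξ.obj (Over.mk (g ≫ l)) ⟶ ξ.obj (Over.mk (g ≫ l'))) =
          Lam ρ ξ Λ (g ≫ l) γ (g ≫ l') hγ := hα (Over.mk g) γ hγ
    have nat : ξ.map (mkHom g Q1) ≫ (α.toNatTrans.app (Over.mk (𝟙 T)) :
        ξ.obj (Over.mk (𝟙 T ≫ l)) ⟶ ξ.obj (Over.mk (𝟙 T ≫ l'))) =
        (α.toNatTrans.app (Over.mk g) : ξ.obj (Over.mk (g ≫ l)) ⟶ ξ.obj (Over.mk (g ≫ l'))) ≫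
          ξ.map (mkHom g Q2) :=
      α.toNatTrans.naturality (toId T (Over.mk g))
    have h1 : ξ.map (mkHom g (rfl : g ≫ l = g ≫ l)) ≫ ξ.map (mkHom (𝟙 T) P1) =
        ξ.map (mkHom g Q1) := map_comp_of_left ξ _ _ _ (Category.comp_id g)
    have h2 : ξ.map (mkHom g Q2) ≫ ξ.map (mkHom (𝟙 T) P2) =
        ξ.map (mkHom g (rfl : g ≫ l' = g ≫ l')) := map_comp_of_left ξ _ _ _ (Category.comp_id g)
    rw [reassoc_of% h1, reassoc_of% nat, h2, hA]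

/-- The canonical isomorphism `ξ(l) ⟶ ξ(l')` for two lifts of the same point of the quotient. -/
noncomputable def Phi (hG : Geom K 𝒵 q ρ) (hΛ : IsEquivariant ρ ξ Λ) {T : Over S}
    (l l' : T ⟶ E) (h : l ≫ q = l' ≫ q) : ξ.obj (Over.mk l) ⟶ ξ.obj (Over.mk l') :=
  (exists_Phi hG hΛ l l' h).choose

theorem Phi_lift (hG : Geom K 𝒵 q ρ) (hΛ : IsEquivariant ρ ξ Λ) {T : Over S}
    (l l' : T ⟶ E) (h : l ≫ q = l' ≫ q) : 𝒵.p.IsHomLift (𝟙 T) (Phi hG hΛ l l' h) :=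
  (exists_Phi hG hΛ l l' h).choose_spec.1

theorem Phi_spec (hG : Geom K 𝒵 q ρ) (hΛ : IsEquivariant ρ ξ Λ) {T : Over S}
    (l l' : T ⟶ E) (h : l ≫ q = l' ≫ q) {T' : Over S} (g : T' ⟶ T) (l₁ l₁' : T' ⟶ E)
    (e : g ≫ l = l₁) (e' : g ≫ l' = l₁') (γ : Γ) (hγ : l₁ ≫ (ρ γ).hom = l₁') :
    ξ.map (mkHom g e) ≫ Phi hG hΛ l l' h = Lam ρ ξ Λ l₁ γ l₁' hγ ≫ ξ.map (mkHom g e') :=
  (exists_Phi hG hΛ l l' h).choose_spec.2 g l₁ l₁' e e' γ hγ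

theorem Phi_eq_Lam (hG : Geom K 𝒵 q ρ) (hΛ : IsEquivariant ρ ξ Λ) {T : Over S}
    (l l' : T ⟶ E) (h : l ≫ q = l' ≫ q) (γ : Γ) (hγ : l ≫ (ρ γ).hom = l') :
    Phi hG hΛ l l' h = Lam ρ ξ Λ l γ l' hγ := by
  have := Phi_spec hG hΛ l l' h (𝟙 T) l l' (Category.id_comp _) (Category.id_comp _) γ hγ
  rw [map_eq_id_of_left ξ (mkHom (𝟙 T) (Category.id_comp l)) rfl,
    map_eq_id_of_left ξ (mkHom (𝟙 T) (Category.id_comp l')) rfl, Category.id_comp,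
    Category.comp_id] at this
  exact this

theorem Phi_self (hG : Geom K 𝒵 q ρ) (hΛ : IsEquivariant ρ ξ Λ) {T : Over S}
    (l : T ⟶ E) (h : l ≫ q = l ≫ q) : Phi hG hΛ l l h = 𝟙 _ := by
  have h1 : l ≫ (ρ 1).hom = l := by rw [FreeAct.act_one, Category.comp_id]
  rw [Phi_eq_Lam hG hΛ l l h 1 h1, Lam_one hG.st.1 hΛ l l h1]
  exact map_eq_id_of_left ξ _ rfl

theorem Phi_nat (hG : Geom K 𝒵 q ρ) (hΛ : IsEquivariant ρ ξ Λ) {T' T : Over S} (g : T' ⟶ T)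
    (l l' : T ⟶ E) (l₁ l₁' : T' ⟶ E) (h : l ≫ q = l' ≫ q) (h₁ : l₁ ≫ q = l₁' ≫ q)
    (e : g ≫ l = l₁) (e' : g ≫ l' = l₁') :
    ξ.map (mkHom g e) ≫ Phi hG hΛ l l' h = Phi hG hΛ l₁ l₁' h₁ ≫ ξ.map (mkHom g e') := by
  subst e
  subst e'
  have hp1 := Phi_lift hG hΛ l l' h
  have hp2 := Phi_lift hG hΛ (g ≫ l) (g ≫ l') h₁
  have hm1 : 𝒵.p.IsHomLift g (ξ.map (mkHom g (rfl : g ≫ l = g ≫ l))) :=
    isHomLift_map' ξ (mkHom g rfl) rfl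
  have hm2 : 𝒵.p.IsHomLift g (ξ.map (mkHom g (rfl : g ≫ l' = g ≫ l'))) :=
    isHomLift_map' ξ (mkHom g rfl) rfl
  refine sep_obj hG.st (Rll_mem hG (g ≫ l) (g ≫ l') h₁) g _ _ ?_ ?_ ?_
  · infer_instance
  · infer_instance
  rintro V k ⟨γ, hγ⟩
  refine ⟨ξ.obj (Over.mk (k ≫ g ≫ l)), ξ.map (mkHom k (rfl : k ≫ (g ≫ l) = k ≫ g ≫ l)),
    isHomLift_map' ξ (mkHom k rfl) rfl, ?_⟩
  have a1 : (k ≫ g) ≫ l = k ≫ g ≫ l := Category.assoc _ _ _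
  have a2 : (k ≫ g) ≫ l' = k ≫ g ≫ l' := Category.assoc _ _ _
  have s1 := Phi_spec hG hΛ l l' h (k ≫ g) (k ≫ g ≫ l) (k ≫ g ≫ l') a1 a2 γ hγ
  have s2 := Phi_spec hG hΛ (g ≫ l) (g ≫ l') h₁ k (k ≫ g ≫ l) (k ≫ g ≫ l') rfl rfl γ hγ
  have c1 : ξ.map (mkHom k (rfl : k ≫ (g ≫ l) = k ≫ g ≫ l)) ≫
      ξ.map (mkHom g (rfl : g ≫ l = g ≫ l)) = ξ.map (mkHom (k ≫ g) a1) :=
    map_comp_of_left ξ _ _ _ rfl
  have c2 : ξ.map (mkHom k (rfl : k ≫ (g ≫ l') = k ≫ g ≫ l')) ≫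
      ξ.map (mkHom g (rfl : g ≫ l' = g ≫ l')) = ξ.map (mkHom (k ≫ g) a2) :=
    map_comp_of_left ξ _ _ _ rfl
  rw [reassoc_of% c1, s1, reassoc_of% s2, c2]

theorem Phi_comp (hG : Geom K 𝒵 q ρ) (hΛ : IsEquivariant ρ ξ Λ) {T : Over S}
    (l l' l'' : T ⟶ E) (h : l ≫ q = l' ≫ q) (h' : l' ≫ q = l'' ≫ q) (h'' : l ≫ q = l'' ≫ q) :
    Phi hG hΛ l l' h ≫ Phi hG hΛ l' l'' h' = Phi hG hΛ l l'' h'' := by
  have hp1 := Phi_lift hG hΛ l l' h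
  have hp2 := Phi_lift hG hΛ l' l'' h'
  have hp3 := Phi_lift hG hΛ l l'' h''
  refine sep_obj hG.st ((QuotSh.J K S).intersection_covering (Rll_mem hG l l' h)
    (Rll_mem hG l' l'' h')) (𝟙 T) _ _ ?_ hp3 ?_
  · infer_instance
  rintro V k ⟨⟨γ₁, hγ₁⟩, ⟨γ₂, hγ₂⟩⟩
  refine ⟨ξ.obj (Over.mk (k ≫ l)), ξ.map (mkHom k (rfl : k ≫ l = k ≫ l)),
    isHomLift_map' ξ (mkHom k rfl) rfl, ?_⟩
  have hγ₃ : (k ≫ l) ≫ (ρ (γ₂ * γ₁)).hom = k ≫ l'' := by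
    rw [FreeAct.act_mul, ← Category.assoc, hγ₁, hγ₂]
  have s1 := Phi_spec hG hΛ l l' h k (k ≫ l) (k ≫ l') rfl rfl γ₁ hγ₁
  have s2 := Phi_spec hG hΛ l' l'' h' k (k ≫ l') (k ≫ l'') rfl rfl γ₂ hγ₂
  have s3 := Phi_spec hG hΛ l l'' h'' k (k ≫ l) (k ≫ l'') rfl rfl (γ₂ * γ₁) hγ₃
  have m := Lam_mul hΛ (k ≫ l) (k ≫ l') (k ≫ l'') γ₂ γ₁ (γ₂ * γ₁) rfl hγ₁ hγ₂ hγ₃
  rw [reassoc_of% s1, s2, s3, ← m, Category.assoc]

end Thm1

section DFun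
variable {K : Precoverage Scheme.{u}} {E Y : Over S} (q : E ⟶ Y) {Γ : Type u} [Group Γ]
  {ρ : Γ →* Aut E} {ξ : FibCat.overCat E ⥤ᵇ 𝒵}
  {Λ : ∀ {T : Over S} (l : T ⟶ E) (γ : Γ),
      ξ.obj (Over.mk l) ⟶ ξ.obj (Over.mk (l ≫ (ρ γ).hom))}

/-- The sieve generated by `q`. -/
abbrev Rq : Sieve Y := Sieve.generate (Presieve.singleton q)

/-- A chosen lift to `E` of an arrow of the sieve generated by `q`. -/
noncomputable def lft (a : (Stk.sieveCat (Rq q)).obj) : a.obj.left ⟶ E :=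
  (exists_lift_of_mem q a.property).choose

theorem lft_spec (a : (Stk.sieveCat (Rq q)).obj) : lft q a ≫ q = a.obj.hom :=
  (exists_lift_of_mem q a.property).choose_spec

theorem lft_comp {a b : (Stk.sieveCat (Rq q)).obj} (f : a ⟶ b) :
    lft q a ≫ q = (f.hom.left ≫ lft q b) ≫ q := by
  rw [lft_spec, Category.assoc, lft_spec, Over.w f.hom]

/-- The descent datum functor on morphisms. -/
noncomputable def Dmap (hG : Geom K 𝒵 q ρ) (hΛ : IsEquivariant ρ ξ Λ)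
    {a b : (Stk.sieveCat (Rq q)).obj} (f : a ⟶ b) :
    ξ.obj (Over.mk (lft q a)) ⟶ ξ.obj (Over.mk (lft q b)) :=
  Phi hG hΛ (lft q a) (f.hom.left ≫ lft q b) (lft_comp q f) ≫
    ξ.map (mkHom f.hom.left (rfl : f.hom.left ≫ lft q b = f.hom.left ≫ lft q b))

theorem Dmap_eq (hG : Geom K 𝒵 q ρ) (hΛ : IsEquivariant ρ ξ Λ)
    {a b : (Stk.sieveCat (Rq q)).obj} (f : a ⟶ b) (u : a.obj.left ⟶ b.obj.left)
    (hu : f.hom.left = u) (hq' : lft q a ≫ q = (u ≫ lft q b) ≫ q) :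
    Dmap q hG hΛ f = Phi hG hΛ (lft q a) (u ≫ lft q b) hq' ≫
      ξ.map (mkHom u (rfl : u ≫ lft q b = u ≫ lft q b)) := by
  subst hu
  rfl

theorem Dmap_lift (hG : Geom K 𝒵 q ρ) (hΛ : IsEquivariant ρ ξ Λ)
    {a b : (Stk.sieveCat (Rq q)).obj} (f : a ⟶ b) :
    𝒵.p.IsHomLift f.hom.left (Dmap q hG hΛ f) := by
  have h1 := Phi_lift hG hΛ (lft q a) (f.hom.left ≫ lft q b) (lft_comp q f)
  have h2 : 𝒵.p.IsHomLift f.hom.left (ξ.map (mkHom f.hom.left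
      (rfl : f.hom.left ≫ lft q b = f.hom.left ≫ lft q b))) :=
    isHomLift_map' ξ (mkHom f.hom.left rfl) rfl
  unfold Dmap
  infer_instance

theorem Dmap_id (hG : Geom K 𝒵 q ρ) (hΛ : IsEquivariant ρ ξ Λ)
    (a : (Stk.sieveCat (Rq q)).obj) : Dmap q hG hΛ (𝟙 a) = 𝟙 _ := by
  have hq0 : lft q a ≫ q = lft q a ≫ q := rfl
  have hq1 : lft q a ≫ q = (𝟙 a.obj.left ≫ lft q a) ≫ q := by rw [Category.id_comp]
  have n := Phi_nat hG hΛ (𝟙 a.obj.left) (lft q a) (lft q a) (lft q a) (𝟙 a.obj.left ≫ lft q a)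
    hq0 hq1 (Category.id_comp _) rfl
  have h1 : ξ.map (mkHom (𝟙 a.obj.left) (Category.id_comp (lft q a))) = 𝟙 _ :=
    map_eq_id_of_left ξ _ rfl
  rw [Dmap_eq q hG hΛ (𝟙 a) (𝟙 a.obj.left) rfl hq1, ← n, Phi_self, Category.comp_id]
  exact h1

theorem Dmap_comp (hG : Geom K 𝒵 q ρ) (hΛ : IsEquivariant ρ ξ Λ)
    {a b c : (Stk.sieveCat (Rq q)).obj} (f : a ⟶ b) (g : b ⟶ c) :
    Dmap q hG hΛ (f ≫ g) = Dmap q hG hΛ f ≫ Dmap q hG hΛ g := by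
  have hb : lft q b ≫ q = (g.hom.left ≫ lft q c) ≫ q := lft_comp q g
  have ha : lft q a ≫ q = (f.hom.left ≫ lft q b) ≫ q := lft_comp q f
  have hab : (f.hom.left ≫ lft q b) ≫ q = ((f.hom.left ≫ g.hom.left) ≫ lft q c) ≫ q := by
    rw [Category.assoc, hb, Category.assoc, Category.assoc, Category.assoc]
  have hac : lft q a ≫ q = ((f.hom.left ≫ g.hom.left) ≫ lft q c) ≫ q := ha.trans hab
  have n := Phi_nat hG hΛ f.hom.left (lft q b) (g.hom.left ≫ lft q c) (f.hom.left ≫ lft q b)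
    ((f.hom.left ≫ g.hom.left) ≫ lft q c) hb hab rfl (Category.assoc _ _ _).symm
  have cc := Phi_comp hG hΛ (lft q a) (f.hom.left ≫ lft q b)
    ((f.hom.left ≫ g.hom.left) ≫ lft q c) ha hab hac
  have m : ξ.map (mkHom f.hom.left ((Category.assoc _ _ _).symm :
      f.hom.left ≫ (g.hom.left ≫ lft q c) = (f.hom.left ≫ g.hom.left) ≫ lft q c)) ≫
      ξ.map (mkHom g.hom.left (rfl : g.hom.left ≫ lft q c = g.hom.left ≫ lft q c)) =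
      ξ.map (mkHom (f.hom.left ≫ g.hom.left)
        (rfl : (f.hom.left ≫ g.hom.left) ≫ lft q c = (f.hom.left ≫ g.hom.left) ≫ lft q c)) :=
    map_comp_of_left ξ _ _ _ rfl
  rw [Dmap_eq q hG hΛ (f ≫ g) (f.hom.left ≫ g.hom.left) rfl hac,
    Dmap_eq q hG hΛ f f.hom.left rfl ha, Dmap_eq q hG hΛ g g.hom.left rfl hb]
  simp only [Category.assoc]
  rw [reassoc_of% n, m, reassoc_of% cc]

/-- The descent datum as a functor over `Over S` out of the sieve generated by `q`. -/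
noncomputable def Dfun (hG : Geom K 𝒵 q ρ) (hΛ : IsEquivariant ρ ξ Λ) :
    Stk.sieveCat (Rq q) ⥤ᵇ 𝒵 where
  toFunctor :=
    { obj := fun a => ξ.obj (Over.mk (lft q a))
      map := fun {a b} f => Dmap q hG hΛ f
      map_id := fun a => Dmap_id q hG hΛ a
      map_comp := fun f g => Dmap_comp q hG hΛ f g }
  w := CategoryTheory.Functor.ext (fun a => ξ.w_obj (Over.mk (lft q a)))
    (fun a b f => by
      haveI := Dmap_lift q hG hΛ f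
      exact IsHomLift.fac' 𝒵.p f.hom.left _)

/-- The object of the sieve generated by `q` attached to an object of `Over E`. -/
def aOf (A : Over E) : (Stk.sieveCat (Rq q)).obj :=
  ⟨(Over.map q).obj A, ⟨E, A.hom, q, ⟨⟩, rfl⟩⟩

variable (p : FibCat.overCat Y ⥤ᵇ 𝒵)

/-- Components of the comparison isomorphism. -/
noncomputable def iotaApp (hG : Geom K 𝒵 q ρ) (hΛ : IsEquivariant ρ ξ Λ)
    (ε : (Stk.resSieve (Rq q) 𝒵).obj p ≅ Dfun q hG hΛ) (A : Over E) :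
    p.obj ((Over.map q).obj A) ⟶ ξ.obj A :=
  (ε.hom.toNatTrans.app (aOf q A) :
    p.obj ((Over.map q).obj A) ⟶ ξ.obj (Over.mk (lft q (aOf q A)))) ≫
    Phi hG hΛ (lft q (aOf q A)) A.hom (lft_spec q (aOf q A))

theorem iotaApp_lift (hG : Geom K 𝒵 q ρ) (hΛ : IsEquivariant ρ ξ Λ)
    (ε : (Stk.resSieve (Rq q) 𝒵).obj p ≅ Dfun q hG hΛ) (A : Over E) :
    𝒵.p.IsHomLift (𝟙 A.left) (iotaApp q p hG hΛ ε A) := by
  have h1 : 𝒵.p.IsHomLift (𝟙 A.left) (ε.hom.toNatTrans.app (aOf q A) :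
    p.obj ((Over.map q).obj A) ⟶ ξ.obj (Over.mk (lft q (aOf q A)))) :=
    ε.hom.isHomLift' (aOf q A)
  have h2 := Phi_lift hG hΛ (lft q (aOf q A)) A.hom (lft_spec q (aOf q A))
  exact @IsHomLift.comp_of_lift_id _ _ _ _ 𝒵.p A.left _ _ _ _ _ h1 h2

theorem eps_nat (hG : Geom K 𝒵 q ρ) (hΛ : IsEquivariant ρ ξ Λ)
    (ε : (Stk.resSieve (Rq q) 𝒵).obj p ≅ Dfun q hG hΛ) {A B : Over E}
    (φ : (Over.map q).obj A ⟶ (Over.map q).obj B) (u : A.left ⟶ B.left) (hu : φ.left = u)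
    (hq' : lft q (aOf q A) ≫ q = (u ≫ lft q (aOf q B)) ≫ q) :
    p.map φ ≫ (ε.hom.toNatTrans.app (aOf q B) :
        p.obj ((Over.map q).obj B) ⟶ ξ.obj (Over.mk (lft q (aOf q B)))) =
      (ε.hom.toNatTrans.app (aOf q A) :
        p.obj ((Over.map q).obj A) ⟶ ξ.obj (Over.mk (lft q (aOf q A)))) ≫
      Phi hG hΛ (lft q (aOf q A)) (u ≫ lft q (aOf q B)) hq' ≫
        ξ.map (mkHom u (rfl : u ≫ lft q (aOf q B) = u ≫ lft q (aOf q B))) := by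
  have εn := ε.hom.toNatTrans.naturality
    (ObjectProperty.homMk φ : aOf q A ⟶ aOf q B)
  rw [← Dmap_eq q hG hΛ (ObjectProperty.homMk φ : aOf q A ⟶ aOf q B) u hu hq']
  exact εn

theorem iotaApp_nat (hG : Geom K 𝒵 q ρ) (hΛ : IsEquivariant ρ ξ Λ)
    (ε : (Stk.resSieve (Rq q) 𝒵).obj p ≅ Dfun q hG hΛ) {A B : Over E} (f : A ⟶ B) :
    p.map ((Over.map q).map f) ≫ iotaApp q p hG hΛ ε B = iotaApp q p hG hΛ ε A ≫ ξ.map f := by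
  have hw : f.left ≫ B.hom = A.hom := Over.w f
  have hB : lft q (aOf q B) ≫ q = B.hom ≫ q := lft_spec q (aOf q B)
  have hA : lft q (aOf q A) ≫ q = A.hom ≫ q := lft_spec q (aOf q A)
  have h1 : (f.left ≫ lft q (aOf q B)) ≫ q = A.hom ≫ q := by
    rw [Category.assoc, hB, ← Category.assoc, hw]
  have εn := eps_nat q p hG hΛ ε ((Over.map q).map f) f.left rfl (hA.trans h1.symm)
  have n := Phi_nat hG hΛ f.left (lft q (aOf q B)) B.hom (f.left ≫ lft q (aOf q B)) A.hom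
    hB h1 rfl hw
  have cc := Phi_comp hG hΛ (lft q (aOf q A)) (f.left ≫ lft q (aOf q B)) A.hom
    (hA.trans h1.symm) h1 hA
  unfold iotaApp
  simp only [Category.assoc]
  rw [reassoc_of% εn, n, reassoc_of% cc]
  rfl

theorem iotaApp_Lam (hG : Geom K 𝒵 q ρ) (hΛ : IsEquivariant ρ ξ Λ)
    (ε : (Stk.resSieve (Rq q) 𝒵).obj p ≅ Dfun q hG hΛ) {T : Over S} (l : T ⟶ E) (γ : Γ) :
    iotaApp q p hG hΛ ε (Over.mk l) ≫ Λ l γ =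
      p.map (eqToHom (by rw [Category.assoc, hG.hρq]) :
        Over.mk (l ≫ q) ⟶ Over.mk ((l ≫ (ρ γ).hom) ≫ q)) ≫
        iotaApp q p hG hΛ ε (Over.mk (l ≫ (ρ γ).hom)) := by
  have h12 : l ≫ q = (l ≫ (ρ γ).hom) ≫ q := by rw [Category.assoc, hG.hρq]
  rw [eqToHom_eq_mkHom h12]
  have P : 𝟙 T ≫ ((l ≫ (ρ γ).hom) ≫ q) = l ≫ q := by rw [Category.id_comp, ← h12]
  have hA1 : lft q (aOf q (Over.mk l)) ≫ q = l ≫ q := lft_spec q (aOf q (Over.mk l))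
  have hA2 : lft q (aOf q (Over.mk (l ≫ (ρ γ).hom))) ≫ q = (l ≫ (ρ γ).hom) ≫ q :=
    lft_spec q (aOf q (Over.mk (l ≫ (ρ γ).hom)))
  have h2 : (𝟙 T ≫ lft q (aOf q (Over.mk (l ≫ (ρ γ).hom)))) ≫ q = (l ≫ (ρ γ).hom) ≫ q := by
    rw [Category.id_comp, hA2]
  have εn := eps_nat q p hG hΛ ε (A := Over.mk l) (B := Over.mk (l ≫ (ρ γ).hom))
    (mkHom (𝟙 T) P) (𝟙 T) rfl (hA1.trans (h12.trans h2.symm))
  have n := Phi_nat hG hΛ (𝟙 T) (lft q (aOf q (Over.mk (l ≫ (ρ γ).hom)))) (l ≫ (ρ γ).hom)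
    (𝟙 T ≫ lft q (aOf q (Over.mk (l ≫ (ρ γ).hom)))) (l ≫ (ρ γ).hom) hA2 h2 rfl
    (Category.id_comp _)
  have n' := n.trans (by
    rw [map_eq_id_of_left ξ (mkHom (𝟙 T) (Category.id_comp (l ≫ (ρ γ).hom))) rfl,
      Category.comp_id])
  have c1 := Phi_comp hG hΛ (lft q (aOf q (Over.mk l)))
    (𝟙 T ≫ lft q (aOf q (Over.mk (l ≫ (ρ γ).hom)))) (l ≫ (ρ γ).hom)
    (hA1.trans (h12.trans h2.symm)) h2 (hA1.trans h12)
  have c2 := Phi_comp hG hΛ (lft q (aOf q (Over.mk l))) l (l ≫ (ρ γ).hom) hA1 h12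
    (hA1.trans h12)
  have e := Phi_eq_Lam hG hΛ l (l ≫ (ρ γ).hom) h12 γ rfl
  rw [Lam_rfl] at e
  unfold iotaApp
  simp only [Category.assoc, Over.mk_hom]
  rw [reassoc_of% εn, n', c1, ← e, c2]

theorem exists_iota (hG : Geom K 𝒵 q ρ) (hΛ : IsEquivariant ρ ξ Λ)
    (ε : (Stk.resSieve (Rq q) 𝒵).obj p ≅ Dfun q hG hΛ) :
    ∃ ι : BasedFunctor.comp (AlgSt.overMap q) p ≅ ξ,
      ∀ A : Over E, ι.hom.toNatTrans.app A = iotaApp q p hG hΛ ε A := by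
  let ιh : BasedFunctor.comp (AlgSt.overMap q) p ⟶ ξ :=
    { toNatTrans :=
        { app := fun A => iotaApp q p hG hΛ ε A
          naturality := fun A B f => iotaApp_nat q p hG hΛ ε f }
      isHomLift' := fun A => iotaApp_lift q p hG hΛ ε A }
  haveI : IsIso ιh := isIso_of_isFibGrpd hG.st.1 ιh
  exact ⟨asIso ιh, fun A => rfl⟩

end DFun

section Main1
variable (K : Precoverage Scheme.{u}) {E Y : Over S} (q : E ⟶ Y) {Γ : Type u} [Group Γ] [Finite Γ]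
  (ρ : Γ →* Aut E)

/-- **Descent of objects along a finite free quotient.** -/
theorem exists_descent (h𝒵 : Stk.IsStack (QuotSh.J K S) 𝒵) (hZ : ZarLE K S)
    (hq : Sieve.generate (Presieve.singleton q) ∈ QuotSh.J K S Y)
    (hρq : ∀ γ, (ρ γ).hom ≫ q = q)
    (hfree : ∀ (g : Γ) (x : E.left), g ≠ 1 →
      E.left.fromSpecResidueField x ≫ (ρ g).hom.left ≠ E.left.fromSpecResidueField x)
    (heff : ∀ {T : Over S} (l l' : T ⟶ E), l ≫ q = l' ≫ q →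
      ∃ (W : Γ → Over S) (j : ∀ γ, W γ ⟶ T), (∀ γ, IsOpenImmersion (j γ).left) ∧
        (∀ x : T.left, ∃ γ, x ∈ Set.range (j γ).left) ∧
        ∀ γ, j γ ≫ l' = (j γ ≫ l) ≫ (ρ γ).hom)
    (ξ : FibCat.overCat E ⥤ᵇ 𝒵)
    (Λ : ∀ {T : Over S} (l : T ⟶ E) (γ : Γ),
      ξ.obj (Over.mk l) ⟶ ξ.obj (Over.mk (l ≫ (ρ γ).hom)))
    (hΛlift : ∀ {T : Over S} (l : T ⟶ E) (γ : Γ), 𝒵.p.IsHomLift (𝟙 T) (Λ l γ))
    (hΛnat : ∀ {T' T : Over S} (g : T' ⟶ T) (l : T ⟶ E) (γ : Γ),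
      ξ.map (Over.homMk g rfl : Over.mk (g ≫ l) ⟶ Over.mk l) ≫ Λ l γ =
        Λ (g ≫ l) γ ≫ ξ.map (Over.homMk g (Category.assoc _ _ _).symm :
          Over.mk ((g ≫ l) ≫ (ρ γ).hom) ⟶ Over.mk (l ≫ (ρ γ).hom)))
    (hΛmul : ∀ {T : Over S} (l : T ⟶ E) (γ δ : Γ),
      Λ l δ ≫ Λ (l ≫ (ρ δ).hom) γ =
        Λ l (γ * δ) ≫ ξ.map (eqToHom (by
          rw [Groth.Agent.Helper2.FreeAct.act_mul, Category.assoc]) :
          Over.mk (l ≫ (ρ (γ * δ)).hom) ⟶ Over.mk ((l ≫ (ρ δ).hom) ≫ (ρ γ).hom))) :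
    ∃ (p : FibCat.overCat Y ⥤ᵇ 𝒵) (ι : BasedFunctor.comp (AlgSt.overMap q) p ≅ ξ),
      ∀ {T : Over S} (l : T ⟶ E) (γ : Γ),
        ι.hom.toNatTrans.app (Over.mk l) ≫ Λ l γ =
          p.map (eqToHom (by rw [Category.assoc, hρq]) :
            Over.mk (l ≫ q) ⟶ Over.mk ((l ≫ (ρ γ).hom) ≫ q)) ≫
            ι.hom.toNatTrans.app (Over.mk (l ≫ (ρ γ).hom)) := by
  have hG : Geom K 𝒵 q ρ := ⟨h𝒵, hZ, hρq, hfree, @heff⟩
  have hΛ : IsEquivariant ρ ξ Λ := ⟨@hΛlift, @hΛnat, @hΛmul⟩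
  have hE : (Stk.resSieve (Rq q) 𝒵).IsEquivalence := h𝒵.2 _ hq
  obtain ⟨p, ⟨ε⟩⟩ := hE.essSurj.mem_essImage (Dfun q hG hΛ)
  obtain ⟨ι, hι⟩ := exists_iota q p hG hΛ ε
  refine ⟨p, ι, fun {T} l γ => ?_⟩
  rw [hι, hι]
  exact iotaApp_Lam q p hG hΛ ε l γ

end Main1

end Groth.Agent.TorsDescSpec
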