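import Mathlib
import Groth.Prelude.Def_AlgSt3
import Groth.Agent.Lib.Helper8.TorsDesc
import Groth.Agent.Lib.Helper2.AlgSp.Coprod
import Groth.Agent.Lib.Helper2.AlgSt.LocQ.Charts

/-!
# Gluing charts of a stack on a disjoint union: objects (helper8, for lead LMB 6.3 project)
-/

set_option backward.isDefEq.respectTransparency false
set_option linter.style.haveILetI false
set_option linter.unusedSectionVars false
set_option linter.unusedVariables false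
set_option backward.isDefEq.respectTransparency.types false
set_option autoImplicit false
set_option synthInstance.maxHeartbeats 400000
set_option maxHeartbeats 1000000

open CategoryTheory CategoryTheory.Limits AlgebraicGeometry Opposite
open Groth.Agent.Helper2 Groth.Agent.Helper2.Coprod Groth.Agent.TorsDescSpec
open Groth.Agent.Helper2.StkLib Groth.Agent.Helper2.FibCatLib

namespace Groth.Agent.ETSpec3
universe u
variable {S : Scheme.{u}} {𝒵 : AlgSt.Cat S}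

/-- (G1) Over the empty scheme all objects of a stack are isomorphic. -/
theorem nonempty_iso_of_isEmpty (K₀ : Precoverage Scheme.{u})
    (h𝒵 : Stk.IsStack (QuotSh.J K₀ S) 𝒵) (hZ : ZarLE K₀ S) {T₀ : Over S} [IsEmpty T₀.left]
    (x x' : FibCat.overCat T₀ ⥤ᵇ 𝒵) : Nonempty (x ≅ x') := by
  have hT : IsEmpty T₀.left := inferInstance
  obtain ⟨R, hRmem, hRfalse⟩ : ∃ R : Sieve T₀, R ∈ QuotSh.J K₀ S T₀ ∧
      ∀ ⦃V : Over S⦄ (f : V ⟶ T₀), R f → False := by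
    refine ⟨_, hZ T₀ (ι := PEmpty.{u+1}) (fun i => i.elim) (fun i => i.elim) (fun i => i.elim)
      (fun t => (hT.false t).elim), ?_⟩
    rintro V f ⟨_, _, _, ⟨i⟩, _⟩
    exact i.elim
  obtain ⟨α, -⟩ := exists_nat_of_sieve h𝒵 hRmem (G := x) (H := x')
    (fun A hA => (hRfalse A.hom hA).elim) (fun A hA => (hRfalse A.hom hA).elim)
    (fun A B f hA hB => (hRfalse A.hom hA).elim)
  haveI : IsIso α := isIso_of_isFibGrpd h𝒵.1 α
  exact ⟨asIso α⟩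

/-- Object form of (G1). -/
theorem exists_hom_of_isEmpty (K₀ : Precoverage Scheme.{u})
    (h𝒵 : Stk.IsStack (QuotSh.J K₀ S) 𝒵) (hZ : ZarLE K₀ S) {T₀ : Over S} (hT : IsEmpty T₀.left)
    (c c' : 𝒵.obj) (hc : 𝒵.p.obj c = T₀) (hc' : 𝒵.p.obj c' = T₀) :
    ∃ m : c ⟶ c', 𝒵.p.IsHomLift (𝟙 T₀) m := by
  have hfg := h𝒵.1
  obtain ⟨G, e, he⟩ := exists_functor_of_obj hfg c hc
  obtain ⟨G', e', he'⟩ := exists_functor_of_obj hfg c' hc'
  haveI := hT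
  obtain ⟨θ⟩ := nonempty_iso_of_isEmpty K₀ h𝒵 hZ G G'
  have h1 : 𝒵.p.IsHomLift (𝟙 T₀) e.inv := inferInstance
  have h2 : 𝒵.p.IsHomLift (𝟙 T₀) (θ.hom.toNatTrans.app (Over.mk (𝟙 T₀))) :=
    isHomLift_app_over T₀ θ.hom (Over.mk (𝟙 T₀))
  exact ⟨e.inv ≫ θ.hom.toNatTrans.app (Over.mk (𝟙 T₀)) ≫ e'.hom, inferInstance⟩

section Glue
variable {ι : Type u} (Z : ι → Over S)

/-- The sieve on the disjoint union generated by the summands. -/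
noncomputable abbrev RZ : Sieve (sigmaOver Z) := Sieve.ofArrows Z (sigmaOverι Z)

theorem exists_idx (a : (Stk.sieveCat (RZ Z)).obj) :
    ∃ (i : ι) (l : a.obj.left ⟶ Z i), l ≫ sigmaOverι Z i = a.obj.hom := by
  obtain ⟨_, l, _, ⟨i⟩, h⟩ := a.property
  exact ⟨i, l, h⟩

noncomputable def idx (a : (Stk.sieveCat (RZ Z)).obj) : ι := (exists_idx Z a).choose

noncomputable def lf (a : (Stk.sieveCat (RZ Z)).obj) : a.obj.left ⟶ Z (idx Z a) :=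
  (exists_idx Z a).choose_spec.choose

theorem lf_spec (a : (Stk.sieveCat (RZ Z)).obj) :
    lf Z a ≫ sigmaOverι Z (idx Z a) = a.obj.hom :=
  (exists_idx Z a).choose_spec.choose_spec

theorem lf_rel {a b : (Stk.sieveCat (RZ Z)).obj} (f : a ⟶ b) :
    lf Z a ≫ sigmaOverι Z (idx Z a) = f.hom.left ≫ lf Z b ≫ sigmaOverι Z (idx Z b) := by
  rw [lf_spec, lf_spec, Over.w f.hom]

theorem isEmpty_of_idx_ne {a b : (Stk.sieveCat (RZ Z)).obj} (f : a ⟶ b)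
    (h : idx Z a ≠ idx Z b) : IsEmpty a.obj.left.left :=
  isEmpty_of_sigmaOverι_eq Z h (lf Z a) (f.hom.left ≫ lf Z b)
    (by rw [Category.assoc]; exact lf_rel Z f)

variable (p : ∀ i, FibCat.overCat (Z i) ⥤ᵇ 𝒵)

theorem pm_aux {i : ι} {A B : Over S} (l : A ⟶ Z i) (l' : B ⟶ Z i) (g : A ⟶ B)
    (hg : l ≫ sigmaOverι Z i = g ≫ l' ≫ sigmaOverι Z i) : g ≫ l' = l := by
  apply (cancel_mono (sigmaOverι Z i)).1
  rw [Category.assoc]
  exact hg.symm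

/-- The value of the family `p` on a morphism between objects lying over the same summand. -/
noncomputable def pm {i j : ι} (h : i = j) {A B : Over S} (l : A ⟶ Z i) (l' : B ⟶ Z j)
    (g : A ⟶ B) (hg : l ≫ sigmaOverι Z i = g ≫ l' ≫ sigmaOverι Z j) :
    (p i).obj (Over.mk l) ⟶ (p j).obj (Over.mk l') := by
  subst h
  exact (p i).map (mkHom g (pm_aux Z l l' g hg))

theorem pm_lift {i j : ι} (h : i = j) {A B : Over S} (l : A ⟶ Z i) (l' : B ⟶ Z j)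
    (g : A ⟶ B) (hg : l ≫ sigmaOverι Z i = g ≫ l' ≫ sigmaOverι Z j) :
    𝒵.p.IsHomLift g (pm Z p h l l' g hg) := by
  subst h
  exact isHomLift_map' (p i) (mkHom g (pm_aux Z l l' g hg)) rfl

theorem pm_id {i : ι} (h : i = i) {A : Over S} (l : A ⟶ Z i) (g : A ⟶ A) (hgid : g = 𝟙 A)
    (hg : l ≫ sigmaOverι Z i = g ≫ l ≫ sigmaOverι Z i) :
    pm Z p h l l g hg = 𝟙 _ := by
  subst hgid
  exact map_eq_id_of_left (p i) _ rfl

theorem pm_comp {i j k : ι} (h : i = j) (h' : j = k) (h'' : i = k) {A B C : Over S}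
    (l : A ⟶ Z i) (l' : B ⟶ Z j) (l'' : C ⟶ Z k) (g : A ⟶ B) (g' : B ⟶ C)
    (hg : l ≫ sigmaOverι Z i = g ≫ l' ≫ sigmaOverι Z j)
    (hg' : l' ≫ sigmaOverι Z j = g' ≫ l'' ≫ sigmaOverι Z k)
    (hgg' : l ≫ sigmaOverι Z i = (g ≫ g') ≫ l'' ≫ sigmaOverι Z k) :
    pm Z p h l l' g hg ≫ pm Z p h' l' l'' g' hg' = pm Z p h'' l l'' (g ≫ g') hgg' := by
  subst h
  subst h'
  exact map_comp_of_left (p i) _ _ _ rfl

variable (K₀ : Precoverage Scheme.{u}) (h𝒵 : Stk.IsStack (QuotSh.J K₀ S) 𝒵) (hZ : ZarLE K₀ S)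

include h𝒵 hZ in
theorem exists_emp {a b : (Stk.sieveCat (RZ Z)).obj} (f : a ⟶ b)
    (hE : IsEmpty a.obj.left.left) :
    ∃ m : (p (idx Z a)).obj (Over.mk (lf Z a)) ⟶ (p (idx Z b)).obj (Over.mk (lf Z b)),
      𝒵.p.IsHomLift f.hom.left m := by
  have hφ : 𝒵.p.IsHomLift f.hom.left ((p (idx Z b)).map (mkHom f.hom.left
      (rfl : f.hom.left ≫ lf Z b = f.hom.left ≫ lf Z b))) :=
    isHomLift_map' (p (idx Z b)) (mkHom f.hom.left
      (rfl : f.hom.left ≫ lf Z b = f.hom.left ≫ lf Z b)) rfl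
  obtain ⟨m₀, hm₀⟩ := exists_hom_of_isEmpty K₀ h𝒵 hZ hE
    ((p (idx Z a)).obj (Over.mk (lf Z a)))
    ((p (idx Z b)).obj (Over.mk (f.hom.left ≫ lf Z b)))
    ((p (idx Z a)).w_obj _) ((p (idx Z b)).w_obj _)
  exact ⟨m₀ ≫ (p (idx Z b)).map (mkHom f.hom.left rfl), inferInstance⟩

open Classical in
/-- The descent datum on morphisms. -/
noncomputable def Dmap {a b : (Stk.sieveCat (RZ Z)).obj} (f : a ⟶ b) :
    (p (idx Z a)).obj (Over.mk (lf Z a)) ⟶ (p (idx Z b)).obj (Over.mk (lf Z b)) :=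
  if h : idx Z a = idx Z b then pm Z p h (lf Z a) (lf Z b) f.hom.left (lf_rel Z f)
  else (exists_emp Z p K₀ h𝒵 hZ f (isEmpty_of_idx_ne Z f h)).choose

theorem Dmap_pos {a b : (Stk.sieveCat (RZ Z)).obj} (f : a ⟶ b) (h : idx Z a = idx Z b) :
    Dmap Z p K₀ h𝒵 hZ f = pm Z p h (lf Z a) (lf Z b) f.hom.left (lf_rel Z f) := by
  unfold Dmap
  rw [dif_pos h]

theorem Dmap_lift {a b : (Stk.sieveCat (RZ Z)).obj} (f : a ⟶ b) :
    𝒵.p.IsHomLift f.hom.left (Dmap Z p K₀ h𝒵 hZ f) := by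
  unfold Dmap
  split_ifs with h
  · exact pm_lift Z p h _ _ _ _
  · exact (exists_emp Z p K₀ h𝒵 hZ f (isEmpty_of_idx_ne Z f h)).choose_spec

theorem Dmap_id (a : (Stk.sieveCat (RZ Z)).obj) : Dmap Z p K₀ h𝒵 hZ (𝟙 a) = 𝟙 _ := by
  rw [Dmap_pos Z p K₀ h𝒵 hZ (𝟙 a) rfl]
  exact pm_id Z p rfl (lf Z a) _ rfl _

theorem Dmap_comp {a b c : (Stk.sieveCat (RZ Z)).obj} (f : a ⟶ b) (g : b ⟶ c) :
    Dmap Z p K₀ h𝒵 hZ (f ≫ g) = Dmap Z p K₀ h𝒵 hZ f ≫ Dmap Z p K₀ h𝒵 hZ g := by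
  have hl := Dmap_lift Z p K₀ h𝒵 hZ (f ≫ g)
  have hlf := Dmap_lift Z p K₀ h𝒵 hZ f
  have hlg := Dmap_lift Z p K₀ h𝒵 hZ g
  have hcomp : 𝒵.p.IsHomLift (f ≫ g).hom.left
      (Dmap Z p K₀ h𝒵 hZ f ≫ Dmap Z p K₀ h𝒵 hZ g) := by
    show 𝒵.p.IsHomLift (f.hom.left ≫ g.hom.left) _
    infer_instance
  by_cases hab : idx Z a = idx Z b
  · by_cases hbc : idx Z b = idx Z c
    · rw [Dmap_pos Z p K₀ h𝒵 hZ (f ≫ g) (hab.trans hbc), Dmap_pos Z p K₀ h𝒵 hZ f hab,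
        Dmap_pos Z p K₀ h𝒵 hZ g hbc]
      exact (pm_comp Z p hab hbc (hab.trans hbc) _ _ _ _ _ _ _ _).symm
    · have hEb := isEmpty_of_idx_ne Z g hbc
      have hEa : IsEmpty a.obj.left.left := ⟨fun t => hEb.false (f.hom.left.left.base t)⟩
      exact hom_ext_of_isEmpty K₀ h𝒵 hZ hEa (f ≫ g).hom.left _ _ hl hcomp
  · have hEa := isEmpty_of_idx_ne Z f hab
    exact hom_ext_of_isEmpty K₀ h𝒵 hZ hEa (f ≫ g).hom.left _ _ hl hcomp

/-- The descent datum as a functor over `Over S` out of the sieve of the summands. -/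
noncomputable def Dfun : Stk.sieveCat (RZ Z) ⥤ᵇ 𝒵 where
  toFunctor :=
    { obj := fun a => (p (idx Z a)).obj (Over.mk (lf Z a))
      map := fun {a b} f => Dmap Z p K₀ h𝒵 hZ f
      map_id := fun a => Dmap_id Z p K₀ h𝒵 hZ a
      map_comp := fun f g => Dmap_comp Z p K₀ h𝒵 hZ f g }
  w := CategoryTheory.Functor.ext (fun a => (p (idx Z a)).w_obj (Over.mk (lf Z a)))
    (fun a b f => by
      haveI := Dmap_lift Z p K₀ h𝒵 hZ f
      exact IsHomLift.fac' 𝒵.p f.hom.left _)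

include h𝒵 hZ in
/-- Gluing half of (G2). -/
theorem exists_sigma_glue :
    ∃ P : FibCat.overCat (sigmaOver Z) ⥤ᵇ 𝒵,
      ∀ i, Nonempty (BasedFunctor.comp (AlgSt.overMap (sigmaOverι Z i)) P ≅ p i) := by
  have hfg := h𝒵.1
  have hR : RZ Z ∈ QuotSh.J K₀ S (sigmaOver Z) :=
    hZ (sigmaOver Z) Z (sigmaOverι Z) (fun i => inferInstance) (sigmaOverι_covers Z)
  have hE : (Stk.resSieve (RZ Z) 𝒵).IsEquivalence := h𝒵.2 (RZ Z) hR
  obtain ⟨P, ⟨ε⟩⟩ := hE.essSurj.mem_essImage (Dfun Z p K₀ h𝒵 hZ)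
  refine ⟨P, fun i => ?_⟩
  let A₀ : Over (sigmaOver Z) := (AlgSt.overMap (sigmaOverι Z i)).obj (Over.mk (𝟙 (Z i)))
  have hA₀ : (RZ Z) A₀.hom := ⟨Z i, 𝟙 (Z i), sigmaOverι Z i, ⟨i⟩, rfl⟩
  let a₀ : (Stk.sieveCat (RZ Z)).obj := ⟨A₀, hA₀⟩
  have e1 : 𝒵.p.IsHomLift (𝟙 (Z i)) (ε.hom.toNatTrans.app a₀ :
      P.obj A₀ ⟶ (p (idx Z a₀)).obj (Over.mk (lf Z a₀))) := ε.hom.isHomLift' a₀
  have hrel : lf Z a₀ ≫ sigmaOverι Z (idx Z a₀) = 𝟙 (Z i) ≫ 𝟙 (Z i) ≫ sigmaOverι Z i := by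
    rw [lf_spec, Category.id_comp]
    rfl
  obtain ⟨m, hm⟩ : ∃ m : (p (idx Z a₀)).obj (Over.mk (lf Z a₀)) ⟶
      (p i).obj (Over.mk (𝟙 (Z i))), 𝒵.p.IsHomLift (𝟙 (Z i)) m := by
    by_cases h : idx Z a₀ = i
    · exact ⟨pm Z p h (lf Z a₀) (𝟙 (Z i)) (𝟙 (Z i)) hrel, pm_lift Z p h _ _ _ _⟩
    · have hEi : IsEmpty (Z i).left := isEmpty_of_sigmaOverι_eq Z h (lf Z a₀) (𝟙 (Z i))
        (by rw [hrel, Category.id_comp])
      exact exists_hom_of_isEmpty K₀ h𝒵 hZ hEi _ _ ((p _).w_obj _) ((p i).w_obj _)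
  have hcomp : 𝒵.p.IsHomLift (𝟙 (Z i)) ((ε.hom.toNatTrans.app a₀ :
      P.obj A₀ ⟶ (p (idx Z a₀)).obj (Over.mk (lf Z a₀))) ≫ m) :=
    @IsHomLift.comp_of_lift_id _ _ _ _ 𝒵.p (Z i) _ _ _ _ _ e1 hm
  obtain ⟨α, -⟩ := exists_nat_of_app_id hfg
    (G := BasedFunctor.comp (AlgSt.overMap (sigmaOverι Z i)) P) (H := p i)
    ((ε.hom.toNatTrans.app a₀ :
      P.obj A₀ ⟶ (p (idx Z a₀)).obj (Over.mk (lf Z a₀))) ≫ m) hcomp
  haveI : IsIso α := isIso_of_isFibGrpd hfg α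
  exact ⟨asIso α⟩

end Glue

end Groth.Agent.ETSpec3
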