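import Mathlib
import Groth.Prelude.Def_AlgSt3
import Groth.Agent.Lib.Helper8.ETGlueA
import Groth.Agent.Lib.Helper2.AlgSp.Coprod
import Groth.Agent.Lib.Helper2.AlgSp.Source
import Groth.Agent.Lib.Helper2.AlgSt.LocQ.Charts
import Groth.Agent.Lib.Helper2.AlgSt.LocQ.Dict2
import Groth.Agent.Lib.Helper2.AlgSt.LocalBase
import Groth.Agent.Lib.Helper2.AlgSt.CancelP
import Groth.Agent.Lib.Helper2.AlgSt.PFacts
import Groth.Agent.Lib.Helper2.FibCat.Paste
import Groth.Agent.Lib.Helper2.FibCat.FpSwap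
import Groth.Agent.S12765

/-!
# Gluing smooth charts of a stack on a disjoint union (helper8, for lead's LMB 6.3 project)
-/

set_option backward.isDefEq.respectTransparency false
set_option linter.style.haveILetI false
set_option linter.unusedSectionVars false
set_option linter.unusedVariables false
set_option backward.isDefEq.respectTransparency.types false
set_option autoImplicit false
set_option synthInstance.maxHeartbeats 400000
set_option maxHeartbeats 1000000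

open CategoryTheory CategoryTheory.Limits AlgebraicGeometry Opposite
open Groth.Agent.Helper2 Groth.Agent.Helper2.Coprod Groth.Agent.TorsDescSpec
open Groth.Agent.Helper2.StkLib Groth.Agent.Helper2.FibCatLib Groth.Agent.Helper2.AlgStLib
open Groth.Agent.Helper2.AlgSpBasic Groth.Agent.Helper2.EtaleLocal

namespace Groth.Agent.ETSpec3
universe u
variable {S : Scheme.{u}} {𝒵 : AlgSt.Cat S}

/-- Smoothness half of (G2): a functor from the slice of a disjoint union whose restrictions to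
the summands are smooth is smooth. -/
theorem sm_of_sigma (hfib : FibCat.IsFibGrpd 𝒵.p)
    (hdiag : AlgSt.RepByAlgSp1 (FibCat.diag (FibCat.toSelf 𝒵)))
    {ι : Type u} (Z : ι → Over S) (p : ∀ i, FibCat.overCat (Z i) ⥤ᵇ 𝒵)
    (hp : ∀ i, AlgSt.RepByAlgSpWith (AlgSp.LocP @Smooth) (p i))
    (P : FibCat.overCat (sigmaOver Z) ⥤ᵇ 𝒵)
    (hP : ∀ i, Nonempty (BasedFunctor.comp (AlgSt.overMap (sigmaOverι Z i)) P ≅ p i)) :
    AlgSt.RepByAlgSpWith (AlgSp.LocP @Smooth) P := by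
  intro T z
  obtain ⟨F, e, he⟩ := (Groth.Agent.S12765.result hfib).1 hdiag (sigmaOver Z) P T z
  refine ⟨F, e, he, ?_⟩
  let π₁ : FibCat.fp z P ⥤ᵇ FibCat.overCat T := FibCat.fpFst z P
  let π₂ : FibCat.fp z P ⥤ᵇ FibCat.overCat (sigmaOver Z) := FibCat.fpSnd z P
  let q₁ : F.obj ⟶ (AlgSp.yon S).obj T := AlgSt.spMapOfOver (BasedFunctor.comp e π₁)
  let q₂ : F.obj ⟶ (AlgSp.yon S).obj (sigmaOver Z) := AlgSt.spMapOfOver (BasedFunctor.comp e π₂)
  have hY : AlgSp.IsAlgSpace ((AlgSp.yon S).obj (sigmaOver Z)) := AlgSp.IsAlgSpace.yon_obj _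
  have hT : AlgSp.IsAlgSpace ((AlgSp.yon S).obj T) := AlgSp.IsAlgSpace.yon_obj _
  let Xi : ι → AlgSp.Sp S := fun i => pullback q₂ ((AlgSp.yon S).map (sigmaOverι Z i))
  let g : ∀ i, Xi i ⟶ F.obj := fun i => pullback.fst q₂ ((AlgSp.yon S).map (sigmaOverι Z i))
  let tv : ∀ i, Xi i ⟶ (AlgSp.yon S).obj (Z i) := fun i =>
    pullback.snd q₂ ((AlgSp.yon S).map (sigmaOverι Z i))
  have sq : ∀ i, IsPullback (g i) (tv i) q₂ ((AlgSp.yon S).map (sigmaOverι Z i)) := fun i =>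
    IsPullback.of_hasPullback _ _
  have hXi : ∀ i, AlgSp.IsAlgSpace (Xi i) := fun i =>
    AlgSpBasic.isAlgSpace_of_isPullback hY.diag F.property (AlgSp.IsAlgSpace.yon_obj (Z i)) q₂
      ((AlgSp.yon S).map (sigmaOverι Z i)) _ _ (sq i)
  -- the covering
  have hcov : AlgSp.IsEtCover Xi g := by
    constructor
    · intro i U φ hφ
      have h1 : AlgSp.RepWith @Etale ((AlgSp.yon S).map (sigmaOverι Z i)) :=
        (AlgSp.repWith_yon_map_iff @Etale _).2 (inferInstance : Etale (sigmaOverι Z i).left)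
      have h2 : AlgSp.RepWith @Etale (g i) := repWith_of_isPullback @Etale (sq i).flip h1
      exact repWith_comp @Etale hφ h2
    · intro x
      obtain ⟨y, hy⟩ := (AlgSp.Points.schemeHomeo (sigmaOver Z)).surjective
        (AlgSp.Points.map q₂ x)
      obtain ⟨i, t, ht⟩ := sigmaOverι_covers Z y
      have e1 : AlgSp.Points.map ((AlgSp.yon S).map (sigmaOverι Z i))
          (AlgSp.Points.schemeHomeo (Z i) t) = AlgSp.Points.map q₂ x := by
        rw [AlgSp.Points.map_yon_map_apply, ← hy]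
        congr 1
      obtain ⟨pt, -, hpt⟩ := points_exists_of_isPullback q₂ ((AlgSp.yon S).map (sigmaOverι Z i))
        (tv i) (g i) (sq i).flip (AlgSp.Points.schemeHomeo (Z i) t) x e1
      exact ⟨i, pt, hpt⟩
  -- locality on the source
  refine (isLocalOnSource_et_locP @Smooth Xi g F.property hXi hcov q₁ hT).2 ?_
  intro i
  obtain ⟨θ⟩ := hP i
  obtain ⟨E, hE, -, hEsnd⟩ := LocQ.exists_equiv_fp_overMap_both π₂ e he (sigmaOverι Z i)
    (g i) (tv i) (sq i)
  obtain ⟨Φ, hΦ, hΦfst, -⟩ := LocQ.exists_equiv_fp_congr_right_both z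
    (BasedFunctor.comp (AlgSt.overMap (sigmaOverι Z i)) P) (p i) θ
  let Sw := FpSwap.fpSwap (AlgSt.overMap (sigmaOverι Z i)) π₂
  let PA := Paste.pasteA z P (AlgSt.overMap (sigmaOverι Z i))
  let Etot : AlgSt.ofSp (Xi i) ⥤ᵇ FibCat.fp z (p i) :=
    BasedFunctor.comp (BasedFunctor.comp (BasedFunctor.comp E Sw) PA) Φ
  have hEtot : FibCat.IsEquivOver Etot :=
    ReprInv.isEquivOver_comp (ReprInv.isEquivOver_comp (ReprInv.isEquivOver_comp hE
      (FpSwap.fpSwap_isEquivOver _ _)) (Paste.pasteA_isEquivOver _ _ _)) hΦ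
  have hfst : BasedFunctor.comp Etot (FibCat.fpFst z (p i)) =
      BasedFunctor.comp (AlgSt.ofSpMap (g i)) (BasedFunctor.comp e π₁) := by
    change BasedFunctor.comp E (BasedFunctor.comp Sw (BasedFunctor.comp PA
      (BasedFunctor.comp Φ (FibCat.fpFst z (p i))))) = _
    rw [hΦfst]
    change BasedFunctor.comp (BasedFunctor.comp E
      (FibCat.fpSnd (AlgSt.overMap (sigmaOverι Z i)) π₂)) (FibCat.fpFst z P) = _
    rw [hEsnd]
    rfl
  obtain ⟨F', e', he', hsm'⟩ := hp i T z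
  have h3 := (repOver_iff_of_rep' (AlgSp.LocP @Smooth)
    (respectsIsoSp_of_stableBC (stableBC_locP @Smooth)) (FibCat.fpFst z (p i))
    ⟨Xi i, hXi i⟩ Etot hEtot).1 ⟨F', e', he', hsm'⟩
  rw [hfst, spMapOfOver_ofSpMap_comp] at h3
  exact h3

/-- (G2) **Charts glue on disjoint unions**. -/
theorem exists_sigma_chart (K₀ : Precoverage Scheme.{u})
    (h𝒵 : Stk.IsStack (QuotSh.J K₀ S) 𝒵)
    (hdiag : AlgSt.RepByAlgSp1 (FibCat.diag (FibCat.toSelf 𝒵))) (hZ : ZarLE K₀ S)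
    {ι : Type u} (Z : ι → Over S) (p : ∀ i, FibCat.overCat (Z i) ⥤ᵇ 𝒵)
    (hp : ∀ i, AlgSt.RepByAlgSpWith (AlgSp.LocP @Smooth) (p i)) :
    ∃ P : FibCat.overCat (sigmaOver Z) ⥤ᵇ 𝒵,
      AlgSt.RepByAlgSpWith (AlgSp.LocP @Smooth) P ∧
      ∀ i, Nonempty (BasedFunctor.comp (AlgSt.overMap (sigmaOverι Z i)) P ≅ p i) := by
  obtain ⟨P, hP⟩ := exists_sigma_glue Z p K₀ h𝒵 hZ
  exact ⟨P, sm_of_sigma h𝒵.1 hdiag Z p hp P hP, hP⟩

end Groth.Agent.ETSpec3
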