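import Mathlib
import Groth.Prelude.Def_AlgSt3
import Groth.Agent.Lib.Helper2.AlgSt.FppfLift
import Groth.Agent.Lib.Helper2.AlgSt.LocQ.Tower
import Groth.Agent.Lib.Helper2.AlgSt.Dict
import Groth.Agent.Lib.Helper2.AlgSp.SepDescent
import Groth.Agent.Lib.Helper2.AlgSp.PointsMor
import Groth.Agent.Lib.Helper2.AlgSp.Mor2
import Groth.Agent.Lib.Helper2.AlgSp.SmoothSepDense
import Groth.Agent.Lib.Helper7.SepPt.Dense
import Groth.Agent.Lib.Helper3.SecChart1
import Groth.Agent.Lib.Lead.HFibE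
import Groth.Agent.Lib.Lead.HFibM

/-!
# Etale covers and (faithful) finite Galois points of smooth charts of a stack (helper8)

For lead's LMB Thm 6.3 project: `cov_fppf`, `cov_etale`, `exists_sep_point` (R2),
`exists_faithful_point` (R3).
-/

set_option backward.isDefEq.respectTransparency false
set_option linter.style.haveILetI false
set_option linter.unusedSectionVars false
set_option linter.unusedVariables false
set_option backward.isDefEq.respectTransparency.types false
set_option autoImplicit false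
set_option synthInstance.maxHeartbeats 400000
set_option maxHeartbeats 1000000

open CategoryTheory CategoryTheory.Limits AlgebraicGeometry Opposite
open Groth.Agent.Lead.HFib

namespace Groth.Agent.ETSpec2
universe u
variable {S : Scheme.{u}}

theorem cov_of (K : Precoverage Scheme.{u}) {E Y : Over S} (q : E ⟶ Y)
    (hK : Presieve.singleton q.left ∈ K Y.left) :
    Sieve.generate (Presieve.singleton q) ∈ QuotSh.J K S Y := by
  rw [GrothendieckTopology.mem_over_iff, Sieve.overEquiv_generate]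
  apply (K.toGrothendieck).superset_covering (S := Sieve.generate (Presieve.singleton q.left))
  · rw [Sieve.generate_le_iff]
    rintro _ _ ⟨⟩
    exact Sieve.le_generate _ _ _ ⟨E, q, 𝟙 _, ⟨⟩, by simp⟩
  · exact Precoverage.generate_mem_toGrothendieck hK

/-- (R4a) an etale surjective morphism generates a covering sieve of the fppf topology over `S`. -/
theorem cov_fppf {E Y : Over S} (q : E ⟶ Y) (h1 : Etale q.left) (h2 : Surjective q.left) :
    Sieve.generate (Presieve.singleton q) ∈ QuotSh.J Scheme.fppfPrecoverage S Y := by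
  apply cov_of
  haveI := h1
  haveI := h2
  exact q.left.singleton_mem_fppfPrecoverage

/-- (R4b) the same for the etale topology. -/
theorem cov_etale {E Y : Over S} (q : E ⟶ Y) (h1 : Etale q.left) (h2 : Surjective q.left) :
    Sieve.generate (Presieve.singleton q) ∈ QuotSh.J Scheme.etalePrecoverage S Y := by
  apply cov_of
  show Presieve.singleton q.left ∈ Scheme.precoverage _ _
  rw [Scheme.singleton_mem_precoverage_iff]
  exact ⟨h2.surj, h1⟩

open Groth.Agent.Helper2 Groth.Agent.Helper2.FibCatLib Groth.Agent.Helper2.AlgStLib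

/-- An automorphism fixing a primitive element is trivial. -/
theorem eq_one_of_fix {k K : Type u} [Field k] [Field K] [Algebra k K] (c : K)
    (hc : IntermediateField.adjoin k {c} = ⊤) (h : K ≃ₐ[k] K) (hfix : h c = c) : h = 1 := by
  have key : ((h : K →ₐ[k] K).comp (IntermediateField.adjoin k {c}).val) =
      (IntermediateField.adjoin k {c}).val := by
    apply IntermediateField.adjoin_algHom_ext
    intro x hx
    rw [Set.mem_singleton_iff] at hx
    subst hx
    exact hfix
  ext x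
  have hx : x ∈ IntermediateField.adjoin k {c} := by rw [hc]; exact IntermediateField.mem_top
  exact DFunLike.congr_fun key ⟨x, hx⟩

/-- (R3) **Making the point faithful**. -/
theorem exists_faithful_point {𝒵 : AlgSt.Cat S} (hfib : FibCat.IsFibGrpd 𝒵.p) {V : Over S}
    (a : FibCat.overCat V ⥤ᵇ 𝒵) (ha : AlgSt.RepByAlgSpWith (AlgSp.LocP @Smooth) a)
    {k : Type u} [Field k] (sk : Spec (CommRingCat.of k) ⟶ S)
    (x : FibCat.overCat (Over.mk sk) ⥤ᵇ 𝒵)
    (K : Type u) [Field K] [Algebra k K] [FiniteDimensional k K] [IsGalois k K]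
    (v' : spK sk K ⟶ V)
    (θ₀ : BasedFunctor.comp (AlgSt.overMap v') a ≅ BasedFunctor.comp (AlgSt.overMap (piK sk K)) x) :
    ∃ (V₁ : Over S) (a₁ : FibCat.overCat V₁ ⥤ᵇ 𝒵) (v₁ : spK sk K ⟶ V₁),
      AlgSt.RepByAlgSpWith (AlgSp.LocP @Smooth) a₁ ∧
      Nonempty (BasedFunctor.comp (AlgSt.overMap v₁) a₁ ≅
        BasedFunctor.comp (AlgSt.overMap (piK sk K)) x) ∧
      ∀ h : K ≃ₐ[k] K, phi sk h ≫ v₁ = v₁ → h = 1 := by
  classical
  obtain ⟨c, hc⟩ := Field.exists_primitive_element k K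
  let cK : Γ((spK sk K).left, ⊤) := (Scheme.ΓSpecIso (CommRingCat.of K)).inv.hom c
  let V₁ : Over S := Over.mk (𝔸(PUnit.{u + 1}; V.left) ↘ V.left ≫ V.hom)
  let π : V₁ ⟶ V := Over.homMk (𝔸(PUnit.{u + 1}; V.left) ↘ V.left) rfl
  let v₁ : spK sk K ⟶ V₁ := Over.homMk (AffineSpace.homOfVector v'.left (fun _ => cK)) (by
    show AffineSpace.homOfVector v'.left (fun _ => cK) ≫ (𝔸(PUnit.{u + 1}; V.left) ↘ V.left ≫ V.hom) =
      (spK sk K).hom
    rw [AffineSpace.homOfVector_over_assoc]
    exact Over.w v')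
  have hv : v₁ ≫ π = v' := by
    apply Over.OverMorphism.ext
    show AffineSpace.homOfVector v'.left (fun _ => cK) ≫ (𝔸(PUnit.{u + 1}; V.left) ↘ V.left) = v'.left
    exact AffineSpace.homOfVector_over _ _
  haveI : Smooth π.left := Groth.Agent.Helper3.SecChart.smooth_affineSpace PUnit.{u + 1} V.left
  have hπ : AlgSt.RepByAlgSpWith (AlgSp.LocP @Smooth) (AlgSt.overMap π) := LocQ.sm_overMap π
  refine ⟨V₁, BasedFunctor.comp (AlgSt.overMap π) a, v₁, ?_, ?_, ?_⟩
  · exact LocQ.sm_comp (isFibGrpd_overCat _) (isFibGrpd_overCat _) _ a hπ ha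
  · have e := (Groth.Agent.Helper2.postF _ a).mapIso
      (Groth.Agent.Helper2.AlgStLib.overMapCompIso v₁ π)
    rw [hv] at e
    exact ⟨e ≪≫ θ₀⟩
  · intro h hh
    apply eq_one_of_fix c hc
    have h1 : (phi sk h).left ≫ v₁.left = v₁.left := by rw [← Over.comp_left, hh]
    have h3 : v₁.left = AffineSpace.homOfVector v'.left (fun _ => cK) := rfl
    rw [h3, AffineSpace.comp_homOfVector] at h1
    have h4 := congrArg (fun m : (spK sk K).left ⟶ 𝔸(PUnit.{u + 1}; V.left) => m.appTop (AffineSpace.coord V.left PUnit.unit)) h1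
    simp only [AffineSpace.homOfVector_appTop_coord, Function.comp_apply] at h4
    have nat := Scheme.ΓSpecIso_inv_naturality
      (CommRingCat.ofHom ((h : K →ₐ[k] K)).toRingHom)
    have h5 := congrArg (fun m => m.hom c) nat
    have h6 : (Scheme.ΓSpecIso (CommRingCat.of K)).inv.hom (h c) =
        (Scheme.ΓSpecIso (CommRingCat.of K)).inv.hom c := h5.trans h4
    exact (ConcreteCategory.bijective_of_isIso (Scheme.ΓSpecIso (CommRingCat.of K)).inv).1 h6

open Groth.Agent.Helper2.StkLib Groth.Agent.Helper2.AlgSpBasic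

attribute [local instance] Curv2.resAlgebra

theorem respectsIsoSp_isSurjectiveMor : RespectsIsoSp (S := S) AlgSp.IsSurjectiveMor := by
  intro X₁ X₂ Y _ _ _ c _ f hf
  apply isSurjectiveMor_comp c f _ hf
  intro y
  refine ⟨AlgSp.Points.map (inv c) y, ?_⟩
  rw [← AlgSp.Points.map_comp, IsIso.inv_hom_id, AlgSp.Points.map_id]

/-- (R2) **A finite Galois point of a smooth surjective atlas over a field valued point.** -/
theorem exists_sep_point {𝒵 : AlgSt.Cat S} (hfib : FibCat.IsFibGrpd 𝒵.p) {V : Over S}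
    (a : FibCat.overCat V ⥤ᵇ 𝒵)
    (ha : AlgSt.RepByAlgSpWith (AlgSp.LocP @Smooth) a)
    (has : AlgSt.RepByAlgSpWith AlgSp.IsSurjectiveMor a)
    {k : Type u} [Field k] (sk : Spec (CommRingCat.of k) ⟶ S)
    (x : FibCat.overCat (Over.mk sk) ⥤ᵇ 𝒵) :
    ∃ (K : Type u) (_ : Field K) (_ : Algebra k K) (_ : FiniteDimensional k K) (_ : IsGalois k K)
      (v' : spK sk K ⟶ V),
      Nonempty (BasedFunctor.comp (AlgSt.overMap v') a ≅
        BasedFunctor.comp (AlgSt.overMap (piK sk K)) x) := by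
  let W : Over S := Over.mk sk
  obtain ⟨F, e, he, hsm⟩ := ha W x
  obtain ⟨F', e', he', hsj'⟩ := has W x
  let Φ₁ : AlgSt.ofSp F.obj ⥤ᵇ FibCat.overCat W := BasedFunctor.comp e (FibCat.fpFst x a)
  let π₁ : F.obj ⟶ (AlgSp.yon S).obj W := AlgSt.spMapOfOver Φ₁
  have hsj : AlgSp.IsSurjectiveMor π₁ :=
    (repOver_iff_of_rep' AlgSp.IsSurjectiveMor respectsIsoSp_isSurjectiveMor (FibCat.fpFst x a)
      F e he).1 ⟨F', e', he', hsj'⟩
  obtain ⟨U, c, hce, hcs⟩ := F.property.atlas
  obtain ⟨g, hg⟩ := (AlgSp.yon S).map_surjective (c ≫ π₁)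
  have hgsm : Smooth g.left :=
    hsm c (𝟙 _) g hce (AlgSp.repWith_id @Etale _) (by rw [hg, Category.comp_id])
  have hgsj : Function.Surjective g.left := by
    rw [← surjectiveMor_yon_map_iff, hg]
    exact isSurjectiveMor_comp c π₁ (isSurjectiveMor_of_repWith_surjective c hcs) hsj
  -- a closed point with finite separable residue field
  letI : U.left.Over (Spec (CommRingCat.of k)) := ⟨g.left⟩
  haveI : Smooth (U.left ↘ Spec (CommRingCat.of k)) := hgsm
  haveI : Nonempty (Spec (CommRingCat.of k)) := inferInstanceAs (Nonempty (PrimeSpectrum k))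
  obtain ⟨t₀, -⟩ := hgsj (Classical.arbitrary (Spec (CommRingCat.of k)))
  have hD := Groth.Agent.Helper7.SepPt.dense_closedPoints_separable k U.left
  haveI : Nonempty U.left := ⟨t₀⟩
  obtain ⟨t, -, hfin, hsep⟩ := hD.nonempty
  let L := U.left.residueField t
  haveI : Module.Finite k L := hfin
  haveI : Algebra.IsSeparable k L := hsep
  have hL : U.left.fromSpecResidueField t ≫ g.left =
      Spec.map (CommRingCat.ofHom (algebraMap k L)) :=
    Groth.Agent.Helper2.SmoothSepDense.fromSpecResidueField_over k U.left t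
  let Ω := SeparableClosure k
  let σ : L →ₐ[k] Ω := IsSepClosed.lift
  let K : IntermediateField k Ω := IntermediateField.normalClosure k L Ω
  haveI : FiniteDimensional k K := normalClosure.is_finiteDimensional k L Ω
  haveI : IsGalois k K := IsGalois.normalClosure k L Ω
  let ι : L →ₐ[k] K := σ.codRestrict K.toSubalgebra
    (fun y => σ.fieldRange_le_normalClosure ⟨y, rfl⟩)
  have hιk : Spec.map (CommRingCat.ofHom ι.toRingHom) ≫
      Spec.map (CommRingCat.ofHom (algebraMap k L)) =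
        Spec.map (CommRingCat.ofHom (algebraMap k K)) := by
    rw [← Spec.map_comp]
    congr 1
    apply CommRingCat.hom_ext
    apply RingHom.ext
    intro y
    exact ι.commutes y
  have hover : (Spec.map (CommRingCat.ofHom ι.toRingHom) ≫ U.left.fromSpecResidueField t) ≫
      U.hom = Spec.map (CommRingCat.ofHom (algebraMap k K)) ≫ sk := by
    have h1 : g.left ≫ sk = U.hom := Over.w g
    rw [← h1, Category.assoc, ← Category.assoc (U.left.fromSpecResidueField t), hL,
      ← Category.assoc, hιk]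
  let ut : spK sk K ⟶ U :=
    Over.homMk (Spec.map (CommRingCat.ofHom ι.toRingHom) ≫ U.left.fromSpecResidueField t) hover
  have hut : ut ≫ g = piK sk K := by
    ext
    show (Spec.map (CommRingCat.ofHom ι.toRingHom) ≫ U.left.fromSpecResidueField t) ≫ g.left =
      Spec.map (CommRingCat.ofHom (algebraMap k K))
    rw [Category.assoc, hL, hιk]
  -- the functors
  let Ψ : FibCat.overCat (spK sk K) ⥤ᵇ FibCat.fp x a :=
    BasedFunctor.comp (AlgSt.overMap ut) (BasedFunctor.comp (AlgSt.ofOverCat U)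
      (BasedFunctor.comp (AlgSt.ofSpMap c) e))
  let v' : spK sk K ⟶ V := OverFun.classify (BasedFunctor.comp Ψ (FibCat.fpSnd x a))
  obtain ⟨θ⟩ := LocQ.nonempty_iso_overMap_classify (BasedFunctor.comp Ψ (FibCat.fpSnd x a))
  refine ⟨K, inferInstance, inferInstance, inferInstance, inferInstance, v', ?_⟩
  obtain ⟨c3⟩ := nonempty_iso_ofSpMap_toOverCat Φ₁
  obtain ⟨c4⟩ := ofPshMap_comp_iso c.hom π₁.hom
  obtain ⟨c6'⟩ := nonempty_iso_ofSpMap_toOverCat
    (BasedFunctor.comp (AlgSt.toOverCat U) (AlgSt.overMap g))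
  have hg' : c.hom ≫ π₁.hom = ((AlgSp.yon S).map g).hom := congrArg (fun m => m.hom) hg.symm
  have c4' : BasedFunctor.comp (AlgSt.ofSpMap c) (AlgSt.ofSpMap π₁) ≅
      AlgSt.ofSpMap ((AlgSp.yon S).map g) := c4 ≪≫ eqToIso (by rw [hg'])
  have c6 : BasedFunctor.comp (AlgSt.ofSpMap ((AlgSp.yon S).map g)) (AlgSt.toOverCat W) ≅
      BasedFunctor.comp (AlgSt.toOverCat U) (AlgSt.overMap g) := by
    rw [spMapOfOver_toOverCat_overMap] at c6'
    exact c6'
  have j1 : BasedFunctor.comp (AlgSt.ofOverCat U) (BasedFunctor.comp (AlgSt.ofSpMap c) Φ₁) ≅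
      BasedFunctor.comp (AlgSt.ofOverCat U) (BasedFunctor.comp (AlgSt.ofSpMap c)
        (BasedFunctor.comp (AlgSt.ofSpMap π₁) (AlgSt.toOverCat W))) :=
    whiskerLeftIso (AlgSt.ofOverCat U) (whiskerLeftIso (AlgSt.ofSpMap c) c3.symm)
  have j2 : BasedFunctor.comp (AlgSt.ofOverCat U) (BasedFunctor.comp
        (BasedFunctor.comp (AlgSt.ofSpMap c) (AlgSt.ofSpMap π₁)) (AlgSt.toOverCat W)) ≅
      BasedFunctor.comp (AlgSt.ofOverCat U) (BasedFunctor.comp
        (AlgSt.ofSpMap ((AlgSp.yon S).map g)) (AlgSt.toOverCat W)) :=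
    whiskerLeftIso (AlgSt.ofOverCat U) ((postF _ (AlgSt.toOverCat W)).mapIso c4')
  have j3 : BasedFunctor.comp (AlgSt.ofOverCat U) (BasedFunctor.comp
        (AlgSt.ofSpMap ((AlgSp.yon S).map g)) (AlgSt.toOverCat W)) ≅
      BasedFunctor.comp (AlgSt.ofOverCat U)
        (BasedFunctor.comp (AlgSt.toOverCat U) (AlgSt.overMap g)) :=
    whiskerLeftIso (AlgSt.ofOverCat U) c6
  have j4 : BasedFunctor.comp (BasedFunctor.comp (AlgSt.ofOverCat U) (AlgSt.toOverCat U))
        (AlgSt.overMap g) ≅ BasedFunctor.comp (BasedFunctor.id _) (AlgSt.overMap g) :=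
    (postF _ (AlgSt.overMap g)).mapIso (ofToIso U)
  have jU : BasedFunctor.comp (AlgSt.ofOverCat U) (BasedFunctor.comp (AlgSt.ofSpMap c) Φ₁) ≅
      AlgSt.overMap g := j1 ≪≫ j2 ≪≫ j3 ≪≫ j4
  have j5 : BasedFunctor.comp (AlgSt.overMap ut) (BasedFunctor.comp (AlgSt.ofOverCat U)
        (BasedFunctor.comp (AlgSt.ofSpMap c) Φ₁)) ≅
      BasedFunctor.comp (AlgSt.overMap ut) (AlgSt.overMap g) :=
    whiskerLeftIso (AlgSt.overMap ut) jU
  have j6 : BasedFunctor.comp (AlgSt.overMap ut) (AlgSt.overMap g) ≅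
      AlgSt.overMap (piK sk K) := by
    have := Groth.Agent.Helper2.AlgStLib.overMapCompIso ut g
    rw [hut] at this
    exact this
  have j : BasedFunctor.comp Ψ (FibCat.fpFst x a) ≅ AlgSt.overMap (piK sk K) := j5 ≪≫ j6
  have i1 : BasedFunctor.comp (AlgSt.overMap v') a ≅
      BasedFunctor.comp (BasedFunctor.comp Ψ (FibCat.fpSnd x a)) a := (postF _ a).mapIso θ.symm
  have i2 : BasedFunctor.comp Ψ (BasedFunctor.comp (FibCat.fpSnd x a) a) ≅
      BasedFunctor.comp Ψ (BasedFunctor.comp (FibCat.fpFst x a) x) :=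
    whiskerLeftIso Ψ (FibCat.fpIso x a).symm
  have i3 : BasedFunctor.comp (BasedFunctor.comp Ψ (FibCat.fpFst x a)) x ≅
      BasedFunctor.comp (AlgSt.overMap (piK sk K)) x := (postF _ x).mapIso j
  exact ⟨i1 ≪≫ i2 ≪≫ i3⟩

end Groth.Agent.ETSpec2
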