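import Mathlib

/-!
# Surjections of local rings with small kernel
-/

set_option autoImplicit false

namespace Groth.Agent.Helper8.LocalSurj

open IsLocalRing

variable {B B' : Type*} [CommRing B] [CommRing B']

/-- If `π : B → B'` is surjective with kernel in the Jacobson radical, then an element of `B`
is a unit as soon as its image is. -/
theorem isUnit_of_map (π : B →+* B') (hπ : Function.Surjective π)
    (hker : RingHom.ker π ≤ Ideal.jacobson ⊥) (b : B) (hb : IsUnit (π b)) : IsUnit b := by
  obtain ⟨c', hc'⟩ := hb.exists_right_inv
  obtain ⟨c, rfl⟩ := hπ c'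
  have h1 : b * c - 1 ∈ RingHom.ker π := by
    rw [RingHom.mem_ker, map_sub, map_mul, hc', map_one, sub_self]
  have h2 : IsUnit (b * c) := by
    have h3 := Ideal.mem_jacobson_bot.1 (hker h1) 1
    rw [mul_one, sub_add_cancel] at h3
    exact h3
  exact isUnit_of_mul_isUnit_left h2

/-- If `π : B → B'` is surjective with kernel in the Jacobson radical and `B'` is local, then `B`
is local. -/
theorem isLocalRing_of_surjective [IsLocalRing B'] (π : B →+* B') (hπ : Function.Surjective π)
    (hker : RingHom.ker π ≤ Ideal.jacobson ⊥) : IsLocalRing B := by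
  haveI : Nontrivial B := π.domain_nontrivial
  refine IsLocalRing.of_nonunits_add (fun a b ha hb => ?_)
  have ha' : π a ∈ nonunits B' := fun h => ha (isUnit_of_map π hπ hker a h)
  have hb' : π b ∈ nonunits B' := fun h => hb (isUnit_of_map π hπ hker b h)
  intro hab
  have := hab.map π
  rw [map_add] at this
  exact (IsLocalRing.nonunits_add ha' hb') this

/-- A surjection of local rings whose kernel lies in the square of the maximal ideal preserves the
minimal number of generators of the maximal ideal. -/
theorem spanFinrank_maximalIdeal_eq [IsLocalRing B] [IsLocalRing B'] [IsNoetherianRing B]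
    (π : B →+* B') (hπ : Function.Surjective π)
    (hker : RingHom.ker π ≤ maximalIdeal B ^ 2) :
    (maximalIdeal B').spanFinrank = (maximalIdeal B).spanFinrank := by
  classical
  haveI : IsLocalHom π := hπ.isLocalHom
  haveI : IsNoetherianRing B' := isNoetherianRing_of_surjective B B' π hπ
  have hmap : (maximalIdeal B).map π = maximalIdeal B' := by
    apply le_antisymm
    · rw [Ideal.map_le_iff_le_comap]
      intro x hx
      rw [Ideal.mem_comap, mem_maximalIdeal, mem_nonunits_iff]
      intro hu
      exact hx (isUnit_of_map_unit π x hu)
    · intro y hy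
      obtain ⟨x, rfl⟩ := hπ y
      refine Ideal.mem_map_of_mem π ?_
      rw [mem_maximalIdeal, mem_nonunits_iff]
      intro hu
      exact hy (hu.map π)
  apply le_antisymm
  · rw [← hmap]
    exact Ideal.spanFinrank_map_le_of_fg π (maximalIdeal B).fg_of_isNoetherianRing
  · obtain ⟨s, hs, hspan⟩ := Submodule.FG.exists_span_finset_card_eq_spanFinrank
      (maximalIdeal B').fg_of_isNoetherianRing
    let g : B' → B := Function.surjInv hπ
    have hg : ∀ y, π (g y) = y := Function.surjInv_eq hπ
    let J : Ideal B := Ideal.span (g '' (s : Set B'))
    have hJmap : J.map π = maximalIdeal B' := by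
      rw [Ideal.map_span, ← Set.image_comp]
      have : (π ∘ g) '' (s : Set B') = (s : Set B') := by
        ext y
        constructor
        · rintro ⟨z, hz, rfl⟩
          rw [Function.comp_apply, hg]; exact hz
        · intro hy
          exact ⟨y, hy, hg y⟩
      rw [this]
      exact hspan
    have hle : maximalIdeal B ≤ J ⊔ maximalIdeal B • maximalIdeal B := by
      intro x hx
      have hx' : π x ∈ J.map π := by
        rw [hJmap, ← hmap]
        exact Ideal.mem_map_of_mem π hx
      obtain ⟨j, hj, hjx⟩ := (Ideal.mem_map_iff_of_surjective π hπ).1 hx'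
      have hk : x - j ∈ RingHom.ker π := by
        rw [RingHom.mem_ker, map_sub, hjx, sub_self]
      have hk2 : x - j ∈ maximalIdeal B • maximalIdeal B := by
        rw [smul_eq_mul, ← pow_two]
        exact hker hk
      have : x = j + (x - j) := by ring
      rw [this]
      exact Submodule.add_mem_sup hj hk2
    have hJ : maximalIdeal B ≤ J :=
      Submodule.le_of_le_smul_of_le_jacobson_bot (maximalIdeal B).fg_of_isNoetherianRing
        (by rw [IsLocalRing.jacobson_eq_maximalIdeal _ bot_ne_top]) hle
    have hJle : J ≤ maximalIdeal B := by
      rw [Ideal.span_le]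
      rintro _ ⟨y, hy, rfl⟩
      show g y ∈ maximalIdeal B
      rw [mem_maximalIdeal, mem_nonunits_iff]
      intro hu
      have h1 : y ∈ maximalIdeal B' := by
        rw [← hspan]
        exact Ideal.subset_span hy
      apply h1
      have := hu.map π
      rwa [hg] at this
    have hJeq : J = maximalIdeal B := le_antisymm hJle hJ
    rw [← hJeq, ← hs]
    refine (Submodule.spanFinrank_span_le_ncard_of_finite (s.finite_toSet.image g)).trans ?_
    refine (Set.ncard_image_le s.finite_toSet).trans ?_
    rw [Set.ncard_coe_finset]

end Groth.Agent.Helper8.LocalSurj
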