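import Mathlib
import Groth.Agent.Lib.Helper8.IntegralDim

/-!
# Quotients of polynomial rings by one-variable polynomials `G_i(T_i)`
-/

set_option autoImplicit false

namespace Groth.Agent.Helper8.MonicAlg

open MvPolynomial

universe u

section general

variable {A : Type u} [CommRing A] {r : ℕ} (G : Fin r → Polynomial A)

/-- The polynomial `G_i(T_i)`. -/
noncomputable def gPoly (i : Fin r) : MvPolynomial (Fin r) A :=
  Polynomial.eval₂ (C : A →+* MvPolynomial (Fin r) A) (X i) (G i)

/-- `A[T_1, …, T_r]/(G_1(T_1), …, G_r(T_r))`. -/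
abbrev MAlg : Type u :=
  MvPolynomial (Fin r) A ⧸ Ideal.span (Set.range (gPoly G))

/-- The quotient map. -/
noncomputable def mkM : MvPolynomial (Fin r) A →+* MAlg G :=
  Ideal.Quotient.mk (Ideal.span (Set.range (gPoly G)))

theorem mkM_surjective : Function.Surjective (mkM G) := Ideal.Quotient.mk_surjective

/-- The class of `T_i`. -/
noncomputable def tee (i : Fin r) : MAlg G := mkM G (X i)

theorem algebraMap_eq_mkM_C (a : A) : algebraMap A (MAlg G) a = mkM G (C a) := rfl

theorem tee_relation (i : Fin r) :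
    Polynomial.eval₂ (algebraMap A (MAlg G)) (tee G i) (G i) = 0 := by
  have h : gPoly G i ∈ Ideal.span (Set.range (gPoly G)) := Ideal.subset_span ⟨i, rfl⟩
  have h2 : mkM G (gPoly G i) = 0 := Ideal.Quotient.eq_zero_iff_mem.2 h
  rw [gPoly, Polynomial.hom_eval₂] at h2
  exact h2

/-- Induction principle. -/
theorem mAlg_induction {P : MAlg G → Prop}
    (h0 : ∀ a, P (algebraMap A _ a)) (hadd : ∀ x y, P x → P y → P (x + y))
    (hmul : ∀ x i, P x → P (x * tee G i)) (b : MAlg G) : P b := by
  obtain ⟨g, rfl⟩ := mkM_surjective G b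
  induction g using MvPolynomial.induction_on with
  | C a => exact h0 a
  | add x y hx hy => rw [map_add]; exact hadd _ _ hx hy
  | mul_X x i hx => rw [map_mul]; exact hmul _ i hx

/-- Ring homomorphisms out of `MAlg` are determined by their values on `A` and the `T_i`. -/
theorem mAlg_hom_ext {S : Type*} [CommRing S] {φ ψ : MAlg G →+* S}
    (h1 : ∀ a, φ (algebraMap A _ a) = ψ (algebraMap A _ a))
    (h2 : ∀ i, φ (tee G i) = ψ (tee G i)) : φ = ψ := by
  refine RingHom.ext fun b => ?_
  refine mAlg_induction G (P := fun b => φ b = ψ b) h1 (fun x y hx hy => ?_)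
    (fun x i hx => ?_) b
  · rw [map_add, map_add, hx, hy]
  · rw [map_mul, map_mul, hx, h2]

/-- The universal property. -/
noncomputable def liftM {S : Type*} [CommRing S] (φ : A →+* S) (s : Fin r → S)
    (hs : ∀ i, Polynomial.eval₂ φ (s i) (G i) = 0) : MAlg G →+* S :=
  Ideal.Quotient.lift (Ideal.span (Set.range (gPoly G))) (eval₂Hom φ s) (by
    have hle : Ideal.span (Set.range (gPoly G)) ≤ RingHom.ker (eval₂Hom φ s) := by
      rw [Ideal.span_le]
      rintro _ ⟨i, rfl⟩
      show eval₂Hom φ s (gPoly G i) = 0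
      rw [gPoly, Polynomial.hom_eval₂, eval₂Hom_X', ← hs i]
      congr 1
      exact RingHom.ext fun a => eval₂Hom_C φ s a
    exact fun x hx => hle hx)

@[simp]
theorem liftM_algebraMap {S : Type*} [CommRing S] (φ : A →+* S) (s : Fin r → S)
    (hs : ∀ i, Polynomial.eval₂ φ (s i) (G i) = 0) (a : A) :
    liftM G φ s hs (algebraMap A (MAlg G) a) = φ a := by
  show eval₂Hom φ s (C a) = φ a
  rw [eval₂Hom_C]

@[simp]
theorem liftM_tee {S : Type*} [CommRing S] (φ : A →+* S) (s : Fin r → S)
    (hs : ∀ i, Polynomial.eval₂ φ (s i) (G i) = 0) (i : Fin r) :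
    liftM G φ s hs (tee G i) = s i := by
  show eval₂Hom φ s (X i) = s i
  rw [eval₂Hom_X']

theorem isIntegral_tee (hG : ∀ i, (G i).Monic) (i : Fin r) : IsIntegral A (tee G i) :=
  ⟨G i, hG i, tee_relation G i⟩

theorem isIntegral_mAlg (hG : ∀ i, (G i).Monic) : Algebra.IsIntegral A (MAlg G) := by
  refine ⟨fun b => ?_⟩
  refine mAlg_induction G (P := fun b => IsIntegral A b) (fun a => isIntegral_algebraMap)
    (fun x y hx hy => hx.add hy) (fun x i hx => hx.mul (isIntegral_tee G hG i)) b

instance : Algebra.FiniteType A (MAlg G) :=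
  Algebra.FiniteType.of_surjective
    (Ideal.Quotient.mkₐ A (Ideal.span (Set.range (gPoly G))))
    (Ideal.Quotient.mkₐ_surjective A _)

end general

section domain

variable {A : Type u} [CommRing A] [IsDomain A] {r : ℕ} (G : Fin r → Polynomial A)

/-- A point of `MAlg` in the algebraic closure of the fraction field. -/
theorem exists_point (hG : ∀ i, (G i).Monic) (hd : ∀ i, (G i).natDegree ≠ 0) :
    ∃ ev : MAlg G →+* AlgebraicClosure (FractionRing A),
      ∀ a, ev (algebraMap A _ a) = algebraMap A (AlgebraicClosure (FractionRing A)) a := by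
  let φ : A →+* AlgebraicClosure (FractionRing A) :=
    algebraMap A (AlgebraicClosure (FractionRing A))
  have h : ∀ i, ∃ z : AlgebraicClosure (FractionRing A),
      Polynomial.eval₂ φ z (G i) = 0 := by
    intro i
    have hdeg : ((G i).map φ).degree ≠ 0 := by
      rw [(hG i).degree_map, Polynomial.degree_eq_natDegree (hG i).ne_zero]
      exact_mod_cast hd i
    obtain ⟨z, hz⟩ := IsAlgClosed.exists_root _ hdeg
    exact ⟨z, by rwa [Polynomial.IsRoot, Polynomial.eval_map] at hz⟩
  choose s hs using h
  exact ⟨liftM G φ s hs, fun a => liftM_algebraMap G φ s hs a⟩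

theorem algebraMap_injective (hG : ∀ i, (G i).Monic) (hd : ∀ i, (G i).natDegree ≠ 0) :
    Function.Injective (algebraMap A (MAlg G)) := by
  obtain ⟨ev, hev⟩ := exists_point G hG hd
  intro a b hab
  have h1 : algebraMap A (AlgebraicClosure (FractionRing A)) a =
      algebraMap A (AlgebraicClosure (FractionRing A)) b := by
    rw [← hev, ← hev, hab]
  rw [IsScalarTower.algebraMap_apply A (FractionRing A) (AlgebraicClosure (FractionRing A)),
    IsScalarTower.algebraMap_apply A (FractionRing A) (AlgebraicClosure (FractionRing A))] at h1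
  exact IsFractionRing.injective A (FractionRing A)
    ((algebraMap (FractionRing A) (AlgebraicClosure (FractionRing A))).injective h1)

theorem ringKrullDim_mAlg (hG : ∀ i, (G i).Monic) (hd : ∀ i, (G i).natDegree ≠ 0) :
    ringKrullDim (MAlg G) = ringKrullDim A := by
  haveI := isIntegral_mAlg G hG
  rw [Groth.Agent.Helper8.Depth.ringKrullDim_eq_quotient_ker_of_isIntegral A (MAlg G),
    (RingHom.injective_iff_ker_eq_bot _).1 (algebraMap_injective G hG hd)]
  exact ringKrullDim_eq_of_ringEquiv (RingEquiv.quotientBot A)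

end domain

end Groth.Agent.Helper8.MonicAlg
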