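import Mathlib
import Groth.Agent.Lib.Helper8.MonicAlg1
import Groth.Agent.Lib.Helper8.LocalSurj

/-!
# Quotients by Eisenstein-type polynomials over a local ring: locality and residue field
-/

set_option autoImplicit false

namespace Groth.Agent.Helper8.MonicAlg

open MvPolynomial IsLocalRing

universe u

section loc

variable {A : Type u} [CommRing A] [IsLocalRing A] {r : ℕ} (G : Fin r → Polynomial A)

/-- The ideal of `B` generated by the `T_i`. -/
noncomputable def teeIdeal : Ideal (MAlg G) := Ideal.span (Set.range (tee G))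

omit [IsLocalRing A] in
theorem tee_mem_teeIdeal (i : Fin r) : tee G i ∈ teeIdeal G := Ideal.subset_span ⟨i, rfl⟩

omit [IsLocalRing A] in
/-- Every element of `B` is congruent to a constant modulo the `T_i`. -/
theorem exists_sub_mem_teeIdeal (b : MAlg G) :
    ∃ a : A, b - algebraMap A (MAlg G) a ∈ teeIdeal G := by
  refine mAlg_induction G (P := fun b => ∃ a : A, b - algebraMap A (MAlg G) a ∈ teeIdeal G)
    (fun a => ⟨a, by rw [sub_self]; exact Ideal.zero_mem _⟩) (fun x y hx hy => ?_)
    (fun x i _ => ⟨0, ?_⟩) b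
  · obtain ⟨a, ha⟩ := hx
    obtain ⟨a', ha'⟩ := hy
    refine ⟨a + a', ?_⟩
    rw [map_add]
    have : x + y - (algebraMap A (MAlg G) a + algebraMap A (MAlg G) a') =
        (x - algebraMap A (MAlg G) a) + (y - algebraMap A (MAlg G) a') := by ring
    rw [this]
    exact Ideal.add_mem _ ha ha'
  · rw [map_zero, sub_zero]
    exact Ideal.mul_mem_left _ _ (tee_mem_teeIdeal G i)

variable (hG : ∀ i, (G i).Monic) (hd : ∀ i, (G i).natDegree ≠ 0)
  (hE : ∀ i, (G i).IsWeaklyEisensteinAt (maximalIdeal A))

include hd hE in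
theorem residue_coeff_zero (i : Fin r) : residue A ((G i).coeff 0) = 0 := by
  rw [residue_eq_zero_iff]
  exact (hE i).mem (Nat.pos_of_ne_zero (hd i))

/-- The augmentation `B → κ`, `T_i ↦ 0`. -/
noncomputable def aug : MAlg G →+* ResidueField A :=
  liftM G (residue A) (fun _ => 0) (fun i => by
    rw [Polynomial.eval₂_at_zero, residue_coeff_zero G hd hE])

theorem aug_algebraMap (a : A) : aug G hd hE (algebraMap A (MAlg G) a) = residue A a := by
  rw [aug, liftM_algebraMap]

theorem aug_tee (i : Fin r) : aug G hd hE (tee G i) = 0 := by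
  rw [aug, liftM_tee]

theorem aug_surjective : Function.Surjective (aug G hd hE) := by
  intro y
  obtain ⟨a, rfl⟩ := residue_surjective y
  exact ⟨algebraMap A _ a, aug_algebraMap G hd hE a⟩

theorem ker_aug :
    RingHom.ker (aug G hd hE) = (maximalIdeal A).map (algebraMap A (MAlg G)) ⊔ teeIdeal G := by
  apply le_antisymm
  · intro b hb
    obtain ⟨a, ha⟩ := exists_sub_mem_teeIdeal G b
    have h1 : aug G hd hE (b - algebraMap A (MAlg G) a) = 0 := by
      have hle : teeIdeal G ≤ RingHom.ker (aug G hd hE) := by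
        rw [teeIdeal, Ideal.span_le]
        rintro _ ⟨i, rfl⟩
        exact aug_tee G hd hE i
      exact hle ha
    rw [map_sub, RingHom.mem_ker.1 hb, zero_sub, neg_eq_zero, aug_algebraMap,
      residue_eq_zero_iff] at h1
    have h2 : b = algebraMap A (MAlg G) a + (b - algebraMap A (MAlg G) a) := by ring
    rw [h2]
    exact Ideal.add_mem _ (Ideal.mem_sup_left (Ideal.mem_map_of_mem _ h1))
      (Ideal.mem_sup_right ha)
  · refine sup_le ?_ ?_
    · rw [Ideal.map_le_iff_le_comap]
      intro a ha
      rw [Ideal.mem_comap, RingHom.mem_ker, aug_algebraMap, residue_eq_zero_iff]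
      exact ha
    · rw [teeIdeal, Ideal.span_le]
      rintro _ ⟨i, rfl⟩
      exact aug_tee G hd hE i

include hG in
/-- Every maximal ideal of `B` lies over the maximal ideal of `A`. -/
theorem comap_eq_maximalIdeal (n : Ideal (MAlg G)) [n.IsMaximal] :
    n.comap (algebraMap A (MAlg G)) = maximalIdeal A := by
  haveI := isIntegral_mAlg G hG
  exact IsLocalRing.eq_maximalIdeal (Ideal.isMaximal_comap_of_isIntegral_of_isMaximal n)

include hG hE in
theorem tee_mem_of_isMaximal (n : Ideal (MAlg G)) [hn : n.IsMaximal] (i : Fin r) :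
    tee G i ∈ n := by
  have h1 : (maximalIdeal A).map (algebraMap A (MAlg G)) ≤ n := by
    rw [Ideal.map_le_iff_le_comap, comap_eq_maximalIdeal G hG]
  have h2 : Polynomial.aeval (tee G i) (G i) = 0 := by
    rw [Polynomial.aeval_def]
    exact tee_relation G i
  have h3 := (hE i).pow_natDegree_le_of_aeval_zero_of_monic_mem_map h2 (hG i) _ le_rfl
  exact hn.isPrime.mem_of_pow_mem _ (h1 h3)

include hG in
theorem ker_aug_le_jacobson : RingHom.ker (aug G hd hE) ≤ Ideal.jacobson ⊥ := by
  rw [ker_aug, Ideal.jacobson]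
  refine le_sInf (fun n hn => ?_)
  haveI := hn.2
  refine sup_le ?_ ?_
  · rw [Ideal.map_le_iff_le_comap, comap_eq_maximalIdeal G hG]
  · rw [teeIdeal, Ideal.span_le]
    rintro _ ⟨i, rfl⟩
    exact tee_mem_of_isMaximal G hG hE n i

include hG hd hE in
/-- `B` is a local ring. -/
theorem isLocalRing_mAlg : IsLocalRing (MAlg G) :=
  LocalSurj.isLocalRing_of_surjective (aug G hd hE) (aug_surjective G hd hE)
    (ker_aug_le_jacobson G hG hd hE)

include hG hE in
/-- The residue fields of `B` are those of `A`. -/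
theorem residue_surjective_of_isMaximal (n : Ideal (MAlg G)) [hn : n.IsMaximal] :
    Function.Surjective ((Ideal.Quotient.mk n).comp (algebraMap A (MAlg G))) := by
  intro y
  obtain ⟨b, rfl⟩ := Ideal.Quotient.mk_surjective y
  obtain ⟨a, ha⟩ := exists_sub_mem_teeIdeal G b
  refine ⟨a, ?_⟩
  rw [RingHom.comp_apply, eq_comm, Ideal.Quotient.mk_eq_mk_iff_sub_mem]
  have hle : teeIdeal G ≤ n := by
    rw [teeIdeal, Ideal.span_le]
    rintro _ ⟨i, rfl⟩
    exact tee_mem_of_isMaximal G hG hE n i
  exact hle ha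

theorem maximalIdeal_eq_ker_aug [IsLocalRing (MAlg G)] :
    maximalIdeal (MAlg G) = RingHom.ker (aug G hd hE) := by
  haveI : (RingHom.ker (aug G hd hE)).IsMaximal :=
    RingHom.ker_isMaximal_of_surjective _ (aug_surjective G hd hE)
  exact (IsLocalRing.eq_maximalIdeal inferInstance).symm

end loc

end Groth.Agent.Helper8.MonicAlg
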