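import Mathlib
import Groth.Agent.Lib.Helper8.Eisen1
import Groth.Agent.Lib.Helper8.RegularLocal
import Groth.Agent.Lib.Helper8.RegularLocal2

/-!
# Quotients by Eisenstein-type polynomials: `B/(T_i) ≅ A/(G_i(0))` and regularity
-/

set_option autoImplicit false

namespace Groth.Agent.Helper8.MonicAlg

open MvPolynomial IsLocalRing

universe u

section quot

variable {A : Type u} [CommRing A] {r : ℕ} (G : Fin r → Polynomial A)

/-- The ideal of `A` generated by the constant coefficients. -/
noncomputable def constIdeal : Ideal A := Ideal.span (Set.range fun i => (G i).coeff 0)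

/-- `B → A/(G_i(0))`, `T_i ↦ 0`. -/
noncomputable def toConstQuot : MAlg G →+* A ⧸ constIdeal G :=
  liftM G (Ideal.Quotient.mk (constIdeal G)) (fun _ => 0) (fun i => by
    rw [Polynomial.eval₂_at_zero, Ideal.Quotient.eq_zero_iff_mem]
    exact Ideal.subset_span ⟨i, rfl⟩)

theorem toConstQuot_algebraMap (a : A) :
    toConstQuot G (algebraMap A (MAlg G) a) = Ideal.Quotient.mk (constIdeal G) a := by
  rw [toConstQuot, liftM_algebraMap]

theorem toConstQuot_tee (i : Fin r) : toConstQuot G (tee G i) = 0 := by
  rw [toConstQuot, liftM_tee]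

/-- `B/(T_i) → A/(G_i(0))`. -/
noncomputable def quotToConstQuot : MAlg G ⧸ teeIdeal G →+* A ⧸ constIdeal G :=
  Ideal.Quotient.lift (teeIdeal G) (toConstQuot G) (by
    have hle : teeIdeal G ≤ RingHom.ker (toConstQuot G) := by
      rw [teeIdeal, Ideal.span_le]
      rintro _ ⟨i, rfl⟩
      exact toConstQuot_tee G i
    exact fun x hx => RingHom.mem_ker.1 (hle hx))

theorem algebraMap_coeff_zero_mem (i : Fin r) :
    algebraMap A (MAlg G) ((G i).coeff 0) ∈ teeIdeal G := by
  have h := tee_relation G i
  have h2 : Polynomial.eval₂ (algebraMap A (MAlg G)) (tee G i) (G i) =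
      Polynomial.eval₂ (algebraMap A (MAlg G)) (tee G i) (G i).divX * tee G i +
        algebraMap A (MAlg G) ((G i).coeff 0) := by
    conv_lhs => rw [← Polynomial.divX_mul_X_add (G i)]
    rw [Polynomial.eval₂_add, Polynomial.eval₂_mul, Polynomial.eval₂_X, Polynomial.eval₂_C]
  rw [h2] at h
  rw [eq_neg_of_add_eq_zero_right h, neg_mem_iff]
  exact Ideal.mul_mem_left _ _ (tee_mem_teeIdeal G i)

/-- `A/(G_i(0)) → B/(T_i)`. -/
noncomputable def constQuotToQuot : A ⧸ constIdeal G →+* MAlg G ⧸ teeIdeal G :=
  Ideal.Quotient.lift (constIdeal G)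
    ((Ideal.Quotient.mk (teeIdeal G)).comp (algebraMap A (MAlg G))) (by
    have hle : constIdeal G ≤
        RingHom.ker ((Ideal.Quotient.mk (teeIdeal G)).comp (algebraMap A (MAlg G))) := by
      rw [constIdeal, Ideal.span_le]
      rintro _ ⟨i, rfl⟩
      show (Ideal.Quotient.mk (teeIdeal G)).comp (algebraMap A (MAlg G)) ((G i).coeff 0) = 0
      rw [RingHom.comp_apply, Ideal.Quotient.eq_zero_iff_mem]
      exact algebraMap_coeff_zero_mem G i
    exact fun x hx => RingHom.mem_ker.1 (hle hx))

theorem constQuotToQuot_mk (a : A) :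
    constQuotToQuot G (Ideal.Quotient.mk _ a) =
      Ideal.Quotient.mk (teeIdeal G) (algebraMap A (MAlg G) a) := by
  rw [constQuotToQuot, Ideal.Quotient.lift_mk, RingHom.comp_apply]

/-- `B/(T_i) ≅ A/(G_i(0))`. -/
noncomputable def quotEquiv : (MAlg G ⧸ teeIdeal G) ≃+* (A ⧸ constIdeal G) :=
  RingEquiv.ofRingHom (quotToConstQuot G) (constQuotToQuot G)
    (by
      refine Ideal.Quotient.ringHom_ext (RingHom.ext fun a => ?_)
      show quotToConstQuot G (constQuotToQuot G (Ideal.Quotient.mk _ a)) =
        Ideal.Quotient.mk _ a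
      rw [constQuotToQuot_mk, quotToConstQuot, Ideal.Quotient.lift_mk, toConstQuot_algebraMap])
    (by
      refine Ideal.Quotient.ringHom_ext ?_
      refine mAlg_hom_ext G (S := MAlg G ⧸ teeIdeal G) (fun a => ?_) (fun i => ?_)
      · show constQuotToQuot G (quotToConstQuot G (Ideal.Quotient.mk _ (algebraMap A _ a))) =
          Ideal.Quotient.mk _ (algebraMap A _ a)
        rw [quotToConstQuot, Ideal.Quotient.lift_mk, toConstQuot_algebraMap, constQuotToQuot_mk]
      · show constQuotToQuot G (quotToConstQuot G (Ideal.Quotient.mk _ (tee G i))) =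
          Ideal.Quotient.mk _ (tee G i)
        rw [quotToConstQuot, Ideal.Quotient.lift_mk, toConstQuot_tee, map_zero, eq_comm,
          Ideal.Quotient.eq_zero_iff_mem]
        exact tee_mem_teeIdeal G i)

end quot

section reg

variable {A : Type u} [CommRing A] [IsLocalRing A] {r : ℕ} (G : Fin r → Polynomial A)
  (hG : ∀ i, (G i).Monic) (hd : ∀ i, (G i).natDegree ≠ 0)
  (hE : ∀ i, (G i).IsWeaklyEisensteinAt (maximalIdeal A))

/-- The constant coefficients, as elements of the maximal ideal. -/
noncomputable def constElt (i : Fin r) : maximalIdeal A :=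
  ⟨(G i).coeff 0, (hE i).mem (Nat.pos_of_ne_zero (hd i))⟩

/-- The `T_i`, as elements of the maximal ideal. -/
noncomputable def teeElt [IsLocalRing (MAlg G)] (i : Fin r) : maximalIdeal (MAlg G) :=
  ⟨tee G i, tee_mem_of_isMaximal G hG hE _ i⟩

end reg

section reg2

variable {A : Type u} [CommRing A] [IsRegularLocalRing A] {r : ℕ} (G : Fin r → Polynomial A)
  (hG : ∀ i, (G i).Monic) (hd : ∀ i, (G i).natDegree ≠ 0)
  (hE : ∀ i, (G i).IsWeaklyEisensteinAt (maximalIdeal A))

include hG in
/-- If the constant coefficients are part of a regular system of parameters, `B` is regular. -/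
theorem isRegularLocalRing_mAlg_of_linearIndependent
    [IsLocalRing (MAlg G)]
    (hli : LinearIndependent (ResidueField A)
      (fun i => (maximalIdeal A).toCotangent (constElt G hd hE i))) :
    IsRegularLocalRing (MAlg G) := by
  haveI : IsDomain A := Groth.Agent.Helper8.RLR.isDomain A
  haveI : IsNoetherianRing (MAlg G) := Algebra.FiniteType.isNoetherianRing A _
  obtain ⟨hreg, hdim⟩ := Groth.Agent.Helper8.RLR.quotient_of_linearIndependent
    (constElt G hd hE) hli
  haveI hreg' : IsRegularLocalRing (A ⧸ constIdeal G) := hreg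
  have hdim' : ringKrullDim (A ⧸ constIdeal G) + (Fintype.card (Fin r) : ℕ) = ringKrullDim A :=
    hdim
  haveI hregB : IsRegularLocalRing (MAlg G ⧸ teeIdeal G) :=
    IsRegularLocalRing.of_ringEquiv (quotEquiv G).symm
  have hdimB : ringKrullDim (MAlg G ⧸ teeIdeal G) + (Fintype.card (Fin r) : ℕ) =
      ringKrullDim (MAlg G) := by
    rw [ringKrullDim_eq_of_ringEquiv (quotEquiv G), ringKrullDim_mAlg G hG hd]
    exact hdim'
  exact (Groth.Agent.Helper8.RLR.of_quotient_regular (R := MAlg G) (teeElt G hG hE)
    (hq := hregB) hdimB).1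

/-- If `B` is regular and the `T_i` are part of a regular system of parameters of `B`, then the
constant coefficients are part of a regular system of parameters of `A`. -/
theorem linearIndependent_constElt_of_linearIndependent_teeElt
    [IsRegularLocalRing (MAlg G)]
    (hli : LinearIndependent (ResidueField (MAlg G))
      (fun i => (maximalIdeal (MAlg G)).toCotangent (teeElt G hG hE i))) :
    LinearIndependent (ResidueField A)
      (fun i => (maximalIdeal A).toCotangent (constElt G hd hE i)) := by
  haveI : IsDomain A := Groth.Agent.Helper8.RLR.isDomain A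
  obtain ⟨hreg, hdim⟩ := Groth.Agent.Helper8.RLR.quotient_of_linearIndependent
    (teeElt G hG hE) hli
  haveI hreg' : IsRegularLocalRing (MAlg G ⧸ teeIdeal G) := hreg
  have hdim' : ringKrullDim (MAlg G ⧸ teeIdeal G) + (Fintype.card (Fin r) : ℕ) =
      ringKrullDim (MAlg G) := hdim
  haveI hregA : IsRegularLocalRing (A ⧸ constIdeal G) :=
    IsRegularLocalRing.of_ringEquiv (R := MAlg G ⧸ teeIdeal G) (R' := A ⧸ constIdeal G)
      (quotEquiv G)
  have hdimA : ringKrullDim (A ⧸ constIdeal G) + (Fintype.card (Fin r) : ℕ) =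
      ringKrullDim A := by
    have hq : ringKrullDim (MAlg G ⧸ teeIdeal G) = ringKrullDim (A ⧸ constIdeal G) :=
      ringKrullDim_eq_of_ringEquiv (quotEquiv G)
    rw [← hq, ← ringKrullDim_mAlg G hG hd]
    exact hdim'
  exact (Groth.Agent.Helper8.RLR.of_quotient_regular (R := A) (constElt G hd hE)
    (hq := hregA) hdimA).2

end reg2

end Groth.Agent.Helper8.MonicAlg
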