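import Mathlib
import Groth.Agent.Lib.Helper8.Eisen2

/-!
# Quotients by Eisenstein-type polynomials of degree `≥ 2`: the `T_i` are independent in the
cotangent space
-/

set_option autoImplicit false

namespace Groth.Agent.Helper8.MonicAlg

open MvPolynomial IsLocalRing

universe u

section crit

/-- A criterion for linear independence in the cotangent space. -/
theorem linearIndependent_toCotangent_of {R : Type*} [CommRing R] [IsLocalRing R] {ι : Type*}
    [Fintype ι] (x : ι → maximalIdeal R)
    (h : ∀ b : ι → R, (∑ i, b i * (x i : R)) ∈ maximalIdeal R ^ 2 → ∀ i, b i ∈ maximalIdeal R) :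
    LinearIndependent (ResidueField R) (fun i => (maximalIdeal R).toCotangent (x i)) := by
  rw [Fintype.linearIndependent_iff]
  intro g hg i
  have hsurj := residue_surjective (R := R)
  choose b hb using fun i => hsurj (g i)
  have h1 : ∑ i, g i • (maximalIdeal R).toCotangent (x i) =
      (maximalIdeal R).toCotangent (∑ i, b i • x i) := by
    rw [map_sum]
    refine Finset.sum_congr rfl fun i _ => ?_
    rw [map_smul, ← hb i, ← ResidueField.algebraMap_eq, algebraMap_smul]
  rw [h1, Ideal.toCotangent_eq_zero] at hg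
  have h2 : (∑ i, b i * (x i : R)) ∈ maximalIdeal R ^ 2 := by
    convert hg using 1
    rw [Submodule.coe_sum]
    rfl
  have h3 := h b h2 i
  rw [← hb i, residue_eq_zero_iff]
  exact h3

end crit

section li

variable {A : Type u} [CommRing A] [IsLocalRing A] {r : ℕ} (G : Fin r → Polynomial A)
  (hG : ∀ i, (G i).Monic) (hd2 : ∀ i, 2 ≤ (G i).natDegree)
  (hE : ∀ i, (G i).IsWeaklyEisensteinAt (maximalIdeal A))

omit [IsLocalRing A] in
include hd2 in
theorem natDegree_ne_zero (i : Fin r) : (G i).natDegree ≠ 0 := by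
  have := hd2 i
  omega

/-- The map `B → κ ⊕ κ^r ε`, `T_i ↦ e_i ε`. -/
noncomputable def chi : MAlg G →+* TrivSqZeroExt (ResidueField A) (Fin r → ResidueField A) :=
  liftM G ((TrivSqZeroExt.inlHom (ResidueField A) (Fin r → ResidueField A)).comp (residue A))
    (fun i => TrivSqZeroExt.inr (Pi.single i 1)) (fun i => by
      rw [Polynomial.eval₂_eq_sum_range]
      refine Finset.sum_eq_zero fun k _ => ?_
      by_cases hk' : k < (G i).natDegree
      · rw [RingHom.comp_apply, (residue_eq_zero_iff _).2 ((hE i).mem hk'), map_zero, zero_mul]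
      · have hk2 : 2 ≤ k := by
          have := hd2 i
          omega
        obtain ⟨j, rfl⟩ := Nat.exists_eq_add_of_le hk2
        rw [pow_add, pow_two, TrivSqZeroExt.inr_mul_inr, zero_mul, mul_zero])

theorem chi_algebraMap (a : A) :
    chi G hd2 hE (algebraMap A (MAlg G) a) = TrivSqZeroExt.inl (residue A a) := by
  rw [chi, liftM_algebraMap]
  rfl

theorem chi_tee (i : Fin r) :
    chi G hd2 hE (tee G i) = TrivSqZeroExt.inr (Pi.single i 1) := by
  rw [chi, liftM_tee]

theorem fst_chi (b : MAlg G) :
    (chi G hd2 hE b).fst = aug G (natDegree_ne_zero G hd2) hE b := by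
  have h : (TrivSqZeroExt.fstHom (ResidueField A) (ResidueField A)
      (Fin r → ResidueField A)).toRingHom.comp (chi G hd2 hE) =
        aug G (natDegree_ne_zero G hd2) hE := by
    refine mAlg_hom_ext G (fun a => ?_) (fun i => ?_)
    · rw [RingHom.comp_apply, chi_algebraMap, aug_algebraMap]
      rfl
    · rw [RingHom.comp_apply, chi_tee, aug_tee]
      rfl
  exact congrArg (fun φ => φ b) h

theorem sq_le_ker_chi [IsLocalRing (MAlg G)] :
    maximalIdeal (MAlg G) ^ 2 ≤ RingHom.ker (chi G hd2 hE) := by
  rw [pow_two, Ideal.mul_le]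
  intro x hx y hy
  rw [maximalIdeal_eq_ker_aug G (natDegree_ne_zero G hd2) hE, RingHom.mem_ker,
    ← fst_chi G hd2 hE] at hx hy
  rw [RingHom.mem_ker, map_mul]
  refine TrivSqZeroExt.ext ?_ ?_
  · rw [TrivSqZeroExt.fst_mul, hx, zero_mul, TrivSqZeroExt.fst_zero]
  · rw [TrivSqZeroExt.snd_mul, hx, hy, zero_smul, MulOpposite.op_zero, zero_smul, add_zero,
      TrivSqZeroExt.snd_zero]

include hd2 in
/-- The `T_i` are linearly independent in the cotangent space of `B`. -/
theorem linearIndependent_teeElt [IsLocalRing (MAlg G)] :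
    LinearIndependent (ResidueField (MAlg G))
      (fun i => (maximalIdeal (MAlg G)).toCotangent (teeElt G hG hE i)) := by
  refine linearIndependent_toCotangent_of _ (fun b hb j => ?_)
  have h1 := sq_le_ker_chi G hd2 hE hb
  rw [RingHom.mem_ker, map_sum] at h1
  have h2 : ∀ i, chi G hd2 hE (b i * ((teeElt G hG hE i : maximalIdeal (MAlg G)) : MAlg G)) =
      TrivSqZeroExt.inr (Pi.single i (aug G (natDegree_ne_zero G hd2) hE (b i))) := by
    intro i
    show chi G hd2 hE (b i * tee G i) = _
    rw [map_mul, chi_tee]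
    refine TrivSqZeroExt.ext ?_ ?_
    · rw [TrivSqZeroExt.fst_mul, TrivSqZeroExt.fst_inr, mul_zero, TrivSqZeroExt.fst_inr]
    · rw [TrivSqZeroExt.snd_mul, TrivSqZeroExt.fst_inr, TrivSqZeroExt.snd_inr,
        MulOpposite.op_zero, zero_smul, add_zero, fst_chi, TrivSqZeroExt.snd_inr]
      funext l
      rw [Pi.smul_apply, Pi.single_apply, Pi.single_apply, smul_eq_mul]
      split_ifs <;> simp
  rw [Finset.sum_congr rfl (fun i _ => h2 i)] at h1
  have h3 := congrArg
    (fun z : TrivSqZeroExt (ResidueField A) (Fin r → ResidueField A) => z.snd j) h1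
  simp only [TrivSqZeroExt.snd_sum, TrivSqZeroExt.snd_inr, TrivSqZeroExt.snd_zero,
    Finset.sum_apply, Pi.zero_apply] at h3
  rw [Finset.sum_eq_single j (fun i _ hij => by rw [Pi.single_apply, if_neg hij.symm])
    (fun h => absurd (Finset.mem_univ j) h), Pi.single_eq_same] at h3
  rw [maximalIdeal_eq_ker_aug G (natDegree_ne_zero G hd2) hE, RingHom.mem_ker]
  exact h3

end li

end Groth.Agent.Helper8.MonicAlg
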