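import Mathlib
import Groth.Agent.Lib.Helper8.Eisen3
import Groth.Agent.Lib.Helper8.CohenFact1

/-!
# Quotients by explicit Eisenstein-type polynomials
-/

set_option autoImplicit false

namespace Groth.Agent.Helper8.MonicAlg

open IsLocalRing

universe u

section poly

variable {A : Type u} [CommRing A] (d : ℕ) (c : ℕ → A)

/-- `X^d + Σ_{k<d} c_k X^k`. -/
noncomputable def eisPoly : Polynomial A :=
  Polynomial.X ^ d + (Finset.range d).sum fun k => Polynomial.C (c k) * Polynomial.X ^ k

theorem eisPoly_tail_degree_lt :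
    ((Finset.range d).sum fun k => Polynomial.C (c k) * Polynomial.X ^ k).degree <
      (d : WithBot ℕ) := by
  refine lt_of_le_of_lt (Polynomial.degree_sum_le _ _) ?_
  refine (Finset.sup_lt_iff (WithBot.bot_lt_coe d)).2 ?_
  intro k hk
  refine lt_of_le_of_lt (Polynomial.degree_C_mul_X_pow_le _ _) ?_
  exact WithBot.coe_lt_coe.2 (Finset.mem_range.1 hk)

theorem eisPoly_monic : (eisPoly d c).Monic :=
  Polynomial.monic_X_pow_add (eisPoly_tail_degree_lt d c)

theorem eisPoly_natDegree [Nontrivial A] : (eisPoly d c).natDegree = d := by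
  have h : (eisPoly d c).degree = (d : WithBot ℕ) := by
    rw [eisPoly, Polynomial.degree_add_eq_left_of_degree_lt, Polynomial.degree_X_pow]
    rw [Polynomial.degree_X_pow]
    exact eisPoly_tail_degree_lt d c
  exact Polynomial.natDegree_eq_of_degree_eq_some h

theorem eisPoly_coeff {k : ℕ} (hk : k < d) : (eisPoly d c).coeff k = c k := by
  rw [eisPoly, Polynomial.coeff_add, Polynomial.coeff_X_pow, if_neg (by omega),
    Polynomial.finsetSum_coeff, zero_add]
  rw [Finset.sum_eq_single k]
  · rw [Polynomial.coeff_C_mul, Polynomial.coeff_X_pow, if_pos rfl, mul_one]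
  · intro j _ hjk
    rw [Polynomial.coeff_C_mul, Polynomial.coeff_X_pow, if_neg (fun h => hjk h.symm), mul_zero]
  · intro h
    exact absurd (Finset.mem_range.2 hk) h

theorem eisPoly_isWeaklyEisensteinAt [Nontrivial A] (I : Ideal A) (hc : ∀ k, c k ∈ I) :
    (eisPoly d c).IsWeaklyEisensteinAt I := by
  refine ⟨fun {n} hn => ?_⟩
  rw [eisPoly_natDegree] at hn
  rw [eisPoly_coeff d c hn]
  exact hc n

theorem eval₂_eisPoly {S : Type*} [CommRing S] (φ : A →+* S) (s : S) :
    Polynomial.eval₂ φ s (eisPoly d c) = s ^ d + (Finset.range d).sum fun k => φ (c k) * s ^ k := by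
  rw [eisPoly, Polynomial.eval₂_add, Polynomial.eval₂_pow, Polynomial.eval₂_X,
    Polynomial.eval₂_finsetSum]
  congr 1
  refine Finset.sum_congr rfl (fun k _ => ?_)
  rw [Polynomial.eval₂_mul, Polynomial.eval₂_C, Polynomial.eval₂_pow, Polynomial.eval₂_X]

end poly

section main

variable {A : Type u} [CommRing A] [IsRegularLocalRing A] {r : ℕ} (d : Fin r → ℕ)
  (c : Fin r → ℕ → A) (hc : ∀ i k, c i k ∈ maximalIdeal A)

omit [IsRegularLocalRing A] in
theorem gPoly_eisPoly (i : Fin r) :
    gPoly (fun i => eisPoly (d i) (c i)) i =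
      MvPolynomial.X i ^ d i + (Finset.range (d i)).sum fun k =>
        MvPolynomial.C (c i k) * MvPolynomial.X i ^ k := by
  rw [gPoly, eval₂_eisPoly]

include hc in
/-- Locality, for degrees `≥ 1`. -/
theorem isLocalRing_eis (hd : ∀ i, 1 ≤ d i) :
    IsLocalRing (MAlg (fun i => eisPoly (d i) (c i))) :=
  isLocalRing_mAlg _ (fun _ => eisPoly_monic _ _)
    (fun i => by rw [eisPoly_natDegree]; have := hd i; omega)
    (fun i => eisPoly_isWeaklyEisensteinAt _ _ _ (hc i))

include hc in
theorem residue_surjective_eis (M : Ideal (MAlg (fun i => eisPoly (d i) (c i)))) [M.IsMaximal] :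
    Function.Surjective ((Ideal.Quotient.mk M).comp
      (algebraMap A (MAlg (fun i => eisPoly (d i) (c i))))) :=
  residue_surjective_of_isMaximal _ (fun i => eisPoly_monic _ _)
    (fun i => eisPoly_isWeaklyEisensteinAt _ _ _ (hc i)) M

include hc in
/-- Regularity from independence, for degrees `≥ 1`. -/
theorem isRegularLocalRing_eis_of_linearIndependent (hd : ∀ i, 1 ≤ d i)
    (hli : LinearIndependent (ResidueField A)
      (fun i => (maximalIdeal A).toCotangent ⟨c i 0, hc i 0⟩)) :
    IsRegularLocalRing (MAlg (fun i => eisPoly (d i) (c i))) := by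
  haveI := isLocalRing_eis d c hc hd
  have hd' : ∀ i, (eisPoly (d i) (c i)).natDegree ≠ 0 := fun i => by
    rw [eisPoly_natDegree]; have := hd i; omega
  refine isRegularLocalRing_mAlg_of_linearIndependent _ (fun i => eisPoly_monic _ _) hd'
    (fun i => eisPoly_isWeaklyEisensteinAt _ _ _ (hc i)) ?_
  convert hli using 3 with i
  refine Subtype.ext ?_
  show (eisPoly (d i) (c i)).coeff 0 = c i 0
  exact eisPoly_coeff _ _ (hd i)

include hc in
/-- Independence from regularity, for degrees `≥ 2`. -/
theorem linearIndependent_of_isRegularLocalRing_eis (hd : ∀ i, 2 ≤ d i)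
    [IsRegularLocalRing (MAlg (fun i => eisPoly (d i) (c i)))] :
    LinearIndependent (ResidueField A)
      (fun i => (maximalIdeal A).toCotangent ⟨c i 0, hc i 0⟩) := by
  have hd2 : ∀ i, 2 ≤ (eisPoly (d i) (c i)).natDegree := fun i => by
    rw [eisPoly_natDegree]; exact hd i
  have hd' : ∀ i, (eisPoly (d i) (c i)).natDegree ≠ 0 := fun i => by
    have := hd2 i; omega
  have hli := linearIndependent_teeElt (fun i => eisPoly (d i) (c i))
    (fun i => eisPoly_monic _ _) hd2 (fun i => eisPoly_isWeaklyEisensteinAt _ _ _ (hc i))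
  have h := linearIndependent_constElt_of_linearIndependent_teeElt _
    (fun i => eisPoly_monic _ _) hd' (fun i => eisPoly_isWeaklyEisensteinAt _ _ _ (hc i)) hli
  convert h using 3 with i
  refine Subtype.ext ?_
  show c i 0 = (eisPoly (d i) (c i)).coeff 0
  exact (eisPoly_coeff _ _ (by have := hd i; omega)).symm

include hc in
/-- The criterion. -/
theorem isRegularRing_eis_iff (hd : ∀ i, 2 ≤ d i) [IsLocalRing (MAlg (fun i => eisPoly (d i) (c i)))] :
    IsRegularRing (MAlg (fun i => eisPoly (d i) (c i))) ↔
      LinearIndependent (ResidueField A)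
        (fun i => (maximalIdeal A).toCotangent ⟨c i 0, hc i 0⟩) := by
  constructor
  · intro h
    haveI : IsRegularLocalRing (MAlg (fun i => eisPoly (d i) (c i))) :=
      IsRegularLocalRing.of_isRegularRing_of_isLocalRing _
    exact linearIndependent_of_isRegularLocalRing_eis d c hc hd
  · intro h
    haveI := isRegularLocalRing_eis_of_linearIndependent d c hc
      (fun i => by have := hd i; omega) h
    exact Groth.Agent.Helper8.CohenFact.isRegularRing_of_isRegularLocalRing _

end main

end Groth.Agent.Helper8.MonicAlg
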