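import Mathlib

/-!
# Infinitesimal rigidity of Weierstrass variable changes (unit discriminant)

Certificates: the linearised stabiliser equations of a Weierstrass cubic have only the trivial
solution after multiplying by the discriminant.  Used for S14286.
-/

namespace Groth.Agent.Helper8.EllJ1

open WeierstrassCurve

variable {A : Type*} [CommRing A]

theorem cert_U (W : WeierstrassCurve A) (U R S T : A)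
    (h1 : W.a₁ * U - 2 * S = 0)
    (h2 : 2 * W.a₂ * U - 3 * R + W.a₁ * S = 0)
    (h3 : 3 * W.a₃ * U - W.a₁ * R - 2 * T = 0)
    (h4 : 4 * W.a₄ * U - 2 * W.a₂ * R + W.a₃ * S + W.a₁ * T = 0)
    (h6 : 6 * W.a₆ * U - W.a₄ * R + W.a₃ * T = 0) : W.Δ * U = 0 := by
  simp only [WeierstrassCurve.Δ, WeierstrassCurve.b₂, WeierstrassCurve.b₄, WeierstrassCurve.b₆,
    WeierstrassCurve.b₈]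
  linear_combination ((-8) * W.a₃ * W.a₄ ^ 2 + (24) * W.a₂ * W.a₃ * W.a₆ + (6) * W.a₂ * W.a₃ ^ 3 + (12) * W.a₁ * W.a₄ * W.a₆ + (-5) * W.a₁ * W.a₃ ^ 2 * W.a₄ + (4) * W.a₁ * W.a₂ * W.a₄ ^ 2 + (-16) * W.a₁ * W.a₂ ^ 2 * W.a₆ + (-4) * W.a₁ * W.a₂ ^ 2 * W.a₃ ^ 2 + (12) * W.a₁ ^ 2 * W.a₃ * W.a₆ + (1) * W.a₁ ^ 2 * W.a₃ ^ 3 + (4) * W.a₁ ^ 2 * W.a₂ * W.a₃ * W.a₄ + (1) * W.a₁ ^ 3 * W.a₄ ^ 2 + (-8) * W.a₁ ^ 3 * W.a₂ * W.a₆ + (-1) * W.a₁ ^ 3 * W.a₂ * W.a₃ ^ 2 + (1) * W.a₁ ^ 4 * W.a₃ * W.a₄ + (-1) * W.a₁ ^ 5 * W.a₆) * h1 +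
    ((24) * W.a₄ * W.a₆ + (6) * W.a₃ ^ 2 * W.a₄ + (8) * W.a₂ * W.a₄ ^ 2 + (-32) * W.a₂ ^ 2 * W.a₆ + (-8) * W.a₂ ^ 2 * W.a₃ ^ 2 + (12) * W.a₁ * W.a₃ * W.a₆ + (3) * W.a₁ * W.a₃ ^ 3 + (8) * W.a₁ * W.a₂ * W.a₃ * W.a₄ + (2) * W.a₁ ^ 2 * W.a₄ ^ 2 + (-16) * W.a₁ ^ 2 * W.a₂ * W.a₆ + (-2) * W.a₁ ^ 2 * W.a₂ * W.a₃ ^ 2 + (2) * W.a₁ ^ 3 * W.a₃ * W.a₄ + (-2) * W.a₁ ^ 4 * W.a₆) * h2 +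
    ((-36) * W.a₃ * W.a₆ + (-9) * W.a₃ ^ 3 + (4) * W.a₂ * W.a₃ * W.a₄ + (-8) * W.a₁ * W.a₄ ^ 2 + (24) * W.a₁ * W.a₂ * W.a₆ + (8) * W.a₁ * W.a₂ * W.a₃ ^ 2 + (-7) * W.a₁ ^ 2 * W.a₃ * W.a₄ + (6) * W.a₁ ^ 3 * W.a₆) * h3 +
    ((-16) * W.a₄ ^ 2 + (48) * W.a₂ * W.a₆ + (12) * W.a₂ * W.a₃ ^ 2 + (-16) * W.a₁ * W.a₃ * W.a₄ + (12) * W.a₁ ^ 2 * W.a₆ + (-1) * W.a₁ ^ 2 * W.a₃ ^ 2) * h4 +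
    ((-72) * W.a₆ + (-18) * W.a₃ ^ 2 + (8) * W.a₂ * W.a₄ + (4) * W.a₁ * W.a₂ * W.a₃ + (2) * W.a₁ ^ 2 * W.a₄ + (1) * W.a₁ ^ 3 * W.a₃) * h6

theorem cert_S (W : WeierstrassCurve A) (U R S T : A)
    (h1 : W.a₁ * U - 2 * S = 0)
    (h2 : 2 * W.a₂ * U - 3 * R + W.a₁ * S = 0)
    (h3 : 3 * W.a₃ * U - W.a₁ * R - 2 * T = 0)
    (h4 : 4 * W.a₄ * U - 2 * W.a₂ * R + W.a₃ * S + W.a₁ * T = 0)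
    (h6 : 6 * W.a₆ * U - W.a₄ * R + W.a₃ * T = 0) : W.Δ * S = 0 := by
  simp only [WeierstrassCurve.Δ, WeierstrassCurve.b₂, WeierstrassCurve.b₄, WeierstrassCurve.b₆,
    WeierstrassCurve.b₈]
  linear_combination ((216) * W.a₆ ^ 2 + (32) * W.a₄ ^ 3 + (90) * W.a₃ ^ 2 * W.a₆ + (9) * W.a₃ ^ 4 + (-144) * W.a₂ * W.a₄ * W.a₆ + (-34) * W.a₂ * W.a₃ ^ 2 * W.a₄ + (-8) * W.a₂ ^ 2 * W.a₄ ^ 2 + (32) * W.a₂ ^ 3 * W.a₆ + (8) * W.a₂ ^ 3 * W.a₃ ^ 2 + (40) * W.a₁ * W.a₃ * W.a₄ ^ 2 + (-48) * W.a₁ * W.a₂ * W.a₃ * W.a₆ + (-11) * W.a₁ * W.a₂ * W.a₃ ^ 3 + (-8) * W.a₁ * W.a₂ ^ 2 * W.a₃ * W.a₄ + (-30) * W.a₁ ^ 2 * W.a₄ * W.a₆ + (9) * W.a₁ ^ 2 * W.a₃ ^ 2 * W.a₄ + (-2) * W.a₁ ^ 2 * W.a₂ * W.a₄ ^ 2 + (16) * W.a₁ ^ 2 * W.a₂ ^ 2 * W.a₆ + (2) * W.a₁ ^ 2 * W.a₂ ^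 2 * W.a₃ ^ 2 + (-9) * W.a₁ ^ 3 * W.a₃ * W.a₆ + (-2) * W.a₁ ^ 3 * W.a₂ * W.a₃ * W.a₄ + (2) * W.a₁ ^ 4 * W.a₂ * W.a₆) * h1 +
    ((-8) * W.a₃ * W.a₄ ^ 2 + (24) * W.a₂ * W.a₃ * W.a₆ + (6) * W.a₂ * W.a₃ ^ 3 + (12) * W.a₁ * W.a₄ * W.a₆ + (-5) * W.a₁ * W.a₃ ^ 2 * W.a₄ + (4) * W.a₁ * W.a₂ * W.a₄ ^ 2 + (-16) * W.a₁ * W.a₂ ^ 2 * W.a₆ + (-4) * W.a₁ * W.a₂ ^ 2 * W.a₃ ^ 2 + (12) * W.a₁ ^ 2 * W.a₃ * W.a₆ + (1) * W.a₁ ^ 2 * W.a₃ ^ 3 + (4) * W.a₁ ^ 2 * W.a₂ * W.a₃ * W.a₄ + (1) * W.a₁ ^ 3 * W.a₄ ^ 2 + (-8) * W.a₁ ^ 3 * W.a₂ * W.a₆ + (-1) * W.a₁ ^ 3 * W.a₂ * W.a₃ ^ 2 + (1) * W.a₁ ^ 4 * W.a₃ * W.a₄ + (-1) * W.a₁ ^ 5 * W.a₆) * h2 +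
    ((12) * W.a₃ ^ 2 * W.a₄ + (-4) * W.a₂ ^ 2 * W.a₃ ^ 2 + (-36) * W.a₁ * W.a₃ * W.a₆ + (-3) * W.a₁ * W.a₃ ^ 3 + (4) * W.a₁ * W.a₂ * W.a₃ * W.a₄ + (-4) * W.a₁ ^ 2 * W.a₄ ^ 2 + (12) * W.a₁ ^ 2 * W.a₂ * W.a₆ + (3) * W.a₁ ^ 2 * W.a₂ * W.a₃ ^ 2 + (-3) * W.a₁ ^ 3 * W.a₃ * W.a₄ + (3) * W.a₁ ^ 4 * W.a₆) * h3 +
    ((-36) * W.a₃ * W.a₆ + (-9) * W.a₃ ^ 3 + (4) * W.a₂ * W.a₃ * W.a₄ + (-8) * W.a₁ * W.a₄ ^ 2 + (24) * W.a₁ * W.a₂ * W.a₆ + (8) * W.a₁ * W.a₂ * W.a₃ ^ 2 + (-7) * W.a₁ ^ 2 * W.a₃ * W.a₄ + (6) * W.a₁ ^ 3 * W.a₆) * h4 +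
    ((24) * W.a₃ * W.a₄ + (-8) * W.a₂ ^ 2 * W.a₃ + (-36) * W.a₁ * W.a₆ + (3) * W.a₁ * W.a₃ ^ 2 + (4) * W.a₁ * W.a₂ * W.a₄ + (-2) * W.a₁ ^ 2 * W.a₂ * W.a₃ + (1) * W.a₁ ^ 3 * W.a₄) * h6

theorem cert_R (W : WeierstrassCurve A) (R T : A)
    (g2 : -3 * R = 0)
    (g3 : -W.a₁ * R - 2 * T = 0)
    (g4 : -2 * W.a₂ * R + W.a₁ * T = 0)
    (g6 : -W.a₄ * R + W.a₃ * T = 0) : W.Δ * R = 0 := by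
  simp only [WeierstrassCurve.Δ, WeierstrassCurve.b₂, WeierstrassCurve.b₄, WeierstrassCurve.b₆,
    WeierstrassCurve.b₈]
  linear_combination ((144) * W.a₆ ^ 2 + (128) * W.a₄ ^ 3 + (72) * W.a₃ ^ 2 * W.a₆ + (9) * W.a₃ ^ 4 + (288) * W.a₂ * W.a₄ * W.a₆ + (392) * W.a₂ * W.a₃ ^ 2 * W.a₄ + (80) * W.a₂ ^ 2 * W.a₄ ^ 2 + (16) * W.a₂ ^ 3 * W.a₃ ^ 2 + (72) * W.a₁ ^ 2 * W.a₄ * W.a₆ + (66) * W.a₁ ^ 2 * W.a₃ ^ 2 * W.a₄ + (48) * W.a₁ ^ 2 * W.a₂ ^ 2 * W.a₃ ^ 2 + (-100) * W.a₁ ^ 3 * W.a₂ * W.a₃ * W.a₄ + (-102) * W.a₁ ^ 4 * W.a₂ * W.a₃ ^ 2 + (34) * W.a₁ ^ 5 * W.a₃ * W.a₄) * g2 +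
    ((-160) * W.a₃ * W.a₄ ^ 2 + (-32) * W.a₂ * W.a₃ ^ 3 + (-120) * W.a₂ ^ 2 * W.a₃ * W.a₄ + (-288) * W.a₁ * W.a₄ * W.a₆ + (-168) * W.a₁ * W.a₃ ^ 2 * W.a₄ + (-4) * W.a₁ * W.a₂ * W.a₄ ^ 2 + (16) * W.a₁ * W.a₂ ^ 2 * W.a₆ + (-1364) * W.a₁ * W.a₂ ^ 2 * W.a₃ ^ 2 + (-36) * W.a₁ ^ 2 * W.a₃ * W.a₆ + (-1) * W.a₁ ^ 2 * W.a₃ ^ 3 + (704) * W.a₁ ^ 2 * W.a₂ * W.a₃ * W.a₄ + (-1) * W.a₁ ^ 3 * W.a₄ ^ 2 + (8) * W.a₁ ^ 3 * W.a₂ * W.a₆ + (307) * W.a₁ ^ 3 * W.a₂ * W.a₃ ^ 2 + (-103) * W.a₁ ^ 4 * W.a₃ * W.a₄ + (1) * W.a₁ ^ 5 * W.a₆) * g3 +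
    ((-576) * W.a₄ * W.a₆ + (-592) * W.a₃ ^ 2 * W.a₄ + (-8) * W.a₂ * W.a₄ ^ 2 + (32) * W.a₂ ^ 2 * W.a₆ + (-16) * W.a₂ ^ 2 * W.a₃ ^ 2 + (-72) * W.a₁ * W.a₃ * W.a₆ + (-2) * W.a₁ * W.a₃ ^ 3 + (1408) * W.a₁ * W.a₂ * W.a₃ * W.a₄ + (-2) * W.a₁ ^ 2 * W.a₄ ^ 2 + (16) * W.a₁ ^ 2 * W.a₂ * W.a₆ + (614) * W.a₁ ^ 2 * W.a₂ * W.a₃ ^ 2 + (-206) * W.a₁ ^ 3 * W.a₃ * W.a₄ + (2) * W.a₁ ^ 4 * W.a₆) * g4 +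
    ((-320) * W.a₄ ^ 2 + (-64) * W.a₂ * W.a₃ ^ 2 + (-240) * W.a₂ ^ 2 * W.a₄ + (256) * W.a₁ * W.a₃ * W.a₄ + (-2712) * W.a₁ * W.a₂ ^ 2 * W.a₃) * g6

theorem cert_T (W : WeierstrassCurve A) (R T : A)
    (g2 : -3 * R = 0)
    (g3 : -W.a₁ * R - 2 * T = 0)
    (g4 : -2 * W.a₂ * R + W.a₁ * T = 0)
    (g6 : -W.a₄ * R + W.a₃ * T = 0) : W.Δ * T = 0 := by
  simp only [WeierstrassCurve.Δ, WeierstrassCurve.b₂, WeierstrassCurve.b₄, WeierstrassCurve.b₆,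
    WeierstrassCurve.b₈]
  linear_combination ((72) * W.a₃ * W.a₄ * W.a₆ + (9) * W.a₃ ^ 3 * W.a₄ + (272) * W.a₂ * W.a₃ * W.a₄ ^ 2 + (64) * W.a₂ ^ 3 * W.a₃ * W.a₄ + (-72) * W.a₁ * W.a₆ ^ 2 + (72) * W.a₁ ^ 2 * W.a₂ * W.a₃ * W.a₆ + (-202) * W.a₁ ^ 2 * W.a₂ * W.a₃ ^ 3 + (64) * W.a₁ ^ 2 * W.a₂ ^ 2 * W.a₃ * W.a₄ + (-36) * W.a₁ ^ 3 * W.a₄ * W.a₆ + (67) * W.a₁ ^ 3 * W.a₃ ^ 2 * W.a₄ + (-72) * W.a₁ ^ 3 * W.a₂ ^ 2 * W.a₃ ^ 2 + (146) * W.a₁ ^ 4 * W.a₂ * W.a₃ * W.a₄ + (147) * W.a₁ ^ 5 * W.a₂ * W.a₃ ^ 2 + (-49) * W.a₁ ^ 6 * W.a₃ * W.a₄) * g2 +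
    ((216) * W.a₆ ^ 2 + (32) * W.a₄ ^ 3 + (-144) * W.a₂ * W.a₄ * W.a₆ + (-380) * W.a₂ * W.a₃ ^ 2 * W.a₄ + (-8) * W.a₂ ^ 2 * W.a₄ ^ 2 + (32) * W.a₂ ^ 3 * W.a₆ + (-7912) * W.a₂ ^ 3 * W.a₃ ^ 2 + (-288) * W.a₁ * W.a₂ * W.a₃ * W.a₆ + (604) * W.a₁ * W.a₂ * W.a₃ ^ 3 + (3904) * W.a₁ * W.a₂ ^ 2 * W.a₃ * W.a₄ + (108) * W.a₁ ^ 2 * W.a₄ * W.a₆ + (-201) * W.a₁ ^ 2 * W.a₃ ^ 2 * W.a₄ + (-2) * W.a₁ ^ 2 * W.a₂ * W.a₄ ^ 2 + (16) * W.a₁ ^ 2 * W.a₂ ^ 2 * W.a₆ + (1982) * W.a₁ ^ 2 * W.a₂ ^ 2 * W.a₃ ^ 2 + (-1028) * W.a₁ ^ 3 * W.a₂ * W.a₃ * W.a₄ + (2) * W.a₁ ^ 4 * W.a₂ * W.a₆ + (-441) * W.a₁ ^ 4 * W.a₂ * W.a₃ ^ 2 + (147) * W.a₁ ^ 5 * W.a₃ * W.a₄) * g3 +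
    ((-64) * W.a₃ * W.a₄ ^ 2 + (7824) * W.a₂ ^ 2 * W.a₃ * W.a₄ + (288) * W.a₁ * W.a₄ * W.a₆ + (-432) * W.a₁ * W.a₃ ^ 2 * W.a₄ + (4) * W.a₁ * W.a₂ * W.a₄ ^ 2 + (-16) * W.a₁ * W.a₂ ^ 2 * W.a₆ + (3956) * W.a₁ * W.a₂ ^ 2 * W.a₃ ^ 2 + (36) * W.a₁ ^ 2 * W.a₃ * W.a₆ + (1) * W.a₁ ^ 2 * W.a₃ ^ 3 + (-2048) * W.a₁ ^ 2 * W.a₂ * W.a₃ * W.a₄ + (1) * W.a₁ ^ 3 * W.a₄ ^ 2 + (-8) * W.a₁ ^ 3 * W.a₂ * W.a₆ + (-883) * W.a₁ ^ 3 * W.a₂ * W.a₃ ^ 2 + (295) * W.a₁ ^ 4 * W.a₃ * W.a₄ + (-1) * W.a₁ ^ 5 * W.a₆) * g4 +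
    ((-216) * W.a₃ * W.a₆ + (-27) * W.a₃ ^ 3 + (-688) * W.a₂ * W.a₃ * W.a₄ + (-15840) * W.a₂ ^ 3 * W.a₃ + (-32) * W.a₁ * W.a₄ ^ 2 + (-432) * W.a₁ * W.a₂ * W.a₆ + (1244) * W.a₁ * W.a₂ * W.a₃ ^ 2) * g6

theorem cancel_pow (u : Aˣ) (n : ℕ) (X : A) : (u : A) ^ n * ((↑u⁻¹ : A) ^ n * X) = X := by
  rw [← mul_assoc, ← mul_pow, Units.mul_inv, one_pow, one_mul]

section mulout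

variable (W W' : WeierstrassCurve A) (C : VariableChange A) (h : C • W = W')
include h

theorem mul_a₁ : W.a₁ + 2 * C.s = C.u * W'.a₁ := by
  subst h
  rw [variableChange_a₁]
  exact (Units.mul_inv_cancel_left C.u _).symm

theorem mul_a₂ : W.a₂ - C.s * W.a₁ + 3 * C.r - C.s ^ 2 = (C.u : A) ^ 2 * W'.a₂ := by
  subst h
  rw [variableChange_a₂]
  exact (cancel_pow C.u 2 _).symm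

theorem mul_a₃ : W.a₃ + C.r * W.a₁ + 2 * C.t = (C.u : A) ^ 3 * W'.a₃ := by
  subst h
  rw [variableChange_a₃]
  exact (cancel_pow C.u 3 _).symm

theorem mul_a₄ : W.a₄ - C.s * W.a₃ + 2 * C.r * W.a₂ - (C.t + C.r * C.s) * W.a₁ + 3 * C.r ^ 2
      - 2 * C.s * C.t = (C.u : A) ^ 4 * W'.a₄ := by
  subst h
  rw [variableChange_a₄]
  exact (cancel_pow C.u 4 _).symm

theorem mul_a₆ : W.a₆ + C.r * W.a₄ + C.r ^ 2 * W.a₂ + C.r ^ 3 - C.t * W.a₃ - C.t ^ 2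
      - C.r * C.t * W.a₁ = (C.u : A) ^ 6 * W'.a₆ := by
  subst h
  rw [variableChange_a₆]
  exact (cancel_pow C.u 6 _).symm

theorem mul_b₆ : W.b₆ + 2 * C.r * W.b₄ + C.r ^ 2 * W.b₂ + 4 * C.r ^ 3 = (C.u : A) ^ 6 * W'.b₆ := by
  subst h
  rw [variableChange_b₆]
  exact (cancel_pow C.u 6 _).symm

theorem mul_b₈ : W.b₈ + 3 * C.r * W.b₆ + 3 * C.r ^ 2 * W.b₄ + C.r ^ 3 * W.b₂ + 3 * C.r ^ 4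
      = (C.u : A) ^ 8 * W'.b₈ := by
  subst h
  rw [variableChange_b₈]
  exact (cancel_pow C.u 8 _).symm

theorem mul_Δ : W.Δ = (C.u : A) ^ 12 * W'.Δ := by
  subst h
  rw [variableChange_Δ]
  exact (cancel_pow C.u 12 _).symm

end mulout

/-- Infinitesimal rigidity: a variable change fixing a Weierstrass cubic with unit discriminant
and congruent to the identity modulo a square-zero ideal is the identity. -/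
theorem rigid (W : WeierstrassCurve A) (hΔ : IsUnit W.Δ) (D : VariableChange A) (hD : D • W = W)
    (I : Ideal A) (hI : ∀ x ∈ I, ∀ y ∈ I, x * y = 0)
    (hu : (D.u : A) - 1 ∈ I) (hr : D.r ∈ I) (hs : D.s ∈ I) (ht : D.t ∈ I) : D = 1 := by
  obtain ⟨u, hu_def⟩ : ∃ u : A, u = (D.u : A) := ⟨_, rfl⟩
  obtain ⟨R, hR_def⟩ : ∃ R : A, R = D.r := ⟨_, rfl⟩
  obtain ⟨S, hS_def⟩ : ∃ S : A, S = D.s := ⟨_, rfl⟩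
  obtain ⟨T, hT_def⟩ : ∃ T : A, T = D.t := ⟨_, rfl⟩
  have f1 := mul_a₁ W W D hD
  have f2 := mul_a₂ W W D hD
  have f3 := mul_a₃ W W D hD
  have f4 := mul_a₄ W W D hD
  have f6 := mul_a₆ W W D hD
  rw [← hu_def, ← hS_def] at f1
  rw [← hu_def, ← hS_def, ← hR_def] at f2
  rw [← hu_def, ← hR_def, ← hT_def] at f3
  rw [← hu_def, ← hS_def, ← hR_def, ← hT_def] at f4
  rw [← hu_def, ← hR_def, ← hT_def] at f6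
  rw [← hu_def] at hu
  rw [← hR_def] at hr
  rw [← hS_def] at hs
  rw [← hT_def] at ht
  have hUU : (u - 1) * (u - 1) = 0 := hI _ hu _ hu
  have hRR : R * R = 0 := hI _ hr _ hr
  have hRS : R * S = 0 := hI _ hr _ hs
  have hRT : R * T = 0 := hI _ hr _ ht
  have hSS : S * S = 0 := hI _ hs _ hs
  have hST : S * T = 0 := hI _ hs _ ht
  have hTT : T * T = 0 := hI _ ht _ ht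
  have hu2 : u ^ 2 = 1 + 2 * (u - 1) := by linear_combination hUU
  have hu3 : u ^ 3 = 1 + 3 * (u - 1) := by linear_combination (u + 2) * hUU
  have hu4 : u ^ 4 = 1 + 4 * (u - 1) := by linear_combination (u ^ 2 + 2 * u + 3) * hUU
  have hu6 : u ^ 6 = 1 + 6 * (u - 1) := by
    linear_combination (u ^ 4 + 2 * u ^ 3 + 3 * u ^ 2 + 4 * u + 5) * hUU
  have h1 : W.a₁ * (u - 1) - 2 * S = 0 := by linear_combination -f1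
  have h2 : 2 * W.a₂ * (u - 1) - 3 * R + W.a₁ * S = 0 := by
    linear_combination -f2 - hSS - W.a₂ * hu2
  have h3 : 3 * W.a₃ * (u - 1) - W.a₁ * R - 2 * T = 0 := by
    linear_combination -f3 - W.a₃ * hu3
  have h4 : 4 * W.a₄ * (u - 1) - 2 * W.a₂ * R + W.a₃ * S + W.a₁ * T = 0 := by
    linear_combination -f4 - W.a₄ * hu4 - W.a₁ * hRS + 3 * hRR - 2 * hST
  have h6 : 6 * W.a₆ * (u - 1) - W.a₄ * R + W.a₃ * T = 0 := by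
    linear_combination -f6 - W.a₆ * hu6 + (W.a₂ + R) * hRR - hTT - W.a₁ * hRT
  have hU0 : u - 1 = 0 := by
    have := cert_U W (u - 1) R S T h1 h2 h3 h4 h6
    exact (hΔ.mul_right_eq_zero).mp this
  have hS0 : S = 0 := by
    have := cert_S W (u - 1) R S T h1 h2 h3 h4 h6
    exact (hΔ.mul_right_eq_zero).mp this
  have g2 : -3 * R = 0 := by linear_combination h2 - 2 * W.a₂ * hU0 - W.a₁ * hS0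
  have g3 : -W.a₁ * R - 2 * T = 0 := by linear_combination h3 - 3 * W.a₃ * hU0
  have g4 : -2 * W.a₂ * R + W.a₁ * T = 0 := by
    linear_combination h4 - 4 * W.a₄ * hU0 - W.a₃ * hS0
  have g6 : -W.a₄ * R + W.a₃ * T = 0 := by linear_combination h6 - 6 * W.a₆ * hU0
  have hR0 : R = 0 := by
    have := cert_R W R T g2 g3 g4 g6
    exact (hΔ.mul_right_eq_zero).mp this
  have hT0 : T = 0 := by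
    have := cert_T W R T g2 g3 g4 g6
    exact (hΔ.mul_right_eq_zero).mp this
  rw [VariableChange.one_def]
  ext
  · show (D.u : A) = ((1 : Aˣ) : A)
    rw [Units.val_one, ← hu_def]
    linear_combination hU0
  · show D.r = 0
    rw [← hR_def]; exact hR0
  · show D.s = 0
    rw [← hS_def]; exact hS0
  · show D.t = 0
    rw [← hT_def]; exact hT0

end Groth.Agent.Helper8.EllJ1
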