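import Mathlib
import Groth.Agent.Lib.Helper8.EllJ1
import Groth.Agent.Lib.Helper7.Hensel.FiniteDecompMain

/-!
# Elliptic Weierstrass cubics with the same `j` over a complete local domain with algebraically
closed residue field are related by a change of variables (S14286)

The scheme of isomorphisms is finite (integrality of `u, r, s, t`) and unramified
(`EllJ1.rigid`); over a henselian local ring with algebraically closed residue field a finite
unramified local domain extension is trivial (Nakayama twice).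
-/

namespace Groth.Agent.Helper8.EllJ2

open WeierstrassCurve Groth.Agent.Helper8.EllJ1

universe u

section Integral

variable {R Ω : Type*} [CommRing R] [CommRing Ω] [Algebra R Ω]

theorem isIntegral_of_monic_rel (x : Ω) (n : ℕ) (c : Fin n → Ω) (hc : ∀ i, IsIntegral R (c i))
    (h : x ^ n + ∑ i : Fin n, c i * x ^ (i : ℕ) = 0) : IsIntegral R x := by
  classical
  let c' : Fin n → integralClosure R Ω := fun i => ⟨c i, hc i⟩
  have hmonic : (Polynomial.X ^ n + ∑ i : Fin n, Polynomial.C (c' i) * Polynomial.X ^ (i : ℕ) :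
      Polynomial (integralClosure R Ω)).Monic :=
    Polynomial.monic_X_pow_add (Polynomial.degree_sum_fin_lt c')
  have hx : IsIntegral (integralClosure R Ω) x := by
    refine ⟨_, hmonic, ?_⟩
    rw [Polynomial.eval₂_add, Polynomial.eval₂_X_pow, Polynomial.eval₂_finsetSum]
    refine Eq.trans ?_ h
    congr 1
    refine Finset.sum_congr rfl fun i _ => ?_
    rw [Polynomial.eval₂_mul, Polynomial.eval₂_C, Polynomial.eval₂_X_pow]
    rfl
  exact isIntegral_trans x hx

theorem isIntegral_of_quartic (x c0 c1 c2 c3 : Ω) (h0 : IsIntegral R c0) (h1 : IsIntegral R c1)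
    (h2 : IsIntegral R c2) (h3 : IsIntegral R c3)
    (h : x ^ 4 + c3 * x ^ 3 + c2 * x ^ 2 + c1 * x + c0 = 0) : IsIntegral R x := by
  apply isIntegral_of_monic_rel x 4 ![c0, c1, c2, c3]
  · intro i
    fin_cases i
    · exact h0
    · exact h1
    · exact h2
    · exact h3
  · rw [Fin.sum_univ_four]
    simp
    linear_combination h

theorem isIntegral_of_quadratic (x c0 c1 : Ω) (h0 : IsIntegral R c0) (h1 : IsIntegral R c1)
    (h : x ^ 2 + c1 * x + c0 = 0) : IsIntegral R x := by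
  apply isIntegral_of_monic_rel x 2 ![c0, c1]
  · intro i
    fin_cases i
    · exact h0
    · exact h1
  · rw [Fin.sum_univ_two]
    simp
    linear_combination h

theorem integral_comps (W₁ W₂ : WeierstrassCurve R) [W₁.IsElliptic] [W₂.IsElliptic]
    (C : VariableChange Ω)
    (hC : C • W₁.map (algebraMap R Ω) = W₂.map (algebraMap R Ω)) :
    IsIntegral R (C.u : Ω) ∧ IsIntegral R ((C.u⁻¹ : Ωˣ) : Ω) ∧ IsIntegral R C.r ∧
      IsIntegral R C.s ∧ IsIntegral R C.t := by
  have hΔ := mul_Δ _ _ C hC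
  rw [WeierstrassCurve.map_Δ, WeierstrassCurve.map_Δ] at hΔ
  obtain ⟨e1, he1⟩ : ∃ e1 : R, W₁.Δ * e1 = 1 := by
    obtain ⟨d, hd⟩ := W₁.isUnit_Δ
    exact ⟨((d⁻¹ : Rˣ) : R), by rw [← hd, Units.mul_inv]⟩
  obtain ⟨e2, he2⟩ : ∃ e2 : R, W₂.Δ * e2 = 1 := by
    obtain ⟨d, hd⟩ := W₂.isUnit_Δ
    exact ⟨((d⁻¹ : Rˣ) : R), by rw [← hd, Units.mul_inv]⟩
  have hu12 : (C.u : Ω) ^ 12 = algebraMap R Ω (W₁.Δ * e2) := by
    rw [map_mul, hΔ, mul_assoc, ← map_mul, he2, map_one, mul_one]
  have hv12 : ((C.u⁻¹ : Ωˣ) : Ω) ^ 12 = algebraMap R Ω (W₂.Δ * e1) := by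
    have h1 : ((C.u⁻¹ : Ωˣ) : Ω) ^ 12 * algebraMap R Ω W₁.Δ = algebraMap R Ω W₂.Δ := by
      rw [hΔ, ← mul_assoc, ← mul_pow, Units.inv_mul, one_pow, one_mul]
    rw [map_mul, ← h1, mul_assoc, ← map_mul, he1, map_one, mul_one]
  have hu : IsIntegral R (C.u : Ω) :=
    IsIntegral.of_pow (n := 12) (by norm_num) (by rw [hu12]; exact isIntegral_algebraMap)
  have hv : IsIntegral R ((C.u⁻¹ : Ωˣ) : Ω) :=
    IsIntegral.of_pow (n := 12) (by norm_num) (by rw [hv12]; exact isIntegral_algebraMap)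
  have P6 := mul_b₆ _ _ C hC
  have P8 := mul_b₈ _ _ C hC
  have P2 := mul_a₂ _ _ C hC
  have P6a := mul_a₆ _ _ C hC
  have ia : ∀ a : R, IsIntegral R (algebraMap R Ω a) := fun a => isIntegral_algebraMap
  have hr : IsIntegral R C.r := by
    apply isIntegral_of_quartic C.r
      ((C.u : Ω) ^ 8 * (W₂.map (algebraMap R Ω)).b₈ - (W₁.map (algebraMap R Ω)).b₈)
      (-((W₁.map (algebraMap R Ω)).b₆ + (W₁.map (algebraMap R Ω)).b₆ +
        (C.u : Ω) ^ 6 * (W₂.map (algebraMap R Ω)).b₆))
      (-(W₁.map (algebraMap R Ω)).b₄) 0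
    · refine ((hu.pow 8).mul ?_).sub ?_
      · rw [WeierstrassCurve.map_b₈]; exact ia _
      · rw [WeierstrassCurve.map_b₈]; exact ia _
    · refine ((IsIntegral.add ?_ ?_).add ((hu.pow 6).mul ?_)).neg
      · rw [WeierstrassCurve.map_b₆]; exact ia _
      · rw [WeierstrassCurve.map_b₆]; exact ia _
      · rw [WeierstrassCurve.map_b₆]; exact ia _
    · refine IsIntegral.neg ?_
      rw [WeierstrassCurve.map_b₄]; exact ia _
    · exact isIntegral_zero
    · linear_combination C.r * P6 - P8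
  have hs : IsIntegral R C.s := by
    apply isIntegral_of_quadratic C.s
      ((C.u : Ω) ^ 2 * (W₂.map (algebraMap R Ω)).a₂ - (W₁.map (algebraMap R Ω)).a₂ -
        (C.r + C.r + C.r))
      ((W₁.map (algebraMap R Ω)).a₁)
    · refine (((hu.pow 2).mul ?_).sub ?_).sub ((hr.add hr).add hr)
      · rw [WeierstrassCurve.map_a₂]; exact ia _
      · rw [WeierstrassCurve.map_a₂]; exact ia _
    · rw [WeierstrassCurve.map_a₁]; exact ia _
    · linear_combination -P2
  have ht : IsIntegral R C.t := by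
    apply isIntegral_of_quadratic C.t
      ((C.u : Ω) ^ 6 * (W₂.map (algebraMap R Ω)).a₆ - (W₁.map (algebraMap R Ω)).a₆ -
        C.r * (W₁.map (algebraMap R Ω)).a₄ - C.r ^ 2 * (W₁.map (algebraMap R Ω)).a₂ - C.r ^ 3)
      ((W₁.map (algebraMap R Ω)).a₃ + C.r * (W₁.map (algebraMap R Ω)).a₁)
    · refine (((((hu.pow 6).mul ?_).sub ?_).sub (hr.mul ?_)).sub ((hr.pow 2).mul ?_)).sub (hr.pow 3)
      · rw [WeierstrassCurve.map_a₆]; exact ia _
      · rw [WeierstrassCurve.map_a₆]; exact ia _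
      · rw [WeierstrassCurve.map_a₄]; exact ia _
      · rw [WeierstrassCurve.map_a₂]; exact ia _
    · refine IsIntegral.add ?_ (hr.mul ?_)
      · rw [WeierstrassCurve.map_a₃]; exact ia _
      · rw [WeierstrassCurve.map_a₁]; exact ia _
    · linear_combination -P6a
  exact ⟨hu, hv, hr, hs, ht⟩

end Integral

section Descend

theorem descend (R : Type u) [CommRing R] [IsNoetherianRing R] [HenselianLocalRing R]
    [IsAlgClosed (IsLocalRing.ResidueField R)]
    (S : Type u) [CommRing S] [IsDomain S] [Algebra R S] [Module.Finite R S]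
    (hinj : Function.Injective (algebraMap R S))
    (W₁ W₂ : WeierstrassCurve R) [W₁.IsElliptic] [W₂.IsElliptic]
    (C : VariableChange S)
    (hC : C • W₁.map (algebraMap R S) = W₂.map (algebraMap R S))
    (hgen : ∀ P : S → Prop, P (C.u : S) → P ((C.u⁻¹ : Sˣ) : S) → P C.r → P C.s → P C.t →
      (∀ a, P (algebraMap R S a)) → (∀ x y, P x → P y → P (x + y)) →
      (∀ x y, P x → P y → P (x * y)) → ∀ b, P b) :
    ∃ C' : VariableChange R, C' • W₁ = W₂ := by
  classical
  -- S is local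
  haveI hSloc : IsLocalRing S := by
    obtain ⟨M, hM⟩ := Ideal.exists_maximal S
    refine IsLocalRing.of_unique_max_ideal ⟨M, hM, fun M' hM' => ?_⟩
    by_contra hne
    haveI := hM
    haveI := hM'
    obtain ⟨e, he, he1, he2⟩ :=
      Groth.Agent.Helper7.Hensel.exists_idempotent_mem_of_ne R S M' M hne
    rcases IsIdempotentElem.iff_eq_zero_or_one.mp he with h0 | h1
    · rw [h0, sub_zero] at he2
      exact hM.ne_top ((Ideal.eq_top_iff_one _).mpr he2)
    · rw [h1] at he1
      exact hM'.ne_top ((Ideal.eq_top_iff_one _).mpr he1)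
  obtain ⟨n, hn_def⟩ : ∃ n : Ideal S, n = IsLocalRing.maximalIdeal S := ⟨_, rfl⟩
  obtain ⟨m, hm_def⟩ : ∃ m : Ideal R, m = IsLocalRing.maximalIdeal R := ⟨_, rfl⟩
  haveI hnmax : n.IsMaximal := by
    rw [hn_def]; exact IsLocalRing.maximalIdeal.isMaximal S
  have hcomap : n.comap (algebraMap R S) = m := by
    rw [hm_def]
    exact IsLocalRing.eq_maximalIdeal (Ideal.isMaximal_comap_of_isIntegral_of_isMaximal n)
  have hmem_m : ∀ a : R, algebraMap R S a ∈ n ↔ a ∈ m := fun a => by
    rw [← hcomap]; exact Ideal.mem_comap.symm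
  -- residue approximations
  have happrox : ∀ b : S, ∃ a : R, b - algebraMap R S a ∈ n := by
    have hψ : ∀ a ∈ IsLocalRing.maximalIdeal R,
        ((Ideal.Quotient.mk n).comp (algebraMap R S)) a = 0 := fun a ha => by
      show Ideal.Quotient.mk n (algebraMap R S a) = 0
      rw [Ideal.Quotient.eq_zero_iff_mem, hmem_m, hm_def]; exact ha
    let ψ' : IsLocalRing.ResidueField R →+* S ⧸ n :=
      Ideal.Quotient.lift _ ((Ideal.Quotient.mk n).comp (algebraMap R S)) hψ
    have e : ψ'.comp (IsLocalRing.residue R) = (Ideal.Quotient.mk n).comp (algebraMap R S) :=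
      RingHom.ext fun a => rfl
    have hint : ψ'.IsIntegral := by
      intro y
      obtain ⟨b, rfl⟩ := Ideal.Quotient.mk_surjective y
      obtain ⟨p, hp, hpb⟩ := Algebra.IsIntegral.isIntegral (R := R) b
      refine ⟨p.map (IsLocalRing.residue R), hp.map _, ?_⟩
      rw [Polynomial.eval₂_map, e, ← Polynomial.hom_eval₂, hpb, map_zero]
    have hbij := IsAlgClosed.ringHom_bijective_of_isIntegral ψ' hint
    intro b
    obtain ⟨x, hx⟩ := hbij.2 (Ideal.Quotient.mk n b)
    obtain ⟨a, rfl⟩ := IsLocalRing.residue_surjective x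
    refine ⟨a, ?_⟩
    rw [← Ideal.Quotient.eq]
    exact hx.symm
  obtain ⟨u0, hu0⟩ := happrox (C.u : S)
  obtain ⟨r0, hr0⟩ := happrox C.r
  obtain ⟨s0, hs0⟩ := happrox C.s
  obtain ⟨t0, ht0⟩ := happrox C.t
  have hu0unit : IsUnit u0 := by
    rw [← IsLocalRing.notMem_maximalIdeal, ← hm_def, ← hmem_m]
    intro hmem
    have h1 : (C.u : S) ∈ n := by
      have := n.add_mem hu0 hmem
      rwa [sub_add_cancel] at this
    exact hnmax.ne_top (Ideal.eq_top_of_isUnit_mem _ h1 C.u.isUnit)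
  obtain ⟨u0', hu0'⟩ := hu0unit
  obtain ⟨C0, hC0_def⟩ : ∃ C0 : VariableChange R, C0 = ⟨u0', r0, s0, t0⟩ := ⟨_, rfl⟩
  obtain ⟨πn, hπn⟩ : ∃ πn : S →+* S ⧸ n, πn = Ideal.Quotient.mk n := ⟨_, rfl⟩
  obtain ⟨ψ, hψ_def⟩ : ∃ ψ : R →+* S ⧸ n, ψ = πn.comp (algebraMap R S) := ⟨_, rfl⟩
  have hC0n : C0.map ψ = C.map πn := by
    rw [hC0_def, hψ_def, hπn]
    ext
    · show Ideal.Quotient.mk n (algebraMap R S (u0' : R)) = Ideal.Quotient.mk n (C.u : S)
      rw [hu0']
      exact (Ideal.Quotient.eq.mpr hu0).symm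
    · show Ideal.Quotient.mk n (algebraMap R S r0) = Ideal.Quotient.mk n C.r
      exact (Ideal.Quotient.eq.mpr hr0).symm
    · show Ideal.Quotient.mk n (algebraMap R S s0) = Ideal.Quotient.mk n C.s
      exact (Ideal.Quotient.eq.mpr hs0).symm
    · show Ideal.Quotient.mk n (algebraMap R S t0) = Ideal.Quotient.mk n C.t
      exact (Ideal.Quotient.eq.mpr ht0).symm
  have hmodn : (C0 • W₁).map ψ = W₂.map ψ := by
    rw [← WeierstrassCurve.map_variableChange, hC0n]
    have h1 : W₁.map ψ = (W₁.map (algebraMap R S)).map πn := by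
      rw [WeierstrassCurve.map_map, hψ_def]
    have h2 : W₂.map ψ = (W₂.map (algebraMap R S)).map πn := by
      rw [WeierstrassCurve.map_map, hψ_def]
    rw [h1, h2, WeierstrassCurve.map_variableChange, hC]
  have hker : ∀ a b : R, ψ a = ψ b → a - b ∈ m := fun a b hab => by
    rw [← hmem_m, map_sub]
    rw [hψ_def, hπn] at hab
    exact Ideal.Quotient.eq.mp hab
  -- the square-zero quotient
  obtain ⟨J, hJ_def⟩ : ∃ J : Ideal S, J = m.map (algebraMap R S) ⊔ n * n := ⟨_, rfl⟩
  have hmJ : m.map (algebraMap R S) ≤ J := by rw [hJ_def]; exact le_sup_left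
  have hnnJ : n * n ≤ J := by rw [hJ_def]; exact le_sup_right
  have hmn : m.map (algebraMap R S) ≤ n := by
    rw [Ideal.map_le_iff_le_comap, hcomap]
  have hJn : J ≤ n := by
    rw [hJ_def]; exact sup_le hmn Ideal.mul_le_right
  obtain ⟨πJ, hπJ⟩ : ∃ πJ : S →+* S ⧸ J, πJ = Ideal.Quotient.mk J := ⟨_, rfl⟩
  obtain ⟨ρ, hρ_def⟩ : ∃ ρ : R →+* S ⧸ J, ρ = πJ.comp (algebraMap R S) := ⟨_, rfl⟩
  have hρ : ∀ a b : R, a - b ∈ m → ρ a = ρ b := fun a b hab => by
    rw [hρ_def, hπJ]
    show Ideal.Quotient.mk J (algebraMap R S a) = Ideal.Quotient.mk J (algebraMap R S b)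
    rw [Ideal.Quotient.eq, ← map_sub]
    exact hmJ (Ideal.mem_map_of_mem _ hab)
  have hmodJ : (C0 • W₁).map ρ = W₂.map ρ := by
    ext
    · rw [WeierstrassCurve.map_a₁, WeierstrassCurve.map_a₁]
      refine hρ _ _ (hker _ _ ?_)
      have := congrArg WeierstrassCurve.a₁ hmodn
      rwa [WeierstrassCurve.map_a₁, WeierstrassCurve.map_a₁] at this
    · rw [WeierstrassCurve.map_a₂, WeierstrassCurve.map_a₂]
      refine hρ _ _ (hker _ _ ?_)
      have := congrArg WeierstrassCurve.a₂ hmodn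
      rwa [WeierstrassCurve.map_a₂, WeierstrassCurve.map_a₂] at this
    · rw [WeierstrassCurve.map_a₃, WeierstrassCurve.map_a₃]
      refine hρ _ _ (hker _ _ ?_)
      have := congrArg WeierstrassCurve.a₃ hmodn
      rwa [WeierstrassCurve.map_a₃, WeierstrassCurve.map_a₃] at this
    · rw [WeierstrassCurve.map_a₄, WeierstrassCurve.map_a₄]
      refine hρ _ _ (hker _ _ ?_)
      have := congrArg WeierstrassCurve.a₄ hmodn
      rwa [WeierstrassCurve.map_a₄, WeierstrassCurve.map_a₄] at this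
    · rw [WeierstrassCurve.map_a₆, WeierstrassCurve.map_a₆]
      refine hρ _ _ (hker _ _ ?_)
      have := congrArg WeierstrassCurve.a₆ hmodn
      rwa [WeierstrassCurve.map_a₆, WeierstrassCurve.map_a₆] at this
  have hC0J : C0.map ρ • W₁.map ρ = W₂.map ρ := by
    rw [WeierstrassCurve.map_variableChange, hmodJ]
  have hCJ : C.map πJ • W₁.map ρ = W₂.map ρ := by
    have h1 : W₁.map ρ = (W₁.map (algebraMap R S)).map πJ := by
      rw [WeierstrassCurve.map_map, hρ_def]
    have h2 : W₂.map ρ = (W₂.map (algebraMap R S)).map πJ := by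
      rw [WeierstrassCurve.map_map, hρ_def]
    rw [h1, h2, WeierstrassCurve.map_variableChange, hC]
  obtain ⟨D, hD_def⟩ : ∃ D : VariableChange (S ⧸ J), D = (C0.map ρ)⁻¹ * C.map πJ := ⟨_, rfl⟩
  have hDfix : D • W₁.map ρ = W₁.map ρ := by
    rw [hD_def, mul_smul, hCJ, ← hC0J, inv_smul_smul]
  obtain ⟨q, hq_def⟩ : ∃ q : S ⧸ J →+* S ⧸ n, q = Ideal.Quotient.factor hJn := ⟨_, rfl⟩
  have hqπ : ∀ x, q (πJ x) = πn x := fun x => by
    rw [hq_def, hπJ, hπn]; exact Ideal.Quotient.factor_mk hJn x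
  have hqρ : q.comp ρ = ψ := RingHom.ext fun a => by
    rw [hρ_def, hψ_def]; exact hqπ _
  have hqπJ : q.comp πJ = πn := RingHom.ext hqπ
  have hDq : D.map q = 1 := by
    have h1 : D.map q = ((C0.map ρ).map q)⁻¹ * (C.map πJ).map q := by
      rw [hD_def]
      show VariableChange.mapHom q ((C0.map ρ)⁻¹ * C.map πJ) =
        (VariableChange.mapHom q (C0.map ρ))⁻¹ * VariableChange.mapHom q (C.map πJ)
      rw [map_mul, map_inv]
    rw [h1, VariableChange.map_map, VariableChange.map_map, hqρ, hqπJ, hC0n, inv_mul_cancel]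
  obtain ⟨I, hI_def⟩ : ∃ I : Ideal (S ⧸ J), I = n.map πJ := ⟨_, rfl⟩
  have hπJsurj : Function.Surjective πJ := by
    rw [hπJ]; exact Ideal.Quotient.mk_surjective
  have hkerq : ∀ x : S ⧸ J, q x = 0 → x ∈ I := fun x hx => by
    obtain ⟨x', rfl⟩ := hπJsurj x
    rw [hI_def]
    apply Ideal.mem_map_of_mem
    have h1 : πn x' = 0 := (hqπ x').symm.trans hx
    rw [hπn] at h1
    exact Ideal.Quotient.eq_zero_iff_mem.mp h1
  have hIsq : ∀ x ∈ I, ∀ y ∈ I, x * y = 0 := fun x hx y hy => by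
    rw [hI_def] at hx hy
    obtain ⟨x', hx', rfl⟩ := (Ideal.mem_map_iff_of_surjective πJ hπJsurj).mp hx
    obtain ⟨y', hy', rfl⟩ := (Ideal.mem_map_iff_of_surjective πJ hπJsurj).mp hy
    rw [← map_mul, hπJ]
    exact Ideal.Quotient.eq_zero_iff_mem.mpr (hnnJ (Ideal.mul_mem_mul hx' hy'))
  have hDu : (D.u : S ⧸ J) - 1 ∈ I := hkerq _ (by
    have h1 := congrArg Units.val (congrArg VariableChange.u hDq)
    rw [map_sub, map_one, sub_eq_zero]
    exact h1)
  have hDr : D.r ∈ I := hkerq _ (congrArg VariableChange.r hDq)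
  have hDs : D.s ∈ I := hkerq _ (congrArg VariableChange.s hDq)
  have hDt : D.t ∈ I := hkerq _ (congrArg VariableChange.t hDq)
  have hΔJ : IsUnit (W₁.map ρ).Δ := by
    rw [WeierstrassCurve.map_Δ]; exact W₁.isUnit_Δ.map ρ
  have hD1 : D = 1 := rigid (W₁.map ρ) hΔJ D hDfix I hIsq hDu hDr hDs hDt
  have hCeq : C.map πJ = C0.map ρ := by
    have h1 : (C0.map ρ) * D = C.map πJ := by rw [hD_def, mul_inv_cancel_left]
    rw [← h1, hD1, mul_one]
  have hJu : (C.u : S) - algebraMap R S u0 ∈ J := by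
    have h1 := congrArg Units.val (congrArg VariableChange.u hCeq)
    rw [hC0_def, hρ_def, hπJ] at h1
    rw [← hu0']
    exact Ideal.Quotient.eq.mp h1
  have hJr : C.r - algebraMap R S r0 ∈ J := by
    have h1 := congrArg VariableChange.r hCeq
    rw [hC0_def, hρ_def, hπJ] at h1
    exact Ideal.Quotient.eq.mp h1
  have hJs : C.s - algebraMap R S s0 ∈ J := by
    have h1 := congrArg VariableChange.s hCeq
    rw [hC0_def, hρ_def, hπJ] at h1
    exact Ideal.Quotient.eq.mp h1
  have hJt : C.t - algebraMap R S t0 ∈ J := by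
    have h1 := congrArg VariableChange.t hCeq
    rw [hC0_def, hρ_def, hπJ] at h1
    exact Ideal.Quotient.eq.mp h1
  have hall : ∀ b : S, ∃ a : R, b - algebraMap R S a ∈ J := by
    apply hgen (fun b => ∃ a : R, b - algebraMap R S a ∈ J)
    · exact ⟨u0, hJu⟩
    · refine ⟨((u0'⁻¹ : Rˣ) : R), ?_⟩
      have h1 : (C.u : S) * ((C.u⁻¹ : Sˣ) : S) = 1 := Units.mul_inv _
      have h2 : algebraMap R S u0 * algebraMap R S ((u0'⁻¹ : Rˣ) : R) = 1 := by
        rw [← map_mul, ← hu0', Units.mul_inv, map_one]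
      have e : ((C.u⁻¹ : Sˣ) : S) - algebraMap R S ((u0'⁻¹ : Rˣ) : R) =
          -(((C.u⁻¹ : Sˣ) : S) * algebraMap R S ((u0'⁻¹ : Rˣ) : R)) *
            ((C.u : S) - algebraMap R S u0) := by
        linear_combination (algebraMap R S ((u0'⁻¹ : Rˣ) : R)) * h1 - ((C.u⁻¹ : Sˣ) : S) * h2
      rw [e]
      exact J.mul_mem_left _ hJu
    · exact ⟨r0, hJr⟩
    · exact ⟨s0, hJs⟩
    · exact ⟨t0, hJt⟩
    · intro a
      exact ⟨a, by rw [sub_self]; exact J.zero_mem⟩
    · intro x y hx hy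
      obtain ⟨a, ha⟩ := hx
      obtain ⟨b, hb⟩ := hy
      refine ⟨a + b, ?_⟩
      have e : x + y - algebraMap R S (a + b) =
          (x - algebraMap R S a) + (y - algebraMap R S b) := by
        rw [map_add]; ring
      rw [e]
      exact J.add_mem ha hb
    · intro x y hx hy
      obtain ⟨a, ha⟩ := hx
      obtain ⟨b, hb⟩ := hy
      refine ⟨a * b, ?_⟩
      have e : x * y - algebraMap R S (a * b) =
          x * (y - algebraMap R S b) + algebraMap R S b * (x - algebraMap R S a) := by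
        rw [map_mul]; ring
      rw [e]
      exact J.add_mem (J.mul_mem_left _ hb) (J.mul_mem_left _ ha)
  have hnJ : n ≤ J := fun b hb => by
    obtain ⟨a, ha⟩ := hall b
    have h1 : algebraMap R S a ∈ n := by
      have := n.sub_mem hb (hJn ha)
      rwa [sub_sub_cancel] at this
    have h2 : algebraMap R S a ∈ J := hmJ (Ideal.mem_map_of_mem _ ((hmem_m a).mp h1))
    have := J.add_mem ha h2
    rwa [sub_add_cancel] at this
  haveI : IsNoetherianRing S := IsNoetherianRing.of_finite R S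
  have hn_le : n ≤ m.map (algebraMap R S) := by
    apply Submodule.le_of_le_smul_of_le_jacobson_bot (I := n) (N := m.map (algebraMap R S))
      (N' := n)
    · exact IsNoetherian.noetherian n
    · rw [IsLocalRing.jacobson_eq_maximalIdeal ⊥ bot_ne_top, hn_def]
    · rw [Ideal.smul_eq_mul, ← hJ_def]
      exact hnJ
  have hsurj : Function.Surjective (algebraMap R S) := by
    have htop : (⊤ : Submodule R S) ≤ LinearMap.range (Algebra.linearMap R S) := by
      apply Submodule.le_of_le_smul_of_le_jacobson_bot (I := m)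
      · exact Module.Finite.fg_top
      · rw [IsLocalRing.jacobson_eq_maximalIdeal ⊥ bot_ne_top, hm_def]
      · intro b _
        obtain ⟨a, ha⟩ := hall b
        have h1 : b - algebraMap R S a ∈ m.map (algebraMap R S) := hn_le (hJn ha)
        have h2 : b - algebraMap R S a ∈ (m • ⊤ : Submodule R S) := by
          rw [Ideal.smul_top_eq_map]; exact h1
        have e : b = algebraMap R S a + (b - algebraMap R S a) := by ring
        rw [e]
        exact Submodule.add_mem_sup ⟨a, rfl⟩ h2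
    intro b
    obtain ⟨a, ha⟩ := htop (Submodule.mem_top : b ∈ ⊤)
    exact ⟨a, ha⟩
  obtain ⟨u1, hu1⟩ := hsurj (C.u : S)
  obtain ⟨v1, hv1⟩ := hsurj ((C.u⁻¹ : Sˣ) : S)
  obtain ⟨r1, hr1⟩ := hsurj C.r
  obtain ⟨s1, hs1⟩ := hsurj C.s
  obtain ⟨t1, ht1⟩ := hsurj C.t
  have huv : u1 * v1 = 1 := hinj (by rw [map_mul, hu1, hv1, Units.mul_inv, map_one])
  have hvu : v1 * u1 = 1 := by rw [mul_comm]; exact huv
  have hC' : (⟨⟨u1, v1, huv, hvu⟩, r1, s1, t1⟩ : VariableChange R).map (algebraMap R S) = C := by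
    ext
    · exact hu1
    · exact hr1
    · exact hs1
    · exact ht1
  refine ⟨⟨⟨u1, v1, huv, hvu⟩, r1, s1, t1⟩, WeierstrassCurve.map_injective hinj ?_⟩
  show ((⟨⟨u1, v1, huv, hvu⟩, r1, s1, t1⟩ : VariableChange R) • W₁).map (algebraMap R S) =
    W₂.map (algebraMap R S)
  rw [← WeierstrassCurve.map_variableChange, hC', hC]

end Descend

section Main

theorem main_aux (R : Type u) [CommRing R] [IsNoetherianRing R] [HenselianLocalRing R]
    [IsAlgClosed (IsLocalRing.ResidueField R)]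
    (Ω : Type u) [Field Ω] [Algebra R Ω] (hφinj : Function.Injective (algebraMap R Ω))
    (W₁ W₂ : WeierstrassCurve R) [W₁.IsElliptic] [W₂.IsElliptic]
    (C : VariableChange Ω)
    (hC : C • W₁.map (algebraMap R Ω) = W₂.map (algebraMap R Ω)) :
    ∃ C' : VariableChange R, C' • W₁ = W₂ := by
  classical
  obtain ⟨iu, iv, ir, is, it⟩ := integral_comps W₁ W₂ C hC
  obtain ⟨gens, hgens⟩ :
      ∃ g : Set Ω, g = {(C.u : Ω), ((C.u⁻¹ : Ωˣ) : Ω), C.r, C.s, C.t} := ⟨_, rfl⟩
  have hfin : gens.Finite := by rw [hgens]; exact Set.toFinite _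
  have hgmem : ∀ x ∈ gens, x = (C.u : Ω) ∨ x = ((C.u⁻¹ : Ωˣ) : Ω) ∨ x = C.r ∨ x = C.s ∨
      x = C.t := by
    intro x hx
    rw [hgens] at hx
    simpa only [Set.mem_insert_iff, Set.mem_singleton_iff] using hx
  have hint : ∀ x ∈ gens, IsIntegral R x := by
    intro x hx
    rcases hgmem x hx with rfl | rfl | rfl | rfl | rfl <;> assumption
  haveI : Module.Finite R (Algebra.adjoin R gens) :=
    Module.Finite.iff_fg.mpr (fg_adjoin_of_finite hfin hint)
  have hu_mem : (C.u : Ω) ∈ Algebra.adjoin R gens :=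
    Algebra.subset_adjoin (by rw [hgens]; simp)
  have hv_mem : ((C.u⁻¹ : Ωˣ) : Ω) ∈ Algebra.adjoin R gens :=
    Algebra.subset_adjoin (by rw [hgens]; simp)
  have hr_mem : C.r ∈ Algebra.adjoin R gens := Algebra.subset_adjoin (by rw [hgens]; simp)
  have hs_mem : C.s ∈ Algebra.adjoin R gens := Algebra.subset_adjoin (by rw [hgens]; simp)
  have ht_mem : C.t ∈ Algebra.adjoin R gens := Algebra.subset_adjoin (by rw [hgens]; simp)
  obtain ⟨CS, hCS_def⟩ : ∃ CS : VariableChange (Algebra.adjoin R gens),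
      CS = ⟨⟨⟨(C.u : Ω), hu_mem⟩, ⟨((C.u⁻¹ : Ωˣ) : Ω), hv_mem⟩, Subtype.ext (Units.mul_inv _),
        Subtype.ext (Units.inv_mul _)⟩, ⟨C.r, hr_mem⟩, ⟨C.s, hs_mem⟩, ⟨C.t, ht_mem⟩⟩ := ⟨_, rfl⟩
  have hCSmap : CS.map (Algebra.adjoin R gens).val.toRingHom = C := by
    rw [hCS_def]
    ext <;> rfl
  have hvalinj : Function.Injective (Algebra.adjoin R gens).val.toRingHom :=
    Subtype.val_injective
  have hcomp : ((Algebra.adjoin R gens).val.toRingHom).comp
      (algebraMap R (Algebra.adjoin R gens)) = algebraMap R Ω := RingHom.ext fun _ => rfl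
  have hCS : CS • W₁.map (algebraMap R (Algebra.adjoin R gens)) =
      W₂.map (algebraMap R (Algebra.adjoin R gens)) := by
    apply WeierstrassCurve.map_injective hvalinj
    show (CS • W₁.map (algebraMap R (Algebra.adjoin R gens))).map
        (Algebra.adjoin R gens).val.toRingHom =
      (W₂.map (algebraMap R (Algebra.adjoin R gens))).map (Algebra.adjoin R gens).val.toRingHom
    rw [← WeierstrassCurve.map_variableChange, hCSmap, WeierstrassCurve.map_map,
      WeierstrassCurve.map_map, hcomp, hC]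
  have hinjS : Function.Injective (algebraMap R (Algebra.adjoin R gens)) := by
    intro a b hab
    apply hφinj
    exact congrArg Subtype.val hab
  apply descend R (Algebra.adjoin R gens) hinjS W₁ W₂ CS hCS
  intro P hPu hPv hPr hPs hPt hPa hPadd hPmul b
  have key : ∀ (x : Ω) (hx : x ∈ Algebra.adjoin R gens), P ⟨x, hx⟩ := by
    intro x hx
    refine Algebra.adjoin_induction (p := fun x hx => P ⟨x, hx⟩) ?_ ?_ ?_ ?_ hx
    · intro y hy
      rw [hCS_def] at hPu hPv hPr hPs hPt
      rcases hgmem y hy with rfl | rfl | rfl | rfl | rfl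
      · exact hPu
      · exact hPv
      · exact hPr
      · exact hPs
      · exact hPt
    · intro a
      exact hPa a
    · intro y z hy hz h1 h2
      exact hPadd _ _ h1 h2
    · intro y z hy hz h1 h2
      exact hPmul _ _ h1 h2
  exact key b.1 b.2

theorem main (R : Type u) [CommRing R] [IsDomain R]
    [IsNoetherianRing R] [IsLocalRing R] [IsAdicComplete (IsLocalRing.maximalIdeal R) R]
    [IsAlgClosed (IsLocalRing.ResidueField R)]
    (W₁ W₂ : WeierstrassCurve R) [W₁.IsElliptic] [W₂.IsElliptic] (hj : W₁.j = W₂.j) :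
    ∃ C : WeierstrassCurve.VariableChange R, C • W₁ = W₂ := by
  haveI : HenselianLocalRing R :=
    Groth.Agent.Helper7.Hensel.henselianLocalRing_of_henselianRing inferInstance
  have hφinj : Function.Injective
      (algebraMap R (AlgebraicClosure (FractionRing R))) := by
    rw [IsScalarTower.algebraMap_eq R (FractionRing R) (AlgebraicClosure (FractionRing R))]
    exact (algebraMap (FractionRing R) (AlgebraicClosure (FractionRing R))).injective.comp
      (IsFractionRing.injective R (FractionRing R))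
  obtain ⟨C, hC⟩ := WeierstrassCurve.exists_variableChange_of_j_eq
    (W₁.map (algebraMap R (AlgebraicClosure (FractionRing R))))
    (W₂.map (algebraMap R (AlgebraicClosure (FractionRing R))))
    (by rw [WeierstrassCurve.map_j, WeierstrassCurve.map_j, hj])
  exact main_aux R (AlgebraicClosure (FractionRing R)) hφinj W₁ W₂ C hC

end Main

end Groth.Agent.Helper8.EllJ2
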