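import Mathlib
import Groth.Agent.Lib.Helper8.EllJ2
import Groth.Agent.Lib.Helper4.DomDVR

/-!
# An elliptic curve over the fraction field of a DVR has integral `j` iff it has potential good
reduction (S0614)

`(⇐)`: `j = c₄³/Δ` of a good minimal model is integral, and `R_L ∩ K = R`.
`(⇒)`: Legendre form (2 a unit) or Deuring form (3 a unit) gives a curve with the same `j`,
integral coefficients and integral `Δ⁻¹` over a finite extension; Mathlib's
`exists_variableChange_of_j_eq` and a DVR of the extension dominating `R`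
(`Helper4.DomDVR.exists_dvr_finite`) finish.
-/

namespace Groth.Agent.Helper8.EllPG

open WeierstrassCurve Groth.Agent.Helper8.EllJ2

universe u

section Roots

variable {Ω : Type*} [Field Ω] [IsAlgClosed Ω]

theorem exists_root_monic (n : ℕ) (hn : 0 < n) (f : Fin n → Ω) :
    ∃ x : Ω, x ^ n + ∑ i : Fin n, f i * x ^ (i : ℕ) = 0 := by
  classical
  have hdeg : (Polynomial.X ^ n + ∑ i : Fin n, Polynomial.C (f i) * Polynomial.X ^ (i : ℕ) :
      Polynomial Ω).degree = n := by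
    rw [Polynomial.degree_add_eq_left_of_degree_lt, Polynomial.degree_X_pow]
    rw [Polynomial.degree_X_pow]
    exact Polynomial.degree_sum_fin_lt f
  obtain ⟨x, hx⟩ := IsAlgClosed.exists_root
    (Polynomial.X ^ n + ∑ i : Fin n, Polynomial.C (f i) * Polynomial.X ^ (i : ℕ) : Polynomial Ω)
    (by rw [hdeg]; exact_mod_cast hn.ne')
  refine ⟨x, ?_⟩
  rw [Polynomial.IsRoot.def, Polynomial.eval_add, Polynomial.eval_pow, Polynomial.eval_X,
    Polynomial.eval_finset_sum] at hx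
  refine Eq.trans ?_ hx
  congr 1
  refine Finset.sum_congr rfl fun i _ => ?_
  rw [Polynomial.eval_mul, Polynomial.eval_C, Polynomial.eval_pow, Polynomial.eval_X]

theorem exists_root_quadratic (c0 c1 : Ω) : ∃ x : Ω, x ^ 2 + c1 * x + c0 = 0 := by
  obtain ⟨x, hx⟩ := exists_root_monic 2 (by norm_num) ![c0, c1]
  refine ⟨x, ?_⟩
  rw [Fin.sum_univ_two] at hx
  simp at hx
  linear_combination hx

theorem exists_root_cubic (c0 c1 c2 : Ω) : ∃ x : Ω, x ^ 3 + c2 * x ^ 2 + c1 * x + c0 = 0 := by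
  obtain ⟨x, hx⟩ := exists_root_monic 3 (by norm_num) ![c0, c1, c2]
  refine ⟨x, ?_⟩
  rw [Fin.sum_univ_three] at hx
  simp at hx
  linear_combination hx

theorem exists_root_quartic (c0 c1 c2 c3 : Ω) :
    ∃ x : Ω, x ^ 4 + c3 * x ^ 3 + c2 * x ^ 2 + c1 * x + c0 = 0 := by
  obtain ⟨x, hx⟩ := exists_root_monic 4 (by norm_num) ![c0, c1, c2, c3]
  refine ⟨x, ?_⟩
  rw [Fin.sum_univ_four] at hx
  simp at hx
  linear_combination hx

end Roots

theorem j_mul_Δ {A : Type*} [CommRing A] (E : WeierstrassCurve A) [E.IsElliptic] :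
    E.j * E.Δ = E.c₄ ^ 3 := by
  have h : (↑E.Δ'⁻¹ : A) * E.Δ = 1 := by
    rw [← coe_Δ', Units.inv_mul]
  calc E.j * E.Δ = E.c₄ ^ 3 * ((↑E.Δ'⁻¹ : A) * E.Δ) := by rw [WeierstrassCurve.j]; ring
    _ = E.c₄ ^ 3 := by rw [h, mul_one]

section Easy

theorem integral_of_good {R : Type u} [CommRing R] [IsDomain R] [IsDiscreteValuationRing R]
    {K : Type u} [Field K] [Algebra R K] [IsFractionRing R K]
    (W : WeierstrassCurve K) [W.IsElliptic]
    (L : Type u) [Field L] [Algebra K L] (RL : Type u) [CommRing RL] [IsDomain RL]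
    [IsDiscreteValuationRing RL] [Algebra RL L] [IsFractionRing RL L] (φ : R →+* RL)
    [IsLocalHom φ]
    (hφ : ∀ r : R, algebraMap K L (algebraMap R K r) = algebraMap RL L (φ r))
    (hgood : ((W.baseChange L).minimal RL).HasGoodReduction RL) :
    ∃ r : R, algebraMap R K r = W.j := by
  classical
  haveI hWL : (W.map (algebraMap K L)).IsElliptic := inferInstance
  obtain ⟨C', hC'⟩ : ∃ C' : VariableChange L,
      (W.baseChange L).minimal RL = C' • (W.map (algebraMap K L)) := ⟨_, rfl⟩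
  rw [hC'] at hgood
  haveI hmin : IsMinimal RL (C' • (W.map (algebraMap K L))) := hgood.toIsMinimal
  obtain ⟨Wi, hWi⟩ : ∃ Wi : WeierstrassCurve RL,
      C' • (W.map (algebraMap K L)) = Wi.map (algebraMap RL L) :=
    (inferInstance : WeierstrassCurve.IsIntegral RL (C' • (W.map (algebraMap K L)))).integral
  have hval := hgood.goodReduction
  have hΔ : (C' • (W.map (algebraMap K L))).Δ = algebraMap RL L Wi.Δ := by
    rw [hWi, map_Δ]
  have hc : (C' • (W.map (algebraMap K L))).c₄ = algebraMap RL L Wi.c₄ := by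
    rw [hWi, map_c₄]
  have hjj : (C' • (W.map (algebraMap K L))).j = algebraMap K L W.j := by
    rw [variableChange_j, map_j]
  have hu : IsUnit Wi.Δ := by
    rw [← IsLocalRing.notMem_maximalIdeal]
    intro hmem
    have hlt := (IsDedekindDomain.HeightOneSpectrum.valuation_lt_one_iff_mem (K := L)
      (IsDiscreteValuationRing.maximalIdeal RL) Wi.Δ).mpr hmem
    rw [hΔ] at hval
    rw [hval] at hlt
    exact lt_irrefl _ hlt
  obtain ⟨d, hd⟩ := hu
  have hinj : Function.Injective (algebraMap RL L) := IsFractionRing.injective RL L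
  have hΔne : algebraMap RL L Wi.Δ ≠ 0 := by
    intro h0
    have : Wi.Δ = 0 := hinj (by rw [h0, map_zero])
    rw [← hd] at this
    exact d.ne_zero this
  -- z with image j
  have hz : algebraMap RL L (Wi.c₄ ^ 3 * ↑d⁻¹) = algebraMap K L W.j := by
    apply mul_right_cancel₀ hΔne
    have h1 := j_mul_Δ (C' • (W.map (algebraMap K L)))
    rw [hjj, hΔ, hc] at h1
    rw [h1, ← map_pow, ← map_mul, mul_assoc, ← hd, Units.inv_mul, mul_one]
  rcases ValuationRing.isInteger_or_isInteger R W.j with ⟨r, hr⟩ | ⟨r, hr⟩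
  · exact ⟨r, hr⟩
  · by_cases hj0 : W.j = 0
    · exact ⟨0, by rw [map_zero, hj0]⟩
    by_cases hru : IsUnit r
    · obtain ⟨ru, hru'⟩ := hru
      refine ⟨↑ru⁻¹, ?_⟩
      have h1 : algebraMap R K r * algebraMap R K ↑ru⁻¹ = 1 := by
        rw [← map_mul, ← hru', Units.mul_inv, map_one]
      have h2 : (algebraMap R K) r = W.j⁻¹ := hr
      rw [h2] at h1
      calc algebraMap R K ↑ru⁻¹ = W.j * (W.j⁻¹ * algebraMap R K ↑ru⁻¹) := by
            rw [← mul_assoc, mul_inv_cancel₀ hj0, one_mul]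
        _ = W.j := by rw [h1, mul_one]
    · exfalso
      apply hru
      have hur : IsUnit (φ r) := by
        refine IsUnit.of_mul_eq_one (Wi.c₄ ^ 3 * ↑d⁻¹) (hinj ?_)
        have h2 : (algebraMap R K) r = W.j⁻¹ := hr
        rw [map_mul, hz, ← hφ, h2, ← map_mul, inv_mul_cancel₀ hj0, map_one, map_one]
      exact IsLocalHom.map_nonunit r hur

end Easy

section Core

theorem core {R : Type u} [CommRing R] [IsDomain R] [IsDiscreteValuationRing R]
    {K : Type u} [Field K] [Algebra R K] [IsFractionRing R K]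
    (W : WeierstrassCurve K) [W.IsElliptic]
    (E₀ : WeierstrassCurve (AlgebraicClosure K)) [E₀.IsElliptic]
    (hj : E₀.j = algebraMap K (AlgebraicClosure K) W.j)
    (h1 : _root_.IsIntegral R E₀.a₁) (h2 : _root_.IsIntegral R E₀.a₂)
    (h3 : _root_.IsIntegral R E₀.a₃) (h4 : _root_.IsIntegral R E₀.a₄)
    (h6 : _root_.IsIntegral R E₀.a₆) (hΔ : _root_.IsIntegral R (E₀.Δ)⁻¹) :
    ∃ (L : Type u) (_ : Field L) (_ : Algebra K L) (_ : FiniteDimensional K L) (RL : Type u)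
        (_ : CommRing RL) (_ : IsDomain RL) (_ : IsDiscreteValuationRing RL) (_ : Algebra RL L)
        (_ : IsFractionRing RL L) (φ : R →+* RL), IsLocalHom φ ∧
        (∀ r : R, algebraMap K L (algebraMap R K r) = algebraMap RL L (φ r)) ∧
        ((W.baseChange L).minimal RL).HasGoodReduction RL := by
  classical
  obtain ⟨C, hC⟩ := exists_variableChange_of_j_eq
    (W.map (algebraMap K (AlgebraicClosure K))) E₀ (by rw [map_j, hj])
  obtain ⟨S, hS⟩ : ∃ S : Set (AlgebraicClosure K), S = {E₀.a₁, E₀.a₂, E₀.a₃, E₀.a₄, E₀.a₆,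
      (C.u : AlgebraicClosure K), C.r, C.s, C.t} := ⟨_, rfl⟩
  haveI : Finite S := by rw [hS]; exact Set.finite_coe_iff.mpr (Set.toFinite _)
  obtain ⟨L, hL⟩ : ∃ L : IntermediateField K (AlgebraicClosure K),
      L = IntermediateField.adjoin K S := ⟨_, rfl⟩
  haveI : FiniteDimensional K L := by
    rw [hL]
    exact IntermediateField.finiteDimensional_adjoin
      (fun x _ => Algebra.IsIntegral.isIntegral x)
  have hmem : ∀ x ∈ S, x ∈ L := fun x hx => by
    rw [hL]; exact IntermediateField.subset_adjoin K S hx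
  have m1 : E₀.a₁ ∈ L := hmem _ (by rw [hS]; simp)
  have m2 : E₀.a₂ ∈ L := hmem _ (by rw [hS]; simp)
  have m3 : E₀.a₃ ∈ L := hmem _ (by rw [hS]; simp)
  have m4 : E₀.a₄ ∈ L := hmem _ (by rw [hS]; simp)
  have m6 : E₀.a₆ ∈ L := hmem _ (by rw [hS]; simp)
  have mu : (C.u : AlgebraicClosure K) ∈ L := hmem _ (by rw [hS]; simp)
  have mr : C.r ∈ L := hmem _ (by rw [hS]; simp)
  have ms : C.s ∈ L := hmem _ (by rw [hS]; simp)
  have mt : C.t ∈ L := hmem _ (by rw [hS]; simp)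
  obtain ⟨V, hVdvr, hVR, hVm⟩ := Groth.Agent.Lib.Helper4.DomDVR.exists_dvr_finite R K
    (IsDiscreteValuationRing.not_isField R) L
  haveI := hVdvr
  obtain ⟨φ, hφ_def⟩ : ∃ φ : R →+* V, φ = (algebraMap R L).codRestrict V hVR := ⟨_, rfl⟩
  have hφval : ∀ r, ((φ r : V) : L) = algebraMap R L r := fun r => by rw [hφ_def]; rfl
  have hloc : IsLocalHom φ := by
    constructor
    intro a ha
    by_contra hna
    have h1' : a ∈ IsLocalRing.maximalIdeal R := hna
    have h2' := hVm a h1'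
    have h3' := (V.valuation_eq_one_iff (φ a)).mp ha
    rw [hφval] at h3'
    exact (ne_of_lt h2') h3'
  have hcomp : (algebraMap V L).comp φ = algebraMap R L :=
    RingHom.ext fun r => hφval r
  have memV : ∀ x : L, _root_.IsIntegral R x → x ∈ V := by
    intro x hx
    obtain ⟨p, hp, hpx⟩ := hx
    have hx' : _root_.IsIntegral V x := by
      refine ⟨p.map φ, hp.map _, ?_⟩
      rw [Polynomial.eval₂_map, hcomp]; exact hpx
    obtain ⟨y, hy⟩ := IsIntegrallyClosed.isIntegral_iff.mp hx'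
    rw [← hy]; exact y.2
  have hinjLΩ : Function.Injective (algebraMap L (AlgebraicClosure K)) :=
    (algebraMap L (AlgebraicClosure K)).injective
  haveI hST : IsScalarTower R L (AlgebraicClosure K) :=
    IsScalarTower.of_algebraMap_eq (fun r => rfl)
  have intL : ∀ (a : AlgebraicClosure K) (mem : a ∈ L), _root_.IsIntegral R a →
      (⟨a, mem⟩ : L) ∈ V := fun a mem ha =>
    memV _ ((isIntegral_algebraMap_iff hinjLΩ).mp ha)
  obtain ⟨Ei, hEi⟩ : ∃ Ei : WeierstrassCurve V, Ei = ⟨⟨⟨E₀.a₁, m1⟩, intL _ m1 h1⟩,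
      ⟨⟨E₀.a₂, m2⟩, intL _ m2 h2⟩, ⟨⟨E₀.a₃, m3⟩, intL _ m3 h3⟩, ⟨⟨E₀.a₄, m4⟩, intL _ m4 h4⟩,
      ⟨⟨E₀.a₆, m6⟩, intL _ m6 h6⟩⟩ := ⟨_, rfl⟩
  obtain ⟨EL, hEL⟩ : ∃ EL : WeierstrassCurve L, EL = ⟨⟨E₀.a₁, m1⟩, ⟨E₀.a₂, m2⟩, ⟨E₀.a₃, m3⟩,
      ⟨E₀.a₄, m4⟩, ⟨E₀.a₆, m6⟩⟩ := ⟨_, rfl⟩
  have hEiEL : Ei.map (algebraMap V L) = EL := by
    rw [hEi, hEL]; ext <;> rfl
  have hELΩ : EL.map (algebraMap L (AlgebraicClosure K)) = E₀ := by
    rw [hEL]; ext <;> rfl
  have hu0 : (⟨(C.u : AlgebraicClosure K), mu⟩ : L) ≠ 0 := fun h =>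
    C.u.ne_zero (congrArg Subtype.val h)
  obtain ⟨CL, hCL⟩ : ∃ CL : VariableChange L, CL = ⟨Units.mk0 ⟨(C.u : AlgebraicClosure K), mu⟩ hu0,
      ⟨C.r, mr⟩, ⟨C.s, ms⟩, ⟨C.t, mt⟩⟩ := ⟨_, rfl⟩
  have hCLΩ : CL.map (algebraMap L (AlgebraicClosure K)) = C := by
    rw [hCL]; ext <;> rfl
  have hcompK : (algebraMap L (AlgebraicClosure K)).comp (algebraMap K L) =
      algebraMap K (AlgebraicClosure K) :=
    (IsScalarTower.algebraMap_eq K L (AlgebraicClosure K)).symm
  have hCW : CL • (W.map (algebraMap K L)) = EL := by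
    apply WeierstrassCurve.map_injective hinjLΩ
    show (CL • W.map (algebraMap K L)).map (algebraMap L (AlgebraicClosure K)) =
      EL.map (algebraMap L (AlgebraicClosure K))
    rw [← map_variableChange, hCLΩ, hELΩ, WeierstrassCurve.map_map, hcompK, hC]
  have hΔΩ : algebraMap L (AlgebraicClosure K) EL.Δ = E₀.Δ := by
    rw [← map_Δ, hELΩ]
  have hΔL : EL.Δ ≠ 0 := by
    intro h0
    have : E₀.Δ = 0 := by rw [← hΔΩ, h0, map_zero]
    exact E₀.isUnit_Δ.ne_zero this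
  have hΔV : (EL.Δ)⁻¹ ∈ V := memV _ (by
    apply (isIntegral_algebraMap_iff hinjLΩ).mp
    rw [map_inv₀, hΔΩ]; exact hΔ)
  have hEiΔ : algebraMap V L Ei.Δ = EL.Δ := by rw [← hEiEL, map_Δ]
  have hunit : IsUnit Ei.Δ := by
    refine IsUnit.of_mul_eq_one (⟨(EL.Δ)⁻¹, hΔV⟩ : V) ?_
    apply Subtype.ext
    show algebraMap V L Ei.Δ * (EL.Δ)⁻¹ = 1
    rw [hEiΔ]; exact mul_inv_cancel₀ hΔL
  have hval : IsDedekindDomain.HeightOneSpectrum.valuation L
      (IsDiscreteValuationRing.maximalIdeal V) EL.Δ = 1 := by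
    rw [← hEiΔ]
    refine le_antisymm (IsDedekindDomain.HeightOneSpectrum.valuation_le_one _ _)
      (not_lt.mp fun hlt => ?_)
    have hmm := (IsDedekindDomain.HeightOneSpectrum.valuation_lt_one_iff_mem _ _).mp hlt
    exact (IsLocalRing.notMem_maximalIdeal.mpr hunit) hmm
  haveI hEint : WeierstrassCurve.IsIntegral V EL := ⟨⟨Ei, hEiEL.symm⟩⟩
  refine ⟨L, inferInstance, inferInstance, inferInstance, V, inferInstance, inferInstance,
    hVdvr, inferInstance, inferInstance, φ, hloc, ?_, ?_⟩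
  · intro r
    rw [← IsScalarTower.algebraMap_apply R K L]
    exact (hφval r).symm
  · obtain ⟨W', hW'⟩ : ∃ W' : WeierstrassCurve L, W' = (W.baseChange L).minimal V := ⟨_, rfl⟩
    rw [← hW']
    haveI hmin : IsMinimal V W' := by rw [hW']; infer_instance
    obtain ⟨C', hC'⟩ : ∃ C' : VariableChange L, W' = C' • (W.map (algebraMap K L)) :=
      ⟨_, hW'⟩
    rw [hasGoodReduction_iff]
    refine ⟨hmin, ?_⟩
    have hmax := hmin.val_Δ_maximal
    obtain ⟨D, hD⟩ : ∃ D : VariableChange L, D = CL * C'⁻¹ := ⟨_, rfl⟩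
    have hDW : D • W' = EL := by rw [hD, hC', mul_smul, inv_smul_smul, hCW]
    haveI hPD : WeierstrassCurve.IsIntegral V (D • W') := by rw [hDW]; exact hEint
    have hfD : ((valuation_Δ_aux V (D • W') : { v : WithZero (Multiplicative ℤ) // v ≤ 1 }) :
        WithZero (Multiplicative ℤ)) = 1 := by
      rw [valuation_Δ_aux_eq_of_isIntegral, hDW, hval]
    have h1W : (1 : VariableChange L) • W' = W' := one_smul _ _
    have hle : valuation_Δ_aux V ((1 : VariableChange L) • W') ≤ valuation_Δ_aux V (D • W') := by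
      show ((valuation_Δ_aux V ((1 : VariableChange L) • W') :
        { v : WithZero (Multiplicative ℤ) // v ≤ 1 }) : WithZero (Multiplicative ℤ)) ≤ _
      rw [hfD]; exact (valuation_Δ_aux V _).2
    have hge := hmax.2 hPD hle
    have h1le : (1 : WithZero (Multiplicative ℤ)) ≤
        ((valuation_Δ_aux V ((1 : VariableChange L) • W') :
          { v : WithZero (Multiplicative ℤ) // v ≤ 1 }) : WithZero (Multiplicative ℤ)) := by
      have hge' : ((valuation_Δ_aux V (D • W') : { v : WithZero (Multiplicative ℤ) // v ≤ 1 }) :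
          WithZero (Multiplicative ℤ)) ≤
          ((valuation_Δ_aux V ((1 : VariableChange L) • W') :
            { v : WithZero (Multiplicative ℤ) // v ≤ 1 }) : WithZero (Multiplicative ℤ)) := hge
      calc (1 : WithZero (Multiplicative ℤ)) = _ := hfD.symm
        _ ≤ _ := hge'
    rw [h1W, valuation_Δ_aux_eq_of_isIntegral] at h1le
    refine le_antisymm ?_ h1le
    rw [← valuation_Δ_aux_eq_of_isIntegral]
    exact (valuation_Δ_aux V W').2

end Core

section Cases

variable {R : Type u} [CommRing R] [IsDomain R] [IsDiscreteValuationRing R]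
  {K : Type u} [Field K] [Algebra R K] [IsFractionRing R K]

theorem caseA (W : WeierstrassCurve K) [W.IsElliptic] (j₀ : R) (hj₀ : algebraMap R K j₀ = W.j)
    (h2u : IsUnit (2 : R)) :
    ∃ (L : Type u) (_ : Field L) (_ : Algebra K L) (_ : FiniteDimensional K L) (RL : Type u)
        (_ : CommRing RL) (_ : IsDomain RL) (_ : IsDiscreteValuationRing RL) (_ : Algebra RL L)
        (_ : IsFractionRing RL L) (φ : R →+* RL), IsLocalHom φ ∧
        (∀ r : R, algebraMap K L (algebraMap R K r) = algebraMap RL L (φ r)) ∧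
        ((W.baseChange L).minimal RL).HasGoodReduction RL := by
  classical
  obtain ⟨w2, hw2⟩ := h2u
  obtain ⟨i2, hi2⟩ : ∃ i2 : R, (2 : R) * i2 = 1 := ⟨↑w2⁻¹, by rw [← hw2, Units.mul_inv]⟩
  obtain ⟨ι, hι⟩ : ∃ ι : R →+* AlgebraicClosure K, ι = algebraMap R (AlgebraicClosure K) :=
    ⟨_, rfl⟩
  have iι : ∀ r : R, _root_.IsIntegral R (ι r) := fun r => by
    rw [hι]; exact isIntegral_algebraMap
  obtain ⟨c, hc⟩ : ∃ c : R, c = j₀ * i2 ^ 8 := ⟨_, rfl⟩
  have h2i : (2 : AlgebraicClosure K) * ι i2 = 1 := by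
    rw [← map_ofNat ι 2, ← map_mul, hi2, map_one]
  have hc256 : (256 : AlgebraicClosure K) * ι c = ι j₀ := by
    rw [hc, map_mul, map_pow]
    calc (256 : AlgebraicClosure K) * (ι j₀ * ι i2 ^ 8) = ι j₀ * (2 * ι i2) ^ 8 := by ring
      _ = ι j₀ := by rw [h2i, one_pow, mul_one]
  obtain ⟨s, hs⟩ := exists_root_cubic (Ω := AlgebraicClosure K) (ι 1) (ι 3) (ι (3 - c))
  obtain ⟨l, hl⟩ := exists_root_quadratic (Ω := AlgebraicClosure K) (-s) (ι (-1))
  have hs' : s ^ 3 + (3 - ι c) * s ^ 2 + 3 * s + 1 = 0 := by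
    rw [map_sub, map_one, map_ofNat] at hs
    linear_combination hs
  have hl' : l ^ 2 - l - s = 0 := by
    rw [map_neg, map_one] at hl
    linear_combination hl
  have hs0 : s ≠ 0 := by
    intro h0
    rw [h0] at hs'
    norm_num at hs'
  have h20 : (2 : AlgebraicClosure K) ≠ 0 := by
    intro h0
    rw [h0, zero_mul] at h2i
    exact zero_ne_one h2i
  obtain ⟨σ, hσ⟩ : ∃ σ : AlgebraicClosure K, σ = s⁻¹ := ⟨_, rfl⟩
  have hsσ : s * σ = 1 := by rw [hσ]; exact mul_inv_cancel₀ hs0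
  have hσeq : σ ^ 3 + 3 * σ ^ 2 + (3 - ι c) * σ + 1 = 0 := by
    linear_combination σ ^ 3 * hs' - ((s ^ 2 * σ ^ 2 + s * σ + 1) + (3 - ι c) * σ * (s * σ + 1) +
      3 * σ ^ 2) * hsσ
  -- integrality
  have is : _root_.IsIntegral R s := by
    apply isIntegral_of_quartic s 0 (ι 1) (ι 3) (ι (3 - c)) isIntegral_zero (iι _) (iι _) (iι _)
    linear_combination s * hs
  have il : _root_.IsIntegral R l := by
    apply isIntegral_of_quadratic l (-s) (ι (-1)) is.neg (iι _)
    linear_combination hl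
  have iσ : _root_.IsIntegral R σ := by
    apply isIntegral_of_quartic σ 0 (ι 1) (ι (3 - c)) (ι 3) isIntegral_zero (iι _) (iι _) (iι _)
    rw [map_sub, map_one, map_ofNat]
    linear_combination σ * hσeq
  -- the Legendre curve
  obtain ⟨E₀, hE₀⟩ : ∃ E₀ : WeierstrassCurve (AlgebraicClosure K),
      E₀ = ⟨0, -(1 + l), 0, l, 0⟩ := ⟨_, rfl⟩
  have hΔE : E₀.Δ = 16 * s ^ 2 := by
    rw [hE₀]
    simp only [WeierstrassCurve.Δ, WeierstrassCurve.b₂, WeierstrassCurve.b₄, WeierstrassCurve.b₆,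
      WeierstrassCurve.b₈]
    linear_combination 16 * (l ^ 2 - l + s) * hl'
  have hcE : E₀.c₄ = 16 * (s + 1) := by
    rw [hE₀]
    simp only [WeierstrassCurve.c₄, WeierstrassCurve.b₂, WeierstrassCurve.b₄]
    linear_combination 16 * hl'
  have h16 : (16 : AlgebraicClosure K) ≠ 0 := by
    have : (16 : AlgebraicClosure K) = 2 ^ 4 := by norm_num
    rw [this]; exact pow_ne_zero 4 h20
  have hΔne : E₀.Δ ≠ 0 := by
    rw [hΔE]; exact mul_ne_zero h16 (pow_ne_zero 2 hs0)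
  haveI hEll : E₀.IsElliptic := (isElliptic_iff E₀).mpr (isUnit_iff_ne_zero.mpr hΔne)
  have hjE : E₀.j = ι j₀ := by
    apply mul_right_cancel₀ hΔne
    rw [j_mul_Δ, hcE, hΔE, ← hc256]
    linear_combination 4096 * hs'
  have hj : E₀.j = algebraMap K (AlgebraicClosure K) W.j := by
    rw [hjE, ← hj₀, hι, ← IsScalarTower.algebraMap_apply]
  have hΔinv : (E₀.Δ)⁻¹ = ι i2 ^ 4 * σ ^ 2 := by
    rw [hΔE]
    apply inv_eq_of_mul_eq_one_right
    calc (16 : AlgebraicClosure K) * s ^ 2 * (ι i2 ^ 4 * σ ^ 2) = (2 * ι i2) ^ 4 * (s * σ) ^ 2 := by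
          ring
      _ = 1 := by rw [h2i, hsσ, one_pow, one_pow, one_mul]
  refine core W E₀ hj ?_ ?_ ?_ ?_ ?_ ?_
  · rw [hE₀]; exact isIntegral_zero
  · rw [hE₀]; exact (isIntegral_one.add il).neg
  · rw [hE₀]; exact isIntegral_zero
  · rw [hE₀]; exact il
  · rw [hE₀]; exact isIntegral_zero
  · rw [hΔinv]; exact ((iι i2).pow 4).mul (iσ.pow 2)

theorem caseB (W : WeierstrassCurve K) [W.IsElliptic] (j₀ : R) (hj₀ : algebraMap R K j₀ = W.j)
    (h3u : IsUnit (3 : R)) :
    ∃ (L : Type u) (_ : Field L) (_ : Algebra K L) (_ : FiniteDimensional K L) (RL : Type u)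
        (_ : CommRing RL) (_ : IsDomain RL) (_ : IsDiscreteValuationRing RL) (_ : Algebra RL L)
        (_ : IsFractionRing RL L) (φ : R →+* RL), IsLocalHom φ ∧
        (∀ r : R, algebraMap K L (algebraMap R K r) = algebraMap RL L (φ r)) ∧
        ((W.baseChange L).minimal RL).HasGoodReduction RL := by
  classical
  obtain ⟨w3, hw3⟩ := h3u
  obtain ⟨i3, hi3⟩ : ∃ i3 : R, (3 : R) * i3 = 1 := ⟨↑w3⁻¹, by rw [← hw3, Units.mul_inv]⟩
  obtain ⟨ι, hι⟩ : ∃ ι : R →+* AlgebraicClosure K, ι = algebraMap R (AlgebraicClosure K) :=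
    ⟨_, rfl⟩
  have iι : ∀ r : R, _root_.IsIntegral R (ι r) := fun r => by
    rw [hι]; exact isIntegral_algebraMap
  have h3i : (3 : AlgebraicClosure K) * ι i3 = 1 := by
    rw [← map_ofNat ι 3, ← map_mul, hi3, map_one]
  obtain ⟨k, hk_def⟩ : ∃ k : AlgebraicClosure K, k = ι i3 ^ 6 := ⟨_, rfl⟩
  have hk : (729 : AlgebraicClosure K) * k = 1 := by
    rw [hk_def]
    calc (729 : AlgebraicClosure K) * ι i3 ^ 6 = (3 * ι i3) ^ 6 := by ring
      _ = 1 := by rw [h3i, one_pow]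
  obtain ⟨D, hD⟩ := exists_root_quartic (Ω := AlgebraicClosure K) (ι 729) (ι (756 - j₀)) (ι 270)
    (ι 36)
  have hD' : D ^ 4 + 36 * D ^ 3 + 270 * D ^ 2 + (756 - ι j₀) * D + 729 = 0 := by
    rw [map_sub, map_ofNat, map_ofNat, map_ofNat, map_ofNat] at hD
    linear_combination hD
  obtain ⟨α, hα⟩ := exists_root_cubic (Ω := AlgebraicClosure K) (-(D + ι 27)) 0 0
  have hα' : α ^ 3 - (D + 27) = 0 := by
    rw [map_ofNat] at hα
    linear_combination hα
  have hD0 : D ≠ 0 := by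
    intro h0
    rw [h0] at hD'
    have h729 : (729 : AlgebraicClosure K) = 0 := by linear_combination hD'
    rw [h729, zero_mul] at hk
    exact zero_ne_one hk
  obtain ⟨E, hE⟩ : ∃ E : AlgebraicClosure K, E = D⁻¹ := ⟨_, rfl⟩
  have hDE : D * E = 1 := by rw [hE]; exact mul_inv_cancel₀ hD0
  have hEeq : E ^ 4 + ((756 - ι j₀) * k) * E ^ 3 + (270 * k) * E ^ 2 + (36 * k) * E + k = 0 := by
    linear_combination k * (E ^ 4 * hD' - ((D ^ 3 * E ^ 3 + D ^ 2 * E ^ 2 + D * E + 1) +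
      36 * E * (D ^ 2 * E ^ 2 + D * E + 1) + 270 * E ^ 2 * (D * E + 1) +
      (756 - ι j₀) * E ^ 3) * hDE) - E ^ 4 * hk
  have iD : _root_.IsIntegral R D :=
    isIntegral_of_quartic D (ι 729) (ι (756 - j₀)) (ι 270) (ι 36) (iι _) (iι _) (iι _) (iι _) hD
  have iα : _root_.IsIntegral R α := by
    apply isIntegral_of_quartic α 0 (-(D + ι 27)) 0 0 isIntegral_zero (iD.add (iι _)).neg
      isIntegral_zero isIntegral_zero
    linear_combination α * hα
  have iE : _root_.IsIntegral R E := by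
    apply isIntegral_of_quartic E (ι (i3 ^ 6)) (ι (36 * i3 ^ 6)) (ι (270 * i3 ^ 6))
      (ι ((756 - j₀) * i3 ^ 6)) (iι _) (iι _) (iι _) (iι _)
    have e0 : ι (i3 ^ 6) = k := by rw [hk_def, map_pow]
    have e1 : ι (36 * i3 ^ 6) = 36 * k := by rw [map_mul, map_ofNat, e0]
    have e2 : ι (270 * i3 ^ 6) = 270 * k := by rw [map_mul, map_ofNat, e0]
    have e3 : ι ((756 - j₀) * i3 ^ 6) = (756 - ι j₀) * k := by
      rw [map_mul, map_sub, map_ofNat, e0]
    rw [e0, e1, e2, e3]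
    linear_combination hEeq
  obtain ⟨E₀, hE₀⟩ : ∃ E₀ : WeierstrassCurve (AlgebraicClosure K),
      E₀ = ⟨α, 0, 1, 0, 0⟩ := ⟨_, rfl⟩
  have hΔE : E₀.Δ = D := by
    rw [hE₀]
    simp only [WeierstrassCurve.Δ, WeierstrassCurve.b₂, WeierstrassCurve.b₄, WeierstrassCurve.b₆,
      WeierstrassCurve.b₈]
    linear_combination hα'
  have hcE : E₀.c₄ = α ^ 4 - 24 * α := by
    rw [hE₀]
    simp only [WeierstrassCurve.c₄, WeierstrassCurve.b₂, WeierstrassCurve.b₄]
    ring
  have hΔne : E₀.Δ ≠ 0 := by rw [hΔE]; exact hD0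
  haveI hEll : E₀.IsElliptic := (isElliptic_iff E₀).mpr (isUnit_iff_ne_zero.mpr hΔne)
  have hjE : E₀.j = ι j₀ := by
    apply mul_right_cancel₀ hΔne
    rw [j_mul_Δ, hcE, hΔE]
    linear_combination hD' +
      (((α ^ 3) ^ 3 + (α ^ 3) ^ 2 * (D + 27) + α ^ 3 * (D + 27) ^ 2 + (D + 27) ^ 3) -
        72 * ((α ^ 3) ^ 2 + α ^ 3 * (D + 27) + (D + 27) ^ 2) + 1728 * (α ^ 3 + (D + 27)) -
        13824) * hα'
  have hj : E₀.j = algebraMap K (AlgebraicClosure K) W.j := by
    rw [hjE, ← hj₀, hι, ← IsScalarTower.algebraMap_apply]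
  refine core W E₀ hj ?_ ?_ ?_ ?_ ?_ ?_
  · rw [hE₀]; exact iα
  · rw [hE₀]; exact isIntegral_zero
  · rw [hE₀]; exact isIntegral_one
  · rw [hE₀]; exact isIntegral_zero
  · rw [hE₀]; exact isIntegral_zero
  · rw [hΔE, ← hE]; exact iE

theorem main (W : WeierstrassCurve K) [W.IsElliptic] :
    (∃ r : R, algebraMap R K r = W.j) ↔
      ∃ (L : Type u) (_ : Field L) (_ : Algebra K L) (_ : FiniteDimensional K L) (RL : Type u)
        (_ : CommRing RL) (_ : IsDomain RL) (_ : IsDiscreteValuationRing RL) (_ : Algebra RL L)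
        (_ : IsFractionRing RL L) (φ : R →+* RL), IsLocalHom φ ∧
        (∀ r : R, algebraMap K L (algebraMap R K r) = algebraMap RL L (φ r)) ∧
        ((W.baseChange L).minimal RL).HasGoodReduction RL := by
  constructor
  · rintro ⟨j₀, hj₀⟩
    by_cases h2u : IsUnit (2 : R)
    · exact caseA W j₀ hj₀ h2u
    · have h3u : IsUnit (3 : R) := by
        rw [← IsLocalRing.notMem_maximalIdeal]
        intro h3
        have h2m : (2 : R) ∈ IsLocalRing.maximalIdeal R := h2u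
        have h1 : (1 : R) ∈ IsLocalRing.maximalIdeal R := by
          have h := Ideal.sub_mem _ h3 h2m
          have e : (3 : R) - 2 = 1 := by norm_num
          rwa [e] at h
        exact (Ideal.ne_top_iff_one _).mp (IsLocalRing.maximalIdeal.isMaximal R).ne_top h1
      exact caseB W j₀ hj₀ h3u
  · rintro ⟨L, i1, i2, i3, RL, i4, i5, i6, i7, i8, φ, hloc, hφ, hgood⟩
    haveI := hloc
    exact integral_of_good W L RL φ hφ hgood

end Cases

end Groth.Agent.Helper8.EllPG
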