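import Mathlib
import Groth.Agent.Lib.Helper8.Len1
import Groth.Agent.Lib.Helper8.FlatReg2
import Groth.Agent.Lib.Helper8.FlatReg5
import Groth.Agent.Lib.Helper8.FlatReg11
import Groth.Agent.Lib.Helper8.FlatDepth3
import Groth.Agent.Lib.Helper1.MatlisL2

/-!
# Additivity of the embedding dimension along a flat local homomorphism with regular closed fibre
-/

set_option autoImplicit false
universe u

namespace Groth.Agent.Helper8.EmbDim

open IsLocalRing TensorProduct RingTheory.Sequence

section lattice
variable {R M : Type*} [Ring R] [AddCommGroup M] [Module R M]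

theorem length_quotient_add_le (P Q : Submodule R M) :
    Module.length R (M ⧸ P) + Module.length R (M ⧸ Q) ≤
      Module.length R M + Module.length R (M ⧸ (P ⊔ Q)) := by
  have h1 : Module.length R M = Module.length R P + Module.length R (M ⧸ P) :=
    Module.length_eq_add_of_exact P.subtype P.mkQ P.subtype_injective P.mkQ_surjective
      (LinearMap.exact_subtype_mkQ P)
  let g : (M ⧸ Q) →ₗ[R] (M ⧸ (P ⊔ Q)) := Submodule.factor (le_sup_right : Q ≤ P ⊔ Q)
  have hg : Function.Surjective g := Submodule.factor_surjective _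
  have h2 : Module.length R (M ⧸ Q) =
      Module.length R (LinearMap.ker g) + Module.length R (M ⧸ (P ⊔ Q)) :=
    Module.length_eq_add_of_exact (LinearMap.ker g).subtype g (Submodule.subtype_injective _) hg
      (LinearMap.exact_subtype_ker_map g)
  -- `P` surjects onto `ker g`
  let f : P →ₗ[R] LinearMap.ker g :=
    LinearMap.codRestrict (LinearMap.ker g) (Q.mkQ.comp P.subtype) (by
      intro x
      rw [LinearMap.mem_ker]
      change Submodule.factor _ (Q.mkQ (x : M)) = 0
      rw [Submodule.factor_mk, Submodule.mkQ_apply, Submodule.Quotient.mk_eq_zero]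
      exact (le_sup_left : P ≤ P ⊔ Q) x.2)
  have hf : Function.Surjective f := by
    rintro ⟨y, hy⟩
    obtain ⟨m, rfl⟩ := Q.mkQ_surjective y
    rw [LinearMap.mem_ker] at hy
    change Submodule.factor _ (Q.mkQ m) = 0 at hy
    rw [Submodule.factor_mk, Submodule.mkQ_apply, Submodule.Quotient.mk_eq_zero] at hy
    obtain ⟨p, hp, q, hq, rfl⟩ := Submodule.mem_sup.mp hy
    refine ⟨⟨p, hp⟩, ?_⟩
    apply Subtype.ext
    change Q.mkQ p = Q.mkQ (p + q)
    rw [map_add, Submodule.mkQ_apply _ q, (Submodule.Quotient.mk_eq_zero Q).mpr hq, add_zero]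
  have h3 : Module.length R (LinearMap.ker g) ≤ Module.length R P :=
    Module.length_le_of_surjective f hf
  rw [h1, h2]
  calc Module.length R (M ⧸ P) +
        (Module.length R (LinearMap.ker g) + Module.length R (M ⧸ (P ⊔ Q)))
      ≤ Module.length R (M ⧸ P) + (Module.length R P + Module.length R (M ⧸ (P ⊔ Q))) := by
        gcongr
    _ = Module.length R P + Module.length R (M ⧸ P) + Module.length R (M ⧸ (P ⊔ Q)) := by
        rw [← add_assoc, add_comm (Module.length R (M ⧸ P))]

theorem length_quotient_sup_add_le (I J K : Submodule R M) :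
    Module.length R (M ⧸ (I ⊔ J)) + Module.length R (M ⧸ (I ⊔ K)) ≤
      Module.length R (M ⧸ I) + Module.length R (M ⧸ (I ⊔ J ⊔ K)) := by
  have h := length_quotient_add_le (J.map I.mkQ) (K.map I.mkQ)
  rw [(Submodule.quotientQuotientEquivQuotientSup I J).length_eq,
    (Submodule.quotientQuotientEquivQuotientSup I K).length_eq, ← Submodule.map_sup,
    (Submodule.quotientQuotientEquivQuotientSup I (J ⊔ K)).length_eq, ← sup_assoc] at h
  exact h

end lattice

section L1
variable (R : Type u) [CommRing R] [IsLocalRing R] [IsNoetherianRing R]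

omit [IsNoetherianRing R] in
theorem length_quotient_maximalIdeal : Module.length R (R ⧸ maximalIdeal R) = 1 := by
  haveI : IsSimpleModule R (R ⧸ maximalIdeal R) :=
    isSimpleModule_iff_quot_maximal.mpr ⟨_, maximalIdeal.isMaximal R, ⟨LinearEquiv.refl _ _⟩⟩
  exact Module.length_eq_one R (R ⧸ maximalIdeal R)

theorem length_quotient_maximalIdeal_sq :
    Module.length R (R ⧸ (maximalIdeal R) ^ 2) = ((maximalIdeal R).spanFinrank : ℕ∞) + 1 := by
  set m := maximalIdeal R with hm
  have hle : m ^ 2 ≤ m := Ideal.pow_le_self (by norm_num)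
  let g : (R ⧸ m ^ 2) →ₗ[R] (R ⧸ m) := Submodule.factor hle
  have hg : Function.Surjective g := Submodule.factor_surjective _
  have h2 : Module.length R (R ⧸ m ^ 2) =
      Module.length R (LinearMap.ker g) + Module.length R (R ⧸ m) :=
    Module.length_eq_add_of_exact (LinearMap.ker g).subtype g (Submodule.subtype_injective _) hg
      (LinearMap.exact_subtype_ker_map g)
  let f : m →ₗ[R] LinearMap.ker g :=
    LinearMap.codRestrict (LinearMap.ker g) ((Submodule.mkQ (m ^ 2)).comp m.subtype) (by
      intro x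
      rw [LinearMap.mem_ker]
      change Submodule.factor _ ((m ^ 2).mkQ (x : R)) = 0
      rw [Submodule.factor_mk, Submodule.mkQ_apply, Submodule.Quotient.mk_eq_zero]
      exact x.2)
  have hf : Function.Surjective f := by
    rintro ⟨y, hy⟩
    obtain ⟨r, rfl⟩ := Submodule.mkQ_surjective (m ^ 2) y
    rw [LinearMap.mem_ker] at hy
    change Submodule.factor _ ((m ^ 2).mkQ r) = 0 at hy
    rw [Submodule.factor_mk, Submodule.mkQ_apply, Submodule.Quotient.mk_eq_zero] at hy
    exact ⟨⟨r, hy⟩, Subtype.ext rfl⟩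
  have hker : LinearMap.ker f = m • (⊤ : Submodule R m) := by
    ext x
    rw [LinearMap.mem_ker, Submodule.mem_smul_top_iff]
    constructor
    · intro hx
      have h1 : (m ^ 2).mkQ (x : R) = 0 := congrArg Subtype.val hx
      rw [Submodule.mkQ_apply, Submodule.Quotient.mk_eq_zero] at h1
      rwa [smul_eq_mul, ← pow_two]
    · intro hx
      apply Subtype.ext
      change (m ^ 2).mkQ (x : R) = 0
      rw [Submodule.mkQ_apply, Submodule.Quotient.mk_eq_zero, pow_two]
      exact hx
  have h3 : Module.length R (LinearMap.ker g) = ((maximalIdeal R).spanFinrank : ℕ∞) := by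
    rw [Groth.Agent.Helper1.MatlisL2.spanFinrank_eq_length_quotient (maximalIdeal R)
      (IsNoetherian.noetherian _)]
    rw [← (f.quotKerEquivOfSurjective hf).length_eq]
    exact (Submodule.quotEquivOfEq _ _ hker).length_eq
  rw [h2, h3, length_quotient_maximalIdeal]

end L1

section L2
variable (B S : Type*) [CommRing B] [CommRing S] [Algebra B S]

theorem length_quotient_comap (h : Function.Surjective (algebraMap B S)) (I : Ideal S) :
    Module.length B (B ⧸ I.comap (algebraMap B S)) = Module.length S (S ⧸ I) := by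
  rw [← Module.length_eq_of_surjective (S := B) (R := S) (M := S ⧸ I) h]
  let φ : B →ₗ[B] (S ⧸ I) := ((Ideal.Quotient.mkₐ B I).comp (Algebra.ofId B S)).toLinearMap
  have hφ : Function.Surjective φ := by
    intro y
    obtain ⟨s, rfl⟩ := Ideal.Quotient.mk_surjective y
    obtain ⟨b, rfl⟩ := h s
    exact ⟨b, rfl⟩
  have hker : LinearMap.ker φ = I.comap (algebraMap B S) := by
    ext b
    rw [LinearMap.mem_ker, Ideal.mem_comap]
    change Ideal.Quotient.mk I (algebraMap B S b) = 0 ↔ _
    exact Ideal.Quotient.eq_zero_iff_mem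
  rw [← (φ.quotKerEquivOfSurjective hφ).length_eq]
  exact (Submodule.quotEquivOfEq _ _ hker.symm).length_eq

end L2

section L3
variable (A S : Type u) [CommRing A] [CommRing S] [IsLocalRing A] [IsLocalRing S]
  [IsNoetherianRing A] [IsNoetherianRing S] [Algebra A S] [IsLocalHom (algebraMap A S)]
  [Module.Flat A S]

theorem spanFinrank_maximalIdeal_eq_of_flat
    (hm : (maximalIdeal A).map (algebraMap A S) = maximalIdeal S) :
    (maximalIdeal S).spanFinrank = (maximalIdeal A).spanFinrank := by
  haveI : Module.FaithfullyFlat A S := Module.FaithfullyFlat.of_flat_of_isLocalHom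
  have h1 := Groth.Agent.Helper8.Len.length_tensor_eq (A := A) S S (A ⧸ (maximalIdeal A) ^ 2)
  have h2 := Groth.Agent.Helper8.Len.length_tensor_quotient (A := A) S S ((maximalIdeal A) ^ 2)
  have e1 : (((maximalIdeal A) ^ 2).map (algebraMap A S) • (⊤ : Submodule S S)) =
      (maximalIdeal S) ^ 2 := by
    rw [smul_eq_mul, Ideal.mul_top, Ideal.map_pow, hm]
  have e2 : ((maximalIdeal A).map (algebraMap A S) • (⊤ : Submodule S S)) = maximalIdeal S := by
    rw [smul_eq_mul, Ideal.mul_top, hm]
  rw [(Submodule.quotEquivOfEq _ _ e1).length_eq] at h2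
  rw [(Submodule.quotEquivOfEq _ _ e2).length_eq, h2, length_quotient_maximalIdeal_sq,
    length_quotient_maximalIdeal_sq, length_quotient_maximalIdeal, mul_one] at h1
  have h3 : ((maximalIdeal S).spanFinrank : ℕ∞) = ((maximalIdeal A).spanFinrank : ℕ∞) := by
    exact ENat.add_left_injective_of_ne_top (n := 1) (by simp) h1
  exact_mod_cast h3

end L3

section Main
variable (A B : Type u) [CommRing A] [CommRing B] [IsLocalRing A] [IsNoetherianRing A]
  [IsLocalRing B] [IsNoetherianRing B] [Algebra A B] [IsLocalHom (algebraMap A B)]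
  [Module.Flat A B]

theorem spanFinrank_maximalIdeal_eq_add
    [IsRegularLocalRing (B ⧸ (maximalIdeal A).map (algebraMap A B))] :
    (maximalIdeal B).spanFinrank =
      (maximalIdeal (B ⧸ (maximalIdeal A).map (algebraMap A B))).spanFinrank +
        (maximalIdeal A).spanFinrank := by
  classical
  set K : Ideal B := (maximalIdeal A).map (algebraMap A B) with hK
  let F := B ⧸ K
  let π : B →+* F := Ideal.Quotient.mk K
  have hπ : Function.Surjective π := Ideal.Quotient.mk_surjective
  have hKle : K ≤ maximalIdeal B := IsLocalRing.map_maximalIdeal_le (algebraMap A B)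
  obtain ⟨xs, hxs, -, hreg⟩ := Groth.Agent.Helper8.FlatReg.exists_regular_generators F
  have hmapmax : (maximalIdeal B).map π = maximalIdeal F :=
    IsLocalRing.map_maximalIdeal_of_surjective _ hπ
  obtain ⟨ys, hys, hmap⟩ := Groth.Agent.Helper8.FlatDepth.exists_list_map_eq π hπ
    (maximalIdeal B) xs (fun r hr => by
      rw [hmapmax, ← hxs]
      exact Ideal.subset_span hr)
  set J : Ideal B := Ideal.ofList ys with hJ
  have hJle : J ≤ maximalIdeal B := Ideal.span_le.mpr (fun y hy => hys y hy)
  have hJmap : J.map π = maximalIdeal F := by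
    rw [hJ, Ideal.map_ofList, hmap, hxs]
  have hmB : maximalIdeal B = K ⊔ J := by
    have h2 := congrArg (Ideal.comap π) (hmapmax.trans hJmap.symm)
    rw [Ideal.comap_map_of_surjective _ hπ, Ideal.comap_map_of_surjective _ hπ,
      ← RingHom.ker_eq_comap_bot, Ideal.mk_ker, sup_eq_left.mpr hKle] at h2
    rw [h2, sup_comm]
  -- flatness of `B ⧸ J`
  have hreg1 : IsWeaklyRegular F (ys.map (algebraMap B F)) := by
    change IsWeaklyRegular F (ys.map π)
    rw [hmap]; exact hreg
  have hreg2 : IsWeaklyRegular F ys := (isWeaklyRegular_map_algebraMap_iff F F ys).mp hreg1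
  have he : (K • (⊤ : Submodule B B)) = K := by rw [smul_eq_mul, Ideal.mul_top]
  have hreg3 : IsWeaklyRegular (B ⧸ (K • (⊤ : Submodule B B))) ys :=
    (LinearEquiv.isWeaklyRegular_congr (Submodule.quotEquivOfEq _ _ he) ys).mpr hreg2
  obtain ⟨-, hflat⟩ := Groth.Agent.Helper8.FlatReg.isWeaklyRegular_and_flat_of_fibre
    (A := A) (B := B) ys B hreg3
  have hflat' := hflat ys.length le_rfl
  rw [List.take_length] at hflat'
  have heJ : (J • (⊤ : Submodule B B)) = J := by rw [smul_eq_mul, Ideal.mul_top]
  let S := B ⧸ J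
  haveI : Module.Flat A S :=
    Groth.Agent.Helper8.FlatReg.flat_of_linearEquiv (A := A) (B := B)
      (Submodule.quotEquivOfEq _ _ heJ.symm)
  have hJtop : J ≠ ⊤ := fun h => (maximalIdeal.isMaximal B).ne_top (top_le_iff.mp (h ▸ hJle))
  haveI : Nontrivial S := Ideal.Quotient.nontrivial_iff.mpr hJtop
  haveI : IsLocalRing S :=
    IsLocalRing.of_surjective' (Ideal.Quotient.mk J) Ideal.Quotient.mk_surjective
  haveI hlocq : IsLocalHom (Ideal.Quotient.mk J) :=
    IsLocalHom.of_surjective (Ideal.Quotient.mk J) Ideal.Quotient.mk_surjective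
  haveI : IsLocalHom (algebraMap A S) := by
    rw [IsScalarTower.algebraMap_eq A B S]
    exact RingHom.isLocalHom_comp _ _
  have hmS : (maximalIdeal B).map (Ideal.Quotient.mk J) = maximalIdeal S :=
    IsLocalRing.map_maximalIdeal_of_surjective _ Ideal.Quotient.mk_surjective
  have hm : (maximalIdeal A).map (algebraMap A S) = maximalIdeal S := by
    rw [IsScalarTower.algebraMap_eq A B S, ← Ideal.map_map, ← hK, ← hmS, hmB, Ideal.map_sup]
    change Ideal.map (Ideal.Quotient.mk J) K = Ideal.map (Ideal.Quotient.mk J) K ⊔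
      Ideal.map (Ideal.Quotient.mk J) J
    rw [Ideal.map_quotient_self, sup_bot_eq]
  have heq : (maximalIdeal S).spanFinrank = (maximalIdeal A).spanFinrank :=
    spanFinrank_maximalIdeal_eq_of_flat A S hm
  -- lengths
  have hL := length_quotient_sup_add_le (R := B) (M := B) ((maximalIdeal B) ^ 2) J K
  have c1 : (maximalIdeal B) ^ 2 ⊔ J = ((maximalIdeal S) ^ 2).comap (algebraMap B S) := by
    change _ = ((maximalIdeal S) ^ 2).comap (Ideal.Quotient.mk J)
    rw [← hmS, ← Ideal.map_pow, Ideal.comap_map_of_surjective _ Ideal.Quotient.mk_surjective,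
      ← RingHom.ker_eq_comap_bot, Ideal.mk_ker]
  have c2 : (maximalIdeal B) ^ 2 ⊔ K = ((maximalIdeal F) ^ 2).comap (algebraMap B F) := by
    change _ = ((maximalIdeal F) ^ 2).comap π
    rw [← hmapmax, ← Ideal.map_pow, Ideal.comap_map_of_surjective _ hπ,
      ← RingHom.ker_eq_comap_bot, Ideal.mk_ker]
  have c3 : (maximalIdeal B) ^ 2 ⊔ J ⊔ K = maximalIdeal B := by
    rw [sup_assoc, sup_comm J K, ← hmB]
    exact sup_eq_right.mpr (Ideal.pow_le_self (by norm_num))
  have l1 : Module.length B (B ⧸ ((maximalIdeal B) ^ 2 ⊔ J)) =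
      ((maximalIdeal A).spanFinrank : ℕ∞) + 1 := by
    rw [(Submodule.quotEquivOfEq _ _ c1).length_eq,
      length_quotient_comap B S Ideal.Quotient.mk_surjective, length_quotient_maximalIdeal_sq,
      heq]
  have l2 : Module.length B (B ⧸ ((maximalIdeal B) ^ 2 ⊔ K)) =
      ((maximalIdeal F).spanFinrank : ℕ∞) + 1 := by
    rw [(Submodule.quotEquivOfEq _ _ c2).length_eq,
      length_quotient_comap B F Ideal.Quotient.mk_surjective, length_quotient_maximalIdeal_sq]
  have l3 : Module.length B (B ⧸ ((maximalIdeal B) ^ 2 ⊔ J ⊔ K)) = 1 := by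
    rw [(Submodule.quotEquivOfEq _ _ c3).length_eq, length_quotient_maximalIdeal]
  rw [l1, l2, l3, length_quotient_maximalIdeal_sq] at hL
  have hge : (maximalIdeal A).spanFinrank + (maximalIdeal F).spanFinrank ≤
      (maximalIdeal B).spanFinrank := by
    have h : (((maximalIdeal A).spanFinrank + 1 + ((maximalIdeal F).spanFinrank + 1) : ℕ) : ℕ∞) ≤
        (((maximalIdeal B).spanFinrank + 1 + 1 : ℕ) : ℕ∞) := by
      push_cast
      exact hL
    have h' := Nat.cast_le.mp h
    omega
  have hle := Groth.Agent.Helper8.FlatReg.spanFinrank_maximalIdeal_le A B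
  change (maximalIdeal B).spanFinrank = (maximalIdeal F).spanFinrank + _
  change (maximalIdeal B).spanFinrank ≤ _ + (maximalIdeal F).spanFinrank at hle
  omega

end Main

end Groth.Agent.Helper8.EmbDim
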