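import Mathlib

/-!
# Modules over a strongly local ring are determined by their endomorphism rings

Corner-ring descent: helper library for S13847.
-/

namespace Groth.Agent.Lib.Helper8.EndIso

open Submodule

universe u v

section corner

variable {A : Type*} [Ring A]
variable {M N U V : Type*} [AddCommGroup M] [Module A M] [AddCommGroup N] [Module A N]
  [AddCommGroup U] [Module A U] [AddCommGroup V] [Module A V]

/-- corner element `ι k ρ`. -/
def cEl (ι : U →ₗ[A] M) (ρ : M →ₗ[A] U) (k : Module.End A U) : Module.End A M := ι ∘ₗ k ∘ₗ ρ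

theorem cEl_mul (ι : U →ₗ[A] M) (ρ : M →ₗ[A] U) (h1 : ρ ∘ₗ ι = LinearMap.id)
    (k k' : Module.End A U) : cEl ι ρ (k * k') = cEl ι ρ k * cEl ι ρ k' := by
  apply LinearMap.ext; intro x
  show ι (k (k' (ρ x))) = ι (k (ρ (ι (k' (ρ x)))))
  rw [show ρ (ι (k' (ρ x))) = k' (ρ x) from LinearMap.congr_fun h1 _]

theorem cEl_mul_idem (ι : U →ₗ[A] M) (ρ : M →ₗ[A] U) (h1 : ρ ∘ₗ ι = LinearMap.id)
    (k : Module.End A U) : cEl ι ρ k * (ι ∘ₗ ρ : Module.End A M) = cEl ι ρ k := by
  apply LinearMap.ext; intro x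
  show ι (k (ρ (ι (ρ x)))) = ι (k (ρ x))
  rw [show ρ (ι (ρ x)) = ρ x from LinearMap.congr_fun h1 _]

theorem idem_mul_cEl (ι : U →ₗ[A] M) (ρ : M →ₗ[A] U) (h1 : ρ ∘ₗ ι = LinearMap.id)
    (k : Module.End A U) : (ι ∘ₗ ρ : Module.End A M) * cEl ι ρ k = cEl ι ρ k := by
  apply LinearMap.ext; intro x
  show ι (ρ (ι (k (ρ x)))) = ι (k (ρ x))
  rw [show ρ (ι (k (ρ x))) = k (ρ x) from LinearMap.congr_fun h1 _]

theorem cEl_add (ι : U →ₗ[A] M) (ρ : M →ₗ[A] U) (k k' : Module.End A U) :
    cEl ι ρ (k + k') = cEl ι ρ k + cEl ι ρ k' := by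
  apply LinearMap.ext; intro x
  show ι ((k + k') (ρ x)) = ι (k (ρ x)) + ι (k' (ρ x))
  rw [LinearMap.add_apply, map_add]

theorem cEl_one (ι : U →ₗ[A] M) (ρ : M →ₗ[A] U) : cEl ι ρ 1 = (ι ∘ₗ ρ : Module.End A M) := by
  apply LinearMap.ext; intro x; rfl

/-- the corner map. -/
def cFun (e : Module.End A M ≃+* Module.End A N) (ι : U →ₗ[A] M) (ρ : M →ₗ[A] U)
    (ι' : V →ₗ[A] N) (ρ' : N →ₗ[A] V) (k : Module.End A U) : Module.End A V :=
  ρ' ∘ₗ (e (cEl ι ρ k)) ∘ₗ ι'

theorem e_c_mul_idem (e : Module.End A M ≃+* Module.End A N) (ι : U →ₗ[A] M) (ρ : M →ₗ[A] U)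
    (h1 : ρ ∘ₗ ι = LinearMap.id) (ι' : V →ₗ[A] N) (ρ' : N →ₗ[A] V)
    (h : e (ι ∘ₗ ρ : Module.End A M) = (ι' ∘ₗ ρ' : Module.End A N)) (k : Module.End A U) :
    e (cEl ι ρ k) * (ι' ∘ₗ ρ' : Module.End A N) = e (cEl ι ρ k) := by
  rw [← h, ← map_mul, cEl_mul_idem ι ρ h1 k]

theorem idem_mul_e_c (e : Module.End A M ≃+* Module.End A N) (ι : U →ₗ[A] M) (ρ : M →ₗ[A] U)
    (h1 : ρ ∘ₗ ι = LinearMap.id) (ι' : V →ₗ[A] N) (ρ' : N →ₗ[A] V)
    (h : e (ι ∘ₗ ρ : Module.End A M) = (ι' ∘ₗ ρ' : Module.End A N)) (k : Module.End A U) :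
    (ι' ∘ₗ ρ' : Module.End A N) * e (cEl ι ρ k) = e (cEl ι ρ k) := by
  rw [← h, ← map_mul, idem_mul_cEl ι ρ h1 k]

theorem cFun_mul (e : Module.End A M ≃+* Module.End A N) (ι : U →ₗ[A] M) (ρ : M →ₗ[A] U)
    (h1 : ρ ∘ₗ ι = LinearMap.id) (ι' : V →ₗ[A] N) (ρ' : N →ₗ[A] V)
    (h : e (ι ∘ₗ ρ : Module.End A M) = (ι' ∘ₗ ρ' : Module.End A N)) (k k' : Module.End A U) :
    cFun e ι ρ ι' ρ' (k * k') = cFun e ι ρ ι' ρ' k * cFun e ι ρ ι' ρ' k' := by
  apply LinearMap.ext; intro z
  have hF := LinearMap.congr_fun (e_c_mul_idem e ι ρ h1 ι' ρ' h k) ((e (cEl ι ρ k')) (ι' z))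
  show ρ' ((e (cEl ι ρ (k * k'))) (ι' z))
    = ρ' ((e (cEl ι ρ k)) (ι' (ρ' ((e (cEl ι ρ k')) (ι' z)))))
  rw [cEl_mul ι ρ h1, map_mul]
  exact congrArg ρ' hF.symm

theorem cFun_add (e : Module.End A M ≃+* Module.End A N) (ι : U →ₗ[A] M) (ρ : M →ₗ[A] U)
    (ι' : V →ₗ[A] N) (ρ' : N →ₗ[A] V) (k k' : Module.End A U) :
    cFun e ι ρ ι' ρ' (k + k') = cFun e ι ρ ι' ρ' k + cFun e ι ρ ι' ρ' k' := by
  apply LinearMap.ext; intro z
  show ρ' ((e (cEl ι ρ (k + k'))) (ι' z))
    = ρ' ((e (cEl ι ρ k)) (ι' z)) + ρ' ((e (cEl ι ρ k')) (ι' z))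
  rw [cEl_add, map_add, LinearMap.add_apply, map_add]

theorem cFun_symm_cFun (e : Module.End A M ≃+* Module.End A N) (ι : U →ₗ[A] M) (ρ : M →ₗ[A] U)
    (h1 : ρ ∘ₗ ι = LinearMap.id) (ι' : V →ₗ[A] N) (ρ' : N →ₗ[A] V)
    (h : e (ι ∘ₗ ρ : Module.End A M) = (ι' ∘ₗ ρ' : Module.End A N)) (k : Module.End A U) :
    cFun e.symm ι' ρ' ι ρ (cFun e ι ρ ι' ρ' k) = k := by
  have h2 : cEl ι' ρ' (cFun e ι ρ ι' ρ' k) = e (cEl ι ρ k) := by
    have h3 : cEl ι' ρ' (cFun e ι ρ ι' ρ' k)
        = (ι' ∘ₗ ρ' : Module.End A N) * (e (cEl ι ρ k) * (ι' ∘ₗ ρ' : Module.End A N)) := by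
      apply LinearMap.ext; intro x; rfl
    rw [h3, e_c_mul_idem e ι ρ h1 ι' ρ' h k, idem_mul_e_c e ι ρ h1 ι' ρ' h k]
  apply LinearMap.ext; intro u
  show ρ ((e.symm (cEl ι' ρ' (cFun e ι ρ ι' ρ' k))) (ι u)) = k u
  rw [h2, RingEquiv.symm_apply_apply]
  show ρ (ι (k (ρ (ι u)))) = k u
  rw [show ρ (ι u) = u from LinearMap.congr_fun h1 u,
    show ρ (ι (k u)) = k u from LinearMap.congr_fun h1 _]

/-- **Corner lemma**: a ring isomorphism of endomorphism rings carrying the idempotent `ι ρ`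
to the idempotent `ι' ρ'` induces a ring isomorphism of the endomorphism rings of the
corresponding direct summands. -/
theorem corner_equiv (e : Module.End A M ≃+* Module.End A N) (ι : U →ₗ[A] M) (ρ : M →ₗ[A] U)
    (h1 : ρ ∘ₗ ι = LinearMap.id) (ι' : V →ₗ[A] N) (ρ' : N →ₗ[A] V)
    (h1' : ρ' ∘ₗ ι' = LinearMap.id)
    (h : e (ι ∘ₗ ρ : Module.End A M) = (ι' ∘ₗ ρ' : Module.End A N)) :
    Nonempty (Module.End A U ≃+* Module.End A V) := by
  have h' : e.symm (ι' ∘ₗ ρ' : Module.End A N) = (ι ∘ₗ ρ : Module.End A M) := by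
    rw [← h, RingEquiv.symm_apply_apply]
  exact ⟨{ toFun := cFun e ι ρ ι' ρ'
           invFun := cFun e.symm ι' ρ' ι ρ
           left_inv := fun k => cFun_symm_cFun e ι ρ h1 ι' ρ' h k
           right_inv := fun k => by
             have := cFun_symm_cFun e.symm ι' ρ' h1' ι ρ h' k
             rwa [RingEquiv.symm_symm] at this
           map_mul' := cFun_mul e ι ρ h1 ι' ρ' h
           map_add' := cFun_add e ι ρ ι' ρ' }⟩

end corner

section ell

variable (A : Type u) [Ring A]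

/-- The quotient `X / J X`. -/
abbrev Bar (X : Type v) [AddCommGroup X] [Module A X] : Type v :=
  X ⧸ (Ring.jacobson A • ⊤ : Submodule A X)

/-- The length of `X / J X`. -/
noncomputable def ell (X : Type v) [AddCommGroup X] [Module A X] : ℕ∞ :=
  Module.length A (Bar A X)

theorem smul_top_le_comap {X Y : Type v} [AddCommGroup X] [Module A X] [AddCommGroup Y]
    [Module A Y] (g : Y →ₗ[A] X) :
    (Ring.jacobson A • ⊤ : Submodule A Y) ≤ (Ring.jacobson A • ⊤ : Submodule A X).comap g := by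
  rw [← Submodule.map_le_iff_le_comap, Submodule.map_smul'']
  exact Submodule.smul_mono le_rfl le_top

/-- induced map on `X / J X`. -/
noncomputable def barMap {X Y : Type v} [AddCommGroup X] [Module A X] [AddCommGroup Y]
    [Module A Y] (g : Y →ₗ[A] X) : Bar A Y →ₗ[A] Bar A X :=
  Submodule.mapQ _ _ g (smul_top_le_comap A g)

theorem barMap_mk {X Y : Type v} [AddCommGroup X] [Module A X] [AddCommGroup Y]
    [Module A Y] (g : Y →ₗ[A] X) (y : Y) :
    barMap A g (Submodule.Quotient.mk y) = Submodule.Quotient.mk (g y) := rfl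

variable [IsSimpleRing (A ⧸ Ring.jacobson A)] [IsArtinianRing (A ⧸ Ring.jacobson A)]

theorem bar_semisimple (X : Type v) [AddCommGroup X] [Module A X] :
    IsSemisimpleModule A (Bar A X) := by
  have hM := Module.isTorsionBySet_quotient_ideal_smul X (Ring.jacobson A)
  have h1 : IsSemisimpleModule (A ⧸ Ring.jacobson A) (Bar A X) := inferInstance
  exact (Module.IsTorsionBySet.isSemisimpleModule_iff hM).mp h1

theorem ell_ne_top (X : Type v) [AddCommGroup X] [Module A X] [Module.Finite A X] :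
    ell A X ≠ ⊤ := by
  haveI := bar_semisimple A X
  unfold ell
  rw [Module.length_ne_top_iff]
  have h := (IsSemisimpleModule.finite_tfae (R := A) (M := Bar A X)).out 0 3
  have hfin : Module.Finite A (Bar A X) := inferInstance
  exact h.mp hfin

theorem ell_lt {X Y : Type v} [AddCommGroup X] [Module A X] [Module.Finite A X]
    [AddCommGroup Y] [Module A Y] [Module.Finite A Y]
    (g : Y →ₗ[A] X) (s : X →ₗ[A] Y) (hgs : g ∘ₗ s = LinearMap.id)
    (hker : LinearMap.ker g ≠ ⊥) : ell A X < ell A Y := by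
  have hgs' : ∀ x, g (s x) = x := fun x => LinearMap.congr_fun hgs x
  obtain ⟨f, hf⟩ : ∃ f : Y →ₗ[A] Y, f = LinearMap.id - s ∘ₗ g := ⟨_, rfl⟩
  have hfk : ∀ k ∈ LinearMap.ker g, f k = k := by
    intro k hk
    rw [hf]
    show k - s (g k) = k
    rw [LinearMap.mem_ker.mp hk, map_zero, sub_zero]
  have hfmem : ∀ y, f y ∈ LinearMap.ker g := by
    intro y
    rw [LinearMap.mem_ker, hf]
    show g (y - s (g y)) = 0
    rw [map_sub, hgs', sub_self]
  have hK : LinearMap.ker g = Submodule.map f ⊤ := by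
    apply le_antisymm
    · intro k hk
      exact ⟨k, trivial, hfk k hk⟩
    · rintro _ ⟨y, -, rfl⟩
      exact hfmem y
  have hKfg : (LinearMap.ker g).FG := by
    rw [hK]
    exact (Module.Finite.fg_top).map f
  have hlt := Submodule.FG.jacobson_smul_lt hker hKfg
  obtain ⟨k, hkK, hkn⟩ := SetLike.exists_of_lt hlt
  have hkn' : k ∉ (Ring.jacobson A • ⊤ : Submodule A Y) := by
    intro hk
    apply hkn
    have := Submodule.mem_map_of_mem (f := f) hk
    rw [Submodule.map_smul'', ← hK, hfk k hkK] at this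
    exact this
  have hsurj : Function.Surjective (barMap A g) := by
    intro xb
    obtain ⟨x, rfl⟩ := Submodule.Quotient.mk_surjective _ xb
    exact ⟨Submodule.Quotient.mk (s x), by rw [barMap_mk, hgs']⟩
  have hex := Module.length_eq_add_of_exact (LinearMap.ker (barMap A g)).subtype (barMap A g)
    (Submodule.injective_subtype _) hsurj (LinearMap.exact_subtype_ker_map _)
  have hne : Module.length A (LinearMap.ker (barMap A g)) ≠ 0 := by
    rw [Ne, Module.length_eq_zero_iff]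
    intro hsub
    have hmem : (Submodule.Quotient.mk k : Bar A Y) ∈ LinearMap.ker (barMap A g) := by
      rw [LinearMap.mem_ker, barMap_mk, LinearMap.mem_ker.mp hkK, Submodule.Quotient.mk_zero]
    have h00 := @Subsingleton.elim _ hsub ⟨_, hmem⟩ 0
    have h0 : (Submodule.Quotient.mk k : Bar A Y) = 0 := congrArg Subtype.val h00
    exact hkn' ((Submodule.Quotient.mk_eq_zero _).mp h0)
  have hX := ell_ne_top A X
  unfold ell at hX ⊢
  rw [hex]
  obtain ⟨b, hb⟩ := ENat.ne_top_iff_exists.mp hX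
  rw [← hb]
  by_cases ha : Module.length A (LinearMap.ker (barMap A g)) = ⊤
  · rw [ha, top_add]
    exact ENat.natCast_lt_top b
  · obtain ⟨a, ha'⟩ := ENat.ne_top_iff_exists.mp ha
    rw [← ha'] at hne ⊢
    have ha0 : a ≠ 0 := by
      rintro rfl
      exact hne Nat.cast_zero
    have : b < a + b := by omega
    exact_mod_cast this

/-- comparison: one of `P/JP`, `Q/JQ` surjects onto the other. -/
theorem exists_surj (P Q : Type v) [AddCommGroup P] [Module A P] [Module.Finite A P]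
    [AddCommGroup Q] [Module A Q] [Module.Finite A Q] :
    (∃ f : Bar A Q →ₗ[A] Bar A P, Function.Surjective f) ∨
      (∃ f : Bar A P →ₗ[A] Bar A Q, Function.Surjective f) := by
  obtain ⟨n, hn, S, hS, -⟩ :=
    (IsSimpleRing.isIsotypic (A ⧸ Ring.jacobson A) (A ⧸ Ring.jacobson A)).linearEquiv_fun
  have htype : ∀ (M : Type v) [AddCommGroup M] [Module (A ⧸ Ring.jacobson A) M],
      IsIsotypicOfType (A ⧸ Ring.jacobson A) M S := by
    intro M _ _ m _
    obtain ⟨I, ⟨e⟩⟩ :=
      IsSemisimpleRing.exists_linearEquiv_ideal_of_isSimpleModule (A ⧸ Ring.jacobson A) m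
    haveI := IsSimpleModule.congr e.symm
    exact ⟨e.trans
      ((IsSimpleRing.isIsotypic (A ⧸ Ring.jacobson A) (A ⧸ Ring.jacobson A)) S I).some⟩
  haveI : Module.Finite (A ⧸ Ring.jacobson A) (Bar A P) :=
    Module.Finite.of_restrictScalars_finite A _ _
  haveI : Module.Finite (A ⧸ Ring.jacobson A) (Bar A Q) :=
    Module.Finite.of_restrictScalars_finite A _ _
  obtain ⟨a, ⟨eP⟩⟩ := (htype (Bar A P)).linearEquiv_fun
  obtain ⟨b, ⟨eQ⟩⟩ := (htype (Bar A Q)).linearEquiv_fun
  rcases le_total a b with hab | hab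
  · left
    refine ⟨((eP.symm.toLinearMap ∘ₗ
      LinearMap.funLeft (A ⧸ Ring.jacobson A) S (Fin.castLE hab) ∘ₗ
        eQ.toLinearMap).restrictScalars A), ?_⟩
    intro x
    obtain ⟨y, hy⟩ := LinearMap.funLeft_surjective_of_injective (A ⧸ Ring.jacobson A) S
      (Fin.castLE hab) (Fin.castLE_injective hab) (eP x)
    refine ⟨eQ.symm y, ?_⟩
    show eP.symm (LinearMap.funLeft (A ⧸ Ring.jacobson A) S (Fin.castLE hab) (eQ (eQ.symm y))) = x
    rw [LinearEquiv.apply_symm_apply, hy, LinearEquiv.symm_apply_apply]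
  · right
    refine ⟨((eQ.symm.toLinearMap ∘ₗ
      LinearMap.funLeft (A ⧸ Ring.jacobson A) S (Fin.castLE hab) ∘ₗ
        eP.toLinearMap).restrictScalars A), ?_⟩
    intro x
    obtain ⟨y, hy⟩ := LinearMap.funLeft_surjective_of_injective (A ⧸ Ring.jacobson A) S
      (Fin.castLE hab) (Fin.castLE_injective hab) (eQ x)
    refine ⟨eP.symm y, ?_⟩
    show eQ.symm (LinearMap.funLeft (A ⧸ Ring.jacobson A) S (Fin.castLE hab) (eP (eP.symm y))) = x
    rw [LinearEquiv.apply_symm_apply, hy, LinearEquiv.symm_apply_apply]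

omit [IsSimpleRing (A ⧸ Ring.jacobson A)] [IsArtinianRing (A ⧸ Ring.jacobson A)] in
/-- lifting a surjection mod `J` to a surjection (projectivity and Nakayama). -/
theorem lift_surj (P Q : Type v) [AddCommGroup P] [Module A P] [Module.Finite A P]
    [AddCommGroup Q] [Module A Q] [Module.Projective A Q]
    (f : Bar A Q →ₗ[A] Bar A P) (hf : Function.Surjective f) :
    ∃ h : Q →ₗ[A] P, Function.Surjective h := by
  obtain ⟨h, hh⟩ := Module.projective_lifting_property
    (Submodule.mkQ (Ring.jacobson A • ⊤ : Submodule A P))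
    (f ∘ₗ Submodule.mkQ (Ring.jacobson A • ⊤ : Submodule A Q)) (Submodule.mkQ_surjective _)
  refine ⟨h, ?_⟩
  have key : (⊤ : Submodule A (P ⧸ LinearMap.range h)) = ⊥ := by
    apply Submodule.FG.eq_bot_of_le_jacobson_smul Module.Finite.fg_top
    intro x _
    obtain ⟨p, rfl⟩ := Submodule.Quotient.mk_surjective _ x
    obtain ⟨qb, hqb⟩ := hf (Submodule.Quotient.mk p)
    obtain ⟨q, rfl⟩ := Submodule.Quotient.mk_surjective _ qb
    have h1 : (Submodule.Quotient.mk (h q) : Bar A P) = Submodule.Quotient.mk p := by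
      rw [← hqb]
      exact LinearMap.congr_fun hh q
    have hd : p - h q ∈ (Ring.jacobson A • ⊤ : Submodule A P) := by
      have h2 := (Submodule.Quotient.eq _).mp h1
      have h3 := Submodule.neg_mem _ h2
      rwa [neg_sub] at h3
    have h3 : (Submodule.Quotient.mk p : P ⧸ LinearMap.range h)
        = Submodule.Quotient.mk (p - h q) := by
      rw [Submodule.Quotient.eq, sub_sub_cancel]
      exact LinearMap.mem_range_self h q
    rw [h3]
    have h4 := Submodule.mem_map_of_mem (f := Submodule.mkQ (LinearMap.range h)) hd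
    rw [Submodule.map_smul''] at h4
    exact Submodule.smul_mono le_rfl le_top h4
  rw [← LinearMap.range_eq_top, eq_top_iff]
  intro x _
  have hx : Submodule.mkQ (LinearMap.range h) x ∈ (⊤ : Submodule A (P ⧸ LinearMap.range h)) :=
    trivial
  rw [key, Submodule.mem_bot] at hx
  exact (Submodule.Quotient.mk_eq_zero _).mp hx

/-- **Descent**: a proper direct summand cannot have an isomorphic endomorphism ring. -/
theorem descent (n : ℕ) : ∀ (X Y : Type v) [AddCommGroup X] [Module A X] [Module.Finite A X]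
    [Module.Projective A X] [AddCommGroup Y] [Module A Y] [Module.Finite A Y]
    [Module.Projective A Y] (g : Y →ₗ[A] X) (s : X →ₗ[A] Y) (_ : g ∘ₗ s = LinearMap.id)
    (_ : LinearMap.ker g ≠ ⊥) (_ : Module.End A X ≃+* Module.End A Y),
    (ell A Y).toNat ≤ n → False := by
  induction n using Nat.strong_induction_on with
  | _ n ih =>
    intro X Y _ _ _ _ _ _ _ _ g s hgs hker e hn
    have hlt := ell_lt A g s hgs hker
    have hX := ell_ne_top A X
    have hY := ell_ne_top A Y
    have hlt' : (ell A X).toNat < (ell A Y).toNat := by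
      obtain ⟨a, ha⟩ := ENat.ne_top_iff_exists.mp hX
      obtain ⟨b, hb⟩ := ENat.ne_top_iff_exists.mp hY
      rw [← ha, ← hb] at hlt ⊢
      rw [ENat.toNat_natCast, ENat.toNat_natCast]
      exact_mod_cast hlt
    obtain ⟨η, hη⟩ : ∃ η : Module.End A X, η = e.symm (s ∘ₗ g : Module.End A Y) := ⟨_, rfl⟩
    have hidem : η * η = η := by
      rw [hη, ← map_mul]
      congr 1
      apply LinearMap.ext; intro y
      show s (g (s (g y))) = s (g y)
      rw [show g (s (g y)) = g y from LinearMap.congr_fun hgs _]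
    have h1' : η.rangeRestrict ∘ₗ (LinearMap.range η).subtype = LinearMap.id := by
      apply LinearMap.ext
      rintro ⟨x, y, rfl⟩
      apply Subtype.ext
      show η (η y) = η y
      exact LinearMap.congr_fun hidem y
    have h2' : ((LinearMap.range η).subtype ∘ₗ η.rangeRestrict : Module.End A X) = η := by
      apply LinearMap.ext; intro x; rfl
    haveI : Module.Projective A (LinearMap.range η) := Module.Projective.of_split _ _ h1'
    obtain ⟨e₁⟩ := corner_equiv e.symm s g hgs (LinearMap.range η).subtype η.rangeRestrict h1'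
      (by rw [h2', hη])
    have hker₁ : LinearMap.ker η.rangeRestrict ≠ ⊥ := by
      intro hbot
      apply hker
      have hη1 : η = 1 := by
        apply LinearMap.ext; intro x
        have hx : x - η x ∈ LinearMap.ker η.rangeRestrict := by
          rw [LinearMap.mem_ker]
          apply Subtype.ext
          show η (x - η x) = 0
          rw [map_sub, show η (η x) = η x from LinearMap.congr_fun hidem x, sub_self]
        rw [hbot, Submodule.mem_bot, sub_eq_zero] at hx
        exact hx.symm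
      have hsg : (s ∘ₗ g : Module.End A Y) = 1 := by
        have h5 := congrArg e hη1
        rw [hη, RingEquiv.apply_symm_apply, map_one] at h5
        exact h5
      rw [LinearMap.ker_eq_bot]
      intro y y' hyy'
      have h6 : s (g y) = y := LinearMap.congr_fun hsg y
      have h7 : s (g y') = y' := LinearMap.congr_fun hsg y'
      rw [← h6, ← h7, hyy']
    exact ih (ell A X).toNat (lt_of_lt_of_le hlt' hn) (LinearMap.range η) X η.rangeRestrict
      (LinearMap.range η).subtype h1' hker₁ e₁.symm le_rfl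

/-- **Main theorem**. -/
theorem main (P Q : Type v) [AddCommGroup P] [Module A P] [Module.Finite A P]
    [Module.Projective A P] [AddCommGroup Q] [Module A Q] [Module.Finite A Q]
    [Module.Projective A Q] (e : Module.End A P ≃+* Module.End A Q) :
    Nonempty (P ≃ₗ[A] Q) := by
  rcases exists_surj A P Q with ⟨f, hf⟩ | ⟨f, hf⟩
  · obtain ⟨h, hh⟩ := lift_surj A P Q f hf
    obtain ⟨s, hs⟩ := Module.projective_lifting_property h LinearMap.id hh
    by_cases hk : LinearMap.ker h = ⊥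
    · exact ⟨(LinearEquiv.ofBijective h ⟨LinearMap.ker_eq_bot.mp hk, hh⟩).symm⟩
    · exact (descent A _ P Q h s hs hk e le_rfl).elim
  · obtain ⟨h, hh⟩ := lift_surj A Q P f hf
    obtain ⟨s, hs⟩ := Module.projective_lifting_property h LinearMap.id hh
    by_cases hk : LinearMap.ker h = ⊥
    · exact ⟨LinearEquiv.ofBijective h ⟨LinearMap.ker_eq_bot.mp hk, hh⟩⟩
    · exact (descent A _ Q P h s hs hk e.symm le_rfl).elim

end ell

end Groth.Agent.Lib.Helper8.EndIso
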