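import Mathlib

/-!
# Essential constancy of inverse systems of Artinian modules with Artinian limit
-/

set_option autoImplicit false
universe u

namespace Groth.Agent.Helper8.EssConst

variable {R : Type u} [CommRing R]

section

variable (X : ℕ → Type u) [∀ n, AddCommGroup (X n)] [∀ n, Module R (X n)]
  (t : ∀ n m : ℕ, n ≤ m → (X m →ₗ[R] X n))

/-- stabilization of the images in an Artinian term. -/
lemma exists_stable_range [∀ n, IsArtinian R (X n)]
    (ht : ∀ (n m k : ℕ) (h₁ : n ≤ m) (h₂ : m ≤ k), t n k (h₁.trans h₂) = t n m h₁ ∘ₗ t m k h₂)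
    (n : ℕ) : ∃ r : ℕ, n ≤ r ∧ ∀ (k : ℕ) (hk : r ≤ k) (hr : n ≤ r),
      LinearMap.range (t n k (hr.trans hk)) = LinearMap.range (t n r hr) := by
  let f : ℕ →o (Submodule R (X n))ᵒᵈ :=
    ⟨fun s => OrderDual.toDual (LinearMap.range (t n (n + s) (Nat.le_add_right n s))),
      fun a b hab => by
        change LinearMap.range (t n (n + b) _) ≤ LinearMap.range (t n (n + a) _)
        rw [ht n (n + a) (n + b) (Nat.le_add_right n a) (Nat.add_le_add_left hab n)]
        exact LinearMap.range_comp_le_range _ _⟩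
  obtain ⟨r, hr⟩ := IsArtinian.monotone_stabilizes f
  refine ⟨n + r, Nat.le_add_right n r, fun k hk hnr => ?_⟩
  obtain ⟨s, rfl⟩ : ∃ s, k = n + s := ⟨k - n, by omega⟩
  have h1 := hr s (by omega)
  exact (congrArg OrderDual.ofDual h1).symm

end

/-- An inverse system of Artinian modules whose limit is an Artinian module `H` (in the sense that
the cone maps are jointly injective and every compatible family comes from `H`) is essentially
constant with value `H`. -/
theorem essConst (X : ℕ → Type u) [∀ n, AddCommGroup (X n)] [∀ n, Module R (X n)]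
    [∀ n, IsArtinian R (X n)]
    (t : ∀ n m : ℕ, n ≤ m → (X m →ₗ[R] X n))
    (ht0 : ∀ n, t n n le_rfl = LinearMap.id)
    (ht : ∀ (n m k : ℕ) (h₁ : n ≤ m) (h₂ : m ≤ k), t n k (h₁.trans h₂) = t n m h₁ ∘ₗ t m k h₂)
    (H : Type u) [AddCommGroup H] [Module R H] [IsArtinian R H]
    (c : ∀ n, H →ₗ[R] X n) (hc : ∀ (n m : ℕ) (h : n ≤ m), t n m h ∘ₗ c m = c n)
    (hinj : ∀ x : H, (∀ n, c n x = 0) → x = 0)
    (hsurj : ∀ y : (∀ n, X n), (∀ (n m : ℕ) (h : n ≤ m), t n m h (y m) = y n) →
      ∃ x : H, ∀ n, c n x = y n) :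
    ∃ (i : ℕ) (s : X i →ₗ[R] H), s ∘ₗ c i = LinearMap.id ∧
      ∀ j : ℕ, ∃ (k : ℕ) (hi : i ≤ k) (hj : j ≤ k), t j k hj = c j ∘ₗ s ∘ₗ t i k hi := by
  classical
  have ht' : ∀ (n m k : ℕ) (h₁ : n ≤ m) (h₂ : m ≤ k) (h₃ : n ≤ k) (x : X k),
      t n m h₁ (t m k h₂ x) = t n k h₃ x := by
    intro n m k h₁ h₂ h₃ x
    rw [ht n m k h₁ h₂]
    rfl
  have hc' : ∀ (n m : ℕ) (h : n ≤ m) (x : H), t n m h (c m x) = c n x := by
    intro n m h x
    rw [← hc n m h]
    rfl
  -- stable images
  choose r hr hrs using exists_stable_range X t ht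
  let S : ∀ n, Submodule R (X n) := fun n => LinearMap.range (t n (r n) (hr n))
  have hS : ∀ (n k : ℕ) (hk : r n ≤ k), LinearMap.range (t n k ((hr n).trans hk)) = S n :=
    fun n k hk => hrs n k hk (hr n)
  -- transition maps are surjective on stable images
  have hSsurj : ∀ (n m : ℕ) (h : n ≤ m) (y : X n), y ∈ S n → ∃ z ∈ S m, t n m h z = y := by
    intro n m h y hy
    let k := max (r n) (r m)
    have hkn : r n ≤ k := le_max_left _ _
    have hkm : r m ≤ k := le_max_right _ _
    rw [← hS n k hkn] at hy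
    obtain ⟨x, rfl⟩ := hy
    refine ⟨t m k ((hr m).trans hkm) x, ?_, ht' n m k h _ _ x⟩
    rw [← hS m k hkm]
    exact ⟨x, rfl⟩
  -- the cone maps land in the stable images
  have hcS : ∀ n (x : H), c n x ∈ S n := by
    intro n x
    exact ⟨c (r n) x, hc' n (r n) (hr n) x⟩
  -- and surject onto them
  have hcsurj : ∀ n (y : X n), y ∈ S n → ∃ x : H, c n x = y := by
    intro n y hy
    -- build a compatible family
    let z : ∀ j : ℕ, S (n + j) := fun j =>
      Nat.rec (motive := fun j => S (n + j)) ⟨y, hy⟩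
        (fun j zj => ⟨(hSsurj (n + j) (n + j + 1) (Nat.le_succ _) zj.1 zj.2).choose,
          (hSsurj (n + j) (n + j + 1) (Nat.le_succ _) zj.1 zj.2).choose_spec.1⟩) j
    have hzs : ∀ j, t (n + j) (n + j + 1) (Nat.le_succ _) (z (j + 1) : X (n + (j + 1))) = z j := by
      intro j
      exact (hSsurj (n + j) (n + j + 1) (Nat.le_succ _) (z j).1 (z j).2).choose_spec.2
    have hzab : ∀ (a b : ℕ) (hab : a ≤ b),
        t (n + a) (n + b) (Nat.add_le_add_left hab n) (z b : X (n + b)) = z a := by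
      intro a b hab
      induction b, hab using Nat.le_induction with
      | base =>
        have := ht0 (n + a)
        exact LinearMap.congr_fun this _
      | succ b hab ih =>
        rw [← ht' (n + a) (n + b) (n + (b + 1)) (Nat.add_le_add_left hab n) (Nat.le_succ _) _]
        have h5 : t (n + b) (n + (b + 1)) (Nat.le_succ _) (z (b + 1) : X (n + (b + 1))) = z b :=
          hzs b
        rw [h5]
        exact ih
    let y' : ∀ k, X k := fun k => t k (n + k) (Nat.le_add_left k n) (z k : X (n + k))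
    have hy' : ∀ (a b : ℕ) (h : a ≤ b), t a b h (y' b) = y' a := by
      intro a b h
      change t a b h (t b (n + b) _ _) = t a (n + a) _ _
      rw [ht' a b (n + b) h _ (h.trans (Nat.le_add_left b n))]
      rw [← ht' a (n + a) (n + b) (Nat.le_add_left a n) (Nat.add_le_add_left h n) _]
      rw [hzab a b h]
    obtain ⟨x, hx⟩ := hsurj y' hy'
    refine ⟨x, ?_⟩
    rw [hx n]
    change t n (n + n) _ (z n : X (n + n)) = y
    rw [← ht' n (n + 0) (n + n) (Nat.le_add_right n 0) (Nat.add_le_add_left (Nat.zero_le n) n) _]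
    rw [hzab 0 n (Nat.zero_le n)]
    exact LinearMap.congr_fun (ht0 n) y
  -- kernels of the cone maps stabilize at zero
  obtain ⟨n₀, hn₀⟩ : ∃ n₀, Function.Injective (c n₀) := by
    let f : ℕ →o (Submodule R H)ᵒᵈ :=
      ⟨fun n => OrderDual.toDual (LinearMap.ker (c n)), fun a b hab => by
        change LinearMap.ker (c b) ≤ LinearMap.ker (c a)
        intro x hx
        rw [LinearMap.mem_ker] at hx ⊢
        rw [← hc' a b hab, hx, map_zero]⟩
    obtain ⟨n₀, hn₀⟩ := IsArtinian.monotone_stabilizes f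
    refine ⟨n₀, ?_⟩
    rw [injective_iff_map_eq_zero]
    intro x hx
    apply hinj
    intro n
    rcases le_total n n₀ with h | h
    · rw [← hc' n n₀ h, hx, map_zero]
    · have h1 : LinearMap.ker (c n₀) = LinearMap.ker (c n) := congrArg OrderDual.ofDual (hn₀ n h)
      have h2 : x ∈ LinearMap.ker (c n₀) := hx
      rw [h1] at h2
      exact h2
  -- the retraction
  have hrange : LinearMap.range (c n₀) = S n₀ := by
    apply le_antisymm
    · rintro _ ⟨x, rfl⟩
      exact hcS n₀ x
    · intro y hy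
      obtain ⟨x, hx⟩ := hcsurj n₀ y hy
      exact ⟨x, hx⟩
  let e : H ≃ₗ[R] S n₀ :=
    (LinearEquiv.ofInjective (c n₀) hn₀).trans (LinearEquiv.ofEq _ _ hrange)
  have he : ∀ x : H, ((e x : S n₀) : X n₀) = c n₀ x := fun x => rfl
  let m := r n₀
  have hm : n₀ ≤ m := hr n₀
  let s : X m →ₗ[R] H := e.symm.toLinearMap ∘ₗ
    LinearMap.codRestrict (S n₀) (t n₀ m hm) (fun x => ⟨x, rfl⟩)
  have hs : ∀ x : X m, c n₀ (s x) = t n₀ m hm x := by
    intro x
    rw [← he]
    simp only [s, LinearMap.coe_comp, LinearEquiv.coe_coe, Function.comp_apply,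
      LinearEquiv.apply_symm_apply]
    rfl
  refine ⟨m, s, ?_, ?_⟩
  · apply LinearMap.ext
    intro x
    apply hn₀
    rw [LinearMap.comp_apply, hs, hc' n₀ m hm]
    rfl
  · intro j
    let j' := max j n₀
    have hjj' : j ≤ j' := le_max_left _ _
    have hnj' : n₀ ≤ j' := le_max_right _ _
    let k := max (r j') m
    have hkr : r j' ≤ k := le_max_left _ _
    have hkm : m ≤ k := le_max_right _ _
    have hj'k : j' ≤ k := (hr j').trans hkr
    refine ⟨k, hkm, hjj'.trans hj'k, ?_⟩
    apply LinearMap.ext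
    intro x
    have h1 : t j' k hj'k x ∈ S j' := by
      rw [← hS j' k hkr]
      exact ⟨x, rfl⟩
    obtain ⟨h', hh'⟩ := hcsurj j' _ h1
    have h2 : s (t m k hkm x) = h' := by
      apply hn₀
      rw [hs, ht' n₀ m k hm hkm (hm.trans hkm), ← hc' n₀ j' hnj' h', hh',
        ht' n₀ j' k hnj' hj'k (hm.trans hkm)]
    simp only [LinearMap.coe_comp, Function.comp_apply]
    rw [h2, ← hc' j j' hjj' h', hh', ht' j j' k hjj' hj'k (hjj'.trans hj'k)]

end Groth.Agent.Helper8.EssConst
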