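import Mathlib

/-!
# Annihilator of the top exterior power of a cyclic quotient of a projective module

`P` finite projective of constant rank `n`, `π : P → Q` surjective with kernel `R e`.
Then `Ann (⋀ⁿ Q) = { φ e | φ ∈ P^* }`.  Applied to Kähler differentials of a hypersurface.
-/

namespace Groth.Agent.Lib.Helper8.ExtAnn

open scoped TensorProduct

universe u v w

theorem eq_zero_of_local {R : Type u} [CommRing R] {M : Type v} [AddCommGroup M] [Module R M]
    (z : M) (h : ∀ 𝔪 : Ideal R, 𝔪.IsMaximal → ∃ s : R, s ∉ 𝔪 ∧ s • z = 0) : z = 0 := by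
  by_contra hz
  let J : Ideal R := LinearMap.ker (LinearMap.toSpanSingleton R M z)
  have hJ : J ≠ ⊤ := by
    intro hJ
    have h1 : (1 : R) ∈ J := hJ ▸ Submodule.mem_top
    have h2 : (1 : R) • z = 0 := h1
    exact hz (by simpa using h2)
  obtain ⟨𝔪, h𝔪, hle⟩ := Ideal.exists_le_maximal J hJ
  obtain ⟨s, hs, hsz⟩ := h 𝔪 h𝔪
  exact hs (hle (show s ∈ J from hsz))

theorem alt_mem_span {R : Type u} [CommRing R] {M : Type v} [AddCommGroup M] [Module R M]
    {N : Type w} [AddCommGroup N] [Module R N] {n : ℕ} (F : M [⋀^Fin n]→ₗ[R] N)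
    (p v : Fin n → M) (hv : ∀ i, v i ∈ Submodule.span R (Set.range p)) :
    F v ∈ Submodule.span R {F p} := by
  classical
  have h := fun i => (Submodule.mem_span_range_iff_exists_fun R).mp (hv i)
  choose c hc using h
  have hv' : v = fun i => ∑ j, c i j • p j := funext fun i => (hc i).symm
  rw [hv']
  have hsum : F (fun i => ∑ j, c i j • p j) =
      ∑ r : Fin n → Fin n, F (fun i => c i (r i) • p (r i)) :=
    F.toMultilinearMap.map_sum (fun (i : Fin n) (j : Fin n) => c i j • p j)
  rw [hsum]
  refine Submodule.sum_mem _ fun r _ => ?_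
  rw [AlternatingMap.map_smul_univ F (fun i => c i (r i)) (fun i => p (r i))]
  refine Submodule.smul_mem _ _ ?_
  by_cases hr : Function.Injective r
  · have hb : Function.Bijective r := Finite.injective_iff_bijective.mp hr
    have hperm : F (fun i => p (r i)) = Equiv.Perm.sign (Equiv.ofBijective r hb) • F p := by
      have := AlternatingMap.map_perm F p (Equiv.ofBijective r hb)
      simpa [Function.comp_def] using this
    rw [hperm]
    rcases Int.units_eq_one_or (Equiv.Perm.sign (Equiv.ofBijective r hb)) with h1 | h1 <;> rw [h1]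
    · rw [one_smul]; exact Submodule.mem_span_singleton_self _
    · rw [Units.neg_smul, one_smul]
      exact Submodule.neg_mem _ (Submodule.mem_span_singleton_self _)
  · rw [F.map_eq_zero_of_not_injective _ (fun h => hr (fun i j hij => h (congrArg p hij)))]
    exact Submodule.zero_mem _

section LocalData

variable {R : Type u} [CommRing R] {P : Type v} [AddCommGroup P] [Module R P]
  [Module.Finite R P] [Module.Projective R P]

theorem exists_local_data (𝔭 : Ideal R) [𝔭.IsPrime] (n : ℕ)
    (hrk : Module.finrank (Localization.AtPrime 𝔭) (LocalizedModule 𝔭.primeCompl P) = n) :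
    ∃ (p : Fin n → P) (ψ : Fin n → Module.Dual R P),
      (Matrix.of fun i j => ψ j (p i)).det ∉ 𝔭 ∧
      ∀ x : P, ∃ s : 𝔭.primeCompl, (s : R) • x ∈ Submodule.span R (Set.range p) := by
  classical
  haveI : Module.FinitePresentation R P := Module.finitePresentation_of_projective R P
  haveI : Module.Free (Localization.AtPrime 𝔭) (LocalizedModule 𝔭.primeCompl P) :=
    Module.free_of_flat_of_isLocalRing
  let b : Module.Basis (Fin n) (Localization.AtPrime 𝔭) (LocalizedModule 𝔭.primeCompl P) :=
    Module.finBasisOfFinrankEq _ _ hrk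
  let f : P →ₗ[R] LocalizedModule 𝔭.primeCompl P := LocalizedModule.mkLinearMap 𝔭.primeCompl P
  choose x hx using fun j => IsLocalizedModule.surj 𝔭.primeCompl f (b j)
  have hx' : ∀ j, f (x j).1 = algebraMap R (Localization.AtPrime 𝔭) ((x j).2 : R) • b j := by
    intro j
    rw [← hx j, Submonoid.smul_def, algebraMap_smul]
  have hψ : ∀ i, ∃ (h : P →ₗ[R] R) (s : 𝔭.primeCompl),
      (Algebra.linearMap R (Localization.AtPrime 𝔭)) ∘ₗ h =
        s • (((b.coord i).restrictScalars R) ∘ₗ f) := fun i =>
    Module.FinitePresentation.exists_lift_of_isLocalizedModule 𝔭.primeCompl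
      (Algebra.linearMap R (Localization.AtPrime 𝔭)) _
  choose ψ t hψt using hψ
  refine ⟨fun j => (x j).1, ψ, ?_, ?_⟩
  · have hentry : ∀ i j, algebraMap R (Localization.AtPrime 𝔭) (ψ j (x i).1) =
        if i = j then algebraMap R (Localization.AtPrime 𝔭) ((t i : R) * ((x i).2 : R)) else 0 := by
      intro i j
      have h1 := LinearMap.congr_fun (hψt j) (x i).1
      simp only [LinearMap.comp_apply, Algebra.linearMap_apply, LinearMap.smul_apply,
        LinearMap.restrictScalars_apply] at h1
      rw [h1, hx' i, map_smul, Module.Basis.coord_apply, Module.Basis.repr_self,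
        Finsupp.single_apply]
      split_ifs with hij
      · subst hij
        simp [Submonoid.smul_def, Algebra.smul_def]
      · simp
    rw [← Ideal.mem_primeCompl_iff,
      ← IsLocalization.AtPrime.isUnit_to_map_iff (Localization.AtPrime 𝔭) 𝔭, RingHom.map_det]
    have hM : (algebraMap R (Localization.AtPrime 𝔭)).mapMatrix
          (Matrix.of fun i j => ψ j (x i).1) =
        Matrix.diagonal fun i =>
          algebraMap R (Localization.AtPrime 𝔭) ((t i : R) * ((x i).2 : R)) := by
      ext i j
      rw [RingHom.mapMatrix_apply, Matrix.map_apply, Matrix.of_apply, Matrix.diagonal_apply,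
        hentry]
    rw [hM, Matrix.det_diagonal]
    refine Finset.prod_induction _ IsUnit (fun a b => IsUnit.mul) isUnit_one (fun i _ => ?_)
    exact IsLocalization.map_units (Localization.AtPrime 𝔭) (t i * (x i).2)
  · intro y
    have htop : Submodule.span (Localization.AtPrime 𝔭)
        (f '' Set.range fun j => (x j).1) = ⊤ := by
      rw [eq_top_iff, ← b.span_eq, Submodule.span_le]
      rintro _ ⟨j, rfl⟩
      have hu : IsUnit (algebraMap R (Localization.AtPrime 𝔭) ((x j).2 : R)) :=
        IsLocalization.map_units _ (x j).2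
      have hbj : b j = ((hu.unit⁻¹ : (Localization.AtPrime 𝔭)ˣ) : Localization.AtPrime 𝔭) •
          f (x j).1 := by
        rw [hx' j, smul_smul, IsUnit.val_inv_mul, one_smul]
      rw [SetLike.mem_coe, hbj]
      exact Submodule.smul_mem _ _ (Submodule.subset_span ⟨(x j).1, ⟨j, rfl⟩, rfl⟩)
    have hy : f y ∈ Submodule.localized' (Localization.AtPrime 𝔭) 𝔭.primeCompl f
        (Submodule.span R (Set.range fun j => (x j).1)) := by
      rw [Submodule.localized'_span, htop]; exact Submodule.mem_top
    obtain ⟨m, hm, s, hms⟩ := (Submodule.mem_localized' _ _ _ _ _).mp hy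
    rw [IsLocalizedModule.mk'_eq_iff] at hms
    have hfm : f m = f ((s : R) • y) := by rw [hms, map_smul, Submonoid.smul_def]
    obtain ⟨c, hc⟩ := (IsLocalizedModule.eq_iff_exists 𝔭.primeCompl f).mp hfm
    refine ⟨c * s, ?_⟩
    have hcs : ((c * s : 𝔭.primeCompl) : R) • y = (c : R) • m := by
      rw [Submonoid.coe_mul, mul_smul]
      simpa [Submonoid.smul_def] using hc.symm
    rw [hcs]; exact Submodule.smul_mem _ _ hm

end LocalData

/-- The determinant as an `R`-alternating map with values in `R ⧸ I`. -/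
noncomputable def detAltR {R : Type u} [CommRing R] (I : Ideal R) (n : ℕ) :
    (Fin n → R ⧸ I) [⋀^Fin n]→ₗ[R] (R ⧸ I) :=
  { (Matrix.detRowAlternating (R := R ⧸ I) (n := Fin n)).toMultilinearMap.restrictScalars R with
    map_eq_zero_of_eq' := fun v i j hv hij =>
      (Matrix.detRowAlternating (R := R ⧸ I) (n := Fin n)).map_eq_zero_of_eq v hv hij }

theorem detAltR_apply {R : Type u} [CommRing R] (I : Ideal R) (n : ℕ) (v : Fin n → Fin n → R ⧸ I) :
    detAltR I n v = Matrix.det (Matrix.of v) := rfl

section Main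

variable {R : Type u} [CommRing R] {P : Type v} [AddCommGroup P] [Module R P]
  [Module.Finite R P] [Module.Projective R P] {Q : Type w} [AddCommGroup Q] [Module R Q]

theorem dual_smul_ιMulti_eq_zero (n : ℕ)
    (hrk : ∀ 𝔭 : PrimeSpectrum R, Module.rankAtStalk P 𝔭 = n)
    (π : P →ₗ[R] Q) (e : P) (he : π e = 0) (φ : Module.Dual R P) (y : Fin n → P) :
    φ e • exteriorPower.ιMulti R n (fun i => π (y i)) = 0 := by
  classical
  apply eq_zero_of_local (R := R)
  intro 𝔪 h𝔪
  haveI := h𝔪.isPrime
  obtain ⟨p, -, -, hsp⟩ := exists_local_data (P := P) 𝔪 n (hrk ⟨𝔪, inferInstance⟩)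
  choose s hs using fun i => hsp (y i)
  obtain ⟨se, hse⟩ := hsp e
  let F : P [⋀^Fin n]→ₗ[R] ⋀[R]^n Q := (exteriorPower.ιMulti R n).compLinearMap π
  have hF : ∀ v : Fin n → P, F v = exteriorPower.ιMulti R n (fun i => π (v i)) := fun v => rfl
  have h1 : (∏ i, (s i : R)) • F y ∈ Submodule.span R {F p} := by
    have h0 : (∏ i, (s i : R)) • F y = F (fun i => (s i : R) • y i) :=
      (AlternatingMap.map_smul_univ F (fun i => (s i : R)) y).symm
    rw [h0]; exact alt_mem_span F p _ hs
  obtain ⟨c, hc⟩ := Submodule.mem_span_singleton.mp h1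
  obtain ⟨ε, hε⟩ := (Submodule.mem_span_range_iff_exists_fun R).mp hse
  have h2 : ∀ j, ε j • F p = 0 := by
    intro j
    have hz : F (Function.update p j ((se : R) • e)) = 0 := by
      rw [AlternatingMap.map_update_smul]
      have h0 : F (Function.update p j e) = 0 := by
        rw [hF]
        exact AlternatingMap.map_coord_zero _ j (by simp [he])
      rw [h0, smul_zero]
    rw [← hε, AlternatingMap.map_update_sum] at hz
    rw [Finset.sum_eq_single j] at hz
    · rwa [AlternatingMap.map_update_smul, Function.update_eq_self] at hz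
    · intro l _ hlj
      rw [AlternatingMap.map_update_smul, AlternatingMap.map_update_self _ _ hlj.symm, smul_zero]
    · simp
  have h3 : ((se : R) * φ e) • F p = 0 := by
    have h0 : (se : R) * φ e = ∑ j, ε j * φ (p j) := by
      rw [← smul_eq_mul, ← map_smul, ← hε, map_sum]
      simp
    rw [h0, Finset.sum_smul]
    refine Finset.sum_eq_zero fun j _ => ?_
    rw [mul_comm, mul_smul, h2, smul_zero]
  refine ⟨((se * ∏ i, s i : 𝔪.primeCompl) : R), (se * ∏ i, s i : 𝔪.primeCompl).2, ?_⟩
  rw [← hF y]
  simp only [Submonoid.coe_mul, Submonoid.coe_finset_prod]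
  have h4 : ((se : R) * ∏ i, (s i : R)) • (φ e • F y) = c • (((se : R) * φ e) • F p) := by
    rw [mul_smul, smul_comm (∏ i, (s i : R)) (φ e) (F y), ← hc]
    simp only [smul_smul]
    congr 1
    ring
  rw [h4, h3, smul_zero]

theorem mem_span_of_mem_annihilator (n : ℕ)
    (hrk : ∀ 𝔭 : PrimeSpectrum R, Module.rankAtStalk P 𝔭 = n)
    (π : P →ₗ[R] Q) (hπ : Function.Surjective π) (e : P)
    (hker : LinearMap.ker π ≤ Submodule.span R {e})
    (a : R) (ha : a ∈ (⋀[R]^n Q).annihilator) :
    a ∈ Ideal.span (Set.range fun φ : Module.Dual R P => φ e) := by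
  classical
  have hψI : ∀ φ : Module.Dual R P, φ e ∈ Ideal.span (Set.range fun φ : Module.Dual R P => φ e) :=
    fun φ => Ideal.subset_span ⟨φ, rfl⟩
  generalize Ideal.span (Set.range fun φ : Module.Dual R P => φ e) = I at hψI ⊢
  rw [← Ideal.Quotient.eq_zero_iff_mem]
  apply eq_zero_of_local (R := R)
  intro 𝔪 h𝔪
  haveI := h𝔪.isPrime
  obtain ⟨p, ψ, hdet, -⟩ := exists_local_data (P := P) 𝔪 n (hrk ⟨𝔪, inferInstance⟩)
  refine ⟨_, hdet, ?_⟩
  let mkI : R →ₗ[R] R ⧸ I := (Ideal.Quotient.mkₐ R I).toLinearMap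
  have hle : ∀ j, LinearMap.ker π ≤ LinearMap.ker (mkI ∘ₗ ψ j) := by
    intro j z hz
    obtain ⟨r, rfl⟩ := Submodule.mem_span_singleton.mp (hker hz)
    rw [LinearMap.mem_ker, LinearMap.comp_apply, map_smul, smul_eq_mul]
    show Ideal.Quotient.mk I (r * ψ j e) = 0
    exact Ideal.Quotient.eq_zero_iff_mem.mpr (I.mul_mem_left r (hψI (ψ j)))
  let ψb : Fin n → (Q →ₗ[R] R ⧸ I) := fun j =>
    (Submodule.liftQ (LinearMap.ker π) (mkI ∘ₗ ψ j) (hle j)) ∘ₗ
      ((π.quotKerEquivOfSurjective hπ).symm : Q →ₗ[R] P ⧸ LinearMap.ker π)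
  have hψb : ∀ j z, ψb j (π z) = Ideal.Quotient.mk I (ψ j z) := by
    intro j z
    show Submodule.liftQ (LinearMap.ker π) (mkI ∘ₗ ψ j) (hle j)
      ((π.quotKerEquivOfSurjective hπ).symm (π z)) = _
    rw [LinearMap.quotKerEquivOfSurjective_symm_apply, Submodule.liftQ_apply]
    rfl
  let Ψ : Q →ₗ[R] (Fin n → R ⧸ I) := LinearMap.pi ψb
  let Λ : ⋀[R]^n Q →ₗ[R] R ⧸ I :=
    exteriorPower.alternatingMapLinearEquiv ((detAltR I n).compLinearMap Ψ)
  have hΛ : Λ (exteriorPower.ιMulti R n (fun i => π (p i))) =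
      Ideal.Quotient.mk I ((Matrix.of fun i j => ψ j (p i)).det) := by
    show exteriorPower.alternatingMapLinearEquiv _ _ = _
    rw [exteriorPower.alternatingMapLinearEquiv_apply_ιMulti, AlternatingMap.compLinearMap_apply,
      detAltR_apply, RingHom.map_det]
    congr 1
    ext i j
    simp only [Matrix.of_apply, RingHom.mapMatrix_apply, Matrix.map_apply]
    exact hψb j (p i)
  have hzero : a • exteriorPower.ιMulti R n (fun i => π (p i)) = 0 := by
    apply Subtype.ext
    rw [Submodule.coe_smul, Submodule.coe_zero]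
    exact (Submodule.mem_annihilator.mp ha) _ (Subtype.prop _)
  have h5 := congrArg Λ hzero
  rw [map_smul, hΛ, map_zero] at h5
  rw [Algebra.smul_def, Ideal.Quotient.algebraMap_eq] at h5 ⊢
  rw [mul_comm]; exact h5

theorem ann_eq (n : ℕ)
    (hrk : ∀ 𝔭 : PrimeSpectrum R, Module.rankAtStalk P 𝔭 = n)
    (π : P →ₗ[R] Q) (hπ : Function.Surjective π) (e : P) (he : π e = 0)
    (hker : LinearMap.ker π ≤ Submodule.span R {e}) :
    (⋀[R]^n Q).annihilator = Ideal.span (Set.range fun φ : Module.Dual R P => φ e) := by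
  apply le_antisymm
  · intro a ha
    exact mem_span_of_mem_annihilator n hrk π hπ e hker a ha
  · rw [Ideal.span_le]
    rintro _ ⟨φ, rfl⟩
    rw [SetLike.mem_coe, Submodule.mem_annihilator]
    intro w hw
    have key : ∀ z : ⋀[R]^n Q, φ e • z = 0 := by
      intro z
      have hz : z ∈ Submodule.span R (Set.range (exteriorPower.ιMulti R n (M := Q))) := by
        rw [exteriorPower.ιMulti_span]; exact Submodule.mem_top
      induction hz using Submodule.span_induction with
      | mem x hx =>
        obtain ⟨q, rfl⟩ := hx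
        choose y hy using fun i => hπ (q i)
        have hq : q = fun i => π (y i) := funext fun i => (hy i).symm
        rw [hq]
        exact dual_smul_ιMulti_eq_zero n hrk π e he φ y
      | zero => simp
      | add x y _ _ hx hy => rw [smul_add, hx, hy, add_zero]
      | smul r x _ hx => rw [smul_comm, hx, smul_zero]
    have h6 := congrArg Subtype.val (key ⟨w, hw⟩)
    simpa using h6

end Main

theorem main (A B R : Type u) [CommRing A] [CommRing B] [CommRing R]
    [Algebra A B] [Algebra B R] [Algebra A R] [IsScalarTower A B R] [Algebra.Smooth A B] (n : ℕ)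
    (hn : ∀ p : PrimeSpectrum B, Module.rankAtStalk (Ω[B⁄A]) p = n)
    (g : B) (hsurj : Function.Surjective (algebraMap B R))
    (hker : RingHom.ker (algebraMap B R) = Ideal.span {g}) :
    (⋀[R]^n (Ω[R⁄A])).annihilator =
      Ideal.span (Set.range fun φ : Ω[B⁄A] →ₗ[B] B =>
        algebraMap B R (φ (KaehlerDifferential.D A B g))) := by
  have hg0 : algebraMap B R g = 0 := by
    rw [← RingHom.mem_ker, hker]; exact Ideal.mem_span_singleton_self g
  have hπ : Function.Surjective (KaehlerDifferential.mapBaseChange A B R) :=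
    KaehlerDifferential.mapBaseChange_surjective A B R hsurj
  have hrk : ∀ p : PrimeSpectrum R, Module.rankAtStalk (R ⊗[B] Ω[B⁄A]) p = n := fun p => by
    rw [Module.rankAtStalk_baseChange]; exact hn _
  have he : KaehlerDifferential.mapBaseChange A B R
      ((1 : R) ⊗ₜ[B] KaehlerDifferential.D A B g) = 0 := by
    rw [KaehlerDifferential.mapBaseChange_tmul, KaehlerDifferential.map_D, hg0, map_zero,
      smul_zero]
  have hkerπ : LinearMap.ker (KaehlerDifferential.mapBaseChange A B R) ≤
      Submodule.span R {(1 : R) ⊗ₜ[B] KaehlerDifferential.D A B g} := by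
    intro x hx
    have hx' : x ∈ LinearMap.range (KaehlerDifferential.kerCotangentToTensor A B R) := by
      rw [KaehlerDifferential.range_kerCotangentToTensor A B R hsurj]; exact hx
    obtain ⟨c, rfl⟩ := hx'
    obtain ⟨⟨y, hy⟩, rfl⟩ := Ideal.toCotangent_surjective _ c
    rw [KaehlerDifferential.kerCotangentToTensor_toCotangent]
    have hy' : y ∈ Ideal.span {g} := by rw [← hker]; exact hy
    obtain ⟨b, rfl⟩ := Ideal.mem_span_singleton'.mp hy'
    show (1 : R) ⊗ₜ[B] KaehlerDifferential.D A B (b * g) ∈ _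
    rw [Derivation.leibniz, TensorProduct.tmul_add, TensorProduct.tmul_smul,
      TensorProduct.tmul_smul, ← algebraMap_smul R b, ← algebraMap_smul R g, hg0, zero_smul,
      add_zero]
    exact Submodule.smul_mem _ _ (Submodule.mem_span_singleton_self _)
  rw [ann_eq n hrk (KaehlerDifferential.mapBaseChange A B R) hπ _ he hkerπ]
  apply le_antisymm
  · rw [Ideal.span_le]
    rintro _ ⟨ψ, rfl⟩
    let θ : Ω[B⁄A] →ₗ[B] R :=
      (ψ.restrictScalars B) ∘ₗ (TensorProduct.mk B R (Ω[B⁄A]) 1)
    obtain ⟨h, hh⟩ := Module.projective_lifting_property (Algebra.linearMap B R) θ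
      (fun r => by obtain ⟨b, rfl⟩ := hsurj r; exact ⟨b, rfl⟩)
    refine Ideal.subset_span ⟨h, ?_⟩
    have h7 := LinearMap.congr_fun hh (KaehlerDifferential.D A B g)
    simpa [θ] using h7
  · rw [Ideal.span_le]
    rintro _ ⟨φ, rfl⟩
    refine Ideal.subset_span
      ⟨(TensorProduct.AlgebraTensorModule.rid B R R).toLinearMap ∘ₗ (LinearMap.baseChange R φ), ?_⟩
    simp [Algebra.smul_def]

end Groth.Agent.Lib.Helper8.ExtAnn
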