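import Groth.Agent.Lib.Helper8.ExtLoc1

/-!
# Localization of `Ext`: the comparison map and degree zero
-/

set_option autoImplicit false
universe u

namespace Groth.Agent.Helper8.ExtLoc

open CategoryTheory Abelian

variable {R : Type u} [CommRing R] (S : Submonoid R)

/-- the comparison map `Ext_R(M, N) → Ext_{R_S}(M_S, N_S)`. -/
noncomputable def Φ (M N : ModuleCat.{u} R) (j : ℕ) :
    Ext M N j →+ Ext ((locF S).obj M) ((locF S).obj N) j :=
  (locF S).mapExtAddHom M N j

lemma Φ_apply {M N : ModuleCat.{u} R} {j : ℕ} (x : Ext M N j) :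
    Φ S M N j x = x.mapExactFunctor (locF S) := rfl

lemma Φ_mk₀ {M N : ModuleCat.{u} R} (f : M ⟶ N) :
    Φ S M N 0 (Ext.mk₀ f) = Ext.mk₀ ((locF S).map f) :=
  Ext.mapExactFunctor_mk₀ (locF S) f

lemma Φ_comp {M N P : ModuleCat.{u} R} {a b c : ℕ} (α : Ext M N a) (β : Ext N P b)
    (h : a + b = c) : Φ S M P c (α.comp β h) = (Φ S M N a α).comp (Φ S N P b β) h :=
  Ext.mapExactFunctor_comp (locF S) α β h

lemma Φ_extClass {T : ShortComplex (ModuleCat.{u} R)} (hT : T.ShortExact) :
    Φ S T.X₃ T.X₁ 1 hT.extClass = (hT.map_of_exact (locF S)).extClass :=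
  Ext.mapExactFunctor_extClass (locF S) hT

lemma locF_map_smul_id (N : ModuleCat.{u} R) (r : R) :
    (locF S).map (r • 𝟙 N) = (algebraMap R (Localization S) r) • 𝟙 ((locF S).obj N) := by
  apply ModuleCat.hom_ext
  apply LinearMap.ext
  intro x
  induction x using LocalizedModule.induction_on with
  | h m s =>
    rw [locF_map_mk]
    change LocalizedModule.mk (r • m) s = (algebraMap R (Localization S) r) • LocalizedModule.mk m s
    rw [algebraMap_smul, LocalizedModule.smul'_mk]

/-- `Φ` is semilinear. -/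
lemma Φ_smul {M N : ModuleCat.{u} R} {j : ℕ} (r : R) (x : Ext M N j) :
    Φ S M N j (r • x) = (algebraMap R (Localization S) r) • Φ S M N j x := by
  rw [Ext.smul_eq_comp_mk₀, Φ_comp, Φ_mk₀, locF_map_smul_id, ← Ext.smul_eq_comp_mk₀]

section DegreeZero

variable {M N : Type u} [AddCommGroup M] [Module R M] [AddCommGroup N] [Module R N]

/-- injectivity up to `S`-torsion in degree zero. -/
lemma Φ_zero_inj [Module.Finite R M]
    (x : Ext (ModuleCat.of R M) (ModuleCat.of R N) 0)
    (hx : Φ S _ _ 0 x = 0) : ∃ s : S, (s : R) • x = 0 := by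
  obtain ⟨f, rfl⟩ := (Ext.mk₀_bijective _ _).2 x
  rw [Φ_mk₀] at hx
  have h0 : (locF S).map f = 0 := by
    apply (Ext.mk₀_bijective _ _).1
    rw [hx, Ext.mk₀_zero]
  have h1 : (LocalizedModule.mkLinearMap S N) ∘ₗ f.hom =
      (LocalizedModule.mkLinearMap S N) ∘ₗ (0 : M →ₗ[R] N) := by
    ext m
    simp only [LinearMap.comp_apply, LinearMap.zero_apply, map_zero,
      LocalizedModule.mkLinearMap_apply]
    have := locF_map_mk S f m 1
    rw [h0] at this
    exact this.symm
  obtain ⟨s, hs⟩ := Module.Finite.exists_smul_of_comp_eq_of_isLocalizedModule S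
    (LocalizedModule.mkLinearMap S N) f.hom 0 h1
  refine ⟨s, ?_⟩
  rw [smul_zero] at hs
  rw [← Ext.mk₀_smul]
  have : (s : R) • f = 0 := by
    apply ModuleCat.hom_ext
    exact hs
  rw [this, Ext.mk₀_zero]

/-- surjectivity up to denominators in degree zero. -/
lemma Φ_zero_surj [Module.FinitePresentation R M]
    (y : Ext ((locF S).obj (ModuleCat.of R M)) ((locF S).obj (ModuleCat.of R N)) 0) :
    ∃ (s : S) (x : Ext (ModuleCat.of R M) (ModuleCat.of R N) 0),
      Φ S _ _ 0 x = (algebraMap R (Localization S) s) • y := by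
  obtain ⟨g, rfl⟩ := (Ext.mk₀_bijective _ _).2 y
  let g' : LocalizedModule S M →ₗ[Localization S] LocalizedModule S N := g.hom
  let g₀ : M →ₗ[R] LocalizedModule S N :=
    (g'.restrictScalars R) ∘ₗ (LocalizedModule.mkLinearMap S M)
  obtain ⟨h, s, hs⟩ := Module.FinitePresentation.exists_lift_of_isLocalizedModule S
    (LocalizedModule.mkLinearMap S N) g₀
  refine ⟨s, Ext.mk₀ (ModuleCat.ofHom h), ?_⟩
  rw [Φ_mk₀, ← Ext.mk₀_smul]
  congr 1
  apply ModuleCat.hom_ext
  apply LinearMap.ext
  intro x
  induction x using LocalizedModule.induction_on with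
  | h m t =>
    rw [locF_map_mk]
    have h1 : LocalizedModule.mk (h m) (1 : S) = (s : R) • g' (LocalizedModule.mk m 1) := by
      have := LinearMap.congr_fun hs m
      simp only [LinearMap.comp_apply, LocalizedModule.mkLinearMap_apply, LinearMap.smul_apply,
        g₀, LinearMap.coe_restrictScalars] at this
      exact this
    have h2 : (LocalizedModule.mk m t : LocalizedModule S M) =
        (Localization.mk 1 t : Localization S) • LocalizedModule.mk m (1 : S) := by
      rw [LocalizedModule.mk_smul_mk, one_smul, mul_one]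
    have h3 : (LocalizedModule.mk (h m) t : LocalizedModule S N) =
        (Localization.mk 1 t : Localization S) • LocalizedModule.mk (h m) (1 : S) := by
      rw [LocalizedModule.mk_smul_mk, one_smul, mul_one]
    change LocalizedModule.mk (h m) t =
      (algebraMap R (Localization S) s) • g' (LocalizedModule.mk m t)
    rw [h3, h1, h2, map_smul, algebraMap_smul, smul_comm]

end DegreeZero

end Groth.Agent.Helper8.ExtLoc
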