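import Groth.Agent.Lib.Helper8.LC48

set_option autoImplicit false
universe u
open CategoryTheory CategoryTheory.Limits Opposite

namespace Groth.Agent.Helper8.LC

open Abelian localCohomology LocCoh

variable {R : Type u} [CommRing R]

section TMap

variable (J : Ideal R) {X Y : Type u} [AddCommGroup X] [Module R X] [AddCommGroup Y] [Module R Y]

/-- a linear map restricted to torsion submodules. -/
def tMap (f : X →ₗ[R] Y) : DRing.torsionSub J X →ₗ[R] DRing.torsionSub J Y :=
  (f.comp (DRing.torsionSub J X).subtype).codRestrict (DRing.torsionSub J Y) (by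
    rintro ⟨x, n, hn⟩
    exact ⟨n, fun a ha => by
      change a • f x = 0
      rw [← map_smul, hn a ha, map_zero]⟩)

lemma tMap_apply (f : X →ₗ[R] Y) (x : DRing.torsionSub J X) : (tMap J f x : Y) = f x := rfl

lemma tMap_injective (f : X →ₗ[R] Y) (hf : Function.Injective f) :
    Function.Injective (tMap J f) := by
  intro x y hxy
  apply Subtype.ext
  apply hf
  exact congrArg Subtype.val hxy

lemma mem_torsionSub_sup {I J : Ideal R} (x : X) (hI : x ∈ DRing.torsionSub I X)
    (hJ : x ∈ DRing.torsionSub J X) : x ∈ DRing.torsionSub (I ⊔ J) X := by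
  obtain ⟨n, hn⟩ := hI
  obtain ⟨m, hm⟩ := hJ
  refine ⟨n + m, fun r hr => ?_⟩
  have h1 := Ideal.sup_pow_add_le_pow_sup_pow (I := I) (J := J) (n := n) (m := m) hr
  obtain ⟨r₁, hr₁, r₂, hr₂, rfl⟩ := Submodule.mem_sup.mp h1
  rw [add_smul, hn r₁ hr₁, hm r₂ hr₂, add_zero]

lemma torsionSub_mono {I I' : Ideal R} (h : I ≤ I') :
    DRing.torsionSub I' X ≤ DRing.torsionSub I X := by
  rintro x ⟨n, hn⟩
  exact ⟨n, fun r hr => hn r (Ideal.pow_right_mono h n hr)⟩

end TMap

variable [IsNoetherianRing R]

section Acyclic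

variable (J : Ideal R) {N E : Type u} [AddCommGroup N] [Module R N] [AddCommGroup E] [Module R E]

/-- for an acyclic submodule the torsion functor is exact on the right. -/
lemma tMap_mkQ_surjective (f : N →ₗ[R] E) (hf : Function.Injective f)
    (hN : Subsingleton (H J 1 N)) :
    Function.Surjective (tMap J (LinearMap.range f).mkQ) := by
  have hS := sesQuot_shortExact f hf
  rintro ⟨q, hq⟩
  obtain ⟨q', hq'⟩ := exists_ev0_eq J (sesQuot f).X₃ q hq
  have h1 : δ J 0 hS q' = 0 := hN.elim _ _
  obtain ⟨e', he'⟩ := (exact_g_δ J 0 hS q').mp h1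
  refine ⟨⟨ev0 J (sesQuot f).X₂ e', ev0_mem J _ e'⟩, ?_⟩
  apply Subtype.ext
  change (LinearMap.range f).mkQ (ev0 J (sesQuot f).X₂ e') = q
  have := ev0_map J (sesQuot f).g e'
  rw [he', hq'] at this
  exact this.symm

lemma ker_tMap_mkQ (f : N →ₗ[R] E) (hf : Function.Injective f) :
    LinearMap.ker (tMap J (LinearMap.range f).mkQ) = LinearMap.range (tMap J f) := by
  ext ⟨y, hy⟩
  rw [LinearMap.mem_ker]
  constructor
  · intro h
    have h' : (LinearMap.range f).mkQ y = 0 := congrArg Subtype.val h
    rw [Submodule.mkQ_apply, Submodule.Quotient.mk_eq_zero] at h'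
    obtain ⟨x, rfl⟩ := h'
    obtain ⟨n, hn⟩ := hy
    refine ⟨⟨x, n, fun a ha => ?_⟩, rfl⟩
    apply hf
    rw [map_smul, hn a ha, map_zero]
  · rintro ⟨x, hx⟩
    apply Subtype.ext
    change (LinearMap.range f).mkQ y = 0
    have : y = f x.1 := (congrArg Subtype.val hx).symm
    rw [this, Submodule.mkQ_apply, Submodule.Quotient.mk_eq_zero]
    exact ⟨x.1, rfl⟩

/-- the quotient of torsion submodules is the torsion of the quotient, for acyclic `N`. -/
noncomputable def torsionQuotEquiv (f : N →ₗ[R] E) (hf : Function.Injective f)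
    (hN : Subsingleton (H J 1 N)) :
    (DRing.torsionSub J E ⧸ LinearMap.range (tMap J f)) ≃ₗ[R]
      DRing.torsionSub J (E ⧸ LinearMap.range f) :=
  (Submodule.quotEquivOfEq _ _ (ker_tMap_mkQ J f hf).symm).trans
    (LinearMap.quotKerEquivOfSurjective _ (tMap_mkQ_surjective J f hf hN))

lemma torsionQuotEquiv_mk (f : N →ₗ[R] E) (hf : Function.Injective f)
    (hN : Subsingleton (H J 1 N)) (e : DRing.torsionSub J E) :
    torsionQuotEquiv J f hf hN ((LinearMap.range (tMap J f)).mkQ e) =
      tMap J (LinearMap.range f).mkQ e := rfl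

end Acyclic

section LemmaA

variable (I J : Ideal R)

/-- Lemma A. -/
theorem subsingleton_sup_of_acyclic (j : ℕ) (N : Type u) [AddCommGroup N] [Module R N]
    (hN : ∀ q, 0 < q → Subsingleton (H J q N))
    (hI : Subsingleton (H I (j + 1) (DRing.torsionSub J N))) :
    Subsingleton (H (I ⊔ J) (j + 1) N) := by
  induction j generalizing N with
  | zero =>
    let E₀ : ModuleCat.{u} R := Injective.under (ModuleCat.of R N)
    let ι₀ : ModuleCat.of R N ⟶ E₀ := Injective.ι (ModuleCat.of R N)
    have hι₀ : Function.Injective ι₀.hom := (ModuleCat.mono_iff_injective _).mp inferInstance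
    haveI hinj : Injective (ModuleCat.of R E₀) :=
      (inferInstance : Injective (Injective.under (ModuleCat.of R N)))
    haveI : Module.Injective R E₀ := Module.injective_module_of_injective_object R E₀
    let f : N →ₗ[R] E₀ := ι₀.hom
    have hS := sesQuot_shortExact f hι₀
    haveI : Injective (sesQuot f).X₂ := hinj
    let tf := tMap J f
    have htf : Function.Injective tf := tMap_injective J f hι₀
    have hSt := sesQuot_shortExact tf htf
    let e := torsionQuotEquiv J f hι₀ (hN 1 Nat.one_pos)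
    apply subsingleton_of_forall_eq_zero
    intro z
    obtain ⟨q', rfl⟩ := δ_surjective_of_injective (I ⊔ J) 0 hS z
    -- the element `q`
    have hq : ev0 (I ⊔ J) (sesQuot f).X₃ q' ∈ DRing.torsionSub (I ⊔ J) (E₀ ⧸ LinearMap.range f) :=
      ev0_mem (I ⊔ J) _ q'
    set q := ev0 (I ⊔ J) (sesQuot f).X₃ q' with hqdef
    have hqJ : q ∈ DRing.torsionSub J (E₀ ⧸ LinearMap.range f) :=
      torsionSub_mono le_sup_right hq
    have hqI : q ∈ DRing.torsionSub I (E₀ ⧸ LinearMap.range f) :=
      torsionSub_mono le_sup_left hq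
    let qJ : DRing.torsionSub J (E₀ ⧸ LinearMap.range f) := ⟨q, hqJ⟩
    let c := e.symm qJ
    have hc : c ∈ DRing.torsionSub I (DRing.torsionSub J E₀ ⧸ LinearMap.range tf) := by
      obtain ⟨n, hn⟩ := hqI
      refine ⟨n, fun a ha => ?_⟩
      apply e.injective
      rw [map_smul, map_zero, LinearEquiv.apply_symm_apply]
      exact Subtype.ext (hn a ha)
    obtain ⟨c', hc'⟩ := exists_ev0_eq I (sesQuot tf).X₃ c hc
    have h1 : δ I 0 hSt c' = 0 := hI.elim _ _
    obtain ⟨e', he'⟩ := (exact_g_δ I 0 hSt c').mp h1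
    set e₁ : DRing.torsionSub J E₀ := ev0 I (sesQuot tf).X₂ e' with he₁
    have he₁I : e₁ ∈ DRing.torsionSub I (DRing.torsionSub J E₀) := ev0_mem I _ e'
    have hmk : (LinearMap.range tf).mkQ e₁ = c := by
      have := ev0_map I (sesQuot tf).g e'
      rw [he', hc'] at this
      exact this.symm
    have hge : (LinearMap.range f).mkQ (e₁ : E₀) = q := by
      have h2 : e ((LinearMap.range tf).mkQ e₁) = qJ := by
        rw [hmk]; exact e.apply_symm_apply qJ
      rw [torsionQuotEquiv_mk] at h2
      exact congrArg Subtype.val h2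
    have he₁sup : (e₁ : E₀) ∈ DRing.torsionSub (I ⊔ J) E₀ := by
      apply mem_torsionSub_sup
      · obtain ⟨n, hn⟩ := he₁I
        exact ⟨n, fun a ha => congrArg Subtype.val (hn a ha)⟩
      · exact e₁.2
    obtain ⟨e'', he''⟩ := exists_ev0_eq (I ⊔ J) (sesQuot f).X₂ (e₁ : E₀) he₁sup
    have h3 : ((localCohomology (I ⊔ J) 0).map (sesQuot f).g) e'' = q' := by
      apply ev0_injective (I ⊔ J)
      rw [ev0_map, he'']
      exact hge
    rw [← h3]
    exact (exact_g_δ (I ⊔ J) 0 hS _).mpr ⟨e'', rfl⟩
  | succ j ih =>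
    let E₀ : ModuleCat.{u} R := Injective.under (ModuleCat.of R N)
    let ι₀ : ModuleCat.of R N ⟶ E₀ := Injective.ι (ModuleCat.of R N)
    have hι₀ : Function.Injective ι₀.hom := (ModuleCat.mono_iff_injective _).mp inferInstance
    haveI hinj : Injective (ModuleCat.of R E₀) :=
      (inferInstance : Injective (Injective.under (ModuleCat.of R N)))
    haveI : Module.Injective R E₀ := Module.injective_module_of_injective_object R E₀
    let f : N →ₗ[R] E₀ := ι₀.hom
    have hS := sesQuot_shortExact f hι₀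
    haveI : Injective (sesQuot f).X₂ := hinj
    let tf := tMap J f
    have htf : Function.Injective tf := tMap_injective J f hι₀
    have hSt := sesQuot_shortExact tf htf
    haveI : Module.Injective R (DRing.torsionSub J E₀) := torsionSub_injective J E₀
    haveI : Injective (sesQuot tf).X₂ :=
      Module.injective_object_of_injective_module R (DRing.torsionSub J E₀)
    let e := torsionQuotEquiv J f hι₀ (hN 1 Nat.one_pos)
    -- `Q` is acyclic
    have hQ : ∀ q, 0 < q → Subsingleton (H J q (E₀ ⧸ LinearMap.range f)) := by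
      intro q hq
      haveI := hN (q + 1) (Nat.succ_pos q)
      exact (LinearEquiv.ofBijective (δ J q hS)
        (δ_bijective_of_injective J q hq hS)).toEquiv.subsingleton
    -- `H^{j+1}_I(Γ_J Q) = 0`
    have h1 : Subsingleton (H I (j + 1) (DRing.torsionSub J E₀ ⧸ LinearMap.range tf)) := by
      haveI := hI
      exact (LinearEquiv.ofBijective (δ I (j + 1) hSt)
        (δ_bijective_of_injective I (j + 1) (Nat.succ_pos j) hSt)).toEquiv.subsingleton
    have h2 : Subsingleton (H I (j + 1) (DRing.torsionSub J (E₀ ⧸ LinearMap.range f))) :=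
      subsingleton_of_linearEquiv I (j + 1) e h1
    haveI h3 := ih (E₀ ⧸ LinearMap.range f) hQ h2
    exact (LinearEquiv.ofBijective (δ (I ⊔ J) (j + 1) hS)
      (δ_bijective_of_injective (I ⊔ J) (j + 1) (Nat.succ_pos j) hS)).symm.toEquiv.subsingleton

end LemmaA

section Main

variable (I J : Ideal R) (a : ℕ) (hI : CdLE R I a)

include hI in
theorem subsingleton_sup_of_vanishing (b : ℕ) (M : Type u) [AddCommGroup M] [Module R M]
    (hM : ∀ q, b < q → Subsingleton (H J q M)) (k : ℕ) (hk : a + b < k) :
    Subsingleton (H (I ⊔ J) k M) := by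
  induction b generalizing M k with
  | zero =>
    obtain ⟨j, rfl⟩ : ∃ j, k = j + 1 := ⟨k - 1, by omega⟩
    exact subsingleton_sup_of_acyclic I J j M hM (hI _ (j + 1) (by omega))
  | succ b ih =>
    let E₀ : ModuleCat.{u} R := Injective.under (ModuleCat.of R M)
    let ι₀ : ModuleCat.of R M ⟶ E₀ := Injective.ι (ModuleCat.of R M)
    have hι₀ : Function.Injective ι₀.hom := (ModuleCat.mono_iff_injective _).mp inferInstance
    haveI hinj : Injective (ModuleCat.of R E₀) :=
      (inferInstance : Injective (Injective.under (ModuleCat.of R M)))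
    let f : M →ₗ[R] E₀ := ι₀.hom
    have hS := sesQuot_shortExact f hι₀
    haveI : Injective (sesQuot f).X₂ := hinj
    have hQ : ∀ q, b < q → Subsingleton (H J q (E₀ ⧸ LinearMap.range f)) := by
      intro q hq
      haveI := hM (q + 1) (by omega)
      exact (LinearEquiv.ofBijective (δ J q hS)
        (δ_bijective_of_injective J q (by omega) hS)).toEquiv.subsingleton
    obtain ⟨k', rfl⟩ : ∃ k', k = k' + 1 := ⟨k - 1, by omega⟩
    haveI := ih (E₀ ⧸ LinearMap.range f) hQ k' (by omega)
    exact (LinearEquiv.ofBijective (δ (I ⊔ J) k' hS)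
      (δ_bijective_of_injective (I ⊔ J) k' (by omega) hS)).symm.toEquiv.subsingleton

theorem cdLE_sup (I J : Ideal R) (a b : ℕ) (hI : CdLE R I a) (hJ : CdLE R J b) :
    CdLE R (I ⊔ J) (a + b) := by
  intro M _ _ k hk
  exact subsingleton_sup_of_vanishing I J a hI b M (fun q hq => hJ M q hq) k hk

end Main

end Groth.Agent.Helper8.LC
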