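import Groth.Agent.Lib.Helper8.LC56
import Groth.Agent.Lib.Helper8.LC49

/-!
# An abstract lifting lemma for maps from finite power-torsion modules
-/

set_option autoImplicit false
universe u

namespace Groth.Agent.Helper8.ExtRep

open LocCoh Groth.Agent.Helper8.LC

variable {R : Type u} [CommRing R]

lemma isPowerTorsion_prod (J : Ideal R) {X F : Type u} [AddCommGroup X] [Module R X]
    [AddCommGroup F] [Module R F] (hX : IsPowerTorsion J X) (hF : IsPowerTorsion J F) :
    IsPowerTorsion J (X × F) := by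
  rintro ⟨x, f⟩
  obtain ⟨n, hn⟩ := hX x
  obtain ⟨m, hm⟩ := hF f
  refine ⟨max n m, fun a ha => ?_⟩
  have h1 : a ∈ J ^ n := Ideal.pow_le_pow_right (le_max_left n m) ha
  have h2 : a ∈ J ^ m := Ideal.pow_le_pow_right (le_max_right n m) ha
  ext
  · exact hn a h1
  · exact hm a h2

lemma isPowerTorsion_submodule (J : Ideal R) {X : Type u} [AddCommGroup X] [Module R X]
    (hX : IsPowerTorsion J X) (N : Submodule R X) : IsPowerTorsion J N := by
  rintro ⟨x, hx⟩
  obtain ⟨n, hn⟩ := hX x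
  exact ⟨n, fun a ha => Subtype.ext (hn a ha)⟩

lemma isPowerTorsion_torsionSub (J : Ideal R) (X : Type u) [AddCommGroup X] [Module R X] :
    IsPowerTorsion J (DRing.torsionSub J X) := by
  rintro ⟨x, n, hn⟩
  exact ⟨n, fun a ha => Subtype.ext (hn a ha)⟩

lemma map_mem_torsionSub (J : Ideal R) {F X : Type u} [AddCommGroup X] [Module R X]
    [AddCommGroup F] [Module R F] (hF : IsPowerTorsion J F) (φ : F →ₗ[R] X) (f : F) :
    φ f ∈ DRing.torsionSub J X := by
  obtain ⟨n, hn⟩ := hF f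
  exact ⟨n, fun a ha => by rw [← map_smul, hn a ha, map_zero]⟩

/-- a surjection onto a finite module restricts to a surjection from a finitely generated
submodule. -/
lemma exists_fg_map_eq_top {P F : Type u} [AddCommGroup P] [Module R P] [AddCommGroup F]
    [Module R F] [Module.Finite R F] (g : P →ₗ[R] F) (hg : Function.Surjective g) :
    ∃ P' : Submodule R P, P'.FG ∧ Submodule.map g P' = ⊤ := by
  classical
  obtain ⟨s, hs⟩ := Module.Finite.fg_top (R := R) (M := F)
  refine ⟨Submodule.span R (Function.surjInv hg '' (s : Set F)),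
    Submodule.fg_span (s.finite_toSet.image _), ?_⟩
  rw [Submodule.map_span, Set.image_image]
  have : (fun x => g (Function.surjInv hg x)) '' (s : Set F) = (s : Set F) := by
    simp [Function.surjInv_eq hg]
  rw [this, hs]

variable [IsNoetherianRing R] (J : Ideal R)

/-- The abstract lifting lemma, with a chosen finite cover of the pullback. -/
theorem exists_lift_aux
    {X Y I F P' : Type u} [AddCommGroup X] [Module R X] [AddCommGroup Y] [Module R Y]
    [AddCommGroup I] [Module R I] [Module.Injective R I] [AddCommGroup F] [Module R F]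
    [AddCommGroup P'] [Module R P'] [Module.Finite R P'] (hP't : IsPowerTorsion J P')
    (g : X →ₗ[R] Y) (ρ : I →ₗ[R] X) (hgρ : g ∘ₗ ρ = 0)
    (hker : ∀ (K : Type u) [AddCommGroup K] [Module R K], Module.Finite R K →
      IsPowerTorsion J K → ∀ κ : K →ₗ[R] X, g ∘ₗ κ = 0 → ∃ α : K →ₗ[R] I, ρ ∘ₗ α = κ)
    (φ : F →ₗ[R] Y) (q' : P' →ₗ[R] F) (hq' : Function.Surjective q') (pr : P' →ₗ[R] X)
    (hpr : ∀ y : P', g (pr y) = φ (q' y)) :
    ∃ ψ : F →ₗ[R] X, g ∘ₗ ψ = φ := by
  haveI : IsNoetherian R P' := isNoetherian_of_isNoetherianRing_of_finite R P'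
  let K : Submodule R P' := LinearMap.ker q'
  have hKfin : Module.Finite R K := inferInstance
  have hKt : IsPowerTorsion J K := isPowerTorsion_submodule J hP't K
  let κ : K →ₗ[R] X := pr ∘ₗ K.subtype
  have hκ : g ∘ₗ κ = 0 := by
    apply LinearMap.ext
    intro k
    have h1 : q' k.1 = 0 := LinearMap.mem_ker.mp k.2
    change g (pr k.1) = 0
    rw [hpr, h1, map_zero]
  obtain ⟨α, hα⟩ := hker K hKfin hKt κ hκ
  obtain ⟨α', hα'⟩ := Module.Injective.out K.subtype (Submodule.injective_subtype K) α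
  let σ : P' →ₗ[R] X := pr - ρ ∘ₗ α'
  have hσ : LinearMap.ker q' ≤ LinearMap.ker σ := by
    intro y hy
    rw [LinearMap.mem_ker]
    have h1 : α' y = α ⟨y, hy⟩ := hα' ⟨y, hy⟩
    have h2 : ρ (α ⟨y, hy⟩) = κ ⟨y, hy⟩ := LinearMap.congr_fun hα ⟨y, hy⟩
    change pr y - ρ (α' y) = 0
    rw [h1, h2]
    exact sub_self _
  refine ⟨(LinearMap.ker q').liftQ σ hσ ∘ₗ (q'.quotKerEquivOfSurjective hq').symm.toLinearMap, ?_⟩
  apply LinearMap.ext
  intro f
  obtain ⟨y, rfl⟩ := hq' f
  have h1 : (q'.quotKerEquivOfSurjective hq').symm (q' y) = Submodule.Quotient.mk y := by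
    rw [LinearEquiv.symm_apply_eq]
    rfl
  simp only [LinearMap.coe_comp, LinearEquiv.coe_coe, Function.comp_apply]
  rw [h1, Submodule.liftQ_apply]
  change g (pr y - ρ (α' y)) = φ (q' y)
  rw [map_sub, hpr]
  have h2 : g (ρ (α' y)) = 0 := LinearMap.congr_fun hgρ (α' y)
  rw [h2, sub_zero]

/-- The abstract lifting lemma. -/
theorem exists_lift_of_range_le
    {X Y I F : Type u} [AddCommGroup X] [Module R X] [AddCommGroup Y] [Module R Y]
    [AddCommGroup I] [Module R I] [Module.Injective R I] [AddCommGroup F] [Module R F]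
    [Module.Finite R F]
    (hX : IsPowerTorsion J X) (hF : IsPowerTorsion J F)
    (g : X →ₗ[R] Y) (ρ : I →ₗ[R] X) (hgρ : g ∘ₗ ρ = 0)
    (hker : ∀ (K : Type u) [AddCommGroup K] [Module R K], Module.Finite R K →
      IsPowerTorsion J K → ∀ κ : K →ₗ[R] X, g ∘ₗ κ = 0 → ∃ α : K →ₗ[R] I, ρ ∘ₗ α = κ)
    (φ : F →ₗ[R] Y) (hφ : LinearMap.range φ ≤ LinearMap.range g) :
    ∃ ψ : F →ₗ[R] X, g ∘ₗ ψ = φ := by
  let P : Submodule R (X × F) :=
    LinearMap.ker (g ∘ₗ LinearMap.fst R X F - φ ∘ₗ LinearMap.snd R X F)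
  have hPmem : ∀ y : P, g (y : X × F).1 = φ (y : X × F).2 := by
    intro y
    have h0 : (g ∘ₗ LinearMap.fst R X F - φ ∘ₗ LinearMap.snd R X F) (y : X × F) = 0 :=
      LinearMap.mem_ker.mp y.2
    rw [LinearMap.sub_apply, sub_eq_zero] at h0
    exact h0
  let q : P →ₗ[R] F := LinearMap.snd R X F ∘ₗ P.subtype
  have hq : Function.Surjective q := by
    intro f
    obtain ⟨x, hx⟩ := hφ ⟨f, rfl⟩
    refine ⟨⟨(x, f), ?_⟩, rfl⟩
    rw [LinearMap.mem_ker]
    simp [hx]
  obtain ⟨P', hfg, hmap⟩ := exists_fg_map_eq_top q hq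
  let q' : P' →ₗ[R] F := q ∘ₗ P'.subtype
  have hq' : Function.Surjective q' := by
    intro f
    have : f ∈ Submodule.map q P' := by rw [hmap]; trivial
    obtain ⟨y, hy, rfl⟩ := this
    exact ⟨⟨y, hy⟩, rfl⟩
  haveI : Module.Finite R P' := Module.Finite.iff_fg.mpr hfg
  have hPt : IsPowerTorsion J P := isPowerTorsion_submodule J (isPowerTorsion_prod J hX hF) P
  have hP't : IsPowerTorsion J P' := isPowerTorsion_submodule J hPt P'
  let pr : P' →ₗ[R] X := LinearMap.fst R X F ∘ₗ P.subtype ∘ₗ P'.subtype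
  have hpr : ∀ y : P', g (pr y) = φ (q' y) := fun y => hPmem y.1
  exact exists_lift_aux J hP't g ρ hgρ hker φ q' hq' pr hpr

end Groth.Agent.Helper8.ExtRep
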