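import Groth.Agent.Lib.Helper8.ExtRep1

/-!
# The key lemma: `Ext¹(F, Q) ≅ Hom(F, H¹_J(Q))`
-/

set_option autoImplicit false
universe u

namespace Groth.Agent.Helper8.ExtRep

open CategoryTheory Abelian localCohomology LocCoh Groth.Agent.Helper8.LC

variable {R : Type u} [CommRing R]

/-- two surjective linear maps with the same kernel have isomorphic targets. -/
lemma nonempty_linearEquiv_of_ker_eq {X Y Z : Type u} [AddCommGroup X] [Module R X]
    [AddCommGroup Y] [Module R Y] [AddCommGroup Z] [Module R Z]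
    (c : X →ₗ[R] Y) (d : X →ₗ[R] Z) (hc : Function.Surjective c) (hd : Function.Surjective d)
    (h : LinearMap.ker c = LinearMap.ker d) : Nonempty (Y ≃ₗ[R] Z) :=
  ⟨(c.quotKerEquivOfSurjective hc).symm.trans
    ((Submodule.quotEquivOfEq _ _ h).trans (d.quotKerEquivOfSurjective hd))⟩

variable [IsNoetherianRing R] (J : Ideal R)

section Key

variable {Q E₀ : Type u} [AddCommGroup Q] [Module R Q] [AddCommGroup E₀] [Module R E₀]
  [Module.Injective R E₀] (ι : Q →ₗ[R] E₀) (hι : Function.Injective ι)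

/-- the map `Γ_J(E₀) → E₀ / Q`. -/
noncomputable abbrev ga : DRing.torsionSub J E₀ →ₗ[R] (E₀ ⧸ LinearMap.range ι) :=
  (LinearMap.range ι).mkQ ∘ₗ (DRing.torsionSub J E₀).subtype

include hι in
/-- (a): maps into the image of `Γ_J(E₀)` lift. -/
theorem exists_lift_a {E : Type u} [AddCommGroup E] [Module R E] [Module.Injective R E]
    (π : E →ₗ[R] Q)
    (hπ : ∀ (K : Type u) [AddCommGroup K] [Module R K], Module.Finite R K → IsPowerTorsion J K →
      ∀ κ : K →ₗ[R] Q, ∃ α : K →ₗ[R] E, π ∘ₗ α = κ)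
    (F : Type u) [AddCommGroup F] [Module R F] [Module.Finite R F] (hF : IsPowerTorsion J F)
    (φ : F →ₗ[R] (E₀ ⧸ LinearMap.range ι)) (hφ : LinearMap.range φ ≤ LinearMap.range (ga J ι)) :
    ∃ ψ : F →ₗ[R] DRing.torsionSub J E₀, ga J ι ∘ₗ ψ = φ := by
  haveI : Module.Injective R (DRing.torsionSub J E) := torsionSub_injective J E
  refine exists_lift_of_range_le J (I := DRing.torsionSub J E) (isPowerTorsion_torsionSub J E₀) hF
    (ga J ι) (tMap J (ι ∘ₗ π)) ?_ ?_ φ hφ
  · apply LinearMap.ext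
    intro e
    change (LinearMap.range ι).mkQ (ι (π e.1)) = 0
    rw [Submodule.mkQ_apply, Submodule.Quotient.mk_eq_zero]
    exact ⟨_, rfl⟩
  · intro K _ _ hKfin hKt κ hκ
    have hmem : ∀ k : K, ((κ k : DRing.torsionSub J E₀) : E₀) ∈ LinearMap.range ι := by
      intro k
      have h1 := LinearMap.congr_fun hκ k
      change (LinearMap.range ι).mkQ ((κ k : DRing.torsionSub J E₀) : E₀) = 0 at h1
      rwa [Submodule.mkQ_apply, Submodule.Quotient.mk_eq_zero] at h1
    let κ₀ : K →ₗ[R] Q := (LinearEquiv.ofInjective ι hι).symm.toLinearMap ∘ₗ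
      LinearMap.codRestrict (LinearMap.range ι) ((DRing.torsionSub J E₀).subtype ∘ₗ κ) hmem
    have hκ₀ : ∀ k, ι (κ₀ k) = ((κ k : DRing.torsionSub J E₀) : E₀) := by
      intro k
      have := (LinearEquiv.ofInjective ι hι).apply_symm_apply
        (LinearMap.codRestrict (LinearMap.range ι) ((DRing.torsionSub J E₀).subtype ∘ₗ κ) hmem k)
      exact congrArg Subtype.val this
    obtain ⟨α₀, hα₀⟩ := hπ K hKfin hKt κ₀
    refine ⟨LinearMap.codRestrict (DRing.torsionSub J E) α₀ (map_mem_torsionSub J hKt α₀), ?_⟩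
    apply LinearMap.ext
    intro k
    apply Subtype.ext
    change ι (π (α₀ k)) = _
    have := LinearMap.congr_fun hα₀ k
    rw [LinearMap.comp_apply] at this
    rw [this, hκ₀]

/-- the short exact sequence `0 → Q → E₀ → E₀/Q → 0`. -/
noncomputable abbrev ses : ShortComplex (ModuleCat.{u} R) := sesQuot ι

/-- the connecting map on the torsion submodule of the quotient. -/
noncomputable def Δ : DRing.torsionSub J (E₀ ⧸ LinearMap.range ι) →ₗ[R] H J 1 Q :=
  (δ J 0 (sesQuot_shortExact ι hι)) ∘ₗ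
    (h0Equiv J (ModuleCat.of R (E₀ ⧸ LinearMap.range ι))).symm.toLinearMap

lemma Δ_surjective : Function.Surjective (Δ J ι hι) := by
  haveI : Injective (sesQuot ι).X₂ := Module.injective_object_of_injective_module R E₀
  have h1 := δ_surjective_of_injective J 0 (sesQuot_shortExact ι hι)
  unfold Δ
  rw [LinearMap.coe_comp]
  exact h1.comp (LinearEquiv.surjective _)

lemma Δ_eq_zero_iff (t : DRing.torsionSub J (E₀ ⧸ LinearMap.range ι)) :
    Δ J ι hι t = 0 ↔ ∃ e : DRing.torsionSub J E₀, ga J ι e = (t : E₀ ⧸ LinearMap.range ι) := by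
  have hS := sesQuot_shortExact ι hι
  unfold Δ
  rw [LinearMap.comp_apply]
  rw [exact_g_δ J 0 hS _]
  have h3 : ev0 J (sesQuot ι).X₃
      ((h0Equiv J (ModuleCat.of R (E₀ ⧸ LinearMap.range ι))).symm t) =
      (t : E₀ ⧸ LinearMap.range ι) := by
    have := h0Equiv_apply J (ModuleCat.of R (E₀ ⧸ LinearMap.range ι))
      ((h0Equiv J (ModuleCat.of R (E₀ ⧸ LinearMap.range ι))).symm t)
    rw [LinearEquiv.apply_symm_apply] at this
    exact this.symm
  constructor
  · rintro ⟨w, hw⟩
    refine ⟨h0Equiv J (ModuleCat.of R E₀) w, ?_⟩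
    have h1 := ev0_map J (sesQuot ι).g w
    have h5 : ev0 J (sesQuot ι).X₃ (((localCohomology J 0).map (sesQuot ι).g) w) =
        (t : E₀ ⧸ LinearMap.range ι) :=
      (congrArg (ev0 J (sesQuot ι).X₃) hw).trans h3
    have h6 : (sesQuot ι).g (ev0 J (ModuleCat.of R E₀) w) = (t : E₀ ⧸ LinearMap.range ι) :=
      h1.symm.trans h5
    exact h6
  · rintro ⟨e, he⟩
    refine ⟨(h0Equiv J (ModuleCat.of R E₀)).symm e, ?_⟩
    apply ev0_injective J
    have h1 := ev0_map J (sesQuot ι).g ((h0Equiv J (ModuleCat.of R E₀)).symm e)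
    have h4 : ev0 J (ModuleCat.of R E₀) ((h0Equiv J (ModuleCat.of R E₀)).symm e) = (e : E₀) := by
      have := h0Equiv_apply J (ModuleCat.of R E₀) ((h0Equiv J (ModuleCat.of R E₀)).symm e)
      rw [LinearEquiv.apply_symm_apply] at this
      exact this.symm
    rw [h4] at h1
    refine h1.trans (Eq.trans ?_ h3.symm)
    exact he

/-- (b): maps into `H¹_J(Q)` lift to the torsion of the quotient. -/
theorem exists_lift_b {E : Type u} [AddCommGroup E] [Module R E] [Module.Injective R E]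
    (π : E →ₗ[R] Q)
    (hπ : ∀ (K : Type u) [AddCommGroup K] [Module R K], Module.Finite R K → IsPowerTorsion J K →
      ∀ κ : K →ₗ[R] Q, ∃ α : K →ₗ[R] E, π ∘ₗ α = κ)
    (F : Type u) [AddCommGroup F] [Module R F] [Module.Finite R F] (hF : IsPowerTorsion J F)
    (ψ : F →ₗ[R] H J 1 Q) :
    ∃ φ : F →ₗ[R] DRing.torsionSub J (E₀ ⧸ LinearMap.range ι), Δ J ι hι ∘ₗ φ = ψ := by
  haveI : Module.Injective R (DRing.torsionSub J E₀) := torsionSub_injective J E₀
  refine exists_lift_of_range_le J (I := DRing.torsionSub J E₀)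
    (isPowerTorsion_torsionSub J _) hF
    (Δ J ι hι) (tMap J (LinearMap.range ι).mkQ) ?_ ?_ ψ ?_
  · apply LinearMap.ext
    intro e
    rw [LinearMap.comp_apply, LinearMap.zero_apply, Δ_eq_zero_iff]
    exact ⟨e, rfl⟩
  · intro K _ _ hKfin hKt κ hκ
    have hrange : LinearMap.range ((DRing.torsionSub J (E₀ ⧸ LinearMap.range ι)).subtype ∘ₗ κ) ≤
        LinearMap.range (ga J ι) := by
      rintro _ ⟨k, rfl⟩
      have h1 := LinearMap.congr_fun hκ k
      rw [LinearMap.comp_apply, LinearMap.zero_apply, Δ_eq_zero_iff] at h1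
      obtain ⟨e, he⟩ := h1
      exact ⟨e, he⟩
    obtain ⟨β, hβ⟩ := exists_lift_a J ι hι π hπ K hKt _ hrange
    refine ⟨β, ?_⟩
    apply LinearMap.ext
    intro k
    apply Subtype.ext
    exact LinearMap.congr_fun hβ k
  · intro y _
    exact LinearMap.mem_range.mpr (Δ_surjective J ι hι y)

end Key

end Groth.Agent.Helper8.ExtRep
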