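import Mathlib
import Groth.Agent.Lib.Helper1.TorL
import Groth.Agent.Lib.Helper1.TorNat

/-!
# Ext-annihilation versus Tor-annihilation for a map from a finite module (Noetherian case)

`PE n α`: precomposition with `α : M ⟶ M'` kills `Ext^n(M', N)` for all `N`.
`PT n α`: `Tor_n(α, N) = 0` for all `N`.
For `M` finite over a Noetherian ring, `PE (e+1) α ↔ PT (e+1) α` (dimension shifting to `e = 0`,
where both say that `α` factors through a free module).
-/

universe u
open CategoryTheory MonoidalCategory Limits TensorProduct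
open Groth.Agent.Helper1.TorL Groth.Agent.Helper1.TorNat

namespace Groth.Agent.Helper8.ExtTor

variable {R : Type u} [CommRing R]

section Extension

theorem exists_extension {K F K' : Type u} [AddCommGroup K] [Module R K] [AddCommGroup F]
    [Module R F] [AddCommGroup K'] [Module R K'] [Module.Finite R K] {n : ℕ}
    (b : Module.Basis (Fin n) R F) (i : K →ₗ[R] F) (a : K →ₗ[R] K')
    (H : ∀ (N : Type u) [AddCommGroup N] [Module R N] (x : K ⊗[R] N),
      i.rTensor N x = 0 → a.rTensor N x = 0) :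
    ∃ h : F →ₗ[R] K', h ∘ₗ i = a := by
  classical
  obtain ⟨m, s, hs⟩ := Module.Finite.exists_fin (R := R) (M := K)
  let A : Fin n → Fin m → R := fun l j => b.repr (i (s j)) l
  let T : (Fin n → R) →ₗ[R] (Fin m → R) :=
    { toFun := fun v j => ∑ l, A l j * v l
      map_add' := by
        intro v w; funext j
        simp only [Pi.add_apply, mul_add, Finset.sum_add_distrib]
      map_smul' := by
        intro r v; funext j
        simp only [Pi.smul_apply, smul_eq_mul, RingHom.id_apply, Finset.mul_sum]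
        refine Finset.sum_congr rfl fun l _ => ?_
        ring }
  have hT : ∀ v j, T v j = ∑ l, A l j * v l := fun _ _ => rfl
  have hTsingle : ∀ l, T (Pi.single l 1) = fun j => A l j := by
    intro l; funext j
    rw [hT, Finset.sum_eq_single l]
    · simp
    · intro l' _ hl'
      rw [Pi.single_eq_of_ne hl', mul_zero]
    · intro h; exact absurd (Finset.mem_univ l) h
  let π := (LinearMap.range T).mkQ
  let Q := (Fin m → R) ⧸ LinearMap.range T
  let z : K ⊗[R] Q := ∑ j, s j ⊗ₜ[R] π (Pi.single j 1)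
  have hz : i.rTensor Q z = 0 := by
    have h1 : ∀ j, i (s j) = ∑ l, A l j • b l := fun j => (b.sum_repr (i (s j))).symm
    have h2 : ∀ l, (∑ j, A l j • (Pi.single j 1 : Fin m → R)) = T (Pi.single l 1) := by
      intro l
      rw [hTsingle l]
      funext j
      simp [Finset.sum_apply, Pi.single_apply]
    calc i.rTensor Q z
        = ∑ j, i (s j) ⊗ₜ[R] π (Pi.single j 1) := by
          simp only [z, map_sum, LinearMap.rTensor_tmul]
      _ = ∑ j, ∑ l, b l ⊗ₜ[R] (A l j • π (Pi.single j 1)) := by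
          refine Finset.sum_congr rfl fun j _ => ?_
          rw [h1 j, TensorProduct.sum_tmul]
          refine Finset.sum_congr rfl fun l _ => ?_
          rw [TensorProduct.smul_tmul]
      _ = ∑ l, b l ⊗ₜ[R] (∑ j, A l j • π (Pi.single j 1)) := by
          rw [Finset.sum_comm]
          refine Finset.sum_congr rfl fun l _ => ?_
          rw [TensorProduct.tmul_sum]
      _ = 0 := by
          refine Finset.sum_eq_zero fun l _ => ?_
          have h3 : (∑ j, A l j • π (Pi.single j 1)) = π (T (Pi.single l 1)) := by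
            rw [← h2 l, map_sum]
            refine Finset.sum_congr rfl fun j _ => ?_
            rw [map_smul]
          have h4 : π (T (Pi.single l 1)) = 0 := by
            rw [Submodule.mkQ_apply, Submodule.Quotient.mk_eq_zero]
            exact LinearMap.mem_range_self T _
          rw [h3, h4, TensorProduct.tmul_zero]
  have haz : a.rTensor Q z = 0 := H Q z hz
  let c : K' ⊗[R] (Fin m → R) := ∑ j, a (s j) ⊗ₜ[R] (Pi.single j 1 : Fin m → R)
  have hc : (π.lTensor K') c = 0 := by
    have : (π.lTensor K') c = a.rTensor Q z := by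
      simp only [c, z, map_sum, LinearMap.lTensor_tmul, LinearMap.rTensor_tmul]
    rw [this, haz]
  have hex : Function.Exact (T.lTensor K') (π.lTensor K') :=
    lTensor_exact K' (LinearMap.exact_map_mkQ_range T) (Submodule.mkQ_surjective _)
  obtain ⟨w, hw⟩ := (hex c).mp hc
  let Φn := TensorProduct.piScalarRightHom R R K' (Fin n)
  let Φm := TensorProduct.piScalarRightHom R R K' (Fin m)
  have hΦ : ∀ w : K' ⊗[R] (Fin n → R), ∀ j, Φm (T.lTensor K' w) j = ∑ l, A l j • Φn w l := by
    intro w j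
    induction w using TensorProduct.induction_on with
    | zero => simp
    | tmul k v =>
      simp only [Φm, Φn, LinearMap.lTensor_tmul, TensorProduct.piScalarRightHom_tmul, hT]
      rw [Finset.sum_smul]
      refine Finset.sum_congr rfl fun l _ => ?_
      rw [mul_smul]
    | add x y hx hy =>
      simp only [map_add, Pi.add_apply, hx, hy, smul_add, Finset.sum_add_distrib]
  have hcj : ∀ j, Φm c j = a (s j) := by
    intro j
    simp only [c, Φm, map_sum, TensorProduct.piScalarRightHom_tmul, Finset.sum_apply]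
    rw [Finset.sum_eq_single j]
    · simp
    · intro j' _ hj'
      rw [Pi.single_eq_of_ne hj'.symm, zero_smul]
    · intro h; exact absurd (Finset.mem_univ j) h
  let y : Fin n → K' := Φn w
  have hy : ∀ j, a (s j) = ∑ l, A l j • y l := by
    intro j; rw [← hcj j, ← hw, hΦ w j]
  let h : F →ₗ[R] K' := ∑ l, (b.coord l).smulRight (y l)
  have hh : ∀ f, h f = ∑ l, b.repr f l • y l := by
    intro f
    simp only [h, LinearMap.sum_apply, LinearMap.smulRight_apply, Module.Basis.coord_apply]
  refine ⟨h, LinearMap.ext_on hs ?_⟩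
  rintro _ ⟨j, rfl⟩
  rw [LinearMap.comp_apply, hh, hy j]

end Extension

open Abelian

/-- Precomposition with `α` kills `Ext^n(M', -)`. -/
def PE (n : ℕ) {M M' : ModuleCat.{u} R} (α : M ⟶ M') : Prop :=
  ∀ (N : ModuleCat.{u} R) (x : Ext.{u} M' N n), (Ext.mk₀ α).comp x (zero_add n) = 0

/-- `Tor_n(α, -) = 0`. -/
def PT (n : ℕ) {M M' : ModuleCat.{u} R} (α : M ⟶ M') : Prop :=
  ∀ (N : ModuleCat.{u} R), ((Tor (ModuleCat.{u} R) n).map α).app N = 0

section Shift

variable {S S' : ShortComplex (ModuleCat.{u} R)} (hS : S.ShortExact) (hS' : S'.ShortExact)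
  (φ : S ⟶ S')

theorem key_ext {N : ModuleCat.{u} R} {k k' : ℕ} (h : 1 + k = k') (x : Ext.{u} S'.X₁ N k) :
    (Ext.mk₀ φ.τ₃).comp (hS'.extClass.comp x h) (zero_add k') =
      hS.extClass.comp ((Ext.mk₀ φ.τ₁).comp x (zero_add k)) h := by
  rw [← Ext.comp_assoc (Ext.mk₀ φ.τ₃) hS'.extClass x (zero_add 1) h (by omega),
    ← ShortComplex.ShortExact.extClass_naturality hS hS' φ,
    Ext.comp_assoc hS.extClass (Ext.mk₀ φ.τ₁) x (add_zero 1) (zero_add k) (by omega)]

include hS hS' in
theorem PE_shift [Projective S.X₂] [Projective S'.X₂] (n : ℕ) :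
    PE (n + 1 + 1) φ.τ₃ ↔ PE (n + 1) φ.τ₁ := by
  constructor
  · intro h N x
    have h1 : hS.extClass.comp ((Ext.mk₀ φ.τ₁).comp x (zero_add (n + 1)))
        (show 1 + (n + 1) = n + 1 + 1 by omega) = 0 := by
      rw [← key_ext hS hS' φ (show 1 + (n + 1) = n + 1 + 1 by omega) x]
      exact h N _
    obtain ⟨x₂, hx₂⟩ := Ext.contravariant_sequence_exact₁ hS N _
      (show 1 + (n + 1) = n + 1 + 1 by omega) h1
    rw [← hx₂, Ext.eq_zero_of_projective x₂, Ext.comp_zero]
  · intro h N y
    have hy : (Ext.mk₀ S'.g).comp y (zero_add _) = 0 := Ext.eq_zero_of_projective _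
    obtain ⟨x₁, hx₁⟩ := Ext.contravariant_sequence_exact₃ hS' N y hy
      (show 1 + (n + 1) = n + 1 + 1 by omega)
    rw [← hx₁, key_ext hS hS' φ _ x₁, h N x₁, Ext.comp_zero]

include hS hS' in
theorem PT_shift [Module.Flat R S.X₂] [Module.Flat R S'.X₂] (n : ℕ) :
    PT (n + 1 + 1) φ.τ₃ ↔ PT (n + 1) φ.τ₁ := by
  constructor
  · intro h N
    have hepi : Epi (torδ S hS N (n + 1)) :=
      (tor_exact₁ S hS N (n + 1)).epi_f ((isZero_tor_succ_of_flat S.X₂ N n).eq_of_tgt _ _)
    rw [← cancel_epi (torδ S hS N (n + 1)), torδ_naturality φ hS hS' N (n + 1), h N, zero_comp,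
      comp_zero]
  · intro h N
    have hmono : Mono (torδ S' hS' N (n + 1)) :=
      (tor_exact₃ S' hS' N (n + 1)).mono_g
        ((isZero_tor_succ_of_flat S'.X₂ N (n + 1)).eq_of_src _ _)
    rw [← cancel_mono (torδ S' hS' N (n + 1)), ← torδ_naturality φ hS hS' N (n + 1), h N,
      comp_zero, zero_comp]

end Shift

section Base

theorem PE_one_iff {M : ModuleCat.{u} R} {S' : ShortComplex (ModuleCat.{u} R)}
    (hS' : S'.ShortExact) [Projective S'.X₂] (α : M ⟶ S'.X₃) :
    PE 1 α ↔ ∃ β : M ⟶ S'.X₂, β ≫ S'.g = α := by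
  constructor
  · intro h
    have h1 := h S'.X₁ hS'.extClass
    obtain ⟨x₂, hx₂⟩ := Ext.covariant_sequence_exact₃ M hS' (Ext.mk₀ α) (zero_add 1) h1
    refine ⟨Ext.homEquiv₀ x₂, ?_⟩
    apply (Ext.mk₀_bijective M S'.X₃).1
    rw [← Ext.mk₀_comp_mk₀, Ext.mk₀_homEquiv₀_apply]
    exact hx₂
  · rintro ⟨β, rfl⟩ N x
    rw [← Ext.mk₀_comp_mk₀_assoc, Ext.eq_zero_of_projective ((Ext.mk₀ S'.g).comp x (zero_add 1)),
      Ext.comp_zero]

theorem PT_succ_of_factor {M F M' : ModuleCat.{u} R} [Module.Flat R F] (β : M ⟶ F) (p : F ⟶ M')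
    (n : ℕ) : PT (n + 1) (β ≫ p) := by
  intro N
  rw [Functor.map_comp, NatTrans.comp_app,
    (isZero_tor_succ_of_flat F N n).eq_of_tgt (((Tor (ModuleCat.{u} R) (n + 1)).map β).app N) 0,
    zero_comp]

theorem exists_lift_of_PT_one {S S' : ShortComplex (ModuleCat.{u} R)} (hS : S.ShortExact)
    (hS' : S'.ShortExact) (φ : S ⟶ S') [Module.Finite R S.X₁] {n : ℕ}
    (b : Module.Basis (Fin n) R S.X₂) (h : PT 1 φ.τ₃) :
    ∃ β : S.X₃ ⟶ S'.X₂, β ≫ S'.g = φ.τ₃ := by
  have H : ∀ (N : Type u) [AddCommGroup N] [Module R N] (x : S.X₁ ⊗[R] N),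
      S.f.hom.rTensor N x = 0 → φ.τ₁.hom.rTensor N x = 0 := by
    intro N _ _ x hx
    exact whisker_eq_zero_of_tor_one_map_eq_zero φ hS hS' (ModuleCat.of R N) (h _) x hx
  obtain ⟨h', hh'⟩ := exists_extension b S.f.hom φ.τ₁.hom H
  have := hS.epi_g
  have hfac : S.f ≫ ModuleCat.ofHom h' = φ.τ₁ := by
    apply ModuleCat.hom_ext
    exact hh'
  have hk : S.f ≫ (φ.τ₂ - ModuleCat.ofHom h' ≫ S'.f) = 0 := by
    rw [Preadditive.comp_sub, ← φ.comm₁₂, ← Category.assoc, hfac, sub_self]
  refine ⟨hS.exact.desc _ hk, ?_⟩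
  rw [← cancel_epi S.g, ShortComplex.Exact.g_desc_assoc, Preadditive.sub_comp, Category.assoc,
    S'.zero, comp_zero, sub_zero, φ.comm₂₃]

end Base

theorem exists_hom_of_projective {S S' : ShortComplex (ModuleCat.{u} R)} (hS : S.ShortExact)
    (hS' : S'.ShortExact) [Projective S.X₂] (α : S.X₃ ⟶ S'.X₃) : ∃ φ : S ⟶ S', φ.τ₃ = α := by
  have := hS'.epi_g
  have := hS'.mono_f
  let τ₂ : S.X₂ ⟶ S'.X₂ := Projective.factorThru (S.g ≫ α) S'.g
  have h₂ : τ₂ ≫ S'.g = S.g ≫ α := Projective.factorThru_comp _ _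
  have hk : (S.f ≫ τ₂) ≫ S'.g = 0 := by
    rw [Category.assoc, h₂, ← Category.assoc, S.zero, zero_comp]
  let τ₁ := hS'.exact.lift (S.f ≫ τ₂) hk
  have h₁ : τ₁ ≫ S'.f = S.f ≫ τ₂ := hS'.exact.lift_f _ _
  exact ⟨⟨τ₁, τ₂, α, h₁, h₂⟩, rfl⟩

section Main

variable [IsNoetherianRing R]

theorem main_types (e : ℕ) : ∀ (M : Type u) [AddCommGroup M] [Module R M] [Module.Finite R M]
    (M' : Type u) [AddCommGroup M'] [Module R M'] (α : M →ₗ[R] M'),
    PE (e + 1) (ModuleCat.ofHom α) ↔ PT (e + 1) (ModuleCat.ofHom α) := by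
  induction e with
  | zero =>
    intro M _ _ _ M' _ _ α
    obtain ⟨n, f, hf⟩ := Module.Finite.exists_fin' R M
    have hS : f.shortComplexKer.ShortExact := LinearMap.shortExact_shortComplexKer hf
    have hS' : (freePres (R := R) M').ShortExact := freePres_shortExact M'
    have : Projective f.shortComplexKer.X₂ :=
      (IsProjective.iff_projective (R := R) (Fin n → R)).mp inferInstance
    have : Projective (freePres (R := R) M').X₂ :=
      (IsProjective.iff_projective (R := R) (M' →₀ R)).mp inferInstance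
    have : Module.Flat R (freePres (R := R) M').X₂ := inferInstanceAs (Module.Flat R (M' →₀ R))
    have : Module.Finite R f.shortComplexKer.X₁ :=
      inferInstanceAs (Module.Finite R (LinearMap.ker f))
    obtain ⟨φ, hφ⟩ := exists_hom_of_projective hS hS' (ModuleCat.ofHom α)
    have key : PE 1 φ.τ₃ ↔ PT 1 φ.τ₃ := by
      rw [PE_one_iff hS' φ.τ₃]
      constructor
      · rintro ⟨β, hβ⟩
        rw [← hβ]
        exact PT_succ_of_factor β _ 0
      · intro h
        exact exists_lift_of_PT_one hS hS' φ (Pi.basisFun R (Fin n)) h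
    rw [hφ] at key
    exact key
  | succ e ih =>
    intro M _ _ _ M' _ _ α
    obtain ⟨n, f, hf⟩ := Module.Finite.exists_fin' R M
    have hS : f.shortComplexKer.ShortExact := LinearMap.shortExact_shortComplexKer hf
    have hS' : (freePres (R := R) M').ShortExact := freePres_shortExact M'
    have : Projective f.shortComplexKer.X₂ :=
      (IsProjective.iff_projective (R := R) (Fin n → R)).mp inferInstance
    have : Projective (freePres (R := R) M').X₂ :=
      (IsProjective.iff_projective (R := R) (M' →₀ R)).mp inferInstance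
    have : Module.Flat R (freePres (R := R) M').X₂ := inferInstanceAs (Module.Flat R (M' →₀ R))
    have : Module.Flat R f.shortComplexKer.X₂ := inferInstanceAs (Module.Flat R (Fin n → R))
    have : Module.Finite R (LinearMap.ker f) := inferInstance
    obtain ⟨φ, hφ⟩ := exists_hom_of_projective hS hS' (ModuleCat.ofHom α)
    have key : PE (e + 1 + 1) φ.τ₃ ↔ PT (e + 1 + 1) φ.τ₃ :=
      (PE_shift hS hS' φ e).trans
        ((ih (LinearMap.ker f) _ φ.τ₁.hom).trans (PT_shift hS hS' φ e).symm)
    rw [hφ] at key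
    exact key

attribute [local instance] HasDerivedCategory.standard in
theorem main (M M' : Type u) [AddCommGroup M] [Module R M] [Module.Finite R M]
    [AddCommGroup M'] [Module R M'] (α : M →ₗ[R] M') (e : ℕ) :
    (∀ (N : Type u) [AddCommGroup N] [Module R N]
      (φ : (DerivedCategory.singleFunctor (ModuleCat.{u} R) 0).obj (ModuleCat.of R M') ⟶
        ((DerivedCategory.singleFunctor (ModuleCat.{u} R) 0).obj (ModuleCat.of R N))⟦((e : ℤ) + 1)⟧),
      (DerivedCategory.singleFunctor (ModuleCat.{u} R) 0).map (ModuleCat.ofHom α) ≫ φ = 0) ↔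
    (∀ (N : Type u) [AddCommGroup N] [Module R N],
      ((CategoryTheory.Tor (ModuleCat.{u} R) (e + 1)).map (ModuleCat.ofHom α)).app
        (ModuleCat.of R N) = 0) := by
  constructor
  · intro h N _ _
    have hPE : PE (e + 1) (ModuleCat.ofHom α) := by
      intro N' x
      apply Ext.ext
      rw [← Ext.singleFunctor_map_comp_hom, Ext.zero_hom]
      exact h N' x.hom
    exact (main_types e M M' α).mp hPE (ModuleCat.of R N)
  · intro h N _ _ φ
    have hPE : PE (e + 1) (ModuleCat.ofHom α) := (main_types e M M' α).mpr (fun N' => h N')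
    let x : Ext.{u} (ModuleCat.of R M') (ModuleCat.of R N) (e + 1) := Ext.homEquiv.symm φ
    have hx : x.hom = φ := Ext.homEquiv.apply_symm_apply φ
    rw [← hx, Ext.singleFunctor_map_comp_hom, hPE _ x, Ext.zero_hom]

end Main

end Groth.Agent.Helper8.ExtTor
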