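import Groth.Agent.Lib.Helper8.LC54

/-!
# The corner lemma: annihilators of `Γ_c(H^i_a(M))`

For ideals `a`, `c` with `a ^ k ≤ c`: if `r ^ A` kills `H^j_a(M)` for `j < i` and `r ^ B` kills
`H^i_c(M)`, then `r ^ (i * A + B)` kills the `c`-power torsion of `H^i_a(M)`.  This replaces the
corner of the composite functor spectral sequence `H^p_c(H^q_a(M)) ⇒ H^{p+q}_c(M)`.
-/

set_option autoImplicit false
universe u
open CategoryTheory CategoryTheory.Limits Opposite

namespace Groth.Agent.Helper8.LC

open Abelian localCohomology LocCoh IsLocalRing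

variable {R : Type u} [CommRing R]

lemma torsionSub_le_of_pow_le {a c : Ideal R} {k : ℕ} (hk : a ^ k ≤ c) (X : Type u)
    [AddCommGroup X] [Module R X] : DRing.torsionSub c X ≤ DRing.torsionSub a X := by
  rintro x ⟨n, hn⟩
  refine ⟨k * n, fun t ht => hn t ?_⟩
  rw [pow_mul] at ht
  exact Ideal.pow_right_mono hk n ht

variable [IsNoetherianRing R]

/-- **Corner lemma.** -/
theorem smul_eq_zero_of_mem_torsionSub_H (a c : Ideal R) (k : ℕ) (hk : a ^ k ≤ c) (r : R) :
    ∀ (i : ℕ) (M : Type u) [AddCommGroup M] [Module R M] (A B : ℕ),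
      (∀ j < i, ∀ x : H a j M, r ^ A • x = 0) →
      (∀ x : H c i M, r ^ B • x = 0) →
      ∀ x : H a i M, x ∈ DRing.torsionSub c (H a i M) → r ^ (i * A + B) • x = 0 := by
  intro i
  induction i with
  | zero =>
    intro M _ _ A B _ hB x hx
    obtain ⟨n, hn⟩ := hx
    have h1 : ev0 a (ModuleCat.of R M) x ∈ DRing.torsionSub c M :=
      ⟨n, fun t ht => by rw [← map_smul, hn t ht, map_zero]⟩
    obtain ⟨y, hy⟩ := exists_ev0_eq c (ModuleCat.of R M) _ h1
    apply ev0_injective a (ModuleCat.of R M)
    rw [Nat.zero_mul, zero_add, map_smul, map_zero, ← hy, ← map_smul, hB y, map_zero]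
  | succ i ih =>
    intro M _ _ A B hA hB x hx
    -- step 1: kill the `a`-torsion of `M`
    let T := DRing.torsionSub a M
    have hST := sesSub_shortExact T
    have hφ := bijective_map_mkQ_torsionSub a M (i + 1) (Nat.succ_pos i)
    -- `T` is killed by `r ^ A`
    have hTA : r ^ A ∈ Module.annihilator R (ModuleCat.of R T) := by
      rw [Module.mem_annihilator]
      rintro ⟨m, hm⟩
      obtain ⟨y, hy⟩ := exists_ev0_eq a (ModuleCat.of R M) m hm
      have h0 := hA 0 (Nat.succ_pos i) y
      apply Subtype.ext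
      change r ^ A • m = 0
      rw [← hy, ← map_smul, h0, map_zero]
    -- step 2: a good embedding of `M ⧸ T`
    have hbar : DRing.torsionSub a (M ⧸ T) = ⊥ := torsionSub_quotient_torsionSub_eq_bot a M
    obtain ⟨E, _, _, f, hf, hE0, hEa, hEext⟩ := exists_good_embedding a (M ⧸ T) hbar
    have hSQ := sesQuot_shortExact f hf
    -- vanishing of the local cohomology of `E`
    have hEa0 : Subsingleton (H a 0 E) := subsingleton_h0_of_torsionSub_eq_bot a E hE0
    have hEc0 : Subsingleton (H c 0 E) := by
      apply subsingleton_h0_of_torsionSub_eq_bot c E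
      rw [eq_bot_iff, ← hE0]
      exact torsionSub_le_of_pow_le hk E
    have hEc : ∀ j, 0 < j → Subsingleton (H c j E) := fun j hj =>
      subsingleton_H_of_ext c j (ModuleCat.of R E) (fun F => hEext F j hj)
    have hEaAll : ∀ j, Subsingleton (H a j E) := by
      intro j
      rcases Nat.eq_zero_or_pos j with rfl | hj
      · exact hEa0
      · exact hEa j hj
    have hEcAll : ∀ j, Subsingleton (H c j E) := by
      intro j
      rcases Nat.eq_zero_or_pos j with rfl | hj
      · exact hEc0
      · exact hEc j hj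
    have hδa : ∀ j, Function.Bijective (δ a j hSQ) := fun j =>
      δ_bijective_of_subsingleton a j hSQ (hEaAll j) (hEaAll (j + 1))
    have hδc : ∀ j, Function.Bijective (δ c j hSQ) := fun j =>
      δ_bijective_of_subsingleton c j hSQ (hEcAll j) (hEcAll (j + 1))
    -- hypotheses for the quotient `Q = E ⧸ range f`
    have hA' : ∀ j < i, ∀ y : H a j (E ⧸ LinearMap.range f), r ^ A • y = 0 := by
      intro j hj y
      apply (hδa j).1
      rw [map_smul, map_zero]
      obtain ⟨z, hz⟩ := (bijective_map_mkQ_torsionSub a M (j + 1) (Nat.succ_pos j)).2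
        (δ a j hSQ y)
      change ((localCohomology a (j + 1)).map (ModuleCat.ofHom T.mkQ)) z = _ at hz
      rw [← hz, ← map_smul, hA (j + 1) (Nat.succ_lt_succ hj) z, map_zero]
    have hB' : ∀ y : H c i (E ⧸ LinearMap.range f), r ^ (A + B) • y = 0 := by
      intro y
      apply (hδc i).1
      rw [map_smul, map_zero]
      set w := δ c i hSQ y with hw
      -- `w ∈ H^{i+1}_c(M ⧸ T)`
      have h1 : δ c (i + 1) hST (r ^ A • w) = 0 := by
        rw [map_smul]
        exact smul_eq_zero_of_mem_annihilator c (i + 1 + 1) (ModuleCat.of R T) (r ^ A) hTA _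
      obtain ⟨z, hz⟩ := (exact_g_δ c (i + 1) hST (r ^ A • w)).mp h1
      rw [pow_add, mul_comm, mul_smul, ← hz, ← map_smul, hB z, map_zero]
    -- apply the induction hypothesis
    have key := ih (E ⧸ LinearMap.range f) A (A + B) hA' hB'
    -- transport `x`
    set xbar := ((localCohomology a (i + 1)).map (ModuleCat.ofHom T.mkQ)) x with hxbar
    have hxbar_t : xbar ∈ DRing.torsionSub c (H a (i + 1) (M ⧸ T)) := by
      obtain ⟨n, hn⟩ := hx
      exact ⟨n, fun t ht => by rw [hxbar, ← map_smul, hn t ht, map_zero]⟩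
    obtain ⟨x', hx'⟩ := (hδa i).2 xbar
    have hx't : x' ∈ DRing.torsionSub c (H a i (E ⧸ LinearMap.range f)) := by
      obtain ⟨n, hn⟩ := hxbar_t
      refine ⟨n, fun t ht => ?_⟩
      apply (hδa i).1
      rw [map_smul, hx', hn t ht, map_zero]
    have h2 := key x' hx't
    have h3 : r ^ ((i + 1) * A + B) • xbar = 0 := by
      rw [← hx', ← map_smul]
      have : (i + 1) * A + B = i * A + (A + B) := by ring
      rw [this, h2, map_zero]
    apply hφ.1
    change ((localCohomology a (i + 1)).map (ModuleCat.ofHom T.mkQ)) _ =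
      ((localCohomology a (i + 1)).map (ModuleCat.ofHom T.mkQ)) 0
    rw [map_smul, map_zero]
    exact h3

end Groth.Agent.Helper8.LC
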