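import Groth.Agent.Lib.Helper8.FA5
import Groth.Agent.Lib.Helper8.FD11
import Groth.Agent.Lib.Helper8.LC26

/-!
# Finiteness of local cohomology in low degrees via depth at codimension-one points
-/

set_option autoImplicit false
universe u

namespace Groth.Agent.Helper8.FA

open CategoryTheory Abelian IsLocalRing LocCoh localCohomology
open Groth.Agent.Helper8.LC Groth.Agent.Helper8.LD

section relCodim

variable {A : Type u} [CommRing A]

/-- the relative codimension `c(p)` is the height of `(I + p)/p`. -/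
theorem relCodim_eq_height (I : Ideal A) (p : PrimeSpectrum A) :
    SGA2.relCodim I p = ((I ⊔ p.asIdeal).map (Ideal.Quotient.mk p.asIdeal)).height := by
  unfold SGA2.relCodim
  apply le_antisymm
  · rw [Ideal.height_eq_inf_minimalPrimes]
    refine le_iInf₂ fun Q hQ => ?_
    haveI hQp : Q.IsPrime := hQ.1.1
    let q : PrimeSpectrum A := ⟨Q.comap (Ideal.Quotient.mk p.asIdeal), inferInstance⟩
    have hmapq : q.asIdeal.map (Ideal.Quotient.mk p.asIdeal) = Q :=
      Ideal.map_comap_of_surjective _ Ideal.Quotient.mk_surjective Q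
    have hle : I ⊔ p.asIdeal ≤ q.asIdeal := by
      have := hQ.1.2
      exact Ideal.map_le_iff_le_comap.mp this
    have hpq : p ≤ q := (PrimeSpectrum.asIdeal_le_asIdeal p q).mp (le_trans le_sup_right hle)
    have hIq : I ≤ q.asIdeal := le_trans le_sup_left hle
    refine le_trans (iInf_le _ (⟨q, hpq, hIq⟩ : {q : PrimeSpectrum A // p ≤ q ∧ I ≤ q.asIdeal})) ?_
    rw [Groth.Agent.Helper8.RC.height_Ici_eq p q hpq, hmapq]
  · refine le_iInf fun q => ?_
    rw [Groth.Agent.Helper8.RC.height_Ici_eq p q.1 q.2.1]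
    exact Ideal.height_mono (Ideal.map_mono (sup_le q.2.2 q.2.1))

/-- relative codimension one means: some prime containing `I` covers `p`. -/
theorem relCodim_eq_one_iff (I : Ideal A) (p : PrimeSpectrum A) (hp : ¬ I ≤ p.asIdeal) :
    SGA2.relCodim I p = 1 ↔ ∃ q : PrimeSpectrum A, I ≤ q.asIdeal ∧ p ⋖ q := by
  constructor
  · intro hc
    have hne : Nonempty {q : PrimeSpectrum A // p ≤ q ∧ I ≤ q.asIdeal} := by
      by_contra hcon
      rw [not_nonempty_iff] at hcon
      unfold SGA2.relCodim at hc
      rw [iInf_of_empty] at hc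
      exact ENat.top_ne_one hc
    obtain ⟨q, hq⟩ := ENat.exists_eq_iInf
      (fun q : {q : PrimeSpectrum A // p ≤ q ∧ I ≤ q.asIdeal} =>
        Order.height (⟨q.1, q.2.1⟩ : Set.Ici p))
    have hq' : Order.height (⟨q.1, q.2.1⟩ : Set.Ici p) = 1 := by
      rw [← hc]
      exact hq
    refine ⟨q.1, q.2.2, ?_⟩
    have hpq : p < q.1 := by
      refine lt_of_le_of_ne q.2.1 ?_
      intro heq
      apply hp
      rw [heq]
      exact q.2.2
    refine ⟨hpq, ?_⟩
    intro s hps hsq
    have h1 : (⟨p, le_refl p⟩ : Set.Ici p) < ⟨s, le_of_lt hps⟩ := hps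
    have h2 : (⟨s, le_of_lt hps⟩ : Set.Ici p) < ⟨q.1, q.2.1⟩ := hsq
    have h3 := Order.height_add_one_le h1
    have h4 := Order.height_add_one_le h2
    rw [hq'] at h4
    have h5 : (1 : ℕ∞) ≤ Order.height (⟨s, le_of_lt hps⟩ : Set.Ici p) :=
      le_trans le_add_self h3
    have h6 : (1 : ℕ∞) + 1 ≤ 1 := le_trans (add_le_add_left h5 1) h4
    have h7 : ((2 : ℕ) : ℕ∞) ≤ ((1 : ℕ) : ℕ∞) := by
      have : ((2 : ℕ) : ℕ∞) = 1 + 1 := by norm_num
      rw [this]
      exact_mod_cast h6
    have : 2 ≤ 1 := by exact_mod_cast h7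
    omega
  · rintro ⟨q, hIq, hcov⟩
    refine le_antisymm ?_ ?_
    · unfold SGA2.relCodim
      refine le_trans (iInf_le _
        (⟨q, le_of_lt hcov.1, hIq⟩ : {q : PrimeSpectrum A // p ≤ q ∧ I ≤ q.asIdeal})) ?_
      change Order.height (⟨q, le_of_lt hcov.1⟩ : Set.Ici p) ≤ 1
      rw [Order.height_le_iff']
      intro s hs
      -- s : LTSeries (Set.Ici p) with last = q
      by_contra hlen
      rw [not_le] at hlen
      have hlen' : 1 < s.length := by exact_mod_cast hlen
      -- consider the element before last and the one before that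
      have hl2 : 2 ≤ s.length := hlen'
      let i0 : Fin (s.length + 1) := ⟨s.length - 2, by omega⟩
      let i1 : Fin (s.length + 1) := ⟨s.length - 1, by omega⟩
      have h01 : s i0 < s i1 := s.strictMono (by
        change s.length - 2 < s.length - 1
        omega)
      have h1l : s i1 < s.last := s.strictMono (by
        change s.length - 1 < s.length
        omega)
      rw [hs] at h1l
      have hp0 : p ≤ (s i0).1 := (s i0).2
      have hp1 : p < (s i1).1 := lt_of_le_of_lt hp0 h01
      exact hcov.2 hp1 h1l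
    · -- 1 ≤ relCodim
      unfold SGA2.relCodim
      refine le_iInf fun q' => ?_
      rw [Order.one_le_iff_ne_zero, Order.height_ne_zero]
      intro hmin
      have h1 : (⟨p, le_refl p⟩ : Set.Ici p) ≤ ⟨q'.1, q'.2.1⟩ := q'.2.1
      have h2 := hmin h1
      have h3 : q'.1 ≤ p := h2
      exact hp (le_trans q'.2.2 h3)

end relCodim

section main

variable {A : Type u} [CommRing A] [IsNoetherianRing A] (I : Ideal A)
  (M : Type u) [AddCommGroup M] [Module A M] [Module.Finite A M]

/-- finiteness in degrees `≤ n` ⟺ `I` is in the radical of the annihilators. -/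
theorem finite_iff_le_radical_annihilator (n : ℕ) :
    (∀ i : ℕ, i ≤ n → Module.Finite A (H I i M)) ↔
      ∀ i : ℕ, i ≤ n → I ≤ (Module.annihilator A (H I i M)).radical := by
  constructor
  · intro hfin
    obtain ⟨J, hJ, hann⟩ := (finite_iff_exists_annihilator I M n).mp hfin
    intro i hi
    refine le_trans hJ (Ideal.radical_mono ?_)
    intro a ha
    rw [Module.mem_annihilator]
    exact hann i hi a ha
  · intro h
    have hk : ∀ i : ℕ, ∃ k : ℕ, i ≤ n → I ^ k ≤ Module.annihilator A (H I i M) := by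
      intro i
      by_cases hi : i ≤ n
      · obtain ⟨k, hk⟩ := Ideal.exists_pow_le_of_le_radical_of_fg (h i hi)
          (IsNoetherian.noetherian I)
        exact ⟨k, fun _ => hk⟩
      · exact ⟨0, fun h' => absurd h' hi⟩
    choose k hk using hk
    apply finite_of_pow_le_annihilator I n M ((Finset.range (n + 1)).sup k)
    intro i hi
    exact le_trans (Ideal.pow_le_pow_right
      (Finset.le_sup (Finset.mem_range.mpr (by omega)))) (hk i hi)

theorem forall_le_radical_iff_lt_finDimRel (a b : Ideal A) (n : ℕ) :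
    (∀ i : ℕ, i ≤ n → b ≤ (Module.annihilator A (H a i M)).radical) ↔
      (n : ℕ∞) < finDimRel a b M := by
  unfold finDimRel
  constructor
  · intro h
    have : ((n + 1 : ℕ) : ℕ∞) ≤
        ⨅ (i : ℕ) (_ : ¬ b ≤ (Module.annihilator A (H a i M)).radical), (i : ℕ∞) := by
      refine le_iInf₂ fun i hi => ?_
      have : n < i := by
        by_contra hle
        exact hi (h i (not_lt.mp hle))
      exact_mod_cast this
    refine lt_of_lt_of_le ?_ this
    exact_mod_cast Nat.lt_succ_self n
  · intro h i hi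
    by_contra hcon
    have := iInf₂_le
      (f := fun (i : ℕ) (_ : ¬ b ≤ (Module.annihilator A (H a i M)).radical) => (i : ℕ∞)) i hcon
    have h2 := lt_of_lt_of_le h this
    have : n < i := by exact_mod_cast h2
    omega

theorem lt_minAdjDepth_iff (a b : Ideal A) (n : ℕ) :
    (n : ℕ∞) < minAdjDepth a b M ↔
      ∀ p : PrimeSpectrum A, ¬ b ≤ p.asIdeal → (n : ℕ∞) < adjDepth a M p := by
  unfold minAdjDepth
  constructor
  · intro h p hp
    exact lt_of_lt_of_le h (iInf₂_le p hp)
  · intro h
    have : ((n + 1 : ℕ) : ℕ∞) ≤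
        ⨅ (p : PrimeSpectrum A) (_ : ¬ b ≤ p.asIdeal), adjDepth a M p := by
      refine le_iInf₂ fun p hp => ?_
      push_cast
      exact Order.add_one_le_of_lt (h p hp)
    refine lt_of_lt_of_le ?_ this
    exact_mod_cast Nat.lt_succ_self n

end main

/-- **SGA2 VIII 2.3 (ii)⇔(iii)** over a quotient of a regular ring. -/
theorem finite_iff_depth_of_covBy (R : Type u) [CommRing R] [IsRegularRing R] (A : Type u)
    [CommRing A] [IsNoetherianRing A] (π : R →+* A) (hπ : Function.Surjective π) (I : Ideal A)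
    (M : Type u) [AddCommGroup M] [Module A M] [Module.Finite A M] (n : ℕ) :
    (∀ i : ℕ, i ≤ n → Module.Finite A (LocCoh.H I i M)) ↔
      ∀ p q : PrimeSpectrum A, ¬ I ≤ p.asIdeal → I ≤ q.asIdeal → p ⋖ q →
        (n : ℕ∞) ≤ LocCoh.depth (Localization.AtPrime p.asIdeal)
          (LocalizedModule p.asIdeal.primeCompl M) := by
  rw [finite_iff_le_radical_annihilator, forall_le_radical_iff_lt_finDimRel]
  have heq : finDimRel I I M = minAdjDepth I I M :=
    le_antisymm (Groth.Agent.Helper8.FD.finDimRel_le_minAdjDepth I I M)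
      (minAdjDepth_le_finDimRel R A π hπ I I M)
  rw [heq, lt_minAdjDepth_iff]
  have h1 : (∀ p : PrimeSpectrum A, ¬ I ≤ p.asIdeal → (n : ℕ∞) < adjDepth I M p) ↔
      (∀ p : PrimeSpectrum A, ¬ I ≤ p.asIdeal →
        (n : ℕ∞) < LocCoh.depth (Localization.AtPrime p.asIdeal)
          (LocalizedModule p.asIdeal.primeCompl M) + SGA2.relCodim I p) := by
    refine forall_congr' fun p => forall_congr' fun hp => ?_
    unfold adjDepth
    rw [relCodim_eq_height]
  rw [h1, Groth.Agent.Helper8.RC.depth_relCodim_iff]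
  constructor
  · intro h p q hp hq hcov
    exact h p hp ((relCodim_eq_one_iff I p hp).mpr ⟨q, hq, hcov⟩)
  · intro h p hp hc
    obtain ⟨q, hq, hcov⟩ := (relCodim_eq_one_iff I p hp).mp hc
    exact h p q hp hq hcov

end Groth.Agent.Helper8.FA
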