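import Groth.Agent.Lib.Helper8.FA6
import Groth.Agent.Lib.Helper8.Depth29

/-!
# Catenarity of quotients of regular rings, and finiteness of local cohomology in the
locally Cohen–Macaulay case
-/

set_option autoImplicit false
universe u

namespace Groth.Agent.Helper8.FA

open CategoryTheory Abelian IsLocalRing LocCoh localCohomology
open Groth.Agent.Helper8.LC Groth.Agent.Helper8.LD Groth.Agent.Helper8.Depth

section regular

variable {R : Type u} [CommRing R] [IsRegularRing R]

/-- in a regular ring, `ht p + ht (q/p) = ht q`. -/
theorem regular_height_add_height_map_mk (p q : Ideal R) [hp : p.IsPrime] [hq : q.IsPrime]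
    (h : p ≤ q) : p.height + (q.map (Ideal.Quotient.mk p)).height = q.height := by
  haveI : IsGorensteinLocalRing (Localization.AtPrime q) :=
    Groth.Agent.Helper8.ABS.isGorensteinLocalRing_of_isRegularLocalRing _
  haveI hCM : IsCohenMacaulayLocalRing (Localization.AtPrime q) :=
    Groth.Agent.Helper8.Goren.isCohenMacaulayLocalRing_of_isGorensteinLocalRing _
  have hdisj : Disjoint (q.primeCompl : Set R) (p : Set R) := by
    rw [Set.disjoint_left]
    intro x hx hxp
    exact hx (h hxp)
  set P := p.map (algebraMap R (Localization.AtPrime q)) with hP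
  haveI hPprime : P.IsPrime :=
    IsLocalization.isPrime_of_isPrime_disjoint q.primeCompl _ p hp hdisj
  have hPp : P.comap (algebraMap R (Localization.AtPrime q)) = p :=
    IsLocalization.under_map_of_isPrime_disjoint q.primeCompl _ hp hdisj
  have h1 := cm_height_add_dim_quotient_ideal (Localization.AtPrime q) P hPprime.ne_top
  rw [ringKrullDim_localization_quotient_eq p q h P hPp,
    IsLocalization.AtPrime.ringKrullDim_eq_height q (Localization.AtPrime q),
    IsLocalization.height_map_of_disjoint q.primeCompl p hdisj] at h1
  exact_mod_cast h1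

end regular

section quotient

variable {R A : Type u} [CommRing R] [IsRegularRing R] [CommRing A] [Algebra R A]
  (hπ : Function.Surjective (algebraMap R A))

include hπ in
/-- heights `ht(q/p)` in a quotient of a regular ring: `ht(q/p) = ht q' - ht p'`. -/
theorem height_map_mk_add_eq (p q : Ideal A) [p.IsPrime] [q.IsPrime] (h : p ≤ q) :
    (p.comap (algebraMap R A)).height + (q.map (Ideal.Quotient.mk p)).height =
      (q.comap (algebraMap R A)).height := by
  have hker : RingHom.ker (algebraMap R A) ≤ p.comap (algebraMap R A) := by
    intro x hx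
    rw [Ideal.mem_comap, (RingHom.mem_ker).mp hx]
    exact zero_mem _
  have h1 := height_map_mk_map_eq hπ (p.comap (algebraMap R A)) hker (q.comap (algebraMap R A))
  have hpm : (p.comap (algebraMap R A)).map (algebraMap R A) = p :=
    Ideal.map_comap_of_surjective _ hπ p
  have hqm : (q.comap (algebraMap R A)).map (algebraMap R A) = q :=
    Ideal.map_comap_of_surjective _ hπ q
  have hle : p.comap (algebraMap R A) ≤ q.comap (algebraMap R A) := Ideal.comap_mono h
  rw [hpm, hqm, sup_eq_left.mpr h, sup_eq_left.mpr hle] at h1
  rw [h1]
  exact regular_height_add_height_map_mk _ _ hle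

include hπ in
/-- quotients of regular rings are catenary. -/
theorem height_map_mk_trans (p0 p q : Ideal A) [p0.IsPrime] [p.IsPrime] [q.IsPrime]
    (h0 : p0 ≤ p) (h : p ≤ q) :
    (q.map (Ideal.Quotient.mk p0)).height =
      (p.map (Ideal.Quotient.mk p0)).height + (q.map (Ideal.Quotient.mk p)).height := by
  have e1 := height_map_mk_add_eq hπ p0 q (h0.trans h)
  have e2 := height_map_mk_add_eq hπ p0 p h0
  have e3 := height_map_mk_add_eq hπ p q h
  have hfin : (p0.comap (algebraMap R A)).height ≠ ⊤ := Ideal.height_ne_top_of_isPrime
  rw [← e2, add_assoc] at e3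
  rw [← e3] at e1
  exact (ENat.add_right_injective_of_ne_top hfin) e1

end quotient

section main

/-- finiteness in degrees `≤ n` in terms of `depth + c(p)`. -/
theorem finite_iff_lt_depth_add_relCodim (R : Type u) [CommRing R] [IsRegularRing R] (A : Type u)
    [CommRing A] [IsNoetherianRing A] (π : R →+* A) (hπ : Function.Surjective π) (I : Ideal A)
    (M : Type u) [AddCommGroup M] [Module A M] [Module.Finite A M] (n : ℕ) :
    (∀ i : ℕ, i ≤ n → Module.Finite A (LocCoh.H I i M)) ↔
      ∀ p : PrimeSpectrum A, ¬ I ≤ p.asIdeal →
        (n : ℕ∞) < LocCoh.depth (Localization.AtPrime p.asIdeal)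
          (LocalizedModule p.asIdeal.primeCompl M) + SGA2.relCodim I p := by
  rw [finite_iff_le_radical_annihilator, forall_le_radical_iff_lt_finDimRel]
  have heq : finDimRel I I M = minAdjDepth I I M :=
    le_antisymm (Groth.Agent.Helper8.FD.finDimRel_le_minAdjDepth I I M)
      (minAdjDepth_le_finDimRel R A π hπ I I M)
  rw [heq, lt_minAdjDepth_iff]
  refine forall_congr' fun p => forall_congr' fun hp => ?_
  unfold adjDepth
  rw [relCodim_eq_height]

/-- **SGA2 VIII 2.3, Cohen–Macaulay case.** -/
theorem finite_iff_relCodim_of_cm (R : Type u) [CommRing R] [IsRegularRing R] (A : Type u)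
    [CommRing A] [IsNoetherianRing A] (π : R →+* A) (hπ : Function.Surjective π) (I : Ideal A)
    (M : Type u) [AddCommGroup M] [Module A M] [Module.Finite A M]
    (hCM : ∀ p : PrimeSpectrum A, ¬ I ≤ p.asIdeal →
      Subsingleton (LocalizedModule p.asIdeal.primeCompl M) ∨
        LocCoh.IsCohenMacaulayModule (Localization.AtPrime p.asIdeal)
          (LocalizedModule p.asIdeal.primeCompl M)) (n : ℕ) :
    (∀ i : ℕ, i ≤ n → Module.Finite A (LocCoh.H I i M)) ↔
      ∀ p : PrimeSpectrum A, ¬ I ≤ p.asIdeal →
        p.asIdeal ∈ (Module.annihilator A M).minimalPrimes → (n : ℕ∞) < SGA2.relCodim I p := by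
  constructor
  · intro hfin p hp hmin
    have h1 := (finite_iff_lt_depth_add_relCodim R A π hπ I M n).mp hfin p hp
    have hsupp : p ∈ Module.support A M := Module.mem_support_iff_of_finite.mpr hmin.1.2
    haveI : Nontrivial (LocalizedModule p.asIdeal.primeCompl M) :=
      Module.mem_support_iff.mp hsupp
    haveI : Module.Finite (Localization.AtPrime p.asIdeal)
        (LocalizedModule p.asIdeal.primeCompl M) :=
      Module.Finite.of_isLocalizedModule p.asIdeal.primeCompl
        (LocalizedModule.mkLinearMap p.asIdeal.primeCompl M)
    have h2 := depth_le_supportDim (A := Localization.AtPrime p.asIdeal)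
      (M := LocalizedModule p.asIdeal.primeCompl M)
    have h3 := supportDim_localizedModule_le_zero_of_minimal p.asIdeal M hmin
    have h4 : LocCoh.depth (Localization.AtPrime p.asIdeal)
        (LocalizedModule p.asIdeal.primeCompl M) = 0 := by
      have h5 : ((LocCoh.depth (Localization.AtPrime p.asIdeal)
          (LocalizedModule p.asIdeal.primeCompl M) : ℕ∞) : WithBot ℕ∞) ≤ ((0 : ℕ∞) : WithBot ℕ∞) :=
        h2.trans h3
      have h6 : LocCoh.depth (Localization.AtPrime p.asIdeal)
          (LocalizedModule p.asIdeal.primeCompl M) ≤ 0 := by exact_mod_cast h5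
      exact le_antisymm h6 zero_le
    rw [h4, zero_add] at h1
    exact h1
  · intro h
    rw [finite_iff_depth_of_covBy R A π hπ I M n]
    intro p q hp hq hcov
    rcases hCM p hp with hsub | hcm
    · have : LocCoh.depth (Localization.AtPrime p.asIdeal)
          (LocalizedModule p.asIdeal.primeCompl M) = ⊤ :=
        idealDepth_of_smul_top_eq _ _ (Subsingleton.elim _ _)
      rw [this]
      exact le_top
    · letI : Algebra R A := π.toAlgebra
      have hπ' : Function.Surjective (algebraMap R A) := hπ
      haveI : Module.Finite (Localization.AtPrime p.asIdeal)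
          (LocalizedModule p.asIdeal.primeCompl M) :=
        Module.Finite.of_isLocalizedModule p.asIdeal.primeCompl
          (LocalizedModule.mkLinearMap p.asIdeal.primeCompl M)
      have hnt : Nontrivial (LocalizedModule p.asIdeal.primeCompl M) := by
        by_contra hnn
        rw [not_nontrivial_iff_subsingleton] at hnn
        unfold IsCohenMacaulayModule at hcm
        rw [Module.supportDim_eq_bot_of_subsingleton] at hcm
        exact WithBot.bot_ne_coe hcm
      have hsupp : p ∈ Module.support A M := Module.mem_support_iff.mpr hnt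
      have hann : Module.annihilator A M ≤ p.asIdeal := Module.mem_support_iff_of_finite.mp hsupp
      obtain ⟨p0, hp0min, hp0le⟩ := Ideal.exists_minimalPrimes_le hann
      haveI hp0prime : p0.IsPrime := hp0min.1.1
      have hIp0 : ¬ I ≤ p0 := fun hle => hp (hle.trans hp0le)
      have h1 := h ⟨p0, hp0prime⟩ hIp0 hp0min
      have hpq : p.asIdeal ≤ q.asIdeal := le_of_lt hcov.1
      have h2 : SGA2.relCodim I ⟨p0, hp0prime⟩ ≤
          (q.asIdeal.map (Ideal.Quotient.mk p0)).height := by
        rw [relCodim_eq_height]
        exact Ideal.height_mono (Ideal.map_mono (sup_le hq (hp0le.trans hpq)))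
      have h3 := height_map_mk_trans (R := R) hπ' p0 p.asIdeal q.asIdeal hp0le hpq
      have h4 : (q.asIdeal.map (Ideal.Quotient.mk p.asIdeal)).height = 1 := by
        have hqp : ¬ q.asIdeal ≤ p.asIdeal := fun hle => not_le_of_gt hcov.1 hle
        have := (relCodim_eq_one_iff q.asIdeal p hqp).mpr ⟨q, le_refl _, hcov⟩
        rw [relCodim_eq_height, sup_eq_left.mpr hpq] at this
        exact this
      have h5 : ((p.asIdeal.map (Ideal.Quotient.mk p0)).height : WithBot ℕ∞) ≤
          Module.supportDim (Localization.AtPrime p.asIdeal)
            (LocalizedModule p.asIdeal.primeCompl M) := by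
        have hdisj : Disjoint (p.asIdeal.primeCompl : Set A) (p0 : Set A) := by
          rw [Set.disjoint_left]
          intro x hx hxp
          exact hx (hp0le hxp)
        set P0 := p0.map (algebraMap A (Localization.AtPrime p.asIdeal)) with hP0
        haveI hP0prime : P0.IsPrime :=
          IsLocalization.isPrime_of_isPrime_disjoint p.asIdeal.primeCompl _ p0 hp0prime hdisj
        have hP0p : P0.comap (algebraMap A (Localization.AtPrime p.asIdeal)) = p0 :=
          IsLocalization.under_map_of_isPrime_disjoint p.asIdeal.primeCompl _ hp0prime hdisj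
        have hmem : (⟨P0, hP0prime⟩ : PrimeSpectrum (Localization.AtPrime p.asIdeal)) ∈
            Module.support (Localization.AtPrime p.asIdeal)
              (LocalizedModule p.asIdeal.primeCompl M) := by
          rw [mem_support_localizedModule_iff]
          have : PrimeSpectrum.comap (algebraMap A (Localization.AtPrime p.asIdeal))
              ⟨P0, hP0prime⟩ = ⟨p0, hp0prime⟩ := PrimeSpectrum.ext hP0p
          rw [this]
          exact Module.mem_support_iff_of_finite.mpr hp0min.1.2
        have := dim_quotient_le_supportDim_of_mem_support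
          (⟨P0, hP0prime⟩ : PrimeSpectrum (Localization.AtPrime p.asIdeal)) hmem
        rw [← ringKrullDim_localization_quotient_eq p0 p.asIdeal hp0le P0 hP0p]
        exact this
      unfold IsCohenMacaulayModule at hcm
      rw [hcm] at h5
      have h5' : (p.asIdeal.map (Ideal.Quotient.mk p0)).height ≤
          LocCoh.depth (Localization.AtPrime p.asIdeal)
            (LocalizedModule p.asIdeal.primeCompl M) := by exact_mod_cast h5
      have h6 : (n : ℕ∞) < (p.asIdeal.map (Ideal.Quotient.mk p0)).height + 1 := by
        calc (n : ℕ∞) < SGA2.relCodim I ⟨p0, hp0prime⟩ := h1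
          _ ≤ (q.asIdeal.map (Ideal.Quotient.mk p0)).height := h2
          _ = (p.asIdeal.map (Ideal.Quotient.mk p0)).height + 1 := by rw [h3, h4]
      exact (Order.le_of_lt_add_one h6).trans h5'

end main

end Groth.Agent.Helper8.FA
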