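import Mathlib
import Groth.Prelude.Def_Wider

set_option autoImplicit false
universe u
open TensorProduct

namespace Groth.Agent.Helper8.FBC

variable {R : Type u} [CommRing R] [IsNoetherianRing R] {R' : Type u} [CommRing R']
  [Algebra R R'] [Module.Flat R R'] (I : Ideal R) (E : Type u) [AddCommGroup E] [Module R E]
  [Module.Injective R E]

/-- every `R'`-linear map `R' ⊗ I → R' ⊗ E` is multiplication by an element on `1 ⊗ I`. -/
lemma exists_smul_of_linearMap (ψ : R' ⊗[R] I →ₗ[R'] R' ⊗[R] E) :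
    ∃ x : R' ⊗[R] E, ∀ a : I, ψ (1 ⊗ₜ a) = (a : R) • x := by
  haveI : Module.FinitePresentation R I := Module.finitePresentation_of_finite R I
  have h := Module.FinitePresentation.isBaseChange_map R I E R'
  induction ψ using h.inductionOn with
  | zero => exact ⟨0, fun a => by rw [LinearMap.zero_apply, smul_zero]⟩
  | tmul f =>
    obtain ⟨g, hg⟩ := Module.Injective.extension_property R E I R I.subtype
      Subtype.val_injective f
    refine ⟨1 ⊗ₜ g 1, fun a => ?_⟩
    change (f.baseChange R') (1 ⊗ₜ a) = _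
    have h1 : f a = (a : R) • g 1 := by
      rw [← map_smul, ← hg]
      change g (a : R) = g ((a : R) • (1 : R))
      rw [smul_eq_mul, mul_one]
    rw [LinearMap.baseChange_tmul, h1, TensorProduct.tmul_smul]
  | smul s ψ ih =>
    obtain ⟨x, hx⟩ := ih
    refine ⟨s • x, fun a => ?_⟩
    rw [LinearMap.smul_apply, hx, smul_comm]
  | add ψ₁ ψ₂ ih₁ ih₂ =>
    obtain ⟨x₁, hx₁⟩ := ih₁
    obtain ⟨x₂, hx₂⟩ := ih₂
    refine ⟨x₁ + x₂, fun a => ?_⟩
    rw [LinearMap.add_apply, hx₁, hx₂, smul_add]

theorem smul_into_hom_surjective :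
    Function.Surjective (((LinearMap.lsmul R' (R' ⊗[R] E)).domRestrict
      (Ideal.map (algebraMap R R') I)).flip) := by
  intro φ
  let J : Ideal R' := Ideal.map (algebraMap R R') I
  -- the multiplication map `R' ⊗ I → I R'`
  let g : I →ₗ[R] J :=
    { toFun := fun a => ⟨algebraMap R R' a, Ideal.mem_map_of_mem _ a.2⟩
      map_add' := fun a b => Subtype.ext (by simp)
      map_smul' := fun r a => Subtype.ext (by
        change algebraMap R R' (r * a) = r • algebraMap R R' (a : R)
        rw [map_mul, Algebra.smul_def]) }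
  let μ : R' ⊗[R] I →ₗ[R'] J := g.liftBaseChange R'
  obtain ⟨x, hx⟩ := exists_smul_of_linearMap I E (φ ∘ₗ μ)
  refine ⟨x, ?_⟩
  have key : ∀ (r : R') (hr : r ∈ J), φ ⟨r, hr⟩ = r • x := by
    intro r hr
    induction hr using Submodule.span_induction with
    | mem y hy =>
      obtain ⟨a, ha, rfl⟩ := hy
      have h1 := hx ⟨a, ha⟩
      change φ (μ (1 ⊗ₜ ⟨a, ha⟩)) = _ at h1
      rw [LinearMap.liftBaseChange_one_tmul] at h1
      rw [algebraMap_smul]
      exact h1
    | zero =>
      rw [zero_smul]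
      exact map_zero φ
    | add y z hy hz ihy ihz =>
      rw [add_smul, ← ihy, ← ihz, ← map_add]
      rfl
    | smul t y hy ihy =>
      have h2 : φ ⟨t • y, Submodule.smul_mem _ t hy⟩ = t • φ ⟨y, hy⟩ := by
        rw [← map_smul]
        rfl
      rw [h2, ihy, smul_eq_mul, mul_smul]
  apply LinearMap.ext
  rintro ⟨r, hr⟩
  exact (key r hr).symm

end Groth.Agent.Helper8.FBC
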