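import Groth.Agent.Lib.Helper8.LC43

set_option autoImplicit false
universe u
open CategoryTheory CategoryTheory.Limits Opposite

namespace Groth.Agent.Helper8.LC

open Abelian localCohomology LocCoh

variable {R : Type u} [CommRing R] [IsNoetherianRing R]

theorem subsingleton_sup_span_of_subsingleton (a : Ideal R) (b : R) (M : Type u)
    [AddCommGroup M] [Module R M] (j : ℕ) (h1 : Subsingleton (H a (j + 1) M))
    (h2 : Subsingleton (H a (j + 2) M)) :
    Subsingleton (H (a ⊔ Ideal.span {b}) (j + 2) M) := by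
  obtain ⟨e⟩ := nonempty_ker_θb_equiv a b (j + 1) M
  haveI : Subsingleton (ModuleCat.of R (H a (j + 1) M)) := h1
  have h3 : Subsingleton (H (Ideal.span {b}) 1 (H a (j + 1) M)) :=
    subsingleton_of_subsingleton (Ideal.span {b}) 1 (ModuleCat.of R (H a (j + 1) M))
  have h4 : Subsingleton (LinearMap.ker (θb a b (j + 1 + 1) (ModuleCat.of R M))) :=
    e.toEquiv.subsingleton
  apply subsingleton_of_forall_eq_zero
  intro z
  have hz : z ∈ LinearMap.ker (θb a b (j + 1 + 1) (ModuleCat.of R M)) := by
    rw [LinearMap.mem_ker]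
    exact h2.elim _ _
  have := h4.elim ⟨z, hz⟩ 0
  exact congrArg Subtype.val this

theorem acyclic_of_H_one_subsingleton_on_family (M : Type u) [AddCommGroup M] [Module R M]
    (C : Set (Ideal R)) (hsum : ∀ a ∈ C, ∀ b ∈ C, a ⊔ b ∈ C)
    (hzero : (⊥ : Ideal R) ∈ C)
    (hgen : ∀ c ∈ C, ∃ s : Finset R, (∀ x ∈ s, Ideal.span {x} ∈ C) ∧ Ideal.span (s : Set R) = c)
    (hone : ∀ c ∈ C, Subsingleton (LocCoh.H c 1 M)) (c : Ideal R) (hc : c ∈ C) (i : ℕ)
    (hi : 0 < i) : Subsingleton (LocCoh.H c i M) := by
  classical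
  obtain ⟨s, hs, rfl⟩ := hgen c hc
  clear hc
  induction s using Finset.induction_on generalizing i with
  | empty =>
    rw [Finset.coe_empty, Ideal.span_empty]
    exact cdLE_bot M i hi
  | insert b s hb ih =>
    have hs' : ∀ x ∈ s, Ideal.span {x} ∈ C := fun x hx => hs x (Finset.mem_insert_of_mem hx)
    have hsC : ∀ t : Finset R, (∀ x ∈ t, Ideal.span {x} ∈ C) → Ideal.span (t : Set R) ∈ C := by
      intro t
      induction t using Finset.induction_on with
      | empty =>
        intro _
        rw [Finset.coe_empty, Ideal.span_empty]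
        exact hzero
      | insert x t hx iht =>
        intro ht
        rw [Finset.coe_insert, Ideal.span_insert]
        exact hsum _ (ht x (Finset.mem_insert_self x t)) _
          (iht (fun y hy => ht y (Finset.mem_insert_of_mem hy)))
    have hmem : Ideal.span ((insert b s : Finset R) : Set R) ∈ C := hsC _ hs
    obtain ⟨j, rfl⟩ : ∃ j, i = j + 1 := ⟨i - 1, by omega⟩
    rcases Nat.eq_zero_or_pos j with rfl | hj
    · exact hone _ hmem
    · obtain ⟨k, rfl⟩ : ∃ k, j = k + 1 := ⟨j - 1, by omega⟩
      rw [Finset.coe_insert, Ideal.span_insert, sup_comm]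
      exact subsingleton_sup_span_of_subsingleton _ b M k (ih (k + 1) (Nat.succ_pos k) hs')
        (ih (k + 2) (Nat.succ_pos _) hs')

end Groth.Agent.Helper8.LC
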