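import Groth.Agent.Lib.Helper8.FBC1
import Groth.Agent.Lib.Helper8.LC44
import Groth.Agent.Lib.Helper8.DT7

set_option autoImplicit false
universe u
open TensorProduct CategoryTheory

namespace Groth.Agent.Helper8.FBC

open LocCoh Groth.Agent.Helper8.LC Groth.Agent.Helper8.DT

variable {R : Type u} [CommRing R] [IsNoetherianRing R] {R' : Type u} [CommRing R']
  [IsNoetherianRing R'] [Algebra R R'] [Module.Flat R R'] (E : Type u) [AddCommGroup E]
  [Module R E] [Module.Injective R E]

omit [IsNoetherianRing R'] in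
lemma exists_smul_eq (b : Ideal R) (J' : Ideal R') (hJ : J' = b.map (algebraMap R R'))
    (φ : J' →ₗ[R'] R' ⊗[R] E) : ∃ x : R' ⊗[R] E, ∀ r : J', φ r = (r : R') • x := by
  subst hJ
  obtain ⟨x, hx⟩ := smul_into_hom_surjective b E φ
  exact ⟨x, fun r => (LinearMap.congr_fun hx r).symm⟩

omit [IsNoetherianRing R'] in
lemma subsingleton_H_one_map (b : Ideal R) :
    Subsingleton (H (b.map (algebraMap R R')) 1 (R' ⊗[R] E)) := by
  let c : Ideal R' := b.map (algebraMap R R')
  let N := R' ⊗[R] E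
  have hsurj : Function.Surjective (toDT c N) := by
    intro y
    obtain ⟨n, φ, rfl⟩ := ιD_rep c (ModuleCat.of R' N) y
    obtain ⟨x, hx⟩ := exists_smul_eq E (b ^ n) (c ^ n) (Ideal.map_pow _ _ _).symm φ
    refine ⟨x, ?_⟩
    rw [toDT_eq' c N x n]
    congr 1
    apply LinearMap.ext
    intro r
    rw [smulMap_apply]
    exact (hx r).symm
  obtain ⟨e⟩ := nonempty_coker_toDT_equiv c N
  have htop : LinearMap.range (toDT c N) = ⊤ := LinearMap.range_eq_top.mpr hsurj
  haveI : Subsingleton (DT c N ⧸ LinearMap.range (toDT c N)) :=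
    Submodule.Quotient.subsingleton_iff.mpr htop
  exact e.symm.toEquiv.subsingleton

/-- the base change of an injective module along a flat map is acyclic. -/
theorem subsingleton_H_baseChange_of_injective (I : Ideal R) (i : ℕ) (hi : 0 < i) :
    Subsingleton (H (I.map (algebraMap R R')) i (R' ⊗[R] E)) := by
  classical
  let C : Set (Ideal R') := {J' | ∃ b : Ideal R, J' = b.map (algebraMap R R')}
  apply acyclic_of_H_one_subsingleton_on_family (R' ⊗[R] E) C
  · rintro _ ⟨a, rfl⟩ _ ⟨b, rfl⟩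
    exact ⟨a ⊔ b, (Ideal.map_sup _ _ _).symm⟩
  · exact ⟨⊥, Ideal.map_bot.symm⟩
  · rintro _ ⟨b, rfl⟩
    obtain ⟨s₀, hs₀⟩ := (IsNoetherian.noetherian b : b.FG)
    refine ⟨s₀.image (algebraMap R R'), ?_, ?_⟩
    · intro x hx
      obtain ⟨y, -, rfl⟩ := Finset.mem_image.mp hx
      refine ⟨Ideal.span {y}, ?_⟩
      rw [Ideal.map_span, Set.image_singleton]
    · rw [Finset.coe_image, ← Ideal.map_span]
      congr 1
  · rintro _ ⟨b, rfl⟩
    exact subsingleton_H_one_map E b
  · exact ⟨I, rfl⟩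
  · exact hi

end Groth.Agent.Helper8.FBC
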