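import Groth.Agent.Lib.Helper8.FBC3

set_option autoImplicit false
universe u
open TensorProduct CategoryTheory CategoryTheory.Limits

namespace Groth.Agent.Helper8.FBC

open LocCoh Groth.Agent.Helper8.LC Abelian

variable {A : Type u} [CommRing A] [IsNoetherianRing A] {B : Type u} [CommRing B]
  [IsNoetherianRing B] [Algebra A B] (I : Ideal A) (d : ℕ)

theorem cdLE_map (h : CdLE A I d) : CdLE B (I.map (algebraMap A B)) d := by
  intro N _ _ i hi
  letI : Module A N := Module.compHom N (algebraMap A B)
  haveI : IsScalarTower A B N := IsScalarTower.of_algebraMap_smul (fun r x => rfl)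
  obtain ⟨φ, -⟩ := exists_semilinear_equiv (R' := B) I i N
  haveI := h N i hi
  exact φ.toEquiv.subsingleton

theorem cdLE_of_faithfullyFlat [Module.FaithfullyFlat A B]
    (h : CdLE B (I.map (algebraMap A B)) d) : CdLE A I d := by
  intro M _ _ i hi
  obtain ⟨e⟩ := nonempty_baseChange_H_equiv (R' := B) I i M
  haveI := h (B ⊗[A] M) i hi
  haveI : Subsingleton (B ⊗[A] H I i M) := e.toEquiv.subsingleton
  exact Module.FaithfullyFlat.lTensor_reflects_triviality A B (H I i M)

theorem cdLE_baseChange :
    (CdLE A I d → CdLE B (I.map (algebraMap A B)) d) ∧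
      (Module.FaithfullyFlat A B → CdLE B (I.map (algebraMap A B)) d → CdLE A I d) :=
  ⟨cdLE_map I d, fun hff h => by haveI := hff; exact cdLE_of_faithfullyFlat I d h⟩

end Groth.Agent.Helper8.FBC
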