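import Mathlib

/-!
# Lengths of localizations of `R ⧸ p` and additivity of localized lengths
-/

set_option autoImplicit false
universe u v

namespace Groth.Agent.Helper8.OD

open Function

variable {R : Type u} [CommRing R]

/-- Lengths of localizations are additive on short exact sequences. -/
theorem length_localized_additive (q : Ideal R) [q.IsPrime] {N₁ N₂ N₃ : Type v}
    [AddCommGroup N₁] [Module R N₁] [AddCommGroup N₂] [Module R N₂] [AddCommGroup N₃]
    [Module R N₃] (f : N₁ →ₗ[R] N₂) (g : N₂ →ₗ[R] N₃) (hf : Injective f) (hg : Surjective g)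
    (hfg : Exact f g) :
    Module.length (Localization.AtPrime q) (LocalizedModule q.primeCompl N₂) =
      Module.length (Localization.AtPrime q) (LocalizedModule q.primeCompl N₁) +
        Module.length (Localization.AtPrime q) (LocalizedModule q.primeCompl N₃) :=
  Module.length_eq_add_of_exact (LocalizedModule.map q.primeCompl f)
    (LocalizedModule.map q.primeCompl g) (LocalizedModule.map_injective _ f hf)
    (LocalizedModule.map_surjective _ g hg)
    (fun y => LocalizedModule.map_exact q.primeCompl f g hfg y)

/-- Lengths of localizations are invariant under isomorphism. -/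
theorem length_localized_congr (q : Ideal R) [q.IsPrime] {N₁ : Type v} {N₂ : Type*}
    [AddCommGroup N₁] [Module R N₁] [AddCommGroup N₂] [Module R N₂] (e : N₁ ≃ₗ[R] N₂) :
    Module.length (Localization.AtPrime q) (LocalizedModule q.primeCompl N₁) =
      Module.length (Localization.AtPrime q) (LocalizedModule q.primeCompl N₂) :=
  (IsLocalizedModule.mapEquiv q.primeCompl (LocalizedModule.mkLinearMap q.primeCompl N₁)
    (LocalizedModule.mkLinearMap q.primeCompl N₂) (Localization.AtPrime q) e).length_eq

/-- `(R ⧸ p)_q = 0` when `p ⊄ q`. -/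
theorem subsingleton_localized_quotient (p q : Ideal R) [q.IsPrime] (hpq : ¬ p ≤ q) :
    Subsingleton (LocalizedModule q.primeCompl (R ⧸ p)) := by
  rw [LocalizedModule.subsingleton_iff]
  obtain ⟨s, hsp, hsq⟩ := Set.not_subset.mp hpq
  intro m
  refine ⟨s, hsq, ?_⟩
  obtain ⟨r, rfl⟩ := Ideal.Quotient.mk_surjective m
  rw [Algebra.smul_def, Ideal.Quotient.algebraMap_eq, ← map_mul, Ideal.Quotient.eq_zero_iff_mem]
  exact p.mul_mem_right _ hsp

theorem length_localized_of_not_le (p q : Ideal R) [q.IsPrime] (hpq : ¬ p ≤ q) :
    Module.length (Localization.AtPrime q) (LocalizedModule q.primeCompl (R ⧸ p)) = 0 := by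
  haveI := subsingleton_localized_quotient p q hpq
  exact Module.length_eq_zero

/-- `(R ⧸ p)_p` is a simple `R_p`-module. -/
theorem length_localized_quotient_self (p : Ideal R) [p.IsPrime] :
    Module.length (Localization.AtPrime p) (LocalizedModule p.primeCompl (R ⧸ p)) = 1 := by
  rw [Module.length_eq_one_iff]
  have hgen : ∀ (a : R) (t : p.primeCompl),
      (LocalizedModule.mk (Ideal.Quotient.mk p a) t : LocalizedModule p.primeCompl (R ⧸ p)) =
        (Localization.mk a t : Localization.AtPrime p) •
          (LocalizedModule.mk (1 : R ⧸ p) 1 : LocalizedModule p.primeCompl (R ⧸ p)) := by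
    intro a t
    rw [LocalizedModule.mk_smul_mk, mul_one]
    congr 1
    rw [Algebra.smul_def, mul_one]
    rfl
  haveI hnt : Nontrivial (LocalizedModule p.primeCompl (R ⧸ p)) := by
    refine ⟨⟨LocalizedModule.mk 1 1, 0, ?_⟩⟩
    intro h0
    rw [← LocalizedModule.zero_mk (1 : p.primeCompl), LocalizedModule.mk_eq] at h0
    obtain ⟨u, hu⟩ := h0
    simp only [one_smul, smul_zero] at hu
    have : (u : R) ∈ p := by
      rw [← Ideal.Quotient.eq_zero_iff_mem]
      have h2 : (u : R) • (1 : R ⧸ p) = 0 := hu
      rwa [Algebra.smul_def, mul_one] at h2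
    exact u.2 this
  rw [isSimpleModule_iff]
  refine { exists_pair_ne := ⟨⊥, ⊤, bot_ne_top⟩, eq_bot_or_eq_top := ?_ }
  intro W
  by_cases hW : W = ⊥
  · exact Or.inl hW
  · right
    obtain ⟨w, hwW, hw0⟩ := (Submodule.ne_bot_iff W).mp hW
    induction w using LocalizedModule.induction_on with
    | h m s =>
      obtain ⟨r, rfl⟩ := Ideal.Quotient.mk_surjective m
      have hr : r ∉ p := by
        intro hrp
        apply hw0
        have : Ideal.Quotient.mk p r = 0 := Ideal.Quotient.eq_zero_iff_mem.mpr hrp
        rw [this, LocalizedModule.zero_mk]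
      -- the generator lies in `W`
      have h1 : (LocalizedModule.mk (1 : R ⧸ p) 1 : LocalizedModule p.primeCompl (R ⧸ p)) ∈ W := by
        have h2 := W.smul_mem (Localization.mk (s : R) ⟨r, hr⟩ : Localization.AtPrime p) hwW
        rw [LocalizedModule.mk_smul_mk] at h2
        convert h2 using 1
        rw [LocalizedModule.mk_eq]
        refine ⟨1, ?_⟩
        simp only [one_smul, Submonoid.smul_def, Submonoid.coe_mul, Algebra.smul_def, mul_one,
          map_mul, Ideal.Quotient.algebraMap_eq]
        ring
      rw [eq_top_iff]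
      intro z _
      induction z using LocalizedModule.induction_on with
      | h m' t =>
        obtain ⟨a, rfl⟩ := Ideal.Quotient.mk_surjective m'
        rw [hgen a t]
        exact W.smul_mem _ h1

end Groth.Agent.Helper8.OD
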