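import Mathlib
import Groth.Agent.Lib.Helper8.OD2

/-!
# Determinants over the residue field of modules killed by a maximal ideal

For a commutative ring `R` with a maximal ideal `𝔪` and an `R`-module `M` killed by `𝔪`, an
`R`-linear endomorphism of `M` has a determinant `kdet` in `R ⧸ 𝔪`.  It is multiplicative in short
exact sequences.  For an `R`-algebra `S` with finitely many maximal ideals and an `S`-module `M` of
finite length killed by `𝔪`, the determinant of multiplication by `x ∈ S` is
`∏_n ν_n ^ {length_{S_n} M_n}`, where `ν_n` is the determinant of `x` on `S ⧸ n`.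
-/

set_option autoImplicit false
universe u

namespace Groth.Agent.Helper8.FB

open Function

section KDet

variable {R : Type u} [CommRing R] (𝔪 : Ideal R)

theorem algebraMap_quot_surjective : Surjective (algebraMap R (R ⧸ 𝔪)) := by
  rw [Ideal.Quotient.algebraMap_eq]
  exact Ideal.Quotient.mk_surjective

/-- The determinant over `R ⧸ 𝔪` of an `R`-linear endomorphism of a module killed by `𝔪`. -/
noncomputable def kdet {M : Type u} [AddCommGroup M] [Module R M]
    (hM : Module.IsTorsionBySet R M (𝔪 : Set R)) (φ : M →ₗ[R] M) : R ⧸ 𝔪 :=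
  letI := hM.module
  haveI : IsScalarTower R (R ⧸ 𝔪) M := hM.isScalarTower
  LinearMap.det (φ.extendScalarsOfSurjective (algebraMap_quot_surjective 𝔪))

theorem kdet_of_subsingleton {M : Type u} [AddCommGroup M] [Module R M] [Subsingleton M]
    (hM : Module.IsTorsionBySet R M (𝔪 : Set R)) (φ : M →ₗ[R] M) : kdet 𝔪 hM φ = 1 := by
  letI := hM.module
  exact LinearMap.det_eq_one_of_subsingleton _

theorem det_congr_aux {k : Type u} [CommRing k] {M M' : Type u} [AddCommGroup M] [Module k M]
    [AddCommGroup M'] [Module k M'] (e : M ≃ₗ[k] M') (φ : M →ₗ[k] M) (φ' : M' →ₗ[k] M')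
    (h : ∀ x, e (φ x) = φ' (e x)) : LinearMap.det φ = LinearMap.det φ' := by
  have h1 : φ' = (e : M →ₗ[k] M') ∘ₗ φ ∘ₗ (e.symm : M' →ₗ[k] M) := by
    apply LinearMap.ext
    intro y
    obtain ⟨x, rfl⟩ := e.surjective y
    simp only [LinearMap.comp_apply, LinearEquiv.coe_coe, LinearEquiv.symm_apply_apply]
    exact (h x).symm
  rw [h1, LinearMap.det_conj]

theorem kdet_congr {M M' : Type u} [AddCommGroup M] [Module R M] [AddCommGroup M'] [Module R M']
    (hM : Module.IsTorsionBySet R M (𝔪 : Set R)) (hM' : Module.IsTorsionBySet R M' (𝔪 : Set R))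
    (e : M ≃ₗ[R] M') (φ : M →ₗ[R] M) (φ' : M' →ₗ[R] M') (h : ∀ x, e (φ x) = φ' (e x)) :
    kdet 𝔪 hM φ = kdet 𝔪 hM' φ' := by
  letI i1 := hM.module
  letI i2 := hM'.module
  haveI t1 : IsScalarTower R (R ⧸ 𝔪) M := hM.isScalarTower
  haveI t2 : IsScalarTower R (R ⧸ 𝔪) M' := hM'.isScalarTower
  have hs := algebraMap_quot_surjective 𝔪
  exact det_congr_aux (e.extendScalarsOfSurjective hs) (φ.extendScalarsOfSurjective hs)
    (φ'.extendScalarsOfSurjective hs) (fun x => h x)

theorem kdet_eq_det {M : Type u} [AddCommGroup M] [Module R M] [inst : Module (R ⧸ 𝔪) M]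
    [IsScalarTower R (R ⧸ 𝔪) M] (hM : Module.IsTorsionBySet R M (𝔪 : Set R)) (φ : M →ₗ[R] M)
    (φ' : M →ₗ[R ⧸ 𝔪] M) (h : ∀ x, φ x = φ' x) : kdet 𝔪 hM φ = LinearMap.det φ' := by
  have hinst : hM.module = inst := by
    apply Module.ext'
    intro c m
    obtain ⟨r, rfl⟩ := Ideal.Quotient.mk_surjective c
    exact (hM.mk_smul r m).trans (algebraMap_smul (R ⧸ 𝔪) r m).symm
  subst hinst
  unfold kdet
  congr 1
  exact DFunLike.ext _ _ (fun x => h x)

theorem det_exact_aux {k : Type u} [Field k] {N M Q : Type u} [AddCommGroup N] [Module k N]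
    [AddCommGroup M] [Module k M] [AddCommGroup Q] [Module k Q]
    [Module.Finite k N] [Module.Finite k Q]
    (f : N →ₗ[k] M) (g : M →ₗ[k] Q) (hf : Injective f) (hg : Surjective g) (hfg : Exact f g)
    (φN : N →ₗ[k] N) (φM : M →ₗ[k] M) (φQ : Q →ₗ[k] Q)
    (h1 : ∀ n, f (φN n) = φM (f n)) (h2 : ∀ m, g (φM m) = φQ (g m)) :
    Module.Finite k M ∧ LinearMap.det φM = LinearMap.det φN * LinearMap.det φQ := by
  have hW : LinearMap.range f = LinearMap.ker g := (LinearMap.exact_iff.mp hfg).symm
  let eN : N ≃ₗ[k] LinearMap.ker g := (LinearEquiv.ofInjective f hf).trans (LinearEquiv.ofEq _ _ hW)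
  let eQ : (M ⧸ LinearMap.ker g) ≃ₗ[k] Q := g.quotKerEquivOfSurjective hg
  haveI : Module.Finite k (LinearMap.ker g) := Module.Finite.equiv eN
  haveI : Module.Finite k (M ⧸ LinearMap.ker g) := Module.Finite.equiv eQ.symm
  haveI : Module.Finite k M := Module.Finite.of_submodule_quotient (LinearMap.ker g)
  refine ⟨inferInstance, ?_⟩
  have he : LinearMap.ker g ≤ (LinearMap.ker g).comap φM := by
    intro m hm
    rw [Submodule.mem_comap, LinearMap.mem_ker, h2, LinearMap.mem_ker.mp hm, map_zero]
  rw [LinearMap.det_eq_det_mul_det (LinearMap.ker g) φM he]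
  congr 1
  · have h3 : φM.restrict he = (eN : N →ₗ[k] LinearMap.ker g) ∘ₗ φN ∘ₗ
        (eN.symm : LinearMap.ker g →ₗ[k] N) := by
      apply LinearMap.ext
      intro w
      obtain ⟨n, rfl⟩ := eN.surjective w
      apply Subtype.ext
      simp only [LinearMap.comp_apply, LinearEquiv.coe_coe, LinearEquiv.symm_apply_apply,
        LinearMap.coe_restrict_apply]
      exact (h1 n).symm
    rw [h3, LinearMap.det_conj]
  · have h3 : (LinearMap.ker g).mapQ (LinearMap.ker g) φM he =
        (eQ.symm : Q →ₗ[k] M ⧸ LinearMap.ker g) ∘ₗ φQ ∘ₗ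
          (eQ : (M ⧸ LinearMap.ker g) →ₗ[k] Q) := by
      apply LinearMap.ext
      intro z
      obtain ⟨m, rfl⟩ := Submodule.Quotient.mk_surjective _ z
      apply eQ.injective
      simp only [LinearMap.comp_apply, LinearEquiv.coe_coe, LinearEquiv.apply_symm_apply,
        Submodule.mapQ_apply]
      exact h2 m
    rw [h3]
    exact LinearMap.det_conj φQ eQ.symm

theorem kdet_exact [𝔪.IsMaximal] {N M Q : Type u} [AddCommGroup N] [Module R N]
    [AddCommGroup M] [Module R M] [AddCommGroup Q] [Module R Q]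
    (hN : Module.IsTorsionBySet R N (𝔪 : Set R)) (hM : Module.IsTorsionBySet R M (𝔪 : Set R))
    (hQ : Module.IsTorsionBySet R Q (𝔪 : Set R))
    [Module.Finite R N] [Module.Finite R Q]
    (f : N →ₗ[R] M) (g : M →ₗ[R] Q) (hf : Injective f) (hg : Surjective g) (hfg : Exact f g)
    (φN : N →ₗ[R] N) (φM : M →ₗ[R] M) (φQ : Q →ₗ[R] Q)
    (h1 : ∀ n, f (φN n) = φM (f n)) (h2 : ∀ m, g (φM m) = φQ (g m)) :
    Module.Finite R M ∧ kdet 𝔪 hM φM = kdet 𝔪 hN φN * kdet 𝔪 hQ φQ := by
  letI := Ideal.Quotient.field 𝔪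
  letI iN := hN.module
  letI iM := hM.module
  letI iQ := hQ.module
  haveI tN : IsScalarTower R (R ⧸ 𝔪) N := hN.isScalarTower
  haveI tM : IsScalarTower R (R ⧸ 𝔪) M := hM.isScalarTower
  haveI tQ : IsScalarTower R (R ⧸ 𝔪) Q := hQ.isScalarTower
  have hs := algebraMap_quot_surjective 𝔪
  haveI : Module.Finite (R ⧸ 𝔪) N := Module.Finite.of_restrictScalars_finite R _ _
  haveI : Module.Finite (R ⧸ 𝔪) Q := Module.Finite.of_restrictScalars_finite R _ _
  obtain ⟨hfin, hdet⟩ := det_exact_aux (f.extendScalarsOfSurjective hs)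
    (g.extendScalarsOfSurjective hs) hf hg hfg
    (φN.extendScalarsOfSurjective hs) (φM.extendScalarsOfSurjective hs)
    (φQ.extendScalarsOfSurjective hs) (fun n => h1 n) (fun m => h2 m)
  refine ⟨?_, hdet⟩
  haveI := hfin
  exact Module.Finite.trans (R ⧸ 𝔪) M

end KDet

section Prod

variable {R : Type u} [CommRing R] (𝔪 : Ideal R)
  (S : Type u) [CommRing S] [Algebra R S]

/-- Multiplication by `x : S` as an `R`-linear endomorphism. -/
noncomputable abbrev lsmulR (x : S) (M : Type u) [AddCommGroup M] [Module S M] [Module R M]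
    [IsScalarTower R S M] : M →ₗ[R] M :=
  (LinearMap.lsmul S M x).restrictScalars R

theorem torsion_submodule {M : Type u} [AddCommGroup M] [Module S M] [Module R M]
    [IsScalarTower R S M] (hM : Module.IsTorsionBySet R M (𝔪 : Set R)) (N : Submodule S M) :
    Module.IsTorsionBySet R N (𝔪 : Set R) := by
  intro n a
  apply Subtype.ext
  show (a : R) • (n : M) = 0
  exact @hM (n : M) a

omit [Algebra R S] in
theorem torsion_of_surjective {M Q : Type u} [AddCommGroup M] [Module R M] [AddCommGroup Q]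
    [Module R Q] (hM : Module.IsTorsionBySet R M (𝔪 : Set R)) (g : M →ₗ[R] Q)
    (hg : Surjective g) : Module.IsTorsionBySet R Q (𝔪 : Set R) := by
  intro q a
  obtain ⟨m, rfl⟩ := hg q
  rw [← map_smul, @hM m a, map_zero]

variable [𝔪.IsMaximal] [Fintype (MaximalSpectrum S)]

/-- The determinant formula. -/
theorem kdet_eq_prod (x : S) (ν : MaximalSpectrum S → R ⧸ 𝔪)
    (hν : ∀ (n : MaximalSpectrum S)
      (h : Module.IsTorsionBySet R (S ⧸ n.asIdeal) (𝔪 : Set R)),
      Module.Finite R (S ⧸ n.asIdeal) ∧ kdet 𝔪 h (lsmulR S x (S ⧸ n.asIdeal)) = ν n)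
    {M : Type u} [AddCommGroup M] [Module S M] (hM : IsFiniteLength S M) :
    ∀ [Module R M] [IsScalarTower R S M] (h : Module.IsTorsionBySet R M (𝔪 : Set R)),
      Module.Finite R M ∧
      (∀ n : MaximalSpectrum S, Module.length (Localization.AtPrime n.asIdeal)
          (LocalizedModule n.asIdeal.primeCompl M) ≠ ⊤) ∧
      kdet 𝔪 h (lsmulR S x M) =
        ∏ n : MaximalSpectrum S, ν n ^
          (Module.length (Localization.AtPrime n.asIdeal)
            (LocalizedModule n.asIdeal.primeCompl M)).toNat := by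
  classical
  induction hM with
  | @of_subsingleton M _ _ _ =>
    intro _ _ h
    have hz : ∀ n : MaximalSpectrum S, Module.length (Localization.AtPrime n.asIdeal)
          (LocalizedModule n.asIdeal.primeCompl M) = 0 := by
      intro n
      haveI : Subsingleton (LocalizedModule n.asIdeal.primeCompl M) := by
        rw [LocalizedModule.subsingleton_iff]
        intro m
        exact ⟨1, Submonoid.one_mem _, Subsingleton.elim _ _⟩
      exact Module.length_eq_zero
    refine ⟨inferInstance, fun n => by rw [hz n]; exact ENat.zero_ne_top, ?_⟩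
    rw [kdet_of_subsingleton]
    symm
    apply Finset.prod_eq_one
    intro n _
    rw [hz n, ENat.toNat_zero, pow_zero]
  | @of_simple_quotient M _ _ N hsimple hN ih =>
    intro _ _ h
    have hN' : Module.IsTorsionBySet R N (𝔪 : Set R) := torsion_submodule 𝔪 S h N
    obtain ⟨hfinN, hneN, hdetN⟩ := ih hN'
    obtain ⟨n₀, hn₀, ⟨e⟩⟩ := isSimpleModule_iff_quot_maximal.mp hsimple
    have hloc : ∀ n : MaximalSpectrum S,
        Module.length (Localization.AtPrime n.asIdeal) (LocalizedModule n.asIdeal.primeCompl M) =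
        Module.length (Localization.AtPrime n.asIdeal) (LocalizedModule n.asIdeal.primeCompl N) +
        Module.length (Localization.AtPrime n.asIdeal)
          (LocalizedModule n.asIdeal.primeCompl (M ⧸ N)) := fun n =>
      OD.length_localized_additive n.asIdeal N.subtype N.mkQ N.injective_subtype
        N.mkQ_surjective (LinearMap.exact_subtype_mkQ N)
    have hTloc : ∀ n : MaximalSpectrum S,
        Module.length (Localization.AtPrime n.asIdeal)
          (LocalizedModule n.asIdeal.primeCompl (M ⧸ N)) =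
          if n.asIdeal = n₀ then 1 else 0 := by
      intro n
      rw [OD.length_localized_congr n.asIdeal e]
      split_ifs with h'
      · subst h'
        exact OD.length_localized_quotient_self n.asIdeal
      · apply OD.length_localized_of_not_le
        intro hle
        exact h' (hn₀.eq_of_le n.isMaximal.ne_top hle).symm
    let g : M →ₗ[R] (S ⧸ n₀) := ((e : (M ⧸ N) →ₗ[S] S ⧸ n₀) ∘ₗ N.mkQ).restrictScalars R
    have hg : Surjective g := e.surjective.comp N.mkQ_surjective
    have hQ : Module.IsTorsionBySet R (S ⧸ n₀) (𝔪 : Set R) := torsion_of_surjective 𝔪 h g hg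
    obtain ⟨hfinQ, hdetQ⟩ := hν ⟨n₀, hn₀⟩ hQ
    have hdetQ' : kdet 𝔪 hQ (lsmulR S x (S ⧸ n₀)) = ν ⟨n₀, hn₀⟩ := hdetQ
    let f : N →ₗ[R] M := N.subtype.restrictScalars R
    have hf : Injective f := N.injective_subtype
    have hfg : Exact f g := by
      intro m
      constructor
      · intro hm
        have h0 : N.mkQ m = 0 := e.injective (by rw [map_zero]; exact hm)
        have hmN : m ∈ N := (Submodule.Quotient.mk_eq_zero N).mp h0
        exact ⟨⟨m, hmN⟩, rfl⟩
      · rintro ⟨n, rfl⟩
        show e (N.mkQ (n : M)) = 0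
        rw [Submodule.mkQ_apply, (Submodule.Quotient.mk_eq_zero N).mpr n.2, map_zero]
    haveI : Module.Finite R N := hfinN
    haveI : Module.Finite R (S ⧸ n₀) := hfinQ
    obtain ⟨hfinM, hdetM⟩ := kdet_exact 𝔪 hN' h hQ f g hf hg hfg
      (lsmulR S x N) (lsmulR S x M) (lsmulR S x (S ⧸ n₀)) (fun n => rfl)
      (fun m => by
        show e (N.mkQ (x • m)) = x • e (N.mkQ m)
        rw [map_smul, map_smul])
    have hite : ∀ n : MaximalSpectrum S,
        ((if n.asIdeal = n₀ then 1 else 0 : ℕ∞)) ≠ ⊤ := by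
      intro n
      split_ifs
      · exact ENat.one_ne_top
      · exact ENat.zero_ne_top
    refine ⟨hfinM, fun n => ?_, ?_⟩
    · rw [hloc n, hTloc n]
      exact WithTop.add_ne_top.mpr ⟨hneN n, hite n⟩
    · rw [hdetM, hdetN, hdetQ']
      have hexp : ∀ n : MaximalSpectrum S,
          (Module.length (Localization.AtPrime n.asIdeal)
            (LocalizedModule n.asIdeal.primeCompl M)).toNat =
          (Module.length (Localization.AtPrime n.asIdeal)
            (LocalizedModule n.asIdeal.primeCompl N)).toNat +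
            (if n.asIdeal = n₀ then 1 else 0) := by
        intro n
        rw [hloc n, hTloc n, ENat.toNat_add (hneN n) (hite n)]
        split_ifs <;> simp
      simp_rw [hexp, pow_add, Finset.prod_mul_distrib]
      congr 1
      rw [Finset.prod_eq_single (⟨n₀, hn₀⟩ : MaximalSpectrum S)]
      · simp
      · intro n _ hne
        have : n.asIdeal ≠ n₀ := fun h => hne (MaximalSpectrum.ext h)
        simp [this]
      · intro h
        exact absurd (Finset.mem_univ _) h

end Prod

end Groth.Agent.Helper8.FB
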