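import Mathlib
import Groth.Agent.Lib.Helper8.FBa

/-!
# Modules free over an Artinian quotient of a local ring

Let `R` be a local ring, `I ≤ 𝔪` an ideal with `R ⧸ I` of finite length `m`, `S` an `R`-algebra and
`X` an `S`-module with an `R`-linear isomorphism `X ≃ (R ⧸ I)^d`.  Then for every prime `𝔫` of `S`,
`length X_𝔫 = m * length (X ⧸ 𝔪 X)_𝔫`.  If `y ∈ S` acts on `X` through a matrix `μ` over `R`, then
`∏_𝔫 ν_𝔫 ^ {length X_𝔫} = (det μ mod 𝔪)^m`, where `ν_𝔫` is the determinant of `y` on `S ⧸ 𝔫`.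
-/

set_option autoImplicit false
universe u

namespace Groth.Agent.Helper8.FB

open Function IsLocalRing

section Coord

variable {R : Type u} [CommRing R] (I : Ideal R)
  (S : Type u) [CommRing S] [Algebra R S]
  {X : Type u} [AddCommGroup X] [Module S X] [Module R X] [IsScalarTower R S X]
  {d : ℕ} (ε : X ≃ₗ[R] (Fin d → R ⧸ I))

theorem mk_mul_eq_smul (r : R) (p : R ⧸ I) : Ideal.Quotient.mk I r * p = r • p := by
  rw [Algebra.smul_def]
  rfl

theorem mul_mem_of_mem (P : Submodule R (R ⧸ I)) (c : R ⧸ I) {p : R ⧸ I} (hp : p ∈ P) :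
    c * p ∈ P := by
  obtain ⟨r, rfl⟩ := Ideal.Quotient.mk_surjective c
  rw [mk_mul_eq_smul]
  exact P.smul_mem r hp

/-- The standard generators. -/
noncomputable def uvec (i : Fin d) : X := ε.symm (Pi.single i 1)

theorem eq_sum (x : X) (c : Fin d → R) (hc : ∀ i, ε x i = Ideal.Quotient.mk I (c i)) :
    x = ∑ i, c i • uvec I ε i := by
  apply ε.injective
  rw [map_sum]
  funext j
  rw [Finset.sum_apply, Finset.sum_eq_single j]
  · simp only [map_smul, uvec, LinearEquiv.apply_symm_apply, Pi.smul_apply, Pi.single_eq_same]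
    rw [hc j, Algebra.smul_def, mul_one]
    rfl
  · intro i _ hij
    simp only [map_smul, uvec, LinearEquiv.apply_symm_apply, Pi.smul_apply]
    rw [Pi.single_eq_of_ne hij.symm, smul_zero]
  · intro h
    exact absurd (Finset.mem_univ _) h

/-- The `S`-submodule of vectors all of whose coordinates lie in `P`. -/
def XP (P : Submodule R (R ⧸ I)) : Submodule S X where
  carrier := {x | ∀ i, ε x i ∈ P}
  add_mem' := by
    intro a b ha hb i
    rw [map_add]
    exact P.add_mem (ha i) (hb i)
  zero_mem' := by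
    intro i
    rw [map_zero]
    exact P.zero_mem
  smul_mem' := by
    intro s x hx k
    choose c hc using fun i => Ideal.Quotient.mk_surjective (ε x i)
    have hx' : x = ∑ i, c i • uvec I ε i := eq_sum I ε x c (fun i => (hc i).symm)
    have hsx : s • x = ∑ i, c i • (s • uvec I ε i) := by
      conv_lhs => rw [hx']
      rw [Finset.smul_sum]
      exact Finset.sum_congr rfl fun i _ => smul_comm s (c i) _
    rw [hsx, map_sum, Finset.sum_apply]
    refine P.sum_mem fun i _ => ?_
    rw [map_smul, Pi.smul_apply, ← mk_mul_eq_smul, mul_comm]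
    exact mul_mem_of_mem I P _ (by rw [hc i]; exact hx i)

theorem mem_XP {P : Submodule R (R ⧸ I)} {x : X} : x ∈ XP I S ε P ↔ ∀ i, ε x i ∈ P := Iff.rfl

theorem XP_mono {P P' : Submodule R (R ⧸ I)} (h : P ≤ P') : XP I S ε P ≤ XP I S ε P' :=
  fun _ hx i => h (hx i)

theorem XP_bot : XP I S ε ⊥ = ⊥ := by
  rw [eq_bot_iff]
  intro x hx
  rw [Submodule.mem_bot]
  apply ε.injective
  rw [map_zero]
  funext i
  exact (Submodule.mem_bot R).mp (hx i)

theorem XP_top : XP I S ε ⊤ = ⊤ := by
  rw [eq_top_iff]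
  intro x _ i
  exact Submodule.mem_top

variable [IsLocalRing R]

/-- The image of the maximal ideal in `R ⧸ I`. -/
def Mbar : Submodule R (R ⧸ I) :=
  Submodule.map (Algebra.linearMap R (R ⧸ I)) (maximalIdeal R)

theorem mk_mem_Mbar (hI : I ≤ maximalIdeal R) (r : R) :
    Ideal.Quotient.mk I r ∈ Mbar I ↔ r ∈ maximalIdeal R := by
  constructor
  · rintro ⟨r', hr', h⟩
    have h1 : r' - r ∈ I := Ideal.Quotient.eq.mp h
    have h2 : r = r' - (r' - r) := by ring
    rw [h2]
    exact (maximalIdeal R).sub_mem hr' (hI h1)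
  · intro hr
    exact ⟨r, hr, rfl⟩

theorem smul_mem_of_covBy {P P' : Submodule R (R ⧸ I)} (h : P ⋖ P') {r : R}
    (hr : r ∈ maximalIdeal R) {p' : R ⧸ I} (hp' : p' ∈ P') : r • p' ∈ P := by
  by_contra hne
  have hle1 : P ≤ P ⊔ Submodule.span R {r • p'} := le_sup_left
  have hle2 : P ⊔ Submodule.span R {r • p'} ≤ P' :=
    sup_le h.le ((Submodule.span_singleton_le_iff_mem _ _).mpr (P'.smul_mem r hp'))
  rcases h.eq_or_eq hle1 hle2 with h1 | h1
  · apply hne
    rw [← h1]
    exact (le_sup_right : Submodule.span R {r • p'} ≤ _) (Submodule.mem_span_singleton_self _)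
  · have hp'' : p' ∈ P ⊔ Submodule.span R {r • p'} := h1 ▸ hp'
    obtain ⟨y, hy, z, hz, hyz⟩ := Submodule.mem_sup.mp hp''
    obtain ⟨a, rfl⟩ := Submodule.mem_span_singleton.mp hz
    have hu : IsUnit (1 - a * r) :=
      IsLocalRing.isUnit_one_sub_self_of_mem_nonunits _
        ((IsLocalRing.mem_maximalIdeal _).mp ((maximalIdeal R).mul_mem_left a hr))
    have hy' : (1 - a * r) • p' = y := by
      rw [sub_smul, one_smul, mul_smul]
      exact (eq_sub_of_add_eq hyz).symm
    obtain ⟨u, hu'⟩ := hu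
    have hp : p' = (↑u⁻¹ : R) • y := by
      rw [← hy', ← hu', smul_smul, Units.inv_mul, one_smul]
    apply hne
    rw [hp]
    exact P.smul_mem _ (P.smul_mem _ hy)

theorem exists_step_equiv (hI : I ≤ maximalIdeal R) {P P' : Submodule R (R ⧸ I)}
    (h : P ⋖ P') :
    Nonempty ((X ⧸ XP I S ε (Mbar I)) ≃ₗ[S]
      (↥(XP I S ε P') ⧸ (XP I S ε P).comap (XP I S ε P').subtype)) := by
  obtain ⟨p₀, hp₀', hp₀⟩ := SetLike.exists_of_lt h.lt
  obtain ⟨j, rfl⟩ := Ideal.Quotient.mk_surjective p₀
  have hsup : P ⊔ Submodule.span R {Ideal.Quotient.mk I j} = P' := by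
    have hle1 : P ≤ P ⊔ Submodule.span R {Ideal.Quotient.mk I j} := le_sup_left
    have hle2 : P ⊔ Submodule.span R {Ideal.Quotient.mk I j} ≤ P' :=
      sup_le h.le ((Submodule.span_singleton_le_iff_mem _ _).mpr hp₀')
    rcases h.eq_or_eq hle1 hle2 with h1 | h1
    · exfalso
      apply hp₀
      rw [← h1]
      exact (le_sup_right : Submodule.span R {Ideal.Quotient.mk I j} ≤ _)
        (Submodule.mem_span_singleton_self _)
    · exact h1
  have hkey : ∀ c : R ⧸ I, Ideal.Quotient.mk I j * c ∈ P ↔ c ∈ Mbar I := by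
    intro c
    obtain ⟨r, rfl⟩ := Ideal.Quotient.mk_surjective c
    rw [mk_mem_Mbar I hI, mul_comm, mk_mul_eq_smul]
    constructor
    · intro hmem
      by_contra hr
      have hu : IsUnit r := IsLocalRing.notMem_maximalIdeal.mp hr
      obtain ⟨u, rfl⟩ := hu
      apply hp₀
      have h3 : Ideal.Quotient.mk I j = (↑u⁻¹ : R) • ((u : R) • Ideal.Quotient.mk I j) := by
        rw [smul_smul, Units.inv_mul, one_smul]
      rw [h3]
      exact P.smul_mem _ hmem
    · intro hr
      exact smul_mem_of_covBy I h hr hp₀'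
  have hjmem : ∀ x : X, j • x ∈ XP I S ε P' := by
    intro x i
    rw [map_smul, Pi.smul_apply, ← mk_mul_eq_smul, mul_comm]
    exact mul_mem_of_mem I P' _ hp₀'
  let jmul : X →ₗ[S] X :=
    { toFun := fun x => j • x
      map_add' := smul_add j
      map_smul' := fun s x => smul_comm j s x }
  let h₀ : X →ₗ[S] ↥(XP I S ε P') := LinearMap.codRestrict (XP I S ε P') jmul hjmem
  let W : Submodule S ↥(XP I S ε P') := (XP I S ε P).comap (XP I S ε P').subtype
  let hh : X →ₗ[S] (↥(XP I S ε P') ⧸ W) := W.mkQ ∘ₗ h₀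
  have hsurj : Surjective hh := by
    intro z'
    obtain ⟨⟨z, hz⟩, rfl⟩ := Submodule.Quotient.mk_surjective W z'
    have hdec : ∀ i, ∃ r : R, ε z i - r • Ideal.Quotient.mk I j ∈ P := by
      intro i
      have h4 : ε z i ∈ P ⊔ Submodule.span R {Ideal.Quotient.mk I j} := hsup ▸ hz i
      obtain ⟨y, hy, w, hw, hyw⟩ := Submodule.mem_sup.mp h4
      obtain ⟨r, rfl⟩ := Submodule.mem_span_singleton.mp hw
      refine ⟨r, ?_⟩
      rw [← hyw, add_sub_cancel_right]
      exact hy
    choose r hr using hdec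
    refine ⟨ε.symm (fun i => Ideal.Quotient.mk I (r i)), ?_⟩
    show Submodule.Quotient.mk (h₀ _) = Submodule.Quotient.mk _
    rw [Submodule.Quotient.eq]
    show (j • ε.symm (fun i => Ideal.Quotient.mk I (r i)) - z : X) ∈ XP I S ε P
    intro i
    rw [map_sub, map_smul, LinearEquiv.apply_symm_apply, Pi.sub_apply, Pi.smul_apply]
    have h5 : j • Ideal.Quotient.mk I (r i) - ε z i =
        -(ε z i - r i • Ideal.Quotient.mk I j) := by
      rw [neg_sub]
      congr 1
      rw [← mk_mul_eq_smul, ← mk_mul_eq_smul, mul_comm]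
    rw [h5]
    exact P.neg_mem (hr i)
  have hker : LinearMap.ker hh = XP I S ε (Mbar I) := by
    ext x
    rw [LinearMap.mem_ker]
    show Submodule.Quotient.mk (h₀ x) = 0 ↔ _
    rw [Submodule.Quotient.mk_eq_zero]
    show (j • x ∈ XP I S ε P) ↔ _
    constructor
    · intro hx i
      have h6 := hx i
      rw [map_smul, Pi.smul_apply, ← mk_mul_eq_smul] at h6
      exact (hkey _).mp h6
    · intro hx i
      rw [map_smul, Pi.smul_apply, ← mk_mul_eq_smul]
      exact (hkey _).mpr (hx i)
  exact ⟨(Submodule.quotEquivOfEq _ _ hker.symm).trans (hh.quotKerEquivOfSurjective hsurj)⟩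

theorem step_length (hI : I ≤ maximalIdeal R) {P P' : Submodule R (R ⧸ I)} (h : P ⋖ P')
    (𝔫 : Ideal S) [𝔫.IsPrime] :
    Module.length (Localization.AtPrime 𝔫) (LocalizedModule 𝔫.primeCompl ↥(XP I S ε P')) =
      Module.length (Localization.AtPrime 𝔫) (LocalizedModule 𝔫.primeCompl ↥(XP I S ε P)) +
      Module.length (Localization.AtPrime 𝔫)
        (LocalizedModule 𝔫.primeCompl (X ⧸ XP I S ε (Mbar I))) := by
  obtain ⟨e⟩ := exists_step_equiv I S ε hI h
  have hle : XP I S ε P ≤ XP I S ε P' := XP_mono I S ε h.le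
  rw [OD.length_localized_congr 𝔫 e]
  exact OD.length_localized_additive 𝔫 (Submodule.inclusion hle)
    (Submodule.mkQ ((XP I S ε P).comap (XP I S ε P').subtype))
    (Submodule.inclusion_injective hle) (Submodule.mkQ_surjective _)
    (by rw [LinearMap.exact_iff, Submodule.ker_mkQ, Submodule.range_inclusion])

theorem length_eq_mul (hI : I ≤ maximalIdeal R) (hfl : IsFiniteLength R (R ⧸ I))
    (𝔫 : Ideal S) [𝔫.IsPrime] :
    Module.length (Localization.AtPrime 𝔫) (LocalizedModule 𝔫.primeCompl X) =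
      Module.length R (R ⧸ I) *
        Module.length (Localization.AtPrime 𝔫)
          (LocalizedModule 𝔫.primeCompl (X ⧸ XP I S ε (Mbar I))) := by
  obtain ⟨s, hbot, htop⟩ := isFiniteLength_iff_exists_compositionSeries.mp hfl
  rw [← Module.length_compositionSeries s hbot htop]
  have key : ∀ k : Fin (s.length + 1),
      Module.length (Localization.AtPrime 𝔫)
          (LocalizedModule 𝔫.primeCompl ↥(XP I S ε (s k))) =
        ((k : ℕ) : ℕ∞) * Module.length (Localization.AtPrime 𝔫)
          (LocalizedModule 𝔫.primeCompl (X ⧸ XP I S ε (Mbar I))) := by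
    intro k
    induction k using Fin.induction with
    | zero =>
      have h0 : s 0 = ⊥ := hbot
      rw [h0, XP_bot]
      haveI : Subsingleton (LocalizedModule 𝔫.primeCompl ↥(⊥ : Submodule S X)) := by
        rw [LocalizedModule.subsingleton_iff]
        intro m
        exact ⟨1, Submonoid.one_mem _, Subsingleton.elim _ _⟩
      have hz : Module.length (Localization.AtPrime 𝔫)
          (LocalizedModule 𝔫.primeCompl ↥(⊥ : Submodule S X)) = 0 := Module.length_eq_zero
      rw [hz]
      simp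
    | succ i hi =>
      have hcov : s (Fin.castSucc i) ⋖ s i.succ := s.step i
      rw [step_length I S ε hI hcov 𝔫, hi]
      simp [add_mul]
  have hlast : s (Fin.last s.length) = ⊤ := htop
  have h1 := key (Fin.last s.length)
  rw [hlast, XP_top, Fin.val_last] at h1
  rw [← h1]
  exact (OD.length_localized_congr 𝔫 (Submodule.topEquiv (R := S) (M := X))).symm

end Coord

section Main2

variable {R : Type u} [CommRing R] [IsLocalRing R] (I : Ideal R)
  (S : Type u) [CommRing S] [Algebra R S] [Fintype (MaximalSpectrum S)]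
  {X : Type u} [AddCommGroup X] [Module S X] [Module R X] [IsScalarTower R S X]
  {d : ℕ} (ε : X ≃ₗ[R] (Fin d → R ⧸ I))

theorem main2 (hI : I ≤ maximalIdeal R) (hfl : IsFiniteLength R (R ⧸ I))
    (hX : IsFiniteLength S X) (y : S) (μ : Matrix (Fin d) (Fin d) R)
    (hμ : ∀ x i, ε (y • x) i = ∑ j, μ i j • ε x j)
    (ν : MaximalSpectrum S → R ⧸ maximalIdeal R)
    (hν : ∀ (n : MaximalSpectrum S)
      (h : Module.IsTorsionBySet R (S ⧸ n.asIdeal) (maximalIdeal R : Set R)),
      Module.Finite R (S ⧸ n.asIdeal) ∧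
        kdet (maximalIdeal R) h (lsmulR S y (S ⧸ n.asIdeal)) = ν n) :
    ∏ n : MaximalSpectrum S, ν n ^
        (Module.length (Localization.AtPrime n.asIdeal)
          (LocalizedModule n.asIdeal.primeCompl X)).toNat =
      (Ideal.Quotient.mk (maximalIdeal R) μ.det) ^ (Module.length R (R ⧸ I)).toNat := by
  classical
  have hYfl : IsFiniteLength S (X ⧸ XP I S ε (Mbar I)) := by
    rw [isFiniteLength_iff_isNoetherian_isArtinian] at hX ⊢
    obtain ⟨h1, h2⟩ := hX
    exact ⟨inferInstance, inferInstance⟩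
  have hYtors : Module.IsTorsionBySet R (X ⧸ XP I S ε (Mbar I)) (maximalIdeal R : Set R) := by
    intro z a
    obtain ⟨x, rfl⟩ := Submodule.Quotient.mk_surjective _ z
    rw [← Submodule.Quotient.mk_smul, Submodule.Quotient.mk_eq_zero]
    intro i
    rw [map_smul, Pi.smul_apply, ← mk_mul_eq_smul, mul_comm]
    exact mul_mem_of_mem I (Mbar I) _ ((mk_mem_Mbar I hI _).mpr a.2)
  obtain ⟨-, hneY, hdetY⟩ := kdet_eq_prod (maximalIdeal R) S y ν hν hYfl hYtors
  have hexp : ∀ n : MaximalSpectrum S,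
      (Module.length (Localization.AtPrime n.asIdeal)
        (LocalizedModule n.asIdeal.primeCompl X)).toNat =
      (Module.length (Localization.AtPrime n.asIdeal)
        (LocalizedModule n.asIdeal.primeCompl (X ⧸ XP I S ε (Mbar I)))).toNat *
        (Module.length R (R ⧸ I)).toNat := by
    intro n
    rw [length_eq_mul I S ε hI hfl n.asIdeal, ENat.toNat_mul, mul_comm]
  simp_rw [hexp, pow_mul]
  rw [Finset.prod_pow, ← hdetY]
  congr 1
  -- the determinant on `X ⧸ 𝔪 X`
  let fac : (R ⧸ I) →ₗ[R] (R ⧸ maximalIdeal R) := (Ideal.Quotient.factorₐ R hI).toLinearMap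
  have hfac : ∀ r : R, fac (Ideal.Quotient.mk I r) = Ideal.Quotient.mk (maximalIdeal R) r :=
    fun r => Ideal.Quotient.factorₐ_apply_mk R hI r
  let g : X →ₗ[R] (Fin d → R ⧸ maximalIdeal R) := (fac.compLeft (Fin d)) ∘ₗ ε.toLinearMap
  have hg_apply : ∀ x i, g x i = fac (ε x i) := fun x i => rfl
  have hgsurj : Surjective g := by
    intro v
    choose r hr using fun i => Ideal.Quotient.mk_surjective (v i)
    refine ⟨ε.symm (fun i => Ideal.Quotient.mk I (r i)), ?_⟩
    funext i
    rw [hg_apply, LinearEquiv.apply_symm_apply, hfac, hr i]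
  have hgker : LinearMap.ker g = (XP I S ε (Mbar I)).restrictScalars R := by
    ext x
    rw [LinearMap.mem_ker, Submodule.restrictScalars_mem]
    constructor
    · intro hx i
      obtain ⟨r, hr⟩ := Ideal.Quotient.mk_surjective (ε x i)
      have h1 : g x i = 0 := by rw [hx]; rfl
      rw [hg_apply, ← hr, hfac, Ideal.Quotient.eq_zero_iff_mem] at h1
      rw [← hr]
      exact (mk_mem_Mbar I hI r).mpr h1
    · intro hx
      funext i
      obtain ⟨r, hr⟩ := Ideal.Quotient.mk_surjective (ε x i)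
      have h1 := hx i
      rw [← hr, mk_mem_Mbar I hI] at h1
      rw [hg_apply, ← hr, hfac]
      exact Ideal.Quotient.eq_zero_iff_mem.mpr h1
  let eY : (X ⧸ XP I S ε (Mbar I)) ≃ₗ[R] (Fin d → R ⧸ maximalIdeal R) :=
    ((Submodule.Quotient.restrictScalarsEquiv R (XP I S ε (Mbar I))).symm.trans
      (Submodule.quotEquivOfEq _ _ hgker.symm)).trans (g.quotKerEquivOfSurjective hgsurj)
  have heY : ∀ x : X, eY (Submodule.Quotient.mk x) = g x := fun x => rfl
  let μk : Matrix (Fin d) (Fin d) (R ⧸ maximalIdeal R) :=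
    μ.map (Ideal.Quotient.mk (maximalIdeal R))
  have hT : Module.IsTorsionBySet R (Fin d → R ⧸ maximalIdeal R) (maximalIdeal R : Set R) := by
    intro v a
    funext i
    rw [Pi.smul_apply, Pi.zero_apply, Algebra.smul_def, Ideal.Quotient.algebraMap_eq,
      Ideal.Quotient.eq_zero_iff_mem.mpr a.2, zero_mul]
  have hconj : ∀ z, eY ((lsmulR (R := R) S y (X ⧸ XP I S ε (Mbar I))) z) =
      ((Matrix.toLin' μk).restrictScalars R) (eY z) := by
    intro z
    obtain ⟨x, rfl⟩ := Submodule.Quotient.mk_surjective _ z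
    have h1 : (lsmulR (R := R) S y (X ⧸ XP I S ε (Mbar I))) (Submodule.Quotient.mk x) =
        Submodule.Quotient.mk (y • x) := rfl
    rw [h1, heY, heY]
    funext i
    show fac (ε (y • x) i) = ∑ j, μk i j * g x j
    rw [hμ x i, map_sum]
    refine Finset.sum_congr rfl fun j _ => ?_
    rw [map_smul, hg_apply, Algebra.smul_def]
    rfl
  rw [kdet_congr (maximalIdeal R) hYtors hT eY _ _ hconj,
    kdet_eq_det (maximalIdeal R) hT _ (Matrix.toLin' μk) (fun v => rfl),
    LinearMap.det_toLin']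
  exact (RingHom.map_det (Ideal.Quotient.mk (maximalIdeal R)) μ).symm

end Main2

end Groth.Agent.Helper8.FB
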