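import Mathlib
import Groth.Agent.Lib.Helper8.Tame1

/-!
# Coordinates on `(A' ⊗ B) ⧸ q (A' ⊗ B)`

For a local ring `A`, a finite `A`-algebra `B` with a maximal ideal `q` and an `A`-algebra `A'`,
the `A'`-module `(A' ⊗_A B) ⧸ q (A' ⊗_A B)` is free of rank `[κ(q) : κ]` over `A' ⧸ 𝔪_A A'`, and
`1 ⊗ b` acts through a matrix with entries in `A` whose determinant reduces to the norm of the
residue class of `b`.
-/

set_option autoImplicit false
universe u

namespace Groth.Agent.Helper8.FB

open Function IsLocalRing TensorProduct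

attribute [local instance] Groth.Agent.Helper8.Tame.isLocalHom_atPrime

section Coord1

variable (A : Type u) [CommRing A] [IsLocalRing A]
  (A' : Type u) [CommRing A'] [Algebra A A']
  (B : Type u) [CommRing B] [Algebra A B] [Module.Finite A B]
  (q : Ideal B) [hq : q.IsMaximal]

/-- The extension of `q` to `A' ⊗ B`. -/
abbrev Qext : Ideal (A' ⊗[A] B) :=
  q.map (Algebra.TensorProduct.includeRight : B →ₐ[A] A' ⊗[A] B)

/-- The residue degree of `q`. -/
noncomputable def dq : ℕ :=
  Module.finrank (ResidueField A) (ResidueField (Localization.AtPrime q))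

/-- A basis of the residue field of `q` over the residue field of `A`. -/
noncomputable def bs : Module.Basis (Fin (dq A B q)) (ResidueField A)
    (ResidueField (Localization.AtPrime q)) :=
  haveI : Module.Finite (ResidueField A) (ResidueField (Localization.AtPrime q)) :=
    Tame.finite_residueField A B q
  Module.finBasis (ResidueField A) (ResidueField (Localization.AtPrime q))

/-- Coordinates on `B ⧸ q`. -/
noncomputable def eL : (B ⧸ q) ≃ₗ[A] (Fin (dq A B q) → ResidueField A) :=
  (Tame.quotEquivResidue A B q).trans ((bs A B q).equivFun.restrictScalars A)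

theorem eL_mk (β : B) :
    eL A B q (Ideal.Quotient.mk q β) =
      ⇑((bs A B q).repr (residue _ (algebraMap B (Localization.AtPrime q) β))) := rfl

theorem eL_mul (b β : B) :
    eL A B q (Ideal.Quotient.mk q (b * β)) =
      (Algebra.leftMulMatrix (bs A B q)
        (residue _ (algebraMap B (Localization.AtPrime q) b))).mulVec
        (eL A B q (Ideal.Quotient.mk q β)) := by
  rw [eL_mk, eL_mk, Algebra.leftMulMatrix_mulVec_repr, map_mul, map_mul]

/-- The identification of `A' ⊗ κ` with `A' ⧸ 𝔪_A A'`. -/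
noncomputable def sigma : A' ⊗[A] (ResidueField A) ≃ₗ[A']
    A' ⧸ (maximalIdeal A).map (algebraMap A A') :=
  (Algebra.TensorProduct.quotIdealMapEquivTensorQuot A' (maximalIdeal A)).symm.toLinearEquiv

/-- The coordinates on `(A' ⊗ B) ⧸ q(A' ⊗ B)`. -/
noncomputable def epsQ : ((A' ⊗[A] B) ⧸ Qext A A' B q) ≃ₗ[A']
    (Fin (dq A B q) → A' ⧸ (maximalIdeal A).map (algebraMap A A')) :=
  (((Algebra.TensorProduct.tensorQuotientEquiv (R := A) A' B A' q).symm.toLinearEquiv.trans
    (TensorProduct.AlgebraTensorModule.congr (LinearEquiv.refl A' A') (eL A B q))).trans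
    (TensorProduct.piRight A A' A' (fun _ : Fin (dq A B q) => ResidueField A))).trans
    (LinearEquiv.piCongrRight (fun _ => sigma A A'))

theorem epsQ_mk_tmul (a' : A') (β : B) (i : Fin (dq A B q)) :
    epsQ A A' B q (Ideal.Quotient.mk _ (a' ⊗ₜ[A] β)) i =
      sigma A A' (a' ⊗ₜ[A] (eL A B q (Ideal.Quotient.mk q β) i)) := rfl

theorem epsQ_action (b : B) (mlift : Fin (dq A B q) → Fin (dq A B q) → A)
    (hm : ∀ i j, residue A (mlift i j) = Algebra.leftMulMatrix (bs A B q)
      (residue _ (algebraMap B (Localization.AtPrime q) b)) i j)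
    (x : (A' ⊗[A] B) ⧸ Qext A A' B q) (i : Fin (dq A B q)) :
    epsQ A A' B q ((1 ⊗ₜ[A] b : A' ⊗[A] B) • x) i =
      ∑ j, algebraMap A A' (mlift i j) • epsQ A A' B q x j := by
  obtain ⟨s, rfl⟩ := Ideal.Quotient.mk_surjective x
  have hsm : ((1 ⊗ₜ[A] b : A' ⊗[A] B)) • (Ideal.Quotient.mk (Qext A A' B q) s) =
      Ideal.Quotient.mk _ ((1 ⊗ₜ[A] b) * s) := rfl
  rw [hsm]
  clear hsm
  induction s using TensorProduct.induction_on with
  | zero =>
    simp only [mul_zero, map_zero, Pi.zero_apply, smul_zero, Finset.sum_const_zero]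
  | tmul a' β =>
    rw [Algebra.TensorProduct.tmul_mul_tmul, one_mul]
    simp only [epsQ_mk_tmul]
    rw [eL_mul]
    show sigma A A' (a' ⊗ₜ[A] (∑ j, Algebra.leftMulMatrix (bs A B q)
      (residue _ (algebraMap B (Localization.AtPrime q) b)) i j *
        eL A B q (Ideal.Quotient.mk q β) j)) = _
    rw [TensorProduct.tmul_sum, map_sum]
    refine Finset.sum_congr rfl fun j _ => ?_
    rw [← hm i j, ← IsLocalRing.ResidueField.algebraMap_eq, ← Algebra.smul_def,
      TensorProduct.tmul_smul, ← algebraMap_smul A' (mlift i j), map_smul]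
  | add s t hs ht =>
    have hL : epsQ A A' B q (Ideal.Quotient.mk _ ((1 ⊗ₜ[A] b) * (s + t))) i =
        epsQ A A' B q (Ideal.Quotient.mk _ ((1 ⊗ₜ[A] b) * s)) i +
          epsQ A A' B q (Ideal.Quotient.mk _ ((1 ⊗ₜ[A] b) * t)) i := by
      rw [mul_add, map_add, map_add, Pi.add_apply]
    have hR : ∀ j, epsQ A A' B q (Ideal.Quotient.mk _ (s + t)) j =
        epsQ A A' B q (Ideal.Quotient.mk _ s) j + epsQ A A' B q (Ideal.Quotient.mk _ t) j := by
      intro j
      rw [map_add, map_add, Pi.add_apply]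
    rw [hL, hs, ht, ← Finset.sum_add_distrib]
    refine Finset.sum_congr rfl fun j _ => ?_
    rw [hR, smul_add]

theorem exists_coord [IsLocalRing A'] [IsLocalHom (algebraMap A A')] (b : B) :
    ∃ (d : ℕ) (ε : ((A' ⊗[A] B) ⧸ Qext A A' B q) ≃ₗ[A']
        (Fin d → A' ⧸ (maximalIdeal A).map (algebraMap A A')))
      (μ : Matrix (Fin d) (Fin d) A'),
      (∀ x i, ε ((1 ⊗ₜ[A] b : A' ⊗[A] B) • x) i = ∑ j, μ i j • ε x j) ∧
      residue A' μ.det = ResidueField.map (algebraMap A A')
        (Algebra.norm (ResidueField A)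
          (residue (Localization.AtPrime q) (algebraMap B (Localization.AtPrime q) b))) := by
  classical
  choose mlift hm using fun i j => residue_surjective (Algebra.leftMulMatrix (bs A B q)
    (residue (Localization.AtPrime q) (algebraMap B (Localization.AtPrime q) b)) i j)
  refine ⟨dq A B q, epsQ A A' B q, Matrix.of (fun i j => algebraMap A A' (mlift i j)), ?_, ?_⟩
  · intro x i
    exact epsQ_action A A' B q b mlift hm x i
  · have h1 : (Matrix.of (fun i j => algebraMap A A' (mlift i j))) =
        (algebraMap A A').mapMatrix (Matrix.of mlift) := rfl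
    rw [h1, ← RingHom.map_det, ← ResidueField.map_residue]
    congr 1
    rw [Algebra.norm_eq_matrix_det (bs A B q), RingHom.map_det]
    congr 1
    ext i j
    exact hm i j

theorem isFiniteLength_quot_Qext
    (hfl : IsFiniteLength A' (A' ⧸ (maximalIdeal A).map (algebraMap A A'))) :
    IsFiniteLength (A' ⊗[A] B) ((A' ⊗[A] B) ⧸ Qext A A' B q) := by
  rw [isFiniteLength_iff_isNoetherian_isArtinian] at hfl ⊢
  obtain ⟨h1, h2⟩ := hfl
  have hN : IsNoetherian A' ((A' ⊗[A] B) ⧸ Qext A A' B q) :=
    isNoetherian_of_injective (epsQ A A' B q).toLinearMap (epsQ A A' B q).injective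
  have hA : IsArtinian A' ((A' ⊗[A] B) ⧸ Qext A A' B q) :=
    isArtinian_of_injective (epsQ A A' B q).toLinearMap (epsQ A A' B q).injective
  exact ⟨isNoetherian_of_tower A' hN, isArtinian_of_tower A' hA⟩

end Coord1

end Groth.Agent.Helper8.FB
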