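import Mathlib
import Groth.Prelude.Def_Tame
import Groth.Agent.Lib.Helper8.Tame10
import Groth.Agent.Lib.Lead.SecOrd0

/-!
# The key lemma: local valuations of tame symbols at height one primes
-/

set_option autoImplicit false
universe u

namespace Groth.Agent.Helper8.KL

open IsLocalRing Groth.Agent.Helper8.Tame Groth.Agent.Lead.SecOrd

section OrdFrac

variable (R : Type u) [CommRing R] (K : Type u) [Field K] [Algebra R K]

theorem ordFrac_one : CycAlg.ordFrac R K 1 = 0 := by
  have h := ordFrac_unit R K (1 : Rˣ)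
  rwa [Units.val_one, map_one] at h

theorem ordFrac_inv {z : K} (hz : z ≠ 0) : CycAlg.ordFrac R K z⁻¹ = - CycAlg.ordFrac R K z := by
  have h := ordFrac_mul R K hz (inv_ne_zero hz)
  rw [mul_inv_cancel₀ hz, ordFrac_one] at h
  linarith

theorem ordFrac_pow {z : K} (hz : z ≠ 0) (n : ℕ) :
    CycAlg.ordFrac R K (z ^ n) = n * CycAlg.ordFrac R K z := by
  induction n with
  | zero => rw [pow_zero, ordFrac_one, Nat.cast_zero, zero_mul]
  | succ n ih =>
    rw [pow_succ, ordFrac_mul R K (pow_ne_zero n hz) hz, ih]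
    push_cast; ring

theorem ordFrac_neg_one_pow (n : ℕ) : CycAlg.ordFrac R K ((-1) ^ n) = 0 := by
  have h := ordFrac_unit R K ((-1 : Rˣ) ^ n)
  rwa [Units.val_pow_eq_pow_val, Units.val_neg, Units.val_one, map_pow, map_neg, map_one] at h

theorem ordFrac_algebraMap [IsDomain R] [IsNoetherianRing R] [Ring.KrullDimLE 1 R]
    [IsFractionRing R K] (a : R) (ha : a ≠ 0) :
    CycAlg.ordFrac R K (algebraMap R K a) = ((Ring.ord R a).toNat : ℤ) := by
  have hnz : a ∈ nonZeroDivisors R := mem_nonZeroDivisors_of_ne_zero ha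
  obtain ⟨m, hm⟩ := ENat.ne_top_iff_exists.mp (Ring.ord_ne_top hnz)
  rw [ordFrac_eq, Ring.ordFrac_eq_ord R ha, Ring.ordMonoidWithZeroHom_eq_coe R hnz hm.symm,
    toZ_coe, ← hm]
  simp

end OrdFrac

section Local

variable {A : Type u} [CommRing A] [IsNoetherianRing A]

/-- the order along `A ⧸ q` of the tame symbol of `A_q` -/
noncomputable def vq (q : PrimeSpectrum A) (g h : A) : ℤ :=
  CycAlg.ordFrac (A ⧸ q.asIdeal) q.asIdeal.ResidueField
    (CycAlg.tameSymbol (Localization.AtPrime q.asIdeal)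
      (algebraMap A (Localization.AtPrime q.asIdeal) g)
      (algebraMap A (Localization.AtPrime q.asIdeal) h))

/-- the order of vanishing at `q` -/
noncomputable def oq (q : PrimeSpectrum A) (h : A) : ℕ :=
  (Module.length (Localization.AtPrime q.asIdeal)
    (Localization.AtPrime q.asIdeal ⧸
      Ideal.span {algebraMap A (Localization.AtPrime q.asIdeal) h})).toNat

/-- the order of the residue class along `A ⧸ q` -/
noncomputable def rq (q : PrimeSpectrum A) (g : A) : ℤ :=
  CycAlg.ordFrac (A ⧸ q.asIdeal) q.asIdeal.ResidueField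
    (algebraMap (A ⧸ q.asIdeal) q.asIdeal.ResidueField (Ideal.Quotient.mk q.asIdeal g))

theorem dim_loc (q : PrimeSpectrum A) (hq : q.asIdeal.height = 1) :
    ringKrullDim (Localization.AtPrime q.asIdeal) = 1 := by
  rw [IsLocalization.AtPrime.ringKrullDim_eq_height q.asIdeal, hq]
  rfl

theorem krullDimLE_loc (q : PrimeSpectrum A) (hq : q.asIdeal.height = 1) :
    Ring.KrullDimLE 1 (Localization.AtPrime q.asIdeal) := by
  rw [Ring.krullDimLE_iff, dim_loc q hq]
  simp

theorem alg_nzd (q : PrimeSpectrum A) {g : A} (hg : g ∈ nonZeroDivisors A) :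
    algebraMap A (Localization.AtPrime q.asIdeal) g ∈
      nonZeroDivisors (Localization.AtPrime q.asIdeal) :=
  IsLocalization.map_nonZeroDivisors_le q.asIdeal.primeCompl _ (Submonoid.mem_map_of_mem _ hg)

theorem alg_isUnit (q : PrimeSpectrum A) {g : A} (hg : g ∉ q.asIdeal) :
    IsUnit (algebraMap A (Localization.AtPrime q.asIdeal) g) :=
  (IsLocalization.AtPrime.isUnit_to_map_iff (Localization.AtPrime q.asIdeal) q.asIdeal g).mpr hg

theorem residue_alg (q : PrimeSpectrum A) (g : A) :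
    residue (Localization.AtPrime q.asIdeal) (algebraMap A (Localization.AtPrime q.asIdeal) g)
      = algebraMap (A ⧸ q.asIdeal) q.asIdeal.ResidueField (Ideal.Quotient.mk q.asIdeal g) := rfl

variable (q : PrimeSpectrum A) (hq : q.asIdeal.height = 1)
include hq

theorem sym_ne_zero {g h : A} (hg : g ∈ nonZeroDivisors A) (hh : h ∈ nonZeroDivisors A) :
    CycAlg.tameSymbol (Localization.AtPrime q.asIdeal)
      (algebraMap A (Localization.AtPrime q.asIdeal) g)
      (algebraMap A (Localization.AtPrime q.asIdeal) h) ≠ 0 :=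
  (tameSymbol_laws _ (dim_loc q hq)).1 _ _ (alg_nzd q hg) (alg_nzd q hh)

theorem vq_mul_left {g g' h : A} (hg : g ∈ nonZeroDivisors A) (hg' : g' ∈ nonZeroDivisors A)
    (hh : h ∈ nonZeroDivisors A) : vq q (g * g') h = vq q g h + vq q g' h := by
  unfold vq
  rw [map_mul, ((tameSymbol_laws _ (dim_loc q hq)).2.1 _ _ _ (alg_nzd q hg) (alg_nzd q hg')
    (alg_nzd q hh)).1]
  exact ordFrac_mul _ _ (sym_ne_zero q hq hg hh) (sym_ne_zero q hq hg' hh)

theorem vq_mul_right {g h h' : A} (hg : g ∈ nonZeroDivisors A) (hh : h ∈ nonZeroDivisors A)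
    (hh' : h' ∈ nonZeroDivisors A) : vq q g (h * h') = vq q g h + vq q g h' := by
  unfold vq
  rw [map_mul, ((tameSymbol_laws _ (dim_loc q hq)).2.1 _ _ _ (alg_nzd q hh) (alg_nzd q hh')
    (alg_nzd q hg)).2]
  exact ordFrac_mul _ _ (sym_ne_zero q hq hg hh) (sym_ne_zero q hq hg hh')

theorem vq_self {g : A} (hg : g ∈ nonZeroDivisors A) : vq q g g = 0 := by
  unfold vq
  rw [(tameSymbol_laws _ (dim_loc q hq)).2.2.1 _ (alg_nzd q hg)]
  exact ordFrac_neg_one_pow _ _ _

theorem vq_swap {g h : A} (hg : g ∈ nonZeroDivisors A) (hh : h ∈ nonZeroDivisors A) :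
    vq q g h = - vq q h g := by
  have hgh : g * h ∈ nonZeroDivisors A := mul_mem hg hh
  have h1 := vq_self q hq hgh
  rw [vq_mul_left q hq hg hh hgh, vq_mul_right q hq hg hg hh, vq_mul_right q hq hh hg hh,
    vq_self q hq hg, vq_self q hq hh] at h1
  linarith

theorem vq_of_notMem {g h : A} (hg : g ∉ q.asIdeal) (hh : h ∉ q.asIdeal) : vq q g h = 0 := by
  unfold vq
  haveI := krullDimLE_loc q hq
  rw [tameSymbol_eq_one_of_isUnit (alg_isUnit q hg) (alg_isUnit q hh)]
  exact ordFrac_one _ _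

theorem vq_unit_left {g h : A} (hg : g ∉ q.asIdeal) (hh : h ∈ nonZeroDivisors A) :
    vq q g h = oq q h * rq q g := by
  unfold vq oq rq
  obtain ⟨c, hc⟩ := alg_isUnit q hg
  rw [← residue_alg, ← hc, (tameSymbol_laws _ (dim_loc q hq)).2.2.2.1 c _ (alg_nzd q hh)]
  exact ordFrac_pow _ _ (c.isUnit.map (residue _)).ne_zero _

theorem vq_unit_right {g h : A} (hg : g ∈ nonZeroDivisors A) (hhn : h ∈ nonZeroDivisors A)
    (hh : h ∉ q.asIdeal) : vq q g h = - (oq q g * rq q h) := by
  rw [vq_swap q hq hg hhn, vq_unit_left q hq hh hg]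

theorem vq_steinberg {g c : A} (hg : g ∈ nonZeroDivisors A) (hc : c ∈ nonZeroDivisors A)
    (hcg : c - g ∈ nonZeroDivisors A) :
    vq q g (c - g) + vq q c c = vq q c (c - g) + vq q g c := by
  unfold vq
  have h5 := (tameSymbol_laws _ (dim_loc q hq)).2.2.2.2 _ _ (alg_nzd q hg) (alg_nzd q hc)
    (by rw [← map_sub]; exact alg_nzd q hcg)
  rw [← map_sub] at h5
  have e1 := ordFrac_mul (A ⧸ q.asIdeal) q.asIdeal.ResidueField
    (sym_ne_zero q hq hg hcg) (sym_ne_zero q hq hc hc)
  have e2 := ordFrac_mul (A ⧸ q.asIdeal) q.asIdeal.ResidueField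
    (sym_ne_zero q hq hc hcg) (sym_ne_zero q hq hg hc)
  rw [← e1, ← e2]
  exact congrArg _ h5

end Local

end Groth.Agent.Helper8.KL
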