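import Mathlib
import Groth.Prelude.Def_Tame
import Groth.Agent.Lib.Helper8.KLa
import Groth.Agent.Lib.Helper8.Tame2
import Groth.Agent.Lib.Helper6.LatDist.LDc

/-!
# The key lemma: the tame symbol of a factored pair, and orders of norms
-/

set_option autoImplicit false
universe u

namespace Groth.Agent.Helper8.KL

open IsLocalRing Groth.Agent.Helper8.Tame Groth.Agent.Lead.SecOrd

section Fac

variable (R : Type u) [CommRing R] [IsNoetherianRing R] [IsLocalRing R]

omit [IsNoetherianRing R] [IsLocalRing R] in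
theorem ord_unit_mul_pow {π : R} (hπ : π ∈ nonZeroDivisors R) (w : Rˣ) (j : ℕ) :
    (Module.length R (R ⧸ Ideal.span {(w : R) * π ^ j})).toNat = j * (Ring.ord R π).toNat := by
  show (Ring.ord R ((w : R) * π ^ j)).toNat = j * (Ring.ord R π).toNat
  rw [Ring.ord_mul_of_isUnit_left w.isUnit, Ring.ord_pow hπ, nsmul_eq_mul, ENat.toNat_mul,
    ENat.toNat_natCast]

theorem tameSymbol_fac (hR : ringKrullDim R = 1) {π : R} (hπ : π ∈ nonZeroDivisors R)
    (u v : Rˣ) (i j : ℕ) :
    CycAlg.tameSymbol R ((u : R) * π ^ i) ((v : R) * π ^ j) =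
      theta R u v i j ^ (Ring.ord R π).toNat := by
  obtain ⟨hne, hmul, hself, hunit, -⟩ := tameSymbol_laws R hR
  have hordw0 : ∀ (w : Rˣ) (k : ℕ),
      (Module.length R (R ⧸ Ideal.span {(w : R) * π ^ k})).toNat = k * (Ring.ord R π).toNat :=
    fun w k => ord_unit_mul_pow R hπ w k
  obtain ⟨m, hm⟩ : ∃ m : ℕ, (Ring.ord R π).toNat = m := ⟨_, rfl⟩
  rw [hm] at hordw0 ⊢
  have hnu : ∀ w : Rˣ, (w : R) ∈ nonZeroDivisors R := fun w => w.isUnit.mem_nonZeroDivisors
  have hnp : ∀ k, π ^ k ∈ nonZeroDivisors R := fun k => pow_mem hπ k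
  have hone_right : ∀ a : R, a ∈ nonZeroDivisors R → CycAlg.tameSymbol R a 1 = 1 := by
    intro a ha
    have h := (hmul 1 1 a (one_mem _) (one_mem _) ha).2
    rw [mul_one] at h
    have hn := hne a 1 ha (one_mem _)
    have h' : (1 : ResidueField R) * CycAlg.tameSymbol R a 1
        = CycAlg.tameSymbol R a 1 * CycAlg.tameSymbol R a 1 := by
      rw [one_mul]; exact h
    exact (mul_right_cancel₀ hn h').symm
  have hone_left : ∀ b : R, b ∈ nonZeroDivisors R → CycAlg.tameSymbol R 1 b = 1 := by
    intro b hb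
    have h := hunit 1 b hb
    rw [Units.val_one, map_one, one_pow] at h
    exact h
  have hpow_left : ∀ a b : R, a ∈ nonZeroDivisors R → b ∈ nonZeroDivisors R → ∀ k : ℕ,
      CycAlg.tameSymbol R (a ^ k) b = CycAlg.tameSymbol R a b ^ k := by
    intro a b ha hb k
    induction k with
    | zero => rw [pow_zero, pow_zero]; exact hone_left b hb
    | succ k ih =>
      rw [pow_succ, pow_succ, (hmul (a ^ k) a b (pow_mem ha k) ha hb).1, ih]
  have hpow_right : ∀ a b : R, a ∈ nonZeroDivisors R → b ∈ nonZeroDivisors R → ∀ k : ℕ,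
      CycAlg.tameSymbol R a (b ^ k) = CycAlg.tameSymbol R a b ^ k := by
    intro a b ha hb k
    induction k with
    | zero => rw [pow_zero, pow_zero]; exact hone_right a ha
    | succ k ih =>
      rw [pow_succ, pow_succ, (hmul (b ^ k) b a (pow_mem hb k) hb ha).2, ih]
  have hordπ : (Module.length R (R ⧸ Ideal.span {π})).toNat = m := hm
  have hord1 : ∀ w : Rˣ, (Module.length R (R ⧸ Ideal.span {(w : R) * π})).toNat = m := by
    intro w
    have h := hordw0 w 1
    rwa [pow_one, one_mul] at h
  have hordu : ∀ w : Rˣ, (Module.length R (R ⧸ Ideal.span {(w : R)})).toNat = 0 := by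
    intro w
    have h := hordw0 w 0
    rwa [pow_zero, mul_one, zero_mul] at h
  -- ∂(π, v) = (v̄ ^ m)⁻¹
  have hπv : CycAlg.tameSymbol R π (v : R) = (residue R (v : R) ^ m)⁻¹ := by
    have hvπ : (v : R) * π ∈ nonZeroDivisors R := mul_mem (hnu v) hπ
    have h1 := hself ((v : R) * π) hvπ
    rw [hord1 v, (hmul (v : R) π ((v : R) * π) (hnu v) hπ hvπ).1,
      (hmul (v : R) π (v : R) (hnu v) hπ (hnu v)).2,
      (hmul (v : R) π π (hnu v) hπ hπ).2,
      hunit v (v : R) (hnu v), hordu v, pow_zero, hunit v π hπ, hordπ,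
      hself π hπ, hordπ] at h1
    have hneg : ((-1 : ResidueField R)) ^ m ≠ 0 := pow_ne_zero _ (neg_ne_zero.mpr one_ne_zero)
    have h2 : residue R (v : R) ^ m * CycAlg.tameSymbol R π (v : R) = 1 := by
      have h3 : (residue R (v : R) ^ m * CycAlg.tameSymbol R π (v : R)) * (-1) ^ m
          = 1 * (-1) ^ m := by
        calc (residue R (v : R) ^ m * CycAlg.tameSymbol R π (v : R)) * (-1) ^ m
            = 1 * residue R (v : R) ^ m * (CycAlg.tameSymbol R π (v : R) * (-1) ^ m) := by ring
          _ = (-1) ^ m := h1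
          _ = 1 * (-1) ^ m := (one_mul _).symm
      exact mul_right_cancel₀ hneg h3
    exact eq_inv_of_mul_eq_one_right h2
  -- main computation
  have hb0 : (v : R) * π ^ j ∈ nonZeroDivisors R := mul_mem (hnu v) (hnp j)
  rw [(hmul (u : R) (π ^ i) ((v : R) * π ^ j) (hnu u) (hnp i) hb0).1,
    hunit u _ hb0, hordw0 v j, hpow_left π _ hπ hb0 i,
    (hmul (v : R) (π ^ j) π (hnu v) (hnp j) hπ).2, hπv,
    hpow_right π π hπ hπ j, hself π hπ, hordπ]
  unfold theta
  first
    | ring
    | (simp only [mul_pow, inv_pow, ← pow_mul]; ring)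
    | (field_simp; ring)

end Fac

section OrdFracMore

variable (R : Type u) [CommRing R] (K : Type u) [Field K] [Algebra R K]

theorem ordFrac_pow' (z : K) (n : ℕ) :
    CycAlg.ordFrac R K (z ^ n) = n * CycAlg.ordFrac R K z := by
  by_cases hz : z = 0
  · subst hz
    rcases Nat.eq_zero_or_pos n with hn | hn
    · subst hn
      rw [pow_zero, ordFrac_one, Nat.cast_zero, zero_mul]
    · rw [zero_pow hn.ne', ordFrac_zero, mul_zero]
  · exact ordFrac_pow R K hz n

theorem ordFrac_prod {ι : Type*} (s : Finset ι) (f : ι → K) (hf : ∀ i ∈ s, f i ≠ 0) :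
    CycAlg.ordFrac R K (∏ i ∈ s, f i) = ∑ i ∈ s, CycAlg.ordFrac R K (f i) := by
  classical
  induction s using Finset.induction_on with
  | empty => rw [Finset.prod_empty, Finset.sum_empty]; exact ordFrac_one R K
  | insert a s ha ih =>
    rw [Finset.prod_insert ha, Finset.sum_insert ha,
      ordFrac_mul R K (hf a (Finset.mem_insert_self a s))
        (Finset.prod_ne_zero_iff.mpr (fun i hi => hf i (Finset.mem_insert_of_mem hi))),
      ih (fun i hi => hf i (Finset.mem_insert_of_mem hi))]

end OrdFracMore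

section NormComp

variable {A C : Type u} [CommRing A] [CommRing C] [IsLocalRing A] [IsLocalRing C]
  [IsNoetherianRing A] [Algebra A C] [Module.Finite A C]

omit [IsNoetherianRing A] in
theorem isLocalHom_of_finite : IsLocalHom (algebraMap A C) :=
  ((IsLocalRing.local_hom_TFAE (algebraMap A C)).out 0 4).mpr
    (comap_eq_maximalIdeal A C (maximalIdeal C))

set_option maxHeartbeats 1600000 in
set_option synthInstance.maxHeartbeats 400000 in
theorem ordFrac_norm_eq
    (hres : ∀ c : C, ∃ x : A, c - algebraMap A C x ∈ maximalIdeal C)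
    (q : Ideal A) [q.IsPrime] (q' : Ideal C) [q'.IsPrime]
    (hqq' : q'.comap (algebraMap A C) = q)
    (hdim : Ring.KrullDimLE 1 (A ⧸ q))
    [Algebra (Localization.AtPrime q) (Localization.AtPrime q')]
    [IsLocalHom (algebraMap (Localization.AtPrime q) (Localization.AtPrime q'))]
    (htower : ∀ x : A, algebraMap (Localization.AtPrime q) (Localization.AtPrime q')
      (algebraMap A (Localization.AtPrime q) x) =
        algebraMap C (Localization.AtPrime q') (algebraMap A C x))
    (z : q'.ResidueField) (hz : z ≠ 0) :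
    CycAlg.ordFrac (A ⧸ q) q.ResidueField (Algebra.norm q.ResidueField z) =
      CycAlg.ordFrac (C ⧸ q') q'.ResidueField z := by
  classical
  haveI := hdim
  haveI : IsNoetherianRing C := isNoetherianRing_of_finite A C
  haveI hlocAC : IsLocalHom (algebraMap A C) := isLocalHom_of_finite
  have hle : q ≤ q'.comap (algebraMap A C) := hqq'.ge
  letI algQ : Algebra (A ⧸ q) (C ⧸ q') :=
    (Ideal.quotientMap q' (algebraMap A C) hle).toAlgebra
  have halgQ : ∀ x : A, algebraMap (A ⧸ q) (C ⧸ q') (Ideal.Quotient.mk q x) =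
      Ideal.Quotient.mk q' (algebraMap A C x) := fun x => rfl
  haveI : IsScalarTower A (A ⧸ q) (C ⧸ q') := IsScalarTower.of_algebraMap_eq (fun x => rfl)
  haveI : Module.Finite A (C ⧸ q') :=
    Module.Finite.of_surjective (Ideal.Quotient.mkₐ A q').toLinearMap
      (Ideal.Quotient.mkₐ_surjective A q')
  haveI : Module.Finite (A ⧸ q) (C ⧸ q') :=
    Module.Finite.of_restrictScalars_finite A (A ⧸ q) (C ⧸ q')
  haveI : Algebra.IsIntegral (A ⧸ q) (C ⧸ q') := Algebra.IsIntegral.of_finite (A ⧸ q) (C ⧸ q')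
  have hinjQ : Function.Injective (algebraMap (A ⧸ q) (C ⧸ q')) := by
    rw [injective_iff_map_eq_zero]
    intro x hx
    obtain ⟨x, rfl⟩ := Ideal.Quotient.mk_surjective x
    rw [halgQ, Ideal.Quotient.eq_zero_iff_mem] at hx
    rw [Ideal.Quotient.eq_zero_iff_mem, ← hqq']
    exact hx
  haveI : FaithfulSMul (A ⧸ q) (C ⧸ q') :=
    (faithfulSMul_iff_algebraMap_injective _ _).mpr hinjQ
  haveI : Ring.KrullDimLE 1 (C ⧸ q') := krullDimLE_one_of_finite (A ⧸ q) (C ⧸ q')
  haveI : IsLocalRing (A ⧸ q) :=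
    IsLocalRing.of_surjective' (Ideal.Quotient.mk q) Ideal.Quotient.mk_surjective
  haveI : IsLocalRing (C ⧸ q') :=
    IsLocalRing.of_surjective' (Ideal.Quotient.mk q') Ideal.Quotient.mk_surjective
  haveI hlocC : IsLocalHom (Ideal.Quotient.mk q') :=
    IsLocalHom.of_surjective _ Ideal.Quotient.mk_surjective
  haveI : IsLocalHom (algebraMap (A ⧸ q) (C ⧸ q')) := by
    constructor
    intro x hx
    obtain ⟨a, rfl⟩ := Ideal.Quotient.mk_surjective x
    rw [halgQ] at hx
    have h2 : IsUnit (algebraMap A C a) := isUnit_of_map_unit (Ideal.Quotient.mk q') _ hx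
    have h3 : IsUnit a := isUnit_of_map_unit (algebraMap A C) _ h2
    exact h3.map (Ideal.Quotient.mk q)
  have hdeg : Module.length (ResidueField (A ⧸ q)) (ResidueField (C ⧸ q')) = 1 := by
    have hsurj : Function.Surjective
        (algebraMap (ResidueField (A ⧸ q)) (ResidueField (C ⧸ q'))) := by
      intro y
      obtain ⟨r, rfl⟩ := residue_surjective y
      obtain ⟨c, rfl⟩ := Ideal.Quotient.mk_surjective r
      obtain ⟨x, hx⟩ := hres c
      refine ⟨residue _ (Ideal.Quotient.mk q x), ?_⟩
      rw [ResidueField.algebraMap_residue, halgQ]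
      have h0 : residue (C ⧸ q') (Ideal.Quotient.mk q' (c - algebraMap A C x)) = 0 := by
        rw [residue_eq_zero_iff, mem_maximalIdeal, mem_nonunits_iff]
        intro hu
        exact (mem_nonunits_iff.mp ((mem_maximalIdeal _).mp hx))
          (isUnit_of_map_unit (Ideal.Quotient.mk q') _ hu)
      rw [map_sub, map_sub, sub_eq_zero] at h0
      exact h0.symm
    have hbij : Function.Bijective
        (Algebra.linearMap (ResidueField (A ⧸ q)) (ResidueField (C ⧸ q'))) :=
      ⟨(algebraMap (ResidueField (A ⧸ q)) (ResidueField (C ⧸ q'))).injective, hsurj⟩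
    rw [← (LinearEquiv.ofBijective _ hbij).length_eq, Module.length_eq_finrank,
      Module.finrank_self, Nat.cast_one]
  have hlen : ∀ r : C ⧸ q', Module.length (A ⧸ q) ((C ⧸ q') ⧸ Ideal.span {r}) =
      Module.length (C ⧸ q') ((C ⧸ q') ⧸ Ideal.span {r}) := by
    intro r
    rw [IsLocalRing.length_restrictScalars (A ⧸ q) (C ⧸ q') ((C ⧸ q') ⧸ Ideal.span {r}),
      hdeg, mul_one]
  -- fraction fields
  letI algAL : Algebra (A ⧸ q) q'.ResidueField :=
    ((algebraMap q.ResidueField q'.ResidueField).comp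
      (algebraMap (A ⧸ q) q.ResidueField)).toAlgebra
  haveI : IsScalarTower (A ⧸ q) q.ResidueField q'.ResidueField :=
    IsScalarTower.of_algebraMap_eq (fun x => rfl)
  haveI : IsScalarTower (A ⧸ q) (C ⧸ q') q'.ResidueField := IsScalarTower.of_algebraMap_eq (by
    intro x
    obtain ⟨x, rfl⟩ := Ideal.Quotient.mk_surjective x
    rw [halgQ]
    show algebraMap q.ResidueField q'.ResidueField
        (algebraMap (A ⧸ q) q.ResidueField (Ideal.Quotient.mk q x)) =
      algebraMap (C ⧸ q') q'.ResidueField (Ideal.Quotient.mk q' (algebraMap A C x))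
    rw [Ideal.algebraMap_quotient_residueField_mk, Ideal.algebraMap_quotient_residueField_mk]
    show algebraMap (ResidueField (Localization.AtPrime q))
        (ResidueField (Localization.AtPrime q'))
        (residue _ (algebraMap A (Localization.AtPrime q) x)) =
      residue _ (algebraMap C (Localization.AtPrime q') (algebraMap A C x))
    rw [ResidueField.algebraMap_residue, htower])
  haveI : FiniteDimensional q.ResidueField q'.ResidueField :=
    Module.Finite.of_isLocalization (A ⧸ q) (C ⧸ q') (Rₚ := q.ResidueField)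
      (Sₚ := q'.ResidueField) (nonZeroDivisors (A ⧸ q))
  have key : ∀ r : C ⧸ q', r ≠ 0 →
      CycAlg.ordFrac (A ⧸ q) q.ResidueField
        (Algebra.norm q.ResidueField (algebraMap (C ⧸ q') q'.ResidueField r)) =
      CycAlg.ordFrac (C ⧸ q') q'.ResidueField (algebraMap (C ⧸ q') q'.ResidueField r) := by
    intro r hr
    have h6 := Groth.Agent.Lib.Helper6.LatDist.length_quotient_span_eq_ordFrac_norm
      (A := A ⧸ q) (B := C ⧸ q') (K := q.ResidueField) (L := q'.ResidueField) r hr
    rw [← h6.2, hlen r, ordFrac_algebraMap (C ⧸ q') q'.ResidueField r hr]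
    rfl
  obtain ⟨x, y, hy, hxy⟩ := IsFractionRing.div_surjective (A := C ⧸ q') z
  have hy0 : y ≠ 0 := nonZeroDivisors.ne_zero hy
  have hyL : algebraMap (C ⧸ q') q'.ResidueField y ≠ 0 :=
    (map_ne_zero_iff _ (IsFractionRing.injective (C ⧸ q') q'.ResidueField)).mpr hy0
  have hx0 : x ≠ 0 := by
    intro hx
    apply hz
    rw [← hxy, hx, map_zero, zero_div]
  have hxL : algebraMap (C ⧸ q') q'.ResidueField x ≠ 0 :=
    (map_ne_zero_iff _ (IsFractionRing.injective (C ⧸ q') q'.ResidueField)).mpr hx0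
  have hw : z * algebraMap (C ⧸ q') q'.ResidueField y =
      algebraMap (C ⧸ q') q'.ResidueField x := by
    rw [← hxy, div_mul_cancel₀ _ hyL]
  have hNy : Algebra.norm q.ResidueField (algebraMap (C ⧸ q') q'.ResidueField y) ≠ 0 := by
    rw [Ne, Algebra.norm_eq_zero_iff]; exact hyL
  have hNx : Algebra.norm q.ResidueField (algebraMap (C ⧸ q') q'.ResidueField x) ≠ 0 := by
    rw [Ne, Algebra.norm_eq_zero_iff]; exact hxL
  have hN : Algebra.norm q.ResidueField z *
      Algebra.norm q.ResidueField (algebraMap (C ⧸ q') q'.ResidueField y) =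
      Algebra.norm q.ResidueField (algebraMap (C ⧸ q') q'.ResidueField x) := by
    rw [← map_mul, hw]
  have hNz : Algebra.norm q.ResidueField z ≠ 0 := by
    intro h0
    rw [h0, zero_mul] at hN
    exact hNx hN.symm
  have e1 := ordFrac_mul (C ⧸ q') q'.ResidueField hz hyL
  rw [hw] at e1
  have e2 := ordFrac_mul (A ⧸ q) q.ResidueField hNz hNy
  rw [hN, key x hx0, key y hy0] at e2
  linarith

end NormComp

end Groth.Agent.Helper8.KL
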