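import Mathlib
import Groth.Prelude.Def_Tame
import Groth.Agent.Lib.Helper8.FBa
import Groth.Agent.Lib.Helper8.KLh
import Groth.Agent.Lib.Helper8.Tame5

/-!
# Auxiliary lemmas for the flat base change of the tame symbol
-/

set_option autoImplicit false
universe u

namespace Groth.Agent.Helper8.FB

open Function IsLocalRing TensorProduct

attribute [local instance] Groth.Agent.Helper8.Tame.isLocalHom_atPrime

theorem nzd_of_flat {R S : Type*} [CommRing R] [CommRing S] [Algebra R S] [Module.Flat R S]
    {x : R} (hx : x ∈ nonZeroDivisors R) : algebraMap R S x ∈ nonZeroDivisors S := by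
  have h1 : IsSMulRegular R x := by
    intro a b hab
    have h2 : (a - b) * x = 0 := by
      have h3 : x * a = x * b := hab
      rw [sub_mul, mul_comm a x, mul_comm b x, h3, sub_self]
    exact sub_eq_zero.mp ((mem_nonZeroDivisors_iff_right.mp hx) _ h2)
  have h2 : IsSMulRegular S (algebraMap R S x) := IsSMulRegular.of_flat h1
  rw [mem_nonZeroDivisors_iff_right]
  intro y hy
  apply h2
  show algebraMap R S x • y = algebraMap R S x • 0
  rw [smul_zero, smul_eq_mul, mul_comm]
  exact hy

theorem ringKrullDim_eq_one_of_nzd (R : Type*) [CommRing R] [IsLocalRing R]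
    [Ring.KrullDimLE 1 R] {t : R} (ht : t ∈ nonZeroDivisors R) (htm : t ∈ maximalIdeal R) :
    ringKrullDim R = 1 := by
  have h1 : ringKrullDim R ≤ 1 := Ring.krullDimLE_iff.mp inferInstance
  have h2 : (maximalIdeal R).height ≠ 0 := by
    intro h0
    rw [Ideal.height_eq_zero_iff] at h0
    exact Set.disjoint_left.mp (Ideal.disjoint_nonZeroDivisors_of_mem_minimalPrimes h0) htm ht
  rw [← IsLocalRing.maximalIdeal_height_eq_ringKrullDim] at h1 ⊢
  have h3 : (maximalIdeal R).height ≤ 1 := WithBot.coe_le_coe.mp h1
  have h4 : 1 ≤ (maximalIdeal R).height := ENat.one_le_iff_ne_zero.mpr h2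
  rw [le_antisymm h3 h4]
  rfl

theorem not_ass_of_nzd {A B : Type*} [CommRing A] [IsLocalRing A] [CommRing B] [Algebra A B]
    {t : A} (htm : t ∈ maximalIdeal A) (ht : algebraMap A B t ∈ nonZeroDivisors B) :
    maximalIdeal A ∉ associatedPrimes A B := by
  intro h
  obtain ⟨x, hx⟩ := h.eq_radical_colon
  have h1 : t ∈ ((⊥ : Submodule A B).colon {x}).radical := hx ▸ htm
  obtain ⟨n, hn⟩ := h1
  rw [Submodule.mem_colon_singleton, Submodule.mem_bot] at hn
  have hx0 : x = 0 := by
    have h2 : algebraMap A B (t ^ n) ∈ nonZeroDivisors B := by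
      rw [map_pow]
      exact pow_mem ht n
    rw [Algebra.smul_def, mul_comm] at hn
    exact (mem_nonZeroDivisors_iff_right.mp h2) x hn
  have h3 : (1 : A) ∈ maximalIdeal A := by
    rw [hx]
    apply Ideal.le_radical
    rw [Submodule.mem_colon_singleton, hx0, smul_zero]
    exact Submodule.zero_mem _
  exact (Ideal.ne_top_iff_one _).mp (IsLocalRing.maximalIdeal.isMaximal A).ne_top h3

/-- The localization of `S ⧸ N` as a quotient of the localization. -/
theorem length_localized_quotient_ideal (S : Type u) [CommRing S] (n : Ideal S) [n.IsPrime]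
    (N : Ideal S) :
    Module.length (Localization.AtPrime n) (LocalizedModule n.primeCompl (S ⧸ N)) =
      Module.length (Localization.AtPrime n)
        (Localization.AtPrime n ⧸ N.map (algebraMap S (Localization.AtPrime n))) := by
  let N' : Submodule S S := N
  let f : S →ₗ[S] Localization.AtPrime n := Algebra.linearMap S (Localization.AtPrime n)
  let e1 : LocalizedModule n.primeCompl (S ⧸ N') ≃ₗ[Localization.AtPrime n]
      (Localization.AtPrime n ⧸ N'.localized' (Localization.AtPrime n) n.primeCompl f) :=
    IsLocalizedModule.mapEquiv n.primeCompl (LocalizedModule.mkLinearMap n.primeCompl (S ⧸ N'))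
      (N'.toLocalizedQuotient' (Localization.AtPrime n) n.primeCompl f) (Localization.AtPrime n)
      (LinearEquiv.refl S _)
  have h : N'.localized' (Localization.AtPrime n) n.primeCompl f =
      N.map (algebraMap S (Localization.AtPrime n)) :=
    Ideal.localized'_eq_map (Localization.AtPrime n) n.primeCompl N
  exact e1.length_eq.trans (Submodule.quotEquivOfEq _ _ h).length_eq

/-- The tame symbol of a factored pair under a flat local homomorphism. -/
theorem tame_flat_fac {R R' : Type u} [CommRing R] [CommRing R'] [IsNoetherianRing R]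
    [IsNoetherianRing R'] [IsLocalRing R] [IsLocalRing R'] [Algebra R R']
    [IsLocalHom (algebraMap R R')] [Module.Flat R R'] (hR : ringKrullDim R = 1)
    (hR' : ringKrullDim R' = 1) {π : R} (hπ : π ∈ nonZeroDivisors R) (u v : Rˣ) (i j : ℕ) :
    ResidueField.map (algebraMap R R')
        (CycAlg.tameSymbol R ((u : R) * π ^ i) ((v : R) * π ^ j)) ^
      (Module.length R' (R' ⧸ (maximalIdeal R).map (algebraMap R R'))).toNat =
      CycAlg.tameSymbol R' (algebraMap R R' ((u : R) * π ^ i))
        (algebraMap R R' ((v : R) * π ^ j)) := by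
  have hπ' : algebraMap R R' π ∈ nonZeroDivisors R' := nzd_of_flat hπ
  have e1 : algebraMap R R' ((u : R) * π ^ i) =
      ((Units.map (algebraMap R R' : R →* R') u : R'ˣ) : R') * (algebraMap R R' π) ^ i := by
    rw [map_mul, map_pow]
    rfl
  have e2 : algebraMap R R' ((v : R) * π ^ j) =
      ((Units.map (algebraMap R R' : R →* R') v : R'ˣ) : R') * (algebraMap R R' π) ^ j := by
    rw [map_mul, map_pow]
    rfl
  have hord : Ring.ord R' (algebraMap R R' π) =
      Ring.ord R π * Module.length R' (R' ⧸ (maximalIdeal R).map (algebraMap R R')) := by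
    unfold Ring.ord
    rw [← IsLocalRing.length_baseChange R R' (R ⧸ Ideal.span {π})]
    rw [← (Algebra.TensorProduct.quotIdealMapEquivTensorQuot R'
      (Ideal.span {π})).toLinearEquiv.length_eq, Ideal.map_span, Set.image_singleton]
  rw [e1, e2, KL.tameSymbol_fac R' hR' hπ', KL.tameSymbol_fac R hR hπ,
    Tame.theta_map R R' u v i j, hord, ENat.toNat_mul, pow_mul, map_pow]
  rfl

/-- The determinant of multiplication on `S ⧸ n` is the norm of the residue class. -/
theorem kdet_quot_eq_norm {R : Type u} [CommRing R] [IsLocalRing R] (S : Type u) [CommRing S]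
    [Algebra R S] [Module.Finite R S] (y : S) (n : MaximalSpectrum S)
    (h : Module.IsTorsionBySet R (S ⧸ n.asIdeal) (maximalIdeal R : Set R)) :
    Module.Finite R (S ⧸ n.asIdeal) ∧
      kdet (maximalIdeal R) h (lsmulR S y (S ⧸ n.asIdeal)) =
        Algebra.norm (ResidueField R) (residue (Localization.AtPrime n.asIdeal)
          (algebraMap S (Localization.AtPrime n.asIdeal) y)) := by
  refine ⟨inferInstance, ?_⟩
  let e : (S ⧸ n.asIdeal) ≃ₗ[R] ResidueField (Localization.AtPrime n.asIdeal) :=
    Tame.quotEquivResidue R S n.asIdeal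
  have hL : Module.IsTorsionBySet R (ResidueField (Localization.AtPrime n.asIdeal))
      (maximalIdeal R : Set R) :=
    torsion_of_surjective _ h e.toLinearMap e.surjective
  have he1 : ∀ s' : S, e (Ideal.Quotient.mk _ s') =
      residue _ (algebraMap S (Localization.AtPrime n.asIdeal) s') := fun s' => rfl
  have hconj : ∀ x, e ((lsmulR (R := R) S y (S ⧸ n.asIdeal)) x) =
      ((Algebra.lmul (ResidueField R) (ResidueField (Localization.AtPrime n.asIdeal))
        (residue (Localization.AtPrime n.asIdeal)
          (algebraMap S (Localization.AtPrime n.asIdeal) y))).restrictScalars R) (e x) := by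
    intro x
    obtain ⟨s, rfl⟩ := Ideal.Quotient.mk_surjective x
    have h2 : (lsmulR (R := R) S y (S ⧸ n.asIdeal)) (Ideal.Quotient.mk n.asIdeal s) =
        Ideal.Quotient.mk n.asIdeal (y * s) := rfl
    rw [h2, he1, he1, map_mul, map_mul]
    rfl
  have h1 := kdet_congr (maximalIdeal R) h hL e _ _ hconj
  have h2 := @kdet_eq_det R _ (maximalIdeal R) (ResidueField (Localization.AtPrime n.asIdeal)) _ _
    (inferInstance : Module (ResidueField R) (ResidueField (Localization.AtPrime n.asIdeal)))
    (inferInstance : IsScalarTower R (ResidueField R)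
      (ResidueField (Localization.AtPrime n.asIdeal))) hL
    ((Algebra.lmul (ResidueField R) (ResidueField (Localization.AtPrime n.asIdeal))
        (residue (Localization.AtPrime n.asIdeal)
          (algebraMap S (Localization.AtPrime n.asIdeal) y))).restrictScalars R)
    (Algebra.lmul (ResidueField R) (ResidueField (Localization.AtPrime n.asIdeal))
        (residue (Localization.AtPrime n.asIdeal)
          (algebraMap S (Localization.AtPrime n.asIdeal) y))) (fun _ => rfl)
  exact h1.trans (h2.trans (Algebra.norm_apply (ResidueField R) _).symm)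

end Groth.Agent.Helper8.FB
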