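import Mathlib
import Groth.Prelude.Def_Tame
import Groth.Agent.Lib.Helper8.FBc
import Groth.Agent.Lib.Helper8.FBd
import Groth.Agent.Lib.Helper8.Tame8

/-!
# The base change `A' ⊗_A B` of a finite extension along a flat local homomorphism
-/

set_option autoImplicit false
universe u

namespace Groth.Agent.Helper8.FB

open Function IsLocalRing TensorProduct

attribute [local instance] Groth.Agent.Helper8.Tame.isLocalHom_atPrime

section BaseChange

variable (A : Type u) [CommRing A] (A' : Type u) [CommRing A'] [Algebra A A']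
  (B : Type u) [CommRing B] [Algebra A B]

/-- The `B`-algebra structure on `A' ⊗ B`. -/
@[reducible] noncomputable def algRight : Algebra B (A' ⊗[A] B) :=
  (Algebra.TensorProduct.includeRight : B →ₐ[A] A' ⊗[A] B).toRingHom.toAlgebra

attribute [local instance] algRight

theorem algRight_algebraMap (b : B) : algebraMap B (A' ⊗[A] B) b = 1 ⊗ₜ[A] b := rfl

theorem flat_right [Module.Flat A A'] : Module.Flat B (A' ⊗[A] B) := by
  have h : ∀ (b : B) (x : A' ⊗[A] B),
      TensorProduct.comm A A' B (b • x) = b • TensorProduct.comm A A' B x := by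
    intro b x
    induction x using TensorProduct.induction_on with
    | zero => rw [smul_zero, map_zero, smul_zero]
    | tmul a' b₁ =>
      rw [Algebra.smul_def, algRight_algebraMap, Algebra.TensorProduct.tmul_mul_tmul, one_mul,
        TensorProduct.comm_tmul, TensorProduct.comm_tmul, TensorProduct.smul_tmul', smul_eq_mul]
    | add x y hx hy => rw [smul_add, map_add, hx, hy, map_add, smul_add]
  let e : (A' ⊗[A] B) ≃ₗ[B] (B ⊗[A] A') :=
    { (TensorProduct.comm A A' B).toAddEquiv with
      map_smul' := fun b x => h b x }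
  exact Module.Flat.of_linearEquiv e

theorem algebraMap_comm (x : A) :
    algebraMap A' (A' ⊗[A] B) (algebraMap A A' x) =
      algebraMap B (A' ⊗[A] B) (algebraMap A B x) := by
  have h1 : algebraMap A' (A' ⊗[A] B) (algebraMap A A' x) =
      (algebraMap A A' x) ⊗ₜ[A] (1 : B) := by
    rw [Algebra.TensorProduct.algebraMap_apply]
    rfl
  rw [h1, algRight_algebraMap, Algebra.algebraMap_eq_smul_one, Algebra.algebraMap_eq_smul_one,
    TensorProduct.smul_tmul]

theorem isFinExt_baseChange [IsLocalRing A] [IsLocalRing A'] [IsNoetherianRing A']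
    [Ring.KrullDimLE 1 A'] [Module.Flat A A'] [Module.Finite A B]
    (hB : CycAlg.IsFinExt A B (maximalIdeal A)) {t : A} (htm : t ∈ maximalIdeal A)
    (ht' : algebraMap A A' t ∈ nonZeroDivisors A') :
    CycAlg.IsFinExt A' (A' ⊗[A] B) (maximalIdeal A') := by
  have hinj : Injective (algebraMap A' (A' ⊗[A] B)) := by
    have h := Algebra.TensorProduct.includeLeft_injective (R := A) (S := A') (A := A') (B := B)
      hB.1
    intro x y hxy
    apply h
    rw [Algebra.TensorProduct.includeLeft_apply, Algebra.TensorProduct.includeLeft_apply]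
    rw [Algebra.TensorProduct.algebraMap_apply, Algebra.TensorProduct.algebraMap_apply] at hxy
    exact hxy
  obtain ⟨n₀, hn₀⟩ := hB.2.2
  let J : Ideal A' :=
    { carrier := {r | ∀ b' : A' ⊗[A] B, r • b' ∈ (algebraMap A' (A' ⊗[A] B)).range}
      add_mem' := by
        intro x y hx hy b'
        rw [add_smul]
        exact Subring.add_mem _ (hx b') (hy b')
      zero_mem' := by
        intro b'
        rw [zero_smul]
        exact Subring.zero_mem _
      smul_mem' := by
        intro c x hx b'
        rw [smul_eq_mul, mul_comm, mul_smul]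
        exact hx (c • b') }
  have hJ1 : ∀ r ∈ maximalIdeal A ^ n₀, algebraMap A A' r ∈ J := by
    intro r hr b'
    induction b' using TensorProduct.induction_on with
    | zero =>
      rw [smul_zero]
      exact Subring.zero_mem _
    | tmul a' b =>
      obtain ⟨c, hc⟩ := hn₀ r hr b
      refine ⟨c • a', ?_⟩
      rw [Algebra.TensorProduct.algebraMap_apply, algebraMap_smul, ← TensorProduct.tmul_smul,
        ← hc, Algebra.algebraMap_eq_smul_one c, ← TensorProduct.smul_tmul]
      rfl
    | add x y hx hy =>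
      rw [smul_add]
      exact Subring.add_mem _ hx hy
  have hJ2 : (maximalIdeal A ^ n₀).map (algebraMap A A') ≤ J :=
    Ideal.map_le_iff_le_comap.mpr (fun r hr => hJ1 r hr)
  have htn : (algebraMap A A' t) ^ n₀ ∈ nonZeroDivisors A' := pow_mem ht' n₀
  have hfl := isFiniteLength_quotient_span_singleton A' htn
  haveI : IsArtinianRing (A' ⧸ Ideal.span {(algebraMap A A' t) ^ n₀}) := by
    rw [isFiniteLength_iff_isNoetherian_isArtinian] at hfl
    exact isArtinian_of_tower A' hfl.2
  obtain ⟨N, hN⟩ := IsLocalRing.exists_maximalIdeal_pow_le_of_isArtinianRing_quotient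
    (Ideal.span {(algebraMap A A' t) ^ n₀})
  have hspan : Ideal.span {(algebraMap A A' t) ^ n₀} ≤
      (maximalIdeal A ^ n₀).map (algebraMap A A') := by
    rw [Ideal.span_le, Set.singleton_subset_iff, ← map_pow]
    exact Ideal.mem_map_of_mem _ (Ideal.pow_mem_pow htm n₀)
  refine ⟨hinj, inferInstance, N, fun r hr b' => ?_⟩
  have hrJ : r ∈ J := hJ2 (hspan (hN hr))
  exact hrJ b'

theorem comap_isMaximal [IsLocalRing A] [IsLocalRing A'] [IsLocalHom (algebraMap A A')]
    [Module.Finite A B] (𝔫 : Ideal (A' ⊗[A] B)) [𝔫.IsMaximal] :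
    (𝔫.comap (algebraMap B (A' ⊗[A] B))).IsMaximal := by
  haveI : Algebra.IsIntegral A B := Algebra.IsIntegral.of_finite A B
  have h : (𝔫.comap (algebraMap B (A' ⊗[A] B))).comap (algebraMap A B) = maximalIdeal A := by
    ext x
    rw [Ideal.mem_comap, Ideal.mem_comap, ← algebraMap_comm]
    show algebraMap A A' x ∈ 𝔫.comap (algebraMap A' (A' ⊗[A] B)) ↔ _
    rw [Tame.comap_eq_maximalIdeal A' (A' ⊗[A] B) 𝔫, IsLocalRing.mem_maximalIdeal,
      IsLocalRing.mem_maximalIdeal, mem_nonunits_iff, mem_nonunits_iff, isUnit_map_iff]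
  apply Ideal.isMaximal_of_isIntegral_of_isMaximal_comap (R := A)
  rw [h]
  exact IsLocalRing.maximalIdeal.isMaximal A

/-- The maximal ideal of `B` under a maximal ideal of `A' ⊗ B`. -/
noncomputable def qOf [IsLocalRing A] [IsLocalRing A'] [IsLocalHom (algebraMap A A')]
    [Module.Finite A B] (𝔫 : MaximalSpectrum (A' ⊗[A] B)) : MaximalSpectrum B :=
  ⟨𝔫.asIdeal.comap (algebraMap B (A' ⊗[A] B)), comap_isMaximal A A' B 𝔫.asIdeal⟩

theorem length_loc_eq_zero (q : Ideal B) [hq : q.IsMaximal] (𝔫 : Ideal (A' ⊗[A] B))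
    [h𝔫 : 𝔫.IsPrime] (hne : q ≠ 𝔫.comap (algebraMap B (A' ⊗[A] B))) :
    Module.length (Localization.AtPrime 𝔫)
      (LocalizedModule 𝔫.primeCompl ((A' ⊗[A] B) ⧸ Qext A A' B q)) = 0 := by
  apply OD.length_localized_of_not_le
  intro hle
  apply hne
  have h1 : q ≤ 𝔫.comap (algebraMap B (A' ⊗[A] B)) := Ideal.map_le_iff_le_comap.mp hle
  exact hq.eq_of_le (Ideal.comap_ne_top _ h𝔫.ne_top) h1

end BaseChange

section Loc

attribute [local instance] algRight

variable {A : Type u} [CommRing A] [IsNoetherianRing A] [IsLocalRing A]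
  (A' : Type u) [CommRing A'] [IsNoetherianRing A'] [IsLocalRing A'] [Algebra A A']
  [IsLocalHom (algebraMap A A')] [Module.Flat A A']

set_option maxHeartbeats 1600000 in
set_option synthInstance.maxHeartbeats 400000 in
theorem tame_loc (hA : ringKrullDim A = 1) (hA' : ringKrullDim A' = 1) (F : Tame.FacSys A)
    {a b : A} (fa : Tame.Fac F a) (fb : Tame.Fac F b) (hab : a * b ∈ maximalIdeal A)
    (𝔫 : MaximalSpectrum (A' ⊗[A] F.B)) (q : MaximalSpectrum F.B)
    (hq : q.asIdeal = 𝔫.asIdeal.comap (algebraMap F.B (A' ⊗[A] F.B))) :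
    CycAlg.tameSymbol (Localization.AtPrime 𝔫.asIdeal)
        (algebraMap A' (Localization.AtPrime 𝔫.asIdeal) (algebraMap A A' a))
        (algebraMap A' (Localization.AtPrime 𝔫.asIdeal) (algebraMap A A' b)) =
      ResidueField.map (Localization.localRingHom q.asIdeal 𝔫.asIdeal
          (algebraMap F.B (A' ⊗[A] F.B)) hq)
        (CycAlg.tameSymbol (Localization.AtPrime q.asIdeal)
          (algebraMap A (Localization.AtPrime q.asIdeal) a)
          (algebraMap A (Localization.AtPrime q.asIdeal) b)) ^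
      (Module.length (Localization.AtPrime 𝔫.asIdeal)
        (LocalizedModule 𝔫.asIdeal.primeCompl
          ((A' ⊗[A] F.B) ⧸ Qext A A' F.B q.asIdeal))).toNat := by
  classical
  have hdimA : Ring.KrullDimLE 1 A := by
    rw [Ring.krullDimLE_iff, hA]
    simp
  have hdimA' : Ring.KrullDimLE 1 A' := by
    rw [Ring.krullDimLE_iff, hA']
    simp
  haveI : IsNoetherianRing F.B := Tame.isNoetherianRing_of_finite A F.B
  haveI : Ring.KrullDimLE 1 F.B := Tame.krullDimLE_one_of_finite A F.B
  haveI : IsNoetherianRing (A' ⊗[A] F.B) := Tame.isNoetherianRing_of_finite A' _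
  haveI : Ring.KrullDimLE 1 (A' ⊗[A] F.B) := Tame.krullDimLE_one_of_finite A' _
  haveI : IsNoetherianRing (Localization.AtPrime q.asIdeal) :=
    IsLocalization.isNoetherianRing q.asIdeal.primeCompl _ inferInstance
  haveI : Ring.KrullDimLE 1 (Localization.AtPrime q.asIdeal) :=
    Tame.krullDimLE_one_atPrime F.B q.asIdeal
  haveI : IsNoetherianRing (Localization.AtPrime 𝔫.asIdeal) :=
    IsLocalization.isNoetherianRing 𝔫.asIdeal.primeCompl _ inferInstance
  haveI : Ring.KrullDimLE 1 (Localization.AtPrime 𝔫.asIdeal) :=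
    Tame.krullDimLE_one_atPrime _ 𝔫.asIdeal
  letI algq : Algebra (Localization.AtPrime q.asIdeal) (Localization.AtPrime 𝔫.asIdeal) :=
    (Localization.localRingHom q.asIdeal 𝔫.asIdeal (algebraMap F.B (A' ⊗[A] F.B)) hq).toAlgebra
  haveI hloc : IsLocalHom (algebraMap (Localization.AtPrime q.asIdeal)
      (Localization.AtPrime 𝔫.asIdeal)) :=
    Localization.isLocalHom_localRingHom _ _ _ hq
  haveI : Module.Flat F.B (A' ⊗[A] F.B) := flat_right A A' F.B
  haveI hflatBn : Module.Flat F.B (Localization.AtPrime 𝔫.asIdeal) :=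
    haveI : Module.Flat (A' ⊗[A] F.B) (Localization.AtPrime 𝔫.asIdeal) :=
      IsLocalization.flat _ 𝔫.asIdeal.primeCompl
    Module.Flat.trans F.B (A' ⊗[A] F.B) (Localization.AtPrime 𝔫.asIdeal)
  haveI htower : IsScalarTower F.B (Localization.AtPrime q.asIdeal)
      (Localization.AtPrime 𝔫.asIdeal) :=
    IsScalarTower.of_algebraMap_eq (fun x => by
      rw [IsScalarTower.algebraMap_apply F.B (A' ⊗[A] F.B) (Localization.AtPrime 𝔫.asIdeal)]
      exact (Localization.localRingHom_to_map _ _ _ hq x).symm)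
  haveI hflat : Module.Flat (Localization.AtPrime q.asIdeal) (Localization.AtPrime 𝔫.asIdeal) :=
    (Module.flat_iff_of_isLocalization (Localization.AtPrime q.asIdeal) q.asIdeal.primeCompl
      (Localization.AtPrime 𝔫.asIdeal)).mpr hflatBn
  have hfa := fa.fac q
  have hfb := fb.fac q
  have hπ := F.π_mem q
  have hnz : algebraMap A (Localization.AtPrime q.asIdeal) (a * b) ∈
      nonZeroDivisors (Localization.AtPrime q.asIdeal) := by
    rw [map_mul, hfa, hfb]
    exact mul_mem (mul_mem (fa.u q).isUnit.mem_nonZeroDivisors (pow_mem hπ _))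
      (mul_mem (fb.u q).isUnit.mem_nonZeroDivisors (pow_mem hπ _))
  have hmq : algebraMap A (Localization.AtPrime q.asIdeal) (a * b) ∈
      maximalIdeal (Localization.AtPrime q.asIdeal) := map_nonunit _ _ hab
  have hdimq : ringKrullDim (Localization.AtPrime q.asIdeal) = 1 :=
    ringKrullDim_eq_one_of_nzd _ hnz hmq
  have hdimn : ringKrullDim (Localization.AtPrime 𝔫.asIdeal) = 1 :=
    ringKrullDim_eq_one_of_nzd _ (nzd_of_flat (S := Localization.AtPrime 𝔫.asIdeal) hnz)
      (map_nonunit (algebraMap (Localization.AtPrime q.asIdeal)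
        (Localization.AtPrime 𝔫.asIdeal)) _ hmq)
  have hcomp : ∀ x : A, algebraMap A' (Localization.AtPrime 𝔫.asIdeal) (algebraMap A A' x) =
      algebraMap (Localization.AtPrime q.asIdeal) (Localization.AtPrime 𝔫.asIdeal)
        (algebraMap A (Localization.AtPrime q.asIdeal) x) := by
    intro x
    rw [IsScalarTower.algebraMap_apply A' (A' ⊗[A] F.B) (Localization.AtPrime 𝔫.asIdeal),
      algebraMap_comm, IsScalarTower.algebraMap_apply A F.B (Localization.AtPrime q.asIdeal)]
    exact (Localization.localRingHom_to_map _ _ _ hq _).symm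
  have hE : Module.length (Localization.AtPrime 𝔫.asIdeal)
      (Localization.AtPrime 𝔫.asIdeal ⧸ (maximalIdeal (Localization.AtPrime q.asIdeal)).map
        (algebraMap (Localization.AtPrime q.asIdeal) (Localization.AtPrime 𝔫.asIdeal))) =
      Module.length (Localization.AtPrime 𝔫.asIdeal)
        (LocalizedModule 𝔫.asIdeal.primeCompl
          ((A' ⊗[A] F.B) ⧸ Qext A A' F.B q.asIdeal)) := by
    rw [length_localized_quotient_ideal]
    have hid : (Qext A A' F.B q.asIdeal).map
        (algebraMap (A' ⊗[A] F.B) (Localization.AtPrime 𝔫.asIdeal)) =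
        (maximalIdeal (Localization.AtPrime q.asIdeal)).map
          (algebraMap (Localization.AtPrime q.asIdeal) (Localization.AtPrime 𝔫.asIdeal)) := by
      rw [← Localization.AtPrime.map_eq_maximalIdeal, Ideal.map_map]
      show Ideal.map (algebraMap (A' ⊗[A] F.B) (Localization.AtPrime 𝔫.asIdeal))
        (Ideal.map (algebraMap F.B (A' ⊗[A] F.B)) q.asIdeal) = _
      rw [Ideal.map_map]
      congr 1
      ext x
      exact (Localization.localRingHom_to_map _ _ _ hq x).symm
    rw [hid]
  rw [hcomp a, hcomp b, hfa, hfb,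
    ← tame_flat_fac hdimq hdimn hπ (fa.u q) (fb.u q) (fa.e q) (fb.e q), hE]
  rfl

end Loc

end Groth.Agent.Helper8.FB
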