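import Mathlib
import Groth.Prelude.Def_Tame
import Groth.Agent.Lib.Helper8.Tame7

/-!
# Transport of local factors along isomorphisms; localization of tame data at a maximal ideal
-/

set_option autoImplicit false
universe u

namespace Groth.Agent.Helper8.Tame

open IsLocalRing Function

attribute [local instance] isLocalHom_atPrime

theorem ord_ringEquiv {R S : Type*} [CommRing R] [CommRing S] (ε : R ≃+* S) (x : R) :
    Ring.ord S (ε x) = Ring.ord R x := by
  have hc : Ideal.comap (ε : R →+* S) (Ideal.span {ε x}) = Ideal.span {x} := by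
    ext y
    rw [Ideal.mem_comap, Ideal.mem_span_singleton', Ideal.mem_span_singleton']
    constructor
    · rintro ⟨c, hc⟩
      refine ⟨ε.symm c, ε.injective ?_⟩
      rw [map_mul, ε.apply_symm_apply]; exact hc
    · rintro ⟨c, rfl⟩
      exact ⟨ε c, by rw [map_mul]; rfl⟩
  have h := Order.coheight_orderIso (Ideal.relIsoOfBijective (ε : R →+* S) ε.bijective)
    (Ideal.span {ε x})
  have h' : Order.coheight (Ideal.span {ε x} : Ideal S) = Order.coheight (Ideal.span {x} : Ideal R) :=
    h.symm.trans (congrArg Order.coheight hc)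
  unfold Ring.ord
  rw [Module.length_quotient, Module.length_quotient]
  exact h'

theorem ringEquiv_mem_nonZeroDivisors {R S : Type*} [CommRing R] [CommRing S] (ε : R ≃+* S)
    {x : R} (hx : x ∈ nonZeroDivisors R) : ε x ∈ nonZeroDivisors S := by
  rw [mem_nonZeroDivisors_iff_right] at hx ⊢
  intro z hz
  have h := hx (ε.symm z) (ε.injective (by rw [map_mul, ε.apply_symm_apply, hz, map_zero]))
  rw [← ε.apply_symm_apply z, h, map_zero]

theorem exists_pow_maximalIdeal_le_span {R : Type*} [CommRing R] [IsLocalRing R]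
    [IsNoetherianRing R] [Ring.KrullDimLE 1 R] {y : R} (hy : y ∈ nonZeroDivisors R) :
    ∃ k : ℕ, maximalIdeal R ^ k ≤ Ideal.span {y} := by
  apply Ideal.exists_pow_le_of_le_radical_of_fg _ (maximalIdeal R).fg_of_isNoetherianRing
  rw [Ideal.radical_eq_sInf]
  apply le_sInf
  rintro P ⟨hyP, hP⟩
  rcases (Ring.krullDimLE_one_iff.mp inferInstance) P hP with hmin | hmax
  · exfalso
    exact Set.disjoint_left.mp (Ideal.disjoint_nonZeroDivisors_of_mem_minimalPrimes hmin)
      (hyP (Ideal.mem_span_singleton_self y)) hy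
  · rw [IsLocalRing.eq_maximalIdeal hmax]

theorem tameSymbol_eq_value (R : Type u) [CommRing R] [IsLocalRing R] [IsNoetherianRing R]
    [Ring.KrullDimLE 1 R] {x y : R} (hx : x ∈ nonZeroDivisors R) (hy : y ∈ nonZeroDivisors R)
    (D : CycAlg.TameData R x y) : CycAlg.tameSymbol R x y = D.value := by
  have hne : Nonempty (CycAlg.TameData R x y) := ⟨D⟩
  unfold CycAlg.tameSymbol
  rw [dif_pos hne]
  exact value_eq R hx hy _ D

section Transport

variable (A : Type u) [CommRing A] [IsLocalRing A]
variable {R S : Type u} [CommRing R] [IsLocalRing R] [CommRing S] [IsLocalRing S]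
  [Algebra A R] [Algebra A S] [IsLocalHom (algebraMap A R)] [IsLocalHom (algebraMap A S)]

/-- the isomorphism of residue fields over the residue field of `A` -/
noncomputable def resEquiv (ε : R ≃+* S) (hε : ∀ a, ε (algebraMap A R a) = algebraMap A S a) :
    ResidueField R ≃ₐ[ResidueField A] ResidueField S :=
  AlgEquiv.ofRingEquiv (f := ResidueField.mapEquiv ε) (by
    intro x
    obtain ⟨a, rfl⟩ := residue_surjective x
    show ResidueField.map (ε : R →+* S) (residue R (algebraMap A R a))
      = residue S (algebraMap A S a)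
    rw [ResidueField.map_residue]
    congr 1
    exact hε a)

theorem resEquiv_residue (ε : R ≃+* S) (hε : ∀ a, ε (algebraMap A R a) = algebraMap A S a)
    (x : R) : resEquiv A ε hε (residue R x) = residue S (ε x) := rfl

theorem theta_transport (ε : R ≃+* S) (hε : ∀ a, ε (algebraMap A R a) = algebraMap A S a)
    (u₁ u₂ : Rˣ) (u₁' u₂' : Sˣ) (hu₁ : (u₁' : S) = ε u₁) (hu₂ : (u₂' : S) = ε u₂)
    (e₁ e₂ : ℕ) :
    theta S u₁' u₂' e₁ e₂ = resEquiv A ε hε (theta R u₁ u₂ e₁ e₂) := by
  unfold theta
  rw [map_mul, map_mul, map_pow, map_pow, map_neg, map_one, map_inv₀, map_pow,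
    resEquiv_residue, resEquiv_residue, hu₁, hu₂]

theorem locFac_transport (ε : R ≃+* S) (hε : ∀ a, ε (algebraMap A R a) = algebraMap A S a)
    (π : R) (π' : S) (hπ : π' = ε π)
    (u₁ u₂ : Rˣ) (u₁' u₂' : Sˣ) (hu₁ : (u₁' : S) = ε u₁) (hu₂ : (u₂' : S) = ε u₂)
    (e₁ e₂ : ℕ) :
    locFac A S π' u₁' u₂' e₁ e₂ = locFac A R π u₁ u₂ e₁ e₂ := by
  unfold locFac
  rw [theta_transport A ε hε u₁ u₂ u₁' u₂' hu₁ hu₂, Algebra.norm_eq_of_algEquiv, hπ,
    ord_ringEquiv ε π]

end Transport

section NormTower

variable (A : Type u) [CommRing A] [IsLocalRing A]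
variable (R S : Type u) [CommRing R] [IsLocalRing R] [CommRing S] [IsLocalRing S]
variable [Algebra A R] [Algebra A S] [Algebra R S] [IsScalarTower A R S]
variable [IsLocalHom (algebraMap A R)] [IsLocalHom (algebraMap A S)]
  [IsLocalHom (algebraMap R S)]

theorem norm_locFac (π : S) (u₁ u₂ : Sˣ) (e₁ e₂ : ℕ) :
    Algebra.norm (ResidueField A) (locFac R S π u₁ u₂ e₁ e₂) = locFac A S π u₁ u₂ e₁ e₂ := by
  unfold locFac
  rw [map_pow, Algebra.norm_norm]

end NormTower

end Groth.Agent.Helper8.Tame
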