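import Mathlib
import Groth.Prelude.Def_Tame
import Groth.Agent.Lib.Helper8.Tame11

/-!
# Localization of tame data at a maximal ideal of an intermediate ring
-/

set_option autoImplicit false
universe u

namespace Groth.Agent.Helper8.Tame

open IsLocalRing Function

attribute [local instance] isLocalHom_atPrime

section Loc

variable {B : Type u} [CommRing B] (C : Type u) [CommRing C] [Algebra B C] [Module.Finite B C]
variable (q : MaximalSpectrum B)

/-- the image of the complement of `q` -/
abbrev Mq : Submonoid C := Algebra.algebraMapSubmonoid C q.asIdeal.primeCompl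

/-- the localization of `C` at `q` -/
abbrev Eloc : Type u := Localization (Mq C q)

instance finite_Eloc : Module.Finite (Localization.AtPrime q.asIdeal) (Eloc C q) :=
  Module.Finite.of_isLocalization B C q.asIdeal.primeCompl

/-- the maximal ideal of `B` below a maximal ideal of `C` -/
noncomputable def qB (n : MaximalSpectrum C) : MaximalSpectrum B :=
  ⟨n.asIdeal.comap (algebraMap B C), by
    haveI : Algebra.IsIntegral B C := Algebra.IsIntegral.of_finite B C
    exact Ideal.isMaximal_comap_of_isIntegral_of_isMaximal n.asIdeal⟩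

theorem comap_toB (n' : MaximalSpectrum (Eloc C q)) :
    (n'.asIdeal.comap (algebraMap C (Eloc C q))).comap (algebraMap B C) = q.asIdeal := by
  have h1 : n'.asIdeal.comap (algebraMap (Localization.AtPrime q.asIdeal) (Eloc C q))
      = maximalIdeal _ :=
    comap_eq_maximalIdeal (Localization.AtPrime q.asIdeal) (Eloc C q) n'.asIdeal
  rw [Ideal.comap_comap, ← IsScalarTower.algebraMap_eq B C (Eloc C q),
    IsScalarTower.algebraMap_eq B (Localization.AtPrime q.asIdeal) (Eloc C q),
    ← Ideal.comap_comap, h1]
  exact IsLocalization.AtPrime.comap_maximalIdeal (Localization.AtPrime q.asIdeal) q.asIdeal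

/-- the maximal ideal of `C` below a maximal ideal of `C_q` -/
noncomputable def toC (n' : MaximalSpectrum (Eloc C q)) : MaximalSpectrum C :=
  ⟨n'.asIdeal.comap (algebraMap C (Eloc C q)), by
    haveI : Algebra.IsIntegral B C := Algebra.IsIntegral.of_finite B C
    haveI : (n'.asIdeal.comap (algebraMap C (Eloc C q))).IsPrime := Ideal.comap_isPrime _ _
    apply Ideal.isMaximal_of_isIntegral_of_isMaximal_comap (R := B)
    rw [comap_toB C q n']
    exact q.isMaximal⟩

theorem toC_injective : Injective (toC C q) := by
  intro n₁ n₂ h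
  have h' : n₁.asIdeal.comap (algebraMap C (Eloc C q))
      = n₂.asIdeal.comap (algebraMap C (Eloc C q)) := congrArg MaximalSpectrum.asIdeal h
  apply MaximalSpectrum.ext
  have e₁ := IsLocalization.map_comap (Mq C q) (Eloc C q) n₁.asIdeal
  have e₂ := IsLocalization.map_comap (Mq C q) (Eloc C q) n₂.asIdeal
  rw [← e₁, ← e₂]
  exact congrArg (Ideal.map (algebraMap C (Eloc C q))) h'

theorem qB_toC (n' : MaximalSpectrum (Eloc C q)) : qB C (toC C q n') = q :=
  MaximalSpectrum.ext (comap_toB C q n')

theorem exists_toC_eq (n : MaximalSpectrum C) (hn : qB C n = q) : ∃ n', toC C q n' = n := by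
  have hn' : n.asIdeal.comap (algebraMap B C) = q.asIdeal := congrArg MaximalSpectrum.asIdeal hn
  have hdisj : Disjoint (Mq C q : Set C) (n.asIdeal : Set C) := by
    rw [Set.disjoint_left]
    rintro _ ⟨s, hs, rfl⟩ hmem
    apply hs
    rw [← hn']; exact hmem
  have hprime : (n.asIdeal.map (algebraMap C (Eloc C q))).IsPrime :=
    IsLocalization.isPrime_of_isPrime_disjoint (Mq C q) (Eloc C q) _ n.isMaximal.isPrime hdisj
  have hcomap : (n.asIdeal.map (algebraMap C (Eloc C q))).comap (algebraMap C (Eloc C q))
      = n.asIdeal :=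
    IsLocalization.comap_map_of_isPrime_disjoint (Mq C q) (Eloc C q) n.isMaximal.isPrime hdisj
  obtain ⟨P, hPmax, hP⟩ := Ideal.exists_le_maximal _ hprime.ne_top
  have hPn : P.comap (algebraMap C (Eloc C q)) = n.asIdeal := by
    symm
    apply n.isMaximal.eq_of_le (Ideal.comap_ne_top _ hPmax.ne_top)
    rw [← hcomap]; exact Ideal.comap_mono hP
  exact ⟨⟨P, hPmax⟩, MaximalSpectrum.ext hPn⟩

/-- the comparison isomorphism of local rings -/
noncomputable def epsC (n' : MaximalSpectrum (Eloc C q)) :
    Localization.AtPrime (toC C q n').asIdeal ≃ₐ[C] Localization.AtPrime n'.asIdeal :=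
  IsLocalization.localizationLocalizationAtPrimeIsoLocalization (Mq C q) n'.asIdeal

omit [Module.Finite B C] in
theorem tower_B_Rq_En (n' : MaximalSpectrum (Eloc C q)) :
    IsScalarTower B (Localization.AtPrime q.asIdeal) (Localization.AtPrime n'.asIdeal) := by
  refine IsScalarTower.of_algebraMap_eq (fun b => ?_)
  rw [IsScalarTower.algebraMap_apply B (Eloc C q) (Localization.AtPrime n'.asIdeal),
    IsScalarTower.algebraMap_apply B (Localization.AtPrime q.asIdeal) (Eloc C q),
    ← IsScalarTower.algebraMap_apply (Localization.AtPrime q.asIdeal) (Eloc C q)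
      (Localization.AtPrime n'.asIdeal)]

end Loc

end Groth.Agent.Helper8.Tame
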