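import Mathlib
import Groth.Prelude.Def_Tame
import Groth.Agent.Lib.Helper8.Tame12

/-!
# The tame data over `B_q` obtained by localizing data on a finite `B`-algebra `C`
-/

set_option autoImplicit false
universe u

namespace Groth.Agent.Helper8.Tame

open IsLocalRing Function

attribute [local instance] isLocalHom_atPrime

section FinExt

variable {B : Type u} [CommRing B] (C : Type u) [CommRing C] [Algebra B C] [Module.Finite B C]
variable (q : MaximalSpectrum B)

theorem isFinExt_loc [IsNoetherianRing B] [Ring.KrullDimLE 1 B]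
    (hinj : Injective (algebraMap B C)) (x₀ : B) (N₀ : ℕ)
    (hx₀ : ∀ c : C, ∃ b : B, algebraMap B C b = x₀ ^ N₀ • c)
    (hnzd : algebraMap B (Localization.AtPrime q.asIdeal) x₀ ∈
      nonZeroDivisors (Localization.AtPrime q.asIdeal)) :
    CycAlg.IsFinExt (Localization.AtPrime q.asIdeal) (Eloc C q)
      (maximalIdeal (Localization.AtPrime q.asIdeal)) := by
  haveI : IsNoetherianRing (Localization.AtPrime q.asIdeal) :=
    IsLocalization.isNoetherianRing q.asIdeal.primeCompl _ inferInstance
  haveI := krullDimLE_one_atPrime B q.asIdeal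
  refine ⟨localizationAlgebra_injective (M := q.asIdeal.primeCompl) (S := C)
    (Localization.AtPrime q.asIdeal) (Eloc C q) hinj, inferInstance, ?_⟩
  have hy : algebraMap B (Localization.AtPrime q.asIdeal) (x₀ ^ N₀) ∈
      nonZeroDivisors (Localization.AtPrime q.asIdeal) := by
    rw [map_pow]; exact pow_mem hnzd N₀
  obtain ⟨k, hk⟩ := exists_pow_maximalIdeal_le_span hy
  refine ⟨k, fun r hr e => ?_⟩
  obtain ⟨ρ, rfl⟩ := Ideal.mem_span_singleton'.mp (hk hr)
  obtain ⟨⟨c, s⟩, hcs⟩ := IsLocalization.surj (Mq C q) e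
  dsimp only at hcs
  obtain ⟨t, ht, hts⟩ := s.2
  obtain ⟨b, hb⟩ := hx₀ c
  refine RingHom.mem_range.mpr ⟨ρ * IsLocalization.mk' (Localization.AtPrime q.asIdeal) b
    (⟨t, ht⟩ : q.asIdeal.primeCompl), ?_⟩
  have hunit : IsUnit (algebraMap C (Eloc C q) s) := IsLocalization.map_units _ s
  apply hunit.mul_right_cancel
  have T1 : ∀ b' : B, algebraMap (Localization.AtPrime q.asIdeal) (Eloc C q)
      (algebraMap B (Localization.AtPrime q.asIdeal) b')
      = algebraMap C (Eloc C q) (algebraMap B C b') := fun b' =>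
    (IsScalarTower.algebraMap_apply B (Localization.AtPrime q.asIdeal) (Eloc C q) b').symm.trans
      (IsScalarTower.algebraMap_apply B C (Eloc C q) b')
  have hmk : IsLocalization.mk' (Localization.AtPrime q.asIdeal) b
      (⟨t, ht⟩ : q.asIdeal.primeCompl) * algebraMap B (Localization.AtPrime q.asIdeal) t
      = algebraMap B (Localization.AtPrime q.asIdeal) b := IsLocalization.mk'_spec _ b ⟨t, ht⟩
  have hL : algebraMap (Localization.AtPrime q.asIdeal) (Eloc C q)
      (ρ * IsLocalization.mk' (Localization.AtPrime q.asIdeal) b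
        (⟨t, ht⟩ : q.asIdeal.primeCompl)) * algebraMap C (Eloc C q) s
      = algebraMap (Localization.AtPrime q.asIdeal) (Eloc C q) ρ
        * (algebraMap C (Eloc C q) (algebraMap B C (x₀ ^ N₀)) * algebraMap C (Eloc C q) c) := by
    rw [← hts, ← T1 t, map_mul, mul_assoc, ← map_mul, hmk, T1 b, hb, Algebra.smul_def, map_mul]
  have hR : ((ρ * algebraMap B (Localization.AtPrime q.asIdeal) (x₀ ^ N₀)) • e)
      * algebraMap C (Eloc C q) s
      = algebraMap (Localization.AtPrime q.asIdeal) (Eloc C q) ρ
        * (algebraMap C (Eloc C q) (algebraMap B C (x₀ ^ N₀)) * algebraMap C (Eloc C q) c) := by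
    rw [Algebra.smul_def, map_mul, T1, mul_assoc, mul_assoc, hcs]
  rw [hL, hR]

end FinExt

section Data

variable {B : Type u} [CommRing B] (C : Type u) [CommRing C] [Algebra B C] [Module.Finite B C]
variable (q : MaximalSpectrum B)

omit [Module.Finite B C] in
theorem tower_B_C_En (n' : MaximalSpectrum (Eloc C q)) :
    IsScalarTower B C (Localization.AtPrime n'.asIdeal) := by
  refine IsScalarTower.of_algebraMap_eq (fun b => ?_)
  rw [IsScalarTower.algebraMap_apply B (Eloc C q) (Localization.AtPrime n'.asIdeal),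
    IsScalarTower.algebraMap_apply B C (Eloc C q),
    ← IsScalarTower.algebraMap_apply C (Eloc C q) (Localization.AtPrime n'.asIdeal)]

variable (a₀ b₀ : B) (π : ∀ n : MaximalSpectrum C, Localization.AtPrime n.asIdeal)
  (hπ : ∀ n, π n ∈ nonZeroDivisors (Localization.AtPrime n.asIdeal))
  (u₁ u₂ : ∀ n : MaximalSpectrum C, (Localization.AtPrime n.asIdeal)ˣ)
  (e₁ e₂ : MaximalSpectrum C → ℕ)
  (fac₁ : ∀ n, algebraMap B (Localization.AtPrime n.asIdeal) a₀ =
    (u₁ n : Localization.AtPrime n.asIdeal) * π n ^ e₁ n)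
  (fac₂ : ∀ n, algebraMap B (Localization.AtPrime n.asIdeal) b₀ =
    (u₂ n : Localization.AtPrime n.asIdeal) * π n ^ e₂ n)
  (hfe : CycAlg.IsFinExt (Localization.AtPrime q.asIdeal) (Eloc C q)
    (maximalIdeal (Localization.AtPrime q.asIdeal)))

include fac₁ in
theorem fac_loc (n' : MaximalSpectrum (Eloc C q)) :
    algebraMap (Localization.AtPrime q.asIdeal) (Localization.AtPrime n'.asIdeal)
      (algebraMap B (Localization.AtPrime q.asIdeal) a₀) =
    ((Units.map ((epsC C q n' : _ →* _)) (u₁ (toC C q n')) :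
      (Localization.AtPrime n'.asIdeal)ˣ) : Localization.AtPrime n'.asIdeal) *
      (epsC C q n' (π (toC C q n'))) ^ e₁ (toC C q n') := by
  haveI := tower_B_Rq_En C q n'
  haveI := tower_B_C_En C q n'
  have h1 : algebraMap (Localization.AtPrime q.asIdeal) (Localization.AtPrime n'.asIdeal)
      (algebraMap B (Localization.AtPrime q.asIdeal) a₀)
      = algebraMap B (Localization.AtPrime n'.asIdeal) a₀ :=
    (IsScalarTower.algebraMap_apply B _ _ a₀).symm
  have h2 : algebraMap B (Localization.AtPrime n'.asIdeal) a₀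
      = epsC C q n' (algebraMap B (Localization.AtPrime (toC C q n').asIdeal) a₀) := by
    rw [IsScalarTower.algebraMap_apply B C (Localization.AtPrime n'.asIdeal),
      IsScalarTower.algebraMap_apply B C (Localization.AtPrime (toC C q n').asIdeal),
      AlgEquiv.commutes]
  rw [h1, h2, fac₁, map_mul, map_pow]
  rfl

/-- the localized tame data -/
noncomputable def locData :
    CycAlg.TameData (Localization.AtPrime q.asIdeal)
      (algebraMap B (Localization.AtPrime q.asIdeal) a₀)
      (algebraMap B (Localization.AtPrime q.asIdeal) b₀) where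
  B := Eloc C q
  isFinExt := hfe
  isLocalHom n' := isLocalHom_atPrime (Localization.AtPrime q.asIdeal) (Eloc C q) n'.asIdeal
  π n' := epsC C q n' (π (toC C q n'))
  π_mem n' := ringEquiv_mem_nonZeroDivisors (epsC C q n').toRingEquiv (hπ _)
  u₁ n' := Units.map ((epsC C q n' : _ →* _)) (u₁ (toC C q n'))
  u₂ n' := Units.map ((epsC C q n' : _ →* _)) (u₂ (toC C q n'))
  e₁ n' := e₁ (toC C q n')
  e₂ n' := e₂ (toC C q n')
  fac₁ n' := fac_loc C q a₀ π u₁ e₁ fac₁ n'
  fac₂ n' := fac_loc C q b₀ π u₂ e₂ fac₂ n'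

end Data

end Groth.Agent.Helper8.Tame
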