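import Mathlib
import Groth.Prelude.Def_Tame
import Groth.Agent.Lib.Helper8.Tame13

/-!
# The norm of the value of the localized tame data
-/

set_option autoImplicit false
universe u

namespace Groth.Agent.Helper8.Tame

open IsLocalRing Function

attribute [local instance] isLocalHom_atPrime

section WithA

variable (A : Type u) [CommRing A] [IsLocalRing A]
variable {B : Type u} [CommRing B] (C : Type u) [CommRing C] [Algebra B C] [Module.Finite B C]
variable [Algebra A B] [Algebra A C] [IsScalarTower A B C] [Module.Finite A B]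
  [Module.Finite A C]
variable (q : MaximalSpectrum B)

omit [IsLocalRing A] [Module.Finite B C] [Module.Finite A B] [Module.Finite A C]
  [IsScalarTower A B C] in
theorem tower_A_C_En (n' : MaximalSpectrum (Eloc C q)) :
    IsScalarTower A C (Localization.AtPrime n'.asIdeal) := by
  refine IsScalarTower.of_algebraMap_eq (fun a => ?_)
  rw [IsScalarTower.algebraMap_apply A (Eloc C q) (Localization.AtPrime n'.asIdeal),
    IsScalarTower.algebraMap_apply A C (Eloc C q),
    ← IsScalarTower.algebraMap_apply C (Eloc C q) (Localization.AtPrime n'.asIdeal)]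

omit [IsLocalRing A] [Module.Finite B C] [Module.Finite A B] [Module.Finite A C] in
theorem tower_A_Rq_En (n' : MaximalSpectrum (Eloc C q)) :
    IsScalarTower A (Localization.AtPrime q.asIdeal) (Localization.AtPrime n'.asIdeal) := by
  haveI := tower_B_Rq_En C q n'
  haveI := tower_B_C_En C q n'
  haveI := tower_A_C_En A C q n'
  refine IsScalarTower.of_algebraMap_eq (fun a => ?_)
  rw [IsScalarTower.algebraMap_apply A B (Localization.AtPrime q.asIdeal),
    ← IsScalarTower.algebraMap_apply B (Localization.AtPrime q.asIdeal)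
      (Localization.AtPrime n'.asIdeal),
    IsScalarTower.algebraMap_apply A C (Localization.AtPrime n'.asIdeal),
    IsScalarTower.algebraMap_apply A B C,
    ← IsScalarTower.algebraMap_apply B C (Localization.AtPrime n'.asIdeal)]

omit [Module.Finite A C] in
theorem isLocalHom_A_En (n' : MaximalSpectrum (Eloc C q)) :
    IsLocalHom (algebraMap A (Localization.AtPrime n'.asIdeal)) := by
  haveI := tower_A_Rq_En A C q n'
  rw [IsScalarTower.algebraMap_eq A (Localization.AtPrime q.asIdeal)
    (Localization.AtPrime n'.asIdeal)]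
  exact RingHom.isLocalHom_comp _ _

variable (a₀ b₀ : B) (π : ∀ n : MaximalSpectrum C, Localization.AtPrime n.asIdeal)
  (hπ : ∀ n, π n ∈ nonZeroDivisors (Localization.AtPrime n.asIdeal))
  (u₁ u₂ : ∀ n : MaximalSpectrum C, (Localization.AtPrime n.asIdeal)ˣ)
  (e₁ e₂ : MaximalSpectrum C → ℕ)
  (fac₁ : ∀ n, algebraMap B (Localization.AtPrime n.asIdeal) a₀ =
    (u₁ n : Localization.AtPrime n.asIdeal) * π n ^ e₁ n)
  (fac₂ : ∀ n, algebraMap B (Localization.AtPrime n.asIdeal) b₀ =
    (u₂ n : Localization.AtPrime n.asIdeal) * π n ^ e₂ n)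
  (hfe : CycAlg.IsFinExt (Localization.AtPrime q.asIdeal) (Eloc C q)
    (maximalIdeal (Localization.AtPrime q.asIdeal)))

theorem norm_localFactor (n' : MaximalSpectrum (Eloc C q)) :
    Algebra.norm (ResidueField A)
      ((locData C q a₀ b₀ π hπ u₁ u₂ e₁ e₂ fac₁ fac₂ hfe).localFactor n') =
    locFac A (Localization.AtPrime (toC C q n').asIdeal) (π (toC C q n'))
      (u₁ (toC C q n')) (u₂ (toC C q n')) (e₁ (toC C q n')) (e₂ (toC C q n')) := by
  haveI := tower_A_Rq_En A C q n'
  haveI := tower_A_C_En A C q n'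
  haveI := isLocalHom_A_En A C q n'
  have h1 := norm_locFac A (Localization.AtPrime q.asIdeal) (Localization.AtPrime n'.asIdeal)
    (epsC C q n' (π (toC C q n')))
    (Units.map ((epsC C q n' : _ →* _)) (u₁ (toC C q n')))
    (Units.map ((epsC C q n' : _ →* _)) (u₂ (toC C q n')))
    (e₁ (toC C q n')) (e₂ (toC C q n'))
  have h0 : (locData C q a₀ b₀ π hπ u₁ u₂ e₁ e₂ fac₁ fac₂ hfe).localFactor n' =
      locFac (Localization.AtPrime q.asIdeal) (Localization.AtPrime n'.asIdeal)
        (epsC C q n' (π (toC C q n')))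
        (Units.map ((epsC C q n' : _ →* _)) (u₁ (toC C q n')))
        (Units.map ((epsC C q n' : _ →* _)) (u₂ (toC C q n')))
        (e₁ (toC C q n')) (e₂ (toC C q n')) := rfl
  rw [h0, h1]
  refine locFac_transport A (epsC C q n').toRingEquiv (fun a => ?_) _ _ rfl _ _ _ _ rfl rfl _ _
  rw [IsScalarTower.algebraMap_apply A C (Localization.AtPrime (toC C q n').asIdeal),
    IsScalarTower.algebraMap_apply A C (Localization.AtPrime n'.asIdeal)]
  exact (epsC C q n').commutes _

theorem norm_value_locData [Fintype (MaximalSpectrum C)] [DecidableEq (MaximalSpectrum B)] :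
    Algebra.norm (ResidueField A)
      (locData C q a₀ b₀ π hπ u₁ u₂ e₁ e₂ fac₁ fac₂ hfe).value =
    ∏ n ∈ Finset.univ.filter (fun n : MaximalSpectrum C => qB C n = q),
      locFac A (Localization.AtPrime n.asIdeal) (π n) (u₁ n) (u₂ n) (e₁ n) (e₂ n) := by
  classical
  have : Finite (MaximalSpectrum (Eloc C q)) :=
    finite_maximalSpectrum (Localization.AtPrime q.asIdeal) (Eloc C q)
  let _ := Fintype.ofFinite (MaximalSpectrum (Eloc C q))
  have himg : Finset.univ.filter (fun n : MaximalSpectrum C => qB C n = q)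
      = Finset.univ.image (toC C q) := by
    ext n
    simp only [Finset.mem_filter, Finset.mem_univ, true_and, Finset.mem_image]
    constructor
    · intro h; exact exists_toC_eq C q n h
    · rintro ⟨n', rfl⟩; exact qB_toC C q n'
  rw [himg, Finset.prod_image (fun x _ y _ h => toC_injective C q h)]
  show Algebra.norm (ResidueField A) (∏ᶠ n' : MaximalSpectrum (Eloc C q),
    (locData C q a₀ b₀ π hπ u₁ u₂ e₁ e₂ fac₁ fac₂ hfe).localFactor n') = _
  rw [finprod_eq_prod_of_fintype, map_prod]
  exact Finset.prod_congr rfl fun n' _ =>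
    norm_localFactor A C q a₀ b₀ π hπ u₁ u₂ e₁ e₂ fac₁ fac₂ hfe n'

end WithA

end Groth.Agent.Helper8.Tame
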