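import Mathlib
import Groth.Prelude.Def_Tame
import Groth.Agent.Lib.Helper8.Tame8
import Groth.Agent.Lib.Helper8.Tame14

/-!
# The norm formula for the tame symbol along a finite extension
-/

set_option autoImplicit false
universe u

namespace Groth.Agent.Helper8.Tame

open IsLocalRing Function TensorProduct

attribute [local instance] isLocalHom_atPrime

/-- The common refinement of two finite extensions, with an explicit killing power. -/
theorem exists_refinement' {A : Type u} [CommRing A] (a : A) {B B' : Type u} [CommRing B]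
    [CommRing B'] [Algebra A B] [Algebra A B'] [IsLocalRing A] [IsNoetherianRing A]
    [Ring.KrullDimLE 1 A]
    (hB : CycAlg.IsFinExt A B (maximalIdeal A)) (hB' : CycAlg.IsFinExt A B' (maximalIdeal A))
    (ham : a ∈ maximalIdeal A) (ha : a ∈ nonZeroDivisors A)
    (haB : algebraMap A B a ∈ nonZeroDivisors B)
    (haB' : algebraMap A B' a ∈ nonZeroDivisors B') :
    ∃ (C : Type u) (_ : CommRing C) (_ : Algebra A C) (_ : Module.Finite A C)
      (φ : B →ₐ[A] C) (φ' : B' →ₐ[A] C),
      Injective φ ∧ Injective φ' ∧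
      (∃ N : ℕ, ∀ c : C, ∃ b, φ b = a ^ N • c) ∧
      Module.length A (C ⧸ LinearMap.range φ'.toLinearMap) ≠ ⊤ ∧
      algebraMap A C a ∈ nonZeroDivisors C := by
  obtain ⟨hinj, hfinB, N, hN⟩ := hB
  obtain ⟨hinj', hfinB', N', hN'⟩ := hB'
  obtain ⟨l, hl⟩ := exists_lam hinj (a ^ N) (hN _ (Ideal.pow_mem_pow ham N))
  obtain ⟨l', hl'⟩ := exists_lam hinj' (a ^ N') (hN' _ (Ideal.pow_mem_pow ham N'))
  have hl1 : l 1 = a ^ N := by
    apply hinj
    rw [hl, Algebra.algebraMap_eq_smul_one]
  have hl'1 : l' 1 = a ^ N' := by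
    apply hinj'
    rw [hl', Algebra.algebraMap_eq_smul_one]
  have hfinT : Module.Finite A (B ⊗[A] B') := inferInstance
  have hfinC := finite_quot a (B ⊗[A] B')
  let ρ : B ⊗[A] B' →ₗ[A] B := (TensorProduct.rid A B).toLinearMap ∘ₗ (LinearMap.lTensor B l')
  let ρ' : B ⊗[A] B' →ₗ[A] B' := (TensorProduct.lid A B').toLinearMap ∘ₗ (LinearMap.rTensor B' l)
  have hρ : ∀ b : B, ρ ((Algebra.TensorProduct.includeLeft : B →ₐ[A] B ⊗[A] B') b) =
      a ^ N' • b := by
    intro b
    simp only [ρ, Algebra.TensorProduct.includeLeft_apply, LinearMap.comp_apply,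
      LinearMap.lTensor_tmul, LinearEquiv.coe_coe, TensorProduct.rid_tmul, hl'1]
  have hρ' : ∀ b' : B', ρ' ((Algebra.TensorProduct.includeRight : B' →ₐ[A] B ⊗[A] B') b') =
      a ^ N • b' := by
    intro b'
    simp only [ρ', Algebra.TensorProduct.includeRight_apply, LinearMap.comp_apply,
      LinearMap.rTensor_tmul, LinearEquiv.coe_coe, TensorProduct.lid_tmul, hl1]
  refine ⟨(B ⊗[A] B') ⧸ torsIdeal a (B ⊗[A] B'), inferInstance, inferInstance, hfinC,
    (Ideal.Quotient.mkₐ A _).comp Algebra.TensorProduct.includeLeft,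
    (Ideal.Quotient.mkₐ A _).comp Algebra.TensorProduct.includeRight, ?_, ?_, ?_, ?_, ?_⟩
  · exact injective_mk_comp a _ _ ρ N' hρ haB
  · exact injective_mk_comp a _ _ ρ' N hρ' haB'
  · exact ⟨N', smul_mem_range_mk_comp a _ _ N' (includeLeft_range a N' l' hl')⟩
  · exact length_quotient_range_ne_top _ a ha N
      (smul_mem_range_mk_comp a _ _ N (includeRight_range a N l hl))
  · exact algebraMap_mem_nonZeroDivisors_quot a _

theorem algebraMap_mem_nonZeroDivisors_of_not_ass {A : Type u} [CommRing A] [IsLocalRing A]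
    [IsNoetherianRing A] [Ring.KrullDimLE 1 A] {B : Type u} [CommRing B] [Algebra A B]
    (hass : maximalIdeal A ∉ associatedPrimes A B) {x : A} (hx : x ∈ nonZeroDivisors A) :
    algebraMap A B x ∈ nonZeroDivisors B := by
  rw [mem_nonZeroDivisors_iff_right]
  intro y hy
  by_contra hne
  obtain ⟨P, hP, hle⟩ := exists_le_isAssociatedPrime_of_isNoetherianRing A y hne
  have hxP : x ∈ P := hle (Submodule.mem_colon_singleton.mpr (by
    rw [Submodule.mem_bot, Algebra.smul_def, mul_comm]; exact hy))
  have hPprime := hP.isPrime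
  rcases (Ring.krullDimLE_one_iff.mp inferInstance) P hPprime with hmin | hmax
  · exact Set.disjoint_left.mp (Ideal.disjoint_nonZeroDivisors_of_mem_minimalPrimes hmin) hxP hx
  · exact hass (IsLocalRing.eq_maximalIdeal hmax ▸ hP)

theorem tameSymbol_eq_finprod_norm (A : Type u) [CommRing A] [IsNoetherianRing A]
    [IsLocalRing A] (hA : ringKrullDim A = 1) (B : Type u) [CommRing B] [Algebra A B]
    (hB : CycAlg.IsFinExt A B (maximalIdeal A))
    (hass : maximalIdeal A ∉ associatedPrimes A B)
    [hloc : ∀ q : MaximalSpectrum B, IsLocalHom (algebraMap A (Localization.AtPrime q.asIdeal))]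
    (a b : A) (ha : a ∈ nonZeroDivisors A) (hb : b ∈ nonZeroDivisors A) :
    CycAlg.tameSymbol A a b = ∏ᶠ q : MaximalSpectrum B, Algebra.norm (ResidueField A)
      (CycAlg.tameSymbol (Localization.AtPrime q.asIdeal)
        (algebraMap A (Localization.AtPrime q.asIdeal) a)
        (algebraMap A (Localization.AtPrime q.asIdeal) b)) := by
  classical
  have hfinB : Module.Finite A B := hB.2.1
  have hdim : Ring.KrullDimLE 1 A := by
    rw [Ring.krullDimLE_iff, hA]
    simp
  have hNB := isNoetherianRing_of_finite A B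
  have hDB := krullDimLE_one_of_finite A B
  have hFB : Finite (MaximalSpectrum B) := finite_maximalSpectrum A B
  let _ := Fintype.ofFinite (MaximalSpectrum B)
  have hNq : ∀ q : MaximalSpectrum B, IsNoetherianRing (Localization.AtPrime q.asIdeal) :=
    fun q => IsLocalization.isNoetherianRing q.asIdeal.primeCompl _ inferInstance
  have hDq : ∀ q : MaximalSpectrum B, Ring.KrullDimLE 1 (Localization.AtPrime q.asIdeal) :=
    fun q => krullDimLE_one_atPrime B q.asIdeal
  by_cases hu : IsUnit a ∧ IsUnit b
  · rw [tameSymbol_eq_one_of_isUnit hu.1 hu.2]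
    symm
    apply finprod_eq_one_of_forall_eq_one
    intro q
    rw [tameSymbol_eq_one_of_isUnit (hu.1.map _) (hu.2.map _), map_one]
  · have hx : a * b ∈ maximalIdeal A := by
      rw [IsLocalRing.mem_maximalIdeal]
      intro h
      exact hu ⟨isUnit_of_mul_isUnit_left h, isUnit_of_mul_isUnit_right h⟩
    have hxnz : a * b ∈ nonZeroDivisors A := mul_mem ha hb
    have haB : algebraMap A B (a * b) ∈ nonZeroDivisors B :=
      algebraMap_mem_nonZeroDivisors_of_not_ass hass hxnz
    have haB1 : algebraMap A B a ∈ nonZeroDivisors B :=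
      algebraMap_mem_nonZeroDivisors_of_not_ass hass ha
    have haB2 : algebraMap A B b ∈ nonZeroDivisors B :=
      algebraMap_mem_nonZeroDivisors_of_not_ass hass hb
    obtain ⟨F, hF⟩ := exists_facSys hA 2 le_rfl ![a, b]
      (by intro i; fin_cases i; exacts [ha, hb])
      (by
        by_contra hall
        push_neg at hall
        exact hu ⟨hall 0, hall 1⟩)
    obtain ⟨fa⟩ : Nonempty (Fac F a) := hF 0
    obtain ⟨fb⟩ : Nonempty (Fac F b) := hF 1
    obtain ⟨D'⟩ : Nonempty (CycAlg.TameData A a b) := ⟨F.toTameData fa fb⟩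
    have hfinD : Module.Finite A D'.B := D'.isFinExt.2.1
    have haB' : algebraMap A D'.B (a * b) ∈ nonZeroDivisors D'.B :=
      algebraMap_mul_mem_nonZeroDivisors A D'
    obtain ⟨C, instC, instAlg, instFin, φ, φ', hφ, hφ', ⟨N, hN⟩, hfin', haC⟩ :=
      exists_refinement' (a * b) hB D'.isFinExt hx hxnz haB haB'
    letI algBC : Algebra B C := φ.toRingHom.toAlgebra
    have towerABC : IsScalarTower A B C :=
      IsScalarTower.of_algebraMap_eq (fun r => (φ.commutes r).symm)
    haveI finBC : Module.Finite B C := Module.Finite.of_restrictScalars_finite A B C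
    have hinjBC : Injective (algebraMap B C) := hφ
    have hN' : ∀ c : C, ∃ b' : B, algebraMap B C b' = (algebraMap A B (a * b)) ^ N • c := by
      intro c
      obtain ⟨b', hb'⟩ := hN c
      refine ⟨b', ?_⟩
      have h1 : algebraMap B C b' = φ b' := rfl
      rw [h1, hb', Algebra.smul_def, Algebra.smul_def, map_pow, map_pow,
        ← IsScalarTower.algebraMap_apply A B C]
    have hFC : Finite (MaximalSpectrum C) := finite_maximalSpectrum A C
    let _ := Fintype.ofFinite (MaximalSpectrum C)
    have hFF : Finite (MaximalSpectrum D'.B) := finite_maximalSpectrum A D'.B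
    let _ := Fintype.ofFinite (MaximalSpectrum D'.B)
    have hπC := locMap_pi_mem_nonZeroDivisors D' φ' hx haC
    have towerABCn : ∀ n : MaximalSpectrum C,
        IsScalarTower A B (Localization.AtPrime n.asIdeal) := by
      intro n
      refine IsScalarTower.of_algebraMap_eq (fun r => ?_)
      rw [IsScalarTower.algebraMap_apply A C (Localization.AtPrime n.asIdeal),
        IsScalarTower.algebraMap_apply A B C,
        ← IsScalarTower.algebraMap_apply B C (Localization.AtPrime n.asIdeal)]
    have fac₁C : ∀ n : MaximalSpectrum C,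
        algebraMap B (Localization.AtPrime n.asIdeal) (algebraMap A B a) =
          ((Units.map (locMap φ' n : _ →* _) (D'.u₁ (qOf φ' n)) :
            (Localization.AtPrime n.asIdeal)ˣ) : Localization.AtPrime n.asIdeal) *
            (locMap φ' n (D'.π (qOf φ' n))) ^ (D'.e₁ (qOf φ' n)) := by
      intro n
      have := towerABCn n
      rw [← IsScalarTower.algebraMap_apply A B (Localization.AtPrime n.asIdeal)]
      exact fac₁_locMap D' φ' n
    have fac₂C : ∀ n : MaximalSpectrum C,
        algebraMap B (Localization.AtPrime n.asIdeal) (algebraMap A B b) =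
          ((Units.map (locMap φ' n : _ →* _) (D'.u₂ (qOf φ' n)) :
            (Localization.AtPrime n.asIdeal)ˣ) : Localization.AtPrime n.asIdeal) *
            (locMap φ' n (D'.π (qOf φ' n))) ^ (D'.e₂ (qOf φ' n)) := by
      intro n
      have := towerABCn n
      rw [← IsScalarTower.algebraMap_apply A B (Localization.AtPrime n.asIdeal)]
      exact fac₂_locMap D' φ' n
    -- the left side
    have hL : CycAlg.tameSymbol A a b = ∏ n : MaximalSpectrum C,
        locFac A (Localization.AtPrime n.asIdeal) (locMap φ' n (D'.π (qOf φ' n)))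
          (Units.map (locMap φ' n : _ →* _) (D'.u₁ (qOf φ' n)))
          (Units.map (locMap φ' n : _ →* _) (D'.u₂ (qOf φ' n)))
          (D'.e₁ (qOf φ' n)) (D'.e₂ (qOf φ' n)) := by
      rw [tameSymbol_eq_value A ha hb D', value_eq_prod A D']
      exact prod_locFac_eq φ' hφ' hfin' D'.π D'.π_mem D'.u₁ D'.u₂ D'.e₁ D'.e₂ hπC
    -- the right side
    have hR : ∀ q : MaximalSpectrum B, Algebra.norm (ResidueField A)
        (CycAlg.tameSymbol (Localization.AtPrime q.asIdeal)
          (algebraMap A (Localization.AtPrime q.asIdeal) a)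
          (algebraMap A (Localization.AtPrime q.asIdeal) b)) =
        ∏ n ∈ Finset.univ.filter (fun n : MaximalSpectrum C => qB C n = q),
          locFac A (Localization.AtPrime n.asIdeal) (locMap φ' n (D'.π (qOf φ' n)))
            (Units.map (locMap φ' n : _ →* _) (D'.u₁ (qOf φ' n)))
            (Units.map (locMap φ' n : _ →* _) (D'.u₂ (qOf φ' n)))
            (D'.e₁ (qOf φ' n)) (D'.e₂ (qOf φ' n)) := by
      intro q
      have hnzd : algebraMap B (Localization.AtPrime q.asIdeal) (algebraMap A B (a * b)) ∈
          nonZeroDivisors (Localization.AtPrime q.asIdeal) :=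
        IsLocalization.map_nonZeroDivisors_le q.asIdeal.primeCompl _
          (Submonoid.mem_map_of_mem _ haB)
      have hnzd1 : algebraMap B (Localization.AtPrime q.asIdeal) (algebraMap A B a) ∈
          nonZeroDivisors (Localization.AtPrime q.asIdeal) :=
        IsLocalization.map_nonZeroDivisors_le q.asIdeal.primeCompl _
          (Submonoid.mem_map_of_mem _ haB1)
      have hnzd2 : algebraMap B (Localization.AtPrime q.asIdeal) (algebraMap A B b) ∈
          nonZeroDivisors (Localization.AtPrime q.asIdeal) :=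
        IsLocalization.map_nonZeroDivisors_le q.asIdeal.primeCompl _
          (Submonoid.mem_map_of_mem _ haB2)
      have hfe := isFinExt_loc C q hinjBC (algebraMap A B (a * b)) N hN' hnzd
      rw [IsScalarTower.algebraMap_apply A B (Localization.AtPrime q.asIdeal) a,
        IsScalarTower.algebraMap_apply A B (Localization.AtPrime q.asIdeal) b,
        tameSymbol_eq_value (Localization.AtPrime q.asIdeal) hnzd1 hnzd2
          (locData C q (algebraMap A B a) (algebraMap A B b) _ hπC _ _ _ _ fac₁C fac₂C hfe)]
      exact norm_value_locData A C q (algebraMap A B a) (algebraMap A B b) _ hπC _ _ _ _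
        fac₁C fac₂C hfe
    rw [finprod_eq_prod_of_fintype, hL, Finset.prod_congr rfl (fun q _ => hR q)]
    exact (Finset.prod_fiberwise Finset.univ (qB C) _).symm

end Groth.Agent.Helper8.Tame
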