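import Mathlib
import Groth.Prelude.Def_Tame
import Groth.Agent.Lib.Helper8.FBb
import Groth.Agent.Lib.Helper8.FBe
import Groth.Agent.Lib.Helper8.Tame15

/-!
# The tame symbol under a flat local homomorphism
-/

set_option autoImplicit false
universe u

namespace Groth.Agent.Helper8.FB

open Function IsLocalRing TensorProduct

attribute [local instance] Groth.Agent.Helper8.Tame.isLocalHom_atPrime
attribute [local instance] algRight

section PerQ

variable (A : Type u) [CommRing A] [IsLocalRing A]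
  (A' : Type u) [CommRing A'] [IsLocalRing A'] [Algebra A A'] [IsLocalHom (algebraMap A A')]
  (B : Type u) [CommRing B] [Algebra A B] [Module.Finite A B]
  [Fintype (MaximalSpectrum (A' ⊗[A] B))]

set_option maxHeartbeats 1600000 in
set_option synthInstance.maxHeartbeats 400000 in
theorem perq (hfl : IsFiniteLength A' (A' ⧸ (maximalIdeal A).map (algebraMap A A')))
    (q : Ideal B) [q.IsMaximal] (β : B) :
    ∏ 𝔫 : MaximalSpectrum (A' ⊗[A] B),
      (Algebra.norm (ResidueField A') (residue (Localization.AtPrime 𝔫.asIdeal)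
        (algebraMap (A' ⊗[A] B) (Localization.AtPrime 𝔫.asIdeal) (1 ⊗ₜ[A] β)))) ^
        (Module.length (Localization.AtPrime 𝔫.asIdeal)
          (LocalizedModule 𝔫.asIdeal.primeCompl ((A' ⊗[A] B) ⧸ Qext A A' B q))).toNat =
    ResidueField.map (algebraMap A A') (Algebra.norm (ResidueField A)
      (residue (Localization.AtPrime q) (algebraMap B (Localization.AtPrime q) β))) ^
      (Module.length A' (A' ⧸ (maximalIdeal A).map (algebraMap A A'))).toNat := by
  obtain ⟨d, ε, μ, hμ, hdet⟩ := exists_coord A A' B q β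
  have hI : (maximalIdeal A).map (algebraMap A A') ≤ maximalIdeal A' := by
    rw [Ideal.map_le_iff_le_comap]
    intro x hx
    exact map_nonunit (algebraMap A A') x hx
  have hX := isFiniteLength_quot_Qext A A' B q hfl
  have h := main2 ((maximalIdeal A).map (algebraMap A A')) (A' ⊗[A] B) ε hI hfl hX
    (1 ⊗ₜ[A] β) μ hμ
    (fun 𝔫 => Algebra.norm (ResidueField A') (residue (Localization.AtPrime 𝔫.asIdeal)
        (algebraMap (A' ⊗[A] B) (Localization.AtPrime 𝔫.asIdeal) (1 ⊗ₜ[A] β))))
    (fun 𝔫 h => kdet_quot_eq_norm (A' ⊗[A] B) (1 ⊗ₜ[A] β) 𝔫 h)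
  rw [← hdet]
  exact h

end PerQ

set_option maxHeartbeats 1600000 in
set_option synthInstance.maxHeartbeats 400000 in
theorem flat_main (A A' : Type u) [CommRing A] [CommRing A'] [IsNoetherianRing A]
    [IsNoetherianRing A'] [IsLocalRing A] [IsLocalRing A'] [Algebra A A']
    [IsLocalHom (algebraMap A A')] [Module.Flat A A'] (hA : ringKrullDim A = 1)
    (hA' : ringKrullDim A' = 1) (a₁ a₂ : A) (h₁ : a₁ ∈ nonZeroDivisors A)
    (h₂ : a₂ ∈ nonZeroDivisors A) :
    ResidueField.map (algebraMap A A') (CycAlg.tameSymbol A a₁ a₂) ^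
      (Module.length A' (A' ⧸ Ideal.map (algebraMap A A') (maximalIdeal A))).toNat =
      CycAlg.tameSymbol A' (algebraMap A A' a₁) (algebraMap A A' a₂) := by
  classical
  have hdimA : Ring.KrullDimLE 1 A := by
    rw [Ring.krullDimLE_iff, hA]
    simp
  have hdimA' : Ring.KrullDimLE 1 A' := by
    rw [Ring.krullDimLE_iff, hA']
    simp
  by_cases hu : IsUnit a₁ ∧ IsUnit a₂
  · rw [Tame.tameSymbol_eq_one_of_isUnit hu.1 hu.2, map_one, one_pow,
      Tame.tameSymbol_eq_one_of_isUnit (hu.1.map _) (hu.2.map _)]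
  have hab : a₁ * a₂ ∈ maximalIdeal A := by
    rw [IsLocalRing.mem_maximalIdeal]
    intro h
    exact hu ⟨isUnit_of_mul_isUnit_left h, isUnit_of_mul_isUnit_right h⟩
  have habnz : a₁ * a₂ ∈ nonZeroDivisors A := mul_mem h₁ h₂
  obtain ⟨F, hF⟩ := Tame.exists_facSys hA 2 le_rfl ![a₁, a₂]
    (by intro i; fin_cases i; exacts [h₁, h₂])
    (by
      by_contra hall
      simp only [not_exists, not_not] at hall
      exact hu ⟨hall 0, hall 1⟩)
  obtain ⟨fa⟩ : Nonempty (Tame.Fac F a₁) := hF 0
  obtain ⟨fb⟩ : Nonempty (Tame.Fac F a₂) := hF 1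
  have htB : algebraMap A F.B (a₁ * a₂) ∈ nonZeroDivisors F.B :=
    Tame.algebraMap_mul_mem_nonZeroDivisors A (F.toTameData fa fb)
  have hassB : maximalIdeal A ∉ associatedPrimes A F.B := not_ass_of_nzd hab htB
  have hT := Tame.tameSymbol_eq_finprod_norm A hA F.B F.isFinExt hassB a₁ a₂ h₁ h₂
  have ht' : algebraMap A A' (a₁ * a₂) ∈ nonZeroDivisors A' := nzd_of_flat habnz
  have hFE' : CycAlg.IsFinExt A' (A' ⊗[A] F.B) (maximalIdeal A') :=
    isFinExt_baseChange A A' F.B F.isFinExt hab ht'
  haveI : Module.Flat F.B (A' ⊗[A] F.B) := flat_right A A' F.B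
  have htB' : algebraMap A' (A' ⊗[A] F.B) (algebraMap A A' (a₁ * a₂)) ∈
      nonZeroDivisors (A' ⊗[A] F.B) := by
    rw [algebraMap_comm]
    exact nzd_of_flat htB
  have hab' : algebraMap A A' (a₁ * a₂) ∈ maximalIdeal A' := map_nonunit _ _ hab
  have hass' : maximalIdeal A' ∉ associatedPrimes A' (A' ⊗[A] F.B) :=
    not_ass_of_nzd hab' htB'
  have hT' := Tame.tameSymbol_eq_finprod_norm A' hA' (A' ⊗[A] F.B) hFE' hass'
    (algebraMap A A' a₁) (algebraMap A A' a₂) (nzd_of_flat h₁) (nzd_of_flat h₂)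
  rw [hT, hT']
  haveI : Finite (MaximalSpectrum F.B) := Tame.finite_maximalSpectrum A F.B
  haveI : Finite (MaximalSpectrum (A' ⊗[A] F.B)) := Tame.finite_maximalSpectrum A' _
  letI := Fintype.ofFinite (MaximalSpectrum F.B)
  letI := Fintype.ofFinite (MaximalSpectrum (A' ⊗[A] F.B))
  rw [finprod_eq_prod_of_fintype, finprod_eq_prod_of_fintype, map_prod, ← Finset.prod_pow]
  have hfl : IsFiniteLength A' (A' ⧸ (maximalIdeal A).map (algebraMap A A')) := by
    have h0 := isFiniteLength_quotient_span_singleton A' ht'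
    have hle : Ideal.span {algebraMap A A' (a₁ * a₂)} ≤
        (maximalIdeal A).map (algebraMap A A') := by
      rw [Ideal.span_le, Set.singleton_subset_iff]
      exact Ideal.mem_map_of_mem _ hab
    rw [isFiniteLength_iff_isNoetherian_isArtinian] at h0 ⊢
    obtain ⟨h1, h2⟩ := h0
    exact ⟨inferInstance,
      isArtinian_of_surjective _ (Submodule.factor hle) (Submodule.factor_surjective hle)⟩
  have hβ : ∀ q : MaximalSpectrum F.B, ∃ β : F.B,
      residue (Localization.AtPrime q.asIdeal)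
        (algebraMap F.B (Localization.AtPrime q.asIdeal) β) =
      CycAlg.tameSymbol (Localization.AtPrime q.asIdeal)
        (algebraMap A (Localization.AtPrime q.asIdeal) a₁)
        (algebraMap A (Localization.AtPrime q.asIdeal) a₂) := by
    intro q
    obtain ⟨x, hx⟩ := (IsLocalization.AtPrime.equivQuotMaximalIdeal q.asIdeal
      (Localization.AtPrime q.asIdeal)).surjective
      (CycAlg.tameSymbol (Localization.AtPrime q.asIdeal)
        (algebraMap A (Localization.AtPrime q.asIdeal) a₁)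
        (algebraMap A (Localization.AtPrime q.asIdeal) a₂))
    obtain ⟨β, rfl⟩ := Ideal.Quotient.mk_surjective x
    exact ⟨β, hx⟩
  choose β hβ using hβ
  have h𝔫 : ∀ 𝔫 : MaximalSpectrum (A' ⊗[A] F.B),
      Algebra.norm (ResidueField A') (CycAlg.tameSymbol (Localization.AtPrime 𝔫.asIdeal)
        (algebraMap A' (Localization.AtPrime 𝔫.asIdeal) (algebraMap A A' a₁))
        (algebraMap A' (Localization.AtPrime 𝔫.asIdeal) (algebraMap A A' a₂))) =
      ∏ q : MaximalSpectrum F.B,
        (Algebra.norm (ResidueField A') (residue (Localization.AtPrime 𝔫.asIdeal)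
          (algebraMap (A' ⊗[A] F.B) (Localization.AtPrime 𝔫.asIdeal) (1 ⊗ₜ[A] β q)))) ^
        (Module.length (Localization.AtPrime 𝔫.asIdeal)
          (LocalizedModule 𝔫.asIdeal.primeCompl
            ((A' ⊗[A] F.B) ⧸ Qext A A' F.B q.asIdeal))).toNat := by
    intro 𝔫
    rw [Finset.prod_eq_single (qOf A A' F.B 𝔫)]
    · rw [tame_loc A' hA hA' F fa fb hab 𝔫 (qOf A A' F.B 𝔫) rfl, map_pow,
        ← hβ (qOf A A' F.B 𝔫), ResidueField.map_residue, Localization.localRingHom_to_map]
      rfl
    · intro q _ hne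
      rw [length_loc_eq_zero A A' F.B q.asIdeal 𝔫.asIdeal
        (fun h => hne (MaximalSpectrum.ext h)), ENat.toNat_zero, pow_zero]
    · intro h
      exact absurd (Finset.mem_univ _) h
  have hq : ∀ q : MaximalSpectrum F.B,
      ∏ 𝔫 : MaximalSpectrum (A' ⊗[A] F.B),
        (Algebra.norm (ResidueField A') (residue (Localization.AtPrime 𝔫.asIdeal)
          (algebraMap (A' ⊗[A] F.B) (Localization.AtPrime 𝔫.asIdeal) (1 ⊗ₜ[A] β q)))) ^
        (Module.length (Localization.AtPrime 𝔫.asIdeal)
          (LocalizedModule 𝔫.asIdeal.primeCompl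
            ((A' ⊗[A] F.B) ⧸ Qext A A' F.B q.asIdeal))).toNat =
      ResidueField.map (algebraMap A A') (Algebra.norm (ResidueField A)
        (CycAlg.tameSymbol (Localization.AtPrime q.asIdeal)
          (algebraMap A (Localization.AtPrime q.asIdeal) a₁)
          (algebraMap A (Localization.AtPrime q.asIdeal) a₂))) ^
        (Module.length A' (A' ⧸ (maximalIdeal A).map (algebraMap A A'))).toNat := by
    intro q
    rw [← hβ q]
    exact perq A A' F.B hfl q.asIdeal (β q)
  rw [Finset.prod_congr rfl (fun 𝔫 _ => h𝔫 𝔫), Finset.prod_comm]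
  exact Finset.prod_congr rfl (fun q _ => (hq q).symm)

end Groth.Agent.Helper8.FB
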