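import Groth.Agent.Lib.Helper8.LC9
import Groth.Prelude.Def_Wider

set_option autoImplicit false
universe u
open CategoryTheory CategoryTheory.Limits Opposite

namespace Groth.Agent.Helper8.LC

variable {R : Type u} [CommRing R] (J : Ideal R) (i : ℕ)

open Abelian localCohomology

lemma smul_eq_zero_of_mem_annihilator (M : ModuleCat.{u} R) (s : R)
    (hs : s ∈ Module.annihilator R M) (x : (localCohomology J i).obj M) : s • x = 0 := by
  obtain ⟨n, e, rfl⟩ := ι_rep J i M x
  have h2 : s • 𝟙 M = 0 := by
    apply ModuleCat.hom_ext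
    apply LinearMap.ext
    intro m
    exact Module.mem_annihilator.mp hs m
  rw [← map_smul, Ext.smul_eq_comp_mk₀, h2, Ext.mk₀_zero, Ext.comp_zero, map_zero]

theorem exists_notMem_forall_smul_eq_zero (M : Type u) [AddCommGroup M] [Module R M]
    [Module.Finite R M] (p : PrimeSpectrum R) (hp : p ∉ Module.support R M) :
    ∃ s : R, s ∉ p.asIdeal ∧ ∀ (b : Ideal R) (i : ℕ) (x : LocCoh.H b i M), s • x = 0 := by
  rw [Module.mem_support_iff_of_finite, SetLike.not_le_iff_exists] at hp
  obtain ⟨s, hs, hsp⟩ := hp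
  exact ⟨s, hsp, fun b i x => smul_eq_zero_of_mem_annihilator b i (ModuleCat.of R M) s hs x⟩

end Groth.Agent.Helper8.LC
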