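import Groth.Agent.Lib.Helper8.LC14
import Groth.Agent.Lib.Helper8.LC10
import Groth.Prelude.Def_W4bk5brsh7111920

/-!
# Finiteness dimensions: passing to quotients by torsion submodules
-/

set_option autoImplicit false
universe u
open CategoryTheory CategoryTheory.Limits Opposite

namespace Groth.Agent.Helper8.FD

open Abelian localCohomology LocCoh Groth.Agent.Helper8.LC

variable {R : Type u} [CommRing R]

section Torsion

variable (c : Ideal R) (M : Type u) [AddCommGroup M] [Module R M]

lemma torsionBy_pow_mono : Monotone fun n : ℕ => LocCoh.torsionBy (c ^ n) M := by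
  intro n k hnk
  exact Submodule.torsionBySet_le_torsionBySet_of_subset (Ideal.pow_le_pow_right hnk)

lemma mem_iSup_torsionBy_iff (x : M) :
    x ∈ (⨆ n : ℕ, LocCoh.torsionBy (c ^ n) M) ↔ ∃ n : ℕ, ∀ r ∈ c ^ n, r • x = 0 := by
  rw [Submodule.mem_iSup_of_directed _ (torsionBy_pow_mono c M).directed_le]
  constructor
  · rintro ⟨n, hn⟩
    refine ⟨n, fun r hr => ?_⟩
    exact (Submodule.mem_torsionBySet_iff _ _).mp hn ⟨r, hr⟩
  · rintro ⟨n, hn⟩
    refine ⟨n, (Submodule.mem_torsionBySet_iff _ _).mpr ?_⟩
    rintro ⟨r, hr⟩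
    exact hn r hr

lemma iSup_torsionBy_eq_torsionSub :
    (⨆ n : ℕ, LocCoh.torsionBy (c ^ n) M) = DRing.torsionSub c M := by
  ext x
  rw [mem_iSup_torsionBy_iff]
  rfl

/-- over a Noetherian ring the power torsion of a finite module is killed by one power. -/
lemma exists_pow_le_annihilator_iSup_torsionBy [IsNoetherianRing R] [Module.Finite R M] :
    ∃ n : ℕ, c ^ n ≤ Module.annihilator R ↥(⨆ n : ℕ, LocCoh.torsionBy (c ^ n) M) := by
  classical
  set N : Submodule R M := ⨆ n : ℕ, LocCoh.torsionBy (c ^ n) M with hN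
  have hfg : N.FG := IsNoetherian.noetherian N
  obtain ⟨s, hs⟩ := hfg
  have h1 : ∀ x ∈ s, ∃ n : ℕ, ∀ r ∈ c ^ n, r • x = 0 := by
    intro x hx
    have : x ∈ N := by
      rw [← hs]
      exact Submodule.subset_span hx
    exact (mem_iSup_torsionBy_iff c M x).mp this
  choose! k hk using h1
  refine ⟨s.sup k, fun r hr => ?_⟩
  rw [Module.mem_annihilator]
  rintro ⟨x, hx⟩
  apply Subtype.ext
  change r • x = 0
  rw [← hs] at hx
  induction hx using Submodule.span_induction with
  | mem y hy => exact hk y hy r (Ideal.pow_le_pow_right (Finset.le_sup hy) hr)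
  | zero => exact smul_zero r
  | add y z _ _ hy hz => rw [smul_add, hy, hz, add_zero]
  | smul a y _ hy => rw [smul_comm, hy, smul_zero]

end Torsion

section LES

variable (a b : Ideal R) {M : Type u} [AddCommGroup M] [Module R M]

/-- if a power of `b` kills the submodule `N`, then `b` lies in the radical of the annihilator
of `H^i_a(M)` iff it does for `M / N`. -/
theorem le_radical_annihilator_iff_quotient [IsNoetherianRing R] (N : Submodule R M) (n : ℕ)
    (hN : b ^ n ≤ Module.annihilator R N) (i : ℕ) :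
    b ≤ (Module.annihilator R (H a i M)).radical ↔
      b ≤ (Module.annihilator R (H a i (M ⧸ N))).radical := by
  have hS := sesSub_shortExact N
  have hbfg : b.FG := IsNoetherian.noetherian b
  have hkill : ∀ (j : ℕ) (s : R), s ∈ b ^ n → ∀ z : H a j N, s • z = 0 := by
    intro j s hs z
    exact smul_eq_zero_of_mem_annihilator a j (ModuleCat.of R N) s (hN hs) z
  constructor
  · intro h
    obtain ⟨k, hk⟩ := Ideal.exists_pow_le_of_le_radical_of_fg h hbfg
    intro r hr
    refine ⟨k + n, ?_⟩
    rw [Module.mem_annihilator]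
    intro y
    have h1 : δ a i hS (r ^ n • y) = 0 := by
      rw [map_smul]
      exact hkill (i + 1) _ (Ideal.pow_mem_pow hr n) _
    obtain ⟨x, hx⟩ := (exact_g_δ a i hS (r ^ n • y)).mp h1
    have h2 : r ^ k • x = 0 := Module.mem_annihilator.mp (hk (Ideal.pow_mem_pow hr k)) x
    rw [pow_add, mul_smul, ← hx]
    change r ^ k • ((localCohomology a i).map (sesSub N).g).hom x = 0
    rw [← map_smul, h2, map_zero]
  · intro h
    obtain ⟨k, hk⟩ := Ideal.exists_pow_le_of_le_radical_of_fg h hbfg
    intro r hr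
    refine ⟨n + k, ?_⟩
    rw [Module.mem_annihilator]
    intro x
    have h1 : ((localCohomology a i).map (sesSub N).g).hom (r ^ k • x) = 0 := by
      rw [map_smul]
      exact Module.mem_annihilator.mp (hk (Ideal.pow_mem_pow hr k)) _
    obtain ⟨z, hz⟩ := (exact_f_g a i hS (r ^ k • x)).mp h1
    have h2 : r ^ n • z = 0 := hkill i _ (Ideal.pow_mem_pow hr n) z
    rw [pow_add, mul_smul, ← hz]
    change r ^ n • ((localCohomology a i).map (sesSub N).f).hom z = 0
    rw [← map_smul, h2, map_zero]

end LES

section FinDim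

variable (a b : Ideal R) {M : Type u} [AddCommGroup M] [Module R M]

theorem finDimRel_quotient_eq [IsNoetherianRing R] (N : Submodule R M) (n : ℕ)
    (hN : b ^ n ≤ Module.annihilator R N) :
    finDimRel a b M = finDimRel a b (M ⧸ N) := by
  unfold finDimRel
  refine iInf_congr fun i => ?_
  have h := le_radical_annihilator_iff_quotient a b N n hN i
  by_cases h1 : b ≤ (Module.annihilator R (H a i M)).radical
  · rw [iInf_neg (not_not.mpr h1), iInf_neg (not_not.mpr (h.mp h1))]
  · rw [iInf_pos h1, iInf_pos (fun h2 => h1 (h.mpr h2))]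

variable (M)

theorem finDimRel_eq_quotient_torsion [IsNoetherianRing R] [Module.Finite R M] (c : Ideal R) :
    (b ≤ c → finDimRel a b M = finDimRel a b (M ⧸ (⨆ n : ℕ, LocCoh.torsionBy (c ^ n) M))) ∧
    (0 < finDimRel a b M →
      finDimRel a b M = finDimRel a b (M ⧸ (⨆ n : ℕ, LocCoh.torsionBy (a ^ n) M))) := by
  constructor
  · intro hbc
    obtain ⟨n, hn⟩ := exists_pow_le_annihilator_iSup_torsionBy c M
    exact finDimRel_quotient_eq a b _ n (le_trans (Ideal.pow_right_mono hbc n) hn)
  · intro hpos
    have h0 : b ≤ (Module.annihilator R (H a 0 M)).radical := by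
      by_contra hcon
      have : finDimRel a b M ≤ ((0 : ℕ) : ℕ∞) := iInf₂_le 0 hcon
      rw [Nat.cast_zero] at this
      exact absurd hpos (not_lt.mpr this)
    have hbfg : b.FG := IsNoetherian.noetherian b
    obtain ⟨k, hk⟩ := Ideal.exists_pow_le_of_le_radical_of_fg h0 hbfg
    refine finDimRel_quotient_eq a b _ k ?_
    intro r hr
    rw [Module.mem_annihilator]
    rintro ⟨x, hx⟩
    apply Subtype.ext
    change r • x = 0
    rw [iSup_torsionBy_eq_torsionSub] at hx
    obtain ⟨y, hy⟩ := exists_ev0_eq a (ModuleCat.of R M) x hx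
    have h3 : r • y = 0 := Module.mem_annihilator.mp (hk hr) y
    rw [← hy, ← map_smul, h3, map_zero]

end FinDim

end Groth.Agent.Helper8.FD
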