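import Mathlib.RingTheory.Ideal.KrullsHeightTheorem
import Mathlib.RingTheory.Ideal.MinimalPrime.Noetherian
import Mathlib.RingTheory.Ideal.Height

namespace Groth.Agent.Helper8

theorem exists_prime_between_domain {D : Type*} [CommRing D] [IsDomain D] [IsNoetherianRing D]
    (Q : Ideal D) [Q.IsPrime] (hht : 1 < Q.height) (a : D) (haQ : a ∈ Q) (ha0 : a ≠ 0) :
    ∃ t : Ideal D, t.IsPrime ∧ t ≠ ⊥ ∧ t < Q ∧ a ∉ t := by
  classical
  have hfin : (Ideal.span {a}).minimalPrimes.Finite := Ideal.finite_minimalPrimes_of_isNoetherianRing D _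
  have hle1 : ∀ p ∈ (Ideal.span {a}).minimalPrimes, p.height ≤ 1 := fun p hp =>
    Ideal.height_le_one_of_isPrincipal_of_mem_minimalPrimes _ p hp
  have hnot : ¬ ∃ p ∈ hfin.toFinset, Q ≤ p := by
    rintro ⟨p, hp, hQp⟩
    rw [Set.Finite.mem_toFinset] at hp
    exact absurd (lt_of_lt_of_le hht ((Ideal.height_mono hQp).trans (hle1 p hp))) (lt_irrefl _)
  have hav : ¬ ((Q : Set D) ⊆ ⋃ p ∈ (hfin.toFinset : Set (Ideal D)), (p : Set D)) := by
    intro h
    apply hnot
    have := (Ideal.subset_union_prime (R := D) (s := hfin.toFinset) (f := fun p => p) ⊥ ⊥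
      (fun p hp _ _ => by
        rw [Set.Finite.mem_toFinset] at hp
        exact hp.isPrime) (I := Q)).1 h
    exact this
  rw [Set.not_subset] at hav
  obtain ⟨x, hxQ, hx⟩ := hav
  have hx' : ∀ p ∈ (Ideal.span {a}).minimalPrimes, x ∉ p := by
    intro p hp hxp
    apply hx
    simp only [Set.mem_iUnion]
    exact ⟨p, by simpa using hp, hxp⟩
  have hane : Ideal.span {a} ≠ ⊤ := by
    intro h
    apply (inferInstance : Q.IsPrime).ne_top
    rw [eq_top_iff, ← h, Ideal.span_singleton_le_iff_mem]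
    exact haQ
  obtain ⟨p0, hp0⟩ := Ideal.nonempty_minimalPrimes hane
  have hx0 : x ≠ 0 := by
    rintro rfl
    exact hx' p0 hp0 (Ideal.zero_mem _)
  have hxQ' : Ideal.span {x} ≤ Q := by rwa [Ideal.span_singleton_le_iff_mem]
  obtain ⟨t, ht, htQ⟩ := Ideal.exists_minimalPrimes_le hxQ'
  have htprime : t.IsPrime := ht.isPrime
  have hxt : x ∈ t := ht.1.2 (Ideal.mem_span_singleton_self x)
  have hth : t.height ≤ 1 := Ideal.height_le_one_of_isPrincipal_of_mem_minimalPrimes _ t ht
  refine ⟨t, htprime, ?_, lt_of_le_of_ne htQ ?_, ?_⟩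
  · rintro rfl
    exact hx0 (by simpa using hxt)
  · rintro rfl
    exact absurd (lt_of_lt_of_le hht hth) (lt_irrefl _)
  · intro hat
    have hat' : Ideal.span {a} ≤ t := by rwa [Ideal.span_singleton_le_iff_mem]
    obtain ⟨p, hp, hpt⟩ := Ideal.exists_minimalPrimes_le hat'
    have hpprime : p.IsPrime := hp.isPrime
    have hap : a ∈ p := hp.1.2 (Ideal.mem_span_singleton_self a)
    rcases eq_or_lt_of_le hpt with rfl | hlt
    · exact hx' p hp hxt
    · have hbot : (⊥ : Ideal D) < p := by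
        refine bot_lt_iff_ne_bot.2 ?_
        rintro rfl
        exact ha0 (by simpa using hap)
      have h1 : (⊥ : Ideal D).height < p.height := Ideal.height_strict_mono_of_isPrime_of_isPrime hbot
      have h2 : p.height < t.height := Ideal.height_strict_mono_of_isPrime_of_isPrime hlt
      have h3 : (1 : ℕ∞) ≤ p.height := Order.one_le_iff_pos.2 (lt_of_le_of_lt zero_le h1)
      exact absurd (lt_of_le_of_lt h3 (lt_of_lt_of_le h2 hth)) (lt_irrefl _)

end Groth.Agent.Helper8
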