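import Groth.Agent.Lib.Helper8.FD9
import Groth.Agent.Lib.Helper8.Height

/-!
# Choice of primes for `f ≤ λ`
-/

set_option autoImplicit false
universe u

namespace Groth.Agent.Helper8.FD

open LocCoh IsLocalRing

variable {R : Type u} [CommRing R]

/-- a minimal prime of `a + p` realising the height of `(a + p) / p`. -/
lemma exists_minimalPrimes_height_eq (a p : Ideal R) [p.IsPrime]
    (h : ((a ⊔ p).map (Ideal.Quotient.mk p)).height ≠ ⊤) :
    ∃ q ∈ (a ⊔ p).minimalPrimes, (q.map (Ideal.Quotient.mk p)).height =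
      ((a ⊔ p).map (Ideal.Quotient.mk p)).height := by
  set J := (a ⊔ p).map (Ideal.Quotient.mk p) with hJ
  obtain ⟨n, hn⟩ := ENat.ne_top_iff_exists.mp h
  have hI : (⨅ Q ∈ J.minimalPrimes, Q.height) = (n : ℕ∞) := by
    rw [← Ideal.height_eq_inf_minimalPrimes, hn]
  simp only [ENat.iInf_eq_natCast_iff] at hI
  rcases hI with ⟨⟨Q, ⟨hQmin, hQh⟩, -⟩, -⟩
  have hsurj : Function.Surjective (Ideal.Quotient.mk p) := Ideal.Quotient.mk_surjective
  refine ⟨Q.comap (Ideal.Quotient.mk p), ?_, ?_⟩
  · have h1 := Ideal.minimalPrimes_comap_of_surjective hsurj hQmin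
    have h2 : J.comap (Ideal.Quotient.mk p) = a ⊔ p := by
      rw [hJ, Ideal.comap_map_of_surjective _ hsurj, ← RingHom.ker_eq_comap_bot, Ideal.mk_ker,
        sup_assoc, sup_idem]
    rwa [h2] at h1
  · rw [Ideal.map_comap_of_surjective _ hsurj, hQh, hn]

variable [IsNoetherianRing R]

/-- between `p` and `q` there is a prime `s` not containing `b` with `q / s` of height one. -/
theorem exists_prime_height_one (b q : Ideal R) [hq : q.IsPrime] (hbq : b ≤ q) :
    ∀ (n : ℕ) (p : Ideal R) [p.IsPrime], p ≤ q → ¬ b ≤ p →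
      (q.map (Ideal.Quotient.mk p)).height = (n : ℕ∞) →
      ∃ s : Ideal R, s.IsPrime ∧ p ≤ s ∧ s < q ∧ ¬ b ≤ s ∧
        (q.map (Ideal.Quotient.mk s)).height = 1 := by
  intro n
  induction n using Nat.strong_induction_on with
  | _ n ih =>
    intro p hp hpq hbp hn
    have hpneq : p ≠ q := by
      rintro rfl
      exact hbp hbq
    have hQprime : (q.map (Ideal.Quotient.mk p)).IsPrime :=
      Ideal.isPrime_map_quotientMk_of_isPrime hpq
    have hQbot : q.map (Ideal.Quotient.mk p) ≠ ⊥ := by
      intro h0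
      have h1 := congrArg (Ideal.comap (Ideal.Quotient.mk p)) h0
      rw [Ideal.comap_map_mk hpq, ← RingHom.ker_eq_comap_bot, Ideal.mk_ker] at h1
      exact hpneq h1.symm
    have hn1 : 1 ≤ n := by
      by_contra hcon
      have hn0 : n = 0 := by omega
      rw [hn0, Nat.cast_zero, Ideal.height_eq_zero_iff_eq_bot] at hn
      exact hQbot hn
    by_cases hn' : n = 1
    · refine ⟨p, hp, le_rfl, lt_of_le_of_ne hpq hpneq, hbp, ?_⟩
      rw [hn, hn', Nat.cast_one]
    · have hn2 : 1 < (q.map (Ideal.Quotient.mk p)).height := by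
        rw [hn]
        exact_mod_cast (by omega : 1 < n)
      obtain ⟨β, hβb, hβp⟩ := SetLike.not_le_iff_exists.mp hbp
      have hβQ : Ideal.Quotient.mk p β ∈ q.map (Ideal.Quotient.mk p) :=
        Ideal.mem_map_of_mem _ (hbq hβb)
      have hβ0 : Ideal.Quotient.mk p β ≠ 0 := by
        intro h0
        exact hβp (Ideal.Quotient.eq_zero_iff_mem.mp h0)
      obtain ⟨t, htprime, htbot, htQ, hβt⟩ := exists_prime_between_domain
        (q.map (Ideal.Quotient.mk p)) hn2 (Ideal.Quotient.mk p β) hβQ hβ0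
      have hsurj : Function.Surjective (Ideal.Quotient.mk p) := Ideal.Quotient.mk_surjective
      set p₁ := t.comap (Ideal.Quotient.mk p) with hp₁
      haveI hp₁prime : p₁.IsPrime := Ideal.comap_isPrime _ t
      have hpp₁ : p ≤ p₁ := by
        intro x hx
        rw [hp₁, Ideal.mem_comap, Ideal.Quotient.eq_zero_iff_mem.mpr hx]
        exact Ideal.zero_mem _
      have hp₁q : p₁ ≤ q := by
        have := Ideal.comap_mono (f := Ideal.Quotient.mk p) htQ.le
        rwa [Ideal.comap_map_mk hpq] at this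
      have hp₁neq : p₁ ≠ q := by
        intro h
        have h1 : t = q.map (Ideal.Quotient.mk p) := by
          rw [← h, hp₁, Ideal.map_comap_of_surjective _ hsurj]
        exact htQ.ne h1
      have hbp₁ : ¬ b ≤ p₁ := fun h => hβt (h hβb)
      have hmap : p₁.map (Ideal.Quotient.mk p) = t := Ideal.map_comap_of_surjective _ hsurj t
      have hadd := height_map_mk_add_le p p₁ q hpp₁ hp₁q
      rw [hmap, hn] at hadd
      have ht1 : 1 ≤ t.height := by
        rw [Order.one_le_iff_ne_zero]
        intro h0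
        exact htbot (Ideal.height_eq_zero_iff_eq_bot.mp h0)
      have hle : (q.map (Ideal.Quotient.mk p₁)).height + 1 ≤ (n : ℕ∞) := by
        rw [add_comm]
        exact (add_le_add ht1 le_rfl).trans hadd
      have hne_top : (q.map (Ideal.Quotient.mk p₁)).height ≠ ⊤ := by
        intro h
        rw [h, top_add] at hle
        exact ENat.natCast_ne_top n (top_le_iff.mp hle)
      obtain ⟨n₁, hn₁⟩ := ENat.ne_top_iff_exists.mp hne_top
      rw [← hn₁] at hle
      have hlt : n₁ < n := by
        have : n₁ + 1 ≤ n := by exact_mod_cast hle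
        omega
      obtain ⟨s, hs, hp₁s, hsq, hbs, hh⟩ := ih n₁ hlt p₁ hp₁q hbp₁ hn₁.symm
      exact ⟨s, hs, hpp₁.trans hp₁s, hsq, hbs, hh⟩

end Groth.Agent.Helper8.FD
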