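import Groth.Agent.Lib.Helper8.FD1
import Groth.Agent.Lib.Helper8.Depth22

/-!
# Adjusted depths: passing to quotients by torsion submodules
-/

set_option autoImplicit false
universe u

namespace Groth.Agent.Helper8.FD

open LocCoh IsLocalRing Groth.Agent.Helper8.Depth

section Loc

variable {R : Type u} [CommRing R] {M : Type u} [AddCommGroup M] [Module R M]

/-- if the submodule `N` dies after localizing at `S` then `M → M / N` becomes bijective. -/
lemma localizedModule_map_mkQ_bijective (S : Submonoid R) (N : Submodule R M)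
    (hN : ∀ x ∈ N, ∃ t ∈ S, t • x = 0) : Function.Bijective (LocalizedModule.map S N.mkQ) := by
  refine ⟨?_, LocalizedModule.map_surjective S _ N.mkQ_surjective⟩
  rw [← LinearMap.ker_eq_bot, LinearMap.ker_eq_bot']
  intro y hy
  induction y using LocalizedModule.induction_on with
  | h m s =>
    rw [LocalizedModule.map_mk, IsLocalizedModule.mk_eq_mk',
      IsLocalizedModule.mk'_eq_zero'] at hy
    obtain ⟨t, ht⟩ := hy
    have h1 : (t : R) • m ∈ N := by
      rw [← Submodule.Quotient.mk_eq_zero, Submodule.Quotient.mk_smul]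
      exact ht
    obtain ⟨t', ht', h2⟩ := hN _ h1
    rw [IsLocalizedModule.mk_eq_mk', IsLocalizedModule.mk'_eq_zero']
    refine ⟨⟨t', ht'⟩ * t, ?_⟩
    rw [mul_smul]
    exact h2

lemma adjDepth_quotient_eq (a : Ideal R) (N : Submodule R M) (p : PrimeSpectrum R)
    (hN : ∀ x ∈ N, ∃ t ∉ p.asIdeal, t • x = 0) : adjDepth a M p = adjDepth a (M ⧸ N) p := by
  unfold adjDepth
  congr 1
  exact idealDepth_congr (LinearEquiv.ofBijective _
    (localizedModule_map_mkQ_bijective p.asIdeal.primeCompl N hN))

lemma minAdjDepth_quotient_eq (a b : Ideal R) (N : Submodule R M)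
    (hN : ∀ p : PrimeSpectrum R, ¬ b ≤ p.asIdeal → ∀ x ∈ N, ∃ t ∉ p.asIdeal, t • x = 0) :
    minAdjDepth a b M = minAdjDepth a b (M ⧸ N) := by
  unfold minAdjDepth
  exact iInf_congr fun p => iInf_congr fun hp => adjDepth_quotient_eq a N p (hN p hp)

/-- power torsion dies at primes not containing the ideal. -/
lemma exists_notMem_smul_eq_zero_of_mem_iSup_torsionBy (c : Ideal R) (p : Ideal R) [p.IsPrime]
    (hcp : ¬ c ≤ p) (x : M) (hx : x ∈ (⨆ n : ℕ, LocCoh.torsionBy (c ^ n) M)) :
    ∃ t ∉ p, t • x = 0 := by
  obtain ⟨n, hn⟩ := (mem_iSup_torsionBy_iff c M x).mp hx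
  obtain ⟨r, hrc, hrp⟩ := SetLike.not_le_iff_exists.mp hcp
  exact ⟨r ^ n, fun h => hrp (Ideal.IsPrime.mem_of_pow_mem inferInstance n h),
    hn _ (Ideal.pow_mem_pow hrc n)⟩

end Loc

section Noeth

variable {R : Type u} [CommRing R] [IsNoetherianRing R] (M : Type u) [AddCommGroup M]
  [Module R M] [Module.Finite R M]

/-- the depth at an associated prime is zero. -/
lemma depth_localization_eq_zero_of_mem_associatedPrimes (P : Ideal R) [P.IsPrime]
    (hP : P ∈ associatedPrimes R M) :
    depth (Localization.AtPrime P) (LocalizedModule P.primeCompl M) = 0 := by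
  rw [depth_eq_zero_iff]
  exact Module.associatedPrimes.mem_associatedPrimes_atPrime_of_mem_associatedPrimes hP

lemma adjDepth_eq_zero_of_mem_associatedPrimes (a : Ideal R) (P : PrimeSpectrum R)
    (hP : P.asIdeal ∈ associatedPrimes R M) (haP : a ≤ P.asIdeal) : adjDepth a M P = 0 := by
  unfold adjDepth
  rw [depth_localization_eq_zero_of_mem_associatedPrimes M P.asIdeal hP, sup_eq_right.mpr haP,
    Ideal.map_quotient_self, Ideal.height_bot, add_zero]

theorem minAdjDepth_eq_quotient_torsion (a b c : Ideal R) :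
    (b ≤ c → minAdjDepth a b M =
      minAdjDepth a b (M ⧸ (⨆ n : ℕ, LocCoh.torsionBy (c ^ n) M))) ∧
    (0 < minAdjDepth a b M →
      minAdjDepth a b M = minAdjDepth a b (M ⧸ (⨆ n : ℕ, LocCoh.torsionBy (a ^ n) M))) := by
  constructor
  · intro hbc
    apply minAdjDepth_quotient_eq
    intro p hp x hx
    exact exists_notMem_smul_eq_zero_of_mem_iSup_torsionBy c p.asIdeal
      (fun h => hp (hbc.trans h)) x hx
  · intro hpos
    apply minAdjDepth_quotient_eq
    intro p hp x hx
    by_contra hcon
    push Not at hcon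
    -- `ann x ≤ p`
    have hann : Module.annihilator R (Submodule.span R {x}) ≤ p.asIdeal := by
      intro t ht
      by_contra htp
      apply hcon t htp
      have := Module.mem_annihilator.mp ht ⟨x, Submodule.mem_span_singleton_self x⟩
      exact congrArg Subtype.val this
    obtain ⟨P, hPmin, hPp⟩ := Ideal.exists_minimalPrimes_le hann
    haveI := hPmin.1.1
    have hPass : P ∈ associatedPrimes R M := by
      have h1 := Module.associatedPrimes.minimalPrimes_annihilator_subset_associatedPrimes
        (R := R) (M := Submodule.span R {x}) hPmin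
      exact associatedPrimes.subset_of_injective (Submodule.injective_subtype _) h1
    obtain ⟨n, hn⟩ := (mem_iSup_torsionBy_iff a M x).mp hx
    have haP : a ≤ P := by
      apply Ideal.IsPrime.le_of_pow_le (n := n)
      refine le_trans ?_ hPmin.1.2
      intro r hr
      rw [Module.mem_annihilator]
      rintro ⟨y, hy⟩
      apply Subtype.ext
      change r • y = 0
      obtain ⟨s, rfl⟩ := Submodule.mem_span_singleton.mp hy
      rw [smul_comm, hn r hr, smul_zero]
    have hbP : ¬ b ≤ P := fun h => hp (h.trans hPp)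
    have h0 := adjDepth_eq_zero_of_mem_associatedPrimes M a ⟨P, inferInstance⟩ hPass haP
    have : minAdjDepth a b M ≤ 0 := by
      rw [← h0]
      exact iInf₂_le (⟨P, inferInstance⟩ : PrimeSpectrum R) hbP
    exact absurd hpos (not_lt.mpr this)

end Noeth

end Groth.Agent.Helper8.FD
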