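import Groth.Agent.Lib.Helper8.FD2
import Groth.Agent.Lib.Helper8.Depth25

/-!
# Relative heights of primes and adjusted depths
-/

set_option autoImplicit false
universe u

namespace Groth.Agent.Helper8.FD

open LocCoh IsLocalRing Groth.Agent.Helper8.Depth

section Order

variable {α β : Type*} [Preorder α] [Preorder β]

lemma height_add_natCast_le (f : β → α) (hf : StrictMono f) (a : α) (ha : ∀ y, a ≤ f y) :
    ∀ (n : ℕ) (x : β), (n : ℕ∞) ≤ Order.height x → Order.height a + n ≤ Order.height (f x) := by
  intro n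
  induction n with
  | zero =>
    intro x _
    rw [Nat.cast_zero, add_zero]
    exact Order.height_mono (ha x)
  | succ n ih =>
    intro x h
    obtain ⟨p, hlast, hlen⟩ := Order.exists_series_of_le_height x h
    have hn : n < p.length + 1 := by omega
    have hy : p ⟨n, hn⟩ < x := by
      rw [← hlast]
      apply p.strictMono
      rw [Fin.lt_def]
      change n < p.length
      omega
    have hny : (n : ℕ∞) ≤ Order.height (p ⟨n, hn⟩) := Order.index_le_height p ⟨n, hn⟩
    have h1 := ih (p ⟨n, hn⟩) hny
    have h2 := Order.height_add_one_le (hf hy)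
    calc Order.height a + ((n + 1 : ℕ) : ℕ∞) = Order.height a + n + 1 := by
          push_cast; rw [add_assoc]
      _ ≤ Order.height (f (p ⟨n, hn⟩)) + 1 := by gcongr
      _ ≤ Order.height (f x) := h2

lemma height_add_height_le (f : β → α) (hf : StrictMono f) (a : α) (ha : ∀ y, a ≤ f y) (x : β) :
    Order.height a + Order.height x ≤ Order.height (f x) := by
  cases hx : Order.height x with
  | top =>
    have h : ∀ n : ℕ, Order.height a + n ≤ Order.height (f x) := fun n =>
      height_add_natCast_le f hf a ha n x (by rw [hx]; exact le_top)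
    have : Order.height (f x) = ⊤ := by
      rw [ENat.eq_top_iff_forall_ge]
      intro n
      exact le_trans le_add_self (h n)
    rw [this]
    exact le_top
  | coe n => exact height_add_natCast_le f hf a ha n x (by rw [hx])

end Order

section Rel

variable {R : Type u} [CommRing R]

/-- the height of `s / p` in `R / p` as an order-theoretic height in `V(p)`. -/
lemma height_map_mk_eq (p s : Ideal R) [hp : p.IsPrime] [hs : s.IsPrime] (hps : p ≤ s) :
    (s.map (Ideal.Quotient.mk p)).height =
      Order.height (⟨⟨s, hs⟩, hps⟩ : PrimeSpectrum.zeroLocus (p : Set R)) := by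
  have hsbar : (s.map (Ideal.Quotient.mk p)).IsPrime :=
    Ideal.isPrime_map_quotientMk_of_isPrime hps
  let sbar : PrimeSpectrum (R ⧸ p) := ⟨s.map (Ideal.Quotient.mk p), hsbar⟩
  have h2 : ((s.map (Ideal.Quotient.mk p)).height : ℕ∞) = Order.height sbar :=
    PrimeSpectrum.height_eq_orderHeight sbar
  let ψ := p.primeSpectrumQuotientOrderIsoZeroLocus
  have h4 : Order.height (ψ sbar) = Order.height sbar := Order.height_orderIso ψ sbar
  have hψ : ψ sbar = (⟨⟨s, hs⟩, hps⟩ : PrimeSpectrum.zeroLocus (p : Set R)) := by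
    apply Subtype.ext
    apply PrimeSpectrum.ext
    exact Ideal.comap_map_mk hps
  rw [h2, ← h4, hψ]

/-- superadditivity of relative heights. -/
theorem height_map_mk_add_le (p s q : Ideal R) [hp : p.IsPrime] [hs : s.IsPrime]
    [hq : q.IsPrime] (hps : p ≤ s) (hsq : s ≤ q) :
    (s.map (Ideal.Quotient.mk p)).height + (q.map (Ideal.Quotient.mk s)).height ≤
      (q.map (Ideal.Quotient.mk p)).height := by
  rw [height_map_mk_eq p s hps, height_map_mk_eq s q hsq, height_map_mk_eq p q (hps.trans hsq)]
  let f : PrimeSpectrum.zeroLocus (s : Set R) → PrimeSpectrum.zeroLocus (p : Set R) :=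
    fun x => ⟨x.1, by
      have h1 : s ≤ x.1.asIdeal := x.2
      exact (hps.trans h1 : p ≤ x.1.asIdeal)⟩
  have hf : StrictMono f := fun x y hxy => hxy
  exact height_add_height_le f hf ⟨⟨s, hs⟩, hps⟩ (fun y => y.2) ⟨⟨q, hq⟩, hsq⟩

end Rel

section Adj

variable {R : Type u} [CommRing R] [IsNoetherianRing R]

theorem adjDepth_le_of_between_minimal_prime (a : Ideal R) (M : Type u) [AddCommGroup M]
    [Module R M] [Module.Finite R M] (p q : PrimeSpectrum R)
    (hq : q.asIdeal ∈ (a ⊔ p.asIdeal).minimalPrimes)
    (hht : (q.asIdeal.map (Ideal.Quotient.mk p.asIdeal)).height =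
      ((a ⊔ p.asIdeal).map (Ideal.Quotient.mk p.asIdeal)).height)
    (s : PrimeSpectrum R) (hps : p ≤ s) (hsq : s ≤ q) :
    adjDepth a M s ≤ adjDepth a M p := by
  unfold adjDepth
  have hps' : p.asIdeal ≤ s.asIdeal := hps
  have hsq' : s.asIdeal ≤ q.asIdeal := hsq
  have haq : a ≤ q.asIdeal := le_sup_left.trans hq.1.2
  have h1 := depth_localization_le_depth_add_height M p.asIdeal s.asIdeal hps'
  have h2 : ((a ⊔ s.asIdeal).map (Ideal.Quotient.mk s.asIdeal)).height ≤
      (q.asIdeal.map (Ideal.Quotient.mk s.asIdeal)).height :=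
    Ideal.height_mono (Ideal.map_mono (sup_le haq hsq'))
  have h3 := height_map_mk_add_le p.asIdeal s.asIdeal q.asIdeal hps' hsq'
  rw [← hht]
  calc _ ≤ depth (Localization.AtPrime p.asIdeal) (LocalizedModule p.asIdeal.primeCompl M) +
        (s.asIdeal.map (Ideal.Quotient.mk p.asIdeal)).height +
        (q.asIdeal.map (Ideal.Quotient.mk s.asIdeal)).height := add_le_add h1 h2
    _ ≤ _ := by
        rw [add_assoc]
        exact add_le_add le_rfl h3

end Adj

end Groth.Agent.Helper8.FD
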