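import Groth.Agent.Lib.Helper8.FD4

/-!
# `b` is not in the radical of the annihilator of `H^1_a(M)` (B-S 9.3.4)
-/

set_option autoImplicit false
universe u
open CategoryTheory CategoryTheory.Limits Opposite

namespace Groth.Agent.Helper8.FD

open Abelian localCohomology LocCoh IsLocalRing Groth.Agent.Helper8.LC Groth.Agent.Helper8.NV

variable {R : Type u} [CommRing R] [IsNoetherianRing R]

/-- the zeroth local cohomology of a finite module is killed by a power of the ideal. -/
lemma exists_pow_smul_H_zero_eq_zero (a : Ideal R) (M : Type u) [AddCommGroup M] [Module R M]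
    [Module.Finite R M] : ∃ j : ℕ, ∀ y ∈ a ^ j, ∀ t : H a 0 M, y • t = 0 := by
  obtain ⟨j, hj⟩ := exists_pow_le_annihilator_iSup_torsionBy a M
  refine ⟨j, fun y hy t => ?_⟩
  apply ev0_injective a (ModuleCat.of R M)
  rw [map_smul, map_zero]
  have hmem : ev0 a (ModuleCat.of R M) t ∈ (⨆ n : ℕ, LocCoh.torsionBy (a ^ n) M) := by
    rw [iSup_torsionBy_eq_torsionSub]
    exact ev0_mem a (ModuleCat.of R M) t
  have := Module.mem_annihilator.mp (hj hy) ⟨_, hmem⟩
  exact congrArg Subtype.val this

/-- the core statement for `M = R ⧸ p`: no `a^j s` with `s ∉ p` kills `H^1_a(R ⧸ p)` when the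
image of `a` in `R ⧸ p` has height one. -/
theorem not_forall_mul_smul_H_one_quotient_eq_zero (a : Ideal R) (p : Ideal R) [p.IsPrime]
    (hht : (a.map (algebraMap R (R ⧸ p))).height = 1) (s : R) (hs : s ∉ p) (j : ℕ)
    (hkill : ∀ y ∈ a ^ j, ∀ z : H a 1 (R ⧸ p), (y * s) • z = 0) : False := by
  let D := R ⧸ p
  let abar : Ideal D := a.map (algebraMap R D)
  -- step 1: transfer to `D`
  obtain ⟨φ₁, hφ₁⟩ := exists_semilinear_equiv (R := R) (R' := D) a 1 D
  have hkill₁ : ∀ y ∈ a ^ j, ∀ z : H abar 1 D, (algebraMap R D (y * s)) • z = 0 := by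
    intro y hy z
    apply φ₁.injective
    rw [hφ₁, map_zero]
    exact hkill y hy _
  -- step 2: a minimal prime of height one
  have hI := hht
  rw [Ideal.height_eq_inf_minimalPrimes] at hI
  have hI' : (⨅ J ∈ abar.minimalPrimes, J.height) = ((1 : ℕ) : ℕ∞) := by
    rw [Nat.cast_one]; exact hI
  simp only [ENat.iInf_eq_natCast_iff] at hI'
  rcases hI' with ⟨⟨Q, ⟨hQmin, hQh⟩, -⟩, -⟩
  haveI : Q.IsPrime := hQmin.1.1
  let S := Q.primeCompl
  let A' := Localization.AtPrime Q
  haveI : IsDomain A' :=
    IsLocalization.isDomain_localization (Ideal.primeCompl_le_nonZeroDivisors Q)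
  have hdim : ringKrullDim A' = 1 := by
    rw [IsLocalization.AtPrime.ringKrullDim_eq_height Q A', hQh]
    rfl
  let I' : Ideal A' := abar.map (algebraMap D A')
  have hI'rad : I'.radical = maximalIdeal A' := by
    rw [IsLocalization.AtPrime.radical_map_of_mem_minimalPrimes A' Q abar hQmin,
      IsLocalization.AtPrime.map_eq_maximalIdeal Q A']
  -- step 3: localize
  obtain ⟨e₃⟩ := nonempty_localizedModule_H_equiv abar S D 1
  let ε₀ : LocalizedModule S D ≃ₗ[D] A' :=
    IsLocalizedModule.linearEquiv S (LocalizedModule.mkLinearMap S D) (Algebra.linearMap D A')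
  let ε : LocalizedModule S D ≃ₗ[A'] A' := LinearEquiv.extendScalarsOfIsLocalization S A' ε₀
  let e₂ := ((localCohomology I' 1).mapIso ε.toModuleIso).toLinearEquiv
  have hkill₂ : ∀ y ∈ a ^ j, ∀ h : H I' 1 A',
      (algebraMap D A' (algebraMap R D (y * s))) • h = 0 := by
    intro y hy h
    obtain ⟨h', rfl⟩ := e₂.surjective h
    obtain ⟨h'', rfl⟩ := e₃.surjective h'
    rw [← map_smul, ← map_smul]
    have : (algebraMap D A' (algebraMap R D (y * s))) • h'' = 0 := by
      induction h'' using LocalizedModule.induction_on with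
      | h x t =>
        rw [algebraMap_smul, LocalizedModule.smul'_mk, hkill₁ y hy x, LocalizedModule.zero_mk]
    rw [this, map_zero, map_zero]
  -- step 4: conclude
  let s' : A' := algebraMap D A' (algebraMap R D s)
  have hs' : s' ≠ 0 := by
    intro h0
    have hinj : Function.Injective (algebraMap D A') :=
      IsLocalization.injective A' (Ideal.primeCompl_le_nonZeroDivisors Q)
    have h1 : algebraMap R D s = 0 := hinj (by rw [map_zero]; exact h0)
    exact hs (Ideal.Quotient.eq_zero_iff_mem.mp h1)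
  refine not_forall_mul_smul_eq_zero hdim I' hI'rad s' hs' j ?_
  intro c hc h
  have hc' : c ∈ Ideal.map ((algebraMap D A').comp (algebraMap R D)) (a ^ j) := by
    rw [← Ideal.map_map, Ideal.map_pow, Ideal.map_pow]
    exact hc
  refine Submodule.span_induction ?_ ?_ ?_ ?_ hc'
  · rintro _ ⟨y, hy, rfl⟩
    have := hkill₂ y hy h
    rw [map_mul, map_mul] at this
    exact this
  · rw [zero_mul, zero_smul]
  · intro x y _ _ hx hy
    rw [add_mul, add_smul, hx, hy, add_zero]
  · intro d x _ hx
    rw [smul_eq_mul, mul_assoc, mul_smul, hx, smul_zero]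

end Groth.Agent.Helper8.FD
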