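import Groth.Agent.Lib.Helper8.FD5

/-!
# `b` is not in the radical of the annihilator of `H^1_a(M)` (B-S 9.3.4), general module
-/

set_option autoImplicit false
universe u
open CategoryTheory CategoryTheory.Limits Opposite

namespace Groth.Agent.Helper8.FD

open Abelian localCohomology LocCoh IsLocalRing Groth.Agent.Helper8.LC Groth.Agent.Helper8.NV

variable {R : Type u} [CommRing R] [IsNoetherianRing R]

theorem not_le_radical_annihilator_H_one_of_associatedPrime (a b : Ideal R) (M : Type u)
    [AddCommGroup M] [Module R M] [Module.Finite R M] (p : Ideal R) [p.IsPrime]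
    (hp : p ∈ associatedPrimes R M) (hb : ¬ b ≤ p)
    (hht : ((a ⊔ p).map (Ideal.Quotient.mk p)).height = 1) :
    ¬ b ≤ (Module.annihilator R (H a 1 M)).radical := by
  intro hle
  obtain ⟨-, x, hx⟩ := isAssociatedPrime_iff.mp hp
  let g := LinearMap.toSpanSingleton R M x
  have hpk : p = LinearMap.ker g := by
    ext r
    rw [hx, Submodule.mem_colon_singleton, Submodule.mem_bot, LinearMap.mem_ker,
      LinearMap.toSpanSingleton_apply]
  let f : (R ⧸ p) →ₗ[R] M := Submodule.liftQ p g hpk.le
  have hf : Function.Injective f :=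
    LinearMap.ker_eq_bot.mp (Submodule.ker_liftQ_eq_bot' p g hpk)
  have hS := sesQuot_shortExact f hf
  obtain ⟨k, hk⟩ := Ideal.exists_pow_le_of_le_radical_of_fg hle (IsNoetherian.noetherian b)
  obtain ⟨r, hrb, hrp⟩ := SetLike.not_le_iff_exists.mp hb
  have hsp : r ^ k ∉ p := fun h => hrp (Ideal.IsPrime.mem_of_pow_mem inferInstance k h)
  obtain ⟨j, hj⟩ := exists_pow_smul_H_zero_eq_zero a (M ⧸ LinearMap.range f)
  have hht' : (a.map (algebraMap R (R ⧸ p))).height = 1 := by
    rw [← hht, Ideal.map_sup, Ideal.map_quotient_self, sup_bot_eq]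
    rfl
  refine not_forall_mul_smul_H_one_quotient_eq_zero a p hht' (r ^ k) hsp j ?_
  intro y hy z
  have h1 : ((localCohomology a 1).map (sesQuot f).f).hom ((r ^ k) • z) = 0 := by
    rw [map_smul]
    exact Module.mem_annihilator.mp (hk (Ideal.pow_mem_pow hrb k)) _
  obtain ⟨t, ht⟩ := (exact_δ_f a 0 hS ((r ^ k) • z)).mp h1
  rw [mul_smul, ← ht, ← map_smul, hj y hy t, map_zero]

end Groth.Agent.Helper8.FD
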