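import Groth.Agent.Lib.Helper8.FD6

/-!
# Finiteness dimension: basic API, the case `a ≤ p`, and localization
-/

set_option autoImplicit false
universe u
open CategoryTheory CategoryTheory.Limits Opposite

namespace Groth.Agent.Helper8.FD

open Abelian localCohomology LocCoh IsLocalRing Groth.Agent.Helper8.LC Groth.Agent.Helper8.NV
  Groth.Agent.Helper8.Depth RingTheory.Sequence

section API

variable {R : Type u} [CommRing R] (a b : Ideal R) (M : Type u) [AddCommGroup M] [Module R M]

lemma finDimRel_le_of_not_le (i : ℕ)
    (h : ¬ b ≤ (Module.annihilator R (H a i M)).radical) : finDimRel a b M ≤ i :=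
  iInf₂_le i h

lemma exists_of_finDimRel_le (n : ℕ) (h : finDimRel a b M ≤ n) :
    ∃ i ≤ n, ¬ b ≤ (Module.annihilator R (H a i M)).radical := by
  by_contra hcon
  push Not at hcon
  have h1 : ((n + 1 : ℕ) : ℕ∞) ≤ finDimRel a b M := by
    unfold finDimRel
    refine le_iInf₂ fun i hi => ?_
    by_contra hlt
    push Not at hlt
    have : i < n + 1 := by exact_mod_cast hlt
    exact hi (hcon i (by omega))
  have h2 := h1.trans h
  have : n + 1 ≤ n := by exact_mod_cast h2
  omega

end API

section Mono

variable {R : Type u} [CommRing R] {M : Type u} [AddCommGroup M] [Module R M]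

lemma idealDepth_mono_of_le {I J : Ideal R} (hIJ : I ≤ J) :
    idealDepth I M ≤ idealDepth J M := by
  by_cases hI : I • (⊤ : Submodule R M) = ⊤
  · have hJ : J • (⊤ : Submodule R M) = ⊤ := by
      have h1 : I • (⊤ : Submodule R M) ≤ J • (⊤ : Submodule R M) :=
        Submodule.smul_mono_left hIJ
      rw [hI] at h1
      exact eq_top_iff.mpr h1
    rw [idealDepth_of_smul_top_eq I M hI, idealDepth_of_smul_top_eq J M hJ]
  · rw [← ENat.forall_natCast_le_iff_le]
    intro n hn
    obtain ⟨rs, hlen, hreg, hmem⟩ := (le_idealDepth_iff hI n).mp hn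
    rw [← hlen]
    exact length_le_idealDepth hreg (fun r hr => hIJ (hmem r hr))

end Mono

section Z

variable {R : Type u} [CommRing R] [IsNoetherianRing R]

/-- the case `a ≤ p`. -/
theorem finDimRel_le_depth_of_le (a b : Ideal R) (M : Type u) [AddCommGroup M] [Module R M]
    [Module.Finite R M] (p : PrimeSpectrum R) (hap : a ≤ p.asIdeal) (hb : ¬ b ≤ p.asIdeal) :
    finDimRel a b M ≤
      depth (Localization.AtPrime p.asIdeal) (LocalizedModule p.asIdeal.primeCompl M) := by
  rcases subsingleton_or_nontrivial (LocalizedModule p.asIdeal.primeCompl M) with hsub | hnt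
  · rw [depth_eq_top_of_subsingleton]
    exact le_top
  · have hne := smul_top_ne_top_of_local (Localization.AtPrime p.asIdeal)
      (LocalizedModule p.asIdeal.primeCompl M)
    have hle : a.map (algebraMap R (Localization.AtPrime p.asIdeal)) ≤
        maximalIdeal (Localization.AtPrime p.asIdeal) := by
      rw [Ideal.map_le_iff_le_comap]
      have h1 := IsLocalization.AtPrime.under_maximalIdeal
        (Localization.AtPrime p.asIdeal) p.asIdeal
      rw [Ideal.under_def] at h1
      rw [h1]
      exact hap
    have hne' : a.map (algebraMap R (Localization.AtPrime p.asIdeal)) •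
        (⊤ : Submodule (Localization.AtPrime p.asIdeal)
          (LocalizedModule p.asIdeal.primeCompl M)) ≠ ⊤ := by
      intro h
      apply hne
      have h1 := Submodule.smul_mono_left (M := LocalizedModule p.asIdeal.primeCompl M)
        (N := ⊤) hle
      rw [h] at h1
      exact eq_top_iff.mpr h1
    obtain ⟨t, ht⟩ := ENat.ne_top_iff_exists.mp (idealDepth_ne_top hne')
    have h1 := not_le_radical_annihilator_H_idealDepth a b M p hb t ht.symm
    have h2 := finDimRel_le_of_not_le a b M t h1
    refine h2.trans ?_
    rw [ht]
    exact idealDepth_mono_of_le hle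

end Z

section Loc

variable {R : Type u} [CommRing R] [IsNoetherianRing R]

/-- the finiteness dimension can only go up under localization. -/
theorem finDimRel_le_localization (a b : Ideal R) (M : Type u) [AddCommGroup M] [Module R M]
    (S : Submonoid R) :
    finDimRel a b M ≤ finDimRel (a.map (algebraMap R (Localization S)))
      (b.map (algebraMap R (Localization S))) (LocalizedModule S M) := by
  unfold finDimRel
  refine le_iInf₂ fun i hi => iInf₂_le i (fun hle => hi ?_)
  rw [Ideal.map_le_iff_le_comap]
  intro r hr
  obtain ⟨k, hk⟩ := hle hr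
  refine ⟨k, ?_⟩
  rw [← map_pow, Module.mem_annihilator]
  intro h
  obtain ⟨e⟩ := nonempty_localizedModule_H_equiv a S M i
  obtain ⟨h', rfl⟩ := e.surjective h
  rw [← map_smul]
  have : (algebraMap R (Localization S) (r ^ k)) • h' = 0 := by
    induction h' using LocalizedModule.induction_on with
    | h x t =>
      rw [algebraMap_smul, LocalizedModule.smul'_mk, Module.mem_annihilator.mp hk x,
        LocalizedModule.zero_mk]
  rw [this, map_zero]

end Loc

end Groth.Agent.Helper8.FD
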