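import Groth.Agent.Lib.Helper8.FD7

/-!
# The local lemma for `f ≤ λ`
-/

set_option autoImplicit false
universe u
open CategoryTheory CategoryTheory.Limits Opposite

namespace Groth.Agent.Helper8.FD

open Abelian localCohomology LocCoh IsLocalRing Groth.Agent.Helper8.LC Groth.Agent.Helper8.NV
  Groth.Agent.Helper8.Depth RingTheory.Sequence

section LESmid

variable {R : Type u} [CommRing R] (a b : Ideal R) (i : ℕ)
  {S : ShortComplex (ModuleCat.{u} R)} (hS : S.ShortExact)

include hS in
/-- the middle term of `H^i(X₂) → H^i(X₃) → H^{i+1}(X₁)`. -/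
lemma le_radical_annihilator_X₃
    (h₂ : b ≤ (Module.annihilator R ((localCohomology a i).obj S.X₂)).radical)
    (h₁ : b ≤ (Module.annihilator R ((localCohomology a (i + 1)).obj S.X₁)).radical) :
    b ≤ (Module.annihilator R ((localCohomology a i).obj S.X₃)).radical := by
  intro r hr
  obtain ⟨k, hk⟩ := h₂ hr
  obtain ⟨n, hn⟩ := h₁ hr
  refine ⟨k + n, ?_⟩
  rw [Module.mem_annihilator]
  intro y
  have h1 : δ a i hS (r ^ n • y) = 0 := by
    rw [map_smul]
    exact Module.mem_annihilator.mp hn _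
  obtain ⟨x, hx⟩ := (exact_g_δ a i hS (r ^ n • y)).mp h1
  have h2 : r ^ k • x = 0 := Module.mem_annihilator.mp hk x
  rw [pow_add, mul_smul, ← hx]
  change r ^ k • ((localCohomology a i).map S.g).hom x = 0
  rw [← map_smul, h2, map_zero]

end LESmid

section Local

variable {A : Type u} [CommRing A] [IsNoetherianRing A] [IsLocalRing A]

/-- if `dim A/P ≤ 1` then the only primes above `P` are `P` and the maximal ideal. -/
lemma eq_or_eq_maximalIdeal_of_le' (P : Ideal A) [P.IsPrime] (hP : ringKrullDim (A ⧸ P) ≤ 1)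
    (Q : Ideal A) [hQ : Q.IsPrime] (hPQ : P ≤ Q) : Q = P ∨ Q = maximalIdeal A := by
  by_contra h
  push Not at h
  have h1 : P < Q := lt_of_le_of_ne hPQ (Ne.symm h.1)
  have h2 : Q < maximalIdeal A := lt_of_le_of_ne (le_maximalIdeal hQ.ne_top) h.2
  rw [ringKrullDim_quotient] at hP
  let P0 : PrimeSpectrum.zeroLocus (P : Set A) := ⟨⟨P, inferInstance⟩, le_refl P⟩
  let P1 : PrimeSpectrum.zeroLocus (P : Set A) := ⟨⟨Q, inferInstance⟩, hPQ⟩
  let P2 : PrimeSpectrum.zeroLocus (P : Set A) :=
    ⟨⟨maximalIdeal A, inferInstance⟩, le_maximalIdeal (Ideal.IsPrime.ne_top inferInstance)⟩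
  have h01 : P0 < P1 := h1
  have h12 : P1 < P2 := h2
  have e2 := Order.height_add_one_le h12
  have e3 := (Order.height_le_krullDim P2).trans hP
  have e4 : (2 : ℕ∞) ≤ Order.height P2 := by
    calc (2 : ℕ∞) = 0 + 1 + 1 := by norm_num
      _ ≤ Order.height P0 + 1 + 1 := by gcongr; exact bot_le
      _ ≤ Order.height P1 + 1 := by gcongr; exact Order.height_add_one_le h01
      _ ≤ Order.height P2 := e2
  have e5 : ((2 : ℕ∞) : WithBot ℕ∞) ≤ 1 := le_trans (by exact_mod_cast e4) e3
  have e6 : (2 : ℕ∞) ≤ 1 := by exact_mod_cast e5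
  norm_num at e6

/-- the relative height of `I + P` over `P` is one. -/
lemma height_map_sup_eq_one (P : Ideal A) [P.IsPrime] (hP : ringKrullDim (A ⧸ P) ≤ 1)
    (I : Ideal A) (hIP : ¬ I ≤ P) (hIm : I ≤ maximalIdeal A) :
    ((I ⊔ P).map (Ideal.Quotient.mk P)).height = 1 := by
  set J := (I ⊔ P).map (Ideal.Quotient.mk P) with hJ
  have hJtop : J ≠ ⊤ := by
    intro h
    have h1 : (I ⊔ P) ⊔ P = ⊤ := by
      have := congrArg (Ideal.comap (Ideal.Quotient.mk P)) h
      rw [hJ, Ideal.comap_map_of_surjective _ Ideal.Quotient.mk_surjective, Ideal.comap_top,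
        ← RingHom.ker_eq_comap_bot, Ideal.mk_ker] at this
      exact this
    have h2 : (I ⊔ P) ⊔ P ≤ maximalIdeal A :=
      sup_le (sup_le hIm (le_maximalIdeal (Ideal.IsPrime.ne_top inferInstance)))
        (le_maximalIdeal (Ideal.IsPrime.ne_top inferInstance))
    rw [h1] at h2
    exact (Ideal.IsPrime.ne_top (inferInstance : (maximalIdeal A).IsPrime)) (top_le_iff.mp h2)
  have hJbot : J ≠ ⊥ := by
    intro h
    obtain ⟨x, hxI, hxP⟩ := SetLike.not_le_iff_exists.mp hIP
    have h1 : Ideal.Quotient.mk P x ∈ J :=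
      Ideal.mem_map_of_mem _ (Ideal.mem_sup_left hxI)
    rw [h, Ideal.mem_bot, Ideal.Quotient.eq_zero_iff_mem] at h1
    exact hxP h1
  apply le_antisymm
  · have h1 := Ideal.height_le_ringKrullDim_of_ne_top hJtop
    have h2 := h1.trans hP
    exact_mod_cast h2
  · rw [Order.one_le_iff_ne_zero]
    intro h0
    exact hJbot (Ideal.height_eq_zero_iff_eq_bot.mp h0)

/-- quotient by the power torsion has no element killed by the maximal ideal. -/
lemma maximalIdeal_notMem_associatedPrimes_quotient_torsion (B : Ideal A)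
    (hBm : B ≤ maximalIdeal A) (Y : Type u) [AddCommGroup Y] [Module A Y] [Module.Finite A Y] :
    maximalIdeal A ∉ associatedPrimes A (Y ⧸ (⨆ n : ℕ, LocCoh.torsionBy (B ^ n) Y)) := by
  intro hass
  set N : Submodule A Y := ⨆ n : ℕ, LocCoh.torsionBy (B ^ n) Y with hN
  obtain ⟨-, ybar, hy⟩ := isAssociatedPrime_iff.mp hass
  obtain ⟨y, rfl⟩ := Submodule.Quotient.mk_surjective _ ybar
  have hBy : ∀ β ∈ B, β • y ∈ N := by
    intro β hβ
    have h1 : β ∈ Submodule.colon (⊥ : Submodule A (Y ⧸ N)) {Submodule.Quotient.mk y} := by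
      rw [← hy]
      exact hBm hβ
    rw [Submodule.mem_colon_singleton, Submodule.mem_bot, ← Submodule.Quotient.mk_smul,
      Submodule.Quotient.mk_eq_zero] at h1
    exact h1
  obtain ⟨n₀, hn₀⟩ := exists_pow_le_annihilator_iSup_torsionBy B Y
  have hyN : y ∈ N := by
    rw [hN, mem_iSup_torsionBy_iff]
    refine ⟨n₀ + 1, fun r hr => ?_⟩
    rw [pow_succ] at hr
    refine Submodule.mul_induction_on hr ?_ ?_
    · intro c hc β hβ
      rw [mul_smul]
      have := Module.mem_annihilator.mp (hn₀ hc) ⟨β • y, hBy β hβ⟩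
      exact congrArg Subtype.val this
    · intro u v hu hv
      rw [add_smul, hu, hv, add_zero]
  have h0 : (Submodule.Quotient.mk y : Y ⧸ N) = 0 := (Submodule.Quotient.mk_eq_zero N).mpr hyN
  have h1 : (1 : A) ∈ maximalIdeal A := by
    rw [hy, Submodule.mem_colon_singleton, h0, smul_zero]
    exact Submodule.zero_mem _
  exact (Ideal.IsPrime.ne_top (inferInstance : (maximalIdeal A).IsPrime))
    ((Ideal.eq_top_iff_one _).mpr h1)

end Local

end Groth.Agent.Helper8.FD
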