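import Groth.Agent.Lib.Helper8.FD8

/-!
# The local lemma for `f ≤ λ`: induction on the depth
-/

set_option autoImplicit false
universe u
open CategoryTheory CategoryTheory.Limits Opposite

namespace Groth.Agent.Helper8.FD

open Abelian localCohomology LocCoh IsLocalRing Groth.Agent.Helper8.LC Groth.Agent.Helper8.NV
  Groth.Agent.Helper8.Depth RingTheory.Sequence

variable {A : Type u} [CommRing A] [IsNoetherianRing A] [IsLocalRing A]

theorem finDimRel_le_succ_of_local (P : Ideal A) [hPp : P.IsPrime]
    (hP : ringKrullDim (A ⧸ P) ≤ 1) (I B : Ideal A) (hIP : ¬ I ≤ P)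
    (hIm : I ≤ maximalIdeal A) (hBP : ¬ B ≤ P) (hBm : B ≤ maximalIdeal A) :
    ∀ (t : ℕ) (Y : Type u) [AddCommGroup Y] [Module A Y] [Module.Finite A Y],
      depth (Localization.AtPrime P) (LocalizedModule P.primeCompl Y) = t →
      finDimRel I B Y ≤ ((t + 1 : ℕ) : ℕ∞) := by
  intro t
  induction t with
  | zero =>
    intro Y _ _ _ hd
    rw [Nat.cast_zero, depth_eq_zero_iff] at hd
    have hass : P ∈ associatedPrimes A Y := by
      have h1 := Module.associatedPrimes.preimage_comap_associatedPrimes_eq_associatedPrimes_of_isLocalizedModule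
        (S := P.primeCompl) (f := LocalizedModule.mkLinearMap P.primeCompl Y)
        (R' := Localization.AtPrime P)
      have h2 : maximalIdeal (Localization.AtPrime P) ∈
          (Ideal.comap (algebraMap A (Localization.AtPrime P))) ⁻¹' (associatedPrimes A Y) := by
        rw [h1]
        exact hd
      rw [Set.mem_preimage] at h2
      have h3 := IsLocalization.AtPrime.under_maximalIdeal (Localization.AtPrime P) P
      rw [Ideal.under_def] at h3
      rw [h3] at h2
      exact h2
    have hht := height_map_sup_eq_one P hP I hIP hIm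
    have h4 := not_le_radical_annihilator_H_one_of_associatedPrime I B Y P hass hBP hht
    exact finDimRel_le_of_not_le I B Y 1 h4
  | succ t ih =>
    intro Y _ _ _ hd
    set N : Submodule A Y := ⨆ n : ℕ, LocCoh.torsionBy (B ^ n) Y with hN
    have hf : finDimRel I B Y = finDimRel I B (Y ⧸ N) :=
      (finDimRel_eq_quotient_torsion I B Y B).1 le_rfl
    rw [hf]
    have hNP : ∀ x ∈ N, ∃ u ∈ P.primeCompl, u • x = 0 := by
      intro x hx
      obtain ⟨u, hu, hux⟩ := exists_notMem_smul_eq_zero_of_mem_iSup_torsionBy B P hBP x hx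
      exact ⟨u, hu, hux⟩
    have hd' : depth (Localization.AtPrime P) (LocalizedModule P.primeCompl (Y ⧸ N)) =
        ((t + 1 : ℕ) : ℕ∞) := by
      rw [← hd]
      exact (idealDepth_congr (LinearEquiv.ofBijective _
        (localizedModule_map_mkQ_bijective P.primeCompl N hNP))).symm
    haveI hnt : Nontrivial (LocalizedModule P.primeCompl (Y ⧸ N)) := by
      by_contra hcon
      rw [not_nontrivial_iff_subsingleton] at hcon
      rw [depth_eq_top_of_subsingleton] at hd'
      exact ENat.top_ne_natCast _ hd'
    -- a regular element in `P`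
    have hex : ∃ x ∈ P, IsSMulRegular (Y ⧸ N) x := by
      by_contra hcon
      push Not at hcon
      obtain ⟨Q, hQass, hPQ⟩ := exists_le_associatedPrime_of_forall_not_isSMulRegular P hcon
      haveI : Q.IsPrime := hQass.isPrime
      rcases eq_or_eq_maximalIdeal_of_le' P hP Q hPQ with h | h
      · rw [h] at hQass
        have h0 := depth_localization_eq_zero_of_mem_associatedPrimes (Y ⧸ N) P hQass
        rw [h0] at hd'
        have : (0 : ℕ) = t + 1 := by exact_mod_cast hd'
        omega
      · rw [h] at hQass
        exact maximalIdeal_notMem_associatedPrimes_quotient_torsion B hBm Y hQass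
    obtain ⟨x, hxP, hreg⟩ := hex
    have hd'' := depth_localizedModule_quotSMulTop P (Y ⧸ N) hxP hreg
    rw [hd'] at hd''
    have hdt : depth (Localization.AtPrime P)
        (LocalizedModule P.primeCompl (QuotSMulTop x (Y ⧸ N))) = (t : ℕ∞) := by
      generalize depth (Localization.AtPrime P)
        (LocalizedModule P.primeCompl (QuotSMulTop x (Y ⧸ N))) = dd at hd''
      have h1 : dd + 1 = (t : ℕ∞) + 1 := by
        rw [hd'']
        push_cast
        rfl
      exact (ENat.add_left_injective_of_ne_top ENat.one_ne_top) h1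
    have h5 := ih (QuotSMulTop x (Y ⧸ N)) hdt
    obtain ⟨i, hi, hnot⟩ := exists_of_finDimRel_le I B _ (t + 1) h5
    have hS := hreg.smulShortComplex_shortExact (M := ModuleCat.of A (Y ⧸ N))
    by_cases h6 : B ≤ (Module.annihilator A (H I i (Y ⧸ N))).radical
    · have h7 : ¬ B ≤ (Module.annihilator A (H I (i + 1) (Y ⧸ N))).radical := by
        intro h8
        have h9 := le_radical_annihilator_X₃ I B i hS h6 h8
        exact hnot h9
      refine (finDimRel_le_of_not_le I B _ (i + 1) h7).trans ?_
      exact_mod_cast (by omega : i + 1 ≤ t + 1 + 1)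
    · refine (finDimRel_le_of_not_le I B _ i h6).trans ?_
      exact_mod_cast (by omega : i ≤ t + 1 + 1)

end Groth.Agent.Helper8.FD
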