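import Mathlib
import Groth.Prelude.Def_PP16
import Groth.Agent.Lib.Helper8.BCSym1
import Groth.Agent.Lib.Helper8.SymPow2

/-!
# Flat base change of the cotangent module and of the graded pieces of an ideal
-/

set_option autoImplicit false

namespace Groth.Agent.Helper8.FFDesc

open TensorProduct PP16 Groth.Agent.Helper8.SymPow Groth.Agent.Helper8.BCMulti
  Groth.Agent.Helper8.BCSym

universe u

variable (A B : Type u) [CommRing A] [CommRing B] [Algebra A B] (I : Ideal A)

/-- The canonical map `I/I² → IB/(IB)²`. -/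
noncomputable def cotMap : I.Cotangent →ₗ[A] (I.map (algebraMap A B)).Cotangent :=
  Ideal.mapCotangent I (I.map (algebraMap A B)) (Algebra.ofId A B) Ideal.le_comap_map

theorem cotMap_toCotangent (x : ↥I) :
    cotMap A B I (I.toCotangent x) =
      (I.map (algebraMap A B)).toCotangent ⟨algebraMap A B x, Ideal.mem_map_of_mem _ x.2⟩ := rfl

/-- The canonical map `B ⊗ I/I² → IB/(IB)²`. -/
noncomputable def nu : B ⊗[A] I.Cotangent →ₗ[B] (I.map (algebraMap A B)).Cotangent :=
  LinearMap.liftBaseChange B (cotMap A B I)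

theorem nu_tmul (b : B) (x : ↥I) :
    nu A B I (b ⊗ₜ[A] I.toCotangent x) =
      b • (I.map (algebraMap A B)).toCotangent
        ⟨algebraMap A B x, Ideal.mem_map_of_mem _ x.2⟩ := rfl

theorem nu_surjective : Function.Surjective (nu A B I) := by
  intro y
  obtain ⟨⟨y, hy⟩, rfl⟩ := (I.map (algebraMap A B)).toCotangent_surjective y
  have key : ∀ (y : B) (hy : y ∈ I.map (algebraMap A B)),
      (I.map (algebraMap A B)).toCotangent ⟨y, hy⟩ ∈ LinearMap.range (nu A B I) := by
    intro y hy
    induction hy using Submodule.span_induction with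
    | mem y hy =>
      obtain ⟨x, hx, rfl⟩ := hy
      exact ⟨1 ⊗ₜ[A] I.toCotangent ⟨x, hx⟩, by rw [nu_tmul, one_smul]⟩
    | zero =>
      have : (I.map (algebraMap A B)).toCotangent ⟨0, Submodule.zero_mem _⟩ = 0 :=
        map_zero (I.map (algebraMap A B)).toCotangent
      rw [this]
      exact Submodule.zero_mem _
    | add y z hy hz ihy ihz =>
      have : (I.map (algebraMap A B)).toCotangent ⟨y + z, Submodule.add_mem _ hy hz⟩ =
          (I.map (algebraMap A B)).toCotangent ⟨y, hy⟩ +
            (I.map (algebraMap A B)).toCotangent ⟨z, hz⟩ :=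
        map_add (I.map (algebraMap A B)).toCotangent ⟨y, hy⟩ ⟨z, hz⟩
      rw [this]
      exact Submodule.add_mem _ ihy ihz
    | smul b y hy ih =>
      have : (I.map (algebraMap A B)).toCotangent ⟨b • y, Submodule.smul_mem _ b hy⟩ =
          b • (I.map (algebraMap A B)).toCotangent ⟨y, hy⟩ :=
        map_smul (I.map (algebraMap A B)).toCotangent b ⟨y, hy⟩
      rw [this]
      exact Submodule.smul_mem _ b ih
  exact key y hy

theorem nu_injective [Module.Flat A B] : Function.Injective (nu A B I) := by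
  let f : (I.map (algebraMap A B)).Cotangent →ₗ[B] B ⧸ (I.map (algebraMap A B)) ^ 2 :=
    (I.map (algebraMap A B)).cotangentToQuotientSquare
  suffices h : Function.Injective (f ∘ₗ nu A B I) from .of_comp h
  let g : B ⊗[A] I.Cotangent →ₗ[B] B ⊗[A] (A ⧸ I ^ 2) :=
    AlgebraTensorModule.lTensor B B I.cotangentToQuotientSquare
  let h₁ : B ⊗[A] (A ⧸ I ^ 2) ≃ₗ[B] B ⧸ (I ^ 2).map (algebraMap A B) :=
    (Algebra.TensorProduct.quotIdealMapEquivTensorQuot (A := A) B (I ^ 2)).symm.toLinearEquiv
  let h₂ : (B ⧸ (I ^ 2).map (algebraMap A B)) ≃ₗ[B] B ⧸ (I.map (algebraMap A B)) ^ 2 :=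
    (Ideal.quotientEquivAlgOfEq B (Ideal.map_pow _ _ _)).toLinearEquiv
  have hcomp : f ∘ₗ nu A B I = h₂.toLinearMap ∘ₗ h₁.toLinearMap ∘ₗ g := by
    refine LinearMap.ext fun z => ?_
    induction z using TensorProduct.induction_on with
    | zero => rw [map_zero, map_zero]
    | add x y hx hy => rw [map_add, map_add, hx, hy]
    | tmul b x =>
      obtain ⟨x, rfl⟩ := I.toCotangent_surjective x
      show f (nu A B I (b ⊗ₜ[A] I.toCotangent x)) =
        h₂ (h₁ (b ⊗ₜ[A] I.cotangentToQuotientSquare (I.toCotangent x)))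
      rw [nu_tmul, map_smul]
      show b • Ideal.Quotient.mk _ (algebraMap A B x) = _
      have h3 : I.cotangentToQuotientSquare (I.toCotangent x) = Ideal.Quotient.mk _ (x : A) :=
        rfl
      rw [h3]
      have h4 : h₁ (b ⊗ₜ[A] Ideal.Quotient.mk (I ^ 2) (x : A)) =
          Ideal.Quotient.mk _ ((x : A) • b) :=
        Algebra.TensorProduct.quotIdealMapEquivTensorQuot_symm_tmul (A := A) B (I ^ 2) b (x : A)
      rw [h4]
      have h5 : h₂ (Ideal.Quotient.mk _ ((x : A) • b)) = Ideal.Quotient.mk _ ((x : A) • b) := rfl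
      rw [h5, Algebra.smul_def, Algebra.smul_def, mul_comm (algebraMap A B (x : A)) b, map_mul]
      rfl
  rw [hcomp, LinearMap.coe_comp, LinearMap.coe_comp]
  refine h₂.injective.comp (h₁.injective.comp ?_)
  exact Module.Flat.lTensor_preserves_injective_linearMap (M := B)
    (I.cotangentToQuotientSquare.restrictScalars A) I.cotangentToQuotientSquare_injective

/-- Flat base change of the cotangent module. -/
noncomputable def nuEquiv [Module.Flat A B] :
    B ⊗[A] I.Cotangent ≃ₗ[B] (I.map (algebraMap A B)).Cotangent :=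
  LinearEquiv.ofBijective (nu A B I) ⟨nu_injective A B I, nu_surjective A B I⟩

theorem nuEquiv_tmul [Module.Flat A B] (b : B) (x : ↥I) :
    nuEquiv A B I (b ⊗ₜ[A] I.toCotangent x) =
      b • (I.map (algebraMap A B)).toCotangent
        ⟨algebraMap A B x, Ideal.mem_map_of_mem _ x.2⟩ := rfl

end Groth.Agent.Helper8.FFDesc
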