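import Mathlib
import Groth.Prelude.Def_PP16
import Groth.Agent.Lib.Helper8.FFDesc1

/-!
# Faithfully flat descent of the bijectivity of `Sym(J/J²) → gr_J`
-/

set_option autoImplicit false

namespace Groth.Agent.Helper8.FFDesc

open TensorProduct PP16 Groth.Agent.Helper8.SymPow Groth.Agent.Helper8.BCMulti
  Groth.Agent.Helper8.BCSym

universe u

variable (A B : Type u) [CommRing A] [CommRing B] [Algebra A B] (I : Ideal A)

section grMap

variable (n : ℕ)

/-- The map `I^n → (IB)^n`. -/
noncomputable def powMap : ↥(I ^ n) →ₗ[A] ↥((I.map (algebraMap A B)) ^ n) where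
  toFun x := ⟨algebraMap A B x, by
    rw [← Ideal.map_pow]; exact Ideal.mem_map_of_mem _ x.2⟩
  map_add' x y := Subtype.ext (map_add _ _ _)
  map_smul' a x := Subtype.ext (by
    show algebraMap A B (a • (x : A)) = a • algebraMap A B (x : A)
    rw [smul_eq_mul, map_mul, Algebra.smul_def])

/-- The map `I^n/I^(n+1) → (IB)^n/(IB)^(n+1)`. -/
noncomputable def grMap : grJ A I n →ₗ[A] grJ B (I.map (algebraMap A B)) n :=
  Submodule.liftQ _ (((Submodule.mkQ _).restrictScalars A) ∘ₗ powMap A B I n) (by
    intro x hx
    rw [LinearMap.mem_ker, LinearMap.comp_apply]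
    show Submodule.Quotient.mk (powMap A B I n x) = 0
    rw [Submodule.Quotient.mk_eq_zero]
    show algebraMap A B (x : A) ∈ (I.map (algebraMap A B)) ^ (n + 1)
    rw [← Ideal.map_pow]
    exact Ideal.mem_map_of_mem _ hx)

theorem grMap_mk (x : ↥(I ^ n)) :
    grMap A B I n (Submodule.Quotient.mk x) = Submodule.Quotient.mk (powMap A B I n x) := rfl

end grMap

theorem grMap_zetaJ {ι : Type u} [Fintype ι] (x : ι → ↥I) :
    grMap A B I (Fintype.card ι) (zetaJ A I x) =
      zetaJ B (I.map (algebraMap A B))
        (fun i => ⟨algebraMap A B (x i), Ideal.mem_map_of_mem _ (x i).2⟩) := by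
  unfold zetaJ
  rw [grMap_mk]
  congr 1
  apply Subtype.ext
  show algebraMap A B (∏ i, (x i : A)) = ∏ i, algebraMap A B (x i : A)
  rw [map_prod]

section main

variable {A B I}

theorem span_range_nuEquiv [Module.Flat A B] :
    Submodule.span B (Set.range fun n : I.Cotangent => nuEquiv A B I ((1 : B) ⊗ₜ[A] n)) = ⊤ := by
  have h1 : (Set.range fun n : I.Cotangent => nuEquiv A B I ((1 : B) ⊗ₜ[A] n)) =
      (nuEquiv A B I).toLinearMap '' (Set.range fun n : I.Cotangent => (1 : B) ⊗ₜ[A] n) := by
    rw [← Set.range_comp]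
    rfl
  rw [h1, ← Submodule.map_span, span_one_tmul, Submodule.map_top, LinearMap.range_eq_top]
  exact (nuEquiv A B I).surjective

/-- The comparison square between `Sym → gr` over `A` and over `B`. -/
theorem comm_square [Module.Flat A B] (ι : Type u) [Fintype ι] :
    (LinearMap.liftBaseChange B (grMap A B I (Fintype.card ι))) ∘ₗ
      ((phi A I ι).baseChange B) ∘ₗ (delta (nuEquiv A B I) ι) =
      phi B (I.map (algebraMap A B)) ι := by
  apply SymPow.hom_ext
  intro v
  have h1 : ((LinearMap.liftBaseChange B (grMap A B I (Fintype.card ι))) ∘ₗ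
      ((phi A I ι).baseChange B) ∘ₗ (delta (nuEquiv A B I) ι)).compMultilinearMap
        (SymmetricPower.tprod B) =
      (phi B (I.map (algebraMap A B)) ι).compMultilinearMap (SymmetricPower.tprod B) := by
    refine Groth.Agent.Helper8.DiffSm.multilinear_ext_of_span _ span_range_nuEquiv _ _
      fun w hw => ?_
    choose n hn using hw
    obtain ⟨x, rfl⟩ := exists_lift_fun A I ι n
    have hw' : w = fun i => nuEquiv A B I ((1 : B) ⊗ₜ[A] I.toCotangent (x i)) :=
      funext fun i => (hn i).symm
    rw [LinearMap.compMultilinearMap_apply, LinearMap.compMultilinearMap_apply, hw',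
      LinearMap.comp_apply, LinearMap.comp_apply, delta_tprod_one, LinearMap.baseChange_tmul,
      LinearMap.liftBaseChange_tmul, one_smul, phi_tprod, grMap_zetaJ]
    have h2 : (fun i => nuEquiv A B I ((1 : B) ⊗ₜ[A] I.toCotangent (x i))) =
        fun i => (I.map (algebraMap A B)).toCotangent
          (⟨algebraMap A B (x i), Ideal.mem_map_of_mem _ (x i).2⟩ :
            ↥(I.map (algebraMap A B))) := by
      funext i
      rw [nuEquiv_tmul, one_smul]
    rw [h2, phi_tprod]
  exact congrArg (fun F => F v) h1

/-- **Faithfully flat descent** of the bijectivity of `Sym(I/I²) → gr_I`. -/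
theorem symGrBijective_of_faithfullyFlat [Module.FaithfullyFlat A B]
    (h : SymGrBijective B (I.map (algebraMap A B))) : SymGrBijective A I := by
  rw [symGrBijective_iff] at h ⊢
  intro ι _ _
  have hB := h ι
  have hbc : Function.Injective ((phi A I ι).baseChange B) := by
    rw [injective_iff_map_eq_zero]
    intro z hz
    obtain ⟨y, rfl⟩ := delta_surjective (nuEquiv A B I) ι z
    have h1 : phi B (I.map (algebraMap A B)) ι y = 0 := by
      rw [← comm_square (A := A) (B := B) (I := I) ι, LinearMap.comp_apply,
        LinearMap.comp_apply, hz, map_zero]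
    have h2 : y = 0 := hB (h1.trans (map_zero _).symm)
    rw [h2, map_zero]
  exact (Module.FaithfullyFlat.lTensor_injective_iff_injective A B _).1 hbc

end main

end Groth.Agent.Helper8.FFDesc
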