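import Mathlib
import Groth.Prelude.Def_PP16
import Groth.Agent.Lib.Helper8.FFDesc2
import Groth.Agent.S0585

/-!
# Faithfully flat descent of the projectivity of the cotangent module
-/

set_option autoImplicit false

namespace Groth.Agent.Helper8.FFDesc

open TensorProduct PP16

universe u

variable (A B : Type u) [CommRing A] [CommRing B] [Algebra A B] (I : Ideal A)

instance faithfullyFlat_quotient [Module.FaithfullyFlat A B] :
    Module.FaithfullyFlat (A ⧸ I) (B ⧸ I.map (algebraMap A B)) :=
  Module.FaithfullyFlat.of_linearEquiv (A ⧸ I) ((A ⧸ I) ⊗[A] B)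
    (Algebra.TensorProduct.quotIdealMapEquivQuotTensor B I).toLinearEquiv

section proj

theorem mk_smul_cotangent {R : Type u} [CommRing R] (K : Ideal R) (a : R) (n : K.Cotangent) :
    Ideal.Quotient.mk K a • n = a • n := by
  have h1 : Ideal.Quotient.mk K a = a • (1 : R ⧸ K) := by
    rw [Algebra.smul_def, mul_one]
    rfl
  rw [h1, smul_assoc, one_smul]

/-- The `A/I`-module structure on `IB/(IB)²` (a local instance). -/
@[reducible] noncomputable def modQuot :
    Module (A ⧸ I) (I.map (algebraMap A B)).Cotangent :=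
  Module.compHom _ (algebraMap (A ⧸ I) (B ⧸ I.map (algebraMap A B)))

theorem isScalarTower_modQuot :
    letI := modQuot A B I
    IsScalarTower (A ⧸ I) (B ⧸ I.map (algebraMap A B)) (I.map (algebraMap A B)).Cotangent :=
  letI := modQuot A B I
  IsScalarTower.of_algebraMap_smul fun _ _ => rfl

theorem mk_smul_modQuot (a : A) (y : (I.map (algebraMap A B)).Cotangent) :
    letI := modQuot A B I
    Ideal.Quotient.mk I a • y = a • y := by
  letI := modQuot A B I
  show algebraMap (A ⧸ I) (B ⧸ I.map (algebraMap A B)) (Ideal.Quotient.mk I a) • y = a • y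
  rw [Ideal.Quotient.algebraMap_quotient_map_quotient, mk_smul_cotangent, algebraMap_smul]

/-- The canonical map `I/I² → IB/(IB)²`, as an `A/I`-linear map. -/
noncomputable def cotMapQ :
    letI := modQuot A B I
    I.Cotangent →ₗ[A ⧸ I] (I.map (algebraMap A B)).Cotangent :=
  letI := modQuot A B I
  { toFun := cotMap A B I
    map_add' := map_add _
    map_smul' := fun r n => by
      obtain ⟨a, rfl⟩ := Ideal.Quotient.mk_surjective r
      rw [mk_smul_cotangent, map_smul, RingHom.id_apply, mk_smul_modQuot] }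

/-- The comparison map `(B/IB) ⊗_{A/I} I/I² → IB/(IB)²`. -/
noncomputable def iMap :
    (B ⧸ I.map (algebraMap A B)) ⊗[A ⧸ I] I.Cotangent →ₗ[B ⧸ I.map (algebraMap A B)]
      (I.map (algebraMap A B)).Cotangent :=
  letI := modQuot A B I
  haveI := isScalarTower_modQuot A B I
  LinearMap.liftBaseChange (B ⧸ I.map (algebraMap A B)) (cotMapQ A B I)

theorem iMap_tmul (b : B) (n : I.Cotangent) :
    iMap A B I (Ideal.Quotient.mk (I.map (algebraMap A B)) b ⊗ₜ[A ⧸ I] n) =
      b • cotMap A B I n := by
  letI := modQuot A B I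
  haveI := isScalarTower_modQuot A B I
  show Ideal.Quotient.mk (I.map (algebraMap A B)) b • cotMap A B I n = _
  rw [mk_smul_cotangent]

/-- The map `B ⊗_A I/I² → (B/IB) ⊗_{A/I} I/I²`, as an additive map. -/
noncomputable def kappa :
    B ⊗[A] I.Cotangent →+ (B ⧸ I.map (algebraMap A B)) ⊗[A ⧸ I] I.Cotangent :=
  TensorProduct.liftAddHom
    ((LinearMap.toAddMonoidHom' (σ₁₂ := RingHom.id (A ⧸ I))).comp
      ((TensorProduct.mk (A ⧸ I) (B ⧸ I.map (algebraMap A B)) I.Cotangent).toAddMonoidHom.comp
        (Ideal.Quotient.mk (I.map (algebraMap A B))).toAddMonoidHom))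
    (fun a b n => by
      show Ideal.Quotient.mk (I.map (algebraMap A B)) (a • b) ⊗ₜ[A ⧸ I] n =
        Ideal.Quotient.mk (I.map (algebraMap A B)) b ⊗ₜ[A ⧸ I] (a • n)
      have h1 : Ideal.Quotient.mk (I.map (algebraMap A B)) (a • b) =
          Ideal.Quotient.mk I a • Ideal.Quotient.mk (I.map (algebraMap A B)) b := by
        rw [Ideal.Quotient.mk_smul_mk_quotient_map_quotient, Algebra.smul_def]
      rw [h1, ← mk_smul_cotangent, TensorProduct.smul_tmul])

theorem kappa_tmul (b : B) (n : I.Cotangent) :
    kappa A B I (b ⊗ₜ[A] n) = Ideal.Quotient.mk (I.map (algebraMap A B)) b ⊗ₜ[A ⧸ I] n := rfl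

theorem kappa_smul (b : B) (x : B ⊗[A] I.Cotangent) :
    kappa A B I (b • x) = Ideal.Quotient.mk (I.map (algebraMap A B)) b • kappa A B I x := by
  induction x using TensorProduct.induction_on with
  | zero => rw [smul_zero, map_zero, smul_zero]
  | add x y hx hy => rw [smul_add, map_add, hx, hy, map_add, smul_add]
  | tmul b' n =>
    rw [TensorProduct.smul_tmul', kappa_tmul, kappa_tmul, TensorProduct.smul_tmul', smul_eq_mul,
      smul_eq_mul, map_mul]

variable [Module.Flat A B]

/-- The retraction `IB/(IB)² → (B/IB) ⊗_{A/I} I/I²`. -/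
noncomputable def sMap :
    (I.map (algebraMap A B)).Cotangent →ₗ[B ⧸ I.map (algebraMap A B)]
      (B ⧸ I.map (algebraMap A B)) ⊗[A ⧸ I] I.Cotangent where
  toFun y := kappa A B I ((nuEquiv A B I).symm y)
  map_add' y y' := by rw [map_add, map_add]
  map_smul' r y := by
    obtain ⟨b, rfl⟩ := Ideal.Quotient.mk_surjective r
    rw [mk_smul_cotangent, map_smul, kappa_smul]
    rfl

theorem sMap_comp_iMap : (sMap A B I).comp (iMap A B I) = LinearMap.id := by
  refine LinearMap.ext fun z => ?_
  induction z using TensorProduct.induction_on with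
  | zero => rw [map_zero, map_zero]
  | add x y hx hy => rw [map_add, map_add, hx, hy]
  | tmul r n =>
    obtain ⟨b, rfl⟩ := Ideal.Quotient.mk_surjective r
    obtain ⟨x, rfl⟩ := I.toCotangent_surjective n
    rw [LinearMap.comp_apply, iMap_tmul, LinearMap.id_apply]
    show kappa A B I ((nuEquiv A B I).symm (b • cotMap A B I (I.toCotangent x))) = _
    have h1 : b • cotMap A B I (I.toCotangent x) =
        nuEquiv A B I (b ⊗ₜ[A] I.toCotangent x) := by
      rw [nuEquiv_tmul, cotMap_toCotangent]
    rw [h1, LinearEquiv.symm_apply_apply, kappa_tmul]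

/-- **Faithfully flat descent of the projectivity of the cotangent module.** -/
theorem projective_cotangent_of_faithfullyFlat (hff : Module.FaithfullyFlat A B)
    (h : Module.Projective (B ⧸ I.map (algebraMap A B)) (I.map (algebraMap A B)).Cotangent) :
    Module.Projective (A ⧸ I) I.Cotangent := by
  haveI := hff
  haveI : Module.Projective (B ⧸ I.map (algebraMap A B))
      ((B ⧸ I.map (algebraMap A B)) ⊗[A ⧸ I] I.Cotangent) :=
    Module.Projective.of_split (iMap A B I) (sMap A B I) (sMap_comp_iMap A B I)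
  exact Groth.Agent.S0585.result (A ⧸ I) (B ⧸ I.map (algebraMap A B)) I.Cotangent

end proj

end Groth.Agent.Helper8.FFDesc
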