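import Mathlib
import Groth.Prelude.Def_PP16
import Groth.Agent.Lib.Helper8.FFDesc3
import Groth.Agent.Lib.Helper8.DiffSm5

/-!
# Faithfully flat descent of differential smoothness
-/

set_option autoImplicit false

namespace Groth.Agent.Helper8.FFDesc

open TensorProduct PP16 Groth.Agent.Helper8.DiffSm

universe u

variable (A B A' B' : Type u) [CommRing A] [CommRing B] [Algebra A B]
  [CommRing A'] [CommRing B'] [Algebra A' B'] [Algebra A A'] [Algebra B B'] [Algebra A B']
  [IsScalarTower A A' B'] [IsScalarTower A B B'] [Algebra.IsPushout A B A' B']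

theorem faithfullyFlat_right [Module.FaithfullyFlat A A'] : Module.FaithfullyFlat B B' :=
  Module.FaithfullyFlat.of_linearEquiv B (B ⊗[A] A')
    (Algebra.IsPushout.out (R := A) (S := B) (R' := A') (S' := B')).equiv.symm

theorem projective_and_finite_kaehler [Module.FaithfullyFlat A A']
    (hproj : Module.Projective B' (KaehlerDifferential A' B'))
    (hfin : Module.Finite B' (KaehlerDifferential A' B')) :
    Module.Projective B (KaehlerDifferential A B) ∧ Module.Finite B (KaehlerDifferential A B) := by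
  haveI : Algebra.IsPushout A A' B B' := Algebra.IsPushout.symm inferInstance
  haveI := faithfullyFlat_right A B A' B'
  let e := KaehlerDifferential.tensorKaehlerEquiv A A' B B'
  haveI : Module.Projective B' (B' ⊗[B] KaehlerDifferential A B) :=
    Module.Projective.of_equiv e.symm
  haveI : Module.Finite B' (B' ⊗[B] KaehlerDifferential A B) := Module.Finite.equiv e.symm
  exact ⟨Groth.Agent.S0585.result B B' (KaehlerDifferential A B),
    Module.Finite.of_finite_tensorProduct_of_faithfullyFlat B'⟩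

/-- `B' ⊗_{A'} B'` is the base change of `B ⊗_A B` along `A → A'`. -/
theorem isBaseChange_tensorMap : IsBaseChange A' (PP16.tensorMap A B A' B').toLinearMap := by
  haveI : Algebra.IsPushout A A' B B' := Algebra.IsPushout.symm inferInstance
  let e : A' ⊗[A] B ≃ₐ[A'] B' := Algebra.IsPushout.equiv A A' B B'
  let Φ : A' ⊗[A] (B ⊗[A] B) ≃ₗ[A'] B' ⊗[A'] B' :=
    (AlgebraTensorModule.distribBaseChange A A' B B) ≪≫ₗ
      (TensorProduct.congr e.toLinearEquiv e.toLinearEquiv)
  refine IsBaseChange.of_equiv Φ (fun x => ?_)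
  induction x using TensorProduct.induction_on with
  | zero => rw [TensorProduct.tmul_zero, map_zero, map_zero]
  | add x y hx hy => rw [TensorProduct.tmul_add, map_add, hx, hy, map_add]
  | tmul b₁ b₂ =>
    show TensorProduct.congr e.toLinearEquiv e.toLinearEquiv
      (AlgebraTensorModule.distribBaseChange A A' B B ((1 : A') ⊗ₜ[A] (b₁ ⊗ₜ[A] b₂))) = _
    rw [AlgebraTensorModule.distribBaseChange_tmul, TensorProduct.congr_tmul]
    show e ((1 : A') ⊗ₜ[A] b₁) ⊗ₜ[A'] e ((1 : A') ⊗ₜ[A] b₂) = PP16.tensorMap A B A' B' (b₁ ⊗ₜ b₂)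
    rw [PP16.tensorMap_tmul, Algebra.IsPushout.equiv_tmul, Algebra.IsPushout.equiv_tmul, map_one,
      one_mul, one_mul]

/-- `B' ⊗_{A'} B'` as an algebra over `B ⊗_A B` (a local instance). -/
@[reducible] noncomputable def tensorAlgebra : Algebra (B ⊗[A] B) (B' ⊗[A'] B') :=
  (PP16.tensorMap A B A' B').toRingHom.toAlgebra

theorem algebraMap_tensorAlgebra (r : B ⊗[A] B) :
    letI := tensorAlgebra A B A' B'
    algebraMap (B ⊗[A] B) (B' ⊗[A'] B') r = PP16.tensorMap A B A' B' r := rfl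

theorem faithfullyFlat_tensor [Module.FaithfullyFlat A A'] :
    letI := tensorAlgebra A B A' B'
    Module.FaithfullyFlat (B ⊗[A] B) (B' ⊗[A'] B') := by
  letI := tensorAlgebra A B A' B'
  haveI : IsScalarTower A (B ⊗[A] B) (B' ⊗[A'] B') :=
    IsScalarTower.of_algebraMap_eq fun a => ((PP16.tensorMap A B A' B').commutes a).symm
  haveI h1 : Algebra.IsPushout A A' (B ⊗[A] B) (B' ⊗[A'] B') :=
    ⟨isBaseChange_tensorMap A B A' B'⟩
  haveI h2 : Algebra.IsPushout A (B ⊗[A] B) A' (B' ⊗[A'] B') := Algebra.IsPushout.symm h1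
  exact Module.FaithfullyFlat.of_linearEquiv (B ⊗[A] B) ((B ⊗[A] B) ⊗[A] A') h2.out.equiv.symm

theorem map_ideal_eq :
    letI := tensorAlgebra A B A' B'
    (KaehlerDifferential.ideal A B).map (algebraMap (B ⊗[A] B) (B' ⊗[A'] B')) =
      KaehlerDifferential.ideal A' B' := by
  letI := tensorAlgebra A B A' B'
  apply le_antisymm
  · exact PP16.ideal_map_tensorMap_le A B A' B'
  · rw [← KaehlerDifferential.span_range_eq_ideal, Ideal.span_le]
    rintro _ ⟨b', rfl⟩
    haveI : Algebra.IsPushout A A' B B' := Algebra.IsPushout.symm inferInstance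
    have hbc : IsBaseChange A' (IsScalarTower.toAlgHom A B B').toLinearMap :=
      Algebra.IsPushout.out
    refine hbc.inductionOn b' (fun b' => (1 : B') ⊗ₜ[A'] b' - b' ⊗ₜ[A'] (1 : B') ∈
      (KaehlerDifferential.ideal A B).map (algebraMap (B ⊗[A] B) (B' ⊗[A'] B'))) ?_ ?_ ?_ ?_
    · show (1 : B') ⊗ₜ[A'] (0 : B') - (0 : B') ⊗ₜ[A'] (1 : B') ∈ _
      rw [TensorProduct.tmul_zero, TensorProduct.zero_tmul, sub_zero]
      exact Ideal.zero_mem _
    · intro b
      have h1 : (1 : B') ⊗ₜ[A'] (algebraMap B B' b) - (algebraMap B B' b) ⊗ₜ[A'] (1 : B') =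
          algebraMap (B ⊗[A] B) (B' ⊗[A'] B') ((1 : B) ⊗ₜ[A] b - b ⊗ₜ[A] (1 : B)) := by
        rw [algebraMap_tensorAlgebra, map_sub, PP16.tensorMap_tmul, PP16.tensorMap_tmul, map_one]
      show (1 : B') ⊗ₜ[A'] (algebraMap B B' b) - (algebraMap B B' b) ⊗ₜ[A'] (1 : B') ∈ _
      rw [h1]
      exact Ideal.mem_map_of_mem _ (KaehlerDifferential.one_smul_sub_smul_one_mem_ideal A b)
    · intro a' n hn
      have h1 : (1 : B') ⊗ₜ[A'] (a' • n) - (a' • n) ⊗ₜ[A'] (1 : B') =
          a' • ((1 : B') ⊗ₜ[A'] n - n ⊗ₜ[A'] (1 : B')) := by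
        rw [smul_sub, TensorProduct.tmul_smul, ← TensorProduct.smul_tmul']
      show (1 : B') ⊗ₜ[A'] (a' • n) - (a' • n) ⊗ₜ[A'] (1 : B') ∈ _
      rw [h1, Algebra.smul_def]
      exact Ideal.mul_mem_left _ _ hn
    · intro n₁ n₂ h1 h2
      have h3 : (1 : B') ⊗ₜ[A'] (n₁ + n₂) - (n₁ + n₂) ⊗ₜ[A'] (1 : B') =
          ((1 : B') ⊗ₜ[A'] n₁ - n₁ ⊗ₜ[A'] (1 : B')) +
            ((1 : B') ⊗ₜ[A'] n₂ - n₂ ⊗ₜ[A'] (1 : B')) := by
        rw [TensorProduct.tmul_add, TensorProduct.add_tmul]
        abel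
      show (1 : B') ⊗ₜ[A'] (n₁ + n₂) - (n₁ + n₂) ⊗ₜ[A'] (1 : B') ∈ _
      rw [h3]
      exact Ideal.add_mem _ h1 h2

/-- **Faithfully flat descent of differential smoothness.** -/
theorem isDiffSmooth_of_faithfullyFlat_baseChange [Module.FaithfullyFlat A A']
    (h : IsDiffSmooth A' B') (hfin : Module.Finite B' (KaehlerDifferential A' B')) :
    IsDiffSmooth A B ∧ Module.Finite B (KaehlerDifferential A B) := by
  obtain ⟨hproj, hfin'⟩ := projective_and_finite_kaehler A B A' B' h.1 hfin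
  refine ⟨?_, hfin'⟩
  letI := tensorAlgebra A B A' B'
  haveI := faithfullyFlat_tensor A B A' B'
  have hsym' := symGrBijective_of_isDiffSmooth A' B' h
  rw [← map_ideal_eq A B A' B'] at hsym'
  exact isDiffSmooth_of_symGrBijective A B hproj (symGrBijective_of_faithfullyFlat hsym')

end Groth.Agent.Helper8.FFDesc
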