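import Mathlib

/-!
# Finite free algebras dominating finite algebras over a localization
-/

set_option autoImplicit false
universe u

namespace Groth.Agent.Helper8.FFree

open Polynomial

/-- Finitely many integral elements are hit by a finite free algebra. -/
theorem exists_finite_free_algHom (R : Type u) [CommRing R] (B : Type u) [CommRing B]
    [Algebra R B] : ∀ (r : ℕ) (c : Fin r → B), (∀ i, IsIntegral R (c i)) →
    ∃ (S : Type u) (_ : CommRing S) (_ : Algebra R S) (_ : Module.Finite R S)
      (_ : Module.Free R S) (φ : S →ₐ[R] B), ∀ i, c i ∈ φ.range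
  | 0, c, _ => ⟨R, inferInstance, inferInstance, inferInstance, inferInstance,
      Algebra.ofId R B, fun i => i.elim0⟩
  | r + 1, c, hc => by
    obtain ⟨S, _, _, _, _, φ, hφ⟩ := exists_finite_free_algHom R B r (fun i => c i.succ)
      (fun i => hc i.succ)
    obtain ⟨f, hf, hf0⟩ := hc 0
    have hmonic : (f.map (algebraMap R S)).Monic := hf.map _
    have h0 : (f.map (algebraMap R S)).eval₂ (φ : S →+* B) (c 0) = 0 := by
      rw [Polynomial.eval₂_map]
      have : (φ : S →+* B).comp (algebraMap R S) = algebraMap R B := φ.comp_algebraMap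
      rw [this]
      exact hf0
    let pb := AdjoinRoot.powerBasis' hmonic
    haveI : Module.Finite S (AdjoinRoot (f.map (algebraMap R S))) := pb.finite
    haveI : Module.Free S (AdjoinRoot (f.map (algebraMap R S))) := Module.Free.of_basis pb.basis
    haveI : Module.Finite R (AdjoinRoot (f.map (algebraMap R S))) := Module.Finite.trans S _
    haveI : Module.Free R (AdjoinRoot (f.map (algebraMap R S))) := Module.Free.trans (S := S)
    refine ⟨AdjoinRoot (f.map (algebraMap R S)), inferInstance, inferInstance, inferInstance,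
      inferInstance, AdjoinRoot.liftAlgHom _ φ (c 0) h0, ?_⟩
    intro i
    refine Fin.cases ?_ (fun j => ?_) i
    · refine ⟨AdjoinRoot.root _, ?_⟩
      simp
    · obtain ⟨x, hx⟩ := hφ j
      refine ⟨AdjoinRoot.of _ x, ?_⟩
      simpa using hx

/-- A finite algebra over a localization `A` of `R` is dominated, up to denominators, by a finite
free `R`-algebra. -/
theorem exists_finite_free_dominating (R : Type u) [CommRing R] (M : Submonoid R)
    (A : Type u) [CommRing A] [Algebra R A] [IsLocalization M A]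
    (B : Type u) [CommRing B] [Algebra A B] [Algebra R B] [IsScalarTower R A B]
    [Module.Finite A B] :
    ∃ (S : Type u) (_ : CommRing S) (_ : Algebra R S) (_ : Module.Finite R S)
      (_ : Module.Free R S) (φ : S →ₐ[R] B),
      ∀ b : B, ∃ (x : S) (s : R), s ∈ M ∧ algebraMap R B s * b = φ x := by
  obtain ⟨r, c, hc⟩ := (Submodule.fg_iff_exists_fin_generating_family).mp
    (Module.Finite.fg_top (R := A) (M := B))
  have hint : ∀ i, IsIntegral A (c i) := fun i => Algebra.IsIntegral.isIntegral (c i)
  choose m hm using fun i =>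
    IsIntegral.exists_multiple_integral_of_isLocalization M (c i) (hint i)
  obtain ⟨S, i1, i2, i3, i4, φ, hφ⟩ := exists_finite_free_algHom R B r (fun i => (m i) • c i) hm
  refine ⟨S, i1, i2, i3, i4, φ, ?_⟩
  intro b
  have hb : b ∈ Submodule.span A (Set.range c) := by rw [hc]; trivial
  refine Submodule.span_induction ?_ ?_ ?_ ?_ hb
  · rintro _ ⟨i, rfl⟩
    obtain ⟨x, hx⟩ := hφ i
    refine ⟨x, (m i : R), (m i).2, ?_⟩
    have hx' : φ x = m i • c i := hx
    rw [hx', Submonoid.smul_def, Algebra.smul_def]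
  · exact ⟨0, 1, M.one_mem, by simp⟩
  · rintro b₁ b₂ - - ⟨x₁, s₁, hs₁, h₁⟩ ⟨x₂, s₂, hs₂, h₂⟩
    refine ⟨algebraMap R S s₂ * x₁ + algebraMap R S s₁ * x₂, s₁ * s₂, M.mul_mem hs₁ hs₂, ?_⟩
    rw [map_add, map_mul φ, map_mul φ, AlgHom.commutes, AlgHom.commutes, ← h₁, ← h₂, map_mul]
    ring
  · rintro a b₁ - ⟨x₁, s₁, hs₁, h₁⟩
    obtain ⟨⟨a₀, t⟩, hat⟩ := IsLocalization.surj M a
    refine ⟨algebraMap R S a₀ * x₁, t * s₁, M.mul_mem t.2 hs₁, ?_⟩
    rw [map_mul φ, AlgHom.commutes, ← h₁, map_mul, Algebra.smul_def]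
    have h2 : algebraMap R B a₀ = algebraMap A B a * algebraMap R B t := by
      rw [IsScalarTower.algebraMap_apply R A B a₀, ← hat, map_mul,
        ← IsScalarTower.algebraMap_apply R A B]
    rw [h2]
    ring

end Groth.Agent.Helper8.FFree
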