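import Mathlib
import Groth.Agent.Lib.Helper8.FFree1

/-!
# Local rings of a dominated algebra are quotients of local rings of the dominating algebra
-/

set_option autoImplicit false
universe u

namespace Groth.Agent.Helper8.FFree

theorem localRingHom_surjective {R S B : Type u} [CommRing R] [CommRing S] [CommRing B]
    [Algebra R S] [Algebra R B] (M : Submonoid R) (φ : S →ₐ[R] B)
    (hφ : ∀ b : B, ∃ (x : S) (s : R), s ∈ M ∧ algebraMap R B s * b = φ x)
    (n : Ideal B) [n.IsPrime] (hM : ∀ s ∈ M, algebraMap R B s ∉ n) :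
    Function.Surjective
      (Localization.localRingHom (n.comap (φ : S →+* B)) n (φ : S →+* B) rfl) := by
  intro z
  obtain ⟨b, t, rfl⟩ := IsLocalization.exists_mk'_eq n.primeCompl z
  obtain ⟨x, s₁, hs₁, h₁⟩ := hφ b
  obtain ⟨y, s₂, hs₂, h₂⟩ := hφ (t : B)
  have hy : y * algebraMap R S s₁ ∈ (n.comap (φ : S →+* B)).primeCompl := by
    show ¬ (φ (y * algebraMap R S s₁) ∈ n)
    rw [map_mul, AlgHom.commutes, ← h₂]
    intro hmem
    rcases Ideal.IsPrime.mem_or_mem inferInstance hmem with h | h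
    · rcases Ideal.IsPrime.mem_or_mem inferInstance h with h' | h'
      · exact hM s₂ hs₂ h'
      · exact t.2 h'
    · exact hM s₁ hs₁ h
  refine ⟨IsLocalization.mk' _ (x * algebraMap R S s₂) ⟨_, hy⟩, ?_⟩
  rw [Localization.localRingHom_mk']
  apply IsLocalization.mk'_eq_of_eq
  show φ (y * algebraMap R S s₁) * b = (t : B) * φ (x * algebraMap R S s₂)
  rw [map_mul, map_mul, AlgHom.commutes, AlgHom.commutes, ← h₁, ← h₂]
  ring

end Groth.Agent.Helper8.FFree
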