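import Mathlib
import Groth.Prelude
import Groth.Agent.Lib.Helper8.CplQuot2
import Groth.Agent.Lib.Helper8.CplIsoFF

/-!
# Regular formal fibres pass to surjective images of Noetherian local rings
-/

set_option autoImplicit false
universe u

namespace Groth.Agent.Helper8.FFree

open IsLocalRing TensorProduct Groth.Agent.Helper8.CplMap

/-- Regularity of formal fibres transfers along isomorphisms of local rings. -/
theorem isRegularRing_formalFibre_of_ringEquiv {A A' : Type u} [CommRing A]
    [CommRing A'] [IsNoetherianRing A] [IsLocalRing A] [IsNoetherianRing A'] [IsLocalRing A']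
    (e : A ≃+* A')
    (H : ∀ (p : Ideal A) [p.IsPrime], IsRegularRing (EGA4.formalFibre A p))
    (q' : Ideal A') [q'.IsPrime] : IsRegularRing (EGA4.formalFibre A' q') := by
  letI : Algebra A A' := (e : A →+* A').toAlgebra
  haveI : IsLocalHom (algebraMap A A') := by
    constructor
    intro a ha
    have h1 : IsUnit (e a) := ha
    exact (MulEquiv.isUnit_map e).1 h1
  have hbij : Function.Bijective (algebraMap A A') := e.bijective
  letI := algebraCpl A A'
  haveI := isScalarTower_cpl A A'
  haveI := isPushout_cpl_of_bijective A A' hbij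
  have hst : (algebraMap A A').SurjectiveOnStalks :=
    RingHom.surjectiveOnStalks_of_surjective hbij.2
  obtain ⟨ε⟩ := Groth.Agent.Helper8.LocHom.nonempty_fibre_ringEquiv A (EGA4.Cpl A) A'
    (EGA4.Cpl A') hst q'
  haveI : IsRegularRing ((q'.under A).Fiber (EGA4.Cpl A)) := H (q'.under A)
  exact IsRegularRing.of_ringEquiv ε.symm

/-- Regularity of all formal fibres passes to surjective images. -/
theorem isRegularRing_formalFibre_of_surjective {A A' : Type u} [CommRing A]
    [CommRing A'] [IsNoetherianRing A] [IsLocalRing A] [IsLocalRing A']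
    (ψ : A →+* A') (hψ : Function.Surjective ψ)
    (H : ∀ (p : Ideal A) [p.IsPrime], IsRegularRing (EGA4.formalFibre A p))
    (q' : Ideal A') [q'.IsPrime] : IsRegularRing (EGA4.formalFibre A' q') := by
  haveI : IsNoetherianRing A' := isNoetherianRing_of_surjective A A' ψ hψ
  let ε : A ⧸ RingHom.ker ψ ≃+* A' := RingHom.quotientKerEquivOfSurjective hψ
  haveI : Nontrivial (A ⧸ RingHom.ker ψ) := ε.toEquiv.nontrivial
  haveI : IsLocalRing (A ⧸ RingHom.ker ψ) :=
    IsLocalRing.of_surjective' (Ideal.Quotient.mk (RingHom.ker ψ)) Ideal.Quotient.mk_surjective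
  have H1 : ∀ (q : Ideal (A ⧸ RingHom.ker ψ)) [q.IsPrime],
      IsRegularRing (EGA4.formalFibre (A ⧸ RingHom.ker ψ) q) := by
    intro q _
    obtain ⟨ε'⟩ := Groth.Agent.Helper8.CplQuot.nonempty_formalFibre_ringEquiv A (RingHom.ker ψ) q
    haveI : IsRegularRing (EGA4.formalFibre A (q.under A)) := H (q.under A)
    exact IsRegularRing.of_ringEquiv ε'.symm
  exact isRegularRing_formalFibre_of_ringEquiv ε H1 q'

end Groth.Agent.Helper8.FFree
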