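import Mathlib

/-!
# Fontaine–Laffaille gluing: injectivity of `ι` by a length count
-/

set_option autoImplicit false
universe u v

namespace Groth.Agent.Lib.Helper8.FL

open Finset

section semilin
variable {R : Type*} [Ring R] {σ : R →+* R} [RingHomSurjective σ]
  {M : Type*} {M₂ : Type*} [AddCommGroup M] [Module R M] [AddCommGroup M₂] [Module R M₂]

theorem length_le_of_injective_semilinear (f : M →ₛₗ[σ] M₂) (hf : Function.Injective f) :
    Module.length R M ≤ Module.length R M₂ := by
  have h : Order.krullDim (Submodule R M) ≤ Order.krullDim (Submodule R M₂) :=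
    Order.krullDim_le_of_strictMono (Submodule.map f) (Submodule.map_strictMono_of_injective hf)
  rw [← Module.coe_length, ← Module.coe_length] at h
  exact WithBot.coe_le_coe.mp h
end semilin

theorem enat_arith (a d t k q m c : ℕ∞) (ha : a ≠ ⊤) (hd : d ≠ ⊤) (hT : t = a + d)
    (h1 : t = k + q) (h2 : q ≤ a) (h3 : k ≤ m) (h4 : d = c + m) : c = 0 := by
  have hm : m ≠ ⊤ := fun h => hd (by rw [h4, h, add_top])
  have hc : c ≠ ⊤ := fun h => hd (by rw [h4, h, top_add])
  have hq : q ≠ ⊤ := ne_top_of_le_ne_top ha h2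
  have hk : k ≠ ⊤ := ne_top_of_le_ne_top hm h3
  lift a to ℕ using ha
  lift d to ℕ using hd
  lift m to ℕ using hm
  lift c to ℕ using hc
  lift q to ℕ using hq
  lift k to ℕ using hk
  subst hT
  norm_cast at *
  omega

variable {R : Type u} [CommRing R] (σ : R →+* R) (π : R) (r : ℕ) (N : ℕ → Type v)
  [∀ i, AddCommGroup (N i)] [∀ i, Module R (N i)] (α : ∀ i, N (i + 1) →ₗ[R] N i)

/-- `ι` on `ℕ`-indexed tuples. -/
def iotaN : ((i : ℕ) → N (i + 1)) →ₗ[R] ((i : ℕ) → N i) where
  toFun z := fun j => match j with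
    | 0 => α 0 (z 0)
    | j + 1 => α (j + 1) (z (j + 1)) - π • z j
  map_add' z w := by
    funext j
    cases j with
    | zero => simp
    | succ j =>
      simp only [Pi.add_apply, map_add, smul_add]
      abel
  map_smul' c z := by
    funext j
    cases j with
    | zero => simp
    | succ j =>
      simp only [Pi.smul_apply, map_smul, RingHom.id_apply, smul_sub, smul_comm c π]

@[simp] lemma iotaN_zero (z : (i : ℕ) → N (i + 1)) : iotaN π N α z 0 = α 0 (z 0) := rfl
@[simp] lemma iotaN_succ (z : (i : ℕ) → N (i + 1)) (j : ℕ) :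
    iotaN π N α z (j + 1) = α (j + 1) (z (j + 1)) - π • z j := rfl

variable (R) in
/-- Extension by zero. -/
def extD : ((i : Fin r) → N (i.val + 1)) →ₗ[R] ((i : ℕ) → N (i + 1)) where
  toFun z := fun i => if h : i < r then z ⟨i, h⟩ else 0
  map_add' z w := by
    funext i
    by_cases h : i < r <;> simp [h]
  map_smul' c z := by
    funext i
    by_cases h : i < r <;> simp [h]

variable (R) in
/-- Restriction. -/
def resT : ((i : ℕ) → N i) →ₗ[R] ((i : Fin (r + 1)) → N i.val) where
  toFun y := fun i => y i.val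
  map_add' _ _ := rfl
  map_smul' _ _ := rfl

/-- `ι` on `Fin`-indexed tuples. -/
def iotaF : ((i : Fin r) → N (i.val + 1)) →ₗ[R] ((i : Fin (r + 1)) → N i.val) :=
  (resT R r N).comp ((iotaN π N α).comp (extD R r N))

variable {σ} in
/-- `Φ` on `Fin`-indexed tuples. -/
def PhiF (φ : ∀ i, N i →ₛₗ[σ] N 0) : ((i : Fin (r + 1)) → N i.val) →ₛₗ[σ] N 0 where
  toFun y := ∑ i : Fin (r + 1), φ i.val (y i)
  map_add' y w := by simp [Finset.sum_add_distrib]
  map_smul' c y := by simp [Finset.smul_sum]

lemma extD_res (z : (i : ℕ) → N (i + 1)) (hz : ∀ i, r ≤ i → z i = 0) :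
    extD R r N (fun i : Fin r => z i.val) = z := by
  funext i
  show (if h : i < r then z i else 0) = z i
  by_cases h : i < r
  · rw [dif_pos h]
  · rw [dif_neg h, hz i (by omega)]

theorem iota_injective (hσ : Function.Surjective σ) (hfl : ∀ i, IsFiniteLength R (N i))
    (φ : ∀ i, N i →ₛₗ[σ] N 0)
    (hker : ∀ y : (i : ℕ) → N i, (∀ i, r < i → y i = 0) →
      (Finset.range (r + 1)).sum (fun i => φ i (y i)) = 0 →
        ∃ z : (i : ℕ) → N (i + 1), (∀ i, r ≤ i → z i = 0) ∧
          y 0 = α 0 (z 0) ∧ ∀ i, y (i + 1) = α (i + 1) (z (i + 1)) - π • z i)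
    (z : (i : ℕ) → N (i + 1)) (hz : ∀ i, r ≤ i → z i = 0)
    (h0 : α 0 (z 0) = 0) (h1 : ∀ i, α (i + 1) (z (i + 1)) - π • z i = 0) : z = 0 := by
  haveI : RingHomSurjective σ := ⟨hσ⟩
  haveI : ∀ i, IsNoetherian R (N i) :=
    fun i => (isFiniteLength_iff_isNoetherian_isArtinian.mp (hfl i)).1
  haveI : ∀ i, IsArtinian R (N i) :=
    fun i => (isFiniteLength_iff_isNoetherian_isArtinian.mp (hfl i)).2
  -- ker Φ ≤ range ι
  have hK : LinearMap.ker (PhiF r N φ) ≤ LinearMap.range (iotaF π r N α) := by
    intro y hy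
    rw [LinearMap.mem_ker] at hy
    have hy' : ∑ i : Fin (r + 1), φ i.val (y i) = 0 := hy
    obtain ⟨z, hz, hz0, hz1⟩ := hker (fun i => if h : i < r + 1 then y ⟨i, h⟩ else 0)
      (fun i hi => dif_neg (by omega)) (by
        rw [Finset.sum_range]
        refine Eq.trans (Finset.sum_congr rfl (fun i _ => ?_)) hy'
        rw [dif_pos i.isLt])
    refine ⟨fun i => z i.val, ?_⟩
    funext j
    show iotaN π N α (extD R r N (fun i : Fin r => z i.val)) j.val = y j
    rw [extD_res r N z hz]
    obtain ⟨j, hj⟩ := j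
    cases j with
    | zero =>
      show α 0 (z 0) = y ⟨0, hj⟩
      rw [← hz0]
      exact dif_pos hj
    | succ j =>
      show α (j + 1) (z (j + 1)) - π • z j = y ⟨j + 1, hj⟩
      rw [← hz1 j]
      exact dif_pos hj
  -- lengths
  have hT : Module.length R ((i : Fin (r + 1)) → N i.val)
      = Module.length R (N 0) + Module.length R ((i : Fin r) → N (i.val + 1)) := by
    rw [Module.length_pi_of_fintype, Module.length_pi_of_fintype]
    obtain ⟨f, hf⟩ : ∃ f : ℕ → ℕ∞, ∀ j, Module.length R (N j) = f j := ⟨_, fun _ => rfl⟩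
    simp only [hf]
    rw [Fin.sum_univ_succ]
    simp
  have e1 : Module.length R ((i : Fin (r + 1)) → N i.val)
      = Module.length R (LinearMap.ker (PhiF r N φ))
        + Module.length R (((i : Fin (r + 1)) → N i.val) ⧸ LinearMap.ker (PhiF r N φ)) :=
    Module.length_eq_add_of_exact (LinearMap.ker (PhiF r N φ)).subtype
      (LinearMap.ker (PhiF r N φ)).mkQ
      (Submodule.injective_subtype _) (Submodule.mkQ_surjective _) (LinearMap.exact_subtype_mkQ _)
  have e2 : Module.length R (((i : Fin (r + 1)) → N i.val) ⧸ LinearMap.ker (PhiF r N φ))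
      ≤ Module.length R (N 0) :=
    length_le_of_injective_semilinear ((LinearMap.ker (PhiF r N φ)).liftQ (PhiF r N φ) le_rfl)
      (LinearMap.ker_eq_bot.mp (Submodule.ker_liftQ_eq_bot _ _ _ le_rfl))
  have e3 : Module.length R (LinearMap.ker (PhiF r N φ))
      ≤ Module.length R (LinearMap.range (iotaF π r N α)) :=
    Module.length_le_of_injective (Submodule.inclusion hK) (Submodule.inclusion_injective hK)
  have e4 : Module.length R ((i : Fin r) → N (i.val + 1))
      = Module.length R (LinearMap.ker (iotaF π r N α))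
        + Module.length R (LinearMap.range (iotaF π r N α)) :=
    Module.length_eq_add_of_exact (LinearMap.ker (iotaF π r N α)).subtype
      (iotaF π r N α).rangeRestrict
      (Submodule.injective_subtype _) (LinearMap.surjective_rangeRestrict _) (by
        rw [LinearMap.exact_iff, LinearMap.ker_rangeRestrict, Submodule.range_subtype])
  have hf0 : Module.length R (N 0) ≠ ⊤ := Module.length_ne_top_iff.mpr (hfl 0)
  have hfD : Module.length R ((i : Fin r) → N (i.val + 1)) ≠ ⊤ :=
    Module.length_ne_top_iff.mpr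
      (isFiniteLength_iff_isNoetherian_isArtinian.mpr ⟨inferInstance, inferInstance⟩)
  have hc : Module.length R (LinearMap.ker (iotaF π r N α)) = 0 :=
    enat_arith _ _ _ _ _ _ _ hf0 hfD hT e1 e2 e3 e4
  have hkerι : LinearMap.ker (iotaF π r N α) = ⊥ := by
    haveI := Module.length_eq_zero_iff.mp hc
    exact Submodule.eq_bot_of_subsingleton
  have hz' : (fun i : Fin r => z i.val) ∈ LinearMap.ker (iotaF π r N α) := by
    rw [LinearMap.mem_ker]
    funext j
    show iotaN π N α (extD R r N (fun i : Fin r => z i.val)) j.val = 0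
    rw [extD_res r N z hz]
    obtain ⟨j, hj⟩ := j
    cases j with
    | zero => exact h0
    | succ j => exact h1 j
  rw [hkerι, Submodule.mem_bot] at hz'
  funext i
  by_cases h : i < r
  · exact congrFun hz' ⟨i, h⟩
  · exact hz i (by omega)

end Groth.Agent.Lib.Helper8.FL
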