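import Groth.Agent.Lib.Helper8.FLa

/-!
# Fontaine–Laffaille gluing: reduction mod `π ^ n` and purity
-/

set_option autoImplicit false
universe u v

namespace Groth.Agent.Lib.Helper8.FL

open Finset

section pw
variable {R : Type*} [CommRing R] (π : R)

/-- `π ^ n • M` as a submodule. -/
def pw (n : ℕ) (M : Type*) [AddCommGroup M] [Module R M] : Submodule R M :=
  LinearMap.range (LinearMap.lsmul R M (π ^ n))

lemma mem_pw {n : ℕ} {M : Type*} [AddCommGroup M] [Module R M] {x : M} :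
    x ∈ pw π n M ↔ ∃ y, π ^ n • y = x := by
  simp [pw]

lemma isFiniteLength_quot {M : Type*} [AddCommGroup M] [Module R M] (h : IsFiniteLength R M)
    (p : Submodule R M) : IsFiniteLength R (M ⧸ p) := by
  rw [← Module.length_ne_top_iff] at h ⊢
  exact ne_top_of_le_ne_top h (Module.length_le_of_surjective p.mkQ (Submodule.mkQ_surjective p))

end pw

variable {R : Type u} [CommRing R] (σ : R →+* R) (π : R) (r : ℕ) (N : ℕ → Type v)
  [∀ i, AddCommGroup (N i)] [∀ i, Module R (N i)] (α : ∀ i, N (i + 1) →ₗ[R] N i)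
  (φ : ∀ i, N i →ₛₗ[σ] N 0)

/-- The family mod `π ^ n`. -/
abbrev QN (n : ℕ) (i : ℕ) : Type v := N i ⧸ pw π n (N i)

/-- `α` mod `π ^ n`. -/
def αq (n i : ℕ) : QN π N n (i + 1) →ₗ[R] QN π N n i :=
  (pw π n (N (i + 1))).mapQ (pw π n (N i)) (α i) (by
    intro x hx
    rw [Submodule.mem_comap]
    obtain ⟨y, rfl⟩ := (mem_pw π).mp hx
    exact (mem_pw π).mpr ⟨α i y, by rw [map_smul]⟩)

variable {σ} in
/-- `φ` mod `π ^ n`. -/
def φq (hπ : σ π = π) (n i : ℕ) : QN π N n i →ₛₗ[σ] QN π N n 0 :=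
  (pw π n (N i)).mapQ (pw π n (N 0)) (φ i) (by
    intro x hx
    rw [Submodule.mem_comap]
    obtain ⟨y, rfl⟩ := (mem_pw π).mp hx
    exact (mem_pw π).mpr ⟨φ i y, by rw [map_smulₛₗ, map_pow, hπ]⟩)

theorem mem_pw_of_iota_mem (hσ : Function.Surjective σ) (hπ : σ π = π)
    (hfl : ∀ i, IsFiniteLength R (N i))
    (hsurj : ∀ m : N 0, ∃ y : (i : ℕ) → N i, (∀ i, r < i → y i = 0) ∧
      (Finset.range (r + 1)).sum (fun i => φ i (y i)) = m)
    (hker : ∀ y : (i : ℕ) → N i, (∀ i, r < i → y i = 0) →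
      (Finset.range (r + 1)).sum (fun i => φ i (y i)) = 0 →
        ∃ z : (i : ℕ) → N (i + 1), (∀ i, r ≤ i → z i = 0) ∧
          y 0 = α 0 (z 0) ∧ ∀ i, y (i + 1) = α (i + 1) (z (i + 1)) - π • z i)
    (n : ℕ) (z : (i : ℕ) → N (i + 1)) (hz : ∀ i, r ≤ i → z i = 0)
    (h0 : α 0 (z 0) ∈ pw π n (N 0))
    (h1 : ∀ i, α (i + 1) (z (i + 1)) - π • z i ∈ pw π n (N (i + 1))) :
    ∀ i, z i ∈ pw π n (N (i + 1)) := by
  have hkerq : ∀ y : (i : ℕ) → QN π N n i, (∀ i, r < i → y i = 0) →
      (Finset.range (r + 1)).sum (fun i => φq π N φ hπ n i (y i)) = 0 →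
        ∃ z : (i : ℕ) → QN π N n (i + 1), (∀ i, r ≤ i → z i = 0) ∧
          y 0 = αq π N α n 0 (z 0) ∧
            ∀ i, y (i + 1) = αq π N α n (i + 1) (z (i + 1)) - π • z i := by
    intro y hy hsum
    have hl : ∀ i, ∃ x : N i, (Submodule.Quotient.mk x : QN π N n i) = y i ∧ (r < i → x = 0) := by
      intro i
      by_cases h : r < i
      · exact ⟨0, by rw [hy i h, Submodule.Quotient.mk_zero], fun _ => rfl⟩
      · obtain ⟨x, hx⟩ := Submodule.Quotient.mk_surjective _ (y i)
        exact ⟨x, hx, fun h' => absurd h' h⟩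
    choose x hx hx0 using hl
    have hs : (Finset.range (r + 1)).sum (fun i => φ i (x i)) ∈ pw π n (N 0) := by
      refine (Submodule.Quotient.mk_eq_zero _).mp (Eq.trans ?_ hsum)
      rw [← Submodule.mkQ_apply, map_sum]
      refine Finset.sum_congr rfl (fun i _ => ?_)
      rw [← hx i]
      rfl
    obtain ⟨m, hm⟩ := (mem_pw π).mp hs
    obtain ⟨w, hw, hwm⟩ := hsurj m
    obtain ⟨z, hz, hz0, hz1⟩ := hker (fun i => x i - π ^ n • w i)
      (fun i hi => by
        show x i - π ^ n • w i = 0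
        rw [hx0 i hi, hw i hi, smul_zero, sub_zero]) (by
      show (Finset.range (r + 1)).sum (fun i => φ i (x i - π ^ n • w i)) = 0
      simp only [map_sub, Finset.sum_sub_distrib, map_smulₛₗ, map_pow, hπ, ← Finset.smul_sum]
      rw [hwm, hm, sub_self])
    have hz0' : x 0 - π ^ n • w 0 = α 0 (z 0) := hz0
    have hz1' : ∀ i, x (i + 1) - π ^ n • w (i + 1) = α (i + 1) (z (i + 1)) - π • z i := hz1
    refine ⟨fun i => Submodule.Quotient.mk (z i), fun i hi => ?_, ?_, ?_⟩
    · show (Submodule.Quotient.mk (z i) : QN π N n (i + 1)) = 0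
      rw [hz i hi, Submodule.Quotient.mk_zero]
    · rw [← hx 0]
      show (Submodule.Quotient.mk (x 0) : QN π N n 0) = Submodule.Quotient.mk (α 0 (z 0))
      rw [Submodule.Quotient.eq, ← hz0', sub_sub_cancel]
      exact (mem_pw π).mpr ⟨w 0, rfl⟩
    · intro i
      rw [← hx (i + 1)]
      show (Submodule.Quotient.mk (x (i + 1)) : QN π N n (i + 1))
        = Submodule.Quotient.mk (α (i + 1) (z (i + 1)) - π • z i)
      rw [Submodule.Quotient.eq, ← hz1' i, sub_sub_cancel]
      exact (mem_pw π).mpr ⟨w (i + 1), rfl⟩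
  have key := iota_injective σ π r (QN π N n) (αq π N α n) hσ
    (fun i => isFiniteLength_quot (hfl i) _) (φq π N φ hπ n) hkerq
    (fun i => Submodule.Quotient.mk (z i))
    (fun i hi => by
      show (Submodule.Quotient.mk (z i) : QN π N n (i + 1)) = 0
      rw [hz i hi, Submodule.Quotient.mk_zero])
    (by
      show (Submodule.Quotient.mk (α 0 (z 0)) : QN π N n 0) = 0
      exact (Submodule.Quotient.mk_eq_zero _).mpr h0)
    (fun i => by
      show (Submodule.Quotient.mk (α (i + 1) (z (i + 1)) - π • z i) : QN π N n (i + 1)) = 0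
      exact (Submodule.Quotient.mk_eq_zero _).mpr (h1 i))
  intro i
  exact (Submodule.Quotient.mk_eq_zero _).mp (congrFun key i)

theorem pure (hσ : Function.Surjective σ) (hπ : σ π = π)
    (hfl : ∀ i, IsFiniteLength R (N i))
    (hsurj : ∀ m : N 0, ∃ y : (i : ℕ) → N i, (∀ i, r < i → y i = 0) ∧
      (Finset.range (r + 1)).sum (fun i => φ i (y i)) = m)
    (hker : ∀ y : (i : ℕ) → N i, (∀ i, r < i → y i = 0) →
      (Finset.range (r + 1)).sum (fun i => φ i (y i)) = 0 →
        ∃ z : (i : ℕ) → N (i + 1), (∀ i, r ≤ i → z i = 0) ∧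
          y 0 = α 0 (z 0) ∧ ∀ i, y (i + 1) = α (i + 1) (z (i + 1)) - π • z i)
    (n : ℕ) : ∀ i, i < r → ∀ x : N (i + 1), α i x ∈ pw π n (N i) → x ∈ pw π n (N (i + 1)) := by
  induction n with
  | zero =>
    intro i _ x _
    exact (mem_pw π).mpr ⟨x, by simp⟩
  | succ n ih =>
    intro i hi x hx
    have hx' : α i x ∈ pw π n (N i) := by
      obtain ⟨y, hy⟩ := (mem_pw π).mp hx
      exact (mem_pw π).mpr ⟨π • y, by rw [← hy, pow_succ, mul_smul]⟩
    obtain ⟨x', hx'⟩ := (mem_pw π).mp (ih i hi x hx')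
    have key := mem_pw_of_iota_mem σ π r N α φ hσ hπ hfl hsurj hker (n + 1)
      (Pi.single (M := fun j => N (j + 1)) i x) ?_ ?_ ?_ i
    · rwa [Pi.single_eq_same] at key
    · intro j hj
      exact Pi.single_eq_of_ne (M := fun j => N (j + 1)) (show j ≠ i by omega) x
    · rcases Nat.eq_zero_or_pos i with h | h
      · subst h
        rw [Pi.single_eq_same]
        exact hx
      · rw [Pi.single_eq_of_ne (show 0 ≠ i by omega), map_zero]
        exact zero_mem _
    · intro j
      by_cases h1 : j = i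
      · subst h1
        rw [Pi.single_eq_same, Pi.single_eq_of_ne (show j + 1 ≠ j by omega), map_zero, zero_sub]
        refine (mem_pw π).mpr ⟨-x', ?_⟩
        rw [smul_neg, pow_succ', mul_smul, hx']
      · by_cases h2 : j + 1 = i
        · subst h2
          rw [Pi.single_eq_same, Pi.single_eq_of_ne h1, smul_zero, sub_zero]
          exact hx
        · rw [Pi.single_eq_of_ne h2, Pi.single_eq_of_ne h1, map_zero, smul_zero, sub_zero]
          exact zero_mem _

end Groth.Agent.Lib.Helper8.FL
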