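import Groth.Agent.Lib.Helper8.FLb

/-!
# Pure submodules of bounded finitely generated modules over a PID are direct summands
-/

set_option autoImplicit false
universe u v

namespace Groth.Agent.Lib.Helper8.FL

open Finset DirectSum

theorem pw_succ_le {R : Type*} [CommRing R] (π : R) (n : ℕ) (M : Type*) [AddCommGroup M]
    [Module R M] : pw π (n + 1) M ≤ pw π n M := by
  intro x hx
  obtain ⟨y, hy⟩ := (mem_pw π).mp hx
  exact (mem_pw π).mpr ⟨π • y, by rw [← hy, pow_succ, mul_smul]⟩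

theorem exists_pow_smul_eq_zero {R : Type*} [CommRing R] (π : R)
    (hπ : π ∈ Ideal.jacobson (⊥ : Ideal R)) (M : Type*) [AddCommGroup M] [Module R M]
    (h : IsFiniteLength R M) : ∃ n, ∀ x : M, π ^ n • x = 0 := by
  haveI : IsNoetherian R M := (isFiniteLength_iff_isNoetherian_isArtinian.mp h).1
  haveI : IsArtinian R M := (isFiniteLength_iff_isNoetherian_isArtinian.mp h).2
  let f : ℕ →o (Submodule R M)ᵒᵈ :=
    ⟨fun n => OrderDual.toDual (pw π n M), monotone_nat_of_le_succ (fun n => pw_succ_le π n M)⟩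
  obtain ⟨n, hn⟩ := IsArtinian.monotone_stabilizes f
  have hn1 : pw π n M = pw π (n + 1) M := congrArg OrderDual.ofDual (hn (n + 1) (Nat.le_succ n))
  have hle : pw π n M ≤ (Ideal.span {π} : Ideal R) • pw π n M := by
    intro x hx
    rw [hn1] at hx
    obtain ⟨y, hy⟩ := (mem_pw π).mp hx
    rw [← hy, pow_succ', mul_smul]
    exact Submodule.smul_mem_smul (Ideal.mem_span_singleton_self π) ((mem_pw π).mpr ⟨y, rfl⟩)
  have hbot := Submodule.eq_bot_of_le_smul_of_le_jacobson_bot (Ideal.span {π}) (pw π n M)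
    (IsNoetherian.noetherian _) hle ((Ideal.span_singleton_le_iff_mem _).mpr hπ)
  refine ⟨n, fun x => ?_⟩
  have : π ^ n • x ∈ pw π n M := (mem_pw π).mpr ⟨x, rfl⟩
  rw [hbot, Submodule.mem_bot] at this
  exact this

theorem exists_isCompl_of_pure {R : Type u} [CommRing R] [IsDomain R] [IsPrincipalIdealRing R]
    {π : R} (hπ : Irreducible π) {M : Type v} [AddCommGroup M] [Module R M] [Module.Finite R M]
    (m : ℕ) (hm : ∀ x : M, π ^ m • x = 0) (L : Submodule R M)
    (hpure : ∀ (n : ℕ) (x : M), x ∈ L → x ∈ pw π n M → ∃ l ∈ L, π ^ n • l = x) :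
    ∃ Q : Submodule R M, IsCompl L Q := by
  classical
  have htors : Module.IsTorsion' (M ⧸ L) (Submonoid.powers π) := by
    intro x
    refine ⟨⟨π ^ m, m, rfl⟩, ?_⟩
    obtain ⟨y, rfl⟩ := Submodule.Quotient.mk_surjective L x
    rw [Submonoid.smul_def]
    show π ^ m • (Submodule.Quotient.mk y : M ⧸ L) = 0
    rw [← Submodule.Quotient.mk_smul, hm, Submodule.Quotient.mk_zero]
  obtain ⟨d, k, ⟨e⟩⟩ := Module.torsion_by_prime_power_decomposition hπ htors
  -- lifts of the generators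
  have hlift : ∀ j : Fin d, ∃ c : M, (Submodule.Quotient.mk c : M ⧸ L)
      = e.symm (DirectSum.lof R (Fin d) (fun i => R ⧸ R ∙ π ^ k i) j (Submodule.Quotient.mk 1))
      ∧ π ^ k j • c = 0 := by
    intro j
    obtain ⟨y, hy⟩ := Submodule.Quotient.mk_surjective L
      (e.symm (DirectSum.lof R (Fin d) (fun i => R ⧸ R ∙ π ^ k i) j (Submodule.Quotient.mk 1)))
    have hzero : π ^ k j • (e.symm (DirectSum.lof R (Fin d) (fun i => R ⧸ R ∙ π ^ k i) j
        (Submodule.Quotient.mk 1)) : M ⧸ L) = 0 := by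
      rw [← map_smul, ← map_smul, ← Submodule.Quotient.mk_smul, smul_eq_mul, mul_one,
        (Submodule.Quotient.mk_eq_zero _).mpr (Submodule.mem_span_singleton_self _), map_zero,
        map_zero]
    have hyL : π ^ k j • y ∈ L := by
      rw [← Submodule.Quotient.mk_eq_zero L, Submodule.Quotient.mk_smul, hy, hzero]
    obtain ⟨l, hl, hl'⟩ := hpure (k j) _ hyL ((mem_pw π).mpr ⟨y, rfl⟩)
    refine ⟨y - l, ?_, ?_⟩
    · rw [Submodule.Quotient.mk_sub, hy, (Submodule.Quotient.mk_eq_zero L).mpr hl, sub_zero]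
    · rw [smul_sub, hl', sub_self]
  choose c hc1 hc2 using hlift
  let ψ : (⨁ i : Fin d, R ⧸ R ∙ π ^ k i) →ₗ[R] M :=
    DirectSum.toModule R (Fin d) M (fun j => (R ∙ π ^ k j).liftQ
      (LinearMap.toSpanSingleton R M (c j))
      ((Submodule.span_singleton_le_iff_mem _ _).mpr (by
        rw [LinearMap.mem_ker, LinearMap.toSpanSingleton_apply]
        exact hc2 j)))
  have hψ : L.mkQ.comp ψ = (e.symm : (⨁ i : Fin d, R ⧸ R ∙ π ^ k i) →ₗ[R] M ⧸ L) := by
    apply DirectSum.linearMap_ext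
    intro j
    apply Submodule.linearMap_qext
    apply LinearMap.ext_ring
    simp only [LinearMap.comp_apply, Submodule.mkQ_apply, LinearEquiv.coe_coe]
    rw [← hc1 j]
    show (Submodule.Quotient.mk (ψ (DirectSum.lof R (Fin d) (fun i => R ⧸ R ∙ π ^ k i) j
      (Submodule.Quotient.mk 1))) : M ⧸ L) = _
    rw [DirectSum.toModule_lof, Submodule.liftQ_apply, LinearMap.toSpanSingleton_apply, one_smul]
  let s : (M ⧸ L) →ₗ[R] M := ψ.comp (e : (M ⧸ L) →ₗ[R] (⨁ i : Fin d, R ⧸ R ∙ π ^ k i))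
  have hs : ∀ q : M ⧸ L, (Submodule.Quotient.mk (s q) : M ⧸ L) = q := by
    intro q
    have := LinearMap.congr_fun hψ (e q)
    rw [LinearEquiv.coe_coe, LinearEquiv.symm_apply_apply] at this
    exact this
  refine ⟨LinearMap.range s, ?_, ?_⟩
  · rw [Submodule.disjoint_def]
    rintro x hxL ⟨q, rfl⟩
    have hq : q = 0 := by
      rw [← hs q]
      exact (Submodule.Quotient.mk_eq_zero L).mpr hxL
    rw [hq, map_zero]
  · rw [codisjoint_iff, eq_top_iff]
    intro x _
    have hxL : x - s (Submodule.Quotient.mk x) ∈ L := by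
      rw [← Submodule.Quotient.mk_eq_zero L, Submodule.Quotient.mk_sub, hs, sub_self]
    have hx : x = (x - s (Submodule.Quotient.mk x)) + s (Submodule.Quotient.mk x) := by abel
    rw [hx]
    exact Submodule.add_mem_sup hxL ⟨_, rfl⟩

end Groth.Agent.Lib.Helper8.FL
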