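import Mathlib
import Groth.Prelude.Def_CAlgX
import Groth.Agent.Lib.Helper9.HochExt
import Groth.Agent.Lib.Helper8.AdicFS9

/-!
# Lifting along a small extension for a formally projective algebra whose reduction is
formally smooth (EGA 0_IV 19.7.1 / 20.x style): Hochschild cocycle argument
-/

set_option autoImplicit false

namespace Groth.Agent.Helper8.FProj

open CAlgX Groth.Agent.Helper9.HochExt

universe u

section small

variable {A B : Type u} [CommRing A] [CommRing B] [Algebra A B] (𝔞 : Ideal A) (𝔟 : Ideal B)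
  {C : Type u} [CommRing C] [Algebra A C] (K : Ideal C) (hK : K ^ 2 = ⊥)
  (haK : ∀ a ∈ 𝔞, ∀ x ∈ K, a • x = 0)

include hK in
theorem mul_eq_zero_of_mem {x y : C} (hx : x ∈ K) (hy : y ∈ K) : x * y = 0 := by
  have : x * y ∈ K ^ 2 := by rw [pow_two]; exact Ideal.mul_mem_mul hx hy
  rwa [hK] at this

/-- The ideal `K + 𝔞 C`. -/
abbrev kk : Ideal C := K ⊔ 𝔞.map (algebraMap A C)

include hK haK in
theorem isTorsionBySet : Module.IsTorsionBySet C ↥K (kk 𝔞 K : Set C) := by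
  intro x c
  obtain ⟨c, hc⟩ := c
  apply Subtype.ext
  show c * (x : C) = 0
  obtain ⟨k, hk, a', ha', rfl⟩ := Submodule.mem_sup.1 hc
  rw [add_mul, mul_eq_zero_of_mem K hK hk x.2, zero_add]
  have : ∀ a' ∈ 𝔞.map (algebraMap A C), ∀ y ∈ K, a' * y = 0 := by
    intro a' ha'
    refine Submodule.span_induction (p := fun a' _ => ∀ y ∈ K, a' * y = 0) ?_ ?_ ?_ ?_ ha'
    · rintro _ ⟨a, ha, rfl⟩ y hy
      rw [← Algebra.smul_def]
      exact haK a ha y hy
    · intro y _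
      rw [zero_mul]
    · intro p q _ _ hp hq y hy
      rw [add_mul, hp y hy, hq y hy, add_zero]
    · intro c p _ hp y hy
      rw [smul_eq_mul, mul_assoc, hp y hy, mul_zero]
  exact this a' ha' x x.2

variable (u : B →ₐ[A] C ⧸ K) (w : B →ₗ[A] C) (hw : ∀ b, Ideal.Quotient.mk K (w b) = u b)
  (m : ℕ) (hwm : ∀ x ∈ 𝔟 ^ m, w x = 0)

/-- The open ideal `𝔞 B + 𝔟 ^ m`. -/
abbrev qq : Ideal B := 𝔞.map (algebraMap A B) ⊔ 𝔟 ^ m

include hw hwm in
theorem rho_aux : ∀ b ∈ qq 𝔞 𝔟 m,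
    ((Ideal.Quotient.factor (le_sup_left : K ≤ kk 𝔞 K)).comp (u : B →+* C ⧸ K)) b = 0 := by
  have h1 : qq 𝔞 𝔟 m ≤ RingHom.ker
      ((Ideal.Quotient.factor (le_sup_left : K ≤ kk 𝔞 K)).comp (u : B →+* C ⧸ K)) := by
    refine sup_le ?_ ?_
    · rw [Ideal.map_le_iff_le_comap]
      intro a ha
      rw [Ideal.mem_comap, RingHom.mem_ker, RingHom.comp_apply]
      show (Ideal.Quotient.factor _) (u (algebraMap A B a)) = 0
      rw [u.commutes]
      show (Ideal.Quotient.factor _) (Ideal.Quotient.mk K (algebraMap A C a)) = 0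
      rw [Ideal.Quotient.factor_mk, Ideal.Quotient.eq_zero_iff_mem]
      exact Ideal.mem_sup_right (Ideal.mem_map_of_mem _ ha)
    · intro b hb
      rw [RingHom.mem_ker, RingHom.comp_apply]
      show (Ideal.Quotient.factor _) (u b) = 0
      rw [← hw, hwm b hb, map_zero, map_zero]
  exact fun b hb => h1 hb

/-- The ring map `B ⧸ 𝔮 → C ⧸ (K + 𝔞 C)`. -/
noncomputable def rho : (B ⧸ qq 𝔞 𝔟 m) →+* (C ⧸ kk 𝔞 K) :=
  Ideal.Quotient.lift (qq 𝔞 𝔟 m)
    ((Ideal.Quotient.factor (le_sup_left : K ≤ kk 𝔞 K)).comp (u : B →+* C ⧸ K))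
    (rho_aux 𝔞 𝔟 K u w hw m hwm)

theorem rho_mk (b : B) : rho 𝔞 𝔟 K u w hw m hwm (Ideal.Quotient.mk _ b) =
    Ideal.Quotient.mk (kk 𝔞 K) (w b) := by
  unfold rho
  rw [Ideal.Quotient.lift_mk, RingHom.comp_apply]
  show (Ideal.Quotient.factor _) (u b) = _
  rw [← hw, Ideal.Quotient.factor_mk]

/-- The module structure on `K` over `B ⧸ 𝔮`. -/
@[reducible] noncomputable def modK : Module (B ⧸ qq 𝔞 𝔟 m) ↥K :=
  letI : Module (C ⧸ kk 𝔞 K) ↥K := (isTorsionBySet 𝔞 K hK haK).module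
  Module.compHom ↥K (rho 𝔞 𝔟 K u w hw m hwm)

theorem modK_mk_smul (b : B) (x : ↥K) :
    ((letI := modK 𝔞 𝔟 K hK haK u w hw m hwm; (Ideal.Quotient.mk (qq 𝔞 𝔟 m) b) • x : ↥K) : C)
      = w b * x := by
  letI : Module (C ⧸ kk 𝔞 K) ↥K := (isTorsionBySet 𝔞 K hK haK).module
  show ((rho 𝔞 𝔟 K u w hw m hwm (Ideal.Quotient.mk _ b) • x : ↥K) : C) = w b * x
  rw [rho_mk]
  rw [Module.IsTorsionBySet.mk_smul]
  rfl

end small

end Groth.Agent.Helper8.FProj
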