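import Mathlib
import Groth.Prelude.Def_CAlgX
import Groth.Agent.Lib.Helper9.HochExt
import Groth.Agent.Lib.Helper8.AdicFS9
import Groth.Agent.Lib.Helper8.FProj1

/-!
# Lifting along a small extension, given a continuous linear lift
-/

set_option autoImplicit false

namespace Groth.Agent.Helper8.FProj

open CAlgX Groth.Agent.Helper9.HochExt

universe u

section small

variable {A B : Type u} [CommRing A] [CommRing B] [Algebra A B] (𝔞 : Ideal A) (𝔟 : Ideal B)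
  (h₀ : IsAdicFormallySmooth (A ⧸ 𝔞) (B ⧸ 𝔞.map (algebraMap A B))
    (𝔟.map (Ideal.Quotient.mk (𝔞.map (algebraMap A B)))))
  {C : Type u} [CommRing C] [Algebra A C] (K : Ideal C) (hK : K ^ 2 = ⊥)
  (haK : ∀ a ∈ 𝔞, ∀ x ∈ K, a • x = 0)
  (u : B →ₐ[A] C ⧸ K) (w : B →ₗ[A] C) (hw : ∀ b, Ideal.Quotient.mk K (w b) = u b)
  (m : ℕ) (hwm : ∀ x ∈ 𝔟 ^ m, w x = 0)

include hw in
theorem w_mul_sub_mem (x y : B) : w x * w y - w (x * y) ∈ K := by
  rw [← Ideal.Quotient.eq_zero_iff_mem, map_sub, map_mul, hw, hw, hw, map_mul, sub_self]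

include haK hw hwm in
theorem w_mul_of_mem_qq : ∀ q ∈ qq 𝔞 𝔟 m, ∀ y : B, w (q * y) = w q * w y := by
  have h1 : ∀ q ∈ 𝔞.map (algebraMap A B), ∀ y : B, w (q * y) = w q * w y := by
    intro q hq
    have hq' : q ∈ 𝔞 • (⊤ : Submodule A B) := by
      rw [Ideal.smul_top_eq_map]
      exact hq
    refine Submodule.smul_induction_on hq' ?_ ?_
    · intro a ha b _ y
      rw [smul_mul_assoc, map_smul, map_smul, smul_mul_assoc, ← sub_eq_zero, ← smul_sub]
      have := haK a ha _ (w_mul_sub_mem K u w hw b y)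
      rw [smul_sub] at this ⊢
      rw [sub_eq_zero] at this ⊢
      exact this.symm
    · intro p q hp hq y
      rw [add_mul, map_add, map_add, add_mul, hp y, hq y]
  intro q hq y
  obtain ⟨q₁, hq₁, q₂, hq₂, rfl⟩ := Submodule.mem_sup.1 hq
  rw [add_mul, map_add, map_add, add_mul, h1 q₁ hq₁ y, hwm q₂ hq₂,
    hwm _ (Ideal.mul_mem_right _ _ hq₂), zero_mul]

include h₀ hK haK hw hwm in
/-- **Small step**: given a continuous linear lift `w` of `u` along `C → C ⧸ K`, with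
`K ^ 2 = 0` and `𝔞 K = 0`, there is an algebra lift. -/
theorem exists_lift_small_of_linear :
    ∃ v : B →ₐ[A] C, (Ideal.Quotient.mkₐ A K).comp v = u := by
  classical
  letI modBK : Module (B ⧸ qq 𝔞 𝔟 m) ↥K := modK 𝔞 𝔟 K hK haK u w hw m hwm
  have hsm : ∀ (b : B) (x : ↥K),
      ((Ideal.Quotient.mk (qq 𝔞 𝔟 m) b • x : ↥K) : C) = w b * x :=
    modK_mk_smul 𝔞 𝔟 K hK haK u w hw m hwm
  have hmk_smul : ∀ (a : A) (b : B), a • Ideal.Quotient.mk (qq 𝔞 𝔟 m) b =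
      Ideal.Quotient.mk (qq 𝔞 𝔟 m) (a • b) := fun a b => rfl
  haveI tow : IsScalarTower A (B ⧸ qq 𝔞 𝔟 m) ↥K := ⟨fun a r x => by
    obtain ⟨b, rfl⟩ := Ideal.Quotient.mk_surjective r
    apply Subtype.ext
    rw [hmk_smul, hsm, Submodule.coe_smul_of_tower, hsm, map_smul, smul_mul_assoc]⟩
  have hwK := w_mul_sub_mem K u w hw
  have hq := w_mul_of_mem_qq 𝔞 𝔟 K haK u w hw m hwm
  let F₀ : B → B → ↥K := fun x y => ⟨w x * w y - w (x * y), hwK x y⟩
  have hF₀ : ∀ x y, ((F₀ x y : ↥K) : C) = w x * w y - w (x * y) := fun x y => rfl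
  have hF₀comm : ∀ x y, F₀ x y = F₀ y x := by
    intro x y
    apply Subtype.ext
    rw [hF₀, hF₀, mul_comm (w x), mul_comm x]
  have hF1 : ∀ q ∈ qq 𝔞 𝔟 m, ∀ x y, F₀ (x + q) y = F₀ x y := by
    intro q hq' x y
    apply Subtype.ext
    rw [hF₀, hF₀, add_mul, map_add, map_add, add_mul, hq q hq' y]
    ring
  have hF : ∀ x x' y y', Ideal.Quotient.mk (qq 𝔞 𝔟 m) x = Ideal.Quotient.mk (qq 𝔞 𝔟 m) x' →
      Ideal.Quotient.mk (qq 𝔞 𝔟 m) y = Ideal.Quotient.mk (qq 𝔞 𝔟 m) y' → F₀ x y = F₀ x' y' := by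
    intro x x' y y' hx hy
    have hx' : x - x' ∈ qq 𝔞 𝔟 m := Ideal.Quotient.eq.1 hx
    have hy' : y - y' ∈ qq 𝔞 𝔟 m := Ideal.Quotient.eq.1 hy
    have e1 : F₀ x y = F₀ x' y := by
      have := hF1 _ hx' x' y
      rwa [add_sub_cancel] at this
    have e2 : F₀ y x' = F₀ y' x' := by
      have := hF1 _ hy' y' x'
      rwa [add_sub_cancel] at this
    rw [e1, hF₀comm x' y, e2, hF₀comm]
  have hF₀add : ∀ x x' y, F₀ (x + x') y = F₀ x y + F₀ x' y := by
    intro x x' y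
    apply Subtype.ext
    rw [Submodule.coe_add, hF₀, hF₀, hF₀, add_mul, map_add, map_add, add_mul]
    ring
  have hF₀smul : ∀ (a : A) x y, F₀ (a • x) y = a • F₀ x y := by
    intro a x y
    apply Subtype.ext
    rw [Submodule.coe_smul_of_tower, hF₀, hF₀, smul_mul_assoc, map_smul, map_smul,
      smul_mul_assoc, smul_sub]
  let r : B ⧸ qq 𝔞 𝔟 m → B := Function.surjInv Ideal.Quotient.mk_surjective
  have hr : ∀ X, Ideal.Quotient.mk (qq 𝔞 𝔟 m) (r X) = X :=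
    Function.surjInv_eq Ideal.Quotient.mk_surjective
  have hfadd : ∀ X X' Y, F₀ (r (X + X')) (r Y) = F₀ (r X) (r Y) + F₀ (r X') (r Y) := by
    intro X X' Y
    rw [← hF₀add]
    apply hF _ _ _ _ _ rfl
    rw [map_add, hr, hr, hr]
  have hfsmul : ∀ (a : A) X Y, F₀ (r (a • X)) (r Y) = a • F₀ (r X) (r Y) := by
    intro a X Y
    rw [← hF₀smul]
    apply hF _ _ _ _ _ rfl
    rw [← hmk_smul, hr, hr]
  let f : (B ⧸ qq 𝔞 𝔟 m) →ₗ[A] (B ⧸ qq 𝔞 𝔟 m) →ₗ[A] ↥K :=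
    LinearMap.mk₂ A (fun X Y => F₀ (r X) (r Y)) hfadd hfsmul
      (fun X Y Y' => by rw [hF₀comm, hfadd, hF₀comm, hF₀comm (r Y')])
      (fun a X Y => by rw [hF₀comm, hfsmul, hF₀comm])
  have hf_mk : ∀ x y, f (Ideal.Quotient.mk _ x) (Ideal.Quotient.mk _ y) = F₀ x y := by
    intro x y
    show F₀ (r _) (r _) = _
    exact hF _ _ _ _ (hr _) (hr _)
  have hsymm : ∀ X Y : B ⧸ qq 𝔞 𝔟 m, f X Y = f Y X := by
    intro X Y
    obtain ⟨x, rfl⟩ := Ideal.Quotient.mk_surjective X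
    obtain ⟨y, rfl⟩ := Ideal.Quotient.mk_surjective Y
    rw [hf_mk, hf_mk, hF₀comm]
  have hcoc : ∀ X Y Z : B ⧸ qq 𝔞 𝔟 m, f (X * Y) Z + Z • f X Y = X • f Y Z + f X (Y * Z) := by
    intro X Y Z
    obtain ⟨x, rfl⟩ := Ideal.Quotient.mk_surjective X
    obtain ⟨y, rfl⟩ := Ideal.Quotient.mk_surjective Y
    obtain ⟨z, rfl⟩ := Ideal.Quotient.mk_surjective Z
    rw [← map_mul, ← map_mul, hf_mk, hf_mk, hf_mk, hf_mk]
    apply Subtype.ext
    rw [Submodule.coe_add, Submodule.coe_add, hsm, hsm, hF₀, hF₀, hF₀, hF₀, mul_assoc x y z]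
    ring
  letI ringE : CommRing (E f) := E.commRing hsymm hcoc
  letI algE : Algebra A (E f) := E.algebra hsymm hcoc
  let p : E f →ₐ[A] B ⧸ qq 𝔞 𝔟 m := E.proj hsymm hcoc
  have hp_apply : ∀ e : E f, p e = e.fst := fun e => rfl
  have hp : Function.Surjective p := fun b => ⟨⟨b, 0⟩, rfl⟩
  have hsq : RingHom.ker p ^ 2 = ⊥ := by
    rw [pow_two, ← le_bot_iff, Ideal.mul_le]
    intro x hx y hy
    have hx0 : x.fst = 0 := hx
    have hy0 : y.fst = 0 := hy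
    rw [Ideal.mem_bot]
    ext
    · simp [hx0]
    · simp [hx0, hy0]
  have hC' : ∀ a ∈ 𝔞, algebraMap A (E f) a = 0 := by
    intro a ha
    rw [Algebra.algebraMap_eq_smul_one]
    ext
    · rw [E.smul_fst, E.one_fst, E.zero_fst]
      show a • Ideal.Quotient.mk (qq 𝔞 𝔟 m) 1 = 0
      rw [hmk_smul, Ideal.Quotient.eq_zero_iff_mem, Algebra.smul_def, mul_one]
      exact Ideal.mem_sup_left (Ideal.mem_map_of_mem _ ha)
    · rw [E.smul_snd, E.zero_snd, Submodule.coe_smul_of_tower, ZeroMemClass.coe_zero]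
      exact haK a ha _ (Subtype.property _)
  let ū : (B ⧸ 𝔞.map (algebraMap A B)) →ₐ[A] (B ⧸ qq 𝔞 𝔟 m) :=
    Ideal.Quotient.factorₐ A le_sup_left
  have hūmk : ∀ b : B, ū (Ideal.Quotient.mk _ b) = Ideal.Quotient.mk (qq 𝔞 𝔟 m) b := fun b => rfl
  have hū : ∃ j : ℕ, ∀ x ∈ (𝔟.map (Ideal.Quotient.mk (𝔞.map (algebraMap A B)))) ^ j,
      ū x = 0 := by
    refine ⟨m, ?_⟩
    intro x hx
    rw [← Ideal.map_pow] at hx
    obtain ⟨b, hb, rfl⟩ := (Ideal.mem_map_iff_of_surjective _ Ideal.Quotient.mk_surjective).1 hx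
    rw [hūmk, Ideal.Quotient.eq_zero_iff_mem]
    exact Ideal.mem_sup_right hb
  obtain ⟨s, hs⟩ := Groth.Agent.Helper8.AdicFS.exists_lift_surjective_of_quotient 𝔞 h₀ hC' p hp
    hsq ū hū
  have hsfst : ∀ b : B, (s (Ideal.Quotient.mk _ b)).fst = Ideal.Quotient.mk (qq 𝔞 𝔟 m) b := by
    intro b
    have := AlgHom.congr_fun hs (Ideal.Quotient.mk _ b)
    rw [AlgHom.comp_apply, hp_apply, hūmk] at this
    exact this
  let g : B →ₗ[A] ↥K :=
    { toFun := fun b => (s (Ideal.Quotient.mk _ b)).snd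
      map_add' := fun x y => by rw [map_add, map_add, E.add_snd]
      map_smul' := fun a x => by
        rw [RingHom.id_apply]
        have : Ideal.Quotient.mk (𝔞.map (algebraMap A B)) (a • x) =
            a • Ideal.Quotient.mk (𝔞.map (algebraMap A B)) x := rfl
        rw [this, map_smul, E.smul_snd] }
  have hg : ∀ b, g b = (s (Ideal.Quotient.mk _ b)).snd := fun b => rfl
  have hgmul : ∀ x y : B, ((g (x * y) : ↥K) : C) =
      w x * (g y : C) + w y * (g x : C) + (w x * w y - w (x * y)) := by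
    intro x y
    have h1 := congrArg E.snd (map_mul s (Ideal.Quotient.mk _ x) (Ideal.Quotient.mk _ y))
    rw [← map_mul, E.mul_snd, hsfst, hsfst, hf_mk] at h1
    rw [hg, h1, Submodule.coe_add, Submodule.coe_add, hsm, hsm, hF₀]
    rfl
  have hgg : ∀ x y : B, (g x : C) * (g y : C) = 0 := fun x y =>
    mul_eq_zero_of_mem K hK (g x).2 (g y).2
  let φl : B →ₗ[A] C := w + (K.subtype.restrictScalars A) ∘ₗ g
  have hφ : ∀ x, φl x = w x + (g x : C) := fun x => rfl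
  have hmul : ∀ x y, φl (x * y) = φl x * φl y := by
    intro x y
    rw [hφ, hφ, hφ, hgmul]
    linear_combination (-1 : C) * hgg x y
  have hone : φl 1 = 1 := by
    have h1 : φl 1 - 1 ∈ K := by
      rw [← Ideal.Quotient.eq_zero_iff_mem, hφ]
      have e1 : Ideal.Quotient.mk K (w 1) = 1 := by rw [hw, map_one]
      have e2 : Ideal.Quotient.mk K ((g 1 : ↥K) : C) = 0 :=
        Ideal.Quotient.eq_zero_iff_mem.mpr (g 1).2
      rw [map_sub, map_add, e1, e2, map_one, add_zero, sub_self]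
    have h2 : (φl 1 - 1) * (φl 1 - 1) = 0 := mul_eq_zero_of_mem K hK h1 h1
    have h3 : φl 1 * φl 1 = φl 1 := by rw [← hmul, mul_one]
    linear_combination (-1 : C) * h2 + h3
  refine ⟨AlgHom.ofLinearMap φl hone hmul, ?_⟩
  ext x
  simp only [AlgHom.coe_comp, Function.comp_apply, AlgHom.ofLinearMap_apply,
    Ideal.Quotient.mkₐ_eq_mk]
  rw [hφ, map_add, hw, Ideal.Quotient.eq_zero_iff_mem.mpr (g x).2, add_zero]

end small

end Groth.Agent.Helper8.FProj
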