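import Mathlib
import Groth.Prelude.Def_CAlgX
import Groth.Prelude.Def_EGA41
import Groth.Agent.Lib.Helper2.AdicSqZero
import Groth.Agent.Lib.Helper8.AdicFS9
import Groth.Agent.Lib.Helper8.FProj2

/-!
# Formally projective algebras: formal smoothness can be tested modulo the ideal of definition
of the base (EGA 0_IV 19.7.1-type statement with formal projectivity instead of flatness)
-/

set_option autoImplicit false

namespace Groth.Agent.Helper8.FProj

open CAlgX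

universe u

section main

variable {A B : Type u} [CommRing A] [CommRing B] [Algebra A B] (𝔞 : Ideal A) (𝔟 : Ideal B)
  (hproj : ∀ (n : ℕ) (P Q : Type u) [AddCommGroup P] [Module A P] [AddCommGroup Q] [Module A Q],
      (∀ a ∈ 𝔞 ^ n, ∀ y : P, a • y = 0) → (∀ a ∈ 𝔞 ^ n, ∀ y : Q, a • y = 0) →
      ∀ f : P →ₗ[A] Q, Function.Surjective f → ∀ v : B →ₗ[A] Q, (∃ m : ℕ, ∀ x ∈ 𝔟 ^ m, v x = 0) →
        ∃ w : B →ₗ[A] P, (∃ m : ℕ, ∀ x ∈ 𝔟 ^ m, w x = 0) ∧ f ∘ₗ w = v)
  (h₀ : IsAdicFormallySmooth (A ⧸ 𝔞) (B ⧸ 𝔞.map (algebraMap A B))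
    (𝔟.map (Ideal.Quotient.mk (𝔞.map (algebraMap A B)))))

include hproj h₀ in
/-- Lifting along a small extension whose kernel is killed by `𝔞`. -/
theorem exists_lift_small {C' C'' : Type u} [CommRing C'] [Algebra A C'] [CommRing C'']
    [Algebra A C''] (p : C' →ₐ[A] C'') (hp : Function.Surjective p)
    (hsq : RingHom.ker p ^ 2 = ⊥) (hm : ∀ a ∈ 𝔞, ∀ x ∈ RingHom.ker p, a • x = 0)
    (k : ℕ) (hk : ∀ a ∈ 𝔞 ^ k, algebraMap A C' a = 0)
    (u : B →ₐ[A] C'') (hu : ∃ t : ℕ, ∀ x ∈ 𝔟 ^ t, u x = 0) :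
    ∃ v : B →ₐ[A] C', p.comp v = u ∧ ∃ t : ℕ, ∀ x ∈ 𝔟 ^ t, v x = 0 := by
  obtain ⟨t, ht⟩ := hu
  obtain ⟨w, ⟨m, hwm⟩, hfw⟩ := hproj k C' C''
    (fun a ha y => by rw [Algebra.smul_def, hk a ha, zero_mul])
    (fun a ha y => by
      obtain ⟨c, rfl⟩ := hp y
      rw [← map_smul, Algebra.smul_def, hk a ha, zero_mul, map_zero])
    p.toLinearMap hp u.toLinearMap ⟨t, ht⟩
  have hpw : ∀ b, p (w b) = u b := fun b => LinearMap.congr_fun hfw b
  let e := Ideal.quotientKerAlgEquivOfSurjective hp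
  let u' : B →ₐ[A] C' ⧸ RingHom.ker p := e.symm.toAlgHom.comp u
  have hw : ∀ b, Ideal.Quotient.mk (RingHom.ker p) (w b) = u' b := by
    intro b
    show _ = e.symm (u b)
    rw [← hpw b, AlgEquiv.eq_symm_apply]
    exact Ideal.quotientKerAlgEquivOfSurjective_mk hp (w b)
  obtain ⟨v, hv⟩ := exists_lift_small_of_linear 𝔞 𝔟 h₀ (RingHom.ker p) hsq hm
    u' w hw m hwm
  have hpv : p.comp v = u := by
    ext b
    have h1 : Ideal.Quotient.mk (RingHom.ker p) (v b) = e.symm (u b) :=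
      AlgHom.congr_fun hv b
    have h2 : e (Ideal.Quotient.mk _ (v b)) = u b := by
      rw [h1]; exact e.apply_symm_apply _
    rw [← h2]
    exact (Ideal.quotientKerAlgEquivOfSurjective_mk hp (v b)).symm
  exact ⟨v, hpv, 2 * t, Groth.Agent.Helper8.AdicFS.continuous_of_comp_eq 𝔟 p hsq u v hpv t ht⟩

variable {C : Type u} [CommRing C] [Algebra A C]

include hproj h₀ in
theorem exists_lift_of_iterate (k : ℕ) (hk : ∀ a ∈ 𝔞 ^ k, algebraMap A C a = 0) (s : ℕ) :
    ∀ J : Ideal C, (Groth.Agent.Helper8.CohenSm.next 𝔞)^[s] J = ⊥ →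
    ∀ u : B →ₐ[A] C ⧸ J, (∃ t : ℕ, ∀ x ∈ 𝔟 ^ t, u x = 0) →
      ∃ v : B →ₐ[A] C, (Ideal.Quotient.mkₐ A J).comp v = u := by
  induction s with
  | zero =>
    intro J hJ u _
    rw [Function.iterate_zero, id] at hJ
    subst hJ
    refine ⟨(AlgEquiv.quotientBot A C).toAlgHom.comp u, ?_⟩
    ext b
    obtain ⟨c, hc⟩ := Ideal.Quotient.mk_surjective (u b)
    show Ideal.Quotient.mk ⊥ (AlgEquiv.quotientBot A C (u b)) = u b
    rw [← hc, AlgEquiv.quotientBot_mk]
  | succ s ih =>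
    intro J hJ u hu
    rw [Function.iterate_succ_apply] at hJ
    have hle := Groth.Agent.Helper8.CohenSm.next_le 𝔞 J
    have hkerp : RingHom.ker (Ideal.Quotient.factorₐ A hle) =
        J.map (Ideal.Quotient.mk (Groth.Agent.Helper8.CohenSm.next 𝔞 J)) :=
      Ideal.Quotient.factor_ker hle
    obtain ⟨v₁, hv₁, hv₁c⟩ := exists_lift_small 𝔞 𝔟 hproj h₀ (Ideal.Quotient.factorₐ A hle)
      (Ideal.Quotient.factor_surjective hle) (by
        rw [hkerp, ← Ideal.map_pow, eq_bot_iff, Ideal.map_le_iff_le_comap]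
        intro x hx
        rw [Ideal.mem_comap, Ideal.mem_bot, Ideal.Quotient.eq_zero_iff_mem]
        rw [pow_two] at hx
        exact Ideal.mul_mono le_sup_left le_rfl hx) (by
        intro a ha x hx
        rw [hkerp] at hx
        obtain ⟨j, hj, rfl⟩ := (Ideal.mem_map_iff_of_surjective _
          Ideal.Quotient.mk_surjective).1 hx
        rw [Algebra.smul_def]
        show Ideal.Quotient.mk (Groth.Agent.Helper8.CohenSm.next 𝔞 J) (algebraMap A C a) *
          Ideal.Quotient.mk _ j = 0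
        rw [← map_mul, Ideal.Quotient.eq_zero_iff_mem]
        exact Ideal.mul_mem_mul (Ideal.mem_sup_right (Ideal.mem_map_of_mem _ ha)) hj) k (by
        intro a ha
        show Ideal.Quotient.mk (Groth.Agent.Helper8.CohenSm.next 𝔞 J) (algebraMap A C a) = 0
        rw [hk a ha, map_zero]) u hu
    obtain ⟨v, hv⟩ := ih (Groth.Agent.Helper8.CohenSm.next 𝔞 J) hJ v₁ hv₁c
    refine ⟨v, ?_⟩
    rw [← hv₁, ← hv, ← AlgHom.comp_assoc, Ideal.Quotient.factorₐ_comp_mk]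

include hproj h₀ in
/-- A formally projective `A`-algebra `B` whose reduction modulo `𝔞` is formally smooth over
`A ⧸ 𝔞` is formally smooth over `A` (adic topologies). -/
theorem isFormallySmoothAdic_of_formallyProjective : EGA41.IsFormallySmoothAdic A 𝔞 B 𝔟 := by
  intro C _ _ J hJ ⟨k, hk⟩ u hu
  obtain ⟨N, hN⟩ := hJ
  have hk' : ∀ a ∈ 𝔞 ^ k, algebraMap A C a = 0 := by
    intro a ha
    have : algebraMap A C a ∈ (𝔞 ^ k).map (algebraMap A C) := Ideal.mem_map_of_mem _ ha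
    rwa [hk, Ideal.mem_bot] at this
  apply exists_lift_of_iterate 𝔞 𝔟 hproj h₀ k hk' (N + k) J ?_ u hu
  rw [eq_bot_iff]
  refine (Groth.Agent.Helper8.CohenSm.iterate_next_le 𝔞 (N + k) J).trans
    (Ideal.mul_le_left.trans ?_)
  refine Ideal.sup_pow_add_le_pow_sup_pow.trans ?_
  rw [hN, ← Ideal.map_pow, hk]
  simp

end main

section converse

theorem isFormallySmoothAdic_quotient {A B : Type u} [CommRing A] [CommRing B] [Algebra A B]
    (𝔞 : Ideal A) (𝔟 : Ideal B) (h : EGA41.IsFormallySmoothAdic A 𝔞 B 𝔟) :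
    EGA41.IsFormallySmoothAdic (A ⧸ 𝔞) ⊥ (B ⧸ 𝔞.map (algebraMap A B))
      (𝔟.map (Ideal.Quotient.mk (𝔞.map (algebraMap A B)))) := by
  intro E _ _ J hJ _ u ⟨m, hm⟩
  letI algAE : Algebra A E := ((algebraMap (A ⧸ 𝔞) E).comp (algebraMap A (A ⧸ 𝔞))).toAlgebra
  haveI tow : IsScalarTower A (A ⧸ 𝔞) E := IsScalarTower.of_algebraMap_eq (fun _ => rfl)
  let uB : B →ₐ[A] E ⧸ J :=
    (u.restrictScalars A).comp (Ideal.Quotient.mkₐ A (𝔞.map (algebraMap A B)))
  have huB : ∀ x ∈ 𝔟 ^ m, uB x = 0 := by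
    intro x hx
    apply hm
    rw [← Ideal.map_pow]
    exact Ideal.mem_map_of_mem _ hx
  have hAE0 : ∀ a ∈ 𝔞, algebraMap A E a = 0 := by
    intro a ha
    change algebraMap (A ⧸ 𝔞) E (Ideal.Quotient.mk _ a) = 0
    rw [Ideal.Quotient.eq_zero_iff_mem.mpr ha, map_zero]
  have hdisc : ∃ j : ℕ, (𝔞 ^ j).map (algebraMap A E) = ⊥ := by
    refine ⟨1, ?_⟩
    rw [pow_one, eq_bot_iff, Ideal.map_le_iff_le_comap]
    intro a ha
    rw [Ideal.mem_comap, Ideal.mem_bot]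
    exact hAE0 a ha
  obtain ⟨vB, hvB⟩ := h E J hJ hdisc uB ⟨m, huB⟩
  have hkill : ∀ x ∈ 𝔞.map (algebraMap A B), vB.toRingHom x = 0 := by
    have : 𝔞.map (algebraMap A B) ≤ RingHom.ker vB.toRingHom := by
      rw [Ideal.map_le_iff_le_comap]
      intro a ha
      rw [Ideal.mem_comap, RingHom.mem_ker]
      change vB (algebraMap A B a) = 0
      rw [AlgHom.commutes]
      exact hAE0 a ha
    exact fun x hx => this hx
  let v : (B ⧸ 𝔞.map (algebraMap A B)) →ₐ[A ⧸ 𝔞] E :=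
    { Ideal.Quotient.lift _ vB.toRingHom hkill with
      commutes' := fun r => by
        obtain ⟨a, rfl⟩ := Ideal.Quotient.mk_surjective r
        change vB (algebraMap A B a) = algebraMap A E a
        rw [AlgHom.commutes] }
  refine ⟨v, ?_⟩
  ext x
  obtain ⟨b, rfl⟩ := Ideal.Quotient.mk_surjective x
  exact AlgHom.congr_fun hvB b

end converse

end Groth.Agent.Helper8.FProj
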