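import Mathlib
import Groth.Prelude.Def_EGA41

/-!
# Descent of adic formal smoothness along a finite projective faithfully flat base change,
for a formally projective algebra: retraction and the small step
-/

set_option autoImplicit false

namespace Groth.Agent.Helper8.FProj

open TensorProduct

universe u

/-- A finite projective faithfully flat algebra admits a linear retraction. -/
theorem exists_retraction (A A' : Type u) [CommRing A] [CommRing A'] [Algebra A A']
    [Module.FaithfullyFlat A A'] [Module.Projective A A'] [Module.Finite A A'] :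
    ∃ ρ : A' →ₗ[A] A, ρ 1 = 1 := by
  classical
  obtain ⟨n, f, g, -, -, hfg⟩ := Module.Finite.exists_comp_eq_id_of_projective A A'
  let τ : Ideal A := Ideal.span (Set.range fun p : (A' →ₗ[A] A) × A' => p.1 p.2)
  have hτ : τ = ⊤ := by
    by_contra hne
    obtain ⟨𝔪, h𝔪, hle⟩ := Ideal.exists_le_maximal τ hne
    apply Module.FaithfullyFlat.submodule_ne_top (R := A) (M := A') h𝔪
    rw [eq_top_iff]
    intro x _
    have hx : x = ∑ i, (g x i) • f (Pi.single i 1) := by
      have h1 : x = f (g x) := (LinearMap.congr_fun hfg x).symm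
      have h2 : g x = ∑ i, (g x i) • (Pi.single i (1 : A) : Fin n → A) := by
        ext j
        simp [Finset.sum_apply, Pi.single_apply]
      conv_lhs => rw [h1, h2]
      rw [map_sum]
      refine Finset.sum_congr rfl fun i _ => ?_
      rw [map_smul]
    rw [hx]
    refine Submodule.sum_mem _ fun i _ => ?_
    refine Submodule.smul_mem_smul (hle ?_) Submodule.mem_top
    exact Ideal.subset_span ⟨((LinearMap.proj i).comp g, x), rfl⟩
  have h1 : (1 : A) ∈ τ := by rw [hτ]; trivial
  have key : ∀ y ∈ τ, ∃ ρ : A' →ₗ[A] A, ρ 1 = y := by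
    intro y hy
    refine Submodule.span_induction (p := fun y _ => ∃ ρ : A' →ₗ[A] A, ρ 1 = y) ?_ ?_ ?_ ?_ hy
    · rintro _ ⟨⟨φ, x⟩, rfl⟩
      refine ⟨φ.comp (LinearMap.mulRight A x), ?_⟩
      simp
    · exact ⟨0, rfl⟩
    · rintro y z _ _ ⟨ρ₁, h₁⟩ ⟨ρ₂, h₂⟩
      exact ⟨ρ₁ + ρ₂, by rw [LinearMap.add_apply, h₁, h₂]⟩
    · rintro a y _ ⟨ρ₁, h₁⟩
      exact ⟨a • ρ₁, by rw [LinearMap.smul_apply, h₁]⟩
  exact key 1 h1

section R

variable {A A' : Type u} [CommRing A] [CommRing A'] [Algebra A A'] (ρ : A' →ₗ[A] A)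
  (C : Type u) [CommRing C] [Algebra A C]

/-- The contraction `A' ⊗ C → C`, `a' ⊗ c ↦ ρ a' • c`. -/
noncomputable def contr : A' ⊗[A] C →ₗ[A] C :=
  (TensorProduct.lid A C).toLinearMap ∘ₗ ρ.rTensor C

@[simp] theorem contr_tmul (a' : A') (c : C) : contr ρ C (a' ⊗ₜ[A] c) = ρ a' • c := by
  simp [contr]

theorem contr_mul (c : C) (z : A' ⊗[A] C) :
    contr ρ C ((1 ⊗ₜ[A] c) * z) = c * contr ρ C z := by
  induction z using TensorProduct.induction_on with
  | zero => simp
  | tmul a' c' =>
    rw [Algebra.TensorProduct.tmul_mul_tmul, one_mul, contr_tmul, contr_tmul, mul_smul_comm]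
  | add x y hx hy => rw [mul_add, map_add, map_add, hx, hy, mul_add]

theorem contr_one_tmul (hρ : ρ 1 = 1) (c : C) : contr ρ C (1 ⊗ₜ[A] c) = c := by
  rw [contr_tmul, hρ, one_smul]

variable {C} in
theorem contr_map (K : Ideal C) (z : A' ⊗[A] C) :
    Ideal.Quotient.mk K (contr ρ C z) =
      contr ρ (C ⧸ K) (Algebra.TensorProduct.map (AlgHom.id A A') (Ideal.Quotient.mkₐ A K) z) := by
  induction z using TensorProduct.induction_on with
  | zero => simp
  | tmul a' c =>
    rw [Algebra.TensorProduct.map_tmul, contr_tmul, contr_tmul]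
    rfl
  | add x y hx hy => rw [map_add, map_add, map_add, map_add, hx, hy]

end R

end Groth.Agent.Helper8.FProj
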