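import Mathlib
import Groth.Prelude.Def_EGA41
import Groth.Agent.Lib.Helper8.FProj4

/-!
# Descent of adic formal smoothness along a finite projective faithfully flat base change,
for a formally projective algebra: the small step
-/

set_option autoImplicit false

namespace Groth.Agent.Helper8.FProj

open TensorProduct

universe u

section descent

variable {A B A' : Type u} [CommRing A] [CommRing B] [CommRing A'] [Algebra A B] [Algebra A A']
  (𝔞 : Ideal A) (𝔟 : Ideal B)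
  (hproj : ∀ (n : ℕ) (P Q : Type u) [AddCommGroup P] [Module A P] [AddCommGroup Q] [Module A Q],
      (∀ a ∈ 𝔞 ^ n, ∀ y : P, a • y = 0) → (∀ a ∈ 𝔞 ^ n, ∀ y : Q, a • y = 0) →
      ∀ f : P →ₗ[A] Q, Function.Surjective f → ∀ v : B →ₗ[A] Q, (∃ m : ℕ, ∀ x ∈ 𝔟 ^ m, v x = 0) →
        ∃ w : B →ₗ[A] P, (∃ m : ℕ, ∀ x ∈ 𝔟 ^ m, w x = 0) ∧ f ∘ₗ w = v)
  (ρ : A' →ₗ[A] A) (hρ : ρ 1 = 1)
  (hB' : EGA41.IsFormallySmoothAdic A' (𝔞.map (algebraMap A A')) (A' ⊗[A] B)
        ((𝔞.map (algebraMap A A')).map (algebraMap A' (A' ⊗[A] B)) ⊔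
          𝔟.map (Algebra.TensorProduct.includeRight : B →ₐ[A] A' ⊗[A] B).toRingHom))

theorem algebraMap_tensor_eq_zero {D : Type u} [CommRing D] [Algebra A D] (a : A)
    (ha : algebraMap A D a = 0) : algebraMap A' (A' ⊗[A] D) (algebraMap A A' a) = 0 := by
  rw [Algebra.TensorProduct.algebraMap_apply]
  show (algebraMap A A' a) ⊗ₜ[A] (1 : D) = 0
  rw [Algebra.algebraMap_eq_smul_one, TensorProduct.smul_tmul, ← Algebra.algebraMap_eq_smul_one, ha,
    TensorProduct.tmul_zero]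

include hproj hρ hB' in
theorem exists_lift_sqZero_descent {C : Type u} [CommRing C] [Algebra A C] (K : Ideal C)
    (hK : K ^ 2 = ⊥) (k : ℕ) (hk : ∀ a ∈ 𝔞 ^ k, algebraMap A C a = 0)
    (u : B →ₐ[A] C ⧸ K) (hu : ∃ t : ℕ, ∀ x ∈ 𝔟 ^ t, u x = 0) :
    ∃ v : B →ₐ[A] C, (Ideal.Quotient.mkₐ A K).comp v = u := by
  obtain ⟨t, ht⟩ := hu
  have hkq : ∀ a ∈ 𝔞 ^ k, algebraMap A (C ⧸ K) a = 0 := by
    intro a ha
    show Ideal.Quotient.mk K (algebraMap A C a) = 0
    rw [hk a ha, map_zero]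
  obtain ⟨w, ⟨m, hwm⟩, hfw⟩ := hproj k C (C ⧸ K)
    (fun a ha y => by rw [Algebra.smul_def, hk a ha, zero_mul])
    (fun a ha y => by rw [Algebra.smul_def, hkq a ha, zero_mul])
    (Ideal.Quotient.mkₐ A K).toLinearMap (Ideal.Quotient.mkₐ_surjective A K) u.toLinearMap ⟨t, ht⟩
  have hw : ∀ b, Ideal.Quotient.mk K (w b) = u b := fun b => LinearMap.congr_fun hfw b
  have hwK : ∀ x y : B, w x * w y - w (x * y) ∈ K := by
    intro x y
    rw [← Ideal.Quotient.eq_zero_iff_mem, map_sub, map_mul, hw, hw, hw, map_mul, sub_self]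
  have hKK : ∀ x y : C, x ∈ K → y ∈ K → x * y = 0 := by
    intro x y hx hy
    have : x * y ∈ K ^ 2 := by rw [pow_two]; exact Ideal.mul_mem_mul hx hy
    rwa [hK] at this
  -- base change
  let p' : A' ⊗[A] C →ₐ[A'] A' ⊗[A] (C ⧸ K) :=
    Algebra.TensorProduct.map (AlgHom.id A' A') (Ideal.Quotient.mkₐ A K)
  have hp'apply : ∀ z, p' z =
      Algebra.TensorProduct.map (AlgHom.id A A') (Ideal.Quotient.mkₐ A K) z := by
    intro z
    induction z using TensorProduct.induction_on with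
    | zero => simp
    | tmul a' c => rfl
    | add x y hx hy => rw [map_add, map_add, hx, hy]
  have hp' : Function.Surjective p' :=
    Algebra.TensorProduct.map_surjective _ _ (fun x => ⟨x, rfl⟩) (Ideal.Quotient.mkₐ_surjective A K)
  have hker : RingHom.ker p' =
      K.map (Algebra.TensorProduct.includeRight : C →ₐ[A] A' ⊗[A] C) := by
    have h1 := Algebra.TensorProduct.lTensor_ker (A := A') (Ideal.Quotient.mkₐ A K)
      (Ideal.Quotient.mkₐ_surjective A K)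
    have hkm : RingHom.ker (Ideal.Quotient.mkₐ A K) = K := by
      ext c
      rw [RingHom.mem_ker, Ideal.Quotient.mkₐ_eq_mk, Ideal.Quotient.eq_zero_iff_mem]
    rw [hkm] at h1
    rw [← h1]
    ext z
    rw [RingHom.mem_ker, RingHom.mem_ker, hp'apply]
  have hsq : RingHom.ker p' ^ 2 = ⊥ := by
    rw [hker, ← Ideal.map_pow, hK, Ideal.map_bot]
  let u' : A' ⊗[A] B →ₐ[A'] A' ⊗[A] (C ⧸ K) := Algebra.TensorProduct.map (AlgHom.id A' A') u
  have hu'tmul : ∀ (a' : A') (b : B), u' (a' ⊗ₜ[A] b) = a' ⊗ₜ[A] u b := fun a' b => rfl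
  let e := Ideal.quotientKerAlgEquivOfSurjective hp'
  have hdisc : ∃ j : ℕ, ((𝔞.map (algebraMap A A')) ^ j).map (algebraMap A' (A' ⊗[A] C)) = ⊥ := by
    refine ⟨k, ?_⟩
    rw [← Ideal.map_pow, Ideal.map_map, eq_bot_iff, Ideal.map_le_iff_le_comap]
    intro a ha
    rw [Ideal.mem_comap, Ideal.mem_bot, RingHom.comp_apply]
    exact algebraMap_tensor_eq_zero a (hk a ha)
  have hu'0 : ∀ x ∈ ((𝔞.map (algebraMap A A')).map (algebraMap A' (A' ⊗[A] B)) ⊔
      𝔟.map (Algebra.TensorProduct.includeRight : B →ₐ[A] A' ⊗[A] B).toRingHom) ^ (k + t),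
      u' x = 0 := by
    have h1 : ((𝔞.map (algebraMap A A')).map (algebraMap A' (A' ⊗[A] B)) ⊔
        𝔟.map (Algebra.TensorProduct.includeRight : B →ₐ[A] A' ⊗[A] B).toRingHom) ^ (k + t) ≤
        RingHom.ker u' := by
      refine Ideal.sup_pow_add_le_pow_sup_pow.trans (sup_le ?_ ?_)
      · rw [← Ideal.map_pow, ← Ideal.map_pow, Ideal.map_map, Ideal.map_le_iff_le_comap]
        intro a ha
        rw [Ideal.mem_comap, RingHom.mem_ker, RingHom.comp_apply, AlgHom.commutes]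
        exact algebraMap_tensor_eq_zero a (hkq a ha)
      · rw [← Ideal.map_pow, Ideal.map_le_iff_le_comap]
        intro b hb
        rw [Ideal.mem_comap, RingHom.mem_ker]
        show u' ((1 : A') ⊗ₜ[A] b) = 0
        rw [hu'tmul, ht b hb, TensorProduct.tmul_zero]
    exact fun x hx => h1 hx
  obtain ⟨v', hv'⟩ := hB' (A' ⊗[A] C) (RingHom.ker p') ⟨2, hsq⟩ hdisc (e.symm.toAlgHom.comp u')
    ⟨k + t, fun x hx => by
      show e.symm (u' x) = 0
      rw [hu'0 x hx, map_zero]⟩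
  have hpv' : ∀ X, p' (v' X) = u' X := by
    intro X
    have h1 : Ideal.Quotient.mk (RingHom.ker p') (v' X) = e.symm (u' X) := AlgHom.congr_fun hv' X
    have h2 : e (Ideal.Quotient.mk _ (v' X)) = u' X := by
      rw [h1]; exact e.apply_symm_apply _
    rw [← h2]
    exact (Ideal.quotientKerAlgEquivOfSurjective_mk hp' (v' X)).symm
  let w' : A' ⊗[A] B →ₗ[A'] A' ⊗[A] C := w.baseChange A'
  have hw'tmul : ∀ (a' : A') (b : B), w' (a' ⊗ₜ[A] b) = a' ⊗ₜ[A] w b := fun a' b =>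
    LinearMap.baseChange_tmul _ _ _
  have hpw' : ∀ X, p' (w' X) = u' X := by
    intro X
    induction X using TensorProduct.induction_on with
    | zero => simp
    | tmul a' b =>
      rw [hw'tmul, hu'tmul, ← hw]
      rfl
    | add x y hx hy => rw [map_add, map_add, map_add, hx, hy]
  let G : A' ⊗[A] B → A' ⊗[A] C := fun X => v' X - w' X
  have hG : ∀ X, G X = v' X - w' X := fun X => rfl
  have hGker : ∀ X, G X ∈ RingHom.ker p' := by
    intro X
    rw [RingHom.mem_ker, hG, map_sub, hpv', hpw', sub_self]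
  have hGG : ∀ X Y, G X * G Y = 0 := by
    intro X Y
    have : G X * G Y ∈ RingHom.ker p' ^ 2 := by
      rw [pow_two]; exact Ideal.mul_mem_mul (hGker X) (hGker Y)
    rwa [hsq] at this
  let ιB : B →ₗ[A] A' ⊗[A] B :=
    (Algebra.TensorProduct.includeRight : B →ₐ[A] A' ⊗[A] B).toLinearMap
  let g : B →ₗ[A] C :=
    contr ρ C ∘ₗ ((v'.toLinearMap.restrictScalars A) - (w'.restrictScalars A)) ∘ₗ ιB
  have hg : ∀ b, g b = contr ρ C (G ((1 : A') ⊗ₜ[A] b)) := fun b => rfl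
  have hgK : ∀ b, g b ∈ K := by
    intro b
    rw [← Ideal.Quotient.eq_zero_iff_mem, hg, contr_map, ← hp'apply,
      RingHom.mem_ker.1 (hGker _), map_zero]
  have hGmul : ∀ x y : B, G ((1 : A') ⊗ₜ[A] (x * y)) =
      ((1 : A') ⊗ₜ[A] w x) * G ((1 : A') ⊗ₜ[A] y) + ((1 : A') ⊗ₜ[A] w y) * G ((1 : A') ⊗ₜ[A] x) +
        (1 : A') ⊗ₜ[A] (w x * w y - w (x * y)) := by
    intro x y
    have h1 : ((1 : A') ⊗ₜ[A] (x * y) : A' ⊗[A] B) = ((1 : A') ⊗ₜ[A] x) * ((1 : A') ⊗ₜ[A] y) := by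
      rw [Algebra.TensorProduct.tmul_mul_tmul, one_mul]
    have h2 : v' ((1 : A') ⊗ₜ[A] (x * y)) = v' ((1 : A') ⊗ₜ[A] x) * v' ((1 : A') ⊗ₜ[A] y) := by
      rw [h1, map_mul]
    have h3 : ((1 : A') ⊗ₜ[A] (w x * w y - w (x * y)) : A' ⊗[A] C) =
        ((1 : A') ⊗ₜ[A] w x) * ((1 : A') ⊗ₜ[A] w y) - (1 : A') ⊗ₜ[A] w (x * y) := by
      rw [TensorProduct.tmul_sub, Algebra.TensorProduct.tmul_mul_tmul, one_mul]
    have h4 := hGG ((1 : A') ⊗ₜ[A] x) ((1 : A') ⊗ₜ[A] y)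
    rw [hG, hG] at h4
    rw [hG, hG, hG, h2, h3, hw'tmul, hw'tmul, hw'tmul]
    rw [hw'tmul, hw'tmul] at h4
    linear_combination h4
  have hgmul : ∀ x y : B, g (x * y) = w x * g y + w y * g x + (w x * w y - w (x * y)) := by
    intro x y
    rw [hg, hGmul, map_add, map_add, contr_mul, contr_mul, contr_one_tmul ρ C hρ, ← hg, ← hg]
  have hgg : ∀ x y : B, g x * g y = 0 := fun x y => hKK _ _ (hgK x) (hgK y)
  let φl : B →ₗ[A] C := w + g
  have hφ : ∀ x, φl x = w x + g x := fun x => rfl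
  have hmul : ∀ x y, φl (x * y) = φl x * φl y := by
    intro x y
    rw [hφ, hφ, hφ, hgmul]
    linear_combination (-1 : C) * hgg x y
  have hone : φl 1 = 1 := by
    have h1 : φl 1 - 1 ∈ K := by
      rw [← Ideal.Quotient.eq_zero_iff_mem, hφ]
      have e1 : Ideal.Quotient.mk K (w 1) = 1 := by rw [hw, map_one]
      have e2 : Ideal.Quotient.mk K (g 1) = 0 := Ideal.Quotient.eq_zero_iff_mem.mpr (hgK 1)
      rw [map_sub, map_add, e1, e2, map_one, add_zero, sub_self]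
    have h2 : (φl 1 - 1) * (φl 1 - 1) = 0 := hKK _ _ h1 h1
    have h3 : φl 1 * φl 1 = φl 1 := by rw [← hmul, mul_one]
    linear_combination (-1 : C) * h2 + h3
  refine ⟨AlgHom.ofLinearMap φl hone hmul, ?_⟩
  ext x
  simp only [AlgHom.coe_comp, Function.comp_apply, AlgHom.ofLinearMap_apply,
    Ideal.Quotient.mkₐ_eq_mk]
  rw [hφ, map_add, hw, Ideal.Quotient.eq_zero_iff_mem.mpr (hgK x), add_zero]

end descent

end Groth.Agent.Helper8.FProj
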