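import Mathlib
import Groth.Prelude.Def_EGA41
import Groth.Agent.Lib.Helper8.FProj5

/-!
# Descent of adic formal smoothness along a finite projective faithfully flat base change,
for a formally projective algebra (EGA 0_IV 19.4.7-type statement)
-/

set_option autoImplicit false

namespace Groth.Agent.Helper8.FProj

open TensorProduct

universe u

/-- For adic formal smoothness over an adic base it suffices to lift along square-zero
extensions of discrete algebras. -/
theorem isFormallySmoothAdic_of_sqZero {A B : Type u} [CommRing A] [CommRing B] [Algebra A B]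
    (𝔞 : Ideal A) (𝔟 : Ideal B)
    (h : ∀ (C : Type u) [CommRing C] [Algebra A C] (K : Ideal C), K ^ 2 = ⊥ →
      ∀ k : ℕ, (∀ a ∈ 𝔞 ^ k, algebraMap A C a = 0) →
      ∀ u : B →ₐ[A] C ⧸ K, (∃ t : ℕ, ∀ x ∈ 𝔟 ^ t, u x = 0) →
        ∃ v : B →ₐ[A] C, (Ideal.Quotient.mkₐ A K).comp v = u) :
    EGA41.IsFormallySmoothAdic A 𝔞 B 𝔟 := by
  intro C _ _ J hJ ⟨k, hk⟩
  have hk' : ∀ a ∈ 𝔞 ^ k, algebraMap A C a = 0 := by
    intro a ha
    have : algebraMap A C a ∈ (𝔞 ^ k).map (algebraMap A C) := Ideal.mem_map_of_mem _ ha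
    rwa [hk, Ideal.mem_bot] at this
  clear hk
  have key : IsNilpotent J → (∀ a ∈ 𝔞 ^ k, algebraMap A C a = 0) →
      ∀ u : B →ₐ[A] C ⧸ J, (∃ t : ℕ, ∀ x ∈ 𝔟 ^ t, u x = 0) →
      ∃ v : B →ₐ[A] C, (Ideal.Quotient.mkₐ A J).comp v = u := by
    clear hk'
    revert ‹Algebra A C›
    apply Ideal.IsNilpotent.induction_on (S := C) J hJ
    · intro S _ I hI _ _ hk u hu
      exact h S I hI k hk u hu
    · intro S _ I J hIJ h₁ h₂ _ hJnil hk u ⟨t, ht⟩
      obtain ⟨N, hN⟩ := hJnil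
      have hInil : IsNilpotent I := ⟨N, by
        rw [Ideal.zero_eq_bot, eq_bot_iff] at hN ⊢
        exact le_trans (Ideal.pow_right_mono hIJ N) hN⟩
      have hJ'nil : IsNilpotent (J.map (Ideal.Quotient.mk I)) := ⟨N, by
        rw [← Ideal.map_pow, hN, Ideal.zero_eq_bot, Ideal.map_bot]; rfl⟩
      have hkI : ∀ a ∈ 𝔞 ^ k, algebraMap A (S ⧸ I) a = 0 := by
        intro a ha
        show Ideal.Quotient.mk I (algebraMap A S a) = 0
        rw [hk a ha, map_zero]
      let e : ((S ⧸ I) ⧸ J.map (Ideal.Quotient.mk I)) ≃ₐ[A] S ⧸ J :=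
        { (DoubleQuot.quotQuotEquivQuotSup I J).trans
            (Ideal.quotEquivOfEq (sup_eq_right.mpr hIJ)) with
          commutes' := fun x => rfl }
      have hu' : ∃ t : ℕ, ∀ x ∈ 𝔟 ^ t, (e.symm.toAlgHom.comp u) x = 0 := by
        refine ⟨t, fun x hx => ?_⟩
        change e.symm (u x) = 0
        rw [ht x hx, map_zero]
      obtain ⟨g', hg'⟩ := h₂ hJ'nil hkI (e.symm.toAlgHom.comp u) hu'
      have hg'c : ∃ m : ℕ, ∀ x ∈ 𝔟 ^ m, g' x = 0 := by
        refine ⟨t * N, fun x hx => ?_⟩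
        have h1 : (𝔟 ^ t).map g'.toRingHom ≤ J.map (Ideal.Quotient.mk I) := by
          rw [Ideal.map_le_iff_le_comap]
          intro y hy
          rw [Ideal.mem_comap, ← Ideal.Quotient.eq_zero_iff_mem]
          change Ideal.Quotient.mk _ (g' y) = 0
          have := AlgHom.congr_fun hg' y
          change Ideal.Quotient.mk _ (g' y) = e.symm (u y) at this
          rw [this, ht y hy, map_zero]
        have h2 := Ideal.pow_right_mono h1 N
        rw [← Ideal.map_pow, ← pow_mul, ← Ideal.map_pow, hN, Ideal.zero_eq_bot, Ideal.map_bot] at h2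
        exact h2 (Ideal.mem_map_of_mem _ hx)
      obtain ⟨g, hg⟩ := h₁ hInil hk g' hg'c
      refine ⟨g, ?_⟩
      ext x
      have h3 := AlgHom.congr_fun hg' x
      change Ideal.Quotient.mk _ (g' x) = e.symm (u x) at h3
      have h4 : e (Ideal.Quotient.mk _ (g' x)) = u x := by rw [h3, e.apply_symm_apply]
      rw [← hg] at h4
      exact h4
  exact fun u hu => key hJ hk' u hu

/-- **Descent** (EGA 0_IV 19.4.7-type): if `B` is a formally projective `A`-algebra and `A'` is a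
finite projective faithfully flat `A`-algebra such that `A' ⊗ B` is formally smooth over `A'`,
then `B` is formally smooth over `A`. -/
theorem isFormallySmoothAdic_descent {A B A' : Type u} [CommRing A] [CommRing B] [CommRing A']
    [Algebra A B] [Algebra A A'] (𝔞 : Ideal A) (𝔟 : Ideal B)
    (hproj : ∀ (n : ℕ) (P Q : Type u) [AddCommGroup P] [Module A P] [AddCommGroup Q] [Module A Q],
      (∀ a ∈ 𝔞 ^ n, ∀ y : P, a • y = 0) → (∀ a ∈ 𝔞 ^ n, ∀ y : Q, a • y = 0) →
      ∀ f : P →ₗ[A] Q, Function.Surjective f → ∀ v : B →ₗ[A] Q, (∃ m : ℕ, ∀ x ∈ 𝔟 ^ m, v x = 0) →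
        ∃ w : B →ₗ[A] P, (∃ m : ℕ, ∀ x ∈ 𝔟 ^ m, w x = 0) ∧ f ∘ₗ w = v)
    [Module.FaithfullyFlat A A'] [Module.Projective A A'] [Module.Finite A A']
    (hB' : EGA41.IsFormallySmoothAdic A' (𝔞.map (algebraMap A A')) (A' ⊗[A] B)
        ((𝔞.map (algebraMap A A')).map (algebraMap A' (A' ⊗[A] B)) ⊔
          𝔟.map (Algebra.TensorProduct.includeRight : B →ₐ[A] A' ⊗[A] B).toRingHom)) :
    EGA41.IsFormallySmoothAdic A 𝔞 B 𝔟 := by
  obtain ⟨ρ, hρ⟩ := exists_retraction A A'
  apply isFormallySmoothAdic_of_sqZero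
  intro C _ _ K hK k hk u hu
  exact exists_lift_sqZero_descent 𝔞 𝔟 hproj ρ hρ hB' K hK k hk u hu

end Groth.Agent.Helper8.FProj
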