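import Mathlib
import Groth.Prelude
import Groth.Agent.Lib.Helper8.UnivCpl3

/-!
# Avoiding the associated primes of a fibre module
-/

set_option autoImplicit false

universe u

namespace Groth.Agent.Helper8.FibAss

open TensorProduct

attribute [local instance] Algebra.TensorProduct.rightAlgebra

variable {R S : Type u} [CommRing R] [CommRing S] [Algebra R S] [Algebra.FiniteType R S]
  (N : Type u) [AddCommGroup N] [Module S N] [Module R N] [IsScalarTower R S N]
  [Module.Finite S N]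
  (p : Ideal R) [p.IsPrime] (q : Ideal S) [q.IsPrime]

omit [Algebra.FiniteType R S] [q.IsPrime] in
theorem exists_of_not_le (r : Ideal (p.Fiber S)) (hr : ¬ r ≤ FlatCA.fiberIdeal p q) :
    ∃ g : S, g ∉ q ∧ ((1 : p.ResidueField) ⊗ₜ[R] g : p.Fiber S) ∈ r := by
  obtain ⟨f, hfr, hfq⟩ := Set.not_subset.mp hr
  obtain ⟨a, ha, s, e⟩ := Ideal.Fiber.exists_smul_eq_one_tmul p f
  refine ⟨s, ?_, ?_⟩
  · intro hs
    apply hfq
    have h2 : a • f ∈ FlatCA.fiberIdeal p q := by
      rw [e]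
      exact Ideal.mem_map_of_mem _ hs
    rw [Algebra.smul_def] at h2
    obtain ⟨u, hu⟩ := Groth.Agent.Helper8.UnivCpl.isUnit_algebraMap_fiber (S := S) p ha
    rw [← hu] at h2
    have h3 := Ideal.mul_mem_left _ (↑u⁻¹ : p.Fiber S) h2
    rwa [← mul_assoc, Units.inv_mul, one_mul] at h3
  · rw [← e]
    exact Submodule.smul_of_tower_mem r a hfr

theorem finite_ass : (associatedPrimes (p.Fiber S) (FlatCA.fiberMod p S N)).Finite := by
  haveI : IsNoetherianRing (p.Fiber S) :=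
    Algebra.FiniteType.isNoetherianRing p.ResidueField (p.Fiber S)
  haveI : Module.Finite (p.Fiber S) (FlatCA.fiberMod p S N) :=
    inferInstanceAs (Module.Finite (p.Fiber S) ((p.Fiber S) ⊗[S] N))
  exact associatedPrimes.finite _ _

theorem main : ∃ g : S, g ∉ q ∧
    ∀ r ∈ associatedPrimes (p.Fiber S) (FlatCA.fiberMod p S N),
      ¬ r ≤ FlatCA.fiberIdeal p q → ((1 : p.ResidueField) ⊗ₜ[R] g : p.Fiber S) ∈ r := by
  classical
  have hfin := finite_ass (S := S) N p
  choose! g hg1 hg2 using fun (r : Ideal (p.Fiber S)) (hr : ¬ r ≤ FlatCA.fiberIdeal p q) =>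
    exists_of_not_le p q r hr
  let T : Finset (Ideal (p.Fiber S)) :=
    hfin.toFinset.filter fun r => ¬ r ≤ FlatCA.fiberIdeal p q
  refine ⟨∏ r ∈ T, g r, ?_, ?_⟩
  · rw [Ideal.IsPrime.prod_mem_iff]
    rintro ⟨r, hrT, hr⟩
    rw [Finset.mem_filter] at hrT
    exact hg1 r hrT.2 hr
  · intro r hr hrq
    have hrT : r ∈ T := by
      rw [Finset.mem_filter]
      exact ⟨hfin.mem_toFinset.mpr hr, hrq⟩
    have h1 : ((1 : p.ResidueField) ⊗ₜ[R] (∏ r ∈ T, g r) : p.Fiber S) =
        ((1 : p.ResidueField) ⊗ₜ[R] (g r)) *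
          ((1 : p.ResidueField) ⊗ₜ[R] (∏ r' ∈ T.erase r, g r')) := by
      rw [Algebra.TensorProduct.tmul_mul_tmul, one_mul, Finset.mul_prod_erase T g hrT]
    rw [h1]
    exact Ideal.mul_mem_right _ _ (hg2 r hrq)

end Groth.Agent.Helper8.FibAss
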