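import Mathlib.RingTheory.Spectrum.Prime.FreeLocus
import Mathlib.RingTheory.Spectrum.Prime.Module
import Mathlib.RingTheory.LocalRing.Module
import Mathlib.RingTheory.LocalRing.ResidueField.Ideal
import Mathlib.RingTheory.Support
import Mathlib.RingTheory.Flat.Basic
import Mathlib.RingTheory.Flat.Localization
import Mathlib.RingTheory.Nilpotent.Lemmas
import Mathlib.LinearAlgebra.TensorProduct.RightExactness
import Mathlib.LinearAlgebra.TensorProduct.Pi
import Mathlib.LinearAlgebra.FiniteDimensional.Lemmas
import Mathlib.LinearAlgebra.Dimension.Constructions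
import Mathlib.Topology.LocallyConstant.Basic

/-!
# Fibre dimension of a module on the prime spectrum

`fibDim M p = dim_{κ(p)} κ(p) ⊗ M`.  For a finite module it is upper semicontinuous, and over a
reduced ring a finitely presented module with locally constant fibre dimension is projective.
-/

set_option autoImplicit false

namespace Groth.Agent.Helper8

open TensorProduct

universe u v

variable {R : Type u} [CommRing R]

/-- If `f` acts invertibly on `S` and kills `N`, then `S ⊗ N = 0`. -/
lemma subsingleton_tensor_of_isUnit_of_smul_eq_zero (S : Type*) [CommRing S] [Algebra R S]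
    (N : Type*) [AddCommGroup N] [Module R N] (f : R) (hf : IsUnit (algebraMap R S f))
    (hN : ∀ n : N, f • n = 0) : Subsingleton (S ⊗[R] N) := by
  have h0 : ∀ z : S ⊗[R] N, z = 0 := by
    intro z
    induction z using TensorProduct.induction_on with
    | zero => rfl
    | tmul s n =>
      obtain ⟨u, hu⟩ := hf
      have : s = f • (s * ↑u⁻¹) := by
        rw [Algebra.smul_def, ← hu, mul_comm s, ← mul_assoc, Units.mul_inv, one_mul]
      rw [this, smul_tmul, hN, tmul_zero]
    | add a b ha hb => rw [ha, hb, add_zero]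
  exact ⟨fun a b => (h0 a).trans (h0 b).symm⟩

section

variable (M : Type v) [AddCommGroup M] [Module R M]

/-- The dimension of the fibre of `M` at the prime `p`. -/
noncomputable def fibDim (p : PrimeSpectrum R) : ℕ :=
  Module.finrank p.asIdeal.ResidueField (p.asIdeal.ResidueField ⊗[R] M)

variable {M}

lemma surjective_baseChange_of_notMem_support [Module.Finite R M] {r : ℕ}
    (φ : (Fin r → R) →ₗ[R] M) (q : PrimeSpectrum R)
    (hq : q ∉ Module.support R (M ⧸ LinearMap.range φ)) :
    Function.Surjective (φ.baseChange q.asIdeal.ResidueField) := by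
  have hsub : Subsingleton (q.asIdeal.ResidueField ⊗[R] (M ⧸ LinearMap.range φ)) := by
    rw [Module.mem_support_iff_nontrivial_residueField_tensorProduct] at hq
    exact not_nontrivial_iff_subsingleton.mp hq
  have hex : Function.Exact (φ.lTensor q.asIdeal.ResidueField)
      ((LinearMap.range φ).mkQ.lTensor q.asIdeal.ResidueField) :=
    lTensor_exact _ (LinearMap.exact_map_mkQ_range φ) (Submodule.mkQ_surjective _)
  intro y
  rw [LinearMap.baseChange_eq_ltensor]
  exact (hex y).mp (Subsingleton.elim _ _)

lemma finrank_residueField_tensor_pi (q : PrimeSpectrum R) (r : ℕ) :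
    Module.finrank q.asIdeal.ResidueField (q.asIdeal.ResidueField ⊗[R] (Fin r → R)) = r := by
  rw [(TensorProduct.piScalarRight R q.asIdeal.ResidueField q.asIdeal.ResidueField
    (Fin r)).finrank_eq, Module.finrank_fin_fun]

lemma fibDim_le_of_notMem_support [Module.Finite R M] {r : ℕ}
    (φ : (Fin r → R) →ₗ[R] M) (q : PrimeSpectrum R)
    (hq : q ∉ Module.support R (M ⧸ LinearMap.range φ)) : fibDim M q ≤ r := by
  have h := LinearMap.finrank_le_finrank_of_surjective
    (surjective_baseChange_of_notMem_support φ q hq)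
  rw [finrank_residueField_tensor_pi] at h
  exact h

lemma exists_linearMap_notMem_support [Module.Finite R M] (p : PrimeSpectrum R) :
    ∃ φ : (Fin (fibDim M p) → R) →ₗ[R] M, p ∉ Module.support R (M ⧸ LinearMap.range φ) := by
  classical
  obtain ⟨κ, hκ⟩ : ∃ κ : Ideal R, κ = p.asIdeal := ⟨_, rfl⟩
  -- a basis of the fibre among the elements `1 ⊗ m`
  let T : Set (p.asIdeal.ResidueField ⊗[R] M) :=
    Set.range (TensorProduct.mk R p.asIdeal.ResidueField M 1)
  have hT : Submodule.span p.asIdeal.ResidueField T = ⊤ := by
    rw [eq_top_iff]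
    intro z _
    clear * -
    induction z using TensorProduct.induction_on with
    | zero => exact Submodule.zero_mem _
    | tmul s m =>
      have : s ⊗ₜ[R] m = s • ((1 : p.asIdeal.ResidueField) ⊗ₜ[R] m) := by
        rw [smul_tmul', smul_eq_mul, mul_one]
      rw [this]
      exact Submodule.smul_mem _ _ (Submodule.subset_span ⟨m, rfl⟩)
    | add a b ha hb => exact Submodule.add_mem _ ha hb
  obtain ⟨b, hbT, hbspan, hbli⟩ := exists_linearIndependent p.asIdeal.ResidueField T
  rw [hT] at hbspan
  have hbfin : b.Finite := hbli.setFinite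
  letI : Fintype b := hbfin.fintype
  let B : Module.Basis b p.asIdeal.ResidueField (p.asIdeal.ResidueField ⊗[R] M) :=
    Module.Basis.mk hbli (by rw [Subtype.range_coe]; exact hbspan.ge)
  have hcard : Fintype.card b = fibDim M p := (Module.finrank_eq_card_basis B).symm
  let e : b ≃ Fin (fibDim M p) := Fintype.equivFinOfCardEq hcard
  have hch : ∀ i : Fin (fibDim M p), ∃ m : M,
      (1 : p.asIdeal.ResidueField) ⊗ₜ[R] m = ((e.symm i : b) : p.asIdeal.ResidueField ⊗[R] M) :=
    fun i => hbT (e.symm i).2
  choose f hf using hch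
  let φ : (Fin (fibDim M p) → R) →ₗ[R] M := Fintype.linearCombination R f
  refine ⟨φ, ?_⟩
  -- the base change of φ is surjective
  have hsurj : Function.Surjective (φ.baseChange p.asIdeal.ResidueField) := by
    rw [← LinearMap.range_eq_top, eq_top_iff, ← hbspan, Submodule.span_le]
    intro v hv
    refine ⟨(1 : p.asIdeal.ResidueField) ⊗ₜ[R] (Pi.single (e ⟨v, hv⟩) (1 : R)), ?_⟩
    rw [LinearMap.baseChange_tmul]
    have : φ (Pi.single (e ⟨v, hv⟩) (1 : R)) = f (e ⟨v, hv⟩) := by
      simp [φ, Fintype.linearCombination_apply_single]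
    rw [this, hf, Equiv.symm_apply_apply]
  -- hence the fibre of the cokernel vanishes
  rw [Module.mem_support_iff_nontrivial_residueField_tensorProduct, not_nontrivial_iff_subsingleton]
  have hzero : ((LinearMap.range φ).mkQ.baseChange p.asIdeal.ResidueField) ∘ₗ
      (φ.baseChange p.asIdeal.ResidueField) = 0 := by
    rw [← LinearMap.baseChange_comp]
    have : (LinearMap.range φ).mkQ ∘ₗ φ = 0 := by
      apply LinearMap.ext
      intro x
      simp
    rw [this, LinearMap.baseChange_zero]
  have hsurj2 : Function.Surjective ((LinearMap.range φ).mkQ.baseChange p.asIdeal.ResidueField) := by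
    rw [LinearMap.baseChange_eq_ltensor]
    exact LinearMap.lTensor_surjective _ (Submodule.mkQ_surjective _)
  have h0 : ∀ z : p.asIdeal.ResidueField ⊗[R] (M ⧸ LinearMap.range φ), z = 0 := by
    intro z
    obtain ⟨y, rfl⟩ := hsurj2 z
    obtain ⟨x, rfl⟩ := hsurj y
    exact LinearMap.congr_fun hzero x
  exact ⟨fun a c => (h0 a).trans (h0 c).symm⟩

/-- Upper semicontinuity of the fibre dimension of a finite module. -/
theorem exists_isOpen_fibDim_le [Module.Finite R M] (p : PrimeSpectrum R) :
    ∃ U : Set (PrimeSpectrum R), IsOpen U ∧ p ∈ U ∧ ∀ q ∈ U, fibDim M q ≤ fibDim M p := by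
  obtain ⟨φ, hφ⟩ := exists_linearMap_notMem_support (M := M) p
  refine ⟨(Module.support R (M ⧸ LinearMap.range φ))ᶜ, ?_, hφ, ?_⟩
  · exact (Module.isClosed_support).isOpen_compl
  · intro q hq
    exact fibDim_le_of_notMem_support φ q hq

lemma coord_mem_of_mem_ker [Module.Finite R M] {r : ℕ}
    (φ : (Fin r → R) →ₗ[R] M) (q : PrimeSpectrum R)
    (hq : q ∉ Module.support R (M ⧸ LinearMap.range φ)) (hdim : fibDim M q = r)
    (x : Fin r → R) (hx : φ x = 0) (i : Fin r) : x i ∈ q.asIdeal := by
  have hsurj := surjective_baseChange_of_notMem_support φ q hq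
  have hfin : Module.finrank q.asIdeal.ResidueField (q.asIdeal.ResidueField ⊗[R] (Fin r → R))
      = Module.finrank q.asIdeal.ResidueField (q.asIdeal.ResidueField ⊗[R] M) := by
    rw [finrank_residueField_tensor_pi]; exact hdim.symm
  have hinj : Function.Injective (φ.baseChange q.asIdeal.ResidueField) :=
    (LinearMap.injective_iff_surjective_of_finrank_eq_finrank hfin).mpr hsurj
  have h1 : (1 : q.asIdeal.ResidueField) ⊗ₜ[R] x = 0 := by
    apply hinj
    rw [LinearMap.baseChange_tmul, hx, tmul_zero, map_zero]
  have h2 := congrArg (fun z => TensorProduct.piScalarRight R q.asIdeal.ResidueField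
    q.asIdeal.ResidueField (Fin r) z i) h1
  simp only [TensorProduct.piScalarRight_apply, TensorProduct.piScalarRightHom_tmul, map_zero,
    Pi.zero_apply] at h2
  rw [Algebra.smul_def, mul_one] at h2
  exact Ideal.algebraMap_residueField_eq_zero.mp h2

/-- Over a reduced ring, a finitely presented module with locally constant fibre dimension is
projective. -/
theorem projective_of_isLocallyConstant_fibDim [IsReduced R] [Module.FinitePresentation R M]
    (h : IsLocallyConstant (fibDim (R := R) M)) : Module.Projective R M := by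
  rw [← Module.freeLocus_eq_univ_iff, Set.eq_univ_iff_forall]
  intro p
  obtain ⟨φ, hφ⟩ := exists_linearMap_notMem_support (M := M) p
  -- the good open set
  have hU1 : IsOpen (Module.support R (M ⧸ LinearMap.range φ))ᶜ :=
    (Module.isClosed_support).isOpen_compl
  have hU2 : IsOpen {q | fibDim M q = fibDim M p} := h.isOpen_fiber _
  obtain ⟨V, ⟨f, rfl⟩, hpV, hVW⟩ :=
    PrimeSpectrum.isTopologicalBasis_basic_opens.exists_subset_of_mem_open
      (show p ∈ (Module.support R (M ⧸ LinearMap.range φ))ᶜ ∩ {q | fibDim M q = fibDim M p} from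
        ⟨hφ, rfl⟩) (hU1.inter hU2)
  have hfp : f ∉ p.asIdeal := hpV
  -- f kills the kernel
  have hker : ∀ k : LinearMap.ker φ, f • k = 0 := by
    intro k
    apply Subtype.ext
    funext i
    show f * (k : Fin (fibDim M p) → R) i = 0
    apply IsReduced.eq_zero
    rw [nilpotent_iff_mem_prime]
    intro J hJ
    by_cases hfJ : f ∈ J
    · exact J.mul_mem_right _ hfJ
    · have hq : (⟨J, hJ⟩ : PrimeSpectrum R) ∈
          (Module.support R (M ⧸ LinearMap.range φ))ᶜ ∩ {q | fibDim M q = fibDim M p} :=
        hVW hfJ
      exact J.mul_mem_left _ (coord_mem_of_mem_ker φ ⟨J, hJ⟩ hq.1 hq.2 _ k.2 i)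
  -- an element outside p killing the cokernel
  obtain ⟨g, hgann, hgp⟩ : ∃ g ∈ Module.annihilator R (M ⧸ LinearMap.range φ), g ∉ p.asIdeal := by
    have := (not_congr (Module.mem_support_iff_of_finite
      (M := M ⧸ LinearMap.range φ) (p := p))).mp hφ
    exact SetLike.not_le_iff_exists.mp this
  -- now localize
  rw [Module.mem_freeLocus_iff_tensor p (Localization.AtPrime p.asIdeal)]
  have hsubK : Subsingleton (Localization.AtPrime p.asIdeal ⊗[R] (LinearMap.ker φ)) :=
    subsingleton_tensor_of_isUnit_of_smul_eq_zero _ _ f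
      (IsLocalization.map_units (M := p.asIdeal.primeCompl) _ ⟨f, hfp⟩) hker
  have hsubQ : Subsingleton (Localization.AtPrime p.asIdeal ⊗[R] (M ⧸ LinearMap.range φ)) :=
    subsingleton_tensor_of_isUnit_of_smul_eq_zero _ _ g
      (IsLocalization.map_units (M := p.asIdeal.primeCompl) _ ⟨g, hgp⟩)
      (fun n => Module.mem_annihilator.mp hgann n)
  have hinj : Function.Injective (φ.baseChange (Localization.AtPrime p.asIdeal)) := by
    rw [injective_iff_map_eq_zero]
    intro y hy
    have hex := Module.Flat.lTensor_exact (Localization.AtPrime p.asIdeal)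
      (LinearMap.exact_subtype_ker_map φ)
    rw [LinearMap.baseChange_eq_ltensor] at hy
    obtain ⟨z, rfl⟩ := (hex y).mp hy
    rw [Subsingleton.elim z 0, map_zero]
  have hsurj : Function.Surjective (φ.baseChange (Localization.AtPrime p.asIdeal)) := by
    have hex : Function.Exact (φ.lTensor (Localization.AtPrime p.asIdeal))
        ((LinearMap.range φ).mkQ.lTensor (Localization.AtPrime p.asIdeal)) :=
      lTensor_exact _ (LinearMap.exact_map_mkQ_range φ) (Submodule.mkQ_surjective _)
    intro y
    rw [LinearMap.baseChange_eq_ltensor]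
    exact (hex y).mp (Subsingleton.elim _ _)
  exact Module.Free.of_equiv (LinearEquiv.ofBijective _ ⟨hinj, hsurj⟩)

end

end Groth.Agent.Helper8
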