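import Mathlib
import Groth.Prelude
import Groth.Agent.Lib.Helper8.DT10

/-!
# Finiteness of the ideal transform: formal properties
-/

set_option autoImplicit false
universe u

namespace Groth.Agent.Helper8.FinH1

open LocCoh Groth.Agent.Helper8.DT CategoryTheory

variable {A : Type u} [CommRing A] [IsNoetherianRing A] (I : Ideal A)

/-- The ideal transform `D_I(M)` is a finite module. -/
def FinDT (M : Type u) [AddCommGroup M] [Module A M] : Prop := Module.Finite A (DT I M)

section

variable {M M' M'' : Type u} [AddCommGroup M] [Module A M] [AddCommGroup M'] [Module A M']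
  [AddCommGroup M''] [Module A M'']

theorem finite_H_one (h : FinDT I M) : Module.Finite A (H I 1 M) := by
  obtain ⟨e⟩ := nonempty_coker_toDT_equiv I M
  haveI : Module.Finite A (DT I M) := h
  exact Module.Finite.equiv e

theorem finDT_of_injective (f : M' →ₗ[A] M) (hf : Function.Injective f) (h : FinDT I M) :
    FinDT I M' := by
  haveI : Module.Finite A (DT I M) := h
  haveI : IsNoetherian A (DT I M) := isNoetherian_of_isNoetherianRing_of_finite A _
  exact Module.Finite.of_injective ((idealTransform I).map (ModuleCat.ofHom f)).hom
    (DT_map_injective I f hf)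

theorem finDT_of_linearEquiv (e : M' ≃ₗ[A] M) (h : FinDT I M) : FinDT I M' :=
  finDT_of_injective I e.toLinearMap e.injective h

theorem finDT_of_exact (f : M' →ₗ[A] M) (g : M →ₗ[A] M'') (hf : Function.Injective f)
    (hg : Function.Surjective g) (hfg : Function.Exact f g) (h' : FinDT I M')
    (h'' : FinDT I M'') : FinDT I M := by
  haveI : Module.Finite A (DT I M') := h'
  haveI : Module.Finite A (DT I M'') := h''
  haveI : IsNoetherian A (DT I M'') := isNoetherian_of_isNoetherianRing_of_finite A _
  have hgf : g ∘ₗ f = 0 := hfg.linearMap_comp_eq_zero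
  have hSE : (ModuleCat.shortComplexOfCompEqZero f g hgf).ShortExact :=
    ModuleCat.shortComplex_shortExact _ hfg hf hg
  let Df := ((idealTransform I).map (ModuleCat.ofHom f)).hom
  let Dg := ((idealTransform I).map (ModuleCat.ofHom g)).hom
  have hex : Function.Exact Df Dg := by
    intro y
    constructor
    · intro hy
      obtain ⟨x, hx⟩ := DT_exact I hSE y hy
      exact ⟨x, hx⟩
    · rintro ⟨x, rfl⟩
      have h1 : (idealTransform I).map (ModuleCat.ofHom f) ≫
          (idealTransform I).map (ModuleCat.ofHom g) = 0 := by
        rw [← Functor.map_comp, ← ModuleCat.ofHom_comp, hgf]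
        exact (idealTransform I).map_zero _ _
      exact congrArg (fun φ => φ.hom x) h1
  show Module.Finite A (DT I M)
  haveI : Module.Finite A (LinearMap.range Dg) := Module.IsNoetherian.finite A _
  exact Module.Finite.of_exact (f := Df) (g := Dg.rangeRestrict) (by
    intro y
    rw [← hex y]
    constructor
    · intro h
      exact congrArg Subtype.val h
    · intro h
      exact Subtype.ext h) (LinearMap.surjective_rangeRestrict _)

theorem finDT_of_isPowerTorsion (hT : IsPowerTorsion I M) : FinDT I M := by
  haveI := subsingleton_DT_of_isPowerTorsion I M hT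
  show Module.Finite A (DT I M)
  infer_instance

end

end Groth.Agent.Helper8.FinH1
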