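import Mathlib
import Groth.Prelude
import Groth.Agent.Lib.Helper8.FinH1_1

/-!
# Finiteness of the ideal transform: dévissage to the associated primes
-/

set_option autoImplicit false
universe u

namespace Groth.Agent.Helper8.FinH1

open LocCoh Groth.Agent.Helper8.DT CategoryTheory

variable {A : Type u} [CommRing A] [IsNoetherianRing A] (I : Ideal A)

/-- A prime is good if it contains `I` or the ideal transform of `A ⧸ p` is finite. -/
def Good (p : Ideal A) : Prop := I ≤ p ∨ FinDT I (A ⧸ p)

/-- `p`-saturated submodules. -/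
def Sat (p : Ideal A) {M : Type u} [AddCommGroup M] [Module A M] (N : Submodule A M) : Prop :=
  ∀ s : A, s ∉ p → ∀ m : M, s • m ∈ N → m ∈ N

section step

variable (p : Ideal A) [hp : p.IsPrime] (Q : Type u) [AddCommGroup Q] [Module A Q]
  [Module.Finite A Q]

/-- The saturation of a submodule. -/
def satOf (C : Submodule A Q) : Submodule A Q where
  carrier := {q | ∃ s : A, s ∉ p ∧ s • q ∈ C}
  add_mem' := by
    rintro a b ⟨s, hs, hsa⟩ ⟨t, ht, htb⟩
    refine ⟨s * t, hp.mul_notMem hs ht, ?_⟩
    rw [smul_add]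
    refine C.add_mem ?_ ?_
    · rw [mul_comm, mul_smul]; exact C.smul_mem t hsa
    · rw [mul_smul]; exact C.smul_mem s htb
  zero_mem' := ⟨1, fun h => hp.ne_top ((Ideal.eq_top_iff_one p).mpr h), by simp⟩
  smul_mem' := by
    rintro c a ⟨s, hs, hsa⟩
    exact ⟨s, hs, by rw [smul_comm]; exact C.smul_mem c hsa⟩

variable {Q} in
theorem mem_satOf (C : Submodule A Q) (q : Q) : q ∈ satOf p Q C ↔ ∃ s : A, s ∉ p ∧ s • q ∈ C :=
  Iff.rfl

theorem le_satOf (C : Submodule A Q) : C ≤ satOf p Q C := fun q hq =>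
  ⟨1, fun h => hp.ne_top ((Ideal.eq_top_iff_one p).mpr h), by rwa [one_smul]⟩

theorem sat_satOf (C : Submodule A Q) : Sat p (satOf p Q C) := by
  rintro t ht q ⟨s, hs, hsq⟩
  exact ⟨s * t, hp.mul_notMem hs ht, by rwa [mul_smul]⟩

/-- A uniform denominator. -/
theorem exists_uniform (C : Submodule A Q) :
    ∃ s : A, s ∉ p ∧ ∀ q ∈ satOf p Q C, s • q ∈ C := by
  classical
  haveI : IsNoetherian A Q := isNoetherian_of_isNoetherianRing_of_finite A Q
  obtain ⟨T, hT⟩ := (IsNoetherian.noetherian (satOf p Q C))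
  have hTmem : ∀ t ∈ T, t ∈ satOf p Q C := fun t ht => hT ▸ Submodule.subset_span ht
  choose! σ hσ hσC using hTmem
  refine ⟨∏ t ∈ T, σ t, ?_, ?_⟩
  · intro h
    obtain ⟨t, ht, hmem⟩ := (hp.prod_mem_iff).mp h
    exact hσ t ht hmem
  · intro q hq
    rw [← hT] at hq
    refine Submodule.span_induction ?_ ?_ ?_ ?_ hq
    · intro t ht
      rw [← Finset.mul_prod_erase T σ ht, mul_comm, mul_smul]
      exact C.smul_mem _ (hσC t ht)
    · rw [smul_zero]; exact C.zero_mem
    · intro x y _ _ hx hy
      rw [smul_add]; exact C.add_mem hx hy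
    · intro a x _ hx
      rw [smul_comm]; exact C.smul_mem a hx

variable {Q} in
theorem exists_step [Nontrivial Q] (hsat : Sat p (⊥ : Submodule A Q))
    (hnil : ∃ n : ℕ, p ^ n ≤ Module.annihilator A Q) (hfin : FinDT I (A ⧸ p)) :
    ∃ C' : Submodule A Q, C' ≠ ⊥ ∧ Sat p C' ∧ FinDT I C' := by
  classical
  obtain ⟨n, hn⟩ := hnil
  obtain ⟨x, hx⟩ := exists_ne (0 : Q)
  -- an element killed by `p`
  have hex : ∃ k : ℕ, ∀ a ∈ p ^ k, a • x = 0 :=
    ⟨n, fun a ha => Module.mem_annihilator.mp (hn ha) x⟩
  have hk0 : Nat.find hex ≠ 0 := by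
    intro h0
    have h1 := Nat.find_spec hex
    rw [h0, pow_zero] at h1
    exact hx (by simpa using h1 1 (by simp))
  obtain ⟨j, hj⟩ := Nat.exists_eq_succ_of_ne_zero hk0
  have hmin := Nat.find_min hex (m := j) (by omega)
  push Not at hmin
  obtain ⟨a, ha, hax⟩ := hmin
  set y := a • x with hy
  have hpy : ∀ b ∈ p, b • y = 0 := by
    intro b hb
    have h1 := Nat.find_spec hex
    rw [hj, pow_succ'] at h1
    rw [hy, ← mul_smul]
    exact h1 _ (Ideal.mul_mem_mul hb ha)
  -- the annihilator of `y` is `p`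
  have hker : LinearMap.ker (LinearMap.toSpanSingleton A Q y) = p := by
    apply le_antisymm
    · intro b hb
      by_contra hbp
      have h1 : b • y = 0 := hb
      have h2 := hsat b hbp y (by rw [h1]; exact Submodule.zero_mem _)
      exact hax ((Submodule.mem_bot A).mp h2)
    · intro b hb
      exact hpy b hb
  let C : Submodule A Q := LinearMap.range (LinearMap.toSpanSingleton A Q y)
  have hyC : y ∈ C := ⟨1, by simp⟩
  have hfinC : FinDT I C := by
    let e : (A ⧸ p) ≃ₗ[A] C :=
      (Submodule.quotEquivOfEq _ _ hker.symm).trans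
        (LinearMap.quotKerEquivRange (LinearMap.toSpanSingleton A Q y))
    exact finDT_of_linearEquiv I e.symm hfin
  obtain ⟨s, hs, hsC⟩ := exists_uniform p Q C
  refine ⟨satOf p Q C, ?_, sat_satOf p Q C, ?_⟩
  · intro h
    have h1 : y ∈ satOf p Q C := le_satOf p Q C hyC
    rw [h] at h1
    exact hax ((Submodule.mem_bot A).mp h1)
  · let μ : satOf p Q C →ₗ[A] C :=
      { toFun := fun q => ⟨s • (q : Q), hsC q q.2⟩
        map_add' := fun a b => Subtype.ext (by simp [smul_add])
        map_smul' := fun c a => Subtype.ext (by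
          show s • ((c • a : satOf p Q C) : Q) = c • (s • (a : Q))
          rw [Submodule.coe_smul, smul_comm]) }
    have hμ : Function.Injective μ := by
      rw [injective_iff_map_eq_zero]
      intro q hq
      have h1 : s • (q : Q) = 0 := congrArg Subtype.val hq
      have h2 := hsat s hs q (by rw [h1]; exact Submodule.zero_mem _)
      exact Subtype.ext ((Submodule.mem_bot A).mp h2)
    exact finDT_of_injective I μ hμ hfinC

end step

section coprimary

variable (p : Ideal A) [hp : p.IsPrime] (M : Type u) [AddCommGroup M] [Module A M]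
  [Module.Finite A M]

/-- The coprimary case. -/
theorem finDT_coprimary (hsat : Sat p (⊥ : Submodule A M))
    (hnil : ∃ n : ℕ, p ^ n ≤ Module.annihilator A M) (hgood : Good I p) : FinDT I M := by
  rcases hgood with hIp | hfin
  · apply finDT_of_isPowerTorsion
    obtain ⟨n, hn⟩ := hnil
    intro x
    exact ⟨n, fun a ha => Module.mem_annihilator.mp (hn (Ideal.pow_right_mono hIp n ha)) x⟩
  · haveI : IsNoetherian A M := isNoetherian_of_isNoetherianRing_of_finite A M
    let 𝒮 : Set (Submodule A M) := {N | Sat p N ∧ FinDT I N}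
    have hbot : (⊥ : Submodule A M) ∈ 𝒮 :=
      ⟨hsat, finDT_of_isPowerTorsion I (fun x => ⟨0, fun a _ => Subsingleton.elim _ _⟩)⟩
    obtain ⟨N₀, hN₀, hmax⟩ := set_has_maximal_iff_noetherian.mpr ‹_› 𝒮 ⟨⊥, hbot⟩
    by_cases htop : N₀ = ⊤
    · have h1 : FinDT I (⊤ : Submodule A M) := htop ▸ hN₀.2
      exact finDT_of_linearEquiv I (Submodule.topEquiv (R := A) (M := M)).symm h1
    · exfalso
      haveI : Nontrivial (M ⧸ N₀) :=
        Submodule.Quotient.nontrivial_iff.mpr htop
      have hsatQ : Sat p (⊥ : Submodule A (M ⧸ N₀)) := by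
        intro s hs q hq
        obtain ⟨m, rfl⟩ := Submodule.Quotient.mk_surjective _ q
        rw [Submodule.mem_bot, ← Submodule.Quotient.mk_smul, Submodule.Quotient.mk_eq_zero] at hq
        rw [Submodule.mem_bot, Submodule.Quotient.mk_eq_zero]
        exact hN₀.1 s hs m hq
      have hnilQ : ∃ n : ℕ, p ^ n ≤ Module.annihilator A (M ⧸ N₀) := by
        obtain ⟨n, hn⟩ := hnil
        refine ⟨n, hn.trans ?_⟩
        intro a ha
        rw [Module.mem_annihilator] at ha ⊢
        intro q
        obtain ⟨m, rfl⟩ := Submodule.Quotient.mk_surjective _ q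
        rw [← Submodule.Quotient.mk_smul, ha m, Submodule.Quotient.mk_zero]
      obtain ⟨C', hC'0, hC'sat, hC'fin⟩ := exists_step I p hsatQ hnilQ hfin
      let N₁ := C'.comap N₀.mkQ
      have hle : N₀ ≤ N₁ := fun m hm => by
        show N₀.mkQ m ∈ C'
        rw [Submodule.mkQ_apply, (Submodule.Quotient.mk_eq_zero N₀).mpr hm]
        exact C'.zero_mem
      have hN₁ : N₁ ∈ 𝒮 := by
        refine ⟨fun s hs m hm => hC'sat s hs (N₀.mkQ m) (by rw [← map_smul]; exact hm), ?_⟩
        let f : N₀ →ₗ[A] N₁ := Submodule.inclusion hle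
        let g : N₁ →ₗ[A] C' := N₀.mkQ.restrict (p := N₁) (q := C') (fun m hm => hm)
        refine finDT_of_exact I f g (Submodule.inclusion_injective hle) ?_ ?_ hN₀.2 hC'fin
        · rintro ⟨q, hq⟩
          obtain ⟨m, rfl⟩ := Submodule.Quotient.mk_surjective _ q
          exact ⟨⟨m, hq⟩, rfl⟩
        · intro m
          constructor
          · intro hm
            have h1 : N₀.mkQ (m : M) = 0 := congrArg Subtype.val hm
            rw [Submodule.mkQ_apply, Submodule.Quotient.mk_eq_zero] at h1
            exact ⟨⟨m, h1⟩, Subtype.ext rfl⟩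
          · rintro ⟨n, rfl⟩
            apply Subtype.ext
            show N₀.mkQ (n : M) = 0
            rw [Submodule.mkQ_apply, Submodule.Quotient.mk_eq_zero]
            exact n.2
      have hlt : N₀ < N₁ := by
        refine lt_of_le_of_ne hle ?_
        intro heq
        apply hC'0
        rw [eq_bot_iff]
        intro q hq
        obtain ⟨m, rfl⟩ := Submodule.Quotient.mk_surjective _ q
        have h1 : m ∈ N₁ := hq
        rw [← heq] at h1
        rw [Submodule.mem_bot, Submodule.Quotient.mk_eq_zero]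
        exact h1
      exact hmax N₁ hN₁ hlt

end coprimary

section general

variable (M : Type u) [AddCommGroup M] [Module A M] [Module.Finite A M]

theorem finDT_quotient_primary (Q : Submodule A M) (hQ : Q.IsPrimary)
    (hgood : Good I (Q.colon Set.univ).radical) : FinDT I (M ⧸ Q) := by
  haveI hp : ((Q.colon Set.univ).radical).IsPrime := hQ.isPrime_radical_colon
  refine finDT_coprimary I (Q.colon Set.univ).radical (M ⧸ Q) ?_ ?_ hgood
  · intro s hs q hq
    obtain ⟨m, rfl⟩ := Submodule.Quotient.mk_surjective _ q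
    rw [Submodule.mem_bot, ← Submodule.Quotient.mk_smul, Submodule.Quotient.mk_eq_zero] at hq
    rw [Submodule.mem_bot, Submodule.Quotient.mk_eq_zero]
    exact (hQ.mem_or_mem hq).resolve_right hs
  · obtain ⟨n, hn⟩ := Ideal.exists_radical_pow_le_of_fg (Q.colon Set.univ)
      (IsNoetherian.noetherian _)
    refine ⟨n, hn.trans ?_⟩
    intro a ha
    rw [Module.mem_annihilator]
    intro q
    obtain ⟨m, rfl⟩ := Submodule.Quotient.mk_surjective _ q
    rw [← Submodule.Quotient.mk_smul, Submodule.Quotient.mk_eq_zero]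
    exact Submodule.mem_colon.mp ha m (Set.mem_univ m)

omit [Module.Finite A M] in
theorem finDT_prod (N : Type u) [AddCommGroup N] [Module A N] (hM : FinDT I M)
    (hN : FinDT I N) : FinDT I (M × N) :=
  finDT_of_exact I (LinearMap.inl A M N) (LinearMap.snd A M N) LinearMap.inl_injective
    LinearMap.snd_surjective Function.Exact.inl_snd hM hN

omit [Module.Finite A M] in
theorem finDT_quotient_finsetInf (t : Finset (Submodule A M))
    (h : ∀ Q ∈ t, FinDT I (M ⧸ Q)) : FinDT I (M ⧸ t.inf id) := by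
  classical
  induction t using Finset.induction_on with
  | empty =>
    rw [Finset.inf_empty]
    apply finDT_of_isPowerTorsion
    intro x
    haveI : Subsingleton (M ⧸ (⊤ : Submodule A M)) :=
      Submodule.Quotient.subsingleton_iff.mpr rfl
    exact ⟨0, fun a _ => Subsingleton.elim _ _⟩
  | insert Q t hQt ih =>
    rw [Finset.inf_insert, id]
    have h1 := h Q (Finset.mem_insert_self Q t)
    have h2 := ih (fun Q' hQ' => h Q' (Finset.mem_insert_of_mem hQ'))
    let φ : M →ₗ[A] (M ⧸ Q) × (M ⧸ t.inf id) := LinearMap.prod Q.mkQ (t.inf id).mkQ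
    have hker : Q ⊓ t.inf id ≤ LinearMap.ker φ := by
      intro m hm
      rw [LinearMap.mem_ker]
      show ((Q.mkQ m, (t.inf id).mkQ m) : (M ⧸ Q) × (M ⧸ t.inf id)) = 0
      rw [Prod.mk_eq_zero, Submodule.mkQ_apply,
        Submodule.mkQ_apply, Submodule.Quotient.mk_eq_zero, Submodule.Quotient.mk_eq_zero]
      exact hm
    refine finDT_of_injective I (Submodule.liftQ _ φ hker) ?_ (finDT_prod I _ _ h1 h2)
    rw [← LinearMap.ker_eq_bot, Submodule.ker_liftQ, eq_bot_iff]
    rintro _ ⟨m, hm, rfl⟩
    rw [Submodule.mem_bot, Submodule.mkQ_apply, Submodule.Quotient.mk_eq_zero]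
    have hm' : ((Q.mkQ m, (t.inf id).mkQ m) : (M ⧸ Q) × (M ⧸ t.inf id)) = 0 := hm
    rw [Prod.mk_eq_zero, Submodule.mkQ_apply,
      Submodule.mkQ_apply, Submodule.Quotient.mk_eq_zero, Submodule.Quotient.mk_eq_zero] at hm'
    exact hm'

/-- **Dévissage**: if all associated primes are good then the ideal transform is finite. -/
theorem finDT_of_forall_good (h : ∀ p ∈ associatedPrimes A M, Good I p) : FinDT I M := by
  haveI : IsNoetherian A M := isNoetherian_of_isNoetherianRing_of_finite A M
  obtain ⟨t, ht⟩ := Submodule.IsLasker.exists_isMinimalPrimaryDecomposition (Submodule.isLasker A M) ⊥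
  have h1 : FinDT I (M ⧸ t.inf id) := by
    apply finDT_quotient_finsetInf
    intro Q hQ
    exact finDT_quotient_primary I M Q (ht.primary hQ) (h _ (ht.mem_associatedPrimes hQ))
  rw [ht.inf_eq] at h1
  exact finDT_of_linearEquiv I (Submodule.quotEquivOfEqBot ⊥ rfl).symm h1

end general

end Groth.Agent.Helper8.FinH1
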