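import Mathlib
import Groth.Prelude
import Groth.Agent.S0555
import Groth.Agent.Lib.Helper8.Serre4
import Groth.Agent.Lib.Helper8.Depth31

/-!
# The ring `A^(1)` for universally catenary domains with finite normalization
-/

set_option autoImplicit false

universe u

namespace Groth.Agent.Helper8.HOH

open IsLocalRing

section hull

variable (A : Type u) [CommRing A] [IsDomain A]

/-- `A^(1)` as a subalgebra of the fraction field. -/
def hull : Subalgebra A (FractionRing A) where
  carrier := EGA4.heightOneHull A
  mul_mem' := by
    intro x y hx hy p _ hp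
    obtain ⟨s, hs, a, ha⟩ := hx p hp
    obtain ⟨t, ht, b, hb⟩ := hy p hp
    refine ⟨s * t, ‹p.IsPrime›.mul_notMem hs ht, a * b, ?_⟩
    rw [map_mul, map_mul, ha, hb]
    ring
  one_mem' := by
    intro p _ hp
    exact ⟨1, fun h => ‹p.IsPrime›.ne_top ((Ideal.eq_top_iff_one p).mpr h), 1, by simp⟩
  add_mem' := by
    intro x y hx hy p _ hp
    obtain ⟨s, hs, a, ha⟩ := hx p hp
    obtain ⟨t, ht, b, hb⟩ := hy p hp
    refine ⟨s * t, ‹p.IsPrime›.mul_notMem hs ht, a * t + s * b, ?_⟩
    rw [map_add, map_mul, map_mul, map_mul, ha, hb]
    ring
  zero_mem' := by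
    intro p _ hp
    exact ⟨1, fun h => ‹p.IsPrime›.ne_top ((Ideal.eq_top_iff_one p).mpr h), 0, by simp⟩
  algebraMap_mem' := by
    intro r p _ hp
    exact ⟨1, fun h => ‹p.IsPrime›.ne_top ((Ideal.eq_top_iff_one p).mpr h), r, by simp⟩

theorem coe_hull : (hull A : Set (FractionRing A)) = EGA4.heightOneHull A := rfl

end hull

section main

variable (A : Type u) [CommRing A] [IsDomain A] [IsNoetherianRing A]

/-- Height-one primes of the normalization contract to height-one primes. -/
theorem height_comap_eq_one (hA : CAlg.IsUniversallyCatenary A)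
    (hint : Module.Finite A (integralClosure A (FractionRing A)))
    (P : Ideal (integralClosure A (FractionRing A))) [P.IsPrime] (hP : P.height = 1) :
    (P.comap (algebraMap A (integralClosure A (FractionRing A)))).height = 1 := by
  haveI := hint
  haveI : Algebra.FiniteType A (integralClosure A (FractionRing A)) := inferInstance
  haveI : (P.comap (algebraMap A (integralClosure A (FractionRing A)))).IsPrime :=
    Ideal.comap_isPrime _ _
  haveI : P.LiesOver (P.comap (algebraMap A (integralClosure A (FractionRing A)))) := ⟨rfl⟩
  have h := Groth.Agent.S0555.result A hA (integralClosure A (FractionRing A))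
    (P.comap (algebraMap A (integralClosure A (FractionRing A)))) P
  haveI : Algebra.IsIntegral A (integralClosure A (FractionRing A)) :=
    Algebra.IsIntegral.of_finite A _
  haveI : Algebra.IsAlgebraic A (integralClosure A (FractionRing A)) :=
    Algebra.IsIntegral.isAlgebraic
  haveI : Algebra.IsIntegral (A ⧸ P.comap (algebraMap A (integralClosure A (FractionRing A))))
      (integralClosure A (FractionRing A) ⧸ P) := Ideal.Quotient.algebra_isIntegral_of_liesOver _ _
  haveI : Algebra.IsAlgebraic (A ⧸ P.comap (algebraMap A (integralClosure A (FractionRing A))))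
      (integralClosure A (FractionRing A) ⧸ P) := Algebra.IsIntegral.isAlgebraic
  rw [trdeg_eq_zero, trdeg_eq_zero, add_zero, add_zero, Cardinal.ofENat_inj] at h
  rw [← h, hP]

/-- `A^(1)` is contained in the normalization. -/
theorem hull_le_integralClosure (hA : CAlg.IsUniversallyCatenary A)
    (hint : Module.Finite A (integralClosure A (FractionRing A))) :
    hull A ≤ integralClosure A (FractionRing A) := by
  haveI := hint
  haveI : IsNoetherianRing (integralClosure A (FractionRing A)) := IsNoetherianRing.of_finite A _
  haveI : IsIntegrallyClosed (integralClosure A (FractionRing A)) :=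
    integralClosure.isIntegrallyClosedOfFiniteExtension (FractionRing A)
  have hnor : ∀ (p : Ideal (integralClosure A (FractionRing A))) [p.IsPrime],
      IsDomain (Localization.AtPrime p) ∧ IsIntegrallyClosed (Localization.AtPrime p) := by
    intro p _
    exact ⟨IsLocalization.isDomain_localization p.primeCompl_le_nonZeroDivisors,
      isIntegrallyClosed_of_isLocalization _ p.primeCompl p.primeCompl_le_nonZeroDivisors⟩
  have hS2 := Groth.Agent.Helper8.Serre.hasSk_two_of_normal _ hnor
  have hass := (Groth.Agent.Helper8.Depth.hasSk_two_iff_associatedPrimes_height_one _).mp hS2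
  intro x hx
  obtain ⟨a, ⟨b, hb⟩, rfl⟩ := IsLocalization.exists_mk'_eq (nonZeroDivisors A) x
  have hb0 : b ≠ 0 := nonZeroDivisors.ne_zero hb
  have hinj : Function.Injective (algebraMap A (integralClosure A (FractionRing A))) :=
    FaithfulSMul.algebraMap_injective A _
  have hb'0 : algebraMap A (integralClosure A (FractionRing A)) b ≠ 0 := by
    rw [Ne, map_eq_zero_iff _ hinj]
    exact hb0
  have hmem : algebraMap A (integralClosure A (FractionRing A)) a ∈
      Ideal.span {algebraMap A (integralClosure A (FractionRing A)) b} := by
    apply Groth.Agent.Helper8.Serre.mem_span_singleton_of_forall_associatedPrimes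
    intro P hP
    haveI : P.IsPrime := hP.isPrime
    have hP1 : P.height = 1 := hass _ hb'0 P hP
    have hp1 := height_comap_eq_one A hA hint P hP1
    obtain ⟨s, hs, c, hc⟩ := hx (P.comap (algebraMap A (integralClosure A (FractionRing A)))) hp1
    refine ⟨algebraMap A _ s, hs, ?_⟩
    rw [Ideal.mem_span_singleton']
    refine ⟨algebraMap A _ c, ?_⟩
    rw [← map_mul, ← map_mul]
    congr 1
    apply IsFractionRing.injective A (FractionRing A)
    have h1 : IsLocalization.mk' (FractionRing A) a ⟨b, hb⟩ * algebraMap A (FractionRing A) b =
        algebraMap A (FractionRing A) a := IsLocalization.mk'_spec _ _ _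
    rw [map_mul, map_mul, hc, ← h1]
    ring
  rw [Ideal.mem_span_singleton'] at hmem
  obtain ⟨c, hc⟩ := hmem
  have hxc : IsLocalization.mk' (FractionRing A) a ⟨b, hb⟩ = (c : FractionRing A) := by
    have h1 : IsLocalization.mk' (FractionRing A) a ⟨b, hb⟩ * algebraMap A (FractionRing A) b =
        algebraMap A (FractionRing A) a := IsLocalization.mk'_spec _ _ _
    have h2 : (c : FractionRing A) * algebraMap A (FractionRing A) b =
        algebraMap A (FractionRing A) a := by
      have := congrArg (Subtype.val) hc
      simpa using this
    have hb1 : algebraMap A (FractionRing A) b ≠ 0 := by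
      rw [Ne, map_eq_zero_iff _ (IsFractionRing.injective A (FractionRing A))]
      exact hb0
    exact mul_right_cancel₀ hb1 (h1.trans h2.symm)
  rw [hxc]
  exact c.2

/-- **S2666.** -/
theorem heightOneHullFinite (hA : CAlg.IsUniversallyCatenary A)
    (hint : Module.Finite A (integralClosure A (FractionRing A))) :
    EGA4.HeightOneHullFinite A := by
  refine ⟨hull A, coe_hull A, ?_⟩
  haveI := hint
  have hle := hull_le_integralClosure A hA hint
  exact Module.Finite.of_injective (Subalgebra.inclusion hle).toLinearMap
    (Subalgebra.inclusion_injective hle)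

end main

end Groth.Agent.Helper8.HOH
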