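import Mathlib
import Groth.Prelude
import Groth.Agent.Lib.Helper8.FinH1_2
import Groth.Agent.Lib.Helper8.HOH1

/-!
# Finiteness of the ideal transform of a domain: ideals of height at least two
-/

set_option autoImplicit false
universe u

namespace Groth.Agent.Helper8.FinH1

open LocCoh Groth.Agent.Helper8.DT CategoryTheory

section domain

variable {B : Type u} [CommRing B] [IsDomain B] [IsNoetherianRing B] (J : Ideal B)

local notation "K" => FractionRing B

/-- The evaluation maps `Hom(J^n, B) → Frac B`, `φ ↦ φ(a^n)/a^n`. -/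
noncomputable def evalFrac (a : B) (ha : a ∈ J) (n : ℕ) :
    ((J ^ n : Ideal B) →ₗ[B] (ModuleCat.of B B)) →ₗ[B] K where
  toFun φ := algebraMap B K (φ ⟨a ^ n, Ideal.pow_mem_pow ha n⟩) / algebraMap B K (a ^ n)
  map_add' φ ψ := by
    rw [LinearMap.add_apply]
    change algebraMap B K (_ + _) / _ = _
    rw [map_add, add_div]
  map_smul' r φ := by
    rw [LinearMap.smul_apply, RingHom.id_apply]
    change algebraMap B K (r * _) / _ = _
    rw [map_mul, Algebra.smul_def, mul_div_assoc]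

theorem evalFrac_apply (a : B) (ha : a ∈ J) (n : ℕ)
    (φ : (J ^ n : Ideal B) →ₗ[B] (ModuleCat.of B B)) :
    evalFrac J a ha n φ =
      algebraMap B K (φ ⟨a ^ n, Ideal.pow_mem_pow ha n⟩) / algebraMap B K (a ^ n) := rfl

/-- The key identity `s • (φ(a^n)/a^n) = φ(s)`. -/
theorem mul_evalFrac (a : B) (ha : a ∈ J) (ha0 : a ≠ 0) (n : ℕ)
    (φ : (J ^ n : Ideal B) →ₗ[B] (ModuleCat.of B B)) (s : B) (hs : s ∈ J ^ n) :
    algebraMap B K s * evalFrac J a ha n φ = algebraMap B K (φ ⟨s, hs⟩) := by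
  have han : algebraMap B K (a ^ n) ≠ 0 := by
    rw [Ne, map_eq_zero_iff _ (IsFractionRing.injective B K)]
    exact pow_ne_zero n ha0
  rw [evalFrac_apply, ← mul_div_assoc, div_eq_iff han, ← map_mul, ← map_mul]
  congr 1
  have h1 : s • (⟨a ^ n, Ideal.pow_mem_pow ha n⟩ : (J ^ n : Ideal B)) =
      (a ^ n) • (⟨s, hs⟩ : (J ^ n : Ideal B)) := by
    apply Subtype.ext
    change s * a ^ n = a ^ n * s
    ring
  have h2 := congrArg φ h1
  rw [map_smul, map_smul] at h2
  change s * _ = a ^ n * _ at h2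
  rw [h2, mul_comm]

theorem evalFrac_incl (a : B) (ha : a ∈ J) (ha0 : a ≠ 0) (n k : ℕ) (h : n ≤ k)
    (φ : (J ^ n : Ideal B) →ₗ[B] (ModuleCat.of B B)) :
    evalFrac J a ha k (φ ∘ₗ incl J h) = evalFrac J a ha n φ := by
  have hak : algebraMap B K (a ^ k) ≠ 0 := by
    rw [Ne, map_eq_zero_iff _ (IsFractionRing.injective B K)]
    exact pow_ne_zero k ha0
  have h1 := mul_evalFrac J a ha ha0 n φ (a ^ k) (Ideal.pow_le_pow_right h (Ideal.pow_mem_pow ha k))
  rw [evalFrac_apply J a ha k, div_eq_iff hak, mul_comm, h1]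
  rfl

/-- The embedding of the ideal transform of a domain into its fraction field. -/
noncomputable def toFrac (a : B) (ha : a ∈ J) (ha0 : a ≠ 0) : DT J B →ₗ[B] K :=
  descD J (evalFrac J a ha) (fun n k h φ => evalFrac_incl J a ha ha0 n k h φ)

theorem toFrac_ι (a : B) (ha : a ∈ J) (ha0 : a ≠ 0) (n : ℕ)
    (φ : (J ^ n : Ideal B) →ₗ[B] (ModuleCat.of B B)) :
    toFrac J a ha ha0 (ιD J n (ModuleCat.of B B) φ) = evalFrac J a ha n φ :=
  descD_ι J _ _ φ

theorem toFrac_injective (a : B) (ha : a ∈ J) (ha0 : a ≠ 0) :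
    Function.Injective (toFrac J a ha ha0) := by
  rw [injective_iff_map_eq_zero]
  intro x hx
  obtain ⟨n, φ, rfl⟩ := ιD_rep J (ModuleCat.of B B) x
  rw [toFrac_ι] at hx
  have hφ : φ = 0 := by
    apply LinearMap.ext
    rintro ⟨s, hs⟩
    have h1 := mul_evalFrac J a ha ha0 n φ s hs
    rw [hx, mul_zero] at h1
    exact (map_eq_zero_iff _ (IsFractionRing.injective B K)).mp h1.symm
  rw [hφ, map_zero]

theorem toFrac_mem_heightOneHull (a : B) (ha : a ∈ J) (ha0 : a ≠ 0)
    (hJ : ∀ (P : Ideal B) [P.IsPrime], P.height = 1 → ¬ J ≤ P) (x : DT J B) :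
    toFrac J a ha ha0 x ∈ EGA4.heightOneHull B := by
  obtain ⟨n, φ, rfl⟩ := ιD_rep J (ModuleCat.of B B) x
  rw [toFrac_ι]
  intro P hP hP1
  have hnot : ¬ J ^ n ≤ P := fun hle => hJ P hP1 (hP.le_of_pow_le hle)
  obtain ⟨s, hs, hsP⟩ := SetLike.not_le_iff_exists.mp hnot
  exact ⟨s, hsP, φ ⟨s, hs⟩, (mul_evalFrac J a ha ha0 n φ s hs).symm⟩

/-- If no height-one prime contains `J` and `B^(1)` is finite then `D_J(B)` is finite. -/
theorem finDT_domain (hfin : EGA4.HeightOneHullFinite B)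
    (hJ : ∀ (P : Ideal B) [P.IsPrime], P.height = 1 → ¬ J ≤ P) : FinDT J B := by
  by_cases hJ0 : J = ⊥
  · apply finDT_of_isPowerTorsion
    intro x
    refine ⟨1, fun a ha => ?_⟩
    rw [pow_one, hJ0] at ha
    rw [(Submodule.mem_bot B).mp ha, zero_smul]
  · obtain ⟨a, ha, ha0⟩ := Submodule.exists_mem_ne_zero_of_ne_bot hJ0
    obtain ⟨H, hH, hHfin⟩ := hfin
    haveI := hHfin
    haveI : IsNoetherian B H := isNoetherian_of_isNoetherianRing_of_finite B H
    let Ψ : DT J B →ₗ[B] H :=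
      LinearMap.codRestrict (Subalgebra.toSubmodule H) (toFrac J a ha ha0) (fun x => by
        show toFrac J a ha ha0 x ∈ (H : Set K)
        rw [hH]
        exact toFrac_mem_heightOneHull J a ha ha0 hJ x)
    have hΨ : Function.Injective Ψ := fun x y hxy =>
      toFrac_injective J a ha ha0 (congrArg Subtype.val hxy)
    exact Module.Finite.of_injective Ψ hΨ

end domain

end Groth.Agent.Helper8.FinH1
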