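import Mathlib
import Groth.Prelude
import Groth.Agent.Lib.Helper8.FinH1_3
import Groth.Agent.Lib.Helper8.HensEq2
import Groth.Agent.Lib.Helper4.DimEq2

/-!
# Finiteness of `H^1_I(M)` over universally catenary Nagata rings
-/

set_option autoImplicit false
universe u

namespace Groth.Agent.Helper8.FinH1

open LocCoh Groth.Agent.Helper8.DT CategoryTheory

variable {A : Type u} [CommRing A] [IsNoetherianRing A] (I : Ideal A)

/-- Independence of the base ring. -/
theorem finDT_quotient_of_finDT_map (p : Ideal A)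
    (h : FinDT (I.map (algebraMap A (A ⧸ p))) (A ⧸ p)) : FinDT I (A ⧸ p) := by
  obtain ⟨ε, hε, -⟩ := exists_DT_semilinear_equiv (R := A) (R' := A ⧸ p) I (A ⧸ p)
  let D' := DT (I.map (algebraMap A (A ⧸ p))) (A ⧸ p)
  letI : Module A D' := Module.compHom D' (algebraMap A (A ⧸ p))
  haveI : IsScalarTower A (A ⧸ p) D' := IsScalarTower.of_algebraMap_smul (fun r x => rfl)
  haveI : Module.Finite (A ⧸ p) D' := h
  haveI : Module.Finite A D' := Module.Finite.trans (A ⧸ p) D'
  let e : D' ≃ₗ[A] DT I (A ⧸ p) := { ε with map_smul' := fun r x => hε r x }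
  exact Module.Finite.equiv e

/-- The domain case over a universally catenary ring with finite normalization. -/
theorem good_of_height (hU : CAlg.IsUniversallyCatenary A) (p : Ideal A) [hpp : p.IsPrime]
    (hint : Module.Finite (A ⧸ p) (integralClosure (A ⧸ p) (FractionRing (A ⧸ p))))
    (h : ∀ (q : PrimeSpectrum A) (hpq : (⟨p, hpp⟩ : PrimeSpectrum A) ≤ q), I ≤ q.asIdeal →
      (2 : ℕ∞) ≤ Order.height (⟨q, hpq⟩ : Set.Ici (⟨p, hpp⟩ : PrimeSpectrum A))) :
    FinDT I (A ⧸ p) := by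
  apply finDT_quotient_of_finDT_map
  have hUB : CAlg.IsUniversallyCatenary (A ⧸ p) :=
    Groth.Agent.Helper8.HensEq.isUniversallyCatenary_of_finiteType A (A ⧸ p) hU
  apply finDT_domain _ (Groth.Agent.Helper8.HOH.heightOneHullFinite (A ⧸ p) hUB hint)
  intro P hP hP1 hle
  have hq : (P.comap (Ideal.Quotient.mk p)).IsPrime := Ideal.comap_isPrime _ _
  have hpq : p ≤ P.comap (Ideal.Quotient.mk p) := fun a ha => by
    rw [Ideal.mem_comap, Ideal.Quotient.eq_zero_iff_mem.mpr ha]
    exact P.zero_mem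
  have hIq : I ≤ P.comap (Ideal.Quotient.mk p) := Ideal.map_le_iff_le_comap.mp hle
  have h2 := h ⟨_, hq⟩ hpq hIq
  rw [Groth.Agent.Lib.Helper4.DimEq2.height_Ici_eq p _ hpq,
    Ideal.map_comap_of_surjective _ Ideal.Quotient.mk_surjective, hP1] at h2
  norm_num at h2

/-- **S1771.** -/
theorem finite_H_one_of_nagata (hN : CAlg.IsNagata A) (hU : CAlg.IsUniversallyCatenary A)
    (M : Type u) [AddCommGroup M] [Module A M] [Module.Finite A M]
    (h : ∀ (p q : PrimeSpectrum A) (hpq : p ≤ q), p.asIdeal ∈ associatedPrimes A M →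
      ¬ I ≤ p.asIdeal → I ≤ q.asIdeal → (2 : ℕ∞) ≤ Order.height (⟨q, hpq⟩ : Set.Ici p)) :
    Module.Finite A (H I 1 M) := by
  apply finite_H_one
  apply finDT_of_forall_good
  intro p hp
  haveI hpp : p.IsPrime := hp.isPrime
  by_cases hIp : I ≤ p
  · exact Or.inl hIp
  right
  have hN2 : CAlg.IsN2 (A ⧸ p) := hN.2 p
  have hint : Module.Finite (A ⧸ p) (integralClosure (A ⧸ p) (FractionRing (A ⧸ p))) :=
    hN2 (FractionRing (A ⧸ p)) inferInstance
  exact good_of_height I hU p hint (fun q hpq hIq => h ⟨p, hpp⟩ q hpq hp hIp hIq)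

end Groth.Agent.Helper8.FinH1
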