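import Mathlib
import Groth.Prelude
import Groth.Agent.Lib.Helper8.Cpl2

/-!
# Normality of `R` from normality of `R ⊗ E` for a finite extension `E` of a principal ideal domain
-/

set_option autoImplicit false
universe u

namespace Groth.Agent.Helper8.FinNorm

open TensorProduct

section LemmaQ

variable (N : Type u) [CommRing N] (I : Ideal N)

/-- If `I` is locally zero at every prime containing it, `N ⧸ I` is normal when `N` is. -/
theorem isNormalRing_quotient_of_locally_zero (hN : EGA4.IsNormalRing N)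
    (hI : ∀ (Q : Ideal N) [Q.IsPrime], I ≤ Q → ∀ x ∈ I, ∃ s, s ∉ Q ∧ s * x = 0) :
    EGA4.IsNormalRing (N ⧸ I) := by
  intro Qb hQb
  set Q : Ideal N := Qb.comap (Ideal.Quotient.mk I) with hQ
  haveI : Q.IsPrime := Ideal.comap_isPrime _ _
  have hIQ : I ≤ Q := by
    intro x hx
    rw [hQ, Ideal.mem_comap, Ideal.Quotient.eq_zero_iff_mem.mpr hx]
    exact Qb.zero_mem
  obtain ⟨h1, h2⟩ := hN Q
  have hmk : ∀ n : N, algebraMap N (Localization.AtPrime Qb) n =
      algebraMap (N ⧸ I) (Localization.AtPrime Qb) (Ideal.Quotient.mk I n) := fun n =>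
    IsScalarTower.algebraMap_apply N (N ⧸ I) (Localization.AtPrime Qb) n
  haveI : IsLocalization.AtPrime (Localization.AtPrime Qb) Q := by
    refine (isLocalization_iff Q.primeCompl (Localization.AtPrime Qb)).mpr ⟨?_, ?_, ?_⟩
    · rintro ⟨s, hs⟩
      rw [hmk]
      exact IsLocalization.map_units (M := Qb.primeCompl) (Localization.AtPrime Qb)
        ⟨Ideal.Quotient.mk I s, hs⟩
    · intro z
      obtain ⟨⟨x, ⟨y, hy⟩⟩, hxy⟩ := IsLocalization.surj Qb.primeCompl z
      obtain ⟨x', rfl⟩ := Ideal.Quotient.mk_surjective x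
      obtain ⟨y', rfl⟩ := Ideal.Quotient.mk_surjective y
      refine ⟨(x', ⟨y', hy⟩), ?_⟩
      rw [hmk, hmk]
      exact hxy
    · intro x y hxy
      rw [hmk, hmk] at hxy
      obtain ⟨⟨c, hc⟩, hcxy⟩ := IsLocalization.exists_of_eq (M := Qb.primeCompl) hxy
      obtain ⟨c', rfl⟩ := Ideal.Quotient.mk_surjective c
      have hmem : c' * (x - y) ∈ I := by
        rw [← Ideal.Quotient.eq_zero_iff_mem, map_mul, map_sub, mul_sub]
        exact sub_eq_zero.mpr hcxy
      obtain ⟨s, hs, hs0⟩ := hI Q hIQ _ hmem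
      refine ⟨⟨s * c', Q.primeCompl.mul_mem hs hc⟩, ?_⟩
      change s * c' * x = s * c' * y
      rw [← sub_eq_zero, ← mul_sub, mul_assoc]
      exact hs0
  let e : Localization.AtPrime Q ≃ₐ[N] Localization.AtPrime Qb :=
    IsLocalization.algEquiv Q.primeCompl _ _
  exact ⟨e.symm.toMulEquiv.isDomain _, IsIntegrallyClosed.of_equiv e.toRingEquiv⟩

end LemmaQ

section PID

variable (P E R : Type u) [CommRing P] [IsDomain P] [IsPrincipalIdealRing P] [CommRing E]
  [Algebra P E] [Module.Finite P E] [CommRing R] [Algebra P R]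

/-- An element of a minimal prime of a normal ring is killed by an element outside any given
larger prime. -/
theorem exists_mul_eq_zero_of_mem_minimalPrimes (hE : EGA4.IsNormalRing E) (𝔮 : Ideal E)
    (h𝔮 : 𝔮 ∈ minimalPrimes E) (P' : Ideal E) [P'.IsPrime] (hle : 𝔮 ≤ P') (e : E) (he : e ∈ 𝔮) :
    ∃ t, t ∉ P' ∧ t * e = 0 := by
  obtain ⟨h1, -⟩ := hE P'
  haveI : 𝔮.IsPrime := h𝔮.1.1
  set K₀ : Ideal E := (⊥ : Ideal (Localization.AtPrime P')).comap
    (algebraMap E (Localization.AtPrime P')) with hK₀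
  haveI : K₀.IsPrime := Ideal.comap_isPrime _ _
  have hK₀le : K₀ ≤ 𝔮 := by
    intro z hz
    rw [hK₀, Ideal.mem_comap, Ideal.mem_bot,
      IsLocalization.map_eq_zero_iff P'.primeCompl] at hz
    obtain ⟨⟨t, ht⟩, htz⟩ := hz
    have h2 : t * z ∈ 𝔮 := by
      have : t * z = 0 := htz
      rw [this]; exact 𝔮.zero_mem
    rcases Ideal.IsPrime.mem_or_mem inferInstance h2 with h3 | h3
    · exact absurd (hle h3) ht
    · exact h3
  have hle' : 𝔮 ≤ K₀ := h𝔮.2 ⟨inferInstance, bot_le⟩ hK₀le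
  have h3 := hle' he
  rw [hK₀, Ideal.mem_comap, Ideal.mem_bot, IsLocalization.map_eq_zero_iff P'.primeCompl] at h3
  obtain ⟨⟨t, ht⟩, hte⟩ := h3
  exact ⟨t, ht, hte⟩

/-- **Core, local form.** -/
theorem isNormalRing_of_pid (hinj : Function.Injective (algebraMap P E))
    (hE : EGA4.IsNormalRing E) (hER : EGA4.IsNormalRing (R ⊗[P] E)) : EGA4.IsNormalRing R := by
  haveI : Algebra.IsIntegral P E := Algebra.IsIntegral.of_finite P E
  haveI : (⊥ : Ideal P).IsPrime := Ideal.isPrime_bot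
  obtain ⟨Q₀, -, hQ₀prime, hQ₀⟩ := Ideal.exists_ideal_over_prime_of_isIntegral (⊥ : Ideal P)
    (⊥ : Ideal E) (by
      rw [← RingHom.ker_eq_comap_bot, (RingHom.injective_iff_ker_eq_bot _).mp hinj])
  obtain ⟨𝔮, h𝔮min, h𝔮le⟩ := Ideal.exists_minimalPrimes_le (bot_le : (⊥ : Ideal E) ≤ Q₀)
  haveI : 𝔮.IsPrime := h𝔮min.1.1
  have h𝔮bot : 𝔮.comap (algebraMap P E) = ⊥ :=
    le_bot_iff.mp (hQ₀ ▸ Ideal.comap_mono h𝔮le)
  -- the domain `D = E ⧸ 𝔮`
  have hinjD : Function.Injective (algebraMap P (E ⧸ 𝔮)) := by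
    rw [RingHom.injective_iff_ker_eq_bot, ← h𝔮bot]
    ext x
    rw [RingHom.mem_ker, Ideal.mem_comap, IsScalarTower.algebraMap_apply P E (E ⧸ 𝔮),
      Ideal.Quotient.algebraMap_eq, Ideal.Quotient.eq_zero_iff_mem]
  haveI : FaithfulSMul P (E ⧸ 𝔮) := (faithfulSMul_iff_algebraMap_injective P (E ⧸ 𝔮)).mpr hinjD
  haveI : Module.Finite P (E ⧸ 𝔮) :=
    Module.Finite.of_surjective (Ideal.Quotient.mkₐ P 𝔮).toLinearMap
      (Ideal.Quotient.mkₐ_surjective P 𝔮)
  haveI : Algebra.IsIntegral P (E ⧸ 𝔮) := Algebra.IsIntegral.of_finite P (E ⧸ 𝔮)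
  haveI : Module.Flat P (E ⧸ 𝔮) := by
    rw [Module.Flat.flat_iff_torsion_eq_bot_of_isBezout, eq_bot_iff]
    intro x hx
    rw [Submodule.mem_torsion_iff] at hx
    obtain ⟨a, hax⟩ := hx
    rw [Submodule.mem_bot]
    have h1 : algebraMap P (E ⧸ 𝔮) (a : P) * x = 0 := by
      rw [← Algebra.smul_def]; exact hax
    rcases mul_eq_zero.mp h1 with h2 | h2
    · exact absurd (hinjD (h2.trans (map_zero _).symm)) (nonZeroDivisors.coe_ne_zero a)
    · exact h2
  haveI : Module.FaithfullyFlat P (E ⧸ 𝔮) := inferInstance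
  haveI : Module.FaithfullyFlat R (R ⊗[P] (E ⧸ 𝔮)) := inferInstance
  -- the quotient of `R ⊗ E`
  have hquot : EGA4.IsNormalRing ((R ⊗[P] E) ⧸
      𝔮.map (Algebra.TensorProduct.includeRight (R := P) (A := R) (B := E))) := by
    refine isNormalRing_quotient_of_locally_zero _ _ hER ?_
    intro Q _ hIQ x hx
    set P' : Ideal E := Q.comap
      (Algebra.TensorProduct.includeRight (R := P) (A := R) (B := E)).toRingHom with hP'
    haveI : P'.IsPrime := Ideal.comap_isPrime _ _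
    have hle : 𝔮 ≤ P' := by
      intro e he
      rw [hP', Ideal.mem_comap]
      exact hIQ (Ideal.mem_map_of_mem _ he)
    refine Submodule.span_induction (p := fun x _ => ∃ s, s ∉ Q ∧ s * x = 0) ?_ ?_ ?_ ?_ hx
    · rintro _ ⟨e, he, rfl⟩
      obtain ⟨t, ht, hte⟩ := exists_mul_eq_zero_of_mem_minimalPrimes E hE 𝔮 h𝔮min P' hle e he
      refine ⟨Algebra.TensorProduct.includeRight (R := P) (A := R) (B := E) t, ?_, ?_⟩
      · intro hmem
        exact ht hmem
      · rw [← map_mul, hte, map_zero]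
    · exact ⟨1, fun h => (Ideal.ne_top_iff_one Q).mp (Ideal.IsPrime.ne_top inferInstance) h,
        mul_zero _⟩
    · rintro a b _ _ ⟨s, hs, hsa⟩ ⟨t, ht, htb⟩
      refine ⟨s * t, fun h => ?_, ?_⟩
      · rcases Ideal.IsPrime.mem_or_mem inferInstance h with h | h
        · exact hs h
        · exact ht h
      · rw [mul_add, mul_assoc, mul_comm t a, ← mul_assoc, hsa, zero_mul, mul_assoc, htb,
          mul_zero, add_zero]
    · rintro c a _ ⟨s, hs, hsa⟩
      refine ⟨s, hs, ?_⟩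
      rw [smul_eq_mul, mul_left_comm, hsa, mul_zero]
  have hRD : EGA4.IsNormalRing (R ⊗[P] (E ⧸ 𝔮)) :=
    Groth.Agent.Helper8.Cpl.isNormalRing_of_ringEquiv
      (Algebra.TensorProduct.tensorQuotientEquiv (R := P) R E R 𝔮).symm.toRingEquiv hquot
  exact Groth.Agent.Helper8.Cpl.isNormalRing_of_faithfullyFlat (A := R) (B := R ⊗[P] (E ⧸ 𝔮)) hRD

end PID

end Groth.Agent.Helper8.FinNorm
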