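import Mathlib
import Groth.Prelude
import Groth.Agent.Lib.Helper8.FinNorm1
import Groth.Agent.Lib.Helper8.NormFib1
import Groth.Agent.Lib.Helper8.NormBase5
import Groth.Agent.Lib.Helper8.FlatReg13
import Groth.Agent.Lib.Helper8.FlatReg14

/-!
# Normality of a flat extension `B'` of a normal ring `B` from normality of `B' ⊗ C` for a finite
extension `C` of `B`
-/

set_option autoImplicit false
universe u

namespace Groth.Agent.Helper8.FinNorm

open TensorProduct IsLocalRing LocCoh

/-- A normal Noetherian local domain of depth at most one is a principal ideal ring. -/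
theorem isPrincipalIdealRing_of_depth_le_one (D : Type u) [CommRing D] [IsLocalRing D]
    [IsNoetherianRing D] [IsDomain D] [IsIntegrallyClosed D] (hd : depth D D ≤ 1) :
    IsPrincipalIdealRing D := by
  have hSk := Groth.Agent.Helper8.FlatReg.skLocal_of_hasSk 2
    (Groth.Agent.Helper8.FlatReg.hasSk_two_of_normal_domain D)
  unfold Groth.Agent.Helper8.FlatReg.SkLocal at hSk
  have hht : (maximalIdeal D).height ≤ 1 := by
    by_contra hcon
    rw [not_le] at hcon
    have h2 : (2 : ℕ∞) ≤ (maximalIdeal D).height := by
      have := Order.add_one_le_of_lt hcon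
      rwa [one_add_one_eq_two] at this
    have h3 : (2 : ℕ∞) ≤ depth D D := by
      refine le_trans ?_ hSk
      exact le_min (by norm_num) h2
    have h4 : (2 : ℕ∞) ≤ 1 := h3.trans hd
    exact absurd h4 (by norm_num)
  have hdim : ringKrullDim D ≤ 1 := by
    rw [← IsLocalRing.maximalIdeal_height_eq_ringKrullDim]
    exact_mod_cast hht
  have hK : Ring.KrullDimLE 1 D := Ring.krullDimLE_iff.mpr hdim
  have h3 : IsIntegrallyClosed D ∧
      ∀ P : Ideal D, P ≠ ⊥ → P.IsPrime → P = maximalIdeal D :=
    ⟨inferInstance, fun P hP hPp =>
      eq_maximalIdeal (Ring.krullDimLE_one_iff_of_noZeroDivisors.mp hK P hP hPp)⟩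
  exact ((tfae_of_isNoetherianRing_of_isLocalRing_of_isDomain D).out 3 0).mp h3

section Core

variable (B C B' : Type u) [CommRing B] [CommRing C] [CommRing B'] [IsNoetherianRing B]
  [Algebra B C] [Module.Finite B C] [Algebra B B'] [Module.Flat B B'] [IsNoetherianRing B']

/-- **Core.** -/
theorem isNormalRing_of_finite_injective (hinj : Function.Injective (algebraMap B C))
    (hB : EGA4.IsNormalRing B) (hC : EGA4.IsNormalRing C)
    (hCB' : EGA4.IsNormalRing (B' ⊗[B] C)) : EGA4.IsNormalRing B' := by
  refine Groth.Agent.Helper8.NormFib.isNormalRing_of_forall_depth_le_one B' ?_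
  intro q _ hdepth
  set p : Ideal B := q.comap (algebraMap B B') with hp
  haveI : p.IsPrime := Ideal.comap_isPrime _ _
  haveI : q.LiesOver p := ⟨rfl⟩
  letI := Localization.AtPrime.algebraOfLiesOver p q
  haveI : IsLocalHom (algebraMap (Localization.AtPrime p) (Localization.AtPrime q)) := by
    rw [RingHom.algebraMap_toAlgebra]
    exact Localization.isLocalHom_localRingHom _ q (algebraMap B B') Ideal.LiesOver.over
  haveI : IsNoetherianRing (Localization.AtPrime p) :=
    IsLocalization.isNoetherianRing p.primeCompl _ inferInstance
  haveI : IsNoetherianRing (Localization.AtPrime q) :=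
    IsLocalization.isNoetherianRing q.primeCompl _ inferInstance
  obtain ⟨hdom, hic⟩ := hB p
  -- depth comparison
  have hne : (maximalIdeal (Localization.AtPrime p)).map
      (algebraMap (Localization.AtPrime p) (Localization.AtPrime q)) ≠ ⊤ := by
    intro h
    have hle := IsLocalRing.map_maximalIdeal_le
      (algebraMap (Localization.AtPrime p) (Localization.AtPrime q))
    rw [h] at hle
    exact (maximalIdeal.isMaximal (Localization.AtPrime q)).ne_top (top_le_iff.mp hle)
  haveI : Nontrivial (Localization.AtPrime q ⧸ (maximalIdeal (Localization.AtPrime p)).map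
      (algebraMap (Localization.AtPrime p) (Localization.AtPrime q))) :=
    Ideal.Quotient.nontrivial_iff.mpr hne
  haveI : IsLocalRing (Localization.AtPrime q ⧸ (maximalIdeal (Localization.AtPrime p)).map
      (algebraMap (Localization.AtPrime p) (Localization.AtPrime q))) :=
    IsLocalRing.of_surjective' (Ideal.Quotient.mk _) Ideal.Quotient.mk_surjective
  have hdp : depth (Localization.AtPrime p) (Localization.AtPrime p) ≤ 1 := by
    have h1 := Groth.Agent.Helper8.FlatReg.depth_eq_add_of_flat (Localization.AtPrime p)
      (Localization.AtPrime q)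
    exact (le_self_add.trans h1.symm.le).trans hdepth
  haveI : IsPrincipalIdealRing (Localization.AtPrime p) :=
    isPrincipalIdealRing_of_depth_le_one _ hdp
  -- the finite extension `E` of `B_p`
  have hinjE : Function.Injective
      (algebraMap (Localization.AtPrime p) (Localization.AtPrime p ⊗[B] C)) := by
    have h1 : Function.Injective ((Algebra.linearMap B C).lTensor (Localization.AtPrime p)) :=
      Module.Flat.lTensor_preserves_injective_linearMap _ hinj
    intro x y hxy
    have h2 : (Algebra.linearMap B C).lTensor (Localization.AtPrime p) (x ⊗ₜ[B] (1 : B)) =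
        (Algebra.linearMap B C).lTensor (Localization.AtPrime p) (y ⊗ₜ[B] (1 : B)) := by
      rw [LinearMap.lTensor_tmul, LinearMap.lTensor_tmul, Algebra.linearMap_apply, map_one]
      exact hxy
    have h3 := congrArg (TensorProduct.rid B (Localization.AtPrime p)) (h1 h2)
    simpa using h3
  have hE : EGA4.IsNormalRing (Localization.AtPrime p ⊗[B] C) :=
    Groth.Agent.Helper8.NormBase.isNormalRing_tensor_of_isLocalization B B
      (Localization.AtPrime p) C p.primeCompl
      (Groth.Agent.Helper8.Cpl.isNormalRing_of_ringEquiv
        (Algebra.TensorProduct.lid B C).symm.toRingEquiv hC)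
  have hRC : EGA4.IsNormalRing (Localization.AtPrime q ⊗[B] C) :=
    Groth.Agent.Helper8.NormBase.isNormalRing_tensor_of_isLocalization B B'
      (Localization.AtPrime q) C q.primeCompl hCB'
  have hER : EGA4.IsNormalRing
      (Localization.AtPrime q ⊗[Localization.AtPrime p] (Localization.AtPrime p ⊗[B] C)) :=
    Groth.Agent.Helper8.Cpl.isNormalRing_of_ringEquiv
      (Algebra.TensorProduct.cancelBaseChange B (Localization.AtPrime p) (Localization.AtPrime p)
        (Localization.AtPrime q) C).symm.toRingEquiv hRC
  have hR := isNormalRing_of_pid (Localization.AtPrime p) (Localization.AtPrime p ⊗[B] C)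
    (Localization.AtPrime q) hinjE hE hER
  exact Groth.Agent.Helper8.NormFib.normal_of_isNormalRing_of_isLocalRing _ hR

end Core

end Groth.Agent.Helper8.FinNorm
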