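import Mathlib
import Groth.Prelude
import Groth.Agent.Lib.Helper8.FinNorm2
import Groth.Agent.Lib.Helper8.Nag13

/-!
# The `𝔪`-adic completion of a finite algebra over a Noetherian local ring, and normality
-/

set_option autoImplicit false
universe u

namespace Groth.Agent.Helper8.FinNorm

open IsLocalRing TensorProduct Groth.Agent.Helper8.Nag

section madic

variable (A : Type u) [CommRing A] [IsNoetherianRing A] [IsLocalRing A]
  (C : Type u) [CommRing C] [Algebra A C] [Module.Finite A C]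

/-- The extension of the maximal ideal. -/
abbrev mC : Ideal C := (maximalIdeal A).map (algebraMap A C)

attribute [local instance] Algebra.TensorProduct.rightAlgebra in
theorem isAdicComplete_tensor_cpl' :
    IsAdicComplete ((mC A C).map (algebraMap C (C ⊗[A] EGA4.Cpl A))) (C ⊗[A] EGA4.Cpl A) := by
  haveI : IsNoetherianRing (EGA4.Cpl A) := Groth.Agent.Helper8.AdicReg.isNoetherianRing A _
  haveI : Module.Finite (EGA4.Cpl A) (C ⊗[A] EGA4.Cpl A) :=
    Module.Finite.equiv (Algebra.TensorProduct.commRight A (EGA4.Cpl A) C).toLinearEquiv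
  haveI h1 : IsAdicComplete (maximalIdeal (EGA4.Cpl A)) (C ⊗[A] EGA4.Cpl A) :=
    Groth.Agent.Helper8.GRing.isAdicComplete_of_finite (EGA4.Cpl A) _ _
  haveI h2 : IsAdicComplete ((maximalIdeal (EGA4.Cpl A)).map
      (algebraMap (EGA4.Cpl A) (C ⊗[A] EGA4.Cpl A))) (C ⊗[A] EGA4.Cpl A) :=
    (IsAdicComplete.map_algebraMap_iff (maximalIdeal (EGA4.Cpl A)) (C ⊗[A] EGA4.Cpl A)).2 h1
  have heq : (maximalIdeal (EGA4.Cpl A)).map (algebraMap (EGA4.Cpl A) (C ⊗[A] EGA4.Cpl A)) =
      ((maximalIdeal A).map (algebraMap A C)).map (algebraMap C (C ⊗[A] EGA4.Cpl A)) := by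
    rw [AdicCompletion.maximalIdeal_eq_map (R := A), Ideal.map_map, Ideal.map_map]
    congr 1
    ext a
    simp only [RingHom.comp_apply]
    rw [Algebra.TensorProduct.algebraMap_apply, Algebra.TensorProduct.algebraMap_eq_includeRight]
    simp [Algebra.algebraMap_eq_smul_one, TensorProduct.smul_tmul]
  rw [← heq]
  exact h2

theorem algebraMap_quot_pow_eq_zero' (n : ℕ) (a : A) (ha : a ∈ (maximalIdeal A) ^ n) :
    algebraMap A (C ⧸ (mC A C) ^ n) a = 0 := by
  rw [IsScalarTower.algebraMap_apply A C (C ⧸ (mC A C) ^ n), Ideal.Quotient.algebraMap_eq,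
    Ideal.Quotient.eq_zero_iff_mem]
  rw [← Ideal.map_pow]
  exact Ideal.mem_map_of_mem _ ha

theorem ker_level' (n : ℕ) :
    RingHom.ker (Algebra.TensorProduct.map (Ideal.Quotient.mkₐ A ((mC A C) ^ n))
      (AlgHom.id A (EGA4.Cpl A))) =
    ((mC A C).map (algebraMap C (C ⊗[A] EGA4.Cpl A))) ^ n := by
  have hsurj : Function.Surjective (Ideal.Quotient.mkₐ A ((mC A C) ^ n)) :=
    Ideal.Quotient.mkₐ_surjective A _
  have h1 := Algebra.TensorProduct.rTensor_ker (R := A) (C := EGA4.Cpl A)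
    (Ideal.Quotient.mkₐ A ((mC A C) ^ n)) hsurj
  have hk : RingHom.ker (Ideal.Quotient.mkₐ A ((mC A C) ^ n)) = (mC A C) ^ n := by
    ext z
    rw [RingHom.mem_ker]
    exact Ideal.Quotient.eq_zero_iff_mem
  rw [hk] at h1
  rw [h1]
  change Ideal.map (algebraMap C (C ⊗[A] EGA4.Cpl A)) ((mC A C) ^ n) = _
  rw [Ideal.map_pow]

theorem hinj_tensor' (n : ℕ) (c : C)
    (hc : algebraMap C (C ⊗[A] EGA4.Cpl A) c ∈
      ((mC A C).map (algebraMap C (C ⊗[A] EGA4.Cpl A))) ^ n) : c ∈ (mC A C) ^ n := by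
  rw [← ker_level', RingHom.mem_ker] at hc
  have h1 : (Algebra.TensorProduct.includeLeft :
      (C ⧸ (mC A C) ^ n) →ₐ[A] (C ⧸ (mC A C) ^ n) ⊗[A] EGA4.Cpl A)
      (Ideal.Quotient.mk _ c) = 0 := by
    rw [← hc]
    simp [Algebra.TensorProduct.algebraMap_apply]
  have h2 := (includeLeft_bijective_of_pow_eq_zero A (C ⧸ (mC A C) ^ n) n
    (algebraMap_quot_pow_eq_zero' A C n)).1 (h1.trans (map_zero _).symm)
  exact Ideal.Quotient.eq_zero_iff_mem.mp h2

theorem hsurj_tensor' (n : ℕ) (t : C ⊗[A] EGA4.Cpl A) :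
    ∃ c : C, t - algebraMap C (C ⊗[A] EGA4.Cpl A) c ∈
      ((mC A C).map (algebraMap C (C ⊗[A] EGA4.Cpl A))) ^ n := by
  obtain ⟨d, hd⟩ := (includeLeft_bijective_of_pow_eq_zero A (C ⧸ (mC A C) ^ n) n
    (algebraMap_quot_pow_eq_zero' A C n)).2
    (Algebra.TensorProduct.map (Ideal.Quotient.mkₐ A ((mC A C) ^ n))
      (AlgHom.id A (EGA4.Cpl A)) t)
  obtain ⟨c, rfl⟩ := Ideal.Quotient.mk_surjective d
  refine ⟨c, ?_⟩
  rw [← ker_level', RingHom.mem_ker, map_sub, sub_eq_zero, ← hd]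
  simp [Algebra.TensorProduct.algebraMap_apply]

/-- The `𝔪C`-adic completion of `C` is the completed tensor product. -/
noncomputable def mcplEquiv : (C ⊗[A] EGA4.Cpl A) ≃+* AdicCompletion (mC A C) C :=
  haveI := isAdicComplete_tensor_cpl' A C
  completionEquiv (mC A C) (hinj_tensor' A C) (hsurj_tensor' A C)

end madic

section final

variable (A : Type u) [CommRing A] [IsLocalRing A] [IsNoetherianRing A]
  (B C : Type u) [CommRing B] [CommRing C] [Algebra A B] [Algebra A C] [Algebra B C]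
  [IsScalarTower A B C] [Module.Finite A B] [Module.Finite A C]

/-- **S1599.** -/
theorem isNormalRing_adicCompletion_of_finite (hinj : Function.Injective (algebraMap B C))
    (hB : EGA4.IsNormalRing B)
    (hC : EGA4.IsNormalRing (AdicCompletion ((maximalIdeal A).map (algebraMap A C)) C)) :
    EGA4.IsNormalRing (AdicCompletion ((maximalIdeal A).map (algebraMap A B)) B) := by
  haveI : Module.FaithfullyFlat A (EGA4.Cpl A) := Module.FaithfullyFlat.of_flat_of_isLocalHom
  haveI : IsNoetherianRing B := IsNoetherianRing.of_finite A B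
  haveI : Module.Finite B C := Module.Finite.of_restrictScalars_finite A B C
  have hC' : EGA4.IsNormalRing (C ⊗[A] EGA4.Cpl A) :=
    Groth.Agent.Helper8.Cpl.isNormalRing_of_ringEquiv (mcplEquiv A C).symm hC
  haveI : Module.FaithfullyFlat C (C ⊗[A] EGA4.Cpl A) := inferInstance
  have hCn : EGA4.IsNormalRing C :=
    Groth.Agent.Helper8.Cpl.isNormalRing_of_faithfullyFlat (A := C) (B := C ⊗[A] EGA4.Cpl A) hC'
  haveI : IsNoetherianRing (B ⊗[A] EGA4.Cpl A) := isNoetherianRing_tensor_cpl A B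
  have hCB' : EGA4.IsNormalRing ((B ⊗[A] EGA4.Cpl A) ⊗[B] C) :=
    Groth.Agent.Helper8.Cpl.isNormalRing_of_ringEquiv
      ((Algebra.TensorProduct.comm B (B ⊗[A] EGA4.Cpl A) C).trans
        (Algebra.TensorProduct.cancelBaseChange A B B C (EGA4.Cpl A))).symm.toRingEquiv hC'
  have hB' : EGA4.IsNormalRing (B ⊗[A] EGA4.Cpl A) :=
    isNormalRing_of_finite_injective B C (B ⊗[A] EGA4.Cpl A) hinj hB hCn hCB'
  exact Groth.Agent.Helper8.Cpl.isNormalRing_of_ringEquiv (mcplEquiv A B) hB'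

end final

end Groth.Agent.Helper8.FinNorm
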