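import Mathlib
import Groth.Prelude
import Groth.Agent.Lib.Helper8.FourTerm3

/-!
# Quotients of a flat module by the extensions of ideals of the base
-/

set_option autoImplicit false
universe u

namespace Groth.Agent.Helper8.FourTerm

open Pointwise LocCoh TensorProduct

section colon

variable {A : Type u} [CommRing A] {E : Type u} [AddCommGroup E] [Module A E]

/-- For a flat module, `(𝔞 E : b) = (𝔞 : b) E`. -/
theorem mem_smul_top_of_smul_mem_of_flat [Module.Flat A E] (𝔞 𝔠 : Ideal A) (b : A)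
    (h1 : ∀ a ∈ 𝔠, a * b ∈ 𝔞) (h2 : ∀ a, a * b ∈ 𝔞 → a ∈ 𝔠) (x : E)
    (hx : b • x ∈ 𝔞 • (⊤ : Submodule A E)) : x ∈ 𝔠 • (⊤ : Submodule A E) := by
  let φ : (A ⧸ 𝔠) →ₗ[A] (A ⧸ 𝔞) := Submodule.mapQ 𝔠 𝔞 (LinearMap.mulRight A b) (by
    intro a ha
    exact h1 a ha)
  have hφmk : ∀ a : A, φ (Ideal.Quotient.mk 𝔠 a) = Ideal.Quotient.mk 𝔞 (a * b) := fun a => rfl
  have hφ : Function.Injective φ := by
    rw [injective_iff_map_eq_zero]
    intro c hc
    obtain ⟨a, rfl⟩ := Ideal.Quotient.mk_surjective c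
    rw [hφmk, Ideal.Quotient.eq_zero_iff_mem] at hc
    rw [Ideal.Quotient.eq_zero_iff_mem]
    exact h2 a hc
  have hinj := Module.Flat.rTensor_preserves_injective_linearMap (M := E) φ hφ
  have key : φ.rTensor E ((Ideal.Quotient.mk 𝔠 1) ⊗ₜ[A] x) = 0 := by
    rw [LinearMap.rTensor_tmul, hφmk]
    apply (TensorProduct.quotTensorEquivQuotSMul E 𝔞).injective
    rw [map_zero, TensorProduct.quotTensorEquivQuotSMul_mk_tmul, one_mul,
      Submodule.Quotient.mk_eq_zero]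
    exact hx
  have h3 : (Ideal.Quotient.mk 𝔠 1) ⊗ₜ[A] x = (0 : (A ⧸ 𝔠) ⊗[A] E) :=
    hinj (key.trans (map_zero _).symm)
  have h4 := congrArg (TensorProduct.quotTensorEquivQuotSMul E 𝔠) h3
  rw [TensorProduct.quotTensorEquivQuotSMul_mk_tmul, map_zero, one_smul,
    Submodule.Quotient.mk_eq_zero] at h4
  exact h4

end colon

section quot

variable {A : Type u} (B : Type u) [CommRing A] [CommRing B] [Algebra A B]
  (E : Type u) [AddCommGroup E] [Module B E] [Module A E] [IsScalarTower A B E]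

/-- `𝔞 E` as a submodule over the algebra. -/
abbrev IE (𝔞 : Ideal A) : Submodule B E := 𝔞.map (algebraMap A B) • (⊤ : Submodule B E)

variable {E}

theorem mem_IE_iff (𝔞 : Ideal A) (x : E) : x ∈ IE B E 𝔞 ↔ x ∈ 𝔞 • (⊤ : Submodule A E) :=
  (FlatMod.mem_smul_top_iff 𝔞 x).symm

variable (E)

theorem IE_mono {𝔞 𝔟 : Ideal A} (h : 𝔞 ≤ 𝔟) : IE B E 𝔞 ≤ IE B E 𝔟 :=
  Submodule.smul_mono (Ideal.map_mono h) le_rfl

theorem smul_mem_IE {𝔞 𝔠 : Ideal A} (b : A) (h1 : ∀ a ∈ 𝔠, a * b ∈ 𝔞) (x : E)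
    (hx : x ∈ IE B E 𝔠) : b • x ∈ IE B E 𝔞 := by
  rw [mem_IE_iff] at hx ⊢
  refine Submodule.smul_induction_on hx ?_ ?_
  · intro a ha z _
    rw [← mul_smul, mul_comm]
    exact Submodule.smul_mem_smul (h1 a ha) Submodule.mem_top
  · intro y z hy hz
    rw [smul_add]
    exact add_mem hy hz

/-- Multiplication by `b`, from `E / 𝔠 E` to `E / 𝔞 E`, when `𝔠 b ⊆ 𝔞`. -/
noncomputable def mulMap {𝔞 𝔠 : Ideal A} (b : A) (h1 : ∀ a ∈ 𝔠, a * b ∈ 𝔞) :
    (E ⧸ IE B E 𝔠) →ₗ[B] (E ⧸ IE B E 𝔞) :=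
  Submodule.mapQ _ _ (algebraMap A B b • (LinearMap.id : E →ₗ[B] E)) (by
    intro x hx
    rw [Submodule.mem_comap, LinearMap.smul_apply, LinearMap.id_apply, algebraMap_smul]
    exact smul_mem_IE B E b h1 x hx)

theorem mulMap_mk {𝔞 𝔠 : Ideal A} (b : A) (h1 : ∀ a ∈ 𝔠, a * b ∈ 𝔞) (x : E) :
    mulMap B E b h1 (Submodule.Quotient.mk x) = Submodule.Quotient.mk (b • x) := by
  change Submodule.Quotient.mk ((algebraMap A B b • (LinearMap.id : E →ₗ[B] E)) x) = _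
  rw [LinearMap.smul_apply, LinearMap.id_apply, algebraMap_smul]

theorem mulMap_injective [Module.Flat A E] {𝔞 𝔠 : Ideal A} (b : A)
    (h1 : ∀ a ∈ 𝔠, a * b ∈ 𝔞) (h2 : ∀ a, a * b ∈ 𝔞 → a ∈ 𝔠) :
    Function.Injective (mulMap B E b h1) := by
  rw [injective_iff_map_eq_zero]
  intro c hc
  obtain ⟨x, rfl⟩ := Submodule.Quotient.mk_surjective _ c
  rw [mulMap_mk, Submodule.Quotient.mk_eq_zero, mem_IE_iff] at hc
  rw [Submodule.Quotient.mk_eq_zero, mem_IE_iff]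
  exact mem_smul_top_of_smul_mem_of_flat 𝔞 𝔠 b h1 h2 x hc

theorem exact_mulMap_factor {𝔞 𝔠 : Ideal A} (b : A) (h1 : ∀ a ∈ 𝔠, a * b ∈ 𝔞) :
    Function.Exact (mulMap B E b h1)
      (Submodule.factor (IE_mono B E (le_sup_left : 𝔞 ≤ 𝔞 ⊔ Ideal.span {b}))) := by
  intro c
  obtain ⟨x, rfl⟩ := Submodule.Quotient.mk_surjective _ c
  constructor
  · intro h
    have h' : Submodule.Quotient.mk x = (0 : E ⧸ IE B E (𝔞 ⊔ Ideal.span {b})) := h
    rw [Submodule.Quotient.mk_eq_zero, mem_IE_iff, Submodule.sup_smul,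
      Submodule.ideal_span_singleton_smul, Submodule.mem_sup] at h'
    obtain ⟨x₁, hx₁, x₂, hx₂, rfl⟩ := h'
    obtain ⟨z, -, rfl⟩ := (Submodule.mem_smul_pointwise_iff_exists _ _ _).mp hx₂
    refine ⟨Submodule.Quotient.mk z, ?_⟩
    rw [mulMap_mk, Submodule.Quotient.eq, mem_IE_iff]
    have : b • z - (x₁ + b • z) = - x₁ := by abel
    rw [this]
    exact neg_mem hx₁
  · rintro ⟨z, hz⟩
    obtain ⟨z, rfl⟩ := Submodule.Quotient.mk_surjective _ z
    rw [mulMap_mk] at hz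
    rw [← hz]
    change Submodule.Quotient.mk (b • z) = (0 : E ⧸ IE B E (𝔞 ⊔ Ideal.span {b}))
    rw [Submodule.Quotient.mk_eq_zero, mem_IE_iff]
    exact Submodule.smul_mem_smul (Ideal.mem_sup_right (Ideal.subset_span rfl)) Submodule.mem_top

end quot

end Groth.Agent.Helper8.FourTerm
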