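import Mathlib
import Groth.Prelude
import Groth.Agent.Lib.Helper8.FourTerm4
import Groth.Agent.Lib.Helper8.Depth27

/-!
# Lifting sections of the kernel along small extensions of the base
-/

set_option autoImplicit false
universe u

namespace Groth.Agent.Helper8.FourTerm

open Pointwise LocCoh IsLocalRing

/-- `a ≥ 3` forces `a - 1 ≥ 2`. -/
theorem two_le_sub_one_of_three_le {a : ℕ∞} (h : 3 ≤ a) : 2 ≤ a - 1 := by
  cases a with
  | top => exact le_top
  | coe a =>
    have h' : (3 : ℕ) ≤ a := by exact_mod_cast h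
    have h2 : ((a - 1 : ℕ) : ℕ∞) = (a : ℕ∞) - 1 := by
      rw [ENat.natCast_sub]
      rfl
    rw [← h2]
    have : 2 ≤ a - 1 := by omega
    exact_mod_cast this

section depth

variable {A B : Type u} [CommRing A] [CommRing B] [Algebra A B] [IsNoetherianRing B]
  (E : Type u) [AddCommGroup E] [Module B E] [Module A E] [IsScalarTower A B E]
  [Module.Finite B E] [Module.Flat A E] (J : Ideal B)

/-- The depth of `E / 𝔞 E` is bounded below by those of `E / 𝔠 E` and `E / (𝔞 + b) E`. -/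
theorem le_idealDepth_quot (d : ℕ∞) {𝔞 𝔠 : Ideal A} (b : A)
    (h1 : ∀ a ∈ 𝔠, a * b ∈ 𝔞) (h2 : ∀ a, a * b ∈ 𝔞 → a ∈ 𝔠)
    (hc : d ≤ idealDepth J (E ⧸ IE B E 𝔠))
    (hb : d ≤ idealDepth J (E ⧸ IE B E (𝔞 ⊔ Ideal.span {b}))) :
    d ≤ idealDepth J (E ⧸ IE B E 𝔞) :=
  le_trans (le_min hc hb)
    (Depth.idealDepth_mid_ge J (mulMap B E b h1)
      (Submodule.factor (IE_mono B E (le_sup_left : 𝔞 ≤ 𝔞 ⊔ Ideal.span {b})))
      (mulMap_injective B E b h1 h2) (Submodule.factor_surjective _)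
      (exact_mulMap_factor B E b h1))

end depth

section lift

variable {A B : Type u} [CommRing A] [CommRing B] [Algebra A B]
  {E0 E1 G : Type u}
  [AddCommGroup E0] [Module B E0] [Module A E0] [IsScalarTower A B E0]
  [AddCommGroup E1] [Module B E1] [Module A E1] [IsScalarTower A B E1]
  [AddCommGroup G] [Module B G] [Module A G] [IsScalarTower A B G]
  (u : E0 →ₗ[B] E1) (v : E1 →ₗ[B] G)
  (huv : Function.Exact u v) (hv : Function.Surjective v) (J : Ideal B)

include huv hv in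
/-- Off the non-flat locus of `G`, elements of `E⁰` mapping into `𝔟 E¹` are congruent modulo
`𝔟 E⁰` to elements of the kernel, up to a denominator. -/
theorem exists_smul_sub_mem_of_flat_off (𝔟 : Ideal A) (q : PrimeSpectrum B)
    (hG : Module.Flat A (LocalizedModule q.asIdeal.primeCompl G))
    (x : E0) (hx : u x ∈ IE B E1 𝔟) :
    ∃ s : B, s ∉ q.asIdeal ∧ ∃ x' : E0, u x' = 0 ∧ s • x - x' ∈ IE B E0 𝔟 := by
  obtain ⟨s, hs, hsy⟩ := exists_smul_mem_smul_top_of_localized_flat q.asIdeal.primeCompl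
    (LocalizedModule.mkLinearMap q.asIdeal.primeCompl (LinearMap.range u))
    (LocalizedModule.mkLinearMap q.asIdeal.primeCompl E1)
    (LocalizedModule.mkLinearMap q.asIdeal.primeCompl G)
    (LinearMap.range u).subtype v Subtype.val_injective hv (exact_subtype_range u v huv)
    𝔟 (u.rangeRestrict x) (by rw [← mem_IE_iff B]; exact hx)
  rw [← mem_IE_iff B, IE,
    ← map_smul_top_of_surjective _ u.rangeRestrict u.surjective_rangeRestrict] at hsy
  obtain ⟨x₁, hx₁, e⟩ := hsy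
  refine ⟨s, hs, s • x - x₁, ?_, ?_⟩
  · have e' := congrArg Subtype.val e
    rw [map_sub, map_smul, sub_eq_zero]
    exact e'.symm
  · rw [sub_sub_cancel]
    exact hx₁

variable [IsLocalRing A] [IsNoetherianRing B]

include huv hv in
/-- The lifting step: if the kernel of the closed fibre has `J`-depth at least three, sections of
the kernel modulo `𝔞 + (b)` lift modulo `𝔞` when `(𝔞 : b)` is the maximal ideal. -/
theorem lift_step [Module.Finite B E0] [Module.Finite B E1] [Module.Flat A E0] [Module.Flat A E1]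
    (hGU : ∀ q : PrimeSpectrum B, ¬ J ≤ q.asIdeal →
      Module.Flat A (LocalizedModule q.asIdeal.primeCompl G))
    (𝔞 : Ideal A) (b : A) (h1 : ∀ a ∈ maximalIdeal A, a * b ∈ 𝔞)
    (h2 : ∀ a, a * b ∈ 𝔞 → a ∈ maximalIdeal A)
    (hK : 3 ≤ idealDepth J (LinearMap.ker (barMap ((maximalIdeal A).map (algebraMap A B)) u)))
    (hd0 : 2 ≤ idealDepth J (E0 ⧸ IE B E0 𝔞)) (hd1 : 1 ≤ idealDepth J (E1 ⧸ IE B E1 𝔞))
    (hd0b : 1 ≤ idealDepth J (E0 ⧸ IE B E0 (𝔞 ⊔ Ideal.span {b})))
    (x : E0) (hx : u x ∈ IE B E1 (𝔞 ⊔ Ideal.span {b})) :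
    ∃ x' : E0, u x' ∈ IE B E1 𝔞 ∧ x - x' ∈ IE B E0 (𝔞 ⊔ Ideal.span {b}) := by
  set 𝔟 : Ideal A := 𝔞 ⊔ Ideal.span {b} with h𝔟
  set um := barMap ((maximalIdeal A).map (algebraMap A B)) u with hum
  set ua := barMap (𝔞.map (algebraMap A B)) u with hua
  set ub := barMap (𝔟.map (algebraMap A B)) u with hub
  set π0 : (E0 ⧸ IE B E0 𝔞) →ₗ[B] (E0 ⧸ IE B E0 𝔟) :=
    Submodule.factor (IE_mono B E0 (le_sup_left : 𝔞 ≤ 𝔞 ⊔ Ideal.span {b})) with hπ0
  set μ0 := mulMap B E0 b h1 with hμ0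
  set μ1 := mulMap B E1 b h1 with hμ1
  have hμ1inj : Function.Injective μ1 := mulMap_injective B E1 b h1 h2
  have hμ0inj : Function.Injective μ0 := mulMap_injective B E0 b h1 h2
  have hcomm : ∀ z, ua (μ0 z) = μ1 (um z) := by
    intro z
    obtain ⟨z, rfl⟩ := Submodule.Quotient.mk_surjective _ z
    rw [hμ0, mulMap_mk, hua, barMap_mk, hum, barMap_mk, hμ1, mulMap_mk,
      LinearMap.map_smul_of_tower]
  -- the short exact sequence `0 → K̄ → K(𝔞) → C → 0`
  have hmaps : ∀ z ∈ LinearMap.ker um, μ0 z ∈ LinearMap.ker ua := by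
    intro z hz
    rw [LinearMap.mem_ker] at hz ⊢
    rw [hcomm, hz, map_zero]
  set f₁ : LinearMap.ker um →ₗ[B] LinearMap.ker ua := μ0.restrict hmaps with hf₁
  set g₀ : LinearMap.ker ua →ₗ[B] (E0 ⧸ IE B E0 𝔟) := π0 ∘ₗ (LinearMap.ker ua).subtype with hg₀
  set g₁ := g₀.rangeRestrict with hg₁
  have hf₁inj : Function.Injective f₁ := by
    intro z z' h
    apply Subtype.ext
    apply hμ0inj
    exact congrArg Subtype.val h
  have hg₁surj : Function.Surjective g₁ := g₀.surjective_rangeRestrict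
  have hex : Function.Exact f₁ g₁ := by
    intro w
    constructor
    · intro hw
      have hw0 : π0 (w : E0 ⧸ IE B E0 𝔞) = 0 := congrArg Subtype.val hw
      obtain ⟨z, hz⟩ := (exact_mulMap_factor B E0 b h1 _).mp hw0
      have hzk : z ∈ LinearMap.ker um := by
        rw [LinearMap.mem_ker]
        apply hμ1inj
        rw [map_zero, ← hcomm]
        have : μ0 z = (w : E0 ⧸ IE B E0 𝔞) := hz
        rw [this]
        exact w.2
      exact ⟨⟨z, hzk⟩, Subtype.ext hz⟩
    · rintro ⟨z, rfl⟩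
      apply Subtype.ext
      change π0 (μ0 (z : E0 ⧸ IE B E0 (maximalIdeal A))) = 0
      exact (exact_mulMap_factor B E0 b h1 _).mpr ⟨_, rfl⟩
  have hC : 2 ≤ idealDepth J (LinearMap.range g₀) := by
    refine le_trans (le_min ?_ ?_) (Depth.idealDepth_right_ge J f₁ g₁ hf₁inj hg₁surj hex)
    · exact (Depth.idealDepth_ker J ua).2 hd0 hd1
    · exact two_le_sub_one_of_three_le hK
  have hle : LinearMap.ker ub ≤ LinearMap.range g₀ := by
    apply le_of_torsion_quotient J _ _ _ hC hd0b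
    intro p hp q hq
    obtain ⟨x₀, rfl⟩ := Submodule.Quotient.mk_surjective _ p
    rw [LinearMap.mem_ker, hub, barMap_mk, Submodule.Quotient.mk_eq_zero] at hp
    obtain ⟨s, hs, x', hx'0, hx'⟩ :=
      exists_smul_sub_mem_of_flat_off u v huv hv 𝔟 q (hGU q hq) x₀ hp
    refine ⟨s, hs, ⟨⟨Submodule.Quotient.mk x', ?_⟩, ?_⟩⟩
    · rw [LinearMap.mem_ker, hua, barMap_mk, hx'0, Submodule.Quotient.mk_zero]
    · change π0 (Submodule.Quotient.mk x') = _
      rw [hπ0]
      change (Submodule.Quotient.mk x' : E0 ⧸ IE B E0 𝔟) = _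
      rw [← Submodule.Quotient.mk_smul, Submodule.Quotient.eq]
      have : x' - s • x₀ = - (s • x₀ - x') := by abel
      rw [this]
      exact neg_mem hx'
  have hxk : (Submodule.Quotient.mk x : E0 ⧸ IE B E0 𝔟) ∈ LinearMap.ker ub := by
    rw [LinearMap.mem_ker, hub, barMap_mk, Submodule.Quotient.mk_eq_zero]
    exact hx
  obtain ⟨⟨w, hw⟩, hwx⟩ := hle hxk
  obtain ⟨x', rfl⟩ := Submodule.Quotient.mk_surjective _ w
  refine ⟨x', ?_, ?_⟩
  · rw [LinearMap.mem_ker, hua, barMap_mk, Submodule.Quotient.mk_eq_zero] at hw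
    exact hw
  · have h3 : (Submodule.Quotient.mk x' : E0 ⧸ IE B E0 𝔟) = Submodule.Quotient.mk x := hwx
    rw [Submodule.Quotient.eq] at h3
    have : x - x' = - (x' - x) := by abel
    rw [this]
    exact neg_mem h3

end lift

end Groth.Agent.Helper8.FourTerm
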