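import Mathlib
import Groth.Prelude
import Groth.Agent.Lib.Helper8.FourTerm5
import Groth.Agent.Lib.Helper8.LC17
import Groth.Agent.Lib.Helper8.LC13
import Groth.Agent.Lib.Helper8.LC11

/-!
# Vanishing of `H²_J` of the closed fibre of the kernel forces flatness of the cokernel
-/

set_option autoImplicit false
universe u

namespace Groth.Agent.Helper8.FourTerm

open Pointwise LocCoh IsLocalRing CategoryTheory

section lc

variable {B : Type u} [CommRing B] [IsNoetherianRing B] (J : Ideal B)

/-- Depth at least two and vanishing of `H²` give depth at least three. -/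
theorem three_le_idealDepth_of_subsingleton_H_two (M : Type u) [AddCommGroup M] [Module B M]
    [Module.Finite B M] (h2 : 2 ≤ idealDepth J M) (hH : Subsingleton (H J 2 M)) :
    3 ≤ idealDepth J M := by
  by_cases hJM : J • (⊤ : Submodule B M) = ⊤
  · rw [Depth.idealDepth_of_smul_top_eq J M hJM]
    exact le_top
  · obtain ⟨d, hd⟩ := ENat.ne_top_iff_exists.mp (Depth.idealDepth_ne_top hJM)
    have hd' : idealDepth J M = d := hd.symm
    rw [hd'] at h2 ⊢
    have h2' : 2 ≤ d := by exact_mod_cast h2
    have hne : d ≠ 2 := by
      rintro rfl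
      have := LC.nontrivial_of_idealDepth_eq J hJM 2 hd'
      exact not_subsingleton _ hH
    have : 3 ≤ d := by omega
    exact_mod_cast this

/-- An element killed off `V(J)` by denominators is killed by a power of `J`. -/
theorem exists_pow_smul_eq_zero_of_forall_prime {M : Type u} [AddCommGroup M] [Module B M]
    (c : M)
    (hc : ∀ q : PrimeSpectrum B, ¬ J ≤ q.asIdeal → ∃ s : B, s ∉ q.asIdeal ∧ s • c = 0) :
    ∃ n : ℕ, ∀ a ∈ J ^ n, a • c = 0 := by
  have hrad : J ≤ (Submodule.span B {c}).annihilator.radical := by
    apply le_radical_of_forall_prime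
    intro q hq hle
    obtain ⟨s, hs, hsc⟩ := hc q hq
    apply hs
    apply hle
    rw [Submodule.mem_annihilator_span_singleton]
    exact hsc
  obtain ⟨n, hn⟩ := Ideal.exists_pow_le_of_le_radical_of_fg hrad (IsNoetherian.noetherian J)
  exact ⟨n, fun a ha => (Submodule.mem_annihilator_span_singleton _ _).mp (hn ha)⟩

/-- A map with `J`-power torsion kernel and cokernel transports vanishing of local cohomology
in positive degrees. -/
theorem subsingleton_H_of_torsion_ker_coker (i : ℕ) (hi : 0 < i) {X Y : Type u}
    [AddCommGroup X] [Module B X] [AddCommGroup Y] [Module B Y] (φ : X →ₗ[B] Y)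
    (hker : IsPowerTorsion J (LinearMap.ker φ))
    (hcoker : IsPowerTorsion J (Y ⧸ LinearMap.range φ))
    (hX : Subsingleton (H J i X)) : Subsingleton (H J i Y) := by
  have h1 : Subsingleton (H J i (LinearMap.range φ)) := by
    have hex : Function.Exact (LinearMap.ker φ).subtype φ.rangeRestrict := by
      intro x
      constructor
      · intro hx
        have hx' : φ x = 0 := congrArg Subtype.val hx
        exact ⟨⟨x, hx'⟩, rfl⟩
      · rintro ⟨⟨z, hz⟩, rfl⟩
        exact Subtype.ext hz
    have hS : (ModuleCat.shortComplexOfCompEqZero (LinearMap.ker φ).subtype φ.rangeRestrict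
        hex.linearMap_comp_eq_zero).ShortExact :=
      ModuleCat.shortComplex_shortExact _ hex Subtype.val_injective φ.surjective_rangeRestrict
    have hT : Subsingleton (H J (i + 1) (LinearMap.ker φ)) :=
      LC.subsingleton_of_isPowerTorsion J (i + 1) (Nat.succ_pos i) _ hker
    apply LC.subsingleton_of_forall_eq_zero
    intro z
    have hz : LC.δ J i hS z = 0 := hT.elim _ _
    obtain ⟨w, rfl⟩ := (LC.exact_g_δ J i hS z).mp hz
    have hw : w = 0 := hX.elim _ _
    rw [hw, map_zero]
  have h3 : Subsingleton (H J i (Y ⧸ LinearMap.range φ)) :=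
    LC.subsingleton_of_isPowerTorsion J i hi _ hcoker
  exact LC.subsingleton_of_exact J i (LinearMap.range φ).subtype (LinearMap.range φ).mkQ
    Subtype.val_injective (Submodule.mkQ_surjective _)
    (by
      intro y
      rw [Submodule.mkQ_apply, Submodule.Quotient.mk_eq_zero]
      constructor
      · intro hy
        exact ⟨⟨y, hy⟩, rfl⟩
      · rintro ⟨z, rfl⟩
        exact z.2) h1 h3

end lc

end Groth.Agent.Helper8.FourTerm
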