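import Mathlib
import Groth.Prelude
import Groth.Agent.Lib.Helper8.FourTerm6

/-!
# The induction along small extensions and the Artin–Rees conclusion
-/

set_option autoImplicit false
universe u

namespace Groth.Agent.Helper8.FourTerm

open Pointwise LocCoh IsLocalRing

section ind

variable {A B : Type u} [CommRing A] [CommRing B] [Algebra A B] [IsLocalRing A]
  [IsNoetherianRing A] [IsNoetherianRing B]
  {E0 E1 G : Type u}
  [AddCommGroup E0] [Module B E0] [Module A E0] [IsScalarTower A B E0] [Module.Finite B E0]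
  [Module.Flat A E0]
  [AddCommGroup E1] [Module B E1] [Module A E1] [IsScalarTower A B E1] [Module.Finite B E1]
  [Module.Flat A E1]
  [AddCommGroup G] [Module B G] [Module A G] [IsScalarTower A B G]
  (u : E0 →ₗ[B] E1) (v : E1 →ₗ[B] G)
  (huv : Function.Exact u v) (hv : Function.Surjective v) (J : Ideal B)

include huv hv in
/-- Sections of the kernel on the closed fibre lift modulo every ideal between a power of the
maximal ideal and the maximal ideal. -/
theorem good_of_pow_le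
    (hGU : ∀ q : PrimeSpectrum B, ¬ J ≤ q.asIdeal →
      Module.Flat A (LocalizedModule q.asIdeal.primeCompl G))
    (hK : 3 ≤ idealDepth J (LinearMap.ker (barMap ((maximalIdeal A).map (algebraMap A B)) u)))
    (h0 : 2 ≤ idealDepth J (E0 ⧸ IE B E0 (maximalIdeal A)))
    (h1 : 1 ≤ idealDepth J (E1 ⧸ IE B E1 (maximalIdeal A))) (n : ℕ) (𝔞 : Ideal A) :
    maximalIdeal A ^ n ≤ 𝔞 → 𝔞 ≤ maximalIdeal A →
    (2 ≤ idealDepth J (E0 ⧸ IE B E0 𝔞) ∧ 1 ≤ idealDepth J (E1 ⧸ IE B E1 𝔞) ∧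
      ∀ x : E0, u x ∈ IE B E1 (maximalIdeal A) →
        ∃ x' : E0, u x' ∈ IE B E1 𝔞 ∧ x - x' ∈ IE B E0 (maximalIdeal A)) := by
  refine IsNoetherian.induction (P := fun 𝔞 : Ideal A =>
    maximalIdeal A ^ n ≤ 𝔞 → 𝔞 ≤ maximalIdeal A →
    (2 ≤ idealDepth J (E0 ⧸ IE B E0 𝔞) ∧ 1 ≤ idealDepth J (E1 ⧸ IE B E1 𝔞) ∧
      ∀ x : E0, u x ∈ IE B E1 (maximalIdeal A) →
        ∃ x' : E0, u x' ∈ IE B E1 𝔞 ∧ x - x' ∈ IE B E0 (maximalIdeal A))) ?_ 𝔞
  intro 𝔞 ih hn hle
  classical
  by_cases hEq : 𝔞 = maximalIdeal A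
  · rw [hEq]
    exact ⟨h0, h1, fun x hx => ⟨x, hx, by rw [sub_self]; exact zero_mem _⟩⟩
  · have hex : ∃ j, maximalIdeal A ^ j ≤ 𝔞 := ⟨n, hn⟩
    have hj₀ : maximalIdeal A ^ (Nat.find hex) ≤ 𝔞 := Nat.find_spec hex
    have hj₀0 : Nat.find hex ≠ 0 := by
      intro h
      rw [h, pow_zero, Ideal.one_eq_top, top_le_iff] at hj₀
      rw [hj₀, top_le_iff] at hle
      exact (IsLocalRing.maximalIdeal.isMaximal A).ne_top hle
    obtain ⟨j, hj⟩ : ∃ j, Nat.find hex = j + 1 := Nat.exists_eq_succ_of_ne_zero hj₀0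
    have hjmin : ¬ maximalIdeal A ^ j ≤ 𝔞 := Nat.find_min hex (by omega)
    have hj1 : j ≠ 0 := by
      intro h
      rw [hj, h, zero_add, pow_one] at hj₀
      exact hEq (le_antisymm hle hj₀)
    obtain ⟨b, hbj, hb⟩ := SetLike.not_le_iff_exists.mp hjmin
    have hbm : b ∈ maximalIdeal A := Ideal.pow_le_self hj1 hbj
    have h1' : ∀ a ∈ maximalIdeal A, a * b ∈ 𝔞 := by
      intro a ha
      apply hj₀
      rw [hj, pow_succ']
      exact Ideal.mul_mem_mul ha hbj
    have h2' : ∀ a, a * b ∈ 𝔞 → a ∈ maximalIdeal A := by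
      intro a hab
      by_contra ha
      have hu : IsUnit a := IsLocalRing.notMem_maximalIdeal.mp ha
      obtain ⟨c, hc⟩ := hu.exists_left_inv
      apply hb
      have : b = c * (a * b) := by rw [← mul_assoc, hc, one_mul]
      rw [this]
      exact Ideal.mul_mem_left 𝔞 c hab
    have h𝔟gt : 𝔞 < 𝔞 ⊔ Ideal.span {b} :=
      SetLike.lt_iff_le_and_exists.mpr
        ⟨le_sup_left, b, Ideal.mem_sup_right (Ideal.subset_span rfl), hb⟩
    have h𝔟m : 𝔞 ⊔ Ideal.span {b} ≤ maximalIdeal A :=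
      sup_le hle ((Ideal.span_singleton_le_iff_mem _).mpr hbm)
    obtain ⟨hb0, hb1, hbS⟩ := ih _ h𝔟gt (hn.trans le_sup_left) h𝔟m
    have hd0 := le_idealDepth_quot (B := B) E0 J 2 b h1' h2' h0 hb0
    have hd1 := le_idealDepth_quot (B := B) E1 J 1 b h1' h2' h1 hb1
    refine ⟨hd0, hd1, ?_⟩
    intro x hx
    obtain ⟨x₁, hx₁, hxx₁⟩ := hbS x hx
    obtain ⟨x', hx', hx₁x'⟩ := lift_step u v huv hv J hGU 𝔞 b h1' h2' hK hd0 hd1
      (le_trans one_le_two hb0) x₁ hx₁
    refine ⟨x', hx', ?_⟩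
    have : x - x' = (x - x₁) + (x₁ - x') := by abel
    rw [this]
    exact add_mem hxx₁ (IE_mono B E0 h𝔟m hx₁x')

/-- If sections of the kernel on the closed fibre lift modulo all powers of the maximal ideal,
membership in `m • ⊤` is reflected by the inclusion of the image of `u` (Artin–Rees). -/
theorem reflects_of_lifts
    (hS : ∀ n : ℕ, ∀ x : E0, u x ∈ IE B E1 (maximalIdeal A) →
      ∃ x' : E0, u x' ∈ IE B E1 (maximalIdeal A ^ (n + 1)) ∧ x - x' ∈ IE B E0 (maximalIdeal A))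
    (y : LinearMap.range u)
    (hy : (y : E1) ∈ (maximalIdeal A).map (algebraMap A B) • (⊤ : Submodule B E1)) :
    y ∈ (maximalIdeal A).map (algebraMap A B) • (⊤ : Submodule B (LinearMap.range u)) := by
  set I := (maximalIdeal A).map (algebraMap A B) with hI
  obtain ⟨k, hk⟩ := Ideal.exists_pow_inf_eq_pow_smul I (LinearMap.range u)
  obtain ⟨x, hx⟩ := y.2
  obtain ⟨x', hx', hxx'⟩ := hS k x (by rw [hx]; exact hy)
  have h1 : u x' ∈ I • (LinearMap.range u) := by
    have hmem : u x' ∈ I ^ (k + 1) • (⊤ : Submodule B E1) ⊓ LinearMap.range u := by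
      refine ⟨?_, ⟨x', rfl⟩⟩
      rw [IE, Ideal.map_pow] at hx'
      exact hx'
    rw [hk (k + 1) (Nat.le_succ k), Nat.add_sub_cancel_left, pow_one] at hmem
    exact Submodule.smul_mono le_rfl inf_le_right hmem
  have h2 : u (x - x') ∈ I • (LinearMap.range u) := by
    have := Submodule.mem_map_of_mem (f := u) hxx'
    rw [Submodule.map_smul'', Submodule.map_top] at this
    exact this
  have h3 : (y : E1) ∈ I • LinearMap.range u := by
    rw [← hx]
    have : u x = u (x - x') + u x' := by rw [map_sub]; abel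
    rw [this]
    exact add_mem h2 h1
  have h4 : Submodule.map (LinearMap.range u).subtype (I • ⊤) = I • LinearMap.range u := by
    rw [Submodule.map_smul'', Submodule.map_subtype_top]
  rw [← h4] at h3
  obtain ⟨y', hy', e⟩ := h3
  have : y' = y := Subtype.ext e
  rw [← this]
  exact hy'

end ind

end Groth.Agent.Helper8.FourTerm
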