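import Mathlib
import Groth.Prelude
import Groth.Agent.Lib.Helper8.FourTerm7

/-!
# Vanishing of `H²_J` of the closed fibre of the kernel forces flatness of the cokernel: assembly
-/

set_option autoImplicit false
universe u

namespace Groth.Agent.Helper8.FourTerm

open Pointwise LocCoh IsLocalRing

section tors

variable {A B : Type u} [CommRing A] [CommRing B] [Algebra A B] [IsLocalRing A]
  {F E0 E1 G : Type u}
  [AddCommGroup F] [Module B F] [Module A F] [IsScalarTower A B F]
  [AddCommGroup E0] [Module B E0] [Module A E0] [IsScalarTower A B E0]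
  [AddCommGroup E1] [Module B E1] [Module A E1] [IsScalarTower A B E1]
  [AddCommGroup G] [Module B G] [Module A G] [IsScalarTower A B G]
  (f : F →ₗ[B] E0) (u : E0 →ₗ[B] E1) (v : E1 →ₗ[B] G)
  (hf : Function.Injective f) (hfu : Function.Exact f u) (huv : Function.Exact u v)
  (hv : Function.Surjective v)

include hf hfu huv hv in
/-- The kernel of `F̄ → Ē⁰` is killed by denominators off the non-flat locus of `G`. -/
theorem exists_smul_eq_zero_of_barMap_eq_zero [Module.Flat A E1] (q : PrimeSpectrum B)
    (hG : Module.Flat A (LocalizedModule q.asIdeal.primeCompl G))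
    (c : F ⧸ (maximalIdeal A).map (algebraMap A B) • (⊤ : Submodule B F))
    (hc : barMap ((maximalIdeal A).map (algebraMap A B)) f c = 0) :
    ∃ s : B, s ∉ q.asIdeal ∧ s • c = 0 := by
  obtain ⟨z, rfl⟩ := Submodule.Quotient.mk_surjective _ c
  rw [barMap_mk, Submodule.Quotient.mk_eq_zero] at hc
  haveI := flat_localizedModule_range (A := A) u v huv hv q.asIdeal hG
  obtain ⟨s, hs, hsz⟩ := exists_smul_mem_smul_top_of_localized_flat q.asIdeal.primeCompl
    (LocalizedModule.mkLinearMap q.asIdeal.primeCompl F)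
    (LocalizedModule.mkLinearMap q.asIdeal.primeCompl E0)
    (LocalizedModule.mkLinearMap q.asIdeal.primeCompl (LinearMap.range u))
    f u.rangeRestrict hf u.surjective_rangeRestrict (exact_rangeRestrict f u hfu)
    (maximalIdeal A) z (by rw [FlatMod.mem_smul_top_iff (S := B)]; exact hc)
  refine ⟨s, hs, ?_⟩
  rw [← Submodule.Quotient.mk_smul, Submodule.Quotient.mk_eq_zero, ← FlatMod.mem_smul_top_iff]
  exact hsz

include hfu huv hv in
/-- The kernel of `Ē⁰ → Ē¹` comes from `F̄` up to denominators off the non-flat locus of `G`. -/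
theorem exists_smul_mem_range_barMap (q : PrimeSpectrum B)
    (hG : Module.Flat A (LocalizedModule q.asIdeal.primeCompl G))
    (p : E0 ⧸ (maximalIdeal A).map (algebraMap A B) • (⊤ : Submodule B E0))
    (hp : p ∈ LinearMap.ker (barMap ((maximalIdeal A).map (algebraMap A B)) u)) :
    ∃ s : B, s ∉ q.asIdeal ∧
      s • p ∈ LinearMap.range (barMap ((maximalIdeal A).map (algebraMap A B)) f) := by
  obtain ⟨x, rfl⟩ := Submodule.Quotient.mk_surjective _ p
  rw [LinearMap.mem_ker, barMap_mk, Submodule.Quotient.mk_eq_zero] at hp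
  obtain ⟨s, hs, hsy⟩ := exists_smul_mem_smul_top_of_localized_flat q.asIdeal.primeCompl
    (LocalizedModule.mkLinearMap q.asIdeal.primeCompl (LinearMap.range u))
    (LocalizedModule.mkLinearMap q.asIdeal.primeCompl E1)
    (LocalizedModule.mkLinearMap q.asIdeal.primeCompl G)
    (LinearMap.range u).subtype v Subtype.val_injective hv (exact_subtype_range u v huv)
    (maximalIdeal A) (u.rangeRestrict x) (by rw [FlatMod.mem_smul_top_iff (S := B)]; exact hp)
  refine ⟨s, hs, smul_mk_mem_range_barMap _ f u hfu s x ?_⟩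
  rw [← FlatMod.mem_smul_top_iff]
  exact hsy

end tors

section main

variable {A B : Type u} [CommRing A] [CommRing B] [Algebra A B] [IsLocalRing A]
  [IsNoetherianRing A] [IsNoetherianRing B] [IsLocalRing B] [IsLocalHom (algebraMap A B)]
  {F E0 E1 G : Type u}
  [AddCommGroup F] [Module B F] [Module A F] [IsScalarTower A B F] [Module.Finite B F]
  [AddCommGroup E0] [Module B E0] [Module A E0] [IsScalarTower A B E0] [Module.Finite B E0]
  [Module.Flat A E0]
  [AddCommGroup E1] [Module B E1] [Module A E1] [IsScalarTower A B E1] [Module.Finite B E1]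
  [Module.Flat A E1]
  [AddCommGroup G] [Module B G] [Module A G] [IsScalarTower A B G]
  (f : F →ₗ[B] E0) (u : E0 →ₗ[B] E1) (v : E1 →ₗ[B] G)
  (hf : Function.Injective f) (hfu : Function.Exact f u) (huv : Function.Exact u v)
  (hv : Function.Surjective v) (J : Ideal B)

include hf hfu huv hv in
/-- If `H²_J` of the closed fibre of `F` vanishes, then `G` is flat. -/
theorem flat_of_subsingleton_H_two
    (hGU : ∀ q : PrimeSpectrum B, ¬ J ≤ q.asIdeal →
      Module.Flat A (LocalizedModule q.asIdeal.primeCompl G))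
    (h0 : 2 ≤ idealDepth J (E0 ⧸ (maximalIdeal A).map (algebraMap A B) • (⊤ : Submodule B E0)))
    (h1 : 1 ≤ idealDepth J (E1 ⧸ (maximalIdeal A).map (algebraMap A B) • (⊤ : Submodule B E1)))
    (hH2 : Subsingleton
      (H J 2 (F ⧸ (maximalIdeal A).map (algebraMap A B) • (⊤ : Submodule B F)))) :
    Module.Flat A G := by
  set fb := barMap ((maximalIdeal A).map (algebraMap A B)) f with hfb
  set ub := barMap ((maximalIdeal A).map (algebraMap A B)) u with hub
  have hKd2 : 2 ≤ idealDepth J (LinearMap.ker ub) := (Depth.idealDepth_ker J ub).2 h0 h1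
  set φ : (F ⧸ (maximalIdeal A).map (algebraMap A B) • (⊤ : Submodule B F)) →ₗ[B]
      LinearMap.ker ub :=
    fb.codRestrict (LinearMap.ker ub) (fun c => range_barMap_le_ker _ f u hfu ⟨c, rfl⟩) with hφ
  have hker : IsPowerTorsion J (LinearMap.ker φ) := by
    rintro ⟨c, hc⟩
    have hc' : fb c = 0 := by
      rw [LinearMap.mem_ker] at hc
      exact congrArg Subtype.val hc
    obtain ⟨n, hn⟩ := exists_pow_smul_eq_zero_of_forall_prime J c (fun q hq =>
      exists_smul_eq_zero_of_barMap_eq_zero f u v hf hfu huv hv q (hGU q hq) c hc')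
    exact ⟨n, fun a ha => Subtype.ext (hn a ha)⟩
  have hcoker : IsPowerTorsion J (LinearMap.ker ub ⧸ LinearMap.range φ) := by
    intro z
    obtain ⟨⟨p, hp⟩, rfl⟩ := Submodule.Quotient.mk_surjective _ z
    obtain ⟨n, hn⟩ := exists_pow_smul_eq_zero_of_forall_prime J
      (Submodule.Quotient.mk p :
        (E0 ⧸ (maximalIdeal A).map (algebraMap A B) • (⊤ : Submodule B E0)) ⧸ LinearMap.range fb)
      (fun q hq => by
        obtain ⟨s, hs, hsp⟩ := exists_smul_mem_range_barMap f u v hfu huv hv q (hGU q hq) p hp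
        refine ⟨s, hs, ?_⟩
        rw [← Submodule.Quotient.mk_smul, Submodule.Quotient.mk_eq_zero]
        exact hsp)
    refine ⟨n, fun a ha => ?_⟩
    have h := hn a ha
    rw [← Submodule.Quotient.mk_smul, Submodule.Quotient.mk_eq_zero] at h
    obtain ⟨w, hw⟩ := h
    rw [← Submodule.Quotient.mk_smul, Submodule.Quotient.mk_eq_zero]
    exact ⟨w, Subtype.ext hw⟩
  have hH2K : Subsingleton (H J 2 (LinearMap.ker ub)) :=
    subsingleton_H_of_torsion_ker_coker J 2 (by norm_num) φ hker hcoker hH2
  have hK3 := three_le_idealDepth_of_subsingleton_H_two J _ hKd2 hH2K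
  have hS : ∀ n : ℕ, ∀ x : E0, u x ∈ IE B E1 (maximalIdeal A) →
      ∃ x' : E0, u x' ∈ IE B E1 (maximalIdeal A ^ (n + 1)) ∧
        x - x' ∈ IE B E0 (maximalIdeal A) := fun n =>
    (good_of_pow_le u v huv hv J hGU hK3 h0 h1 (n + 1) (maximalIdeal A ^ (n + 1)) le_rfl
      (Ideal.pow_le_self (Nat.succ_ne_zero n))).2.2
  exact flat_of_reflects u v huv hv (reflects_of_lifts u hS)

end main

end Groth.Agent.Helper8.FourTerm
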