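import Groth.Agent.Lib.Helper8.Kunz4
import Groth.Agent.Lib.Helper8.FlatReg4
import Groth.Agent.Lib.Helper8.FlatReg5
import Groth.Agent.Lib.Helper8.RegPow

/-!
# Kunz's theorem, local case: regular implies flat Frobenius
-/

set_option autoImplicit false
universe u

namespace Groth.Agent.Helper8.Kunz

open Module IsLocalRing RingTheory.Sequence

/-- a local homomorphism from a regular local ring taking a regular system of parameters to a
regular sequence is flat. -/
theorem flat_of_isWeaklyRegular_map {A B : Type u} [CommRing A] [CommRing B]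
    [IsRegularLocalRing A] [IsNoetherianRing B] [IsLocalRing B] (φ : A →+* B) [IsLocalHom φ]
    (fs : List A) (hfs : Ideal.ofList fs = maximalIdeal A) (hA : IsWeaklyRegular A fs)
    (hB : IsWeaklyRegular B (fs.map φ)) : φ.Flat := by
  letI : Algebra A B := φ.toAlgebra
  haveI : IsLocalHom (algebraMap A B) := ‹IsLocalHom φ›
  have hmem : ∀ f ∈ fs, f ∈ maximalIdeal A := by
    intro f hf
    rw [← hfs]
    exact Ideal.subset_span hf
  show Module.Flat A B
  rw [Groth.Agent.Helper8.FlatReg.flat_iff_flat_quotient_and_isWeaklyRegular B B fs hmem hA]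
  refine ⟨?_, ?_⟩
  · haveI : (Ideal.ofList fs).IsMaximal := by rw [hfs]; exact maximalIdeal.isMaximal A
    letI : Field (A ⧸ Ideal.ofList fs) := Ideal.Quotient.field (Ideal.ofList fs)
    infer_instance
  · exact (isWeaklyRegular_map_algebraMap_iff B B fs).mp hB

variable {R : Type u} [CommRing R] (p : ℕ) [Fact p.Prime] [CharP R p]

instance isLocalHom_frobenius : IsLocalHom (frobenius R p) where
  map_nonunit a ha := by
    rw [frobenius_def] at ha
    exact (isUnit_pow_iff (Fact.out : p.Prime).ne_zero).mp ha

/-- **Kunz (local case, ⇒).** The Frobenius of a regular local ring is flat. -/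
theorem frobenius_flat_of_isRegularLocalRing [IsRegularLocalRing R] : (frobenius R p).Flat := by
  obtain ⟨xs, hxs, -, hreg⟩ := Groth.Agent.Helper8.FlatReg.exists_regular_generators R
  apply flat_of_isWeaklyRegular_map (frobenius R p) xs hxs hreg
  have h1 : xs = List.ofFn (fun i : Fin xs.length => xs[i]) := (List.ofFn_getElem (xs := xs)).symm
  have h2 : xs.map (frobenius R p) = List.ofFn (fun i : Fin xs.length => xs[i] ^ p) := by
    conv_lhs => rw [h1]
    rw [List.map_ofFn]
    rfl
  rw [h2]
  apply Groth.Agent.Helper8.RegPow.isWeaklyRegular_ofFn_pow xs.length R _ (fun _ => p)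
    (fun _ => (Fact.out : p.Prime).one_le)
  rw [← h1]
  exact hreg

end Groth.Agent.Helper8.Kunz
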