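import Mathlib
import Groth.Prelude
import Groth.Agent.Lib.Helper5.DMod1732.Struct
import Groth.Agent.Lib.Helper8.Kunz5
import Groth.Agent.Lib.Helper8.GorArt3
import Groth.Agent.Lib.Helper3.KosBC2
import Groth.Agent.Lib.Helper8.Koszul6
import Groth.Agent.Lib.Helper8.ABS21

/-!
# Frobenius-stable power-torsion modules over a regular local ring (S0338)

If `R` is a regular local ring of characteristic `p`, `M` is `𝔪`-power torsion and `F(M) ≅ M`, then
`M` is a direct sum of copies of the injective hull of the residue field.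

Strategy: `M[𝔪^{[p^e]}] ≅ (R ⧸ 𝔪^{[p^e]})^{(ι)}` for all `e` (flatness of Frobenius, induction on `e`),
the rings `R ⧸ 𝔪^{[p^e]}` are Artinian Gorenstein, hence self-injective; this gives Baer's criterion
for `𝔪`, and we conclude with the structure theorem of helper5.
-/

set_option autoImplicit false
universe u

namespace Groth.Agent.Helper8.FrobTors

open TensorProduct IsLocalRing

section FlatTorsion

variable {A : Type u} [CommRing A] {B : Type u} [CommRing B] [algAB : Algebra A B]
  [flatAB : Module.Flat A B] {M : Type u} [AddCommGroup M] [Module A M]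

/-- For a flat `A`-algebra `B`, elements of `B ⊗ M` killed by a finitely generated ideal `J` come
from `B ⊗ M[J]`. -/
theorem mem_range_lTensor_torsionBySet (J : Ideal A) (hJ : J.FG) (x : B ⊗[A] M)
    (hx : ∀ a ∈ J, a • x = 0) :
    x ∈ LinearMap.range
      (LinearMap.lTensor B (Submodule.torsionBySet A M (J : Set A)).subtype) := by
  classical
  obtain ⟨s, hs⟩ := hJ
  have hsJ : ∀ i : s, (i : A) ∈ J := fun i => by
    rw [← hs]; exact Submodule.subset_span i.2
  let ρ : M →ₗ[A] (s → M) := LinearMap.pi (fun i => LinearMap.lsmul A M (i : A))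
  have hex : Function.Exact (Submodule.torsionBySet A M (J : Set A)).subtype ρ := by
    intro m
    rw [Set.mem_range]
    constructor
    · intro h
      refine ⟨⟨m, ?_⟩, rfl⟩
      rw [Submodule.mem_torsionBySet_iff]
      rintro ⟨a, ha⟩
      show a • m = 0
      have ha' : a ∈ Submodule.span A (s : Set A) := by
        show a ∈ Ideal.span (s : Set A)
        rw [hs]; exact ha
      refine Submodule.span_induction ?_ ?_ ?_ ?_ ha'
      · intro a has
        exact congrFun h ⟨a, has⟩
      · exact zero_smul _ _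
      · intro a b _ _ h1 h2; rw [add_smul, h1, h2, add_zero]
      · intro c a _ h1; rw [smul_eq_mul, mul_smul, h1, smul_zero]
    · rintro ⟨y, rfl⟩
      ext i
      exact (Submodule.mem_torsionBySet_iff _ _).mp y.2 ⟨(i : A), hsJ i⟩
  have hex' := Module.Flat.lTensor_exact B hex
  rw [LinearMap.mem_range]
  refine (hex' x).mp ?_
  apply (TensorProduct.piRight A A B (fun _ : s => M)).injective
  rw [map_zero]
  ext i
  have key : ∀ y : B ⊗[A] M,
      TensorProduct.piRight A A B (fun _ : s => M) (LinearMap.lTensor B ρ y) i = (i : A) • y := by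
    intro y
    induction y using TensorProduct.induction_on with
    | zero => simp
    | tmul b e => simp [ρ]
    | add y z hy hz => simp only [map_add, Pi.add_apply, hy, hz, smul_add]
  rw [key, Pi.zero_apply]
  exact hx i (hsJ i)

/-- Flat base change of the `J`-torsion: if `B ⊗ M ≅ N` and `M[J]` is a direct sum of copies of
`A ⧸ J`, then `N[JB]` is a direct sum of copies of `B ⧸ JB` (same index set). -/
theorem nonempty_torsionBySet_equiv (J : Ideal A) (hJ : J.FG) {N : Type u} [AddCommGroup N]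
    [Module B N] (θ : B ⊗[A] M ≃ₗ[B] N) (J' : Ideal B) (hJ' : J.map (algebraMap A B) = J')
    {ι : Type u} (α : Submodule.torsionBySet A M (J : Set A) ≃ₗ[A] (ι →₀ A ⧸ J)) :
    Nonempty (Submodule.torsionBySet B N (J' : Set B) ≃ₗ[B] (ι →₀ B ⧸ J')) := by
  classical
  subst hJ'
  let j : B ⊗[A] (Submodule.torsionBySet A M (J : Set A)) →ₗ[B] B ⊗[A] M :=
    LinearMap.baseChange B (Submodule.torsionBySet A M (J : Set A)).subtype
  have hj : Function.Injective j :=
    Module.Flat.lTensor_preserves_injective_linearMap (M := B)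
      (Submodule.torsionBySet A M (J : Set A)).subtype (Submodule.injective_subtype _)
  let ψ : B ⊗[A] (Submodule.torsionBySet A M (J : Set A)) →ₗ[B] N := θ.toLinearMap ∘ₗ j
  have hψ : Function.Injective ψ := θ.injective.comp hj
  have hrange : LinearMap.range ψ =
      Submodule.torsionBySet B N ((J.map (algebraMap A B) : Ideal B) : Set B) := by
    apply le_antisymm
    · rintro _ ⟨z, rfl⟩
      rw [Ideal.map, ← Submodule.torsionBySet_eq_torsionBySet_span,
        Submodule.mem_torsionBySet_iff]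
      rintro ⟨_, a, ha, rfl⟩
      show algebraMap A B a • ψ z = 0
      rw [← map_smul, algebraMap_smul]
      have : a • z = 0 := by
        induction z using TensorProduct.induction_on with
        | zero => exact smul_zero _
        | tmul b t =>
          rw [← TensorProduct.tmul_smul]
          have : a • t = 0 :=
            Subtype.ext ((Submodule.mem_torsionBySet_iff _ _).mp t.2 ⟨a, ha⟩)
          rw [this, TensorProduct.tmul_zero]
        | add y z hy hz => rw [smul_add, hy, hz, add_zero]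
      rw [this, map_zero]
    · intro n hn
      have hx : ∀ a ∈ J, a • θ.symm n = 0 := by
        intro a ha
        rw [← algebraMap_smul B a (θ.symm n), ← map_smul]
        have : algebraMap A B a • n = 0 :=
          (Submodule.mem_torsionBySet_iff _ _).mp hn
            ⟨algebraMap A B a, Ideal.mem_map_of_mem _ ha⟩
        rw [this, map_zero]
      obtain ⟨z, hz⟩ := mem_range_lTensor_torsionBySet (B := B) J hJ (θ.symm n) hx
      refine ⟨z, ?_⟩
      show θ (j z) = n
      have : j z = θ.symm n := hz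
      rw [this, LinearEquiv.apply_symm_apply]
  let e1 : B ⊗[A] (Submodule.torsionBySet A M (J : Set A)) ≃ₗ[B]
      Submodule.torsionBySet B N ((J.map (algebraMap A B) : Ideal B) : Set B) :=
    (LinearEquiv.ofInjective ψ hψ).trans (LinearEquiv.ofEq _ _ hrange)
  let e2 : B ⊗[A] (Submodule.torsionBySet A M (J : Set A)) ≃ₗ[B] B ⊗[A] (ι →₀ A ⧸ J) :=
    LinearEquiv.baseChange A B _ _ α
  let e3 : B ⊗[A] (ι →₀ A ⧸ J) ≃ₗ[B] (ι →₀ B ⊗[A] (A ⧸ J)) :=
    TensorProduct.finsuppRight A B B (A ⧸ J) ι
  let e4 : B ⊗[A] (A ⧸ J) ≃ₗ[B] B ⧸ J.map (algebraMap A B) :=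
    (Algebra.TensorProduct.quotIdealMapEquivTensorQuot B J).symm.toLinearEquiv
  let e5 : (ι →₀ B ⊗[A] (A ⧸ J)) ≃ₗ[B] (ι →₀ B ⧸ J.map (algebraMap A B)) :=
    Finsupp.mapRange.linearEquiv e4
  exact ⟨e1.symm.trans (e2.trans (e3.trans e5))⟩

end FlatTorsion

section Ext

/-- Relative Baer: a module `P` over `R ⧸ J` satisfying Baer's criterion over `R ⧸ J`; an `R`-linear
map from an ideal `𝔞` of `R` to `P` vanishing on `J ∩ 𝔞` is multiplication by an element. -/
theorem exists_smul_eq_of_baer_quotient {R : Type u} [CommRing R] (J : Ideal R)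
    {P : Type u} [AddCommGroup P] [Module R P] [Module (R ⧸ J) P] [IsScalarTower R (R ⧸ J) P]
    (hP : Module.Baer (R ⧸ J) P) (𝔞 : Ideal R) (g : 𝔞 →ₗ[R] P)
    (hg : ∀ z : 𝔞, (z : R) ∈ J → g z = 0) : ∃ q : P, ∀ z : 𝔞, g z = (z : R) • q := by
  classical
  let I : Ideal (R ⧸ J) := 𝔞.map (Ideal.Quotient.mk J)
  have hex : ∀ w : I, ∃ z : 𝔞, Ideal.Quotient.mk J (z : R) = (w : R ⧸ J) := by
    intro w
    obtain ⟨z, hz, hzw⟩ :=
      (Ideal.mem_map_iff_of_surjective _ Ideal.Quotient.mk_surjective).mp w.2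
    exact ⟨⟨z, hz⟩, hzw⟩
  have hwd : ∀ z z' : 𝔞, Ideal.Quotient.mk J (z : R) = Ideal.Quotient.mk J (z' : R) →
      g z = g z' := by
    intro z z' h
    have h1 : ((z - z' : 𝔞) : R) ∈ J := by
      rw [AddSubgroupClass.coe_sub]
      exact Ideal.Quotient.eq.mp h
    have := hg (z - z') h1
    rwa [map_sub, sub_eq_zero] at this
  have hsm : ∀ (r : R) (y : P), (Ideal.Quotient.mk J r) • y = r • y := by
    intro r y
    rw [← Ideal.Quotient.algebraMap_eq, algebraMap_smul]
  let gbar : I →ₗ[R ⧸ J] P :=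
    { toFun := fun w => g (hex w).choose
      map_add' := fun w w' => by
        rw [← map_add]
        apply hwd
        rw [(hex (w + w')).choose_spec, Submodule.coe_add, Submodule.coe_add, map_add,
          (hex w).choose_spec, (hex w').choose_spec]
      map_smul' := fun c w => by
        obtain ⟨r, rfl⟩ := Ideal.Quotient.mk_surjective c
        rw [RingHom.id_apply, hsm, ← map_smul]
        apply hwd
        rw [(hex _).choose_spec, Submodule.coe_smul, Submodule.coe_smul, smul_eq_mul,
          smul_eq_mul, map_mul, (hex w).choose_spec] }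
  obtain ⟨g', hg'⟩ := hP I gbar
  refine ⟨g' 1, fun z => ?_⟩
  have hz : Ideal.Quotient.mk J (z : R) ∈ I := Ideal.mem_map_of_mem _ z.2
  have h1 : g z = gbar ⟨_, hz⟩ := hwd _ _ ((hex ⟨_, hz⟩).choose_spec).symm
  rw [h1, ← hg' _ hz]
  calc g' (Ideal.Quotient.mk J (z : R))
      = g' ((Ideal.Quotient.mk J (z : R)) • (1 : R ⧸ J)) := by rw [smul_eq_mul, mul_one]
    _ = (Ideal.Quotient.mk J (z : R)) • g' 1 := map_smul _ _ _
    _ = (z : R) • g' 1 := hsm _ _

end Ext

section SelfInj

open RingTheory.Sequence LocCoh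

/-- The quotient of a regular local ring by powers of a regular system of parameters is
self-injective. -/
theorem injective_quotient_pow (R : Type u) [CommRing R] [IsRegularLocalRing R] (xs : List R)
    (hxs : Ideal.ofList xs = maximalIdeal R) (hreg : IsWeaklyRegular R xs) (v : ℕ) (hv : 1 ≤ v)
    (I : Ideal R) (hI : I = Ideal.span (Set.range fun i : Fin xs.length => xs[i] ^ v)) :
    Module.Injective (R ⧸ I) (R ⧸ I) := by
  classical
  have h1 : xs = List.ofFn (fun i : Fin xs.length => xs[i]) :=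
    (List.ofFn_getElem (xs := xs)).symm
  have hregl : IsWeaklyRegular R (List.ofFn (fun i : Fin xs.length => xs[i] ^ v)) := by
    apply Groth.Agent.Helper8.RegPow.isWeaklyRegular_ofFn_pow xs.length R _ (fun _ => v)
      (fun _ => hv)
    rw [← h1]
    exact hreg
  have hlI : Ideal.ofList (List.ofFn (fun i : Fin xs.length => xs[i] ^ v)) = I := by
    rw [hI]
    unfold Ideal.ofList
    congr 1
    ext x
    simp [List.mem_ofFn]
  have hxm : ∀ i : Fin xs.length, xs[i] ∈ maximalIdeal R := by
    intro i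
    rw [← hxs]
    exact Ideal.subset_span (List.getElem_mem i.2)
  have hmem : ∀ y ∈ List.ofFn (fun i : Fin xs.length => xs[i] ^ v), y ∈ maximalIdeal R := by
    intro y hy
    rw [List.mem_ofFn] at hy
    obtain ⟨i, rfl⟩ := hy
    exact Ideal.pow_mem_of_mem _ (hxm i) v hv
  have hkos := (Groth.Agent.Helper8.KoszulLib.koszul_regular _ hregl).1
  have hG0 := Groth.Agent.Helper3.KosBC.isGorensteinLocalRing_quot_of_koszulRegular R
      (Groth.Agent.Helper8.ABS.isGorensteinLocalRing_of_isRegularLocalRing R) _ hmem hkos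
  rw [hlI] at hG0
  haveI : IsGorensteinLocalRing (R ⧸ I) := hG0
  haveI : IsLocalRing (R ⧸ I) := hG0.toIsLocalRing
  haveI : IsNoetherianRing (R ⧸ I) := inferInstance
  have hIne : I ≠ ⊤ := Ideal.Quotient.nontrivial_iff.mp inferInstance
  have hrad : maximalIdeal R ≤ I.radical := by
    rw [← hxs]
    unfold Ideal.ofList
    rw [Ideal.span_le]
    intro y hy
    obtain ⟨i, hi, rfl⟩ := List.getElem_of_mem hy
    refine ⟨v, ?_⟩
    rw [hI]
    exact Ideal.subset_span ⟨⟨i, hi⟩, rfl⟩
  obtain ⟨N, hN⟩ := Ideal.exists_pow_le_of_le_radical_of_fg hrad (IsNoetherian.noetherian _)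
  haveI : IsLocalHom (Ideal.Quotient.mk I) :=
    IsLocalHom.of_surjective _ Ideal.Quotient.mk_surjective
  have hmap : (maximalIdeal R).map (Ideal.Quotient.mk I) = maximalIdeal (R ⧸ I) := by
    ext x
    obtain ⟨x, rfl⟩ := Ideal.Quotient.mk_surjective x
    simp [sup_eq_left.mpr (le_maximalIdeal hIne)]
  haveI : IsArtinianRing (R ⧸ I) := by
    rw [isArtinianRing_iff_isNilpotent_maximalIdeal]
    refine ⟨N, ?_⟩
    rw [← hmap, ← Ideal.map_pow, Ideal.zero_eq_bot, Ideal.map_eq_bot_iff_le_ker, Ideal.mk_ker]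
    exact hN
  have hsoc :=
    (Groth.Agent.Helper8.GorArt.isGorensteinLocalRing_iff_length_soc_le_one (R ⧸ I)).mp hG0
  exact (Groth.Agent.Helper8.GorArt.baer_of_length_soc_le_one (R ⧸ I) hsoc).injective

end SelfInj

section Main

variable (p : ℕ) [hp : Fact p.Prime] (R : Type u) [CommRing R] [IsRegularLocalRing R] [CharP R p]
  (M : Type u) [AddCommGroup M] [Module R M]

open RingTheory.Sequence in
/-- Baer's criterion for the maximal ideal for a Frobenius-stable power-torsion module. -/
theorem baer_of_frobenius_iso (hM : LocCoh.IsPowerTorsion (maximalIdeal R) M)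
    (h : Nonempty ((ModuleCat.extendScalars (frobenius R p)).obj (ModuleCat.of R M) ≅
      ModuleCat.of R M))
    (g : maximalIdeal R →ₗ[R] M) : ∃ y : M, ∀ x : maximalIdeal R, g x = (x : R) • y := by
  classical
  obtain ⟨e⟩ := h
  obtain ⟨xs, hxs, -, hreg⟩ := Groth.Agent.Helper8.FlatReg.exists_regular_generators R
  have hflat : (frobenius R p).Flat :=
    Groth.Agent.Helper8.Kunz.frobenius_flat_of_isRegularLocalRing p
  have hp1 : 1 < p := hp.out.one_lt
  have hxm : ∀ i : Fin xs.length, xs[i] ∈ maximalIdeal R := by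
    intro i
    rw [← hxs]
    exact Ideal.subset_span (List.getElem_mem i.2)
  -- the Frobenius powers of the maximal ideal
  let Jf : ℕ → Ideal R := fun k => Ideal.span (Set.range fun i : Fin xs.length => xs[i] ^ p ^ k)
  have hJ0 : Jf 0 = maximalIdeal R := by
    show Ideal.span (Set.range fun i : Fin xs.length => xs[i] ^ p ^ 0) = _
    simp only [pow_zero, pow_one]
    rw [← hxs]
    unfold Ideal.ofList
    congr 1
    ext y
    constructor
    · rintro ⟨i, rfl⟩
      exact List.getElem_mem i.2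
    · intro hy
      obtain ⟨i, hi, rfl⟩ := List.getElem_of_mem hy
      exact ⟨⟨i, hi⟩, rfl⟩
  have hstep : ∀ k, (Jf k).map (frobenius R p) = Jf (k + 1) := by
    intro k
    show (Ideal.span (Set.range fun i : Fin xs.length => xs[i] ^ p ^ k)).map (frobenius R p) =
      Ideal.span (Set.range fun i : Fin xs.length => xs[i] ^ p ^ (k + 1))
    rw [Ideal.map_span, ← Set.range_comp]
    congr 2
    funext i
    show frobenius R p (xs[i] ^ p ^ k) = xs[i] ^ p ^ (k + 1)
    rw [frobenius_def, ← pow_mul, ← pow_succ]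
  -- a basis of the socle
  obtain ⟨ι, ⟨α0⟩⟩ : ∃ ι : Type u, Nonempty (Submodule.torsionBySet R M (maximalIdeal R : Set R)
      ≃ₗ[R] (ι →₀ R ⧸ maximalIdeal R)) := by
    let S : Submodule R M := LocCoh.torsionBy (maximalIdeal R) M
    letI : Module (ResidueField R) S := Groth.Agent.Helper5.DMod1732.socleModule (R := R) M
    haveI : IsScalarTower R (ResidueField R) S :=
      Groth.Agent.Helper5.DMod1732.socle_isScalarTower (R := R) M
    let b := Module.Basis.ofVectorSpace (ResidueField R) S
    refine ⟨Module.Basis.ofVectorSpaceIndex (ResidueField R) S, ⟨?_⟩⟩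
    exact b.repr.restrictScalars R
  have hall : ∀ k, Nonempty (Submodule.torsionBySet R M (Jf k : Set R) ≃ₗ[R]
      (ι →₀ R ⧸ Jf k)) := by
    intro k
    induction k with
    | zero => rw [hJ0]; exact ⟨α0⟩
    | succ k ih =>
      obtain ⟨α⟩ := ih
      exact nonempty_torsionBySet_equiv (A := R) (B := R)
        (algAB := (frobenius R p).toAlgebra) (flatAB := hflat) (M := M) (Jf k)
        (IsNoetherian.noetherian _) (N := M) e.toLinearEquiv (Jf (k + 1)) (hstep k) α
  -- exponents
  have hfin : ∃ n, ∀ i : Fin xs.length, ∀ a ∈ maximalIdeal R ^ n,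
      a • g ⟨xs[i], hxm i⟩ = 0 := by
    choose nn hnn using fun i : Fin xs.length => hM (g ⟨xs[i], hxm i⟩)
    refine ⟨∑ i, nn i, fun i a ha => hnn i a (Ideal.pow_le_pow_right
      (Finset.single_le_sum (fun _ _ => Nat.zero_le _) (Finset.mem_univ i)) ha)⟩
  obtain ⟨n, hn⟩ := hfin
  have hpn : n + 1 < p ^ (n + 1) := Nat.lt_pow_self hp1
  have hN1 : n ≤ p ^ (n + 1) - 1 := by omega
  have hNpos : 1 ≤ p ^ (n + 1) := by omega
  have hJm : Jf (n + 1) ≤ maximalIdeal R := by
    show Ideal.span (Set.range fun i : Fin xs.length => xs[i] ^ p ^ (n + 1)) ≤ _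
    rw [Ideal.span_le]
    rintro _ ⟨i, rfl⟩
    exact Ideal.pow_mem_of_mem _ (hxm i) _ hNpos
  have hA : ∀ z : maximalIdeal R, (z : R) ∈ Jf (n + 1) → g z = 0 := by
    intro z hz
    have hle : Jf (n + 1) ≤ (LinearMap.ker g).map (maximalIdeal R).subtype := by
      show Ideal.span (Set.range fun i : Fin xs.length => xs[i] ^ p ^ (n + 1)) ≤ _
      rw [Ideal.span_le]
      rintro _ ⟨i, rfl⟩
      refine ⟨xs[i] ^ (p ^ (n + 1) - 1) • ⟨xs[i], hxm i⟩, ?_, ?_⟩
      · rw [SetLike.mem_coe, LinearMap.mem_ker, map_smul]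
        exact hn i _ (Ideal.pow_le_pow_right hN1 (Ideal.pow_mem_pow (hxm i) _))
      · show xs[i] ^ (p ^ (n + 1) - 1) * xs[i] = xs[i] ^ p ^ (n + 1)
        rw [← pow_succ, Nat.sub_add_cancel hNpos]
    obtain ⟨w, hw, hwz⟩ := hle hz
    have hwz' : w = z := Subtype.ext hwz
    rw [← hwz']
    exact hw
  have hB : ∀ z : maximalIdeal R, g z ∈ Submodule.torsionBySet R M (Jf (n + 1) : Set R) := by
    intro z
    rw [Submodule.mem_torsionBySet_iff]
    rintro ⟨a, ha⟩
    show a • g z = 0
    have ham : a ∈ maximalIdeal R := hJm ha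
    have h1 : a • z = (z : R) • (⟨a, ham⟩ : maximalIdeal R) := by
      apply Subtype.ext
      show a * (z : R) = (z : R) * a
      exact mul_comm _ _
    rw [← map_smul, h1, map_smul, hA ⟨a, ham⟩ ha, smul_zero]
  obtain ⟨α⟩ := hall (n + 1)
  let g' : maximalIdeal R →ₗ[R] Submodule.torsionBySet R M (Jf (n + 1) : Set R) :=
    LinearMap.codRestrict _ g hB
  let ψ : maximalIdeal R →ₗ[R] (ι →₀ R ⧸ Jf (n + 1)) := α.toLinearMap ∘ₗ g'
  have hψ : ∀ z : maximalIdeal R, (z : R) ∈ Jf (n + 1) → ψ z = 0 := by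
    intro z hz
    have : g' z = 0 := Subtype.ext (hA z hz)
    show α (g' z) = 0
    rw [this, map_zero]
  haveI hinj : Module.Injective (R ⧸ Jf (n + 1)) (R ⧸ Jf (n + 1)) :=
    injective_quotient_pow R xs hxs hreg (p ^ (n + 1)) hNpos (Jf (n + 1)) rfl
  haveI : IsNoetherianRing (R ⧸ Jf (n + 1)) := inferInstance
  have hPinj : Module.Injective (R ⧸ Jf (n + 1)) (ι →₀ R ⧸ Jf (n + 1)) :=
    Groth.Agent.Helper1.InjHullL.injective_of_linearEquiv
      (finsuppLEquivDirectSum (R ⧸ Jf (n + 1)) (R ⧸ Jf (n + 1)) ι).symm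
      (Groth.Agent.Helper1.InjHullL.injective_directSum (fun _ : ι => R ⧸ Jf (n + 1))
        (fun _ => hinj))
  have hbaer : Module.Baer (R ⧸ Jf (n + 1)) (ι →₀ R ⧸ Jf (n + 1)) :=
    Module.Baer.of_injective hPinj
  obtain ⟨q, hq⟩ := exists_smul_eq_of_baer_quotient (Jf (n + 1)) hbaer (maximalIdeal R) ψ hψ
  refine ⟨((α.symm q : Submodule.torsionBySet R M (Jf (n + 1) : Set R)) : M), fun z => ?_⟩
  have h1 : g' z = α.symm (ψ z) := (α.symm_apply_apply (g' z)).symm
  have h2 : g z = ((g' z : Submodule.torsionBySet R M (Jf (n + 1) : Set R)) : M) := rfl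
  rw [h2, h1, hq z, map_smul]
  rfl

/-- **S0338**: a Frobenius-stable power-torsion module over a regular local ring of characteristic
`p` is a direct sum of copies of the injective hull of the residue field. -/
theorem main (E : Type u) [AddCommGroup E] [Module R E] (f : ResidueField R →ₗ[R] E)
    (hf : InjHull.IsInjectiveHull f) (hM : LocCoh.IsPowerTorsion (maximalIdeal R) M)
    (h : Nonempty ((ModuleCat.extendScalars (frobenius R p)).obj (ModuleCat.of R M) ≅
      ModuleCat.of R M)) : ∃ ι : Type u, Nonempty (M ≃ₗ[R] (ι →₀ E)) :=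
  Groth.Agent.Helper5.DMod1732.exists_equiv_finsupp f hf hM (baer_of_frobenius_iso p R M hM h)

end Main

end Groth.Agent.Helper8.FrobTors
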