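import Mathlib.Algebra.Group.ForwardDiff
import Mathlib.Tactic

/-! Forward differences of powers (seat helper8). -/

set_option autoImplicit false

namespace Groth.Agent.Helper8

open Finset fwdDiff

theorem two_mul_choose_succ_two (n : ℕ) : 2 * (n + 1).choose 2 = (n + 1) * n := by
  induction n with
  | zero => simp
  | succ n ih =>
    rw [Nat.choose_succ_succ (n + 1) 1, Nat.choose_one_right, mul_add, ih]
    ring

theorem fwdDiff_pow_eq (k : ℕ) :
    (Δ_[1] fun (r : ℤ) ↦ r ^ k) = ∑ i ∈ range k, k.choose i • fun (r : ℤ) ↦ r ^ i := by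
  ext x
  simp [nsmul_eq_mul, fwdDiff, add_pow, sum_range_succ, mul_comm]

/-- The `n`-th forward difference of `x ↦ x ^ (n + 1)`. -/
theorem fwdDiff_iter_pow_succ (n : ℕ) :
    Δ_[1]^[n] (fun (r : ℤ) ↦ r ^ (n + 1)) =
      fun x => ((n + 1).factorial : ℤ) * x + (((n + 1).choose 2 * n.factorial : ℕ) : ℤ) := by
  induction n with
  | zero =>
    funext x
    simp
  | succ n ih =>
    rw [Function.iterate_succ_apply, fwdDiff_pow_eq, fwdDiff_iter_finsetSum]
    simp_rw [fwdDiff_iter_const_smul]
    rw [sum_range_succ, sum_range_succ, sum_eq_zero (fun i hi => ?_), zero_add, ih,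
      fwdDiff_iter_eq_factorial]
    · funext x
      have h2 := two_mul_choose_succ_two n
      have h3 := two_mul_choose_succ_two (n + 1)
      have hc : (n + 1 + 1).choose n = (n + 1 + 1).choose 2 := by
        rw [← Nat.choose_symm (by omega : n ≤ n + 1 + 1)]
        congr 1
        omega
      have hc' : (n + 1 + 1).choose (n + 1) = n + 1 + 1 := by
        rw [← Nat.choose_symm (by omega : n + 1 ≤ n + 1 + 1)]
        simp
      simp only [Pi.add_apply, nsmul_eq_mul, hc, hc', Pi.natCast_apply, Pi.mul_apply]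
      have e1 : ((n + 1 + 1).factorial : ℤ) = (n + 1 + 1) * ((n + 1) * (n.factorial : ℤ)) := by
        push_cast [Nat.factorial_succ]
        ring
      have e2 : ((n + 1).factorial : ℤ) = (n + 1) * (n.factorial : ℤ) := by
        push_cast [Nat.factorial_succ]
        ring
      have h2' : (2 : ℤ) * ((n + 1).choose 2 : ℤ) = (n + 1) * n := by exact_mod_cast h2
      have h3' : (2 : ℤ) * ((n + 1 + 1).choose 2 : ℤ) = (n + 1 + 1) * (n + 1) := by exact_mod_cast h3
      push_cast
      rw [e1, e2]
      apply mul_left_cancel₀ (two_ne_zero : (2 : ℤ) ≠ 0)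
      linear_combination (-(n : ℤ) * (n.factorial : ℤ)) * h3'
        + ((n : ℤ) + 2) * (n.factorial : ℤ) * h2'
    · rw [fwdDiff_iter_pow_eq_zero_of_lt (by have := mem_range.1 hi; omega), smul_zero]

/-- The alternating binomial sum of `j ^ k` is an iterated forward difference at `0`. -/
theorem altSum_eq_fwdDiff (n k : ℕ) :
    (∑ j ∈ Finset.range (n + 1), (-1 : ℤ) ^ (n - j) * (n.choose j : ℤ) * (j : ℤ) ^ k) =
      Δ_[1]^[n] (fun (r : ℤ) ↦ r ^ k) 0 := by
  rw [fwdDiff_iter_eq_sum_shift]
  refine Finset.sum_congr rfl fun j _ => ?_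
  simp

/-- Alternating binomial sums of powers (Stirling numbers in the top three degrees). -/
theorem altSum_pow (n k : ℕ) (hk : k ≤ n + 1) :
    (∑ j ∈ Finset.range (n + 1), (-1 : ℤ) ^ (n - j) * (n.choose j : ℤ) * (j : ℤ) ^ k) =
      (if k = n + 1 then (((n + 1).choose 2 * n.factorial : ℕ) : ℤ)
        else if k = n then (n.factorial : ℤ) else 0) := by
  rw [altSum_eq_fwdDiff]
  split_ifs with h1 h2
  · subst h1
    rw [fwdDiff_iter_pow_succ]
    simp
  · subst h2
    rw [fwdDiff_iter_eq_factorial]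
    simp
  · have hlt : k < n := by omega
    rw [fwdDiff_iter_pow_eq_zero_of_lt hlt]
    simp

end Groth.Agent.Helper8
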