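import Mathlib
import Groth.Prelude.Def_Wider
import Groth.Agent.Lib.Helper8.LC51
import Groth.Agent.Lib.Helper8.LC8
import Groth.Agent.Lib.Helper8.Depth19

/-!
# Local cohomology at a maximal ideal and localization (helper8)

For a maximal ideal `m` of a Noetherian ring `R`:
* an `m`-power torsion module is isomorphic to its localization at `m` (`mkLinearMap_bijective`);
* `H^i_m(M)_m ≅ H^i_{mR_m}(M_m)` and, for `M = R`, `≅ H^i_{max}(R_m)` (`nonempty_locH_equiv`).
-/

set_option autoImplicit false
universe u
open CategoryTheory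

namespace Groth.Agent.Helper8.GB

open LocCoh IsLocalRing

variable {R : Type u} [CommRing R] (m : Ideal R) [hm : m.IsMaximal]

section Torsion

variable {T : Type u} [AddCommGroup T] [Module R T] (hT : IsPowerTorsion m T)

include hm in
lemma exists_mul_add_eq_one {s : R} (hs : s ∉ m) (N : ℕ) : ∃ r : R, ∃ a ∈ m ^ N, r * s + a = 1 := by
  have h1 : Ideal.span {s} ⊔ m = ⊤ := by
    apply hm.1.2
    refine lt_of_le_of_ne le_sup_right ?_
    intro h
    apply hs
    rw [h]
    exact Ideal.mem_sup_left (Ideal.mem_span_singleton_self s)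
  have h2 : Ideal.span {s} ⊔ m ^ N = ⊤ := Ideal.sup_pow_eq_top h1
  have h3 : (1 : R) ∈ Ideal.span {s} ⊔ m ^ N := by rw [h2]; exact Submodule.mem_top
  obtain ⟨y, hy, a, ha, hya⟩ := Submodule.mem_sup.mp h3
  obtain ⟨r, rfl⟩ := Ideal.mem_span_singleton'.mp hy
  exact ⟨r, a, ha, hya⟩

include hm hT in
/-- elements outside `m` act bijectively on an `m`-power torsion module -/
lemma smul_bijective_of_notMem {s : R} (hs : s ∉ m) : Function.Bijective (fun x : T => s • x) := by
  constructor
  · intro x y hxy
    have h0 : s • (x - y) = 0 := by rw [smul_sub, sub_eq_zero]; exact hxy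
    obtain ⟨N, hN⟩ := hT (x - y)
    obtain ⟨r, a, ha, hra⟩ := exists_mul_add_eq_one m hs N
    have : x - y = 0 := by
      rw [← one_smul R (x - y), ← hra, add_smul, mul_smul, h0, smul_zero, hN a ha, add_zero]
    exact sub_eq_zero.mp this
  · intro x
    obtain ⟨N, hN⟩ := hT x
    obtain ⟨r, a, ha, hra⟩ := exists_mul_add_eq_one m hs N
    refine ⟨r • x, ?_⟩
    show s • r • x = x
    conv_rhs => rw [← one_smul R x, ← hra, add_smul, hN a ha, add_zero]
    rw [← mul_smul, mul_comm]

include hm hT in
/-- an `m`-power torsion module is its own localization at `m` -/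
theorem mkLinearMap_bijective :
    Function.Bijective (LocalizedModule.mkLinearMap m.primeCompl T) := by
  haveI := hm.isPrime
  constructor
  · refine (injective_iff_map_eq_zero _).mpr ?_
    intro x hx
    rw [LocalizedModule.mkLinearMap_apply, ← LocalizedModule.zero_mk (1 : m.primeCompl),
      LocalizedModule.mk_eq] at hx
    obtain ⟨u, hu⟩ := hx
    simp only [one_smul, smul_zero] at hu
    exact (smul_bijective_of_notMem m hT u.2).1 (by
      show (u : R) • x = (u : R) • 0
      rw [smul_zero]
      exact hu)
  · intro y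
    induction y using LocalizedModule.induction_on with
    | h x s =>
      obtain ⟨z, hz⟩ := (smul_bijective_of_notMem m hT s.2).2 x
      refine ⟨z, ?_⟩
      rw [LocalizedModule.mkLinearMap_apply, LocalizedModule.mk_eq]
      refine ⟨1, ?_⟩
      simp only [one_smul]
      exact hz

/-- the `R`-linear isomorphism between an `m`-power torsion module and its localization -/
noncomputable def torsionEquiv : T ≃ₗ[R] LocalizedModule m.primeCompl T :=
  LinearEquiv.ofBijective (LocalizedModule.mkLinearMap m.primeCompl T) (mkLinearMap_bijective m hT)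

lemma torsionEquiv_apply (x : T) : torsionEquiv m hT x = LocalizedModule.mk x 1 := rfl

end Torsion

section LocH

variable [IsNoetherianRing R]

/-- functoriality of local cohomology in isomorphisms of the module -/
noncomputable def HCongr {A : Type u} [CommRing A] (J : Ideal A) (i : ℕ) {M N : Type u}
    [AddCommGroup M] [Module A M] [AddCommGroup N] [Module A N] (e : M ≃ₗ[A] N) :
    H J i M ≃ₗ[A] H J i N :=
  ((localCohomology J i).mapIso e.toModuleIso).toLinearEquiv

include hm in
/-- `H^i_m(R)_m ≅ H^i_{max}(R_m)` -/
theorem nonempty_locH_equiv (i : ℕ) :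
    Nonempty (LocalizedModule m.primeCompl (H m i R) ≃ₗ[Localization.AtPrime m]
      H (maximalIdeal (Localization.AtPrime m)) i (Localization.AtPrime m)) := by
  haveI := hm.isPrime
  obtain ⟨e₁⟩ := Groth.Agent.Helper8.LC.nonempty_localizedModule_H_equiv m m.primeCompl R i
  have hJ : Ideal.map (algebraMap R (Localization m.primeCompl)) m =
      maximalIdeal (Localization.AtPrime m) := Localization.AtPrime.map_eq_maximalIdeal
  rw [← hJ]
  exact ⟨e₁.trans (HCongr _ i (Groth.Agent.Helper8.Depth.localizedModuleSelfEquiv m))⟩

end LocH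

end Groth.Agent.Helper8.GB
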