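import Mathlib
import Groth.Prelude.Def_GrLC
import Groth.Agent.Lib.Helper9.GrLC.Basic
import Groth.Agent.Lib.Helper9.GrLC.Pos

/-!
# Graded rings defined over a field: the irrelevant ideal and the *injective envelope of the residue field
(helper8)

`FieldGr 𝒜 m`: `R = ⊕_{n ≥ 0} R_n` with `R_0` a field and `m = R_+`.
Structure of a *injective envelope `e : R/m → E'`: `E'` vanishes in positive degrees, its degree-zero piece is
the image of `e`, and every nonzero homogeneous element of degree `j` is moved into a nonzero element of degree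
`0` by some element of `R_{-j}`.
-/

set_option autoImplicit false
set_option linter.unusedSectionVars false
universe u
open DirectSum

namespace Groth.Agent.Helper8.GD
open Groth.Agent.Helper9.GrLCLib

variable {R : Type u} [CommRing R] (𝒜 : ℤ → AddSubgroup R) [GradedRing 𝒜]

/-- `R` is a graded ring defined over a field with irrelevant ideal `m` -/
structure FieldGr (m : HomogeneousIdeal 𝒜) : Prop where
  pos : ∀ n : ℤ, n < 0 → 𝒜 n = ⊥
  field : IsField (GrLC.deg0 𝒜)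
  span : m.toIdeal = Ideal.span (⋃ n ∈ Set.Ioi (0 : ℤ), (𝒜 n : Set R))

variable {𝒜} {m : HomogeneousIdeal 𝒜} (hF : FieldGr 𝒜 m)

namespace FieldGr

include hF

lemma eq_zero_of_neg {k : ℤ} (hk : k < 0) {x : R} (hx : x ∈ 𝒜 k) : x = 0 := by
  rw [hF.pos k hk, AddSubgroup.mem_bot] at hx
  exact hx

lemma proj_neg {k : ℤ} (hk : k < 0) (x : R) : proj 𝒜 k x = 0 :=
  hF.eq_zero_of_neg hk (proj_mem 𝒜 k x)

lemma mem_of_pos {k : ℤ} (hk : 0 < k) {x : R} (hx : x ∈ 𝒜 k) : x ∈ m.toIdeal := by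
  rw [hF.span]
  apply Ideal.subset_span
  exact Set.mem_biUnion (Set.mem_Ioi.mpr hk) hx

lemma proj_zero_of_mem {x : R} (hx : x ∈ m.toIdeal) : proj 𝒜 0 x = 0 := by
  rw [hF.span] at hx
  induction hx using Submodule.closure_induction with
  | zero => exact map_zero _
  | add x y _ _ hx hy => rw [map_add, hx, hy, add_zero]
  | smul_mem r s hs =>
    simp only [Set.mem_iUnion, Set.mem_Ioi, SetLike.mem_coe] at hs
    obtain ⟨j, hj, hs⟩ := hs
    rw [proj_smul_of_mem_right' 𝒜 𝒜 hs r 0]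
    have : (decompose 𝒜 r (0 - j) : R) = 0 :=
      hF.eq_zero_of_neg (by omega) (decompose 𝒜 r (0 - j)).2
    rw [this, zero_smul]

lemma mem_iff (x : R) : x ∈ m.toIdeal ↔ proj 𝒜 0 x = 0 := by
  constructor
  · exact hF.proj_zero_of_mem
  · intro h
    apply Pos.mem_of_forall_proj_mem 𝒜
    intro k
    rcases lt_trichotomy k 0 with hk | rfl | hk
    · rw [hF.proj_neg hk]; exact zero_mem _
    · rw [h]; exact zero_mem _
    · exact hF.mem_of_pos hk (proj_mem 𝒜 k x)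

lemma sub_proj_zero_mem (x : R) : x - proj 𝒜 0 x ∈ m.toIdeal := by
  rw [hF.mem_iff, map_sub, proj_of_mem_same 𝒜 (proj_mem 𝒜 0 x), sub_self]

lemma one_notMem : (1 : R) ∉ m.toIdeal := by
  intro h
  have h1 := hF.proj_zero_of_mem h
  rw [proj_of_mem_same 𝒜 (SetLike.GradedOne.one_mem)] at h1
  haveI := hF.field.nontrivial
  have : (1 : GrLC.deg0 𝒜) = 0 := Subtype.ext h1
  exact one_ne_zero this

/-- inverses of nonzero degree-zero elements -/
lemma exists_inv {c : R} (hc : c ∈ 𝒜 0) (hc0 : c ≠ 0) : ∃ d ∈ 𝒜 0, c * d = 1 := by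
  have hne : (⟨c, hc⟩ : GrLC.deg0 𝒜) ≠ 0 := fun h => hc0 (congrArg Subtype.val h)
  obtain ⟨d, hd⟩ := hF.field.mul_inv_cancel hne
  exact ⟨d.1, d.2, congrArg Subtype.val hd⟩

lemma isMaximal : m.toIdeal.IsMaximal := by
  rw [Ideal.isMaximal_iff]
  refine ⟨hF.one_notMem, fun J x hmJ hxm hxJ => ?_⟩
  have hc0 : proj 𝒜 0 x ≠ 0 := fun h => hxm ((hF.mem_iff x).mpr h)
  obtain ⟨d, -, hd⟩ := hF.exists_inv (proj_mem 𝒜 0 x) hc0
  have h1 : proj 𝒜 0 x ∈ J := by
    have := J.sub_mem hxJ (hmJ (hF.sub_proj_zero_mem x))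
    rwa [sub_sub_cancel] at this
  rw [← hd]
  exact J.mul_mem_right d h1

end FieldGr

section Env

variable {E' : Type u} [AddCommGroup E'] [Module R E'] {𝓔 : ℤ → AddSubgroup E'}
  [DirectSum.Decomposition 𝓔] [SetLike.GradedSMul 𝒜 𝓔]
  {e : (R ⧸ m.toIdeal) →ₗ[R] E'} (he : GrLC.IsStarInjHull 𝒜 (GrLC.quotGr 𝒜 m) 𝓔 e)

include hF he

/-- the image of `e` lies in degree zero -/
lemma e_mem_zero (y : R ⧸ m.toIdeal) : e y ∈ 𝓔 0 := by
  obtain ⟨r, rfl⟩ := Ideal.Quotient.mk_surjective y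
  have h1 : Ideal.Quotient.mk m.toIdeal r = Ideal.Quotient.mk m.toIdeal (proj 𝒜 0 r) := by
    rw [Ideal.Quotient.eq]
    exact hF.sub_proj_zero_mem r
  rw [h1]
  apply he.grHom 0
  exact ⟨proj 𝒜 0 r, proj_mem 𝒜 0 r, rfl⟩

/-- a nonzero homogeneous element of `E'` of degree `j` is moved to a nonzero element of the image of `e`
by an element of `R_{-j}` -/
lemma exists_smul_ne_zero {j : ℤ} {x : E'} (hx : x ∈ 𝓔 j) (hx0 : x ≠ 0) :
    ∃ r ∈ 𝒜 (-j), r • x ≠ 0 ∧ r • x ∈ LinearMap.range e := by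
  have hP : (Submodule.span R {x}).IsHomogeneous 𝓔 := span_singleton_isHomogeneous 𝒜 𝓔 hx
  have hne : Submodule.span R {x} ≠ ⊥ := by
    intro h
    apply hx0
    have : x ∈ Submodule.span R {x} := Submodule.mem_span_singleton_self x
    rw [h, Submodule.mem_bot] at this
    exact this
  have hmeet := he.essential _ hP hne
  obtain ⟨z, hz, hz0⟩ := Submodule.exists_mem_ne_zero_of_ne_bot hmeet
  obtain ⟨hz1, y, rfl⟩ := hz
  obtain ⟨r, hr⟩ := Submodule.mem_span_singleton.mp hz1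
  refine ⟨decompose 𝒜 r (-j), (decompose 𝒜 r (-j)).2, ?_, ?_⟩
  · have h1 := proj_smul_of_mem_right' 𝒜 𝓔 hx r 0
    rw [hr, proj_of_mem_same 𝓔 (e_mem_zero hF he y), zero_sub] at h1
    rw [← h1]
    exact hz0
  · have h1 := proj_smul_of_mem_right' 𝒜 𝓔 hx r 0
    rw [hr, proj_of_mem_same 𝓔 (e_mem_zero hF he y), zero_sub] at h1
    rw [← h1]
    exact ⟨y, rfl⟩

/-- `E'` vanishes in positive degrees -/
lemma E_pos {j : ℤ} (hj : 0 < j) : 𝓔 j = ⊥ := by
  rw [eq_bot_iff]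
  intro x hx
  rw [AddSubgroup.mem_bot]
  by_contra hx0
  obtain ⟨r, hr, hrx, -⟩ := exists_smul_ne_zero hF he hx hx0
  apply hrx
  rw [hF.eq_zero_of_neg (by omega) hr, zero_smul]

lemma eq_zero_of_pos {j : ℤ} (hj : 0 < j) {x : E'} (hx : x ∈ 𝓔 j) : x = 0 := by
  rw [E_pos hF he hj, AddSubgroup.mem_bot] at hx
  exact hx

/-- on degree zero elements of `E'`, `R` acts through its degree zero component -/
lemma smul_zero_piece (r : R) {x : E'} (hx : x ∈ 𝓔 0) : r • x = proj 𝒜 0 r • x := by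
  apply eq_of_sub_eq_zero
  rw [← sub_smul]
  have hm := hF.sub_proj_zero_mem r
  set s := r - proj 𝒜 0 r with hs
  -- `s ∈ m` kills degree zero
  apply Pos.eq_zero_of_proj_eq_zero 𝓔
  intro k
  rw [proj_smul_of_mem_right' 𝒜 𝓔 hx s k, sub_zero]
  rcases lt_trichotomy k 0 with hk | rfl | hk
  · rw [show (decompose 𝒜 s k : R) = 0 from hF.eq_zero_of_neg hk (decompose 𝒜 s k).2, zero_smul]
  · have : (decompose 𝒜 s 0 : R) = 0 := (hF.mem_iff s).mp hm
    rw [this, zero_smul]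
  · have h1 : (decompose 𝒜 s k : R) • x ∈ 𝓔 (k + 0) := smul_mem_add 𝒜 𝓔 (decompose 𝒜 s k).2 hx
    rw [add_zero] at h1
    exact eq_zero_of_pos hF he hk h1

/-- the degree-zero piece of `E'` is the image of `e` -/
lemma mem_zero_iff (x : E') : x ∈ 𝓔 0 ↔ x ∈ LinearMap.range e := by
  constructor
  · intro hx
    by_cases hx0 : x = 0
    · rw [hx0]; exact zero_mem _
    obtain ⟨r, hr, hrx, y, hy⟩ := exists_smul_ne_zero hF he hx hx0
    rw [neg_zero] at hr
    have hr0 : r ≠ 0 := fun h => hrx (by rw [h, zero_smul])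
    obtain ⟨d, -, hd⟩ := hF.exists_inv hr hr0
    refine ⟨d • y, ?_⟩
    rw [map_smul, hy, ← mul_smul, mul_comm, hd, one_smul]
  · rintro ⟨y, rfl⟩
    exact e_mem_zero hF he y

end Env

end Groth.Agent.Helper8.GD
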