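import Mathlib
import Groth.Prelude.Def_GrLC
import Groth.Prelude.Def_GrLC2
import Groth.Prelude.Def_CAlg
import Groth.Agent.S18636
import Groth.Agent.Lib.Helper8.GD1
import Groth.Agent.Lib.Helper8.Goren4
import Groth.Agent.Lib.Helper8.ExtLoc5
import Groth.Agent.Lib.Helper8.GorFlat5
import Groth.Agent.Lib.Helper8.Depth19

/-!
# The graded-local principle for the Gorenstein property (helper8)

For a Noetherian graded ring `R` defined over a field with irrelevant ideal `m`: if `R_m` is a Gorenstein local
ring then `R` is a Gorenstein ring.  Homogeneous primes lie in `m`, so their localizations are localizations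
of `R_m`; a non-homogeneous prime `p` is handled through the Bass number formula `μ_{i+1}(p) = μ_i(p*)` of
helper6 (S18636) and Bass' criterion.
-/

set_option autoImplicit false
set_option linter.unusedSectionVars false
universe u
open DirectSum CategoryTheory

namespace Groth.Agent.Helper8.GB
open Groth.Agent.Helper9.GrLCLib Groth.Agent.Helper8.GD LocCoh IsLocalRing

section Bass

variable {R : Type u} [CommRing R] [IsNoetherianRing R] (q : Ideal R) [q.IsPrime]

/-- Bass numbers of a Gorenstein localization vanish eventually -/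
theorem exists_bassNum_eq_zero (hG : IsGorensteinLocalRing (Localization.AtPrime q)) :
    ∃ N : ℕ, ∀ i : ℕ, N ≤ i → GrLC.bassNum q R i = 0 := by
  obtain ⟨N, hN⟩ := hG.exists_hasInjectiveDimensionLT
  refine ⟨N, fun i hi => ?_⟩
  unfold GrLC.bassNum GrLC.bassNumLocal
  rw [Module.length_eq_zero_iff]
  have e : ModuleCat.of (Localization.AtPrime q) (Localization.AtPrime q) ≅
      ModuleCat.of (Localization.AtPrime q) (LocalizedModule q.primeCompl R) :=
    (Groth.Agent.Helper8.Depth.localizedModuleSelfEquiv q).symm.toModuleIso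
  haveI := hasInjectiveDimensionLT_of_iso e N
  exact HasInjectiveDimensionLT.subsingleton _ N i hi _

/-- Bass' criterion in terms of Bass numbers -/
theorem isGorensteinLocalRing_of_bassNum (N : ℕ) (h : ∀ i : ℕ, N ≤ i → GrLC.bassNum q R i = 0) :
    IsGorensteinLocalRing (Localization.AtPrime q) := by
  haveI : Module.Finite (Localization.AtPrime q) (LocalizedModule q.primeCompl R) :=
    Module.Finite.equiv (Groth.Agent.Helper8.Depth.localizedModuleSelfEquiv q).symm
  have h1 : HasInjectiveDimensionLT
      (ModuleCat.of (Localization.AtPrime q) (LocalizedModule q.primeCompl R)) N := by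
    apply Groth.Agent.Helper8.Goren.hasInjectiveDimensionLT_of_ext_residueField'
    intro i hi
    have h2 := h i hi
    unfold GrLC.bassNum GrLC.bassNumLocal at h2
    rw [Module.length_eq_zero_iff] at h2
    exact h2
  have e : ModuleCat.of (Localization.AtPrime q) (LocalizedModule q.primeCompl R) ≅
      ModuleCat.of (Localization.AtPrime q) (Localization.AtPrime q) :=
    (Groth.Agent.Helper8.Depth.localizedModuleSelfEquiv q).toModuleIso
  exact { exists_hasInjectiveDimensionLT := ⟨N, hasInjectiveDimensionLT_of_iso e N⟩ }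

end Bass

section Below

variable {R : Type u} [CommRing R] [IsNoetherianRing R] (m q : Ideal R) [m.IsPrime] [q.IsPrime]

/-- the localization at a prime below `m` of a ring with `R_m` Gorenstein is Gorenstein -/
theorem isGorensteinLocalRing_of_le (hqm : q ≤ m)
    (hG : IsGorensteinLocalRing (Localization.AtPrime m)) :
    IsGorensteinLocalRing (Localization.AtPrime q) := by
  let A := Localization.AtPrime m
  let Q : Ideal A := q.map (algebraMap R A)
  have hdisj : Disjoint (m.primeCompl : Set R) (q : Set R) := by
    rw [Set.disjoint_left]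
    intro x hx hxq
    exact hx (hqm hxq)
  haveI hQ : Q.IsPrime := IsLocalization.isPrime_of_isPrime_disjoint m.primeCompl A q inferInstance hdisj
  have hcomap : Q.comap (algebraMap R A) = q :=
    IsLocalization.under_map_of_isPrime_disjoint m.primeCompl A inferInstance hdisj
  have hGQ : IsGorensteinLocalRing (Localization.AtPrime Q) :=
    Groth.Agent.Helper8.ExtLoc.isGorensteinLocalRing_localization Q hG.exists_hasInjectiveDimensionLT
  have hS : (Q.comap (algebraMap R A)).primeCompl = q.primeCompl := by
    ext x
    show x ∉ Q.comap (algebraMap R A) ↔ x ∉ q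
    rw [hcomap]
  haveI : IsLocalization q.primeCompl (Localization.AtPrime Q) :=
    hS ▸ IsLocalization.isLocalization_atPrime_localization_atPrime m.primeCompl Q
  let e : Localization.AtPrime Q ≃+* Localization.AtPrime q :=
    (IsLocalization.algEquiv q.primeCompl (Localization.AtPrime Q) (Localization.AtPrime q)).toRingEquiv
  exact Groth.Agent.Helper8.GorFlat.isGorensteinLocalRing_of_ringEquiv e hGQ

end Below

section Main

variable {R : Type u} [CommRing R] [IsNoetherianRing R] {𝒜 : ℤ → AddSubgroup R} [GradedRing 𝒜]
  {m : HomogeneousIdeal 𝒜} (hF : FieldGr 𝒜 m)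

include hF in
/-- proper homogeneous ideals lie in the irrelevant ideal -/
theorem le_of_isHomogeneous {I : Ideal R} (hI : I.IsHomogeneous 𝒜) (hne : I ≠ ⊤) :
    I ≤ m.toIdeal := by
  intro x hx
  rw [hF.mem_iff]
  by_contra h0
  have h1 : proj 𝒜 0 x ∈ I := hI 0 hx
  obtain ⟨d, -, hd⟩ := hF.exists_inv (proj_mem 𝒜 0 x) h0
  apply hne
  rw [Ideal.eq_top_iff_one, ← hd]
  exact I.mul_mem_right d h1

include hF in
/-- **Graded-local principle**: `R` is Gorenstein as soon as `R_m` is. -/
theorem isGorensteinRing_of_atPrime [m.toIdeal.IsPrime]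
    (hG : IsGorensteinLocalRing (Localization.AtPrime m.toIdeal)) : IsGorensteinRing R := by
  refine { isGorensteinLocalRing_localization := fun p hp => ?_ }
  haveI := hp
  have hcore_le : (Ideal.homogeneousCore 𝒜 p).toIdeal ≤ m.toIdeal := by
    apply le_of_isHomogeneous hF (Ideal.homogeneousCore 𝒜 p).isHomogeneous
    intro h
    apply hp.ne_top
    rw [eq_top_iff, ← h]
    exact Ideal.toIdeal_homogeneousCore_le 𝒜 p
  haveI hcp : (Ideal.homogeneousCore 𝒜 p).toIdeal.IsPrime := Ideal.IsPrime.homogeneousCore hp
  have hGc : IsGorensteinLocalRing (Localization.AtPrime (Ideal.homogeneousCore 𝒜 p).toIdeal) :=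
    isGorensteinLocalRing_of_le m.toIdeal _ hcore_le hG
  by_cases hph : p.IsHomogeneous 𝒜
  · have hpm : p ≤ m.toIdeal := le_of_isHomogeneous hF hph hp.ne_top
    exact isGorensteinLocalRing_of_le m.toIdeal p hpm hG
  · obtain ⟨N, hN⟩ := exists_bassNum_eq_zero _ hGc
    obtain ⟨-, h2⟩ := Groth.Agent.S18636.result R 𝒜 R 𝒜 p hph
    apply isGorensteinLocalRing_of_bassNum p (N + 1)
    intro i hi
    obtain ⟨j, rfl⟩ : ∃ j, i = j + 1 := ⟨i - 1, by omega⟩
    rw [h2 j]
    exact hN j (by omega)

end Main

end Groth.Agent.Helper8.GB
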