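import Groth.Agent.Lib.Helper8.LD5

/-!
# Gorenstein local rings via local cohomology
-/

set_option autoImplicit false
universe u

namespace Groth.Agent.Helper8.LD

open CategoryTheory Abelian IsLocalRing LocCoh localCohomology RingTheory.Sequence
open Groth.Agent.Helper8.LC Groth.Agent.Helper8.Depth

/-- A Noetherian local ring is Gorenstein iff its local cohomology is concentrated in one degree
where it is injective. -/
theorem isGorensteinLocalRing_iff_H (A : Type u) [CommRing A] [IsLocalRing A]
    [IsNoetherianRing A] :
    IsGorensteinLocalRing A ↔ ∃ d : ℕ, (∀ i : ℕ, i ≠ d → Subsingleton (H (maximalIdeal A) i A)) ∧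
      Module.Injective A (H (maximalIdeal A) d A) := by
  have hmA : maximalIdeal A • (⊤ : Submodule A A) ≠ ⊤ := smul_top_ne_top_of_local A A
  constructor
  · intro hG
    have hCM : IsCohenMacaulayLocalRing A :=
      Groth.Agent.Helper8.Goren.isCohenMacaulayLocalRing_of_isGorensteinLocalRing A
    have hM : IsCohenMacaulayModule A A := hCM.supportDim_eq_depth
    obtain ⟨n, hn, hdepth⟩ := cm_exists_nat hM
    have hdim : ringKrullDim A = n := by rw [← Module.supportDim_self_eq_ringKrullDim, hn]
    refine ⟨n, fun i hi => ?_, ?_⟩
    · rcases Nat.lt_or_gt_of_ne hi with h | h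
      · exact subsingleton_of_lt_idealDepth (maximalIdeal A) hmA i (by
          change (i : ℕ∞) < depth A A
          rw [hdepth]; exact_mod_cast h)
      · apply subsingleton_of_supportDim_lt (maximalIdeal A)
        rw [hn]
        exact_mod_cast h
    · obtain ⟨g, hg⟩ := exists_isInjectiveHull_H_of_gorenstein A n hdim
      exact hg.isInjective
  · rintro ⟨d, hvan, hinj⟩
    -- depth
    obtain ⟨d₀, hd₀⟩ := ENat.ne_top_iff_exists.mp (idealDepth_ne_top (I := maximalIdeal A) hmA)
    have hnt := nontrivial_of_idealDepth_eq (maximalIdeal A) hmA d₀ hd₀.symm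
    have hdd : d₀ = d := by
      by_contra hne
      have := hvan d₀ hne
      exact not_subsingleton _ this
    subst hdd
    -- dimension
    obtain ⟨n, hn⟩ := exists_nat_supportDim (A := A) A
    have hdimA : ringKrullDim A = n := by rw [← Module.supportDim_self_eq_ringKrullDim, hn]
    have hnt2 := Groth.Agent.Helper8.NV.nontrivial_H_dim n hdimA
    have hnd : n = d₀ := by
      by_contra hne
      have := hvan n hne
      exact not_subsingleton _ this
    subst hnd
    have hM : IsCohenMacaulayModule A A := by
      unfold IsCohenMacaulayModule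
      rw [hn]
      change _ = ((idealDepth (maximalIdeal A) A : ℕ∞) : WithBot ℕ∞)
      rw [← hd₀]; rfl
    obtain ⟨xs, hreg, hmem, -, hlen⟩ := exists_maximal_isWeaklyRegular (M := A) hmA
    have hlen' : xs.length = n := by
      have : (xs.length : ℕ∞) = (n : ℕ∞) := hlen.trans hd₀.symm
      exact_mod_cast this
    have hkk : ∀ x ∈ xs, ∀ m : kk A, x • m = 0 := fun x hx m => smul_kk (hmem x hx) m
    have hcomp := mu_H_eq_of_regular (kk A) 1
      (fun a ha m => smul_kk (by rwa [pow_one] at ha) m) xs A hM (by rw [hn, hlen']) hreg hmem hkk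
    rw [hlen'] at hcomp
    haveI : Injective ((localCohomology (maximalIdeal A) n).obj (ModuleCat.of A A)) :=
      (Module.injective_iff_injective_object A _).mp hinj
    have hext : ∀ i : ℕ, n + 1 ≤ i →
        Subsingleton (Ext (ModuleCat.of A (A ⧸ maximalIdeal A)) (ModuleCat.of A A) i) := by
      intro i hi
      obtain ⟨j, rfl⟩ : ∃ j, i = (j + 1) + n := ⟨i - n - 1, by omega⟩
      have h1 := hcomp (j + 1)
      have h2 : mu (kk A) ((localCohomology (maximalIdeal A) n).obj (ModuleCat.of A A)) (j + 1) = 0 := by
        unfold mu
        have := Ext.subsingleton_of_injective (kk A)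
          ((localCohomology (maximalIdeal A) n).obj (ModuleCat.of A A)) j
        exact Module.length_eq_zero
      rw [h2] at h1
      exact Module.length_eq_zero_iff.mp h1.symm
    have hid := Groth.Agent.Helper8.Goren.hasInjectiveDimensionLT_of_ext_residueField' A (n + 1) hext
    exact { exists_hasInjectiveDimensionLT := ⟨n + 1, hid⟩ }

end Groth.Agent.Helper8.LD
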