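import Mathlib
import Groth.Prelude.Def_GrLC
import Groth.Prelude.Def_CAlg
import Groth.Agent.S18637
import Groth.Agent.Lib.Helper9.GrLC.GrH2
import Groth.Agent.Lib.Helper8.GB1
import Groth.Agent.Lib.Helper8.GB2
import Groth.Agent.Lib.Helper8.LD6

/-!
# A criterion for the Gorenstein property of a graded ring defined over a field (helper8)

`isGorensteinRing_of_H`: if the graded local cohomology of `R` with support in the irrelevant ideal vanishes
outside degree `n` and `H^n_m(R)` is isomorphic (as an `R`-module) to the *injective envelope of `R/m`, then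
`R` is a Gorenstein ring.
-/

set_option autoImplicit false
set_option linter.unusedSectionVars false
universe u
open DirectSum CategoryTheory

namespace Groth.Agent.Helper8.GB
open Groth.Agent.Helper9.GrLCLib Groth.Agent.Helper8.GD LocCoh IsLocalRing

section Inj

variable {R : Type u} [CommRing R]

theorem injective_of_linearEquiv {M N : Type u} [AddCommGroup M] [Module R M] [AddCommGroup N]
    [Module R N] (e : M ≃ₗ[R] N) (h : Module.Injective R M) : Module.Injective R N :=
  (Module.Baer.of_equiv e (Module.Baer.of_injective h)).injective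

theorem injective_of_subsingleton (N : Type u) [AddCommGroup N] [Module R N] [Subsingleton N] :
    Module.Injective R N := by
  apply Module.Baer.injective
  intro I g
  exact ⟨0, fun x hx => Subsingleton.elim _ _⟩

end Inj

section Crit

variable {R : Type u} [CommRing R] [IsNoetherianRing R] {𝒜 : ℤ → AddSubgroup R} [GradedRing 𝒜]
  {m : HomogeneousIdeal 𝒜} (hF : FieldGr 𝒜 m)
variable {E' : Type u} [AddCommGroup E'] [Module R E'] {𝓔 : ℤ → AddSubgroup E'}
  [DirectSum.Decomposition 𝓔] [SetLike.GradedSMul 𝒜 𝓔]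
  {e : (R ⧸ m.toIdeal) →ₗ[R] E'} (he : GrLC.IsStarInjHull 𝒜 (GrLC.quotGr 𝒜 m) 𝓔 e)

include hF he in
/-- **Criterion**: vanishing of `H^i_m(R)` for `i ≠ n` and `H^n_m(R) ≅ *E(R/m)` force `R` to be Gorenstein. -/
theorem isGorensteinRing_of_H (I : GrLC.StarInjRes 𝒜 𝒜) (n : ℕ)
    (hvan : ∀ i : ℕ, i ≠ n → Subsingleton (I.H m i)) (ψ : I.H m n ≃ₗ[R] E') :
    IsGorensteinRing R := by
  haveI hmax : m.toIdeal.IsMaximal := hF.isMaximal
  haveI hprime : m.toIdeal.IsPrime := hmax.isPrime
  apply isGorensteinRing_of_atPrime hF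
  rw [Groth.Agent.Helper8.LD.isGorensteinLocalRing_iff_H]
  refine ⟨n, fun i hi => ?_, ?_⟩
  · obtain ⟨Θ, -⟩ := exists_theta_LCgr 𝒜 𝒜 m I i
    haveI := hvan i hi
    haveI : Subsingleton (H m.toIdeal i R) := Θ.symm.toEquiv.subsingleton
    obtain ⟨ε⟩ := nonempty_locH_equiv m.toIdeal i
    exact ε.symm.toEquiv.subsingleton
  · obtain ⟨Θ, -⟩ := exists_theta_LCgr 𝒜 𝒜 m I n
    obtain ⟨ε⟩ := nonempty_locH_equiv m.toIdeal n
    have hinjE : Module.Injective R E' :=
      (Groth.Agent.S18637.result R 𝒜 m E' 𝓔 e he).isInjective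
    haveI := hinjE
    have h1 : Module.Injective (Localization.AtPrime m.toIdeal)
        (LocalizedModule m.toIdeal.primeCompl E') :=
      Module.injective_of_isLocalizedModule m.toIdeal.primeCompl
        (LocalizedModule.mkLinearMap m.toIdeal.primeCompl E')
    let e₁ : LocalizedModule m.toIdeal.primeCompl E' ≃ₗ[Localization.AtPrime m.toIdeal]
        LocalizedModule m.toIdeal.primeCompl (H m.toIdeal n R) :=
      IsLocalizedModule.mapEquiv m.toIdeal.primeCompl
        (LocalizedModule.mkLinearMap m.toIdeal.primeCompl E')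
        (LocalizedModule.mkLinearMap m.toIdeal.primeCompl (H m.toIdeal n R))
        (Localization.AtPrime m.toIdeal) (ψ.symm.trans Θ)
    exact injective_of_linearEquiv (e₁.trans ε) h1

end Crit

end Groth.Agent.Helper8.GB
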