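import Mathlib
import Groth.Prelude.Def_GrLC
import Groth.Prelude.Def_CAlg
import Groth.Agent.Lib.Helper8.GB3

/-!
# The top local cohomology of a Gorenstein graded ring defined over a field, I (helper8)

Local facts: for a Gorenstein local ring `A` of dimension `n`, `H^i_m(A) = 0` for `i ≠ n` and `H^n_m(A)` is an
injective hull of the residue field.  Transfer to a maximal ideal `m` of a Noetherian ring `R` with `R_m`
Gorenstein: `H^i_m(R) = 0` for `i ≠ n`, `H^n_m(R)` is an injective `R`-module whose socle is a line.
-/

set_option autoImplicit false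
set_option linter.unusedSectionVars false
universe u
open DirectSum CategoryTheory

namespace Groth.Agent.Helper8.GB
open Groth.Agent.Helper9.GrLCLib Groth.Agent.Helper8.GD LocCoh IsLocalRing
open Groth.Agent.Helper8.LC Groth.Agent.Helper8.Depth Groth.Agent.Helper8.LD

section Local

/-- local cohomology of a Gorenstein local ring -/
theorem gorenstein_local_H (A : Type u) [CommRing A] [hG : IsGorensteinLocalRing A] (n : ℕ)
    (hn : ringKrullDim A = n) :
    (∀ i : ℕ, i ≠ n → Subsingleton (H (maximalIdeal A) i A)) ∧
      ∃ g : ResidueField A →ₗ[A] H (maximalIdeal A) n A, InjHull.IsInjectiveHull g := by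
  have hmA : maximalIdeal A • (⊤ : Submodule A A) ≠ ⊤ := smul_top_ne_top_of_local A A
  have hCM : IsCohenMacaulayLocalRing A :=
    Groth.Agent.Helper8.Goren.isCohenMacaulayLocalRing_of_isGorensteinLocalRing A
  have hM : IsCohenMacaulayModule A A := hCM.supportDim_eq_depth
  obtain ⟨n', hn', hdepth⟩ := cm_exists_nat hM
  have hnn : n' = n := by
    rw [Module.supportDim_self_eq_ringKrullDim, hn] at hn'
    exact_mod_cast hn'.symm
  subst hnn
  refine ⟨fun i hi => ?_, exists_isInjectiveHull_H_of_gorenstein A n' hn⟩
  rcases Nat.lt_or_gt_of_ne hi with h | h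
  · exact subsingleton_of_lt_idealDepth (maximalIdeal A) hmA i (by
      change (i : ℕ∞) < depth A A
      rw [hdepth]; exact_mod_cast h)
  · apply subsingleton_of_supportDim_lt (maximalIdeal A)
    rw [hn']
    exact_mod_cast h

end Local

section Socle

variable {A : Type u} [CommRing A] [IsLocalRing A] {T' : Type u} [AddCommGroup T'] [Module A T']
  {g : ResidueField A →ₗ[A] T'} (hg : InjHull.IsInjectiveHull g)

include hg in
/-- the socle of an injective hull of the residue field is the image of the residue field -/
theorem mem_range_of_socle {y : T'} (hy : ∀ a ∈ maximalIdeal A, a • y = 0) :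
    y ∈ LinearMap.range g := by
  by_cases hy0 : y = 0
  · rw [hy0]; exact zero_mem _
  have hne : Submodule.span A {y} ≠ ⊥ := by
    intro h
    apply hy0
    have : y ∈ Submodule.span A {y} := Submodule.mem_span_singleton_self y
    rw [h, Submodule.mem_bot] at this
    exact this
  obtain ⟨z, hz, hz0⟩ := Submodule.exists_mem_ne_zero_of_ne_bot (hg.essential _ hne)
  obtain ⟨hz1, c, rfl⟩ := hz
  obtain ⟨a, ha⟩ := Submodule.mem_span_singleton.mp hz1
  have hau : IsUnit a := by
    by_contra hnu
    apply hz0
    rw [← ha]
    exact hy a ((mem_maximalIdeal a).mpr hnu)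
  obtain ⟨u, rfl⟩ := hau
  refine ⟨(↑u⁻¹ : A) • c, ?_⟩
  rw [map_smul, ← ha, ← mul_smul, Units.inv_mul, one_smul]

include hg in
/-- the socle of an injective hull of the residue field is a line -/
theorem exists_smul_eq_of_socle {x y : T'} (hx : ∀ a ∈ maximalIdeal A, a • x = 0)
    (hy : ∀ a ∈ maximalIdeal A, a • y = 0) (hx0 : x ≠ 0) : ∃ a : A, y = a • x := by
  obtain ⟨c₁, rfl⟩ := mem_range_of_socle hg hx
  obtain ⟨c₂, rfl⟩ := mem_range_of_socle hg hy
  have hc₁ : c₁ ≠ 0 := fun h => hx0 (by rw [h, map_zero])
  obtain ⟨a, ha⟩ := residue_surjective (c₂ * c₁⁻¹)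
  refine ⟨a, ?_⟩
  rw [← map_smul]
  congr 1
  have : a • c₁ = residue A a * c₁ := by
    rw [Algebra.smul_def]
    rfl
  rw [this, ha, mul_assoc, inv_mul_cancel₀ hc₁, mul_one]

end Socle

section Transfer

variable {R : Type u} [CommRing R] [IsNoetherianRing R] (m : Ideal R) [hm : m.IsMaximal]

lemma isPowerTorsion_H (i : ℕ) (M : Type u) [AddCommGroup M] [Module R M] :
    IsPowerTorsion m (H m i M) := fun x =>
  Groth.Agent.Helper8.LC.isPowerTorsion m i (ModuleCat.of R M) x

/-- a nonzero element of a power torsion module has a nonzero multiple in the socle -/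
lemma exists_socle_of_torsion {T : Type u} [AddCommGroup T] [Module R T] (J : Ideal R) :
    ∀ (N : ℕ) (x : T), x ≠ 0 → (∀ a ∈ J ^ N, a • x = 0) →
      ∃ r : R, r • x ≠ 0 ∧ ∀ a ∈ J, a • r • x = 0 := by
  intro N
  induction N with
  | zero =>
    intro x hx h
    exfalso
    apply hx
    have h1 : (1 : R) ∈ J ^ 0 := by rw [pow_zero, Ideal.one_eq_top]; trivial
    have := h 1 h1
    rwa [one_smul] at this
  | succ N ih =>
    intro x hx h
    by_cases hall : ∀ a ∈ J, a • x = 0
    · exact ⟨1, by rwa [one_smul], fun a ha => by rw [one_smul]; exact hall a ha⟩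
    · push Not at hall
      obtain ⟨a, ha, hax⟩ := hall
      obtain ⟨r, hr, hr2⟩ := ih (a • x) hax (fun b hb => by
        rw [← mul_smul]
        apply h
        rw [pow_succ]
        exact Ideal.mul_mem_mul hb ha)
      refine ⟨r * a, by rwa [mul_smul], fun b hb => ?_⟩
      rw [mul_smul]
      exact hr2 b hb

variable (n : ℕ) (hG : haveI := hm.isPrime; IsGorensteinLocalRing (Localization.AtPrime m))
  (hn : haveI := hm.isPrime; ringKrullDim (Localization.AtPrime m) = n)

include hm hG hn in
/-- vanishing outside the dimension -/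
theorem subsingleton_H_of_ne (i : ℕ) (hi : i ≠ n) : Subsingleton (H m i R) := by
  haveI := hm.isPrime
  haveI := hG
  obtain ⟨hvan, -⟩ := gorenstein_local_H (Localization.AtPrime m) n hn
  haveI := hvan i hi
  obtain ⟨ε⟩ := nonempty_locH_equiv m i
  haveI : Subsingleton (LocalizedModule m.primeCompl (H m i R)) := ε.toEquiv.subsingleton
  exact (torsionEquiv m (isPowerTorsion_H m i R)).toEquiv.subsingleton

include hm hG hn in
/-- the top local cohomology is an injective module -/
theorem injective_H_top : Module.Injective R (H m n R) := by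
  haveI := hm.isPrime
  haveI := hG
  obtain ⟨-, g, hg⟩ := gorenstein_local_H (Localization.AtPrime m) n hn
  apply Module.injective_of_localization_maximal
  intro P hP
  by_cases hPm : P = m
  · subst hPm
    obtain ⟨ε⟩ := nonempty_locH_equiv P n
    exact injective_of_linearEquiv ε.symm hg.isInjective
  · haveI : Subsingleton (LocalizedModule P.primeCompl (H m n R)) := by
      have hex : ∃ s ∈ m, s ∉ P := by
        by_contra hcon
        push Not at hcon
        exact hPm (hm.eq_of_le hP.ne_top hcon).symm
      obtain ⟨s, hsm, hsP⟩ := hex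
      refine ⟨fun y z => ?_⟩
      have key : ∀ y : LocalizedModule P.primeCompl (H m n R), y = 0 := by
        intro y
        induction y using LocalizedModule.induction_on with
        | h x t =>
          obtain ⟨N, hN⟩ := isPowerTorsion_H m n R x
          rw [← LocalizedModule.zero_mk t, LocalizedModule.mk_eq]
          refine ⟨⟨s ^ N, fun h => hsP (hP.isPrime.mem_of_pow_mem N h)⟩, ?_⟩
          simp only [Submonoid.smul_def, smul_zero]
          rw [smul_comm]
          rw [hN (s ^ N) (Ideal.pow_mem_pow hsm N), smul_zero]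
      rw [key y, key z]
    exact injective_of_subsingleton _

include hm hG hn in
/-- the top local cohomology is nonzero -/
theorem nontrivial_H_top : Nontrivial (H m n R) := by
  haveI := hm.isPrime
  haveI := hG
  obtain ⟨-, g, hg⟩ := gorenstein_local_H (Localization.AtPrime m) n hn
  obtain ⟨ε⟩ := nonempty_locH_equiv m n
  have h1 : g 1 ≠ 0 := by
    intro h
    have := hg.injective (h.trans (map_zero g).symm)
    exact one_ne_zero this
  by_contra hnt
  rw [not_nontrivial_iff_subsingleton] at hnt
  haveI : Subsingleton (LocalizedModule m.primeCompl (H m n R)) :=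
    (torsionEquiv m (isPowerTorsion_H m n R)).symm.toEquiv.subsingleton
  haveI : Subsingleton (H (maximalIdeal (Localization.AtPrime m)) n (Localization.AtPrime m)) :=
    ε.symm.toEquiv.subsingleton
  exact h1 (Subsingleton.elim _ _)

include hm hG hn in
/-- the socle of the top local cohomology is a line -/
theorem exists_smul_eq_of_socle_H {x y : H m n R} (hx : ∀ a ∈ m, a • x = 0)
    (hy : ∀ a ∈ m, a • y = 0) (hx0 : x ≠ 0) : ∃ r : R, y = r • x := by
  haveI := hm.isPrime
  haveI := hG
  obtain ⟨-, g, hg⟩ := gorenstein_local_H (Localization.AtPrime m) n hn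
  obtain ⟨ε⟩ := nonempty_locH_equiv m n
  have hT := isPowerTorsion_H m n R
  -- the comparison map
  let j : H m n R → H (maximalIdeal (Localization.AtPrime m)) n (Localization.AtPrime m) :=
    fun z => ε (LocalizedModule.mk z 1)
  have hjinj : Function.Injective j := by
    intro z w hzw
    have h1 : (LocalizedModule.mk z 1 : LocalizedModule m.primeCompl (H m n R)) =
        LocalizedModule.mk w 1 := ε.injective hzw
    exact (mkLinearMap_bijective m hT).1 h1
  have hjsmul : ∀ (r : R) (z : H m n R),
      j (r • z) = algebraMap R (Localization.AtPrime m) r • j z := by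
    intro r z
    show ε (LocalizedModule.mk (r • z) 1) = _ • ε (LocalizedModule.mk z 1)
    rw [← map_smul, algebraMap_smul, LocalizedModule.smul'_mk]
  have hjadd : ∀ z w : H m n R, j (z + w) = j z + j w := by
    intro z w
    show ε (LocalizedModule.mk (z + w) 1) = ε (LocalizedModule.mk z 1) + ε (LocalizedModule.mk w 1)
    rw [← map_add]
    congr 1
    rw [LocalizedModule.mk_add_mk]
    simp
  have hjsoc : ∀ z : H m n R, (∀ a ∈ m, a • z = 0) →
      ∀ a' ∈ maximalIdeal (Localization.AtPrime m), a' • j z = 0 := by
    intro z hz a' ha'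
    obtain ⟨a, t, rfl⟩ := IsLocalization.exists_mk'_eq m.primeCompl a'
    have ham : a ∈ m := by
      by_contra hnot
      have hu : IsUnit (IsLocalization.mk' (Localization.AtPrime m) a t) := by
        rw [IsLocalization.AtPrime.isUnit_mk'_iff (Localization.AtPrime m) m]
        exact hnot
      exact (mem_maximalIdeal _).mp ha' hu
    have hunit : IsUnit (algebraMap R (Localization.AtPrime m) (t : R)) :=
      IsLocalization.map_units _ t
    have h2 : algebraMap R (Localization.AtPrime m) (t : R) •
        (IsLocalization.mk' (Localization.AtPrime m) a t • j z) = 0 := by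
      rw [← mul_smul, IsLocalization.mk'_spec', ← hjsmul, hz a ham]
      show ε (LocalizedModule.mk 0 1) = 0
      rw [LocalizedModule.zero_mk, map_zero]
    obtain ⟨u, hu⟩ := hunit
    have h3 := congrArg (fun w => (↑u⁻¹ : Localization.AtPrime m) • w) h2
    simp only [smul_zero] at h3
    rw [← hu, ← mul_smul, Units.inv_mul, one_smul] at h3
    exact h3
  have hjx0 : j x ≠ 0 := by
    intro h
    apply hx0
    apply hjinj
    rw [h]
    show _ = ε (LocalizedModule.mk 0 1)
    rw [LocalizedModule.zero_mk, map_zero]
  obtain ⟨a', ha'⟩ := exists_smul_eq_of_socle hg (hjsoc x hx) (hjsoc y hy) hjx0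
  obtain ⟨r, t, rfl⟩ := IsLocalization.exists_mk'_eq m.primeCompl a'
  -- `t • y = r • x`
  have h4 : j ((t : R) • y) = j (r • x) := by
    rw [hjsmul, hjsmul, ha', ← mul_smul, IsLocalization.mk'_spec']
  have h5 : (t : R) • y = r • x := hjinj h4
  obtain ⟨r', a, ha, hra⟩ := exists_mul_add_eq_one m t.2 1
  rw [pow_one] at ha
  refine ⟨r' * r, ?_⟩
  rw [mul_smul, ← h5]
  conv_lhs => rw [← one_smul R y, ← hra, add_smul, hy a ha, add_zero, mul_smul]

end Transfer

end Groth.Agent.Helper8.GB
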