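import Mathlib
import Groth.Prelude.Def_GrLC
import Groth.Prelude.Def_CAlg
import Groth.Agent.S13214
import Groth.Agent.S13219
import Groth.Agent.Lib.Helper9.GrLC.Hom
import Groth.Agent.Lib.Helper9.GrLC.HGr
import Groth.Agent.Lib.Helper9.GrLC.QuotGr
import Groth.Agent.Lib.Helper8.GB4

/-!
# The top local cohomology of a Gorenstein graded ring defined over a field, II (helper8)

* `isStarInj_of_injective`: a graded module which is injective as a module is *injective.
* `exists_grEquiv_of_gorenstein`: if `R_m` is Gorenstein of dimension `n`, then `H^i_m(R) = 0` for `i ≠ n` and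
  `H^n_m(R) ≅ *E(R/m)(-g₀)` in the graded category.
-/

set_option autoImplicit false
set_option linter.unusedSectionVars false
universe u
open DirectSum CategoryTheory

namespace Groth.Agent.Helper8.GB
open Groth.Agent.Helper9.GrLCLib Groth.Agent.Helper8.GD LocCoh IsLocalRing

section StarInj

variable {R : Type u} [CommRing R] {𝒜 : ℤ → AddSubgroup R} [GradedRing 𝒜]

/-- a graded module whose underlying module is injective is *injective -/
theorem isStarInj_of_injective (X : GrLC.GMod.{u} 𝒜) (h : Module.Injective R X.carrier) :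
    GrLC.IsStarInj 𝒜 X.gr := by
  intro A B f hf hfinj g hg
  obtain ⟨h₀, hh₀⟩ := Module.Injective.extension_property R X.carrier A.carrier B.carrier f hfinj g
  refine ⟨homComp 𝒜 B.gr X.gr h₀ 0, ?_, ?_⟩
  · exact (isGrHomDeg_zero_iff B.gr X.gr).mp (homComp_isGrHomDeg 𝒜 B.gr X.gr h₀ 0)
  · apply LinearMap.ext
    intro a
    induction a using DirectSum.Decomposition.inductionOn A.gr with
    | zero => simp
    | @homogeneous k a =>
      rw [LinearMap.comp_apply, homComp_of_mem 𝒜 B.gr X.gr h₀ 0 (hf k a a.2), add_zero]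
      have h1 : h₀ (f a) = g a := LinearMap.congr_fun hh₀ a
      rw [h1, proj_of_mem_same X.gr (hg k a a.2)]
    | add x y hx hy => rw [map_add, map_add, hx, hy]

end StarInj

section SocleGr

variable {R : Type u} [CommRing R] {𝒜 : ℤ → AddSubgroup R} [GradedRing 𝒜]
variable {M : Type u} [AddCommGroup M] [Module R M] (ℳ : ℤ → AddSubgroup M)
  [DirectSum.Decomposition ℳ] [SetLike.GradedSMul 𝒜 ℳ]

/-- the socle with respect to a homogeneous ideal is a homogeneous submodule -/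
lemma socle_proj (J : HomogeneousIdeal 𝒜) {y : M} (hy : ∀ a ∈ J.toIdeal, a • y = 0) (j : ℤ) :
    ∀ a ∈ J.toIdeal, a • proj ℳ j y = 0 := by
  classical
  intro a ha
  rw [← DirectSum.sum_support_decompose 𝒜 a, Finset.sum_smul]
  apply Finset.sum_eq_zero
  intro d _
  have had : (decompose 𝒜 a d : R) ∈ J.toIdeal := J.isHomogeneous d ha
  rw [← proj_smul_of_mem 𝒜 ℳ (decompose 𝒜 a d).2 y j, hy _ had, map_zero]

end SocleGr

section Main

variable {R : Type u} [CommRing R] [IsNoetherianRing R] {𝒜 : ℤ → AddSubgroup R} [GradedRing 𝒜]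
  {m : HomogeneousIdeal 𝒜} (hF : FieldGr 𝒜 m)
variable {E' : Type u} [AddCommGroup E'] [Module R E'] {𝓔 : ℤ → AddSubgroup E'}
  [DirectSum.Decomposition 𝓔] [SetLike.GradedSMul 𝒜 𝓔]
  {e : (R ⧸ m.toIdeal) →ₗ[R] E'} (he : GrLC.IsStarInjHull 𝒜 (GrLC.quotGr 𝒜 m) 𝓔 e)

include hF he in
/-- **The graded local cohomology of a Gorenstein graded ring over a field**: it vanishes outside the
dimension and in the dimension it is a shift of the *injective envelope of `R/m`. -/
theorem exists_grEquiv_of_gorenstein (I : GrLC.StarInjRes 𝒜 𝒜) (n : ℕ)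
    (hG : haveI := hF.isMaximal.isPrime; IsGorensteinLocalRing (Localization.AtPrime m.toIdeal))
    (hn : haveI := hF.isMaximal.isPrime; ringKrullDim (Localization.AtPrime m.toIdeal) = n) :
    (∀ i : ℕ, i ≠ n → Subsingleton (I.H m i)) ∧
      ∃ (g₀ : ℤ) (β : E' ≃ₗ[R] I.H m n), GrLC.IsGrHomDeg 𝓔 (I.Hgr m n) β.toLinearMap g₀ := by
  classical
  haveI hmax : m.toIdeal.IsMaximal := hF.isMaximal
  constructor
  · intro i hi
    obtain ⟨Θ, -⟩ := exists_theta_LCgr 𝒜 𝒜 m I i
    haveI := subsingleton_H_of_ne m.toIdeal n hG hn i hi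
    exact Θ.toEquiv.subsingleton
  obtain ⟨Θ₀, -⟩ := exists_theta_LCgr 𝒜 𝒜 m I n
  let X : GrLC.GMod.{u} 𝒜 := HGMod 𝒜 𝒜 I m n
  let Θ : X.carrier ≃ₗ[R] H m.toIdeal n R := Θ₀
  have hXgr : X.gr = I.Hgr m n := HGMod_gr 𝒜 𝒜 I m n
  have hXinj : Module.Injective R X.carrier :=
    injective_of_linearEquiv Θ.symm (injective_H_top m.toIdeal n hG hn)
  have hXstar : GrLC.IsStarInj 𝒜 X.gr := isStarInj_of_injective X hXinj
  have htors : ∀ x : X.carrier, ∃ N : ℕ, ∀ a ∈ m.toIdeal ^ N, a • x = 0 := by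
    intro x
    obtain ⟨N, hN⟩ := isPowerTorsion_H m.toIdeal n R (Θ x)
    refine ⟨N, fun a ha => ?_⟩
    apply Θ.injective
    rw [map_smul, hN a ha, map_zero]
  have hline : ∀ x y : X.carrier, (∀ a ∈ m.toIdeal, a • x = 0) → (∀ a ∈ m.toIdeal, a • y = 0) →
      x ≠ 0 → ∃ r : R, y = r • x := by
    intro x y hx hy hx0
    obtain ⟨r, hr⟩ := exists_smul_eq_of_socle_H m.toIdeal n hG hn (x := Θ x) (y := Θ y)
      (fun a ha => by rw [← map_smul, hx a ha, map_zero])
      (fun a ha => by rw [← map_smul, hy a ha, map_zero])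
      (fun h => hx0 (Θ.map_eq_zero_iff.mp h))
    refine ⟨r, Θ.injective ?_⟩
    rw [hr, map_smul]
  haveI hnt : Nontrivial X.carrier := by
    haveI := nontrivial_H_top m.toIdeal n hG hn
    exact Θ.toEquiv.nontrivial
  -- a nonzero socle element
  have hsocle : ∀ x : X.carrier, x ≠ 0 → ∃ r : R, r • x ≠ 0 ∧ ∀ a ∈ m.toIdeal, a • r • x = 0 := by
    intro x hx
    obtain ⟨N, hN⟩ := htors x
    exact exists_socle_of_torsion m.toIdeal N x hx hN
  -- a nonzero homogeneous socle element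
  obtain ⟨g₀, s, hs, hs0, hsoc⟩ : ∃ (g₀ : ℤ) (s : X.carrier), s ∈ X.gr g₀ ∧ s ≠ 0 ∧
      ∀ a ∈ m.toIdeal, a • s = 0 := by
    obtain ⟨x, hx⟩ := exists_ne (0 : X.carrier)
    obtain ⟨r, hrx, hr⟩ := hsocle x hx
    have : ∃ j, proj X.gr j (r • x) ≠ 0 := by
      by_contra hcon
      push Not at hcon
      exact hrx (Pos.eq_zero_of_proj_eq_zero X.gr hcon)
    obtain ⟨j, hj⟩ := this
    exact ⟨j, proj X.gr j (r • x), proj_mem X.gr j _, hj, socle_proj X.gr m hr j⟩
  -- the shifted module and the map from `R/m`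
  let Y : GrLC.GMod.{u} 𝒜 := shiftGMod X (-g₀)
  have hYstar : GrLC.IsStarInj 𝒜 Y.gr := Groth.Agent.S13219.Aux.isStarInj_shift 𝒜 X hXstar (-g₀)
  have hYmem : ∀ (g : ℤ) (x : X.carrier), x ∈ Y.gr g ↔ x ∈ X.gr (g + g₀) := by
    intro g x
    rw [mem_shiftGMod_gr, sub_neg_eq_add]
  let f₀ : R →ₗ[R] X.carrier := LinearMap.toSpanSingleton R X.carrier s
  have hker : m.toIdeal ≤ LinearMap.ker f₀ := by
    intro a ha
    rw [LinearMap.mem_ker, LinearMap.toSpanSingleton_apply]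
    exact hsoc a ha
  let f : (R ⧸ m.toIdeal) →ₗ[R] Y.carrier := Submodule.liftQ m.toIdeal f₀ hker
  have hf_mk : ∀ r : R, f (Ideal.Quotient.mk m.toIdeal r) = r • s := fun r => rfl
  have hfinj : Function.Injective f := by
    rw [← LinearMap.ker_eq_bot]
    apply Submodule.ker_liftQ_eq_bot
    have hne : LinearMap.ker f₀ ≠ ⊤ := by
      intro h
      apply hs0
      have h1 : (1 : R) ∈ LinearMap.ker f₀ := by rw [h]; trivial
      rw [LinearMap.mem_ker, LinearMap.toSpanSingleton_apply, one_smul] at h1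
      exact h1
    exact (hmax.eq_of_le hne hker).ge
  have hfgr : GrLC.IsGrHom (GrLC.quotGr 𝒜 m) Y.gr f := by
    rintro g y ⟨r, hr, rfl⟩
    refine (hYmem g _).mpr ?_
    show r • s ∈ X.gr (g + g₀)
    exact smul_mem_add 𝒜 X.gr hr hs
  have hfess : ∀ P : Submodule R Y.carrier, P.IsHomogeneous Y.gr → P ≠ ⊥ →
      P ⊓ LinearMap.range f ≠ ⊥ := by
    intro P hP hne
    obtain ⟨k, x, hxP, -, hx0⟩ := exists_homog_mem_ne_zero Y.gr hP hne
    obtain ⟨r, hrx, hr⟩ := hsocle x hx0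
    obtain ⟨r', hr'⟩ := hline s (r • x) hsoc hr hs0
    intro hbot
    apply hrx
    have h1 : r • x ∈ P ⊓ LinearMap.range f :=
      ⟨P.smul_mem r hxP, ⟨Ideal.Quotient.mk m.toIdeal r', by rw [hf_mk, hr']⟩⟩
    rw [hbot, Submodule.mem_bot] at h1
    exact h1
  have hY : GrLC.IsStarInjHull 𝒜 (GrLC.quotGr 𝒜 m) Y.gr f :=
    { injective := hfinj, grHom := hfgr, essential := hfess, starInj := hYstar }
  letI := quotGrDecomposition 𝒜 m
  letI := quotGrGradedSMul 𝒜 m
  obtain ⟨β, hβ, -⟩ := Groth.Agent.S13214.result R 𝒜 (R ⧸ m.toIdeal) (GrLC.quotGr 𝒜 m) E' 𝓔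
    Y.carrier Y.gr e f he hY
  refine ⟨g₀, β, fun g x hx => ?_⟩
  have h1 : β x ∈ Y.gr g := hβ g x hx
  have h2 := (hYmem g _).mp h1
  rw [hXgr] at h2
  exact h2

end Main

end Groth.Agent.Helper8.GB
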