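import Mathlib
import Groth.Prelude.Def_GrLC
import Groth.Agent.Lib.Helper6.GrHt.ZCase
import Groth.Agent.Lib.Helper8.GB2

/-!
# The dimension of a graded ring defined over a field is the height of its irrelevant ideal (helper8)
-/

set_option autoImplicit false
set_option linter.unusedSectionVars false
universe u
open DirectSum

namespace Groth.Agent.Helper8.GB
open Groth.Agent.Helper9.GrLCLib Groth.Agent.Helper8.GD Groth.Agent.Lib.Helper6.GrHt

variable {R : Type u} [CommRing R] [IsNoetherianRing R] {𝒜 : ℤ → AddSubgroup R} [GradedRing 𝒜]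
  {m : HomogeneousIdeal 𝒜} (hF : FieldGr 𝒜 m)

include hF in
theorem ringKrullDim_eq_height : ringKrullDim R = (m.toIdeal.height : WithBot ℕ∞) := by
  haveI hmax : m.toIdeal.IsMaximal := hF.isMaximal
  haveI hprime : m.toIdeal.IsPrime := hmax.isPrime
  apply le_antisymm
  · rw [ringKrullDim_le_iff_isMaximal_height_le]
    intro P hP
    haveI := hP.isPrime
    by_cases hPh : P.IsHomogeneous 𝒜
    · exact_mod_cast Ideal.height_mono (le_of_isHomogeneous hF hPh hP.ne_top)
    · haveI := core_isPrime 𝒜 P
      obtain ⟨k, hk⟩ := ENat.ne_top_iff_exists.mp (P.height_ne_top hP.ne_top)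
      have h1 := height_le_core_add_one 𝒜 k P hk.symm
      have hcle : core 𝒜 P ≤ m.toIdeal := by
        apply le_of_isHomogeneous hF (core_isHomogeneous 𝒜 P)
        intro h
        apply hP.ne_top
        rw [eq_top_iff, ← h]
        exact core_le 𝒜 P
      have hclt : core 𝒜 P < m.toIdeal := by
        refine lt_of_le_of_ne hcle ?_
        intro h
        apply hPh
        have h2 : m.toIdeal ≤ P := h ▸ core_le 𝒜 P
        rw [← hmax.eq_of_le hP.ne_top h2]
        exact m.isHomogeneous
      have h2 := Ideal.height_add_one_le_of_lt_of_isPrime hclt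
      exact_mod_cast h1.trans h2
  · exact Ideal.height_le_ringKrullDim_of_ne_top hmax.ne_top

include hF in
theorem ringKrullDim_atPrime [m.toIdeal.IsPrime] :
    ringKrullDim (Localization.AtPrime m.toIdeal) = ringKrullDim R := by
  rw [IsLocalization.AtPrime.ringKrullDim_eq_height m.toIdeal (Localization.AtPrime m.toIdeal),
    ringKrullDim_eq_height hF]

end Groth.Agent.Helper8.GB
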