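import Mathlib
import Groth.Prelude.Def_GrLC
import Groth.Agent.Lib.Helper9.GrLC.Basic
import Groth.Agent.Lib.Helper9.GrLC.Pos
import Groth.Agent.Lib.Helper9.GrLC.Pull
import Groth.Agent.Lib.Helper9.GrLC.GrH2
import Groth.Agent.Lib.Helper8.GD1

/-!
# Graded duality over a field, I: homogeneous maps into `*E(R/m)` are determined by one piece (helper8)

For a graded ring `R` defined over a field `k = R_0` with irrelevant ideal `m` and a *injective envelope
`e : R/m → E'`: a homogeneous map `f : M → E'` of degree `-j` is determined by its restriction to `M_j`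
(`eq_zero_of_restrict`), and every `R_0`-linear map `M_j → E'_0` is such a restriction (`exists_extension`).
The degree zero piece `E'_0` is the line spanned by `ε₀ = e 1`.
-/

set_option autoImplicit false
set_option linter.unusedSectionVars false
universe u
open DirectSum

namespace Groth.Agent.Helper8.GD
open Groth.Agent.Helper9.GrLCLib

variable {R : Type u} [CommRing R] {𝒜 : ℤ → AddSubgroup R} [GradedRing 𝒜]
  {m : HomogeneousIdeal 𝒜} (hF : FieldGr 𝒜 m)
variable {E' : Type u} [AddCommGroup E'] [Module R E'] {𝓔 : ℤ → AddSubgroup E'}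
  [DirectSum.Decomposition 𝓔] [SetLike.GradedSMul 𝒜 𝓔]
  {e : (R ⧸ m.toIdeal) →ₗ[R] E'} (he : GrLC.IsStarInjHull 𝒜 (GrLC.quotGr 𝒜 m) 𝓔 e)
variable {M : Type u} [AddCommGroup M] [Module R M] (ℳ : ℤ → AddSubgroup M)
  [DirectSum.Decomposition ℳ] [SetLike.GradedSMul 𝒜 ℳ]

section Eps

include hF he

/-- the generator `ε₀ = e 1` of the socle of `E'` is nonzero -/
lemma eps_ne_zero : e 1 ≠ 0 := by
  intro h
  have h1 : (1 : R ⧸ m.toIdeal) = 0 := he.injective (by rw [h, map_zero])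
  rw [← map_one (Ideal.Quotient.mk m.toIdeal), Ideal.Quotient.eq_zero_iff_mem] at h1
  exact hF.one_notMem h1

lemma eps_mem : e 1 ∈ 𝓔 0 := e_mem_zero hF he 1

/-- every element of `E'_0` is an `R_0`-multiple of `ε₀` -/
lemma exists_coord {x : E'} (hx : x ∈ 𝓔 0) : ∃ c ∈ 𝒜 0, x = c • e 1 := by
  obtain ⟨y, rfl⟩ := (mem_zero_iff hF he x).mp hx
  obtain ⟨r, rfl⟩ := Ideal.Quotient.mk_surjective y
  refine ⟨proj 𝒜 0 r, proj_mem 𝒜 0 r, ?_⟩
  have h1 : Ideal.Quotient.mk m.toIdeal r = r • (1 : R ⧸ m.toIdeal) := by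
    rw [← map_one (Ideal.Quotient.mk m.toIdeal)]
    change _ = Ideal.Quotient.mk m.toIdeal (r • (1 : R))
    rw [smul_eq_mul, mul_one]
  rw [h1, map_smul]
  exact smul_zero_piece hF he r (eps_mem hF he)

lemma coord_eq_zero {c : R} (hc : c ∈ 𝒜 0) (h : c • e 1 = 0) : c = 0 := by
  by_contra hc0
  obtain ⟨d, -, hd⟩ := hF.exists_inv hc hc0
  apply eps_ne_zero hF he
  rw [← one_smul R (e 1), ← hd, mul_comm, mul_smul, h, smul_zero]

lemma coord_unique {c c' : R} (hc : c ∈ 𝒜 0) (hc' : c' ∈ 𝒜 0) (h : c • e 1 = c' • e 1) : c = c' := by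
  apply eq_of_sub_eq_zero
  apply coord_eq_zero hF he (sub_mem hc hc')
  rw [sub_smul, h, sub_self]

lemma smul_eps_mem {c : R} (hc : c ∈ 𝒜 0) : c • e 1 ∈ 𝓔 0 := by
  have := smul_mem_add 𝒜 𝓔 hc (eps_mem hF he)
  rwa [add_zero] at this

end Eps

section Restrict

include hF he

/-- a homogeneous map `M → E'` of degree `-j` vanishing on `M_j` is zero -/
lemma eq_zero_of_restrict {j : ℤ} {f : M →ₗ[R] E'} (hf : GrLC.IsGrHomDeg ℳ 𝓔 f (-j))
    (h0 : ∀ x ∈ ℳ j, f x = 0) : f = 0 := by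
  classical
  have key : ∀ i, ∀ x ∈ ℳ i, f x = 0 := by
    intro i x hx
    by_contra hne
    have hfx : f x ∈ 𝓔 (i + -j) := hf i x hx
    obtain ⟨r, hr, hrx, -⟩ := exists_smul_ne_zero hF he hfx hne
    apply hrx
    rw [← map_smul]
    apply h0
    have h1 := smul_mem_add 𝒜 ℳ hr hx
    have h2 : -(i + -j) + i = j := by ring
    rwa [h2] at h1
  ext x
  rw [← DirectSum.sum_support_decompose ℳ x, map_sum, LinearMap.zero_apply]
  exact Finset.sum_eq_zero (fun i _ => key i _ (decompose ℳ x i).2)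

lemma eq_of_restrict {j : ℤ} {f g : M →ₗ[R] E'} (hf : GrLC.IsGrHomDeg ℳ 𝓔 f (-j))
    (hg : GrLC.IsGrHomDeg ℳ 𝓔 g (-j)) (h0 : ∀ x ∈ ℳ j, f x = g x) : f = g := by
  apply eq_of_sub_eq_zero
  apply eq_zero_of_restrict hF he ℳ (j := j)
  · intro i x hx
    rw [LinearMap.sub_apply]
    exact sub_mem (hf i x hx) (hg i x hx)
  · intro x hx
    rw [LinearMap.sub_apply, h0 x hx, sub_self]

end Restrict

section Trunc

omit [SetLike.GradedSMul 𝒜 𝓔] in
lemma geS_isHomogeneous (hpos : ∀ n : ℤ, n < 0 → 𝒜 n = ⊥) (k : ℤ) :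
    (Pos.geS 𝒜 ℳ hpos k).IsHomogeneous ℳ := by
  intro i x hx n hn
  show proj ℳ n (decompose ℳ x i : M) = 0
  by_cases h : i = n
  · subst h
    rw [proj_of_mem_same ℳ (decompose ℳ x i).2]
    exact hx i hn
  · exact proj_of_mem_ne ℳ (decompose ℳ x i).2 h

include hF in
/-- on `M_{≥ j}`, the degree `j` component of `r • x` only sees the degree zero component of `r` -/
lemma proj_smul_of_mem_geS {j : ℤ} {x : M} (hx : x ∈ Pos.geS 𝒜 ℳ hF.pos j) (r : R) :
    proj ℳ j (r • x) = proj 𝒜 0 r • proj ℳ j x := by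
  induction r using DirectSum.Decomposition.inductionOn 𝒜 with
  | zero => simp
  | @homogeneous a s =>
    rw [proj_smul_of_mem' 𝒜 ℳ s.2 x j]
    rcases lt_trichotomy a 0 with ha | rfl | ha
    · have : (s : R) = 0 := hF.eq_zero_of_neg ha s.2
      rw [this, zero_smul, map_zero, zero_smul]
    · rw [proj_of_mem_same 𝒜 s.2, sub_zero]
    · rw [proj_of_mem_ne 𝒜 s.2 (by omega), zero_smul, hx (j - a) (by omega), smul_zero]
  | add r s hr hs => rw [add_smul, map_add, hr, hs, map_add, add_smul]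

end Trunc

section Extend

variable [IsNoetherianRing R]

include hF he

/-- every `R_0`-linear map `M_j → E'_0` is the restriction of a homogeneous map `M → E'` of degree `-j` -/
theorem exists_extension {j : ℤ} (l : GrLC.comp 𝒜 ℳ j →ₗ[GrLC.deg0 𝒜] E')
    (hl : ∀ x, l x ∈ 𝓔 0) :
    ∃ f : M →ₗ[R] E', GrLC.IsGrHomDeg ℳ 𝓔 f (-j) ∧ ∀ x : GrLC.comp 𝒜 ℳ j, f x = l x := by
  set P : Submodule R M := Pos.geS 𝒜 ℳ hF.pos j with hPdef
  have hP : P.IsHomogeneous ℳ := geS_isHomogeneous (𝒜 := 𝒜) ℳ hF.pos j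
  -- the map on the truncation
  let g₀ : ↥P →ₗ[R] E' :=
    { toFun := fun x => l ⟨proj ℳ j (x : M), proj_mem ℳ j _⟩
      map_add' := fun x y => by
        rw [← map_add]
        congr 1
        apply Subtype.ext
        show proj ℳ j ((x : M) + (y : M)) = proj ℳ j x + proj ℳ j y
        exact map_add _ _ _
      map_smul' := fun r x => by
        have h1 : proj ℳ j (r • (x : M)) = proj 𝒜 0 r • proj ℳ j (x : M) :=
          proj_smul_of_mem_geS hF ℳ x.2 r
        have h2 : (⟨proj ℳ j ((r • x : ↥P) : M), proj_mem ℳ j _⟩ :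
            GrLC.comp 𝒜 ℳ j) = (⟨proj 𝒜 0 r, proj_mem 𝒜 0 r⟩ : GrLC.deg0 𝒜) •
              (⟨proj ℳ j (x : M), proj_mem ℳ j _⟩ : GrLC.comp 𝒜 ℳ j) := by
          apply Subtype.ext
          exact h1
        rw [h2, map_smul, RingHom.id_apply]
        exact (smul_zero_piece hF he r (hl _)).symm }
  let B : GrLC.GMod.{u} 𝒜 := GrLC.GMod.of 𝒜 M ℳ
  let A : GrLC.GMod.{u} 𝒜 := subGMod B P hP
  let g₁ : A.carrier →ₗ[R] (GrLC.GMod.of 𝒜 E' 𝓔).carrier := g₀
  have hg₁ : GrLC.IsGrHomDeg A.gr (GrLC.GMod.of 𝒜 E' 𝓔).gr g₁ (-j) := by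
    intro i x hx
    have hx' : subMap B P hP x ∈ ℳ i := (mem_subGMod_gr B P hP i x).mp hx
    show l ⟨proj ℳ j (subMap B P hP x), _⟩ ∈ 𝓔 (i + -j)
    by_cases hij : i = j
    · subst hij
      rw [add_neg_cancel]
      exact hl _
    · have h0 : (⟨proj ℳ j (subMap B P hP x), proj_mem ℳ j _⟩ : GrLC.comp 𝒜 ℳ j) = 0 := by
        apply Subtype.ext
        exact proj_of_mem_ne ℳ hx' hij
      rw [h0, map_zero]
      exact zero_mem _
  obtain ⟨ψ, hψ, hψj⟩ := exists_extension_deg 𝒜 (GrLC.GMod.of 𝒜 E' 𝓔) he.starInj A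
    B (subMap B P hP) (isGrHom_subMap _ _ _) (subMap_injective _ _ _) (-j) g₁ hg₁
  refine ⟨ψ, hψ, fun x => ?_⟩
  have hxP : (x : M) ∈ P := Pos.mem_geS_of_mem 𝒜 ℳ hF.pos x.2
  have h1 := LinearMap.congr_fun hψj (⟨(x : M), hxP⟩ : ↥P)
  have h2 : ψ (x : M) = g₀ ⟨(x : M), hxP⟩ := h1
  refine h2.trans ?_
  show l ⟨proj ℳ j (x : M), _⟩ = l x
  congr 1
  apply Subtype.ext
  exact proj_of_mem_same ℳ x.2

end Extend

end Groth.Agent.Helper8.GD
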