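import Mathlib
import Groth.Prelude.Def_GrLC
import Groth.Agent.Lib.Helper8.GD2

/-!
# Graded duality over a field, II: the perfect pairing `M_j × *Hom(M, E')_{-j} → E'_0` (helper8)
-/

set_option autoImplicit false
set_option linter.unusedSectionVars false
universe u
open DirectSum

namespace Groth.Agent.Helper8.GD
open Groth.Agent.Helper9.GrLCLib

variable {R : Type u} [CommRing R] {𝒜 : ℤ → AddSubgroup R} [GradedRing 𝒜]
  {m : HomogeneousIdeal 𝒜} (hF : FieldGr 𝒜 m)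
variable {E' : Type u} [AddCommGroup E'] [Module R E'] {𝓔 : ℤ → AddSubgroup E'}
  [DirectSum.Decomposition 𝓔] [SetLike.GradedSMul 𝒜 𝓔]
  {e : (R ⧸ m.toIdeal) →ₗ[R] E'} (he : GrLC.IsStarInjHull 𝒜 (GrLC.quotGr 𝒜 m) 𝓔 e)
variable {M : Type u} [AddCommGroup M] [Module R M] (ℳ : ℤ → AddSubgroup M)
  [DirectSum.Decomposition ℳ] [SetLike.GradedSMul 𝒜 ℳ]

/-- restriction of homogeneous maps of degree `-j` to the piece of degree `j` -/
noncomputable def restr (j : ℤ) : GrLC.homDeg 𝒜 ℳ 𝓔 (-j) →ₗ[GrLC.deg0 𝒜]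
    (GrLC.comp 𝒜 ℳ j →ₗ[GrLC.deg0 𝒜] GrLC.comp 𝒜 𝓔 0) where
  toFun f :=
    { toFun := fun x => ⟨(f : M →ₗ[R] E') (x : M), by
        have h := f.2 j (x : M) x.2
        rwa [add_neg_cancel] at h⟩
      map_add' := fun x y => by
        apply Subtype.ext
        show (f : M →ₗ[R] E') ((x : M) + (y : M)) = _
        rw [map_add]
        rfl
      map_smul' := fun c x => by
        apply Subtype.ext
        show (f : M →ₗ[R] E') ((c : R) • (x : M)) = (c : R) • (f : M →ₗ[R] E') (x : M)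
        rw [map_smul] }
  map_add' f g := by
    apply LinearMap.ext
    intro x
    apply Subtype.ext
    rfl
  map_smul' c f := by
    apply LinearMap.ext
    intro x
    apply Subtype.ext
    rfl

lemma restr_apply (j : ℤ) (f : GrLC.homDeg 𝒜 ℳ 𝓔 (-j)) (x : GrLC.comp 𝒜 ℳ j) :
    ((restr ℳ j f x : GrLC.comp 𝒜 𝓔 0) : E') = (f : M →ₗ[R] E') (x : M) := rfl

section Main

variable [IsNoetherianRing R]
include hF he

lemma restr_injective (j : ℤ) : Function.Injective (restr (𝒜 := 𝒜) (𝓔 := 𝓔) ℳ j) := by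
  refine (injective_iff_map_eq_zero _).mpr ?_
  intro f hf
  apply Subtype.ext
  apply eq_zero_of_restrict hF he ℳ f.2
  intro x hx
  have h1 := congrArg (fun g => ((g (⟨x, hx⟩ : GrLC.comp 𝒜 ℳ j) : GrLC.comp 𝒜 𝓔 0) : E')) hf
  exact h1

lemma restr_surjective (j : ℤ) : Function.Surjective (restr (𝒜 := 𝒜) (𝓔 := 𝓔) ℳ j) := by
  intro l
  obtain ⟨f, hf, hfl⟩ := exists_extension hF he ℳ ((GrLC.comp 𝒜 𝓔 0).subtype ∘ₗ l)
    (fun x => (l x).2)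
  refine ⟨⟨f, hf⟩, ?_⟩
  apply LinearMap.ext
  intro x
  apply Subtype.ext
  exact hfl x

/-- nondegeneracy on the module side -/
theorem exists_hom_ne_zero {j : ℤ} {x : M} (hx : x ∈ ℳ j) (hx0 : x ≠ 0) :
    ∃ f : M →ₗ[R] E', GrLC.IsGrHomDeg ℳ 𝓔 f (-j) ∧ f x ≠ 0 := by
  letI : Field (GrLC.deg0 𝒜) := hF.field.toField
  have hv : (⟨x, hx⟩ : GrLC.comp 𝒜 ℳ j) ≠ 0 := fun h => hx0 (congrArg Subtype.val h)
  obtain ⟨φ, hφ⟩ := Module.Projective.exists_dual_ne_zero (GrLC.deg0 𝒜) hv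
  obtain ⟨f, hf, hfl⟩ := exists_extension hF he ℳ (φ.smulRight (e 1)) (fun y => by
    rw [LinearMap.smulRight_apply]
    exact smul_eps_mem hF he (φ y).2)
  refine ⟨f, hf, ?_⟩
  have h1 := hfl ⟨x, hx⟩
  rw [LinearMap.smulRight_apply] at h1
  intro h0
  apply hφ
  have h2 : ((φ ⟨x, hx⟩ : GrLC.deg0 𝒜) : R) = 0 :=
    coord_eq_zero hF he (φ ⟨x, hx⟩).2 (h1.symm.trans h0)
  exact Subtype.ext h2

/-- the degree zero piece of `E'` is a line -/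
lemma finrank_E_zero :
    Module.finrank (GrLC.deg0 𝒜) (GrLC.comp 𝒜 𝓔 0) = 1 := by
  letI : Field (GrLC.deg0 𝒜) := hF.field.toField
  have hne : (⟨e 1, eps_mem hF he⟩ : GrLC.comp 𝒜 𝓔 0) ≠ 0 :=
    fun h => eps_ne_zero hF he (congrArg Subtype.val h)
  rw [finrank_eq_one_iff_of_nonzero' _ hne]
  intro w
  obtain ⟨c, hc, hw⟩ := exists_coord hF he w.2
  refine ⟨⟨c, hc⟩, ?_⟩
  apply Subtype.ext
  exact hw.symm

/-- the two sides of the pairing have the same dimension -/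
theorem finrank_homDeg {j : ℤ} [Module.Finite (GrLC.deg0 𝒜) (GrLC.comp 𝒜 ℳ j)] :
    Module.Finite (GrLC.deg0 𝒜) (GrLC.homDeg 𝒜 ℳ 𝓔 (-j)) ∧
    Module.finrank (GrLC.deg0 𝒜) (GrLC.homDeg 𝒜 ℳ 𝓔 (-j)) =
      Module.finrank (GrLC.deg0 𝒜) (GrLC.comp 𝒜 ℳ j) := by
  letI : Field (GrLC.deg0 𝒜) := hF.field.toField
  have h1 := finrank_E_zero hF he
  haveI : Module.Finite (GrLC.deg0 𝒜) (GrLC.comp 𝒜 𝓔 0) :=
    Module.finite_of_finrank_pos (by rw [h1]; exact Nat.one_pos)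
  let eq := LinearEquiv.ofBijective (restr (𝒜 := 𝒜) (𝓔 := 𝓔) ℳ j)
    ⟨restr_injective hF he ℳ j, restr_surjective hF he ℳ j⟩
  refine ⟨Module.Finite.equiv eq.symm, ?_⟩
  rw [eq.finrank_eq, Module.finrank_linearMap, h1, mul_one]

/-- **The pairing is perfect**: every `R_0`-linear functional on `*Hom(M, E')_{-j}` with values in `E'_0` is
evaluation at an element of `M_j`, provided `M_j` is finite-dimensional. -/
theorem exists_repr {j : ℤ} [Module.Finite (GrLC.deg0 𝒜) (GrLC.comp 𝒜 ℳ j)]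
    (Λ : GrLC.homDeg 𝒜 ℳ 𝓔 (-j) →ₗ[GrLC.deg0 𝒜] E') (hΛ : ∀ f, Λ f ∈ 𝓔 0) :
    ∃ x ∈ ℳ j, ∀ f : GrLC.homDeg 𝒜 ℳ 𝓔 (-j), Λ f = (f : M →ₗ[R] E') x := by
  letI : Field (GrLC.deg0 𝒜) := hF.field.toField
  have h1 := finrank_E_zero hF he
  haveI : Module.Finite (GrLC.deg0 𝒜) (GrLC.comp 𝒜 𝓔 0) :=
    Module.finite_of_finrank_pos (by rw [h1]; exact Nat.one_pos)
  obtain ⟨hfin, hrank⟩ := finrank_homDeg hF he ℳ (j := j)
  haveI := hfin
  let ev : GrLC.comp 𝒜 ℳ j →ₗ[GrLC.deg0 𝒜]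
      (GrLC.homDeg 𝒜 ℳ 𝓔 (-j) →ₗ[GrLC.deg0 𝒜] GrLC.comp 𝒜 𝓔 0) := (restr ℳ j).flip
  have hinj : Function.Injective ev := by
    refine (injective_iff_map_eq_zero _).mpr ?_
    intro v hv
    by_contra hv0
    have hx0 : (v : M) ≠ 0 := fun h => hv0 (Subtype.ext h)
    obtain ⟨f, hf, hfx⟩ := exists_hom_ne_zero hF he ℳ v.2 hx0
    apply hfx
    have h2 := congrArg (fun g => ((g (⟨f, hf⟩ : GrLC.homDeg 𝒜 ℳ 𝓔 (-j)) : GrLC.comp 𝒜 𝓔 0) : E')) hv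
    exact h2
  have hdim : Module.finrank (GrLC.deg0 𝒜) (GrLC.comp 𝒜 ℳ j) =
      Module.finrank (GrLC.deg0 𝒜)
        (GrLC.homDeg 𝒜 ℳ 𝓔 (-j) →ₗ[GrLC.deg0 𝒜] GrLC.comp 𝒜 𝓔 0) := by
    rw [Module.finrank_linearMap, h1, mul_one, hrank]
  have hsurj : Function.Surjective ev := by
    have h3 := @LinearMap.injective_iff_surjective_of_finrank_eq_finrank (GrLC.deg0 𝒜)
      (GrLC.comp 𝒜 ℳ j) _ _ _
      (GrLC.homDeg 𝒜 ℳ 𝓔 (-j) →ₗ[GrLC.deg0 𝒜] GrLC.comp 𝒜 𝓔 0) _ _ _ _ hdim ev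
    exact h3.mp hinj
  obtain ⟨v, hv⟩ := hsurj (Λ.codRestrict (GrLC.comp 𝒜 𝓔 0) hΛ)
  refine ⟨v, v.2, fun f => ?_⟩
  have h2 := congrArg (fun g => ((g f : GrLC.comp 𝒜 𝓔 0) : E')) hv
  exact h2.symm

/-- uniqueness in the perfect pairing -/
theorem eq_of_forall_hom_eq {j : ℤ} {x y : M} (hx : x ∈ ℳ j) (hy : y ∈ ℳ j)
    (h : ∀ f : M →ₗ[R] E', GrLC.IsGrHomDeg ℳ 𝓔 f (-j) → f x = f y) : x = y := by
  by_contra hne
  obtain ⟨f, hf, hfx⟩ := exists_hom_ne_zero hF he ℳ (sub_mem hx hy) (sub_ne_zero.mpr hne)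
  apply hfx
  rw [map_sub, h f hf, sub_self]

end Main

end Groth.Agent.Helper8.GD
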