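import Mathlib
import Groth.Prelude.Def_GrLC
import Groth.Agent.Lib.Helper9.GrLC.Basic

/-!
# Veronese submodules of graded modules (helper8)

For a `ℤ`-graded ring `R` (pieces `𝒜`) and a ring `V` (pieces `𝒜'`) with a ring homomorphism
`φ : V → R` carrying `𝒜' j` onto `𝒜 (j * q)` (`VerData`), the Veronese `M^(q) = ⊕_j M_{jq}` of a graded
`R`-module `M` is constructed as a graded `V`-module `VerT D ℳ` with pieces `verFam D ℳ`, bundled as
`verGMod D X`.  `VerT.ι` is the inclusion into `M`, `verProj` the projection, `verMap` the induced map.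
-/

set_option autoImplicit false
set_option linter.unusedSectionVars false
universe u
open DirectSum

namespace Groth.Agent.Helper8.Ver
open Groth.Agent.Helper9.GrLCLib

section Add

variable {M : Type u} [AddCommGroup M] (ℳ : ℤ → AddSubgroup M) [DirectSum.Decomposition ℳ] (q : ℕ)

lemma eq_of_forall_proj_eq {x y : M} (h : ∀ i, proj ℳ i x = proj ℳ i y) : x = y := by
  apply (DirectSum.decompose ℳ).injective
  ext i
  exact h i

/-- elements with components only in degrees divisible by `q` -/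
def verAdd : AddSubgroup M where
  carrier := {x | ∀ i : ℤ, ¬ ((q : ℤ) ∣ i) → proj ℳ i x = 0}
  zero_mem' := fun i _ => map_zero _
  add_mem' := fun {x y} hx hy i hi => by rw [map_add, hx i hi, hy i hi, add_zero]
  neg_mem' := fun {x} hx i hi => by rw [map_neg, hx i hi, neg_zero]

lemma mem_verAdd {x : M} : x ∈ verAdd ℳ q ↔ ∀ i : ℤ, ¬ ((q : ℤ) ∣ i) → proj ℳ i x = 0 := Iff.rfl

lemma mem_verAdd_of_mem {j : ℤ} {x : M} (hx : x ∈ ℳ (j * q)) : x ∈ verAdd ℳ q := by
  intro i hi
  apply proj_of_mem_ne ℳ hx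
  rintro rfl
  exact hi (Dvd.intro_left _ rfl)

lemma proj_mem_verAdd {x : M} (hx : x ∈ verAdd ℳ q) (i : ℤ) : proj ℳ i x ∈ verAdd ℳ q := by
  by_cases hi : (q : ℤ) ∣ i
  · obtain ⟨j, rfl⟩ := hi
    have : proj ℳ ((q : ℤ) * j) x ∈ ℳ (j * q) := by
      rw [mul_comm]; exact proj_mem ℳ _ x
    exact mem_verAdd_of_mem ℳ q this
  · rw [hx i hi]; exact zero_mem _

/-- the projection of `M` onto the components of degree divisible by `q`, as an endomorphism -/
noncomputable def verProjM : M →+ M :=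
  (DirectSum.coeAddMonoidHom ℳ).comp
    ((DFinsupp.filterAddMonoidHom (fun i => ℳ i) (fun i : ℤ => (q : ℤ) ∣ i)).comp
      (DirectSum.decomposeAddEquiv ℳ).toAddMonoidHom)

open Classical in
lemma proj_verProjM (x : M) (i : ℤ) :
    proj ℳ i (verProjM ℳ q x) = if (q : ℤ) ∣ i then proj ℳ i x else 0 := by
  have h1 : DirectSum.decompose ℳ (verProjM ℳ q x) =
      DFinsupp.filter (fun i : ℤ => (q : ℤ) ∣ i) (DirectSum.decompose ℳ x) := by
    change DirectSum.decompose ℳ ((DirectSum.decompose ℳ).symm _) = _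
    rw [Equiv.apply_symm_apply]
    rfl
  rw [proj_apply, h1, DFinsupp.filter_apply]
  split_ifs <;> rfl

lemma verProjM_mem (x : M) : verProjM ℳ q x ∈ verAdd ℳ q := by
  classical
  intro i hi
  rw [proj_verProjM, if_neg hi]

lemma verProjM_of_mem {x : M} (hx : x ∈ verAdd ℳ q) : verProjM ℳ q x = x := by
  classical
  apply eq_of_forall_proj_eq ℳ
  intro i
  rw [proj_verProjM]
  split_ifs with h
  · rfl
  · exact (hx i h).symm

end Add

section Data

variable {R : Type u} [CommRing R] {V : Type u} [CommRing V]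

/-- the data of a Veronese situation: `φ : V → R` carries `𝒜' j` onto `𝒜 (j * q)`. -/
structure VerData (𝒜 : ℤ → AddSubgroup R) (𝒜' : ℤ → AddSubgroup V) where
  φ : V →+* R
  q : ℕ
  hq : 0 < q
  inj : Function.Injective φ
  deg : ∀ j : ℤ, (𝒜' j).map (φ : V →+ R) = 𝒜 (j * q)

variable {𝒜 : ℤ → AddSubgroup R} [GradedRing 𝒜] {𝒜' : ℤ → AddSubgroup V} [GradedRing 𝒜']
  (D : VerData 𝒜 𝒜')

lemma VerData.map_mem {j : ℤ} {v : V} (hv : v ∈ 𝒜' j) : D.φ v ∈ 𝒜 (j * D.q) := by
  rw [← D.deg j]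
  exact ⟨v, hv, rfl⟩

lemma VerData.exists_of_mem {j : ℤ} {r : R} (hr : r ∈ 𝒜 (j * D.q)) : ∃ v ∈ 𝒜' j, D.φ v = r := by
  rw [← D.deg j] at hr
  obtain ⟨v, hv, rfl⟩ := hr
  exact ⟨v, hv, rfl⟩

lemma VerData.mul_right_injective : Function.Injective (fun j : ℤ => j * (D.q : ℤ)) := by
  intro a b h
  have hq : (D.q : ℤ) ≠ 0 := by exact_mod_cast D.hq.ne'
  exact mul_right_cancel₀ hq h

variable {M : Type u} [AddCommGroup M] [Module R M] (ℳ : ℤ → AddSubgroup M)
  [DirectSum.Decomposition ℳ] [SetLike.GradedSMul 𝒜 ℳ]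

lemma smul_mem_verAdd (v : V) {x : M} (hx : x ∈ verAdd ℳ D.q) : D.φ v • x ∈ verAdd ℳ D.q := by
  induction v using DirectSum.Decomposition.inductionOn 𝒜' with
  | zero => rw [map_zero, zero_smul]; exact zero_mem _
  | @homogeneous j w =>
    intro i hi
    rw [proj_smul_of_mem' 𝒜 ℳ (D.map_mem w.2)]
    rw [hx, smul_zero]
    intro hdvd
    apply hi
    have : i = (i - j * D.q) + j * D.q := by ring
    rw [this]
    exact dvd_add hdvd (Dvd.intro_left _ rfl)
  | add v w hv hw => rw [map_add, add_smul]; exact add_mem hv hw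

lemma verProjM_smul (v : V) (x : M) :
    verProjM ℳ D.q (D.φ v • x) = D.φ v • verProjM ℳ D.q x := by
  classical
  induction v using DirectSum.Decomposition.inductionOn 𝒜' with
  | zero => rw [map_zero, zero_smul, zero_smul, map_zero]
  | @homogeneous j w =>
    apply eq_of_forall_proj_eq ℳ
    intro i
    rw [proj_verProjM, proj_smul_of_mem' 𝒜 ℳ (D.map_mem w.2), proj_smul_of_mem' 𝒜 ℳ (D.map_mem w.2),
      proj_verProjM]
    have hiff : (D.q : ℤ) ∣ i ↔ (D.q : ℤ) ∣ i - j * D.q := by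
      constructor
      · intro h; exact dvd_sub h (Dvd.intro_left _ rfl)
      · intro h
        have : i = (i - j * D.q) + j * D.q := by ring
        rw [this]; exact dvd_add h (Dvd.intro_left _ rfl)
    by_cases h : (D.q : ℤ) ∣ i
    · rw [if_pos h, if_pos (hiff.mp h)]
    · rw [if_neg h, if_neg (fun h' => h (hiff.mpr h')), smul_zero]
  | add v w hv hw => rw [map_add, add_smul, map_add, hv, hw, add_smul]

/-- the Veronese of a graded module, as a type -/
def VerT (D : VerData 𝒜 𝒜') (ℳ : ℤ → AddSubgroup M) [DirectSum.Decomposition ℳ] : Type u :=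
  ↥(verAdd ℳ D.q)

instance : AddCommGroup (VerT D ℳ) := inferInstanceAs (AddCommGroup ↥(verAdd ℳ D.q))

/-- the inclusion of the Veronese -/
def VerT.ι : VerT D ℳ →+ M := (verAdd ℳ D.q).subtype

lemma VerT.ι_injective : Function.Injective (VerT.ι D ℳ) := Subtype.val_injective

lemma VerT.ι_mem (x : VerT D ℳ) : VerT.ι D ℳ x ∈ verAdd ℳ D.q := x.2

/-- construct an element of the Veronese -/
def VerT.mk (x : M) (hx : x ∈ verAdd ℳ D.q) : VerT D ℳ := ⟨x, hx⟩

@[simp] lemma VerT.ι_mk (x : M) (hx : x ∈ verAdd ℳ D.q) : VerT.ι D ℳ (VerT.mk D ℳ x hx) = x := rfl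

lemma VerT.ext {x y : VerT D ℳ} (h : VerT.ι D ℳ x = VerT.ι D ℳ y) : x = y :=
  VerT.ι_injective D ℳ h

noncomputable instance : Module V (VerT D ℳ) where
  smul v x := ⟨D.φ v • x.1, smul_mem_verAdd D ℳ v x.2⟩
  one_smul x := Subtype.ext (by change D.φ 1 • x.1 = x.1; rw [map_one, one_smul])
  mul_smul v w x := Subtype.ext (by
    change D.φ (v * w) • x.1 = D.φ v • (D.φ w • x.1); rw [map_mul, mul_smul])
  smul_zero v := Subtype.ext (by change D.φ v • (0 : M) = 0; rw [smul_zero])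
  smul_add v x y := Subtype.ext (by
    change D.φ v • (x.1 + y.1) = D.φ v • x.1 + D.φ v • y.1; rw [smul_add])
  add_smul v w x := Subtype.ext (by
    change D.φ (v + w) • x.1 = D.φ v • x.1 + D.φ w • x.1; rw [map_add, add_smul])
  zero_smul x := Subtype.ext (by change D.φ 0 • x.1 = 0; rw [map_zero, zero_smul])

lemma VerT.ι_smul (v : V) (x : VerT D ℳ) : VerT.ι D ℳ (v • x) = D.φ v • VerT.ι D ℳ x := rfl

/-- the pieces of the Veronese -/
def verFam : ℤ → AddSubgroup (VerT D ℳ) := fun j => (ℳ (j * D.q)).comap (VerT.ι D ℳ)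

lemma mem_verFam {j : ℤ} {x : VerT D ℳ} : x ∈ verFam D ℳ j ↔ VerT.ι D ℳ x ∈ ℳ (j * D.q) := Iff.rfl

lemma proj_coe_ver (y : ⨁ j, verFam D ℳ j) (j₀ : ℤ) :
    proj ℳ (j₀ * D.q) (VerT.ι D ℳ (DirectSum.coeAddMonoidHom (verFam D ℳ) y)) =
      VerT.ι D ℳ (y j₀ : VerT D ℳ) := by
  induction y using DirectSum.induction_on with
  | zero => simp
  | of g n =>
    rw [DirectSum.coeAddMonoidHom_of]
    have hn : VerT.ι D ℳ (n : VerT D ℳ) ∈ ℳ (g * D.q) := n.2
    by_cases hg : g = j₀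
    · subst hg
      rw [proj_of_mem_same ℳ hn, DirectSum.of_eq_same]
    · have hne : g * (D.q : ℤ) ≠ j₀ * D.q := fun h => hg (D.mul_right_injective h)
      rw [proj_of_mem_ne ℳ hn hne, DirectSum.of_eq_of_ne _ _ _ (Ne.symm hg)]
      simp
  | add x y hx hy =>
    rw [map_add, map_add, map_add, hx, hy, DirectSum.add_apply, AddSubgroup.coe_add, map_add]

lemma coe_ver_injective : Function.Injective (DirectSum.coeAddMonoidHom (verFam D ℳ)) := by
  rw [injective_iff_map_eq_zero]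
  intro y hy
  ext j₀
  have := proj_coe_ver D ℳ y j₀
  rw [hy, map_zero, map_zero] at this
  apply VerT.ι_injective D ℳ
  rw [← this]
  simp

open scoped Classical in
lemma coe_ver_surjective : Function.Surjective (DirectSum.coeAddMonoidHom (verFam D ℳ)) := by
  intro x
  have hmem : ∀ i : ℤ, (VerT.mk D ℳ (proj ℳ i (VerT.ι D ℳ x))
      (proj_mem_verAdd ℳ D.q (VerT.ι_mem D ℳ x) i)) ∈ verFam D ℳ (i / D.q) := by
    intro i
    change proj ℳ i (VerT.ι D ℳ x) ∈ ℳ (i / D.q * D.q)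
    by_cases hi : (D.q : ℤ) ∣ i
    · rw [Int.ediv_mul_cancel hi]; exact proj_mem ℳ i _
    · rw [VerT.ι_mem D ℳ x i hi]; exact zero_mem _
  refine ⟨∑ i ∈ (decompose ℳ (VerT.ι D ℳ x)).support,
    DirectSum.of (fun j => verFam D ℳ j) (i / D.q) ⟨_, hmem i⟩, ?_⟩
  apply VerT.ι_injective D ℳ
  rw [map_sum, map_sum]
  simp only [DirectSum.coeAddMonoidHom_of, VerT.ι_mk]
  exact DirectSum.sum_support_decompose ℳ (VerT.ι D ℳ x)

lemma ver_isInternal : DirectSum.IsInternal (verFam D ℳ) :=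
  ⟨coe_ver_injective D ℳ, coe_ver_surjective D ℳ⟩

@[instance_reducible]
noncomputable instance verDecomposition : DirectSum.Decomposition (verFam D ℳ) :=
  (ver_isInternal D ℳ).chooseDecomposition

instance verGradedSMul : SetLike.GradedSMul 𝒜' (verFam D ℳ) where
  smul_mem := by
    intro a g v x hv hx
    rw [vadd_eq_add, mem_verFam, VerT.ι_smul, add_mul]
    exact smul_mem_add 𝒜 ℳ (D.map_mem hv) hx

/-- components in the Veronese decomposition -/
lemma ι_proj_ver (x : VerT D ℳ) (j : ℤ) :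
    VerT.ι D ℳ (proj (verFam D ℳ) j x) = proj ℳ (j * D.q) (VerT.ι D ℳ x) := by
  have := proj_coe_ver D ℳ (decompose (verFam D ℳ) x) j
  have hx : DirectSum.coeAddMonoidHom (verFam D ℳ) (decompose (verFam D ℳ) x) = x :=
    (decompose (verFam D ℳ)).symm_apply_apply x
  rw [hx] at this
  exact this.symm

/-- the projection onto the Veronese -/
noncomputable def verProj : M →+ VerT D ℳ where
  toFun x := VerT.mk D ℳ (verProjM ℳ D.q x) (verProjM_mem ℳ D.q x)
  map_zero' := VerT.ext D ℳ (by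
    change verProjM ℳ D.q 0 = 0
    exact map_zero _)
  map_add' x y := VerT.ext D ℳ (by
    change verProjM ℳ D.q (x + y) = verProjM ℳ D.q x + verProjM ℳ D.q y
    exact map_add _ _ _)

lemma ι_verProj (x : M) : VerT.ι D ℳ (verProj D ℳ x) = verProjM ℳ D.q x := rfl

lemma verProj_ι (x : VerT D ℳ) : verProj D ℳ (VerT.ι D ℳ x) = x :=
  VerT.ext D ℳ (by rw [ι_verProj]; exact verProjM_of_mem ℳ D.q (VerT.ι_mem D ℳ x))

lemma verProj_smul (v : V) (x : M) : verProj D ℳ (D.φ v • x) = v • verProj D ℳ x :=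
  VerT.ext D ℳ (by rw [ι_verProj, VerT.ι_smul, ι_verProj]; exact verProjM_smul D ℳ v x)

end Data

end Groth.Agent.Helper8.Ver
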