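import Mathlib
import Groth.Prelude.Def_GrLC
import Groth.Agent.Lib.Helper9.GrLC.Hom
import Groth.Agent.Lib.Helper9.GrLC.Fg
import Groth.Agent.Lib.Helper8.GD3
import Groth.Agent.Lib.Helper8.Ver1

/-!
# Graded duality over a field, III: coordinates on `E'_0`, comparison of the lines `E''_0` and `E'_0` for a
Veronese pair, finiteness of pieces, and homogeneity of the inverse of a homogeneous bijection out of
`Hom_R(C, E')` (helper8)
-/

set_option autoImplicit false
set_option linter.unusedSectionVars false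
universe u
open DirectSum

namespace Groth.Agent.Helper8.GD
open Groth.Agent.Helper9.GrLCLib Groth.Agent.Helper8.Ver

section Coord

variable {R : Type u} [CommRing R] {𝒜 : ℤ → AddSubgroup R} [GradedRing 𝒜]
  {m : HomogeneousIdeal 𝒜} (hF : FieldGr 𝒜 m)
variable {E' : Type u} [AddCommGroup E'] [Module R E'] {𝓔 : ℤ → AddSubgroup E'}
  [DirectSum.Decomposition 𝓔] [SetLike.GradedSMul 𝒜 𝓔]
  {e : (R ⧸ m.toIdeal) →ₗ[R] E'} (he : GrLC.IsStarInjHull 𝒜 (GrLC.quotGr 𝒜 m) 𝓔 e)

open Classical in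
/-- the coordinate of an element of `E'_0` with respect to `ε₀ = e 1` (zero outside `E'_0`) -/
noncomputable def coordFun (x : E') : R :=
  if h : x ∈ 𝓔 0 then Classical.choose (exists_coord hF he h) else 0

lemma coordFun_mem (x : E') : coordFun hF he x ∈ 𝒜 0 := by
  unfold coordFun
  split_ifs with h
  · exact (Classical.choose_spec (exists_coord hF he h)).1
  · exact zero_mem _

lemma coordFun_spec {x : E'} (hx : x ∈ 𝓔 0) : x = coordFun hF he x • e 1 := by
  unfold coordFun
  rw [dif_pos hx]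
  exact (Classical.choose_spec (exists_coord hF he hx)).2

lemma coordFun_smul_eps {c : R} (hc : c ∈ 𝒜 0) : coordFun hF he (c • e 1) = c :=
  coord_unique hF he (coordFun_mem hF he _) hc (coordFun_spec hF he (smul_eps_mem hF he hc)).symm

lemma coordFun_add {x y : E'} (hx : x ∈ 𝓔 0) (hy : y ∈ 𝓔 0) :
    coordFun hF he (x + y) = coordFun hF he x + coordFun hF he y := by
  apply coord_unique hF he (coordFun_mem hF he _)
    (add_mem (coordFun_mem hF he _) (coordFun_mem hF he _))
  rw [← coordFun_spec hF he (add_mem hx hy), add_smul, ← coordFun_spec hF he hx,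
    ← coordFun_spec hF he hy]

lemma coordFun_smul {c : R} (hc : c ∈ 𝒜 0) {x : E'} (hx : x ∈ 𝓔 0) :
    coordFun hF he (c • x) = c * coordFun hF he x := by
  have hcx : c • x ∈ 𝓔 0 := by
    have := smul_mem_add 𝒜 𝓔 hc hx
    rwa [add_zero] at this
  apply coord_unique hF he (coordFun_mem hF he _) (by
    have := SetLike.GradedMul.mul_mem (A := 𝒜) hc (coordFun_mem hF he x)
    rwa [add_zero] at this)
  rw [← coordFun_spec hF he hcx, mul_smul, ← coordFun_spec hF he hx]

lemma coordFun_eq_zero {x : E'} (hx : x ∈ 𝓔 0) (h : coordFun hF he x = 0) : x = 0 := by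
  rw [coordFun_spec hF he hx, h, zero_smul]

end Coord

section Fin

variable {R : Type u} [CommRing R] [IsNoetherianRing R] (𝒜 : ℤ → AddSubgroup R) [GradedRing 𝒜]
variable {M : Type u} [AddCommGroup M] [Module R M] (ℳ : ℤ → AddSubgroup M)
  [DirectSum.Decomposition ℳ] [SetLike.GradedSMul 𝒜 ℳ]

/-- the pieces of a finitely generated graded module are finitely generated over `R_0` -/
lemma finite_comp [Module.Finite R M] (n : ℤ) :
    Module.Finite (GrLC.deg0 𝒜) (GrLC.comp 𝒜 ℳ n) := by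
  haveI : IsNoetherian R M := isNoetherian_of_isNoetherianRing_of_finite R M
  haveI := FinZ.isNoetherian_comp_of_isNoetherian 𝒜 ℳ n
  exact Module.IsNoetherian.finite _ _

end Fin

section Inverse

variable {R : Type u} [CommRing R] {𝒜 : ℤ → AddSubgroup R} [GradedRing 𝒜]
variable {E' : Type u} [AddCommGroup E'] [Module R E'] (𝓔 : ℤ → AddSubgroup E')
  [DirectSum.Decomposition 𝓔] [SetLike.GradedSMul 𝒜 𝓔]
variable {C : Type u} [AddCommGroup C] [Module R C] (𝒞 : ℤ → AddSubgroup C)
  [DirectSum.Decomposition 𝒞] [SetLike.GradedSMul 𝒜 𝒞]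

/-- a homogeneous bijection from `Hom_R(C, E')` (`C` finitely generated) onto a graded module has a
homogeneous inverse -/
theorem symm_isGrHomDeg [Module.Finite R C] (X : GrLC.GMod.{u} 𝒜)
    (φ : (C →ₗ[R] E') ≃ₗ[R] X.carrier)
    (hφ : GrLC.IsGrHom (fun d => (GrLC.homDeg 𝒜 𝒞 𝓔 d).toAddSubgroup) X.gr φ.toLinearMap)
    {d : ℤ} {h : X.carrier} (hh : h ∈ X.gr d) : GrLC.IsGrHomDeg 𝒞 𝓔 (φ.symm h) d := by
  classical
  set f := φ.symm h with hf
  obtain ⟨D, hD⟩ := exists_finset_sum_homComp 𝒜 𝒞 𝓔 f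
  have hcomp : ∀ d', GrLC.IsGrHomDeg 𝒞 𝓔 (homComp 𝒜 𝒞 𝓔 f d') d' :=
    fun d' => homComp_isGrHomDeg 𝒜 𝒞 𝓔 f d'
  have hφc : ∀ d', φ (homComp 𝒜 𝒞 𝓔 f d') ∈ X.gr d' := fun d' => hφ d' _ (hcomp d')
  have hh' : h = ∑ d' ∈ D, φ (homComp 𝒜 𝒞 𝓔 f d') := by
    rw [← map_sum, ← hD, hf, LinearEquiv.apply_symm_apply]
  -- components
  have hzero : ∀ d' ∈ D, d' ≠ d → homComp 𝒜 𝒞 𝓔 f d' = 0 := by
    intro d' hd' hne
    have h1 : proj X.gr d' h = 0 := proj_of_mem_ne X.gr hh (Ne.symm hne)
    rw [hh', map_sum] at h1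
    rw [Finset.sum_eq_single d'] at h1
    · rw [proj_of_mem_same X.gr (hφc d')] at h1
      exact φ.map_eq_zero_iff.mp h1
    · intro b _ hb
      exact proj_of_mem_ne X.gr (hφc b) hb
    · intro hnot
      exact absurd hd' hnot
  by_cases hd : d ∈ D
  · have : f = homComp 𝒜 𝒞 𝓔 f d := by
      conv_lhs => rw [hD]
      rw [Finset.sum_eq_single d]
      · intro b hb hbd
        exact hzero b hb hbd
      · intro hnot
        exact absurd hd hnot
    rw [this]
    exact hcomp d
  · have : f = 0 := by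
      rw [hD]
      apply Finset.sum_eq_zero
      intro b hb
      exact hzero b hb (fun hbd => hd (hbd ▸ hb))
    rw [this]
    intro g x _
    exact zero_mem _

end Inverse

end Groth.Agent.Helper8.GD
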