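import Mathlib
import Groth.Prelude.Def_GrLC
import Groth.Agent.Lib.Helper8.GD4

/-!
# Graded duality over a field, IV: reconstruction of a module from its graded dual, in a Veronese pair
(helper8)

`exists_semilinear_of_dual`: for a Veronese pair `φ : R' → R` (`R'_j ≅ R_{jq}`) of graded rings defined over a
field, finitely generated graded modules `C` over `R` and `C'` over `R'`, and an injective `φ`-semilinear additive
map `Ψ : Hom_{R'}(C', E'') → Hom_R(C, E')` carrying the maps of degree `j` onto the maps of degree `jq + s`,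
there is an injective `φ`-semilinear map `g : C' → C` carrying `C'_j` onto `C_{jq - s}`.
-/

set_option autoImplicit false
set_option linter.unusedSectionVars false
universe u
open DirectSum

namespace Groth.Agent.Helper8.GD
open Groth.Agent.Helper9.GrLCLib Groth.Agent.Helper8.Ver

variable {R : Type u} [CommRing R] [IsNoetherianRing R] {𝒜 : ℤ → AddSubgroup R} [GradedRing 𝒜]
  {m : HomogeneousIdeal 𝒜} (hF : FieldGr 𝒜 m)
variable {E' : Type u} [AddCommGroup E'] [Module R E'] {𝓔 : ℤ → AddSubgroup E'}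
  [DirectSum.Decomposition 𝓔] [SetLike.GradedSMul 𝒜 𝓔]
  {e : (R ⧸ m.toIdeal) →ₗ[R] E'} (he : GrLC.IsStarInjHull 𝒜 (GrLC.quotGr 𝒜 m) 𝓔 e)
variable {V : Type u} [CommRing V] [IsNoetherianRing V] {𝒜' : ℤ → AddSubgroup V} [GradedRing 𝒜']
  {m' : HomogeneousIdeal 𝒜'} (hF' : FieldGr 𝒜' m')
variable {E'' : Type u} [AddCommGroup E''] [Module V E''] {𝓔'' : ℤ → AddSubgroup E''}
  [DirectSum.Decomposition 𝓔''] [SetLike.GradedSMul 𝒜' 𝓔'']
  {e' : (V ⧸ m'.toIdeal) →ₗ[V] E''} (he' : GrLC.IsStarInjHull 𝒜' (GrLC.quotGr 𝒜' m') 𝓔'' e')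
variable (D : VerData 𝒜 𝒜')

section IO

/-- the comparison `E''_0 → E'_0` of the two lines, `c • ε₀' ↦ φ c • ε₀` -/
noncomputable def io (y : E'') : E' := D.φ (coordFun hF' he' y) • e 1

include hF he in
lemma io_mem (y : E'') : io hF' he' D (e := e) y ∈ 𝓔 0 := by
  apply smul_eps_mem hF he
  have := D.map_mem (coordFun_mem hF' he' y)
  rwa [zero_mul] at this

lemma io_add {y z : E''} (hy : y ∈ 𝓔'' 0) (hz : z ∈ 𝓔'' 0) :
    io hF' he' D (e := e) (y + z) = io hF' he' D (e := e) y + io hF' he' D (e := e) z := by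
  unfold io
  rw [coordFun_add hF' he' hy hz, map_add, add_smul]

lemma io_smul {c : V} (hc : c ∈ 𝒜' 0) {y : E''} (hy : y ∈ 𝓔'' 0) :
    io hF' he' D (e := e) (c • y) = D.φ c • io hF' he' D (e := e) y := by
  unfold io
  rw [coordFun_smul hF' he' hc hy, map_mul, mul_smul]

include hF he in
lemma io_eq_zero {y : E''} (hy : y ∈ 𝓔'' 0) (h : io hF' he' D (e := e) y = 0) : y = 0 := by
  apply coordFun_eq_zero hF' he' hy
  apply D.inj
  rw [map_zero]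
  apply coord_eq_zero hF he _ h
  have := D.map_mem (coordFun_mem hF' he' y)
  rwa [zero_mul] at this

lemma io_zero : io hF' he' D (e := e) 0 = 0 := by
  have h := io_add hF' he' D (e := e) (zero_mem (𝓔'' 0)) (zero_mem (𝓔'' 0))
  rw [add_zero] at h
  exact left_eq_add.mp h

lemma io_sub {y z : E''} (hy : y ∈ 𝓔'' 0) (hz : z ∈ 𝓔'' 0) :
    io hF' he' D (e := e) (y - z) = io hF' he' D (e := e) y - io hF' he' D (e := e) z := by
  have h := io_add hF' he' D (e := e) (sub_mem hy hz) hz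
  rw [sub_add_cancel] at h
  rw [h, add_sub_cancel_right]

include hF he in
lemma io_injOn {y z : E''} (hy : y ∈ 𝓔'' 0) (hz : z ∈ 𝓔'' 0)
    (h : io hF' he' D (e := e) y = io hF' he' D (e := e) z) : y = z := by
  apply eq_of_sub_eq_zero
  apply io_eq_zero hF he hF' he' D (sub_mem hy hz)
  rw [io_sub hF' he' D hy hz, h, sub_self]

include hF he in
lemma io_surjOn {x : E'} (hx : x ∈ 𝓔 0) : ∃ y ∈ 𝓔'' 0, io hF' he' D (e := e) y = x := by
  obtain ⟨c, hc, rfl⟩ := exists_coord hF he hx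
  have hc' : c ∈ 𝒜 ((0 : ℤ) * D.q) := by rwa [zero_mul]
  obtain ⟨c₀, hc₀, rfl⟩ := D.exists_of_mem hc'
  refine ⟨c₀ • e' 1, smul_eps_mem hF' he' hc₀, ?_⟩
  unfold io
  rw [coordFun_smul_eps hF' he' hc₀]

open Classical in
/-- the inverse comparison `E'_0 → E''_0` -/
noncomputable def oi (x : E') : E'' :=
  if h : x ∈ 𝓔 0 then Classical.choose (io_surjOn hF he hF' he' D h) else 0

lemma oi_mem (x : E') : oi hF he hF' he' D x ∈ 𝓔'' 0 := by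
  unfold oi
  split_ifs with h
  · exact (Classical.choose_spec (io_surjOn hF he hF' he' D h)).1
  · exact zero_mem _

lemma io_oi {x : E'} (hx : x ∈ 𝓔 0) : io hF' he' D (e := e) (oi hF he hF' he' D x) = x := by
  unfold oi
  rw [dif_pos hx]
  exact (Classical.choose_spec (io_surjOn hF he hF' he' D hx)).2

lemma oi_add {x y : E'} (hx : x ∈ 𝓔 0) (hy : y ∈ 𝓔 0) :
    oi hF he hF' he' D (x + y) = oi hF he hF' he' D x + oi hF he hF' he' D y := by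
  apply io_injOn hF he hF' he' D (oi_mem hF he hF' he' D _)
    (add_mem (oi_mem hF he hF' he' D _) (oi_mem hF he hF' he' D _))
  rw [io_oi hF he hF' he' D (add_mem hx hy),
    io_add hF' he' D (oi_mem hF he hF' he' D _) (oi_mem hF he hF' he' D _),
    io_oi hF he hF' he' D hx, io_oi hF he hF' he' D hy]

lemma oi_smul {c : V} (hc : c ∈ 𝒜' 0) {x : E'} (hx : x ∈ 𝓔 0) :
    oi hF he hF' he' D (D.φ c • x) = c • oi hF he hF' he' D x := by
  have hφc : D.φ c ∈ 𝒜 0 := by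
    have := D.map_mem hc
    rwa [zero_mul] at this
  have hcx : D.φ c • x ∈ 𝓔 0 := by
    have := smul_mem_add 𝒜 𝓔 hφc hx
    rwa [add_zero] at this
  have hco : c • oi hF he hF' he' D x ∈ 𝓔'' 0 := by
    have := smul_mem_add 𝒜' 𝓔'' hc (oi_mem hF he hF' he' D x)
    rwa [add_zero] at this
  apply io_injOn hF he hF' he' D (oi_mem hF he hF' he' D _) hco
  rw [io_oi hF he hF' he' D hcx, io_smul hF' he' D hc (oi_mem hF he hF' he' D _),
    io_oi hF he hF' he' D hx]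

end IO

section Recon

variable {C : Type u} [AddCommGroup C] [Module R C] (𝒞 : ℤ → AddSubgroup C)
  [DirectSum.Decomposition 𝒞] [SetLike.GradedSMul 𝒜 𝒞] [Module.Finite R C]
variable {C' : Type u} [AddCommGroup C'] [Module V C'] (𝒞' : ℤ → AddSubgroup C')
  [DirectSum.Decomposition 𝒞'] [SetLike.GradedSMul 𝒜' 𝒞'] [Module.Finite V C']
variable (s : ℤ) (Ψ : (C' →ₗ[V] E'') →+ (C →ₗ[R] E'))
  (hΨi : Function.Injective Ψ)
  (hΨs : ∀ (v : V) (f : C' →ₗ[V] E''), Ψ (v • f) = D.φ v • Ψ f)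
  (hΨg : ∀ (j : ℤ) (f : C →ₗ[R] E'), GrLC.IsGrHomDeg 𝒞 𝓔 f (j * D.q + s) ↔
    ∃ f' : C' →ₗ[V] E'', GrLC.IsGrHomDeg 𝒞' 𝓔'' f' j ∧ Ψ f' = f)

/-- the relation defining the reconstructed map on homogeneous elements -/
def Rel (j : ℤ) (c' : C') (x : C) : Prop :=
  ∀ f' : C' →ₗ[V] E'', GrLC.IsGrHomDeg 𝒞' 𝓔'' f' (-j) → (Ψ f') x = io hF' he' D (e := e) (f' c')

include hΨg in
lemma Ψ_isGrHomDeg {j : ℤ} {f' : C' →ₗ[V] E''} (hf' : GrLC.IsGrHomDeg 𝒞' 𝓔'' f' (-j)) :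
    GrLC.IsGrHomDeg 𝒞 𝓔 (Ψ f') (-(j * D.q - s)) := by
  have h1 : -(j * (D.q : ℤ) - s) = (-j) * D.q + s := by ring
  rw [h1]
  exact (hΨg (-j) (Ψ f')).mpr ⟨f', hf', rfl⟩

lemma apply_mem_zero {j : ℤ} {f' : C' →ₗ[V] E''} (hf' : GrLC.IsGrHomDeg 𝒞' 𝓔'' f' (-j))
    {c' : C'} (hc' : c' ∈ 𝒞' j) : f' c' ∈ 𝓔'' 0 := by
  have := hf' j c' hc'
  rwa [add_neg_cancel] at this

include hF he hΨi hΨs hΨg in
/-- existence of the image of a homogeneous element -/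
lemma exists_rel {j : ℤ} {c' : C'} (hc' : c' ∈ 𝒞' j) :
    ∃ x ∈ 𝒞 (j * D.q - s), Rel hF' he' D (e := e) 𝒞' Ψ j c' x := by
  classical
  haveI := finite_comp 𝒜 𝒞 (j * D.q - s)
  have hpre : ∀ f : GrLC.homDeg 𝒜 𝒞 𝓔 (-(j * D.q - s)),
      ∃ f' : C' →ₗ[V] E'', GrLC.IsGrHomDeg 𝒞' 𝓔'' f' (-j) ∧ Ψ f' = (f : C →ₗ[R] E') := by
    intro f
    have h1 : -(j * (D.q : ℤ) - s) = (-j) * D.q + s := by ring
    have h2 : GrLC.IsGrHomDeg 𝒞 𝓔 (f : C →ₗ[R] E') ((-j) * D.q + s) := h1 ▸ f.2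
    exact (hΨg (-j) _).mp h2
  choose pre hpre1 hpre2 using hpre
  have hpre_add : ∀ f g, pre (f + g) = pre f + pre g := by
    intro f g
    apply hΨi
    rw [map_add, hpre2, hpre2, hpre2]
    rfl
  have hpre_smul : ∀ (c₀ : V) (hc₀ : c₀ ∈ 𝒜' 0) (c : GrLC.deg0 𝒜) (hc : (c : R) = D.φ c₀) f,
      pre (c • f) = c₀ • pre f := by
    intro c₀ hc₀ c hc f
    apply hΨi
    rw [hΨs, hpre2, hpre2, ← hc]
    rfl
  let Λ : GrLC.homDeg 𝒜 𝒞 𝓔 (-(j * D.q - s)) →ₗ[GrLC.deg0 𝒜] E' :=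
    { toFun := fun f => io hF' he' D (e := e) (pre f c')
      map_add' := fun f g => by
        rw [hpre_add, LinearMap.add_apply,
          io_add hF' he' D (apply_mem_zero 𝒞' (hpre1 f) hc') (apply_mem_zero 𝒞' (hpre1 g) hc')]
      map_smul' := fun c f => by
        have hc' : (c : R) ∈ 𝒜 ((0 : ℤ) * D.q) := by rw [zero_mul]; exact c.2
        obtain ⟨c₀, hc₀, hφc₀⟩ := D.exists_of_mem hc'
        rw [hpre_smul c₀ hc₀ c hφc₀.symm f, LinearMap.smul_apply,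
          io_smul hF' he' D hc₀ (apply_mem_zero 𝒞' (hpre1 f) ‹c' ∈ 𝒞' j›), hφc₀]
        rfl }
  obtain ⟨x, hx, hxΛ⟩ := exists_repr hF he 𝒞 Λ (fun f => io_mem hF he hF' he' D _)
  refine ⟨x, hx, fun f' hf' => ?_⟩
  have hf := Ψ_isGrHomDeg D 𝒞 𝒞' s Ψ hΨg hf'
  have h3 := hxΛ ⟨Ψ f', hf⟩
  have h4 : pre ⟨Ψ f', hf⟩ = f' := hΨi (hpre2 ⟨Ψ f', hf⟩)
  have h5 : Λ ⟨Ψ f', hf⟩ = io hF' he' D (e := e) (pre ⟨Ψ f', hf⟩ c') := rfl
  rw [h5, h4] at h3
  exact h3.symm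

include hF he hΨg in
/-- uniqueness of the image -/
lemma rel_unique {j : ℤ} {c' : C'} {x y : C} (hx : x ∈ 𝒞 (j * D.q - s))
    (hy : y ∈ 𝒞 (j * D.q - s)) (hrx : Rel hF' he' D (e := e) 𝒞' Ψ j c' x)
    (hry : Rel hF' he' D (e := e) 𝒞' Ψ j c' y) : x = y := by
  apply eq_of_forall_hom_eq hF he 𝒞 hx hy
  intro f hf
  have h1 : -(j * (D.q : ℤ) - s) = (-j) * D.q + s := by ring
  have h2 : GrLC.IsGrHomDeg 𝒞 𝓔 f ((-j) * D.q + s) := h1 ▸ hf
  obtain ⟨f', hf', rfl⟩ := (hΨg (-j) f).mp h2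
  rw [hrx f' hf', hry f' hf']

include hF he hF' he' in
/-- injectivity on homogeneous elements -/
lemma rel_injective {j : ℤ} {c' d' : C'} {x : C} (hc' : c' ∈ 𝒞' j) (hd' : d' ∈ 𝒞' j)
    (hrc : Rel hF' he' D (e := e) 𝒞' Ψ j c' x) (hrd : Rel hF' he' D (e := e) 𝒞' Ψ j d' x) :
    c' = d' := by
  apply eq_of_forall_hom_eq hF' he' 𝒞' hc' hd'
  intro f' hf'
  apply io_injOn hF he hF' he' D (apply_mem_zero 𝒞' hf' hc') (apply_mem_zero 𝒞' hf' hd')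
  rw [← hrc f' hf', ← hrd f' hf']

include hF he hF' he' hΨs hΨg in
/-- surjectivity onto homogeneous elements -/
lemma exists_rel_preimage {j : ℤ} {x : C} (hx : x ∈ 𝒞 (j * D.q - s)) :
    ∃ c' ∈ 𝒞' j, Rel hF' he' D (e := e) 𝒞' Ψ j c' x := by
  classical
  haveI := finite_comp 𝒜' 𝒞' j
  have hmem : ∀ f' : GrLC.homDeg 𝒜' 𝒞' 𝓔'' (-j), (Ψ (f' : C' →ₗ[V] E'')) x ∈ 𝓔 0 := by
    intro f'
    have h1 := Ψ_isGrHomDeg D 𝒞 𝒞' s Ψ hΨg f'.2 _ x hx
    have h2 : j * (D.q : ℤ) - s + -(j * D.q - s) = 0 := by ring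
    rwa [h2] at h1
  let Λ : GrLC.homDeg 𝒜' 𝒞' 𝓔'' (-j) →ₗ[GrLC.deg0 𝒜'] E'' :=
    { toFun := fun f' => oi hF he hF' he' D ((Ψ (f' : C' →ₗ[V] E'')) x)
      map_add' := fun f' g' => by
        have : Ψ ((f' + g' : GrLC.homDeg 𝒜' 𝒞' 𝓔'' (-j)) : C' →ₗ[V] E'') =
            Ψ (f' : C' →ₗ[V] E'') + Ψ (g' : C' →ₗ[V] E'') := map_add Ψ _ _
        rw [this, LinearMap.add_apply, oi_add hF he hF' he' D (hmem f') (hmem g')]
      map_smul' := fun c f' => by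
        have : Ψ ((c • f' : GrLC.homDeg 𝒜' 𝒞' 𝓔'' (-j)) : C' →ₗ[V] E'') =
            D.φ (c : V) • Ψ (f' : C' →ₗ[V] E'') := hΨs (c : V) _
        rw [this, LinearMap.smul_apply, oi_smul hF he hF' he' D c.2 (hmem f')]
        rfl }
  obtain ⟨c', hc', hcΛ⟩ := exists_repr hF' he' 𝒞' Λ (fun f' => oi_mem hF he hF' he' D _)
  refine ⟨c', hc', fun f' hf' => ?_⟩
  have h3 := hcΛ ⟨f', hf'⟩
  have h4 : Λ ⟨f', hf'⟩ = oi hF he hF' he' D ((Ψ f') x) := rfl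
  rw [h4] at h3
  have h5 : (f' : C' →ₗ[V] E'') c' = ((⟨f', hf'⟩ : GrLC.homDeg 𝒜' 𝒞' 𝓔'' (-j)) : C' →ₗ[V] E'') c' := rfl
  rw [h5, ← h3, io_oi hF he hF' he' D (hmem ⟨f', hf'⟩)]

end Recon

end Groth.Agent.Helper8.GD
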