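import Mathlib
import Groth.Prelude.Def_GrLC
import Groth.Agent.Lib.Helper8.GD5

/-!
# Graded duality over a field, V: the reconstructed semilinear map (helper8)
-/

set_option autoImplicit false
set_option linter.unusedSectionVars false
universe u
open DirectSum

namespace Groth.Agent.Helper8.GD
open Groth.Agent.Helper9.GrLCLib Groth.Agent.Helper8.Ver

variable {R : Type u} [CommRing R] [IsNoetherianRing R] {𝒜 : ℤ → AddSubgroup R} [GradedRing 𝒜]
  {m : HomogeneousIdeal 𝒜} (hF : FieldGr 𝒜 m)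
variable {E' : Type u} [AddCommGroup E'] [Module R E'] {𝓔 : ℤ → AddSubgroup E'}
  [DirectSum.Decomposition 𝓔] [SetLike.GradedSMul 𝒜 𝓔]
  {e : (R ⧸ m.toIdeal) →ₗ[R] E'} (he : GrLC.IsStarInjHull 𝒜 (GrLC.quotGr 𝒜 m) 𝓔 e)
variable {V : Type u} [CommRing V] [IsNoetherianRing V] {𝒜' : ℤ → AddSubgroup V} [GradedRing 𝒜']
  {m' : HomogeneousIdeal 𝒜'} (hF' : FieldGr 𝒜' m')
variable {E'' : Type u} [AddCommGroup E''] [Module V E''] {𝓔'' : ℤ → AddSubgroup E''}
  [DirectSum.Decomposition 𝓔''] [SetLike.GradedSMul 𝒜' 𝓔'']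
  {e' : (V ⧸ m'.toIdeal) →ₗ[V] E''} (he' : GrLC.IsStarInjHull 𝒜' (GrLC.quotGr 𝒜' m') 𝓔'' e')
variable (D : VerData 𝒜 𝒜')
variable {C : Type u} [AddCommGroup C] [Module R C] (𝒞 : ℤ → AddSubgroup C)
  [DirectSum.Decomposition 𝒞] [SetLike.GradedSMul 𝒜 𝒞] [Module.Finite R C]
variable {C' : Type u} [AddCommGroup C'] [Module V C'] (𝒞' : ℤ → AddSubgroup C')
  [DirectSum.Decomposition 𝒞'] [SetLike.GradedSMul 𝒜' 𝒞'] [Module.Finite V C']
variable (s : ℤ) (Ψ : (C' →ₗ[V] E'') →+ (C →ₗ[R] E'))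
  (hΨi : Function.Injective Ψ)
  (hΨs : ∀ (v : V) (f : C' →ₗ[V] E''), Ψ (v • f) = D.φ v • Ψ f)
  (hΨg : ∀ (j : ℤ) (f : C →ₗ[R] E'), GrLC.IsGrHomDeg 𝒞 𝓔 f (j * D.q + s) ↔
    ∃ f' : C' →ₗ[V] E'', GrLC.IsGrHomDeg 𝒞' 𝓔'' f' j ∧ Ψ f' = f)

lemma rel_add {j : ℤ} {c' d' : C'} {x y : C} (hc' : c' ∈ 𝒞' j) (hd' : d' ∈ 𝒞' j)
    (hx : Rel hF' he' D (e := e) 𝒞' Ψ j c' x) (hy : Rel hF' he' D (e := e) 𝒞' Ψ j d' y) :
    Rel hF' he' D (e := e) 𝒞' Ψ j (c' + d') (x + y) := by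
  intro f' hf'
  rw [map_add, map_add, hx f' hf', hy f' hf',
    io_add hF' he' D (apply_mem_zero 𝒞' hf' hc') (apply_mem_zero 𝒞' hf' hd')]

include hΨs in
lemma rel_smul {i j : ℤ} {v : V} (hv : v ∈ 𝒜' i) {c' : C'} {x : C} (hc' : c' ∈ 𝒞' j)
    (hx : Rel hF' he' D (e := e) 𝒞' Ψ j c' x) :
    Rel hF' he' D (e := e) 𝒞' Ψ (i + j) (v • c') (D.φ v • x) := by
  intro f' hf'
  have hvf : GrLC.IsGrHomDeg 𝒞' 𝓔'' (v • f') (-j) := by
    intro g y hy
    rw [LinearMap.smul_apply]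
    have h1 := smul_mem_add 𝒜' 𝓔'' hv (hf' g y hy)
    have h2 : i + (g + -(i + j)) = g + -j := by ring
    rwa [h2] at h1
  have h3 := hx (v • f') hvf
  rw [hΨs, LinearMap.smul_apply, ← map_smul] at h3
  rw [h3, LinearMap.smul_apply, ← map_smul]

include hF he hF' he' hΨi hΨs hΨg in
/-- **Reconstruction from the graded dual.** -/
theorem exists_semilinear_of_dual :
    ∃ g : C' →ₛₗ[D.φ] C, Function.Injective g ∧
      ∀ j : ℤ, (𝒞' j).map (g : C' →+ C) = 𝒞 (j * D.q - s) := by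
  classical
  have hqpos : (0 : ℤ) < D.q := by exact_mod_cast D.hq
  have hex : ∀ (j : ℤ) (c' : 𝒞' j), ∃ x ∈ 𝒞 (j * D.q - s),
      Rel hF' he' D (e := e) 𝒞' Ψ j (c' : C') x :=
    fun j c' => exists_rel hF he hF' he' D 𝒞 𝒞' s Ψ hΨi hΨs hΨg c'.2
  choose gp hgp_mem hgp_rel using hex
  have huniq : ∀ (j : ℤ) (c' : 𝒞' j) (x : C), x ∈ 𝒞 (j * D.q - s) →
      Rel hF' he' D (e := e) 𝒞' Ψ j (c' : C') x → gp j c' = x := fun j c' x hx hr =>
    rel_unique hF he hF' he' D 𝒞 𝒞' s Ψ hΨg (hgp_mem j c') hx (hgp_rel j c') hr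
  have hgp_add : ∀ j (c' d' : 𝒞' j), gp j (c' + d') = gp j c' + gp j d' := by
    intro j c' d'
    apply huniq j (c' + d') _ (add_mem (hgp_mem j c') (hgp_mem j d'))
    exact rel_add hF' he' D 𝒞' Ψ c'.2 d'.2 (hgp_rel j c') (hgp_rel j d')
  let gA : ∀ j, 𝒞' j →+ C := fun j => AddMonoidHom.mk' (gp j) (hgp_add j)
  let g₀ : C' →+ C := (DirectSum.toAddMonoid gA).comp (decomposeAddEquiv 𝒞').toAddMonoidHom
  have hg₀ : ∀ (j : ℤ) (c' : C') (hc' : c' ∈ 𝒞' j), g₀ c' = gp j ⟨c', hc'⟩ := by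
    intro j c' hc'
    show (DirectSum.toAddMonoid gA) (decompose 𝒞' c') = _
    rw [decompose_of_mem 𝒞' hc', DirectSum.toAddMonoid_of]
    rfl
  have hg₀mem : ∀ (j : ℤ) (c' : C'), c' ∈ 𝒞' j → g₀ c' ∈ 𝒞 (j * D.q - s) := by
    intro j c' hc'
    rw [hg₀ j c' hc']
    exact hgp_mem j _
  have hg₀rel : ∀ (j : ℤ) (c' : C') (hc' : c' ∈ 𝒞' j),
      Rel hF' he' D (e := e) 𝒞' Ψ j c' (g₀ c') := by
    intro j c' hc'
    rw [hg₀ j c' hc']
    exact hgp_rel j ⟨c', hc'⟩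
  -- semilinearity
  have hsemi : ∀ (v : V) (c' : C'), g₀ (v • c') = D.φ v • g₀ c' := by
    intro v c'
    induction v using DirectSum.Decomposition.inductionOn 𝒜' with
    | zero => simp
    | @homogeneous i v =>
      induction c' using DirectSum.Decomposition.inductionOn 𝒞' with
      | zero => simp
      | @homogeneous j c' =>
        have hvc : (v : V) • (c' : C') ∈ 𝒞' (i + j) := smul_mem_add 𝒜' 𝒞' v.2 c'.2
        have hdeg : (i + j) * (D.q : ℤ) - s = i * D.q + (j * D.q - s) := by ring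
        have hY : D.φ (v : V) • g₀ (c' : C') ∈ 𝒞 ((i + j) * D.q - s) := by
          rw [hdeg]
          exact smul_mem_add 𝒜 𝒞 (D.map_mem v.2) (hg₀mem j c' c'.2)
        rw [hg₀ (i + j) _ hvc]
        apply huniq (i + j) ⟨_, hvc⟩ _ hY
        exact rel_smul hF' he' D 𝒞' Ψ hΨs v.2 c'.2 (hg₀rel j c' c'.2)
      | add x y hx hy => rw [smul_add, map_add, hx, hy, map_add, smul_add]
    | add v w hv hw => rw [add_smul, map_add, hv, hw, map_add, add_smul]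
  let g : C' →ₛₗ[D.φ] C :=
    { toFun := g₀
      map_add' := map_add g₀
      map_smul' := hsemi }
  have hgg : ∀ c', g c' = g₀ c' := fun _ => rfl
  -- components of the image
  have hproj : ∀ (c' : C') (j : ℤ),
      proj 𝒞 (j * D.q - s) (g₀ c') = g₀ (proj 𝒞' j c') := by
    intro c' j
    induction c' using DirectSum.Decomposition.inductionOn 𝒞' with
    | zero => simp
    | @homogeneous i c' =>
      by_cases hij : i = j
      · subst hij
        rw [proj_of_mem_same 𝒞 (hg₀mem i c' c'.2), proj_of_mem_same 𝒞' c'.2]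
      · have hne : i * (D.q : ℤ) - s ≠ j * D.q - s := by
          intro h
          apply hij
          have h1 : i * (D.q : ℤ) = j * D.q := by linarith
          exact mul_right_cancel₀ hqpos.ne' h1
        rw [proj_of_mem_ne 𝒞 (hg₀mem i c' c'.2) hne, proj_of_mem_ne 𝒞' c'.2 hij, map_zero]
    | add x y hx hy => rw [map_add, map_add, hx, hy, map_add, map_add]
  refine ⟨g, ?_, ?_⟩
  · -- injectivity
    refine (injective_iff_map_eq_zero g).mpr ?_
    intro c' hc'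
    rw [hgg] at hc'
    apply Pos.eq_zero_of_proj_eq_zero 𝒞'
    intro j
    have h1 : g₀ (proj 𝒞' j c') = 0 := by rw [← hproj c' j, hc', map_zero]
    have h2 := hg₀rel j (proj 𝒞' j c') (proj_mem 𝒞' j c')
    rw [h1] at h2
    have h3 : Rel hF' he' D (e := e) 𝒞' Ψ j 0 0 := by
      intro f' _
      rw [map_zero, map_zero, io_zero]
    exact rel_injective hF he hF' he' D 𝒞' Ψ (proj_mem 𝒞' j c') (zero_mem _) h2 h3
  · intro j
    ext x
    constructor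
    · rintro ⟨c', hc', rfl⟩
      exact hg₀mem j c' hc'
    · intro hx
      obtain ⟨c', hc', hr⟩ := exists_rel_preimage hF he hF' he' D 𝒞 𝒞' s Ψ hΨs hΨg hx
      refine ⟨c', hc', ?_⟩
      show g₀ c' = x
      rw [hg₀ j c' hc']
      exact huniq j ⟨c', hc'⟩ x hx hr

end Groth.Agent.Helper8.GD
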