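import Groth.Agent.Lib.Helper8.Ver6

/-!
# Veronese: comparison for abstract presentations and *injective resolutions (helper8)

* `presEquiv`: an abstract presentation `(M', g)` of the Veronese of `M` is isomorphic to `VerT D ℳ`.
* `exists_hom_starInjRes`: the comparison map `F.H a' p → E.H a p` for *injective resolutions `E` of `M`
  and `F` of `M'`.
* `finrank_Hcomp_eq`: equality of the dimensions of the graded pieces.
-/

set_option autoImplicit false
set_option linter.unusedSectionVars false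
universe u
open DirectSum CategoryTheory

namespace Groth.Agent.Helper8.Ver
open Groth.Agent.Helper9.GrLCLib Groth.Agent.Helper8.LC Groth.Agent.S13224.Aux

variable {R : Type u} [CommRing R] {V : Type u} [CommRing V]
variable {𝒜 : ℤ → AddSubgroup R} [GradedRing 𝒜] {𝒜' : ℤ → AddSubgroup V} [GradedRing 𝒜']
  (D : VerData 𝒜 𝒜')

section Pres

variable {M : Type u} [AddCommGroup M] [Module R M]
  (ℳ : ℤ → AddSubgroup M) [DirectSum.Decomposition ℳ] [SetLike.GradedSMul 𝒜 ℳ]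
  {M' : Type u} [AddCommGroup M'] [Module V M']
  (ℳ' : ℤ → AddSubgroup M') [DirectSum.Decomposition ℳ'] [SetLike.GradedSMul 𝒜' ℳ']
  (g : M' →ₛₗ[D.φ] M) (hg : Function.Injective g)
  (hgdeg : ∀ j : ℤ, (ℳ' j).map (g : M' →+ M) = ℳ (j * D.q))

include hgdeg in
lemma pres_mem_verAdd (x : M') : g x ∈ verAdd ℳ D.q := by
  induction x using DirectSum.Decomposition.inductionOn ℳ' with
  | zero => rw [map_zero]; exact zero_mem _
  | @homogeneous j w =>
    apply mem_verAdd_of_mem ℳ D.q (j := j)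
    rw [← hgdeg j]
    exact ⟨w, w.2, rfl⟩
  | add x y hx hy => rw [map_add]; exact add_mem hx hy

/-- the map from an abstract presentation of the Veronese to the constructed one -/
noncomputable def presMap : M' →ₗ[V] VerT D ℳ where
  toFun x := VerT.mk D ℳ (g x) (pres_mem_verAdd D ℳ ℳ' g hgdeg x)
  map_add' x y := VerT.ext D ℳ (by
    change g (x + y) = g x + g y
    rw [map_add])
  map_smul' v x := VerT.ext D ℳ (by
    change g (v • x) = D.φ v • g x
    rw [map_smulₛₗ])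

lemma ι_presMap (x : M') : VerT.ι D ℳ (presMap D ℳ ℳ' g hgdeg x) = g x := rfl

include hg in
lemma presMap_injective : Function.Injective (presMap D ℳ ℳ' g hgdeg) := by
  intro x y hxy
  apply hg
  rw [← ι_presMap D ℳ ℳ' g hgdeg, ← ι_presMap D ℳ ℳ' g hgdeg, hxy]

open Classical in
lemma presMap_surjective : Function.Surjective (presMap D ℳ ℳ' g hgdeg) := by
  intro x
  have h : ∀ i : ℤ, ∃ w : M', g w = proj ℳ i (VerT.ι D ℳ x) := by
    intro i
    by_cases hi : (D.q : ℤ) ∣ i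
    · obtain ⟨j, rfl⟩ := hi
      have : proj ℳ ((D.q : ℤ) * j) (VerT.ι D ℳ x) ∈ ℳ (j * D.q) := by
        rw [mul_comm]; exact proj_mem ℳ _ _
      rw [← hgdeg j] at this
      obtain ⟨w, -, hw⟩ := this
      exact ⟨w, hw⟩
    · exact ⟨0, by rw [map_zero, VerT.ι_mem D ℳ x i hi]⟩
  choose c hc using h
  refine ⟨∑ i ∈ (decompose ℳ (VerT.ι D ℳ x)).support, c i, ?_⟩
  apply VerT.ext D ℳ
  rw [ι_presMap, map_sum]
  simp only [hc]
  exact DirectSum.sum_support_decompose ℳ (VerT.ι D ℳ x)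

/-- an abstract presentation of the Veronese is isomorphic to the constructed one -/
noncomputable def presEquiv : M' ≃ₗ[V] VerT D ℳ :=
  LinearEquiv.ofBijective (presMap D ℳ ℳ' g hgdeg)
    ⟨presMap_injective D ℳ ℳ' g hg hgdeg, presMap_surjective D ℳ ℳ' g hgdeg⟩

lemma isGrHom_presEquiv :
    GrLC.IsGrHom ℳ' (verFam D ℳ) (presEquiv D ℳ ℳ' g hg hgdeg).toLinearMap := by
  intro j x hx
  rw [mem_verFam]
  change g x ∈ ℳ (j * D.q)
  rw [← hgdeg j]
  exact ⟨x, hx, rfl⟩

end Pres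

section Final

variable [IsNoetherianRing R] {a : HomogeneousIdeal 𝒜} {a' : HomogeneousIdeal 𝒜'}
variable {M : Type u} [AddCommGroup M] [Module R M]
  (ℳ : ℤ → AddSubgroup M) [DirectSum.Decomposition ℳ] [SetLike.GradedSMul 𝒜 ℳ]
  {M' : Type u} [AddCommGroup M'] [Module V M']
  (ℳ' : ℤ → AddSubgroup M') [DirectSum.Decomposition ℳ'] [SetLike.GradedSMul 𝒜' ℳ']
  (g : M' →ₛₗ[D.φ] M) (hg : Function.Injective g)
  (hgdeg : ∀ j : ℤ, (ℳ' j).map (g : M' →+ M) = ℳ (j * D.q))

variable {D}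

include hg hgdeg in
/-- **Local cohomology of Veronese modules**, for *injective resolutions. -/
theorem exists_hom_starInjRes (hc : IdealCompat D a a') (E : GrLC.StarInjRes 𝒜 ℳ)
    (F : GrLC.StarInjRes 𝒜' ℳ') (p : ℕ) :
    ∃ Φ : F.H a' p →+ E.H a p, Function.Injective Φ ∧ (∀ (v : V) x, Φ (v • x) = D.φ v • Φ x) ∧
      ∀ (j : ℤ) (y : E.H a p), y ∈ E.Hcomp a p (j * D.q) ↔ ∃ x ∈ F.Hcomp a' p j, Φ x = y := by
  haveI : IsNoetherianRing V := isNoetherianRing_ver D
  obtain ⟨ΘF, hΘF⟩ := exists_theta_LCgr 𝒜' ℳ' a' F p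
  obtain ⟨ΘE, hΘE⟩ := exists_theta_LCgr 𝒜 ℳ a E p
  obtain ⟨ψ, hψinj, hψsmul, hψgr⟩ := exists_isVerIso' hc p ℳ
  let e := presEquiv D ℳ ℳ' g hg hgdeg
  have heg := isGrHom_presEquiv D ℳ ℳ' g hg hgdeg
  have hesg := isGrHom_symm ℳ' (verFam D ℳ) e heg
  let He : LocCoh.H a'.toIdeal p M' →ₗ[V] LocCoh.H a'.toIdeal p (VerT D ℳ) :=
    ((localCohomology a'.toIdeal p).map (ModuleCat.ofHom e.toLinearMap)).hom
  let Hes : LocCoh.H a'.toIdeal p (VerT D ℳ) →ₗ[V] LocCoh.H a'.toIdeal p M' :=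
    ((localCohomology a'.toIdeal p).map (ModuleCat.ofHom e.symm.toLinearMap)).hom
  have h1 : ∀ x, Hes (He x) = x := by
    intro x
    change ((localCohomology a'.toIdeal p).map (ModuleCat.ofHom e.symm.toLinearMap))
      (((localCohomology a'.toIdeal p).map (ModuleCat.ofHom e.toLinearMap)) x) = x
    rw [← ModuleCat.comp_apply, ← Functor.map_comp, ← ModuleCat.ofHom_comp]
    have : e.symm.toLinearMap ∘ₗ e.toLinearMap = LinearMap.id := by
      apply LinearMap.ext; intro y; exact e.symm_apply_apply y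
    rw [this, ModuleCat.ofHom_id, CategoryTheory.Functor.map_id]
    rfl
  have h2 : ∀ x, He (Hes x) = x := by
    intro x
    change ((localCohomology a'.toIdeal p).map (ModuleCat.ofHom e.toLinearMap))
      (((localCohomology a'.toIdeal p).map (ModuleCat.ofHom e.symm.toLinearMap)) x) = x
    rw [← ModuleCat.comp_apply, ← Functor.map_comp, ← ModuleCat.ofHom_comp]
    have : e.toLinearMap ∘ₗ e.symm.toLinearMap = LinearMap.id := by
      apply LinearMap.ext; intro y; exact e.apply_symm_apply y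
    rw [this, ModuleCat.ofHom_id, CategoryTheory.Functor.map_id]
    rfl
  let Φ : F.H a' p →+ E.H a p :=
    ΘE.symm.toLinearMap.toAddMonoidHom.comp
      (ψ.comp (He.toAddMonoidHom.comp ΘF.toLinearMap.toAddMonoidHom))
  have hΦ : ∀ x, Φ x = ΘE.symm (ψ (He (ΘF x))) := fun _ => rfl
  refine ⟨Φ, ?_, ?_, ?_⟩
  · intro x y hxy
    rw [hΦ, hΦ] at hxy
    have h3 := hψinj (ΘE.symm.injective hxy)
    have h4 : ΘF x = ΘF y := by rw [← h1 (ΘF x), ← h1 (ΘF y), h3]
    exact ΘF.injective h4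
  · intro v x
    rw [hΦ, hΦ, map_smul, map_smul, hψsmul, map_smul]
  · intro j y
    rw [hΘE (j * D.q) y, hψgr j (ΘE y)]
    constructor
    · rintro ⟨x₂, hx₂, hx₂y⟩
      refine ⟨ΘF.symm (Hes x₂), ?_, ?_⟩
      · rw [hΘF j, LinearEquiv.apply_symm_apply]
        exact Van.LCgr_map_zero 𝒜' (verFam D ℳ) ℳ' a'.toIdeal p j e.symm.toLinearMap hesg x₂ hx₂
      · rw [hΦ, LinearEquiv.apply_symm_apply, h2, hx₂y, LinearEquiv.symm_apply_apply]
    · rintro ⟨x, hx, rfl⟩
      refine ⟨He (ΘF x), ?_, ?_⟩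
      · exact Van.LCgr_map_zero 𝒜' ℳ' (verFam D ℳ) a'.toIdeal p j e.toLinearMap heg _
          ((hΘF j x).mp hx)
      · rw [hΦ, LinearEquiv.apply_symm_apply]

end Final

section Finrank

lemma finrank_eq_of_semilinear {K L : Type*} [Ring K] [Ring L] (i : K → L)
    (hi : Function.Bijective i) {W W' : Type u} [AddCommGroup W] [Module K W] [AddCommGroup W']
    [Module L W'] (P : Submodule K W) (P' : Submodule L W') (Φ : W →+ W')
    (hinj : Function.Injective Φ) (hsemi : ∀ (k : K) x, Φ (k • x) = i k • Φ x)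
    (himg : ∀ y, y ∈ P' ↔ ∃ x ∈ P, Φ x = y) : Module.finrank K P = Module.finrank L P' := by
  let f : P →+ P' :=
    { toFun := fun x => ⟨Φ x.1, (himg _).mpr ⟨x.1, x.2, rfl⟩⟩
      map_zero' := Subtype.ext (map_zero Φ)
      map_add' := fun x y => Subtype.ext (map_add Φ x.1 y.1) }
  have hf : Function.Bijective f := by
    constructor
    · intro x y hxy
      apply Subtype.ext
      apply hinj
      exact congrArg Subtype.val hxy
    · rintro ⟨y, hy⟩
      obtain ⟨x, hx, rfl⟩ := (himg y).mp hy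
      exact ⟨⟨x, hx⟩, rfl⟩
  let e : P ≃+ P' := AddEquiv.ofBijective f hf
  have hr := rank_eq_of_equiv_equiv i e hi (fun k x => Subtype.ext (hsemi k x.1))
  unfold Module.finrank
  rw [hr]

variable [IsNoetherianRing R] {a : HomogeneousIdeal 𝒜} {a' : HomogeneousIdeal 𝒜'}
variable {M : Type u} [AddCommGroup M] [Module R M]
  (ℳ : ℤ → AddSubgroup M) [DirectSum.Decomposition ℳ] [SetLike.GradedSMul 𝒜 ℳ]
  {M' : Type u} [AddCommGroup M'] [Module V M']
  (ℳ' : ℤ → AddSubgroup M') [DirectSum.Decomposition ℳ'] [SetLike.GradedSMul 𝒜' ℳ']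
  (g : M' →ₛₗ[D.φ] M) (hg : Function.Injective g)
  (hgdeg : ∀ j : ℤ, (ℳ' j).map (g : M' →+ M) = ℳ (j * D.q))

/-- the map induced by `φ` on degree-zero subrings -/
def deg0Map : GrLC.deg0 𝒜' → GrLC.deg0 𝒜 := fun k =>
  ⟨D.φ k.1, by
    have := D.map_mem (j := 0) k.2
    rwa [zero_mul] at this⟩

lemma deg0Map_bijective : Function.Bijective (deg0Map D) := by
  constructor
  · intro k l hkl
    apply Subtype.ext
    apply D.inj
    exact congrArg Subtype.val hkl
  · rintro ⟨r, hr⟩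
    have hr' : r ∈ 𝒜 ((0 : ℤ) * D.q) := by rw [zero_mul]; exact hr
    obtain ⟨v, hv, rfl⟩ := D.exists_of_mem hr'
    exact ⟨⟨v, hv⟩, rfl⟩

variable {D}

include hg hgdeg in
/-- **Dimensions of the pieces of the local cohomology of a Veronese module.** -/
theorem finrank_Hcomp_eq (hc : IdealCompat D a a') (E : GrLC.StarInjRes 𝒜 ℳ)
    (F : GrLC.StarInjRes 𝒜' ℳ') (p : ℕ) (j : ℤ) :
    Module.finrank (GrLC.deg0 𝒜') (F.Hcomp a' p j) =
      Module.finrank (GrLC.deg0 𝒜) (E.Hcomp a p (j * D.q)) := by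
  obtain ⟨Φ, hinj, hsmul, hgr⟩ := exists_hom_starInjRes ℳ ℳ' g hg hgdeg hc E F p
  exact finrank_eq_of_semilinear (deg0Map D) (deg0Map_bijective D) (F.Hcomp a' p j)
    (E.Hcomp a p (j * D.q)) Φ hinj (fun k x => hsmul k.1 x) (hgr j)

end Finrank

section Irrelevant

variable [IsNoetherianRing R]

/-- the irrelevant ideals of `R` and of its Veronese are compatible -/
theorem idealCompat_irrelevant (m : HomogeneousIdeal 𝒜) (m' : HomogeneousIdeal 𝒜')
    (hmsp : m.toIdeal = Ideal.span (⋃ n ∈ Set.Ioi (0 : ℤ), (𝒜 n : Set R)))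
    (hm'sp : m'.toIdeal = Ideal.span (⋃ j ∈ Set.Ioi (0 : ℤ), (𝒜' j : Set V))) :
    IdealCompat D m m' := by
  have hqpos : (0 : ℤ) < D.q := by exact_mod_cast D.hq
  refine ⟨?_, ?_⟩
  · rw [hm'sp, Ideal.map_span, Ideal.span_le]
    rintro _ ⟨v, hv, rfl⟩
    simp only [Set.mem_iUnion, Set.mem_Ioi] at hv
    obtain ⟨j, hj, hvj⟩ := hv
    rw [hmsp]
    apply Ideal.subset_span
    simp only [Set.mem_iUnion, Set.mem_Ioi]
    exact ⟨j * D.q, mul_pos hj hqpos, D.map_mem hvj⟩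
  · apply Ideal.exists_pow_le_of_le_radical_of_fg _ (IsNoetherian.noetherian _)
    rw [hmsp, Ideal.span_le]
    intro x hx
    simp only [Set.mem_iUnion, Set.mem_Ioi] at hx
    obtain ⟨n, hn, hxn⟩ := hx
    refine ⟨D.q, ?_⟩
    have h1 : x ^ D.q ∈ 𝒜 (D.q • n) := SetLike.pow_mem_graded D.q hxn
    have h2 : D.q • n = n * (D.q : ℤ) := by rw [nsmul_eq_mul, mul_comm]
    rw [h2] at h1
    obtain ⟨v, hv, hvx⟩ := D.exists_of_mem h1
    rw [← hvx]
    apply Ideal.mem_map_of_mem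
    rw [hm'sp]
    apply Ideal.subset_span
    simp only [Set.mem_iUnion, Set.mem_Ioi]
    exact ⟨n, hn, hv⟩

end Irrelevant

end Groth.Agent.Helper8.Ver
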