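import Mathlib
import Groth.Prelude.Def_GrLC
import Groth.Agent.Lib.Helper9.GrLC.HGr
import Groth.Agent.Lib.Helper8.GD6
import Groth.Agent.Lib.Helper8.Ver7

/-!
# The canonical module of a Veronese subring (helper8)

* `fieldGr_ver`: a Veronese subring of a graded ring defined over a field is again one.
* `veronese_canonical`: `K_{R^{(q)}} = (K_R)^{(q)}`.
-/

set_option autoImplicit false
set_option linter.unusedSectionVars false
universe u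
open DirectSum

namespace Groth.Agent.Helper8.GD
open Groth.Agent.Helper9.GrLCLib Groth.Agent.Helper8.Ver

variable {R : Type u} [CommRing R] [IsNoetherianRing R] {𝒜 : ℤ → AddSubgroup R} [GradedRing 𝒜]
variable {V : Type u} [CommRing V] {𝒜' : ℤ → AddSubgroup V} [GradedRing 𝒜']
variable (D : VerData 𝒜 𝒜')

/-- the ring isomorphism between the degree zero parts -/
noncomputable def deg0RingEquiv : GrLC.deg0 𝒜' ≃+* GrLC.deg0 𝒜 :=
  RingEquiv.ofBijective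
    ({ toFun := deg0Map D
       map_one' := Subtype.ext (map_one D.φ)
       map_mul' := fun x y => Subtype.ext (map_mul D.φ (x : V) (y : V))
       map_zero' := Subtype.ext (map_zero D.φ)
       map_add' := fun x y => Subtype.ext (map_add D.φ (x : V) (y : V)) } : GrLC.deg0 𝒜' →+* GrLC.deg0 𝒜)
    (deg0Map_bijective D)

include D in
theorem fieldGr_ver {m : HomogeneousIdeal 𝒜} (hF : FieldGr 𝒜 m) (m' : HomogeneousIdeal 𝒜')
    (hm'sp : m'.toIdeal = Ideal.span (⋃ j ∈ Set.Ioi (0 : ℤ), (𝒜' j : Set V))) : FieldGr 𝒜' m' := by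
  have hqpos : (0 : ℤ) < D.q := by exact_mod_cast D.hq
  refine ⟨fun n hn => ?_, ?_, hm'sp⟩
  · rw [eq_bot_iff]
    intro v hv
    rw [AddSubgroup.mem_bot]
    apply D.inj
    rw [map_zero]
    exact hF.eq_zero_of_neg (mul_neg_of_neg_of_pos hn hqpos) (D.map_mem hv)
  · exact MulEquiv.isField hF.field (deg0RingEquiv D).toMulEquiv

section Canonical

variable {m : HomogeneousIdeal 𝒜} (hF : FieldGr 𝒜 m)
variable {E' : Type u} [AddCommGroup E'] [Module R E'] {𝓔 : ℤ → AddSubgroup E'}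
  [DirectSum.Decomposition 𝓔] [SetLike.GradedSMul 𝒜 𝓔]
  {e : (R ⧸ m.toIdeal) →ₗ[R] E'} (he : GrLC.IsStarInjHull 𝒜 (GrLC.quotGr 𝒜 m) 𝓔 e)
variable {m' : HomogeneousIdeal 𝒜'}
  (hm'sp : m'.toIdeal = Ideal.span (⋃ j ∈ Set.Ioi (0 : ℤ), (𝒜' j : Set V)))
variable {E'' : Type u} [AddCommGroup E''] [Module V E''] {𝓔'' : ℤ → AddSubgroup E''}
  [DirectSum.Decomposition 𝓔''] [SetLike.GradedSMul 𝒜' 𝓔'']
  {e' : (V ⧸ m'.toIdeal) →ₗ[V] E''} (he' : GrLC.IsStarInjHull 𝒜' (GrLC.quotGr 𝒜' m') 𝓔'' e')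
variable {C : Type u} [AddCommGroup C] [Module R C] (𝒞 : ℤ → AddSubgroup C)
  [DirectSum.Decomposition 𝒞] [SetLike.GradedSMul 𝒜 𝒞]
variable {C' : Type u} [AddCommGroup C'] [Module V C'] (𝒞' : ℤ → AddSubgroup C')
  [DirectSum.Decomposition 𝒞'] [SetLike.GradedSMul 𝒜' 𝒞']

/-- the ring map of a Veronese pair as a semilinear map -/
def phiSemi : V →ₛₗ[D.φ] R where
  toFun := D.φ
  map_add' := map_add D.φ
  map_smul' v x := by
    rw [smul_eq_mul, map_mul, smul_eq_mul]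

include hF he hm'sp he' in
/-- **The canonical module of a Veronese subring is the Veronese submodule of the canonical module.** -/
theorem veronese_canonical (n : ℕ) (I : GrLC.StarInjRes 𝒜 𝒜) (I' : GrLC.StarInjRes 𝒜' 𝒜')
    (hC : GrLC.IsStarCanonical 𝒜 𝒞 𝓔 m n I) (hC' : GrLC.IsStarCanonical 𝒜' 𝒞' 𝓔'' m' n I') :
    ∃ g : C' →ₛₗ[D.φ] C, Function.Injective g ∧
      ∀ j : ℤ, (𝒞' j).map (g : C' →+ C) = 𝒞 (j * D.q) := by
  haveI : IsNoetherianRing V := isNoetherianRing_ver D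
  have hF' : FieldGr 𝒜' m' := fieldGr_ver D hF m' hm'sp
  obtain ⟨hfin, φC, hφC⟩ := hC
  obtain ⟨hfin', φC', hφC'⟩ := hC'
  haveI := hfin
  haveI := hfin'
  have hc : IdealCompat D m m' := idealCompat_irrelevant D m m' hF.span hm'sp
  obtain ⟨Φ, hΦi, hΦs, hΦg⟩ := exists_hom_starInjRes (D := D) 𝒜 𝒜' (phiSemi D) D.inj
    (fun j => D.deg j) hc I I' n
  -- graded module structures on the cohomology
  let X : GrLC.GMod.{u} 𝒜 := HGMod 𝒜 𝒜 I m n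
  let X' : GrLC.GMod.{u} 𝒜' := HGMod 𝒜' 𝒜' I' m' n
  have hφX : GrLC.IsGrHom (fun d => (GrLC.homDeg 𝒜 𝒞 𝓔 d).toAddSubgroup) X.gr φC.toLinearMap := by
    show GrLC.IsGrHom _ (HGMod 𝒜 𝒜 I m n).gr _
    rw [HGMod_gr]
    exact hφC
  have hφX' : GrLC.IsGrHom (fun d => (GrLC.homDeg 𝒜' 𝒞' 𝓔'' d).toAddSubgroup) X'.gr
      φC'.toLinearMap := by
    show GrLC.IsGrHom _ (HGMod 𝒜' 𝒜' I' m' n).gr _
    rw [HGMod_gr]
    exact hφC'
  have hsymm : ∀ (d : ℤ) (h : I.H m n), h ∈ I.Hcomp m n d → GrLC.IsGrHomDeg 𝒞 𝓔 (φC.symm h) d :=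
    fun d h hh => symm_isGrHomDeg 𝓔 𝒞 X φC hφX ((mem_HGMod_gr_iff 𝒜 𝒜 I m n d h).mpr hh)
  have hsymm' : ∀ (d : ℤ) (h : I'.H m' n), h ∈ I'.Hcomp m' n d →
      GrLC.IsGrHomDeg 𝒞' 𝓔'' (φC'.symm h) d :=
    fun d h hh => symm_isGrHomDeg 𝓔'' 𝒞' X' φC' hφX' ((mem_HGMod_gr_iff 𝒜' 𝒜' I' m' n d h).mpr hh)
  let Ψ : (C' →ₗ[V] E'') →+ (C →ₗ[R] E') :=
    (φC.symm.toLinearMap.toAddMonoidHom.comp Φ).comp φC'.toLinearMap.toAddMonoidHom
  have hΨ : ∀ f', Ψ f' = φC.symm (Φ (φC' f')) := fun _ => rfl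
  have hΨi : Function.Injective Ψ := by
    intro f₁ f₂ h
    rw [hΨ, hΨ] at h
    exact φC'.injective (hΦi (φC.symm.injective h))
  have hΨs : ∀ (v : V) (f : C' →ₗ[V] E''), Ψ (v • f) = D.φ v • Ψ f := by
    intro v f
    rw [hΨ, hΨ, map_smul, hΦs, map_smul]
  have hΨg : ∀ (j : ℤ) (f : C →ₗ[R] E'), GrLC.IsGrHomDeg 𝒞 𝓔 f (j * D.q + 0) ↔
      ∃ f' : C' →ₗ[V] E'', GrLC.IsGrHomDeg 𝒞' 𝓔'' f' j ∧ Ψ f' = f := by
    intro j f
    rw [add_zero]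
    constructor
    · intro hf
      have h1 : φC f ∈ I.Hcomp m n (j * D.q) := hφC (j * D.q) f hf
      obtain ⟨x', hx', hΦx'⟩ := (hΦg j (φC f)).mp h1
      refine ⟨φC'.symm x', hsymm' j x' hx', ?_⟩
      rw [hΨ, LinearEquiv.apply_symm_apply, hΦx', LinearEquiv.symm_apply_apply]
    · rintro ⟨f', hf', rfl⟩
      rw [hΨ]
      apply hsymm
      exact (hΦg j _).mpr ⟨φC' f', hφC' j f' hf', rfl⟩
  obtain ⟨g, hgi, hgd⟩ := exists_semilinear_of_dual hF he hF' he' D 𝒞 𝒞' 0 Ψ hΨi hΨs hΨg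
  refine ⟨g, hgi, fun j => ?_⟩
  rw [hgd j, sub_zero]

end Canonical

end Groth.Agent.Helper8.GD
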