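import Mathlib
import Groth.Prelude.Def_GrLC
import Groth.Prelude.Def_CAlg
import Groth.Agent.Lib.Helper8.GB5
import Groth.Agent.Lib.Helper8.GB6
import Groth.Agent.Lib.Helper8.GD7

/-!
# Gorenstein graded rings over a field and their canonical modules (helper8)

`isGorensteinRing_iff_canonical`: a Cohen–Macaulay graded ring `R` defined over a field is Gorenstein iff its
*canonical module is isomorphic to a shift of `R`.
-/

set_option autoImplicit false
set_option linter.unusedSectionVars false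
universe u
open DirectSum CategoryTheory

namespace Groth.Agent.Helper8.GB
open Groth.Agent.Helper9.GrLCLib Groth.Agent.Helper8.GD LocCoh IsLocalRing
open Groth.Agent.Helper8.LC Groth.Agent.Helper8.Depth Groth.Agent.Helper8.LD

section CMLocal

/-- local cohomology of a Cohen–Macaulay local ring vanishes outside the dimension -/
theorem cm_local_H_vanish (A : Type u) [CommRing A] [hCM : IsCohenMacaulayLocalRing A] (n : ℕ)
    (hn : ringKrullDim A = n) (i : ℕ) (hi : i ≠ n) : Subsingleton (H (maximalIdeal A) i A) := by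
  have hmA : maximalIdeal A • (⊤ : Submodule A A) ≠ ⊤ := smul_top_ne_top_of_local A A
  have hM : IsCohenMacaulayModule A A := hCM.supportDim_eq_depth
  obtain ⟨n', hn', hdepth⟩ := cm_exists_nat hM
  have hnn : n' = n := by
    rw [Module.supportDim_self_eq_ringKrullDim, hn] at hn'
    exact_mod_cast hn'.symm
  subst hnn
  rcases Nat.lt_or_gt_of_ne hi with h | h
  · exact subsingleton_of_lt_idealDepth (maximalIdeal A) hmA i (by
      change (i : ℕ∞) < depth A A
      rw [hdepth]; exact_mod_cast h)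
  · apply subsingleton_of_supportDim_lt (maximalIdeal A)
    rw [hn']
    exact_mod_cast h

variable {R : Type u} [CommRing R] [IsNoetherianRing R] (m : Ideal R) [hm : m.IsMaximal]

include hm in
theorem subsingleton_H_of_local (i : ℕ)
    (h : haveI := hm.isPrime; Subsingleton (H (maximalIdeal (Localization.AtPrime m)) i
      (Localization.AtPrime m))) : Subsingleton (H m i R) := by
  haveI := hm.isPrime
  haveI := h
  obtain ⟨ε⟩ := nonempty_locH_equiv m i
  haveI : Subsingleton (LocalizedModule m.primeCompl (H m i R)) := ε.toEquiv.subsingleton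
  exact (torsionEquiv m (isPowerTorsion_H m i R)).toEquiv.subsingleton

end CMLocal

section SymmDeg

variable {R : Type u} [CommRing R] {𝒜 : ℤ → AddSubgroup R} [GradedRing 𝒜]
variable {M : Type u} [AddCommGroup M] [Module R M] (ℳ : ℤ → AddSubgroup M)
  [DirectSum.Decomposition ℳ] [SetLike.GradedSMul 𝒜 ℳ]
variable {N : Type u} [AddCommGroup N] [Module R N] (𝒩 : ℤ → AddSubgroup N)
  [DirectSum.Decomposition 𝒩] [SetLike.GradedSMul 𝒜 𝒩]

/-- the inverse of a bijection homogeneous of degree `d` is homogeneous of degree `-d` -/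
theorem symm_isGrHomDeg' (β : M ≃ₗ[R] N) {d : ℤ} (hβ : GrLC.IsGrHomDeg ℳ 𝒩 β.toLinearMap d) :
    GrLC.IsGrHomDeg 𝒩 ℳ β.symm.toLinearMap (-d) := by
  classical
  intro g y hy
  show β.symm y ∈ ℳ (g + -d)
  set x := β.symm y with hx
  have hβx : β x = y := β.apply_symm_apply y
  have hcomp : ∀ k, k ≠ g + -d → proj ℳ k x = 0 := by
    intro k hk
    have h1 : β (proj ℳ k x) = proj 𝒩 (k + d) (β x) :=
      (proj_map_of_isGrHomDeg ℳ 𝒩 hβ x k).symm
    rw [hβx, proj_of_mem_ne 𝒩 hy (by intro h; apply hk; omega)] at h1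
    exact β.map_eq_zero_iff.mp h1
  have : x = proj ℳ (g + -d) x := by
    conv_lhs => rw [← DirectSum.sum_support_decompose ℳ x]
    rw [Finset.sum_eq_single (g + -d)]
    · rfl
    · intro b _ hb
      exact hcomp b hb
    · intro hnot
      rw [DFinsupp.mem_support_iff, not_not] at hnot
      rw [hnot]
      rfl
  rw [this]
  exact proj_mem ℳ _ _

end SymmDeg

section Canon

variable {R : Type u} [CommRing R] [IsNoetherianRing R] {𝒜 : ℤ → AddSubgroup R} [GradedRing 𝒜]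
  {m : HomogeneousIdeal 𝒜} (hF : FieldGr 𝒜 m)
variable {E' : Type u} [AddCommGroup E'] [Module R E'] {𝓔 : ℤ → AddSubgroup E'}
  [DirectSum.Decomposition 𝓔] [SetLike.GradedSMul 𝒜 𝓔]
  {e : (R ⧸ m.toIdeal) →ₗ[R] E'} (he : GrLC.IsStarInjHull 𝒜 (GrLC.quotGr 𝒜 m) 𝓔 e)
variable {C : Type u} [AddCommGroup C] [Module R C] (𝒞 : ℤ → AddSubgroup C)
  [DirectSum.Decomposition 𝒞] [SetLike.GradedSMul 𝒜 𝒞]

/-- the identity Veronese datum (`q = 1`) -/
def idVer (𝒜 : ℤ → AddSubgroup R) [GradedRing 𝒜] : Groth.Agent.Helper8.Ver.VerData 𝒜 𝒜 where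
  φ := RingHom.id R
  q := 1
  hq := Nat.one_pos
  inj := Function.injective_id
  deg j := by
    ext x
    simp

include hF he in
/-- if `H^n_m(R)` is a shift of `*E(R/m)` then the canonical module is a shift of `R` -/
theorem exists_shift_equiv_canonical (n : ℕ) (I : GrLC.StarInjRes 𝒜 𝒜)
    (hC : GrLC.IsStarCanonical 𝒜 𝒞 𝓔 m n I) (g₀ : ℤ) (β : E' ≃ₗ[R] I.H m n)
    (hβ : GrLC.IsGrHomDeg 𝓔 (I.Hgr m n) β.toLinearMap g₀) :
    ∃ f : R →ₗ[R] C, Function.Bijective f ∧ GrLC.IsGrHomDeg 𝒜 𝒞 f (-g₀) := by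
  classical
  obtain ⟨hfin, φC, hφC⟩ := hC
  haveI := hfin
  let X : GrLC.GMod.{u} 𝒜 := HGMod 𝒜 𝒜 I m n
  have hXgr : X.gr = I.Hgr m n := HGMod_gr 𝒜 𝒜 I m n
  have hφX : GrLC.IsGrHom (fun d => (GrLC.homDeg 𝒜 𝒞 𝓔 d).toAddSubgroup) X.gr φC.toLinearMap := by
    show GrLC.IsGrHom _ (HGMod 𝒜 𝒜 I m n).gr _
    rw [HGMod_gr]
    exact hφC
  have hsymm : ∀ (d : ℤ) (h : I.H m n), h ∈ I.Hgr m n d → GrLC.IsGrHomDeg 𝒞 𝓔 (φC.symm h) d := by
    intro d h hh
    exact symm_isGrHomDeg 𝓔 𝒞 X φC hφX (hXgr ▸ hh)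
  let βX : E' ≃ₗ[R] X.carrier := β
  have hβX : GrLC.IsGrHomDeg 𝓔 X.gr βX.toLinearMap g₀ := by
    rw [hXgr]; exact hβ
  have hβs := symm_isGrHomDeg' 𝓔 X.gr βX hβX
  -- the map on duals
  let ev : (R →ₗ[R] E') ≃ₗ[R] E' := LinearMap.ringLmapEquivSelf R R E'
  have hev : ∀ f : R →ₗ[R] E', ev f = f 1 := fun f => rfl
  let Ψ : (R →ₗ[R] E') →+ (C →ₗ[R] E') :=
    ((φC.symm.toLinearMap.comp β.toLinearMap).comp ev.toLinearMap).toAddMonoidHom
  have hΨ : ∀ f', Ψ f' = φC.symm (β (f' 1)) := fun _ => rfl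
  have hΨi : Function.Injective Ψ := by
    intro f₁ f₂ h
    rw [hΨ, hΨ] at h
    have h1 : f₁ 1 = f₂ 1 := β.injective (φC.symm.injective h)
    apply LinearMap.ext_ring
    exact h1
  have hΨs : ∀ (v : R) (f : R →ₗ[R] E'), Ψ (v • f) = (idVer 𝒜).φ v • Ψ f := by
    intro v f
    rw [hΨ, hΨ, LinearMap.smul_apply, map_smul, map_smul]
    rfl
  have hΨg : ∀ (j : ℤ) (f : C →ₗ[R] E'), GrLC.IsGrHomDeg 𝒞 𝓔 f (j * (idVer 𝒜).q + g₀) ↔
      ∃ f' : R →ₗ[R] E', GrLC.IsGrHomDeg 𝒜 𝓔 f' j ∧ Ψ f' = f := by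
    intro j f
    have hq : (j * ((idVer 𝒜).q : ℤ) + g₀) = j + g₀ := by
      show j * ((1 : ℕ) : ℤ) + g₀ = j + g₀
      simp
    rw [hq]
    constructor
    · intro hf
      have h1 : φC f ∈ I.Hgr m n (j + g₀) := hφC (j + g₀) f hf
      have h2 : β.symm (φC f) ∈ 𝓔 (j + g₀ + -g₀) := hβs (j + g₀) (φC f) (hXgr ▸ h1)
      rw [add_neg_cancel_right] at h2
      refine ⟨LinearMap.toSpanSingleton R E' (β.symm (φC f)), ?_, ?_⟩
      · intro k r hr
        rw [LinearMap.toSpanSingleton_apply]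
        exact smul_mem_add 𝒜 𝓔 hr h2
      · rw [hΨ, LinearMap.toSpanSingleton_apply, one_smul, LinearEquiv.apply_symm_apply,
          LinearEquiv.symm_apply_apply]
    · rintro ⟨f', hf', rfl⟩
      rw [hΨ]
      apply hsymm
      have h1 : f' 1 ∈ 𝓔 (0 + j) := hf' 0 1 SetLike.GradedOne.one_mem
      rw [zero_add] at h1
      exact hβ j (f' 1) h1
  obtain ⟨g, hgi, hgd⟩ := exists_semilinear_of_dual hF he hF he (idVer 𝒜) 𝒞 𝒜 g₀ Ψ hΨi hΨs hΨg
  let f : R →ₗ[R] C :=
    { toFun := g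
      map_add' := map_add g
      map_smul' := fun r x => by
        have := map_smulₛₗ g r x
        exact this }
  have hfg : ∀ x, f x = g x := fun _ => rfl
  have himg : ∀ j : ℤ, ∀ y : C, y ∈ 𝒞 (j - g₀) → ∃ x ∈ 𝒜 j, f x = y := by
    intro j y hy
    have h1 := hgd j
    have hq : (j * ((idVer 𝒜).q : ℤ) - g₀) = j - g₀ := by
      show j * ((1 : ℕ) : ℤ) - g₀ = j - g₀
      simp
    rw [hq] at h1
    rw [← h1] at hy
    obtain ⟨x, hx, hxy⟩ := hy
    exact ⟨x, hx, hxy⟩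
  refine ⟨f, ⟨hgi, ?_⟩, ?_⟩
  · intro y
    have key : ∀ k : ℤ, ∃ x : R, f x = proj 𝒞 k y := by
      intro k
      obtain ⟨x, -, hx⟩ := himg (k + g₀) (proj 𝒞 k y) (by
        rw [add_sub_cancel_right]; exact proj_mem 𝒞 k y)
      exact ⟨x, hx⟩
    choose c hc using key
    refine ⟨∑ k ∈ (decompose 𝒞 y).support, c k, ?_⟩
    rw [map_sum]
    simp only [hc]
    exact DirectSum.sum_support_decompose 𝒞 y
  · intro j x hx
    have h1 := hgd j
    have hq : (j * ((idVer 𝒜).q : ℤ) - g₀) = j + -g₀ := by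
      show j * ((1 : ℕ) : ℤ) - g₀ = j + -g₀
      simp [sub_eq_add_neg]
    rw [hq] at h1
    rw [← h1]
    exact ⟨x, hx, rfl⟩

include hF he in
/-- vanishing of graded local cohomology outside the dimension for a Cohen–Macaulay graded ring -/
theorem subsingleton_starH_of_cm [hCM : IsCohenMacaulayRing R] (n : ℕ) (hn : ringKrullDim R = n)
    (I : GrLC.StarInjRes 𝒜 𝒜) (i : ℕ) (hi : i ≠ n) : Subsingleton (I.H m i) := by
  haveI hmax : m.toIdeal.IsMaximal := hF.isMaximal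
  haveI hprime : m.toIdeal.IsPrime := hmax.isPrime
  haveI := hCM.isCohenMacaulayLocalRing_localization m.toIdeal
  have hn' : ringKrullDim (Localization.AtPrime m.toIdeal) = n := by
    rw [ringKrullDim_atPrime hF, hn]
  have h1 := cm_local_H_vanish (Localization.AtPrime m.toIdeal) n hn' i hi
  haveI := subsingleton_H_of_local m.toIdeal i h1
  obtain ⟨Θ, -⟩ := exists_theta_LCgr 𝒜 𝒜 m I i
  exact Θ.toEquiv.subsingleton

include hF he in
/-- **A Cohen–Macaulay graded ring over a field is Gorenstein iff its canonical module is a shift of `R`.** -/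
theorem isGorensteinRing_iff_canonical [hCM : IsCohenMacaulayRing R] (n : ℕ)
    (hn : ringKrullDim R = n) (I : GrLC.StarInjRes 𝒜 𝒜)
    (hC : GrLC.IsStarCanonical 𝒜 𝒞 𝓔 m n I) :
    IsGorensteinRing R ↔ ∃ (a : ℤ) (f : R →ₗ[R] C), Function.Bijective f ∧
      GrLC.IsGrHomDeg 𝒜 𝒞 f a := by
  haveI hmax : m.toIdeal.IsMaximal := hF.isMaximal
  haveI hprime : m.toIdeal.IsPrime := hmax.isPrime
  have hn' : ringKrullDim (Localization.AtPrime m.toIdeal) = n := by
    rw [ringKrullDim_atPrime hF, hn]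
  constructor
  · intro hG
    have hGm := hG.isGorensteinLocalRing_localization m.toIdeal
    obtain ⟨-, g₀, β, hβ⟩ := exists_grEquiv_of_gorenstein hF he I n hGm hn'
    obtain ⟨f, hf, hfd⟩ := exists_shift_equiv_canonical hF he 𝒞 n I hC g₀ β hβ
    exact ⟨-g₀, f, hf, hfd⟩
  · rintro ⟨a, f, hf, -⟩
    obtain ⟨hfin, φC, -⟩ := hC
    let fe : R ≃ₗ[R] C := LinearEquiv.ofBijective f hf
    let ψ : I.H m n ≃ₗ[R] E' :=
      (φC.symm.trans (fe.symm.arrowCongr (LinearEquiv.refl R E'))).trans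
        (LinearMap.ringLmapEquivSelf R R E')
    exact isGorensteinRing_of_H hF he I n
      (fun i hi => subsingleton_starH_of_cm hF he n hn I i hi) ψ

end Canon

end Groth.Agent.Helper8.GB
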