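import Mathlib
import Groth.Prelude.Def_GrLC
import Groth.Agent.Lib.Helper9.GrLC.Hull
import Groth.Agent.Lib.Helper9.GrLC.Coind
import Groth.Agent.Lib.Helper9.GrLC.QuotGr
import Groth.Agent.Lib.Helper9.GrLC.AInv
import Groth.Agent.Lib.Helper8.GD7

/-!
# Veronese subrings of Gorenstein graded rings, I: preliminaries (helper8)

* `exists_starInjHull_quot`: existence of a *injective envelope of `R/m`.
* `irrIdeal`: the irrelevant ideal as a homogeneous ideal.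
* `finrank_E_piece`: `dim_k E'_j = dim_k R_{-j}` for the *injective envelope `E'` of `R/m`.
* `endDeg_eq_of`: computing the end of a graded object.
-/

set_option autoImplicit false
set_option linter.unusedSectionVars false
universe u
open DirectSum

namespace Groth.Agent.Helper8.GV
open Groth.Agent.Helper9.GrLCLib Groth.Agent.Helper8.GD Groth.Agent.Helper8.Ver

section Hull

variable {R : Type u} [CommRing R] (𝒜 : ℤ → AddSubgroup R) [GradedRing 𝒜]

/-- existence of a *injective envelope of `R/m` -/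
theorem exists_starInjHull_quot (m : HomogeneousIdeal 𝒜) :
    ∃ (E : GrLC.GMod.{u} 𝒜) (e : (R ⧸ m.toIdeal) →ₗ[R] E.carrier),
      GrLC.IsStarInjHull 𝒜 (GrLC.quotGr 𝒜 m) E.gr e := by
  letI := quotGrDecomposition 𝒜 m
  letI := quotGrGradedSMul 𝒜 m
  obtain ⟨A, η, hη, hηinj, hA⟩ := exists_starInj_embedding 𝒜 (GrLC.quotGr 𝒜 m)
  obtain ⟨E, K, hE, hle, -, -, hhull⟩ := exists_hull_in_starInj 𝒜 (GrLC.quotGr 𝒜 m) A hA η hη hηinj
    (range_isHomogeneous (GrLC.quotGr 𝒜 m) A.gr hη)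
  exact ⟨subGMod A E hE, subLift A E hE η hle, hhull⟩

/-- the irrelevant ideal -/
def irrIdeal : HomogeneousIdeal 𝒜 :=
  ⟨Ideal.span (⋃ n ∈ Set.Ioi (0 : ℤ), (𝒜 n : Set R)), by
    apply Ideal.homogeneous_span
    intro x hx
    simp only [Set.mem_iUnion, Set.mem_Ioi, SetLike.mem_coe] at hx
    obtain ⟨n, -, hxn⟩ := hx
    exact ⟨n, hxn⟩⟩

lemma irrIdeal_toIdeal :
    (irrIdeal 𝒜).toIdeal = Ideal.span (⋃ n ∈ Set.Ioi (0 : ℤ), (𝒜 n : Set R)) := rfl

end Hull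

section A4

variable {R : Type u} [CommRing R] [IsNoetherianRing R] {𝒜 : ℤ → AddSubgroup R} [GradedRing 𝒜]
  {m : HomogeneousIdeal 𝒜} (hF : FieldGr 𝒜 m)
variable {E' : Type u} [AddCommGroup E'] [Module R E'] {𝓔 : ℤ → AddSubgroup E'}
  [DirectSum.Decomposition 𝓔] [SetLike.GradedSMul 𝒜 𝓔]
  {e : (R ⧸ m.toIdeal) →ₗ[R] E'} (he : GrLC.IsStarInjHull 𝒜 (GrLC.quotGr 𝒜 m) 𝓔 e)

/-- evaluation at `1` on homogeneous maps `R → E'` of degree `d` -/
noncomputable def evOne (𝓔 : ℤ → AddSubgroup E') [DirectSum.Decomposition 𝓔]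
    [SetLike.GradedSMul 𝒜 𝓔] (d : ℤ) :
    GrLC.homDeg 𝒜 𝒜 𝓔 d →ₗ[GrLC.deg0 𝒜] GrLC.comp 𝒜 𝓔 d where
  toFun f := ⟨(f : R →ₗ[R] E') 1, by
    have h := f.2 0 1 SetLike.GradedOne.one_mem
    rwa [zero_add] at h⟩
  map_add' f g := Subtype.ext rfl
  map_smul' c f := Subtype.ext rfl

lemma evOne_bijective (d : ℤ) : Function.Bijective (evOne (𝒜 := 𝒜) 𝓔 d) := by
  constructor
  · refine (injective_iff_map_eq_zero _).mpr ?_
    intro f hf
    apply Subtype.ext
    apply LinearMap.ext_ring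
    exact congrArg Subtype.val hf
  · intro y
    refine ⟨⟨LinearMap.toSpanSingleton R E' (y : E'), ?_⟩, ?_⟩
    · intro k r hr
      rw [LinearMap.toSpanSingleton_apply]
      exact smul_mem_add 𝒜 𝓔 hr y.2
    · apply Subtype.ext
      show LinearMap.toSpanSingleton R E' (y : E') 1 = y
      rw [LinearMap.toSpanSingleton_apply, one_smul]

include hF he in
/-- **`dim_k E'_{-j} = dim_k R_j`** -/
theorem finrank_E_piece (j : ℤ) :
    Module.Finite (GrLC.deg0 𝒜) (GrLC.comp 𝒜 𝓔 (-j)) ∧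
      Module.finrank (GrLC.deg0 𝒜) (GrLC.comp 𝒜 𝓔 (-j)) =
        Module.finrank (GrLC.deg0 𝒜) (GrLC.comp 𝒜 𝒜 j) := by
  haveI := finite_comp 𝒜 𝒜 j
  obtain ⟨hfin, hrank⟩ := finrank_homDeg hF he 𝒜 (j := j)
  haveI := hfin
  let eq := LinearEquiv.ofBijective (evOne (𝒜 := 𝒜) 𝓔 (-j)) (evOne_bijective (-j))
  exact ⟨Module.Finite.equiv eq, by rw [← eq.finrank_eq, hrank]⟩

end A4

section EndDeg

variable {M : Type u} [AddCommGroup M]

lemma endDeg_eq_of (ℳ : ℤ → AddSubgroup M) (a : ℤ) (h1 : ℳ a ≠ ⊥) (h2 : ∀ j, a < j → ℳ j = ⊥) :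
    GrLC.endDeg ℳ = ((a : WithTop ℤ) : WithBot (WithTop ℤ)) := by
  apply le_antisymm
  · apply AInv.endDeg_le
    intro n hn
    have : n ≤ a := by
      by_contra hlt
      push Not at hlt
      exact hn (h2 n hlt)
    exact_mod_cast this
  · exact AInv.le_endDeg ℳ a h1

end EndDeg

end Groth.Agent.Helper8.GV
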