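import Mathlib
import Groth.Prelude.Def_GrLC
import Groth.Agent.Lib.Helper8.GV1
import Groth.Agent.Lib.Helper8.Ver7

/-!
# Veronese subrings of Gorenstein graded rings, II (helper8)

The Veronese of the *injective envelope `E'` of `R/m` is the *injective envelope `E''` of `V/m'`:
`exists_theta` constructs a bijective homogeneous `V`-linear map `VerT D 𝓔 → E''`.
-/

set_option autoImplicit false
set_option linter.unusedSectionVars false
universe u
open DirectSum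

namespace Groth.Agent.Helper8.GV
open Groth.Agent.Helper9.GrLCLib Groth.Agent.Helper8.GD Groth.Agent.Helper8.Ver

section Surj

variable {R : Type u} [CommRing R] {𝒜 : ℤ → AddSubgroup R} [GradedRing 𝒜]
  {M N : Type u} [AddCommGroup M] [Module R M] [AddCommGroup N] [Module R N]
  (ℳ : ℤ → AddSubgroup M) [DirectSum.Decomposition ℳ] [SetLike.GradedSMul 𝒜 ℳ]
  (𝒩 : ℤ → AddSubgroup N) [DirectSum.Decomposition 𝒩] [SetLike.GradedSMul 𝒜 𝒩]

/-- an injective homogeneous map between graded modules whose pieces are finite-dimensional of the same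
dimension over the field `R_0` is surjective -/
lemma surjective_of_finrank_eq (h0 : IsField (GrLC.deg0 𝒜)) (θ : M →ₗ[R] N)
    (hθ : GrLC.IsGrHom ℳ 𝒩 θ) (hinj : Function.Injective θ)
    (hfin : ∀ j, Module.Finite (GrLC.deg0 𝒜) (GrLC.comp 𝒜 𝒩 j))
    (hrank : ∀ j, Module.finrank (GrLC.deg0 𝒜) (GrLC.comp 𝒜 ℳ j) =
      Module.finrank (GrLC.deg0 𝒜) (GrLC.comp 𝒜 𝒩 j)) :
    Function.Surjective θ := by
  letI : Field (GrLC.deg0 𝒜) := h0.toField
  have key : ∀ j, ∀ y ∈ 𝒩 j, ∃ x, θ x = y := by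
    intro j y hy
    let θj : GrLC.comp 𝒜 ℳ j →ₗ[GrLC.deg0 𝒜] GrLC.comp 𝒜 𝒩 j :=
      { toFun := fun x => ⟨θ x.1, hθ j x.1 x.2⟩
        map_add' := fun x y => Subtype.ext (map_add θ _ _)
        map_smul' := fun c x => Subtype.ext (map_smul θ (c : R) (x : M)) }
    have hθj : Function.Injective θj := fun x y hxy =>
      Subtype.ext (hinj (congrArg Subtype.val hxy))
    haveI := hfin j
    haveI : Module.Finite (GrLC.deg0 𝒜) (GrLC.comp 𝒜 ℳ j) := Module.Finite.of_injective θj hθj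
    have hsurj : Function.Surjective θj :=
      (LinearMap.injective_iff_surjective_of_finrank_eq_finrank (hrank j)).mp hθj
    obtain ⟨x, hx⟩ := hsurj ⟨y, hy⟩
    exact ⟨x.1, congrArg Subtype.val hx⟩
  intro y
  induction y using DirectSum.Decomposition.inductionOn 𝒩 with
  | zero => exact ⟨0, map_zero _⟩
  | @homogeneous j w => exact key j w w.2
  | add a b ha hb =>
    obtain ⟨x, hx⟩ := ha
    obtain ⟨x', hx'⟩ := hb
    exact ⟨x + x', by rw [map_add, hx, hx']⟩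

end Surj

section Theta

variable {R : Type u} [CommRing R] [IsNoetherianRing R] {V : Type u} [CommRing V]
variable {𝒜 : ℤ → AddSubgroup R} [GradedRing 𝒜] {𝒜' : ℤ → AddSubgroup V} [GradedRing 𝒜']
  (D : VerData 𝒜 𝒜')
variable {m : HomogeneousIdeal 𝒜} (hF : FieldGr 𝒜 m) {m' : HomogeneousIdeal 𝒜'}
  (hF' : FieldGr 𝒜' m')
variable {E' : Type u} [AddCommGroup E'] [Module R E'] {𝓔 : ℤ → AddSubgroup E'}
  [DirectSum.Decomposition 𝓔] [SetLike.GradedSMul 𝒜 𝓔]
  {e : (R ⧸ m.toIdeal) →ₗ[R] E'} (he : GrLC.IsStarInjHull 𝒜 (GrLC.quotGr 𝒜 m) 𝓔 e)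
variable {E'' : Type u} [AddCommGroup E''] [Module V E''] {𝓔'' : ℤ → AddSubgroup E''}
  [DirectSum.Decomposition 𝓔''] [SetLike.GradedSMul 𝒜' 𝓔'']
  {e'' : (V ⧸ m'.toIdeal) →ₗ[V] E''}
  (he'' : GrLC.IsStarInjHull 𝒜' (GrLC.quotGr 𝒜' m') 𝓔'' e'')

omit [IsNoetherianRing R] in
lemma smul_eps (r : R) : r • e 1 = e (Ideal.Quotient.mk m.toIdeal r) := by
  rw [← map_smul]
  congr 1
  rw [← map_one (Ideal.Quotient.mk m.toIdeal)]
  change Ideal.Quotient.mk m.toIdeal (r • (1 : R)) = _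
  rw [smul_eq_mul, mul_one]

include hF hF' in
omit [IsNoetherianRing R] in
/-- the contraction of the irrelevant ideal of `R` is the irrelevant ideal of `V` -/
lemma comap_irr (hc : IdealCompat D m m') : m.toIdeal.comap D.φ = m'.toIdeal := by
  haveI := hF'.isMaximal
  symm
  apply Ideal.IsMaximal.eq_of_le hF'.isMaximal
  · intro h
    have h1 : (1 : V) ∈ m.toIdeal.comap D.φ := by rw [h]; trivial
    rw [Ideal.mem_comap, map_one] at h1
    exact hF.one_notMem h1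
  · rw [← Ideal.map_le_iff_le_comap]
    exact hc.le

include hF he in
omit [IsNoetherianRing R] in
lemma eps_mem_verAdd : e 1 ∈ verAdd 𝓔 D.q := by
  apply mem_verAdd_of_mem 𝓔 D.q (j := 0)
  rw [zero_mul]
  exact eps_mem hF he

/-- the socle generator of the Veronese of `E'` -/
noncomputable def w0 : VerT D 𝓔 := VerT.mk D 𝓔 (e 1) (eps_mem_verAdd D hF he)

omit [IsNoetherianRing R] in
lemma ι_w0 : VerT.ι D 𝓔 (w0 D hF he) = e 1 := rfl

omit [IsNoetherianRing R] in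
lemma ι_smul_w0 (v : V) : VerT.ι D 𝓔 (v • w0 D hF he) = e (Ideal.Quotient.mk m.toIdeal (D.φ v)) := by
  rw [VerT.ι_smul, ι_w0, smul_eps]

/-- the inclusion of the residue field of `V` into the Veronese of `E'` -/
noncomputable def eV (hc : IdealCompat D m m') : (V ⧸ m'.toIdeal) →ₗ[V] VerT D 𝓔 :=
  Submodule.liftQ m'.toIdeal (LinearMap.toSpanSingleton V (VerT D 𝓔) (w0 D hF he)) (by
    intro v hv
    rw [LinearMap.mem_ker, LinearMap.toSpanSingleton_apply]
    apply VerT.ext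
    rw [ι_smul_w0, map_zero]
    have : D.φ v ∈ m.toIdeal := hc.le (Ideal.mem_map_of_mem _ hv)
    rw [Ideal.Quotient.eq_zero_iff_mem.mpr this, map_zero])

omit [IsNoetherianRing R] in
lemma eV_mk (hc : IdealCompat D m m') (v : V) :
    eV D hF he hc (Ideal.Quotient.mk m'.toIdeal v) = v • w0 D hF he := rfl

include hF' in
omit [IsNoetherianRing R] in
lemma isStarEss_eV (hc : IdealCompat D m m') :
    GrLC.IsStarEss (GrLC.quotGr 𝒜' m') (verFam D 𝓔) (eV D hF he hc) := by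
  refine ⟨?_, ?_, ?_⟩
  · refine (injective_iff_map_eq_zero _).mpr ?_
    intro y hy
    obtain ⟨v, rfl⟩ := Ideal.Quotient.mk_surjective y
    rw [eV_mk] at hy
    have h1 := congrArg (VerT.ι D 𝓔) hy
    rw [ι_smul_w0, map_zero] at h1
    have h2 : Ideal.Quotient.mk m.toIdeal (D.φ v) = 0 := he.injective (by rw [h1, map_zero])
    rw [Ideal.Quotient.eq_zero_iff_mem] at h2
    rw [Ideal.Quotient.eq_zero_iff_mem, ← comap_irr D hF hF' hc]
    exact h2
  · intro j y hy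
    obtain ⟨v, hv, rfl⟩ := hy
    change eV D hF he hc (Ideal.Quotient.mk m'.toIdeal v) ∈ verFam D 𝓔 j
    rw [eV_mk, mem_verFam, VerT.ι_smul, ι_w0]
    have := smul_mem_add 𝒜 𝓔 (D.map_mem hv) (eps_mem hF he)
    rwa [add_zero] at this
  · intro P hP hne
    obtain ⟨j, x, hxP, hxj, hx0⟩ := exists_homog_mem_ne_zero (verFam D 𝓔) hP hne
    rw [mem_verFam] at hxj
    have hιx0 : VerT.ι D 𝓔 x ≠ 0 := fun h => hx0 (VerT.ext D 𝓔 (by rw [h, map_zero]))
    obtain ⟨r, hr, hrx0, hrx⟩ := exists_smul_ne_zero hF he hxj hιx0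
    have hr' : r ∈ 𝒜 ((-j) * D.q) := by rwa [neg_mul]
    obtain ⟨v, hv, rfl⟩ := D.exists_of_mem hr'
    have hmem0 : D.φ v • VerT.ι D 𝓔 x ∈ 𝓔 0 := (mem_zero_iff hF he _).mpr hrx
    obtain ⟨c, hc0, hcx⟩ := exists_coord hF he hmem0
    have hc0' : c ∈ 𝒜 ((0 : ℤ) * D.q) := by rwa [zero_mul]
    obtain ⟨v', hv', rfl⟩ := D.exists_of_mem hc0'
    have hvx : v • x = eV D hF he hc (Ideal.Quotient.mk m'.toIdeal v') := by
      apply VerT.ext
      rw [eV_mk, VerT.ι_smul, VerT.ι_smul, ι_w0, hcx]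
    intro hbot
    have hmem : v • x ∈ P ⊓ LinearMap.range (eV D hF he hc) :=
      ⟨P.smul_mem v hxP, ⟨_, hvx.symm⟩⟩
    rw [hbot, Submodule.mem_bot] at hmem
    apply hrx0
    rw [← VerT.ι_smul, hmem, map_zero]

include hF hF' he he'' in
omit [IsNoetherianRing R] in
/-- the comparison map from the Veronese of `E'` to `E''` -/
theorem exists_theta_inj (hc : IdealCompat D m m') :
    ∃ θ : VerT D 𝓔 →ₗ[V] E'', GrLC.IsGrHom (verFam D 𝓔) 𝓔'' θ ∧ Function.Injective θ := by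
  letI := quotGrDecomposition 𝒜' m'
  letI := quotGrGradedSMul 𝒜' m'
  have hess := isStarEss_eV D hF hF' he hc
  obtain ⟨θ₀, hθ₀, hθe⟩ := he''.starInj (GrLC.GMod.of 𝒜' (V ⧸ m'.toIdeal) (GrLC.quotGr 𝒜' m'))
    (GrLC.GMod.of 𝒜' (VerT D 𝓔) (verFam D 𝓔)) (eV D hF he hc) hess.grHom hess.injective e''
    he''.grHom
  let θ : VerT D 𝓔 →ₗ[V] E'' := θ₀
  have hθ : GrLC.IsGrHom (verFam D 𝓔) 𝓔'' θ := hθ₀
  have hcomp : θ ∘ₗ eV D hF he hc = e'' := hθe
  refine ⟨θ, hθ, ?_⟩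
  apply injective_of_comp_injective' (verFam D 𝓔) 𝓔'' (GrLC.quotGr 𝒜' m') hess hθ
  rw [hcomp]
  exact he''.injective

end Theta

end Groth.Agent.Helper8.GV
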