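import Mathlib
import Groth.Prelude.Def_GrLC
import Groth.Agent.Lib.Helper8.GV2

/-!
# Veronese subrings of Gorenstein graded rings, III (helper8)

`exists_theta`: the Veronese of the *injective envelope `E'` of `R/m` is isomorphic to the *injective
envelope `E''` of `V/m'`, by a dimension count on the pieces.
-/

set_option autoImplicit false
set_option linter.unusedSectionVars false
universe u
open DirectSum

namespace Groth.Agent.Helper8.GV
open Groth.Agent.Helper9.GrLCLib Groth.Agent.Helper8.GD Groth.Agent.Helper8.Ver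

section Dim

variable {R : Type u} [CommRing R] [IsNoetherianRing R] {V : Type u} [CommRing V]
variable {𝒜 : ℤ → AddSubgroup R} [GradedRing 𝒜] {𝒜' : ℤ → AddSubgroup V} [GradedRing 𝒜']
  (D : VerData 𝒜 𝒜')
variable {m : HomogeneousIdeal 𝒜} (hF : FieldGr 𝒜 m) {m' : HomogeneousIdeal 𝒜'}
  (hF' : FieldGr 𝒜' m')
variable {E' : Type u} [AddCommGroup E'] [Module R E'] {𝓔 : ℤ → AddSubgroup E'}
  [DirectSum.Decomposition 𝓔] [SetLike.GradedSMul 𝒜 𝓔]
  {e : (R ⧸ m.toIdeal) →ₗ[R] E'} (he : GrLC.IsStarInjHull 𝒜 (GrLC.quotGr 𝒜 m) 𝓔 e)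
variable {E'' : Type u} [AddCommGroup E''] [Module V E''] {𝓔'' : ℤ → AddSubgroup E''}
  [DirectSum.Decomposition 𝓔''] [SetLike.GradedSMul 𝒜' 𝓔'']
  {e'' : (V ⧸ m'.toIdeal) →ₗ[V] E''}
  (he'' : GrLC.IsStarInjHull 𝒜' (GrLC.quotGr 𝒜' m') 𝓔'' e'')

/-- the pieces of the Veronese of a graded module have the dimensions of the pieces of the module -/
lemma finrank_verFam {M : Type u} [AddCommGroup M] [Module R M] (ℳ : ℤ → AddSubgroup M)
    [DirectSum.Decomposition ℳ] [SetLike.GradedSMul 𝒜 ℳ] (j : ℤ) :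
    Module.finrank (GrLC.deg0 𝒜') (GrLC.comp 𝒜' (verFam D ℳ) j) =
      Module.finrank (GrLC.deg0 𝒜) (GrLC.comp 𝒜 ℳ (j * D.q)) :=
  finrank_eq_of_semilinear (deg0Map D) (deg0Map_bijective D) (GrLC.comp 𝒜' (verFam D ℳ) j)
    (GrLC.comp 𝒜 ℳ (j * D.q)) (VerT.ι D ℳ) (VerT.ι_injective D ℳ)
    (fun k x => VerT.ι_smul D ℳ k.1 x)
    (fun y => ⟨fun hy => ⟨VerT.mk D ℳ y (mem_verAdd_of_mem ℳ D.q hy), hy, rfl⟩, by
      rintro ⟨x, hx, rfl⟩
      exact hx⟩)

/-- the pieces of the Veronese subring have the dimensions of the pieces of the ring -/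
lemma finrank_ring_piece (j : ℤ) :
    Module.finrank (GrLC.deg0 𝒜') (GrLC.comp 𝒜' 𝒜' j) =
      Module.finrank (GrLC.deg0 𝒜) (GrLC.comp 𝒜 𝒜 (j * D.q)) :=
  finrank_eq_of_semilinear (deg0Map D) (deg0Map_bijective D) (GrLC.comp 𝒜' 𝒜' j)
    (GrLC.comp 𝒜 𝒜 (j * D.q)) (D.φ : V →+ R) D.inj
    (fun k x => map_mul D.φ (k : V) x)
    (fun y => ⟨fun hy => by
      obtain ⟨v, hv, rfl⟩ := D.exists_of_mem hy
      exact ⟨v, hv, rfl⟩, by
      rintro ⟨x, hx, rfl⟩
      exact D.map_mem hx⟩)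

include hF hF' he he'' in
/-- the pieces of the Veronese of `E'` have the dimensions of the pieces of `E''` -/
theorem finrank_verFam_eq (j : ℤ) :
    Module.finrank (GrLC.deg0 𝒜') (GrLC.comp 𝒜' (verFam D 𝓔) j) =
      Module.finrank (GrLC.deg0 𝒜') (GrLC.comp 𝒜' 𝓔'' j) := by
  haveI : IsNoetherianRing V := isNoetherianRing_ver D
  have h1 := finrank_verFam D 𝓔 j
  have h2 := (finrank_E_piece hF he (-(j * D.q))).2
  have h3 := finrank_ring_piece D (-j)
  have h4 := (finrank_E_piece hF' he'' (-j)).2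
  rw [neg_neg] at h2 h4
  rw [neg_mul] at h3
  rw [h1, h2, ← h3, ← h4]

include hF hF' he he'' in
/-- **The Veronese of the *injective envelope of `R/m` is the *injective envelope of `V/m'`.** -/
theorem exists_theta (hc : IdealCompat D m m') :
    ∃ θ : VerT D 𝓔 ≃ₗ[V] E'', GrLC.IsGrHom (verFam D 𝓔) 𝓔'' θ.toLinearMap := by
  haveI : IsNoetherianRing V := isNoetherianRing_ver D
  obtain ⟨θ, hθ, hinj⟩ := exists_theta_inj D hF hF' he he'' hc
  have hsurj : Function.Surjective θ :=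
    surjective_of_finrank_eq (verFam D 𝓔) 𝓔'' hF'.field θ hθ hinj
      (fun j => by
        have := (finrank_E_piece hF' he'' (-j)).1
        rwa [neg_neg] at this)
      (finrank_verFam_eq D hF hF' he he'')
  exact ⟨LinearEquiv.ofBijective θ ⟨hinj, hsurj⟩, hθ⟩

end Dim

section Range

/-- two injective semilinear maps with the same range have linearly equivalent sources -/
lemma exists_equiv_of_range_eq {V R : Type*} [CommRing V] [CommRing R] (φ : V →+* R)
    {A B C : Type*} [AddCommGroup A] [Module V A] [AddCommGroup B] [Module V B] [AddCommGroup C]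
    [Module R C] (f : A →+ C) (g : B →+ C) (hf : Function.Injective f) (hg : Function.Injective g)
    (hfs : ∀ (v : V) x, f (v • x) = φ v • f x) (hgs : ∀ (v : V) x, g (v • x) = φ v • g x)
    (h1 : ∀ x, ∃ y, g y = f x) (h2 : ∀ y, ∃ x, f x = g y) :
    ∃ ψ : A ≃ₗ[V] B, ∀ x, g (ψ x) = f x := by
  choose s hs using h1
  choose t ht using h2
  refine ⟨{ toFun := s
            map_add' := fun x y => hg (by rw [map_add, hs, hs, hs, map_add])
            map_smul' := fun v x => hg (by rw [RingHom.id_apply, hgs, hs, hs, hfs])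
            invFun := t
            left_inv := fun x => hf (by rw [ht, hs])
            right_inv := fun y => hg (by rw [hs, ht]) }, hs⟩

end Range

end Groth.Agent.Helper8.GV
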