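import Mathlib
import Groth.Prelude.Def_Wider
import Groth.Agent.Lib.Helper8.GB1

/-!
# Socles and lengths over a localization at a maximal ideal (helper8)

* `length_eq_of_addEquiv`: comparison of lengths along a ring map which is surjective modulo an ideal
  killing the module.
* `socK K J T`: the socle `{t | J t = 0}` of a module as a module over a subring `K`.
* `length_hom_residue_localized`: for a maximal ideal `m` of `V`, a subring `K` with `V = K + m` and an
  `m`-power torsion module `T`: `ℓ_{V_m}(Hom(k(m), T_m)) = ℓ_K(socle of T)`.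
-/

set_option autoImplicit false
set_option linter.unusedSectionVars false
universe u

namespace Groth.Agent.Helper8.GV
open LocCoh IsLocalRing Groth.Agent.Helper8.GB

section Length

/-- length comparison along a ring map which is surjective modulo an ideal killing the module -/
theorem length_eq_of_addEquiv {K A : Type*} [CommRing K] [CommRing A] (i : K →+* A) (J : Ideal A)
    (hJ : ∀ a : A, ∃ c : K, a - i c ∈ J) {X S : Type*} [AddCommGroup X] [Module K X]
    [AddCommGroup S] [Module A S] (hS : ∀ a ∈ J, ∀ s : S, a • s = 0) (j : X ≃+ S)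
    (hj : ∀ (c : K) (x : X), j (c • x) = i c • j x) :
    Module.length K X = Module.length A S := by
  have hsmul : ∀ (a : A) (x : X), ∃ c : K, a • j x = j (c • x) := by
    intro a x
    obtain ⟨c, hc⟩ := hJ a
    refine ⟨c, ?_⟩
    rw [hj]
    have : a • j x = i c • j x + (a - i c) • j x := by
      rw [← add_smul]; congr 1; ring
    rw [this, hS _ hc, add_zero]
  let F : Submodule K X ≃o Submodule A S :=
    { toFun := fun P =>
        { carrier := j '' P
          add_mem' := by
            rintro _ _ ⟨x, hx, rfl⟩ ⟨y, hy, rfl⟩
            exact ⟨x + y, P.add_mem hx hy, map_add j x y⟩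
          zero_mem' := ⟨0, P.zero_mem, map_zero j⟩
          smul_mem' := by
            rintro a _ ⟨x, hx, rfl⟩
            obtain ⟨c, hc⟩ := hsmul a x
            exact ⟨c • x, P.smul_mem c hx, hc.symm⟩ }
      invFun := fun Q =>
        { carrier := j ⁻¹' Q
          add_mem' := by
            intro x y hx hy
            show j (x + y) ∈ Q
            rw [map_add]; exact Q.add_mem hx hy
          zero_mem' := by
            show j 0 ∈ Q
            rw [map_zero]; exact Q.zero_mem
          smul_mem' := by
            intro c x hx
            show j (c • x) ∈ Q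
            rw [hj]; exact Q.smul_mem _ hx }
      left_inv := fun P => by
        ext x
        constructor
        · rintro ⟨y, hy, hxy⟩
          rwa [← j.injective hxy]
        · intro hx; exact ⟨x, hx, rfl⟩
      right_inv := fun Q => by
        ext s
        constructor
        · rintro ⟨x, hx, rfl⟩; exact hx
        · intro hs
          exact ⟨j.symm s, by show j (j.symm s) ∈ Q; rwa [j.apply_symm_apply],
            j.apply_symm_apply s⟩
      map_rel_iff' := by
        intro P P'
        constructor
        · intro h x hx
          obtain ⟨y, hy, hxy⟩ := h ⟨x, hx, rfl⟩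
          rwa [← j.injective hxy]
        · rintro h s ⟨x, hx, hs⟩
          exact ⟨x, h hx, hs⟩ }
  apply WithBot.coe_injective
  rw [Module.coe_length, Module.coe_length, Order.krullDim_eq_of_orderIso F]

end Length

section Socle

variable {V : Type u} [CommRing V]

/-- the socle `{t | J t = 0}` of a `V`-module, as a module over a subring `K` of `V` -/
def socK (K : Subring V) (J : Ideal V) (T : Type*) [AddCommGroup T] [Module V T] :
    Submodule K T where
  carrier := {t | ∀ v ∈ J, v • t = 0}
  add_mem' := fun {x y} hx hy v hv => by rw [smul_add, hx v hv, hy v hv, add_zero]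
  zero_mem' := fun v _ => smul_zero v
  smul_mem' := fun c t ht v hv => by
    show v • (c • t) = 0
    rw [Subring.smul_def, smul_comm, ht v hv, smul_zero]

lemma mem_socK (K : Subring V) (J : Ideal V) {T : Type*} [AddCommGroup T] [Module V T] (t : T) :
    t ∈ socK K J T ↔ ∀ v ∈ J, v • t = 0 := Iff.rfl

/-- socles of isomorphic modules are isomorphic -/
def socKCongr (K : Subring V) (J : Ideal V) {T T' : Type*} [AddCommGroup T] [Module V T]
    [AddCommGroup T'] [Module V T'] (e : T ≃ₗ[V] T') : socK K J T ≃ₗ[K] socK K J T' where
  toFun x := ⟨e x.1, fun v hv => by rw [← map_smul, x.2 v hv, map_zero]⟩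
  invFun y := ⟨e.symm y.1, fun v hv => by rw [← map_smul, y.2 v hv, map_zero]⟩
  map_add' x y := Subtype.ext (map_add e x.1 y.1)
  map_smul' c x := Subtype.ext (map_smul e (c : V) x.1)
  left_inv x := Subtype.ext (e.symm_apply_apply x.1)
  right_inv y := Subtype.ext (e.apply_symm_apply y.1)

variable (m : Ideal V) [hm : m.IsMaximal] (K : Subring V)
  {T : Type u} [AddCommGroup T] [Module V T]

omit hm in
/-- maps out of a cyclic quotient are determined by the image of `1` -/
lemma hom_ext_one {A : Type*} [CommRing A] (J : Ideal A) {N : Type*} [AddCommGroup N] [Module A N]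
    {f g : (A ⧸ J) →ₗ[A] N} (h : f 1 = g 1) : f = g := by
  apply LinearMap.ext
  intro y
  obtain ⟨a, rfl⟩ := Ideal.Quotient.mk_surjective y
  have h1 : Ideal.Quotient.mk J a = a • (1 : A ⧸ J) := by
    rw [← map_one (Ideal.Quotient.mk J)]
    change _ = Ideal.Quotient.mk J (a • (1 : A))
    rw [smul_eq_mul, mul_one]
  rw [h1, map_smul, map_smul, h]

include hm in
/-- the localization is generated by `K` modulo its maximal ideal -/
lemma exists_sub_mem_maximalIdeal (hK : ∀ v : V, ∃ c ∈ K, v - c ∈ m) :
    haveI := hm.isPrime
    ∀ a : Localization.AtPrime m, ∃ c : K,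
      a - ((algebraMap V (Localization.AtPrime m)).comp K.subtype) c ∈
        maximalIdeal (Localization.AtPrime m) := by
  haveI := hm.isPrime
  intro a
  obtain ⟨v, s, rfl⟩ := IsLocalization.exists_mk'_eq m.primeCompl a
  obtain ⟨r, a', ha', hra⟩ := exists_mul_add_eq_one m s.2 1
  rw [pow_one] at ha'
  obtain ⟨c, hcK, hc⟩ := hK (v * r)
  refine ⟨⟨c, hcK⟩, ?_⟩
  have hunit : IsUnit (algebraMap V (Localization.AtPrime m) s) :=
    IsLocalization.map_units (Localization.AtPrime m) s
  obtain ⟨u, hu⟩ := hunit
  have hmem : v - c * s ∈ m := by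
    have : v - c * s = v * a' + (v * r - c) * s := by
      have h1 : a' = 1 - r * s := by rw [← hra]; ring
      rw [h1]; ring
    rw [this]
    exact m.add_mem (m.mul_mem_left _ ha') (m.mul_mem_right _ hc)
  have hmem' : algebraMap V (Localization.AtPrime m) (v - c * s) ∈
      maximalIdeal (Localization.AtPrime m) := by
    rw [← Localization.AtPrime.map_eq_maximalIdeal]
    exact Ideal.mem_map_of_mem _ hmem
  have hprod : (IsLocalization.mk' (Localization.AtPrime m) v s -
      ((algebraMap V (Localization.AtPrime m)).comp K.subtype) ⟨c, hcK⟩) *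
      algebraMap V (Localization.AtPrime m) s = algebraMap V (Localization.AtPrime m) (v - c * s) := by
    rw [sub_mul, IsLocalization.mk'_spec, map_sub, map_mul]
    rfl
  have : IsLocalization.mk' (Localization.AtPrime m) v s -
      ((algebraMap V (Localization.AtPrime m)).comp K.subtype) ⟨c, hcK⟩ =
      algebraMap V (Localization.AtPrime m) (v - c * s) * (↑u⁻¹ : Localization.AtPrime m) := by
    rw [← hprod, ← hu, mul_assoc, Units.mul_inv, mul_one]
  rw [this]
  exact Ideal.mul_mem_right _ _ hmem'

include hm in
/-- the maximal ideal of the localization kills the image of the socle -/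
lemma smul_mk_eq_zero_of_mem_socK {t : T} (ht : t ∈ socK K m T) :
    haveI := hm.isPrime
    ∀ a ∈ maximalIdeal (Localization.AtPrime m),
      a • LocalizedModule.mkLinearMap m.primeCompl T t = 0 := by
  haveI := hm.isPrime
  have hle : maximalIdeal (Localization.AtPrime m) ≤
      LinearMap.ker (LinearMap.toSpanSingleton (Localization.AtPrime m)
        (LocalizedModule m.primeCompl T) (LocalizedModule.mkLinearMap m.primeCompl T t)) := by
    rw [← Localization.AtPrime.map_eq_maximalIdeal, Ideal.map_le_iff_le_comap]
    intro v hv
    rw [Ideal.mem_comap, LinearMap.mem_ker, LinearMap.toSpanSingleton_apply, algebraMap_smul,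
      ← map_smul, ht v hv, map_zero]
  intro a ha
  have := hle ha
  rwa [LinearMap.mem_ker, LinearMap.toSpanSingleton_apply] at this

include hm in
/-- **The socle of a torsion module and its localization.** -/
theorem length_hom_residue_localized (hK : ∀ v : V, ∃ c ∈ K, v - c ∈ m)
    (hT : IsPowerTorsion m T) :
    haveI := hm.isPrime
    Module.length (Localization.AtPrime m)
      ((Localization.AtPrime m ⧸ maximalIdeal (Localization.AtPrime m))
        →ₗ[Localization.AtPrime m] LocalizedModule m.primeCompl T) =
      Module.length K (socK K m T) := by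
  haveI := hm.isPrime
  set A := Localization.AtPrime m with hA
  set τ := LocalizedModule.mkLinearMap m.primeCompl T with hτ
  have hτbij : Function.Bijective τ := mkLinearMap_bijective m hT
  -- the map
  let j₀ : socK K m T → ((A ⧸ maximalIdeal A) →ₗ[A] LocalizedModule m.primeCompl T) := fun t =>
    Submodule.liftQ (maximalIdeal A)
      (LinearMap.toSpanSingleton A (LocalizedModule m.primeCompl T) (τ t.1)) (by
        intro a ha
        rw [LinearMap.mem_ker, LinearMap.toSpanSingleton_apply]
        exact smul_mk_eq_zero_of_mem_socK m K t.2 a ha)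
  have hj₀ : ∀ t, j₀ t 1 = τ t.1 := by
    intro t
    show (1 : A) • τ t.1 = τ t.1
    rw [one_smul]
  let j₁ : socK K m T →+ ((A ⧸ maximalIdeal A) →ₗ[A] LocalizedModule m.primeCompl T) :=
    { toFun := j₀
      map_zero' := by
        apply hom_ext_one
        rw [hj₀, LinearMap.zero_apply]
        exact map_zero τ
      map_add' := fun t t' => by
        apply hom_ext_one
        rw [LinearMap.add_apply, hj₀, hj₀, hj₀]
        exact map_add τ t.1 t'.1 }
  have hj₁ : ∀ t, j₁ t 1 = τ t.1 := hj₀
  have hbij : Function.Bijective j₁ := by
    constructor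
    · intro t t' h
      apply Subtype.ext
      apply hτbij.1
      rw [← hj₁, ← hj₁, h]
    · intro f
      obtain ⟨t, ht⟩ := hτbij.2 (f 1)
      have htsoc : t ∈ socK K m T := by
        intro v hv
        apply hτbij.1
        rw [map_smul, ht, map_zero, ← algebraMap_smul A v (f 1), ← map_smul]
        have h1 : algebraMap V A v ∈ maximalIdeal A := by
          rw [← Localization.AtPrime.map_eq_maximalIdeal]
          exact Ideal.mem_map_of_mem _ hv
        have h2 : algebraMap V A v • (1 : A ⧸ maximalIdeal A) = 0 := by
          rw [← map_one (Ideal.Quotient.mk (maximalIdeal A))]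
          change Ideal.Quotient.mk (maximalIdeal A) (algebraMap V A v • (1 : A)) = 0
          rw [smul_eq_mul, mul_one]
          exact Ideal.Quotient.eq_zero_iff_mem.mpr h1
        rw [h2, map_zero]
      refine ⟨⟨t, htsoc⟩, ?_⟩
      apply hom_ext_one
      rw [hj₁, ht]
  symm
  apply length_eq_of_addEquiv ((algebraMap V A).comp K.subtype) (maximalIdeal A)
    (exists_sub_mem_maximalIdeal m K hK) ?_ (AddEquiv.ofBijective j₁ hbij) ?_
  · intro a ha f
    apply hom_ext_one
    rw [LinearMap.smul_apply, LinearMap.zero_apply, ← map_smul]
    have h2 : a • (1 : A ⧸ maximalIdeal A) = 0 := by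
      rw [← map_one (Ideal.Quotient.mk (maximalIdeal A))]
      change Ideal.Quotient.mk (maximalIdeal A) (a • (1 : A)) = 0
      rw [smul_eq_mul, mul_one]
      exact Ideal.Quotient.eq_zero_iff_mem.mpr ha
    rw [h2, map_zero]
  · intro c t
    apply hom_ext_one
    show j₁ (c • t) 1 = (((algebraMap V A).comp K.subtype) c • j₁ t) 1
    rw [LinearMap.smul_apply, hj₁, hj₁]
    show τ ((c : V) • t.1) = algebraMap V A (c : V) • τ t.1
    rw [algebraMap_smul, map_smul]

end Socle

end Groth.Agent.Helper8.GV
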