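import Mathlib
import Groth.Prelude.Def_GrLC
import Groth.Agent.Lib.Helper8.GV3
import Groth.Agent.Lib.Helper8.GV5

/-!
# Veronese subrings of Gorenstein graded rings, V: socles (helper8)

For a standard graded ring `R` over a field, the socle of a graded `V`-module `T` embedded semilinearly
and homogeneously in a shift of the *injective envelope `E'` of `R/m` is the piece of top degree:
`socle_eq_piece`, and its dimension is computed in `length_socK_eq`.
-/

set_option autoImplicit false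
set_option linter.unusedSectionVars false
universe u
open DirectSum

namespace Groth.Agent.Helper8.GV
open Groth.Agent.Helper9.GrLCLib Groth.Agent.Helper8.GD Groth.Agent.Helper8.Ver

section Std

variable {R : Type u} [CommRing R] {𝒜 : ℤ → AddSubgroup R} [GradedRing 𝒜]
  (hstd : Ideal.span (⋃ n ∈ Set.Ioi (0 : ℤ), (𝒜 n : Set R)) = Ideal.span ((𝒜 1 : AddSubgroup R) : Set R))
  {M : Type*} [AddCommGroup M] [Module R M]

include hstd in
/-- in a standard graded ring a homogeneous element of positive degree acting nontrivially has a factor of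
degree one acting nontrivially -/
lemma exists_deg_one_factor {t : ℤ} (ht : 1 ≤ t) {r : R} (hr : r ∈ 𝒜 t) (z : M) (hz : r • z ≠ 0) :
    ∃ y ∈ 𝒜 1, ∃ s ∈ 𝒜 (t - 1), s • (y • z) ≠ 0 := by
  by_contra hcon
  push Not at hcon
  apply hz
  have hmem : r ∈ Ideal.span ((𝒜 1 : AddSubgroup R) : Set R) := by
    rw [← hstd]
    apply Ideal.subset_span
    simp only [Set.mem_iUnion, Set.mem_Ioi, SetLike.mem_coe]
    exact ⟨t, by omega, hr⟩
  obtain ⟨N, f, g, hfg⟩ := Submodule.mem_span_set'.mp hmem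
  have h1 : r = ∑ i : Fin N, proj 𝒜 (t - 1) (f i) * (g i : R) := by
    have h2 : proj 𝒜 t r = r := proj_of_mem_same 𝒜 hr
    rw [← h2, ← hfg, map_sum]
    apply Finset.sum_congr rfl
    intro i _
    have hg : (g i : R) ∈ 𝒜 1 := (g i).2
    have := proj_smul_of_mem' 𝒜 𝒜 hg (f i) t
    rw [smul_eq_mul, smul_eq_mul] at this
    rw [smul_eq_mul, mul_comm, this, mul_comm]
  rw [h1, Finset.sum_smul]
  apply Finset.sum_eq_zero
  intro i _
  rw [mul_smul]
  exact hcon (g i) (g i).2 _ (proj_mem 𝒜 (t - 1) (f i))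

include hstd in
/-- in a standard graded ring a homogeneous element of degree `≥ q` acting nontrivially has a factor of
degree `q` acting nontrivially -/
lemma exists_deg_factor (q : ℕ) : ∀ {t : ℤ}, (q : ℤ) ≤ t → ∀ {r : R}, r ∈ 𝒜 t → ∀ z : M, r • z ≠ 0 →
    ∃ a ∈ 𝒜 (q : ℤ), ∃ s ∈ 𝒜 (t - q), s • (a • z) ≠ 0 := by
  induction q with
  | zero =>
    intro t _ r hr z hz
    refine ⟨1, ?_, r, ?_, ?_⟩
    · show (1 : R) ∈ 𝒜 ((0 : ℕ) : ℤ)
      rw [Nat.cast_zero]
      exact SetLike.GradedOne.one_mem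
    · simpa using hr
    · rwa [one_smul]
  | succ q ih =>
    intro t ht r hr z hz
    have ht' : (q : ℤ) ≤ t := by push_cast at ht; omega
    obtain ⟨a, ha, s, hs, hsa⟩ := ih ht' hr z hz
    have h1 : 1 ≤ t - q := by push_cast at ht; omega
    obtain ⟨y, hy, s', hs', hne⟩ := exists_deg_one_factor hstd h1 hs (a • z) hsa
    refine ⟨y * a, ?_, s', ?_, ?_⟩
    · have := SetLike.GradedMul.mul_mem hy ha
      have h2 : (1 : ℤ) + (q : ℤ) = ((q + 1 : ℕ) : ℤ) := by push_cast; ring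
      rwa [h2] at this
    · have h2 : t - ((q + 1 : ℕ) : ℤ) = t - q - 1 := by push_cast; ring
      rw [h2]; exact hs'
    · rwa [mul_smul]

end Std

section Rank

lemma rank_eq_of_semilinear {K L : Type*} [Ring K] [Ring L] (i : K → L)
    (hi : Function.Bijective i) {W W' : Type u} [AddCommGroup W] [Module K W] [AddCommGroup W']
    [Module L W'] (P : Submodule K W) (P' : Submodule L W') (Φ : W →+ W')
    (hinj : Function.Injective Φ) (hsemi : ∀ (k : K) x, Φ (k • x) = i k • Φ x)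
    (himg : ∀ y, y ∈ P' ↔ ∃ x ∈ P, Φ x = y) : Module.rank K P = Module.rank L P' := by
  let f : P →+ P' :=
    { toFun := fun x => ⟨Φ x.1, (himg _).mpr ⟨x.1, x.2, rfl⟩⟩
      map_zero' := Subtype.ext (map_zero Φ)
      map_add' := fun x y => Subtype.ext (map_add Φ x.1 y.1) }
  have hf : Function.Bijective f := by
    constructor
    · intro x y hxy
      apply Subtype.ext
      apply hinj
      exact congrArg Subtype.val hxy
    · rintro ⟨y, hy⟩
      obtain ⟨x, hx, rfl⟩ := (himg y).mp hy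
      exact ⟨⟨x, hx⟩, rfl⟩
  let e : P ≃+ P' := AddEquiv.ofBijective f hf
  exact rank_eq_of_equiv_equiv i e hi (fun k x => Subtype.ext (hsemi k x.1))

end Rank

section Socle

variable {R : Type u} [CommRing R] [IsNoetherianRing R] {V : Type u} [CommRing V]
variable {𝒜 : ℤ → AddSubgroup R} [GradedRing 𝒜] {𝒜' : ℤ → AddSubgroup V} [GradedRing 𝒜']
  (D : VerData 𝒜 𝒜')
variable {m : HomogeneousIdeal 𝒜} (hF : FieldGr 𝒜 m) {m' : HomogeneousIdeal 𝒜'}
  (hF' : FieldGr 𝒜' m')
  (hstd : Ideal.span (⋃ n ∈ Set.Ioi (0 : ℤ), (𝒜 n : Set R)) = Ideal.span ((𝒜 1 : AddSubgroup R) : Set R))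
variable {E' : Type u} [AddCommGroup E'] [Module R E'] {𝓔 : ℤ → AddSubgroup E'}
  [DirectSum.Decomposition 𝓔] [SetLike.GradedSMul 𝒜 𝓔]
  {e : (R ⧸ m.toIdeal) →ₗ[R] E'} (he : GrLC.IsStarInjHull 𝒜 (GrLC.quotGr 𝒜 m) 𝓔 e)
variable {T : Type u} [AddCommGroup T] [Module V T] (𝒯 : ℤ → AddSubgroup T)
  [DirectSum.Decomposition 𝒯] [SetLike.GradedSMul 𝒜' 𝒯]
variable (Ψ : T →+ E') (hΨi : Function.Injective Ψ) (hΨs : ∀ (v : V) (t : T), Ψ (v • t) = D.φ v • Ψ t)
  (a ρ c : ℤ) (hac : a = ρ + c * D.q) (hρ0 : 0 ≤ ρ) (hρq : ρ < D.q)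
  (hΨd : ∀ (j : ℤ) (t : T), t ∈ 𝒯 j → Ψ t ∈ 𝓔 (j * D.q - a))

include hF' in
omit [IsNoetherianRing R] in
/-- the socle is a homogeneous subgroup -/
lemma proj_mem_socle {t : T} (ht : ∀ v ∈ m'.toIdeal, v • t = 0) (j : ℤ) :
    ∀ v ∈ m'.toIdeal, v • proj 𝒯 j t = 0 := by
  classical
  intro v hv
  have hhom : ∀ l, proj 𝒜' l v ∈ m'.toIdeal := fun l => m'.isHomogeneous l hv
  have h1 : ∀ l, proj 𝒜' l v • proj 𝒯 j t = 0 := by
    intro l
    have h2 := proj_smul_of_mem 𝒜' 𝒯 (proj_mem 𝒜' l v) t j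
    rw [ht _ (hhom l), map_zero] at h2
    exact h2.symm
  have h3 : v = ∑ l ∈ (decompose 𝒜' v).support, proj 𝒜' l v :=
    (DirectSum.sum_support_decompose 𝒜' v).symm
  rw [h3, Finset.sum_smul]
  exact Finset.sum_eq_zero (fun l _ => h1 l)

include hF hF' hstd he hΨi hΨs hac hρ0 hρq hΨd in
omit [IsNoetherianRing R] in
/-- **The socle is the top piece.** -/
theorem socle_eq_piece (t : T) : (∀ v ∈ m'.toIdeal, v • t = 0) ↔ t ∈ 𝒯 c := by
  classical
  have hqpos : (0 : ℤ) < D.q := by exact_mod_cast D.hq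
  constructor
  · intro ht
    -- each component outside degree `c` vanishes
    have hcomp : ∀ j, j ≠ c → proj 𝒯 j t = 0 := by
      intro j hj
      by_contra hne
      set tj := proj 𝒯 j t with htj
      have htjm : tj ∈ 𝒯 j := proj_mem 𝒯 j t
      have hsoc := proj_mem_socle hF' 𝒯 ht j
      have hx : Ψ tj ∈ 𝓔 (j * D.q - a) := hΨd j tj htjm
      have hx0 : Ψ tj ≠ 0 := fun h => hne (hΨi (by rw [h, map_zero]))
      have hle : j * D.q - a ≤ 0 := by
        by_contra hlt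
        push Not at hlt
        exact hx0 (eq_zero_of_pos hF he hlt hx)
      obtain ⟨r, hr, hrx0, -⟩ := exists_smul_ne_zero hF he hx hx0
      by_cases hs : (D.q : ℤ) ≤ -(j * D.q - a)
      · obtain ⟨a', ha', s, -, hne'⟩ := exists_deg_factor hstd D.q hs hr (Ψ tj) hrx0
        have ha'' : a' ∈ 𝒜 ((1 : ℤ) * D.q) := by rwa [one_mul]
        obtain ⟨v, hv, rfl⟩ := D.exists_of_mem ha''
        have hvm : v ∈ m'.toIdeal := hF'.mem_of_pos one_pos hv
        apply hne'
        rw [← hΨs, hsoc v hvm, map_zero, smul_zero]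
      · push Not at hs
        -- then `a - j q = ρ`, so `j = c`
        apply hj
        have h1 : (c - j) * D.q = -(j * D.q - a) - ρ := by rw [hac]; ring
        have h2 : -(D.q : ℤ) < (c - j) * D.q := by rw [h1]; omega
        have h3 : (c - j) * D.q < D.q := by rw [h1]; omega
        have h4 : c - j = 0 := by
          by_contra h5
          rcases lt_or_gt_of_ne h5 with h6 | h6
          · have : (c - j) * D.q ≤ -1 * D.q := by
              apply mul_le_mul_of_nonneg_right _ hqpos.le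
              omega
            omega
          · have : 1 * (D.q : ℤ) ≤ (c - j) * D.q := by
              apply mul_le_mul_of_nonneg_right _ hqpos.le
              omega
            omega
        omega
    have : t = proj 𝒯 c t := by
      apply eq_of_forall_proj_eq 𝒯
      intro i
      by_cases hi : i = c
      · subst hi
        rw [proj_of_mem_same 𝒯 (proj_mem 𝒯 i t)]
      · rw [hcomp i hi, proj_of_mem_ne 𝒯 (proj_mem 𝒯 c t) (Ne.symm hi)]
    rw [this]
    exact proj_mem 𝒯 c t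
  · intro ht
    have hx : Ψ t ∈ 𝓔 (c * D.q - a) := hΨd c t ht
    have hle : m'.toIdeal ≤ LinearMap.ker (LinearMap.toSpanSingleton V T t) := by
      rw [hF'.span, Ideal.span_le]
      intro v hv
      simp only [Set.mem_iUnion, Set.mem_Ioi, SetLike.mem_coe] at hv
      obtain ⟨l, hl, hvl⟩ := hv
      rw [SetLike.mem_coe, LinearMap.mem_ker, LinearMap.toSpanSingleton_apply]
      apply hΨi
      rw [hΨs, map_zero]
      have h1 : D.φ v • Ψ t ∈ 𝓔 (l * D.q + (c * D.q - a)) := smul_mem_add 𝒜 𝓔 (D.map_mem hvl) hx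
      apply eq_zero_of_pos hF he _ h1
      have h2 : l * D.q + (c * D.q - a) = l * D.q - ρ := by rw [hac]; ring
      rw [h2]
      have : 1 * (D.q : ℤ) ≤ l * D.q := mul_le_mul_of_nonneg_right (by omega) hqpos.le
      omega
    intro v hv
    have := hle hv
    rwa [LinearMap.mem_ker, LinearMap.toSpanSingleton_apply] at this

include hF hF' hstd he hΨi hΨs hac hρ0 hρq hΨd in
/-- **The dimension of the socle.** -/
theorem length_socK_eq (himg : ∀ y, y ∈ 𝓔 (-ρ) → ∃ x ∈ 𝒯 c, Ψ x = y) :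
    Module.length (GrLC.deg0 𝒜') (socK (GrLC.deg0 𝒜') m'.toIdeal T) =
      (Module.finrank (GrLC.deg0 𝒜) (GrLC.comp 𝒜 𝒜 ρ) : ℕ∞) := by
  have hsoc := socle_eq_piece D hF hF' hstd he 𝒯 Ψ hΨi hΨs a ρ c hac hρ0 hρq hΨd
  have heq : socK (GrLC.deg0 𝒜') m'.toIdeal T = GrLC.comp 𝒜' 𝒯 c := by
    ext t
    exact hsoc t
  have hdeg : c * D.q - a = -ρ := by rw [hac]; ring
  have hrank : Module.rank (GrLC.deg0 𝒜') (GrLC.comp 𝒜' 𝒯 c) =
      Module.rank (GrLC.deg0 𝒜) (GrLC.comp 𝒜 𝓔 (-ρ)) :=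
    rank_eq_of_semilinear (deg0Map D) (deg0Map_bijective D) (GrLC.comp 𝒜' 𝒯 c)
      (GrLC.comp 𝒜 𝓔 (-ρ)) Ψ hΨi (fun k x => hΨs k.1 x)
      (fun y => ⟨himg y, by
        rintro ⟨x, hx, rfl⟩
        have := hΨd c x hx
        rwa [hdeg] at this⟩)
  obtain ⟨hfin, hfr⟩ := finrank_E_piece hF he ρ
  letI : Field (GrLC.deg0 𝒜') := hF'.field.toField
  letI : Field (GrLC.deg0 𝒜) := hF.field.toField
  rw [heq, Module.length_eq_rank, hrank, ← hfr]
  haveI := hfin
  rw [← Module.finrank_eq_rank]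
  simp

end Socle

end Groth.Agent.Helper8.GV
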