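import Mathlib
import Groth.Prelude.Def_GrLC
import Groth.Prelude.Def_Wider
import Groth.Agent.S18637
import Groth.Agent.Lib.Helper8.GV7
import Groth.Agent.Lib.Helper1.MatlisL2

/-!
# The *injective envelope of `R/m` localized at `m` (helper8)

For a Noetherian graded ring `R` defined over a field with irrelevant ideal `m` and `E' = *E(R/m)`:
* `isPowerTorsion_E`: `E'` is `m`-power torsion;
* `socle_E`: the socle of `E'` is `E'_0`;
* `exists_isInjectiveHull_localized`: `E'_m` is an injective hull of the residue field of `R_m`.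
-/

set_option autoImplicit false
set_option linter.unusedSectionVars false
universe u
open DirectSum

namespace Groth.Agent.Helper8.GC
open Groth.Agent.Helper9.GrLCLib Groth.Agent.Helper8.GD Groth.Agent.Helper8.GV Groth.Agent.Helper8.GB
open LocCoh IsLocalRing

section Hull

variable {R : Type u} [CommRing R] [IsNoetherianRing R] {𝒜 : ℤ → AddSubgroup R} [GradedRing 𝒜]
  {m : HomogeneousIdeal 𝒜} (hF : FieldGr 𝒜 m)
variable {E' : Type u} [AddCommGroup E'] [Module R E'] {𝓔 : ℤ → AddSubgroup E'}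
  [DirectSum.Decomposition 𝓔] [SetLike.GradedSMul 𝒜 𝓔]
  {e : (R ⧸ m.toIdeal) →ₗ[R] E'} (he : GrLC.IsStarInjHull 𝒜 (GrLC.quotGr 𝒜 m) 𝓔 e)

include hF he in
/-- `*E(R/m)` is `m`-power torsion -/
theorem isPowerTorsion_E : IsPowerTorsion m.toIdeal E' := by
  intro x
  obtain ⟨k, hk⟩ := Pos.exists_mem_geS 𝒜 𝓔 hF.pos x
  have hbot : Pos.geS 𝒜 𝓔 hF.pos 1 = ⊥ :=
    Pos.geS_eq_bot 𝒜 𝓔 hF.pos 1 (fun n hn => E_pos hF he (by omega))
  refine ⟨(1 - k).toNat, fun a ha => ?_⟩
  have h1 : a • x ∈ m.toIdeal ^ (1 - k).toNat • Pos.geS 𝒜 𝓔 hF.pos k :=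
    Submodule.smul_mem_smul ha hk
  have h2 := Pos.pow_smul_geS_le 𝒜 𝓔 hF.pos m.toIdeal hF.span k (1 - k).toNat h1
  have h3 : Pos.geS 𝒜 𝓔 hF.pos (k + ((1 - k).toNat : ℤ)) ≤ Pos.geS 𝒜 𝓔 hF.pos 1 :=
    Pos.geS_mono 𝒜 𝓔 hF.pos (by omega)
  have h4 := h3 h2
  rw [hbot, Submodule.mem_bot] at h4
  exact h4

include hF he in
/-- the socle of `*E(R/m)` is its piece of degree `0` -/
theorem socle_E (x : E') : (∀ r ∈ m.toIdeal, r • x = 0) ↔ x ∈ 𝓔 0 := by
  constructor
  · intro hx
    have hcomp : ∀ j, j ≠ 0 → proj 𝓔 j x = 0 := by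
      intro j hj
      by_contra hne
      have hsoc := proj_mem_socle hF 𝓔 hx j
      rcases lt_or_gt_of_ne hj with hlt | hgt
      · obtain ⟨r, hr, hrx, -⟩ := exists_smul_ne_zero hF he (proj_mem 𝓔 j x) hne
        exact hrx (hsoc r (hF.mem_of_pos (by omega) hr))
      · exact hne (eq_zero_of_pos hF he hgt (proj_mem 𝓔 j x))
    have : x = proj 𝓔 0 x := by
      apply Groth.Agent.Helper8.Ver.eq_of_forall_proj_eq 𝓔
      intro i
      by_cases hi : i = 0
      · subst hi
        rw [proj_of_mem_same 𝓔 (proj_mem 𝓔 0 x)]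
      · rw [hcomp i hi, proj_of_mem_ne 𝓔 (proj_mem 𝓔 0 x) (Ne.symm hi)]
    rw [this]
    exact proj_mem 𝓔 0 x
  · intro hx r hr
    obtain ⟨y, rfl⟩ := (mem_zero_iff hF he x).mp hx
    obtain ⟨s, rfl⟩ := Ideal.Quotient.mk_surjective y
    rw [← map_smul]
    have : r • Ideal.Quotient.mk m.toIdeal s = 0 := by
      change Ideal.Quotient.mk m.toIdeal (r • s) = 0
      rw [Ideal.Quotient.eq_zero_iff_mem, smul_eq_mul]
      exact m.toIdeal.mul_mem_right s hr
    rw [this, map_zero]

include hF he in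
/-- the socle of `*E(R/m)` is a line -/
theorem length_socK_E :
    Module.length (GrLC.deg0 𝒜) (socK (GrLC.deg0 𝒜) m.toIdeal E') = 1 := by
  have heq : socK (GrLC.deg0 𝒜) m.toIdeal E' = GrLC.comp 𝒜 𝓔 0 := by
    ext x
    exact socle_E hF he x
  letI : Field (GrLC.deg0 𝒜) := hF.field.toField
  have h1 := finrank_E_zero hF he
  haveI : Module.Finite (GrLC.deg0 𝒜) (GrLC.comp 𝒜 𝓔 0) :=
    Module.finite_of_finrank_pos (by rw [h1]; exact Nat.one_pos)
  rw [heq, Module.length_eq_finrank, h1]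
  rfl

include hF he in
/-- **`E'_m` is an injective hull of the residue field of `R_m`.** -/
theorem exists_isInjectiveHull_localized :
    haveI := hF.isMaximal.isPrime
    ∃ f : ResidueField (Localization.AtPrime m.toIdeal) →ₗ[Localization.AtPrime m.toIdeal]
      LocalizedModule m.toIdeal.primeCompl E', InjHull.IsInjectiveHull f := by
  haveI hmax : m.toIdeal.IsMaximal := hF.isMaximal
  haveI hprime : m.toIdeal.IsPrime := hmax.isPrime
  rw [Groth.Agent.Helper1.MatlisL2.isInjectiveHull_iff]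
  have hT := isPowerTorsion_E hF he
  refine ⟨?_, ?_, ?_⟩
  · haveI : Module.Injective R E' := (Groth.Agent.S18637.result R 𝒜 m E' 𝓔 e he).isInjective
    exact Module.injective_of_isLocalizedModule m.toIdeal.primeCompl
      (LocalizedModule.mkLinearMap m.toIdeal.primeCompl E')
  · intro y
    induction y using LocalizedModule.induction_on with
    | h x s =>
      obtain ⟨N, hN⟩ := hT x
      refine ⟨N, ?_⟩
      have hle : maximalIdeal (Localization.AtPrime m.toIdeal) ^ N ≤
          LinearMap.ker (LinearMap.toSpanSingleton (Localization.AtPrime m.toIdeal)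
            (LocalizedModule m.toIdeal.primeCompl E') (LocalizedModule.mk x s)) := by
        rw [← Localization.AtPrime.map_eq_maximalIdeal, ← Ideal.map_pow,
          Ideal.map_le_iff_le_comap]
        intro a ha
        rw [Ideal.mem_comap, LinearMap.mem_ker, LinearMap.toSpanSingleton_apply, algebraMap_smul,
          LocalizedModule.smul'_mk, hN a ha, LocalizedModule.zero_mk]
      intro b hb
      have := hle hb
      rwa [LinearMap.mem_ker, LinearMap.toSpanSingleton_apply] at this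
  · rw [← Module.length_eq_one_iff]
    have hK : ∀ v : R, ∃ c ∈ GrLC.deg0 𝒜, v - c ∈ m.toIdeal := fun v =>
      ⟨proj 𝒜 0 v, proj_mem 𝒜 0 v, hF.sub_proj_zero_mem v⟩
    have h1 := length_hom_residue_localized m.toIdeal (GrLC.deg0 𝒜) hK hT
    rw [length_socK_E hF he] at h1
    exact h1

end Hull

end Groth.Agent.Helper8.GC
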