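import Mathlib
import Groth.Prelude.Def_GrLC
import Groth.Prelude.Def_CAlg
import Groth.Agent.Lib.Helper8.GC1
import Groth.Agent.Lib.Helper8.GB7
import Groth.Agent.Lib.Helper8.CanMod7

/-!
# The *canonical module localized at the irrelevant ideal (helper8)

For a Cohen–Macaulay graded ring `R` over a field with *canonical module `C`, the localization `C_m` is a
canonical module of the local ring `R_m` in the sense of `CanMod*`: `Hom(C_m, E(k)) ≅ H^n(R_m)`.
Consequences: `C_m` is Cohen–Macaulay of dimension `n` and of injective dimension `n`.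
-/

set_option autoImplicit false
set_option linter.unusedSectionVars false
universe u
open DirectSum CategoryTheory TensorProduct

namespace Groth.Agent.Helper8.GC
open Groth.Agent.Helper9.GrLCLib Groth.Agent.Helper8.GD Groth.Agent.Helper8.GV Groth.Agent.Helper8.GB
open LocCoh IsLocalRing

section Local

variable {R : Type u} [CommRing R] [IsNoetherianRing R] {𝒜 : ℤ → AddSubgroup R} [GradedRing 𝒜]
  {m : HomogeneousIdeal 𝒜} (hF : FieldGr 𝒜 m)
variable {E' : Type u} [AddCommGroup E'] [Module R E'] {𝓔 : ℤ → AddSubgroup E'}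
  [DirectSum.Decomposition 𝓔] [SetLike.GradedSMul 𝒜 𝓔]
  {e : (R ⧸ m.toIdeal) →ₗ[R] E'} (he : GrLC.IsStarInjHull 𝒜 (GrLC.quotGr 𝒜 m) 𝓔 e)
variable {C : Type u} [AddCommGroup C] [Module R C] (𝒞 : ℤ → AddSubgroup C)
  [DirectSum.Decomposition 𝒞] [SetLike.GradedSMul 𝒜 𝒞]

include hF he in
/-- the localization of the *canonical module is a canonical module of `R_m` -/
theorem nonempty_local_canonical (n : ℕ) (I : GrLC.StarInjRes 𝒜 𝒜)
    (hC : GrLC.IsStarCanonical 𝒜 𝒞 𝓔 m n I) :
    haveI := hF.isMaximal.isPrime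
    Nonempty ((LocalizedModule m.toIdeal.primeCompl C →ₗ[Localization.AtPrime m.toIdeal]
        LocalizedModule m.toIdeal.primeCompl E') ≃ₗ[Localization.AtPrime m.toIdeal]
      H (maximalIdeal (Localization.AtPrime m.toIdeal)) n (Localization.AtPrime m.toIdeal)) := by
  haveI hmax : m.toIdeal.IsMaximal := hF.isMaximal
  haveI hprime : m.toIdeal.IsPrime := hmax.isPrime
  obtain ⟨-, φC, -⟩ := hC
  have hT := isPowerTorsion_E hF he
  obtain ⟨Θ, -⟩ := exists_theta_LCgr 𝒜 𝒜 m I n
  obtain ⟨ε⟩ := nonempty_locH_equiv m.toIdeal n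
  let e12 : (LocalizedModule m.toIdeal.primeCompl C →ₗ[Localization.AtPrime m.toIdeal]
      LocalizedModule m.toIdeal.primeCompl E') ≃ₗ[Localization.AtPrime m.toIdeal]
      (C →ₗ[R] LocalizedModule m.toIdeal.primeCompl E') :=
    (LinearEquiv.congrLeft (LocalizedModule m.toIdeal.primeCompl E')
      (Localization.AtPrime m.toIdeal)
      (LocalizedModule.isBaseChange m.toIdeal.primeCompl C).equiv.symm).trans
    (LinearMap.liftBaseChangeEquiv (Localization.AtPrime m.toIdeal)).symm
  let e36 : (C →ₗ[R] LocalizedModule m.toIdeal.primeCompl E') ≃ₗ[R]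
      LocalizedModule m.toIdeal.primeCompl (H m.toIdeal n R) :=
    (LinearEquiv.congrRight (torsionEquiv m.toIdeal hT).symm).trans
      (φC.trans (Θ.trans (torsionEquiv m.toIdeal (isPowerTorsion_H m.toIdeal n R))))
  exact ⟨e12.trans ((LinearEquiv.extendScalarsOfIsLocalization m.toIdeal.primeCompl
    (Localization.AtPrime m.toIdeal) e36).trans ε)⟩

include hF he in
/-- **The *canonical module of a Cohen–Macaulay graded ring over a field, at the irrelevant ideal**:
`C_m` is a Cohen–Macaulay module of dimension `n` and injective dimension `n` over `R_m`. -/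
theorem local_canonical_cm [hCM : IsCohenMacaulayRing R] (n : ℕ) (hn : ringKrullDim R = n)
    (I : GrLC.StarInjRes 𝒜 𝒜) (hC : GrLC.IsStarCanonical 𝒜 𝒞 𝓔 m n I) :
    haveI := hF.isMaximal.isPrime
    HasInjectiveDimensionLT (ModuleCat.of (Localization.AtPrime m.toIdeal)
        (LocalizedModule m.toIdeal.primeCompl C)) (n + 1) ∧
      IsCohenMacaulayModule (Localization.AtPrime m.toIdeal)
        (LocalizedModule m.toIdeal.primeCompl C) := by
  haveI hmax : m.toIdeal.IsMaximal := hF.isMaximal
  haveI hprime : m.toIdeal.IsPrime := hmax.isPrime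
  haveI := hCM.isCohenMacaulayLocalRing_localization m.toIdeal
  have hn' : ringKrullDim (Localization.AtPrime m.toIdeal) = n := by
    rw [ringKrullDim_atPrime hF, hn]
  obtain ⟨f, hf⟩ := exists_isInjectiveHull_localized hF he
  obtain ⟨eK⟩ := nonempty_local_canonical hF he 𝒞 n I hC
  haveI : Module.Finite R C := hC.1
  obtain ⟨h1, -, h3, -⟩ := Groth.Agent.Helper8.CanMod.injectiveDimension_and_cm
    (Localization.AtPrime m.toIdeal) n hn' (LocalizedModule m.toIdeal.primeCompl E') f hf
    (LocalizedModule m.toIdeal.primeCompl C) eK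
  exact ⟨h1, h3⟩

end Local

end Groth.Agent.Helper8.GC
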