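import Mathlib
import Groth.Prelude.Def_GrLC
import Groth.Prelude.Def_GrLC2
import Groth.Prelude.Def_CAlg
import Groth.Agent.S18636
import Groth.Agent.Lib.Helper8.GB2
import Groth.Agent.Lib.Helper8.ExtLoc5
import Groth.Agent.Lib.Helper6.Bass0.BZf

/-!
# The graded–local principle for the injective dimension of a graded module (helper8)

For a Noetherian graded ring `R` over a field with irrelevant ideal `m` and a finitely generated graded module
`C`: if `C_m` has injective dimension `< N₀` over `R_m`, then `C` has injective dimension `< N₀ + 1` over `R`.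
-/

set_option autoImplicit false
set_option linter.unusedSectionVars false
universe u
open DirectSum CategoryTheory Abelian

namespace Groth.Agent.Helper8.GC
open Groth.Agent.Helper9.GrLCLib Groth.Agent.Helper8.GD Groth.Agent.Helper8.GB
open LocCoh IsLocalRing Groth.Agent.Helper8.ExtLoc Groth.Agent.Lib.Helper6.Bass0

section Loc

variable {R : Type u} [CommRing R] [IsNoetherianRing R]

/-- vanishing of `Ext` over a localization passes to smaller primes -/
theorem subsingleton_ext_loc_of_le (p q : Ideal R) [p.IsPrime] [q.IsPrime] (hqp : q ≤ p) (j : ℕ)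
    (M : Type u) [AddCommGroup M] [Module R M] [Module.Finite R M] (N : Type u) [AddCommGroup N]
    [Module R N]
    (h : Subsingleton (Ext ((locF p.primeCompl).obj (ModuleCat.of R M))
      ((locF p.primeCompl).obj (ModuleCat.of R N)) j)) :
    Subsingleton (Ext ((locF q.primeCompl).obj (ModuleCat.of R M))
      ((locF q.primeCompl).obj (ModuleCat.of R N)) j) := by
  rw [subsingleton_ext_loc_iff] at h ⊢
  intro x
  obtain ⟨s, hs⟩ := h x
  exact ⟨⟨s.1, fun hsq => s.2 (hqp hsq)⟩, hs⟩

/-- Bass numbers at primes below `p` vanish above the injective dimension of the localization at `p` -/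
theorem bassNum_eq_zero_of_le (p q : Ideal R) [p.IsPrime] [q.IsPrime] (hqp : q ≤ p)
    (C : Type u) [AddCommGroup C] [Module R C] (N₀ : ℕ)
    (h : HasInjectiveDimensionLT (ModuleCat.of (Localization.AtPrime p)
      (LocalizedModule p.primeCompl C)) N₀) (i : ℕ) (hi : N₀ ≤ i) : GrLC.bassNum q C i = 0 := by
  have h1 : Subsingleton (Ext ((locF p.primeCompl).obj (ModuleCat.of R (R ⧸ q)))
      ((locF p.primeCompl).obj (ModuleCat.of R C)) i) :=
    HasInjectiveDimensionLT.subsingleton (ModuleCat.of (Localization.AtPrime p)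
      (LocalizedModule p.primeCompl C)) N₀ i hi _
  have h2 := subsingleton_ext_loc_of_le p q hqp i (R ⧸ q) C h1
  have h3 : ExtVan (Localization.AtPrime q) (LocalizedModule q.primeCompl C) i
      (LocalizedModule q.primeCompl (R ⧸ q)) := h2
  obtain ⟨e⟩ := nonempty_residue_equiv_localizedModule_quotient q
  have h4 : Subsingleton (ExtK q C i) := h3.of_equiv e.symm
  rw [bassNum_eq_length]
  exact Module.length_eq_zero

end Loc

section Main

variable {R : Type u} [CommRing R] [IsNoetherianRing R] {𝒜 : ℤ → AddSubgroup R} [GradedRing 𝒜]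
  {m : HomogeneousIdeal 𝒜} (hF : FieldGr 𝒜 m)
variable {C : Type u} [AddCommGroup C] [Module R C] (𝒞 : ℤ → AddSubgroup C)
  [DirectSum.Decomposition 𝒞] [SetLike.GradedSMul 𝒜 𝒞]

include hF 𝒞 in
/-- **Graded–local principle for injective dimension.** -/
theorem hasInjectiveDimensionLT_of_atPrime [Module.Finite R C] (N₀ : ℕ)
    (h : haveI := hF.isMaximal.isPrime
      HasInjectiveDimensionLT (ModuleCat.of (Localization.AtPrime m.toIdeal)
        (LocalizedModule m.toIdeal.primeCompl C)) N₀) :
    HasInjectiveDimensionLT (ModuleCat.of R C) (N₀ + 1) := by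
  haveI hmax : m.toIdeal.IsMaximal := hF.isMaximal
  haveI hprime : m.toIdeal.IsPrime := hmax.isPrime
  -- Bass numbers at maximal ideals
  have hbass : ∀ (p : Ideal R) [p.IsMaximal], ∀ i : ℕ, N₀ + 1 ≤ i →
      haveI : p.IsPrime := Ideal.IsMaximal.isPrime' p
      GrLC.bassNum p C i = 0 := by
    intro p hp i hi
    haveI hpp : p.IsPrime := Ideal.IsMaximal.isPrime' p
    by_cases hph : p.IsHomogeneous 𝒜
    · have hpm : p ≤ m.toIdeal := le_of_isHomogeneous hF hph hpp.ne_top
      exact bassNum_eq_zero_of_le m.toIdeal p hpm C N₀ h i (by omega)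
    · have hcore_le : (Ideal.homogeneousCore 𝒜 p).toIdeal ≤ m.toIdeal := by
        apply le_of_isHomogeneous hF (Ideal.homogeneousCore 𝒜 p).isHomogeneous
        intro htop
        apply hpp.ne_top
        rw [eq_top_iff, ← htop]
        exact Ideal.toIdeal_homogeneousCore_le 𝒜 p
      haveI hcp : (Ideal.homogeneousCore 𝒜 p).toIdeal.IsPrime := Ideal.IsPrime.homogeneousCore hpp
      obtain ⟨-, h2⟩ := Groth.Agent.S18636.result R 𝒜 C 𝒞 p hph
      obtain ⟨j, rfl⟩ : ∃ j, i = j + 1 := ⟨i - 1, by omega⟩
      rw [h2 j]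
      exact bassNum_eq_zero_of_le m.toIdeal _ hcore_le C N₀ h j (by omega)
  -- injective dimension at maximal ideals
  have hloc : ∀ (p : Ideal R) [p.IsMaximal],
      haveI : p.IsPrime := Ideal.IsMaximal.isPrime' p
      HasInjectiveDimensionLT (ModuleCat.of (Localization.AtPrime p)
        (LocalizedModule p.primeCompl C)) (N₀ + 1) := by
    intro p hp
    haveI hpp : p.IsPrime := Ideal.IsMaximal.isPrime' p
    apply Groth.Agent.Helper8.Goren.hasInjectiveDimensionLT_of_ext_residueField'
    intro i hi
    have h2 := hbass p i hi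
    unfold GrLC.bassNum GrLC.bassNumLocal at h2
    rw [Module.length_eq_zero_iff] at h2
    exact h2
  -- globalize
  apply Groth.Agent.Helper8.ABS.hasInjectiveDimensionLT_of_forall_ideal R N₀ C
  intro J
  refine ⟨fun a b => ?_⟩
  have key : ∀ x : Ext (ModuleCat.of R (R ⧸ J)) (ModuleCat.of R C) (N₀ + 1), x = 0 := by
    intro x
    apply eq_zero_of_forall_maximal R x
    intro p hp
    haveI := hp
    haveI hpp : p.IsPrime := Ideal.IsMaximal.isPrime' p
    have hsub : Subsingleton (Ext ((locF p.primeCompl).obj (ModuleCat.of R (R ⧸ J)))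
        ((locF p.primeCompl).obj (ModuleCat.of R C)) (N₀ + 1)) :=
      HasInjectiveDimensionLT.subsingleton (ModuleCat.of (Localization.AtPrime p)
        (LocalizedModule p.primeCompl C)) (N₀ + 1) (N₀ + 1) le_rfl _
    obtain ⟨s, hs⟩ := (subsingleton_ext_loc_iff p.primeCompl (N₀ + 1) (R ⧸ J) C).mp hsub x
    exact ⟨s, s.2, hs⟩
  rw [key a, key b]

end Main

end Groth.Agent.Helper8.GC
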