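import Mathlib
import Groth.Prelude.Def_GrLC2
import Groth.Prelude.Def_CAlg
import Groth.Agent.Lib.Helper8.LD6
import Groth.Agent.Lib.Helper8.Depth19

/-!
# The type of a local ring with local cohomology concentrated in one degree (helper8)

* `mu_eq_length_hom_of_vanish`: if `H^i_m(A) = 0` for `i ≠ d` then `dim A = d` and
  `μ_d(m, A) = ℓ(Hom(k, H^d_m(A)))`.
* `bassNum_eq_mu`: the Bass numbers of the prelude in terms of `mu`.
* `length_hom_of_gorenstein`: for a Gorenstein local ring of dimension `n`, `ℓ(Hom(k, H^n_m(A))) = 1`.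
-/

set_option autoImplicit false
universe u

namespace Groth.Agent.Helper8.GV

open CategoryTheory Abelian IsLocalRing LocCoh localCohomology RingTheory.Sequence
open Groth.Agent.Helper8.LC Groth.Agent.Helper8.Depth Groth.Agent.Helper8.LD

/-- if the local cohomology of a Noetherian local ring is concentrated in degree `d`, then `dim A = d`
and the `d`-th Bass number is the length of the socle of `H^d_m(A)` -/
theorem mu_eq_length_hom_of_vanish (A : Type u) [CommRing A] [IsLocalRing A] [IsNoetherianRing A]
    (d : ℕ) (hvan : ∀ i : ℕ, i ≠ d → Subsingleton (H (maximalIdeal A) i A)) :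
    ringKrullDim A = d ∧ mu (kk A) (ModuleCat.of A A) d =
      Module.length A ((A ⧸ maximalIdeal A) →ₗ[A] H (maximalIdeal A) d A) := by
  have hmA : maximalIdeal A • (⊤ : Submodule A A) ≠ ⊤ := smul_top_ne_top_of_local A A
  obtain ⟨d₀, hd₀⟩ := ENat.ne_top_iff_exists.mp (idealDepth_ne_top (I := maximalIdeal A) hmA)
  have hnt := nontrivial_of_idealDepth_eq (maximalIdeal A) hmA d₀ hd₀.symm
  have hdd : d₀ = d := by
    by_contra hne
    have := hvan d₀ hne
    exact not_subsingleton _ this
  subst hdd
  obtain ⟨n, hn⟩ := exists_nat_supportDim (A := A) A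
  have hdimA : ringKrullDim A = n := by rw [← Module.supportDim_self_eq_ringKrullDim, hn]
  have hnt2 := Groth.Agent.Helper8.NV.nontrivial_H_dim n hdimA
  have hnd : n = d₀ := by
    by_contra hne
    have := hvan n hne
    exact not_subsingleton _ this
  subst hnd
  refine ⟨hdimA, ?_⟩
  have hM : IsCohenMacaulayModule A A := by
    unfold IsCohenMacaulayModule
    rw [hn]
    change _ = ((idealDepth (maximalIdeal A) A : ℕ∞) : WithBot ℕ∞)
    rw [← hd₀]; rfl
  obtain ⟨xs, hreg, hmem, -, hlen⟩ := exists_maximal_isWeaklyRegular (M := A) hmA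
  have hlen' : xs.length = n := by
    have : (xs.length : ℕ∞) = (n : ℕ∞) := hlen.trans hd₀.symm
    exact_mod_cast this
  have hkk : ∀ x ∈ xs, ∀ m : kk A, x • m = 0 := fun x hx m => smul_kk (hmem x hx) m
  have hcomp := mu_H_eq_of_regular (kk A) 1
    (fun a ha m => smul_kk (by rwa [pow_one] at ha) m) xs A hM (by rw [hn, hlen']) hreg hmem hkk
  rw [hlen'] at hcomp
  have h0 := hcomp 0
  rw [zero_add] at h0
  rw [← h0, mu_zero_eq_length_hom]

/-- the Bass numbers of the prelude in terms of `mu` -/
theorem bassNum_eq_mu {R : Type u} [CommRing R] (p : Ideal R) [p.IsPrime] (i : ℕ) :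
    GrLC.bassNum p R i = mu (kk (Localization.AtPrime p))
      (ModuleCat.of (Localization.AtPrime p) (Localization.AtPrime p)) i := by
  unfold GrLC.bassNum GrLC.bassNumLocal
  exact mu_congr_linearEquiv (kk (Localization.AtPrime p)) (localizedModuleSelfEquiv p) i

/-- for a Gorenstein local ring of dimension `n`, the socle of `H^n_m(A)` is simple -/
theorem length_hom_of_gorenstein (A : Type u) [CommRing A] [IsGorensteinLocalRing A] (n : ℕ)
    (hn : ringKrullDim A = n) :
    Module.length A ((A ⧸ maximalIdeal A) →ₗ[A] H (maximalIdeal A) n A) = 1 := by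
  obtain ⟨g, hg⟩ := exists_isInjectiveHull_H_of_gorenstein A n hn
  exact Groth.Agent.Helper1.MatlisL.length_dual_residueField g hg.toIsEssentialInj

end Groth.Agent.Helper8.GV
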