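import Mathlib
import Groth.Prelude.Def_GrLC
import Groth.Prelude.Def_GrLC2
import Groth.Prelude.Def_CAlg
import Groth.Agent.Lib.Helper8.GC2
import Groth.Agent.Lib.Helper8.GV6
import Groth.Agent.Lib.Helper8.CanMod5
import Groth.Agent.Lib.Helper8.LC9

/-!
# Bass numbers of a canonical module and the type of the ring (helper8)

For a Cohen–Macaulay local ring `A` of dimension `n` with canonical module `K`
(`Hom(K, E(k)) ≅ H^n_m(A)`): `μ_n(K) = 1` and `μ_n(A) = ℓ(k ⊗ K)`.
-/

set_option autoImplicit false
set_option linter.unusedSectionVars false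
universe u
open CategoryTheory TensorProduct

namespace Groth.Agent.Helper8.GC
open LocCoh IsLocalRing Groth.Agent.Helper8.LD Groth.Agent.Helper8.LC Groth.Agent.Helper8.CanMod
open Groth.Agent.Helper8.GV Abelian

section Local

variable (A : Type u) [CommRing A] [IsCohenMacaulayLocalRing A]
  (n : ℕ) (hn : ringKrullDim A = n) (E : Type u) [AddCommGroup E] [Module A E]
  (f : ResidueField A →ₗ[A] E) (hf : InjHull.IsInjectiveHull f)
  (K : Type u) [AddCommGroup K] [Module A K]
  (eK : (K →ₗ[A] E) ≃ₗ[A] H (maximalIdeal A) n A)

include hf in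
/-- Matlis duality preserves the length of modules of finite length -/
theorem length_dual_eq (N : Type u) [AddCommGroup N] [Module A N] (hN : IsFiniteLength A N) :
    Module.length A (N →ₗ[A] E) = Module.length A N := by
  haveI := hf.isInjective
  have h1 : Module.length A ((A ⧸ maximalIdeal A) →ₗ[A] E) = 1 :=
    Groth.Agent.Helper1.MatlisL.length_dual_residueField f hf.toIsEssentialInj
  rw [length_hom_of_injective E 1 h1 N hN, one_mul]

/-- `H^0_m(k) = k` has length one -/
theorem length_H_zero_residue :
    Module.length A (H (maximalIdeal A) 0 (A ⧸ maximalIdeal A)) = 1 := by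
  have htop : DRing.torsionSub (maximalIdeal A) (ModuleCat.of A (A ⧸ maximalIdeal A)) = ⊤ := by
    rw [eq_top_iff]
    intro x _
    refine ⟨1, fun a ha => ?_⟩
    rw [pow_one] at ha
    exact smul_kk ha x
  have e := h0Equiv (maximalIdeal A) (ModuleCat.of A (A ⧸ maximalIdeal A))
  have h1 : Module.length A (H (maximalIdeal A) 0 (A ⧸ maximalIdeal A)) =
      Module.length A (DRing.torsionSub (maximalIdeal A) (ModuleCat.of A (A ⧸ maximalIdeal A))) :=
    e.length_eq
  rw [h1, htop, Module.length_top]
  haveI : IsSimpleModule A (A ⧸ maximalIdeal A) :=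
    isSimpleModule_iff_isCoatom.mpr (Ideal.isMaximal_def.mp inferInstance)
  exact Module.length_eq_one A (A ⧸ maximalIdeal A)

include hn hf eK in
/-- **The type of a canonical module is one.** -/
theorem mu_canon_eq_one [Module.Finite A K] : mu (kk A) (ModuleCat.of A K) n = 1 := by
  obtain ⟨d⟩ := nonempty_H_equiv_dual_ext_canon A n hn E f hf K eK (A ⧸ maximalIdeal A) 0 n
    (zero_add n)
  have hfin : IsFiniteLength A (Ext (kk A) (ModuleCat.of A K) n) :=
    Module.length_ne_top_iff.mp (mu_kk_ne_top (ModuleCat.of A K) n)
  have h1 := length_dual_eq A E f hf _ hfin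
  unfold mu
  rw [← h1, ← d.length_eq, length_H_zero_residue]

include hn hf eK in
/-- **The type of the ring is the number of generators of the canonical module.** -/
theorem mu_ring_eq_length_tensor [Module.Finite A K] :
    mu (kk A) (ModuleCat.of A A) n = Module.length A ((A ⧸ maximalIdeal A) ⊗[A] K) := by
  have hvan := subsingleton_H_of_cm A n hn
  rw [(mu_eq_length_hom_of_vanish A n hvan).2]
  have h1 := (LinearEquiv.congrRight (M := A ⧸ maximalIdeal A) eK.symm).length_eq
  have h2 := (TensorProduct.lift.equiv (RingHom.id A) (A ⧸ maximalIdeal A) K E).length_eq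
  have hfin : IsFiniteLength A ((A ⧸ maximalIdeal A) ⊗[A] K) := by
    apply isFiniteLength_of_pow_smul_eq_zero _ 1
    intro a ha y
    rw [pow_one] at ha
    induction y using TensorProduct.induction_on with
    | zero => exact smul_zero a
    | tmul x k =>
      rw [TensorProduct.smul_tmul']
      have : a • x = 0 := smul_kk ha x
      rw [this, TensorProduct.zero_tmul]
    | add y z hy hz => rw [smul_add, hy, hz, add_zero]
  have h3 := length_dual_eq A E f hf _ hfin
  rw [h1, h2, h3]

end Local

end Groth.Agent.Helper8.GC
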