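import Mathlib
import Groth.Prelude.Def_GrLC
import Groth.Prelude.Def_GrLC2
import Groth.Prelude.Def_CAlg
import Groth.Agent.Lib.Helper8.GC4

/-!
# Bass numbers of the *canonical module and the type of a graded ring over a field (helper8)
-/

set_option autoImplicit false
set_option linter.unusedSectionVars false
universe u
open CategoryTheory TensorProduct DirectSum

namespace Groth.Agent.Helper8.GC
open LocCoh IsLocalRing Groth.Agent.Helper8.LD Groth.Agent.Helper8.LC Groth.Agent.Helper8.CanMod
open Groth.Agent.Helper8.GV Groth.Agent.Helper8.GD Groth.Agent.Helper8.GB Abelian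

section Fibre

variable {R : Type u} [CommRing R] (m : Ideal R) [hm : m.IsMaximal] (C : Type u) [AddCommGroup C]
  [Module R C]

/-- the residue fields of `R` at `m` and of `R_m`, `R`-linearly -/
noncomputable def residueLinearEquiv :
    (R ⧸ m) ≃ₗ[R] (Localization.AtPrime m ⧸ maximalIdeal (Localization.AtPrime m)) :=
  { (IsLocalization.AtPrime.equivQuotMaximalIdeal m (Localization.AtPrime m)) with
    map_smul' := by
      intro r x
      obtain ⟨a, rfl⟩ := Ideal.Quotient.mk_surjective x
      have h1 : r • Ideal.Quotient.mk m a = Ideal.Quotient.mk m (r * a) := rfl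
      simp only [RingHom.id_apply, AddHom.toFun_eq_coe, RingEquiv.coe_toEquiv,
        AddEquiv.toAddHom_eq_coe, RingEquiv.toAddEquiv_eq_coe]
      change (IsLocalization.AtPrime.equivQuotMaximalIdeal m (Localization.AtPrime m))
        (r • Ideal.Quotient.mk m a) = r • (IsLocalization.AtPrime.equivQuotMaximalIdeal m
          (Localization.AtPrime m)) (Ideal.Quotient.mk m a)
      rw [h1, IsLocalization.AtPrime.equivQuotMaximalIdeal_apply_mk,
        IsLocalization.AtPrime.equivQuotMaximalIdeal_apply_mk, map_mul, map_mul,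
        ← algebraMap_smul (Localization.AtPrime m) r, Algebra.smul_def]
      rfl }

/-- the fibre of `C_m` over the residue field of `R_m` is the fibre of `C` at `m` -/
noncomputable def fibreEquiv :
    ((Localization.AtPrime m ⧸ maximalIdeal (Localization.AtPrime m)) ⊗[Localization.AtPrime m]
      LocalizedModule m.primeCompl C) ≃ₗ[R] ((R ⧸ m) ⊗[R] C) :=
  (((LinearEquiv.lTensor (Localization.AtPrime m ⧸ maximalIdeal (Localization.AtPrime m))
      (LocalizedModule.isBaseChange m.primeCompl C).equiv.symm).trans
    (TensorProduct.AlgebraTensorModule.cancelBaseChange R (Localization.AtPrime m)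
      (Localization.AtPrime m)
      (Localization.AtPrime m ⧸ maximalIdeal (Localization.AtPrime m)) C)).restrictScalars R).trans
    (TensorProduct.congr (residueLinearEquiv m).symm (LinearEquiv.refl R C))

include hm in
/-- **The number of generators at a maximal ideal, locally and globally.** -/
theorem length_fibre_localized [Module.Finite R C] :
    Module.length (Localization.AtPrime m)
      ((Localization.AtPrime m ⧸ maximalIdeal (Localization.AtPrime m)) ⊗[Localization.AtPrime m]
        LocalizedModule m.primeCompl C) =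
      (Module.finrank (R ⧸ m) ((R ⧸ m) ⊗[R] C) : ℕ∞) := by
  have hJ : ∀ a : Localization.AtPrime m, ∃ c : R,
      a - algebraMap R (Localization.AtPrime m) c ∈ maximalIdeal (Localization.AtPrime m) := by
    intro a
    obtain ⟨c, hc⟩ := exists_sub_mem_maximalIdeal m (⊤ : Subring R)
      (fun v => ⟨v, Subring.mem_top v, by rw [sub_self]; exact m.zero_mem⟩) a
    exact ⟨c.1, hc⟩
  have hS : ∀ a ∈ maximalIdeal (Localization.AtPrime m),
      ∀ y : (Localization.AtPrime m ⧸ maximalIdeal (Localization.AtPrime m))
        ⊗[Localization.AtPrime m] LocalizedModule m.primeCompl C, a • y = 0 := by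
    intro a ha y
    induction y using TensorProduct.induction_on with
    | zero => exact smul_zero a
    | tmul x k =>
      rw [TensorProduct.smul_tmul']
      have : a • x = 0 := smul_kk ha x
      rw [this, TensorProduct.zero_tmul]
    | add y z hy hz => rw [smul_add, hy, hz, add_zero]
  have h1 : Module.length R ((R ⧸ m) ⊗[R] C) = Module.length (Localization.AtPrime m)
      ((Localization.AtPrime m ⧸ maximalIdeal (Localization.AtPrime m)) ⊗[Localization.AtPrime m]
        LocalizedModule m.primeCompl C) :=
    length_eq_of_addEquiv (algebraMap R (Localization.AtPrime m))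
      (maximalIdeal (Localization.AtPrime m)) hJ hS (fibreEquiv m C).symm.toAddEquiv
      (fun c x => by
        show (fibreEquiv m C).symm (c • x) = _
        rw [map_smul, algebraMap_smul]
        rfl)
  have h2 : Module.length R ((R ⧸ m) ⊗[R] C) = Module.length (R ⧸ m) ((R ⧸ m) ⊗[R] C) :=
    Module.length_eq_of_surjective Ideal.Quotient.mk_surjective
  letI : Field (R ⧸ m) := Ideal.Quotient.field m
  rw [← h1, h2, Module.length_eq_finrank]

end Fibre

section Main

variable {R : Type u} [CommRing R] [IsNoetherianRing R] {𝒜 : ℤ → AddSubgroup R} [GradedRing 𝒜]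
  {m : HomogeneousIdeal 𝒜} (hF : FieldGr 𝒜 m)
variable {E' : Type u} [AddCommGroup E'] [Module R E'] {𝓔 : ℤ → AddSubgroup E'}
  [DirectSum.Decomposition 𝓔] [SetLike.GradedSMul 𝒜 𝓔]
  {e : (R ⧸ m.toIdeal) →ₗ[R] E'} (he : GrLC.IsStarInjHull 𝒜 (GrLC.quotGr 𝒜 m) 𝓔 e)
variable {C : Type u} [AddCommGroup C] [Module R C] (𝒞 : ℤ → AddSubgroup C)
  [DirectSum.Decomposition 𝒞] [SetLike.GradedSMul 𝒜 𝒞]

include hF he in
/-- **Bass numbers of the *canonical module and the type of `R`.** -/
theorem bassNum_canonical [hCM : IsCohenMacaulayRing R] [hmax : m.toIdeal.IsMaximal] (n : ℕ)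
    (hn : ringKrullDim R = n) (I : GrLC.StarInjRes 𝒜 𝒜)
    (hC : GrLC.IsStarCanonical 𝒜 𝒞 𝓔 m n I) :
    GrLC.bassNum m.toIdeal C n = 1 ∧ GrLC.bassNum m.toIdeal R n =
      (Module.finrank (R ⧸ m.toIdeal) ((R ⧸ m.toIdeal) ⊗[R] C) : ℕ∞) := by
  haveI hprime : m.toIdeal.IsPrime := hmax.isPrime
  haveI := hCM.isCohenMacaulayLocalRing_localization m.toIdeal
  have hn' : ringKrullDim (Localization.AtPrime m.toIdeal) = n := by
    rw [ringKrullDim_atPrime hF, hn]
  obtain ⟨f, hf⟩ := exists_isInjectiveHull_localized hF he
  obtain ⟨eK⟩ := nonempty_local_canonical hF he 𝒞 n I hC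
  haveI : Module.Finite R C := hC.1
  constructor
  · unfold GrLC.bassNum GrLC.bassNumLocal
    exact mu_canon_eq_one (Localization.AtPrime m.toIdeal) n hn'
      (LocalizedModule m.toIdeal.primeCompl E') f hf (LocalizedModule m.toIdeal.primeCompl C) eK
  · rw [bassNum_eq_mu, mu_ring_eq_length_tensor (Localization.AtPrime m.toIdeal) n hn'
      (LocalizedModule m.toIdeal.primeCompl E') f hf (LocalizedModule m.toIdeal.primeCompl C) eK]
    exact length_fibre_localized m.toIdeal C

end Main

end Groth.Agent.Helper8.GC
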