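import Mathlib
import Groth.Prelude.Def_GrLC
import Groth.Agent.Lib.Helper9.GrLC.Basic
import Groth.Agent.Lib.Helper9.GrLC.Hom

/-!
# The graded Hom module `*Hom_R(M, E')` (helper8)

`starHom 𝒜 ℳ 𝓔`: the submodule of `Hom_R(M, E')` generated by the homogeneous maps, with its grading
`starGr` by degree, as a graded `R`-module.
-/

set_option autoImplicit false
set_option linter.unusedSectionVars false
universe u
open DirectSum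

namespace Groth.Agent.Helper8.GE
open Groth.Agent.Helper9.GrLCLib

section Star

variable {R : Type u} [CommRing R] (𝒜 : ℤ → AddSubgroup R) [GradedRing 𝒜]
variable {M : Type u} [AddCommGroup M] [Module R M] (ℳ : ℤ → AddSubgroup M)
  [DirectSum.Decomposition ℳ] [SetLike.GradedSMul 𝒜 ℳ]
variable {E' : Type u} [AddCommGroup E'] [Module R E'] (𝓔 : ℤ → AddSubgroup E')
  [DirectSum.Decomposition 𝓔] [SetLike.GradedSMul 𝒜 𝓔]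

/-- homogeneous maps of degree `d`, as an additive subgroup -/
def hd (d : ℤ) : AddSubgroup (M →ₗ[R] E') := (GrLC.homDeg 𝒜 ℳ 𝓔 d).toAddSubgroup

lemma mem_hd {d : ℤ} {f : M →ₗ[R] E'} : f ∈ hd 𝒜 ℳ 𝓔 d ↔ GrLC.IsGrHomDeg ℳ 𝓔 f d := Iff.rfl

lemma smul_mem_hd {i d : ℤ} {r : R} (hr : r ∈ 𝒜 i) {f : M →ₗ[R] E'} (hf : f ∈ hd 𝒜 ℳ 𝓔 d) :
    r • f ∈ hd 𝒜 ℳ 𝓔 (i + d) := by
  intro g x hx
  rw [LinearMap.smul_apply]
  have h1 := smul_mem_add 𝒜 𝓔 hr (hf g x hx)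
  have h2 : i + (g + d) = g + (i + d) := by ring
  rwa [h2] at h1

omit [SetLike.GradedSMul 𝒜 ℳ] [SetLike.GradedSMul 𝒜 𝓔] [DirectSum.Decomposition 𝓔] in
lemma ext_homog {f g : M →ₗ[R] E'} (h : ∀ j, ∀ x ∈ ℳ j, f x = g x) : f = g := by
  classical
  ext x
  rw [← DirectSum.sum_support_decompose ℳ x, map_sum, map_sum]
  exact Finset.sum_congr rfl (fun i _ => h i _ (decompose ℳ x i).2)

lemma homComp_add' (f g : M →ₗ[R] E') (d : ℤ) :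
    homComp 𝒜 ℳ 𝓔 (f + g) d = homComp 𝒜 ℳ 𝓔 f d + homComp 𝒜 ℳ 𝓔 g d := by
  apply ext_homog ℳ
  intro j x hx
  rw [LinearMap.add_apply, homComp_of_mem 𝒜 ℳ 𝓔 _ d hx, homComp_of_mem 𝒜 ℳ 𝓔 _ d hx,
    homComp_of_mem 𝒜 ℳ 𝓔 _ d hx, LinearMap.add_apply, map_add]

lemma homComp_zero' (d : ℤ) : homComp 𝒜 ℳ 𝓔 (0 : M →ₗ[R] E') d = 0 := by
  apply ext_homog ℳ
  intro j x hx
  rw [homComp_of_mem 𝒜 ℳ 𝓔 _ d hx, LinearMap.zero_apply, map_zero]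

lemma homComp_of_deg {f : M →ₗ[R] E'} {d₀ : ℤ} (hf : GrLC.IsGrHomDeg ℳ 𝓔 f d₀) (d : ℤ) :
    homComp 𝒜 ℳ 𝓔 f d = if d = d₀ then f else 0 := by
  apply ext_homog ℳ
  intro j x hx
  rw [homComp_of_mem 𝒜 ℳ 𝓔 f d hx]
  have h1 : f x ∈ 𝓔 (j + d₀) := hf j x hx
  split_ifs with h
  · subst h; exact proj_of_mem_same 𝓔 h1
  · rw [LinearMap.zero_apply]
    exact proj_of_mem_ne 𝓔 h1 (fun h' => h (by omega))

/-- the graded Hom `*Hom_R(M, E')` -/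
def starHom : Submodule R (M →ₗ[R] E') where
  carrier := {f | f ∈ (⨆ d, hd 𝒜 ℳ 𝓔 d : AddSubgroup (M →ₗ[R] E'))}
  add_mem' := fun {a b} ha hb =>
    (⨆ d, hd 𝒜 ℳ 𝓔 d : AddSubgroup (M →ₗ[R] E')).add_mem ha hb
  zero_mem' := (⨆ d, hd 𝒜 ℳ 𝓔 d : AddSubgroup (M →ₗ[R] E')).zero_mem
  smul_mem' := by
    classical
    intro r f hf
    show r • f ∈ (⨆ d, hd 𝒜 ℳ 𝓔 d : AddSubgroup (M →ₗ[R] E'))
    rw [← DirectSum.sum_support_decompose 𝒜 r, Finset.sum_smul]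
    refine sum_mem fun i _ => ?_
    exact AddSubgroup.iSup_induction (hd 𝒜 ℳ 𝓔)
      (C := fun f => ((decompose 𝒜 r i : 𝒜 i) : R) • f ∈
        (⨆ d, hd 𝒜 ℳ 𝓔 d : AddSubgroup (M →ₗ[R] E'))) hf
      (fun d f hf => AddSubgroup.mem_iSup_of_mem (i + d)
        (smul_mem_hd 𝒜 ℳ 𝓔 (decompose 𝒜 r i).2 hf))
      (by rw [smul_zero]; exact zero_mem _)
      (fun f g hf hg => by rw [smul_add]; exact add_mem hf hg)

lemma mem_starHom {f : M →ₗ[R] E'} :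
    f ∈ starHom 𝒜 ℳ 𝓔 ↔ f ∈ (⨆ d, hd 𝒜 ℳ 𝓔 d : AddSubgroup (M →ₗ[R] E')) := Iff.rfl

lemma mem_starHom_of_deg {f : M →ₗ[R] E'} {d : ℤ} (hf : GrLC.IsGrHomDeg ℳ 𝓔 f d) :
    f ∈ starHom 𝒜 ℳ 𝓔 := AddSubgroup.mem_iSup_of_mem d hf

/-- the pieces of `*Hom` -/
def starGr (d : ℤ) : AddSubgroup (starHom 𝒜 ℳ 𝓔) :=
  (hd 𝒜 ℳ 𝓔 d).comap (starHom 𝒜 ℳ 𝓔).subtype.toAddMonoidHom

lemma mem_starGr {d : ℤ} {c : starHom 𝒜 ℳ 𝓔} :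
    c ∈ starGr 𝒜 ℳ 𝓔 d ↔ GrLC.IsGrHomDeg ℳ 𝓔 (c : M →ₗ[R] E') d := Iff.rfl

lemma homComp_coe (y : ⨁ d, starGr 𝒜 ℳ 𝓔 d) (d₀ : ℤ) :
    homComp 𝒜 ℳ 𝓔 ((DirectSum.coeAddMonoidHom (starGr 𝒜 ℳ 𝓔) y : starHom 𝒜 ℳ 𝓔) :
      M →ₗ[R] E') d₀ = ((y d₀ : starHom 𝒜 ℳ 𝓔) : M →ₗ[R] E') := by
  induction y using DirectSum.induction_on with
  | zero =>
    rw [map_zero, Submodule.coe_zero, homComp_zero']
    rfl
  | of g n =>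
    have hn : GrLC.IsGrHomDeg ℳ 𝓔 ((n : starHom 𝒜 ℳ 𝓔) : M →ₗ[R] E') g := n.2
    rw [DirectSum.coeAddMonoidHom_of, homComp_of_deg 𝒜 ℳ 𝓔 hn d₀]
    by_cases h : d₀ = g
    · subst h; rw [if_pos rfl, DirectSum.of_eq_same]
    · rw [if_neg h, DirectSum.of_eq_of_ne _ _ _ h]
      rfl
  | add x y hx hy =>
    rw [map_add, Submodule.coe_add, homComp_add', hx, hy, DirectSum.add_apply,
      AddSubgroup.coe_add, Submodule.coe_add]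

lemma coe_injective : Function.Injective (DirectSum.coeAddMonoidHom (starGr 𝒜 ℳ 𝓔)) := by
  rw [injective_iff_map_eq_zero]
  intro y hy
  apply DFinsupp.ext
  intro d₀
  apply Subtype.ext
  apply Subtype.ext
  have h := homComp_coe 𝒜 ℳ 𝓔 y d₀
  rw [hy, Submodule.coe_zero, homComp_zero'] at h
  exact h.symm

lemma coe_surjective : Function.Surjective (DirectSum.coeAddMonoidHom (starGr 𝒜 ℳ 𝓔)) := by
  intro c
  have key : ∃ y : ⨁ d, starGr 𝒜 ℳ 𝓔 d,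
      ((DirectSum.coeAddMonoidHom (starGr 𝒜 ℳ 𝓔) y : starHom 𝒜 ℳ 𝓔) : M →ₗ[R] E') =
        (c : M →ₗ[R] E') := by
    refine AddSubgroup.iSup_induction (hd 𝒜 ℳ 𝓔)
      (C := fun f => ∃ y : ⨁ d, starGr 𝒜 ℳ 𝓔 d,
        ((DirectSum.coeAddMonoidHom (starGr 𝒜 ℳ 𝓔) y : starHom 𝒜 ℳ 𝓔) : M →ₗ[R] E') = f)
      ((mem_starHom 𝒜 ℳ 𝓔).mp c.2) ?_ ?_ ?_
    · intro d f hf
      refine ⟨DirectSum.of (fun d => starGr 𝒜 ℳ 𝓔 d) d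
        ⟨⟨f, AddSubgroup.mem_iSup_of_mem d hf⟩, hf⟩, ?_⟩
      rw [DirectSum.coeAddMonoidHom_of]
    · exact ⟨0, by rw [map_zero]; rfl⟩
    · rintro f g ⟨y, hy⟩ ⟨z, hz⟩
      exact ⟨y + z, by rw [map_add, Submodule.coe_add, hy, hz]⟩
  obtain ⟨y, hy⟩ := key
  exact ⟨y, Subtype.ext hy⟩

lemma star_isInternal : DirectSum.IsInternal (starGr 𝒜 ℳ 𝓔) :=
  ⟨coe_injective 𝒜 ℳ 𝓔, coe_surjective 𝒜 ℳ 𝓔⟩

@[instance_reducible]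
noncomputable instance starDecomposition : DirectSum.Decomposition (starGr 𝒜 ℳ 𝓔) :=
  (star_isInternal 𝒜 ℳ 𝓔).chooseDecomposition

instance starGradedSMul : SetLike.GradedSMul 𝒜 (starGr 𝒜 ℳ 𝓔) where
  smul_mem := by
    intro i d r c hr hc
    rw [vadd_eq_add]
    exact smul_mem_hd 𝒜 ℳ 𝓔 hr hc

/-- `*Hom` as a bundled graded module -/
noncomputable def starGMod : GrLC.GMod.{u} 𝒜 :=
  GrLC.GMod.of 𝒜 (starHom 𝒜 ℳ 𝓔) (starGr 𝒜 ℳ 𝓔)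

/-- evaluation `M → Hom_R(*Hom(M, E'), E')` -/
def ev : M →ₗ[R] (starHom 𝒜 ℳ 𝓔 →ₗ[R] E') where
  toFun x :=
    { toFun := fun c => (c : M →ₗ[R] E') x
      map_add' := fun c c' => by rw [Submodule.coe_add, LinearMap.add_apply]
      map_smul' := fun r c => by
        rw [Submodule.coe_smul, LinearMap.smul_apply, RingHom.id_apply] }
  map_add' x y := LinearMap.ext fun c => map_add (c : M →ₗ[R] E') x y
  map_smul' r x := LinearMap.ext fun c => map_smul (c : M →ₗ[R] E') r x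

lemma ev_apply (x : M) (c : starHom 𝒜 ℳ 𝓔) : ev 𝒜 ℳ 𝓔 x c = (c : M →ₗ[R] E') x := rfl

lemma ev_isGrHomDeg {l : ℤ} {x : M} (hx : x ∈ ℳ l) :
    GrLC.IsGrHomDeg (starGr 𝒜 ℳ 𝓔) 𝓔 (ev 𝒜 ℳ 𝓔 x) l := by
  intro d c hc
  have h1 : (c : M →ₗ[R] E') x ∈ 𝓔 (l + d) := hc l x hx
  rw [add_comm] at h1
  exact h1

end Star

end Groth.Agent.Helper8.GE
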