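import Mathlib
import Groth.Prelude.Def_GrLC
import Groth.Agent.Lib.Helper8.GE1
import Groth.Agent.Lib.Helper8.GD3
import Groth.Agent.Lib.Helper8.GD4

/-!
# Graded Matlis duality: the double dual and finite generation of the dual (helper8)

For a graded module `M` over a graded ring over a field, with finite-dimensional pieces, bounded above and with
socle bounded below, the graded dual `*Hom(M, E')` is finitely generated and `M ≅ Hom_R(*Hom(M, E'), E')`.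
-/

set_option autoImplicit false
set_option linter.unusedSectionVars false
universe u
open DirectSum

namespace Groth.Agent.Helper8.GE
open Groth.Agent.Helper9.GrLCLib Groth.Agent.Helper8.GD

section Dual

variable {R : Type u} [CommRing R] [IsNoetherianRing R] {𝒜 : ℤ → AddSubgroup R} [GradedRing 𝒜]
  {m : HomogeneousIdeal 𝒜} (hF : FieldGr 𝒜 m)
variable {E' : Type u} [AddCommGroup E'] [Module R E'] {𝓔 : ℤ → AddSubgroup E'}
  [DirectSum.Decomposition 𝓔] [SetLike.GradedSMul 𝒜 𝓔]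
  {e : (R ⧸ m.toIdeal) →ₗ[R] E'} (he : GrLC.IsStarInjHull 𝒜 (GrLC.quotGr 𝒜 m) 𝓔 e)
variable {M : Type u} [AddCommGroup M] [Module R M] (ℳ : ℤ → AddSubgroup M)
  [DirectSum.Decomposition ℳ] [SetLike.GradedSMul 𝒜 ℳ]

include hF he in
lemma ev_injective : Function.Injective (ev 𝒜 ℳ 𝓔) := by
  rw [← LinearMap.ker_eq_bot, LinearMap.ker_eq_bot']
  intro x hx
  apply Pos.eq_zero_of_proj_eq_zero ℳ
  intro l
  by_contra hne
  obtain ⟨f, hf, hfx⟩ := exists_hom_ne_zero hF he ℳ (proj_mem ℳ l x) hne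
  apply hfx
  have h1 : proj 𝓔 (l + -l) (f x) = f (proj ℳ l x) := proj_map_of_isGrHomDeg ℳ 𝓔 hf x l
  rw [← h1]
  have h2 : f x = 0 := LinearMap.congr_fun hx ⟨f, mem_starHom_of_deg 𝒜 ℳ 𝓔 hf⟩
  rw [h2, map_zero]

include hF he in
lemma exists_preimage {l : ℤ} [Module.Finite (GrLC.deg0 𝒜) (GrLC.comp 𝒜 ℳ l)]
    (ξ : starHom 𝒜 ℳ 𝓔 →ₗ[R] E') (hξ : GrLC.IsGrHomDeg (starGr 𝒜 ℳ 𝓔) 𝓔 ξ l) :
    ∃ x ∈ ℳ l, ev 𝒜 ℳ 𝓔 x = ξ := by
  let Λ : GrLC.homDeg 𝒜 ℳ 𝓔 (-l) →ₗ[GrLC.deg0 𝒜] E' :=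
    { toFun := fun f => ξ ⟨f.1, mem_starHom_of_deg 𝒜 ℳ 𝓔 f.2⟩
      map_add' := fun f g => by
        rw [← map_add]
        rfl
      map_smul' := fun c f => by
        rw [RingHom.id_apply]
        show ξ ⟨((c : R) • (f : M →ₗ[R] E')), _⟩ = (c : R) • ξ ⟨f.1, _⟩
        rw [← map_smul]
        rfl }
  have hΛ : ∀ f, Λ f ∈ 𝓔 0 := by
    intro f
    have h1 := hξ (-l) ⟨f.1, mem_starHom_of_deg 𝒜 ℳ 𝓔 f.2⟩ f.2
    rwa [neg_add_cancel] at h1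
  obtain ⟨x, hx, hxf⟩ := exists_repr hF he ℳ Λ hΛ
  refine ⟨x, hx, ?_⟩
  have hξ' : GrLC.IsGrHomDeg (starGr 𝒜 ℳ 𝓔) 𝓔 ξ (-(-l)) := by rw [neg_neg]; exact hξ
  have hev' : GrLC.IsGrHomDeg (starGr 𝒜 ℳ 𝓔) 𝓔 (ev 𝒜 ℳ 𝓔 x) (-(-l)) := by
    rw [neg_neg]; exact ev_isGrHomDeg 𝒜 ℳ 𝓔 hx
  apply eq_of_restrict hF he (starGr 𝒜 ℳ 𝓔) hev' hξ'
  intro c hc
  exact (hxf ⟨c.1, hc⟩).symm

include hF he in
/-- **Generation**: if `M` has no socle in degree `j`, the piece of degree `-j` of `*Hom(M, E')` is generated by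
the pieces of lower degree. -/
theorem mem_of_no_socle (j : ℤ) [Module.Finite (GrLC.deg0 𝒜) (GrLC.comp 𝒜 ℳ j)]
    (hsoc : ∀ x ∈ ℳ j, (∀ r ∈ m.toIdeal, r • x = 0) → x = 0)
    (G : Submodule R (starHom 𝒜 ℳ 𝓔))
    (hG : ∀ i : ℤ, 0 < i → ∀ c' ∈ starGr 𝒜 ℳ 𝓔 (-(i + j)), c' ∈ G) :
    ∀ c ∈ starGr 𝒜 ℳ 𝓔 (-j), c ∈ G := by
  classical
  letI : Field (GrLC.deg0 𝒜) := hF.field.toField
  let incl : GrLC.homDeg 𝒜 ℳ 𝓔 (-j) →ₗ[GrLC.deg0 𝒜] starHom 𝒜 ℳ 𝓔 :=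
    { toFun := fun f => ⟨f.1, mem_starHom_of_deg 𝒜 ℳ 𝓔 f.2⟩
      map_add' := fun f g => Subtype.ext rfl
      map_smul' := fun c f => Subtype.ext rfl }
  let T : Submodule (GrLC.deg0 𝒜) (GrLC.homDeg 𝒜 ℳ 𝓔 (-j)) :=
    (G.restrictScalars (GrLC.deg0 𝒜)).comap incl
  have hT : T = ⊤ := by
    by_contra hne
    obtain ⟨f, hf0, hfT⟩ := Submodule.exists_le_ker_of_lt_top T (lt_top_iff_ne_top.mpr hne)
    let Λ : GrLC.homDeg 𝒜 ℳ 𝓔 (-j) →ₗ[GrLC.deg0 𝒜] E' := f.smulRight (e 1)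
    have hΛapp : ∀ w, Λ w = f w • e 1 := fun _ => rfl
    have hΛ : ∀ w, Λ w ∈ 𝓔 0 := fun w => smul_eps_mem hF he (f w).2
    obtain ⟨x, hx, hxf⟩ := exists_repr hF he ℳ Λ hΛ
    have hx0 : x ≠ 0 := by
      intro h0
      apply hf0
      apply LinearMap.ext
      intro w
      have h1 := hxf w
      rw [h0, map_zero] at h1
      have h2 : ((f w : GrLC.deg0 𝒜) : R) = 0 := coord_eq_zero hF he (f w).2 h1
      show f w = 0
      exact Subtype.ext h2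
    have hsocx : ∀ r ∈ m.toIdeal, r • x = 0 := by
      intro r hr
      rw [hF.span] at hr
      refine Submodule.span_induction (p := fun r _ => r • x = 0) ?_ ?_ ?_ ?_ hr
      · intro s hs
        simp only [Set.mem_iUnion] at hs
        obtain ⟨i, hi, hs⟩ := hs
        have hi' : 0 < i := hi
        by_contra hne'
        have hsx : s • x ∈ ℳ (i + j) := smul_mem_add 𝒜 ℳ hs hx
        obtain ⟨c', hc', hc'x⟩ := exists_hom_ne_zero hF he ℳ hsx hne'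
        have hw : GrLC.IsGrHomDeg ℳ 𝓔 (s • c') (-j) := by
          have h1 := smul_mem_hd 𝒜 ℳ 𝓔 hs hc'
          have h2 : i + -(i + j) = -j := by ring
          rwa [h2] at h1
        have hwT : (⟨s • c', hw⟩ : GrLC.homDeg 𝒜 ℳ 𝓔 (-j)) ∈ T := by
          show incl ⟨s • c', hw⟩ ∈ G.restrictScalars (GrLC.deg0 𝒜)
          have h3 : (⟨c', mem_starHom_of_deg 𝒜 ℳ 𝓔 hc'⟩ : starHom 𝒜 ℳ 𝓔) ∈ G := hG i hi' _ hc'
          have h4 := G.smul_mem s h3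
          exact h4
        have h5 : f ⟨s • c', hw⟩ = 0 := hfT hwT
        have h6 := hxf ⟨s • c', hw⟩
        have h7 : Λ ⟨s • c', hw⟩ = 0 := by
          rw [hΛapp, h5, zero_smul]
        rw [h7] at h6
        apply hc'x
        rw [map_smul]
        exact h6.symm
      · exact zero_smul _ _
      · intro a b _ _ ha hb
        rw [add_smul, ha, hb, add_zero]
      · intro a b _ hb
        rw [smul_eq_mul, mul_smul, hb, smul_zero]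
    exact hx0 (hsoc x hx hsocx)
  intro c hc
  have h1 : (⟨c.1, hc⟩ : GrLC.homDeg 𝒜 ℳ 𝓔 (-j)) ∈ T := by rw [hT]; exact Submodule.mem_top
  exact h1

include hF he in
/-- **Finite generation of the graded dual.** -/
theorem finite_starHom (hfin : ∀ l, Module.Finite (GrLC.deg0 𝒜) (GrLC.comp 𝒜 ℳ l))
    (a : ℤ) (htop : ∀ l, a < l → ℳ l = ⊥)
    (s : ℤ) (hsoc : ∀ l, l < s → ∀ x ∈ ℳ l, (∀ r ∈ m.toIdeal, r • x = 0) → x = 0) :
    Module.Finite R (starHom 𝒜 ℳ 𝓔) := by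
  classical
  letI : Field (GrLC.deg0 𝒜) := hF.field.toField
  have hpiece : ∀ d : ℤ, ∃ T : Finset (starHom 𝒜 ℳ 𝓔), ∀ c ∈ starGr 𝒜 ℳ 𝓔 d,
      c ∈ Submodule.span R (T : Set (starHom 𝒜 ℳ 𝓔)) := by
    intro d
    haveI := hfin (-d)
    obtain ⟨hfd, -⟩ := finrank_homDeg hF he ℳ (𝓔 := 𝓔) (j := -d)
    obtain ⟨T₀, hT₀⟩ := Module.finite_def.mp hfd
    let incl : GrLC.homDeg 𝒜 ℳ 𝓔 (-(-d)) → starHom 𝒜 ℳ 𝓔 :=
      fun f => ⟨f.1, mem_starHom_of_deg 𝒜 ℳ 𝓔 f.2⟩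
    refine ⟨T₀.image incl, fun c hc => ?_⟩
    have hc' : GrLC.IsGrHomDeg ℳ 𝓔 (c : M →ₗ[R] E') (-(-d)) := by rw [neg_neg]; exact hc
    have hmem : (⟨c.1, hc'⟩ : GrLC.homDeg 𝒜 ℳ 𝓔 (-(-d))) ∈
        Submodule.span (GrLC.deg0 𝒜) (T₀ : Set (GrLC.homDeg 𝒜 ℳ 𝓔 (-(-d)))) := by
      rw [hT₀]; exact Submodule.mem_top
    have key : ∀ w : GrLC.homDeg 𝒜 ℳ 𝓔 (-(-d)),
        w ∈ Submodule.span (GrLC.deg0 𝒜) (T₀ : Set (GrLC.homDeg 𝒜 ℳ 𝓔 (-(-d)))) →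
        incl w ∈ Submodule.span R ((T₀.image incl : Finset _) : Set (starHom 𝒜 ℳ 𝓔)) := by
      intro w hw
      refine Submodule.span_induction (p := fun w _ => incl w ∈
        Submodule.span R ((T₀.image incl : Finset _) : Set (starHom 𝒜 ℳ 𝓔))) ?_ ?_ ?_ ?_ hw
      · intro t ht
        apply Submodule.subset_span
        rw [Finset.coe_image]
        exact ⟨t, ht, rfl⟩
      · have h0 : incl 0 = 0 := Subtype.ext rfl
        rw [h0]; exact zero_mem _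
      · intro x y _ _ hx hy
        have h0 : incl (x + y) = incl x + incl y := Subtype.ext rfl
        rw [h0]; exact add_mem hx hy
      · intro c₀ x _ hx
        have h0 : incl (c₀ • x) = (c₀ : R) • incl x := Subtype.ext rfl
        rw [h0]; exact Submodule.smul_mem _ _ hx
    exact key _ hmem
  choose Tf hTf using hpiece
  let S : Finset (starHom 𝒜 ℳ 𝓔) := (Finset.Icc (-a) (-s)).biUnion Tf
  let G : Submodule R (starHom 𝒜 ℳ 𝓔) := Submodule.span R (S : Set (starHom 𝒜 ℳ 𝓔))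
  have hvan : ∀ d : ℤ, d < -a → ∀ c ∈ starGr 𝒜 ℳ 𝓔 d, c ∈ G := by
    intro d hd c hc
    have hc' : GrLC.IsGrHomDeg ℳ 𝓔 (c : M →ₗ[R] E') (-(-d)) := by rw [neg_neg]; exact hc
    have h0 : (c : M →ₗ[R] E') = 0 := by
      apply eq_zero_of_restrict hF he ℳ hc'
      intro x hx
      rw [htop (-d) (by omega), AddSubgroup.mem_bot] at hx
      rw [hx, map_zero]
    have h1 : c = 0 := Subtype.ext h0
    rw [h1]; exact zero_mem _
  have hmid : ∀ d : ℤ, -a ≤ d → d ≤ -s → ∀ c ∈ starGr 𝒜 ℳ 𝓔 d, c ∈ G := by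
    intro d h1 h2 c hc
    have h3 : Submodule.span R (Tf d : Set (starHom 𝒜 ℳ 𝓔)) ≤ G := by
      apply Submodule.span_mono
      intro t ht
      rw [Finset.coe_biUnion]
      exact Set.mem_biUnion (Finset.mem_coe.mpr (Finset.mem_Icc.mpr ⟨h1, h2⟩)) ht
    exact h3 (hTf d c hc)
  have hall : ∀ n : ℕ, ∀ d : ℤ, d < -a + n → ∀ c ∈ starGr 𝒜 ℳ 𝓔 d, c ∈ G := by
    intro n
    induction n with
    | zero => intro d hd; exact hvan d (by simpa using hd)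
    | succ n ih =>
      intro d hd c hc
      by_cases h1 : d < -a + n
      · exact ih d h1 c hc
      · push_cast at hd
        have hd' : d = -a + n := by omega
        by_cases h2 : d ≤ -s
        · exact hmid d (by omega) h2 c hc
        · haveI := hfin (-d)
          have hc' : c ∈ starGr 𝒜 ℳ 𝓔 (-(-d)) := by rw [neg_neg]; exact hc
          refine mem_of_no_socle hF he ℳ (-d) (hsoc (-d) (by omega)) G ?_ c hc'
          intro i hi c' hc''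
          exact ih (-(i + -d)) (by omega) c' hc''
  have htop' : G = ⊤ := by
    rw [eq_top_iff]
    intro c _
    rw [← DirectSum.sum_support_decompose (starGr 𝒜 ℳ 𝓔) c]
    refine sum_mem fun d _ => ?_
    obtain ⟨n, hn⟩ : ∃ n : ℕ, d < -a + n := ⟨(d + a + 1).toNat, by omega⟩
    exact hall n d hn _ (decompose (starGr 𝒜 ℳ 𝓔) c d).2
  exact ⟨⟨S, htop'⟩⟩

include hF he in
theorem ev_surjective [Module.Finite R (starHom 𝒜 ℳ 𝓔)]
    (hfin : ∀ l, Module.Finite (GrLC.deg0 𝒜) (GrLC.comp 𝒜 ℳ l)) :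
    Function.Surjective (ev 𝒜 ℳ 𝓔) := by
  intro ξ
  obtain ⟨D, hD⟩ := exists_finset_sum_homComp 𝒜 (starGr 𝒜 ℳ 𝓔) 𝓔 ξ
  have hmem : ∀ d, homComp 𝒜 (starGr 𝒜 ℳ 𝓔) 𝓔 ξ d ∈ LinearMap.range (ev 𝒜 ℳ 𝓔) := by
    intro d
    haveI := hfin d
    obtain ⟨x, -, hx⟩ := exists_preimage hF he ℳ _
      (homComp_isGrHomDeg 𝒜 (starGr 𝒜 ℳ 𝓔) 𝓔 ξ d)
    exact ⟨x, hx⟩
  have h1 : ∑ d ∈ D, homComp 𝒜 (starGr 𝒜 ℳ 𝓔) 𝓔 ξ d ∈ LinearMap.range (ev 𝒜 ℳ 𝓔) :=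
    sum_mem fun d _ => hmem d
  rw [← hD] at h1
  exact h1

include hF he in
/-- **Graded Matlis duality**: existence of the graded dual as a finitely generated module with double dual
the original module. -/
theorem exists_dual_equiv (hfin : ∀ l, Module.Finite (GrLC.deg0 𝒜) (GrLC.comp 𝒜 ℳ l))
    (a : ℤ) (htop : ∀ l, a < l → ℳ l = ⊥)
    (s : ℤ) (hsoc : ∀ l, l < s → ∀ x ∈ ℳ l, (∀ r ∈ m.toIdeal, r • x = 0) → x = 0) :
    Module.Finite R (starHom 𝒜 ℳ 𝓔) ∧ ∃ φ : (starHom 𝒜 ℳ 𝓔 →ₗ[R] E') ≃ₗ[R] M,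
      GrLC.IsGrHom (fun d => (GrLC.homDeg 𝒜 (starGr 𝒜 ℳ 𝓔) 𝓔 d).toAddSubgroup) ℳ
        φ.toLinearMap := by
  have hfg := finite_starHom hF he ℳ hfin a htop s hsoc
  haveI := hfg
  refine ⟨hfg, ?_⟩
  let ψ : M ≃ₗ[R] (starHom 𝒜 ℳ 𝓔 →ₗ[R] E') :=
    LinearEquiv.ofBijective (ev 𝒜 ℳ 𝓔) ⟨ev_injective hF he ℳ, ev_surjective hF he ℳ hfin⟩
  refine ⟨ψ.symm, ?_⟩
  intro d ξ hξ
  haveI := hfin d
  obtain ⟨x, hx, hxξ⟩ := exists_preimage hF he ℳ ξ hξ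
  have h1 : ψ.symm ξ = x := by
    rw [LinearEquiv.symm_apply_eq]
    exact hxξ.symm
  show ψ.symm ξ ∈ ℳ d
  rw [h1]
  exact hx

end Dual

end Groth.Agent.Helper8.GE
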