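import Mathlib
import Groth.Prelude.Def_GrLC
import Groth.Prelude.Def_CAlg
import Groth.Agent.Lib.Helper8.GV3
import Groth.Agent.Lib.Helper8.GB7
import Groth.Agent.S13215

/-!
# Veronese subrings of Gorenstein graded rings, IV (helper8)

`isGorensteinRing_ver`: if `R` is a Gorenstein graded ring over a field and `q ∣ a(R)`, the Veronese
subring `R^(q)` is Gorenstein.
-/

set_option autoImplicit false
set_option linter.unusedSectionVars false
universe u
open DirectSum CategoryTheory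

namespace Groth.Agent.Helper8.GV
open Groth.Agent.Helper9.GrLCLib Groth.Agent.Helper8.GD Groth.Agent.Helper8.Ver Groth.Agent.Helper8.GB
open LocCoh IsLocalRing

section Homog

lemma map_mem_of_homogeneous {M N : Type*} [AddCommGroup M] [AddCommGroup N] (ℳ : ℤ → AddSubgroup M)
    [DirectSum.Decomposition ℳ] (Φ : M →+ N) (S : AddSubgroup N)
    (h : ∀ j, ∀ w ∈ ℳ j, Φ w ∈ S) (y : M) : Φ y ∈ S := by
  induction y using DirectSum.Decomposition.inductionOn ℳ with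
  | zero => rw [map_zero]; exact zero_mem _
  | @homogeneous j w => exact h j w w.2
  | add a b ha hb => rw [map_add]; exact add_mem ha hb

end Homog

section Main

variable {R : Type u} [CommRing R] [IsNoetherianRing R] {𝒜 : ℤ → AddSubgroup R} [GradedRing 𝒜]
  {m : HomogeneousIdeal 𝒜} (hF : FieldGr 𝒜 m)
variable {E' : Type u} [AddCommGroup E'] [Module R E'] {𝓔 : ℤ → AddSubgroup E'}
  [DirectSum.Decomposition 𝓔] [SetLike.GradedSMul 𝒜 𝓔]
  {e : (R ⧸ m.toIdeal) →ₗ[R] E'} (he : GrLC.IsStarInjHull 𝒜 (GrLC.quotGr 𝒜 m) 𝓔 e)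

include hF he in
/-- the end of `H^n_m(R) ≅ E'(−g₀)` is `g₀` -/
theorem endDeg_of_grEquiv (I : GrLC.StarInjRes 𝒜 𝒜) (n : ℕ) (g₀ : ℤ) (β : E' ≃ₗ[R] I.H m n)
    (hβ : GrLC.IsGrHomDeg 𝓔 (I.Hgr m n) β.toLinearMap g₀) :
    GrLC.endDeg (I.Hgr m n) = ((g₀ : WithTop ℤ) : WithBot (WithTop ℤ)) := by
  let X : GrLC.GMod.{u} 𝒜 := HGMod 𝒜 𝒜 I m n
  have hXgr : X.gr = I.Hgr m n := HGMod_gr 𝒜 𝒜 I m n
  let βX : E' ≃ₗ[R] X.carrier := β
  have hβX : GrLC.IsGrHomDeg 𝓔 X.gr βX.toLinearMap g₀ := by rw [hXgr]; exact hβ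
  have hβs := symm_isGrHomDeg' 𝓔 X.gr βX hβX
  apply endDeg_eq_of
  · intro hbot
    have h1 : β (e 1) ∈ I.Hgr m n (0 + g₀) := hβ 0 (e 1) (eps_mem hF he)
    rw [zero_add, hbot, AddSubgroup.mem_bot] at h1
    apply eps_ne_zero hF he
    exact β.injective (by rw [h1, map_zero])
  · intro j hj
    rw [eq_bot_iff]
    intro x hx
    rw [AddSubgroup.mem_bot]
    have h2 : β.symm x ∈ 𝓔 (j + -g₀) := hβs j x (hXgr ▸ hx)
    have h3 : β.symm x = 0 := eq_zero_of_pos hF he (by omega) h2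
    rw [← β.apply_symm_apply x, h3, map_zero]

variable {V : Type u} [CommRing V] {𝒜' : ℤ → AddSubgroup V} [GradedRing 𝒜'] (D : VerData 𝒜 𝒜')

include hF in
/-- **Veronese subrings of Gorenstein graded rings**: if `q ∣ a(R)` then `R^(q)` is Gorenstein. -/
theorem isGorensteinRing_ver [hG : IsGorensteinRing R] (n : ℕ) (hn : ringKrullDim R = n)
    (I : GrLC.StarInjRes 𝒜 𝒜) (a : ℤ)
    (ha : GrLC.endDeg (I.Hgr m n) = ((a : WithTop ℤ) : WithBot (WithTop ℤ)))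
    (hdvd : (D.q : ℤ) ∣ a) : IsGorensteinRing V := by
  classical
  haveI : IsNoetherianRing V := isNoetherianRing_ver D
  haveI hmax : m.toIdeal.IsMaximal := hF.isMaximal
  haveI hprime : m.toIdeal.IsPrime := hmax.isPrime
  have hF' : FieldGr 𝒜' (irrIdeal 𝒜') := fieldGr_ver D hF (irrIdeal 𝒜') rfl
  have hc : IdealCompat D m (irrIdeal 𝒜') := idealCompat_irrelevant D m (irrIdeal 𝒜') hF.span rfl
  obtain ⟨EG, e, he⟩ := exists_starInjHull_quot 𝒜 m
  obtain ⟨EG', e', he'⟩ := exists_starInjHull_quot 𝒜' (irrIdeal 𝒜')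
  obtain ⟨I'⟩ := Groth.Agent.S13215.result V 𝒜' V 𝒜'
  have hGloc : IsGorensteinLocalRing (Localization.AtPrime m.toIdeal) :=
    hG.isGorensteinLocalRing_localization m.toIdeal
  have hnloc : ringKrullDim (Localization.AtPrime m.toIdeal) = n := by
    rw [ringKrullDim_atPrime hF, hn]
  obtain ⟨hvan, g₀, β, hβ⟩ := exists_grEquiv_of_gorenstein hF he I n hGloc hnloc
  have hag : g₀ = a := by
    have h1 := endDeg_of_grEquiv hF he I n g₀ β hβ
    rw [ha] at h1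
    exact (WithTop.coe_injective (WithBot.coe_injective h1)).symm
  subst hag
  obtain ⟨c, hc'⟩ := hdvd
  -- comparison maps
  have hΦ := fun p => exists_hom_starInjRes (D := D) 𝒜 𝒜' (phiSemi D) D.inj (fun j => D.deg j)
    hc I I' p
  have hvan' : ∀ i : ℕ, i ≠ n → Subsingleton (I'.H (irrIdeal 𝒜') i) := by
    intro i hi
    obtain ⟨Φ, hΦi, -, -⟩ := hΦ i
    haveI := hvan i hi
    exact hΦi.subsingleton
  obtain ⟨Φ, hΦi, hΦs, hΦg⟩ := hΦ n
  -- graded structures on the cohomology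
  let X : GrLC.GMod.{u} 𝒜 := HGMod 𝒜 𝒜 I m n
  have hXgr : X.gr = I.Hgr m n := HGMod_gr 𝒜 𝒜 I m n
  let βX : EG.carrier ≃ₗ[R] X.carrier := β
  have hβX : GrLC.IsGrHomDeg EG.gr X.gr βX.toLinearMap g₀ := by rw [hXgr]; exact hβ
  have hβs := symm_isGrHomDeg' EG.gr X.gr βX hβX
  let f : VerT D EG.gr →+ I.H m n := (β.toLinearMap.toAddMonoidHom).comp (VerT.ι D EG.gr)
  have hf : ∀ x, f x = β (VerT.ι D EG.gr x) := fun _ => rfl
  have h1 : ∀ x, ∃ y, Φ y = f x := by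
    intro x
    induction x using DirectSum.Decomposition.inductionOn (verFam D EG.gr) with
    | zero => exact ⟨0, by rw [map_zero, map_zero]⟩
    | @homogeneous j w =>
      have hw : VerT.ι D EG.gr (w : VerT D EG.gr) ∈ EG.gr (j * D.q) := w.2
      have h2 : β (VerT.ι D EG.gr w) ∈ I.Hgr m n (j * D.q + g₀) := hβ _ _ hw
      have h3 : j * D.q + g₀ = (j + c) * D.q := by rw [hc']; ring
      rw [h3] at h2
      obtain ⟨y, -, hy⟩ := (hΦg (j + c) _).mp h2
      exact ⟨y, hy⟩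
    | add a b ha hb =>
      obtain ⟨y, hy⟩ := ha
      obtain ⟨y', hy'⟩ := hb
      exact ⟨y + y', by rw [map_add, map_add, hy, hy']⟩
  have h2 : ∀ y : I'.H (irrIdeal 𝒜') n, ∃ x, f x = Φ y := by
    intro y
    have key := map_mem_of_homogeneous (M := (HGMod 𝒜' 𝒜' I' (irrIdeal 𝒜') n).carrier)
      (HGMod 𝒜' 𝒜' I' (irrIdeal 𝒜') n).gr Φ f.range (by
        intro j w hwj
        have hw : w ∈ I'.Hcomp (irrIdeal 𝒜') n j :=
          (mem_HGMod_gr_iff 𝒜' 𝒜' I' (irrIdeal 𝒜') n j w).mp hwj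
        have h3 : Φ w ∈ I.Hgr m n (j * D.q) := (hΦg j _).mpr ⟨w, hw, rfl⟩
        have h4 : β.symm (Φ w) ∈ EG.gr (j * D.q + -g₀) := hβs _ _ (hXgr ▸ h3)
        have h5 : j * D.q + -g₀ = (j - c) * D.q := by rw [hc']; ring
        rw [h5] at h4
        exact ⟨VerT.mk D EG.gr _ (mem_verAdd_of_mem EG.gr D.q h4), by
          rw [hf, VerT.ι_mk]
          exact β.apply_symm_apply _⟩) y
    exact key
  obtain ⟨ψ, -⟩ := exists_equiv_of_range_eq D.φ f Φ
    (β.injective.comp (VerT.ι_injective D EG.gr)) hΦi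
    (fun v x => by rw [hf, hf, VerT.ι_smul, map_smul]) hΦs h1 h2
  obtain ⟨θ, -⟩ := exists_theta D hF hF' he he' hc
  exact isGorensteinRing_of_H hF' he' I' n hvan' (ψ.symm.trans θ)

end Main

end Groth.Agent.Helper8.GV
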