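import Mathlib
import Groth.Prelude.Def_GrLC
import Groth.Prelude.Def_CAlg
import Groth.Agent.Lib.Helper8.GV4
import Groth.Agent.Lib.Helper8.GB2

/-!
# Graded rings over a field: `*`local, and `H^0_m(R/m)` (helper8)

* `isStarLocal_of_fieldGr`: a graded ring over a field is `*`local.
* `endDeg_H_zero_of_residue`: `H^0_m(R/m)` is `R/m` in degree zero.
-/

set_option autoImplicit false
set_option linter.unusedSectionVars false
universe u
open DirectSum

namespace Groth.Agent.Helper8.GP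
open Groth.Agent.Helper9.GrLCLib Groth.Agent.Helper8.GD Groth.Agent.Helper8.GB Groth.Agent.Helper8.GV

section Gen

variable {R : Type u} [CommRing R] [IsNoetherianRing R] {𝒜 : ℤ → AddSubgroup R} [GradedRing 𝒜]
  {m : HomogeneousIdeal 𝒜} (hF : FieldGr 𝒜 m)

include hF in
theorem isStarLocal_of_fieldGr : GrLC.IsStarLocal 𝒜 m := by
  have hmax := hF.isMaximal
  have hne : m ≠ ⊤ := fun h => hmax.ne_top ((HomogeneousIdeal.eq_top_iff m).mp h)
  have hco : IsCoatom m := by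
    refine ⟨hne, fun b hb => ?_⟩
    rw [HomogeneousIdeal.eq_top_iff]
    by_contra hbt
    have h2 : b.toIdeal ≤ m.toIdeal := le_of_isHomogeneous hF b.isHomogeneous hbt
    have h3 : b ≤ m := toIdeal_le_toIdeal_iff.mp h2
    exact absurd (lt_of_lt_of_le hb h3) (lt_irrefl _)
  refine ⟨hco, fun n hn => ?_⟩
  have hn1 : n.toIdeal ≠ ⊤ := fun h => hn.1 ((HomogeneousIdeal.eq_top_iff n).mpr h)
  have h2 : n ≤ m :=
    toIdeal_le_toIdeal_iff.mp (le_of_isHomogeneous hF n.isHomogeneous hn1)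
  rcases eq_or_lt_of_le h2 with h | h
  · exact h
  · exact absurd (hn.2 m h) hne

include hF in
/-- `H^0_m(R/m) = R/m`, concentrated in degree zero. -/
theorem endDeg_H_zero_of_residue {N : Type u} [AddCommGroup N] [Module R N]
    (𝒩 : ℤ → AddSubgroup N) [DirectSum.Decomposition 𝒩] [SetLike.GradedSMul 𝒜 𝒩]
    (π : R →ₗ[R] N) (hπ : GrLC.IsGrHom 𝒜 𝒩 π) (hπs : Function.Surjective π)
    (hπk : LinearMap.ker π = m.toIdeal) (F : GrLC.StarInjRes 𝒜 𝒩) :
    GrLC.endDeg (F.Hgr m 0) = (((0 : ℤ) : WithTop ℤ) : WithBot (WithTop ℤ)) := by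
  have hcob : F.cobdy m 0 = ⊥ := rfl
  apply endDeg_eq_of
  · intro hbot
    have hz1 : F.ε (π 1) ∈ GrLC.gam m.toIdeal (F.X 0).carrier := by
      refine ⟨1, fun r hr => ?_⟩
      rw [pow_one] at hr
      have h0 : π r = 0 := by
        have : r ∈ LinearMap.ker π := hπk ▸ hr
        exact LinearMap.mem_ker.mp this
      rw [← map_smul, ← map_smul, smul_eq_mul, mul_one, h0, map_zero]
    have hz2 : F.ε (π 1) ∈ LinearMap.ker (F.d 0) := by
      rw [F.exact_zero]; exact ⟨π 1, rfl⟩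
    let z : F.cocyc m 0 := ⟨F.ε (π 1), ⟨hz1, hz2⟩⟩
    have hz3 : (z : (F.X 0).carrier) ∈ (F.X 0).gr 0 :=
      F.ε_grHom 0 (π 1) (hπ 0 1 (SetLike.GradedOne.one_mem))
    have hmem : F.toH m 0 z ∈ F.Hgr m 0 0 := ⟨z, hz3, rfl⟩
    rw [hbot, AddSubgroup.mem_bot] at hmem
    have h4 : z ∈ (F.cobdy m 0).comap (F.cocyc m 0).subtype :=
      (Submodule.Quotient.mk_eq_zero _).mp hmem
    rw [Submodule.mem_comap, hcob, Submodule.mem_bot] at h4
    have h5 : F.ε (π 1) = 0 := h4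
    have h6 : π 1 = 0 := F.ε_injective (by rw [h5, map_zero])
    have h7 : (1 : R) ∈ m.toIdeal := by rw [← hπk]; exact LinearMap.mem_ker.mpr h6
    exact hF.one_notMem h7
  · intro j hj
    rw [eq_bot_iff]
    intro x hx
    obtain ⟨z, hz, rfl⟩ := hx
    rw [AddSubgroup.mem_bot]
    have hz2 : (z : (F.X 0).carrier) ∈ LinearMap.ker (F.d 0) := z.2.2
    rw [F.exact_zero] at hz2
    obtain ⟨y, hy⟩ := hz2
    obtain ⟨r, rfl⟩ := hπs y
    have h1 : π r = π (proj 𝒜 0 r) := by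
      have h : r - proj 𝒜 0 r ∈ LinearMap.ker π := by rw [hπk]; exact hF.sub_proj_zero_mem r
      have h' := LinearMap.mem_ker.mp h
      rw [map_sub, sub_eq_zero] at h'
      exact h'
    have h2 : (z : (F.X 0).carrier) ∈ (F.X 0).gr 0 := by
      rw [← hy, h1]
      exact F.ε_grHom 0 _ (hπ 0 _ (proj_mem 𝒜 0 r))
    have h3 : (z : (F.X 0).carrier) = 0 := by
      have h := proj_of_mem_ne (F.X 0).gr h2 (ne_of_lt hj)
      rwa [proj_of_mem_same (F.X 0).gr hz] at h
    have h4 : z = 0 := Subtype.ext h3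
    rw [h4, map_zero]

end Gen

end Groth.Agent.Helper8.GP
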