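import Mathlib
import Groth.Prelude.Def_GrLC
import Groth.Prelude.Def_CAlg
import Groth.Agent.Lib.Helper8.GE2
import Groth.Agent.Lib.Helper8.GP1
import Groth.Agent.Lib.Helper9.GrLC.ArtinH
import Groth.Agent.Lib.Helper9.GrLC.HGr
import Groth.Agent.S13226
import Groth.Agent.S17767

/-!
# Existence of the *canonical module of a graded ring over a field (helper8)

`exists_starCanonical`: for a Noetherian graded ring `R` over a field, with irrelevant ideal `m`, the graded Matlis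
dual of `H^n_m(R)` is a *canonical module (a finitely generated graded module `C` with a homogeneous isomorphism
`Hom_R(C, E') ≅ H^n_m(R)`).
-/

set_option autoImplicit false
set_option linter.unusedSectionVars false
universe u
open DirectSum

namespace Groth.Agent.Helper8.GE
open Groth.Agent.Helper9.GrLCLib Groth.Agent.Helper8.GD Groth.Agent.Helper8.GP

section Socle

variable {R : Type u} [CommRing R] [IsNoetherianRing R] {𝒜 : ℤ → AddSubgroup R} [GradedRing 𝒜]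
  {m : HomogeneousIdeal 𝒜} (hF : FieldGr 𝒜 m)
variable {M : Type u} [AddCommGroup M] [Module R M] (ℳ : ℤ → AddSubgroup M)
  [DirectSum.Decomposition ℳ] [SetLike.GradedSMul 𝒜 ℳ]

/-- the part of the socle in degrees `< -t` -/
def socBelow (t : ℕ) : Submodule R M where
  carrier := {x | (∀ r ∈ m.toIdeal, r • x = 0) ∧ ∀ l : ℤ, -(t : ℤ) ≤ l → proj ℳ l x = 0}
  add_mem' := by
    rintro x y ⟨hx1, hx2⟩ ⟨hy1, hy2⟩
    exact ⟨fun r hr => by rw [smul_add, hx1 r hr, hy1 r hr, add_zero],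
      fun l hl => by rw [map_add, hx2 l hl, hy2 l hl, add_zero]⟩
  zero_mem' := ⟨fun r _ => smul_zero r, fun l _ => map_zero _⟩
  smul_mem' := by
    rintro c x ⟨hx1, hx2⟩
    refine ⟨fun r hr => by rw [smul_comm, hx1 r hr, smul_zero], fun l hl => ?_⟩
    have h1 : c • x = proj 𝒜 0 c • x := by
      have h2 : (c - proj 𝒜 0 c) • x = 0 := hx1 _ (hF.sub_proj_zero_mem c)
      rw [sub_smul, sub_eq_zero] at h2
      exact h2
    rw [h1, proj_smul_of_mem' 𝒜 ℳ (proj_mem 𝒜 0 c) x l, sub_zero, hx2 l hl, smul_zero]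

include hF in
/-- the socle of an Artinian graded module is bounded below -/
theorem exists_socle_bound [IsArtinian R M] :
    ∃ s : ℤ, ∀ l, l < s → ∀ x ∈ ℳ l, (∀ r ∈ m.toIdeal, r • x = 0) → x = 0 := by
  let f : ℕ →o (Submodule R M)ᵒᵈ :=
    ⟨fun t => OrderDual.toDual (socBelow hF ℳ t), by
      intro t t' htt'
      show socBelow hF ℳ t' ≤ socBelow hF ℳ t
      rintro x ⟨hx1, hx2⟩
      have h0 : (t : ℤ) ≤ t' := by exact_mod_cast htt'
      exact ⟨hx1, fun l hl => hx2 l (by omega)⟩⟩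
  obtain ⟨t₀, ht₀⟩ := IsArtinian.monotone_stabilizes f
  refine ⟨-(t₀ : ℤ), fun l hl x hx hsoc => ?_⟩
  have h1 : x ∈ socBelow hF ℳ t₀ := ⟨hsoc, fun l' hl' => proj_of_mem_ne ℳ hx (by omega)⟩
  have h2 := ht₀ (-l).toNat (by omega)
  have h3 : socBelow hF ℳ t₀ = socBelow hF ℳ (-l).toNat := congrArg OrderDual.ofDual h2
  rw [h3] at h1
  have h4 := h1.2 l (by omega)
  rwa [proj_of_mem_same ℳ hx] at h4

end Socle

section Exist

variable {R : Type u} [CommRing R] [IsNoetherianRing R] {𝒜 : ℤ → AddSubgroup R} [GradedRing 𝒜]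
  {m : HomogeneousIdeal 𝒜} (hF : FieldGr 𝒜 m)
variable {E' : Type u} [AddCommGroup E'] [Module R E'] {𝓔 : ℤ → AddSubgroup E'}
  [DirectSum.Decomposition 𝓔] [SetLike.GradedSMul 𝒜 𝓔]
  {e : (R ⧸ m.toIdeal) →ₗ[R] E'} (he : GrLC.IsStarInjHull 𝒜 (GrLC.quotGr 𝒜 m) 𝓔 e)

include hF he in
/-- **Existence of the *canonical module** of a graded ring defined over a field. -/
theorem exists_starCanonical (I : GrLC.StarInjRes 𝒜 𝒜) (n : ℕ) :
    ∃ C : GrLC.GMod.{u} 𝒜, GrLC.IsStarCanonical 𝒜 C.gr 𝓔 m n I := by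
  classical
  haveI hmax : m.toIdeal.IsMaximal := hF.isMaximal
  let X : GrLC.GMod.{u} 𝒜 := HGMod 𝒜 𝒜 I m n
  have hXgr : X.gr = I.Hgr m n := HGMod_gr 𝒜 𝒜 I m n
  have hfin : ∀ l, Module.Finite (GrLC.deg0 𝒜) (GrLC.comp 𝒜 X.gr l) := by
    intro l
    have h1 := Groth.Agent.S13226.result R 𝒜 hF.pos m hF.span R 𝒜 I n l
    have h2 : GrLC.comp 𝒜 X.gr l = I.Hcomp m n l := by
      ext x
      show x ∈ X.gr l ↔ x ∈ I.Hcomp m n l
      rw [hXgr]
      rfl
    rw [h2]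
    exact h1
  obtain ⟨N, hN⟩ := Groth.Agent.S17767.result R 𝒜 hF.pos m (isStarLocal_of_fieldGr hF) R 𝒜 I n
  have htop : ∀ l, N - 1 < l → X.gr l = ⊥ := by
    intro l hl
    have hl' : X.gr l = I.Hgr m n l := congrFun hXgr l
    rw [eq_bot_iff]
    intro x hx
    have h0 : (x : I.H m n) ∈ I.Hgr m n l := by rw [← hl']; exact hx
    have h1 : (x : I.H m n) ∈ I.Hcomp m n l := h0
    have h2 : (x : I.H m n) ∈ (⊥ : Submodule (GrLC.deg0 𝒜) (I.H m n)) := hN l (by omega) ▸ h1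
    exact AddSubgroup.mem_bot.mpr ((Submodule.mem_bot _).mp h2)
  obtain ⟨Θ, -⟩ := exists_theta_LCgr 𝒜 𝒜 m I n
  haveI : IsArtinian R (LocCoh.H m.toIdeal n R) := isArtinian_H_of_isMaximal m.toIdeal n R
  haveI : IsArtinian R X.carrier := isArtinian_of_linearEquiv Θ.symm
  obtain ⟨s, hs⟩ := exists_socle_bound hF X.gr
  obtain ⟨hfg, φ, hφ⟩ := exists_dual_equiv hF he X.gr hfin (N - 1) htop s hs
  refine ⟨starGMod 𝒜 X.gr 𝓔, hfg, φ, ?_⟩
  intro d ξ hξ
  have h1 := hφ d ξ hξ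
  have hl' : X.gr d = I.Hgr m n d := congrFun hXgr d
  show (φ ξ : I.H m n) ∈ I.Hgr m n d
  rw [← hl']
  exact h1

end Exist

end Groth.Agent.Helper8.GE
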