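import Mathlib
import Groth.Prelude.Def_GrLC
import Groth.Prelude.Def_GrLC2
import Groth.Prelude.Def_CAlg
import Groth.Agent.Lib.Helper8.GC2
import Groth.Agent.Lib.Helper8.GC3
import Groth.Agent.Lib.Helper8.Depth26
import Groth.Agent.Lib.Helper8.CanMod7

/-!
# The depth of the *canonical module of a Cohen–Macaulay graded ring over a field (helper8)

* `eq_zero_of_ext_zero`, `exists_smul_of_ext_one`: elementary forms of `Ext^0(R/J, C) = 0` and `Ext^1(R/J, C) = 0`.
* `subsingleton_ext_residue`: `Ext^j_R(R/m, C) = 0` for `j < n` and `C` the *canonical module.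
-/

set_option autoImplicit false
set_option linter.unusedSectionVars false
universe u
open DirectSum CategoryTheory Abelian

namespace Groth.Agent.Helper8.GK
open Groth.Agent.Helper9.GrLCLib Groth.Agent.Helper8.GD Groth.Agent.Helper8.GB Groth.Agent.Helper8.GC
open LocCoh IsLocalRing Groth.Agent.Helper8.ExtLoc Groth.Agent.Lib.Helper6.Bass0

section Elem

variable {R : Type u} [CommRing R] (J : Ideal R) (C : Type u) [AddCommGroup C] [Module R C]

/-- `Hom(R/J, C) = 0` means no nonzero element is killed by `J` -/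
theorem eq_zero_of_ext_zero
    (h : Subsingleton (Ext (ModuleCat.of R (R ⧸ J)) (ModuleCat.of R C) 0)) (u : C)
    (hu : ∀ r ∈ J, r • u = 0) : u = 0 := by
  let g : (R ⧸ J) →ₗ[R] C := Submodule.liftQ J (LinearMap.toSpanSingleton R C u)
    (fun r hr => LinearMap.mem_ker.mpr (by rw [LinearMap.toSpanSingleton_apply]; exact hu r hr))
  have h1 : ModuleCat.ofHom g = 0 :=
    (Ext.mk₀_bijective _ _).1 (Subsingleton.elim _ _)
  have h2 := congrArg (fun f => f.hom (Submodule.Quotient.mk (1 : R))) h1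
  simp only [ModuleCat.hom_ofHom, ModuleCat.hom_zero, LinearMap.zero_apply] at h2
  have h3 : g (Submodule.Quotient.mk (1 : R)) = (1 : R) • u := by
    show Submodule.liftQ J _ _ (Submodule.Quotient.mk (1 : R)) = _
    rw [Submodule.liftQ_apply, LinearMap.toSpanSingleton_apply]
  rw [h3, one_smul] at h2
  exact h2

/-- `Ext^1(R/J, C) = 0` means that every homomorphism `J → C` is multiplication by an element -/
theorem exists_smul_of_ext_one
    (h : Subsingleton (Ext (ModuleCat.of R (R ⧸ J)) (ModuleCat.of R C) 1))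
    (φ : J →ₗ[R] C) : ∃ y : C, ∀ r : J, φ r = (r : R) • y := by
  have hπ : Function.Surjective (Submodule.mkQ J) := Submodule.mkQ_surjective J
  have hS := LinearMap.shortExact_shortComplexKer hπ
  have hker : LinearMap.ker (Submodule.mkQ J) = J := Submodule.ker_mkQ J
  let φ' : LinearMap.ker (Submodule.mkQ J) →ₗ[R] C :=
    φ.comp (Submodule.inclusion (le_of_eq hker))
  obtain ⟨x₂, hx₂⟩ := Ext.contravariant_sequence_exact₁ hS
    (ModuleCat.of R C) (Ext.mk₀ (ModuleCat.ofHom φ')) (by norm_num : 1 + 0 = 1)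
    (Subsingleton.elim _ _)
  obtain ⟨ψ, rfl⟩ := (Ext.mk₀_bijective _ _).2 x₂
  rw [Ext.mk₀_comp_mk₀, (Ext.mk₀_bijective _ _).1.eq_iff] at hx₂
  refine ⟨ψ.hom (1 : R), fun r => ?_⟩
  have hr : (r : R) ∈ LinearMap.ker (Submodule.mkQ J) := by rw [hker]; exact r.2
  have h1 := congrArg (fun f => f.hom ⟨(r : R), hr⟩) hx₂
  simp only [ModuleCat.hom_comp, ModuleCat.hom_ofHom, LinearMap.coe_comp, Function.comp_apply,
    Submodule.coe_subtype] at h1
  have h2 : φ' ⟨(r : R), hr⟩ = φ r := by
    show φ (Submodule.inclusion (le_of_eq hker) ⟨(r : R), hr⟩) = φ r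
    congr 1
  rw [← h2, ← h1]
  have h3 : ((r : R) : R) = (r : R) • (1 : R) := by rw [smul_eq_mul, mul_one]
  conv_lhs => rw [h3]
  exact map_smul ψ.hom (r : R) (1 : R)

end Elem

section Depth

variable {R : Type u} [CommRing R] [IsNoetherianRing R] {𝒜 : ℤ → AddSubgroup R} [GradedRing 𝒜]
  {m : HomogeneousIdeal 𝒜} (hF : FieldGr 𝒜 m)
variable {E' : Type u} [AddCommGroup E'] [Module R E'] {𝓔 : ℤ → AddSubgroup E'}
  [DirectSum.Decomposition 𝓔] [SetLike.GradedSMul 𝒜 𝓔]
  {e : (R ⧸ m.toIdeal) →ₗ[R] E'} (he : GrLC.IsStarInjHull 𝒜 (GrLC.quotGr 𝒜 m) 𝓔 e)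
variable {C : Type u} [AddCommGroup C] [Module R C] (𝒞 : ℤ → AddSubgroup C)
  [DirectSum.Decomposition 𝒞] [SetLike.GradedSMul 𝒜 𝒞]

include hF he in
/-- **The *canonical module has depth `n`**: `Ext^j_R(R/m, C) = 0` for `j < n`. -/
theorem subsingleton_ext_residue [hCM : IsCohenMacaulayRing R] (n : ℕ) (hn : ringKrullDim R = n)
    (I : GrLC.StarInjRes 𝒜 𝒜) (hC : GrLC.IsStarCanonical 𝒜 𝒞 𝓔 m n I) (j : ℕ) (hj : j < n) :
    Subsingleton (Ext (ModuleCat.of R (R ⧸ m.toIdeal)) (ModuleCat.of R C) j) := by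
  haveI hmax : m.toIdeal.IsMaximal := hF.isMaximal
  haveI hprime : m.toIdeal.IsPrime := hmax.isPrime
  haveI := hCM.isCohenMacaulayLocalRing_localization m.toIdeal
  have hn' : ringKrullDim (Localization.AtPrime m.toIdeal) = n := by
    rw [ringKrullDim_atPrime hF, hn]
  obtain ⟨f, hf⟩ := exists_isInjectiveHull_localized hF he
  obtain ⟨eK⟩ := nonempty_local_canonical hF he 𝒞 n I hC
  haveI : Module.Finite R C := hC.1
  have h1 := Groth.Agent.Helper8.CanMod.subsingleton_ext_residue_below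
    (Localization.AtPrime m.toIdeal) n hn' (LocalizedModule m.toIdeal.primeCompl E') f hf
    (LocalizedModule m.toIdeal.primeCompl C) eK j hj
  obtain ⟨e₀⟩ := nonempty_residue_equiv_localizedModule_quotient m.toIdeal
  have h1' : ExtVan (Localization.AtPrime m.toIdeal) (LocalizedModule m.toIdeal.primeCompl C) j
      (Localization.AtPrime m.toIdeal ⧸ maximalIdeal (Localization.AtPrime m.toIdeal)) := h1
  have h2 : ExtVan (Localization.AtPrime m.toIdeal) (LocalizedModule m.toIdeal.primeCompl C) j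
      (LocalizedModule m.toIdeal.primeCompl (R ⧸ m.toIdeal)) := ExtVan.of_equiv e₀ h1'
  have h3 : Subsingleton (Ext ((locF m.toIdeal.primeCompl).obj (ModuleCat.of R (R ⧸ m.toIdeal)))
      ((locF m.toIdeal.primeCompl).obj (ModuleCat.of R C)) j) := h2
  rw [subsingleton_ext_loc_iff] at h3
  have key : ∀ x : Ext (ModuleCat.of R (R ⧸ m.toIdeal)) (ModuleCat.of R C) j, x = 0 := by
    intro x
    obtain ⟨s, hs⟩ := h3 x
    obtain ⟨r, b, hb, hrb⟩ := exists_mul_add_eq_one m.toIdeal s.2 1
    rw [pow_one] at hb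
    have hbx : b • x = 0 := by
      apply Groth.Agent.Helper8.Depth.ext_smul_eq_zero_of_mem_annihilator_left
      show b ∈ Module.annihilator R (R ⧸ m.toIdeal)
      rw [Ideal.annihilator_quotient]
      exact hb
    calc x = (1 : R) • x := (one_smul _ _).symm
      _ = (r * (s : R) + b) • x := by rw [hrb]
      _ = 0 := by rw [add_smul, mul_smul, hs, smul_zero, hbx, add_zero]
  exact ⟨fun a b => by rw [key a, key b]⟩

end Depth

end Groth.Agent.Helper8.GK
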