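import Mathlib
import Groth.Prelude.Def_GrLC
import Groth.Prelude.Def_GrLC2
import Groth.Prelude.Def_CAlg
import Groth.Agent.Lib.Helper8.GK1
import Groth.Agent.Lib.Helper8.GB7

/-!
# The Hilbert function of the *canonical module in low degrees (helper8)

* `descend`: a module with `depth ≥ 2` over a standard graded ring, containing a nonzero homogeneous element killed
  by a hyperplane `L` of `R_1`, contains such elements in all lower degrees.
* `two_le_finrank`: `dim_k (K_R)_j ≥ 2` for `j > -a(R)` (`R` Cohen–Macaulay standard graded of dimension `≥ 2`).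
-/

set_option autoImplicit false
set_option linter.unusedSectionVars false
universe u
open DirectSum CategoryTheory Abelian

namespace Groth.Agent.Helper8.GK
open Groth.Agent.Helper9.GrLCLib Groth.Agent.Helper8.GD Groth.Agent.Helper8.GB Groth.Agent.Helper8.GC
open LocCoh IsLocalRing

section EndDeg

variable {M : Type u} [AddCommGroup M]

lemma eq_bot_of_endDeg_lt (ℳ : ℤ → AddSubgroup M) (a : ℤ)
    (ha : GrLC.endDeg ℳ = ((a : WithTop ℤ) : WithBot (WithTop ℤ))) (l : ℤ) (hl : a < l) :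
    ℳ l = ⊥ := by
  by_contra hne
  have h1 := AInv.le_endDeg ℳ l hne
  rw [ha] at h1
  have h2 : l ≤ a := by exact_mod_cast h1
  omega

lemma ne_bot_of_endDeg_eq (ℳ : ℤ → AddSubgroup M) (a : ℤ)
    (ha : GrLC.endDeg ℳ = ((a : WithTop ℤ) : WithBot (WithTop ℤ))) : ℳ a ≠ ⊥ := by
  intro hbot
  have h1 : GrLC.endDeg ℳ ≤ (((a - 1 : ℤ) : WithTop ℤ) : WithBot (WithTop ℤ)) := by
    apply AInv.endDeg_le
    intro n hn
    have h2 := AInv.le_endDeg ℳ n hn
    rw [ha] at h2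
    have h3 : n ≤ a := by exact_mod_cast h2
    have h4 : n ≠ a := fun h => hn (h ▸ hbot)
    have h5 : n ≤ a - 1 := by omega
    exact_mod_cast h5
  rw [ha] at h1
  have h6 : a ≤ a - 1 := by exact_mod_cast h1
  omega

end EndDeg

section Descend

variable {R : Type u} [CommRing R] [IsNoetherianRing R] {𝒜 : ℤ → AddSubgroup R} [GradedRing 𝒜]
  {m : HomogeneousIdeal 𝒜} (hF : FieldGr 𝒜 m)
  (hstd : Ideal.span (⋃ n ∈ Set.Ioi (0 : ℤ), (𝒜 n : Set R)) =
    Ideal.span ((𝒜 1 : AddSubgroup R) : Set R))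
variable {C : Type u} [AddCommGroup C] [Module R C] (𝒞 : ℤ → AddSubgroup C)
  [DirectSum.Decomposition 𝒞] [SetLike.GradedSMul 𝒜 𝒞]

include hF hstd in
lemma irr_eq_span_one : m.toIdeal = Ideal.span ((𝒜 1 : AddSubgroup R) : Set R) := hF.span.trans hstd

include hF hstd in
/-- an element killed by `L` and `x` is killed by `m`, where `R_1 = L + R x` -/
lemma smul_eq_zero_of_line (L : Set R) (x : R) (hLx : ∀ s ∈ 𝒜 1, ∃ c : R, s - c * x ∈ L) (w : C)
    (hL : ∀ ℓ ∈ L, ℓ • w = 0) (hx : x • w = 0) : ∀ r ∈ m.toIdeal, r • w = 0 := by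
  intro r hr
  rw [irr_eq_span_one hF hstd] at hr
  refine Submodule.span_induction (p := fun r _ => r • w = 0) ?_ ?_ ?_ ?_ hr
  · intro s hs
    obtain ⟨c, hc⟩ := hLx s hs
    have h2 : s • w = (s - c * x) • w + (c * x) • w := by
      rw [← add_smul]; congr 1; ring
    rw [h2, hL _ hc, mul_smul, hx, smul_zero, add_zero]
  · exact zero_smul _ _
  · intro a b _ _ ha hb
    rw [add_smul, ha, hb, add_zero]
  · intro a b _ hb
    rw [smul_eq_mul, mul_smul, hb, smul_zero]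

include hF hstd in
lemma exists_factor_of_line (L : Set R) (x : R) (hLx : ∀ s ∈ 𝒜 1, ∃ c : R, s - c * x ∈ L) (u : C)
    (hL : ∀ ℓ ∈ L, ℓ • u = 0) : ∀ r ∈ m.toIdeal, ∃ b : R, r • u = x • (b • u) := by
  intro r hr
  rw [irr_eq_span_one hF hstd] at hr
  refine Submodule.span_induction (p := fun r _ => ∃ b : R, r • u = x • (b • u)) ?_ ?_ ?_ ?_ hr
  · intro s hs
    obtain ⟨c, hc⟩ := hLx s hs
    refine ⟨c, ?_⟩
    have h2 : s • u = (s - c * x) • u + (c * x) • u := by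
      rw [← add_smul]; congr 1; ring
    rw [h2, hL _ hc, zero_add, mul_smul]
    exact smul_comm _ _ _
  · exact ⟨0, by simp⟩
  · rintro a b _ _ ⟨b1, h1⟩ ⟨b2, h2⟩
    exact ⟨b1 + b2, by rw [add_smul, h1, h2, add_smul, smul_add]⟩
  · rintro a b _ ⟨b1, h1⟩
    refine ⟨a * b1, ?_⟩
    rw [smul_eq_mul, mul_smul, h1, mul_smul]
    exact smul_comm _ _ _

include hF hstd in
/-- **Descent**: a nonzero homogeneous element killed by a hyperplane of `R_1` can be divided by the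
complementary linear form, if the module has depth at least two. -/
theorem descend (hD1 : ∀ u : C, (∀ r ∈ m.toIdeal, r • u = 0) → u = 0)
    (hD2 : ∀ φ : m.toIdeal →ₗ[R] C, ∃ y : C, ∀ r : m.toIdeal, φ r = (r : R) • y)
    (L : Set R) (hL1 : ∀ ℓ ∈ L, ℓ ∈ 𝒜 1) (x : R) (hx : x ∈ 𝒜 1)
    (hLx : ∀ s ∈ 𝒜 1, ∃ c : R, s - c * x ∈ L) (l : ℤ) (u : C) (hu : u ∈ 𝒞 l) (hu0 : u ≠ 0)
    (hLu : ∀ ℓ ∈ L, ℓ • u = 0) :
    ∃ y ∈ 𝒞 (l - 1), y ≠ 0 ∧ ∀ ℓ ∈ L, ℓ • y = 0 := by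
  classical
  -- the cyclic module
  let W : Submodule R C := Submodule.span R {u}
  let X : W →ₗ[R] C := (LinearMap.lsmul R C x).comp W.subtype
  have hXapp : ∀ w : W, X w = x • (w : C) := fun _ => rfl
  have hXinj : Function.Injective X := by
    rw [← LinearMap.ker_eq_bot, LinearMap.ker_eq_bot']
    intro w hw
    obtain ⟨b, hb⟩ := Submodule.mem_span_singleton.mp w.2
    apply Subtype.ext
    show (w : C) = 0
    apply hD1
    apply smul_eq_zero_of_line hF hstd L x hLx (w : C) ?_ hw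
    intro ℓ hℓ
    rw [← hb, smul_comm, hLu ℓ hℓ, smul_zero]
  -- the map `m → C`
  let ψ : m.toIdeal →ₗ[R] C := (LinearMap.toSpanSingleton R C u).comp m.toIdeal.subtype
  have hψ : ∀ r : m.toIdeal, ψ r = (r : R) • u := fun _ => rfl
  have hrange : ∀ r : m.toIdeal, ψ r ∈ LinearMap.range X := by
    intro r
    obtain ⟨b, hb⟩ := exists_factor_of_line hF hstd L x hLx u hLu r r.2
    exact ⟨⟨b • u, Submodule.smul_mem _ _ (Submodule.mem_span_singleton_self u)⟩,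
      by rw [hXapp, hψ, hb]⟩
  let eX : W ≃ₗ[R] LinearMap.range X := LinearEquiv.ofInjective X hXinj
  let φ : m.toIdeal →ₗ[R] C :=
    W.subtype.comp (eX.symm.toLinearMap.comp (ψ.codRestrict (LinearMap.range X) hrange))
  have hφW : ∀ r : m.toIdeal, φ r ∈ W := fun r => (eX.symm _).2
  have hφ : ∀ r : m.toIdeal, x • φ r = (r : R) • u := by
    intro r
    have h1 := LinearEquiv.apply_symm_apply eX (ψ.codRestrict (LinearMap.range X) hrange r)
    have h2 := congrArg Subtype.val h1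
    exact h2
  obtain ⟨y₀, hy₀⟩ := hD2 φ
  -- `x y₀ = u`
  have hxy : x • y₀ = u := by
    have h0 : x • y₀ - u = 0 := by
      apply hD1
      intro r hr
      have h1 := hφ ⟨r, hr⟩
      rw [hy₀ ⟨r, hr⟩] at h1
      rw [smul_sub, smul_comm, h1, sub_self]
    exact sub_eq_zero.mp h0
  have hLy : ∀ ℓ ∈ L, ℓ • y₀ = 0 := by
    intro ℓ hℓ
    have hℓm : ℓ ∈ m.toIdeal := hF.mem_of_pos one_pos (hL1 ℓ hℓ)
    have h1 := hφ ⟨ℓ, hℓm⟩
    rw [hLu ℓ hℓ] at h1
    have h2 : (⟨φ ⟨ℓ, hℓm⟩, hφW _⟩ : W) = 0 := hXinj (by rw [hXapp, map_zero]; exact h1)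
    have h3 : φ ⟨ℓ, hℓm⟩ = 0 := congrArg Subtype.val h2
    rw [← hy₀ ⟨ℓ, hℓm⟩]; exact h3
  refine ⟨proj 𝒞 (l - 1) y₀, proj_mem 𝒞 _ _, ?_, ?_⟩
  · intro h0
    apply hu0
    have h1 : proj 𝒞 l (x • y₀) = x • proj 𝒞 (l - 1) y₀ := proj_smul_of_mem' 𝒜 𝒞 hx y₀ l
    rw [hxy, proj_of_mem_same 𝒞 hu, h0, smul_zero] at h1
    exact h1
  · intro ℓ hℓ
    have h1 : proj 𝒞 l (ℓ • y₀) = ℓ • proj 𝒞 (l - 1) y₀ := proj_smul_of_mem' 𝒜 𝒞 (hL1 ℓ hℓ) y₀ l
    rw [← h1, hLy ℓ hℓ, map_zero]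

end Descend

end Groth.Agent.Helper8.GK
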