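import Mathlib
import Groth.Prelude.Def_GrLC
import Groth.Prelude.Def_GrLC2
import Groth.Prelude.Def_CAlg
import Groth.Agent.Lib.Helper8.GE3
import Groth.Agent.Lib.Helper8.GK2
import Groth.Agent.Lib.Helper8.GV4
import Groth.Agent.Lib.Helper8.GD7
import Groth.Agent.Lib.Helper8.Depth19
import Groth.Agent.Lib.Helper8.Depth26
import Groth.Agent.Lib.Helper8.GorFlat4

/-!
# Gorenstein Veronese subrings force the ring to be Gorenstein (helper8)

`gorenstein_of_ver`: let `R` be a Cohen–Macaulay standard graded ring over a field of dimension `≥ 2`.  If the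
Veronese subring `R^(q)` is Gorenstein then `R` is Gorenstein and `q ∣ a(R)`.

The proof: `K_{R^(q)} = (K_R)^(q)` is generated by one element `u`; the annihilator of `u` in `R` vanishes
(depth `R ≥ 1`), and `R u = K_R` because `depth R ≥ 2` and `depth K_R ≥ 1`.
-/

set_option autoImplicit false
set_option linter.unusedSectionVars false
universe u
open DirectSum CategoryTheory Abelian

namespace Groth.Agent.Helper8.GE
open Groth.Agent.Helper9.GrLCLib Groth.Agent.Helper8.GD Groth.Agent.Helper8.GB Groth.Agent.Helper8.GC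
open Groth.Agent.Helper8.GK Groth.Agent.Helper8.Ver Groth.Agent.Helper8.GV
open LocCoh IsLocalRing

section Std

variable {R : Type u} [CommRing R] [IsNoetherianRing R] {𝒜 : ℤ → AddSubgroup R} [GradedRing 𝒜]
  {m : HomogeneousIdeal 𝒜} (hF : FieldGr 𝒜 m)
  (hstd : Ideal.span (⋃ n ∈ Set.Ioi (0 : ℤ), (𝒜 n : Set R)) =
    Ideal.span ((𝒜 1 : AddSubgroup R) : Set R))
variable {M : Type u} [AddCommGroup M] [Module R M]

include hF hstd in
/-- a submodule `W` saturated with respect to `m` contains every `z` with `R_d z ⊆ W` -/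
lemma mem_of_forall_deg_smul_mem (W : Submodule R M)
    (hlift : ∀ z : M, (∀ r ∈ m.toIdeal, r • z ∈ W) → z ∈ W) :
    ∀ d : ℕ, ∀ z : M, (∀ s ∈ 𝒜 (d : ℤ), s • z ∈ W) → z ∈ W := by
  intro d
  induction d with
  | zero =>
    intro z hz
    have h0 : (1 : R) ∈ 𝒜 ((0 : ℕ) : ℤ) := by
      rw [Nat.cast_zero]; exact SetLike.GradedOne.one_mem
    have h1 := hz 1 h0
    rwa [one_smul] at h1
  | succ d ih =>
    intro z hz
    apply ih
    intro s' hs'
    apply hlift
    intro r hr
    rw [irr_eq_span_one hF hstd] at hr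
    refine Submodule.span_induction (p := fun r _ => r • (s' • z) ∈ W) ?_ ?_ ?_ ?_ hr
    · intro x hx
      rw [smul_smul]
      apply hz
      have h1 := SetLike.GradedMul.mul_mem (SetLike.mem_coe.mp hx) hs'
      have h2 : (1 : ℤ) + (d : ℤ) = ((d + 1 : ℕ) : ℤ) := by push_cast; ring
      rwa [h2] at h1
    · rw [zero_smul]; exact zero_mem _
    · intro a b _ _ ha hb
      rw [add_smul]; exact add_mem ha hb
    · intro a b _ hb
      rw [smul_eq_mul, mul_smul]; exact W.smul_mem a hb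

/-- if `u` has no annihilator, every map `J → R` is a multiplication and `M` has no `J`-torsion, then elements
`z` with `J z ⊆ R u` lie in `R u` -/
lemma mem_span_of_smul_mem {J : Ideal R} (u : M) (hinj : ∀ r : R, r • u = 0 → r = 0)
    (hD2R : ∀ φ : J →ₗ[R] R, ∃ y : R, ∀ r : J, φ r = (r : R) • y)
    (hD1 : ∀ w : M, (∀ r ∈ J, r • w = 0) → w = 0)
    (z : M) (hz : ∀ r ∈ J, r • z ∈ Submodule.span R {u}) : z ∈ Submodule.span R {u} := by
  classical
  have hex : ∀ r : J, ∃ c : R, c • u = (r : R) • z :=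
    fun r => Submodule.mem_span_singleton.mp (hz r r.2)
  choose ψ hψ using hex
  have huniq : ∀ c c' : R, c • u = c' • u → c = c' := by
    intro c c' h
    have := hinj (c - c') (by rw [sub_smul, h, sub_self])
    exact sub_eq_zero.mp this
  let Ψ : J →ₗ[R] R :=
    { toFun := ψ
      map_add' := fun r r' => by
        apply huniq
        rw [add_smul, hψ, hψ, hψ, Submodule.coe_add, add_smul]
      map_smul' := fun c r => by
        apply huniq
        rw [RingHom.id_apply, smul_eq_mul, mul_smul, hψ, hψ, Submodule.coe_smul, smul_eq_mul,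
          mul_smul] }
  obtain ⟨c₀, hc₀⟩ := hD2R Ψ
  have hkey : z - c₀ • u = 0 := by
    apply hD1
    intro r hr
    have h1 : ψ ⟨r, hr⟩ • u = r • z := hψ ⟨r, hr⟩
    have h2 : ψ ⟨r, hr⟩ = r * c₀ := hc₀ ⟨r, hr⟩
    rw [smul_sub, ← h1, h2, mul_smul, sub_self]
  rw [sub_eq_zero] at hkey
  rw [hkey]
  exact Submodule.smul_mem _ _ (Submodule.mem_span_singleton_self u)

include hF hstd in
/-- the core of the argument: a homogeneous element `u` of a graded module `C` of positive depth over a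
standard graded ring of depth `≥ 2` which generates `C` in the degrees divisible by `q`, freely there,
generates `C` freely. -/
theorem bijective_toSpanSingleton {C : Type u} [AddCommGroup C] [Module R C] (𝒞 : ℤ → AddSubgroup C)
    [DirectSum.Decomposition 𝒞] [SetLike.GradedSMul 𝒜 𝒞] (q : ℕ) (hq : 0 < q) (k : ℤ) (u : C)
    (hu : u ∈ 𝒞 k)
    (h1 : ∀ j : ℤ, ∀ x ∈ 𝒜 (j * q), x • u = 0 → x = 0)
    (h2 : ∀ j : ℤ, ∀ c ∈ 𝒞 (j * q), c ∈ Submodule.span R {u})
    (hD1R : ∀ x : R, (∀ r ∈ m.toIdeal, r • x = 0) → x = 0)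
    (hD2R : ∀ φ : m.toIdeal →ₗ[R] R, ∃ y : R, ∀ r : m.toIdeal, φ r = (r : R) • y)
    (hD1C : ∀ w : C, (∀ r ∈ m.toIdeal, r • w = 0) → w = 0) :
    Function.Bijective (LinearMap.toSpanSingleton R C u) := by
  classical
  have hqpos : (1 : ℤ) ≤ q := by exact_mod_cast hq
  have hbound : ∀ i : ℤ, i ≤ (i.toNat : ℤ) * q := fun i =>
    le_trans (Int.self_le_toNat i) (le_mul_of_one_le_right (by positivity) hqpos)
  -- homogeneous elements killing `u` vanish
  have hhom : ∀ i : ℤ, ∀ r ∈ 𝒜 i, r • u = 0 → r = 0 := by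
    intro i r hr hru
    have hji := hbound i
    obtain ⟨d, hd⟩ : ∃ d : ℕ, (d : ℤ) = (i.toNat : ℤ) * q - i :=
      ⟨((i.toNat : ℤ) * q - i).toNat, by omega⟩
    have key := mem_of_forall_deg_smul_mem hF hstd (⊥ : Submodule R R)
      (fun z hz => by
        rw [Submodule.mem_bot]
        exact hD1R z (fun r hr => (Submodule.mem_bot R).mp (hz r hr))) d r
      (fun s hs => by
        rw [Submodule.mem_bot, smul_eq_mul]
        have h3 : s * r ∈ 𝒜 ((i.toNat : ℤ) * q) := by
          have := SetLike.GradedMul.mul_mem hs hr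
          rwa [hd, sub_add_cancel] at this
        apply h1 _ _ h3
        rw [mul_smul, hru, smul_zero])
    exact (Submodule.mem_bot R).mp key
  have hinj : ∀ r : R, r • u = 0 → r = 0 := by
    intro r hru
    have hcomp : ∀ i, (decompose 𝒜 r i : R) = 0 := by
      intro i
      apply hhom i _ (decompose 𝒜 r i).2
      have h3 := proj_smul_of_mem_right 𝒜 𝒞 hu r i
      rw [hru, map_zero] at h3
      exact h3.symm
    rw [← DirectSum.sum_support_decompose 𝒜 r]
    exact Finset.sum_eq_zero (fun i _ => hcomp i)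
  have hlift : ∀ z : C, (∀ r ∈ m.toIdeal, r • z ∈ Submodule.span R {u}) →
      z ∈ Submodule.span R {u} :=
    fun z hz => mem_span_of_smul_mem u hinj hD2R hD1C z hz
  have hP := mem_of_forall_deg_smul_mem hF hstd (Submodule.span R {u}) hlift
  have hhomW : ∀ l : ℤ, ∀ y ∈ 𝒞 l, y ∈ Submodule.span R {u} := by
    intro l y hy
    have hjl := hbound l
    obtain ⟨d, hd⟩ : ∃ d : ℕ, (d : ℤ) = (l.toNat : ℤ) * q - l :=
      ⟨((l.toNat : ℤ) * q - l).toNat, by omega⟩
    apply hP d y
    intro s hs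
    apply h2 (l.toNat : ℤ)
    have := smul_mem_add 𝒜 𝒞 hs hy
    rwa [hd, sub_add_cancel] at this
  have hall : ∀ y : C, y ∈ Submodule.span R {u} := by
    intro y
    rw [← DirectSum.sum_support_decompose 𝒞 y]
    exact Submodule.sum_mem _ (fun i _ => hhomW i _ (decompose 𝒞 y i).2)
  constructor
  · intro r r' hrr'
    have h4 : r • u = r' • u := by simpa only [LinearMap.toSpanSingleton_apply] using hrr'
    have h3 : (r - r') • u = 0 := by rw [sub_smul, h4, sub_self]
    exact sub_eq_zero.mp (hinj _ h3)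
  · intro y
    obtain ⟨c, hc⟩ := Submodule.mem_span_singleton.mp (hall y)
    exact ⟨c, by rw [LinearMap.toSpanSingleton_apply]; exact hc⟩

end Std

section Main

variable {R : Type u} [CommRing R] [IsNoetherianRing R] {𝒜 : ℤ → AddSubgroup R} [GradedRing 𝒜]
  {m : HomogeneousIdeal 𝒜} (hF : FieldGr 𝒜 m)
  (hstd : Ideal.span (⋃ n ∈ Set.Ioi (0 : ℤ), (𝒜 n : Set R)) =
    Ideal.span ((𝒜 1 : AddSubgroup R) : Set R))
variable {V : Type u} [CommRing V] {𝒜' : ℤ → AddSubgroup V} [GradedRing 𝒜'] (D : VerData 𝒜 𝒜')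

include hF hstd in
/-- **If a Veronese subring of a Cohen–Macaulay standard graded ring of dimension `≥ 2` is Gorenstein, so is
the ring, and `q ∣ a(R)`.** -/
theorem gorenstein_of_ver [hCM : IsCohenMacaulayRing R] [hG' : IsGorensteinRing V] (n : ℕ)
    (hn : ringKrullDim R = n) (h2 : 2 ≤ n) (I : GrLC.StarInjRes 𝒜 𝒜) :
    IsGorensteinRing R ∧ ∃ a : ℤ,
      GrLC.endDeg (I.Hgr m n) = ((a : WithTop ℤ) : WithBot (WithTop ℤ)) ∧ (D.q : ℤ) ∣ a := by
  classical
  haveI : IsNoetherianRing V := isNoetherianRing_ver D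
  haveI hmax : m.toIdeal.IsMaximal := hF.isMaximal
  haveI hprime : m.toIdeal.IsPrime := hmax.isPrime
  have hF' : FieldGr 𝒜' (irrIdeal 𝒜') := fieldGr_ver D hF (irrIdeal 𝒜') rfl
  haveI hmax' : (irrIdeal 𝒜').toIdeal.IsMaximal := hF'.isMaximal
  haveI hprime' : (irrIdeal 𝒜').toIdeal.IsPrime := hmax'.isPrime
  have hc : IdealCompat D m (irrIdeal 𝒜') := idealCompat_irrelevant D m (irrIdeal 𝒜') hF.span rfl
  obtain ⟨EG, e, he⟩ := exists_starInjHull_quot 𝒜 m
  obtain ⟨EG', e', he'⟩ := exists_starInjHull_quot 𝒜' (irrIdeal 𝒜')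
  obtain ⟨I'⟩ := Groth.Agent.S13215.result V 𝒜' V 𝒜'
  have hnloc : ringKrullDim (Localization.AtPrime m.toIdeal) = n := by
    rw [ringKrullDim_atPrime hF, hn]
  -- the dimension of the Veronese subring
  have hGloc' : IsGorensteinLocalRing (Localization.AtPrime (irrIdeal 𝒜').toIdeal) :=
    hG'.isGorensteinLocalRing_localization _
  obtain ⟨n', hn'⟩ := Groth.Agent.Helper8.GorFlat.exists_dim_eq
    (Localization.AtPrime (irrIdeal 𝒜').toIdeal)
  obtain ⟨-, g₀, β', hβ'⟩ := exists_grEquiv_of_gorenstein hF' he' I' n' hGloc' hn'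
  have hnn : n = n' := by
    by_contra hne
    obtain ⟨Φ, hΦi, -, -⟩ := exists_hom_starInjRes (D := D) 𝒜 𝒜' (phiSemi D) D.inj
      (fun j => D.deg j) hc I I' n'
    haveI := subsingleton_starH_of_cm hF he n hn I n' (fun h => hne h.symm)
    have h3 : β' (e' 1) = 0 := hΦi (Subsingleton.elim _ _)
    apply eps_ne_zero hF' he'
    exact β'.injective (by rw [h3, map_zero])
  subst hnn
  obtain ⟨CG, hC⟩ := exists_starCanonical hF he I n
  obtain ⟨CG', hC'⟩ := exists_starCanonical hF' he' I' n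
  obtain ⟨f', hf'bij, hf'deg⟩ := exists_shift_equiv_canonical hF' he' CG'.gr n I' hC' g₀ β' hβ'
  obtain ⟨g, hginj, hgdeg⟩ := veronese_canonical D hF he rfl he' CG.gr CG'.gr n I I' hC hC'
  obtain ⟨u, hudef⟩ : ∃ u : CG.carrier, u = g (f' 1) := ⟨_, rfl⟩
  have hf1 : f' 1 ∈ CG'.gr (-g₀) := by
    have := hf'deg 0 1 SetLike.GradedOne.one_mem
    rwa [zero_add] at this
  have hu : u ∈ CG.gr (-g₀ * D.q) := by
    rw [← hgdeg (-g₀), hudef]
    exact ⟨f' 1, hf1, rfl⟩
  have hgv : ∀ v : V, g (f' v) = D.φ v • u := by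
    intro v
    have h3 : f' v = v • f' 1 := by rw [← map_smul, smul_eq_mul, mul_one]
    rw [h3, map_smulₛₗ, hudef]
  have h1 : ∀ j : ℤ, ∀ x ∈ 𝒜 (j * D.q), x • u = 0 → x = 0 := by
    intro j x hx hxu
    rw [← D.deg j] at hx
    obtain ⟨v, -, rfl⟩ := hx
    have h3 : g (f' v) = 0 := by rw [hgv]; exact hxu
    have h4 : f' v = 0 := hginj (by rw [h3, map_zero])
    have h5 : v = 0 := hf'bij.1 (by rw [h4, map_zero])
    rw [h5, map_zero]
  have h2' : ∀ j : ℤ, ∀ c ∈ CG.gr (j * D.q), c ∈ Submodule.span R {u} := by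
    intro j c hc
    rw [← hgdeg j] at hc
    obtain ⟨c', -, rfl⟩ := hc
    obtain ⟨v, rfl⟩ := hf'bij.2 c'
    rw [Submodule.mem_span_singleton]
    exact ⟨D.φ v, (hgv v).symm⟩
  -- the depth conditions
  have hdepth : idealDepth m.toIdeal R = m.toIdeal.height :=
    (Groth.Agent.Helper8.Depth.isCohenMacaulayRing_iff_idealDepth_eq_height.mp hCM) m.toIdeal
      hmax.ne_top
  have hht : (m.toIdeal.height : WithBot ℕ∞) = n := by
    rw [← IsLocalization.AtPrime.ringKrullDim_eq_height m.toIdeal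
      (Localization.AtPrime m.toIdeal), hnloc]
  have hht' : m.toIdeal.height = (n : ℕ∞) := by exact_mod_cast hht
  have hdep2 : ((2 : ℕ) : ℕ∞) ≤ idealDepth m.toIdeal R := by
    rw [hdepth, hht']; exact_mod_cast h2
  have hext := (Groth.Agent.Helper8.Depth.le_idealDepth_iff_ext' (I := m.toIdeal) (M := R) 2).mp
    hdep2
  have hD1R := eq_zero_of_ext_zero m.toIdeal R (hext 0 (by omega))
  have hD2R := exists_smul_of_ext_one m.toIdeal R (hext 1 (by omega))
  have hD1C := eq_zero_of_ext_zero m.toIdeal CG.carrier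
    (subsingleton_ext_residue hF he CG.gr n hn I hC 0 (by omega))
  have hbij := bijective_toSpanSingleton hF hstd CG.gr D.q D.hq (-g₀ * D.q) u hu h1 h2' hD1R hD2R
    hD1C
  have hfdeg : GrLC.IsGrHomDeg 𝒜 CG.gr (LinearMap.toSpanSingleton R CG.carrier u)
      (-g₀ * D.q) := by
    intro i r hr
    rw [LinearMap.toSpanSingleton_apply]
    exact smul_mem_add 𝒜 CG.gr hr hu
  have hGor : IsGorensteinRing R :=
    (isGorensteinRing_iff_canonical hF he CG.gr n hn I hC).mpr ⟨_, _, hbij, hfdeg⟩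
  refine ⟨hGor, ?_⟩
  have hGloc := hGor.isGorensteinLocalRing_localization m.toIdeal
  obtain ⟨-, g₁, β, hβ⟩ := exists_grEquiv_of_gorenstein hF he I n hGloc hnloc
  obtain ⟨fR, hfRbij, hfRdeg⟩ := exists_shift_equiv_canonical hF he CG.gr n I hC g₁ β hβ
  have hend := endDeg_of_grEquiv hF he I n g₁ β hβ
  refine ⟨g₁, hend, ?_⟩
  -- compare the two generators
  obtain ⟨w, hw⟩ : ∃ w : CG.carrier, w = fR 1 := ⟨_, rfl⟩
  have hwmem : w ∈ CG.gr (-g₁) := by
    have := hfRdeg 0 1 SetLike.GradedOne.one_mem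
    rw [zero_add] at this
    rw [hw]; exact this
  have h10 : (1 : R) ≠ 0 := by
    intro h
    apply hmax.ne_top
    rw [Ideal.eq_top_iff_one, h]
    exact zero_mem _
  have hu0 : u ≠ 0 := by
    intro h0
    apply h10
    apply hbij.1
    rw [LinearMap.toSpanSingleton_apply, one_smul, map_zero]
    exact h0
  have hw0 : w ≠ 0 := by
    intro h0
    apply h10
    apply hfRbij.1
    rw [map_zero, ← hw]
    exact h0
  have hle1 : 0 ≤ -g₀ * D.q - -g₁ := by
    by_contra hlt
    push Not at hlt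
    obtain ⟨s, hs⟩ := hfRbij.2 u
    have h3 : u = s • w := by rw [← hs, hw, ← map_smul, smul_eq_mul, mul_one]
    have h4 := proj_smul_of_mem_right' 𝒜 CG.gr hwmem s (-g₀ * D.q)
    rw [← h3, proj_of_mem_same CG.gr hu, hF.eq_zero_of_neg hlt (decompose 𝒜 s _).2,
      zero_smul] at h4
    exact hu0 h4
  have hle2 : 0 ≤ -g₁ - -g₀ * D.q := by
    by_contra hlt
    push Not at hlt
    obtain ⟨t, ht⟩ := hbij.2 w
    rw [LinearMap.toSpanSingleton_apply] at ht
    have h4 := proj_smul_of_mem_right' 𝒜 CG.gr hu t (-g₁)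
    rw [ht, proj_of_mem_same CG.gr hwmem, hF.eq_zero_of_neg hlt (decompose 𝒜 t _).2,
      zero_smul] at h4
    exact hw0 h4
  have hfin : g₁ = g₀ * D.q := by linarith
  exact ⟨g₀, by rw [hfin, mul_comm]⟩

end Main

end Groth.Agent.Helper8.GE
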