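import Mathlib
import Groth.Prelude.Def_GrLC
import Groth.Prelude.Def_GrLC2
import Groth.Prelude.Def_CAlg
import Groth.Agent.Lib.Helper8.GK2

/-!
# The Hilbert function of the *canonical module in low degrees, II (helper8)

`two_le_finrank`: `dim_k (K_R)_j ≥ 2` for `j > -a(R)` (`R` Cohen–Macaulay standard graded of dimension `≥ 2`).
-/

set_option autoImplicit false
set_option linter.unusedSectionVars false
universe u
open DirectSum CategoryTheory Abelian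

namespace Groth.Agent.Helper8.GK
open Groth.Agent.Helper9.GrLCLib Groth.Agent.Helper8.GD Groth.Agent.Helper8.GB Groth.Agent.Helper8.GC
open LocCoh IsLocalRing

section Main

variable {R : Type u} [CommRing R] [IsNoetherianRing R] {𝒜 : ℤ → AddSubgroup R} [GradedRing 𝒜]
  {m : HomogeneousIdeal 𝒜} (hF : FieldGr 𝒜 m)
  (hstd : Ideal.span (⋃ n ∈ Set.Ioi (0 : ℤ), (𝒜 n : Set R)) =
    Ideal.span ((𝒜 1 : AddSubgroup R) : Set R))
variable {E' : Type u} [AddCommGroup E'] [Module R E'] {𝓔 : ℤ → AddSubgroup E'}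
  [DirectSum.Decomposition 𝓔] [SetLike.GradedSMul 𝒜 𝓔]
  {e : (R ⧸ m.toIdeal) →ₗ[R] E'} (he : GrLC.IsStarInjHull 𝒜 (GrLC.quotGr 𝒜 m) 𝓔 e)
variable {C : Type u} [AddCommGroup C] [Module R C] (𝒞 : ℤ → AddSubgroup C)
  [DirectSum.Decomposition 𝒞] [SetLike.GradedSMul 𝒜 𝒞]

include hF hstd he in
theorem two_le_finrank [hCM : IsCohenMacaulayRing R] (n : ℕ) (hn : ringKrullDim R = n) (h2 : 2 ≤ n)
    (I : GrLC.StarInjRes 𝒜 𝒜) (a : ℤ)
    (ha : GrLC.endDeg (I.Hgr m n) = ((a : WithTop ℤ) : WithBot (WithTop ℤ)))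
    (hC : GrLC.IsStarCanonical 𝒜 𝒞 𝓔 m n I) (j : ℤ) (hj : -a < j) :
    2 ≤ Module.finrank (GrLC.deg0 𝒜) (GrLC.comp 𝒜 𝒞 j) := by
  classical
  letI : Field (GrLC.deg0 𝒜) := hF.field.toField
  have hD1 : ∀ u : C, (∀ r ∈ m.toIdeal, r • u = 0) → u = 0 :=
    eq_zero_of_ext_zero m.toIdeal C (subsingleton_ext_residue hF he 𝒞 n hn I hC 0 (by omega))
  have hD2 : ∀ φ : m.toIdeal →ₗ[R] C, ∃ y : C, ∀ r : m.toIdeal, φ r = (r : R) • y :=
    exists_smul_of_ext_one m.toIdeal C (subsingleton_ext_residue hF he 𝒞 n hn I hC 1 (by omega))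
  obtain ⟨hfin, φC, hφC⟩ := hC
  haveI := hfin
  let X : GrLC.GMod.{u} 𝒜 := HGMod 𝒜 𝒜 I m n
  have hXgr : X.gr = I.Hgr m n := HGMod_gr 𝒜 𝒜 I m n
  have hφX : GrLC.IsGrHom (fun d => (GrLC.homDeg 𝒜 𝒞 𝓔 d).toAddSubgroup) X.gr φC.toLinearMap := by
    show GrLC.IsGrHom _ (HGMod 𝒜 𝒜 I m n).gr _
    rw [HGMod_gr]
    exact hφC
  -- vanishing below `-a`
  have hlow : ∀ l : ℤ, l < -a → ∀ u ∈ 𝒞 l, u = 0 := by
    intro l hl u hu
    by_contra hu0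
    obtain ⟨f, hf, hfu⟩ := exists_hom_ne_zero hF he 𝒞 hu hu0
    have h1 : φC f ∈ I.Hgr m n (-l) := hφC (-l) f hf
    rw [eq_bot_of_endDeg_lt (I.Hgr m n) a ha (-l) (by omega), AddSubgroup.mem_bot] at h1
    have h2 : f = 0 := φC.map_eq_zero_iff.mp h1
    apply hfu
    rw [h2, LinearMap.zero_apply]
  -- every nonzero element is moved by a linear form
  have hmove : ∀ u : C, u ≠ 0 → ∃ x ∈ 𝒜 1, x • u ≠ 0 := by
    intro u hu0
    by_contra hcon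
    push Not at hcon
    apply hu0
    apply hD1
    exact smul_eq_zero_of_line hF hstd ((𝒜 1 : AddSubgroup R) : Set R) 0
      (fun s hs => ⟨0, by simpa using hs⟩) u (fun ℓ hℓ => hcon ℓ hℓ) (zero_smul _ _)
  -- nonvanishing from `-a` on
  have hnz : ∀ t : ℕ, ∃ u ∈ 𝒞 (-a + t), u ≠ 0 := by
    intro t
    induction t with
    | zero =>
      have hne := ne_bot_of_endDeg_eq (I.Hgr m n) a ha
      obtain ⟨h, hh, hh0⟩ : ∃ h ∈ I.Hgr m n a, h ≠ 0 := by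
        by_contra hcon
        push Not at hcon
        apply hne
        rw [eq_bot_iff]
        intro y hy
        rw [AddSubgroup.mem_bot]
        exact hcon y hy
      have hf : GrLC.IsGrHomDeg 𝒞 𝓔 (φC.symm h) a :=
        symm_isGrHomDeg 𝓔 𝒞 X φC hφX (hXgr ▸ hh)
      have hf0 : φC.symm h ≠ 0 := fun h0 => hh0 (by rw [← φC.apply_symm_apply h, h0, map_zero])
      have hf' : GrLC.IsGrHomDeg 𝒞 𝓔 (φC.symm h) (-(-a)) := by rw [neg_neg]; exact hf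
      by_contra hcon
      push Not at hcon
      apply hf0
      apply eq_zero_of_restrict hF he 𝒞 hf'
      intro x hx
      have hx' : x ∈ 𝒞 (-a + ((0 : ℕ) : ℤ)) := by simpa using hx
      rw [hcon x hx', map_zero]
    | succ t ih =>
      obtain ⟨u, hu, hu0⟩ := ih
      obtain ⟨x, hx, hxu⟩ := hmove u hu0
      refine ⟨x • u, ?_, hxu⟩
      have h1 := smul_mem_add 𝒜 𝒞 hx hu
      have h2 : (1 : ℤ) + (-a + (t : ℤ)) = -a + ((t + 1 : ℕ) : ℤ) := by push_cast; ring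
      rwa [h2] at h1
  by_contra hlt
  push Not at hlt
  haveI : Module.Finite (GrLC.deg0 𝒜) (GrLC.comp 𝒜 𝒞 j) := finite_comp 𝒜 𝒞 j
  have h1 : Module.finrank (GrLC.deg0 𝒜) (GrLC.comp 𝒜 𝒞 j) ≤ 1 := by omega
  obtain ⟨v, hv⟩ := finrank_le_one_iff.mp h1
  obtain ⟨t, ht⟩ : ∃ t : ℕ, j - 1 = -a + t := ⟨(j - 1 + a).toNat, by omega⟩
  obtain ⟨u, hu, hu0⟩ := hnz t
  rw [← ht] at hu
  obtain ⟨x, hx, hxu⟩ := hmove u hu0
  -- the hyperplane
  let L : Set R := {s | s ∈ 𝒜 1 ∧ s • u = 0}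
  have hmemj : ∀ s ∈ 𝒜 1, s • u ∈ 𝒞 j := by
    intro s hs
    have h1 := smul_mem_add 𝒜 𝒞 hs hu
    have h2 : (1 : ℤ) + (j - 1) = j := by ring
    rwa [h2] at h1
  obtain ⟨cx, hcx⟩ := hv ⟨x • u, hmemj x hx⟩
  have hcx0 : cx ≠ 0 := by
    intro h0
    apply hxu
    have h3 := congrArg Subtype.val hcx
    rw [h0, zero_smul] at h3
    exact h3.symm
  have hLx : ∀ s ∈ 𝒜 1, ∃ c : R, s - c * x ∈ L := by
    intro s hs
    obtain ⟨cs, hcs⟩ := hv ⟨s • u, hmemj s hs⟩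
    refine ⟨((cs * cx⁻¹ : GrLC.deg0 𝒜) : R), ?_, ?_⟩
    · apply sub_mem hs
      have hc0 : ((cs * cx⁻¹ : GrLC.deg0 𝒜) : R) ∈ 𝒜 0 := (cs * cx⁻¹ : GrLC.deg0 𝒜).2
      have h3 := SetLike.GradedMul.mul_mem hc0 hx
      rwa [zero_add] at h3
    · have h4 : (⟨s • u, hmemj s hs⟩ : GrLC.comp 𝒜 𝒞 j) =
          (cs * cx⁻¹) • (⟨x • u, hmemj x hx⟩ : GrLC.comp 𝒜 𝒞 j) := by
        rw [← hcs, ← hcx, smul_smul, mul_assoc, inv_mul_cancel₀ hcx0, mul_one]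
      have h5 : s • u = ((cs * cx⁻¹ : GrLC.deg0 𝒜) : R) • (x • u) := congrArg Subtype.val h4
      rw [sub_smul, mul_smul, ← h5, sub_self]
  have hind : ∀ t : ℕ, ∃ y ∈ 𝒞 (j - 1 - t), y ≠ 0 ∧ ∀ ℓ ∈ L, ℓ • y = 0 := by
    intro t
    induction t with
    | zero => exact ⟨u, by simpa using hu, hu0, fun ℓ hℓ => hℓ.2⟩
    | succ t ih =>
      obtain ⟨y, hy, hy0, hLy⟩ := ih
      obtain ⟨y', hy', hy'0, hLy'⟩ := descend hF hstd 𝒞 hD1 hD2 L (fun ℓ hℓ => hℓ.1) x hx hLx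
        (j - 1 - t) y hy hy0 hLy
      refine ⟨y', ?_, hy'0, hLy'⟩
      have h2 : j - 1 - (t : ℤ) - 1 = j - 1 - ((t + 1 : ℕ) : ℤ) := by push_cast; ring
      rwa [h2] at hy'
  obtain ⟨y, hy, hy0, -⟩ := hind (j + a).toNat
  exact hy0 (hlow _ (by omega) y hy)

end Main

end Groth.Agent.Helper8.GK
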