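import Mathlib

/-!
# A finite graded module inside `M[X]` (part a: the graded module)
-/

set_option autoImplicit false
universe u

namespace Groth.Agent.Lib.Helper8.GM

open Polynomial

/-- Data of a graded ring hom `S → R'[X]` with the properties we need. -/
structure TD (R R' S : Type u) [CommRing R] [CommRing R'] [CommRing S] [Algebra R R']
    [Algebra R S] (𝒜 : ℕ → Submodule R S) (f : S) where
  θ : S →+* R'[X]
  hθ : ∀ d s, s ∈ 𝒜 d → ∃ c : R', θ s = monomial d c
  hR : ∀ r : R, θ (algebraMap R S r) = C (algebraMap R R' r)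
  hX : θ f = X
  hsurj : ∀ c : R', ∃ d s, s ∈ 𝒜 d ∧ θ s = monomial d c

variable {R R' S : Type u} [CommRing R] [CommRing R'] [CommRing S] [Algebra R R'] [Algebra R S]
  {𝒜 : ℕ → Submodule R S} {f : S}

/-- The ambient module `M[X]`, an `S`-module through `θ`. -/
def Amb (_D : TD R R' S 𝒜 f) (M : Type u) [AddCommGroup M] [Module R' M] : Type u :=
  PolynomialModule R' M

section inst
variable (D : TD R R' S 𝒜 f) (M : Type u) [AddCommGroup M] [Module R' M]

noncomputable instance : AddCommGroup (Amb D M) :=
  inferInstanceAs (AddCommGroup (PolynomialModule R' M))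

noncomputable instance instModPoly : Module R'[X] (Amb D M) :=
  inferInstanceAs (Module R'[X] (PolynomialModule R' M))

noncomputable instance instModS : Module S (Amb D M) := Module.compHom (Amb D M) D.θ

noncomputable instance instModR : Module R (Amb D M) :=
  Module.compHom (Amb D M) (algebraMap R S)

instance : IsScalarTower R S (Amb D M) := ⟨fun r s x => by
  show (r • s) • x = algebraMap R S r • (s • x)
  rw [Algebra.smul_def, mul_smul]⟩

end inst

variable {D : TD R R' S 𝒜 f} {M : Type u} [AddCommGroup M] [Module R' M]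

/-- coefficients -/
def cf (x : Amb D M) (k : ℕ) : M := (PolynomialModule.coeff (R := R') (M := M) x) k

/-- monomials -/
noncomputable def sg (D : TD R R' S 𝒜 f) (k : ℕ) (m : M) : Amb D M :=
  PolynomialModule.single R' k m

@[simp] lemma cf_zero (k : ℕ) : cf (0 : Amb D M) k = 0 := rfl

@[simp] lemma cf_add (x y : Amb D M) (k : ℕ) : cf (x + y) k = cf x k + cf y k := rfl

lemma cf_sg (k j : ℕ) (m : M) : cf (sg D k m) j = if k = j then m else 0 := by
  show (PolynomialModule.single R' k m).coeff j = _
  rw [PolynomialModule.coeff_single, Finsupp.single_apply]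

lemma sg_zero (k : ℕ) : sg D k (0 : M) = 0 := PolynomialModule.single_zero k

lemma sg_add (k : ℕ) (a b : M) : sg D k (a + b) = sg D k a + sg D k b :=
  PolynomialModule.single_add k a b

lemma ext_cf {x y : Amb D M} (h : ∀ k, cf x k = cf y k) : x = y :=
  PolynomialModule.ext (Finsupp.ext h)

lemma smul_def' (s : S) (x : Amb D M) : s • x = (D.θ s • x : Amb D M) := rfl

lemma cf_smul_of_monomial {s : S} {d : ℕ} {c : R'} (h : D.θ s = monomial d c) (x : Amb D M)
    (j : ℕ) : cf (s • x) j = if d ≤ j then c • cf x (j - d) else 0 := by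
  rw [smul_def', h]
  exact PolynomialModule.monomial_smul_apply d c x j

lemma smul_sg {s : S} {d : ℕ} {c : R'} (h : D.θ s = monomial d c) (j : ℕ) (m : M) :
    s • sg D j m = sg D (d + j) (c • m) := by
  rw [smul_def', h]
  exact PolynomialModule.monomial_smul_single d c j m

/-- additive coefficient map -/
def cfHom (j : ℕ) : Amb D M →+ M where
  toFun x := cf x j
  map_zero' := cf_zero j
  map_add' x y := cf_add x y j

/-- support -/
def supp (x : Amb D M) : Finset ℕ := (PolynomialModule.coeff (R := R') (M := M) x).support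

lemma cf_eq_zero_of_not_mem_supp {x : Amb D M} {k : ℕ} (h : k ∉ supp x) : cf x k = 0 :=
  Finsupp.notMem_support_iff.mp h

lemma eq_sum_sg (x : Amb D M) : x = ∑ k ∈ supp x, sg D k (cf x k) := by
  apply ext_cf
  intro j
  have : cf (∑ k ∈ supp x, sg D k (cf x k)) j = ∑ k ∈ supp x, cf (sg D k (cf x k)) j :=
    map_sum (cfHom (D := D) (M := M) j) _ _
  rw [this]
  simp only [cf_sg]
  rw [Finset.sum_ite_eq' (supp x) j]
  split_ifs with h
  · rfl
  · exact cf_eq_zero_of_not_mem_supp h

section Rmod
variable [Module R M] [IsScalarTower R R' M]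

lemma cf_smulR (r : R) (x : Amb D M) (j : ℕ) : cf (r • x) j = r • cf x j := by
  have h : D.θ (algebraMap R S r) = monomial 0 (algebraMap R R' r) := by
    rw [D.hR, monomial_zero_left]
  show cf (algebraMap R S r • x) j = _
  rw [cf_smul_of_monomial h, if_pos (Nat.zero_le j), Nat.sub_zero, algebraMap_smul]

end Rmod

variable (D M) in
/-- the graded submodule generated by the `m i` placed in degree 0. -/
noncomputable def Ngen {n : ℕ} (m : Fin n → M) : Submodule S (Amb D M) :=
  Submodule.span S (Set.range (fun i => sg D 0 (m i)))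

section graded
variable [GradedAlgebra 𝒜]

lemma sg_cf_smul_mem (P : Submodule S (Amb D M)) {x : Amb D M}
    (hx : ∀ k, sg D k (cf x k) ∈ P) (s : S) : ∀ k, sg D k (cf (s • x) k) ∈ P := by
  refine DirectSum.Decomposition.inductionOn 𝒜
    (motive := fun s => ∀ k, sg D k (cf (s • x) k) ∈ P) ?_ ?_ ?_ s
  · intro k
    rw [zero_smul, cf_zero, sg_zero]
    exact zero_mem _
  · intro d s' k
    obtain ⟨c, hc⟩ := D.hθ d s' s'.2
    rw [cf_smul_of_monomial hc]
    split_ifs with h
    · have h1 := smul_sg hc (k - d) (cf x (k - d))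
      rw [(by omega : d + (k - d) = k)] at h1
      rw [← h1]
      exact P.smul_mem _ (hx (k - d))
    · rw [sg_zero]
      exact zero_mem _
  · intro a b ha hb k
    rw [add_smul, cf_add, sg_add]
    exact add_mem (ha k) (hb k)

theorem sg_cf_mem {n : ℕ} (m : Fin n → M) {x : Amb D M} (hx : x ∈ Ngen D M m) :
    ∀ k, sg D k (cf x k) ∈ Ngen D M m := by
  induction hx using Submodule.span_induction with
  | mem x hx =>
    obtain ⟨i, rfl⟩ := hx
    intro k
    rw [cf_sg]
    split_ifs with h
    · subst h
      exact Submodule.subset_span ⟨i, rfl⟩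
    · rw [sg_zero]
      exact zero_mem _
  | zero =>
    intro k
    rw [cf_zero, sg_zero]
    exact zero_mem _
  | add x y _ _ hx hy =>
    intro k
    rw [cf_add, sg_add]
    exact add_mem (hx k) (hy k)
  | smul s x _ hx => exact sg_cf_smul_mem _ hx s

lemma cf_smul_eq_zero {s : S} {d k : ℕ} (hs : s ∈ 𝒜 d) {x : Amb D M}
    (hx : ∀ j, j ≠ k → cf x j = 0) : ∀ j, j ≠ d + k → cf (s • x) j = 0 := by
  intro j hj
  obtain ⟨c, hc⟩ := D.hθ d s hs
  rw [cf_smul_of_monomial hc]
  split_ifs with h
  · rw [hx (j - d) (by omega), smul_zero]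
  · rfl

variable [Module R M] [IsScalarTower R R' M]

variable (D M) in
/-- graded pieces -/
noncomputable def degS {n : ℕ} (m : Fin n → M) (k : ℕ) : Submodule R ↥(Ngen D M m) where
  carrier := {x | ∀ j, j ≠ k → cf (x : Amb D M) j = 0}
  zero_mem' := fun j _ => cf_zero j
  add_mem' := by
    intro x y hx hy j hj
    show cf ((x : Amb D M) + (y : Amb D M)) j = 0
    rw [cf_add, hx j hj, hy j hj, add_zero]
  smul_mem' := by
    intro r x hx j hj
    show cf (r • (x : Amb D M)) j = 0
    rw [cf_smulR, hx j hj, smul_zero]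

variable (D M) in
/-- coefficient as linear map -/
noncomputable def cfL {n : ℕ} (m : Fin n → M) (i : ℕ) : ↥(Ngen D M m) →ₗ[R] M where
  toFun x := cf (x : Amb D M) i
  map_add' x y := cf_add _ _ i
  map_smul' r x := cf_smulR r _ i

theorem isInternal {n : ℕ} (m : Fin n → M) : DirectSum.IsInternal (degS D M m) := by
  rw [DirectSum.isInternal_submodule_iff_iSupIndep_and_iSup_eq_top]
  constructor
  · intro i
    rw [Submodule.disjoint_def]
    intro x hxi hx
    have hle : (⨆ j, ⨆ (_ : j ≠ i), degS D M m j) ≤ LinearMap.ker (cfL D M m i) :=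
      iSup_le fun j => iSup_le fun hj y hy => hy i (Ne.symm hj)
    have hi : cf (x : Amb D M) i = 0 := hle hx
    apply Subtype.ext
    apply ext_cf
    intro k
    by_cases hk : k = i
    · rw [hk, hi]
      rfl
    · rw [hxi k hk]
      rfl
  · rw [eq_top_iff]
    intro x _
    have h1 := eq_sum_sg (x : Amb D M)
    have hx : x = ∑ k ∈ supp (x : Amb D M),
        (⟨sg D k (cf (x : Amb D M) k), sg_cf_mem m x.2 k⟩ : ↥(Ngen D M m)) := by
      apply Subtype.ext
      rw [AddSubmonoidClass.coe_finsetSum]
      exact h1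
    rw [hx]
    refine Submodule.sum_mem _ fun k _ => Submodule.mem_iSup_of_mem k ?_
    intro j hj
    show cf (sg D k (cf (x : Amb D M) k)) j = 0
    rw [cf_sg, if_neg (Ne.symm hj)]

end graded

end Groth.Agent.Lib.Helper8.GM
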