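import Groth.Agent.Lib.Helper8.GMa

/-!
# A finite graded module inside `M[X]` (part b: degree-zero localization)
-/

set_option autoImplicit false
universe u

namespace Groth.Agent.Lib.Helper8.GM

open Polynomial

variable {R R' S : Type u} [CommRing R] [CommRing R'] [CommRing S] [Algebra R R'] [Algebra R S]
  {𝒜 : ℕ → Submodule R S} {f : S}

/-- `f ^ k` as an element of `powers f`. -/
def fp (f : S) (k : ℕ) : Submonoid.powers f := ⟨f ^ k, pow_mem (Submonoid.mem_powers f) k⟩

section rho
variable (D : TD R R' S 𝒜 f)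

/-- evaluation of `θ` at `X = 1`. -/
noncomputable def rho : S →+* R' := (Polynomial.evalRingHom 1).comp D.θ

lemma rho_of_monomial {s : S} {d : ℕ} {c : R'} (h : D.θ s = monomial d c) : rho D s = c := by
  show (D.θ s).eval 1 = c
  rw [h, eval_monomial, one_pow, mul_one]

lemma rho_f : rho D f = 1 := by
  show (D.θ f).eval 1 = 1
  rw [D.hX, eval_X]

lemma rho_pow (k : ℕ) : rho D (f ^ k) = 1 := by
  rw [map_pow, rho_f, one_pow]

lemma rho_powers (t : Submonoid.powers f) : rho D (t : S) = 1 := by
  obtain ⟨_, k, rfl⟩ := t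
  exact rho_pow D k

lemma rho_algebraMap (r : R) : rho D (algebraMap R S r) = algebraMap R R' r := by
  show (D.θ _).eval 1 = _
  rw [D.hR, eval_C]

/-- `M` as an `S`-module through `rho`. -/
def Mr (_D : TD R R' S 𝒜 f) (M : Type u) : Type u := M

variable (M : Type u) [AddCommGroup M] [Module R' M]

instance : AddCommGroup (Mr D M) := inferInstanceAs (AddCommGroup M)

instance : Module R' (Mr D M) := inferInstanceAs (Module R' M)

instance [Module R M] : Module R (Mr D M) := inferInstanceAs (Module R M)

noncomputable instance : Module S (Mr D M) := Module.compHom M (rho D)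

lemma Mr_smul (s : S) (y : Mr D M) : s • y = rho D s • y := rfl

lemma smul_Mr_pow (k : ℕ) (y : Mr D M) : (f ^ k) • y = y := by
  rw [Mr_smul, rho_pow, one_smul]

lemma algebraMap_pow_eq_one (t : Submonoid.powers f) :
    algebraMap S (Module.End S (Mr D M)) (t : S) = 1 := by
  apply LinearMap.ext
  intro y
  rw [Module.algebraMap_end_apply]
  show rho D (t : S) • y = y
  rw [rho_powers, one_smul]

lemma isUnit_pow (t : Submonoid.powers f) :
    IsUnit (algebraMap S (Module.End S (Mr D M)) (t : S)) := by
  rw [algebraMap_pow_eq_one]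
  exact isUnit_one

end rho

section loc
variable [GradedAlgebra 𝒜] (hf : f ∈ 𝒜 1) (D : TD R R' S 𝒜 f) (M : Type u) [AddCommGroup M]
  [Module R' M] [Module R M] [IsScalarTower R R' M] {n : ℕ} (m : Fin n → M)

include hf in
lemma pow_mem_deg (k : ℕ) : f ^ k ∈ 𝒜 k := by
  have := SetLike.pow_mem_graded k hf
  rwa [smul_eq_mul, mul_one] at this

lemma eval_of_deg {x : Amb D M} {k : ℕ} (hx : ∀ j, j ≠ k → cf x j = 0) :
    PolynomialModule.eval (1 : R') x = cf x k := by
  have h1 : x = sg D k (cf x k) := ext_cf (fun j => by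
    rw [cf_sg]
    split_ifs with h
    · rw [h]
    · exact hx j (Ne.symm h))
  calc PolynomialModule.eval (1 : R') x
      = PolynomialModule.eval (1 : R') (PolynomialModule.single R' k (cf x k)) :=
        congrArg (PolynomialModule.eval (1 : R')) h1
    _ = cf x k := by rw [PolynomialModule.eval_single, one_pow, one_smul]

/-- the localized module -/
abbrev Loc := LocalizedModule (Submonoid.powers f) ↥(Ngen D M m)

/-- evaluation at `X = 1` on `N`. -/
noncomputable def epsN : ↥(Ngen D M m) →ₗ[S] Mr D M where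
  toFun x := PolynomialModule.eval (R := R') (M := M) 1 (x : Amb D M)
  map_add' x y := map_add (PolynomialModule.eval (R := R') (M := M) 1) (x : Amb D M) (y : Amb D M)
  map_smul' s x := by
    show PolynomialModule.eval (R := R') (M := M) 1 (D.θ s • (x : Amb D M))
      = rho D s • PolynomialModule.eval (R := R') (M := M) 1 (x : Amb D M)
    exact PolynomialModule.eval_smul (D.θ s) _ 1

lemma epsN_smulR (r : R) (x : ↥(Ngen D M m)) :
    epsN D M m (r • x) = r • epsN D M m x := by
  have h1 : r • x = algebraMap R S r • x := (algebraMap_smul S r x).symm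
  rw [h1, map_smul, Mr_smul, rho_algebraMap]
  exact algebraMap_smul (M := M) R' r _

/-- the extension of `epsN` to the localization. -/
noncomputable def Lam : Loc D M m →ₗ[S] Mr D M :=
  LocalizedModule.lift (Submonoid.powers f) (epsN D M m) (isUnit_pow D M)

lemma Lam_mk (y : ↥(Ngen D M m)) (t : Submonoid.powers f) :
    Lam D M m (LocalizedModule.mk y t) = epsN D M m y := by
  have h1 : (t : S) • Lam D M m (LocalizedModule.mk y t) = epsN D M m y := by
    have h3 := (Lam D M m).map_smul (t : S) (LocalizedModule.mk y t)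
    rw [← h3, LocalizedModule.smul'_mk (t : S) y t]
    have h2 : LocalizedModule.mk ((t : S) • y) t
        = LocalizedModule.mk y (1 : Submonoid.powers f) := LocalizedModule.mk_cancel t y
    rw [h2]
    exact LocalizedModule.lift_mk_one (S := Submonoid.powers f) (g := epsN D M m) (isUnit_pow D M) y
  rw [← h1, Mr_smul, rho_powers, one_smul]

lemma Lam_smulR (r : R) (x : Loc D M m) :
    Lam D M m (r • x) = r • Lam D M m x := by
  induction x using LocalizedModule.induction_on with
  | h y t => rw [LocalizedModule.smul'_mk r y t, Lam_mk, Lam_mk, epsN_smulR]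

lemma Lam_of_mem {x : Loc D M m} {k : ℕ} {y : ↥(Ngen D M m)} (hy : y ∈ degS D M m k)
    (h : f ^ k • x = LocalizedModule.mk y 1) : Lam D M m x = cf (y : Amb D M) k := by
  have h1 : Lam D M m x = Lam D M m (f ^ k • x) := by rw [map_smul, smul_Mr_pow]
  rw [h1, h, Lam_mk]
  exact eval_of_deg D M hy

/-- the degree zero part of the localization. -/
noncomputable def NfS : Submodule R (Loc D M m) where
  carrier := {x | ∃ k : ℕ, ∃ y ∈ degS D M m k, f ^ k • x = LocalizedModule.mk y 1}
  zero_mem' := ⟨0, 0, zero_mem _, by rw [smul_zero, LocalizedModule.zero_mk]⟩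
  add_mem' := by
    rintro x y ⟨k, a, ha, hxa⟩ ⟨k', b, hb, hyb⟩
    refine ⟨k + k', f ^ k' • a + f ^ k • b, add_mem ?_ ?_, ?_⟩
    · intro j hj
      exact cf_smul_eq_zero (pow_mem_deg hf k') ha j (by omega)
    · intro j hj
      exact cf_smul_eq_zero (pow_mem_deg hf k) hb j hj
    · have e1 : f ^ (k + k') • x = LocalizedModule.mk (f ^ k' • a) 1 := by
        rw [add_comm, pow_add, mul_smul, hxa, LocalizedModule.smul'_mk]
      have e2 : f ^ (k + k') • y = LocalizedModule.mk (f ^ k • b) 1 := by
        rw [pow_add, mul_smul, hyb, LocalizedModule.smul'_mk]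
      rw [smul_add, e1, e2, LocalizedModule.mk_add_mk]
      simp
  smul_mem' := by
    rintro r x ⟨k, a, ha, hxa⟩
    refine ⟨k, r • a, Submodule.smul_mem _ r ha, ?_⟩
    have hc : f ^ k • r • x = r • f ^ k • x := by
      induction x using LocalizedModule.induction_on with
      | h y t =>
        rw [LocalizedModule.smul'_mk r y t, LocalizedModule.smul'_mk (f ^ k) (r • y) t,
          LocalizedModule.smul'_mk (f ^ k) y t, LocalizedModule.smul'_mk r (f ^ k • y) t,
          smul_comm]
    rw [hc, hxa, LocalizedModule.smul'_mk r a 1]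

/-- the comparison map before bundling. -/
noncomputable def ePre : ↥(NfS hf D M m) →ₗ[R] M where
  toFun x := Lam D M m (x : Loc D M m)
  map_add' x y := map_add (Lam D M m) _ _
  map_smul' r x := Lam_smulR D M m r _

lemma ePre_injective : Function.Injective (ePre hf D M m) := by
  rw [injective_iff_map_eq_zero]
  rintro ⟨x, k, y, hy, h⟩ hx
  have hval : cf (y : Amb D M) k = 0 := by
    rw [← Lam_of_mem D M m hy h]
    exact hx
  have hy0 : y = 0 := Subtype.ext (ext_cf fun j => by
    by_cases hj : j = k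
    · rw [hj, hval]
      rfl
    · rw [hy j hj]
      rfl)
  rw [hy0, LocalizedModule.zero_mk] at h
  exact Subtype.ext (LocalizedModule.eq_zero_of_smul_eq_zero (f ^ k) (fp f k).2 x h)

lemma ePre_surjective (hm : Submodule.span R' (Set.range m) = ⊤) :
    Function.Surjective (ePre hf D M m) := by
  intro m0
  have hm0 : m0 ∈ Submodule.span R' (Set.range m) := by
    rw [hm]
    trivial
  obtain ⟨c, hc⟩ := (Submodule.mem_span_range_iff_exists_fun R').mp hm0
  choose dd ss hss hθs using fun i => D.hsurj (c i)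
  let g : Fin n → ↥(Ngen D M m) := fun i => ⟨sg D 0 (m i), Submodule.subset_span ⟨i, rfl⟩⟩
  have hg : ∀ i, ∀ j, j ≠ 0 → cf (g i : Amb D M) j = 0 := fun i j hj => by
    show cf (sg D 0 (m i)) j = 0
    rw [cf_sg, if_neg (Ne.symm hj)]
  have hmem : ∀ i, ss i • g i ∈ degS D M m (dd i) := fun i j hj => by
    show cf (ss i • (g i : Amb D M)) j = 0
    exact cf_smul_eq_zero (hss i) (hg i) j (by simpa using hj)
  let xi : Fin n → Loc D M m :=
    fun i => LocalizedModule.mk (ss i • g i) (fp f (dd i))
  have hxi : ∀ i, f ^ dd i • xi i = LocalizedModule.mk (ss i • g i) 1 := fun i => by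
    show f ^ dd i • LocalizedModule.mk (ss i • g i) (fp f (dd i)) = _
    rw [LocalizedModule.smul'_mk (f ^ dd i) (ss i • g i) (fp f (dd i))]
    exact LocalizedModule.mk_cancel (fp f (dd i)) (ss i • g i)
  have hxmem : ∀ i, xi i ∈ NfS hf D M m := fun i => ⟨dd i, ss i • g i, hmem i, hxi i⟩
  have hval : ∀ i, Lam D M m (xi i) = c i • m i := fun i => by
    rw [Lam_of_mem D M m (hmem i) (hxi i)]
    show cf (ss i • (g i : Amb D M)) (dd i) = _
    rw [cf_smul_of_monomial (hθs i), if_pos le_rfl, Nat.sub_self]
    show c i • cf (sg D 0 (m i)) 0 = _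
    rw [cf_sg, if_pos rfl]
  refine ⟨∑ i, ⟨xi i, hxmem i⟩, ?_⟩
  rw [map_sum, ← hc]
  exact Finset.sum_congr rfl (fun i _ => hval i)

lemma Lam_compat (E : HomogeneousLocalization.Away 𝒜 f → R')
    (hE : ∀ a : HomogeneousLocalization.Away 𝒜 f, ∃ d s, s ∈ 𝒜 d ∧
      a.val = Localization.mk s (fp f d) ∧ D.θ s = monomial d (E a))
    (a : HomogeneousLocalization.Away 𝒜 f) (x : Loc D M m) :
    Lam D M m (a.val • x) = E a • Lam D M m x := by
  obtain ⟨d, s, hs, hval, hθ⟩ := hE a
  induction x using LocalizedModule.induction_on with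
  | h y t =>
    rw [hval, LocalizedModule.mk_smul_mk, Lam_mk, Lam_mk, map_smul, Mr_smul,
      rho_of_monomial D hθ]

include hf in
theorem main_abstract [Module.Finite R' M] (E : HomogeneousLocalization.Away 𝒜 f → R')
    (hE : ∀ a : HomogeneousLocalization.Away 𝒜 f, ∃ d s, s ∈ 𝒜 d ∧
      a.val = Localization.mk s (fp f d) ∧ D.θ s = monomial d (E a)) :
    ∃ (N : Type u) (_ : AddCommGroup N) (_ : Module S N) (_ : Module R N)
      (_ : IsScalarTower R S N)
      (ℳ : ℕ → Submodule R N) (_ : DirectSum.Decomposition ℳ) (_ : SetLike.GradedSMul 𝒜 ℳ)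
      (Nf : Submodule R (LocalizedModule (Submonoid.powers f) N)) (e' : ↥Nf ≃ₗ[R] M),
      Module.Finite S N ∧
      (∀ x, x ∈ Nf ↔ ∃ k : ℕ, ∃ n ∈ ℳ k, f ^ k • x = LocalizedModule.mk n 1) ∧
      (∀ (a : HomogeneousLocalization.Away 𝒜 f) (x y : ↥Nf),
        a.val • (x : LocalizedModule (Submonoid.powers f) N) = y → e' y = E a • e' x) := by
  obtain ⟨n, m, hm⟩ := Module.Finite.exists_fin (R := R') (M := M)
  refine ⟨↥(Ngen D M m), inferInstance, inferInstance, inferInstance, inferInstance,
    degS D M m, (isInternal m).chooseDecomposition, ⟨?_⟩, NfS hf D M m,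
    LinearEquiv.ofBijective (ePre hf D M m)
      ⟨ePre_injective hf D M m, ePre_surjective hf D M m hm⟩, ?_, ?_, ?_⟩
  · intro i j ai bj hai hbj l hl
    show cf (ai • (bj : Amb D M)) l = 0
    exact cf_smul_eq_zero hai hbj l hl
  · exact Module.Finite.span_of_finite S (Set.finite_range _)
  · intro x
    exact Iff.rfl
  · intro a x y h
    have h1 := Lam_compat D M m E hE a (x : Loc D M m)
    rw [h] at h1
    exact h1

end loc

end Groth.Agent.Lib.Helper8.GM
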