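import Groth.Agent.Lib.Helper8.GMb

/-!
# A finite graded module inside `M[X]` (part c: the ring hom `S → R'[X]`)
-/

set_option autoImplicit false
universe u

namespace Groth.Agent.Lib.Helper8.GM

open Polynomial

variable {R R' S : Type u} [CommRing R] [CommRing R'] [CommRing S] [Algebra R R'] [Algebra R S]
  (𝒜 : ℕ → Submodule R S) [GradedAlgebra 𝒜] {f : S} (hf : f ∈ 𝒜 1)
  (e : HomogeneousLocalization.Away 𝒜 f ≃+* R')

omit [Algebra R R'] in
lemma mem_nsmul_one {d : ℕ} {s : S} (hs : s ∈ 𝒜 d) : s ∈ 𝒜 (d • 1) := by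
  rwa [smul_eq_mul, mul_one]

/-- `s / f ^ d`. -/
noncomputable def amk (d : ℕ) (s : S) (hs : s ∈ 𝒜 d) : HomogeneousLocalization.Away 𝒜 f :=
  HomogeneousLocalization.Away.mk 𝒜 hf d s (mem_nsmul_one 𝒜 hs)

omit [Algebra R R'] in
lemma val_amk (d : ℕ) (s : S) (hs : s ∈ 𝒜 d) :
    (amk 𝒜 hf d s hs).val = Localization.mk s (fp f d) := rfl

omit [Algebra R R'] in
lemma amk_add (d : ℕ) (s t : S) (hs : s ∈ 𝒜 d) (ht : t ∈ 𝒜 d) :
    amk 𝒜 hf d (s + t) (add_mem hs ht) = amk 𝒜 hf d s hs + amk 𝒜 hf d t ht := by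
  apply HomogeneousLocalization.val_injective
  rw [HomogeneousLocalization.val_add, val_amk, val_amk, val_amk, Localization.add_mk_self]

omit [Algebra R R'] in
lemma amk_zero (d : ℕ) : amk 𝒜 hf d 0 (zero_mem _) = 0 := by
  apply HomogeneousLocalization.val_injective
  rw [HomogeneousLocalization.val_zero, val_amk, Localization.mk_zero]

omit [Algebra R R'] in
lemma amk_mul (i j : ℕ) (a b : S) (ha : a ∈ 𝒜 i) (hb : b ∈ 𝒜 j) :
    amk 𝒜 hf (i + j) (a * b) (SetLike.mul_mem_graded ha hb)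
      = amk 𝒜 hf i a ha * amk 𝒜 hf j b hb := by
  apply HomogeneousLocalization.val_injective
  rw [HomogeneousLocalization.val_mul, val_amk, val_amk, val_amk, Localization.mk_mul]
  congr 1
  exact Subtype.ext (pow_add f i j)

omit [Algebra R R'] in
lemma amk_one : amk 𝒜 hf 0 1 (SetLike.one_mem_graded 𝒜) = 1 := by
  apply HomogeneousLocalization.val_injective
  rw [HomogeneousLocalization.val_one, val_amk]
  have h1 : fp f 0 = 1 := Subtype.ext (pow_zero f)
  rw [h1, Localization.mk_one]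

omit [Algebra R R'] in
lemma amk_f : amk 𝒜 hf 1 f hf = 1 := by
  apply HomogeneousLocalization.val_injective
  rw [HomogeneousLocalization.val_one, val_amk]
  have h1 : fp f 1 = ⟨f, Submonoid.mem_powers f⟩ := Subtype.ext (pow_one f)
  rw [h1]
  exact Localization.mk_self (⟨f, Submonoid.mem_powers f⟩ : Submonoid.powers f)

/-- the degree `d` component of `θ`. -/
noncomputable def gd (d : ℕ) : ↥(𝒜 d) →+ R' where
  toFun s := e (amk 𝒜 hf d s.1 s.2)
  map_zero' := by
    show e (amk 𝒜 hf d 0 _) = 0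
    rw [amk_zero, map_zero]
  map_add' s t := by
    show e (amk 𝒜 hf d (s.1 + t.1) _) = _
    rw [amk_add 𝒜 hf d s.1 t.1 s.2 t.2, map_add]

/-- the graded ring hom `S → R'[X]`. -/
noncomputable def theta : S →+* R'[X] :=
  (DirectSum.toSemiring
    (fun d => (Polynomial.monomial d : R' →ₗ[R'] R'[X]).toAddMonoidHom.comp (gd 𝒜 hf e d))
    (by
      show Polynomial.monomial 0 (e (amk 𝒜 hf 0 1 _)) = 1
      rw [amk_one, map_one, Polynomial.monomial_zero_one])
    (by
      intro i j ai aj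
      show Polynomial.monomial (i + j) (e (amk 𝒜 hf (i + j) (ai.1 * aj.1) _))
        = Polynomial.monomial i (e (amk 𝒜 hf i ai.1 ai.2))
          * Polynomial.monomial j (e (amk 𝒜 hf j aj.1 aj.2))
      rw [amk_mul 𝒜 hf i j ai.1 aj.1 ai.2 aj.2, map_mul, Polynomial.monomial_mul_monomial])).comp
  (DirectSum.decomposeRingEquiv 𝒜 : S ≃+* _).toRingHom

lemma theta_of_mem {d : ℕ} {s : S} (hs : s ∈ 𝒜 d) :
    theta 𝒜 hf e s = Polynomial.monomial d (e (amk 𝒜 hf d s hs)) := by
  unfold theta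
  rw [RingHom.comp_apply]
  have h1 : (DirectSum.decomposeRingEquiv 𝒜 : S ≃+* _).toRingHom s
      = DirectSum.of (fun i => ↥(𝒜 i)) d ⟨s, hs⟩ := DirectSum.decompose_of_mem 𝒜 hs
  rw [h1, DirectSum.toSemiring_of]
  rfl

/-- the data. -/
noncomputable def mkTD
    (he : ∀ r : R, (e.symm (algebraMap R R' r)).val
      = algebraMap S (Localization.Away f) (algebraMap R S r)) : TD R R' S 𝒜 f where
  θ := theta 𝒜 hf e
  hθ := fun d s hs => ⟨_, theta_of_mem 𝒜 hf e hs⟩
  hR := fun r => by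
    rw [theta_of_mem 𝒜 hf e (SetLike.algebraMap_mem_graded 𝒜 r), Polynomial.monomial_zero_left]
    congr 1
    have h2 : amk 𝒜 hf 0 (algebraMap R S r) (SetLike.algebraMap_mem_graded 𝒜 r)
        = e.symm (algebraMap R R' r) := by
      apply HomogeneousLocalization.val_injective
      rw [he r, val_amk]
      have h1 : fp f 0 = 1 := Subtype.ext (pow_zero f)
      rw [h1, Localization.mk_one_eq_algebraMap]
    rw [h2, RingEquiv.apply_symm_apply]
  hX := by
    rw [theta_of_mem 𝒜 hf e hf, amk_f, map_one, Polynomial.monomial_one_one_eq_X]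
  hsurj := fun c => by
    obtain ⟨d, s, hs, ha⟩ := HomogeneousLocalization.Away.mk_surjective 𝒜 hf (e.symm c)
    have hs' : s ∈ 𝒜 d := by rwa [smul_eq_mul, mul_one] at hs
    refine ⟨d, s, hs', ?_⟩
    rw [theta_of_mem 𝒜 hf e hs']
    congr 1
    have h2 : amk 𝒜 hf d s hs' = e.symm c := ha
    rw [h2, RingEquiv.apply_symm_apply]

lemma hE_e (a : HomogeneousLocalization.Away 𝒜 f) : ∃ d s, s ∈ 𝒜 d ∧
    a.val = Localization.mk s (fp f d) ∧ theta 𝒜 hf e s = monomial d (e a) := by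
  obtain ⟨d, s, hs, rfl⟩ := HomogeneousLocalization.Away.mk_surjective 𝒜 hf a
  have hs' : s ∈ 𝒜 d := by rwa [smul_eq_mul, mul_one] at hs
  exact ⟨d, s, hs', rfl, theta_of_mem 𝒜 hf e hs'⟩

include hf in
theorem main (M : Type u) [AddCommGroup M] [Module R' M] [Module R M] [IsScalarTower R R' M]
    [Module.Finite R' M]
    (he : ∀ r : R, (e.symm (algebraMap R R' r)).val
      = algebraMap S (Localization.Away f) (algebraMap R S r)) :
    ∃ (N : Type u) (_ : AddCommGroup N) (_ : Module S N) (_ : Module R N)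
      (_ : IsScalarTower R S N)
      (ℳ : ℕ → Submodule R N) (_ : DirectSum.Decomposition ℳ) (_ : SetLike.GradedSMul 𝒜 ℳ)
      (Nf : Submodule R (LocalizedModule (Submonoid.powers f) N)) (e' : ↥Nf ≃ₗ[R] M),
      Module.Finite S N ∧
      (∀ x, x ∈ Nf ↔ ∃ k : ℕ, ∃ n ∈ ℳ k, f ^ k • x = LocalizedModule.mk n 1) ∧
      (∀ (a : HomogeneousLocalization.Away 𝒜 f) (x y : ↥Nf),
        a.val • (x : LocalizedModule (Submonoid.powers f) N) = y → e' y = e a • e' x) :=
  main_abstract hf (mkTD 𝒜 hf e he) M (fun a => e a) (hE_e 𝒜 hf e)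

end Groth.Agent.Lib.Helper8.GM
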