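import Mathlib
import Groth.Prelude.Def_GrLC
import Groth.Prelude.Def_CAlg
import Groth.Agent.Lib.Helper8.GP1
import Groth.Agent.Lib.Helper8.GB7
import Groth.Agent.Lib.Helper8.RS2
import Groth.Agent.Lib.Helper8.GorFlat9
import Groth.Agent.Lib.Helper8.GorFlat11
import Groth.Agent.Lib.Helper3.KosBC3
import Groth.Agent.Lib.Helper9.GrLC.Trans
import Groth.Agent.S13215
import Groth.Agent.S18645

/-!
# The canonical module of a weighted polynomial ring (helper8)

`main`: for `R = k[X_1, …, X_N]` with `deg X_i = w_i > 0`, `K_R ≅ R(-Σ w_i)`.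
-/

set_option autoImplicit false
set_option linter.unusedSectionVars false
universe u
open DirectSum MvPolynomial

attribute [local instance] MvPolynomial.weightedGradedAlgebra

namespace Groth.Agent.Helper8.GP
open Groth.Agent.Helper9.GrLCLib Groth.Agent.Helper8.GD Groth.Agent.Helper8.GB Groth.Agent.Helper8.GV
open LocCoh IsLocalRing

section Poly

variable (k : Type u) [Field k] (N : ℕ) (w : Fin N → ℤ)

/-- the weighted grading by additive subgroups -/
noncomputable abbrev AG : ℤ → AddSubgroup (MvPolynomial (Fin N) k) :=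
  Trans.toAG (MvPolynomial.weightedHomogeneousSubmodule k w)

noncomputable instance : GradedRing (AG k N w) :=
  Trans.gradedRingToAG (MvPolynomial.weightedHomogeneousSubmodule k w)

variable {N w}

lemma weight_nonneg (hw : ∀ i, 0 < w i) (d : Fin N →₀ ℕ) : 0 ≤ Finsupp.weight w d := by
  rw [Finsupp.weight_eq_sum]
  exact Finset.sum_nonneg fun i _ => nsmul_nonneg (hw i).le (d i)

lemma eq_zero_of_weight_eq_zero (hw : ∀ i, 0 < w i) (d : Fin N →₀ ℕ)
    (h : Finsupp.weight w d = 0) : d = 0 := by
  rw [Finsupp.weight_eq_sum] at h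
  have h1 := (Finset.sum_eq_zero_iff_of_nonneg
    (fun i _ => nsmul_nonneg (hw i).le (d i))).mp h
  ext i
  have h2 := h1 i (Finset.mem_univ i)
  rw [nsmul_eq_mul] at h2
  rcases mul_eq_zero.mp h2 with h3 | h3
  · exact_mod_cast h3
  · exact absurd h3 (hw i).ne'

lemma eq_C_of_mem_zero (hw : ∀ i, 0 < w i) {x : MvPolynomial (Fin N) k}
    (hx : x ∈ AG k N w 0) : x = C (coeff 0 x) := by
  ext d
  rw [coeff_C]
  split_ifs with h
  · rw [← h]
  · by_contra hne
    have h1 : Finsupp.weight w d = 0 := hx hne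
    exact h (eq_zero_of_weight_eq_zero hw d h1).symm

lemma ag_neg (hw : ∀ i, 0 < w i) (n : ℤ) (hn : n < 0) : AG k N w n = ⊥ := by
  rw [eq_bot_iff]
  intro x hx
  rw [AddSubgroup.mem_bot]
  ext d
  rw [coeff_zero]
  by_contra hne
  have h1 : Finsupp.weight w d = n := hx hne
  have h2 := weight_nonneg hw d
  omega

theorem fieldGr_weighted (hw : ∀ i, 0 < w i)
    (m : HomogeneousIdeal (MvPolynomial.weightedHomogeneousSubmodule k w))
    (hmsp : m.toIdeal = Ideal.span (⋃ n ∈ Set.Ioi (0 : ℤ),
      (MvPolynomial.weightedHomogeneousSubmodule k w n : Set (MvPolynomial (Fin N) k)))) :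
    FieldGr (AG k N w) (Trans.idealToAG _ m) where
  pos := ag_neg k hw
  span := hmsp
  field := by
    refine ⟨⟨0, 1, fun h => zero_ne_one (α := MvPolynomial (Fin N) k) (congrArg Subtype.val h)⟩,
      mul_comm, fun {a} ha => ?_⟩
    obtain ⟨x, hx⟩ := a
    have hxC := eq_C_of_mem_zero k hw hx
    have hc : coeff 0 x ≠ 0 := by
      intro h0
      apply ha
      apply Subtype.ext
      show x = 0
      rw [hxC, h0, map_zero]
    refine ⟨⟨C (coeff 0 x)⁻¹, isWeightedHomogeneous_C w _⟩, ?_⟩
    apply Subtype.ext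
    show x * C (coeff 0 x)⁻¹ = 1
    exact (congrArg (fun y => y * C (coeff 0 x)⁻¹) hxC).trans
      (by rw [← C_mul, mul_inv_cancel₀ hc, C_1])

theorem irr_eq_span_X (hw : ∀ i, 0 < w i)
    (m : HomogeneousIdeal (MvPolynomial.weightedHomogeneousSubmodule k w))
    (hmsp : m.toIdeal = Ideal.span (⋃ n ∈ Set.Ioi (0 : ℤ),
      (MvPolynomial.weightedHomogeneousSubmodule k w n : Set (MvPolynomial (Fin N) k)))) :
    m.toIdeal = Ideal.span (Set.range (X : Fin N → MvPolynomial (Fin N) k)) := by
  rw [hmsp]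
  apply le_antisymm
  · apply Ideal.span_le.mpr
    intro x hx
    simp only [Set.mem_iUnion] at hx
    obtain ⟨n, hn, hx⟩ := hx
    have hxh : IsWeightedHomogeneous w x n := hx
    rw [← Set.image_univ, SetLike.mem_coe, MvPolynomial.mem_ideal_span_X_image]
    intro d hd
    have hd' : coeff d x ≠ 0 := MvPolynomial.mem_support_iff.mp hd
    have hwd := hxh hd'
    by_contra hcon
    push Not at hcon
    have hd0 : d = 0 := by ext i; exact hcon i (Set.mem_univ i)
    rw [hd0, map_zero] at hwd
    exact absurd hwd (ne_of_lt hn)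
  · apply Ideal.span_le.mpr
    rintro _ ⟨i, rfl⟩
    apply Ideal.subset_span
    exact Set.mem_biUnion (Set.mem_Ioi.mpr (hw i)) (isWeightedHomogeneous_X k w i)

variable (N) in
theorem isRegular_X : RingTheory.Sequence.IsRegular (MvPolynomial (Fin N) k)
    (List.ofFn (X : Fin N → MvPolynomial (Fin N) k)) := by
  refine ⟨(RS2.isWeaklyRegular_ofFn_iff _).mpr ?_, ?_⟩
  · intro j c hc
    rw [MvPolynomial.mem_ideal_span_X_image] at hc ⊢
    intro d hd
    have hd' : coeff d c ≠ 0 := mem_support_iff.mp hd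
    have h1 : d + Finsupp.single j 1 ∈ (X j * c).support := by
      rw [mem_support_iff, mul_comm, coeff_mul_X]; exact hd'
    obtain ⟨i, hi, hne⟩ := hc _ h1
    refine ⟨i, hi, ?_⟩
    have hij : i ≠ j := ne_of_lt hi
    rwa [Finsupp.add_apply, Finsupp.single_apply, if_neg hij.symm, add_zero] at hne
  · rw [smul_eq_mul, Ideal.mul_top]
    intro h
    have hspan : Ideal.ofList (List.ofFn (X : Fin N → MvPolynomial (Fin N) k)) =
        Ideal.span (Set.range X) := by
      unfold Ideal.ofList
      congr 1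
      ext x
      simp [List.mem_ofFn]
    have h1 : (1 : MvPolynomial (Fin N) k) ∈
        Ideal.span (X '' (Set.univ : Set (Fin N))) := by
      rw [Set.image_univ, ← hspan, ← h]; trivial
    rw [mem_ideal_span_X_image] at h1
    obtain ⟨i, -, hi⟩ := h1 0 (by rw [mem_support_iff, coeff_zero_one]; exact one_ne_zero)
    exact hi rfl

end Poly

end Groth.Agent.Helper8.GP
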