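import Mathlib
import Groth.Prelude.Def_GrLC
import Groth.Prelude.Def_CAlg
import Groth.Agent.Lib.Helper8.GP2

/-!
# The canonical module of a weighted polynomial ring, II (helper8)

`main`: for `R = k[X_1, …, X_N]` with `deg X_i = w_i > 0`, `K_R ≅ R(-Σ w_i)`.
-/

set_option autoImplicit false
set_option linter.unusedSectionVars false
universe u
open DirectSum MvPolynomial

attribute [local instance] MvPolynomial.weightedGradedAlgebra

namespace Groth.Agent.Helper8.GP
open Groth.Agent.Helper9.GrLCLib Groth.Agent.Helper8.GD Groth.Agent.Helper8.GB Groth.Agent.Helper8.GV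
open LocCoh IsLocalRing

theorem main (k : Type u) [Field k] (N : ℕ) (w : Fin N → ℤ) (hw : ∀ i, 0 < w i)
    (m : HomogeneousIdeal (MvPolynomial.weightedHomogeneousSubmodule k w))
    (hmsp : m.toIdeal = Ideal.span (⋃ n ∈ Set.Ioi (0 : ℤ),
      (MvPolynomial.weightedHomogeneousSubmodule k w n : Set (MvPolynomial (Fin N) k))))
    (I : GrLC.StarInjRes (MvPolynomial.weightedHomogeneousSubmodule k w)
      (MvPolynomial.weightedHomogeneousSubmodule k w))
    (E' : Type u) [AddCommGroup E'] [Module (MvPolynomial (Fin N) k) E'] (𝓔 : ℤ → AddSubgroup E')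
    [DirectSum.Decomposition 𝓔]
    [SetLike.GradedSMul (MvPolynomial.weightedHomogeneousSubmodule k w) 𝓔]
    (e : (MvPolynomial (Fin N) k ⧸ m.toIdeal) →ₗ[MvPolynomial (Fin N) k] E')
    (he : GrLC.IsStarInjHull (MvPolynomial.weightedHomogeneousSubmodule k w)
      (GrLC.quotGr (MvPolynomial.weightedHomogeneousSubmodule k w) m) 𝓔 e)
    (C : Type u) [AddCommGroup C] [Module (MvPolynomial (Fin N) k) C] (𝒞 : ℤ → AddSubgroup C)
    [DirectSum.Decomposition 𝒞]
    [SetLike.GradedSMul (MvPolynomial.weightedHomogeneousSubmodule k w) 𝒞]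
    (hC : GrLC.IsStarCanonical (MvPolynomial.weightedHomogeneousSubmodule k w) 𝒞 𝓔 m N I) :
    ∃ f : MvPolynomial (Fin N) k →ₗ[MvPolynomial (Fin N) k] C, Function.Bijective f ∧
      GrLC.IsGrHomDeg (MvPolynomial.weightedHomogeneousSubmodule k w) 𝒞 f
        ((Finset.univ : Finset (Fin N)).sum w) := by
  classical
  have hF : FieldGr (AG k N w) (Trans.idealToAG _ m) := fieldGr_weighted k hw m hmsp
  letI i1 : SetLike.GradedSMul (AG k N w) 𝓔 := Trans.gsmulToAG' _ 𝓔
  letI i2 : SetLike.GradedSMul (AG k N w) 𝒞 := Trans.gsmulToAG' _ 𝒞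
  have he' : GrLC.IsStarInjHull (AG k N w) (GrLC.quotGr (AG k N w) (Trans.idealToAG _ m)) 𝓔 e :=
    { injective := he.injective
      grHom := he.grHom
      essential := he.essential
      starInj := Trans.isStarInj_toAG _ 𝓔 he.starInj }
  have hC' : GrLC.IsStarCanonical (AG k N w) 𝒞 𝓔 (Trans.idealToAG _ m) N
      (Trans.resToAG _ _ I) := by
    obtain ⟨hfin, φ, hφ⟩ := hC
    exact ⟨hfin, φ, fun g x hx => hφ g x hx⟩
  have hG : IsGorensteinRing (MvPolynomial (Fin N) k) :=
    Groth.Agent.Helper3.KosBC.isGorensteinRing_mvPolynomial k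
      (Groth.Agent.Helper8.GorFlat.isGorensteinRing_of_field k) N
  haveI hCM : LocCoh.IsCohenMacaulayRing (MvPolynomial (Fin N) k) :=
    Groth.Agent.Helper8.GorFlat.isCohenMacaulayRing_of_isGorensteinRing _ hG
  have hdim : ringKrullDim (MvPolynomial (Fin N) k) = (N : ℕ) := by
    rw [MvPolynomial.ringKrullDim_of_isNoetherianRing, ringKrullDim_eq_zero_of_field, zero_add,
      Nat.card_fin]
  haveI hmax : (Trans.idealToAG _ m).toIdeal.IsMaximal := hF.isMaximal
  haveI hprime : (Trans.idealToAG _ m).toIdeal.IsPrime := hmax.isPrime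
  have hGloc : IsGorensteinLocalRing (Localization.AtPrime (Trans.idealToAG _ m).toIdeal) :=
    hG.isGorensteinLocalRing_localization (Trans.idealToAG _ m).toIdeal
  have hnloc : ringKrullDim (Localization.AtPrime (Trans.idealToAG _ m).toIdeal) = N := by
    rw [ringKrullDim_atPrime hF, hdim]
  obtain ⟨-, g₀, β, hβ⟩ := exists_grEquiv_of_gorenstein hF he' (Trans.resToAG _ _ I) N hGloc hnloc
  have hend := endDeg_of_grEquiv hF he' (Trans.resToAG _ _ I) N g₀ β hβ
  -- the a-invariant
  letI i3 := quotGrDecomposition (AG k N w) (Trans.idealToAG _ m)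
  letI i4 := quotGrGradedSMul (AG k N w) (Trans.idealToAG _ m)
  obtain ⟨F⟩ := Groth.Agent.S13215.result (MvPolynomial (Fin N) k) (AG k N w)
    (MvPolynomial (Fin N) k ⧸ (Trans.idealToAG _ m).toIdeal)
    (GrLC.quotGr (AG k N w) (Trans.idealToAG _ m))
  have hπk : LinearMap.ker (Submodule.mkQ (Trans.idealToAG _ m).toIdeal) =
      (Trans.idealToAG _ m).toIdeal := Submodule.ker_mkQ _
  have hπ : GrLC.IsGrHom (AG k N w) (GrLC.quotGr (AG k N w) (Trans.idealToAG _ m))
      (Submodule.mkQ (Trans.idealToAG _ m).toIdeal) := fun g x hx => ⟨x, hx, rfl⟩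
  have h0 := endDeg_H_zero_of_residue hF (GrLC.quotGr (AG k N w) (Trans.idealToAG _ m))
    (Submodule.mkQ (Trans.idealToAG _ m).toIdeal) hπ (Submodule.mkQ_surjective _) hπk F
  have hspanX : (Trans.idealToAG _ m).toIdeal =
      Ideal.span (Set.range (X : Fin N → MvPolynomial (Fin N) k)) := irr_eq_span_X k hw m hmsp
  have ha := Groth.Agent.S18645.result (MvPolynomial (Fin N) k) (AG k N w) hF.pos hF.field
    (Trans.idealToAG _ m) (isStarLocal_of_fieldGr hF) hF.span N hdim (Trans.resToAG _ _ I) N le_rfl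
    (X : Fin N → MvPolynomial (Fin N) k) w (fun i => isWeightedHomogeneous_X k w i)
    (fun i => by rw [hspanX]; exact Ideal.subset_span ⟨i, rfl⟩) (isRegular_X k N)
    (MvPolynomial (Fin N) k ⧸ (Trans.idealToAG _ m).toIdeal)
    (GrLC.quotGr (AG k N w) (Trans.idealToAG _ m))
    (Submodule.mkQ (Trans.idealToAG _ m).toIdeal) hπ (Submodule.mkQ_surjective _)
    (hπk.trans hspanX) F
  rw [Nat.sub_self, h0, hend] at ha
  have hg : g₀ = - (Finset.univ : Finset (Fin N)).sum w := by
    rw [← WithBot.coe_add, ← WithTop.coe_add] at ha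
    have h := WithTop.coe_injective (WithBot.coe_injective ha)
    omega
  obtain ⟨f, hfb, hfd⟩ := exists_shift_equiv_canonical hF he' 𝒞 N (Trans.resToAG _ _ I) hC' g₀ β hβ
  refine ⟨f, hfb, ?_⟩
  rw [hg, neg_neg] at hfd
  exact fun g x hx => hfd g x hx

end Groth.Agent.Helper8.GP
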