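import Mathlib
import Groth.Prelude.Def_GrLC
import Groth.Agent.Lib.Helper8.Ver1

/-!
# The grading of an abstractly presented Veronese subring (helper8)

Given a graded ring `P` (pieces `𝒜`), `q > 0` and an injective ring homomorphism `φ : V → P` whose range is the
set of elements with components only in degrees divisible by `q`, the family `pullFam 𝒜 φ q j = φ⁻¹(𝒜 (j q))` is
a grading of `V` (`pullGradedRing`) and `φ` is a Veronese datum (`pullVerData`).
-/

set_option autoImplicit false
set_option linter.unusedSectionVars false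
universe u
open DirectSum

namespace Groth.Agent.Helper8.GQ
open Groth.Agent.Helper9.GrLCLib Groth.Agent.Helper8.Ver

section Pull

variable {P : Type u} [CommRing P] (𝒜 : ℤ → AddSubgroup P) [GradedRing 𝒜] {V : Type u} [CommRing V]
  (φ : V →+* P) (q : ℕ)

/-- the pulled back family of pieces -/
def pullFam : ℤ → AddSubgroup V := fun j => (𝒜 (j * q)).comap (φ : V →+ P)

lemma mem_pullFam {j : ℤ} {x : V} : x ∈ pullFam 𝒜 φ q j ↔ φ x ∈ 𝒜 (j * q) := Iff.rfl

variable (hq : 0 < q) (hφ : Function.Injective φ)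
  (hrange : ∀ p : P, p ∈ φ.range ↔ p ∈ verAdd 𝒜 q)

include hq in
lemma mul_right_inj_q : Function.Injective (fun j : ℤ => j * (q : ℤ)) := by
  intro a b h
  have hq' : (q : ℤ) ≠ 0 := by exact_mod_cast hq.ne'
  exact mul_right_cancel₀ hq' h

include hq in
lemma proj_coe_pull (y : ⨁ j, pullFam 𝒜 φ q j) (j₀ : ℤ) :
    proj 𝒜 (j₀ * q) (φ (DirectSum.coeAddMonoidHom (pullFam 𝒜 φ q) y)) = φ (y j₀ : V) := by
  induction y using DirectSum.induction_on with
  | zero => simp
  | of g n =>
    rw [DirectSum.coeAddMonoidHom_of]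
    have hn : φ (n : V) ∈ 𝒜 (g * q) := n.2
    by_cases hg : g = j₀
    · subst hg
      rw [proj_of_mem_same 𝒜 hn, DirectSum.of_eq_same]
    · have hne : g * (q : ℤ) ≠ j₀ * q := fun h => hg (mul_right_inj_q q hq h)
      rw [proj_of_mem_ne 𝒜 hn hne, DirectSum.of_eq_of_ne _ _ _ (Ne.symm hg)]
      simp
  | add x y hx hy =>
    rw [map_add, map_add, map_add, hx, hy, DirectSum.add_apply, AddSubgroup.coe_add, map_add]

include hq hφ in
lemma coe_pull_injective : Function.Injective (DirectSum.coeAddMonoidHom (pullFam 𝒜 φ q)) := by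
  rw [injective_iff_map_eq_zero]
  intro y hy
  ext j₀
  have := proj_coe_pull 𝒜 φ q hq y j₀
  rw [hy, map_zero, map_zero] at this
  apply hφ
  rw [← this]
  simp

open scoped Classical in
include hq hφ hrange in
lemma coe_pull_surjective : Function.Surjective (DirectSum.coeAddMonoidHom (pullFam 𝒜 φ q)) := by
  intro x
  have hx : φ x ∈ verAdd 𝒜 q := (hrange _).mp (RingHom.mem_range.mpr ⟨x, rfl⟩)
  have hex : ∀ i : ℤ, ∃ v : V, φ v = proj 𝒜 i (φ x) := fun i =>
    RingHom.mem_range.mp ((hrange _).mpr (proj_mem_verAdd 𝒜 q hx i))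
  choose c hc using hex
  have hmem : ∀ i : ℤ, c i ∈ pullFam 𝒜 φ q (i / q) := by
    intro i
    rw [mem_pullFam, hc]
    by_cases hi : (q : ℤ) ∣ i
    · rw [Int.ediv_mul_cancel hi]; exact proj_mem 𝒜 i _
    · rw [hx i hi]; exact zero_mem _
  refine ⟨∑ i ∈ (decompose 𝒜 (φ x)).support,
    DirectSum.of (fun j => pullFam 𝒜 φ q j) (i / q) ⟨c i, hmem i⟩, ?_⟩
  apply hφ
  rw [map_sum, map_sum]
  simp only [DirectSum.coeAddMonoidHom_of, hc]
  exact DirectSum.sum_support_decompose 𝒜 (φ x)

include hq hφ hrange in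
lemma pull_isInternal : DirectSum.IsInternal (pullFam 𝒜 φ q) :=
  ⟨coe_pull_injective 𝒜 φ q hq hφ, coe_pull_surjective 𝒜 φ q hq hφ hrange⟩

lemma pull_gradedMonoid : SetLike.GradedMonoid (pullFam 𝒜 φ q) where
  one_mem := by
    rw [mem_pullFam, map_one, zero_mul]
    exact SetLike.GradedOne.one_mem
  mul_mem := by
    intro i j a b ha hb
    rw [mem_pullFam, map_mul, add_mul]
    exact SetLike.GradedMul.mul_mem ((mem_pullFam 𝒜 φ q).mp ha) ((mem_pullFam 𝒜 φ q).mp hb)

/-- the grading of the abstractly presented Veronese subring -/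
@[reducible]
noncomputable def pullGradedRing : GradedRing (pullFam 𝒜 φ q) :=
  { pull_gradedMonoid 𝒜 φ q, (pull_isInternal 𝒜 φ q hq hφ hrange).chooseDecomposition with }

include hrange in
/-- the Veronese datum of the abstractly presented Veronese subring -/
def pullVerData : VerData 𝒜 (pullFam 𝒜 φ q) where
  φ := φ
  q := q
  hq := hq
  inj := hφ
  deg := by
    intro j
    ext x
    constructor
    · rintro ⟨v, hv, rfl⟩
      exact hv
    · intro hx
      obtain ⟨v, rfl⟩ := RingHom.mem_range.mp ((hrange x).mpr (mem_verAdd_of_mem 𝒜 q hx))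
      exact ⟨v, hx, rfl⟩

end Pull

end Groth.Agent.Helper8.GQ
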