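import Mathlib
import Groth.Prelude.Def_GrLC
import Groth.Prelude.Def_GrLC2
import Groth.Prelude.Def_CAlg
import Groth.Agent.Lib.Helper8.GV4
import Groth.Agent.Lib.Helper8.GV6
import Groth.Agent.Lib.Helper8.GV7
import Groth.Agent.Lib.Helper8.GB4

/-!
# Veronese subrings of Gorenstein graded rings, VI: the type (helper8)

`veronese_local`: for a standard graded Gorenstein ring `R` over a field and its Veronese `V = R^(q)` with
irrelevant ideal `m'`, the local cohomology of `A = V_{m'}` is concentrated in degree `n = dim R` and the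
socle of `H^n(A)` has length `dim_k R_ρ`, `ρ` the remainder of `a(R)` modulo `q`.
-/

set_option autoImplicit false
set_option linter.unusedSectionVars false
universe u
open DirectSum CategoryTheory

namespace Groth.Agent.Helper8.GV
open Groth.Agent.Helper9.GrLCLib Groth.Agent.Helper8.GD Groth.Agent.Helper8.Ver Groth.Agent.Helper8.GB
open LocCoh IsLocalRing

section Main

variable {R : Type u} [CommRing R] [IsNoetherianRing R] {𝒜 : ℤ → AddSubgroup R} [GradedRing 𝒜]
  {m : HomogeneousIdeal 𝒜} (hF : FieldGr 𝒜 m)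
  (hstd : Ideal.span (⋃ n ∈ Set.Ioi (0 : ℤ), (𝒜 n : Set R)) = Ideal.span ((𝒜 1 : AddSubgroup R) : Set R))
variable {V : Type u} [CommRing V] {𝒜' : ℤ → AddSubgroup V} [GradedRing 𝒜'] (D : VerData 𝒜 𝒜')

include hF hstd in
/-- **The local cohomology of the Veronese of a standard graded Gorenstein ring, at the irrelevant ideal.** -/
theorem veronese_local [hG : IsGorensteinRing R] (n : ℕ) (hn : ringKrullDim R = n)
    (I : GrLC.StarInjRes 𝒜 𝒜) (a : ℤ)
    (ha : GrLC.endDeg (I.Hgr m n) = ((a : WithTop ℤ) : WithBot (WithTop ℤ)))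
    (m' : HomogeneousIdeal 𝒜') [hm' : m'.toIdeal.IsMaximal]
    (hm'sp : m'.toIdeal = Ideal.span (⋃ j ∈ Set.Ioi (0 : ℤ), (𝒜' j : Set V)))
    (ρ : ℤ) (hρ0 : 0 ≤ ρ) (hρq : ρ < D.q) (hρa : (D.q : ℤ) ∣ a - ρ) :
    (∀ i : ℕ, i ≠ n → Subsingleton (H (maximalIdeal (Localization.AtPrime m'.toIdeal)) i
      (Localization.AtPrime m'.toIdeal))) ∧
    Module.length (Localization.AtPrime m'.toIdeal)
      ((Localization.AtPrime m'.toIdeal ⧸ maximalIdeal (Localization.AtPrime m'.toIdeal))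
        →ₗ[Localization.AtPrime m'.toIdeal]
          H (maximalIdeal (Localization.AtPrime m'.toIdeal)) n (Localization.AtPrime m'.toIdeal)) =
      (Module.finrank (GrLC.deg0 𝒜) (GrLC.comp 𝒜 𝒜 ρ) : ℕ∞) := by
  classical
  haveI : IsNoetherianRing V := isNoetherianRing_ver D
  haveI hmax : m.toIdeal.IsMaximal := hF.isMaximal
  haveI hprime : m.toIdeal.IsPrime := hmax.isPrime
  have hF' : FieldGr 𝒜' m' := fieldGr_ver D hF m' hm'sp
  have hc : IdealCompat D m m' := idealCompat_irrelevant D m m' hF.span hm'sp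
  obtain ⟨EG, e, he⟩ := exists_starInjHull_quot 𝒜 m
  obtain ⟨I'⟩ := Groth.Agent.S13215.result V 𝒜' V 𝒜'
  have hGloc : IsGorensteinLocalRing (Localization.AtPrime m.toIdeal) :=
    hG.isGorensteinLocalRing_localization m.toIdeal
  have hnloc : ringKrullDim (Localization.AtPrime m.toIdeal) = n := by
    rw [ringKrullDim_atPrime hF, hn]
  obtain ⟨hvan, g₀, β, hβ⟩ := exists_grEquiv_of_gorenstein hF he I n hGloc hnloc
  have hag : g₀ = a := by
    have h1 := endDeg_of_grEquiv hF he I n g₀ β hβ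
    rw [ha] at h1
    exact (WithTop.coe_injective (WithBot.coe_injective h1)).symm
  subst hag
  obtain ⟨c, hc'⟩ := hρa
  have hac : g₀ = ρ + c * D.q := by
    have : g₀ = ρ + (g₀ - ρ) := by ring
    rw [this, hc']; ring
  -- comparison maps
  have hΦ := fun p => exists_hom_starInjRes (D := D) 𝒜 𝒜' (phiSemi D) D.inj (fun j => D.deg j)
    hc I I' p
  have hvan' : ∀ i : ℕ, i ≠ n → Subsingleton (I'.H m' i) := by
    intro i hi
    obtain ⟨Φ, hΦi, -, -⟩ := hΦ i
    haveI := hvan i hi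
    exact hΦi.subsingleton
  constructor
  · intro i hi
    obtain ⟨Θ, -⟩ := exists_theta_LCgr 𝒜' 𝒜' m' I' i
    haveI := hvan' i hi
    haveI : Subsingleton (H m'.toIdeal i V) := Θ.symm.toEquiv.subsingleton
    obtain ⟨ε⟩ := nonempty_locH_equiv m'.toIdeal i
    exact ε.symm.toEquiv.subsingleton
  · obtain ⟨Φ, hΦi, hΦs, hΦg⟩ := hΦ n
    obtain ⟨Θ, -⟩ := exists_theta_LCgr 𝒜' 𝒜' m' I' n
    obtain ⟨ε⟩ := nonempty_locH_equiv m'.toIdeal n
    -- graded structures on the cohomology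
    let X : GrLC.GMod.{u} 𝒜 := HGMod 𝒜 𝒜 I m n
    have hXgr : X.gr = I.Hgr m n := HGMod_gr 𝒜 𝒜 I m n
    let βX : EG.carrier ≃ₗ[R] X.carrier := β
    have hβX : GrLC.IsGrHomDeg EG.gr X.gr βX.toLinearMap g₀ := by rw [hXgr]; exact hβ
    have hβs := symm_isGrHomDeg' EG.gr X.gr βX hβX
    let Ψ : I'.H m' n →+ EG.carrier := (β.symm.toLinearMap.toAddMonoidHom).comp Φ
    have hΨ : ∀ t, Ψ t = β.symm (Φ t) := fun _ => rfl
    have hK : ∀ v : V, ∃ c ∈ GrLC.deg0 𝒜', v - c ∈ m'.toIdeal := fun v =>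
      ⟨proj 𝒜' 0 v, proj_mem 𝒜' 0 v, hF'.sub_proj_zero_mem v⟩
    let ΨX : (HGMod 𝒜' 𝒜' I' m' n).carrier →+ EG.carrier := Ψ
    have hΨX : ∀ t : (HGMod 𝒜' 𝒜' I' m' n).carrier, ΨX t = β.symm (Φ t) := fun _ => rfl
    have hlen : Module.length (GrLC.deg0 𝒜') (socK (GrLC.deg0 𝒜') m'.toIdeal (I'.H m' n)) =
        (Module.finrank (GrLC.deg0 𝒜) (GrLC.comp 𝒜 𝒜 ρ) : ℕ∞) :=
      length_socK_eq (T := (HGMod 𝒜' 𝒜' I' m' n).carrier) D hF hF' hstd he
        (HGMod 𝒜' 𝒜' I' m' n).gr ΨX (β.symm.injective.comp hΦi)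
        (fun v t => (congrArg (fun z => β.symm z) (hΦs v t)).trans
          (β.symm.map_smul (D.φ v) (Φ t))) g₀ ρ c hac hρ0 hρq
        (fun j t ht => by
          have h1 : t ∈ I'.Hcomp m' n j := (mem_HGMod_gr_iff 𝒜' 𝒜' I' m' n j t).mp ht
          have h2 : Φ t ∈ I.Hgr m n (j * D.q) := (hΦg j _).mpr ⟨t, h1, rfl⟩
          have h3 : β.symm (Φ t) ∈ EG.gr (j * D.q + -g₀) := hβs _ _ (hXgr ▸ h2)
          rw [sub_eq_add_neg]
          exact h3)
        (fun y hy => by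
          have h1 : β y ∈ I.Hgr m n (-ρ + g₀) := hβ _ _ hy
          have h2 : -ρ + g₀ = c * D.q := by rw [hac]; ring
          rw [h2] at h1
          obtain ⟨x, hx, hxy⟩ := (hΦg c _).mp h1
          refine ⟨x, (mem_HGMod_gr_iff 𝒜' 𝒜' I' m' n c x).mpr hx, ?_⟩
          show β.symm (Φ x) = y
          rw [hxy, LinearEquiv.symm_apply_apply])
    have h1 := length_hom_residue_localized m'.toIdeal (GrLC.deg0 𝒜') hK
      (isPowerTorsion_H m'.toIdeal n V)
    have h2 := (socKCongr (GrLC.deg0 𝒜') m'.toIdeal Θ).length_eq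
    have h3 := (LinearEquiv.congrRight (M := Localization.AtPrime m'.toIdeal ⧸
      maximalIdeal (Localization.AtPrime m'.toIdeal)) ε).length_eq
    exact h3.symm.trans (h1.trans (h2.symm.trans hlen))

end Main

end Groth.Agent.Helper8.GV
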