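import Mathlib
import Groth.Prelude.Def_GrLC
import Groth.Prelude.Def_GrLC2
import Groth.Agent.Lib.Helper8.GQ1
import Groth.Agent.Lib.Helper8.GP3
import Groth.Agent.Lib.Helper8.GV8
import Groth.Agent.S18655

/-!
# The type of a Veronese subring of a polynomial ring (helper8)

`main`: the type of `k[X_1, …, X_s]^(d)` is `(n - 1).choose (s - 1)` for `n` the least multiple of `d` with `n ≥ s`.
-/

set_option autoImplicit false
set_option linter.unusedSectionVars false
universe u
open DirectSum MvPolynomial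

attribute [local instance] MvPolynomial.weightedGradedAlgebra

namespace Groth.Agent.Helper8.GQ
open Groth.Agent.Helper9.GrLCLib Groth.Agent.Helper8.GD Groth.Agent.Helper8.GB Groth.Agent.Helper8.GV
open Groth.Agent.Helper8.Ver Groth.Agent.Helper8.GP
open LocCoh IsLocalRing

section Poly

variable (k : Type u) [Field k] (s : ℕ)

/-- all weights one -/
def w1 : Fin s → ℤ := fun _ => 1

lemma w1_pos : ∀ i, 0 < w1 s i := fun _ => Int.one_pos

lemma weight_w1 (d : Fin s →₀ ℕ) : Finsupp.weight (w1 s) d = (d.degree : ℤ) := by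
  rw [Finsupp.weight_eq_sum, Finsupp.degree_eq_sum]
  push_cast
  apply Finset.sum_congr rfl
  intro i _
  simp [w1]

variable {s}

lemma proj_AG_eq (w : Fin s → ℤ) (p : MvPolynomial (Fin s) k) (i : ℤ) :
    proj (AG k s w) i p = weightedHomogeneousComponent w i p := by
  rw [proj_apply, Trans.decompose_toAG_coe]
  exact MvPolynomial.weightedDecomposition.decompose'_apply k w p i

/-- membership in the Veronese subgroup in terms of monomials -/
lemma mem_verAdd_iff (q : ℕ) (p : MvPolynomial (Fin s) k) :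
    p ∈ verAdd (AG k s (w1 s)) q ↔ ∀ d : Fin s →₀ ℕ, coeff d p ≠ 0 → q ∣ d.degree := by
  classical
  constructor
  · intro hp d hd
    by_contra hq
    have hq' : ¬ ((q : ℤ) ∣ Finsupp.weight (w1 s) d) := by
      rw [weight_w1]
      exact fun h => hq (by exact_mod_cast h)
    have h1 := hp _ hq'
    rw [proj_AG_eq] at h1
    have h2 := congrArg (coeff d) h1
    rw [coeff_weightedHomogeneousComponent, if_pos rfl, coeff_zero] at h2
    exact hd h2
  · intro hp i hi
    rw [proj_AG_eq]
    ext d
    rw [coeff_weightedHomogeneousComponent, coeff_zero]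
    split_ifs with h
    · by_contra hne
      apply hi
      rw [← h, weight_w1]
      exact_mod_cast hp d hne
    · rfl

/-- the condition of the statement in terms of monomials -/
lemma forall_homogeneousComponent_iff (q : ℕ) (p : MvPolynomial (Fin s) k) :
    (∀ j : ℕ, ¬ q ∣ j → homogeneousComponent j p = 0) ↔
      ∀ d : Fin s →₀ ℕ, coeff d p ≠ 0 → q ∣ d.degree := by
  classical
  constructor
  · intro hp d hd
    by_contra hq
    have h2 := congrArg (coeff d) (hp _ hq)
    rw [coeff_homogeneousComponent, if_pos rfl, coeff_zero] at h2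
    exact hd h2
  · intro hp j hj
    ext d
    rw [coeff_homogeneousComponent, coeff_zero]
    split_ifs with h
    · by_contra hne
      apply hj
      rw [← h]
      exact hp d hne
    · rfl

/-- the degree zero part is a copy of `k` -/
noncomputable def toDeg0 (w : Fin s → ℤ) : k → GrLC.deg0 (AG k s w) :=
  fun c => ⟨algebraMap k (MvPolynomial (Fin s) k) c, isWeightedHomogeneous_C w c⟩

lemma toDeg0_bijective {w : Fin s → ℤ} (hw : ∀ i, 0 < w i) : Function.Bijective (toDeg0 k w) := by
  constructor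
  · intro a b h
    have h1 : C (σ := Fin s) a = C b := congrArg Subtype.val h
    exact C_injective _ _ h1
  · rintro ⟨x, hx⟩
    refine ⟨coeff 0 x, Subtype.ext ?_⟩
    exact (eq_C_of_mem_zero k hw hx).symm

/-- the number of monomials -/
lemma finrank_comp_w1 (ρ : ℕ) :
    Module.finrank (GrLC.deg0 (AG k s (w1 s))) (GrLC.comp (AG k s (w1 s)) (AG k s (w1 s)) (ρ : ℤ)) =
      (s + ρ - 1).choose ρ := by
  classical
  have hrank : Module.rank k (weightedHomogeneousSubmodule k (w1 s) (ρ : ℤ)) =
      Module.rank (GrLC.deg0 (AG k s (w1 s)))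
        (GrLC.comp (AG k s (w1 s)) (AG k s (w1 s)) (ρ : ℤ)) :=
    rank_eq_of_semilinear (toDeg0 k (w1 s)) (toDeg0_bijective k (w1_pos s))
      (weightedHomogeneousSubmodule k (w1 s) (ρ : ℤ))
      (GrLC.comp (AG k s (w1 s)) (AG k s (w1 s)) (ρ : ℤ)) (AddMonoidHom.id _)
      Function.injective_id (fun c x => Algebra.smul_def c x)
      (fun y => ⟨fun hy => ⟨y, hy, rfl⟩, fun ⟨x, hx, hxy⟩ => hxy ▸ hx⟩)
  have hfr : Module.finrank (GrLC.deg0 (AG k s (w1 s)))
      (GrLC.comp (AG k s (w1 s)) (AG k s (w1 s)) (ρ : ℤ)) =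
      Module.finrank k (weightedHomogeneousSubmodule k (w1 s) (ρ : ℤ)) := by
    unfold Module.finrank
    rw [hrank]
  rw [hfr]
  let F : Finset (Fin s →₀ ℕ) := (Finset.univ : Finset (Fin s)).finsuppAntidiag ρ
  have hF : ∀ d : Fin s →₀ ℕ, d ∈ F ↔ d ∈ {d : Fin s →₀ ℕ | Finsupp.weight (w1 s) d = (ρ : ℤ)} := by
    intro d
    rw [Finset.mem_finsuppAntidiag, Set.mem_setOf_eq, weight_w1, Finsupp.degree_eq_sum]
    constructor
    · rintro ⟨h, -⟩
      exact_mod_cast h
    · intro h
      exact ⟨by exact_mod_cast h, Finset.subset_univ _⟩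
  letI : Fintype ↥{d : Fin s →₀ ℕ | Finsupp.weight (w1 s) d = (ρ : ℤ)} := Fintype.subtype F hF
  have e := (LinearEquiv.ofEq _ _
    (weightedHomogeneousSubmodule_eq_finsupp_supported k (w1 s) (ρ : ℤ))).trans
    (AddMonoidAlgebra.supportedEquivFinsupp (R := k) (S := k)
      {d : Fin s →₀ ℕ | Finsupp.weight (w1 s) d = (ρ : ℤ)})
  rw [e.finrank_eq, Module.finrank_finsupp_self]
  have h1 : Fintype.card ↥{d : Fin s →₀ ℕ | Finsupp.weight (w1 s) d = (ρ : ℤ)} = F.card :=
    Fintype.subtype_card F hF
  rw [h1, Finset.card_finsuppAntidiag_nat_eq_choose, Finset.card_univ, Fintype.card_fin]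

end Poly

end Groth.Agent.Helper8.GQ
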