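import Mathlib
import Groth.Prelude.Def_GrLC
import Groth.Prelude.Def_GrLC2
import Groth.Agent.Lib.Helper8.GQ2

/-!
# The type of a Veronese subring of a polynomial ring, II (helper8)

* `endDeg_poly`: `a(k[X_1, …, X_N]) = -Σ w_i` for the weighted grading.
* `main`: the type of `k[X_1, …, X_s]^(d)` is `(n - 1).choose (s - 1)` for `n` the least multiple of `d` with `n ≥ s`.
-/

set_option autoImplicit false
set_option linter.unusedSectionVars false
universe u
open DirectSum MvPolynomial

attribute [local instance] MvPolynomial.weightedGradedAlgebra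

namespace Groth.Agent.Helper8.GQ
open Groth.Agent.Helper9.GrLCLib Groth.Agent.Helper8.GD Groth.Agent.Helper8.GB Groth.Agent.Helper8.GV
open Groth.Agent.Helper8.Ver Groth.Agent.Helper8.GP
open LocCoh IsLocalRing

section AInv

variable (k : Type u) [Field k] (N : ℕ) (w : Fin N → ℤ)

/-- the irrelevant ideal of the weighted polynomial ring -/
noncomputable def irrSub : HomogeneousIdeal (MvPolynomial.weightedHomogeneousSubmodule k w) :=
  ⟨Ideal.span (⋃ n ∈ Set.Ioi (0 : ℤ),
    (MvPolynomial.weightedHomogeneousSubmodule k w n : Set (MvPolynomial (Fin N) k))), by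
    apply Ideal.homogeneous_span
    intro x hx
    simp only [Set.mem_iUnion, Set.mem_Ioi, SetLike.mem_coe] at hx
    obtain ⟨n, -, hxn⟩ := hx
    exact ⟨n, hxn⟩⟩

lemma irrSub_toIdeal : (irrSub k N w).toIdeal = Ideal.span (⋃ n ∈ Set.Ioi (0 : ℤ),
    (MvPolynomial.weightedHomogeneousSubmodule k w n : Set (MvPolynomial (Fin N) k))) := rfl

variable {N w}

/-- **The `a`-invariant of a weighted polynomial ring.** -/
theorem endDeg_poly (hw : ∀ i, 0 < w i) (I : GrLC.StarInjRes (AG k N w) (AG k N w)) :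
    GrLC.endDeg (I.Hgr (Trans.idealToAG _ (irrSub k N w)) N) =
      (((-(Finset.univ : Finset (Fin N)).sum w : ℤ) : WithTop ℤ) : WithBot (WithTop ℤ)) := by
  classical
  obtain ⟨m, hm⟩ : ∃ m, m = irrSub k N w := ⟨_, rfl⟩
  rw [← hm]
  have hmsp : m.toIdeal = Ideal.span (⋃ n ∈ Set.Ioi (0 : ℤ),
      (MvPolynomial.weightedHomogeneousSubmodule k w n : Set (MvPolynomial (Fin N) k))) := by
    rw [hm]; rfl
  have hF : FieldGr (AG k N w) (Trans.idealToAG _ m) := fieldGr_weighted k hw m hmsp
  obtain ⟨EG, e, he'⟩ := exists_starInjHull_quot (AG k N w) (Trans.idealToAG _ m)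
  have hG : IsGorensteinRing (MvPolynomial (Fin N) k) :=
    Groth.Agent.Helper3.KosBC.isGorensteinRing_mvPolynomial k
      (Groth.Agent.Helper8.GorFlat.isGorensteinRing_of_field k) N
  haveI hCM : LocCoh.IsCohenMacaulayRing (MvPolynomial (Fin N) k) :=
    Groth.Agent.Helper8.GorFlat.isCohenMacaulayRing_of_isGorensteinRing _ hG
  have hdim : ringKrullDim (MvPolynomial (Fin N) k) = (N : ℕ) := by
    rw [MvPolynomial.ringKrullDim_of_isNoetherianRing, ringKrullDim_eq_zero_of_field, zero_add,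
      Nat.card_fin]
  haveI hmax : (Trans.idealToAG _ m).toIdeal.IsMaximal := hF.isMaximal
  haveI hprime : (Trans.idealToAG _ m).toIdeal.IsPrime := hmax.isPrime
  have hGloc : IsGorensteinLocalRing (Localization.AtPrime (Trans.idealToAG _ m).toIdeal) :=
    hG.isGorensteinLocalRing_localization (Trans.idealToAG _ m).toIdeal
  have hnloc : ringKrullDim (Localization.AtPrime (Trans.idealToAG _ m).toIdeal) = N := by
    rw [ringKrullDim_atPrime hF, hdim]
  obtain ⟨-, g₀, β, hβ⟩ := exists_grEquiv_of_gorenstein hF he' I N hGloc hnloc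
  have hend := endDeg_of_grEquiv hF he' I N g₀ β hβ
  letI i3 := quotGrDecomposition (AG k N w) (Trans.idealToAG _ m)
  letI i4 := quotGrGradedSMul (AG k N w) (Trans.idealToAG _ m)
  obtain ⟨F⟩ := Groth.Agent.S13215.result (MvPolynomial (Fin N) k) (AG k N w)
    (MvPolynomial (Fin N) k ⧸ (Trans.idealToAG _ m).toIdeal)
    (GrLC.quotGr (AG k N w) (Trans.idealToAG _ m))
  have hπk : LinearMap.ker (Submodule.mkQ (Trans.idealToAG _ m).toIdeal) =
      (Trans.idealToAG _ m).toIdeal := Submodule.ker_mkQ _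
  have hπ : GrLC.IsGrHom (AG k N w) (GrLC.quotGr (AG k N w) (Trans.idealToAG _ m))
      (Submodule.mkQ (Trans.idealToAG _ m).toIdeal) := fun g x hx => ⟨x, hx, rfl⟩
  have h0 := endDeg_H_zero_of_residue hF (GrLC.quotGr (AG k N w) (Trans.idealToAG _ m))
    (Submodule.mkQ (Trans.idealToAG _ m).toIdeal) hπ (Submodule.mkQ_surjective _) hπk F
  have hspanX : (Trans.idealToAG _ m).toIdeal =
      Ideal.span (Set.range (X : Fin N → MvPolynomial (Fin N) k)) := irr_eq_span_X k hw m hmsp
  have ha := Groth.Agent.S18645.result (MvPolynomial (Fin N) k) (AG k N w) hF.pos hF.field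
    (Trans.idealToAG _ m) (isStarLocal_of_fieldGr hF) hF.span N hdim I N le_rfl
    (X : Fin N → MvPolynomial (Fin N) k) w (fun i => isWeightedHomogeneous_X k w i)
    (fun i => by rw [hspanX]; exact Ideal.subset_span ⟨i, rfl⟩) (isRegular_X k N)
    (MvPolynomial (Fin N) k ⧸ (Trans.idealToAG _ m).toIdeal)
    (GrLC.quotGr (AG k N w) (Trans.idealToAG _ m))
    (Submodule.mkQ (Trans.idealToAG _ m).toIdeal) hπ (Submodule.mkQ_surjective _)
    (hπk.trans hspanX) F
  rw [Nat.sub_self, h0, hend] at ha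
  have hg : g₀ = - (Finset.univ : Finset (Fin N)).sum w := by
    rw [← WithBot.coe_add, ← WithTop.coe_add] at ha
    have h := WithTop.coe_injective (WithBot.coe_injective ha)
    omega
  rw [hend, hg]

end AInv

section Main

/-- **The type of a Veronese subring of a polynomial ring.** -/
theorem main (k : Type u) [Field k] (s d : ℕ) (hs : 1 ≤ s) (hd : 1 ≤ d) (R' : Type u) [CommRing R']
    (φ : R' →+* MvPolynomial (Fin s) k) (hφ : Function.Injective φ)
    (hrange : ∀ p : MvPolynomial (Fin s) k, p ∈ φ.range ↔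
      ∀ j : ℕ, ¬ d ∣ j → MvPolynomial.homogeneousComponent j p = 0)
    (m' : Ideal R') [hm'max : m'.IsMaximal]
    (hm' : m' = Ideal.comap φ
      (RingHom.ker (MvPolynomial.constantCoeff : MvPolynomial (Fin s) k →+* k)))
    (n : ℕ) (hsn : s ≤ n) (hdn : d ∣ n) (hmin : ∀ n' : ℕ, s ≤ n' → d ∣ n' → n ≤ n') :
    GrLC.bassNum m' R' s = (Nat.choose (n - 1) (s - 1) : ℕ∞) := by
  classical
  have hw := w1_pos s
  have hrange' : ∀ p, p ∈ φ.range ↔ p ∈ verAdd (AG k s (w1 s)) d := fun p => by
    rw [hrange, forall_homogeneousComponent_iff, mem_verAdd_iff]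
  letI iGR : GradedRing (pullFam (AG k s (w1 s)) φ d) :=
    pullGradedRing (AG k s (w1 s)) φ d hd hφ hrange'
  let D : VerData (AG k s (w1 s)) (pullFam (AG k s (w1 s)) φ d) :=
    pullVerData (AG k s (w1 s)) φ d hd hφ hrange'
  have hF : FieldGr (AG k s (w1 s)) (Trans.idealToAG _ (irrSub k s (w1 s))) :=
    fieldGr_weighted k hw (irrSub k s (w1 s)) rfl
  have hF' : FieldGr (pullFam (AG k s (w1 s)) φ d) (irrIdeal (pullFam (AG k s (w1 s)) φ d)) :=
    fieldGr_ver D hF (irrIdeal _) rfl
  haveI hmax' : (irrIdeal (pullFam (AG k s (w1 s)) φ d)).toIdeal.IsMaximal := hF'.isMaximal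
  -- identify the ideal
  have hirr : (irrIdeal (pullFam (AG k s (w1 s)) φ d)).toIdeal = m' := by
    rw [hm']
    apply hmax'.eq_of_le
    · intro htop
      have h1 : (1 : R') ∈ Ideal.comap φ (RingHom.ker
          (MvPolynomial.constantCoeff : MvPolynomial (Fin s) k →+* k)) := by
        rw [htop]; trivial
      rw [Ideal.mem_comap, RingHom.mem_ker, map_one, map_one] at h1
      exact one_ne_zero h1
    · rw [irrIdeal_toIdeal]
      apply Ideal.span_le.mpr
      intro x hx
      simp only [Set.mem_iUnion, Set.mem_Ioi, SetLike.mem_coe] at hx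
      obtain ⟨j, hj, hxj⟩ := hx
      rw [SetLike.mem_coe, Ideal.mem_comap, RingHom.mem_ker]
      have h2 : IsWeightedHomogeneous (w1 s) (φ x) (j * d) := hxj
      show coeff 0 (φ x) = 0
      by_contra hne
      have h3 := h2 hne
      rw [map_zero] at h3
      have h4 : (0 : ℤ) < j * d := mul_pos hj (by exact_mod_cast hd)
      exact absurd h3 (ne_of_lt h4)
  -- the polynomial ring
  have hG : IsGorensteinRing (MvPolynomial (Fin s) k) :=
    Groth.Agent.Helper3.KosBC.isGorensteinRing_mvPolynomial k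
      (Groth.Agent.Helper8.GorFlat.isGorensteinRing_of_field k) s
  haveI := hG
  have hdim : ringKrullDim (MvPolynomial (Fin s) k) = (s : ℕ) := by
    rw [MvPolynomial.ringKrullDim_of_isNoetherianRing, ringKrullDim_eq_zero_of_field, zero_add,
      Nat.card_fin]
  obtain ⟨I⟩ := Groth.Agent.S13215.result (MvPolynomial (Fin s) k) (AG k s (w1 s))
    (MvPolynomial (Fin s) k) (AG k s (w1 s))
  have ha := endDeg_poly k hw I
  have hsum : (Finset.univ : Finset (Fin s)).sum (w1 s) = (s : ℤ) := by simp [w1]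
  rw [hsum] at ha
  have hstd : Ideal.span (⋃ n ∈ Set.Ioi (0 : ℤ),
      (AG k s (w1 s) n : Set (MvPolynomial (Fin s) k))) =
      Ideal.span ((AG k s (w1 s) 1 : AddSubgroup (MvPolynomial (Fin s) k)) :
        Set (MvPolynomial (Fin s) k)) := by
    apply le_antisymm
    · have h1 := irr_eq_span_X k hw (irrSub k s (w1 s)) rfl
      have h2 : Ideal.span (⋃ n ∈ Set.Ioi (0 : ℤ),
          (AG k s (w1 s) n : Set (MvPolynomial (Fin s) k))) = (irrSub k s (w1 s)).toIdeal := rfl
      rw [h2, h1]
      apply Ideal.span_le.mpr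
      rintro _ ⟨i, rfl⟩
      apply Ideal.subset_span
      exact isWeightedHomogeneous_X k (w1 s) i
    · apply Ideal.span_mono
      intro x hx
      exact Set.mem_biUnion (Set.mem_Ioi.mpr one_pos) hx
  -- the numbers
  have hn0 : 0 < n := lt_of_lt_of_le hs hsn
  have hdn' : d ≤ n := Nat.le_of_dvd hn0 hdn
  have hρlt : n - s < d := by
    by_contra hge
    push Not at hge
    have h1 := hmin (n - d) (by omega) (Nat.dvd_sub hdn (dvd_refl d))
    omega
  have hρa : (d : ℤ) ∣ -(s : ℤ) - ((n - s : ℕ) : ℤ) := by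
    have h1 : -(s : ℤ) - ((n - s : ℕ) : ℤ) = -(n : ℤ) := by
      rw [Nat.cast_sub hsn]; ring
    rw [h1]
    exact dvd_neg.mpr (Int.natCast_dvd_natCast.mpr hdn)
  have key := Groth.Agent.S18655.result (MvPolynomial (Fin s) k) (AG k s (w1 s)) hF.pos hF.field
    (Trans.idealToAG _ (irrSub k s (w1 s))) (isStarLocal_of_fieldGr hF) hF.span hstd s hdim I
    (-(s : ℤ)) ha d hd R' (pullFam (AG k s (w1 s)) φ d) φ hφ D.deg
    (irrIdeal (pullFam (AG k s (w1 s)) φ d)) rfl ((n - s : ℕ) : ℤ) (Int.natCast_nonneg _)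
    (by exact_mod_cast hρlt) hρa
  rw [finrank_comp_w1] at key
  have hch : (s + (n - s) - 1).choose (n - s) = (n - 1).choose (s - 1) := by
    have h1 : s + (n - s) - 1 = n - 1 := by omega
    rw [h1]
    have h2 : n - s = (n - 1) - (s - 1) := by omega
    rw [h2, Nat.choose_symm (by omega)]
  rw [hch] at key
  have htr : ∀ (p q : Ideal R') [p.IsPrime] [q.IsPrime], p = q →
      GrLC.bassNum p R' s = GrLC.bassNum q R' s := by
    intro p q _ _ hpq
    subst hpq
    rfl
  exact (htr _ _ hirr).symm.trans key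

end Main

end Groth.Agent.Helper8.GQ
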