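import Mathlib
import Groth.Prelude.Def_CAlgX
import Groth.Prelude.Def_Found
import Groth.Agent.Lib.Helper8.PRad16
import Groth.Agent.Lib.Helper8.FlatReg9
import Groth.Agent.Lib.Helper8.AdicFS17
import Groth.Agent.Lib.Helper8.CohenFact1
import Groth.Agent.S9250

/-!
# Regularity of local rings under separable base field extension
-/

set_option autoImplicit false

namespace Groth.Agent.Helper8.GRBase

open IsLocalRing TensorProduct CAlgX

universe u

variable (k S k' : Type u) [Field k] [CommRing S] [Algebra k S] [IsNoetherianRing S] [Field k']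
  [Algebra k k'] [IsNoetherianRing (S ⊗[k] k')] (q' : Ideal (S ⊗[k] k')) [q'.IsPrime]

omit [IsNoetherianRing (S ⊗[k] k')] in
/-- Descent of regularity of local rings along base field extension. -/
theorem isRegularLocalRing_comap_of_tensor
    (h : IsRegularLocalRing (Localization.AtPrime q')) :
    IsRegularLocalRing (Localization.AtPrime (q'.comap (algebraMap S (S ⊗[k] k')))) := by
  haveI : q'.LiesOver (q'.comap (algebraMap S (S ⊗[k] k'))) := ⟨rfl⟩
  exact Groth.Agent.Helper8.FlatReg.isRegularLocalRing_of_flat_liesOver S (S ⊗[k] k')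
    (q'.comap (algebraMap S (S ⊗[k] k'))) q' h

/-- Ascent of regularity of local rings along a separable base field extension. -/
theorem isRegularLocalRing_tensor_of_comap [Algebra.FormallySmooth k k']
    (h : IsRegularLocalRing (Localization.AtPrime (q'.comap (algebraMap S (S ⊗[k] k'))))) :
    IsRegularLocalRing (Localization.AtPrime q') := by
  let q : Ideal S := q'.comap (algebraMap S (S ⊗[k] k'))
  haveI : IsRegularLocalRing (Localization.AtPrime q) := h
  haveI : IsRegularRing (Localization.AtPrime q) :=
    Groth.Agent.Helper8.CohenFact.isRegularRing_of_isRegularLocalRing _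
  let L := (S ⊗[k] k') ⊗[S] Localization.AtPrime q
  haveI : IsLocalization (Algebra.algebraMapSubmonoid (S ⊗[k] k') q.primeCompl) L :=
    IsLocalization.tensor (Localization.AtPrime q) q.primeCompl
  haveI : IsNoetherianRing L :=
    IsLocalization.isNoetherianRing (Algebra.algebraMapSubmonoid (S ⊗[k] k') q.primeCompl) L
      inferInstance
  let e₁ : L ≃+* Localization.AtPrime q ⊗[S] (S ⊗[k] k') :=
    (Algebra.TensorProduct.comm S (S ⊗[k] k') (Localization.AtPrime q)).toRingEquiv
  let e₂ : Localization.AtPrime q ⊗[S] (S ⊗[k] k') ≃+* Localization.AtPrime q ⊗[k] k' :=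
    (Algebra.TensorProduct.cancelBaseChange k S (Localization.AtPrime q) (Localization.AtPrime q)
      k').toRingEquiv
  haveI : IsNoetherianRing (Localization.AtPrime q ⊗[k] k') :=
    isNoetherianRing_of_ringEquiv _ (e₁.trans e₂)
  have hreg : CAlg.IsRegularHom (Localization.AtPrime q) (Localization.AtPrime q ⊗[k] k') :=
    Groth.Agent.Helper8.AdicFS.isRegularHom_of_formallySmooth _ _
  haveI : IsRegularRing (Localization.AtPrime q ⊗[k] k') :=
    Groth.Agent.S9250.result _ _ hreg
  haveI : IsRegularRing L := IsRegularRing.of_ringEquiv (e₁.trans e₂).symm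
  refine Groth.Agent.Helper8.PRad.isRegularLocalRing_atPrime_of_isLocalization
    (Algebra.algebraMapSubmonoid (S ⊗[k] k') q.primeCompl) (L := L) q' ?_
  rw [Set.disjoint_left]
  rintro _ ⟨a, ha, rfl⟩ haQ
  exact ha haQ

end Groth.Agent.Helper8.GRBase
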