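import Mathlib
import Groth.Prelude
import Groth.Agent.Lib.Helper8.GRing11
import Groth.Agent.Lib.Helper8.CplIsoFF

/-!
# G-rings via the generic formal fibres of the local rings of the quotient domains
-/

set_option autoImplicit false

universe u

namespace Groth.Agent.Helper8.GRing

open IsLocalRing TensorProduct CAlgX

/-- **Formal fibres through quotient domains**, generic fibre version. -/
theorem isGeometricallyRegular_fiber_of_quotient_localization' (R : Type u) [CommRing R]
    [IsNoetherianRing R] (p : Ideal R) [p.IsPrime]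
    (s : Ideal (Localization.AtPrime p)) [s.IsPrime]
    (p' : Ideal (R ⧸ s.under R)) [p'.IsPrime]
    (hp' : p'.comap (Ideal.Quotient.mk (s.under R)) = p)
    (H : CAlg.IsGeometricallyRegular (⊥ : Ideal (Localization.AtPrime p')).ResidueField
      ((⊥ : Ideal (Localization.AtPrime p')).Fiber (EGA4.Cpl (Localization.AtPrime p')))) :
    CAlg.IsGeometricallyRegular s.ResidueField
      (s.Fiber (EGA4.Cpl (Localization.AtPrime p))) := by
  haveI := isLocalization_quotient R p s p' hp'
  let e : Localization.AtPrime p' ≃ₐ[R ⧸ s.under R] (Localization.AtPrime p ⧸ s) :=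
    IsLocalization.algEquiv p'.primeCompl _ _
  have h1 : CAlg.IsGeometricallyRegular
      (⊥ : Ideal (Localization.AtPrime p ⧸ s)).ResidueField
      ((⊥ : Ideal (Localization.AtPrime p ⧸ s)).Fiber
        (EGA4.Cpl (Localization.AtPrime p ⧸ s))) := by
    refine Groth.Agent.Helper8.CplMap.isGeometricallyRegular_formalFibre_of_ringEquiv
      e.symm.toRingEquiv ⊥ ⊥ ?_ H
    exact Ideal.comap_bot_of_injective _ e.symm.injective
  exact isGeometricallyRegular_fiber_of_quotient (Localization.AtPrime p) s h1

/-- **S9257** -/
theorem isGRing_iff_generic_formalFibres (R : Type u) [CommRing R] [IsNoetherianRing R] :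
    CAlg.IsGRing R ↔
      ∀ (q : Ideal R) [q.IsPrime] (P : Ideal (R ⧸ q)) [P.IsPrime],
        CAlg.IsGeometricallyRegular (⊥ : Ideal (Localization.AtPrime P)).ResidueField
          (EGA4.formalFibre (Localization.AtPrime P) (⊥ : Ideal (Localization.AtPrime P))) := by
  constructor
  · intro h q _ P _
    have h1 : CAlg.IsGRing (R ⧸ q) := isGRing_of_finite R (R ⧸ q) h
    exact ((h1.2 P).2 ⊥).2
  · intro H
    refine ⟨inferInstance, fun p _ => ?_⟩
    refine isRegularHom_cpl_of_fibres (Localization.AtPrime p) (fun s _ => ?_)
    obtain ⟨p', hp'prime, hp'⟩ := exists_prime_quotient R p s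
    haveI := hp'prime
    exact isGeometricallyRegular_fiber_of_quotient_localization' R p s p' hp' (H (s.under R) p')

end Groth.Agent.Helper8.GRing
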