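import Mathlib
import Groth.Prelude
import Groth.Agent.Lib.Helper8.GSF1

/-!
# Generic splitting of a presentation along the associated primes of a base change

Pure algebra used for the base change of `T¹` of a flat local complete intersection with
generically smooth fibres.
-/

set_option autoImplicit false
set_option linter.style.haveILetI false

universe u

namespace Groth.Agent.Helper8.GSF

open TensorProduct

attribute [local instance] Algebra.TensorProduct.rightAlgebra

/-- an associated prime of `X →₀ N` is an associated prime of `N` -/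
theorem mem_associatedPrimes_of_finsupp {R : Type u} [CommRing R] [IsNoetherianRing R]
    {X N : Type u} [AddCommGroup N] [Module R N] (𝔓 : Ideal R)
    (h2 : 𝔓 ∈ associatedPrimes R (X →₀ N)) : 𝔓 ∈ associatedPrimes R N := by
  classical
  obtain ⟨hp, x, hx⟩ := (isAssociatedPrime_iff).mp h2
  have hle : (x.support.inf fun i => (Submodule.colon (⊥ : Submodule R N) {x i} : Ideal R)) ≤ 𝔓 := by
    intro r hr
    rw [hx, Submodule.mem_colon_singleton, Submodule.mem_bot]
    ext i
    by_cases hi : i ∈ x.support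
    · have h3 : r ∈ (Submodule.colon (⊥ : Submodule R N) {x i} : Ideal R) :=
        (Finset.inf_le hi : (x.support.inf fun i =>
          (Submodule.colon (⊥ : Submodule R N) {x i} : Ideal R)) ≤ _) hr
      rw [Submodule.mem_colon_singleton, Submodule.mem_bot] at h3
      rw [Finsupp.smul_apply, Finsupp.zero_apply]
      exact h3
    · rw [Finsupp.notMem_support_iff] at hi
      rw [Finsupp.smul_apply, Finsupp.zero_apply, hi, smul_zero]
  obtain ⟨i, hi, hile⟩ := (Ideal.IsPrime.inf_le' hp).mp hle
  refine (isAssociatedPrime_iff).mpr ⟨hp, x i, le_antisymm ?_ hile⟩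
  intro r hr
  rw [hx, Submodule.mem_colon_singleton, Submodule.mem_bot] at hr
  rw [Submodule.mem_colon_singleton, Submodule.mem_bot]
  have h4 := DFunLike.congr_fun hr i
  rw [Finsupp.smul_apply, Finsupp.zero_apply] at h4
  exact h4

/-- an associated prime of `N ⊗ F`, `F` projective, is an associated prime of `N` -/
theorem mem_associatedPrimes_of_tensor_projective {R : Type u} [CommRing R] [IsNoetherianRing R]
    (N F : Type u) [AddCommGroup N] [Module R N] [AddCommGroup F] [Module R F]
    [hF : Module.Projective R F] (𝔓 : Ideal R) (h : 𝔓 ∈ associatedPrimes R (N ⊗[R] F)) :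
    𝔓 ∈ associatedPrimes R N := by
  classical
  obtain ⟨s, hs⟩ := hF.out
  have hli : Function.LeftInverse ((Finsupp.linearCombination R (id : F → F)).lTensor N)
      (s.lTensor N) := by
    intro x
    rw [← LinearMap.comp_apply, ← LinearMap.lTensor_comp]
    have h1 : (Finsupp.linearCombination R (id : F → F)) ∘ₗ s = LinearMap.id := LinearMap.ext hs
    rw [h1, LinearMap.lTensor_id, LinearMap.id_apply]
  let e := TensorProduct.finsuppScalarRight R R N F
  have h2 : 𝔓 ∈ associatedPrimes R (F →₀ N) :=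
    associatedPrimes.subset_of_injective (f := e.toLinearMap ∘ₗ s.lTensor N)
      (e.injective.comp hli.injective) h
  exact mem_associatedPrimes_of_finsupp 𝔓 h2

/-- If the injection `i` has a retraction up to a scalar outside each associated prime of `R'`,
then `R' ⊗ i` is injective. -/
theorem injective_lTensor_of_forall_ass {R : Type u} [CommRing R] [IsNoetherianRing R]
    (R' : Type u) [AddCommGroup R'] [Module R R'] {F1 F0 : Type u} [AddCommGroup F1] [Module R F1]
    [AddCommGroup F0] [Module R F0] [Module.Projective R F1] (i : F1 →ₗ[R] F0)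
    (h : ∀ 𝔓 ∈ associatedPrimes R R', ∃ s : R, s ∉ 𝔓 ∧
      ∃ r : F0 →ₗ[R] F1, r ∘ₗ i = s • LinearMap.id) :
    Function.Injective (i.lTensor R') := by
  rw [← LinearMap.ker_eq_bot]
  by_contra hne
  haveI : Nontrivial (LinearMap.ker (i.lTensor R')) := Submodule.nontrivial_iff_ne_bot.mpr hne
  obtain ⟨𝔓, h𝔓⟩ := associatedPrimes.nonempty R (LinearMap.ker (i.lTensor R'))
  have h1 : 𝔓 ∈ associatedPrimes R (R' ⊗[R] F1) :=
    associatedPrimes.subset_of_injective (f := (LinearMap.ker (i.lTensor R')).subtype)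
      (Submodule.injective_subtype _) h𝔓
  have h2 := mem_associatedPrimes_of_tensor_projective R' F1 𝔓 h1
  obtain ⟨s, hs, r, hr⟩ := h 𝔓 h2
  obtain ⟨hp, x, hx⟩ := (isAssociatedPrime_iff).mp h𝔓
  apply hs
  rw [hx, Submodule.mem_colon_singleton, Submodule.mem_bot]
  apply Subtype.ext
  rw [Submodule.coe_smul, Submodule.coe_zero]
  have h3 : (r.lTensor R') ((i.lTensor R') x.1) = s • x.1 := by
    rw [← LinearMap.comp_apply, ← LinearMap.lTensor_comp, hr, LinearMap.lTensor_smul,
      LinearMap.lTensor_id]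
    rfl
  rw [← h3, LinearMap.mem_ker.mp x.2, map_zero]

/-- If `Ω = F0 / i(F1)` is finitely presented and projective at the prime `𝔓`, then `i` has a
retraction up to a scalar outside `𝔓`. -/
theorem exists_smul_retraction {R : Type u} [CommRing R] {F1 F0 Ω : Type u}
    [AddCommGroup F1] [Module R F1] [AddCommGroup F0] [Module R F0] [AddCommGroup Ω] [Module R Ω]
    [Module.FinitePresentation R Ω]
    (i : F1 →ₗ[R] F0) (π : F0 →ₗ[R] Ω) (hi : Function.Injective i) (hπ : Function.Surjective π)
    (hex : Function.Exact i π) (𝔓 : Ideal R) [𝔓.IsPrime]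
    (hproj : Module.Projective (Localization.AtPrime 𝔓) (LocalizedModule 𝔓.primeCompl Ω)) :
    ∃ s : R, s ∉ 𝔓 ∧ ∃ r : F0 →ₗ[R] F1, r ∘ₗ i = s • LinearMap.id := by
  haveI := hproj
  let πp := LocalizedModule.map 𝔓.primeCompl π
  have hπp : Function.Surjective πp := LocalizedModule.map_surjective 𝔓.primeCompl π hπ
  obtain ⟨τ, hτ⟩ := Module.projective_lifting_property πp LinearMap.id hπp
  have hτ' : ∀ y, πp (τ y) = y := fun y => LinearMap.congr_fun hτ y
  let g : Ω →ₗ[R] LocalizedModule 𝔓.primeCompl F0 :=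
    (τ.restrictScalars R) ∘ₗ LocalizedModule.mkLinearMap 𝔓.primeCompl Ω
  obtain ⟨h, s, hs⟩ := Module.FinitePresentation.exists_lift_of_isLocalizedModule 𝔓.primeCompl
    (LocalizedModule.mkLinearMap 𝔓.primeCompl F0) g
  have hπpmk : ∀ y : F0, πp (LocalizedModule.mkLinearMap 𝔓.primeCompl F0 y) =
      LocalizedModule.mkLinearMap 𝔓.primeCompl Ω (π y) := by
    intro y
    rw [LocalizedModule.mkLinearMap_apply, LocalizedModule.mkLinearMap_apply]
    exact LocalizedModule.map_mk 𝔓.primeCompl π y 1
  have hcomp : (LocalizedModule.mkLinearMap 𝔓.primeCompl Ω) ∘ₗ (π ∘ₗ h) =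
      (LocalizedModule.mkLinearMap 𝔓.primeCompl Ω) ∘ₗ ((s : R) • (LinearMap.id : Ω →ₗ[R] Ω)) := by
    ext x
    rw [LinearMap.comp_apply, LinearMap.comp_apply, LinearMap.comp_apply, LinearMap.smul_apply,
      LinearMap.id_apply, ← hπpmk]
    have h1 : LocalizedModule.mkLinearMap 𝔓.primeCompl F0 (h x) =
        (s : R) • τ (LocalizedModule.mkLinearMap 𝔓.primeCompl Ω x) := by
      have h2 := LinearMap.congr_fun hs x
      rw [LinearMap.comp_apply, LinearMap.smul_apply] at h2
      rw [h2]
      rfl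
    rw [h1]
    have h3 : πp ((s : R) • τ (LocalizedModule.mkLinearMap 𝔓.primeCompl Ω x)) =
        (s : R) • πp (τ (LocalizedModule.mkLinearMap 𝔓.primeCompl Ω x)) :=
      (πp.restrictScalars R).map_smul (s : R) _
    rw [h3, hτ', map_smul]
  obtain ⟨t, ht⟩ := Module.Finite.exists_smul_of_comp_eq_of_isLocalizedModule 𝔓.primeCompl
    (LocalizedModule.mkLinearMap 𝔓.primeCompl Ω) (π ∘ₗ h)
    ((s : R) • (LinearMap.id : Ω →ₗ[R] Ω)) hcomp
  have ht' : ∀ w : Ω, (t : R) • π (h w) = (t : R) • ((s : R) • w) := by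
    intro w
    have := LinearMap.congr_fun ht w
    exact this
  let ρ : F0 →ₗ[R] F0 := (((t : R) * (s : R)) • LinearMap.id) - ((t : R) • h) ∘ₗ π
  have hρ : ∀ y, ρ y ∈ LinearMap.range i := by
    intro y
    rw [← (LinearMap.exact_iff.mp hex), LinearMap.mem_ker]
    simp only [ρ, LinearMap.sub_apply, LinearMap.smul_apply, LinearMap.id_apply,
      LinearMap.comp_apply, map_sub, map_smul]
    rw [ht' (π y), mul_smul, sub_self]
  let e := LinearEquiv.ofInjective i hi
  let r : F0 →ₗ[R] F1 := e.symm.toLinearMap ∘ₗ (ρ.codRestrict (LinearMap.range i) hρ)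
  have hir : ∀ y, i (r y) = ρ y := by
    intro y
    have h1 : (e (r y) : F0) = i (r y) := LinearEquiv.ofInjective_apply i (r y)
    rw [← h1]
    simp only [r, LinearMap.comp_apply, LinearEquiv.coe_coe, LinearEquiv.apply_symm_apply]
    rfl
  refine ⟨(t : R) * (s : R), (t * s).2, r, ?_⟩
  ext x
  apply hi
  rw [LinearMap.comp_apply, hir, LinearMap.smul_apply, LinearMap.id_apply, map_smul]
  simp only [ρ, LinearMap.sub_apply, LinearMap.smul_apply, LinearMap.id_apply,
    LinearMap.comp_apply]
  rw [hex.apply_apply_eq_zero x, map_zero, smul_zero, sub_zero]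

section induction

variable {R S : Type u} [CommRing R] [CommRing S] [Algebra R S] [IsNoetherianRing R]
  [IsNoetherianRing S]
  (N : Type u) [AddCommGroup N] [Module S N] [Module R N] [IsScalarTower R S N]
  [Module.Flat R N] (Pred : Ideal S → Prop)
  (h : ∀ (p : Ideal R) (q : Ideal S) [p.IsPrime] [q.IsPrime] [q.LiesOver p],
    FlatCA.fiberIdeal p q ∈ associatedPrimes (p.Fiber S) (FlatCA.fiberMod p S N) → Pred q)

include h in
/-- a property of the primes associated to the fibres of a flat module holds for the associated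
primes of every `N ⊗ Q`, `Q` finite -/
theorem ass_tensor_pred (Q : Type u) [AddCommGroup Q] [Module R Q] (hQ : Module.Finite R Q) :
    ∀ q ∈ associatedPrimes S (N ⊗[R] Q), Pred q := by
  induction hQ using IsNoetherianRing.induction_on_isQuotientEquivQuotientPrime R with
  | subsingleton Q =>
    intro q hq
    rw [associatedPrimes.eq_empty_of_subsingleton] at hq
    exact absurd hq (Set.notMem_empty _)
  | quotient Q p₀ f =>
    intro q hq
    haveI := p₀.2
    rw [LinearEquiv.AssociatedPrimes.eq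
      (TensorProduct.AlgebraTensorModule.congr (LinearEquiv.refl S N) f)] at hq
    haveI : q.IsPrime := hq.isPrime
    haveI : q.LiesOver p₀.1 :=
      Groth.Agent.Helper8.UnivCpl.liesOver_of_mem_associatedPrimes p₀.1 N q hq
    exact h p₀.1 q (Groth.Agent.Helper8.UnivCpl.fiberIdeal_mem_associatedPrimes p₀.1 N q hq)
  | exact Q₁ Q₂ Q₃ f g hf hg hfg h₁ h₃ =>
    intro q hq
    have hf' : Function.Injective (TensorProduct.AlgebraTensorModule.lTensor S N f) :=
      Module.Flat.lTensor_preserves_injective_linearMap f hf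
    have hfg' : Function.Exact (TensorProduct.AlgebraTensorModule.lTensor S N f)
        (TensorProduct.AlgebraTensorModule.lTensor S N g) :=
      lTensor_exact N hfg hg
    rcases associatedPrimes.subset_union_of_exact hf' hfg' hq with hq | hq
    · exact h₁ q hq
    · exact h₃ q hq

end induction

/-- Let `A → P` be a ring map and `p` a prime of `A` with Cohen–Macaulay fibre ring.  If the
extension to the fibre of a prime `𝔓` over `p` is associated to the fibre, then `𝔓` is minimal
among the primes of `P` over `p`. -/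
theorem eq_of_le_of_fiberIdeal_mem {A P : Type u} [CommRing A] [CommRing P] [Algebra A P]
    (p : Ideal A) [p.IsPrime] (hCM : LocCoh.IsCohenMacaulayRing (p.Fiber P))
    (𝔓 : Ideal P) [𝔓.IsPrime] [h𝔓 : 𝔓.LiesOver p]
    (h4 : FlatCA.fiberIdeal p 𝔓 ∈ associatedPrimes (p.Fiber P) (FlatCA.fiberMod p P P))
    (𝔔 : Ideal P) [𝔔.IsPrime] (hle : 𝔔 ≤ 𝔓)
    (hc : 𝔔.comap (algebraMap A P) = 𝔓.comap (algebraMap A P)) : 𝔔 = 𝔓 := by
  haveI : 𝔔.LiesOver p := ⟨h𝔓.over.trans hc.symm⟩
  let e : FlatCA.fiberMod p P P ≃ₗ[p.Fiber P] p.Fiber P :=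
    TensorProduct.AlgebraTensorModule.rid P (p.Fiber P) (p.Fiber P)
  have h5 : FlatCA.fiberIdeal p 𝔓 ∈ associatedPrimes (p.Fiber P) (p.Fiber P) :=
    associatedPrimes.subset_of_injective (f := e.toLinearMap) e.injective h4
  have h6 : Minimal (fun q : Ideal (p.Fiber P) => q.IsPrime ∧ ⊥ ≤ q) (FlatCA.fiberIdeal p 𝔓) :=
    mem_minimalPrimes_of_mem_associatedPrimes_of_CM hCM _ h5
  obtain ⟨hJp, hJ⟩ := fiberIdeal_isPrime_and_mem_iff p 𝔔
  have hle' : FlatCA.fiberIdeal p 𝔔 ≤ FlatCA.fiberIdeal p 𝔓 := Ideal.map_mono hle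
  have heq : FlatCA.fiberIdeal p 𝔓 ≤ FlatCA.fiberIdeal p 𝔔 := h6.2 ⟨hJp, bot_le⟩ hle'
  apply le_antisymm hle
  intro s hs
  rw [← hJ s]
  apply heq
  exact Ideal.mem_map_of_mem _ hs

end Groth.Agent.Helper8.GSF
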