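import Mathlib

/-!
# `Ext¹` of a module with a two-term projective resolution, and its base change
-/

set_option autoImplicit false
set_option linter.style.haveILetI false

universe u

namespace Groth.Agent.Helper8.GSF

open TensorProduct CategoryTheory Abelian

/-- For a short exact sequence `0 → F1 → F0 → M → 0` with `F0` projective, `Ext¹(M, N)` is the
cokernel of `Hom(F0, N) → Hom(F1, N)`. -/
theorem nonempty_ext_one_equiv {R : Type u} [CommRing R] {F1 F0 M N : Type u}
    [AddCommGroup F1] [Module R F1] [AddCommGroup F0] [Module R F0]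
    [AddCommGroup M] [Module R M] [AddCommGroup N] [Module R N]
    [Module.Projective R F0] (i : F1 →ₗ[R] F0) (π : F0 →ₗ[R] M)
    (hi : Function.Injective i) (hπ : Function.Surjective π) (hex : Function.Exact i π) :
    Nonempty (((F1 →ₗ[R] N) ⧸ LinearMap.range (LinearMap.lcomp R N i)) ≃ₗ[R]
      Ext.{u} (ModuleCat.of R M) (ModuleCat.of R N) 1) := by
  let S : ShortComplex (ModuleCat.{u} R) :=
    ModuleCat.shortComplexOfCompEqZero i π (by ext x; exact hex.apply_apply_eq_zero x)
  have hS : S.ShortExact := ModuleCat.shortComplex_shortExact S hex hi hπ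
  haveI : Projective S.X₂ := (IsProjective.iff_projective F0).mp inferInstance
  let φ : (F1 →ₗ[R] N) →ₗ[R] Ext.{u} (ModuleCat.of R M) (ModuleCat.of R N) 1 :=
    (Ext.bilinearCompOfLinear R (ModuleCat.of R M) (ModuleCat.of R F1) (ModuleCat.of R N) 1 0 1
      (add_zero 1) hS.extClass) ∘ₗ
    (Ext.linearEquiv₀ (R := R) (X := ModuleCat.of R F1) (Y := ModuleCat.of R N)).symm.toLinearMap ∘ₗ
    (ModuleCat.homLinearEquiv (S := R) (M := ModuleCat.of R F1)
      (N := ModuleCat.of R N)).symm.toLinearMap
  have hφ : ∀ g : F1 →ₗ[R] N,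
      φ g = hS.extClass.comp (Ext.mk₀ (ModuleCat.ofHom g)) (add_zero 1) := fun g => rfl
  have hsurj : Function.Surjective φ := by
    intro y
    have h0 : (Ext.mk₀ S.g).comp y (zero_add 1) = 0 := Ext.eq_zero_of_projective _
    obtain ⟨x₁, hx₁⟩ := Ext.contravariant_sequence_exact₃ hS _ y h0 (add_zero 1)
    obtain ⟨g, rfl⟩ := (Ext.mk₀_bijective _ _).2 x₁
    exact ⟨g.hom, by rw [hφ]; exact hx₁⟩
  have hker : LinearMap.ker φ = LinearMap.range (LinearMap.lcomp R N i) := by
    ext g
    rw [LinearMap.mem_ker, LinearMap.mem_range, hφ]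
    constructor
    · intro hg
      obtain ⟨x₂, hx₂⟩ := Ext.contravariant_sequence_exact₁ hS _
        (Ext.mk₀ (ModuleCat.ofHom g)) (add_zero 1) hg
      obtain ⟨k, rfl⟩ := (Ext.mk₀_bijective _ _).2 x₂
      refine ⟨k.hom, ?_⟩
      rw [Ext.mk₀_comp_mk₀] at hx₂
      have h1 := (Ext.mk₀_bijective _ _).1 hx₂
      ext x
      have h2 := congrArg (fun t => t.hom x) h1
      exact h2
    · rintro ⟨k, rfl⟩
      have h1 : ModuleCat.ofHom (LinearMap.lcomp R N i k) = S.f ≫ ModuleCat.ofHom k := rfl
      rw [h1, ← Ext.mk₀_comp_mk₀]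
      exact hS.extClass_comp_assoc _
  exact ⟨(Submodule.quotEquivOfEq _ _ hker.symm).trans
    (LinearMap.quotKerEquivOfSurjective φ hsurj)⟩

section dualBC

variable (R A : Type u) [CommRing R] [CommRing A] [Algebra R A]

/-- the natural map `A ⊗ F^∨ → (A ⊗ F)^∨` -/
noncomputable def dualBC (F : Type u) [AddCommGroup F] [Module R F] :
    A ⊗[R] (Module.Dual R F) →ₗ[A] Module.Dual A (A ⊗[R] F) :=
  (Module.Dual.baseChange A (R := R) (V := F)).liftBaseChange A

theorem dualBC_tmul_tmul (F : Type u) [AddCommGroup F] [Module R F] (a : A)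
    (g : Module.Dual R F) (b : A) (x : F) :
    dualBC R A F (a ⊗ₜ g) (b ⊗ₜ x) = a • (g x • b) := by
  rw [dualBC, LinearMap.liftBaseChange_tmul, LinearMap.smul_apply,
    Module.Dual.baseChange_apply_tmul]

theorem dualBC_naturality {F G : Type u} [AddCommGroup F] [Module R F] [AddCommGroup G]
    [Module R G] (v : F →ₗ[R] G) :
    dualBC R A F ∘ₗ (LinearMap.lcomp R R v).baseChange A =
      LinearMap.lcomp A A (v.baseChange A) ∘ₗ dualBC R A G := by
  apply TensorProduct.AlgebraTensorModule.ext
  intro a g
  apply TensorProduct.AlgebraTensorModule.ext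
  intro b x
  rw [LinearMap.comp_apply, LinearMap.comp_apply, LinearMap.baseChange_tmul,
    LinearMap.lcomp_apply, LinearMap.baseChange_tmul, dualBC_tmul_tmul, dualBC_tmul_tmul,
    LinearMap.lcomp_apply]

theorem dualBC_bijective_of_free (L : Type u) [AddCommGroup L] [Module R L] [Module.Free R L]
    [Module.Finite R L] : Function.Bijective (dualBC R A L) := by
  let ibc := TensorProduct.isBaseChange R L A
  have h : dualBC R A L = (ibc.toDualBaseChange).toLinearMap := by
    apply TensorProduct.AlgebraTensorModule.ext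
    intro a g
    apply TensorProduct.AlgebraTensorModule.ext
    intro b x
    have hb : (b ⊗ₜ[R] x : A ⊗[R] L) = b • ((TensorProduct.mk R A L 1) x) := by
      rw [TensorProduct.mk_apply, TensorProduct.smul_tmul', smul_eq_mul, mul_one]
    rw [dualBC_tmul_tmul, LinearEquiv.coe_coe, hb, map_smul,
      IsBaseChange.toDualBaseChange_tmul, Algebra.smul_def (g x) b, smul_eq_mul, smul_eq_mul]
    ring
  rw [h]
  exact ibc.toDualBaseChange.bijective

theorem dualBC_bijective (F : Type u) [AddCommGroup F] [Module R F] [Module.Finite R F]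
    [Module.Projective R F] : Function.Bijective (dualBC R A F) := by
  obtain ⟨n, t, s, -, -, hts⟩ := Module.Finite.exists_comp_eq_id_of_projective R F
  have hL := dualBC_bijective_of_free R A (Fin n → R)
  have nat_s := dualBC_naturality R A s
  have nat_t := dualBC_naturality R A t
  have h1 : (LinearMap.lcomp R R s) ∘ₗ (LinearMap.lcomp R R t) = LinearMap.id := by
    refine LinearMap.ext fun g => LinearMap.ext fun x => ?_
    rw [LinearMap.comp_apply, LinearMap.lcomp_apply, LinearMap.lcomp_apply, LinearMap.id_apply,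
      ← LinearMap.comp_apply t s, hts, LinearMap.id_apply]
  have h1' : ((LinearMap.lcomp R R s).baseChange A) ∘ₗ ((LinearMap.lcomp R R t).baseChange A) =
      LinearMap.id := by
    rw [← LinearMap.baseChange_comp, h1, LinearMap.baseChange_id]
  have h2 : (LinearMap.lcomp A A (s.baseChange A)) ∘ₗ (LinearMap.lcomp A A (t.baseChange A)) =
      LinearMap.id := by
    refine LinearMap.ext fun g => LinearMap.ext fun y => ?_
    rw [LinearMap.comp_apply, LinearMap.lcomp_apply, LinearMap.lcomp_apply, LinearMap.id_apply,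
      ← LinearMap.comp_apply (t.baseChange A) (s.baseChange A), ← LinearMap.baseChange_comp, hts,
      LinearMap.baseChange_id, LinearMap.id_apply]
  have e1 : ∀ z, LinearMap.lcomp A A (t.baseChange A) (dualBC R A F z) =
      dualBC R A (Fin n → R) ((LinearMap.lcomp R R t).baseChange A z) :=
    fun z => (LinearMap.congr_fun nat_t z).symm
  constructor
  · intro x y hxy
    have h3 := congrArg (LinearMap.lcomp A A (t.baseChange A)) hxy
    rw [e1, e1] at h3
    have h4 := congrArg ((LinearMap.lcomp R R s).baseChange A) (hL.1 h3)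
    rw [← LinearMap.comp_apply, ← LinearMap.comp_apply, h1'] at h4
    exact h4
  · intro y
    obtain ⟨z, hz⟩ := hL.2 (LinearMap.lcomp A A (t.baseChange A) y)
    refine ⟨(LinearMap.lcomp R R s).baseChange A z, ?_⟩
    have e2 := LinearMap.congr_fun nat_s z
    rw [LinearMap.comp_apply, LinearMap.comp_apply] at e2
    rw [e2, hz, ← LinearMap.comp_apply, h2, LinearMap.id_apply]

/-- base change commutes with cokernels -/
theorem nonempty_baseChange_quot_range_equiv {X Y : Type u} [AddCommGroup X] [Module R X]
    [AddCommGroup Y] [Module R Y] (α : X →ₗ[R] Y) :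
    Nonempty (A ⊗[R] (Y ⧸ LinearMap.range α) ≃ₗ[A]
      (A ⊗[R] Y) ⧸ LinearMap.range (α.baseChange A)) := by
  let ψ := (LinearMap.range α).mkQ.baseChange A
  have hsurj : Function.Surjective ψ := by
    show Function.Surjective ⇑((LinearMap.range α).mkQ.baseChange A)
    rw [LinearMap.baseChange_eq_ltensor]
    exact LinearMap.lTensor_surjective A (Submodule.mkQ_surjective _)
  have hex : Function.Exact (α.baseChange A) ψ := by
    show Function.Exact ⇑(α.baseChange A) ⇑((LinearMap.range α).mkQ.baseChange A)
    rw [LinearMap.baseChange_eq_ltensor, LinearMap.baseChange_eq_ltensor]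
    exact lTensor_exact A (LinearMap.exact_map_mkQ_range α) (Submodule.mkQ_surjective _)
  have hker : LinearMap.ker ψ = LinearMap.range (α.baseChange A) := LinearMap.exact_iff.mp hex
  exact ⟨(LinearMap.quotKerEquivOfSurjective ψ hsurj).symm.trans
    (Submodule.quotEquivOfEq _ _ hker)⟩

/-- the cokernel of the dual of a map of finite projective modules commutes with base change -/
theorem nonempty_baseChange_coker_dual_equiv {F1 F0 : Type u} [AddCommGroup F1] [Module R F1]
    [AddCommGroup F0] [Module R F0] [Module.Finite R F1] [Module.Projective R F1]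
    [Module.Finite R F0] [Module.Projective R F0] (i : F1 →ₗ[R] F0) :
    Nonempty (A ⊗[R] ((F1 →ₗ[R] R) ⧸ LinearMap.range (LinearMap.lcomp R R i)) ≃ₗ[A]
      ((A ⊗[R] F1 →ₗ[A] A) ⧸ LinearMap.range (LinearMap.lcomp A A (i.baseChange A)))) := by
  obtain ⟨e1⟩ := nonempty_baseChange_quot_range_equiv R A (LinearMap.lcomp R R i)
  let d0 := LinearEquiv.ofBijective (dualBC R A F0) (dualBC_bijective R A F0)
  let d1 := LinearEquiv.ofBijective (dualBC R A F1) (dualBC_bijective R A F1)
  have hmap : (LinearMap.range ((LinearMap.lcomp R R i).baseChange A)).map d1.toLinearMap =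
      LinearMap.range (LinearMap.lcomp A A (i.baseChange A)) := by
    rw [← LinearMap.range_comp]
    have h1 : d1.toLinearMap ∘ₗ (LinearMap.lcomp R R i).baseChange A =
        LinearMap.lcomp A A (i.baseChange A) ∘ₗ d0.toLinearMap := dualBC_naturality R A i
    rw [h1, LinearMap.range_comp_of_range_eq_top]
    exact LinearMap.range_eq_top.mpr d0.surjective
  exact ⟨e1.trans (Submodule.Quotient.equiv _ _ d1 hmap)⟩

end dualBC

/-- Kähler differentials commute with the quotient by an ideal extended from the base -/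
theorem kaehler_mapBaseChange_bijective (A P : Type u) [CommRing A] [CommRing P] [Algebra A P]
    (J : Ideal A) :
    Function.Bijective
      (KaehlerDifferential.mapBaseChange A P (P ⧸ J.map (algebraMap A P))) := by
  have hsurjalg : Function.Surjective (algebraMap P (P ⧸ J.map (algebraMap A P))) :=
    Ideal.Quotient.mk_surjective
  refine ⟨?_, KaehlerDifferential.mapBaseChange_surjective A P _ hsurjalg⟩
  have hkey : ∀ x ∈ J.map (algebraMap A P),
      ((1 : P ⧸ J.map (algebraMap A P)) ⊗ₜ[P] KaehlerDifferential.D A P x :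
        (P ⧸ J.map (algebraMap A P)) ⊗[P] Ω[P⁄A]) = 0 := by
    intro x hx
    have hx' : x ∈ Submodule.span P ((algebraMap A P) '' (J : Set A)) := hx
    refine Submodule.span_induction
      (p := fun x _ => ((1 : P ⧸ J.map (algebraMap A P)) ⊗ₜ[P] KaehlerDifferential.D A P x :
        (P ⧸ J.map (algebraMap A P)) ⊗[P] Ω[P⁄A]) = 0) ?_ ?_ ?_ ?_ hx'
    · rintro _ ⟨j, hj, rfl⟩
      rw [Derivation.map_algebraMap, TensorProduct.tmul_zero]
    · rw [map_zero, TensorProduct.tmul_zero]
    · intro x y _ _ hx hy
      rw [map_add, TensorProduct.tmul_add, hx, hy, add_zero]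
    · intro a x hxs hx
      have hxI : x ∈ J.map (algebraMap A P) := hxs
      have h0 : (x • (1 : P ⧸ J.map (algebraMap A P))) = 0 := by
        rw [Algebra.smul_def, mul_one, Ideal.Quotient.algebraMap_eq,
          Ideal.Quotient.eq_zero_iff_mem]
        exact hxI
      rw [smul_eq_mul, Derivation.leibniz, TensorProduct.tmul_add, TensorProduct.tmul_smul, hx,
        smul_zero, zero_add, ← TensorProduct.smul_tmul, h0, TensorProduct.zero_tmul]
  rw [injective_iff_map_eq_zero]
  intro y hy
  obtain ⟨c, rfl⟩ := (KaehlerDifferential.exact_kerCotangentToTensor_mapBaseChange A P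
    (P ⧸ J.map (algebraMap A P)) hsurjalg y).mp hy
  obtain ⟨x, rfl⟩ := Ideal.toCotangent_surjective _ c
  rw [KaehlerDifferential.kerCotangentToTensor_toCotangent]
  apply hkey
  have h1 : ∀ z : P, algebraMap P (P ⧸ J.map (algebraMap A P)) z = 0 →
      z ∈ J.map (algebraMap A P) := by
    intro z hz
    rw [Ideal.Quotient.algebraMap_eq, Ideal.Quotient.eq_zero_iff_mem] at hz
    exact hz
  exact h1 _ (RingHom.mem_ker.mp x.2)

end Groth.Agent.Helper8.GSF
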