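import Mathlib
import Groth.Prelude
import Groth.Agent.Lib.Helper4.Fitting19
import Groth.Agent.Lib.Helper2.RegSeqCotangent

/-!
# Fitting ideals of a module with a two-term free resolution and of the cokernel of the dual
-/

set_option autoImplicit false
set_option linter.style.haveILetI false

universe u

namespace Groth.Agent.Helper8.GSF

open RingTheory.Sequence Algebra

/-- the conormal module of an extension whose kernel is generated by a weakly regular sequence is
free on the classes of the sequence -/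
theorem nonempty_basis_cotangent {R S : Type u} [CommRing R] [CommRing S] [Algebra R S]
    (E : Algebra.Extension.{u} R S) (c : ℕ) (a : Fin c → E.Ring)
    (hreg : IsWeaklyRegular E.Ring (List.ofFn a)) (hE : E.ker = Ideal.span (Set.range a)) :
    Nonempty (Module.Basis (Fin c) S E.Cotangent) := by
  have ha : ∀ j, a j ∈ E.ker := fun j => by
    rw [hE]
    exact Ideal.subset_span (Set.mem_range_self j)
  let v : Fin c → E.Cotangent := fun j => Extension.Cotangent.mk ⟨a j, ha j⟩
  have hli : LinearIndependent S v := by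
    rw [Fintype.linearIndependent_iff]
    intro g hg
    choose s hs using fun j => E.algebraMap_surjective (g j)
    have h1 : Extension.Cotangent.mk (∑ j, s j • (⟨a j, ha j⟩ : E.ker)) = 0 := by
      rw [map_sum, ← hg]
      refine Finset.sum_congr rfl fun j _ => ?_
      rw [map_smul, ← hs j, algebraMap_smul]
    rw [Extension.Cotangent.mk_eq_zero_iff] at h1
    have h2 : ((∑ j, s j • (⟨a j, ha j⟩ : E.ker) : E.ker) : E.Ring) = ∑ j, s j * a j := by
      rw [Submodule.coe_sum]
      rfl
    rw [h2, pow_two, hE] at h1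
    have h3 : Ideal.span (Set.range a) * Ideal.span (Set.range a) =
        Ideal.span (Set.range a) • Submodule.span E.Ring (Set.range a) := rfl
    rw [h3, Submodule.mem_ideal_smul_span_iff_exists_sum] at h1
    obtain ⟨b, hb, hbs⟩ := h1
    rw [Finsupp.sum_fintype _ _ (by intro i; simp)] at hbs
    have h4 : ∑ j, (s j - b j) * a j = 0 := by
      simp only [sub_mul, Finset.sum_sub_distrib]
      rw [sub_eq_zero]
      exact hbs.symm
    have h5 := Groth.Agent.Helper2.RegSeqCotangent.coeff_mem_of_sum_eq_zero c a hreg _ h4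
    intro j
    rw [← hs j]
    have h6 : s j ∈ E.ker := by
      rw [hE]
      have h7 : s j = (s j - b j) + b j := by ring
      rw [h7]
      exact Ideal.add_mem _ (h5 j) (hb j)
    exact RingHom.mem_ker.mp h6
  have hspan : ⊤ ≤ Submodule.span S (Set.range v) := by
    rintro w -
    obtain ⟨x, rfl⟩ := Extension.Cotangent.mk_surjective w
    have hx : (x : E.Ring) ∈ Ideal.span (Set.range a) := by
      rw [← hE]
      exact x.2
    obtain ⟨t, ht⟩ := (Ideal.mem_span_range_iff_exists_fun).mp hx
    have hxe : x = ∑ j, t j • (⟨a j, ha j⟩ : E.ker) := by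
      apply Subtype.ext
      rw [Submodule.coe_sum, ← ht]
      rfl
    rw [hxe, map_sum]
    refine Submodule.sum_mem _ fun j _ => ?_
    rw [map_smul, ← algebraMap_smul S (t j)]
    exact Submodule.smul_mem _ _ (Submodule.subset_span ⟨j, rfl⟩)
  exact ⟨Module.Basis.mk hli hspan⟩

/-- For `0 → F1 → F0 → M → 0` with `F1`, `F0` free of ranks `m`, `n`: the `(n - m)`-th Fitting
ideal of `M` is the `0`-th Fitting ideal of the cokernel of the dual map. -/
theorem fitt_eq_of_resolution {R : Type u} [CommRing R] {F1 F0 M : Type u}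
    [AddCommGroup F1] [Module R F1] [AddCommGroup F0] [Module R F0] [AddCommGroup M] [Module R M]
    (m n : ℕ) (b1 : Module.Basis (Fin m) R F1) (b0 : Module.Basis (Fin n) R F0)
    (i : F1 →ₗ[R] F0) (π : F0 →ₗ[R] M)
    (hi : Function.Injective i) (hπ : Function.Surjective π) (hex : Function.Exact i π) :
    Fitt.ideal R M (n - m) =
      Fitt.ideal R ((F1 →ₗ[R] R) ⧸ LinearMap.range (LinearMap.lcomp R R i)) 0 := by
  let e1 := b1.equivFun
  let e0 := b0.equivFun
  let σ : (Fin m → R) →ₗ[R] (Fin n → R) := e0.toLinearMap ∘ₗ (i ∘ₗ e1.symm.toLinearMap)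
  have hσ : Function.Injective σ := e0.injective.comp (hi.comp e1.symm.injective)
  have h := (Groth.Agent.Lib.Helper4.Fitting19.S14347_main R m n σ hσ).1 0
  rw [add_zero] at h
  have hker : LinearMap.ker π = LinearMap.range i := LinearMap.exact_iff.mp hex
  let eM1 : (F0 ⧸ LinearMap.range i) ≃ₗ[R] M :=
    (Submodule.quotEquivOfEq _ _ hker.symm).trans (π.quotKerEquivOfSurjective hπ)
  have hmap0 : (LinearMap.range i).map (e0 : F0 →ₗ[R] (Fin n → R)) = LinearMap.range σ := by
    rw [show σ = e0.toLinearMap ∘ₗ (i ∘ₗ e1.symm.toLinearMap) from rfl, LinearMap.range_comp,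
      LinearMap.range_comp_of_range_eq_top _ (LinearEquiv.range e1.symm)]
  let eM2 : (F0 ⧸ LinearMap.range i) ≃ₗ[R] ((Fin n → R) ⧸ LinearMap.range σ) :=
    Submodule.Quotient.equiv _ _ e0 hmap0
  let Φ : Module.Dual R F1 ≃ₗ[R] Module.Dual R (Fin m → R) := e1.symm.dualMap
  have hmapD : (LinearMap.range (LinearMap.lcomp R R i)).map
      (Φ : Module.Dual R F1 →ₗ[R] Module.Dual R (Fin m → R)) = LinearMap.range σ.dualMap := by
    apply le_antisymm
    · rintro _ ⟨_, ⟨g, rfl⟩, rfl⟩
      refine ⟨g ∘ₗ e0.symm.toLinearMap, ?_⟩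
      refine LinearMap.ext fun w => ?_
      simp [σ, Φ]
    · rintro _ ⟨h', rfl⟩
      refine ⟨LinearMap.lcomp R R i (h' ∘ₗ e0.toLinearMap), ⟨_, rfl⟩, ?_⟩
      refine LinearMap.ext fun w => ?_
      simp [σ, Φ]
  let eD : ((F1 →ₗ[R] R) ⧸ LinearMap.range (LinearMap.lcomp R R i)) ≃ₗ[R]
      (Module.Dual R (Fin m → R) ⧸ LinearMap.range σ.dualMap) :=
    Submodule.Quotient.equiv _ _ Φ hmapD
  rw [Groth.Agent.Helper4.Fitting.ideal_congr (eM1.symm.trans eM2),
    Groth.Agent.Helper4.Fitting.ideal_congr eD, h]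

end Groth.Agent.Helper8.GSF
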