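import Mathlib
import Groth.Prelude
import Groth.Agent.Lib.Helper8.GRing11

/-!
# G-schemes: the condition on affine opens in terms of the stalks
-/

set_option autoImplicit false

universe u

namespace Groth.Agent.Helper8.GScheme

open AlgebraicGeometry IsLocalRing

variable {X : Scheme.{u}}

/-- The regularity of the completion map of a stalk, from that of the local ring of an affine
open. -/
theorem isRegularHom_cpl_stalk_iff {U : X.Opens} (hU : IsAffineOpen U)
    [IsNoetherianRing Γ(X, U)] (y : PrimeSpectrum Γ(X, U)) (hy : hU.fromSpec y ∈ U) :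
    CAlg.IsRegularHom (X.presheaf.stalk (hU.fromSpec y))
        (EGA4.Cpl (X.presheaf.stalk (hU.fromSpec y))) ↔
      CAlg.IsRegularHom (Localization.AtPrime y.asIdeal)
        (EGA4.Cpl (Localization.AtPrime y.asIdeal)) := by
  letI : Algebra Γ(X, U) (X.presheaf.stalk (hU.fromSpec y)) :=
    TopCat.Presheaf.algebra_section_stalk X.presheaf ⟨hU.fromSpec y, hy⟩
  haveI : IsLocalization.AtPrime (X.presheaf.stalk (hU.fromSpec y)) y.asIdeal :=
    hU.isLocalization_stalk' y hy
  let e : Localization.AtPrime y.asIdeal ≃ₐ[Γ(X, U)] X.presheaf.stalk (hU.fromSpec y) :=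
    IsLocalization.algEquiv y.asIdeal.primeCompl _ _
  haveI : IsNoetherianRing (X.presheaf.stalk (hU.fromSpec y)) :=
    isNoetherianRing_of_ringEquiv _ e.toRingEquiv
  constructor
  · intro h
    exact Groth.Agent.Helper8.GRing.isRegularHom_cpl_of_ringEquiv e.toRingEquiv h
  · intro h
    exact Groth.Agent.Helper8.GRing.isRegularHom_cpl_of_ringEquiv e.symm.toRingEquiv h

/-- For an affine open with Noetherian coordinate ring: G-ring iff all stalks have regular
completion maps. -/
theorem isGRing_iff_stalks {U : X.Opens} (hU : IsAffineOpen U) [IsNoetherianRing Γ(X, U)] :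
    CAlg.IsGRing Γ(X, U) ↔ ∀ x : X, x ∈ U →
      CAlg.IsRegularHom (X.presheaf.stalk x) (EGA4.Cpl (X.presheaf.stalk x)) := by
  constructor
  · intro h x hx
    have h1 := hU.fromSpec_primeIdealOf ⟨x, hx⟩
    have hy : hU.fromSpec (hU.primeIdealOf ⟨x, hx⟩) ∈ U := by rw [h1]; exact hx
    have h2 := (isRegularHom_cpl_stalk_iff hU (hU.primeIdealOf ⟨x, hx⟩) hy).2
      (h.2 (hU.primeIdealOf ⟨x, hx⟩).asIdeal)
    rw [h1] at h2
    exact h2
  · intro h
    refine ⟨inferInstance, fun p _ => ?_⟩
    have hy : hU.fromSpec (⟨p, inferInstance⟩ : PrimeSpectrum Γ(X, U)) ∈ U := by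
      have := hU.range_fromSpec
      rw [← SetLike.mem_coe, ← this]
      exact Set.mem_range_self _
    exact (isRegularHom_cpl_stalk_iff hU ⟨p, inferInstance⟩ hy).1 (h _ hy)

/-- The G-scheme condition in terms of stalks. -/
theorem gScheme_iff_stalks (X : Scheme.{u}) :
    (∀ x : X, ∃ U : X.Opens, x ∈ U ∧ IsAffineOpen U ∧ CAlg.IsGRing Γ(X, U)) ↔
      IsLocallyNoetherian X ∧ ∀ x : X,
        CAlg.IsRegularHom (X.presheaf.stalk x) (EGA4.Cpl (X.presheaf.stalk x)) := by
  constructor
  · intro h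
    choose U hxU hUaff hUG using h
    have hLN : IsLocallyNoetherian X := by
      refine isLocallyNoetherian_of_affine_cover (S := fun x : X => ⟨U x, hUaff x⟩) ?_
        (fun x => (hUG x).1)
      rw [eq_top_iff]
      intro x _
      exact TopologicalSpace.Opens.mem_iSup.2 ⟨x, hxU x⟩
    refine ⟨hLN, fun x => ?_⟩
    haveI : IsNoetherianRing Γ(X, U x) := (hUG x).1
    exact (isGRing_iff_stalks (hUaff x)).1 (hUG x) x (hxU x)
  · rintro ⟨hLN, h⟩ x
    obtain ⟨_, ⟨V, hV : IsAffineOpen V, rfl⟩, hxV, -⟩ :=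
      X.isBasis_affineOpens.exists_subset_of_mem_open (Set.mem_univ x) isOpen_univ
    haveI : IsNoetherianRing Γ(X, V) := IsLocallyNoetherian.component_noetherian ⟨V, hV⟩
    exact ⟨V, hxV, hV, (isGRing_iff_stalks hV).2 (fun y _ => h y)⟩

end Groth.Agent.Helper8.GScheme
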