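import Mathlib
import Groth.Prelude
import Groth.Agent.Lib.Helper8.GenFib1

/-!
# Generic formal fibres of the local rings of a finite domain over a regular local ring of
characteristic zero: the case of a maximal ideal
-/

set_option autoImplicit false
set_option synthInstance.maxHeartbeats 400000
set_option maxSynthPendingDepth 3
universe u

namespace Groth.Agent.Helper8.GenFib

open IsLocalRing TensorProduct Groth.Agent.Helper8.BrCpl Groth.Agent.Helper8.FFree

section maximal

variable (R : Type u) [CommRing R] [IsDomain R] [IsRegularLocalRing R] [CharZero R]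
  (B : Type u) [CommRing B] [IsDomain B] [Algebra R B] [Module.Finite R B]

omit [IsDomain R] [CharZero R] [IsDomain B] in
attribute [local instance] Algebra.TensorProduct.rightAlgebra in
/-- `B ⊗ R^` is a G-ring. -/
theorem isGRing_tensor_cpl : CAlg.IsGRing (B ⊗[R] EGA4.Cpl R) := by
  haveI : IsNoetherianRing R := inferInstance
  haveI : IsNoetherianRing (EGA4.Cpl R) := Groth.Agent.Helper8.AdicReg.isNoetherianRing R _
  haveI : Module.Finite (EGA4.Cpl R) (B ⊗[R] EGA4.Cpl R) :=
    Module.Finite.equiv (Algebra.TensorProduct.commRight R (EGA4.Cpl R) B).toLinearEquiv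
  exact Groth.Agent.Helper8.GRing.isGRing_of_finite (EGA4.Cpl R) (B ⊗[R] EGA4.Cpl R)
    (Groth.Agent.Helper8.GRing.isGRing_of_isAdicComplete (EGA4.Cpl R))

variable (N : Ideal (B ⊗[R] EGA4.Cpl R)) [hN : N.IsMaximal]

/-- The local rings of the completion of `B_n` over the generic point are regular
(`n = N ∩ B`). -/
theorem isRegularLocalRing_atPrime_cpl_comap (hinj : Function.Injective (algebraMap R B))
    (q : Ideal (EGA4.Cpl (Localization.AtPrime (N.comap (phi R B))))) [q.IsPrime]
    (hq : q.comap (algebraMap (Localization.AtPrime (N.comap (phi R B)))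
      (EGA4.Cpl (Localization.AtPrime (N.comap (phi R B))))) = ⊥) :
    IsRegularLocalRing (Localization.AtPrime q) := by
  haveI : IsNoetherianRing R := inferInstance
  haveI : IsNoetherianRing B :=
    isNoetherian_of_tower R (isNoetherian_of_isNoetherianRing_of_finite R B)
  haveI : IsNoetherianRing (B ⊗[R] EGA4.Cpl R) :=
    Groth.Agent.Helper8.Nag.isNoetherianRing_tensor_cpl R B
  haveI hn := isMaximal_comap_phi R B N
  letI := algLoc R B N
  haveI := isScalarTower_algLoc R B N
  haveI := isLocalHom_algLoc R B N
  haveI := flat_algLoc R B N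
  haveI : IsNoetherianRing (Localization.AtPrime (N.comap (phi R B))) :=
    IsLocalization.isNoetherianRing (N.comap (phi R B)).primeCompl _ inferInstance
  haveI : IsNoetherianRing (Localization.AtPrime N) :=
    IsLocalization.isNoetherianRing N.primeCompl _ inferInstance
  haveI : IsNoetherianRing (EGA4.Cpl (Localization.AtPrime N)) :=
    Groth.Agent.Helper8.AdicReg.isNoetherianRing (Localization.AtPrime N) _
  haveI : IsNoetherianRing (EGA4.Cpl (Localization.AtPrime (N.comap (phi R B)))) :=
    Groth.Agent.Helper8.AdicReg.isNoetherianRing (Localization.AtPrime (N.comap (phi R B))) _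
  -- the local ring `(B ⊗ R^)_N` is a G-ring
  have hG : CAlg.IsGRing (Localization.AtPrime N) :=
    Groth.Agent.Helper8.GRing.isGRing_of_isLocalization N.primeCompl (isGRing_tensor_cpl R B)
  have hreg : CAlg.IsRegularHom (Localization.AtPrime N) (EGA4.Cpl (Localization.AtPrime N)) :=
    Groth.Agent.Helper8.Andre.isRegularHom_cpl_of_isGRing _ hG
  -- injectivity of `B → B_n`
  have hBinj : Function.Injective (algebraMap B (Localization.AtPrime (N.comap (phi R B)))) :=
    IsLocalization.injective _ (N.comap (phi R B)).primeCompl_le_nonZeroDivisors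
  -- the generic fibre of `B_n → ((B ⊗ R^)_N)^`
  have h1 : IsRegularRing ((⊥ : Ideal (Localization.AtPrime (N.comap (phi R B)))).Fiber
      (EGA4.Cpl (Localization.AtPrime N))) := by
    refine isRegularRing_bot_fiber_of_forall _ _ (fun P _ hP => ?_)
    refine isRegularLocalRing_atPrime_of_isRegularHom (Localization.AtPrime N) _ hreg P ?_
    set P₁ : Ideal (Localization.AtPrime N) :=
      P.comap (algebraMap (Localization.AtPrime N) (EGA4.Cpl (Localization.AtPrime N))) with hP₁
    set Q : Ideal (B ⊗[R] EGA4.Cpl R) :=
      P₁.comap (algebraMap (B ⊗[R] EGA4.Cpl R) (Localization.AtPrime N)) with hQdef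
    haveI : Q.IsPrime := Ideal.comap_isPrime _ _
    have hQ : Q.comap (algebraMap B (B ⊗[R] EGA4.Cpl R)) = ⊥ := by
      have h2 : ((algebraMap (Localization.AtPrime N) (EGA4.Cpl (Localization.AtPrime N))).comp
          (algebraMap (B ⊗[R] EGA4.Cpl R) (Localization.AtPrime N))).comp
          (algebraMap B (B ⊗[R] EGA4.Cpl R)) =
          (algebraMap (Localization.AtPrime (N.comap (phi R B)))
            (EGA4.Cpl (Localization.AtPrime N))).comp
          (algebraMap B (Localization.AtPrime (N.comap (phi R B)))) := by
        ext b
        simp only [RingHom.comp_apply]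
        rw [IsScalarTower.algebraMap_apply (Localization.AtPrime (N.comap (phi R B)))
          (Localization.AtPrime N) (EGA4.Cpl (Localization.AtPrime N)),
          ← IsScalarTower.algebraMap_apply B (Localization.AtPrime (N.comap (phi R B)))
            (Localization.AtPrime N),
          IsScalarTower.algebraMap_apply B (B ⊗[R] EGA4.Cpl R) (Localization.AtPrime N)]
      rw [hQdef, hP₁, Ideal.comap_comap, Ideal.comap_comap, ← RingHom.comp_assoc, h2,
        ← Ideal.comap_comap, hP,
        ← RingHom.ker_eq_comap_bot]
      exact (RingHom.injective_iff_ker_eq_bot _).1 hBinj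
    haveI := isRegularLocalRing_tensor_cpl_of_comap_eq_bot R B hinj Q hQ
    exact IsRegularLocalRing.of_ringEquiv (R := Localization.AtPrime Q)
      (IsLocalization.localizationLocalizationAtPrimeIsoLocalization N.primeCompl P₁).toRingEquiv
  -- transfer along the isomorphism of completions
  let e := Groth.Agent.Helper8.CplIso.cplEquiv (Localization.AtPrime (N.comap (phi R B)))
    (Localization.AtPrime N) (map_maximalIdeal_algLoc R B N)
    (exists_sub_mem_maximalIdeal_algLoc R B N)
  have h2 : IsRegularRing ((⊥ : Ideal (Localization.AtPrime (N.comap (phi R B)))).Fiber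
      (EGA4.Cpl (Localization.AtPrime (N.comap (phi R B))))) :=
    isRegularRing_fiber_of_algEquiv e.symm ⊥ h1
  exact isRegularLocalRing_of_isRegularRing_bot_fiber _ _ h2 q hq

end maximal

end Groth.Agent.Helper8.GenFib
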