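import Mathlib
import Groth.Prelude.Def_Hens2
import Groth.Prelude.Def_FSch3
import Groth.Agent.Lib.Helper7.Hens.EtaleBase
import Groth.Agent.Lib.Helper7.Hens.Abstract
import Groth.Agent.Lib.Helper7.ComplFin.Main

/-!
# Étale neighbourhoods inside a pair henselization are isomorphisms modulo every power of `I`;
quotients; completions
-/

set_option autoImplicit false
universe u

namespace Groth.Agent.Helper8.HensQuot

open Groth.Agent.Helper7 Groth.Agent.Helper7.Hens

section LemmaK

variable {R : Type u} [CommRing R] {I : Ideal R} {H : Type u} [CommRing H] [Algebra R H]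
  (hH : Hens2.IsPairHenselization R I H)
  (S : Type u) [CommRing S] [Algebra R S] [Algebra.Etale R S]
  (hq : Function.Bijective (Ideal.quotientMap (I.map (algebraMap R S)) (algebraMap R S)
    Ideal.le_comap_map))
  (ψ : S →ₐ[R] H)

include hH hq in
/-- The henselization of `(R, I)` is, through any map from an étale neighbourhood `S`,
the henselization of `(S, IS)`. -/
theorem exists_equiv_factor :
    ∃ (H' : Type u) (_ : CommRing H') (_ : Algebra S H')
      (_ : Hens2.IsPairHenselization S (I.map (algebraMap R S)) H') (e : H' ≃+* H),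
      ∀ s : S, e (algebraMap S H' s) = ψ s := by
  let H' := Hens.H S (I.map (algebraMap R S))
  letI : Algebra R H' := ((algebraMap S H').comp (algebraMap R S)).toAlgebra
  haveI : IsScalarTower R S H' := IsScalarTower.of_algebraMap_eq (fun _ => rfl)
  have hH'S : Hens2.IsPairHenselization S (I.map (algebraMap R S)) H' :=
    isPairHenselization_H S _
  have hH' : Hens2.IsPairHenselization R I H' :=
    isPairHenselization_of_etale_of_bijective R I S hq H' hH'S
  obtain ⟨e⟩ := nonempty_algEquiv_of_isPairHenselization hH' hH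
  let k : S →ₐ[R] H := e.toAlgHom.comp (IsScalarTower.toAlgHom R S H')
  have hk : k = ψ := algHom_unique_of_bijective S hq hH.1.jac k ψ
  exact ⟨H', inferInstance, inferInstance, hH'S, e.toRingEquiv,
    fun s => AlgHom.congr_fun hk s⟩

include hH hq in
theorem mem_of_map_mem (n : ℕ) (s : S) (hs : ψ s ∈ (I ^ n).map (algebraMap R H)) :
    s ∈ (I ^ n).map (algebraMap R S) := by
  obtain ⟨H', _, _, hH', e, he⟩ := exists_equiv_factor hH S hq ψ
  have hb := (quotient_pow_bijective_of_isPairHenselization hH' n).1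
  have hcomp : (e : H' →+* H).comp (algebraMap S H') = (ψ : S →+* H) :=
    RingHom.ext fun s => he s
  have hmap : (I ^ n).map (algebraMap R H) =
      (((I.map (algebraMap R S)) ^ n).map (algebraMap S H')).map (e : H' →+* H) := by
    rw [Ideal.map_map, hcomp, ← Ideal.map_pow, Ideal.map_map]
    congr 1
    exact ψ.comp_algebraMap.symm
  rw [hmap, ← he s] at hs
  obtain ⟨y, hy, hye⟩ := (Ideal.mem_map_of_equiv e _).mp hs
  have hy' : algebraMap S H' s ∈ ((I.map (algebraMap R S)) ^ n).map (algebraMap S H') := by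
    have : y = algebraMap S H' s := e.injective hye
    rwa [this] at hy
  have h0 : Ideal.quotientMap (((I.map (algebraMap R S)) ^ n).map (algebraMap S H'))
      (algebraMap S H') Ideal.le_comap_map (Ideal.Quotient.mk _ s) = 0 := by
    rw [Ideal.quotientMap_mk, Ideal.Quotient.eq_zero_iff_mem]
    exact hy'
  have h1 : Ideal.Quotient.mk ((I.map (algebraMap R S)) ^ n) s = 0 :=
    hb (by rw [h0, map_zero])
  rw [Ideal.Quotient.eq_zero_iff_mem, ← Ideal.map_pow] at h1
  exact h1

include hH hq in
theorem exists_sub_mem (n : ℕ) (h : H) : ∃ s : S, h - ψ s ∈ (I ^ n).map (algebraMap R H) := by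
  obtain ⟨H', _, _, hH', e, he⟩ := exists_equiv_factor hH S hq ψ
  have hb := (quotient_pow_bijective_of_isPairHenselization hH' n).2
  have hcomp : (e : H' →+* H).comp (algebraMap S H') = (ψ : S →+* H) :=
    RingHom.ext fun s => he s
  have hmap : (I ^ n).map (algebraMap R H) =
      (((I.map (algebraMap R S)) ^ n).map (algebraMap S H')).map (e : H' →+* H) := by
    rw [Ideal.map_map, hcomp, ← Ideal.map_pow, Ideal.map_map]
    congr 1
    exact ψ.comp_algebraMap.symm
  obtain ⟨x, hx⟩ := hb (Ideal.Quotient.mk _ (e.symm h))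
  obtain ⟨s, rfl⟩ := Ideal.Quotient.mk_surjective x
  rw [Ideal.quotientMap_mk, Ideal.Quotient.eq] at hx
  refine ⟨s, ?_⟩
  rw [hmap, ← he s]
  have h2 : h - e (algebraMap S H' s) = (e : H' →+* H) (-(algebraMap S H' s - e.symm h)) := by
    rw [map_neg, map_sub]
    simp
  rw [h2]
  exact Ideal.mem_map_of_mem _ (neg_mem hx)

end LemmaK

section LemmaQ

/-- Passing to quotients: if `ψ` is "bijective modulo `IS`/`IH`", then it is so modulo
`IS + JS` / `IH + JS·H`. -/
theorem mem_sup_of_map_mem_sup {S H : Type*} [CommRing S] [CommRing H] (ψ : S →+* H)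
    (IS : Ideal S) (IH : Ideal H) (hinj : ∀ s, ψ s ∈ IH → s ∈ IS)
    (hsurj : ∀ h, ∃ s, h - ψ s ∈ IH) (JS : Ideal S) (s : S) (hs : ψ s ∈ IH ⊔ JS.map ψ) :
    s ∈ IS ⊔ JS := by
  have key : ∀ a ∈ JS.map ψ, ∃ s' ∈ JS, a - ψ s' ∈ IH := by
    intro a ha
    refine Submodule.span_induction (p := fun a _ => ∃ s' ∈ JS, a - ψ s' ∈ IH) ?_ ?_ ?_ ?_ ha
    · rintro _ ⟨j, hj, rfl⟩
      exact ⟨j, hj, by rw [sub_self]; exact IH.zero_mem⟩
    · exact ⟨0, JS.zero_mem, by rw [map_zero, sub_self]; exact IH.zero_mem⟩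
    · rintro a b _ _ ⟨sa, hsa, ha⟩ ⟨sb, hsb, hb⟩
      refine ⟨sa + sb, JS.add_mem hsa hsb, ?_⟩
      have : a + b - ψ (sa + sb) = (a - ψ sa) + (b - ψ sb) := by rw [map_add]; ring
      rw [this]
      exact IH.add_mem ha hb
    · rintro h a _ ⟨sa, hsa, ha⟩
      obtain ⟨s₀, hs₀⟩ := hsurj h
      refine ⟨s₀ * sa, JS.mul_mem_left _ hsa, ?_⟩
      have : h • a - ψ (s₀ * sa) = h * (a - ψ sa) + (h - ψ s₀) * ψ sa := by
        rw [smul_eq_mul, map_mul]; ring
      rw [this]
      exact IH.add_mem (IH.mul_mem_left _ ha) (IH.mul_mem_right _ hs₀)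
  obtain ⟨t, ht, a, ha, hta⟩ := Submodule.mem_sup.mp hs
  obtain ⟨s', hs', h'⟩ := key a ha
  have h1 : ψ (s - s') ∈ IH := by
    have : ψ (s - s') = t + (a - ψ s') := by rw [map_sub, ← hta]; ring
    rw [this]
    exact IH.add_mem ht h'
  have h2 := hinj _ h1
  have : s = (s - s') + s' := by ring
  rw [this]
  exact Ideal.add_mem _ (Ideal.mem_sup_left h2) (Ideal.mem_sup_right hs')

end LemmaQ

section LemmaC

variable {S T : Type u} [CommRing S] [CommRing T] (I : Ideal S) (K : Ideal T) (g : S →+* T)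
  (h : I.map g ≤ K)

/-- A ring map which is bijective modulo all powers induces a bijection of completions. -/
theorem complMap_bijective (hinj : ∀ n s, g s ∈ K ^ n → s ∈ I ^ n)
    (hsurj : ∀ n t, ∃ s, t - g s ∈ K ^ n) : Function.Bijective (FSch.complMap I K g h) := by
  constructor
  · rw [injective_iff_map_eq_zero]
    intro x hx
    refine AdicCompletion.ext_evalₐ fun n => ?_
    obtain ⟨s, hs⟩ := Ideal.Quotient.mk_surjective (AdicCompletion.evalₐ I n x)
    have h1 := congrArg (AdicCompletion.evalₐ K n) hx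
    rw [ComplFin.evalₐ_complMap, ← hs, Ideal.quotientMap_mk, map_zero,
      Ideal.Quotient.eq_zero_iff_mem] at h1
    rw [map_zero, ← hs, Ideal.Quotient.eq_zero_iff_mem]
    exact hinj n s h1
  · intro y
    obtain ⟨c, rfl⟩ := AdicCompletion.mk_surjective K T y
    choose s hs using fun n => hsurj n (c.val n)
    have hcauchy : ∀ n, s n ≡ s (n + 1) [SMOD (I ^ n • ⊤ : Submodule S S)] := by
      intro n
      rw [SModEq.sub_mem, smul_eq_mul, Ideal.mul_top]
      apply hinj n
      have h1 : c.val (n + 1) - c.val n ∈ K ^ n := by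
        have := AdicCompletion.Ideal.mk_eq_mk K (Nat.le_succ n) c
        rwa [Ideal.Quotient.eq] at this
      have h2 : c.val (n + 1) - g (s (n + 1)) ∈ K ^ n :=
        Ideal.pow_le_pow_right (Nat.le_succ n) (hs (n + 1))
      have h3 : g (s n - s (n + 1)) = -(c.val n - g (s n)) + (c.val (n + 1) - g (s (n + 1)))
          - (c.val (n + 1) - c.val n) := by rw [map_sub]; ring
      rw [h3]
      exact (K ^ n).sub_mem ((K ^ n).add_mem ((K ^ n).neg_mem (hs n)) h2) h1
    refine ⟨AdicCompletion.mk I S (AdicCompletion.AdicCauchySequence.mk I S s hcauchy), ?_⟩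
    refine AdicCompletion.ext_evalₐ fun n => ?_
    rw [ComplFin.evalₐ_complMap_mk, AdicCompletion.evalₐ_mk, Ideal.Quotient.eq]
    have : g (s n) - c.val n = -(c.val n - g (s n)) := by ring
    show g (s n) - c.val n ∈ K ^ n
    rw [this]
    exact (K ^ n).neg_mem (hs n)

end LemmaC

end Groth.Agent.Helper8.HensQuot
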