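import Mathlib
import Groth.Prelude
import Groth.Agent.Lib.Helper8.GenFib2
import Groth.Agent.Lib.Helper8.HensQuot1

/-!
# Generic formal fibres of the local rings of a finite domain over a regular local ring of
characteristic zero: the general case (EGA 0_IV 22.3.3 (i))
-/

set_option autoImplicit false
set_option synthInstance.maxHeartbeats 400000
set_option maxSynthPendingDepth 3
universe u

namespace Groth.Agent.Helper8.GenFib

open IsLocalRing TensorProduct Groth.Agent.Helper8.BrCpl Groth.Agent.Helper8.FFree

section maximal

variable (R : Type u) [CommRing R] [IsDomain R] [IsRegularLocalRing R] [CharZero R]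
  (B : Type u) [CommRing B] [IsDomain B] [Algebra R B] [Module.Finite R B]

/-- The maximal case. -/
theorem isRegularLocalRing_atPrime_cpl_of_isMaximal (hinj : Function.Injective (algebraMap R B))
    (n : Ideal B) [hn : n.IsMaximal]
    (q : Ideal (EGA4.Cpl (Localization.AtPrime n))) [q.IsPrime]
    (hq : q.comap (algebraMap (Localization.AtPrime n) (EGA4.Cpl (Localization.AtPrime n))) = ⊥) :
    IsRegularLocalRing (Localization.AtPrime q) := by
  haveI : IsNoetherianRing R := inferInstance
  haveI := isMaximal_map_phi R B n
  haveI := isMaximal_comap_phi R B (n.map (phi R B))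
  have hcomap : n = (n.map (phi R B)).comap (phi R B) :=
    hn.eq_of_le (Ideal.IsMaximal.ne_top inferInstance) Ideal.le_comap_map
  have key : ∀ (n₁ : Ideal B) [n₁.IsPrime], n₁ = (n.map (phi R B)).comap (phi R B) →
      ∀ (q : Ideal (EGA4.Cpl (Localization.AtPrime n₁))) [q.IsPrime],
        q.comap (algebraMap (Localization.AtPrime n₁) (EGA4.Cpl (Localization.AtPrime n₁))) = ⊥ →
        IsRegularLocalRing (Localization.AtPrime q) := by
    intro n₁ _ h
    subst h
    intro q _ hq
    exact isRegularLocalRing_atPrime_cpl_comap R B (n.map (phi R B)) hinj q hq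
  exact key n hcomap q hq

end maximal

section transfer

variable {C C' : Type u} [CommRing C] [CommRing C'] [IsLocalRing C] [IsLocalRing C']

theorem map_maximalIdeal_le_of_ringEquiv (e : C ≃+* C') :
    (maximalIdeal C).map (e : C →+* C') ≤ maximalIdeal C' := by
  rw [Ideal.map_le_iff_le_comap]
  intro x hx
  rw [Ideal.mem_comap, mem_maximalIdeal, mem_nonunits_iff]
  intro hu
  exact (mem_maximalIdeal x).1 hx ((isUnit_map_iff e x).1 hu)

/-- Transfer along a ring isomorphism. -/
theorem isRegularLocalRing_atPrime_cpl_of_ringEquiv (e : C ≃+* C')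
    (H : ∀ (P : Ideal (EGA4.Cpl C')) [P.IsPrime], P.comap (algebraMap C' (EGA4.Cpl C')) = ⊥ →
      IsRegularLocalRing (Localization.AtPrime P))
    (q : Ideal (EGA4.Cpl C)) [q.IsPrime] (hq : q.comap (algebraMap C (EGA4.Cpl C)) = ⊥) :
    IsRegularLocalRing (Localization.AtPrime q) := by
  have hmap := map_maximalIdeal_le_of_ringEquiv e
  have hmap' := map_maximalIdeal_le_of_ringEquiv e.symm
  have hbij : Function.Bijective
      (FSch.complMap (maximalIdeal C) (maximalIdeal C') (e : C →+* C') hmap) := by
    refine Groth.Agent.Helper8.HensQuot.complMap_bijective _ _ _ hmap ?_ ?_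
    · intro k s hs
      have h1 : (e.symm : C' →+* C) ((e : C →+* C') s) ∈
          ((maximalIdeal C') ^ k).map (e.symm : C' →+* C) := Ideal.mem_map_of_mem _ hs
      rw [Ideal.map_pow] at h1
      have h2 := Ideal.pow_right_mono hmap' k h1
      simpa using h2
    · intro k t
      exact ⟨e.symm t, by simp⟩
  let ê : EGA4.Cpl C ≃+* EGA4.Cpl C' := RingEquiv.ofBijective _ hbij
  have hê : ∀ x : C, ê (algebraMap C (EGA4.Cpl C) x) = algebraMap C' (EGA4.Cpl C') (e x) :=
    fun x => Groth.Agent.Helper7.ComplFin.complMap_of _ _ _ hmap x
  set P : Ideal (EGA4.Cpl C') := q.comap (ê.symm : EGA4.Cpl C' →+* EGA4.Cpl C) with hP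
  haveI : P.IsPrime := Ideal.comap_isPrime _ _
  have hP0 : P.comap (algebraMap C' (EGA4.Cpl C')) = ⊥ := by
    rw [eq_bot_iff]
    intro x hx
    rw [Ideal.mem_comap, hP, Ideal.mem_comap] at hx
    have h1 : (ê.symm : EGA4.Cpl C' →+* EGA4.Cpl C) (algebraMap C' (EGA4.Cpl C') x) =
        algebraMap C (EGA4.Cpl C) (e.symm x) := by
      show ê.symm _ = _
      rw [RingEquiv.symm_apply_eq, hê, RingEquiv.apply_symm_apply]
    rw [h1] at hx
    have h2 : e.symm x ∈ q.comap (algebraMap C (EGA4.Cpl C)) := hx
    rw [hq, Ideal.mem_bot] at h2
    rw [Ideal.mem_bot]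
    simpa using congrArg e h2
  have hqP : q = P.comap (ê : EGA4.Cpl C →+* EGA4.Cpl C') := by
    ext x
    rw [Ideal.mem_comap, hP, Ideal.mem_comap]
    show x ∈ q ↔ ê.symm (ê x) ∈ q
    rw [RingEquiv.symm_apply_apply]
  haveI := H P hP0
  exact IsRegularLocalRing.of_ringEquiv (R := Localization.AtPrime P)
    (Localization.localRingEquiv q P ê hqP).symm

end transfer

section general

variable (A : Type u) [CommRing A] [IsRegularLocalRing A] [CharZero A]
  (B : Type u) [CommRing B] [IsDomain B] [Algebra A B] [Module.Finite A B]

/-- **EGA 0_IV 22.3.3 (i)**, regularity form: the local rings over the generic point of the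
completion of a local ring of a finite domain over a regular local ring of characteristic zero
are regular. -/
theorem isRegularLocalRing_atPrime_cpl (hinj : Function.Injective (algebraMap A B))
    (n : Ideal B) [n.IsPrime]
    (q : Ideal (EGA4.Cpl (Localization.AtPrime n))) [q.IsPrime]
    (hq : q.comap (algebraMap (Localization.AtPrime n) (EGA4.Cpl (Localization.AtPrime n))) = ⊥) :
    IsRegularLocalRing (Localization.AtPrime q) := by
  haveI : IsDomain A := Groth.Agent.Helper8.RLR.isDomain A
  set p : Ideal A := n.comap (algebraMap A B) with hp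
  haveI : p.IsPrime := Ideal.comap_isPrime _ _
  -- the base ring
  haveI : IsRegularLocalRing (Localization.AtPrime p) :=
    Groth.Agent.Helper8.ABS.isRegularLocalRing_localization A p
  haveI : IsDomain (Localization.AtPrime p) := Groth.Agent.Helper8.RLR.isDomain _
  haveI : CharZero (Localization.AtPrime p) :=
    charZero_of_injective_algebraMap
      (IsLocalization.injective (Localization.AtPrime p) p.primeCompl_le_nonZeroDivisors)
  -- the finite algebra
  set M : Submonoid B := Algebra.algebraMapSubmonoid B p.primeCompl with hM
  have hM0 : M ≤ nonZeroDivisors B := by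
    rintro _ ⟨a, ha, rfl⟩
    refine mem_nonZeroDivisors_of_ne_zero ?_
    intro h0
    apply ha
    have : a = 0 := hinj (by rw [h0, map_zero])
    rw [this]
    exact Ideal.zero_mem _
  haveI : IsDomain (Localization M) := IsLocalization.isDomain_localization hM0
  have hinj' : Function.Injective (algebraMap (Localization.AtPrime p) (Localization M)) :=
    localizationAlgebra_injective (Localization.AtPrime p) (Localization M) hinj
  -- the prime
  have hdisj : Disjoint (M : Set B) (n : Set B) := by
    rw [Set.disjoint_left]
    rintro _ ⟨a, ha, rfl⟩ hn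
    exact ha hn
  haveI hn' : (n.map (algebraMap B (Localization M))).IsPrime :=
    IsLocalization.isPrime_of_isPrime_disjoint M _ n inferInstance hdisj
  have hcomap : (n.map (algebraMap B (Localization M))).comap (algebraMap B (Localization M)) = n :=
    IsLocalization.under_map_of_isPrime_disjoint M _ inferInstance hdisj
  haveI : Algebra.IsIntegral (Localization.AtPrime p) (Localization M) :=
    Algebra.IsIntegral.of_finite _ _
  haveI hmax : (n.map (algebraMap B (Localization M))).IsMaximal := by
    refine Ideal.isMaximal_of_isIntegral_of_isMaximal_comap (R := Localization.AtPrime p) _ ?_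
    have hle : maximalIdeal (Localization.AtPrime p) ≤
        (n.map (algebraMap B (Localization M))).comap
          (algebraMap (Localization.AtPrime p) (Localization M)) := by
      rw [← Localization.AtPrime.map_eq_maximalIdeal, Ideal.map_le_iff_le_comap]
      intro a ha
      rw [Ideal.mem_comap, Ideal.mem_comap,
        ← IsScalarTower.algebraMap_apply A (Localization.AtPrime p) (Localization M),
        IsScalarTower.algebraMap_apply A B (Localization M)]
      exact Ideal.mem_map_of_mem _ ha
    have hne : (n.map (algebraMap B (Localization M))).comap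
        (algebraMap (Localization.AtPrime p) (Localization M)) ≠ ⊤ :=
      Ideal.IsPrime.ne_top (Ideal.comap_isPrime _ _)
    rw [← (maximalIdeal.isMaximal (Localization.AtPrime p)).eq_of_le hne hle]
    infer_instance
  -- the isomorphism of local rings
  let e := (IsLocalization.localizationLocalizationAtPrimeIsoLocalization M
    (n.map (algebraMap B (Localization M)))).toRingEquiv
  have H := fun (P : Ideal (EGA4.Cpl (Localization.AtPrime (n.map (algebraMap B (Localization M))))))
      (hP : P.IsPrime) hP0 =>
    @isRegularLocalRing_atPrime_cpl_of_isMaximal (Localization.AtPrime p) _ _ _ _ (Localization M) _ _ _ _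
      hinj' (n.map (algebraMap B (Localization M))) hmax P hP hP0
  have key : ∀ (n₁ : Ideal B) [n₁.IsPrime],
      n₁ = (n.map (algebraMap B (Localization M))).comap (algebraMap B (Localization M)) →
      ∀ (q : Ideal (EGA4.Cpl (Localization.AtPrime n₁))) [q.IsPrime],
        q.comap (algebraMap (Localization.AtPrime n₁) (EGA4.Cpl (Localization.AtPrime n₁))) = ⊥ →
        IsRegularLocalRing (Localization.AtPrime q) := by
    intro n₁ _ h
    subst h
    intro q _ hq
    exact isRegularLocalRing_atPrime_cpl_of_ringEquiv e (fun P _ hP0 => H P inferInstance hP0) q hq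
  exact key n hcomap.symm q hq

end general

end Groth.Agent.Helper8.GenFib
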