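import Mathlib

/-!
# Glueing modules along localizations at elements
-/

set_option autoImplicit false

namespace Groth.Agent.Helper8.Glue

universe u
variable {R : Type u} [CommRing R]

section helpers

variable {P P' Q : Type*} [AddCommGroup P] [Module R P] [AddCommGroup P'] [Module R P']
  [AddCommGroup Q] [Module R Q]

/-- `r` acts invertibly -/
def ActsInv (r : R) (P : Type*) [AddCommGroup P] [Module R P] : Prop :=
  IsUnit (algebraMap R (Module.End R P) r)

lemma ActsInv.bijective {r : R} (h : ActsInv r P) : Function.Bijective (fun p : P => r • p) := by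
  have := (Module.End.isUnit_iff _).mp h
  exact this

lemma actsInv_of_bijective {r : R} (h : Function.Bijective (fun p : P => r • p)) : ActsInv r P :=
  (Module.End.isUnit_iff _).mpr h

lemma ActsInv.pow {r : R} (h : ActsInv r P) (n : ℕ) : ActsInv (r ^ n) P := by
  unfold ActsInv
  rw [map_pow]
  exact IsUnit.pow n h

lemma ActsInv.powers {r : R} (h : ActsInv r P) (x : Submonoid.powers r) :
    IsUnit (algebraMap R (Module.End R P) x) := by
  obtain ⟨n, hn⟩ := x.2
  rw [← hn]
  exact h.pow n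

lemma ActsInv.eq_zero_of_pow_smul {r : R} (h : ActsInv r P) {n : ℕ} {p : P}
    (hp : r ^ n • p = 0) : p = 0 := by
  have := (h.pow n).bijective.injective
  apply this
  simpa using hp

lemma actsInv_of_mul_left {a b : R} (h : ActsInv (a * b) P) : ActsInv a P := by
  unfold ActsInv at h ⊢
  rw [map_mul] at h
  exact ((Commute.all a b).map (algebraMap R (Module.End R P))).isUnit_mul_iff.mp h |>.1

lemma actsInv_of_mul_right {a b : R} (h : ActsInv (a * b) P) : ActsInv b P := by
  unfold ActsInv at h ⊢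
  rw [map_mul] at h
  exact ((Commute.all a b).map (algebraMap R (Module.End R P))).isUnit_mul_iff.mp h |>.2

lemma actsInv_of_isLocalizedModule (r : R) (φ : P →ₗ[R] P')
    [IsLocalizedModule (Submonoid.powers r) φ] : ActsInv r P' :=
  IsLocalizedModule.map_units φ ⟨r, Submonoid.mem_powers r⟩

/-- invertible action passes to localizations -/
lemma ActsInv.localized {r : R} (h : ActsInv r P) (S : Submonoid R) (φ : P →ₗ[R] P')
    [IsLocalizedModule S φ] : ActsInv r P' := by
  have hmap : IsLocalizedModule.map S φ φ (LinearMap.lsmul R P r) = LinearMap.lsmul R P' r := by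
    apply IsLocalizedModule.ext S φ (IsLocalizedModule.map_units φ)
    rw [IsLocalizedModule.map_comp]
    ext p
    simp
  apply actsInv_of_bijective
  have hb := h.bijective
  constructor
  · have := IsLocalizedModule.map_injective S φ φ (LinearMap.lsmul R P r) hb.injective
    rw [hmap] at this
    exact this
  · have := IsLocalizedModule.map_surjective S φ φ (LinearMap.lsmul R P r) hb.surjective
    rw [hmap] at this
    exact this

/-- a localization at powers of an element acting invertibly is injective -/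
lemma injective_of_actsInv {r : R} (h : ActsInv r P) (φ : P →ₗ[R] P')
    [IsLocalizedModule (Submonoid.powers r) φ] : Function.Injective φ := by
  rw [injective_iff_map_eq_zero]
  intro p hp
  obtain ⟨⟨s, n, rfl⟩, hs⟩ := (IsLocalizedModule.eq_zero_iff (Submonoid.powers r) φ).mp hp
  exact h.eq_zero_of_pow_smul hs

/-- two maps out of a localization at `r` into a module where `r` acts invertibly -/
lemma ext_of_actsInv {r : R} (φ : P →ₗ[R] P') [IsLocalizedModule (Submonoid.powers r) φ]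
    (hQ : ActsInv r Q) {a b : P' →ₗ[R] Q} (hab : a ∘ₗ φ = b ∘ₗ φ) : a = b :=
  IsLocalizedModule.ext (Submonoid.powers r) φ hQ.powers hab

/-- the kernel of the second localization step -/
lemma exists_pow_smul_eq_zero {a b c : R} (hc : c = a * b) (φ : P →ₗ[R] P')
    [IsLocalizedModule (Submonoid.powers a) φ] (τ : P →ₗ[R] Q)
    [IsLocalizedModule (Submonoid.powers c) τ] (w : P' →ₗ[R] Q) (hw : w ∘ₗ φ = τ)
    {x : P'} (hx : w x = 0) : ∃ n : ℕ, b ^ n • x = 0 := by
  obtain ⟨⟨p, ⟨s, k, rfl⟩⟩, hp⟩ := IsLocalizedModule.surj (Submonoid.powers a) φ x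
  have hp' : a ^ k • x = φ p := hp
  have h1 : τ p = 0 := by
    rw [← hw, LinearMap.comp_apply, ← hp', map_smul, hx, smul_zero]
  obtain ⟨⟨s, n, rfl⟩, hs⟩ := (IsLocalizedModule.eq_zero_iff (Submonoid.powers c) τ).mp h1
  have hs' : c ^ n • p = 0 := hs
  refine ⟨n, ?_⟩
  have hinv : ActsInv a P' := actsInv_of_isLocalizedModule a φ
  apply (hinv.pow (n + k)).eq_zero_of_pow_smul (n := 1)
  rw [pow_one]
  have : (a ^ (n + k)) • b ^ n • x = φ (c ^ n • p) := by
    rw [map_smul, ← hp', hc, mul_pow, pow_add, smul_smul, smul_smul]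
    congr 1
    ring
  rw [this, hs', map_zero]

end helpers

theorem main {ι : Type u} [Finite ι] (f : ι → R)
    (Mi : ι → Type u) [∀ i, AddCommGroup (Mi i)] [∀ i, Module R (Mi i)]
    (hMi : ∀ i, IsUnit (algebraMap R (Module.End R (Mi i)) (f i)))
    (Mij : ι → ι → Type u) [∀ i j, AddCommGroup (Mij i j)] [∀ i j, Module R (Mij i j)]
    (g : ∀ i j, Mi i →ₗ[R] Mij i j) [∀ i j, IsLocalizedModule (Submonoid.powers (f j)) (g i j)]
    (ψ : ∀ i j, Mij i j ≃ₗ[R] Mij j i)
    (T : ι → ι → ι → Type u) [∀ i j k, AddCommGroup (T i j k)] [∀ i j k, Module R (T i j k)]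
    (t : ∀ i j k, Mi i →ₗ[R] T i j k)
    [∀ i j k, IsLocalizedModule (Submonoid.powers (f j * f k)) (t i j k)]
    (u : ∀ i j k, Mij i j →ₗ[R] T i j k) (hu : ∀ i j k, u i j k ∘ₗ g i j = t i j k)
    (v : ∀ i j k, Mij i k →ₗ[R] T i j k) (hv : ∀ i j k, v i j k ∘ₗ g i k = t i j k)
    (Ψ₁ : ∀ i j k, T i j k →ₗ[R] T j i k)
    (hΨ₁ : ∀ i j k, Ψ₁ i j k ∘ₗ u i j k = u j i k ∘ₗ (ψ i j).toLinearMap)
    (Ψ₂ : ∀ i j k, T j i k →ₗ[R] T k i j)
    (hΨ₂ : ∀ i j k, Ψ₂ i j k ∘ₗ v j i k = v k i j ∘ₗ (ψ j k).toLinearMap)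
    (Ψ₃ : ∀ i j k, T i j k →ₗ[R] T k i j)
    (hΨ₃ : ∀ i j k, Ψ₃ i j k ∘ₗ v i j k = u k i j ∘ₗ (ψ i k).toLinearMap)
    (hcoc : ∀ i j k, Ψ₂ i j k ∘ₗ Ψ₁ i j k = Ψ₃ i j k)
    (M : Submodule R (∀ i, Mi i))
    (hM : ∀ m : ∀ i, Mi i, m ∈ M ↔ ∀ i j, g i j (m i) = ψ j i (g j i (m j))) (i : ι) :
    IsLocalizedModule (Submonoid.powers (f i))
      ((LinearMap.proj i).comp M.subtype : ↥M →ₗ[R] Mi i) := by
  classical
  haveI := Fintype.ofFinite ι
  have hMi' : ∀ i, ActsInv (f i) (Mi i) := hMi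
  have hMij_j : ∀ i j, ActsInv (f j) (Mij i j) := fun i j =>
    actsInv_of_isLocalizedModule (f j) (g i j)
  have hMij_i : ∀ i j, ActsInv (f i) (Mij i j) := fun i j =>
    (hMi' i).localized (Submonoid.powers (f j)) (g i j)
  have hT : ∀ i j k, ActsInv (f j * f k) (T i j k) := fun i j k =>
    actsInv_of_isLocalizedModule _ (t i j k)
  have hT_j : ∀ i j k, ActsInv (f j) (T i j k) := fun i j k => actsInv_of_mul_left (hT i j k)
  have huv : ∀ i j, u i j j = v i j j := fun i j =>
    ext_of_actsInv (g i j) (hT_j i j j) ((hu i j j).trans (hv i j j).symm)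
  have hu_ker : ∀ i j k (x : Mij i j), u i j k x = 0 → ∃ n : ℕ, f k ^ n • x = 0 :=
    fun i j k x hx =>
      exists_pow_smul_eq_zero (a := f j) (b := f k) rfl (g i j) (t i j k) (u i j k) (hu i j k) hx
  have hv_ker : ∀ i j k (x : Mij i k), v i j k x = 0 → ∃ n : ℕ, f j ^ n • x = 0 :=
    fun i j k x hx =>
      exists_pow_smul_eq_zero (a := f k) (b := f j) (mul_comm _ _) (g i k) (t i j k) (v i j k)
        (hv i j k) hx
  -- Step A
  have hA : ∀ i (x : Mij i i), ψ i i x = x := by
    intro i x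
    have hw_inj : Function.Injective (u i i i) := by
      rw [injective_iff_map_eq_zero]
      intro y hy
      obtain ⟨n, hn⟩ := hu_ker i i i y hy
      exact (hMij_i i i).eq_zero_of_pow_smul hn
    have e1 : ∀ y, Ψ₁ i i i (u i i i y) = u i i i (ψ i i y) := fun y =>
      LinearMap.congr_fun (hΨ₁ i i i) y
    have e2 : ∀ y, Ψ₂ i i i (u i i i y) = u i i i (ψ i i y) := fun y => by
      have := LinearMap.congr_fun (hΨ₂ i i i) y
      rw [huv i i]
      exact this
    have e3 : ∀ y, Ψ₃ i i i (u i i i y) = u i i i (ψ i i y) := fun y => by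
      have := LinearMap.congr_fun (hΨ₃ i i i) y
      rw [← huv i i] at this
      exact this
    have e4 : ∀ z, Ψ₂ i i i (Ψ₁ i i i z) = Ψ₃ i i i z := fun z =>
      LinearMap.congr_fun (hcoc i i i) z
    apply (ψ i i).injective
    apply hw_inj
    rw [← e2 (ψ i i x), ← e1 x, e4, e3, e1]
  -- Step B
  have hB : ∀ i j (x : Mij i j), ψ j i (ψ i j x) = x := by
    intro i j
    have hv_inj : Function.Injective (v i i j) := by
      rw [injective_iff_map_eq_zero]
      intro y hy
      obtain ⟨n, hn⟩ := hv_ker i i j y hy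
      exact (hMij_i i j).eq_zero_of_pow_smul hn
    have key : ∀ m : Mi i, ψ j i (ψ i j (g i j m)) = g i j m := by
      intro m
      apply hv_inj
      have e2 := LinearMap.congr_fun (hΨ₂ i j i) (ψ i j (g i j m))
      have e1 := LinearMap.congr_fun (hΨ₁ i j i) (g i j m)
      have e3 := LinearMap.congr_fun (hΨ₃ i j i) (g i i m)
      have e4 := LinearMap.congr_fun (hcoc i j i) (u i j i (g i j m))
      simp only [LinearMap.comp_apply, LinearEquiv.coe_coe] at e1 e2 e3 e4
      have t1 : u i j i (g i j m) = t i j i m := LinearMap.congr_fun (hu i j i) m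
      have t2 : v i j i (g i i m) = t i j i m := LinearMap.congr_fun (hv i j i) m
      have t3 : u i i j (g i i m) = t i i j m := LinearMap.congr_fun (hu i i j) m
      have t4 : v i i j (g i j m) = t i i j m := LinearMap.congr_fun (hv i i j) m
      rw [← e2, ← huv j i, ← e1, e4, t1, ← t2, e3, hA i, t3, ← t4]
    intro x
    have := ext_of_actsInv (g i j) (hMij_j i j)
      (a := (ψ j i).toLinearMap ∘ₗ (ψ i j).toLinearMap) (b := LinearMap.id)
      (by ext m; simpa using key m)
    exact LinearMap.congr_fun this x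
  -- Step D
  have hker : ∀ m : M, m.1 i = 0 → ∃ n : ℕ, f i ^ n • m = 0 := by
    intro m hm
    have hmem := (hM m.1).mp m.2
    have h0 : ∀ j, g j i (m.1 j) = 0 := by
      intro j
      rw [hmem j i, hm, map_zero, map_zero]
    have h1 : ∀ j, ∃ n : ℕ, f i ^ n • m.1 j = 0 := by
      intro j
      obtain ⟨⟨s, n, rfl⟩, hs⟩ :=
        (IsLocalizedModule.eq_zero_iff (Submonoid.powers (f i)) (g j i)).mp (h0 j)
      exact ⟨n, hs⟩
    choose n hn using h1
    refine ⟨∑ j, n j, ?_⟩
    apply Subtype.ext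
    funext j
    have hle : n j ≤ ∑ j, n j :=
      Finset.single_le_sum (f := n) (fun _ _ => Nat.zero_le _) (Finset.mem_univ j)
    show (f i ^ (∑ j, n j)) • m.1 j = 0
    rw [← Nat.sub_add_cancel hle, pow_add, mul_smul, hn j, smul_zero]
  -- Step C
  have hsurj : ∀ y : Mi i, ∃ (m : M) (n : ℕ), f i ^ n • y = m.1 i := by
    intro y
    have h1 : ∀ j, ∃ (z : Mi j) (n : ℕ), f i ^ n • ψ i j (g i j y) = g j i z := by
      intro j
      obtain ⟨⟨z, ⟨s, n, rfl⟩⟩, hz⟩ :=
        IsLocalizedModule.surj (Submonoid.powers (f i)) (g j i) (ψ i j (g i j y))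
      exact ⟨z, n, hz⟩
    choose z n hz using h1
    obtain ⟨N, hN⟩ : ∃ N : ℕ, ∀ j, n j ≤ N := ⟨∑ j, n j, fun j =>
      Finset.single_le_sum (f := n) (fun _ _ => Nat.zero_le _) (Finset.mem_univ j)⟩
    obtain ⟨y', hy'⟩ : ∃ y' : Mi i, y' = f i ^ N • y := ⟨_, rfl⟩
    obtain ⟨m0, hm0⟩ : ∃ m0 : ∀ j, Mi j, ∀ j, g j i (m0 j) = ψ i j (g i j y') := by
      refine ⟨fun j => f i ^ (N - n j) • z j, fun j => ?_⟩
      rw [hy']
      simp only [map_smul]
      rw [← hz j, smul_smul, ← pow_add, Nat.sub_add_cancel (hN j)]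
    have hd : ∀ j k, u j k i (g j k (m0 j) - ψ k j (g k j (m0 k))) = 0 := by
      intro j k
      rw [map_sub, sub_eq_zero]
      have l1 : u j k i (g j k (m0 j)) = v j k i (ψ i j (g i j y')) := by
        rw [← hm0 j]
        exact (LinearMap.congr_fun (hu j k i) (m0 j)).trans
          (LinearMap.congr_fun (hv j k i) (m0 j)).symm
      have r1 := LinearMap.congr_fun (hΨ₃ k i j) (g k j (m0 k))
      have r2 := LinearMap.congr_fun (hcoc k i j) (t k i j (m0 k))
      have r3 := LinearMap.congr_fun (hΨ₁ k i j) (g k i (m0 k))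
      have r4 := LinearMap.congr_fun (hΨ₂ k i j) (g i j y')
      simp only [LinearMap.comp_apply, LinearEquiv.coe_coe] at r1 r2 r3 r4
      have s1 : v k i j (g k j (m0 k)) = t k i j (m0 k) := LinearMap.congr_fun (hv k i j) _
      have s2 : u k i j (g k i (m0 k)) = t k i j (m0 k) := LinearMap.congr_fun (hu k i j) _
      have s3 : u i k j (g i k y') = t i k j y' := LinearMap.congr_fun (hu i k j) _
      have s4 : v i k j (g i j y') = t i k j y' := LinearMap.congr_fun (hv i k j) _
      have s5 : ψ k i (g k i (m0 k)) = g i k y' := by rw [hm0 k, hB i k]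
      rw [l1, ← r1, s1, ← r2, ← s2, r3, s5, s3, ← s4, r4]
    have he : ∀ j k, ∃ e : ℕ, f i ^ e • (g j k (m0 j) - ψ k j (g k j (m0 k))) = 0 :=
      fun j k => hu_ker j k i _ (hd j k)
    choose e he using he
    obtain ⟨E, hE⟩ : ∃ E : ℕ, ∀ j k, e j k ≤ E := ⟨∑ j, ∑ k, e j k, fun j k =>
      (Finset.single_le_sum (f := e j) (fun _ _ => Nat.zero_le _) (Finset.mem_univ k)).trans
        (Finset.single_le_sum (f := fun j => ∑ k, e j k) (fun _ _ => Nat.zero_le _)
          (Finset.mem_univ j))⟩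
    have hm1 : (fun j => f i ^ E • m0 j) ∈ M := by
      rw [hM]
      intro j k
      rw [← sub_eq_zero]
      simp only [map_smul]
      rw [← smul_sub, ← Nat.sub_add_cancel (hE j k), pow_add, mul_smul, he j k, smul_zero]
    have hmi : m0 i = y' := by
      apply injective_of_actsInv (hMi' i) (g i i)
      rw [hm0 i, hA i]
    refine ⟨⟨_, hm1⟩, E + N, ?_⟩
    show f i ^ (E + N) • y = f i ^ E • m0 i
    rw [hmi, hy', smul_smul, pow_add]
  refine ⟨(hMi' i).powers, ?_, ?_⟩
  · intro y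
    obtain ⟨m, n, hmn⟩ := hsurj y
    exact ⟨(m, ⟨f i ^ n, n, rfl⟩), hmn⟩
  · intro x₁ x₂ hx
    have h0 : (x₁ - x₂).1 i = 0 := by
      have : x₁.1 i = x₂.1 i := hx
      show x₁.1 i - x₂.1 i = 0
      rw [this, sub_self]
    obtain ⟨n, hn⟩ := hker (x₁ - x₂) h0
    refine ⟨⟨f i ^ n, n, rfl⟩, ?_⟩
    rw [Submonoid.smul_def, Submonoid.smul_def, ← sub_eq_zero, ← smul_sub]
    exact hn

end Groth.Agent.Helper8.Glue
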