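import Mathlib

set_option autoImplicit false

namespace Groth.Agent.Helper8.GlueH1

open scoped TensorProduct

section Sub
variable {A L : Type*} [CommRing A] [CommRing L] [Algebra A L]

/-- the subalgebra `{x ∈ L | τ x ∈ image of 𝔠}` -/
def twSub (τ : A) (𝔠 : Ideal A) (hτ : τ ∈ 𝔠) (hmul : 𝔠 * 𝔠 ≤ Ideal.span {τ} * 𝔠)
    (hu : IsUnit (algebraMap A L τ)) : Subalgebra A L where
  carrier := {x | ∃ c ∈ 𝔠, algebraMap A L c = algebraMap A L τ * x}
  mul_mem' := by
    rintro x y ⟨c, hc, hx⟩ ⟨d, hd, hy⟩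
    have h1 : c * d ∈ Ideal.span {τ} * 𝔠 := hmul (Ideal.mul_mem_mul hc hd)
    obtain ⟨e, he, hce⟩ := Ideal.mem_span_singleton_mul.mp h1
    refine ⟨e, he, ?_⟩
    have h2 : algebraMap A L τ * algebraMap A L e
        = algebraMap A L τ * (algebraMap A L τ * (x * y)) := by
      rw [← map_mul, hce, map_mul, hx, hy]; ring
    exact hu.mul_left_cancel h2
  one_mem' := ⟨τ, hτ, by rw [mul_one]⟩
  add_mem' := by
    rintro x y ⟨c, hc, hx⟩ ⟨d, hd, hy⟩
    exact ⟨c + d, 𝔠.add_mem hc hd, by rw [map_add, hx, hy, mul_add]⟩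
  zero_mem' := ⟨0, 𝔠.zero_mem, by rw [map_zero, mul_zero]⟩
  algebraMap_mem' := fun a => ⟨τ * a, 𝔠.mul_mem_right a hτ, by rw [map_mul]⟩

variable {τ : A} {𝔠 : Ideal A} {hτ : τ ∈ 𝔠} {hmul : 𝔠 * 𝔠 ≤ Ideal.span {τ} * 𝔠}
  {hu : IsUnit (algebraMap A L τ)}

theorem mem_twSub_iff {x : L} : x ∈ twSub (L := L) τ 𝔠 hτ hmul hu ↔
    ∃ c ∈ 𝔠, algebraMap A L c = algebraMap A L τ * x := Iff.rfl

noncomputable def num (x : twSub (L := L) τ 𝔠 hτ hmul hu) : A := (mem_twSub_iff.mp x.2).choose

theorem num_mem (x : twSub (L := L) τ 𝔠 hτ hmul hu) : num x ∈ 𝔠 :=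
  (mem_twSub_iff.mp x.2).choose_spec.1

theorem num_spec (x : twSub (L := L) τ 𝔠 hτ hmul hu) :
    algebraMap A L (num x) = algebraMap A L τ * (x : L) :=
  (mem_twSub_iff.mp x.2).choose_spec.2

theorem ext_num (x y : twSub (L := L) τ 𝔠 hτ hmul hu) (h : num x = num y) : x = y :=
  Subtype.ext (hu.mul_left_cancel (by rw [← num_spec, ← num_spec, h]))

variable (hinj : Function.Injective (algebraMap A L))
include hinj

theorem num_unique (x : twSub (L := L) τ 𝔠 hτ hmul hu) {c : A}
    (hc : algebraMap A L c = algebraMap A L τ * (x : L)) : num x = c :=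
  hinj (by rw [num_spec, hc])

theorem num_zero : num (0 : twSub (L := L) τ 𝔠 hτ hmul hu) = 0 :=
  num_unique hinj _ (by rw [map_zero, ZeroMemClass.coe_zero, mul_zero])

theorem num_add (x y : twSub (L := L) τ 𝔠 hτ hmul hu) : num (x + y) = num x + num y :=
  num_unique hinj _ (by rw [map_add, num_spec, num_spec, Subalgebra.coe_add, mul_add])

theorem num_smul (a : A) (x : twSub (L := L) τ 𝔠 hτ hmul hu) : num (a • x) = a * num x := by
  have h : ((a • x : twSub (L := L) τ 𝔠 hτ hmul hu) : L) = algebraMap A L a * (x : L) := by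
    rw [← Algebra.smul_def]; rfl
  exact num_unique hinj _ (by rw [map_mul, num_spec, h]; ring)

theorem num_mul (x y : twSub (L := L) τ 𝔠 hτ hmul hu) : τ * num (x * y) = num x * num y :=
  hinj (by rw [map_mul, map_mul, num_spec, num_spec, num_spec, Subalgebra.coe_mul]; ring)

theorem num_one : num (1 : twSub (L := L) τ 𝔠 hτ hmul hu) = τ :=
  num_unique hinj _ (by rw [Subalgebra.coe_one, mul_one])

theorem num_algebraMap (a : A) :
    num (algebraMap A (twSub (L := L) τ 𝔠 hτ hmul hu) a) = τ * a :=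
  num_unique hinj _ (by rw [map_mul, Subalgebra.coe_algebraMap])

/-- `num` as a linear map -/
noncomputable def numL : twSub (L := L) τ 𝔠 hτ hmul hu →ₗ[A] A where
  toFun := num
  map_add' := num_add hinj
  map_smul' := fun a x => by rw [num_smul hinj, RingHom.id_apply, smul_eq_mul]

theorem finite_twSub [IsNoetherianRing A] : Module.Finite A (twSub (L := L) τ 𝔠 hτ hmul hu) :=
  Module.Finite.of_injective (numL (hτ := hτ) (hmul := hmul) (hu := hu) hinj)
    (fun x y h => ext_num x y h)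

section Map
variable {B' : Type*} [CommRing B'] [Algebra A B']
  (hJ : ∀ c ∈ 𝔠, ∃ b : B', algebraMap A B' τ * b = algebraMap A B' c)
  (hreg : ∀ b b' : B', algebraMap A B' τ * b = algebraMap A B' τ * b' → b = b')

omit hinj in
noncomputable def psiFun (x : twSub (L := L) τ 𝔠 hτ hmul hu) : B' :=
  (hJ (num x) (num_mem x)).choose

omit hinj in
theorem psiFun_spec (x : twSub (L := L) τ 𝔠 hτ hmul hu) :
    algebraMap A B' τ * psiFun hJ x = algebraMap A B' (num x) :=
  (hJ (num x) (num_mem x)).choose_spec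

noncomputable def psi : twSub (L := L) τ 𝔠 hτ hmul hu →ₐ[A] B' where
  toFun := psiFun hJ
  map_one' := hreg _ _ (by rw [psiFun_spec, num_one hinj, mul_one])
  map_mul' x y := hreg _ _ (hreg _ _ (by
    rw [psiFun_spec, ← map_mul, num_mul hinj, map_mul, ← psiFun_spec hJ x, ← psiFun_spec hJ y]
    ring))
  map_zero' := hreg _ _ (by rw [psiFun_spec, mul_zero, num_zero hinj, map_zero])
  map_add' x y := hreg _ _ (by
    rw [psiFun_spec, num_add hinj, map_add, mul_add, psiFun_spec, psiFun_spec])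
  commutes' a := hreg _ _ (by rw [psiFun_spec, num_algebraMap hinj, map_mul])

theorem psi_apply (x : twSub (L := L) τ 𝔠 hτ hmul hu) :
    psi hinj hJ hreg x = psiFun hJ x := rfl

theorem isLocalizedModule_psi (S : Submonoid A)
    (h1 : ∀ s ∈ S, IsUnit (algebraMap A B' s))
    (h2 : ∀ b : B', ∃ s ∈ S, ∃ c ∈ 𝔠,
      algebraMap A B' s * (algebraMap A B' τ * b) = algebraMap A B' c)
    (h3 : ∀ a : A, algebraMap A B' a = 0 → ∃ s ∈ S, s * a = 0) :
    IsLocalizedModule S (psi (hτ := hτ) (hmul := hmul) (hu := hu) hinj hJ hreg).toLinearMap := by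
  refine ⟨?_, ?_, ?_⟩
  · rintro ⟨s, hs⟩
    rw [Module.End.isUnit_iff]
    obtain ⟨w, hw⟩ := (h1 s hs).exists_left_inv
    constructor
    · intro b b' hbb
      have h : s • b = s • b' := hbb
      rw [Algebra.smul_def, Algebra.smul_def] at h
      exact (h1 s hs).mul_left_cancel h
    · intro b
      refine ⟨w * b, ?_⟩
      show s • (w * b) = b
      rw [Algebra.smul_def, ← mul_assoc, mul_comm _ w, hw, one_mul]
  · intro b
    obtain ⟨s, hs, c, hc, hsc⟩ := h2 b
    obtain ⟨w, hw⟩ := hu.exists_left_inv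
    have hxeq : algebraMap A L c = algebraMap A L τ * (algebraMap A L c * w) := by
      rw [mul_comm (algebraMap A L c), ← mul_assoc, mul_comm _ w, hw, one_mul]
    have hxmem : algebraMap A L c * w ∈ twSub (L := L) τ 𝔠 hτ hmul hu := ⟨c, hc, hxeq⟩
    refine ⟨(⟨_, hxmem⟩, ⟨s, hs⟩), ?_⟩
    have hnum : num (⟨_, hxmem⟩ : twSub (L := L) τ 𝔠 hτ hmul hu) = c :=
      num_unique hinj _ hxeq
    apply hreg
    show algebraMap A B' τ * (s • b) = algebraMap A B' τ * psiFun hJ _
    rw [psiFun_spec, hnum, ← hsc, Algebra.smul_def]; ring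
  · intro x y hxy
    have hxy' : psiFun hJ x = psiFun hJ y := hxy
    have h : algebraMap A B' (num x - num y) = 0 := by
      rw [map_sub, ← psiFun_spec hJ x, ← psiFun_spec hJ y, hxy', sub_self]
    obtain ⟨s, hs, hsa⟩ := h3 _ h
    refine ⟨⟨s, hs⟩, ?_⟩
    show s • x = s • y
    apply ext_num
    rw [num_smul hinj, num_smul hinj]
    rw [mul_sub, sub_eq_zero] at hsa
    exact hsa

end Map

end Sub

/-- base change iso from a localized-module algebra map -/
theorem nonempty_algEquiv_of_isLocalizedModule {R R' C B' : Type*} [CommRing R] [CommRing R']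
    [Algebra R R'] (S : Submonoid R) [IsLocalization S R'] [CommRing C] [Algebra R C]
    [CommRing B'] [Algebra R B'] [Algebra R' B'] [IsScalarTower R R' B'] (ψ : C →ₐ[R] B')
    (h : IsLocalizedModule S ψ.toLinearMap) : Nonempty (TensorProduct R R' C ≃ₐ[R'] B') := by
  have hbc : IsBaseChange R' ψ.toLinearMap :=
    (isLocalizedModule_iff_isBaseChange S R' ψ.toLinearMap).mp h
  let Φ : TensorProduct R R' C →ₐ[R'] B' :=
    Algebra.TensorProduct.lift (Algebra.ofId R' B') ψ (fun _ _ => Commute.all _ _)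
  have hΦ : (Φ : TensorProduct R R' C → B') = hbc.equiv := by
    funext z
    induction z using TensorProduct.induction_on with
    | zero => rw [map_zero, map_zero]
    | tmul a c =>
      rw [IsBaseChange.equiv_tmul]
      show Algebra.TensorProduct.lift (Algebra.ofId R' B') ψ _ (a ⊗ₜ c) = a • ψ c
      rw [Algebra.TensorProduct.lift_tmul, Algebra.ofId_apply, Algebra.smul_def]
    | add x y hx hy => rw [map_add, map_add, hx, hy]
  exact ⟨AlgEquiv.ofBijective Φ (by rw [hΦ]; exact hbc.equiv.bijective)⟩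

/-- the ideal of elements `α` with `α = τ' b` for some `b` -/
def JI (R' B' : Type*) [CommRing R'] [CommRing B'] [Algebra R' B'] (τ' : R') : Ideal R' where
  carrier := {α | ∃ b : B', algebraMap R' B' α = algebraMap R' B' τ' * b}
  add_mem' := by
    rintro x y ⟨b, hb⟩ ⟨b', hb'⟩
    exact ⟨b + b', by rw [map_add, hb, hb', mul_add]⟩
  zero_mem' := ⟨0, by rw [map_zero, mul_zero]⟩
  smul_mem' := by
    rintro c x ⟨b, hb⟩
    exact ⟨algebraMap R' B' c * b, by rw [smul_eq_mul, map_mul, hb]; ring⟩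

theorem self_mem_JI {R' B' : Type*} [CommRing R'] [CommRing B'] [Algebra R' B'] (τ' : R') :
    τ' ∈ JI R' B' τ' := ⟨1, by rw [mul_one]⟩

theorem JI_mul_le {R' B' : Type*} [CommRing R'] [CommRing B'] [Algebra R' B'] (τ' : R')
    (hinj : Function.Injective (algebraMap R' B'))
    (hall : ∀ b : B', ∃ α, algebraMap R' B' α = algebraMap R' B' τ' * b) :
    JI R' B' τ' * JI R' B' τ' ≤ Ideal.span {τ'} * JI R' B' τ' := by
  rw [Ideal.mul_le]
  rintro x ⟨b, hb⟩ y ⟨b', hb'⟩
  obtain ⟨α, hα⟩ := hall (b * b')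
  rw [Ideal.mem_span_singleton_mul]
  refine ⟨α, ⟨b * b', hα⟩, hinj ?_⟩
  rw [map_mul, map_mul, hα, hb, hb']; ring

end Groth.Agent.Helper8.GlueH1
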