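import Mathlib

set_option autoImplicit false

namespace Groth.Agent.Helper8.GlueH1

theorem le_imp_eq_of_dim_two {A : Type*} [CommRing A] [IsLocalRing A] (hA : ringKrullDim A = 2)
    (t : A) (htnz : t ∈ nonZeroDivisors A) (p p' : Ideal A) [hp : p.IsPrime] [hp' : p'.IsPrime]
    (htp : t ∈ p) (hpp' : p ≤ p') (hp'm : p' ≠ IsLocalRing.maximalIdeal A) : p = p' := by
  by_contra hne
  have h12 : p < p' := lt_of_le_of_ne hpp' hne
  have h23 : p' < IsLocalRing.maximalIdeal A :=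
    lt_of_le_of_ne (IsLocalRing.le_maximalIdeal hp'.ne_top) hp'm
  obtain ⟨p0, hp0min, hp0le⟩ := Ideal.exists_minimalPrimes_le (I := (⊥ : Ideal A)) (J := p) bot_le
  have hp0prime : p0.IsPrime := hp0min.1.1
  have ht0 : t ∉ p0 := fun h =>
    Set.disjoint_left.mp (Ideal.disjoint_nonZeroDivisors_of_mem_minimalPrimes hp0min) h htnz
  have h01 : p0 < p := lt_of_le_of_ne hp0le (fun h => ht0 (h ▸ htp))
  let x0 : PrimeSpectrum A := ⟨p0, hp0prime⟩
  let x1 : PrimeSpectrum A := ⟨p, hp⟩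
  let x2 : PrimeSpectrum A := ⟨p', hp'⟩
  let x3 : PrimeSpectrum A := ⟨IsLocalRing.maximalIdeal A, inferInstance⟩
  have hx01 : x0 < x1 := h01
  have hx12 : x1 < x2 := h12
  have hx23 : x2 < x3 := h23
  let s : LTSeries (PrimeSpectrum A) := LTSeries.mk 3 ![x0, x1, x2, x3] (by
    rw [Fin.strictMono_iff_lt_succ]
    intro i
    fin_cases i
    · exact hx01
    · exact hx12
    · exact hx23)
  have hlen := Order.LTSeries.length_le_krullDim s
  have h3 : ((3 : ℕ) : WithBot ℕ∞) ≤ ringKrullDim A := hlen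
  rw [hA] at h3
  exact absurd h3 (by norm_cast)

theorem exists_sep {A : Type*} [CommRing A] [IsLocalRing A] (hA : ringKrullDim A = 2) (t : A)
    (htnz : t ∈ nonZeroDivisors A) {r : ℕ} (q : Fin r → Ideal A) [hq : ∀ i, (q i).IsPrime]
    (hinj : Function.Injective q) (hqm : ∀ i, q i ≠ IsLocalRing.maximalIdeal A)
    (htq : ∀ i, t ∈ q i)
    (hV : ∀ p : Ideal A, p.IsPrime → t ∈ p → p = IsLocalRing.maximalIdeal A ∨ ∃ i, p = q i)
    (n : ℕ) (i k : Fin r) (hik : i ≠ k) :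
    ∃ s, s ∉ q i ∧ ∃ s', s' ∉ q k ∧ s * s' ∈ Ideal.span {t ^ n} := by
  classical
  have hle : ∀ j l, q j ≤ q l → j = l := fun j l h =>
    hinj (le_imp_eq_of_dim_two hA t htnz (q j) (q l) (htq j) h (hqm l))
  obtain ⟨u, huk, hui⟩ : ∃ u ∈ q k, u ∉ q i :=
    SetLike.not_le_iff_exists.mp (fun h => hik (hle k i h).symm)
  have hex : ∀ j, ∃ w, w ∉ q k ∧ (j ≠ k → w ∈ q j) := by
    intro j
    by_cases hjk : j = k
    · exact ⟨1, (Ideal.ne_top_iff_one _).1 (hq k).ne_top, fun h => absurd hjk h⟩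
    · obtain ⟨w, hwj, hwk⟩ := SetLike.not_le_iff_exists.mp (fun h => hjk (hle j k h))
      exact ⟨w, hwk, fun _ => hwj⟩
  choose w hw1 hw2 using hex
  have hP : u * ∏ j, w j ∈ (Ideal.span {t ^ n}).radical := by
    rw [Ideal.radical_eq_sInf, Ideal.mem_sInf]
    rintro p ⟨hp1, hp2⟩
    have htp : t ∈ p := hp2.mem_of_pow_mem n (hp1 (Ideal.mem_span_singleton_self _))
    rcases hV p hp2 htp with h | ⟨j, h⟩
    · rw [h]
      exact Ideal.mul_mem_right _ _ (IsLocalRing.le_maximalIdeal (hq k).ne_top huk)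
    · rw [h]
      by_cases hjk : j = k
      · rw [hjk]; exact Ideal.mul_mem_right _ _ huk
      · apply Ideal.mul_mem_left
        rw [← Finset.mul_prod_erase Finset.univ w (Finset.mem_univ j)]
        exact Ideal.mul_mem_right _ _ (hw2 j hjk)
  obtain ⟨N, hN⟩ := Ideal.mem_radical_iff.mp hP
  refine ⟨u ^ N, fun h => hui ((hq i).mem_of_pow_mem N h), (∏ j, w j) ^ N, ?_, ?_⟩
  · intro h
    have h' := (hq k).mem_of_pow_mem N h
    obtain ⟨j, -, hj⟩ := Ideal.IsPrime.prod_mem_iff.mp h'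
    exact hw1 j hj
  · rw [← mul_pow]; exact hN

theorem exists_glue_ideal {A : Type*} [CommRing A] [IsNoetherianRing A] {r : ℕ}
    (q : Fin r → Ideal A) [hq : ∀ i, (q i).IsPrime] (τ : A)
    (J' : ∀ k, Ideal (Localization.AtPrime (q k)))
    (hτJ : ∀ k, algebraMap A (Localization.AtPrime (q k)) τ ∈ J' k)
    (hJJ : ∀ k, J' k * J' k ≤
      Ideal.span {algebraMap A (Localization.AtPrime (q k)) τ} * J' k)
    (hsep : ∀ i k, i ≠ k → ∃ s, s ∉ q i ∧ ∃ s', s' ∉ q k ∧ s * s' ∈ Ideal.span {τ}) :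
    ∃ 𝔠 : Ideal A, τ ∈ 𝔠 ∧ 𝔠 * 𝔠 ≤ Ideal.span {τ} * 𝔠 ∧
      (∀ k, ∀ c ∈ 𝔠, algebraMap A (Localization.AtPrime (q k)) c ∈ J' k) ∧
      (∀ k, ∀ α ∈ J' k, ∃ s, s ∉ q k ∧ ∃ c ∈ 𝔠,
        algebraMap A (Localization.AtPrime (q k)) s * α
          = algebraMap A (Localization.AtPrime (q k)) c) := by
  classical
  let J : Ideal A := ⨅ k, (J' k).comap (algebraMap A (Localization.AtPrime (q k)))
  have hJmem : ∀ a, a ∈ J ↔ ∀ k, algebraMap A (Localization.AtPrime (q k)) a ∈ J' k := by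
    intro a
    show a ∈ ⨅ k, (J' k).comap (algebraMap A (Localization.AtPrime (q k))) ↔ _
    rw [Ideal.mem_iInf]
    rfl
  have hτJ0 : τ ∈ J := (hJmem τ).2 hτJ
  -- F3
  have F3 : ∀ i, ∃ s0, s0 ∉ q i ∧
      ∀ a, algebraMap A (Localization.AtPrime (q i)) a ∈ J' i → s0 * a ∈ J := by
    intro i
    have hex : ∀ k, ∃ s, s ∉ q i ∧
        (k ≠ i → algebraMap A (Localization.AtPrime (q k)) s ∈ J' k) := by
      intro k
      by_cases hki : k = i
      · exact ⟨1, (Ideal.ne_top_iff_one _).1 (hq i).ne_top, fun h => absurd hki h⟩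
      · obtain ⟨s, hs, s', hs', hss⟩ := hsep i k (Ne.symm hki)
        refine ⟨s, hs, fun _ => ?_⟩
        obtain ⟨e, he⟩ := Ideal.mem_span_singleton'.mp hss
        have hunit : IsUnit (algebraMap A (Localization.AtPrime (q k)) s') :=
          IsLocalization.map_units _ (⟨s', hs'⟩ : (q k).primeCompl)
        obtain ⟨w, hw⟩ := hunit.exists_left_inv
        have hcalc : algebraMap A (Localization.AtPrime (q k)) s
            = (w * algebraMap A (Localization.AtPrime (q k)) e)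
              * algebraMap A (Localization.AtPrime (q k)) τ := by
          calc algebraMap A (Localization.AtPrime (q k)) s
              = w * algebraMap A (Localization.AtPrime (q k)) s'
                * algebraMap A (Localization.AtPrime (q k)) s := by rw [hw, one_mul]
            _ = w * algebraMap A (Localization.AtPrime (q k)) (s * s') := by
                rw [map_mul]; ring
            _ = _ := by rw [← he, map_mul]; ring
        rw [hcalc]
        exact (J' k).mul_mem_left _ (hτJ k)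
    choose sk hsk1 hsk2 using hex
    refine ⟨∏ k, sk k, ?_, ?_⟩
    · intro hmem
      obtain ⟨k, -, hk⟩ := (Ideal.IsPrime.prod_mem_iff).mp hmem
      exact hsk1 k hk
    · intro a ha
      rw [hJmem]
      intro k
      by_cases hki : k = i
      · subst hki
        rw [map_mul]; exact (J' k).mul_mem_left _ ha
      · rw [← Finset.mul_prod_erase Finset.univ sk (Finset.mem_univ k), mul_assoc, map_mul]
        exact (J' k).mul_mem_right _ (hsk2 k hki)
  -- F2
  have F2 : ∀ i, ∀ a : A, algebraMap A (Localization.AtPrime (q i)) a ∈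
      Ideal.span {algebraMap A (Localization.AtPrime (q i)) τ} * J' i →
      ∃ s, s ∉ q i ∧ s * a ∈ Ideal.span {τ} * J := by
    intro i a ha
    obtain ⟨β, hβ, hβa⟩ := Ideal.mem_span_singleton_mul.mp ha
    obtain ⟨⟨a'', s''⟩, hβ'⟩ := IsLocalization.surj (q i).primeCompl β
    obtain ⟨s0, hs0, hs0J⟩ := F3 i
    have ha'' : algebraMap A (Localization.AtPrime (q i)) a'' ∈ J' i := by
      rw [← hβ']; exact (J' i).mul_mem_right _ hβ
    have h1 : algebraMap A (Localization.AtPrime (q i)) (s'' * a)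
        = algebraMap A (Localization.AtPrime (q i)) (τ * a'') := by
      rw [map_mul, map_mul, ← hβa, ← hβ']; ring
    obtain ⟨s1, hs1⟩ := (IsLocalization.eq_iff_exists (q i).primeCompl _).mp h1
    refine ⟨s0 * (s1 * s''), ?_, ?_⟩
    · intro hmem
      rcases (hq i).mem_or_mem hmem with h | h
      · exact hs0 h
      · rcases (hq i).mem_or_mem h with h | h
        · exact s1.2 h
        · exact s''.2 h
    · have hc : s0 * (↑s1 * ↑s'') * a = τ * (↑s1 * (s0 * a'')) := by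
        calc s0 * (↑s1 * ↑s'') * a = s0 * (↑s1 * (↑s'' * a)) := by ring
          _ = s0 * (↑s1 * (τ * a'')) := by rw [hs1]
          _ = _ := by ring
      rw [hc]
      exact Ideal.mul_mem_mul (Ideal.mem_span_singleton_self τ)
        (J.mul_mem_left _ (hs0J a'' ha''))
  -- the colon ideal
  let 𝔞 : Ideal A :=
    { carrier := {x | ∀ y ∈ J * J, x * y ∈ Ideal.span {τ} * J}
      add_mem' := fun {x x'} hx hx' y hy => by
        rw [add_mul]; exact Ideal.add_mem _ (hx y hy) (hx' y hy)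
      zero_mem' := fun y _ => by rw [zero_mul]; exact Ideal.zero_mem _
      smul_mem' := fun c x hx y hy => by
        rw [smul_eq_mul, mul_assoc]; exact Ideal.mul_mem_left _ c (hx y hy) }
  have h𝔞 : ∀ x, x ∈ 𝔞 ↔ ∀ y ∈ J * J, x * y ∈ Ideal.span {τ} * J := fun x => Iff.rfl
  have hJJmap : ∀ i, ∀ y ∈ J * J, algebraMap A (Localization.AtPrime (q i)) y ∈
      Ideal.span {algebraMap A (Localization.AtPrime (q i)) τ} * J' i := by
    intro i y hy
    apply hJJ i
    have hle : J * J ≤ (J' i * J' i).comap (algebraMap A (Localization.AtPrime (q i))) := by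
      rw [Ideal.mul_le]
      intro a ha b hb
      rw [Ideal.mem_comap, map_mul]
      exact Ideal.mul_mem_mul ((hJmem a).1 ha i) ((hJmem b).1 hb i)
    exact hle hy
  have F4 : ∀ i, ∃ v, v ∉ q i ∧ v ∈ 𝔞 := by
    intro i
    obtain ⟨G, hG⟩ := IsNoetherian.noetherian (J * J)
    have hex : ∀ g : A, ∃ s, s ∉ q i ∧ (g ∈ J * J → s * g ∈ Ideal.span {τ} * J) := by
      intro g
      by_cases hg : g ∈ J * J
      · obtain ⟨s, hs, hsg⟩ := F2 i g (hJJmap i g hg)
        exact ⟨s, hs, fun _ => hsg⟩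
      · exact ⟨1, (Ideal.ne_top_iff_one _).1 (hq i).ne_top, fun h => absurd h hg⟩
    choose sg hsg1 hsg2 using hex
    refine ⟨∏ g ∈ G, sg g, ?_, ?_⟩
    · intro hmem
      obtain ⟨g, -, hg⟩ := (Ideal.IsPrime.prod_mem_iff).mp hmem
      exact hsg1 g hg
    · rw [h𝔞]
      intro y hy
      rw [← hG] at hy
      refine Submodule.span_induction
        (p := fun y _ => (∏ g ∈ G, sg g) * y ∈ Ideal.span {τ} * J) ?_ ?_ ?_ ?_ hy
      · intro g hg
        have hgJ : g ∈ J * J := by rw [← hG]; exact Submodule.subset_span hg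
        rw [← Finset.mul_prod_erase G sg hg, mul_comm (sg g), mul_assoc]
        exact Ideal.mul_mem_left _ _ (hsg2 g hgJ)
      · rw [mul_zero]; exact Ideal.zero_mem _
      · intro x y _ _ hx hy; rw [mul_add]; exact Ideal.add_mem _ hx hy
      · intro a x _ hx; rw [smul_eq_mul, mul_left_comm]; exact Ideal.mul_mem_left _ _ hx
  -- the ideal 𝔠
  have hKK : (𝔞 * J) * (𝔞 * J) ≤ Ideal.span {τ} * (𝔞 * J) := by
    have h1 : 𝔞 * (J * J) ≤ Ideal.span {τ} * J :=
      Ideal.mul_le.2 (fun x hx y hy => (h𝔞 x).1 hx y hy)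
    calc (𝔞 * J) * (𝔞 * J) = 𝔞 * (𝔞 * (J * J)) := by rw [mul_mul_mul_comm, mul_assoc]
      _ ≤ 𝔞 * (Ideal.span {τ} * J) := Ideal.mul_mono_right h1
      _ = Ideal.span {τ} * (𝔞 * J) := mul_left_comm _ _ _
  refine ⟨Ideal.span {τ} ⊔ 𝔞 * J, ?_, ?_, ?_, ?_⟩
  · exact Ideal.mem_sup_left (Ideal.mem_span_singleton_self τ)
  · have hc1 : (𝔞 * J) * (Ideal.span {τ} ⊔ 𝔞 * J)
        ≤ Ideal.span {τ} * (Ideal.span {τ} ⊔ 𝔞 * J) := by
      rw [Ideal.mul_sup (𝔞 * J)]
      refine sup_le ?_ ?_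
      · rw [mul_comm (𝔞 * J) (Ideal.span {τ})]; exact Ideal.mul_mono_right le_sup_right
      · exact hKK.trans (Ideal.mul_mono_right le_sup_right)
    calc (Ideal.span {τ} ⊔ 𝔞 * J) * (Ideal.span {τ} ⊔ 𝔞 * J)
        = Ideal.span {τ} * (Ideal.span {τ} ⊔ 𝔞 * J)
          ⊔ (𝔞 * J) * (Ideal.span {τ} ⊔ 𝔞 * J) := Ideal.sup_mul _ _ _
      _ ≤ Ideal.span {τ} * (Ideal.span {τ} ⊔ 𝔞 * J) := sup_le le_rfl hc1
  · intro k c hc
    have hle : Ideal.span {τ} ⊔ 𝔞 * J ≤ J :=
      sup_le ((Ideal.span_singleton_le_iff_mem _).2 hτJ0) Ideal.mul_le_right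
    exact (hJmem c).1 (hle hc) k
  · intro k α hα
    obtain ⟨⟨a, s''⟩, hα'⟩ := IsLocalization.surj (q k).primeCompl α
    obtain ⟨s0, hs0, hs0J⟩ := F3 k
    obtain ⟨v, hv, hv𝔞⟩ := F4 k
    have ha : algebraMap A (Localization.AtPrime (q k)) a ∈ J' k := by
      rw [← hα']; exact (J' k).mul_mem_right _ hα
    refine ⟨v * (s0 * s''), ?_, v * (s0 * a),
      Ideal.mem_sup_right (Ideal.mul_mem_mul hv𝔞 (hs0J a ha)), ?_⟩
    · intro hmem
      rcases (hq k).mem_or_mem hmem with h | h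
      · exact hv h
      · rcases (hq k).mem_or_mem h with h | h
        · exact hs0 h
        · exact s''.2 h
    · rw [map_mul, map_mul, map_mul, map_mul, ← hα']; ring

end Groth.Agent.Helper8.GlueH1
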