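import Mathlib
import Groth.Prelude
import Groth.Agent.Lib.Helper1.MatlisL
import Groth.Agent.Lib.Helper8.GorArt6

/-!
# Base change of the injective hull of the residue field along a flat local homomorphism
with Artinian Gorenstein closed fibre
-/

set_option autoImplicit false
universe u

namespace Groth.Agent.Helper8.GorFibHull

open InjHull IsLocalRing TensorProduct LocCoh
open Groth.Agent.Helper1.MatlisL Groth.Agent.Helper1.InjHullL Groth.Agent.Helper8.GorArt

/-- the ideal `𝔪_A B` -/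
abbrev fibI (A B : Type u) [CommRing A] [IsLocalRing A] [CommRing B] [Algebra A B] : Ideal B :=
  (maximalIdeal A).map (algebraMap A B)

variable {A : Type u} [CommRing A] [IsLocalRing A] [IsNoetherianRing A]
  {B : Type u} [CommRing B] [IsLocalRing B] [IsNoetherianRing B] [Algebra A B] [Module.Flat A B]
  {E : Type u} [AddCommGroup E] [Module A E] (f : ResidueField A →ₗ[A] E)

theorem kap_mem' (t : B ⊗[A] (maximalIdeal A)) : kap A B t ∈ fibI A B := by
  induction t using TensorProduct.induction_on with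
  | zero => rw [map_zero]; exact Submodule.zero_mem _
  | tmul b a =>
    rw [kap_tmul, Algebra.smul_def]
    exact Ideal.mul_mem_right _ _ (Ideal.mem_map_of_mem _ a.2)
  | add x y hx hy => rw [map_add]; exact Submodule.add_mem _ hx hy

theorem exists_kap_eq' (x : B) (hx : x ∈ fibI A B) : ∃ t, kap A B t = x := by
  refine Submodule.span_induction ?_ ?_ ?_ ?_ hx
  · rintro _ ⟨a, ha, rfl⟩
    exact ⟨1 ⊗ₜ[A] ⟨a, ha⟩, by rw [kap_tmul, Algebra.smul_def, mul_one]⟩
  · exact ⟨0, map_zero _⟩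
  · rintro x y _ _ ⟨t, rfl⟩ ⟨s, rfl⟩
    exact ⟨t + s, map_add _ _ _⟩
  · rintro c x _ ⟨t, rfl⟩
    exact ⟨c • t, map_smul _ _ _⟩

/-- Baer's criterion for the ideal `𝔪_A B` holds for `B ⊗ E`, `E` injective. -/
theorem baer_fibI (hinjE : Module.Injective A E) (g : fibI A B →ₗ[B] B ⊗[A] E) :
    ∃ y : B ⊗[A] E, ∀ x : fibI A B, g x = (x : B) • y := by
  let g' : B ⊗[A] (maximalIdeal A) →ₗ[B] B ⊗[A] E :=
    g ∘ₗ ((kap A B).codRestrict (fibI A B) kap_mem')
  have hfp : Module.FinitePresentation A (maximalIdeal A) :=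
    Module.finitePresentation_of_finite A _
  have hbc : IsBaseChange B (LinearMap.baseChangeHom A B (maximalIdeal A) E) :=
    Module.FinitePresentation.isBaseChange_map A (maximalIdeal A) E B
  have key : ∃ y : B ⊗[A] E, ∀ t, g' t = kap A B t • y := by
    refine hbc.inductionOn g' (fun G => ∃ y : B ⊗[A] E, ∀ t, G t = kap A B t • y) ?_ ?_ ?_ ?_
    · exact ⟨0, fun t => by rw [smul_zero]; rfl⟩
    · intro φ
      obtain ⟨φ', hφ'⟩ := (Module.Baer.of_injective hinjE) (maximalIdeal A) φ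
      refine ⟨1 ⊗ₜ[A] φ' 1, fun t => ?_⟩
      induction t using TensorProduct.induction_on with
      | zero => rw [map_zero, map_zero, zero_smul]
      | tmul b a =>
        show (LinearMap.baseChange B φ) (b ⊗ₜ[A] a) = _
        rw [LinearMap.baseChange_tmul, kap_tmul, TensorProduct.smul_tmul', smul_eq_mul, mul_one,
          TensorProduct.smul_tmul, ← map_smul, smul_eq_mul, mul_one, hφ' a.1 a.2]
      | add x y hx hy => rw [map_add, map_add, add_smul, hx, hy]
    · rintro s G ⟨y, hy⟩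
      exact ⟨s • y, fun t => by rw [LinearMap.smul_apply, hy, smul_comm]⟩
    · rintro G₁ G₂ ⟨y₁, hy₁⟩ ⟨y₂, hy₂⟩
      exact ⟨y₁ + y₂, fun t => by rw [LinearMap.add_apply, hy₁, hy₂, smul_add]⟩
  obtain ⟨y, hy⟩ := key
  refine ⟨y, fun x => ?_⟩
  obtain ⟨t, ht⟩ := exists_kap_eq' (A := A) x.1 x.2
  have : g' t = g x := by
    show g ((kap A B).codRestrict (fibI A B) kap_mem' t) = g x
    congr 1
    exact Subtype.ext ht
  rw [← this, hy, ht]

theorem exists_pow_le [IsLocalRing (B ⧸ fibI A B)] (hArt : IsArtinianRing (B ⧸ fibI A B)) :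
    ∃ k : ℕ, maximalIdeal B ^ k ≤ fibI A B := by
  have hnil : IsNilpotent (maximalIdeal (B ⧸ fibI A B)) := by
    rw [← IsLocalRing.jacobson_eq_maximalIdeal (⊥ : Ideal (B ⧸ fibI A B)) bot_ne_top]
    exact IsArtinianRing.isNilpotent_jacobson_bot
  obtain ⟨k, hk⟩ := hnil
  refine ⟨k, fun x hx => ?_⟩
  have h1 : Ideal.Quotient.mk (fibI A B) x ∈
      (maximalIdeal B ^ k).map (Ideal.Quotient.mk (fibI A B)) := Ideal.mem_map_of_mem _ hx
  rw [Ideal.map_pow, IsLocalRing.map_maximalIdeal_of_surjective _ Ideal.Quotient.mk_surjective,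
    hk, Ideal.zero_eq_bot, Ideal.mem_bot] at h1
  exact Ideal.Quotient.eq_zero_iff_mem.mp h1

theorem isPowerTorsion_baseChange' (hE : IsPowerTorsion (maximalIdeal A) E) {k : ℕ}
    (hk : maximalIdeal B ^ k ≤ fibI A B) : IsPowerTorsion (maximalIdeal B) (B ⊗[A] E) := by
  have key : ∀ x : B ⊗[A] E, ∃ n : ℕ, ∀ c ∈ fibI A B ^ n, c • x = 0 := by
    intro x
    induction x using TensorProduct.induction_on with
    | zero => exact ⟨0, fun a _ => smul_zero a⟩
    | tmul b e =>
      obtain ⟨n, hn⟩ := hE e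
      refine ⟨n, fun c hc => ?_⟩
      rw [← Ideal.map_pow] at hc
      exact map_smul_tmul_eq_zero _ e hn b hc
    | add x y hx hy =>
      obtain ⟨n, hn⟩ := hx
      obtain ⟨m, hm'⟩ := hy
      refine ⟨max n m, fun c hc => ?_⟩
      rw [smul_add, hn c (Ideal.pow_le_pow_right (le_max_left n m) hc),
        hm' c (Ideal.pow_le_pow_right (le_max_right n m) hc), add_zero]
  intro x
  obtain ⟨n, hn⟩ := key x
  refine ⟨k * n, fun c hc => hn c ?_⟩
  rw [pow_mul] at hc
  exact Ideal.pow_right_mono hk n hc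

theorem exists_smul_n0 (hf : IsEssentialInj f) (x : B ⊗[A] E)
    (hx : ∀ c ∈ fibI A B, c • x = 0) : ∃ b : B, x = b • ((1 : B) ⊗ₜ[A] f 1) := by
  have h1 : ∀ a ∈ maximalIdeal A, a • x = 0 := by
    intro a ha
    rw [← algebraMap_smul B a x]
    exact hx _ (Ideal.mem_map_of_mem _ ha)
  obtain ⟨z, hz⟩ := mem_range_lTensor_of_smul_eq_zero f hf x h1
  obtain ⟨b', rfl⟩ := exists_smul_one_tmul_one (A := A) (B := B) z
  refine ⟨b', ?_⟩
  rw [← hz]
  have : (LinearMap.lTensor B f) (b' • ((1 : B) ⊗ₜ[A] (1 : ResidueField A))) =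
      (LinearMap.baseChange B f) (b' • ((1 : B) ⊗ₜ[A] (1 : ResidueField A))) := by
    rw [LinearMap.baseChange_eq_ltensor]
  rw [this, map_smul, LinearMap.baseChange_tmul]

theorem mem_fibI_of_smul_n0 (hf : IsEssentialInj f) (b : B)
    (hb : b • ((1 : B) ⊗ₜ[A] f 1) = 0) : b ∈ fibI A B := by
  have h1 : (LinearMap.lTensor B f) (b ⊗ₜ[A] (1 : ResidueField A)) = 0 := by
    rw [LinearMap.lTensor_tmul, ← hb, TensorProduct.smul_tmul', smul_eq_mul, mul_one]
  have hinj : Function.Injective (LinearMap.lTensor B f) :=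
    Module.Flat.lTensor_preserves_injective_linearMap f hf.injective
  have h2 : b ⊗ₜ[A] (Ideal.Quotient.mk (maximalIdeal A) (1 : A)) = 0 :=
    hinj (h1.trans (map_zero _).symm)
  have h3 := congrArg (TensorProduct.tensorQuotEquivQuotSMul B (maximalIdeal A)) h2
  rw [TensorProduct.tensorQuotEquivQuotSMul_tmul_mk, map_zero, one_smul,
    Submodule.Quotient.mk_eq_zero, Ideal.smul_top_eq_map, Submodule.restrictScalars_mem] at h3
  exact h3

theorem smul_n0_eq_zero {c : B} (hc : c ∈ fibI A B) : c • ((1 : B) ⊗ₜ[A] f 1) = 0 :=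
  map_smul_tmul_eq_zero (maximalIdeal A) (f 1) (fun _ ha => smul_hull_eq_zero f 1 ha) 1 hc

/-- Baer's criterion for the maximal ideal of `B`. -/
theorem baer_maximalIdeal (hf : IsInjectiveHull f) [IsLocalRing (B ⧸ fibI A B)]
    (hbaerF : Module.Baer (B ⧸ fibI A B) (B ⧸ fibI A B))
    (g : maximalIdeal B →ₗ[B] B ⊗[A] E) :
    ∃ y : B ⊗[A] E, ∀ x : maximalIdeal B, g x = (x : B) • y := by
  set n₀ : B ⊗[A] E := (1 : B) ⊗ₜ[A] f 1 with hn₀
  have hle : fibI A B ≤ maximalIdeal B :=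
    IsLocalRing.le_maximalIdeal (Ideal.Quotient.nontrivial_iff.mp inferInstance)
  have hIn₀ : ∀ c ∈ fibI A B, c • n₀ = 0 := fun c hc => smul_n0_eq_zero f hc
  let g₀ : fibI A B →ₗ[B] B ⊗[A] E := g ∘ₗ Submodule.inclusion hle
  obtain ⟨y₀, hy₀⟩ := baer_fibI hf.isInjective g₀
  let g₁ : maximalIdeal B →ₗ[B] B ⊗[A] E :=
    g - (LinearMap.toSpanSingleton B (B ⊗[A] E) y₀) ∘ₗ (maximalIdeal B).subtype
  have hg₁ : ∀ x : maximalIdeal B, g₁ x = g x - (x : B) • y₀ := fun x => rfl
  have hg₁I : ∀ x : maximalIdeal B, (x : B) ∈ fibI A B → g₁ x = 0 := by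
    intro x hx
    have h1 := hy₀ ⟨x, hx⟩
    have h2 : g₀ ⟨x, hx⟩ = g x := by
      show g (Submodule.inclusion hle ⟨x, hx⟩) = g x
      congr 1
    rw [hg₁, ← h2, h1, sub_self]
  have hkill : ∀ x : maximalIdeal B, ∀ c ∈ fibI A B, c • g₁ x = 0 := by
    intro x c hc
    rw [← map_smul]
    apply hg₁I
    show c * (x : B) ∈ fibI A B
    exact Ideal.mul_mem_right _ _ hc
  choose β hβ using fun x => exists_smul_n0 f hf.toIsEssentialInj (g₁ x) (hkill x)
  have hmem : ∀ b : B, b • n₀ = 0 → b ∈ fibI A B := mem_fibI_of_smul_n0 f hf.toIsEssentialInj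
  let mk := Ideal.Quotient.mk (fibI A B)
  have hΘadd : ∀ x y : maximalIdeal B, mk (β (x + y)) = mk (β x) + mk (β y) := by
    intro x y
    rw [← map_add, Ideal.Quotient.eq]
    apply hmem
    rw [sub_smul (β (x + y)) (β x + β y) n₀, add_smul, ← hβ, ← hβ, ← hβ, map_add, sub_self]
  have hΘsmul : ∀ (c : B) (x : maximalIdeal B), mk (β (c • x)) = mk c * mk (β x) := by
    intro c x
    rw [← map_mul, Ideal.Quotient.eq]
    apply hmem
    rw [sub_smul (β (c • x)) (c * β x) n₀, mul_smul, ← hβ, ← hβ, map_smul, sub_self]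
  have hΘI : ∀ x : maximalIdeal B, (x : B) ∈ fibI A B → mk (β x) = 0 := by
    intro x hx
    rw [Ideal.Quotient.eq_zero_iff_mem]
    apply hmem
    rw [← hβ, hg₁I x hx]
  have hΘwd : ∀ x x' : maximalIdeal B, mk (x : B) = mk (x' : B) → mk (β x) = mk (β x') := by
    intro x x' h
    have h1 : ((x - x' : maximalIdeal B) : B) ∈ fibI A B := by
      rw [AddSubgroupClass.coe_sub]
      exact Ideal.Quotient.eq.mp h
    have h2 := hΘI _ h1
    calc mk (β x) = mk (β ((x - x') + x')) := by rw [sub_add_cancel]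
      _ = mk (β (x - x')) + mk (β x') := hΘadd _ _
      _ = mk (β x') := by rw [h2, zero_add]
  have hsurj : ∀ y : maximalIdeal (B ⧸ fibI A B), ∃ x : maximalIdeal B,
      mk (x : B) = (y : B ⧸ fibI A B) := by
    intro y
    have hy : (y : B ⧸ fibI A B) ∈ Ideal.map mk (maximalIdeal B) := by
      rw [IsLocalRing.map_maximalIdeal_of_surjective mk Ideal.Quotient.mk_surjective]
      exact y.2
    obtain ⟨x, hx, hxy⟩ := (Ideal.mem_map_iff_of_surjective mk Ideal.Quotient.mk_surjective).mp hy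
    exact ⟨⟨x, hx⟩, hxy⟩
  choose ξ hξ using hsurj
  let hbar : maximalIdeal (B ⧸ fibI A B) →ₗ[B ⧸ fibI A B] (B ⧸ fibI A B) :=
    { toFun := fun y => mk (β (ξ y))
      map_add' := by
        intro y y'
        rw [← hΘadd]
        apply hΘwd
        simp only [hξ, Submodule.coe_add, map_add]
      map_smul' := by
        intro c y
        obtain ⟨c, rfl⟩ := Ideal.Quotient.mk_surjective c
        rw [RingHom.id_apply, smul_eq_mul]
        show mk (β (ξ (mk c • y))) = mk c * mk (β (ξ y))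
        rw [← hΘsmul]
        apply hΘwd
        simp only [hξ, Submodule.coe_smul, smul_eq_mul, map_mul] }
  obtain ⟨G, hG⟩ := hbaerF (maximalIdeal (B ⧸ fibI A B)) hbar
  obtain ⟨c, hc⟩ := Ideal.Quotient.mk_surjective (G 1)
  refine ⟨c • n₀ + y₀, fun x => ?_⟩
  have hxF : mk (x : B) ∈ maximalIdeal (B ⧸ fibI A B) := by
    rw [← IsLocalRing.map_maximalIdeal_of_surjective mk Ideal.Quotient.mk_surjective]
    exact Ideal.mem_map_of_mem _ x.2
  have h1 : mk (β x) = mk ((x : B) * c) := by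
    have h2 : mk (β x) = hbar ⟨mk (x : B), hxF⟩ := by
      show mk (β x) = mk (β (ξ ⟨mk (x : B), hxF⟩))
      apply hΘwd
      rw [hξ]
    rw [h2, ← hG _ hxF]
    have h3 : G (mk (x : B)) = G (mk (x : B) • (1 : B ⧸ fibI A B)) := by
      rw [smul_eq_mul, mul_one]
    rw [h3, map_smul, smul_eq_mul, ← hc, ← map_mul]
  have h4 : β x • n₀ = ((x : B) * c) • n₀ := by
    have h5 : β x - (x : B) * c ∈ fibI A B := Ideal.Quotient.eq.mp h1
    have h6 := hIn₀ _ h5
    rw [sub_smul (β x) ((x : B) * c) n₀, sub_eq_zero] at h6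
    exact h6
  have h7 : g x = g₁ x + (x : B) • y₀ := by rw [hg₁]; abel
  rw [h7, hβ x, h4, smul_add, mul_smul]

/-- **Main theorem**: `B ⊗ E_A(k_A)` is an injective hull of the residue field of `B` when the
closed fibre `B/𝔪_A B` is Artinian Gorenstein. -/
theorem exists_hull (hG : IsGorensteinLocalRing (B ⧸ fibI A B))
    (hArt : IsArtinianRing (B ⧸ fibI A B)) (hf : IsInjectiveHull f) :
    ∃ g : ResidueField B →ₗ[B] B ⊗[A] E, IsInjectiveHull g := by
  haveI : IsLocalRing (B ⧸ fibI A B) := hG.toIsLocalRing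
  haveI := hArt
  let mk := Ideal.Quotient.mk (fibI A B)
  have hle : fibI A B ≤ maximalIdeal B :=
    IsLocalRing.le_maximalIdeal (Ideal.Quotient.nontrivial_iff.mp inferInstance)
  have hsoc : Module.length (B ⧸ fibI A B) (Soc (B ⧸ fibI A B) (B ⧸ fibI A B)) ≤ 1 :=
    (isGorensteinLocalRing_iff_length_soc_le_one (B ⧸ fibI A B)).mp hG
  have hbaerF : Module.Baer (B ⧸ fibI A B) (B ⧸ fibI A B) :=
    baer_of_length_soc_le_one (B ⧸ fibI A B) hsoc
  obtain ⟨k, hk⟩ := exists_pow_le (A := A) (B := B) hArt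
  have hE := hull_isPowerTorsion f hf
  have hN : IsPowerTorsion (maximalIdeal B) (B ⊗[A] E) := isPowerTorsion_baseChange' hE hk
  have hinjN : Module.Injective B (B ⊗[A] E) :=
    injective_of_powerTorsion_of_baer hN (baer_maximalIdeal f hf hbaerF)
  have hsimple : IsSimpleModule (B ⧸ fibI A B) (Soc (B ⧸ fibI A B) (B ⧸ fibI A B)) := by
    rw [← Module.length_eq_one_iff]
    exact le_antisymm hsoc (one_le_length_soc (B ⧸ fibI A B))
  haveI := IsSimpleModule.nontrivial (B ⧸ fibI A B) (Soc (B ⧸ fibI A B) (B ⧸ fibI A B))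
  obtain ⟨sbar, hsbar⟩ := exists_ne (0 : Soc (B ⧸ fibI A B) (B ⧸ fibI A B))
  obtain ⟨s, hs⟩ := Ideal.Quotient.mk_surjective (sbar : B ⧸ fibI A B)
  set n₀ : B ⊗[A] E := (1 : B) ⊗ₜ[A] f 1 with hn₀
  have hIn₀ : ∀ c ∈ fibI A B, c • n₀ = 0 := fun c hc => smul_n0_eq_zero f hc
  have hmem : ∀ b : B, b • n₀ = 0 → b ∈ fibI A B := mem_fibI_of_smul_n0 f hf.toIsEssentialInj
  have hmkmax : ∀ x ∈ maximalIdeal B, mk x ∈ maximalIdeal (B ⧸ fibI A B) := by
    intro x hx
    rw [← IsLocalRing.map_maximalIdeal_of_surjective mk Ideal.Quotient.mk_surjective]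
    exact Ideal.mem_map_of_mem _ hx
  let n₁ : B ⊗[A] E := s • n₀
  have hn₁ : n₁ ≠ 0 := by
    intro h0
    have h1 := hmem s h0
    apply hsbar
    ext
    rw [← hs]
    exact Ideal.Quotient.eq_zero_iff_mem.mpr h1
  have hkill : maximalIdeal B ≤ LinearMap.ker (LinearMap.toSpanSingleton B (B ⊗[A] E) n₁) := by
    intro x hx
    rw [LinearMap.mem_ker, LinearMap.toSpanSingleton_apply]
    show x • s • n₀ = 0
    rw [← mul_smul]
    apply hIn₀
    rw [← Ideal.Quotient.eq_zero_iff_mem, map_mul]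
    have h1 := (mem_soc_iff (R := B ⧸ fibI A B) (sbar : B ⧸ fibI A B)).mp sbar.2 (mk x) (hmkmax x hx)
    rw [smul_eq_mul] at h1
    show mk x * mk s = 0
    rw [hs]
    exact h1
  let g : ResidueField B →ₗ[B] B ⊗[A] E :=
    Submodule.liftQ (maximalIdeal B) (LinearMap.toSpanSingleton B (B ⊗[A] E) n₁) hkill
  have hg1 : ∀ b : B, g (residue B b) = b • n₁ := fun b => rfl
  refine ⟨g, ⟨?_, ?_⟩, hinjN⟩
  · rw [← LinearMap.ker_eq_bot, LinearMap.ker_eq_bot']
    intro c hc
    obtain ⟨b, rfl⟩ := residue_surjective c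
    by_contra hne
    have hb : IsUnit b := by
      by_contra hb
      exact hne ((residue_eq_zero_iff b).mpr ((mem_maximalIdeal b).mpr hb))
    obtain ⟨ub, rfl⟩ := hb
    rw [hg1] at hc
    apply hn₁
    have : n₁ = (↑ub⁻¹ : B) • ((ub : B) • n₁) := by rw [← mul_smul, Units.inv_mul, one_smul]
    rw [this, hc, smul_zero]
  · intro N' hN'
    obtain ⟨x, hxN, hx0⟩ := (Submodule.ne_bot_iff N').mp hN'
    obtain ⟨b, hbx, hbmem⟩ := exists_smul_mem_torsionBy hN hx0
    have hmB : ∀ r ∈ maximalIdeal B, r • (b • x) = 0 := fun r hr =>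
      (Submodule.mem_torsionBySet_iff _ _).mp hbmem ⟨r, hr⟩
    obtain ⟨c, hc⟩ := exists_smul_n0 f hf.toIsEssentialInj (b • x)
      (fun r hr => hmB r (hle hr))
    have hcsoc : mk c ∈ Soc (B ⧸ fibI A B) (B ⧸ fibI A B) := by
      rw [mem_soc_iff]
      intro r hr
      obtain ⟨r, rfl⟩ := Ideal.Quotient.mk_surjective r
      have hr' : r ∈ maximalIdeal B := by
        by_contra hnot
        have hu : IsUnit r := by
          by_contra hu
          exact hnot ((mem_maximalIdeal r).mpr hu)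
        exact (mem_maximalIdeal _).mp hr (hu.map mk)
      rw [smul_eq_mul, ← map_mul, Ideal.Quotient.eq_zero_iff_mem]
      apply hmem
      rw [mul_smul, ← hc]
      exact hmB r hr'
    obtain ⟨ubar, hubar⟩ := IsSimpleModule.toSpanSingleton_surjective (B ⧸ fibI A B) hsbar
      ⟨mk c, hcsoc⟩
    obtain ⟨u, rfl⟩ := Ideal.Quotient.mk_surjective ubar
    have h1 : mk u * mk s = mk c := by
      have := congrArg Subtype.val hubar
      rw [LinearMap.toSpanSingleton_apply, Submodule.coe_smul, smul_eq_mul, ← hs] at this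
      exact this
    have h2 : c - u * s ∈ fibI A B := by
      rw [← Ideal.Quotient.eq, map_mul]
      exact h1.symm
    have h3 : b • x = u • n₁ := by
      have h4 := hIn₀ _ h2
      rw [sub_smul c (u * s) n₀, sub_eq_zero] at h4
      rw [hc, h4, mul_smul]
    refine (Submodule.ne_bot_iff _).mpr ⟨b • x, ⟨N'.smul_mem b hxN, ⟨residue B u, ?_⟩⟩, hbx⟩
    rw [hg1, h3]

end Groth.Agent.Helper8.GorFibHull
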