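import Mathlib

/-!
# Graded prime avoidance
-/

set_option autoImplicit false

namespace Groth.Agent.Helper8

open DirectSum

variable {R A : Type*} [CommRing R] [CommRing A] [Algebra R A] (𝒜 : ℕ → Submodule R A)
  [GradedRing 𝒜]

/-- A homogeneous ideal not contained in `p` has a homogeneous element outside `p`. -/
theorem exists_homogeneous_mem_not_mem {I : Ideal A} (hI : I.IsHomogeneous 𝒜) {p : Ideal A}
    (h : ¬ I ≤ p) : ∃ (x : A) (d : ℕ), x ∈ 𝒜 d ∧ x ∈ I ∧ x ∉ p := by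
  classical
  obtain ⟨y, hyI, hyp⟩ := SetLike.not_le_iff_exists.mp h
  by_contra hcon
  push Not at hcon
  apply hyp
  rw [← sum_support_decompose 𝒜 y]
  refine Ideal.sum_mem _ fun d _ => ?_
  exact hcon _ d (decompose 𝒜 y d).2 (hI d hyI)

theorem pos_of_mem_irrelevant {x : A} {d : ℕ} (hx : x ∈ 𝒜 d)
    (hirr : x ∈ (HomogeneousIdeal.irrelevant 𝒜).toIdeal) (h0 : x ≠ 0) : 0 < d := by
  rcases Nat.eq_zero_or_pos d with rfl | hd
  · exfalso
    apply h0
    have h1 : (decompose 𝒜 x 0 : A) = 0 := hirr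
    rw [decompose_of_mem_same 𝒜 hx] at h1
    exact h1
  · exact hd

/-- Graded prime avoidance. -/
theorem graded_prime_avoidance (P : Finset (Ideal A))
    (hP : ∀ p ∈ P, p.IsPrime ∧ p.IsHomogeneous 𝒜) (I : Ideal A) (hI : I.IsHomogeneous 𝒜)
    (hle : I ≤ (HomogeneousIdeal.irrelevant 𝒜).toIdeal) (h : ∀ p ∈ P, ¬ I ≤ p) :
    ∃ (z : A) (n : ℕ), 0 < n ∧ z ∈ 𝒜 n ∧ z ∈ I ∧ ∀ p ∈ P, z ∉ p := by
  classical
  set Pmax := P.filter (fun p => Maximal (· ∈ P) p) with hPmax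
  have hmaxP : ∀ p ∈ Pmax, p ∈ P := fun p hp => (Finset.mem_filter.mp hp).1
  have hmax : ∀ p ∈ Pmax, Maximal (· ∈ P) p := fun p hp => (Finset.mem_filter.mp hp).2
  have hnle : ∀ p ∈ Pmax, ∀ q ∈ Pmax, q ≠ p → ¬ q ≤ p := by
    intro p hp q hq hne hqp
    exact hne (le_antisymm hqp ((hmax q hq).2 (hmaxP p hp) hqp))
  -- for each maximal `p`, an element of `I` in all other maximal primes but not in `p`
  have hy : ∀ p ∈ Pmax, ∃ (y : A) (d : ℕ), 0 < d ∧ y ∈ 𝒜 d ∧ y ∈ I ∧ y ∉ p ∧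
      ∀ q ∈ Pmax, q ≠ p → y ∈ q := by
    intro p hp
    haveI := (hP p (hmaxP p hp)).1
    obtain ⟨a, da, hada, haI, hap⟩ := exists_homogeneous_mem_not_mem 𝒜 hI (h p (hmaxP p hp))
    have hb : ∀ q : Ideal A, ∃ (b : A) (d : ℕ), b ∈ 𝒜 d ∧ b ∉ p ∧
        (q ∈ Pmax → q ≠ p → b ∈ q) := by
      intro q
      by_cases hq : q ∈ Pmax ∧ q ≠ p
      · obtain ⟨b, d, hbd, hbq, hbp⟩ :=
          exists_homogeneous_mem_not_mem 𝒜 (hP q (hmaxP q hq.1)).2 (hnle p hp q hq.1 hq.2)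
        exact ⟨b, d, hbd, hbp, fun _ _ => hbq⟩
      · refine ⟨1, 0, SetLike.one_mem_graded 𝒜, ?_, fun h1 h2 => absurd ⟨h1, h2⟩ hq⟩
        exact fun h1 => (Ideal.ne_top_iff_one p).mp (Ideal.IsPrime.ne_top') h1
    choose b db hbd hbp hbq using hb
    set y := a * ∏ q ∈ Pmax.erase p, b q with hy
    have hyp : y ∉ p := by
      intro hmem
      rcases Ideal.IsPrime.mem_or_mem ‹p.IsPrime› hmem with h1 | h1
      · exact hap h1
      · obtain ⟨q, _, hq⟩ := (Ideal.IsPrime.prod_mem_iff (hp := ‹p.IsPrime›)).mp h1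
        exact hbp q hq
    have hyI : y ∈ I := Ideal.mul_mem_right _ _ haI
    have hyd : y ∈ 𝒜 (da + ∑ q ∈ Pmax.erase p, db q) :=
      SetLike.mul_mem_graded hada (SetLike.prod_mem_graded 𝒜 _ _ fun q _ => hbd q)
    refine ⟨y, _, ?_, hyd, hyI, hyp, ?_⟩
    · refine pos_of_mem_irrelevant 𝒜 hyd (hle hyI) ?_
      intro h0
      exact hyp (h0 ▸ Ideal.zero_mem p)
    · intro q hq hne
      refine Ideal.mul_mem_left _ _ ?_
      exact Ideal.prod_mem q (Finset.mem_erase.mpr ⟨hne, hq⟩) (hbq q hq hne)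
  choose! y d hdpos hyd hyI hyp hyq using hy
  set D := ∏ p ∈ Pmax, d p with hD
  have hDpos : 0 < D := Finset.prod_pos fun p hp => hdpos p hp
  set e : Ideal A → ℕ := fun p => D / d p with he
  have hde : ∀ p ∈ Pmax, e p * d p = D := fun p hp =>
    Nat.div_mul_cancel (Finset.dvd_prod_of_mem d hp)
  have hepos : ∀ p ∈ Pmax, 0 < e p := by
    intro p hp
    rcases Nat.eq_zero_or_pos (e p) with h0 | h0
    · have := hde p hp
      rw [h0, zero_mul] at this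
      omega
    · exact h0
  set z := ∑ p ∈ Pmax, y p ^ e p with hz
  have hzD : z ∈ 𝒜 D := by
    refine Submodule.sum_mem _ fun p hp => ?_
    have := SetLike.pow_mem_graded (e p) (hyd p hp)
    rw [smul_eq_mul, hde p hp] at this
    exact this
  have hzI : z ∈ I :=
    Ideal.sum_mem _ fun p hp => Ideal.pow_mem_of_mem _ (hyI p hp) _ (hepos p hp)
  have hzp : ∀ p ∈ Pmax, z ∉ p := by
    intro p hp hmem
    haveI := (hP p (hmaxP p hp)).1
    have hsplit : z = y p ^ e p + ∑ q ∈ Pmax.erase p, y q ^ e q := by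
      rw [hz, ← Finset.add_sum_erase _ _ hp]
    have hrest : ∑ q ∈ Pmax.erase p, y q ^ e q ∈ p := by
      refine Ideal.sum_mem _ fun q hq => ?_
      have hq' := Finset.mem_erase.mp hq
      exact Ideal.pow_mem_of_mem _ (hyq q hq'.2 p hp (Ne.symm hq'.1)) _ (hepos q hq'.2)
    have : y p ^ e p ∈ p := by
      have := Ideal.sub_mem _ hmem hrest
      rwa [hsplit, add_sub_cancel_right] at this
    exact hyp p hp (Ideal.IsPrime.mem_of_pow_mem ‹p.IsPrime› _ this)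
  refine ⟨z, D, hDpos, hzD, hzI, fun p hp hmem => ?_⟩
  obtain ⟨q, hpq, hq⟩ := Finset.exists_le_maximal P hp
  exact hzp q (Finset.mem_filter.mpr ⟨hq.1, hq⟩) (hpq hmem)

end Groth.Agent.Helper8
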