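import Mathlib

/-!
# Graded Nakayama lemma for `ℕ`-graded modules
-/

set_option autoImplicit false

namespace Groth.Agent.Helper8

open DirectSum

section

variable {R S : Type*} [CommRing R] [CommRing S] [Algebra R S] (𝒜 : ℕ → Submodule R S)
  [GradedAlgebra 𝒜]
  {M : Type*} [AddCommGroup M] [Module R M] [Module S M] [IsScalarTower R S M]
  (ℳ : ℕ → Submodule R M) [DirectSum.Decomposition ℳ] [SetLike.GradedSMul 𝒜 ℳ]

/-- The degree `d` component, as an `R`-linear endomorphism. -/
noncomputable def gradedComp (d : ℕ) : M →ₗ[R] M :=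
  (ℳ d).subtype ∘ₗ DirectSum.component R ℕ (fun i => ℳ i) d ∘ₗ
    (decomposeLinearEquiv ℳ).toLinearMap

theorem gradedComp_apply (d : ℕ) (m : M) : gradedComp ℳ d m = (decompose ℳ m d : M) := rfl

theorem gradedComp_of_mem_same {d : ℕ} {m : M} (h : m ∈ ℳ d) : gradedComp ℳ d m = m := by
  rw [gradedComp_apply, decompose_of_mem_same ℳ h]

theorem gradedComp_of_mem_ne {d e : ℕ} {m : M} (h : m ∈ ℳ e) (hne : e ≠ d) :
    gradedComp ℳ d m = 0 := by
  rw [gradedComp_apply, decompose_of_mem_ne ℳ h hne]

theorem gradedComp_mem_of_mem (N : Submodule S M) {d e : ℕ} {m : M} (h : m ∈ ℳ e) (hN : m ∈ N) :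
    gradedComp ℳ d m ∈ N := by
  by_cases hne : e = d
  · subst hne
    rw [gradedComp_of_mem_same ℳ h]
    exact hN
  · rw [gradedComp_of_mem_ne ℳ h hne]
    exact N.zero_mem

theorem eq_sum_gradedComp (m : M) : ∃ s : Finset ℕ, m = ∑ i ∈ s, gradedComp ℳ i m := by
  classical
  exact ⟨_, (sum_support_decompose ℳ m).symm⟩

theorem gradedComp_mem (d : ℕ) (m : M) : gradedComp ℳ d m ∈ ℳ d := by
  rw [gradedComp_apply]
  exact (decompose ℳ m d).2

include 𝒜 in
/-- A homogeneous element of `N` multiplied by anything has all its components in `N`. -/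
theorem gradedComp_smul_mem_of_homogeneous (N : Submodule S M) (d : ℕ) (c : S) {e : ℕ} {x : M}
    (hx : x ∈ ℳ e) (hxN : x ∈ N) : gradedComp ℳ d (c • x) ∈ N := by
  classical
  rw [← sum_support_decompose 𝒜 c, Finset.sum_smul, map_sum]
  refine Submodule.sum_mem _ fun a _ => ?_
  have h1 : (decompose 𝒜 c a : S) • x ∈ ℳ (a + e) :=
    SetLike.GradedSMul.smul_mem (decompose 𝒜 c a).2 hx
  exact gradedComp_mem_of_mem ℳ N h1 (N.smul_mem _ hxN)

/-- Elements of `S₊ M` have degree `d` component in `N` as soon as all homogeneous elements of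
smaller degree lie in `N`. -/
theorem gradedComp_irrelevant_smul_mem (N : Submodule S M) (d : ℕ)
    (hIH : ∀ b < d, ∀ m ∈ ℳ b, m ∈ N) {s : S}
    (hs : s ∈ (HomogeneousIdeal.irrelevant 𝒜).toIdeal) (m' : M) :
    gradedComp ℳ d (s • m') ∈ N := by
  classical
  rw [← sum_support_decompose 𝒜 s, Finset.sum_smul, map_sum]
  refine Submodule.sum_mem _ fun a _ => ?_
  rw [← sum_support_decompose ℳ m', Finset.smul_sum, map_sum]
  refine Submodule.sum_mem _ fun b _ => ?_
  by_cases ha : a = 0
  · subst ha
    have h0 : (decompose 𝒜 s 0 : S) = 0 := hs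
    rw [h0, zero_smul, map_zero]
    exact N.zero_mem
  · have h1 : (decompose 𝒜 s a : S) • (decompose ℳ m' b : M) ∈ ℳ (a + b) :=
      SetLike.GradedSMul.smul_mem (decompose 𝒜 s a).2 (decompose ℳ m' b).2
    by_cases hab : a + b = d
    · have hb : b < d := by omega
      rw [← hab, gradedComp_of_mem_same ℳ h1]
      exact N.smul_mem _ (hIH b hb _ (decompose ℳ m' b).2)
    · rw [gradedComp_of_mem_ne ℳ h1 hab]
      exact N.zero_mem

/-- Graded Nakayama: if `N` is generated by homogeneous elements and `N + S₊ M = M`,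
then `N = M`. -/
theorem graded_nakayama (X : Set M) (hX : ∀ x ∈ X, SetLike.IsHomogeneousElem ℳ x)
    (h : Submodule.span S X ⊔ (HomogeneousIdeal.irrelevant 𝒜).toIdeal • (⊤ : Submodule S M) = ⊤) :
    Submodule.span S X = ⊤ := by
  classical
  set N := Submodule.span S X with hN
  have hcomp : ∀ d, (∀ b < d, ∀ m ∈ ℳ b, m ∈ N) → ∀ m : M, gradedComp ℳ d m ∈ N := by
    intro d hIH m
    have hm : m ∈ N ⊔ (HomogeneousIdeal.irrelevant 𝒜).toIdeal • (⊤ : Submodule S M) := by
      rw [h]; trivial
    obtain ⟨n, hn, w, hw, rfl⟩ := Submodule.mem_sup.mp hm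
    rw [map_add]
    refine N.add_mem ?_ ?_
    · obtain ⟨k, c, g, rfl⟩ := Submodule.mem_span_set'.mp hn
      rw [map_sum]
      refine Submodule.sum_mem _ fun i _ => ?_
      obtain ⟨e, he⟩ := hX _ (g i).2
      exact gradedComp_smul_mem_of_homogeneous 𝒜 ℳ N d (c i) he (Submodule.subset_span (g i).2)
    · refine Submodule.smul_induction_on hw ?_ ?_
      · intro s hs m' _
        exact gradedComp_irrelevant_smul_mem 𝒜 ℳ N d hIH hs m'
      · intro x y hx hy
        rw [map_add]
        exact N.add_mem hx hy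
  have hall : ∀ d, ∀ m ∈ ℳ d, m ∈ N := by
    intro d
    induction d using Nat.strong_induction_on with
    | _ d ih =>
      intro m hm
      rw [← gradedComp_of_mem_same ℳ hm]
      exact hcomp d ih m
  rw [eq_top_iff]
  intro m _
  obtain ⟨s, hs⟩ := eq_sum_gradedComp ℳ m
  rw [hs]
  exact Submodule.sum_mem _ fun i _ => hall i _ (gradedComp_mem ℳ i m)

end

section Finiteness

variable {R S : Type*} [CommRing R] [CommRing S] [Algebra R S] (𝒜 : ℕ → Submodule R S)
  [GradedAlgebra 𝒜]
  {M : Type*} [AddCommGroup M] [Module R M] [Module S M] [IsScalarTower R S M]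
  (ℳ : ℕ → Submodule R M) [DirectSum.Decomposition ℳ] [SetLike.GradedSMul 𝒜 ℳ]

include 𝒜 in
theorem gradedComp_smul_of_mem_of_le {e d : ℕ} {s : S} (hs : s ∈ 𝒜 e) (h : e ≤ d) (w : M) :
    gradedComp ℳ d (s • w) = s • gradedComp ℳ (d - e) w := by
  classical
  conv_lhs => rw [← sum_support_decompose ℳ w, Finset.smul_sum, map_sum]
  have hterm : ∀ b, gradedComp ℳ d (s • (decompose ℳ w b : M)) =
      if b = d - e then s • (decompose ℳ w b : M) else 0 := by
    intro b
    have h1 : s • (decompose ℳ w b : M) ∈ ℳ (e + b) :=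
      SetLike.GradedSMul.smul_mem hs (decompose ℳ w b).2
    split_ifs with hb
    · subst hb
      have : e + (d - e) = d := by omega
      rw [this] at h1
      exact gradedComp_of_mem_same ℳ h1
    · exact gradedComp_of_mem_ne ℳ h1 (by omega)
  simp_rw [hterm]
  rw [Finset.sum_ite_eq']
  split_ifs with hmem
  · rfl
  · have h0 : decompose ℳ w (d - e) = 0 := by
      simpa using hmem
    rw [gradedComp_apply, h0]
    simp

include 𝒜 in
theorem gradedComp_smul_of_mem_of_lt {e d : ℕ} {s : S} (hs : s ∈ 𝒜 e) (h : d < e) (w : M) :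
    gradedComp ℳ d (s • w) = 0 := by
  classical
  conv_lhs => rw [← sum_support_decompose ℳ w, Finset.smul_sum, map_sum]
  refine Finset.sum_eq_zero fun b _ => ?_
  have h1 : s • (decompose ℳ w b : M) ∈ ℳ (e + b) :=
    SetLike.GradedSMul.smul_mem hs (decompose ℳ w b).2
  exact gradedComp_of_mem_ne ℳ h1 (by omega)

theorem finiteType_gradeZero [Algebra.FiniteType R S] : Algebra.FiniteType (𝒜 0) S := by
  obtain ⟨F, hF⟩ := Algebra.FiniteType.out (R := R) (A := S)
  refine ⟨⟨F, ?_⟩⟩
  have key : ∀ x, x ∈ Algebra.adjoin R (F : Set S) → x ∈ Algebra.adjoin (𝒜 0) (F : Set S) := by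
    intro x hx
    induction hx using Algebra.adjoin_induction with
    | mem x hx => exact Algebra.subset_adjoin hx
    | algebraMap r =>
      have : algebraMap R S r =
          algebraMap (𝒜 0) S ⟨algebraMap R S r, SetLike.algebraMap_mem_graded 𝒜 r⟩ := rfl
      rw [this]
      exact Subalgebra.algebraMap_mem _ _
    | add x y _ _ hx hy => exact Subalgebra.add_mem _ hx hy
    | mul x y _ _ hx hy => exact Subalgebra.mul_mem _ hx hy
  rw [eq_top_iff]
  intro x _
  exact key x (by rw [hF]; trivial)

theorem exists_finset_homogeneous_pos [Algebra.FiniteType R S] :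
    ∃ s : Finset S, (∀ i ∈ s, ∃ n, 0 < n ∧ i ∈ 𝒜 n) ∧
      ∀ c : S, ∃ a ∈ 𝒜 0, c - a ∈ Ideal.span (s : Set S) := by
  have := finiteType_gradeZero 𝒜
  obtain ⟨s, hs, hpos⟩ := GradedAlgebra.exists_finset_adjoin_eq_top_and_homogeneous_ne_zero 𝒜
  refine ⟨s, fun i hi => ?_, fun c => ?_⟩
  · obtain ⟨n, hn, hin⟩ := hpos i hi
    exact ⟨n, Nat.pos_of_ne_zero hn, hin⟩
  · have hc : c ∈ Algebra.adjoin (𝒜 0) (s : Set S) := by rw [hs]; trivial
    induction hc using Algebra.adjoin_induction with
    | mem x hx => exact ⟨0, Submodule.zero_mem _, by simpa using Ideal.subset_span hx⟩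
    | algebraMap r => exact ⟨r.1, r.2, by
        have : algebraMap (𝒜 0) S r = r.1 := rfl
        rw [this, sub_self]; exact Ideal.zero_mem _⟩
    | add x y _ _ hx hy =>
      obtain ⟨a, ha, hxa⟩ := hx
      obtain ⟨b, hb, hyb⟩ := hy
      refine ⟨a + b, Submodule.add_mem _ ha hb, ?_⟩
      have : x + y - (a + b) = (x - a) + (y - b) := by ring
      rw [this]
      exact Ideal.add_mem _ hxa hyb
    | mul x y _ _ hx hy =>
      obtain ⟨a, ha, hxa⟩ := hx
      obtain ⟨b, hb, hyb⟩ := hy
      refine ⟨a * b, ?_, ?_⟩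
      · have := SetLike.mul_mem_graded ha hb
        simpa using this
      · have : x * y - a * b = (x - a) * y + a * (y - b) := by ring
        rw [this]
        exact Ideal.add_mem _ (Ideal.mul_mem_right _ _ hxa) (Ideal.mul_mem_left _ _ hyb)

/-- A finite module has a finite generating set of homogeneous elements. -/
theorem exists_finset_homogeneous_span_eq_top [Module.Finite S M] :
    ∃ G : Finset M, (∀ g ∈ G, SetLike.IsHomogeneousElem ℳ g) ∧
      Submodule.span S (G : Set M) = ⊤ := by
  classical
  obtain ⟨G, hG⟩ := (Module.Finite.fg_top (R := S) (M := M))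
  refine ⟨G.biUnion fun m => (decompose ℳ m).support.image fun i => (decompose ℳ m i : M), ?_, ?_⟩
  · intro g hg
    simp only [Finset.mem_biUnion, Finset.mem_image] at hg
    obtain ⟨m, _, i, _, rfl⟩ := hg
    exact ⟨i, (decompose ℳ m i).2⟩
  · rw [eq_top_iff, ← hG, Submodule.span_le]
    intro m hm
    rw [SetLike.mem_coe, ← sum_support_decompose ℳ m]
    refine Submodule.sum_mem _ fun i hi => Submodule.subset_span ?_
    simp only [Finset.coe_biUnion, Finset.coe_image, Set.mem_iUnion, Set.mem_image]
    exact ⟨m, hm, i, hi, rfl⟩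

/-- The graded pieces of a finite graded module over a graded algebra of finite type with
`𝒜 0` the image of `R` are finitely generated over `R`. -/
theorem gradedPiece_fg (h0 : ∀ s ∈ 𝒜 0, s ∈ Set.range (algebraMap R S)) [Algebra.FiniteType R S]
    [Module.Finite S M] (n : ℕ) : (ℳ n).FG := by
  classical
  obtain ⟨s, hspos, hdec⟩ := exists_finset_homogeneous_pos 𝒜
  obtain ⟨G, hGhom, hG⟩ := exists_finset_homogeneous_span_eq_top (S := S) ℳ
  choose! deg hdegpos hdeg using hspos
  induction n using Nat.strong_induction_on with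
  | _ n ih =>
    set P : Submodule R M := Submodule.span R ((G : Set M) ∩ (ℳ n : Set M)) ⊔
      ⨆ i ∈ s, if deg i ≤ n then
        (ℳ (n - deg i)).map ((LinearMap.lsmul S M i).restrictScalars R) else ⊥ with hP
    have hPfg : P.FG := by
      refine Submodule.FG.sup ?_ ?_
      · exact Submodule.fg_span ((G.finite_toSet).subset Set.inter_subset_left)
      · refine Submodule.fg_biSup s _ fun i hi => ?_
        split_ifs with hle
        · exact (ih (n - deg i) (by have := hdegpos i hi; omega)).map _
        · exact Submodule.fg_bot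
    have hPle : P ≤ ℳ n := by
      refine sup_le ?_ ?_
      · rw [Submodule.span_le]
        exact Set.inter_subset_right
      · refine iSup₂_le fun i hi => ?_
        split_ifs with hle
        · rintro _ ⟨w, hw, rfl⟩
          have h1 : i • w ∈ ℳ (deg i + (n - deg i)) :=
            SetLike.GradedSMul.smul_mem (hdeg i hi) hw
          have : deg i + (n - deg i) = n := by omega
          rw [this] at h1
          exact h1
        · exact bot_le
    have hle : ℳ n ≤ P := by
      intro m hm
      rw [← gradedComp_of_mem_same ℳ hm]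
      have hm' : m ∈ Submodule.span S (G : Set M) := by rw [hG]; trivial
      obtain ⟨c, _, rfl⟩ := Submodule.mem_span_finset.mp hm'
      rw [map_sum]
      refine Submodule.sum_mem _ fun g hg => ?_
      obtain ⟨a, ha, hau⟩ := hdec (c g)
      have hcg : c g • g = a • g + (c g - a) • g := by rw [← add_smul]; congr 1; ring
      rw [hcg, map_add]
      refine P.add_mem ?_ ?_
      · obtain ⟨r, rfl⟩ := h0 a ha
        rw [algebraMap_smul, map_smul]
        refine P.smul_mem _ (Submodule.mem_sup_left ?_)
        obtain ⟨e, he⟩ := hGhom g hg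
        by_cases hen : e = n
        · subst hen
          rw [gradedComp_of_mem_same ℳ he]
          exact Submodule.subset_span ⟨hg, he⟩
        · rw [gradedComp_of_mem_ne ℳ he hen]
          exact Submodule.zero_mem _
      · obtain ⟨z, _, hz⟩ := Submodule.mem_span_finset.mp hau
        rw [← hz, Finset.sum_smul, map_sum]
        refine Submodule.sum_mem _ fun i hi => ?_
        have e1 : (z i • i) • g = i • (z i • g) := by
          rw [smul_eq_mul, mul_comm, mul_smul]
        rw [e1]
        by_cases hle : deg i ≤ n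
        · rw [gradedComp_smul_of_mem_of_le 𝒜 ℳ (hdeg i hi) hle]
          refine Submodule.mem_sup_right ?_
          refine Submodule.mem_iSup_of_mem i (Submodule.mem_iSup_of_mem hi ?_)
          rw [if_pos hle]
          exact ⟨_, gradedComp_mem ℳ _ _, rfl⟩
        · rw [gradedComp_smul_of_mem_of_lt 𝒜 ℳ (hdeg i hi) (by omega)]
          exact Submodule.zero_mem _
    rw [le_antisymm hle hPle]
    exact hPfg

end Finiteness

end Groth.Agent.Helper8
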