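import Mathlib

/-!
# `ℤ`-graded rings: Noetherian criteria
-/

set_option autoImplicit false

namespace Groth.Agent.Helper8.GradedZ

open DirectSum

variable {R A : Type*} [CommRing R] [CommRing A] [Algebra R A] (𝒜 : ℤ → Submodule R A)
  [GradedAlgebra 𝒜]

lemma decompose_mul_of_right_mem (a : A) {b : A} {j : ℤ} (hb : b ∈ 𝒜 j) (n : ℤ) :
    (decompose 𝒜 (a * b) n : A) = (decompose 𝒜 a (n - j) : A) * b := by
  have := DirectSum.coe_decompose_mul_add_of_right_mem 𝒜 (i := n - j) (a := a) hb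
  rwa [sub_add_cancel] at this

/-- coefficient extraction -/
lemma exists_homogeneous_coeffs (X : Finset A) (deg : A → ℤ) (hdeg : ∀ x ∈ X, x ∈ 𝒜 (deg x))
    {y : A} {n : ℤ} (hy : y ∈ 𝒜 n) (hyX : y ∈ Ideal.span (X : Set A)) :
    ∃ c : A → A, (∀ x, c x ∈ 𝒜 (n - deg x)) ∧ y = ∑ x ∈ X, c x * x := by
  classical
  obtain ⟨f, -, hf⟩ := Submodule.mem_span_finset.mp hyX
  refine ⟨fun x => (decompose 𝒜 (f x) (n - deg x) : A), fun x => SetLike.coe_mem _, ?_⟩
  have h1 : (decompose 𝒜 y n : A) = y := DirectSum.decompose_of_mem_same 𝒜 hy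
  rw [← h1, ← hf, DirectSum.decompose_sum, DFinsupp.finset_sum_apply,
    AddSubmonoidClass.coe_finset_sum]
  refine Finset.sum_congr rfl fun x hx => ?_
  rw [smul_eq_mul, decompose_mul_of_right_mem 𝒜 (f x) (hdeg x hx) n]

variable (H2 : ∀ I : Ideal A, I.IsHomogeneous 𝒜 → I.FG)

include H2 in
theorem isNoetherianRing_zero : IsNoetherianRing (𝒜 0) := by
  classical
  rw [isNoetherianRing_iff_ideal_fg]
  intro I0
  set S0 : Set A := Subtype.val '' (I0 : Set (𝒜 0)) with hS0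
  have hhom : (Ideal.span S0).IsHomogeneous 𝒜 := by
    apply Ideal.homogeneous_span
    rintro _ ⟨x, _, rfl⟩
    exact ⟨0, x.2⟩
  obtain ⟨X, hXsub, hXspan⟩ := (Submodule.fg_span_iff_fg_span_finset_subset S0).mp (H2 _ hhom)
  have hX' : ∀ x ∈ X, ∃ x' : 𝒜 0, x' ∈ I0 ∧ (x' : A) = x := fun x hx => hXsub hx
  choose! pre hpre using hX'
  refine ⟨X.image pre, le_antisymm ?_ ?_⟩
  · rw [Submodule.span_le]
    intro z hz
    obtain ⟨x, hx, rfl⟩ := Finset.mem_image.mp (Finset.mem_coe.mp hz)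
    exact (hpre x hx).1
  · intro y hy
    have hyS : (y : A) ∈ Ideal.span S0 := Ideal.subset_span ⟨y, hy, rfl⟩
    rw [show Ideal.span S0 = Ideal.span (X : Set A) from hXspan] at hyS
    obtain ⟨c, hc, hsum⟩ := exists_homogeneous_coeffs 𝒜 X (fun _ => 0)
      (fun x hx => by rw [← (hpre x hx).2]; exact (pre x).2) y.2 hyS
    have hc0 : ∀ x, c x ∈ 𝒜 0 := fun x => by simpa using hc x
    have : y = ∑ x ∈ X, (⟨c x, hc0 x⟩ : 𝒜 0) * pre x := by
      apply Subtype.ext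
      rw [hsum]
      push_cast
      refine Finset.sum_congr rfl fun x hx => ?_
      rw [(hpre x hx).2]
    rw [this]
    refine Submodule.sum_mem _ fun x hx => ?_
    exact Ideal.mul_mem_left _ _ (Ideal.subset_span (Finset.mem_coe.mpr (Finset.mem_image_of_mem _ hx)))

include H2 in
theorem fg_adjoin_halfline (ε : ℤ) (hε : ε * ε = 1) :
    (Algebra.adjoin (𝒜 0) {a : A | ∃ n : ℤ, 0 ≤ ε * n ∧ a ∈ 𝒜 n}).FG := by
  classical
  set P : Set A := {a : A | ∃ n : ℤ, 0 ≤ ε * n ∧ a ∈ 𝒜 n} with hP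
  set Ppos : Set A := {a : A | ∃ n : ℤ, 0 < ε * n ∧ a ∈ 𝒜 n} with hPpos
  have hhom : (Ideal.span Ppos).IsHomogeneous 𝒜 := by
    apply Ideal.homogeneous_span
    rintro x ⟨n, _, hx⟩
    exact ⟨n, hx⟩
  obtain ⟨X, hXsub, hXspan⟩ := (Submodule.fg_span_iff_fg_span_finset_subset Ppos).mp (H2 _ hhom)
  have hX' : ∀ x ∈ X, ∃ n : ℤ, 0 < ε * n ∧ x ∈ 𝒜 n := fun x hx => hXsub hx
  choose! deg hdeg using hX'
  set d : ℤ := ∑ x ∈ X, ε * deg x with hd
  have hdle : ∀ x ∈ X, ε * deg x ≤ d := fun x hx =>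
    Finset.single_le_sum (f := fun x => ε * deg x) (fun i hi => (hdeg i hi).1.le) hx
  -- generators of each graded piece
  have hG : ∀ n : ℤ, ∃ G : Finset A, (G : Set A) ⊆ (𝒜 n : Set A) ∧
      Ideal.span (𝒜 n : Set A) = Ideal.span (G : Set A) := by
    intro n
    have hh : (Ideal.span (𝒜 n : Set A)).IsHomogeneous 𝒜 := by
      apply Ideal.homogeneous_span
      intro x hx
      exact ⟨n, hx⟩
    exact (Submodule.fg_span_iff_fg_span_finset_subset _).mp (H2 _ hh)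
  choose G hGsub hGspan using hG
  set T : Finset A := X ∪ (Finset.Icc 0 d).biUnion (fun m => G (ε * m)) with hT
  have hXT : ∀ x ∈ X, x ∈ Algebra.adjoin (𝒜 0) (T : Set A) := fun x hx =>
    Algebra.subset_adjoin (Finset.mem_coe.mpr (Finset.mem_union_left _ hx))
  have hGT : ∀ m : ℤ, 0 ≤ m → m ≤ d → ∀ g ∈ G (ε * m), g ∈ Algebra.adjoin (𝒜 0) (T : Set A) := by
    intro m hm0 hmd g hg
    refine Algebra.subset_adjoin (Finset.mem_coe.mpr (Finset.mem_union_right _ ?_))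
    exact Finset.mem_biUnion.mpr ⟨m, Finset.mem_Icc.mpr ⟨hm0, hmd⟩, hg⟩
  have hzero : ∀ c ∈ 𝒜 0, c ∈ Algebra.adjoin (𝒜 0) (T : Set A) := fun c hc =>
    (Algebra.adjoin (𝒜 0) (T : Set A)).algebraMap_mem ⟨c, hc⟩
  have claim : ∀ m : ℕ, ∀ n : ℤ, ε * n = m → ∀ y ∈ 𝒜 n, y ∈ Algebra.adjoin (𝒜 0) (T : Set A) := by
    intro m
    induction m using Nat.strong_induction_on with
    | _ m ih =>
      intro n hn y hy
      have hnm : n = ε * m := by
        have : ε * (ε * n) = ε * m := by rw [hn]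
        rw [← mul_assoc, hε, one_mul] at this
        exact this
      by_cases hmd : (m : ℤ) ≤ d
      · have hyS : y ∈ Ideal.span (𝒜 n : Set A) := Ideal.subset_span hy
        rw [hGspan n] at hyS
        obtain ⟨c, hc, hsum⟩ := exists_homogeneous_coeffs 𝒜 (G n) (fun _ => n)
          (fun x hx => hGsub n (Finset.mem_coe.mpr hx)) hy hyS
        rw [hsum]
        refine Subalgebra.sum_mem _ fun g hg => Subalgebra.mul_mem _ ?_ ?_
        · exact hzero _ (by simpa using hc g)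
        · exact hGT m (by positivity) hmd g (by rw [← hnm]; exact hg)
      · have hmpos : (0 : ℤ) < m := by
          have : (0 : ℤ) ≤ d := Finset.sum_nonneg fun i hi => (hdeg i hi).1.le
          omega
        have hyP : y ∈ Ideal.span Ppos := Ideal.subset_span ⟨n, by rw [hn]; exact hmpos, hy⟩
        rw [show Ideal.span Ppos = Ideal.span (X : Set A) from hXspan] at hyP
        obtain ⟨c, hc, hsum⟩ := exists_homogeneous_coeffs 𝒜 X deg (fun x hx => (hdeg x hx).2) hy hyP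
        rw [hsum]
        refine Subalgebra.sum_mem _ fun x hx => Subalgebra.mul_mem _ ?_ (hXT x hx)
        have h1 : ε * (n - deg x) = (m : ℤ) - ε * deg x := by rw [mul_sub, hn]
        have h2 := (hdeg x hx).1
        have h3 := hdle x hx
        have h4 : ε * (n - deg x) = ((m - (ε * deg x).toNat : ℕ) : ℤ) := by
          rw [h1]
          omega
        refine ih (m - (ε * deg x).toNat) ?_ (n - deg x) h4 _ (hc x)
        omega
  refine ⟨T, le_antisymm ?_ ?_⟩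
  · apply Algebra.adjoin_le
    intro t ht
    rcases Finset.mem_union.mp (Finset.mem_coe.mp ht) with h | h
    · obtain ⟨n, hn, hx⟩ := hXsub h
      exact Algebra.subset_adjoin ⟨n, hn.le, hx⟩
    · obtain ⟨m, hm, hg⟩ := Finset.mem_biUnion.mp h
      refine Algebra.subset_adjoin ⟨ε * m, ?_, hGsub _ (Finset.mem_coe.mpr hg)⟩
      rw [← mul_assoc, hε, one_mul]
      exact (Finset.mem_Icc.mp hm).1
  · apply Algebra.adjoin_le
    rintro a ⟨n, hn, ha⟩
    exact claim (ε * n).toNat n (Int.toNat_of_nonneg hn).symm a ha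

omit H2 in
theorem adjoin_union_eq_top :
    Algebra.adjoin (𝒜 0) ({a : A | ∃ n : ℤ, 0 ≤ n ∧ a ∈ 𝒜 n} ∪ {a : A | ∃ n : ℤ, n ≤ 0 ∧ a ∈ 𝒜 n})
      = ⊤ := by
  classical
  rw [eq_top_iff]
  intro a _
  rw [← DirectSum.sum_support_decompose 𝒜 a]
  refine Subalgebra.sum_mem _ fun i _ => Algebra.subset_adjoin ?_
  rcases le_total 0 i with h | h
  · exact Or.inl ⟨i, h, SetLike.coe_mem _⟩
  · exact Or.inr ⟨i, h, SetLike.coe_mem _⟩

omit H2 in
theorem tfae :
    [IsNoetherianRing A,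
     ∀ I : Ideal A, I.IsHomogeneous 𝒜 → I.FG,
     IsNoetherianRing (𝒜 0) ∧ (Algebra.adjoin (𝒜 0) {a : A | ∃ n : ℤ, 0 ≤ n ∧ a ∈ 𝒜 n}).FG ∧
       (Algebra.adjoin (𝒜 0) {a : A | ∃ n : ℤ, n ≤ 0 ∧ a ∈ 𝒜 n}).FG,
     IsNoetherianRing (𝒜 0) ∧ Algebra.FiniteType (𝒜 0) A].TFAE := by
  tfae_have 1 → 2 := fun h I _ => (isNoetherianRing_iff_ideal_fg A).mp h I
  tfae_have 2 → 3 := by
    intro H2
    refine ⟨isNoetherianRing_zero 𝒜 H2, ?_, ?_⟩
    · have := fg_adjoin_halfline 𝒜 H2 1 (by norm_num)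
      simpa using this
    · have := fg_adjoin_halfline 𝒜 H2 (-1) (by norm_num)
      simpa using this
  tfae_have 3 → 4 := by
    rintro ⟨h0, h1, h2⟩
    refine ⟨h0, ⟨?_⟩⟩
    rw [← adjoin_union_eq_top 𝒜, Algebra.adjoin_union]
    exact h1.sup h2
  tfae_have 4 → 1 := by
    rintro ⟨h0, h1⟩
    exact Algebra.FiniteType.isNoetherianRing (𝒜 0) A
  tfae_finish

end Groth.Agent.Helper8.GradedZ
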