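import Mathlib

/-!
# Adding a point to a length-one free resolution (abstract step, for S12917)
-/

namespace Groth.Agent.Helper8.HBP1

variable {R : Type*} [CommRing R]

/-- `g` generates `I`, the columns of `Ψ` generate the relations of `g` and are independent. -/
structure IsRes (I : Ideal R) (t : ℕ) (g : Fin (t + 1) → R) (Ψ : Fin (t + 1) → Fin t → R) :
    Prop where
  span : Ideal.span (Set.range g) = I
  rel : ∀ a : Fin (t + 1) → R,
    (∑ i, a i * g i = 0) ↔ ∃ r : Fin t → R, ∀ i, a i = ∑ j, Ψ i j * r j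
  inj : ∀ r : Fin t → R, (∀ i, ∑ j, Ψ i j * r j = 0) → r = 0

section step

variable {t : ℕ} (g : Fin (t + 1) → R) (Ψ : Fin (t + 1) → Fin t → R) (ℓ₁ ℓ₂ : R)
  (i0 : Fin (t + 1)) (q : Fin (t + 1) → R)

def gt (i : Fin (t + 1)) : R := if i = i0 then 0 else g i - q i * g i0

def q0 (i : Fin (t + 1)) : R := if i = i0 then 0 else q i

def newGen : Fin (t + 1 + 1) → R :=
  Fin.lastCases (ℓ₂ * g i0) (fun i => gt g i0 q i + if i = i0 then ℓ₁ * g i0 else 0)

def newRel (b1 b2 : Fin t → R) : Fin (t + 1 + 1) → Fin (t + 1) → R := fun i' j' =>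
  Fin.lastCases (Fin.lastCases (-ℓ₁) (fun j => b2 j) j')
    (fun i => Fin.lastCases (if i = i0 then ℓ₂ else 0)
      (fun j => if i = i0 then b1 j else Ψ i j) j') i'

theorem gt_i0 : gt g i0 q i0 = 0 := by simp [gt]

theorem q0_i0 : q0 i0 q i0 = 0 := by simp [q0]

theorem newGen_last : newGen g ℓ₁ ℓ₂ i0 q (Fin.last (t + 1)) = ℓ₂ * g i0 := by
  simp [newGen]

theorem newGen_cs (i : Fin (t + 1)) : newGen g ℓ₁ ℓ₂ i0 q (Fin.castSucc i) =
    gt g i0 q i + if i = i0 then ℓ₁ * g i0 else 0 := by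
  simp [newGen]

@[simp] theorem newRel_cs_cs (b1 b2 : Fin t → R) (i : Fin (t + 1)) (j : Fin t) :
    newRel Ψ ℓ₁ ℓ₂ i0 b1 b2 (Fin.castSucc i) (Fin.castSucc j) =
      if i = i0 then b1 j else Ψ i j := by
  simp [newRel]

@[simp] theorem newRel_cs_last (b1 b2 : Fin t → R) (i : Fin (t + 1)) :
    newRel Ψ ℓ₁ ℓ₂ i0 b1 b2 (Fin.castSucc i) (Fin.last t) = if i = i0 then ℓ₂ else 0 := by
  simp [newRel]

@[simp] theorem newRel_last_cs (b1 b2 : Fin t → R) (j : Fin t) :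
    newRel Ψ ℓ₁ ℓ₂ i0 b1 b2 (Fin.last (t + 1)) (Fin.castSucc j) = b2 j := by
  simp [newRel]

@[simp] theorem newRel_last_last (b1 b2 : Fin t → R) :
    newRel Ψ ℓ₁ ℓ₂ i0 b1 b2 (Fin.last (t + 1)) (Fin.last t) = -ℓ₁ := by
  simp [newRel]

theorem ID (a : Fin (t + 1) → R) :
    ∑ i, a i * g i =
      ∑ i, a i * gt g i0 q i + (a i0 + ∑ i, a i * q0 i0 q i) * g i0 := by
  have h : ∀ i, a i * g i = a i * gt g i0 q i +
      ((if i = i0 then a i else 0) + a i * q0 i0 q i) * g i0 := by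
    intro i
    by_cases hi : i = i0
    · rw [hi]
      simp [gt, q0]
    · simp only [gt, q0, if_neg hi, zero_add]
      ring
  rw [Finset.sum_congr rfl (fun i _ => h i), Finset.sum_add_distrib, ← Finset.sum_mul,
    Finset.sum_add_distrib, Finset.sum_ite_eq']
  simp

theorem ID' (a' : Fin (t + 1 + 1) → R) :
    ∑ i', a' i' * newGen g ℓ₁ ℓ₂ i0 q i' =
      ∑ i, a' (Fin.castSucc i) * gt g i0 q i +
        (a' (Fin.castSucc i0) * ℓ₁ + a' (Fin.last (t + 1)) * ℓ₂) * g i0 := by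
  rw [Fin.sum_univ_castSucc]
  simp only [newGen_last, newGen_cs, mul_add, Finset.sum_add_distrib,
    mul_ite, mul_zero, Finset.sum_ite_eq', Finset.mem_univ, if_true]
  ring

theorem row_cs (b1 b2 : Fin t → R) (r' : Fin (t + 1) → R) (i : Fin (t + 1)) :
    ∑ j', newRel Ψ ℓ₁ ℓ₂ i0 b1 b2 (Fin.castSucc i) j' * r' j' =
      ∑ j, (if i = i0 then b1 j else Ψ i j) * r' (Fin.castSucc j) +
        (if i = i0 then ℓ₂ else 0) * r' (Fin.last t) := by
  rw [Fin.sum_univ_castSucc]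
  simp only [newRel_cs_cs, newRel_cs_last]

theorem row_last (b1 b2 : Fin t → R) (r' : Fin (t + 1) → R) :
    ∑ j', newRel Ψ ℓ₁ ℓ₂ i0 b1 b2 (Fin.last (t + 1)) j' * r' j' =
      ∑ j, b2 j * r' (Fin.castSucc j) + (-ℓ₁) * r' (Fin.last t) := by
  rw [Fin.sum_univ_castSucc]
  simp only [newRel_last_cs, newRel_last_last]

theorem sum_b (b1 b2 r : Fin t → R)
    (hb : ∀ j, b1 j * ℓ₁ + b2 j * ℓ₂ = Ψ i0 j + ∑ i, Ψ i j * q0 i0 q i) :
    (∑ j, b1 j * r j) * ℓ₁ + (∑ j, b2 j * r j) * ℓ₂ =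
      ∑ j, Ψ i0 j * r j + ∑ k, (∑ j, Ψ k j * r j) * q0 i0 q k := by
  calc (∑ j, b1 j * r j) * ℓ₁ + (∑ j, b2 j * r j) * ℓ₂
      = ∑ j, (b1 j * ℓ₁ + b2 j * ℓ₂) * r j := by
        rw [Finset.sum_mul, Finset.sum_mul, ← Finset.sum_add_distrib]
        exact Finset.sum_congr rfl fun j _ => by ring
    _ = ∑ j, (Ψ i0 j * r j + ∑ k, (Ψ k j * r j) * q0 i0 q k) := by
        apply Finset.sum_congr rfl
        intro j _
        rw [hb j, add_mul, Finset.sum_mul]
        congr 1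
        exact Finset.sum_congr rfl fun k _ => by ring
    _ = ∑ j, Ψ i0 j * r j + ∑ j, ∑ k, (Ψ k j * r j) * q0 i0 q k := Finset.sum_add_distrib
    _ = ∑ j, Ψ i0 j * r j + ∑ k, ∑ j, (Ψ k j * r j) * q0 i0 q k := by rw [Finset.sum_comm]
    _ = ∑ j, Ψ i0 j * r j + ∑ k, (∑ j, Ψ k j * r j) * q0 i0 q k := by
        simp only [Finset.sum_mul]

theorem col_cs (b1 b2 : Fin t → R) (j : Fin t)
    (hb : b1 j * ℓ₁ + b2 j * ℓ₂ = Ψ i0 j + ∑ i, Ψ i j * q0 i0 q i)
    (hcol : ∑ i, Ψ i j * g i = 0) :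
    ∑ i', newRel Ψ ℓ₁ ℓ₂ i0 b1 b2 i' (Fin.castSucc j) * newGen g ℓ₁ ℓ₂ i0 q i' = 0 := by
  rw [ID' g ℓ₁ ℓ₂ i0 q (fun i' => newRel Ψ ℓ₁ ℓ₂ i0 b1 b2 i' (Fin.castSucc j))]
  simp only [newRel_cs_cs, newRel_last_cs, eq_self_iff_true, if_true]
  have h1 : ∀ i, (if i = i0 then b1 j else Ψ i j) * gt g i0 q i = Ψ i j * gt g i0 q i := by
    intro i
    by_cases hi : i = i0
    · rw [hi, gt_i0, mul_zero, mul_zero]
    · rw [if_neg hi]
  have e : ∑ i, Ψ i j * g i = ∑ i, Ψ i j * gt g i0 q i +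
      (Ψ i0 j + ∑ i, Ψ i j * q0 i0 q i) * g i0 := ID g i0 q (fun i => Ψ i j)
  rw [Finset.sum_congr rfl (fun i _ => h1 i), hb, ← e]
  exact hcol

theorem col_last (b1 b2 : Fin t → R) :
    ∑ i', newRel Ψ ℓ₁ ℓ₂ i0 b1 b2 i' (Fin.last t) * newGen g ℓ₁ ℓ₂ i0 q i' = 0 := by
  rw [ID' g ℓ₁ ℓ₂ i0 q (fun i' => newRel Ψ ℓ₁ ℓ₂ i0 b1 b2 i' (Fin.last t))]
  simp only [newRel_cs_last, newRel_last_last, eq_self_iff_true, if_true]
  have h1 : ∀ i, (if i = i0 then ℓ₂ else 0) * gt g i0 q i = 0 := by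
    intro i
    by_cases hi : i = i0
    · rw [hi, gt_i0, mul_zero]
    · rw [if_neg hi, zero_mul]
  rw [Finset.sum_eq_zero (fun i _ => h1 i)]
  ring

theorem step {I : Ideal R} (h : IsRes I t g Ψ)
    (hK : ∀ a b : R, a * ℓ₁ + b * ℓ₂ = 0 → ∃ r, a = r * ℓ₂ ∧ b = -(r * ℓ₁))
    (hreg : ∀ ρ : R, ℓ₁ * ρ = 0 → ρ = 0)
    (hq : ∀ i, i ≠ i0 → g i - q i * g i0 ∈ Ideal.span {ℓ₁, ℓ₂})
    (hnzd : ∀ b : R, b * g i0 ∈ Ideal.span {ℓ₁, ℓ₂} → b ∈ Ideal.span {ℓ₁, ℓ₂}) :
    ∃ Ψ' : Fin (t + 1 + 1) → Fin (t + 1) → R,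
      IsRes (I ⊓ Ideal.span {ℓ₁, ℓ₂}) (t + 1) (newGen g ℓ₁ ℓ₂ i0 q) Ψ' := by
  have hℓ₁ : ℓ₁ ∈ Ideal.span {ℓ₁, ℓ₂} := Ideal.subset_span (by simp)
  have hℓ₂ : ℓ₂ ∈ Ideal.span {ℓ₁, ℓ₂} := Ideal.subset_span (by simp)
  have hgI : ∀ i, g i ∈ I := by
    intro i
    rw [← h.span]
    exact Ideal.subset_span ⟨i, rfl⟩
  have hgt : ∀ i, gt g i0 q i ∈ Ideal.span {ℓ₁, ℓ₂} := by
    intro i
    unfold gt
    split_ifs with hi
    · exact Ideal.zero_mem _
    · exact hq i hi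
  have hgtI : ∀ i, gt g i0 q i ∈ I := by
    intro i
    unfold gt
    split_ifs with hi
    · exact Ideal.zero_mem _
    · exact I.sub_mem (hgI i) (I.mul_mem_left _ (hgI i0))
  have hs : ∀ a : Fin (t + 1) → R, (∑ i, a i * g i) ∈ Ideal.span {ℓ₁, ℓ₂} →
      a i0 + ∑ i, a i * q0 i0 q i ∈ Ideal.span {ℓ₁, ℓ₂} := by
    intro a ha
    apply hnzd
    have h2 : (a i0 + ∑ i, a i * q0 i0 q i) * g i0 =
        ∑ i, a i * g i - ∑ i, a i * gt g i0 q i := by
      rw [ID g i0 q a]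
      ring
    rw [h2]
    exact Ideal.sub_mem _ ha (Ideal.sum_mem _ fun i _ => Ideal.mul_mem_left _ _ (hgt i))
  have hcol : ∀ j, ∑ i, Ψ i j * g i = 0 := by
    intro j
    rw [h.rel (fun i => Ψ i j)]
    refine ⟨Pi.single j 1, fun i => ?_⟩
    simp [Pi.single_apply]
  have hsj : ∀ j, ∃ b1 b2 : R,
      b1 * ℓ₁ + b2 * ℓ₂ = Ψ i0 j + ∑ i, Ψ i j * q0 i0 q i := by
    intro j
    have := hs (fun i => Ψ i j) (by rw [hcol j]; exact Ideal.zero_mem _)
    exact Ideal.mem_span_pair.1 this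
  choose b1 b2 hb using hsj
  refine ⟨newRel Ψ ℓ₁ ℓ₂ i0 b1 b2, ?_, ?_, ?_⟩
  · -- span
    apply le_antisymm
    · rw [Ideal.span_le]
      rintro _ ⟨i', rfl⟩
      refine Fin.lastCases ?_ (fun i => ?_) i'
      · rw [newGen_last]
        exact Ideal.mem_inf.2 ⟨I.mul_mem_left _ (hgI i0), Ideal.mul_mem_right _ _ hℓ₂⟩
      · rw [newGen_cs]
        refine Ideal.add_mem _ (Ideal.mem_inf.2 ⟨hgtI i, hgt i⟩) ?_
        split_ifs
        · exact Ideal.mem_inf.2 ⟨I.mul_mem_left _ (hgI i0), Ideal.mul_mem_right _ _ hℓ₁⟩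
        · exact Ideal.zero_mem _
    · intro f hf
      have hfI : f ∈ Ideal.span (Set.range g) := by
        rw [h.span]
        exact (Ideal.mem_inf.1 hf).1
      obtain ⟨a, rfl⟩ := Ideal.mem_span_range_iff_exists_fun.1 hfI
      obtain ⟨β1, β2, hβ⟩ := Ideal.mem_span_pair.1 (hs a (Ideal.mem_inf.1 hf).2)
      rw [Ideal.mem_span_range_iff_exists_fun]
      refine ⟨Fin.lastCases β2 (fun i => if i = i0 then β1 else a i), ?_⟩
      rw [ID' g ℓ₁ ℓ₂ i0 q, ID g i0 q a]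
      simp only [Fin.lastCases_last, Fin.lastCases_castSucc, eq_self_iff_true, if_true]
      have h1 : ∀ i, (if i = i0 then β1 else a i) * gt g i0 q i = a i * gt g i0 q i := by
        intro i
        by_cases hi : i = i0
        · rw [hi, gt_i0, mul_zero, mul_zero]
        · rw [if_neg hi]
      rw [Finset.sum_congr rfl (fun i _ => h1 i), hβ]
  · -- rel
    intro a'
    constructor
    · intro ha'
      obtain ⟨a, ha⟩ : ∃ a : Fin (t + 1) → R, a = fun i =>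
          if i = i0 then (a' (Fin.castSucc i0) * ℓ₁ + a' (Fin.last (t + 1)) * ℓ₂) -
            ∑ k, a' (Fin.castSucc k) * q0 i0 q k else a' (Fin.castSucc i) := ⟨_, rfl⟩
      have ha0 : a i0 = (a' (Fin.castSucc i0) * ℓ₁ + a' (Fin.last (t + 1)) * ℓ₂) -
            ∑ k, a' (Fin.castSucc k) * q0 i0 q k := by
        rw [ha]
        simp
      have hane : ∀ i, i ≠ i0 → a i = a' (Fin.castSucc i) := by
        intro i hi
        rw [ha]
        simp [hi]
      have e1 : ∀ i, a i * gt g i0 q i = a' (Fin.castSucc i) * gt g i0 q i := by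
        intro i
        by_cases hi : i = i0
        · rw [hi, gt_i0, mul_zero, mul_zero]
        · rw [hane i hi]
      have e2 : ∀ i, a i * q0 i0 q i = a' (Fin.castSucc i) * q0 i0 q i := by
        intro i
        by_cases hi : i = i0
        · rw [hi, q0_i0, mul_zero, mul_zero]
        · rw [hane i hi]
      have hsum : ∑ i, a i * g i = 0 := by
        rw [ID g i0 q a, Finset.sum_congr rfl (fun i _ => e1 i),
          Finset.sum_congr rfl (fun i _ => e2 i), ha0, sub_add_cancel, ← ID' g ℓ₁ ℓ₂ i0 q a']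
        exact ha'
      obtain ⟨r, hr⟩ := (h.rel a).1 hsum
      have hkey : a' (Fin.castSucc i0) * ℓ₁ + a' (Fin.last (t + 1)) * ℓ₂ =
          (∑ j, b1 j * r j) * ℓ₁ + (∑ j, b2 j * r j) * ℓ₂ := by
        have h1 : ∑ k, a' (Fin.castSucc k) * q0 i0 q k =
            ∑ k, (∑ j, Ψ k j * r j) * q0 i0 q k := by
          apply Finset.sum_congr rfl
          intro k _
          by_cases hk : k = i0
          · rw [hk, q0_i0, mul_zero, mul_zero]
          · rw [← hr k, hane k hk]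
        have h2 := hr i0
        rw [ha0, h1] at h2
        rw [sum_b Ψ ℓ₁ ℓ₂ i0 q b1 b2 r hb, ← h2]
        ring
      have hK' : (a' (Fin.castSucc i0) - ∑ j, b1 j * r j) * ℓ₁ +
          (a' (Fin.last (t + 1)) - ∑ j, b2 j * r j) * ℓ₂ = 0 := by
        linear_combination hkey
      obtain ⟨ρ, hρ1, hρ2⟩ := hK _ _ hK'
      refine ⟨Fin.lastCases ρ r, fun i' => ?_⟩
      refine Fin.lastCases ?_ (fun i => ?_) i'
      · rw [row_last]
        simp only [Fin.lastCases_last, Fin.lastCases_castSucc]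
        linear_combination hρ2
      · rw [row_cs]
        simp only [Fin.lastCases_last, Fin.lastCases_castSucc]
        by_cases hi : i = i0
        · rw [hi]
          simp only [eq_self_iff_true, if_true]
          linear_combination hρ1
        · simp only [if_neg hi, zero_mul, add_zero]
          rw [← hane i hi]
          exact hr i
    · rintro ⟨r', hr'⟩
      have hswap : ∑ i', a' i' * newGen g ℓ₁ ℓ₂ i0 q i' =
          ∑ j', r' j' * ∑ i', newRel Ψ ℓ₁ ℓ₂ i0 b1 b2 i' j' * newGen g ℓ₁ ℓ₂ i0 q i' := by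
        simp only [Finset.mul_sum]
        rw [Finset.sum_comm]
        apply Finset.sum_congr rfl
        intro i' _
        rw [hr' i', Finset.sum_mul]
        apply Finset.sum_congr rfl
        intro j' _
        ring
      rw [hswap]
      apply Finset.sum_eq_zero
      intro j' _
      have hc : ∑ i', newRel Ψ ℓ₁ ℓ₂ i0 b1 b2 i' j' * newGen g ℓ₁ ℓ₂ i0 q i' = 0 := by
        refine Fin.lastCases ?_ (fun j => ?_) j'
        · exact col_last g Ψ ℓ₁ ℓ₂ i0 q b1 b2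
        · exact col_cs g Ψ ℓ₁ ℓ₂ i0 q b1 b2 j (hb j) (hcol j)
      rw [hc, mul_zero]
  · -- inj
    intro r' hr'
    obtain ⟨r, hrdef⟩ : ∃ r : Fin t → R, r = fun j => r' (Fin.castSucc j) := ⟨_, rfl⟩
    obtain ⟨ρ, hρdef⟩ : ∃ ρ : R, ρ = r' (Fin.last t) := ⟨_, rfl⟩
    have Rcs : ∀ i, ∑ j, (if i = i0 then b1 j else Ψ i j) * r j +
        (if i = i0 then ℓ₂ else 0) * ρ = 0 := by
      intro i
      have := hr' (Fin.castSucc i)
      rw [row_cs] at this
      rw [hrdef, hρdef]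
      exact this
    have Rlast : ∑ j, b2 j * r j + (-ℓ₁) * ρ = 0 := by
      have := hr' (Fin.last (t + 1))
      rw [row_last] at this
      rw [hrdef, hρdef]
      exact this
    have Rne : ∀ i, i ≠ i0 → ∑ j, Ψ i j * r j = 0 := by
      intro i hi
      have := Rcs i
      simpa [hi] using this
    have R0 : ∑ j, b1 j * r j + ℓ₂ * ρ = 0 := by
      have := Rcs i0
      simpa using this
    have hi0 : ∑ j, Ψ i0 j * r j = 0 := by
      have h3 := sum_b Ψ ℓ₁ ℓ₂ i0 q b1 b2 r hb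
      have h5 : ∑ k, (∑ j, Ψ k j * r j) * q0 i0 q k = 0 := by
        apply Finset.sum_eq_zero
        intro k _
        by_cases hk : k = i0
        · rw [hk, q0_i0, mul_zero]
        · rw [Rne k hk, zero_mul]
      rw [h5, add_zero] at h3
      rw [← h3]
      linear_combination ℓ₁ * R0 + ℓ₂ * Rlast
    have hr0 : r = 0 := by
      apply h.inj r
      intro i
      by_cases hi : i = i0
      · rw [hi]
        exact hi0
      · exact Rne i hi
    have hρ0 : ρ = 0 := by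
      apply hreg
      have := Rlast
      rw [hr0] at this
      simpa using this
    funext j'
    refine Fin.lastCases ?_ (fun j => ?_) j'
    · rw [← hρdef, hρ0]
      rfl
    · have := congrFun hr0 j
      rw [hrdef] at this
      exact this

end step

end Groth.Agent.Helper8.HBP1
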