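import Mathlib

/-!
# The ideal of a point of the projective plane (for S12917)
-/

namespace Groth.Agent.Helper8.HBP2

open MvPolynomial

universe u

variable {k : Type u} [Field k]

theorem fin3 : ∀ a : Fin 3, a + 1 ≠ a ∧ a + 2 ≠ a ∧ a + 1 ≠ a + 2 ∧
    ∀ i : Fin 3, i = a ∨ i = a + 1 ∨ i = a + 2 := by decide

/-- evaluation along the line through `p` -/
noncomputable def ev (p : Fin 3 → k) : MvPolynomial (Fin 3) k →ₐ[k] Polynomial k :=
  MvPolynomial.aeval (fun i => Polynomial.C (p i) * Polynomial.X)

theorem ev_X (p : Fin 3 → k) (i : Fin 3) :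
    ev p (X i) = Polynomial.C (p i) * Polynomial.X := by
  simp [ev]

theorem ev_C (p : Fin 3 → k) (c : k) : ev p (C c) = Polynomial.C c := by
  simp [ev, Polynomial.C_eq_algebraMap]

theorem ev_monomial (p : Fin 3 → k) (m : Fin 3 →₀ ℕ) (c : k) :
    ev p (monomial m c) =
      Polynomial.C (c * m.prod fun i e => p i ^ e) * Polynomial.X ^ (Finsupp.degree m) := by
  rw [ev, aeval_monomial, Finsupp.degree_apply, ← Polynomial.C_eq_algebraMap]
  simp only [Finsupp.prod, mul_pow, Finset.prod_mul_distrib, Finset.prod_pow_eq_pow_sum,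
    map_mul, map_prod, map_pow]
  ring

theorem coeff_ev (p : Fin 3 → k) (f : MvPolynomial (Fin 3) k) (j : ℕ) :
    (ev p f).coeff j = eval p (homogeneousComponent j f) := by
  apply MvPolynomial.induction_on'
    (P := fun f => (ev p f).coeff j = eval p (homogeneousComponent j f)) f
  · intro m c
    rw [ev_monomial, Polynomial.coeff_C_mul_X_pow,
      homogeneousComponent_of_mem
        ((mem_homogeneousSubmodule _ _).2 (isHomogeneous_monomial c rfl))]
    split_ifs
    · rw [eval_monomial]
    · rw [map_zero]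
  · intro f g hf hg
    rw [map_add, Polynomial.coeff_add, map_add, map_add, hf, hg]

theorem mem_ker_ev (p : Fin 3 → k) (f : MvPolynomial (Fin 3) k) :
    f ∈ RingHom.ker (ev p) ↔ ∀ j : ℕ, eval p (homogeneousComponent j f) = 0 := by
  rw [RingHom.mem_ker, Polynomial.ext_iff]
  constructor
  · intro h j
    rw [← coeff_ev, h j, Polynomial.coeff_zero]
  · intro h j
    rw [coeff_ev, h j, Polynomial.coeff_zero]

theorem ev_of_isHomogeneous (p : Fin 3 → k) {g : MvPolynomial (Fin 3) k} {d : ℕ}
    (hg : g.IsHomogeneous d) :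
    ev p g = Polynomial.C (eval p g) * Polynomial.X ^ d := by
  ext j
  rw [coeff_ev, Polynomial.coeff_C_mul_X_pow,
    homogeneousComponent_of_mem ((mem_homogeneousSubmodule _ _).2 hg)]
  split_ifs
  · rfl
  · rw [map_zero]

theorem sub_subst_mem (b : Fin 3) (T : MvPolynomial (Fin 3) k) (f : MvPolynomial (Fin 3) k) :
    f - MvPolynomial.aeval
        (Function.update (MvPolynomial.X : Fin 3 → MvPolynomial (Fin 3) k) b T) f ∈
      Ideal.span {(MvPolynomial.X b : MvPolynomial (Fin 3) k) - T} := by
  apply MvPolynomial.induction_on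
    (motive := fun f => f - MvPolynomial.aeval
        (Function.update (MvPolynomial.X : Fin 3 → MvPolynomial (Fin 3) k) b T) f ∈
      Ideal.span {(MvPolynomial.X b : MvPolynomial (Fin 3) k) - T}) f
  · intro r
    simp
  · intro f g hf hg
    have : f + g - MvPolynomial.aeval
        (Function.update (MvPolynomial.X : Fin 3 → MvPolynomial (Fin 3) k) b T) (f + g) =
        (f - MvPolynomial.aeval
          (Function.update (MvPolynomial.X : Fin 3 → MvPolynomial (Fin 3) k) b T) f) +
        (g - MvPolynomial.aeval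
          (Function.update (MvPolynomial.X : Fin 3 → MvPolynomial (Fin 3) k) b T) g) := by
      rw [map_add]
      ring
    rw [this]
    exact Ideal.add_mem _ hf hg
  · intro f i hf
    have : f * X i - MvPolynomial.aeval
        (Function.update (MvPolynomial.X : Fin 3 → MvPolynomial (Fin 3) k) b T) (f * X i) =
        (f - MvPolynomial.aeval
          (Function.update (MvPolynomial.X : Fin 3 → MvPolynomial (Fin 3) k) b T) f) * X i +
        MvPolynomial.aeval
          (Function.update (MvPolynomial.X : Fin 3 → MvPolynomial (Fin 3) k) b T) f *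
          (X i - Function.update (MvPolynomial.X : Fin 3 → MvPolynomial (Fin 3) k) b T i) := by
      rw [map_mul, aeval_X]
      ring
    rw [this]
    refine Ideal.add_mem _ (Ideal.mul_mem_right _ _ hf) (Ideal.mul_mem_left _ _ ?_)
    by_cases hi : i = b
    · rw [hi, Function.update_self]
      exact Ideal.subset_span rfl
    · rw [Function.update_of_ne hi, sub_self]
      exact Ideal.zero_mem _

section point

variable (p : Fin 3 → k) (a : Fin 3)

/-- first linear form through `p` -/
noncomputable def l1 : MvPolynomial (Fin 3) k := X (a + 1) - C (p (a + 1) / p a) * X a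

/-- second linear form through `p` -/
noncomputable def l2 : MvPolynomial (Fin 3) k := X (a + 2) - C (p (a + 2) / p a) * X a

/-- a linear form with value one at `p` -/
noncomputable def lam : MvPolynomial (Fin 3) k := C (1 / p a) * X a

/-- substitution eliminating `X (a+1)` -/
noncomputable def phi1 : MvPolynomial (Fin 3) k →ₐ[k] MvPolynomial (Fin 3) k :=
  MvPolynomial.aeval (Function.update (MvPolynomial.X : Fin 3 → MvPolynomial (Fin 3) k) (a + 1)
    (C (p (a + 1) / p a) * X a))

/-- substitution eliminating `X (a+2)` -/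
noncomputable def phi2 : MvPolynomial (Fin 3) k →ₐ[k] MvPolynomial (Fin 3) k :=
  MvPolynomial.aeval (Function.update (MvPolynomial.X : Fin 3 → MvPolynomial (Fin 3) k) (a + 2)
    (C (p (a + 2) / p a) * X a))

theorem l1_isHomogeneous : (l1 p a).IsHomogeneous 1 :=
  (isHomogeneous_X k _).sub (isHomogeneous_C_mul_X _ _)

theorem l2_isHomogeneous : (l2 p a).IsHomogeneous 1 :=
  (isHomogeneous_X k _).sub (isHomogeneous_C_mul_X _ _)

theorem lam_isHomogeneous : (lam p a).IsHomogeneous 1 := isHomogeneous_C_mul_X _ _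

theorem phi1_X_a : phi1 p a (X a) = X a := by
  rw [phi1, aeval_X, Function.update_of_ne (fin3 a).1.symm]

theorem phi1_X_1 : phi1 p a (X (a + 1)) = C (p (a + 1) / p a) * X a := by
  rw [phi1, aeval_X, Function.update_self]

theorem phi1_X_2 : phi1 p a (X (a + 2)) = X (a + 2) := by
  rw [phi1, aeval_X, Function.update_of_ne (fin3 a).2.2.1.symm]

theorem phi2_X_a : phi2 p a (X a) = X a := by
  rw [phi2, aeval_X, Function.update_of_ne (fin3 a).2.1.symm]

theorem phi2_X_2 : phi2 p a (X (a + 2)) = C (p (a + 2) / p a) * X a := by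
  rw [phi2, aeval_X, Function.update_self]

theorem phi1_C (c : k) : phi1 p a (C c) = C c := by
  rw [phi1, aeval_C]
  rfl

theorem phi2_C (c : k) : phi2 p a (C c) = C c := by
  rw [phi2, aeval_C]
  rfl

theorem phi1_l1 : phi1 p a (l1 p a) = 0 := by
  rw [l1, map_sub, map_mul, phi1_X_1, phi1_X_a, phi1_C, sub_self]

theorem phi1_l2 : phi1 p a (l2 p a) = l2 p a := by
  rw [l2, map_sub, map_mul, phi1_X_2, phi1_X_a, phi1_C]

theorem l1_ne_zero : l1 p a ≠ 0 := by
  intro h
  have := congrArg (MvPolynomial.aeval (fun i : Fin 3 => if i = a + 1 then (1 : k) else 0)) h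
  simp [l1, (fin3 a).1.symm] at this

theorem l2_ne_zero : l2 p a ≠ 0 := by
  intro h
  have := congrArg (MvPolynomial.aeval (fun i : Fin 3 => if i = a + 2 then (1 : k) else 0)) h
  simp [l2, (fin3 a).2.1.symm] at this

theorem sub_phi1_mem (f : MvPolynomial (Fin 3) k) :
    f - phi1 p a f ∈ Ideal.span {l1 p a} :=
  sub_subst_mem (a + 1) (C (p (a + 1) / p a) * X a) f

theorem sub_phi2_mem (f : MvPolynomial (Fin 3) k) :
    f - phi2 p a f ∈ Ideal.span {l2 p a} :=
  sub_subst_mem (a + 2) (C (p (a + 2) / p a) * X a) f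

theorem koszul (u v : MvPolynomial (Fin 3) k) (h : u * l1 p a + v * l2 p a = 0) :
    ∃ r, u = r * l2 p a ∧ v = -(r * l1 p a) := by
  have h1 := congrArg (phi1 p a) h
  rw [map_add, map_mul, map_mul, phi1_l1, phi1_l2, mul_zero, zero_add, map_zero] at h1
  have h2 : phi1 p a v = 0 := (mul_eq_zero.1 h1).resolve_right (l2_ne_zero p a)
  have h3 := sub_phi1_mem p a v
  rw [h2, sub_zero] at h3
  obtain ⟨w, hw⟩ := Ideal.mem_span_singleton'.1 h3
  have h4 : l1 p a * (u + w * l2 p a) = 0 := by
    rw [← hw] at h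
    linear_combination h
  have h5 : u + w * l2 p a = 0 := (mul_eq_zero.1 h4).resolve_left (l1_ne_zero p a)
  refine ⟨-w, ?_, ?_⟩
  · linear_combination h5
  · rw [← hw]
    ring

theorem l1_reg (ρ : MvPolynomial (Fin 3) k) (h : l1 p a * ρ = 0) : ρ = 0 :=
  (mul_eq_zero.1 h).resolve_left (l1_ne_zero p a)

variable (ha : p a ≠ 0)
include ha

theorem ev_l1 : ev p (l1 p a) = 0 := by
  rw [l1, map_sub, map_mul, ev_X, ev_X, ev_C, ← mul_assoc, ← Polynomial.C_mul,
    div_mul_cancel₀ _ ha, sub_self]

theorem ev_l2 : ev p (l2 p a) = 0 := by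
  rw [l2, map_sub, map_mul, ev_X, ev_X, ev_C, ← mul_assoc, ← Polynomial.C_mul,
    div_mul_cancel₀ _ ha, sub_self]

theorem ev_lam : ev p (lam p a) = Polynomial.X := by
  rw [lam, map_mul, ev_X, ev_C, ← mul_assoc, ← Polynomial.C_mul, one_div,
    inv_mul_cancel₀ ha, Polynomial.C_1, one_mul]

theorem phi_comp :
    (phi2 p a).comp (phi1 p a) =
      (Polynomial.aeval (C (1 / p a) * X a : MvPolynomial (Fin 3) k)).comp (ev p) := by
  apply MvPolynomial.algHom_ext
  intro i
  have hC : ∀ x : k, (Polynomial.aeval (C (1 / p a) * X a : MvPolynomial (Fin 3) k))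
      (Polynomial.C x * Polynomial.X) = C (x / p a) * X a := by
    intro x
    rw [map_mul, Polynomial.aeval_C, Polynomial.aeval_X, MvPolynomial.algebraMap_eq,
      ← mul_assoc, ← C_mul, mul_one_div]
  rw [AlgHom.comp_apply, AlgHom.comp_apply, ev_X, hC]
  rcases (fin3 a).2.2.2 i with h | h | h
  · rw [h, phi1_X_a, phi2_X_a, div_self ha, C_1, one_mul]
  · rw [h, phi1_X_1, map_mul, phi2_X_a, phi2_C]
  · rw [h, phi1_X_2, phi2_X_2]

theorem ker_ev : RingHom.ker (ev p) = Ideal.span {l1 p a, l2 p a} := by
  apply le_antisymm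
  · intro f hf
    rw [RingHom.mem_ker] at hf
    have h1 : phi2 p a (phi1 p a f) = 0 := by
      have := DFunLike.congr_fun (phi_comp p a ha) f
      rw [AlgHom.comp_apply, AlgHom.comp_apply, hf, map_zero] at this
      exact this
    have h2 : f = (f - phi1 p a f) + (phi1 p a f - phi2 p a (phi1 p a f)) := by
      rw [h1]
      ring
    rw [h2]
    refine Ideal.add_mem _ (Ideal.span_mono ?_ (sub_phi1_mem p a f))
      (Ideal.span_mono ?_ (sub_phi2_mem p a (phi1 p a f)))
    · intro x hx
      rw [Set.mem_singleton_iff] at hx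
      rw [hx]
      exact Set.mem_insert _ _
    · intro x hx
      rw [Set.mem_singleton_iff] at hx
      rw [hx]
      exact Set.mem_insert_of_mem _ rfl
  · rw [Ideal.span_le]
    intro x hx
    rcases hx with rfl | hx
    · exact (RingHom.mem_ker).2 (ev_l1 p a ha)
    · rw [Set.mem_singleton_iff] at hx
      rw [hx]
      exact (RingHom.mem_ker).2 (ev_l2 p a ha)

end point

end Groth.Agent.Helper8.HBP2
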