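import Mathlib
import Groth.Agent.Lib.Helper8.HBP1
import Groth.Agent.Lib.Helper8.HBP2

/-!
# Length-one free resolution of the ideal of finitely many points of the projective plane (S12917)
-/

namespace Groth.Agent.Helper8.HBP3

open MvPolynomial Groth.Agent.Helper8.HBP1 Groth.Agent.Helper8.HBP2

universe u

variable {k : Type u} [Field k]

/-- the vanishing ideal -/
noncomputable def Iof (Z : Finset (Fin 3 → k)) : Ideal (MvPolynomial (Fin 3) k) :=
  ⨅ p ∈ Z, RingHom.ker (ev p)

theorem mem_Iof (Z : Finset (Fin 3 → k)) (f : MvPolynomial (Fin 3) k) :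
    f ∈ Iof Z ↔ ∀ p ∈ Z, ∀ j : ℕ, eval p (homogeneousComponent j f) = 0 := by
  simp only [Iof, Submodule.mem_iInf, mem_ker_ev]

theorem exists_res (Z : Finset (Fin 3 → k)) (hZ : ∀ p ∈ Z, p ≠ 0) :
    ∃ (t : ℕ) (g : Fin (t + 1) → MvPolynomial (Fin 3) k)
      (Ψ : Fin (t + 1) → Fin t → MvPolynomial (Fin 3) k),
      IsRes (Iof Z) t g Ψ ∧ ∀ i, ∃ d : ℕ, (g i).IsHomogeneous d := by
  classical
  induction Z using Finset.induction_on with
  | empty =>
    refine ⟨0, fun _ => 1, fun _ j => j.elim0, ⟨?_, ?_, ?_⟩,
      fun _ => ⟨0, isHomogeneous_one _ _⟩⟩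
    · have : Iof (∅ : Finset (Fin 3 → k)) = ⊤ := by simp [Iof]
      rw [this, Ideal.eq_top_iff_one]
      exact Ideal.subset_span ⟨0, rfl⟩
    · intro a
      constructor
      · intro h
        have h0 : a 0 = 0 := by simpa using h
        refine ⟨fun j => j.elim0, fun i => ?_⟩
        have hiv : (i : ℕ) = 0 := by
          have := i.2
          omega
        have hi : i = 0 := Fin.ext hiv
        rw [hi, h0]
        simp
      · rintro ⟨r, hr⟩
        have h0 : a 0 = 0 := by
          rw [hr 0]
          simp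
        simp [h0]
    · intro r _
      funext j
      exact j.elim0
  | insert p Z' hp ih =>
    obtain ⟨t, g, Ψ, hres, hhom⟩ := ih (fun q hq => hZ q (Finset.mem_insert_of_mem hq))
    have hp0 : p ≠ 0 := hZ p (Finset.mem_insert_self p Z')
    obtain ⟨a, ha⟩ := Function.ne_iff.1 hp0
    have ha' : p a ≠ 0 := ha
    have hI : Iof (insert p Z') = Iof Z' ⊓ Ideal.span {l1 p a, l2 p a} := by
      rw [Iof, Finset.iInf_insert, ← ker_ev p a ha', inf_comm]
      rfl
    choose d hd using hhom
    by_cases hall : ∀ i, eval p (g i) = 0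
    · refine ⟨t, g, Ψ, ?_, fun i => ⟨d i, hd i⟩⟩
      have hle : Iof Z' ≤ Ideal.span {l1 p a, l2 p a} := by
        rw [← hres.span, Ideal.span_le, ← ker_ev p a ha']
        rintro _ ⟨i, rfl⟩
        rw [SetLike.mem_coe, RingHom.mem_ker, ev_of_isHomogeneous p (hd i), hall i, map_zero,
          zero_mul]
      rw [hI, inf_eq_left.2 hle]
      exact hres
    · rw [not_forall] at hall
      obtain ⟨i1, hi1⟩ := hall
      obtain ⟨i0, hi0mem, hi0min⟩ := Finset.exists_min_image
        (Finset.univ.filter fun i => eval p (g i) ≠ 0) d ⟨i1, by simp [hi1]⟩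
      have hc0 : eval p (g i0) ≠ 0 := (Finset.mem_filter.1 hi0mem).2
      have hmin : ∀ i, eval p (g i) ≠ 0 → d i0 ≤ d i := fun i hi => hi0min i (by simp [hi])
      obtain ⟨q, hq⟩ : ∃ q : Fin (t + 1) → MvPolynomial (Fin 3) k, ∀ i,
          q i = C (eval p (g i) / eval p (g i0)) * lam p a ^ (d i - d i0) :=
        ⟨fun i => _, fun i => rfl⟩
      have hq' : ∀ i, i ≠ i0 → g i - q i * g i0 ∈ Ideal.span {l1 p a, l2 p a} := by
        intro i _
        rw [← ker_ev p a ha', RingHom.mem_ker, map_sub, map_mul, ev_of_isHomogeneous p (hd i),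
          ev_of_isHomogeneous p (hd i0), hq i, map_mul, map_pow, ev_C, ev_lam p a ha']
        by_cases hci : eval p (g i) = 0
        · simp [hci]
        · have hle := hmin i hci
          have hX : (Polynomial.X : Polynomial k) ^ d i =
              Polynomial.X ^ (d i - d i0) * Polynomial.X ^ d i0 := by
            rw [← pow_add, Nat.sub_add_cancel hle]
          have hCC : Polynomial.C (eval p (g i)) =
              Polynomial.C (eval p (g i) / eval p (g i0)) * Polynomial.C (eval p (g i0)) := by
            rw [← Polynomial.C_mul, div_mul_cancel₀ _ hc0]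
          rw [hX, hCC]
          ring
      have hnzd : ∀ b : MvPolynomial (Fin 3) k, b * g i0 ∈ Ideal.span {l1 p a, l2 p a} →
          b ∈ Ideal.span {l1 p a, l2 p a} := by
        intro b hb
        rw [← ker_ev p a ha', RingHom.mem_ker] at hb ⊢
        rw [map_mul, ev_of_isHomogeneous p (hd i0)] at hb
        rcases mul_eq_zero.1 hb with h | h
        · exact h
        · exfalso
          have := congrArg (fun P => Polynomial.coeff P (d i0)) h
          simp at this
          exact hc0 this
      obtain ⟨Ψ', hres'⟩ := step g Ψ (l1 p a) (l2 p a) i0 q hres (koszul p a) (l1_reg p a)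
        hq' hnzd
      refine ⟨t + 1, newGen g (l1 p a) (l2 p a) i0 q, Ψ', ?_, ?_⟩
      · rw [hI]
        exact hres'
      · intro i'
        refine Fin.lastCases ?_ (fun i => ?_) i'
        · rw [newGen_last]
          exact ⟨1 + d i0, (l2_isHomogeneous p a).mul (hd i0)⟩
        · rw [newGen_cs]
          by_cases hi : i = i0
          · rw [hi, gt_i0, zero_add, if_pos rfl]
            exact ⟨1 + d i0, (l1_isHomogeneous p a).mul (hd i0)⟩
          · rw [if_neg hi, add_zero]
            unfold gt
            rw [if_neg hi]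
            refine ⟨d i, (hd i).sub ?_⟩
            rw [hq i]
            by_cases hci : eval p (g i) = 0
            · simp only [hci, zero_div, map_zero, zero_mul]
              exact isHomogeneous_zero _ _ _
            · have hle := hmin i hci
              have := ((isHomogeneous_C (Fin 3) (eval p (g i) / eval p (g i0))).mul
                ((lam_isHomogeneous p a).pow (d i - d i0))).mul (hd i0)
              have hdeg : 0 + 1 * (d i - d i0) + d i0 = d i := by omega
              rw [hdeg] at this
              exact this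

theorem main (k : Type u) [Field k] (Z : Finset (Fin 3 → k)) (hZ : ∀ p ∈ Z, p ≠ 0)
    (I : Ideal (MvPolynomial (Fin 3) k))
    (hI : ∀ f : MvPolynomial (Fin 3) k, f ∈ I ↔
      ∀ p ∈ Z, ∀ j : ℕ, MvPolynomial.eval p (MvPolynomial.homogeneousComponent j f) = 0) :
    ∃ (t : ℕ) (Ψ : Matrix (Fin (t + 1)) (Fin t) (MvPolynomial (Fin 3) k))
      (π : (Fin (t + 1) → MvPolynomial (Fin 3) k) →ₗ[MvPolynomial (Fin 3) k]
        MvPolynomial (Fin 3) k),
      LinearMap.ker Ψ.mulVecLin = ⊥ ∧ LinearMap.ker π = LinearMap.range Ψ.mulVecLin ∧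
        LinearMap.range π = I := by
  have hIeq : I = Iof Z := by
    ext f
    rw [hI, mem_Iof]
  obtain ⟨t, g, Ψ, hres, -⟩ := exists_res Z hZ
  refine ⟨t, Matrix.of Ψ, Fintype.linearCombination (MvPolynomial (Fin 3) k) g, ?_, ?_, ?_⟩
  · rw [LinearMap.ker_eq_bot']
    intro r hr
    apply hres.inj r
    intro i
    have := congrFun hr i
    simpa [Matrix.mulVecLin_apply, Matrix.mulVec, dotProduct] using this
  · ext a'
    rw [LinearMap.mem_ker, Fintype.linearCombination_apply, LinearMap.mem_range]
    simp only [smul_eq_mul]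
    rw [hres.rel]
    constructor
    · rintro ⟨r, hr⟩
      refine ⟨r, ?_⟩
      funext i
      rw [hr i]
      simp [Matrix.mulVec, dotProduct]
    · rintro ⟨r, hr⟩
      refine ⟨r, fun i => ?_⟩
      rw [← hr]
      simp [Matrix.mulVec, dotProduct]
  · rw [Fintype.range_linearCombination, hIeq, ← hres.span]

end Groth.Agent.Helper8.HBP3
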