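import Mathlib

/-!
# Hasse–Davenport, polynomial side

`lam` is the multiplicative function `λ(h) = ψ(c₁) χ(c_n)` on monic polynomials; sums of `λ` over
monic polynomials of degree `n ≥ 2` vanish; a double count through unique factorization gives the
recursion for the "von Mangoldt" sums `wS`.
-/

namespace Groth.Agent.Lib.Helper8.HD1

open Polynomial BigOperators
open scoped Classical

noncomputable section

variable {F : Type} [Field F] [Fintype F] {R : Type} [CommRing R] [IsDomain R]

theorem finite_natDegree_le (N : ℕ) : {h : F[X] | h.natDegree ≤ N}.Finite := by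
  haveI : Finite (Polynomial.degreeLT F (N + 1)) :=
    Finite.of_equiv (Fin (N + 1) → F) (Polynomial.degreeLTEquiv F (N + 1)).symm.toEquiv
  apply Set.Finite.subset
    (Set.finite_range (Subtype.val : Polynomial.degreeLT F (N + 1) → F[X]))
  intro h hh
  refine ⟨⟨h, ?_⟩, rfl⟩
  rw [Polynomial.mem_degreeLT]
  have hh' : h.natDegree ≤ N := hh
  exact lt_of_le_of_lt Polynomial.degree_le_natDegree (by exact_mod_cast Nat.lt_succ_of_le hh')

/-- monic polynomials of degree `n`. -/
def mon (n : ℕ) : Finset F[X] :=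
  ((finite_natDegree_le (F := F) n).subset
    (fun h (hh : h ∈ {h : F[X] | h.Monic ∧ h.natDegree = n}) => le_of_eq hh.2)).toFinset

theorem mem_mon {n : ℕ} {h : F[X]} : h ∈ mon (F := F) n ↔ h.Monic ∧ h.natDegree = n := by
  unfold mon
  rw [Set.Finite.mem_toFinset]
  rfl

/-- monic irreducible polynomials of degree at most `N`. -/
def irr (N : ℕ) : Finset F[X] :=
  ((finite_natDegree_le (F := F) N).subset
    (fun h (hh : h ∈ {h : F[X] | h.Monic ∧ Irreducible h ∧ h.natDegree ≤ N}) => hh.2.2)).toFinset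

theorem mem_irr {N : ℕ} {f : F[X]} :
    f ∈ irr (F := F) N ↔ f.Monic ∧ Irreducible f ∧ f.natDegree ≤ N := by
  unfold irr
  rw [Set.Finite.mem_toFinset]
  rfl

variable (χ : MulChar F R) (ψ : AddChar F R)

/-- `λ(h) = ψ(c₁) χ(c_n)` for `h = x^n - c₁ x^{n-1} + ⋯ + (-1)^n c_n`. -/
def lam (h : F[X]) : R := ψ (-h.nextCoeff) * χ ((-1) ^ h.natDegree * h.coeff 0)

theorem lam_one : lam χ ψ 1 = 1 := by
  unfold lam
  rw [show (1 : F[X]) = C 1 from C_1.symm, nextCoeff_C_eq_zero, natDegree_C, coeff_C_zero]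
  simp

theorem lam_mul {p q : F[X]} (hp : p.Monic) (hq : q.Monic) :
    lam χ ψ (p * q) = lam χ ψ p * lam χ ψ q := by
  unfold lam
  rw [hp.nextCoeff_mul hq, hp.natDegree_mul hq, mul_coeff_zero, neg_add, AddChar.map_add_eq_mul,
    pow_add,
    show (-1 : F) ^ p.natDegree * (-1) ^ q.natDegree * (p.coeff 0 * q.coeff 0)
      = ((-1) ^ p.natDegree * p.coeff 0) * ((-1) ^ q.natDegree * q.coeff 0) by ring, map_mul]
  ring

theorem lam_pow {p : F[X]} (hp : p.Monic) (r : ℕ) : lam χ ψ (p ^ r) = lam χ ψ p ^ r := by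
  induction r with
  | zero => rw [pow_zero, pow_zero, lam_one]
  | succ r ih => rw [pow_succ, pow_succ, lam_mul χ ψ (hp.pow r) hp, ih]

theorem lam_X_sub_C (a : F) : lam χ ψ (X - C a) = ψ a * χ a := by
  unfold lam
  rw [nextCoeff_X_sub_C, natDegree_X_sub_C, neg_neg, pow_one]
  congr 2
  simp

/-- the sum of `λ` over monic polynomials of degree `n`. -/
def aS (n : ℕ) : R := ∑ h ∈ mon (F := F) n, lam χ ψ h

theorem mon_zero : mon (F := F) 0 = {1} := by
  ext h
  rw [mem_mon, Finset.mem_singleton]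
  constructor
  · rintro ⟨hm, hd⟩
    have h1 := eq_C_of_natDegree_eq_zero hd
    have h2 : h.coeff 0 = 1 := by
      have := hm.coeff_natDegree
      rwa [hd] at this
    rw [h1, h2, C_1]
  · rintro rfl
    exact ⟨monic_one, natDegree_one⟩

theorem aS_zero : aS χ ψ 0 = 1 := by
  unfold aS
  rw [mon_zero, Finset.sum_singleton, lam_one]

theorem aS_one : aS χ ψ 1 = ∑ a : F, χ a * ψ a := by
  unfold aS
  have himg : mon (F := F) 1 = Finset.univ.image (fun a : F => X - C a) := by
    ext h
    rw [mem_mon, Finset.mem_image]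
    constructor
    · rintro ⟨hm, hd⟩
      refine ⟨-h.coeff 0, Finset.mem_univ _, ?_⟩
      have h1 := hm.as_sum
      rw [hd, Finset.sum_range_one, pow_one, pow_zero, mul_one] at h1
      rw [map_neg, sub_neg_eq_add]
      exact h1.symm
    · rintro ⟨a, -, rfl⟩
      exact ⟨monic_X_sub_C a, natDegree_X_sub_C a⟩
  rw [himg, Finset.sum_image]
  · apply Finset.sum_congr rfl
    intro a _
    rw [lam_X_sub_C, mul_comm]
  · intro a _ b _ hab
    have h1 := congrArg (fun p : F[X] => p.coeff 0) hab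
    simpa using h1

theorem shift_mem {n : ℕ} (hn : 2 ≤ n) {h : F[X]} (hh : h ∈ mon (F := F) n) (c : F) :
    h + C c * X ^ (n - 1) ∈ mon (F := F) n ∧
    (h + C c * X ^ (n - 1)).nextCoeff = h.nextCoeff + c ∧
    (h + C c * X ^ (n - 1)).coeff 0 = h.coeff 0 := by
  rw [mem_mon] at hh ⊢
  obtain ⟨hm, hd⟩ := hh
  have hlt : (C c * X ^ (n - 1)).degree < h.degree := by
    rw [degree_eq_natDegree hm.ne_zero, hd]
    refine lt_of_le_of_lt (degree_C_mul_X_pow_le (n - 1) c) ?_
    exact_mod_cast (by omega : n - 1 < n)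
  have hd' : (h + C c * X ^ (n - 1)).natDegree = n := by
    rw [natDegree_add_eq_left_of_degree_lt hlt, hd]
  refine ⟨⟨hm.add_of_left hlt, hd'⟩, ?_, ?_⟩
  · rw [nextCoeff_of_natDegree_pos (by omega), nextCoeff_of_natDegree_pos (by omega), hd', hd,
      coeff_add, coeff_C_mul_X_pow, if_pos rfl]
  · rw [coeff_add, coeff_C_mul_X_pow, if_neg (by omega), add_zero]

theorem lam_shift {n : ℕ} (hn : 2 ≤ n) {h : F[X]} (hh : h ∈ mon (F := F) n) (c : F) :
    lam χ ψ (h + C c * X ^ (n - 1)) = ψ (-c) * lam χ ψ h := by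
  obtain ⟨h1, h2, h3⟩ := shift_mem hn hh c
  rw [mem_mon] at h1 hh
  unfold lam
  rw [h2, h3, h1.2, hh.2, neg_add, AddChar.map_add_eq_mul]
  ring

theorem aS_eq_zero (hψ : ψ ≠ 1) {n : ℕ} (hn : 2 ≤ n) : aS χ ψ n = 0 := by
  obtain ⟨b, hb⟩ := AddChar.ne_one_iff.mp hψ
  have key : aS χ ψ n = ψ b * aS χ ψ n := by
    unfold aS
    rw [Finset.mul_sum]
    refine Finset.sum_nbij' (fun h => h + C b * X ^ (n - 1))
      (fun h => h + C (-b) * X ^ (n - 1)) ?_ ?_ ?_ ?_ ?_
    · intro h hh
      exact (shift_mem hn hh b).1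
    · intro h hh
      exact (shift_mem hn hh (-b)).1
    · intro h _
      show h + C b * X ^ (n - 1) + C (-b) * X ^ (n - 1) = h
      rw [C_neg]; ring
    · intro h _
      show h + C (-b) * X ^ (n - 1) + C b * X ^ (n - 1) = h
      rw [C_neg]; ring
    · intro h hh
      show lam χ ψ h = ψ b * lam χ ψ (h + C b * X ^ (n - 1))
      rw [lam_shift χ ψ hn hh b, ← mul_assoc, ← AddChar.map_add_eq_mul, add_neg_cancel,
        AddChar.map_zero_eq_one, one_mul]
  have h2 : (1 - ψ b) * aS χ ψ n = 0 := by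
    rw [sub_mul, one_mul, ← key, sub_self]
  rcases mul_eq_zero.mp h2 with h3 | h3
  · exact absurd (sub_eq_zero.mp h3).symm hb
  · exact h3

theorem deg_formula {N m : ℕ} (hmN : m ≤ N) {h : F[X]} (hh : h ∈ mon (F := F) m) :
    m = ∑ f ∈ irr (F := F) N, ∑ r ∈ Finset.Icc 1 N, if f ^ r ∣ h then f.natDegree else 0 := by
  rw [mem_mon] at hh
  obtain ⟨hm, hd⟩ := hh
  have h0 : h ≠ 0 := hm.ne_zero
  have hcount : ∀ f ∈ irr (F := F) N, ∀ r : ℕ,
      f ^ r ∣ h ↔ r ≤ Multiset.count f (UniqueFactorizationMonoid.normalizedFactors h) := by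
    intro f hf r
    rw [mem_irr] at hf
    rw [pow_dvd_iff_le_emultiplicity,
      UniqueFactorizationMonoid.emultiplicity_eq_count_normalizedFactors hf.2.1 h0,
      hf.1.normalize_eq_self]
    exact Nat.cast_le
  have hinner : ∀ f ∈ irr (F := F) N,
      (∑ r ∈ Finset.Icc 1 N, if f ^ r ∣ h then f.natDegree else 0)
        = Multiset.count f (UniqueFactorizationMonoid.normalizedFactors h) * f.natDegree := by
    intro f hf
    obtain ⟨c, hc⟩ : ∃ c, c = Multiset.count f (UniqueFactorizationMonoid.normalizedFactors h) :=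
      ⟨_, rfl⟩
    have hfm := mem_irr.mp hf
    have hcount' : ∀ r : ℕ, f ^ r ∣ h ↔ r ≤ c := fun r => by
      rw [hc]; exact hcount f hf r
    have hcN : c ≤ N := by
      have hdvd : f ^ c ∣ h := (hcount' c).mpr le_rfl
      have h1 := natDegree_le_of_dvd hdvd h0
      rw [hfm.1.natDegree_pow, hd] at h1
      have h2 := hfm.2.1.natDegree_pos
      exact le_trans (Nat.le_mul_of_pos_right c h2) (le_trans h1 hmN)
    rw [← hc]
    have hif : ∀ r ∈ Finset.Icc 1 N,
        (if f ^ r ∣ h then f.natDegree else 0) = if r ≤ c then f.natDegree else 0 := by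
      intro r _
      exact if_congr (hcount' r) rfl rfl
    rw [Finset.sum_congr rfl hif, ← Finset.sum_filter, Finset.sum_const, smul_eq_mul]
    congr 1
    have hfil : (Finset.Icc 1 N).filter (fun r => r ≤ c) = Finset.Icc 1 c := by
      ext r
      simp only [Finset.mem_filter, Finset.mem_Icc]
      omega
    rw [hfil, Nat.card_Icc]
    omega
  have hprod : (UniqueFactorizationMonoid.normalizedFactors h).prod = h := by
    rw [UniqueFactorizationMonoid.prod_normalizedFactors_eq h0, hm.normalize_eq_self]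
  have hnz : (0 : F[X]) ∉ UniqueFactorizationMonoid.normalizedFactors h := by
    intro h1
    exact (UniqueFactorizationMonoid.irreducible_of_normalized_factor 0 h1).ne_zero rfl
  have hsum : m = ∑ f ∈ (UniqueFactorizationMonoid.normalizedFactors h).toFinset,
      Multiset.count f (UniqueFactorizationMonoid.normalizedFactors h) * f.natDegree := by
    have h1 : h.natDegree = (UniqueFactorizationMonoid.normalizedFactors h).prod.natDegree := by
      rw [hprod]
    rw [← hd, h1, natDegree_multiset_prod _ hnz, Finset.sum_multiset_map_count]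
    simp only [smul_eq_mul]
  have hsub : (UniqueFactorizationMonoid.normalizedFactors h).toFinset ⊆ irr (F := F) N := by
    intro f hf
    rw [Multiset.mem_toFinset] at hf
    rw [mem_irr]
    have hirr := UniqueFactorizationMonoid.irreducible_of_normalized_factor f hf
    have hnorm := UniqueFactorizationMonoid.normalize_normalized_factor f hf
    have hdvd := UniqueFactorizationMonoid.dvd_of_mem_normalizedFactors hf
    refine ⟨?_, hirr, ?_⟩
    · rw [← hnorm]
      exact monic_normalize hirr.ne_zero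
    · have h1 := natDegree_le_of_dvd hdvd h0
      rw [hd] at h1
      exact le_trans h1 hmN
  rw [Finset.sum_congr rfl hinner]
  refine hsum.trans ?_
  apply Finset.sum_subset hsub
  intro f _ hf
  rw [Multiset.mem_toFinset] at hf
  rw [Multiset.count_eq_zero.mpr hf, zero_mul]

theorem sum_filter_dvd {p : F[X]} (hp : p.Monic) (m : ℕ) :
    ∑ h ∈ (mon (F := F) m).filter (fun h => p ∣ h), lam χ ψ h =
      if p.natDegree ≤ m then lam χ ψ p * aS χ ψ (m - p.natDegree) else 0 := by
  split_ifs with hle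
  · have himg : (mon (F := F) m).filter (fun h => p ∣ h)
        = (mon (F := F) (m - p.natDegree)).image (fun q => p * q) := by
      ext h
      rw [Finset.mem_filter, Finset.mem_image, mem_mon]
      constructor
      · rintro ⟨⟨hm, hd⟩, q, rfl⟩
        have hq : q.Monic := hp.of_mul_monic_left hm
        refine ⟨q, ?_, rfl⟩
        rw [mem_mon]
        refine ⟨hq, ?_⟩
        rw [hp.natDegree_mul hq] at hd
        omega
      · rintro ⟨q, hq, rfl⟩
        rw [mem_mon] at hq
        refine ⟨⟨hp.mul hq.1, ?_⟩, dvd_mul_right p q⟩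
        rw [hp.natDegree_mul hq.1, hq.2]
        omega
    rw [himg, Finset.sum_image]
    · unfold aS
      rw [Finset.mul_sum]
      apply Finset.sum_congr rfl
      intro q hq
      rw [mem_mon] at hq
      exact lam_mul χ ψ hp hq.1
    · intro q _ q' _ hqq'
      exact mul_left_cancel₀ hp.ne_zero hqq'
  · apply Finset.sum_eq_zero
    intro h hh
    rw [Finset.mem_filter, mem_mon] at hh
    exfalso
    apply hle
    have h1 := natDegree_le_of_dvd hh.2 hh.1.1.ne_zero
    rw [hh.1.2] at h1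
    exact h1

theorem double_count {N m : ℕ} (hmN : m ≤ N) :
    (m : R) * aS χ ψ m = ∑ f ∈ irr (F := F) N, ∑ r ∈ Finset.Icc 1 N,
      (f.natDegree : R) * (if r * f.natDegree ≤ m then
        lam χ ψ f ^ r * aS χ ψ (m - r * f.natDegree) else 0) := by
  have h1 : (m : R) * aS χ ψ m = ∑ h ∈ mon (F := F) m, ∑ f ∈ irr (F := F) N,
      ∑ r ∈ Finset.Icc 1 N, (if f ^ r ∣ h then (f.natDegree : R) * lam χ ψ h else 0) := by
    unfold aS
    rw [Finset.mul_sum]
    apply Finset.sum_congr rfl
    intro h hh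
    have h2 := deg_formula hmN hh
    have h3 : (m : R) = ∑ f ∈ irr (F := F) N, ∑ r ∈ Finset.Icc 1 N,
        if f ^ r ∣ h then (f.natDegree : R) else 0 := by
      exact_mod_cast congrArg (Nat.cast : ℕ → R) h2
    rw [h3, Finset.sum_mul]
    apply Finset.sum_congr rfl
    intro f _
    rw [Finset.sum_mul]
    apply Finset.sum_congr rfl
    intro r _
    rw [ite_mul, zero_mul]
  rw [h1, Finset.sum_comm]
  apply Finset.sum_congr rfl
  intro f hf
  rw [Finset.sum_comm]
  apply Finset.sum_congr rfl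
  intro r _
  have hfm := (mem_irr.mp hf).1
  rw [← Finset.sum_filter, ← Finset.mul_sum, sum_filter_dvd χ ψ (hfm.pow r) m,
    hfm.natDegree_pow, lam_pow χ ψ hfm]

/-- the von Mangoldt-type sums. -/
def wS (N k : ℕ) : R := ∑ f ∈ irr (F := F) N, ∑ r ∈ Finset.Icc 1 N,
  if r * f.natDegree = k then (f.natDegree : R) * lam χ ψ f ^ r else 0

/-- the Gauss sum. -/
def gS : R := ∑ a : F, χ a * ψ a

theorem recursion (hψ : ψ ≠ 1) {N m : ℕ} (hm1 : 1 ≤ m) (hmN : m ≤ N) :
    (m : R) * aS χ ψ m = wS χ ψ N m + gS χ ψ * wS χ ψ N (m - 1) := by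
  rw [double_count χ ψ hmN]
  unfold wS
  rw [Finset.mul_sum, ← Finset.sum_add_distrib]
  apply Finset.sum_congr rfl
  intro f hf
  rw [Finset.mul_sum, ← Finset.sum_add_distrib]
  apply Finset.sum_congr rfl
  intro r hr
  have hdeg := (mem_irr.mp hf).2.1.natDegree_pos
  rw [Finset.mem_Icc] at hr
  have hpos : 1 ≤ r * f.natDegree := Nat.mul_pos (by omega) hdeg
  obtain ⟨e, he⟩ : ∃ e, e = r * f.natDegree := ⟨_, rfl⟩
  rw [← he] at hpos ⊢
  by_cases h1 : e = m
  · rw [if_pos (le_of_eq h1), if_pos h1, if_neg (by omega), h1, Nat.sub_self, aS_zero]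
    ring
  · by_cases h2 : e = m - 1
    · rw [if_pos (by omega), if_neg h1, if_pos h2, show m - e = 1 by omega, aS_one]
      unfold gS
      ring
    · rw [if_neg h1, if_neg h2]
      by_cases h3 : e ≤ m
      · rw [if_pos h3, aS_eq_zero χ ψ hψ (by omega : 2 ≤ m - e)]
        ring
      · rw [if_neg h3]
        ring

theorem wS_zero (N : ℕ) : wS χ ψ N 0 = 0 := by
  unfold wS
  apply Finset.sum_eq_zero
  intro f hf
  apply Finset.sum_eq_zero
  intro r hr
  rw [Finset.mem_Icc] at hr
  have hdeg := (mem_irr.mp hf).2.1.natDegree_pos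
  rw [if_neg]
  intro h0
  have h1 := Nat.mul_pos (show 0 < r by omega) hdeg
  omega

theorem wS_eq (hψ : ψ ≠ 1) {N : ℕ} :
    ∀ m, 1 ≤ m → m ≤ N → wS χ ψ N m = -(-gS χ ψ) ^ m := by
  intro m
  induction m with
  | zero => intro h; omega
  | succ k ih =>
    intro _ hkN
    have h1 := recursion χ ψ hψ (by omega : 1 ≤ k + 1) hkN
    rw [Nat.add_sub_cancel] at h1
    rcases Nat.eq_zero_or_pos k with hk | hk
    · subst hk
      simp only [zero_add] at h1 ⊢
      rw [wS_zero, mul_zero, add_zero, aS_one, Nat.cast_one, one_mul] at h1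
      rw [← h1]
      unfold gS
      ring
    · rw [aS_eq_zero χ ψ hψ (by omega : 2 ≤ k + 1), mul_zero, ih hk (by omega)] at h1
      have h2 : wS χ ψ N (k + 1) = -(-gS χ ψ) ^ (k + 1) := by
        linear_combination (-1 : R) * h1
      exact h2

end

end Groth.Agent.Lib.Helper8.HD1
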