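import Mathlib
import Groth.Agent.Lib.Helper8.HD1

/-!
# Hasse–Davenport, field side
-/

namespace Groth.Agent.Lib.Helper8.HD2

open Polynomial BigOperators IntermediateField
open scoped Classical
open Groth.Agent.Lib.Helper8.HD1

noncomputable section

variable {F F' : Type} [Field F] [Fintype F] [Field F'] [Fintype F'] [Algebra F F']
  {R : Type} [CommRing R] [IsDomain R] (χ : MulChar F R) (ψ : AddChar F R)

theorem T_eq (α : F') :
    χ (Algebra.norm F α) * ψ (Algebra.trace F F' α) =
      lam χ ψ (minpoly F α) ^ (Module.finrank F F' / (minpoly F α).natDegree) := by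
  have hint : IsIntegral F α := IsIntegral.of_finite F α
  have hd : Module.finrank F F⟮α⟯ = (minpoly F α).natDegree :=
    IntermediateField.adjoin.finrank hint
  have hmul : Module.finrank F F⟮α⟯ * Module.finrank F⟮α⟯ F' = Module.finrank F F' :=
    Module.finrank_mul_finrank F F⟮α⟯ F'
  have hpos : 0 < (minpoly F α).natDegree := minpoly.natDegree_pos hint
  have hdiv : Module.finrank F F' / (minpoly F α).natDegree = Module.finrank F⟮α⟯ F' := by
    rw [← hmul, hd, Nat.mul_div_cancel_left _ hpos]
  rw [hdiv]
  have htr := trace_eq_finrank_mul_minpoly_nextCoeff F α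
  have hnorm := Algebra.norm_eq_norm_adjoin F α
  have hgen : Algebra.norm F (IntermediateField.AdjoinSimple.gen F α)
      = (-1) ^ (minpoly F α).natDegree * (minpoly F α).coeff 0 := by
    have h1 := Algebra.PowerBasis.norm_gen_eq_coeff_zero_minpoly
      (IntermediateField.adjoin.powerBasis hint)
    rw [IntermediateField.adjoin.powerBasis_gen, IntermediateField.adjoin.powerBasis_dim,
      IntermediateField.minpoly_gen] at h1
    exact h1
  rw [htr, hnorm, hgen]
  have h1 : χ (((-1) ^ (minpoly F α).natDegree * (minpoly F α).coeff 0)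
      ^ Module.finrank F⟮α⟯ F')
      = χ ((-1) ^ (minpoly F α).natDegree * (minpoly F α).coeff 0)
        ^ Module.finrank F⟮α⟯ F' := map_pow χ _ _
  have h2 : ψ ((Module.finrank F⟮α⟯ F' : F) * -(minpoly F α).nextCoeff)
      = ψ (-(minpoly F α).nextCoeff) ^ Module.finrank F⟮α⟯ F' := by
    rw [← nsmul_eq_mul, AddChar.map_nsmul_eq_pow]
  rw [h1, h2]
  unfold lam
  rw [mul_pow, mul_comm]

theorem dvd_X_pow_sub_X {f : F[X]} (hf : f.Monic) (hirr : Irreducible f) (N : ℕ)
    (hdvd : f.natDegree ∣ N) : f ∣ X ^ (Fintype.card F ^ N) - X := by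
  haveI : Fact (Irreducible f) := ⟨hirr⟩
  haveI : Module.Finite F (AdjoinRoot f) := (AdjoinRoot.powerBasis hf.ne_zero).finite
  haveI : Finite (AdjoinRoot f) := Module.finite_of_finite F
  haveI : Fintype (AdjoinRoot f) := Fintype.ofFinite (AdjoinRoot f)
  have hcard : Fintype.card (AdjoinRoot f) = Fintype.card F ^ f.natDegree := by
    rw [Module.card_eq_pow_finrank (K := F) (V := AdjoinRoot f),
      (AdjoinRoot.powerBasis hf.ne_zero).finrank, AdjoinRoot.powerBasis_dim]
  obtain ⟨e, he⟩ := hdvd
  have hθ : ∀ j : ℕ,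
      (AdjoinRoot.root f) ^ ((Fintype.card F ^ f.natDegree) ^ j) = AdjoinRoot.root f := by
    intro j
    induction j with
    | zero => rw [pow_zero, pow_one]
    | succ j ih => rw [pow_succ, pow_mul, ih, ← hcard, FiniteField.pow_card]
  have hroot : Polynomial.aeval (AdjoinRoot.root f) (X ^ (Fintype.card F ^ N) - X : F[X]) = 0 := by
    rw [map_sub, map_pow, aeval_X, he, pow_mul, hθ e, sub_self]
  have h1 := minpoly.dvd F (AdjoinRoot.root f) hroot
  rw [AdjoinRoot.minpoly_root hf.ne_zero, hf.leadingCoeff, inv_one, C_1, mul_one] at h1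
  exact h1

theorem card_roots_eq {f : F[X]} (hf : f.Monic) (hirr : Irreducible f)
    (hdvd : f.natDegree ∣ Module.finrank F F') :
    (Finset.univ.filter (fun α : F' => minpoly F α = f)).card = f.natDegree := by
  have hN : Fintype.card F' = Fintype.card F ^ Module.finrank F F' := Module.card_eq_pow_finrank
  have h1 := dvd_X_pow_sub_X hf hirr _ hdvd
  have h2 : f.map (algebraMap F F') ∣ (X ^ Fintype.card F' - X : F'[X]) := by
    have h3 := Polynomial.map_dvd (algebraMap F F') h1
    rwa [Polynomial.map_sub, Polynomial.map_pow, Polynomial.map_X, ← hN] at h3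
  have hne : (X ^ Fintype.card F' - X : F'[X]) ≠ 0 :=
    FiniteField.X_pow_card_sub_X_ne_zero F' Fintype.one_lt_card
  have hroots := FiniteField.roots_X_pow_card_sub_X F'
  have hsplit : (X ^ Fintype.card F' - X : F'[X]).Splits := by
    rw [splits_iff_card_roots, hroots,
      FiniteField.X_pow_card_sub_X_natDegree_eq F' Fintype.one_lt_card]
    rfl
  have hfs : (f.map (algebraMap F F')).Splits := hsplit.of_dvd hne h2
  have hle : (f.map (algebraMap F F')).roots ≤ (Finset.univ : Finset F').val := by
    rw [← hroots]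
    exact roots.le_of_dvd hne h2
  have hnodup : (f.map (algebraMap F F')).roots.Nodup :=
    Multiset.nodup_of_le hle Finset.univ.nodup
  have hcard : (f.map (algebraMap F F')).roots.card = f.natDegree := by
    rw [splits_iff_card_roots.mp hfs, natDegree_map]
  have hset : Finset.univ.filter (fun α : F' => minpoly F α = f)
      = (f.map (algebraMap F F')).roots.toFinset := by
    ext α
    rw [Finset.mem_filter, Multiset.mem_toFinset, mem_roots (hf.map _).ne_zero, IsRoot.def,
      eval_map, ← aeval_def]
    constructor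
    · rintro ⟨-, h⟩
      rw [← h]
      exact minpoly.aeval F α
    · intro h
      exact ⟨Finset.mem_univ _, (minpoly.eq_of_irreducible_of_monic hirr h hf).symm⟩
  rw [hset, Multiset.toFinset_card_of_nodup hnodup, hcard]

theorem field_sum_eq :
    ∑ x : F', χ (Algebra.norm F x) * ψ (Algebra.trace F F' x)
      = wS χ ψ (Module.finrank F F') (Module.finrank F F') := by
  have hNpos : 0 < Module.finrank F F' := Module.finrank_pos
  have hmaps : ∀ α ∈ (Finset.univ : Finset F'),
      minpoly F α ∈ irr (F := F) (Module.finrank F F') := by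
    intro α _
    have hint : IsIntegral F α := IsIntegral.of_finite F α
    rw [mem_irr]
    exact ⟨minpoly.monic hint, minpoly.irreducible hint, minpoly.natDegree_le α⟩
  rw [← Finset.sum_fiberwise_of_maps_to hmaps]
  unfold wS
  apply Finset.sum_congr rfl
  intro f hf
  rw [mem_irr] at hf
  obtain ⟨hfm, hfi, hfd⟩ := hf
  have hpos := hfi.natDegree_pos
  by_cases hdvd : f.natDegree ∣ Module.finrank F F'
  · have hL : ∑ α ∈ Finset.univ.filter (fun α : F' => minpoly F α = f),
        χ (Algebra.norm F α) * ψ (Algebra.trace F F' α)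
        = (f.natDegree : R) * lam χ ψ f ^ (Module.finrank F F' / f.natDegree) := by
      have hc : ∀ α ∈ Finset.univ.filter (fun α : F' => minpoly F α = f),
          χ (Algebra.norm F α) * ψ (Algebra.trace F F' α)
            = lam χ ψ f ^ (Module.finrank F F' / f.natDegree) := by
        intro α hα
        rw [Finset.mem_filter] at hα
        rw [T_eq χ ψ α, hα.2]
      rw [Finset.sum_congr rfl hc, Finset.sum_const, card_roots_eq hfm hfi hdvd, nsmul_eq_mul]
    rw [hL, Finset.sum_eq_single (Module.finrank F F' / f.natDegree)]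
    · rw [if_pos (Nat.div_mul_cancel hdvd)]
    · intro r _ hr
      rw [if_neg]
      intro h
      apply hr
      rw [← h, Nat.mul_div_cancel _ hpos]
    · intro h
      exfalso
      apply h
      rw [Finset.mem_Icc]
      exact ⟨Nat.div_pos (Nat.le_of_dvd hNpos hdvd) hpos, Nat.div_le_self _ _⟩
  · have hempty : Finset.univ.filter (fun α : F' => minpoly F α = f) = ∅ := by
      rw [Finset.filter_eq_empty_iff]
      intro α _ h
      apply hdvd
      rw [← h]
      exact minpoly.degree_dvd (IsIntegral.of_finite F α)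
    rw [hempty, Finset.sum_empty]
    symm
    apply Finset.sum_eq_zero
    intro r _
    rw [if_neg]
    intro h
    exact hdvd ⟨r, by rw [← h, mul_comm]⟩

/-- **Hasse–Davenport**. -/
theorem main (hψ : ψ ≠ 1) :
    -(∑ x : F', χ (Algebra.norm F x) * ψ (Algebra.trace F F' x)) =
      (-(∑ x : F, χ x * ψ x)) ^ Module.finrank F F' := by
  rw [field_sum_eq, wS_eq χ ψ hψ (Module.finrank F F') Module.finrank_pos le_rfl, neg_neg]
  rfl

end

end Groth.Agent.Lib.Helper8.HD2
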