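import Mathlib

set_option autoImplicit false

/-!
# Monomial ideals in multivariate power series rings and a length step lemma
-/

namespace Groth.Agent.Helper8.HDP

open MvPowerSeries

section general
variable {σ : Type*} {R : Type*} [CommRing R]

/-- the ideal of power series vanishing on a lower set of exponents -/
def lowerIdeal (D : Set (σ →₀ ℕ)) (hD : IsLowerSet D) : Ideal (MvPowerSeries σ R) where
  carrier := {g | ∀ d ∈ D, coeff d g = 0}
  zero_mem' := fun d _ => map_zero _
  add_mem' := fun {a b} ha hb d hd => by rw [map_add, ha d hd, hb d hd, add_zero]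
  smul_mem' := fun c {g} hg d hd => by
    classical
    rw [smul_eq_mul, coeff_mul]
    refine Finset.sum_eq_zero (fun p hp => ?_)
    have hle : p.2 ≤ d := by
      rw [← Finset.HasAntidiagonal.mem_antidiagonal.mp hp]
      exact le_add_self
    rw [hg p.2 (hD hle hd), mul_zero]

theorem mem_lowerIdeal {D : Set (σ →₀ ℕ)} {hD : IsLowerSet D} {g : MvPowerSeries σ R} :
    g ∈ lowerIdeal (R := R) D hD ↔ ∀ d ∈ D, coeff d g = 0 := Iff.rfl

theorem monomial_mem_lowerIdeal {D : Set (σ →₀ ℕ)} {hD : IsLowerSet D} (s : σ →₀ ℕ) (a : R)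
    (hs : s ∉ D) : monomial s a ∈ lowerIdeal (R := R) D hD := by
  classical
  intro d hd
  rw [coeff_monomial, if_neg]
  rintro rfl
  exact hs hd

/-- shift: the series with coefficients `e ↦ coeff (e + s) g` -/
noncomputable def shift (s : σ →₀ ℕ) (g : MvPowerSeries σ R) : MvPowerSeries σ R := fun e => coeff (e + s) g

theorem coeff_shift (s e : σ →₀ ℕ) (g : MvPowerSeries σ R) :
    coeff e (shift s g) = coeff (e + s) g := rfl

theorem coeff_monomial_mul_shift (s d : σ →₀ ℕ) (g : MvPowerSeries σ R) :
    coeff d (monomial s (1 : R) * shift s g) = if s ≤ d then coeff d g else 0 := by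
  rw [coeff_monomial_mul]
  split_ifs with hle
  · rw [one_mul, coeff_shift, tsub_add_cancel_of_le hle]
  · rfl

/-- elements of a monomial ideal have no coefficients outside the staircase -/
theorem coeff_eq_zero_of_mem_span (T : Set (σ →₀ ℕ)) (g : MvPowerSeries σ R)
    (hg : g ∈ Ideal.span ((fun s => monomial s (1 : R)) '' T)) (d : σ →₀ ℕ)
    (hd : ∀ s ∈ T, ¬ s ≤ d) : coeff d g = 0 := by
  classical
  have hD : IsLowerSet {d : σ →₀ ℕ | ∀ s ∈ T, ¬ s ≤ d} :=
    fun a b hba ha s hs hsb => ha s hs (hsb.trans hba)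
  have hle : Ideal.span ((fun s => monomial s (1 : R)) '' T) ≤ lowerIdeal _ hD := by
    rw [Ideal.span_le]
    rintro _ ⟨s, hs, rfl⟩
    exact monomial_mem_lowerIdeal s 1 (fun h => h s hs le_rfl)
  exact hle hg d hd

/-- a power series with all coefficients on the staircase of `S` lies in the monomial ideal -/
theorem mem_span_of_coeff_eq_zero (S : Finset (σ →₀ ℕ)) :
    ∀ g : MvPowerSeries σ R, (∀ d, (∀ s ∈ S, ¬ s ≤ d) → coeff d g = 0) →
      g ∈ Ideal.span ((fun s => monomial s (1 : R)) '' (S : Set (σ →₀ ℕ))) := by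
  classical
  induction S using Finset.induction_on with
  | empty =>
    intro g hg
    have h0 : g = 0 := by
      ext d
      rw [hg d (by simp), map_zero]
    rw [h0]
    exact Ideal.zero_mem _
  | insert s S hs ih =>
    intro g hg
    have h2 : g - monomial s (1 : R) * shift s g ∈
        Ideal.span ((fun s => monomial s (1 : R)) '' (S : Set (σ →₀ ℕ))) := by
      apply ih
      intro d hd
      rw [map_sub, coeff_monomial_mul_shift]
      split_ifs with hle
      · exact sub_self _
      · rw [sub_zero]
        apply hg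
        intro s' hs'
        rcases Finset.mem_insert.mp hs' with rfl | h'
        · exact hle
        · exact hd s' h'
    have h1 : monomial s (1 : R) * shift s g ∈ Ideal.span ((fun s => monomial s (1 : R)) ''
        ((insert s S : Finset (σ →₀ ℕ)) : Set (σ →₀ ℕ))) :=
      Ideal.mul_mem_right _ _ (Ideal.subset_span ⟨s, by simp, rfl⟩)
    have h2' : g - monomial s (1 : R) * shift s g ∈ Ideal.span ((fun s => monomial s (1 : R)) ''
        ((insert s S : Finset (σ →₀ ℕ)) : Set (σ →₀ ℕ))) :=
      Ideal.span_mono (Set.image_mono (by simp)) h2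
    have e : g = monomial s (1 : R) * shift s g + (g - monomial s (1 : R) * shift s g) := by ring
    rw [e]
    exact Ideal.add_mem _ h1 h2'

end general

section step
variable {R : Type*} [CommRing R] [IsLocalRing R]

/-- adding a socle element to an ideal drops the colength by one -/
theorem length_quot_step (Q : Ideal R) (z : R) (hz : z ∉ Q)
    (hm : ∀ a ∈ IsLocalRing.maximalIdeal R, a * z ∈ Q) :
    Module.length R (R ⧸ Q) = Module.length R (R ⧸ (Q ⊔ Ideal.span {z})) + 1 := by
  set 𝔪 := IsLocalRing.maximalIdeal R with h𝔪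
  let φ : R →ₗ[R] (R ⧸ Q) := (Submodule.mkQ Q).comp (LinearMap.toSpanSingleton R R z)
  have hφ : ∀ r : R, φ r = Submodule.Quotient.mk (r * z) := fun r => rfl
  have hker : 𝔪 ≤ LinearMap.ker φ := by
    intro a ha
    rw [LinearMap.mem_ker, hφ, Submodule.Quotient.mk_eq_zero]
    exact hm a ha
  have hker' : LinearMap.ker φ ≤ 𝔪 := by
    intro a ha
    rw [LinearMap.mem_ker, hφ, Submodule.Quotient.mk_eq_zero] at ha
    by_contra hna
    have hu : IsUnit a := by
      by_contra h
      exact hna ((IsLocalRing.mem_maximalIdeal a).mpr h)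
    obtain ⟨u, rfl⟩ := hu
    apply hz
    have := Q.mul_mem_left (↑u⁻¹ : R) ha
    rwa [← mul_assoc, Units.inv_mul, one_mul] at this
  let f : (R ⧸ 𝔪) →ₗ[R] (R ⧸ Q) := Submodule.liftQ 𝔪 φ hker
  let g : (R ⧸ Q) →ₗ[R] (R ⧸ (Q ⊔ Ideal.span {z})) := Submodule.factor le_sup_left
  have hf : Function.Injective f := by
    rw [← LinearMap.ker_eq_bot]
    exact Submodule.ker_liftQ_eq_bot _ _ _ hker'
  have hg : Function.Surjective g := Submodule.factor_surjective _
  have hfm : ∀ r : R, f (Submodule.Quotient.mk r) = Submodule.Quotient.mk (r * z) := fun r => rfl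
  have hgm : ∀ r : R, g (Submodule.Quotient.mk r) = Submodule.Quotient.mk r := fun r => rfl
  have hex : Function.Exact f g := by
    intro y
    obtain ⟨r, rfl⟩ := Submodule.Quotient.mk_surjective _ y
    rw [hgm, Submodule.Quotient.mk_eq_zero]
    constructor
    · intro hr
      obtain ⟨q, hq, w, hw, rfl⟩ := Submodule.mem_sup.mp hr
      obtain ⟨c, rfl⟩ := Ideal.mem_span_singleton'.mp hw
      refine ⟨Submodule.Quotient.mk c, ?_⟩
      rw [hfm]
      refine (Submodule.Quotient.eq _).mpr ?_
      have : c * z - (q + c * z) = -q := by ring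
      rw [this]
      exact Q.neg_mem hq
    · rintro ⟨w, hw⟩
      obtain ⟨c, rfl⟩ := Submodule.Quotient.mk_surjective _ w
      rw [hfm] at hw
      have h3 := (Submodule.Quotient.eq _).mp hw
      have h4 : r = c * z - (c * z - r) := by ring
      rw [h4]
      refine Submodule.sub_mem _ ?_ (Submodule.mem_sup_left h3)
      exact Submodule.mem_sup_right (Ideal.mem_span_singleton'.mpr ⟨c, rfl⟩)
  have hsimple : Module.length R (R ⧸ 𝔪) = 1 := by
    rw [Module.length_eq_one_iff]
    exact isSimpleModule_iff_isCoatom.mpr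
      (Ideal.isMaximal_def.mp (IsLocalRing.maximalIdeal.isMaximal R))
  have := Module.length_eq_add_of_exact f g hf hg hex
  rw [this, hsimple, add_comm]

end step

end Groth.Agent.Helper8.HDP
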