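import Mathlib
import Groth.Agent.Lib.Helper8.HDP1

set_option autoImplicit false

/-!
# The ring `k[[x,y,t]]/(x² - yⁿ)`: monomials, the maximal ideal and colength steps
-/

namespace Groth.Agent.Helper8.HDP

open MvPowerSeries

universe u

/-- exponent vectors in three variables -/
noncomputable def ex (a b c : ℕ) : Fin 3 →₀ ℕ :=
  Finsupp.single 0 a + Finsupp.single 1 b + Finsupp.single 2 c

theorem ex_zero (a b c : ℕ) : ex a b c 0 = a := by simp [ex]

theorem ex_one (a b c : ℕ) : ex a b c 1 = b := by simp [ex]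

theorem ex_two (a b c : ℕ) : ex a b c 2 = c := by simp [ex]

theorem le_iff3 (s d : Fin 3 →₀ ℕ) : s ≤ d ↔ s 0 ≤ d 0 ∧ s 1 ≤ d 1 ∧ s 2 ≤ d 2 := by
  rw [Finsupp.le_def]
  constructor
  · intro h
    exact ⟨h 0, h 1, h 2⟩
  · rintro ⟨h0, h1, h2⟩ i
    fin_cases i
    · exact h0
    · exact h1
    · exact h2

theorem ex_le_iff (a b c : ℕ) (d : Fin 3 →₀ ℕ) :
    ex a b c ≤ d ↔ a ≤ d 0 ∧ b ≤ d 1 ∧ c ≤ d 2 := by
  rw [le_iff3, ex_zero, ex_one, ex_two]

theorem ex_le_ex_iff (a b c a' b' c' : ℕ) :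
    ex a b c ≤ ex a' b' c' ↔ a ≤ a' ∧ b ≤ b' ∧ c ≤ c' := by
  rw [ex_le_iff, ex_zero, ex_one, ex_two]

section ring
variable (k : Type u) [Field k]

/-- the monomial `x^a y^b t^c` -/
noncomputable def mon (a b c : ℕ) : MvPowerSeries (Fin 3) k :=
  (X 0 : MvPowerSeries (Fin 3) k) ^ a * X 1 ^ b * X 2 ^ c

theorem mon_eq (a b c : ℕ) : mon k a b c = monomial (ex a b c) (1 : k) := by
  unfold mon ex
  rw [X_pow_eq, X_pow_eq, X_pow_eq, monomial_mul_monomial, monomial_mul_monomial, one_mul,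
    one_mul]

theorem coeff_mon_self (a b c : ℕ) : coeff (ex a b c) (mon k a b c) = 1 := by
  rw [mon_eq]
  exact coeff_monomial_same _ _

theorem mon_mul_mon (a b c a' b' c' : ℕ) :
    mon k a b c * mon k a' b' c' = mon k (a + a') (b + b') (c + c') := by
  unfold mon
  ring

theorem mon100_mul (a b c : ℕ) : mon k 1 0 0 * mon k a b c = mon k (a + 1) b c := by
  unfold mon
  ring

theorem mon010_mul (a b c : ℕ) : mon k 0 1 0 * mon k a b c = mon k a (b + 1) c := by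
  unfold mon
  ring

theorem mon001_mul (a b c : ℕ) : mon k 0 0 1 * mon k a b c = mon k a b (c + 1) := by
  unfold mon
  ring

theorem mon_000 : mon k 0 0 0 = 1 := by
  unfold mon
  ring

theorem mon_mem_span_of_le (G : Set (MvPowerSeries (Fin 3) k)) (a' b' c' a b c : ℕ)
    (hg : mon k a' b' c' ∈ G) (h : a' ≤ a ∧ b' ≤ b ∧ c' ≤ c) : mon k a b c ∈ Ideal.span G := by
  obtain ⟨ha, hb, hc⟩ := h
  obtain ⟨a'', rfl⟩ := Nat.exists_eq_add_of_le ha
  obtain ⟨b'', rfl⟩ := Nat.exists_eq_add_of_le hb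
  obtain ⟨c'', rfl⟩ := Nat.exists_eq_add_of_le hc
  rw [← mon_mul_mon]
  exact Ideal.mul_mem_right _ _ (Ideal.subset_span hg)

theorem mon_mem_lowerIdeal_Iic (a b c a' b' c' : ℕ) (h : ¬ (a ≤ a' ∧ b ≤ b' ∧ c ≤ c')) :
    mon k a b c ∈ lowerIdeal (R := k) (Set.Iic (ex a' b' c')) (isLowerSet_Iic _) := by
  rw [mon_eq]
  apply monomial_mem_lowerIdeal
  intro hmem
  exact h ((ex_le_ex_iff a b c a' b' c').mp hmem)

/-- the equation `x² - yⁿ` -/
noncomputable def fHD (n : ℕ) : MvPowerSeries (Fin 3) k := X 0 ^ 2 - X 1 ^ n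

theorem fHD_eq (n : ℕ) : fHD k n = mon k 2 0 0 - mon k 0 n 0 := by
  unfold fHD mon
  ring

theorem fHD_mem_lowerIdeal_Iic (n a' b' c' : ℕ) (ha : a' < 2) (hb : b' < n) :
    fHD k n ∈ lowerIdeal (R := k) (Set.Iic (ex a' b' c')) (isLowerSet_Iic _) := by
  rw [fHD_eq]
  exact Ideal.sub_mem _ (mon_mem_lowerIdeal_Iic k 2 0 0 a' b' c' (by omega))
    (mon_mem_lowerIdeal_Iic k 0 n 0 a' b' c' (by omega))

/-- the ring `k[[x,y,t]]/(x² - yⁿ)` -/
abbrev AHD (n : ℕ) : Type u :=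
  MvPowerSeries (Fin 3) k ⧸ Ideal.span {(X 0 ^ 2 - X 1 ^ n : MvPowerSeries (Fin 3) k)}

/-- the quotient map -/
noncomputable abbrev mkA (n : ℕ) : MvPowerSeries (Fin 3) k →+* AHD k n :=
  Ideal.Quotient.mk _

theorem mkA_fHD (n : ℕ) : mkA k n (fHD k n) = 0 :=
  Ideal.Quotient.eq_zero_iff_mem.mpr (Ideal.subset_span (Set.mem_singleton _))

theorem mkA_mon_rel (n : ℕ) : mkA k n (mon k 2 0 0) = mkA k n (mon k 0 n 0) := by
  have h := mkA_fHD k n
  rw [fHD_eq, map_sub, sub_eq_zero] at h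
  exact h

theorem fHD_not_isUnit (n : ℕ) (hn : 1 ≤ n) : ¬ IsUnit (fHD k n) := by
  rw [MvPowerSeries.isUnit_iff_constantCoeff]
  have h0 : constantCoeff (fHD k n) = 0 := by
    unfold fHD
    rw [map_sub, map_pow, map_pow, constantCoeff_X, constantCoeff_X, zero_pow (by norm_num),
      zero_pow (by omega), sub_zero]
  rw [h0]
  exact not_isUnit_zero

theorem isLocalRing_AHD (n : ℕ) (hn : 1 ≤ n) : IsLocalRing (AHD k n) := by
  haveI : Nontrivial (AHD k n) := Ideal.Quotient.nontrivial_iff.mpr (by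
    rw [Ne, Ideal.span_singleton_eq_top]
    exact fHD_not_isUnit k n hn)
  exact IsLocalRing.of_surjective' (Ideal.Quotient.mk _) Ideal.Quotient.mk_surjective

theorem mem_span_X_of_constantCoeff (g : MvPowerSeries (Fin 3) k) (hg : constantCoeff g = 0) :
    g ∈ Ideal.span {mon k 1 0 0, mon k 0 1 0, mon k 0 0 1} := by
  have h := mem_span_of_coeff_eq_zero (R := k)
    ({ex 1 0 0, ex 0 1 0, ex 0 0 1} : Finset (Fin 3 →₀ ℕ)) g (by
      intro d hd
      have h0 := hd (ex 1 0 0) (by simp)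
      have h1 := hd (ex 0 1 0) (by simp)
      have h2 := hd (ex 0 0 1) (by simp)
      rw [ex_le_iff] at h0 h1 h2
      have hd0 : d = 0 := by
        ext i
        fin_cases i
        · show d 0 = 0
          omega
        · show d 1 = 0
          omega
        · show d 2 = 0
          omega
      rw [hd0, coeff_zero_eq_constantCoeff_apply]
      exact hg)
  have hset : (fun s => monomial s (1 : k)) ''
      (({ex 1 0 0, ex 0 1 0, ex 0 0 1} : Finset (Fin 3 →₀ ℕ)) : Set (Fin 3 →₀ ℕ)) =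
      {mon k 1 0 0, mon k 0 1 0, mon k 0 0 1} := by
    rw [Finset.coe_insert, Finset.coe_insert, Finset.coe_singleton, Set.image_insert_eq,
      Set.image_insert_eq, Set.image_singleton, mon_eq, mon_eq, mon_eq]
  rw [hset] at h
  exact h

variable (n : ℕ)

theorem maximalIdeal_le [IsLocalRing (AHD k n)] :
    IsLocalRing.maximalIdeal (AHD k n) ≤
      Ideal.span {mkA k n (mon k 1 0 0), mkA k n (mon k 0 1 0), mkA k n (mon k 0 0 1)} := by
  intro a ha
  obtain ⟨p, rfl⟩ := Ideal.Quotient.mk_surjective a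
  have hnu : ¬ IsUnit (Ideal.Quotient.mk _ p) := (IsLocalRing.mem_maximalIdeal _).mp ha
  have hp : ¬ IsUnit p := fun h => hnu (h.map _)
  have hc : constantCoeff p = 0 := by
    by_contra h
    exact hp (MvPowerSeries.isUnit_iff_constantCoeff.mpr (isUnit_iff_ne_zero.mpr h))
  have hmem := Ideal.mem_map_of_mem (mkA k n) (mem_span_X_of_constantCoeff k p hc)
  rw [Ideal.map_span, Set.image_insert_eq, Set.image_insert_eq, Set.image_singleton] at hmem
  exact hmem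

theorem mul_mem_of_gens [IsLocalRing (AHD k n)] (Q : Ideal (AHD k n)) (z : AHD k n)
    (hx : mkA k n (mon k 1 0 0) * z ∈ Q) (hy : mkA k n (mon k 0 1 0) * z ∈ Q)
    (ht : mkA k n (mon k 0 0 1) * z ∈ Q) :
    ∀ a ∈ IsLocalRing.maximalIdeal (AHD k n), a * z ∈ Q := by
  intro a ha
  have h := maximalIdeal_le k n ha
  rw [Ideal.mem_span_insert] at h
  obtain ⟨c0, w, hw, rfl⟩ := h
  rw [Ideal.mem_span_insert] at hw
  obtain ⟨c1, w', hw', rfl⟩ := hw
  obtain ⟨c2, rfl⟩ := Ideal.mem_span_singleton'.mp hw'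
  have e : (c0 * mkA k n (mon k 1 0 0) + (c1 * mkA k n (mon k 0 1 0) +
      c2 * mkA k n (mon k 0 0 1))) * z =
      c0 * (mkA k n (mon k 1 0 0) * z) + (c1 * (mkA k n (mon k 0 1 0) * z) +
        c2 * (mkA k n (mon k 0 0 1) * z)) := by ring
  rw [e]
  exact Q.add_mem (Q.mul_mem_left _ hx) (Q.add_mem (Q.mul_mem_left _ hy) (Q.mul_mem_left _ ht))

theorem stepA [IsLocalRing (AHD k n)] (G : Set (MvPowerSeries (Fin 3) k)) (a b c : ℕ)
    (ha : a < 2) (hb : b < n)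
    (hG : Ideal.span G ≤ lowerIdeal (R := k) (Set.Iic (ex a b c)) (isLowerSet_Iic _))
    (hx : mkA k n (mon k (a + 1) b c) ∈ Ideal.map (mkA k n) (Ideal.span G))
    (hy : mkA k n (mon k a (b + 1) c) ∈ Ideal.map (mkA k n) (Ideal.span G))
    (ht : mkA k n (mon k a b (c + 1)) ∈ Ideal.map (mkA k n) (Ideal.span G)) :
    Module.length (AHD k n) (AHD k n ⧸ Ideal.map (mkA k n) (Ideal.span G)) =
      Module.length (AHD k n)
        (AHD k n ⧸ Ideal.map (mkA k n) (Ideal.span (insert (mon k a b c) G))) + 1 := by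
  have hz : mkA k n (mon k a b c) ∉ Ideal.map (mkA k n) (Ideal.span G) := by
    intro hmem
    rw [Ideal.mem_map_iff_of_surjective _ Ideal.Quotient.mk_surjective] at hmem
    obtain ⟨p, hp, hpe⟩ := hmem
    have hker : p - mon k a b c ∈
        Ideal.span {(X 0 ^ 2 - X 1 ^ n : MvPowerSeries (Fin 3) k)} :=
      Ideal.Quotient.eq.mp hpe
    obtain ⟨q, hq⟩ := Ideal.mem_span_singleton'.mp hker
    have h1 := hG hp
    have h2 : p - mon k a b c ∈
        lowerIdeal (R := k) (Set.Iic (ex a b c)) (isLowerSet_Iic _) := by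
      rw [← hq]
      exact Ideal.mul_mem_left _ _ (fHD_mem_lowerIdeal_Iic k n a b c ha hb)
    have h3 := Ideal.sub_mem _ h1 h2
    rw [sub_sub_cancel] at h3
    have h4 := h3 (ex a b c) (Set.mem_Iic.mpr le_rfl)
    rw [coeff_mon_self] at h4
    exact one_ne_zero h4
  have hstep := length_quot_step (Ideal.map (mkA k n) (Ideal.span G)) (mkA k n (mon k a b c)) hz
    (mul_mem_of_gens k n _ _
      (by rw [← map_mul, mon100_mul]; exact hx)
      (by rw [← map_mul, mon010_mul]; exact hy)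
      (by rw [← map_mul, mon001_mul]; exact ht))
  have hQ : Ideal.map (mkA k n) (Ideal.span G) ⊔ Ideal.span {mkA k n (mon k a b c)} =
      Ideal.map (mkA k n) (Ideal.span (insert (mon k a b c) G)) := by
    rw [Ideal.map_span, Ideal.map_span, Set.image_insert_eq, Ideal.span_insert, sup_comm]
  rw [hstep, hQ]

/-- a set of monomials given by a list of exponent triples -/
def monSet (L : List (ℕ × ℕ × ℕ)) : Set (MvPowerSeries (Fin 3) k) :=
  {g | ∃ t ∈ L, g = mon k t.1 t.2.1 t.2.2}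

theorem monSet_cons (t : ℕ × ℕ × ℕ) (L : List (ℕ × ℕ × ℕ)) :
    monSet k (t :: L) = insert (mon k t.1 t.2.1 t.2.2) (monSet k L) := by
  ext g
  constructor
  · rintro ⟨t', ht', rfl⟩
    rcases List.mem_cons.mp ht' with rfl | h
    · exact Or.inl rfl
    · exact Or.inr ⟨t', h, rfl⟩
  · rintro (rfl | ⟨t', h, rfl⟩)
    · exact ⟨t, List.mem_cons_self, rfl⟩
    · exact ⟨t', List.mem_cons_of_mem _ h, rfl⟩

theorem monSet_nil : monSet k [] = ∅ := by
  ext g
  simp [monSet]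

theorem span_monSet_le_lower (L : List (ℕ × ℕ × ℕ)) (a b c : ℕ)
    (h : ∀ t ∈ L, ¬ (t.1 ≤ a ∧ t.2.1 ≤ b ∧ t.2.2 ≤ c)) :
    Ideal.span (monSet k L) ≤
      lowerIdeal (R := k) (Set.Iic (ex a b c)) (isLowerSet_Iic _) := by
  rw [Ideal.span_le]
  rintro _ ⟨t, ht, rfl⟩
  exact mon_mem_lowerIdeal_Iic k _ _ _ _ _ _ (h t ht)

theorem mon_mem_span_monSet (L : List (ℕ × ℕ × ℕ)) (a b c : ℕ)
    (h : ∃ t ∈ L, t.1 ≤ a ∧ t.2.1 ≤ b ∧ t.2.2 ≤ c) :
    mon k a b c ∈ Ideal.span (monSet k L) := by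
  obtain ⟨t, ht, hle⟩ := h
  exact mon_mem_span_of_le k _ t.1 t.2.1 t.2.2 a b c ⟨t, ht, rfl⟩ hle

/-- the ideal of `A` generated by a list of monomials -/
noncomputable def idL (L : List (ℕ × ℕ × ℕ)) : Ideal (AHD k n) :=
  Ideal.map (mkA k n) (Ideal.span (monSet k L))

theorem mk_mon_mem_idL (L : List (ℕ × ℕ × ℕ)) (a b c : ℕ)
    (h : ∃ t ∈ L, t.1 ≤ a ∧ t.2.1 ≤ b ∧ t.2.2 ≤ c) :
    mkA k n (mon k a b c) ∈ idL k n L :=
  Ideal.mem_map_of_mem _ (mon_mem_span_monSet k L a b c h)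

theorem stepL [IsLocalRing (AHD k n)] (L : List (ℕ × ℕ × ℕ)) (a b c : ℕ)
    (ha : a < 2) (hb : b < n)
    (hG : ∀ t ∈ L, ¬ (t.1 ≤ a ∧ t.2.1 ≤ b ∧ t.2.2 ≤ c))
    (hx : mkA k n (mon k (a + 1) b c) ∈ idL k n L)
    (hy : mkA k n (mon k a (b + 1) c) ∈ idL k n L)
    (ht : mkA k n (mon k a b (c + 1)) ∈ idL k n L) :
    Module.length (AHD k n) (AHD k n ⧸ idL k n L) =
      Module.length (AHD k n) (AHD k n ⧸ idL k n ((a, b, c) :: L)) + 1 := by
  unfold idL
  rw [monSet_cons]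
  exact stepA k n (monSet k L) a b c ha hb (span_monSet_le_lower k L a b c hG) hx hy ht

theorem length_idL_of_mem (L : List (ℕ × ℕ × ℕ)) (h : (0, 0, 0) ∈ L) :
    Module.length (AHD k n) (AHD k n ⧸ idL k n L) = 0 := by
  have h1 : Ideal.span (monSet k L) = ⊤ := by
    rw [Ideal.eq_top_iff_one, ← mon_000 k]
    exact Ideal.subset_span ⟨(0, 0, 0), h, rfl⟩
  unfold idL
  rw [h1, Ideal.map_top, Module.length_eq_zero_iff, Submodule.Quotient.subsingleton_iff]

/-- the colength of `I = (x², xy, y², xt, yt², t⁴)` is `7` -/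
theorem length_idL_I (hn : 3 ≤ n) [IsLocalRing (AHD k n)] :
    Module.length (AHD k n) (AHD k n ⧸
      idL k n [(2, 0, 0), (1, 1, 0), (0, 2, 0), (1, 0, 1), (0, 1, 2), (0, 0, 4)]) = 7 := by
  rw [stepL k n [(2, 0, 0), (1, 1, 0), (0, 2, 0), (1, 0, 1), (0, 1, 2), (0, 0, 4)] 0 0 3
      (by omega) (by omega) (by decide) (mk_mon_mem_idL k n _ _ _ _ (by decide))
      (mk_mon_mem_idL k n _ _ _ _ (by decide)) (mk_mon_mem_idL k n _ _ _ _ (by decide)),
    stepL k n [(0, 0, 3), (2, 0, 0), (1, 1, 0), (0, 2, 0), (1, 0, 1), (0, 1, 2), (0, 0, 4)] 1 0 0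
      (by omega) (by omega) (by decide) (mk_mon_mem_idL k n _ _ _ _ (by decide))
      (mk_mon_mem_idL k n _ _ _ _ (by decide)) (mk_mon_mem_idL k n _ _ _ _ (by decide)),
    stepL k n [(1, 0, 0), (0, 0, 3), (2, 0, 0), (1, 1, 0), (0, 2, 0), (1, 0, 1), (0, 1, 2),
      (0, 0, 4)] 0 1 1
      (by omega) (by omega) (by decide) (mk_mon_mem_idL k n _ _ _ _ (by decide))
      (mk_mon_mem_idL k n _ _ _ _ (by decide)) (mk_mon_mem_idL k n _ _ _ _ (by decide)),
    stepL k n [(0, 1, 1), (1, 0, 0), (0, 0, 3), (2, 0, 0), (1, 1, 0), (0, 2, 0), (1, 0, 1),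
      (0, 1, 2), (0, 0, 4)] 0 0 2
      (by omega) (by omega) (by decide) (mk_mon_mem_idL k n _ _ _ _ (by decide))
      (mk_mon_mem_idL k n _ _ _ _ (by decide)) (mk_mon_mem_idL k n _ _ _ _ (by decide)),
    stepL k n [(0, 0, 2), (0, 1, 1), (1, 0, 0), (0, 0, 3), (2, 0, 0), (1, 1, 0), (0, 2, 0),
      (1, 0, 1), (0, 1, 2), (0, 0, 4)] 0 1 0
      (by omega) (by omega) (by decide) (mk_mon_mem_idL k n _ _ _ _ (by decide))
      (mk_mon_mem_idL k n _ _ _ _ (by decide)) (mk_mon_mem_idL k n _ _ _ _ (by decide)),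
    stepL k n [(0, 1, 0), (0, 0, 2), (0, 1, 1), (1, 0, 0), (0, 0, 3), (2, 0, 0), (1, 1, 0),
      (0, 2, 0), (1, 0, 1), (0, 1, 2), (0, 0, 4)] 0 0 1
      (by omega) (by omega) (by decide) (mk_mon_mem_idL k n _ _ _ _ (by decide))
      (mk_mon_mem_idL k n _ _ _ _ (by decide)) (mk_mon_mem_idL k n _ _ _ _ (by decide)),
    stepL k n [(0, 0, 1), (0, 1, 0), (0, 0, 2), (0, 1, 1), (1, 0, 0), (0, 0, 3), (2, 0, 0),
      (1, 1, 0), (0, 2, 0), (1, 0, 1), (0, 1, 2), (0, 0, 4)] 0 0 0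
      (by omega) (by omega) (by decide) (mk_mon_mem_idL k n _ _ _ _ (by decide))
      (mk_mon_mem_idL k n _ _ _ _ (by decide)) (mk_mon_mem_idL k n _ _ _ _ (by decide)),
    length_idL_of_mem k n _ (by simp)]
  rfl

/-- the colength of `(y, t)` is `2` -/
theorem length_idL_yt (hn : 3 ≤ n) [IsLocalRing (AHD k n)] :
    Module.length (AHD k n) (AHD k n ⧸ idL k n [(0, 1, 0), (0, 0, 1)]) = 2 := by
  have hx : mkA k n (mon k (1 + 1) 0 0) ∈ idL k n [(0, 1, 0), (0, 0, 1)] := by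
    rw [show (1 + 1 : ℕ) = 2 from rfl, mkA_mon_rel]
    exact mk_mon_mem_idL k n _ _ _ _ ⟨(0, 1, 0), by simp, by
      refine ⟨le_rfl, ?_, le_rfl⟩
      show 1 ≤ n
      omega⟩
  rw [stepL k n [(0, 1, 0), (0, 0, 1)] 1 0 0 (by omega) (by omega) (by decide) hx
      (mk_mon_mem_idL k n _ _ _ _ (by decide)) (mk_mon_mem_idL k n _ _ _ _ (by decide)),
    stepL k n [(1, 0, 0), (0, 1, 0), (0, 0, 1)] 0 0 0
      (by omega) (by omega) (by decide) (mk_mon_mem_idL k n _ _ _ _ (by decide))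
      (mk_mon_mem_idL k n _ _ _ _ (by decide)) (mk_mon_mem_idL k n _ _ _ _ (by decide)),
    length_idL_of_mem k n _ (by simp)]
  rfl

end ring

end Groth.Agent.Helper8.HDP
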