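import Mathlib
import Groth.Agent.Lib.Helper8.HDP2
import Groth.Agent.Lib.Helper8.KE7
import Groth.Agent.Lib.Helper8.KE8
import Groth.Agent.Lib.Helper8.KE9
import Groth.Agent.Lib.Helper8.KE11
import Groth.Agent.Lib.Helper8.KP2
import Groth.Agent.Lib.Helper8.KS6

set_option autoImplicit false

/-!
# The ring `k[[x,y,t]]/(x² - yⁿ)`: `y, t` is a regular sequence and `χ(y², t⁴) = 16`
-/

namespace Groth.Agent.Helper8.HDP

open MvPowerSeries Groth.Agent.Helper8.KoszulLib Filter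
open scoped Pointwise

universe u

theorem ofList_pair {R : Type*} [CommSemiring R] (a b : R) :
    Ideal.ofList [a, b] = Ideal.span {a, b} := by
  unfold Ideal.ofList
  congr 1
  ext z
  simp

section ring
variable (k : Type u) [Field k]

theorem mon_ne_zero (a b c : ℕ) : mon k a b c ≠ 0 := by
  intro h
  have h1 := coeff_mon_self k a b c
  rw [h, map_zero] at h1
  exact zero_ne_one h1

theorem dvd_of_coeff (s : Fin 3 →₀ ℕ) (q : MvPowerSeries (Fin 3) k)
    (h : ∀ d, ¬ s ≤ d → coeff d q = 0) : ∃ q', q' * monomial s (1 : k) = q := by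
  have h1 := mem_span_of_coeff_eq_zero (R := k) ({s} : Finset (Fin 3 →₀ ℕ)) q (by
    intro d hd
    exact h d (hd s (Finset.mem_singleton_self s)))
  rw [Finset.coe_singleton, Set.image_singleton] at h1
  exact Ideal.mem_span_singleton'.mp h1

theorem monSet_singleton (t : ℕ × ℕ × ℕ) : monSet k [t] = {mon k t.1 t.2.1 t.2.2} := by
  ext g
  constructor
  · rintro ⟨t', ht', rfl⟩
    rw [List.mem_singleton] at ht'
    subst ht'
    exact Set.mem_singleton _
  · intro hg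
    rw [Set.mem_singleton_iff] at hg
    exact ⟨t, List.mem_singleton.mpr rfl, hg⟩

theorem pair_set : (fun s => monomial s (1 : k)) ''
    (({ex 2 0 0, ex 0 1 0} : Finset (Fin 3 →₀ ℕ)) : Set (Fin 3 →₀ ℕ)) =
    {mon k 2 0 0, mon k 0 1 0} := by
  rw [Finset.coe_insert, Finset.coe_singleton, Set.image_insert_eq, Set.image_singleton,
    mon_eq, mon_eq]

theorem mem_pair_of_mul_mem (p : MvPowerSeries (Fin 3) k)
    (h : mon k 0 0 1 * p ∈ Ideal.span {mon k 2 0 0, mon k 0 1 0}) :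
    p ∈ Ideal.span {mon k 2 0 0, mon k 0 1 0} := by
  rw [← pair_set] at h ⊢
  apply mem_span_of_coeff_eq_zero
  intro d hd
  have hd1 := hd (ex 2 0 0) (by simp)
  have hd2 := hd (ex 0 1 0) (by simp)
  rw [ex_le_iff] at hd1 hd2
  have h1 := coeff_eq_zero_of_mem_span _ _ h (ex 0 0 1 + d) (by
    intro s hs hle
    rw [Finset.mem_coe, Finset.mem_insert, Finset.mem_singleton] at hs
    rcases hs with rfl | rfl
    · rw [ex_le_iff] at hle
      simp only [Finsupp.add_apply, ex_zero, ex_one, ex_two] at hle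
      omega
    · rw [ex_le_iff] at hle
      simp only [Finsupp.add_apply, ex_zero, ex_one, ex_two] at hle
      omega)
  rw [mon_eq, coeff_add_monomial_mul, one_mul] at h1
  exact h1

variable (n : ℕ)

theorem idL_pair (a b c a' b' c' : ℕ) : idL k n [(a, b, c), (a', b', c')] =
    Ideal.span {mkA k n (mon k a b c), mkA k n (mon k a' b' c')} := by
  unfold idL
  rw [monSet_cons, monSet_singleton, Ideal.map_span, Set.image_insert_eq, Set.image_singleton]

/-- `y` is a nonzerodivisor on `A`. -/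
theorem y_regular (hn : 1 ≤ n) : IsSMulRegular (AHD k n) (mkA k n (mon k 0 1 0)) := by
  rw [isSMulRegular_iff_right_eq_zero_of_smul]
  intro a ha
  obtain ⟨p, rfl⟩ := Ideal.Quotient.mk_surjective a
  rw [smul_eq_mul, ← map_mul, Ideal.Quotient.eq_zero_iff_mem] at ha
  obtain ⟨q, hq⟩ := Ideal.mem_span_singleton'.mp ha
  have hq' : q * (mon k 2 0 0 - mon k 0 n 0) = mon k 0 1 0 * p := by
    rw [← fHD_eq]
    exact hq
  have hdiv : ∃ q', q' * monomial (ex 0 1 0) (1 : k) = q := by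
    apply dvd_of_coeff
    intro d hd
    rw [ex_le_iff] at hd
    have e1 : coeff (d + ex 2 0 0) (q * mon k 2 0 0) = coeff d q := by
      rw [mon_eq, coeff_add_mul_monomial, mul_one]
    have e2 : coeff (d + ex 2 0 0) (q * mon k 0 n 0) = 0 := by
      rw [mon_eq, coeff_mul_monomial, if_neg]
      rw [ex_le_iff]
      simp only [Finsupp.add_apply, ex_zero, ex_one, ex_two]
      omega
    have e3 : coeff (d + ex 2 0 0) (mon k 0 1 0 * p) = 0 := by
      rw [mon_eq, coeff_monomial_mul, if_neg]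
      rw [ex_le_iff]
      simp only [Finsupp.add_apply, ex_zero, ex_one, ex_two]
      omega
    have h1 : coeff (d + ex 2 0 0) (q * (mon k 2 0 0 - mon k 0 n 0)) =
        coeff (d + ex 2 0 0) (mon k 0 1 0 * p) := by rw [hq']
    rw [mul_sub, map_sub, e1, e2, e3, sub_zero] at h1
    exact h1
  obtain ⟨q', hq'q⟩ := hdiv
  have hp : mon k 0 1 0 * p = mon k 0 1 0 * (q' * (X 0 ^ 2 - X 1 ^ n)) := by
    rw [← hq, ← hq'q, ← mon_eq]
    ring
  have hp2 := mul_left_cancel₀ (mon_ne_zero k 0 1 0) hp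
  rw [Ideal.Quotient.eq_zero_iff_mem]
  exact Ideal.mem_span_singleton'.mpr ⟨q', hp2.symm⟩

/-- `t` is a nonzerodivisor on `A / yA`. -/
theorem t_regular (hn : 1 ≤ n) :
    IsSMulRegular (QuotSMulTop (mkA k n (mon k 0 1 0)) (AHD k n)) (mkA k n (mon k 0 0 1)) := by
  obtain ⟨n', rfl⟩ : ∃ n', n = n' + 1 := ⟨n - 1, by omega⟩
  rw [isSMulRegular_iff_right_eq_zero_of_smul]
  intro a ha
  obtain ⟨a, rfl⟩ := Submodule.Quotient.mk_surjective _ a
  obtain ⟨p, rfl⟩ := Ideal.Quotient.mk_surjective a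
  rw [← Submodule.Quotient.mk_smul, Submodule.Quotient.mk_eq_zero,
    Submodule.mem_smul_pointwise_iff_exists] at ha
  obtain ⟨b, -, hb⟩ := ha
  obtain ⟨r, rfl⟩ := Ideal.Quotient.mk_surjective b
  rw [smul_eq_mul, smul_eq_mul, ← map_mul, ← map_mul] at hb
  have hker : mon k 0 1 0 * r - mon k 0 0 1 * p ∈
      Ideal.span {(X 0 ^ 2 - X 1 ^ (n' + 1) : MvPowerSeries (Fin 3) k)} :=
    Ideal.Quotient.eq.mp hb
  have hx2 : mon k 2 0 0 ∈ Ideal.span {mon k 2 0 0, mon k 0 1 0} :=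
    Ideal.subset_span (by simp)
  have hy1 : mon k 0 1 0 ∈ Ideal.span {mon k 2 0 0, mon k 0 1 0} :=
    Ideal.subset_span (by simp)
  have hf : (X 0 ^ 2 - X 1 ^ (n' + 1) : MvPowerSeries (Fin 3) k) ∈
      Ideal.span {mon k 2 0 0, mon k 0 1 0} := by
    have e : (X 0 ^ 2 - X 1 ^ (n' + 1) : MvPowerSeries (Fin 3) k) =
        mon k 2 0 0 - mon k 0 1 0 * mon k 0 n' 0 := by
      unfold mon
      ring
    rw [e]
    exact Ideal.sub_mem _ hx2 (Ideal.mul_mem_right _ _ hy1)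
  have htp : mon k 0 0 1 * p ∈ Ideal.span {mon k 2 0 0, mon k 0 1 0} := by
    have e : mon k 0 0 1 * p = mon k 0 1 0 * r - (mon k 0 1 0 * r - mon k 0 0 1 * p) := by
      ring
    rw [e]
    refine Ideal.sub_mem _ (Ideal.mul_mem_right _ _ hy1) ?_
    exact (Ideal.span_le.mpr (Set.singleton_subset_iff.mpr hf)) hker
  have hp : p ∈ Ideal.span {mon k 2 0 0, mon k 0 1 0} := mem_pair_of_mul_mem k p htp
  obtain ⟨c, e, hce⟩ := Ideal.mem_span_pair.mp hp
  rw [Submodule.Quotient.mk_eq_zero, Submodule.mem_smul_pointwise_iff_exists]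
  refine ⟨mkA k (n' + 1) c * mkA k (n' + 1) (mon k 0 n' 0) + mkA k (n' + 1) e,
    Submodule.mem_top, ?_⟩
  rw [smul_eq_mul, ← hce, map_add, map_mul, map_mul, mkA_mon_rel, ← mon010_mul k 0 n' 0,
    map_mul]
  ring

set_option maxHeartbeats 800000 in
theorem len_quot_yt (hn : 3 ≤ n) [IsLocalRing (AHD k n)] :
    len (AHD k n) (QuotSMulTop (mkA k n (mon k 0 0 1))
      (QuotSMulTop (mkA k n (mon k 0 1 0)) (AHD k n))) = 2 := by
  have e1 := Submodule.quotOfListConsSMulTopEquivQuotSMulTopInner (AHD k n)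
    (mkA k n (mon k 0 1 0)) [mkA k n (mon k 0 0 1)]
  have e2 := Submodule.quotOfListConsSMulTopEquivQuotSMulTopInner
    (QuotSMulTop (mkA k n (mon k 0 1 0)) (AHD k n)) (mkA k n (mon k 0 0 1)) []
  have hbot : (Ideal.ofList ([] : List (AHD k n)) • ⊤ : Submodule (AHD k n)
      (QuotSMulTop (mkA k n (mon k 0 0 1))
        (QuotSMulTop (mkA k n (mon k 0 1 0)) (AHD k n)))) = ⊥ := by
    rw [eq_bot_iff, Submodule.smul_le]
    intro r hr m _
    rw [Ideal.ofList_nil, Ideal.mem_bot] at hr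
    subst hr
    exact (Submodule.mem_bot _).mpr (zero_smul (AHD k n) m)
  have e3 := Submodule.quotEquivOfEqBot _ hbot
  have htop : (Ideal.ofList [mkA k n (mon k 0 1 0), mkA k n (mon k 0 0 1)] • ⊤ :
      Submodule (AHD k n) (AHD k n)) = idL k n [(0, 1, 0), (0, 0, 1)] := by
    rw [idL_pair, ofList_pair, smul_eq_mul, Ideal.mul_top]
  have e0 := Submodule.quotEquivOfEq _ _ htop
  have h2 : len (AHD k n) (AHD k n ⧸ idL k n [(0, 1, 0), (0, 0, 1)]) = 2 := by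
    unfold len
    rw [length_idL_yt k n hn]
    rfl
  exact (len_congr (e0.symm ≪≫ₗ e1 ≪≫ₗ e2 ≪≫ₗ e3)).symm.trans h2

theorem chi_yt (hn : 3 ≤ n) [IsLocalRing (AHD k n)] :
    chi [mkA k n (mon k 0 1 0), mkA k n (mon k 0 0 1)] (AHD k n) = 2 := by
  rw [chi_cons_of_regular _ _ _ (y_regular k n (by omega)),
    chi_cons_of_regular _ _ _ (t_regular k n (by omega)), chi_nil]
  exact_mod_cast len_quot_yt k n hn

theorem kfl_yt (hn : 3 ≤ n) [IsLocalRing (AHD k n)] :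
    KFL [mkA k n (mon k 0 1 0), mkA k n (mon k 0 0 1)] (AHD k n) := by
  apply kfl_of_quotient
  have htop : (Ideal.ofList [mkA k n (mon k 0 1 0), mkA k n (mon k 0 0 1)] • ⊤ :
      Submodule (AHD k n) (AHD k n)) = idL k n [(0, 1, 0), (0, 0, 1)] := by
    rw [idL_pair, ofList_pair, smul_eq_mul, Ideal.mul_top]
  have e0 := Submodule.quotEquivOfEq _ _ htop
  have hfl : IsFiniteLength (AHD k n) (AHD k n ⧸ idL k n [(0, 1, 0), (0, 0, 1)]) := by
    rw [← Module.length_ne_top_iff, length_idL_yt k n hn]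
    simp
  exact e0.symm.isFiniteLength hfl

theorem chi_J (hn : 3 ≤ n) [IsLocalRing (AHD k n)] :
    KFL [mkA k n (mon k 0 1 0) ^ 2, mkA k n (mon k 0 0 1) ^ 4] (AHD k n) ∧
    chi [mkA k n (mon k 0 1 0) ^ 2, mkA k n (mon k 0 0 1) ^ 4] (AHD k n) = 16 := by
  have hk0 := kfl_yt k n hn
  have h0 := chi_yt k n hn
  have hk1 : KFL [mkA k n (mon k 0 1 0) ^ 2, mkA k n (mon k 0 0 1)] (AHD k n) :=
    (chi_pow_head _ _ _ hk0 1).1
  have hc1 : chi [mkA k n (mon k 0 1 0) ^ 2, mkA k n (mon k 0 0 1)] (AHD k n) =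
      ((2 : ℕ) : ℤ) * chi [mkA k n (mon k 0 1 0), mkA k n (mon k 0 0 1)] (AHD k n) :=
    (chi_pow_head _ _ _ hk0 1).2
  have hk2 : KFL [mkA k n (mon k 0 0 1), mkA k n (mon k 0 1 0) ^ 2] (AHD k n) :=
    kfl_of_perm (List.Perm.swap (mkA k n (mon k 0 0 1)) (mkA k n (mon k 0 1 0) ^ 2) [])
      _ hk1
  have hc2 : chi [mkA k n (mon k 0 1 0) ^ 2, mkA k n (mon k 0 0 1)] (AHD k n) =
      chi [mkA k n (mon k 0 0 1), mkA k n (mon k 0 1 0) ^ 2] (AHD k n) :=
    chi_of_perm (List.Perm.swap (mkA k n (mon k 0 0 1)) (mkA k n (mon k 0 1 0) ^ 2) []) _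
  have hk3 : KFL [mkA k n (mon k 0 0 1) ^ 4, mkA k n (mon k 0 1 0) ^ 2] (AHD k n) :=
    (chi_pow_head _ _ _ hk2 3).1
  have hc3 : chi [mkA k n (mon k 0 0 1) ^ 4, mkA k n (mon k 0 1 0) ^ 2] (AHD k n) =
      ((4 : ℕ) : ℤ) * chi [mkA k n (mon k 0 0 1), mkA k n (mon k 0 1 0) ^ 2] (AHD k n) :=
    (chi_pow_head _ _ _ hk2 3).2
  have hk4 : KFL [mkA k n (mon k 0 1 0) ^ 2, mkA k n (mon k 0 0 1) ^ 4] (AHD k n) :=
    kfl_of_perm (List.Perm.swap (mkA k n (mon k 0 1 0) ^ 2) (mkA k n (mon k 0 0 1) ^ 4) [])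
      _ hk3
  have hc4 : chi [mkA k n (mon k 0 0 1) ^ 4, mkA k n (mon k 0 1 0) ^ 2] (AHD k n) =
      chi [mkA k n (mon k 0 1 0) ^ 2, mkA k n (mon k 0 0 1) ^ 4] (AHD k n) :=
    chi_of_perm (List.Perm.swap (mkA k n (mon k 0 1 0) ^ 2) (mkA k n (mon k 0 0 1) ^ 4) []) _
  refine ⟨hk4, ?_⟩
  rw [← hc4, hc3, ← hc2, hc1, h0]
  norm_num

theorem tendsto_J (hn : 3 ≤ n) [IsLocalRing (AHD k n)] :
    (∀ m : ℕ, Module.length (AHD k n) (AHD k n ⧸
      (Ideal.span {mkA k n (mon k 0 1 0) ^ 2, mkA k n (mon k 0 0 1) ^ 4} :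
        Ideal (AHD k n)) ^ m) ≠ ⊤) ∧
    Tendsto (fun m : ℕ => (2 : ℝ) * ((Module.length (AHD k n) (AHD k n ⧸
      (Ideal.span {mkA k n (mon k 0 1 0) ^ 2, mkA k n (mon k 0 0 1) ^ 4} :
        Ideal (AHD k n)) ^ m)).toNat : ℝ) / (m : ℝ) ^ 2) atTop (nhds 16) := by
  obtain ⟨hk, hchi⟩ := chi_J k n hn
  have hfl := quotient_of_kfl _ _ hk
  have hq := fun a : ℕ => length_quotient_pow_ne_top (AHD k n)
    (Ideal.ofList [mkA k n (mon k 0 1 0) ^ 2, mkA k n (mon k 0 0 1) ^ 4]) hfl a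
  have hlim := tendsto_samuel_list (AHD k n)
    [mkA k n (mon k 0 1 0) ^ 2, mkA k n (mon k 0 0 1) ^ 4] hq
  have e : ∀ m : ℕ, Module.length (AHD k n) (AHD k n ⧸
      (Ideal.ofList [mkA k n (mon k 0 1 0) ^ 2, mkA k n (mon k 0 0 1) ^ 4] ^ m • ⊤ :
        Submodule (AHD k n) (AHD k n))) =
      Module.length (AHD k n) (AHD k n ⧸
        (Ideal.span {mkA k n (mon k 0 1 0) ^ 2, mkA k n (mon k 0 0 1) ^ 4} :
          Ideal (AHD k n)) ^ m) := by
    intro m
    have h1 : (Ideal.ofList [mkA k n (mon k 0 1 0) ^ 2, mkA k n (mon k 0 0 1) ^ 4] ^ m • ⊤ :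
        Submodule (AHD k n) (AHD k n)) =
        (Ideal.span {mkA k n (mon k 0 1 0) ^ 2, mkA k n (mon k 0 0 1) ^ 4} :
          Ideal (AHD k n)) ^ m := by
      rw [smul_eq_mul, Ideal.mul_top, ofList_pair]
    exact (Submodule.quotEquivOfEq _ _ h1).length_eq
  constructor
  · intro m
    rw [← e m]
    exact hq m
  · rw [hchi] at hlim
    have h16 : ((16 : ℤ) : ℝ) = 16 := by norm_num
    rw [h16] at hlim
    have h2 : ([mkA k n (mon k 0 1 0) ^ 2, mkA k n (mon k 0 0 1) ^ 4] :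
        List (AHD k n)).length = 2 := rfl
    have h3 : Nat.factorial 2 = 2 := rfl
    refine hlim.congr (fun t => ?_)
    rw [e t, h2, h3]
    norm_num

end ring

end Groth.Agent.Helper8.HDP
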