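import Mathlib

set_option autoImplicit false

/-!
# A reduction `J = (y², t⁴)` of `I = (x², xy, y², xt, yt², t⁴)` when `x² = y^(n'+3)`,
and a squeeze argument for Samuel limits
-/

namespace Groth.Agent.Helper8.HDP

open scoped Pointwise
open Filter

section reduction
variable {R : Type*} [CommRing R]

theorem cube_le (J K I : Ideal R) (hI : I = J ⊔ K) (h : K * K * K ≤ J * I * I) :
    I * I * I ≤ J * I * I := by
  have hKI : K ≤ I := by
    rw [hI]
    exact le_sup_right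
  have h2 : K * J * I ≤ J * I * I := by
    rw [mul_comm K J]
    exact Ideal.mul_mono (Ideal.mul_mono le_rfl hKI) le_rfl
  have h3 : K * K * J ≤ J * I * I := by
    rw [mul_comm (K * K) J, ← mul_assoc]
    exact Ideal.mul_mono (Ideal.mul_mono le_rfl hKI) hKI
  have hKKI : K * K * I ≤ J * I * I := by
    calc K * K * I = K * K * (J ⊔ K) := by rw [← hI]
      _ = K * K * J ⊔ K * K * K := by rw [Ideal.mul_sup]
      _ ≤ J * I * I := sup_le h3 h
  have hKII : K * I * I ≤ J * I * I := by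
    calc K * I * I = K * (J ⊔ K) * I := by rw [← hI]
      _ = K * J * I ⊔ K * K * I := by rw [Ideal.mul_sup, Ideal.sup_mul]
      _ ≤ J * I * I := sup_le h2 hKKI
  calc I * I * I = (J ⊔ K) * I * I := by rw [← hI]
    _ = J * I * I ⊔ K * I * I := by rw [Ideal.sup_mul, Ideal.sup_mul]
    _ ≤ J * I * I := sup_le le_rfl hKII

theorem pow_le_of_cube_le (J I : Ideal R) (h : I * I * I ≤ J * I * I) :
    ∀ m : ℕ, I ^ (m + 2) ≤ J ^ m * (I * I)
  | 0 => by
    refine le_of_eq ?_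
    rw [pow_zero, one_mul]
    exact pow_two I
  | m + 1 => by
    have ih := pow_le_of_cube_le J I h m
    calc I ^ (m + 1 + 2) = I ^ (m + 2) * I := pow_succ _ _
      _ ≤ J ^ m * (I * I) * I := Ideal.mul_mono ih le_rfl
      _ = J ^ m * (I * I * I) := mul_assoc _ _ _
      _ ≤ J ^ m * (J * I * I) := Ideal.mul_mono le_rfl h
      _ = J ^ (m + 1) * (I * I) := by
        rw [pow_succ, mul_assoc J I I, mul_assoc (J ^ m) J (I * I)]

theorem gen_KKK (x y t : R) (n' : ℕ) (hrel : x ^ 2 = y ^ (n' + 3)) (J K I : Ideal R)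
    (hJ : J = Ideal.span {y ^ 2, t ^ 4}) (hK : K = Ideal.span {x * y, x * t, y * t ^ 2})
    (hI : I = J ⊔ K) : K * K * K ≤ J * I * I := by
  have hJI : J ≤ I := by
    rw [hI]
    exact le_sup_left
  have hKI : K ≤ I := by
    rw [hI]
    exact le_sup_right
  have hy2J : y ^ 2 ∈ J := by
    rw [hJ]
    exact Ideal.subset_span (by simp)
  have ht4J : t ^ 4 ∈ J := by
    rw [hJ]
    exact Ideal.subset_span (by simp)
  have hxtK : x * t ∈ K := by
    rw [hK]
    exact Ideal.subset_span (by simp)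
  have hyt2K : y * t ^ 2 ∈ K := by
    rw [hK]
    exact Ideal.subset_span (by simp)
  have hy2I : y ^ 2 ∈ I := hJI hy2J
  have ht4I : t ^ 4 ∈ I := hJI ht4J
  have hxtI : x * t ∈ I := hKI hxtK
  have hyt2I : y * t ^ 2 ∈ I := hKI hyt2K
  have hx2I : x ^ 2 ∈ I := by
    rw [hrel, show y ^ (n' + 3) = y ^ 2 * y ^ (n' + 1) by ring]
    exact I.mul_mem_right _ hy2I
  have huu : x * y * (x * y) ∈ J * I := by
    have e : x * y * (x * y) = y ^ 2 * x ^ 2 := by ring
    rw [e]
    exact Ideal.mul_mem_mul hy2J hx2I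
  have huv : x * y * (x * t) ∈ J * I := by
    have e : x * y * (x * t) = y ^ 2 * (y ^ 2 * (y ^ n' * t)) := by
      calc x * y * (x * t) = x ^ 2 * (y * t) := by ring
        _ = y ^ (n' + 3) * (y * t) := by rw [hrel]
        _ = y ^ 2 * (y ^ 2 * (y ^ n' * t)) := by ring
    rw [e]
    exact Ideal.mul_mem_mul hy2J (I.mul_mem_right _ hy2I)
  have huw : x * y * (y * t ^ 2) ∈ J * I := by
    have e : x * y * (y * t ^ 2) = y ^ 2 * (x * t * t) := by ring
    rw [e]
    exact Ideal.mul_mem_mul hy2J (I.mul_mem_right _ hxtI)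
  have hvv : x * t * (x * t) ∈ J * I := by
    have e : x * t * (x * t) = y ^ 2 * (y * t ^ 2 * y ^ n') := by
      calc x * t * (x * t) = x ^ 2 * t ^ 2 := by ring
        _ = y ^ (n' + 3) * t ^ 2 := by rw [hrel]
        _ = y ^ 2 * (y * t ^ 2 * y ^ n') := by ring
    rw [e]
    exact Ideal.mul_mem_mul hy2J (I.mul_mem_right _ hyt2I)
  have hww : y * t ^ 2 * (y * t ^ 2) ∈ J * I := by
    have e : y * t ^ 2 * (y * t ^ 2) = y ^ 2 * t ^ 4 := by ring
    rw [e]
    exact Ideal.mul_mem_mul hy2J ht4I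
  have hKK : K * K ≤ J * I ⊔ Ideal.span {x * t * (y * t ^ 2)} := by
    rw [hK, Ideal.span_mul_span', Ideal.span_le]
    intro z hz
    obtain ⟨a, ha, b, hb, rfl⟩ := Set.mem_mul.mp hz
    rcases ha with rfl | rfl | rfl <;> rcases hb with rfl | rfl | rfl
    · exact Ideal.mem_sup_left huu
    · exact Ideal.mem_sup_left huv
    · exact Ideal.mem_sup_left huw
    · rw [mul_comm (x * t) (x * y)]
      exact Ideal.mem_sup_left huv
    · exact Ideal.mem_sup_left hvv
    · exact Ideal.mem_sup_right (Ideal.subset_span (Set.mem_singleton _))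
    · rw [mul_comm (y * t ^ 2) (x * y)]
      exact Ideal.mem_sup_left huw
    · rw [mul_comm (y * t ^ 2) (x * t)]
      exact Ideal.mem_sup_right (Ideal.subset_span (Set.mem_singleton _))
    · exact Ideal.mem_sup_left hww
  have h1 : x * t * (y * t ^ 2) * (x * y) ∈ J * I * I := by
    have e : x * t * (y * t ^ 2) * (x * y) = y ^ 2 * (x * t) * (x * t * t) := by ring
    rw [e]
    exact Ideal.mul_mem_mul (Ideal.mul_mem_mul hy2J hxtI) (I.mul_mem_right _ hxtI)
  have h2 : x * t * (y * t ^ 2) * (x * t) ∈ J * I * I := by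
    have e : x * t * (y * t ^ 2) * (x * t) = t ^ 4 * y ^ 2 * (y ^ 2 * y ^ n') := by
      calc x * t * (y * t ^ 2) * (x * t) = x ^ 2 * (y * t ^ 4) := by ring
        _ = y ^ (n' + 3) * (y * t ^ 4) := by rw [hrel]
        _ = t ^ 4 * y ^ 2 * (y ^ 2 * y ^ n') := by ring
    rw [e]
    exact Ideal.mul_mem_mul (Ideal.mul_mem_mul ht4J hy2I) (I.mul_mem_right _ hy2I)
  have h3 : x * t * (y * t ^ 2) * (y * t ^ 2) ∈ J * I * I := by
    have e : x * t * (y * t ^ 2) * (y * t ^ 2) = t ^ 4 * y ^ 2 * (x * t) := by ring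
    rw [e]
    exact Ideal.mul_mem_mul (Ideal.mul_mem_mul ht4J hy2I) hxtI
  have hvwK : Ideal.span {x * t * (y * t ^ 2)} * K ≤ J * I * I := by
    rw [hK, Ideal.span_mul_span', Ideal.span_le]
    intro z hz
    obtain ⟨a, ha, b, hb, rfl⟩ := Set.mem_mul.mp hz
    rw [Set.mem_singleton_iff] at ha
    subst ha
    rcases hb with rfl | rfl | rfl
    · exact h1
    · exact h2
    · exact h3
  calc K * K * K ≤ (J * I ⊔ Ideal.span {x * t * (y * t ^ 2)}) * K := Ideal.mul_mono hKK le_rfl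
    _ = J * I * K ⊔ Ideal.span {x * t * (y * t ^ 2)} * K := Ideal.sup_mul _ _ _
    _ ≤ J * I * I := sup_le (Ideal.mul_mono le_rfl hKI) hvwK

theorem reduction_abstract (x y t : R) (n' : ℕ) (hrel : x ^ 2 = y ^ (n' + 3)) :
    (Ideal.span {y ^ 2, t ^ 4} : Ideal R) ≤
        Ideal.span {x ^ 2, x * y, y ^ 2, x * t, y * t ^ 2, t ^ 4} ∧
    ∀ m : ℕ, (Ideal.span {x ^ 2, x * y, y ^ 2, x * t, y * t ^ 2, t ^ 4} : Ideal R) ^ (m + 2) ≤
      (Ideal.span {y ^ 2, t ^ 4} : Ideal R) ^ m := by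
  have hI6 : (Ideal.span {x ^ 2, x * y, y ^ 2, x * t, y * t ^ 2, t ^ 4} : Ideal R) =
      Ideal.span {y ^ 2, t ^ 4} ⊔ Ideal.span {x * y, x * t, y * t ^ 2} := by
    apply le_antisymm
    · refine Ideal.span_le.mpr ?_
      rintro z (rfl | rfl | rfl | rfl | rfl | rfl)
      · have h : x ^ 2 ∈ (Ideal.span {y ^ 2, t ^ 4} : Ideal R) := by
          rw [hrel, show y ^ (n' + 3) = y ^ 2 * y ^ (n' + 1) by ring]
          exact Ideal.mul_mem_right _ _ (Ideal.subset_span (by simp))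
        exact Ideal.mem_sup_left h
      · exact Ideal.mem_sup_right (Ideal.subset_span (by simp))
      · exact Ideal.mem_sup_left (Ideal.subset_span (by simp))
      · exact Ideal.mem_sup_right (Ideal.subset_span (by simp))
      · exact Ideal.mem_sup_right (Ideal.subset_span (by simp))
      · exact Ideal.mem_sup_left (Ideal.subset_span (by simp))
    · refine sup_le (Ideal.span_le.mpr ?_) (Ideal.span_le.mpr ?_)
      · rintro z (rfl | rfl)
        · exact Ideal.subset_span (by simp)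
        · exact Ideal.subset_span (by simp)
      · rintro z (rfl | rfl | rfl)
        · exact Ideal.subset_span (by simp)
        · exact Ideal.subset_span (by simp)
        · exact Ideal.subset_span (by simp)
  rw [hI6]
  have hc := cube_le (Ideal.span {y ^ 2, t ^ 4}) (Ideal.span {x * y, x * t, y * t ^ 2}) _ rfl
    (gen_KKK x y t n' hrel _ _ _ rfl rfl rfl)
  exact ⟨le_sup_left, fun m => (pow_le_of_cube_le _ _ hc m).trans
    (Ideal.mul_le_inf.trans inf_le_left)⟩

end reduction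

section squeeze

theorem squeeze_shift (Kf Lf : ℕ → ℕ)
    (hK : Tendsto (fun m : ℕ => (2 : ℝ) * (Kf m : ℝ) / (m : ℝ) ^ 2) atTop (nhds 16))
    (h1 : ∀ m, Kf m ≤ Lf (m + 2)) (h2 : ∀ m, Lf m ≤ Kf m) :
    Tendsto (fun m : ℕ => (2 : ℝ) * (Lf m : ℝ) / (m : ℝ) ^ 2) atTop (nhds 16) := by
  refine (tendsto_add_atTop_iff_nat 2).mp ?_
  have hup : Tendsto (fun m : ℕ => (2 : ℝ) * (Kf (m + 2) : ℝ) / ((m + 2 : ℕ) : ℝ) ^ 2)
      atTop (nhds 16) := (tendsto_add_atTop_iff_nat 2).mpr hK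
  have hlow : Tendsto (fun m : ℕ => (2 : ℝ) * (Kf m : ℝ) / ((m + 2 : ℕ) : ℝ) ^ 2)
      atTop (nhds 16) := by
    have h3 := hK.mul ((tendsto_natCast_div_add_atTop (2 : ℝ)).pow 2)
    rw [one_pow, mul_one] at h3
    refine h3.congr' ?_
    filter_upwards [eventually_gt_atTop 0] with m hm
    have hm0 : (m : ℝ) ≠ 0 := Nat.cast_ne_zero.mpr (by omega)
    rw [Nat.cast_add, Nat.cast_ofNat, div_pow, div_mul_div_comm, mul_comm ((m : ℝ) ^ 2),
      mul_div_mul_right _ _ (pow_ne_zero 2 hm0)]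
  refine tendsto_of_tendsto_of_tendsto_of_le_of_le hlow hup (fun m => ?_) (fun m => ?_)
  · have h : (Kf m : ℝ) ≤ (Lf (m + 2) : ℝ) := by exact_mod_cast h1 m
    beta_reduce
    gcongr
  · have h : (Lf (m + 2) : ℝ) ≤ (Kf (m + 2) : ℝ) := by exact_mod_cast h2 (m + 2)
    beta_reduce
    gcongr

theorem length_quot_le_of_le {R : Type*} [CommRing R] (P Q : Ideal R) (h : P ≤ Q) :
    Module.length R (R ⧸ Q) ≤ Module.length R (R ⧸ P) :=
  Module.length_le_of_surjective (Submodule.factor h) (Submodule.factor_surjective h)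

theorem tendsto_general {A : Type*} [CommRing A] (J I : Ideal A) (hJI : J ≤ I)
    (hred : ∀ m : ℕ, I ^ (m + 2) ≤ J ^ m)
    (hfin : ∀ m : ℕ, Module.length A (A ⧸ J ^ m) ≠ ⊤)
    (hlim : Tendsto (fun m : ℕ => (2 : ℝ) *
      ((Module.length A (A ⧸ J ^ m)).toNat : ℝ) / (m : ℝ) ^ 2) atTop (nhds 16)) :
    Tendsto (fun m : ℕ => (2 : ℝ) *
      ((Module.length A (A ⧸ I ^ m)).toNat : ℝ) / (m : ℝ) ^ 2) atTop (nhds 16) := by
  have hfinI : ∀ m : ℕ, Module.length A (A ⧸ I ^ m) ≠ ⊤ := fun m =>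
    ne_top_of_le_ne_top (hfin m) (length_quot_le_of_le _ _ (Ideal.pow_right_mono hJI m))
  exact squeeze_shift (fun m => (Module.length A (A ⧸ J ^ m)).toNat)
    (fun m => (Module.length A (A ⧸ I ^ m)).toNat) hlim
    (fun m => ENat.toNat_le_toNat (length_quot_le_of_le _ _ (hred m)) (hfinI (m + 2)))
    (fun m => ENat.toNat_le_toNat (length_quot_le_of_le _ _ (Ideal.pow_right_mono hJI m))
      (hfin m))

end squeeze

end Groth.Agent.Helper8.HDP
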