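import Mathlib
import Groth.Agent.Lib.Helper8.HDP3
import Groth.Agent.Lib.Helper8.HDP4

set_option autoImplicit false

/-!
# The witness `I = (x², xy, y², xt, yt², t⁴)` in `k[[x,y,t]]/(x² - yⁿ)`:
`ℓ(A/I) = 7` and `e(I) = 16`
-/

namespace Groth.Agent.Helper8.HDP

open MvPowerSeries Filter

universe u

section ring
variable (k : Type u) [Field k]

theorem monSet_L0 :
    monSet k [(2, 0, 0), (1, 1, 0), (0, 2, 0), (1, 0, 1), (0, 1, 2), (0, 0, 4)] =
      {(X 0 ^ 2 : MvPowerSeries (Fin 3) k), X 0 * X 1, X 1 ^ 2, X 0 * X 2, X 1 * X 2 ^ 2,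
        X 2 ^ 4} := by
  rw [monSet_cons, monSet_cons, monSet_cons, monSet_cons, monSet_cons, monSet_singleton]
  have h1 : mon k 2 0 0 = X 0 ^ 2 := by
    unfold mon
    ring
  have h2 : mon k 1 1 0 = X 0 * X 1 := by
    unfold mon
    ring
  have h3 : mon k 0 2 0 = X 1 ^ 2 := by
    unfold mon
    ring
  have h4 : mon k 1 0 1 = X 0 * X 2 := by
    unfold mon
    ring
  have h5 : mon k 0 1 2 = X 1 * X 2 ^ 2 := by
    unfold mon
    ring
  have h6 : mon k 0 0 4 = X 2 ^ 4 := by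
    unfold mon
    ring
  show insert (mon k 2 0 0) (insert (mon k 1 1 0) (insert (mon k 0 2 0)
    (insert (mon k 1 0 1) (insert (mon k 0 1 2) {mon k 0 0 4})))) = _
  rw [h1, h2, h3, h4, h5, h6]

variable (n : ℕ)

theorem idL_L0_eq :
    idL k n [(2, 0, 0), (1, 1, 0), (0, 2, 0), (1, 0, 1), (0, 1, 2), (0, 0, 4)] =
    Ideal.span {mkA k n (mon k 1 0 0) ^ 2, mkA k n (mon k 1 0 0) * mkA k n (mon k 0 1 0),
      mkA k n (mon k 0 1 0) ^ 2, mkA k n (mon k 1 0 0) * mkA k n (mon k 0 0 1),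
      mkA k n (mon k 0 1 0) * mkA k n (mon k 0 0 1) ^ 2, mkA k n (mon k 0 0 1) ^ 4} := by
  have e1 : mon k 1 0 0 ^ 2 = mon k 2 0 0 := by
    unfold mon
    ring
  have e2 : mon k 1 0 0 * mon k 0 1 0 = mon k 1 1 0 := by
    unfold mon
    ring
  have e3 : mon k 0 1 0 ^ 2 = mon k 0 2 0 := by
    unfold mon
    ring
  have e4 : mon k 1 0 0 * mon k 0 0 1 = mon k 1 0 1 := by
    unfold mon
    ring
  have e5 : mon k 0 1 0 * mon k 0 0 1 ^ 2 = mon k 0 1 2 := by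
    unfold mon
    ring
  have e6 : mon k 0 0 1 ^ 4 = mon k 0 0 4 := by
    unfold mon
    ring
  have h1 : mkA k n (mon k 1 0 0) ^ 2 = mkA k n (mon k 2 0 0) := by
    rw [← map_pow, e1]
  have h2 : mkA k n (mon k 1 0 0) * mkA k n (mon k 0 1 0) = mkA k n (mon k 1 1 0) := by
    rw [← map_mul, e2]
  have h3 : mkA k n (mon k 0 1 0) ^ 2 = mkA k n (mon k 0 2 0) := by
    rw [← map_pow, e3]
  have h4 : mkA k n (mon k 1 0 0) * mkA k n (mon k 0 0 1) = mkA k n (mon k 1 0 1) := by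
    rw [← map_mul, e4]
  have h5 : mkA k n (mon k 0 1 0) * mkA k n (mon k 0 0 1) ^ 2 = mkA k n (mon k 0 1 2) := by
    rw [← map_pow, ← map_mul, e5]
  have h6 : mkA k n (mon k 0 0 1) ^ 4 = mkA k n (mon k 0 0 4) := by
    rw [← map_pow, e6]
  rw [h1, h2, h3, h4, h5, h6]
  unfold idL
  rw [monSet_cons, monSet_cons, monSet_cons, monSet_cons, monSet_cons, monSet_singleton,
    Ideal.map_span, Set.image_insert_eq, Set.image_insert_eq, Set.image_insert_eq,
    Set.image_insert_eq, Set.image_insert_eq, Set.image_singleton]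

/-- the length and the Samuel limit of the witness ideal -/
theorem main (hn : 3 ≤ n) (I : Ideal (AHD k n))
    (hI : I = Ideal.map (mkA k n)
      (Ideal.span {(X 0 ^ 2 : MvPowerSeries (Fin 3) k), X 0 * X 1, X 1 ^ 2, X 0 * X 2,
        X 1 * X 2 ^ 2, X 2 ^ 4})) :
    Module.length (AHD k n) (AHD k n ⧸ I) = 7 ∧
      Tendsto (fun m : ℕ => (2 : ℝ) *
        ((Module.length (AHD k n) (AHD k n ⧸ I ^ m)).toNat : ℝ) / (m : ℝ) ^ 2)
        atTop (nhds 16) := by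
  have := isLocalRing_AHD k n (by omega)
  have hIe : I = idL k n [(2, 0, 0), (1, 1, 0), (0, 2, 0), (1, 0, 1), (0, 1, 2), (0, 0, 4)] := by
    rw [hI, idL, monSet_L0]
  refine ⟨by rw [hIe]; exact length_idL_I k n hn, ?_⟩
  obtain ⟨n', rfl⟩ : ∃ n', n = n' + 3 := ⟨n - 3, by omega⟩
  have hrel : mkA k (n' + 3) (mon k 1 0 0) ^ 2 =
      mkA k (n' + 3) (mon k 0 1 0) ^ (n' + 3) := by
    have e1 : mon k 1 0 0 ^ 2 = mon k 2 0 0 := by
      unfold mon
      ring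
    have e2 : mon k 0 1 0 ^ (n' + 3) = mon k 0 (n' + 3) 0 := by
      unfold mon
      ring
    rw [← map_pow, ← map_pow, e1, e2]
    exact mkA_mon_rel k (n' + 3)
  obtain ⟨hJI, hred⟩ := reduction_abstract (mkA k (n' + 3) (mon k 1 0 0))
    (mkA k (n' + 3) (mon k 0 1 0)) (mkA k (n' + 3) (mon k 0 0 1)) n' hrel
  obtain ⟨hfin, hlim⟩ := tendsto_J k (n' + 3) hn
  rw [hIe, idL_L0_eq]
  exact tendsto_general _ _ hJI hred hfin hlim

end ring

end Groth.Agent.Helper8.HDP
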