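import Groth.Agent.Lib.Helper8.Chev1
import Groth.Agent.Lib.Helper8.FinExt1
import Groth.Agent.Lib.Helper8.LC12

/-!
# Symbolic powers of a prime of dimension one in a complete local domain
-/

set_option autoImplicit false
universe u

namespace Groth.Agent.Helper8.HLV

open IsLocalRing

section symb

variable {G : Type u} [CommRing G] (q : Ideal G) [q.IsPrime]

/-- The `n`-th symbolic power of a prime ideal. -/
def symb (n : ℕ) : Ideal G :=
  ((q ^ n).map (algebraMap G (Localization.AtPrime q))).comap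
    (algebraMap G (Localization.AtPrime q))

lemma pow_le_symb (n : ℕ) : q ^ n ≤ symb q n := Ideal.le_comap_map

lemma symb_anti {n k : ℕ} (h : n ≤ k) : symb q k ≤ symb q n :=
  Ideal.comap_mono (Ideal.map_mono (Ideal.pow_le_pow_right h))

lemma mem_symb_iff (x : G) (n : ℕ) : x ∈ symb q n ↔ ∃ s : G, s ∉ q ∧ s * x ∈ q ^ n := by
  unfold symb
  rw [Ideal.mem_comap, IsLocalization.mem_map_algebraMap_iff q.primeCompl]
  constructor
  · rintro ⟨⟨⟨a, ha⟩, ⟨s, hs⟩⟩, h⟩
    simp only at h
    rw [← map_mul, IsLocalization.eq_iff_exists q.primeCompl] at h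
    obtain ⟨⟨c, hc⟩, hc'⟩ := h
    simp only at hc'
    refine ⟨c * s, fun hmem => ?_, ?_⟩
    · rcases Ideal.IsPrime.mem_or_mem inferInstance hmem with h1 | h1
      · exact hc h1
      · exact hs h1
    · have : c * s * x = c * (x * s) := by ring
      rw [this, hc']
      exact Ideal.mul_mem_left _ _ ha
  · rintro ⟨s, hs, hsx⟩
    refine ⟨⟨⟨s * x, hsx⟩, ⟨s, hs⟩⟩, ?_⟩
    simp only
    rw [← map_mul, mul_comm]

lemma symb_le {n : ℕ} (hn : n ≠ 0) : symb q n ≤ q := by
  intro x hx
  obtain ⟨s, hs, hsx⟩ := (mem_symb_iff q x n).mp hx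
  have h1 : s * x ∈ q := Ideal.pow_le_self hn hsx
  rcases Ideal.IsPrime.mem_or_mem inferInstance h1 with h | h
  · exact absurd h hs
  · exact h

lemma mem_symb_of_mul_mem {n : ℕ} {x y : G} (hx : x ∉ q) (h : x * y ∈ symb q n) :
    y ∈ symb q n := by
  obtain ⟨s, hs, hsx⟩ := (mem_symb_iff q (x * y) n).mp h
  refine (mem_symb_iff q y n).mpr ⟨s * x, fun hmem => ?_, by rwa [mul_assoc]⟩
  rcases Ideal.IsPrime.mem_or_mem inferInstance hmem with h1 | h1
  · exact hs h1
  · exact hx h1

lemma iInf_symb_eq_bot [IsDomain G] [IsNoetherianRing G] : ⨅ n, symb q n = ⊥ := by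
  rw [eq_bot_iff]
  intro x hx
  rw [Ideal.mem_iInf] at hx
  rw [Ideal.mem_bot]
  have h1 : algebraMap G (Localization.AtPrime q) x ∈
      (⨅ n, maximalIdeal (Localization.AtPrime q) ^ n : Ideal (Localization.AtPrime q)) := by
    rw [Ideal.mem_iInf]
    intro n
    have := hx n
    unfold symb at this
    rw [Ideal.mem_comap, Ideal.map_pow, Localization.AtPrime.map_eq_maximalIdeal] at this
    exact this
  rw [Ideal.iInf_pow_eq_bot_of_isLocalRing _ (Ideal.IsPrime.ne_top inferInstance),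
    Ideal.mem_bot] at h1
  have hinj : Function.Injective (algebraMap G (Localization.AtPrime q)) :=
    IsLocalization.injective _ (Ideal.primeCompl_le_nonZeroDivisors q)
  exact hinj (by rw [h1, map_zero])

/-- A single element outside `q` multiplies the symbolic power into the ordinary power. -/
lemma exists_notMem_mul_symb_le [IsNoetherianRing G] (n : ℕ) :
    ∃ s : G, s ∉ q ∧ ∀ y ∈ symb q n, s * y ∈ q ^ n := by
  classical
  obtain ⟨S, hS⟩ := (isNoetherianRing_iff_ideal_fg G).mp inferInstance (symb q n)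
  have hmem : ∀ g ∈ S, ∃ s : G, s ∉ q ∧ s * g ∈ q ^ n := by
    intro g hg
    have : g ∈ symb q n := by rw [← hS]; exact Ideal.subset_span hg
    exact (mem_symb_iff q g n).mp this
  choose! σ hσ1 hσ2 using hmem
  refine ⟨∏ g ∈ S, σ g, ?_, ?_⟩
  · intro hprod
    obtain ⟨g, hg, hgq⟩ := (Ideal.IsPrime.prod_mem_iff (hp := inferInstance)).mp hprod
    exact hσ1 g hg hgq
  · intro y hy
    rw [← hS] at hy
    refine Submodule.span_induction ?_ ?_ ?_ ?_ hy
    · intro g hg
      rw [← Finset.mul_prod_erase S σ hg]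
      have : (σ g * ∏ x ∈ S.erase g, σ x) * g = (∏ x ∈ S.erase g, σ x) * (σ g * g) := by ring
      rw [this]
      exact Ideal.mul_mem_left _ _ (hσ2 g hg)
    · rw [mul_zero]; exact Ideal.zero_mem _
    · intro a b _ _ ha hb
      rw [mul_add]; exact Ideal.add_mem _ ha hb
    · intro a b _ hb
      rw [smul_eq_mul, mul_left_comm]; exact Ideal.mul_mem_left _ _ hb

end symb

section topology

variable {G : Type u} [CommRing G] [IsDomain G] [IsNoetherianRing G] [IsLocalRing G]
  [IsAdicComplete (maximalIdeal G) G] (q : Ideal G) [q.IsPrime]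

/-- In a complete local domain, the symbolic powers of a prime of dimension one are cofinal
with its ordinary powers. -/
theorem exists_symb_le_pow (hq : ringKrullDim (G ⧸ q) = 1) (n : ℕ) :
    ∃ k : ℕ, n ≤ k ∧ symb q k ≤ q ^ n := by
  obtain ⟨s, hs, hsmul⟩ := exists_notMem_mul_symb_le q n
  -- a power of the maximal ideal multiplies the symbolic power into the ordinary power
  have hrad : maximalIdeal G ≤ (q ^ n ⊔ Ideal.span {s}).radical := by
    rw [Ideal.radical_eq_sInf]
    refine le_sInf ?_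
    rintro Q ⟨hQ, hQp⟩
    haveI := hQp
    have hqQ : q ≤ Q := hQp.le_of_pow_le (le_sup_left.trans hQ)
    have hsQ : s ∈ Q := hQ (Ideal.mem_sup_right (Ideal.mem_span_singleton_self s))
    rcases FinExt.eq_or_eq_maximalIdeal_of_le q hq Q hqQ with h | h
    · exact absurd (h ▸ hsQ) hs
    · exact h.ge
  obtain ⟨t, ht⟩ := Ideal.exists_pow_le_of_le_radical_of_fg hrad
    ((isNoetherianRing_iff_ideal_fg G).mp inferInstance _)
  have hmul : maximalIdeal G ^ t * symb q n ≤ q ^ n := by
    refine (Ideal.mul_mono_left ht).trans ?_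
    rw [Ideal.mul_le]
    intro a ha y hy
    obtain ⟨u, hu, v, hv, rfl⟩ := Submodule.mem_sup.mp ha
    rw [add_mul]
    refine Ideal.add_mem _ (Ideal.mul_mem_right _ _ hu) ?_
    obtain ⟨c, rfl⟩ := Ideal.mem_span_singleton'.mp hv
    rw [mul_assoc]
    exact Ideal.mul_mem_left _ _ (hsmul y hy)
  obtain ⟨j, hj⟩ := LC.exists_pow_inf_le (maximalIdeal G) (symb q n) t
  -- Chevalley
  have hne : (Set.range (symb q)).Nonempty := ⟨_, ⟨0, rfl⟩⟩
  have hdir : ∀ a ∈ Set.range (symb q), ∀ b ∈ Set.range (symb q),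
      ∃ c ∈ Set.range (symb q), c ≤ a ∧ c ≤ b := by
    rintro _ ⟨i, rfl⟩ _ ⟨l, rfl⟩
    exact ⟨_, ⟨max i l, rfl⟩, symb_anti q (le_max_left i l), symb_anti q (le_max_right i l)⟩
  have hinf : sInf (Set.range (symb q)) = ⊥ := by
    rw [sInf_range]; exact iInf_symb_eq_bot q
  obtain ⟨_, ⟨k', rfl⟩, hk'⟩ := Chev.exists_le_pow_of_directed _ hne hdir hinf j
  refine ⟨max k' n, le_max_right _ _, ?_⟩
  intro x hx
  have h1 : x ∈ maximalIdeal G ^ j := hk' (symb_anti q (le_max_left k' n) hx)
  have h2 : x ∈ symb q n := symb_anti q (le_max_right k' n) hx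
  exact hmul (hj ⟨h1, h2⟩)

end topology

end Groth.Agent.Helper8.HLV
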