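import Mathlib
import Groth.Agent.Lib.Helper8.Lift1
import Groth.Agent.Lib.Helper8.Serre4

/-!
# Normality lifts from `A/tA` to `A` for catenary local rings
-/

set_option autoImplicit false
universe u

namespace Groth.Agent.Helper8.Lift

open LocCoh IsLocalRing

theorem isEquidim_of_isDomain (B : Type u) [CommRing B] [IsDomain B] : EGA4.IsEquidim B := by
  intro p hp
  have h0 : p = ⊥ := by
    rw [IsDomain.minimalPrimes_eq_singleton_bot] at hp
    exact hp
  subst h0
  exact ringKrullDim_eq_of_ringEquiv (RingEquiv.quotientBot B)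

theorem isIntegrallyClosed_of_quotient_regular (A : Type u) [CommRing A] [IsNoetherianRing A]
    [IsLocalRing A] (hcat : CAlg.IsCatenary A) (t : A) (ht : t ∈ IsLocalRing.maximalIdeal A)
    (hreg : t ∈ nonZeroDivisors A)
    [IsDomain (A ⧸ Ideal.span {t})] [IsIntegrallyClosed (A ⧸ Ideal.span {t})] :
    IsDomain A ∧ IsIntegrallyClosed A := by
  have hreg' : IsSMulRegular A t := Module.Flat.isSMulRegular_of_nonZeroDivisors hreg
  have hnormal : ∀ (p : Ideal (A ⧸ Ideal.span {t})) [p.IsPrime],
      IsDomain (Localization.AtPrime p) ∧ IsIntegrallyClosed (Localization.AtPrime p) := by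
    intro p _
    have h1 : IsDomain (Localization.AtPrime p) :=
      IsLocalization.isDomain_of_le_nonZeroDivisors _ p.primeCompl_le_nonZeroDivisors
    exact ⟨h1, isIntegrallyClosed_of_isLocalization _ p.primeCompl p.primeCompl_le_nonZeroDivisors⟩
  have hR1 := Serre.hasRk_one_of_normal _ hnormal
  have hS2 := Serre.hasSk_two_of_normal _ hnormal
  obtain ⟨_, h2, h3⟩ := reduced_equidim_hasRk_of_quotient_regular 1 A hcat t ht hreg
    (isEquidim_of_isDomain _) hR1
  have h4 : HasSk 2 A A := Sk.hasSk_of_hasSk_quotient A t ht hreg' 2 hS2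
  have hdom := Serre.isDomain_of_R1_S2_local h3 h4
  exact ⟨hdom, Serre.isIntegrallyClosed_of_R1_S2 A h3 h4⟩

end Groth.Agent.Helper8.Lift
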