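import Groth.Agent.Lib.Helper8.HLV9
import Groth.Agent.Lib.Helper8.Equidim1
import Groth.Agent.Lib.Helper8.Lift2
import Groth.Agent.Lib.Helper8.CatCM2

/-!
# B–S 19.2.10/19.2.11: connectedness dimension of a quotient of a complete local ring (S11670)
-/

set_option autoImplicit false
universe u

namespace Groth.Agent.Helper8.HLV

open IsLocalRing LocCoh Groth.Agent.Helper8.LC

section top

variable {T : Type u} [TopologicalSpace T] [TopologicalSpace.NoetherianSpace T] [Nonempty T]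

/-- The infimum computing the connectedness dimension is attained. -/
theorem exists_pair_connDim_eq :
    ∃ A B : Set (Set T), A ⊆ irreducibleComponents T ∧ B ⊆ irreducibleComponents T ∧
      A.Nonempty ∧ B.Nonempty ∧ A ∪ B = irreducibleComponents T ∧
      connDim T = topologicalKrullDim ↥(⋃₀ A ∩ ⋃₀ B) := by
  have hirr_ne : (irreducibleComponents T).Nonempty := by
    obtain ⟨x⟩ := (inferInstance : Nonempty T)
    exact ⟨_, irreducibleComponent_mem_irreducibleComponents x⟩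
  let ι := {AB : Set (Set T) × Set (Set T) // AB.1 ⊆ irreducibleComponents T ∧
    AB.2 ⊆ irreducibleComponents T ∧ AB.1.Nonempty ∧ AB.2.Nonempty ∧
    AB.1 ∪ AB.2 = irreducibleComponents T}
  haveI : Nonempty ι := ⟨⟨(irreducibleComponents T, irreducibleComponents T),
    subset_rfl, subset_rfl, hirr_ne, hirr_ne, Set.union_self _⟩⟩
  let f : ι → WithBot ℕ∞ := fun x => topologicalKrullDim ↥(⋃₀ x.1.1 ∩ ⋃₀ x.1.2)
  obtain ⟨x, hx⟩ := ciInf_mem f
  refine ⟨x.1.1, x.1.2, x.2.1, x.2.2.1, x.2.2.2.1, x.2.2.2.2.1, x.2.2.2.2.2, ?_⟩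
  change connDim T = f x
  rw [hx]
  apply le_antisymm
  · exact le_iInf fun y => connDim_le_of_pair y.1.1 y.1.2 y.2.1 y.2.2.1 y.2.2.2.1 y.2.2.2.2.1
      y.2.2.2.2.2
  · rw [Groth.Agent.S11666.result T]
    exact le_iInf fun A => le_iInf fun B => le_iInf fun h => iInf_le f ⟨(A, B), h⟩

end top

section ring

variable (R : Type u) [CommRing R] [IsNoetherianRing R] [IsLocalRing R]
  [IsAdicComplete (maximalIdeal R) R]

/-- For a minimal prime `𝔭` over an ideal of arithmetic rank at most `|s|` in a complete local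
ring: `sdim R ≤ dim R/𝔭 + |s|`. -/
theorem subdim_le_of_mem_minimalPrimes (a : Ideal R) (s : Finset R)
    (hs : (Ideal.span (s : Set R)).radical = a.radical) (𝔭 : Ideal R) (h𝔭 : 𝔭 ∈ a.minimalPrimes) :
    subdim (PrimeSpectrum R) ≤ ringKrullDim (R ⧸ 𝔭) + (s.card : WithBot ℕ∞) := by
  classical
  haveI h𝔭p : 𝔭.IsPrime := h𝔭.1.1
  have h𝔭s : 𝔭 ∈ (Ideal.span (s : Set R)).minimalPrimes := by
    rw [← Ideal.radical_minimalPrimes, hs, Ideal.radical_minimalPrimes]
    exact h𝔭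
  obtain ⟨p₀, hp₀, hle⟩ := Ideal.exists_minimalPrimes_le (bot_le : (⊥ : Ideal R) ≤ 𝔭)
  have hp₀' : p₀ ∈ minimalPrimes R := hp₀
  haveI hp₀p : p₀.IsPrime := hp₀.1.1
  refine (subdim_le_dim_quotient hp₀').trans ?_
  haveI : IsAdicComplete (maximalIdeal (R ⧸ p₀)) (R ⧸ p₀) :=
    Groth.Agent.Helper8.CohenFact.isAdicComplete_of_surjective
      (Ideal.Quotient.mk p₀) Ideal.Quotient.mk_surjective
  have hc : CAlg.IsCatenary (R ⧸ p₀) := Groth.Agent.Helper8.CatCM.isCatenary_of_complete _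
  have heq : EGA4.IsEquidim (R ⧸ p₀) := Groth.Agent.Helper8.Lift.isEquidim_of_isDomain _
  have hsurj : Function.Surjective (algebraMap R (R ⧸ p₀)) := by
    rw [Ideal.Quotient.algebraMap_eq]; exact Ideal.Quotient.mk_surjective
  have hker : RingHom.ker (algebraMap R (R ⧸ p₀)) = p₀ := by
    rw [Ideal.Quotient.algebraMap_eq, Ideal.mk_ker]
  haveI hQ : (𝔭.map (algebraMap R (R ⧸ p₀))).IsPrime :=
    Ideal.map_isPrime_of_surjective hsurj (by rw [hker]; exact hle)
  have hQmin : 𝔭.map (algebraMap R (R ⧸ p₀)) ∈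
      (Ideal.span ((s.image (algebraMap R (R ⧸ p₀)) : Finset (R ⧸ p₀)) : Set (R ⧸ p₀))).minimalPrimes := by
    rw [Finset.coe_image, ← Ideal.map_span, Ideal.minimalPrimes_map_of_surjective hsurj, hker]
    refine ⟨𝔭, ⟨⟨h𝔭p, sup_le h𝔭s.1.2 hle⟩, ?_⟩, rfl⟩
    rintro q ⟨hq, hqle⟩ hq𝔭
    exact h𝔭s.2 ⟨hq, le_sup_left.trans hqle⟩ hq𝔭
  have hht : (𝔭.map (algebraMap R (R ⧸ p₀))).height ≤ s.card :=
    (Ideal.height_le_card_of_mem_minimalPrimes_span_finset hQmin).trans
      (by exact_mod_cast Finset.card_image_le)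
  obtain ⟨n, hn⟩ : ∃ n : ℕ, (𝔭.map (algebraMap R (R ⧸ p₀))).height = n := by
    have hfin : (𝔭.map (algebraMap R (R ⧸ p₀))).height ≠ ⊤ :=
      ne_top_of_le_ne_top (ENat.natCast_ne_top _) hht
    exact ⟨_, (ENat.natCast_toNat hfin).symm⟩
  have hform := Groth.Agent.Helper8.Equidim.dim_quot_add_height (R ⧸ p₀) hc heq
    (𝔭.map (algebraMap R (R ⧸ p₀))) n hn
  rw [dim_quot_quot, sup_eq_right.mpr hle] at hform
  rw [← hform]
  have hn' : n ≤ s.card := by
    rw [hn] at hht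
    exact_mod_cast hht
  gcongr

/-- **S11670.** -/
theorem main_S11670 (a : Ideal R) (ha : a ≠ ⊤) (s : Finset R)
    (hs : (Ideal.span (s : Set R)).radical = a.radical) :
    min (connDim (PrimeSpectrum R) + 1) (subdim (PrimeSpectrum R)) ≤
      connDim (PrimeSpectrum (R ⧸ a)) + (s.card : WithBot ℕ∞) + 1 := by
  haveI : Nontrivial (R ⧸ a) := Ideal.Quotient.nontrivial_iff.mpr ha
  obtain ⟨A, B, hA, hB, hAne, hBne, hAB, hconn⟩ :=
    exists_pair_connDim_eq (T := PrimeSpectrum (R ⧸ a))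
  rw [hconn]
  have hsurj : Function.Surjective (Ideal.Quotient.mk a) := Ideal.Quotient.mk_surjective
  have hZAc : IsClosed (⋃₀ A) := isClosed_sUnion_of_subset_irreducibleComponents hA
  have hZBc : IsClosed (⋃₀ B) := isClosed_sUnion_of_subset_irreducibleComponents hB
  set aq := PrimeSpectrum.vanishingIdeal (⋃₀ A) with haq
  set bq := PrimeSpectrum.vanishingIdeal (⋃₀ B) with hbq
  have hzA : PrimeSpectrum.zeroLocus (aq : Set (R ⧸ a)) = ⋃₀ A := by
    rw [haq, PrimeSpectrum.zeroLocus_vanishingIdeal_eq_closure, hZAc.closure_eq]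
  have hzB : PrimeSpectrum.zeroLocus (bq : Set (R ⧸ a)) = ⋃₀ B := by
    rw [hbq, PrimeSpectrum.zeroLocus_vanishingIdeal_eq_closure, hZBc.closure_eq]
  set a' := aq.comap (Ideal.Quotient.mk a) with ha'
  set b' := bq.comap (Ideal.Quotient.mk a) with hb'
  have hmapa : a'.map (algebraMap R (R ⧸ a)) = aq := by
    rw [Ideal.Quotient.algebraMap_eq, ha', Ideal.map_comap_of_surjective _ hsurj]
  have hmapb : b'.map (algebraMap R (R ⧸ a)) = bq := by
    rw [Ideal.Quotient.algebraMap_eq, hb', Ideal.map_comap_of_surjective _ hsurj]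
  have hale : a ≤ a' := by
    intro x hx
    rw [ha', Ideal.mem_comap, Ideal.Quotient.eq_zero_iff_mem.mpr hx]
    exact zero_mem _
  -- a component in `A` gives a minimal prime over `a` containing `a'`
  have key : ∀ (C : Set (Set (PrimeSpectrum (R ⧸ a)))), C ⊆ irreducibleComponents _ →
      C.Nonempty → ∃ 𝔭 ∈ a.minimalPrimes,
        (PrimeSpectrum.vanishingIdeal (⋃₀ C)).comap (Ideal.Quotient.mk a) ≤ 𝔭 := by
    intro C hC hCne
    obtain ⟨Z, hZ⟩ := hCne
    obtain ⟨q, hq, rfl⟩ := exists_minimalPrimes_of_mem_irreducibleComponents (hC hZ)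
    haveI : q.IsPrime := hq.1.1
    refine ⟨q.comap (Ideal.Quotient.mk a), ?_, ?_⟩
    · rw [Ideal.minimalPrimes_eq_comap]
      exact ⟨q, hq, rfl⟩
    · apply Ideal.comap_mono
      refine (PrimeSpectrum.vanishingIdeal_anti_mono (Set.subset_sUnion_of_mem hZ)).trans ?_
      rw [PrimeSpectrum.vanishingIdeal_zeroLocus_eq_radical, Ideal.IsPrime.radical inferInstance]
  obtain ⟨𝔭A, h𝔭A, hA𝔭⟩ := key A hA hAne
  obtain ⟨𝔭B, h𝔭B, hB𝔭⟩ := key B hB hBne
  haveI : 𝔭A.IsPrime := h𝔭A.1.1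
  haveI : 𝔭B.IsPrime := h𝔭B.1.1
  have ha'top : a' ≠ ⊤ := fun h => (Ideal.IsPrime.ne_top (inferInstance : 𝔭A.IsPrime))
    (top_le_iff.mp (h ▸ hA𝔭))
  have hb'top : b' ≠ ⊤ := fun h => (Ideal.IsPrime.ne_top (inferInstance : 𝔭B.IsPrime))
    (top_le_iff.mp (h ▸ hB𝔭))
  -- the intersection
  have hinf : a' ⊓ b' = a.radical := by
    rw [ha', hb', ← Ideal.comap_inf, haq, hbq, ← PrimeSpectrum.vanishingIdeal_union,
      ← Set.sUnion_union, hAB, sUnion_irreducibleComponents, PrimeSpectrum.vanishingIdeal_univ,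
      nilradical, Ideal.comap_radical, Ideal.zero_eq_bot, ← RingHom.ker_eq_comap_bot,
      Ideal.mk_ker]
  have hk : CdLE R (a' ⊓ b') s.card := by
    intro M _ _ j hj
    rw [subsingleton_H_iff_of_radical_eq (a' ⊓ b') (Ideal.span (s : Set R))
      (by rw [hinf, Ideal.radical_idem, hs])]
    exact cdLE_span_finset s M j hj
  -- the dimension of the intersection
  have hdim : topologicalKrullDim ↥(⋃₀ A ∩ ⋃₀ B) = ringKrullDim (R ⧸ (a' ⊔ b')) := by
    rw [← hzA, ← hzB, ← PrimeSpectrum.zeroLocus_sup, topDim_zeroLocus, ← hmapa, ← hmapb,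
      ← Ideal.map_sup, dim_quot_quot, sup_eq_right.mpr (hale.trans le_sup_left)]
  rw [hdim]
  by_cases hlt : ringKrullDim (R ⧸ (a' ⊔ b')) <
      min (ringKrullDim (R ⧸ a')) (ringKrullDim (R ⧸ b'))
  · exact main_S11669 R a' b' ha'top hb'top hlt s.card hk
  · push Not at hlt
    refine (min_le_right _ _).trans ?_
    have h1 : ∀ x : WithBot ℕ∞, x + (s.card : WithBot ℕ∞) ≤ x + (s.card : WithBot ℕ∞) + 1 :=
      fun x => le_add_of_nonneg_right zero_le_one
    rcases min_le_iff.mp hlt with h | h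
    · refine (subdim_le_of_mem_minimalPrimes R a s hs 𝔭A h𝔭A).trans (le_trans ?_ (h1 _))
      gcongr
      exact (dim_quotient_mono hA𝔭).trans h
    · refine (subdim_le_of_mem_minimalPrimes R a s hs 𝔭B h𝔭B).trans (le_trans ?_ (h1 _))
      gcongr
      exact (dim_quotient_mono hB𝔭).trans h

end ring

end Groth.Agent.Helper8.HLV
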