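import Groth.Agent.Lib.Helper8.HLV10
import Groth.Agent.S11667

/-!
# B–S 19.2.12-type corollary: `c(R) ≤ c(R/a) + ara(a) + 1` (S11676)
-/

set_option autoImplicit false
universe u

namespace Groth.Agent.Helper8.HLV

open IsLocalRing LocCoh Groth.Agent.Helper8.LC

section

variable (R : Type u) [CommRing R] [IsNoetherianRing R] [IsLocalRing R]

/-- The connectedness dimension of the spectrum of a local ring is nonnegative. -/
theorem connDim_nonneg : 0 ≤ connDim (PrimeSpectrum R) := by
  obtain ⟨A, B, hA, hB, hAne, hBne, hAB, hconn⟩ :=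
    exists_pair_connDim_eq (T := PrimeSpectrum R)
  rw [hconn]
  have hZAc : IsClosed (⋃₀ A) := isClosed_sUnion_of_subset_irreducibleComponents hA
  have hZBc : IsClosed (⋃₀ B) := isClosed_sUnion_of_subset_irreducibleComponents hB
  have hmem : ∀ Z : Set (PrimeSpectrum R), IsClosed Z → Z.Nonempty → closedPoint R ∈ Z := by
    intro Z hZ hne
    obtain ⟨x, hx⟩ := hne
    exact hZ.closure_subset_iff.mpr (Set.singleton_subset_iff.mpr hx)
      ((PrimeSpectrum.le_iff_specializes x (closedPoint R)).mp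
        (le_maximalIdeal x.isPrime.ne_top)).mem_closure
  have hneA : (⋃₀ A).Nonempty := by
    obtain ⟨Z, hZ⟩ := hAne
    obtain ⟨x, hx⟩ := (hA hZ).1.nonempty
    exact ⟨x, Set.mem_sUnion_of_mem hx hZ⟩
  have hneB : (⋃₀ B).Nonempty := by
    obtain ⟨Z, hZ⟩ := hBne
    obtain ⟨x, hx⟩ := (hB hZ).1.nonempty
    exact ⟨x, Set.mem_sUnion_of_mem hx hZ⟩
  haveI : Nonempty ↥(⋃₀ A ∩ ⋃₀ B) := ⟨⟨closedPoint R, hmem _ hZAc hneA, hmem _ hZBc hneB⟩⟩
  obtain ⟨x⟩ := ‹Nonempty ↥(⋃₀ A ∩ ⋃₀ B)›
  haveI : Nonempty (TopologicalSpace.IrreducibleCloseds ↥(⋃₀ A ∩ ⋃₀ B)) :=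
    ⟨⟨closure {x}, isIrreducible_singleton.closure, isClosed_closure⟩⟩
  exact Order.krullDim_nonneg

theorem connDim_lt_top : connDim (PrimeSpectrum R) < ⊤ := by
  have hfin : topologicalKrullDim (PrimeSpectrum R) < ⊤ := by
    rw [PrimeSpectrum.topologicalKrullDim_eq_ringKrullDim]
    exact ringKrullDim_lt_top
  have h1 := (Groth.Agent.S11667.result (PrimeSpectrum R) hfin).1
  obtain ⟨p, hp⟩ := Ideal.nonempty_minimalPrimes (bot_ne_top : (⊥ : Ideal R) ≠ ⊤)
  have hp' : p ∈ minimalPrimes R := hp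
  refine lt_of_le_of_lt (h1.trans (subdim_le_dim_quotient hp')) ?_
  exact lt_of_le_of_lt (ringKrullDim_quotient_le p) ringKrullDim_lt_top

omit [IsNoetherianRing R] [IsLocalRing R] in
theorem not_irreducibleSpace_of_nontrivial (h : (minimalPrimes R).Nontrivial) :
    ¬ IrreducibleSpace (PrimeSpectrum R) := by
  intro hirr
  obtain ⟨p, hp, q, hq, hpq⟩ := h
  apply hpq
  have h1 := zeroLocus_mem_irreducibleComponents hp
  have h2 := zeroLocus_mem_irreducibleComponents hq
  rw [irreducibleComponents_eq_singleton, Set.mem_singleton_iff] at h1 h2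
  haveI : p.IsPrime := hp.1.1
  haveI : q.IsPrime := hq.1.1
  have := congrArg PrimeSpectrum.vanishingIdeal (h1.trans h2.symm)
  rwa [PrimeSpectrum.vanishingIdeal_zeroLocus_eq_radical,
    PrimeSpectrum.vanishingIdeal_zeroLocus_eq_radical, Ideal.IsPrime.radical inferInstance,
    Ideal.IsPrime.radical inferInstance] at this

end

variable (R : Type u) [CommRing R] [IsNoetherianRing R] [IsLocalRing R]
  [IsAdicComplete (maximalIdeal R) R]

/-- **S11676.** -/
theorem main_S11676 (a : Ideal R) (ha : a ≠ ⊤) (s : Finset R)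
    (hs : (Ideal.span (s : Set R)).radical = a.radical) :
    connDim (PrimeSpectrum R) ≤
        connDim (PrimeSpectrum (R ⧸ a)) + (s.card : WithBot ℕ∞) + 1 ∧
      ((minimalPrimes R).Nontrivial → connDim (PrimeSpectrum R) <
        connDim (PrimeSpectrum (R ⧸ a)) + (s.card : WithBot ℕ∞) + 1) := by
  have hmain := main_S11670 R a ha s hs
  have hfin : topologicalKrullDim (PrimeSpectrum R) < ⊤ := by
    rw [PrimeSpectrum.topologicalKrullDim_eq_ringKrullDim]
    exact ringKrullDim_lt_top
  obtain ⟨h1, h2⟩ := Groth.Agent.S11667.result (PrimeSpectrum R) hfin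
  have h0 := connDim_nonneg R
  have htop := connDim_lt_top R
  refine ⟨le_trans (le_min (le_add_of_nonneg_right zero_le_one) h1) hmain, fun hnt => ?_⟩
  refine lt_of_lt_of_le (lt_min ?_ ?_) hmain
  · generalize connDim (PrimeSpectrum R) = y at h0 htop
    induction y using WithBot.recBotCoe with
    | bot => exact absurd h0 (by simp)
    | coe y =>
      induction y using ENat.recTopCoe with
      | top => exact absurd htop (lt_irrefl _)
      | coe m => exact_mod_cast Nat.lt_succ_self m
  · exact lt_of_le_of_ne h1 fun h => not_irreducibleSpace_of_nontrivial R hnt (h2.mp h)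

end Groth.Agent.Helper8.HLV
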