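import Groth.Agent.Lib.Helper8.HLV4
import Groth.Agent.Lib.Helper8.FBC4
import Groth.Agent.Lib.Helper8.FC3
import Groth.Agent.Lib.Helper8.AdicReg1
import Groth.Agent.Lib.Helper8.Nag3

/-!
# The Hartshorne–Lichtenbaum vanishing theorem
-/

set_option autoImplicit false
universe u

namespace Groth.Agent.Helper8.HLV

open IsLocalRing LocCoh Groth.Agent.Helper8.LC

section complete

variable (B : Type u) [CommRing B] [IsNoetherianRing B] [IsLocalRing B]
  [IsAdicComplete (maximalIdeal B) B]

/-- HLVT for complete local rings. -/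
theorem subsingleton_H_of_complete (d : ℕ) (hd : ringKrullDim B = d) (J : Ideal B)
    (h : ∀ p ∈ minimalPrimes B, ringKrullDim (B ⧸ p) = d → 1 ≤ ringKrullDim (B ⧸ (J ⊔ p)))
    (N : Type u) [AddCommGroup N] [Module B N] (i : ℕ) (hi : d ≤ i) :
    Subsingleton (H J i N) := by
  have hcd := cdLE_of_ringKrullDim_le J d hd.le
  rcases Nat.lt_or_eq_of_le hi with hlt | rfl
  · exact hcd N i hlt
  have hk : ∀ (N : Type u) [AddCommGroup N] [Module B N], Subsingleton (H J (d + 1) N) :=
    fun N _ _ => hcd N (d + 1) (Nat.lt_succ_self d)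
  have hfin : ∀ (X : Type u) [AddCommGroup X] [Module B X] [Module.Finite B X],
      Subsingleton (H J d X) := by
    intro X _ _ hX
    induction hX using IsNoetherianRing.induction_on_isQuotientEquivQuotientPrime B with
    | subsingleton X => exact subsingleton_of_subsingleton J d (ModuleCat.of B X)
    | quotient X p e =>
      apply subsingleton_of_linearEquiv J d e.symm
      by_cases hpd : ringKrullDim (B ⧸ p.asIdeal) = d
      · have hmin := mem_minimalPrimes_of_ringKrullDim_quotient_eq p.asIdeal d hd hpd
        have h1 := h p.asIdeal hmin hpd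
        haveI : IsAdicComplete (maximalIdeal (B ⧸ p.asIdeal)) (B ⧸ p.asIdeal) :=
          Groth.Agent.Helper8.CohenFact.isAdicComplete_of_surjective
            (Ideal.Quotient.mk p.asIdeal) Ideal.Quotient.mk_surjective
        have hJ' : 0 < ringKrullDim ((B ⧸ p.asIdeal) ⧸
            J.map (algebraMap B (B ⧸ p.asIdeal))) := by
          rw [Ideal.Quotient.algebraMap_eq,
            ringKrullDim_eq_of_ringEquiv (DoubleQuot.quotQuotEquivQuotSup p.asIdeal J),
            sup_comm]
          exact lt_of_lt_of_le zero_lt_one h1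
        have h2 := subsingleton_H_of_complete_domain (B ⧸ p.asIdeal) d hpd
          (J.map (algebraMap B (B ⧸ p.asIdeal))) hJ'
        obtain ⟨φ, -⟩ := exists_semilinear_equiv (R := B) (R' := B ⧸ p.asIdeal) J d
          (B ⧸ p.asIdeal)
        exact φ.symm.toEquiv.subsingleton
      · apply subsingleton_of_supportDim_lt J _ d
        rw [Module.supportDim_quotient_eq_ringKrullDim]
        refine lt_of_le_of_ne ?_ hpd
        rw [← hd]
        exact ringKrullDim_quotient_le _
    | exact X₁ X₂ X₃ f g hf hg hfg h₁ h₃ =>
      exact subsingleton_of_exact J d f g hf hg hfg h₁ h₃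
  exact subsingleton_of_subsingleton_self J d (hfin B) hk N

end complete

variable (R : Type u) [CommRing R] [IsLocalRing R] [IsNoetherianRing R]

/-- **The Hartshorne–Lichtenbaum vanishing theorem** (S0332). -/
theorem main (I : Ideal R) (d : ℕ) (hd : ringKrullDim R = d)
    (h : ∀ p ∈ minimalPrimes (AdicCompletion (maximalIdeal R) R),
      ringKrullDim (AdicCompletion (maximalIdeal R) R ⧸ p) = d →
        1 ≤ ringKrullDim (AdicCompletion (maximalIdeal R) R ⧸
          (I.map (algebraMap R (AdicCompletion (maximalIdeal R) R)) ⊔ p)))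
    (M : Type u) [AddCommGroup M] [Module R M] (i : ℕ) (hi : d ≤ i) :
    Subsingleton (H I i M) := by
  haveI : IsNoetherianRing (AdicCompletion (maximalIdeal R) R) :=
    Groth.Agent.Helper8.AdicReg.isNoetherianRing R _
  haveI : Module.FaithfullyFlat R (AdicCompletion (maximalIdeal R) R) :=
    Module.FaithfullyFlat.of_flat_of_isLocalHom
  have hdB : ringKrullDim (AdicCompletion (maximalIdeal R) R) = d := by
    rw [← hd]; exact Groth.Agent.Helper8.FC.ringKrullDim_cpl R
  cases d with
  | zero =>
    exfalso
    obtain ⟨p, hp⟩ : (minimalPrimes (AdicCompletion (maximalIdeal R) R)).Nonempty := by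
      obtain ⟨p, hp, -⟩ := Ideal.exists_minimalPrimes_le
        (bot_le : (⊥ : Ideal (AdicCompletion (maximalIdeal R) R)) ≤
          maximalIdeal (AdicCompletion (maximalIdeal R) R))
      exact ⟨p, hp⟩
    haveI := hp.1.1
    have hle : ringKrullDim (AdicCompletion (maximalIdeal R) R ⧸ p) ≤ 0 := by
      have := ringKrullDim_quotient_le p
      rwa [hdB] at this
    have hge : 0 ≤ ringKrullDim (AdicCompletion (maximalIdeal R) R ⧸ p) :=
      ringKrullDim_nonneg_of_nontrivial
    have h1 := h p hp (le_antisymm hle hge)
    have h2 : ringKrullDim (AdicCompletion (maximalIdeal R) R ⧸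
        (I.map (algebraMap R (AdicCompletion (maximalIdeal R) R)) ⊔ p)) ≤ 0 := by
      have := ringKrullDim_quotient_le
        (I.map (algebraMap R (AdicCompletion (maximalIdeal R) R)) ⊔ p)
      rwa [hdB] at this
    have h3 : (1 : WithBot ℕ∞) ≤ 0 := h1.trans h2
    exact absurd h3 (by decide)
  | succ d =>
    have hB : CdLE (AdicCompletion (maximalIdeal R) R)
        (I.map (algebraMap R (AdicCompletion (maximalIdeal R) R))) d := by
      intro N _ _ j hj
      exact subsingleton_H_of_complete _ (d + 1) hdB _ h N j hj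
    have hR : CdLE R I d :=
      (Groth.Agent.Helper8.FBC.cdLE_baseChange (B := AdicCompletion (maximalIdeal R) R) I d).2
        inferInstance hB
    exact hR M i hi

end Groth.Agent.Helper8.HLV
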