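import Groth.Agent.Lib.Helper8.HLV8
import Groth.Agent.Lib.Helper8.HLV5
import Groth.Agent.Lib.Helper8.HensEq2
import Groth.Agent.Lib.Helper8.UB1
import Groth.Agent.Lib.Helper8.Equidim2
import Groth.Agent.Lib.Helper8.FBC4
import Groth.Agent.Lib.Helper8.NV7
import Groth.Agent.S1802

/-!
# `cd(A, I) < dim A` for excellent normal local domains (S1797)
-/

set_option autoImplicit false
universe u

namespace Groth.Agent.Helper8.HLV

open IsLocalRing LocCoh Groth.Agent.Helper8.LC

section

variable (A : Type u) [CommRing A] [IsNoetherianRing A] [IsLocalRing A]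

/-- `dim Â/IÂ = dim A/I`. -/
theorem dim_cpl_quot_map (I : Ideal A) (hI : I ≠ ⊤) :
    ringKrullDim (AdicCompletion (maximalIdeal A) A ⧸
      I.map (algebraMap A (AdicCompletion (maximalIdeal A) A))) = ringKrullDim (A ⧸ I) := by
  haveI : IsNoetherianRing (AdicCompletion (maximalIdeal A) A) :=
    Groth.Agent.Helper8.AdicReg.isNoetherianRing A _
  have h1 := Groth.Agent.Helper8.Equidim.ringKrullDim_quot_map_eq A
    (AdicCompletion (maximalIdeal A) A) I hI
  have h2 := Groth.Agent.Helper8.FC.ringKrullDim_quot_map A (maximalIdeal A)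
  have h3 : ringKrullDim (A ⧸ maximalIdeal A) = 0 :=
    ringKrullDim_eq_zero_of_isField
      ((Ideal.Quotient.maximal_ideal_iff_isField_quotient _).mp (maximalIdeal.isMaximal A))
  rw [h3] at h2
  change ringKrullDim (AdicCompletion (maximalIdeal A) A ⧸
    (maximalIdeal A).map (algebraMap A (AdicCompletion (maximalIdeal A) A))) = 0 at h2
  rw [h1, h2, add_zero]

theorem exists_nat_dim : ∃ d : ℕ, ringKrullDim A = d := by
  obtain ⟨d, hd⟩ := exists_nat_dim_quotient (⊥ : Ideal A) bot_ne_top
  exact ⟨d, by rw [← hd]; exact (ringKrullDim_eq_of_ringEquiv (RingEquiv.quotientBot A)).symm⟩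

omit [IsNoetherianRing A] in
theorem one_le_dim_of_maximalIdeal_ne_bot [IsDomain A] (h : maximalIdeal A ≠ ⊥) :
    1 ≤ ringKrullDim A := by
  unfold ringKrullDim
  rw [Order.one_le_krullDim_iff]
  refine ⟨⟨⊥, Ideal.isPrime_bot⟩, closedPoint A, ?_⟩
  rw [← PrimeSpectrum.asIdeal_lt_asIdeal]
  exact bot_lt_iff_ne_bot.mpr h

/-- In a Noetherian local domain, a nonzero proper ideal has `cd ≥ 1`. -/
theorem not_cdLE_zero [IsDomain A] (I : Ideal A) (hI : I ≠ ⊤) (hI0 : I ≠ ⊥) : ¬ CdLE A I 0 := by
  intro h0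
  obtain ⟨⟨p, hp⟩⟩ := Ideal.nonempty_minimalPrimes hI
  haveI hpp : p.IsPrime := hp.1.1
  have hp0 : p ≠ ⊥ := fun h => hI0 (le_bot_iff.mp (h ▸ hp.1.2))
  have h0' : CdLE (Localization.AtPrime p) (I.map (algebraMap A (Localization.AtPrime p))) 0 :=
    Groth.Agent.Helper8.FBC.cdLE_map I 0 h0
  have hmin : maximalIdeal (Localization.AtPrime p) ∈
      (I.map (algebraMap A (Localization.AtPrime p))).minimalPrimes := by
    rw [IsLocalization.minimalPrimes_map p.primeCompl, Set.mem_preimage,
      IsLocalization.AtPrime.under_maximalIdeal (Localization.AtPrime p) p]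
    exact hp
  have hne : I.map (algebraMap A (Localization.AtPrime p)) ≠ ⊤ := fun h => by
    have := hmin.1.2
    rw [h] at this
    exact (Ideal.IsPrime.ne_top inferInstance) (top_le_iff.mp this)
  have hrad := radical_eq_maximalIdeal_of_dim_le_zero _ hne
    (dim_le_zero_of_maximalIdeal_mem_minimalPrimes _ hmin)
  obtain ⟨n, hn⟩ := exists_nat_dim (Localization.AtPrime p)
  have hmne : maximalIdeal (Localization.AtPrime p) ≠ ⊥ := by
    intro h
    apply hp0
    have h1 := IsLocalization.AtPrime.under_maximalIdeal (Localization.AtPrime p) p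
    rw [h] at h1
    rw [← h1, Ideal.under_def, ← RingHom.ker_eq_comap_bot]
    exact (RingHom.injective_iff_ker_eq_bot _).mp
      (IsLocalization.injective (Localization.AtPrime p) p.primeCompl_le_nonZeroDivisors)
  have h1n : 1 ≤ n := by
    have := one_le_dim_of_maximalIdeal_ne_bot (Localization.AtPrime p) hmne
    rw [hn] at this
    exact_mod_cast this
  have hnt : Nontrivial (H (maximalIdeal (Localization.AtPrime p)) n (Localization.AtPrime p)) :=
    Groth.Agent.Helper8.NV.nontrivial_H_supportDim (Localization.AtPrime p) n (by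
      rw [Module.supportDim_self_eq_ringKrullDim, hn])
  have hsub := h0' (Localization.AtPrime p) n (by omega)
  rw [subsingleton_H_iff_of_radical_eq _ (maximalIdeal (Localization.AtPrime p))
    (by rw [hrad, Ideal.IsPrime.radical inferInstance])] at hsub
  exact not_subsingleton _ hsub

end

variable (A : Type u) [CommRing A] [IsDomain A] [IsLocalRing A] [IsNoetherianRing A]
  [IsIntegrallyClosed A]

theorem cd_lt_dim_of_excellent_normal (hA : EGA4.IsExcellent A) (I : Ideal A)
    (hI : (1 : WithBot ℕ∞) ≤ ringKrullDim (A ⧸ I))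
    (M : Type u) [AddCommGroup M] [Module A M] (i : ℕ) (hi : ringKrullDim A ≤ (i : WithBot ℕ∞)) :
    Subsingleton (H I i M) := by
  have hItop : I ≠ ⊤ := by
    rintro rfl
    haveI : Subsingleton (A ⧸ (⊤ : Ideal A)) := Ideal.Quotient.subsingleton_iff.mpr rfl
    rw [ringKrullDim_eq_bot_of_subsingleton] at hI
    exact absurd hI (by simp)
  obtain ⟨d, hd⟩ := exists_nat_dim A
  have hdi : d ≤ i := by
    rw [hd] at hi
    exact_mod_cast hi
  have hN := Groth.Agent.Helper8.HensEq.hasGeomNormalFormalFibres_of_isGRing A hA.2.2.1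
  have hnorm : EGA4.IsNormalRing A := Groth.Agent.Helper8.UB.isNormalRing_of_isIntegrallyClosed A
  have hnormC : EGA4.IsNormalRing (EGA4.Cpl A) :=
    (Groth.Agent.Helper8.Cpl.isNormalRing_iff_cpl_of_geomNormalFormalFibres A hN).mp hnorm
  haveI hdom : IsDomain (AdicCompletion (maximalIdeal A) A) :=
    (Groth.Agent.Helper8.NormBase.isDomain_and_isIntegrallyClosed_of_isLocalRing _ hnormC).1
  refine main A I d hd ?_ M i hdi
  intro p hp _
  rw [IsDomain.minimalPrimes_eq_singleton_bot, Set.mem_singleton_iff] at hp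
  subst hp
  rw [sup_bot_eq, dim_cpl_quot_map A I hItop]
  exact hI

theorem isAffine_punctured_of_excellent_normal (hA : EGA4.IsExcellent A) (I : Ideal A)
    (hI : (1 : WithBot ℕ∞) ≤ ringKrullDim (A ⧸ I)) (h2 : ringKrullDim A = 2) :
    AlgebraicGeometry.IsAffine (↑(puncturedOpen A I) : AlgebraicGeometry.Scheme.{u}) := by
  have hItop : I ≠ ⊤ := by
    rintro rfl
    haveI : Subsingleton (A ⧸ (⊤ : Ideal A)) := Ideal.Quotient.subsingleton_iff.mpr rfl
    rw [ringKrullDim_eq_bot_of_subsingleton] at hI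
    exact absurd hI (by simp)
  have h1 : CdLE A I 1 := by
    intro M _ _ i hi
    refine cd_lt_dim_of_excellent_normal A hA I hI M i ?_
    rw [h2]
    exact_mod_cast hi
  by_cases h0 : CdLE A I 0
  · have hbot : I = ⊥ := by
      by_contra hne
      exact not_cdLE_zero A I hItop hne h0
    subst hbot
    have : puncturedOpen A (⊥ : Ideal A) = ⊥ := by
      apply TopologicalSpace.Opens.ext
      change (PrimeSpectrum.zeroLocus ((⊥ : Ideal A) : Set A))ᶜ = (∅ : Set _)
      rw [PrimeSpectrum.zeroLocus_bot, Set.compl_univ]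
    rw [this]
    exact AlgebraicGeometry.isAffineOpen_bot _
  · exact (Groth.Agent.S1802.result A I h1 h0).2

end Groth.Agent.Helper8.HLV
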