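import Groth.Agent.Lib.Helper8.HLV11
import Groth.Agent.Lib.Helper8.HLV12

/-!
# The connectedness bound with cohomological dimension (Stacks 0ECR, S0815)
-/

set_option autoImplicit false
universe u

namespace Groth.Agent.Helper8.HLV

open IsLocalRing LocCoh Groth.Agent.Helper8.LC

section height

variable (A : Type u) [CommRing A] [IsNoetherianRing A]

/-- A minimal prime over `I` has height at most `cd(A, I)`. -/
theorem height_le_of_cdLE (I : Ideal A) (e : ℕ) (he : CdLE A I e) (p : Ideal A)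
    (hp : p ∈ I.minimalPrimes) : p.height ≤ e := by
  haveI hpp : p.IsPrime := hp.1.1
  have h0' : CdLE (Localization.AtPrime p) (I.map (algebraMap A (Localization.AtPrime p))) e :=
    Groth.Agent.Helper8.FBC.cdLE_map I e he
  have hmin : maximalIdeal (Localization.AtPrime p) ∈
      (I.map (algebraMap A (Localization.AtPrime p))).minimalPrimes := by
    rw [IsLocalization.minimalPrimes_map p.primeCompl, Set.mem_preimage,
      IsLocalization.AtPrime.under_maximalIdeal (Localization.AtPrime p) p]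
    exact hp
  have hne : I.map (algebraMap A (Localization.AtPrime p)) ≠ ⊤ := fun h => by
    have := hmin.1.2
    rw [h] at this
    exact (Ideal.IsPrime.ne_top inferInstance) (top_le_iff.mp this)
  have hrad := radical_eq_maximalIdeal_of_dim_le_zero _ hne
    (dim_le_zero_of_maximalIdeal_mem_minimalPrimes _ hmin)
  obtain ⟨n, hn⟩ := exists_nat_dim (Localization.AtPrime p)
  have hnt : Nontrivial (H (maximalIdeal (Localization.AtPrime p)) n (Localization.AtPrime p)) :=
    Groth.Agent.Helper8.NV.nontrivial_H_supportDim (Localization.AtPrime p) n (by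
      rw [Module.supportDim_self_eq_ringKrullDim, hn])
  have hne' : n ≤ e := by
    by_contra hcon
    have hsub := h0' (Localization.AtPrime p) n (by omega)
    rw [subsingleton_H_iff_of_radical_eq _ (maximalIdeal (Localization.AtPrime p))
      (by rw [hrad, Ideal.IsPrime.radical inferInstance])] at hsub
    exact not_subsingleton _ hsub
  have hh : (p.height : WithBot ℕ∞) = n := by
    rw [← IsLocalization.AtPrime.ringKrullDim_eq_height p (Localization.AtPrime p), hn]
  have hh' : p.height = n := by exact_mod_cast hh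
  rw [hh']
  exact_mod_cast hne'

end height

section ring

variable (R : Type u) [CommRing R] [IsNoetherianRing R] [IsLocalRing R]
  [IsAdicComplete (maximalIdeal R) R]

/-- For a minimal prime `𝔭` over an ideal of cohomological dimension at most `k` in a complete
local ring: `sdim R ≤ dim R/𝔭 + k`. -/
theorem subdim_le_of_mem_minimalPrimes_cd (a : Ideal R) (k : ℕ) (hk : CdLE R a k)
    (𝔭 : Ideal R) (h𝔭 : 𝔭 ∈ a.minimalPrimes) :
    subdim (PrimeSpectrum R) ≤ ringKrullDim (R ⧸ 𝔭) + (k : WithBot ℕ∞) := by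
  classical
  haveI h𝔭p : 𝔭.IsPrime := h𝔭.1.1
  obtain ⟨p₀, hp₀, hle⟩ := Ideal.exists_minimalPrimes_le (bot_le : (⊥ : Ideal R) ≤ 𝔭)
  have hp₀' : p₀ ∈ minimalPrimes R := hp₀
  haveI hp₀p : p₀.IsPrime := hp₀.1.1
  refine (subdim_le_dim_quotient hp₀').trans ?_
  haveI : IsAdicComplete (maximalIdeal (R ⧸ p₀)) (R ⧸ p₀) :=
    Groth.Agent.Helper8.CohenFact.isAdicComplete_of_surjective
      (Ideal.Quotient.mk p₀) Ideal.Quotient.mk_surjective
  have hc : CAlg.IsCatenary (R ⧸ p₀) := Groth.Agent.Helper8.CatCM.isCatenary_of_complete _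
  have heq : EGA4.IsEquidim (R ⧸ p₀) := Groth.Agent.Helper8.Lift.isEquidim_of_isDomain _
  have hsurj : Function.Surjective (algebraMap R (R ⧸ p₀)) := by
    rw [Ideal.Quotient.algebraMap_eq]; exact Ideal.Quotient.mk_surjective
  have hker : RingHom.ker (algebraMap R (R ⧸ p₀)) = p₀ := by
    rw [Ideal.Quotient.algebraMap_eq, Ideal.mk_ker]
  haveI hQ : (𝔭.map (algebraMap R (R ⧸ p₀))).IsPrime :=
    Ideal.map_isPrime_of_surjective hsurj (by rw [hker]; exact hle)
  have hQmin : 𝔭.map (algebraMap R (R ⧸ p₀)) ∈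
      (a.map (algebraMap R (R ⧸ p₀))).minimalPrimes := by
    rw [Ideal.minimalPrimes_map_of_surjective hsurj, hker]
    refine ⟨𝔭, ⟨⟨h𝔭p, sup_le h𝔭.1.2 hle⟩, ?_⟩, rfl⟩
    rintro q ⟨hq, hqle⟩ hq𝔭
    exact h𝔭.2 ⟨hq, le_sup_left.trans hqle⟩ hq𝔭
  have hk' : CdLE (R ⧸ p₀) (a.map (algebraMap R (R ⧸ p₀))) k :=
    Groth.Agent.Helper8.FBC.cdLE_map (B := R ⧸ p₀) a k hk
  have hht : (𝔭.map (algebraMap R (R ⧸ p₀))).height ≤ k :=
    height_le_of_cdLE (R ⧸ p₀) _ k hk' _ hQmin
  obtain ⟨n, hn⟩ : ∃ n : ℕ, (𝔭.map (algebraMap R (R ⧸ p₀))).height = n := by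
    have hfin : (𝔭.map (algebraMap R (R ⧸ p₀))).height ≠ ⊤ :=
      ne_top_of_le_ne_top (ENat.natCast_ne_top _) hht
    exact ⟨_, (ENat.natCast_toNat hfin).symm⟩
  have hform := Groth.Agent.Helper8.Equidim.dim_quot_add_height (R ⧸ p₀) hc heq
    (𝔭.map (algebraMap R (R ⧸ p₀))) n hn
  rw [dim_quot_quot, sup_eq_right.mpr hle] at hform
  rw [← hform]
  have hn' : n ≤ k := by
    rw [hn] at hht
    exact_mod_cast hht
  gcongr

/-- The connectedness bound with `cd` in place of `ara`. -/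
theorem main_cd (a : Ideal R) (ha : a ≠ ⊤) (k : ℕ) (hka : CdLE R a k) :
    min (connDim (PrimeSpectrum R) + 1) (subdim (PrimeSpectrum R)) ≤
      connDim (PrimeSpectrum (R ⧸ a)) + (k : WithBot ℕ∞) + 1 := by
  haveI : Nontrivial (R ⧸ a) := Ideal.Quotient.nontrivial_iff.mpr ha
  obtain ⟨A, B, hA, hB, hAne, hBne, hAB, hconn⟩ :=
    exists_pair_connDim_eq (T := PrimeSpectrum (R ⧸ a))
  rw [hconn]
  have hsurj : Function.Surjective (Ideal.Quotient.mk a) := Ideal.Quotient.mk_surjective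
  have hZAc : IsClosed (⋃₀ A) := isClosed_sUnion_of_subset_irreducibleComponents hA
  have hZBc : IsClosed (⋃₀ B) := isClosed_sUnion_of_subset_irreducibleComponents hB
  set aq := PrimeSpectrum.vanishingIdeal (⋃₀ A) with haq
  set bq := PrimeSpectrum.vanishingIdeal (⋃₀ B) with hbq
  have hzA : PrimeSpectrum.zeroLocus (aq : Set (R ⧸ a)) = ⋃₀ A := by
    rw [haq, PrimeSpectrum.zeroLocus_vanishingIdeal_eq_closure, hZAc.closure_eq]
  have hzB : PrimeSpectrum.zeroLocus (bq : Set (R ⧸ a)) = ⋃₀ B := by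
    rw [hbq, PrimeSpectrum.zeroLocus_vanishingIdeal_eq_closure, hZBc.closure_eq]
  set a' := aq.comap (Ideal.Quotient.mk a) with ha'
  set b' := bq.comap (Ideal.Quotient.mk a) with hb'
  have hmapa : a'.map (algebraMap R (R ⧸ a)) = aq := by
    rw [Ideal.Quotient.algebraMap_eq, ha', Ideal.map_comap_of_surjective _ hsurj]
  have hmapb : b'.map (algebraMap R (R ⧸ a)) = bq := by
    rw [Ideal.Quotient.algebraMap_eq, hb', Ideal.map_comap_of_surjective _ hsurj]
  have hale : a ≤ a' := by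
    intro x hx
    rw [ha', Ideal.mem_comap, Ideal.Quotient.eq_zero_iff_mem.mpr hx]
    exact zero_mem _
  have key : ∀ (C : Set (Set (PrimeSpectrum (R ⧸ a)))), C ⊆ irreducibleComponents _ →
      C.Nonempty → ∃ 𝔭 ∈ a.minimalPrimes,
        (PrimeSpectrum.vanishingIdeal (⋃₀ C)).comap (Ideal.Quotient.mk a) ≤ 𝔭 := by
    intro C hC hCne
    obtain ⟨Z, hZ⟩ := hCne
    obtain ⟨q, hq, rfl⟩ := exists_minimalPrimes_of_mem_irreducibleComponents (hC hZ)
    haveI : q.IsPrime := hq.1.1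
    refine ⟨q.comap (Ideal.Quotient.mk a), ?_, ?_⟩
    · rw [Ideal.minimalPrimes_eq_comap]
      exact ⟨q, hq, rfl⟩
    · apply Ideal.comap_mono
      refine (PrimeSpectrum.vanishingIdeal_anti_mono (Set.subset_sUnion_of_mem hZ)).trans ?_
      rw [PrimeSpectrum.vanishingIdeal_zeroLocus_eq_radical, Ideal.IsPrime.radical inferInstance]
  obtain ⟨𝔭A, h𝔭A, hA𝔭⟩ := key A hA hAne
  obtain ⟨𝔭B, h𝔭B, hB𝔭⟩ := key B hB hBne
  haveI : 𝔭A.IsPrime := h𝔭A.1.1
  haveI : 𝔭B.IsPrime := h𝔭B.1.1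
  have ha'top : a' ≠ ⊤ := fun h => (Ideal.IsPrime.ne_top (inferInstance : 𝔭A.IsPrime))
    (top_le_iff.mp (h ▸ hA𝔭))
  have hb'top : b' ≠ ⊤ := fun h => (Ideal.IsPrime.ne_top (inferInstance : 𝔭B.IsPrime))
    (top_le_iff.mp (h ▸ hB𝔭))
  have hinf : a' ⊓ b' = a.radical := by
    rw [ha', hb', ← Ideal.comap_inf, haq, hbq, ← PrimeSpectrum.vanishingIdeal_union,
      ← Set.sUnion_union, hAB, sUnion_irreducibleComponents, PrimeSpectrum.vanishingIdeal_univ,
      nilradical, Ideal.comap_radical, Ideal.zero_eq_bot, ← RingHom.ker_eq_comap_bot,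
      Ideal.mk_ker]
  have hk : CdLE R (a' ⊓ b') k := by
    intro M _ _ j hj
    rw [subsingleton_H_iff_of_radical_eq (a' ⊓ b') a (by rw [hinf, Ideal.radical_idem])]
    exact hka M j hj
  have hdim : topologicalKrullDim ↥(⋃₀ A ∩ ⋃₀ B) = ringKrullDim (R ⧸ (a' ⊔ b')) := by
    rw [← hzA, ← hzB, ← PrimeSpectrum.zeroLocus_sup, topDim_zeroLocus, ← hmapa, ← hmapb,
      ← Ideal.map_sup, dim_quot_quot, sup_eq_right.mpr (hale.trans le_sup_left)]
  rw [hdim]
  by_cases hlt : ringKrullDim (R ⧸ (a' ⊔ b')) <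
      min (ringKrullDim (R ⧸ a')) (ringKrullDim (R ⧸ b'))
  · exact main_S11669 R a' b' ha'top hb'top hlt k hk
  · push Not at hlt
    refine (min_le_right _ _).trans ?_
    have h1 : ∀ x : WithBot ℕ∞, x + (k : WithBot ℕ∞) ≤ x + (k : WithBot ℕ∞) + 1 :=
      fun x => le_add_of_nonneg_right zero_le_one
    rcases min_le_iff.mp hlt with h | h
    · refine (subdim_le_of_mem_minimalPrimes_cd R a k hka 𝔭A h𝔭A).trans (le_trans ?_ (h1 _))
      gcongr
      exact (dim_quotient_mono hA𝔭).trans h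
    · refine (subdim_le_of_mem_minimalPrimes_cd R a k hka 𝔭B h𝔭B).trans (le_trans ?_ (h1 _))
      gcongr
      exact (dim_quotient_mono hB𝔭).trans h

end ring

end Groth.Agent.Helper8.HLV
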