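import Groth.Agent.Lib.Helper8.HLV13

/-!
# Connectedness of `V(I) ∖ Z` in a complete local ring (S0815)
-/

set_option autoImplicit false
universe u

namespace Groth.Agent.Helper8.HLV

open IsLocalRing LocCoh Groth.Agent.Helper8.LC

section attained

/-- The infimum defining the connectedness dimension is attained. -/
theorem exists_closed_connDim_eq (T : Type u) [TopologicalSpace T] :
    ∃ Z : Set T, IsClosed Z ∧ ¬ IsConnected Zᶜ ∧ connDim T = topologicalKrullDim ↥Z := by
  haveI : Nonempty {Z : Set T // IsClosed Z ∧ ¬ IsConnected Zᶜ} :=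
    ⟨⟨Set.univ, isClosed_univ, fun h => by
      rw [Set.compl_univ] at h
      exact Set.not_nonempty_empty h.nonempty⟩⟩
  obtain ⟨x, hx⟩ := ciInf_mem
    (fun x : {Z : Set T // IsClosed Z ∧ ¬ IsConnected Zᶜ} => topologicalKrullDim ↥x.1)
  refine ⟨x.1, x.2.1, x.2.2, ?_⟩
  unfold connDim
  rw [iInf_subtype']
  exact hx.symm

theorem exists_minimalPrimes_subdim_eq (R : Type u) [CommRing R] [Nontrivial R] :
    ∃ p ∈ minimalPrimes R, subdim (PrimeSpectrum R) = ringKrullDim (R ⧸ p) := by
  haveI : Nonempty (irreducibleComponents (PrimeSpectrum R)) := by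
    obtain ⟨x⟩ := (inferInstance : Nonempty (PrimeSpectrum R))
    exact ⟨⟨_, irreducibleComponent_mem_irreducibleComponents x⟩⟩
  obtain ⟨x, hx⟩ := ciInf_mem
    (fun x : irreducibleComponents (PrimeSpectrum R) => topologicalKrullDim ↥x.1)
  obtain ⟨p, hp, hpe⟩ := exists_minimalPrimes_of_mem_irreducibleComponents x.2
  refine ⟨p, hp, ?_⟩
  unfold subdim
  rw [iInf_subtype', ← hx]
  change topologicalKrullDim ↥x.1 = _
  rw [hpe, topDim_zeroLocus]

theorem not_add_one_le_add_one {w c : WithBot ℕ∞} (h : w < c) (hc : c < ⊤) :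
    ¬ (c + 1 ≤ w + 1) := by
  intro hle
  induction c using WithBot.recBotCoe with
  | bot => exact absurd h (by simp)
  | coe c =>
    induction c using ENat.recTopCoe with
    | top => exact absurd hc (lt_irrefl _)
    | coe m =>
      induction w using WithBot.recBotCoe with
      | bot =>
        rw [WithBot.bot_add] at hle
        exact absurd hle (by
          rw [le_bot_iff]
          exact WithBot.coe_ne_bot)
      | coe w =>
        induction w using ENat.recTopCoe with
        | top => exact absurd h (by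
            rw [not_lt]
            exact le_top)
        | coe n =>
          have h1 : n < m := by exact_mod_cast h
          have h2 : m + 1 ≤ n + 1 := by exact_mod_cast hle
          omega

end attained

variable (A : Type u) [CommRing A] [IsNoetherianRing A] [IsLocalRing A]
  [IsAdicComplete (maximalIdeal A) A]

/-- **S0815.** -/
theorem main_S0815 (I : Ideal A) (hI : I ≠ ⊤) (e : ℕ) (he : CdLE A I e)
    (Z : Set (PrimeSpectrum A)) (hZ : IsClosed Z)
    (hdim : ∀ p ∈ minimalPrimes A,
      topologicalKrullDim Z + ((e + 1 : ℕ) : WithBot ℕ∞) < ringKrullDim (A ⧸ p))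
    (hc : ∀ Z' : Set (PrimeSpectrum A), IsClosed Z' → ¬ IsConnected Z'ᶜ →
      topologicalKrullDim Z + ((e : ℕ) : WithBot ℕ∞) < topologicalKrullDim Z') :
    IsConnected (PrimeSpectrum.zeroLocus (I : Set A) \ Z) := by
  by_contra hnc
  have hφ := PrimeSpectrum.isClosedEmbedding_comap_of_surjective (A ⧸ I) (Ideal.Quotient.mk I)
    Ideal.Quotient.mk_surjective
  have hr : Set.range (PrimeSpectrum.comap (Ideal.Quotient.mk I)) =
      PrimeSpectrum.zeroLocus (I : Set A) := by
    rw [_root_.range_comap_of_surjective _ _ Ideal.Quotient.mk_surjective, Ideal.mk_ker]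
  set φ := PrimeSpectrum.comap (Ideal.Quotient.mk I) with hφdef
  have hZ'c : IsClosed (φ ⁻¹' Z) := hZ.preimage hφ.continuous
  have hZ'nc : ¬ IsConnected (φ ⁻¹' Z)ᶜ := by
    intro hcon
    apply hnc
    have := hcon.image φ hφ.continuous.continuousOn
    rwa [← Set.preimage_compl, Set.image_preimage_eq_inter_range, hr, Set.inter_comm,
      ← Set.diff_eq] at this
  have h1 : connDim (PrimeSpectrum (A ⧸ I)) ≤ topologicalKrullDim ↥(φ ⁻¹' Z) := by
    unfold connDim
    exact iInf₂_le (φ ⁻¹' Z) ⟨hZ'c, hZ'nc⟩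
  have h2 : topologicalKrullDim ↥(φ ⁻¹' Z) ≤ topologicalKrullDim ↥Z :=
    (Set.restrictPreimage_isInducing Z hφ.isInducing).topologicalKrullDim_le
  have hmain := main_cd A I hI e he
  obtain ⟨p, hp, hpe⟩ := exists_minimalPrimes_subdim_eq A
  obtain ⟨Z₀, hZ₀c, hZ₀n, hZ₀e⟩ := exists_closed_connDim_eq (PrimeSpectrum A)
  have hs := hdim p hp
  rw [← hpe] at hs
  have hcc := hc Z₀ hZ₀c hZ₀n
  rw [← hZ₀e] at hcc
  have hle : min (connDim (PrimeSpectrum A) + 1) (subdim (PrimeSpectrum A)) ≤
      topologicalKrullDim ↥Z + (e : WithBot ℕ∞) + 1 := by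
    refine hmain.trans ?_
    gcongr
    exact h1.trans h2
  rcases min_le_iff.mp hle with h | h
  · exact not_add_one_le_add_one hcc (connDim_lt_top A) h
  · rw [Nat.cast_add, Nat.cast_one, ← add_assoc] at hs
    exact absurd (lt_of_lt_of_le hs h) (lt_irrefl _)

end Groth.Agent.Helper8.HLV
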