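import Groth.Agent.Lib.Helper8.CanMod1
import Groth.Agent.Lib.Helper8.CanMod2
import Groth.Agent.Lib.Helper8.HLV12

/-!
# Top local cohomology modulo a prime: `H^n_I(M)/pH^n_I(M)` and `H^n_I(M/pM)`
-/

set_option autoImplicit false
universe u

namespace Groth.Agent.Helper8.HLV

open IsLocalRing LocCoh CategoryTheory Groth.Agent.Helper8.LC

section rightexact

variable {R : Type u} [CommRing R] [IsNoetherianRing R] (I : Ideal R) (n : ℕ)
  (M : Type u) [AddCommGroup M] [Module R M]

/-- Elements of `H^i_I(M/pM)` are killed by `p`. -/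
theorem smul_H_quotient_smul_top_eq_zero (p : Ideal R) (i : ℕ) (a : R) (ha : a ∈ p)
    (z : H I i (M ⧸ (p • ⊤ : Submodule R M))) : a • z = 0 := by
  rw [← map_smul_id]
  have h0 : a • 𝟙 (ModuleCat.of R (M ⧸ (p • ⊤ : Submodule R M))) = 0 := by
    apply ModuleCat.hom_ext
    apply LinearMap.ext
    intro x
    obtain ⟨m, rfl⟩ := Submodule.mkQ_surjective _ x
    change a • ((p • ⊤ : Submodule R M).mkQ m) = 0
    rw [← map_smul, Submodule.mkQ_apply, Submodule.Quotient.mk_eq_zero]
    exact Submodule.smul_mem_smul ha Submodule.mem_top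
  rw [h0]
  exact map_zero' I i _ _ z

theorem smul_top_H_ne_top_of_nontrivial (p : Ideal R)
    (hvan : Subsingleton (H I (n + 1) (p • ⊤ : Submodule R M)))
    [Nontrivial (H I n (M ⧸ (p • ⊤ : Submodule R M)))] :
    p • (⊤ : Submodule R (H I n M)) ≠ ⊤ := by
  intro htop
  have hS := sesSub_shortExact (p • ⊤ : Submodule R M)
  have hsurj : Function.Surjective
      ((localCohomology I n).map (sesSub (p • ⊤ : Submodule R M)).g) := by
    intro y
    have h1 : δ I n hS y = 0 := hvan.elim _ _
    exact (exact_g_δ I n hS y).mp h1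
  have key : ∀ x ∈ p • (⊤ : Submodule R (H I n M)),
      ((localCohomology I n).map (sesSub (p • ⊤ : Submodule R M)).g) x = 0 := by
    intro x hx
    refine Submodule.smul_induction_on hx (fun a ha x' _ => ?_) (fun x₁ x₂ h₁ h₂ => ?_)
    · rw [map_smul]
      exact smul_H_quotient_smul_top_eq_zero I M p n a ha _
    · rw [map_add, h₁, h₂, add_zero]
  obtain ⟨z, hz⟩ := exists_ne (0 : H I n (M ⧸ (p • ⊤ : Submodule R M)))
  obtain ⟨y, rfl⟩ := hsurj z
  apply hz
  apply key
  rw [htop]
  exact Submodule.mem_top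

theorem smul_top_H_eq_top_of_subsingleton (p : Ideal R)
    (hvan : ∀ (X : Type u) [AddCommGroup X] [Module R X] [Module.Finite R X],
      Module.annihilator R M ≤ Module.annihilator R X → Subsingleton (H I (n + 1) X))
    [Module.Finite R M]
    [Subsingleton (H I n (M ⧸ (p • ⊤ : Submodule R M)))] :
    p • (⊤ : Submodule R (H I n M)) = ⊤ := by
  have hS := sesSub_shortExact (p • ⊤ : Submodule R M)
  obtain ⟨k, a, ha⟩ := Submodule.fg_iff_exists_fin_generating_family.mp
    ((isNoetherianRing_iff_ideal_fg R).mp inferInstance p)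
  have hamem : ∀ i, a i ∈ p := fun i => ha ▸ Submodule.subset_span (Set.mem_range_self i)
  let g : (Fin k → M) →ₗ[R] (p • ⊤ : Submodule R M) :=
    ∑ i, (LinearMap.codRestrict (p • ⊤ : Submodule R M) ((a i) • LinearMap.id)
      (fun m => Submodule.smul_mem_smul (hamem i) Submodule.mem_top)) ∘ₗ LinearMap.proj i
  have hgval : ∀ c : Fin k → M, ((g c : (p • ⊤ : Submodule R M)) : M) = ∑ i, a i • c i := by
    intro c
    simp only [g, LinearMap.sum_apply, LinearMap.comp_apply, LinearMap.proj_apply]
    rw [Submodule.coe_sum]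
    rfl
  have hg : Function.Surjective g := by
    rintro ⟨x, hx⟩
    have : ∀ y ∈ (p • ⊤ : Submodule R M), ∃ c : Fin k → M, ∑ i, a i • c i = y := by
      intro y hy
      refine Submodule.smul_induction_on hy (fun r hr m _ => ?_) (fun y₁ y₂ h₁ h₂ => ?_)
      · have hr' : r ∈ Submodule.span R (Set.range a) := ha ▸ hr
        obtain ⟨c, hc⟩ := (Submodule.mem_span_range_iff_exists_fun R).mp hr'
        refine ⟨fun i => c i • m, ?_⟩
        rw [← hc, Finset.sum_smul]
        refine Finset.sum_congr rfl fun i _ => ?_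
        rw [smul_smul, smul_eq_mul, mul_comm]
      · obtain ⟨c₁, hc₁⟩ := h₁
        obtain ⟨c₂, hc₂⟩ := h₂
        refine ⟨c₁ + c₂, ?_⟩
        simp only [Pi.add_apply, smul_add, Finset.sum_add_distrib, hc₁, hc₂]
    obtain ⟨c, hc⟩ := this x hx
    exact ⟨c, Subtype.ext ((hgval c).trans hc)⟩
  let T : ShortComplex (ModuleCat.{u} R) :=
    ModuleCat.shortComplexOfCompEqZero (LinearMap.ker g).subtype g (by
      apply LinearMap.ext
      intro x
      exact x.2)
  have hT : T.ShortExact := by
    apply ModuleCat.shortComplex_shortExact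
    · intro x
      change g x = 0 ↔ x ∈ Set.range (LinearMap.ker g).subtype
      constructor
      · intro hx; exact ⟨⟨x, hx⟩, rfl⟩
      · rintro ⟨y, rfl⟩; exact y.2
    · exact Submodule.subtype_injective _
    · exact hg
  have hq1 : Subsingleton (H I (n + 1) (LinearMap.ker g)) := by
    apply hvan
    intro r hr
    rw [Module.mem_annihilator] at hr ⊢
    rintro ⟨c, hc⟩
    apply Subtype.ext
    funext i
    exact hr (c i)
  have hgs : Function.Surjective ((localCohomology I n).map T.g) := by
    intro y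
    have h1 : δ I n hT y = 0 := hq1.elim _ _
    exact (exact_g_δ I n hT y).mp h1
  rw [eq_top_iff]
  intro y _
  have h1 : ((localCohomology I n).map (sesSub (p • ⊤ : Submodule R M)).g) y = 0 :=
    Subsingleton.elim _ _
  obtain ⟨w, rfl⟩ := (exact_f_g I n hS y).mp h1
  obtain ⟨v, rfl⟩ := hgs w
  have hcomp : T.g ≫ (sesSub (p • ⊤ : Submodule R M)).f =
      ∑ i : Fin k, (ModuleCat.ofHom (LinearMap.proj (φ := fun _ : Fin k => M) i) ≫
        ((a i) • 𝟙 (ModuleCat.of R M))) := by
    apply ModuleCat.hom_ext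
    apply LinearMap.ext
    intro c
    rw [ModuleCat.hom_sum]
    simp only [LinearMap.sum_apply]
    change ((g c : (p • ⊤ : Submodule R M)) : M) = _
    rw [hgval]
    rfl
  change ((localCohomology I n).map T.g ≫ (localCohomology I n).map
    (sesSub (p • ⊤ : Submodule R M)).f) v ∈ _
  rw [← Functor.map_comp, hcomp, map_sum']
  refine Submodule.sum_mem _ fun i _ => ?_
  rw [Functor.map_comp]
  change ((localCohomology I n).map ((a i) • 𝟙 (ModuleCat.of R M)))
    (((localCohomology I n).map _) v) ∈ _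
  rw [map_smul_id]
  exact Submodule.smul_mem_smul (hamem i) Submodule.mem_top

end rightexact

end Groth.Agent.Helper8.HLV
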