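import Groth.Agent.Lib.Helper8.HLV8

/-!
# B–S 19.2.9: the connectedness bound for complete local rings (S11669)
-/

set_option autoImplicit false
universe u

namespace Groth.Agent.Helper8.HLV

open IsLocalRing LocCoh Groth.Agent.Helper8.LC

section quot

variable {R : Type u} [CommRing R]

theorem dim_quot_quot (p a : Ideal R) :
    ringKrullDim ((R ⧸ p) ⧸ a.map (algebraMap R (R ⧸ p))) = ringKrullDim (R ⧸ (p ⊔ a)) := by
  rw [Ideal.Quotient.algebraMap_eq]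
  exact ringKrullDim_eq_of_ringEquiv (DoubleQuot.quotQuotEquivQuotSup p a)

theorem map_ne_top [IsLocalRing R] (p a : Ideal R) (hp : p ≠ ⊤) (ha : a ≠ ⊤) :
    a.map (algebraMap R (R ⧸ p)) ≠ ⊤ := by
  intro h
  have h1 := congrArg (Ideal.comap (algebraMap R (R ⧸ p))) h
  rw [Ideal.Quotient.algebraMap_eq, Ideal.comap_map_of_surjective' _ Ideal.Quotient.mk_surjective,
    Ideal.mk_ker, Ideal.comap_top] at h1
  exact (Ideal.IsPrime.ne_top (inferInstance : (maximalIdeal R).IsPrime))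
    (top_le_iff.mp (h1 ▸ sup_le (le_maximalIdeal ha) (le_maximalIdeal hp)))

theorem radical_map_inf (p a b : Ideal R) :
    (a.map (algebraMap R (R ⧸ p)) ⊓ b.map (algebraMap R (R ⧸ p))).radical =
      ((a ⊓ b).map (algebraMap R (R ⧸ p))).radical := by
  apply le_antisymm
  · rw [Ideal.radical_le_radical_iff]
    intro y hy
    refine ⟨2, ?_⟩
    rw [pow_two]
    have h1 : y * y ∈ a.map (algebraMap R (R ⧸ p)) * b.map (algebraMap R (R ⧸ p)) :=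
      Ideal.mul_mem_mul hy.1 hy.2
    rw [← Ideal.map_mul] at h1
    exact Ideal.map_mono Ideal.mul_le_inf h1
  · exact Ideal.radical_mono (le_inf (Ideal.map_mono inf_le_left) (Ideal.map_mono inf_le_right))

end quot

variable (R : Type u) [CommRing R] [IsNoetherianRing R] [IsLocalRing R]
  [IsAdicComplete (maximalIdeal R) R]

/-- In a complete local ring, for a prime `𝔮`: `dim R/𝔮 ≤ cd 𝔠 + dim R/(𝔮 + 𝔠)`. -/
theorem dim_quotient_prime_le (𝔮 : Ideal R) [𝔮.IsPrime] (𝔠 : Ideal R) (h𝔠 : 𝔠 ≠ ⊤) (k e : ℕ)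
    (hk : CdLE R 𝔠 k) (he : ringKrullDim (R ⧸ (𝔮 ⊔ 𝔠)) ≤ e) :
    ringKrullDim (R ⧸ 𝔮) ≤ ((k + e : ℕ) : WithBot ℕ∞) := by
  obtain ⟨D, hD⟩ := exists_nat_dim_quotient 𝔮 (Ideal.IsPrime.ne_top inferInstance)
  rw [hD]
  have hk' : CdLE (R ⧸ 𝔮) (𝔠.map (algebraMap R (R ⧸ 𝔮))) k :=
    Groth.Agent.Helper8.FBC.cdLE_map (B := R ⧸ 𝔮) 𝔠 k hk
  have := dim_le_of_cdLE (R := R ⧸ 𝔮) D hD e (𝔠.map (algebraMap R (R ⧸ 𝔮))) k
    (map_ne_top 𝔮 𝔠 (Ideal.IsPrime.ne_top inferInstance) h𝔠) (by rw [dim_quot_quot]; exact he) hk'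
  exact_mod_cast this

/-- **S11669.** -/
theorem main_S11669 (a b : Ideal R) (ha : a ≠ ⊤) (hb : b ≠ ⊤)
    (hab : ringKrullDim (R ⧸ (a ⊔ b)) < min (ringKrullDim (R ⧸ a)) (ringKrullDim (R ⧸ b)))
    (k : ℕ) (hk : CdLE R (a ⊓ b) k) :
    min (connDim (PrimeSpectrum R) + 1) (subdim (PrimeSpectrum R)) ≤
      ringKrullDim (R ⧸ (a ⊔ b)) + (k : WithBot ℕ∞) + 1 := by
  have hsup : a ⊔ b ≠ ⊤ := fun h =>
    (Ideal.IsPrime.ne_top (inferInstance : (maximalIdeal R).IsPrime))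
      (top_le_iff.mp (h ▸ sup_le (le_maximalIdeal ha) (le_maximalIdeal hb)))
  obtain ⟨δ, hδ⟩ := exists_nat_dim_quotient (a ⊔ b) hsup
  rw [hδ] at hab ⊢
  rw [lt_min_iff] at hab
  obtain ⟨ha_lt, hb_lt⟩ := hab
  have hinf : a ⊓ b ≠ ⊤ := fun h => ha (top_le_iff.mp (h ▸ inf_le_left))
  by_cases hcase : ∃ p ∈ minimalPrimes R, (δ : WithBot ℕ∞) < ringKrullDim (R ⧸ (p ⊔ a)) ∧
      (δ : WithBot ℕ∞) < ringKrullDim (R ⧸ (p ⊔ b))
  · -- Case 1
    obtain ⟨p, hp, hpa, hpb⟩ := hcase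
    haveI hpp : p.IsPrime := hp.1.1
    refine (min_le_right _ _).trans ((subdim_le_dim_quotient hp).trans ?_)
    haveI : IsAdicComplete (maximalIdeal (R ⧸ p)) (R ⧸ p) :=
      Groth.Agent.Helper8.CohenFact.isAdicComplete_of_surjective
        (Ideal.Quotient.mk p) Ideal.Quotient.mk_surjective
    obtain ⟨n', hn'⟩ := exists_nat_dim_quotient p hpp.ne_top
    have hk' : CdLE (R ⧸ p) (a.map (algebraMap R (R ⧸ p)) ⊓ b.map (algebraMap R (R ⧸ p))) k := by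
      intro M _ _ j hj
      rw [subsingleton_H_iff_of_radical_eq _ _ (radical_map_inf p a b)]
      exact Groth.Agent.Helper8.FBC.cdLE_map (B := R ⧸ p) (a ⊓ b) k hk M j hj
    have hdim : ringKrullDim ((R ⧸ p) ⧸ (a.map (algebraMap R (R ⧸ p)) ⊔
        b.map (algebraMap R (R ⧸ p)))) ≤ δ := by
      rw [← Ideal.map_sup, dim_quot_quot, ← hδ]
      exact dim_quotient_mono le_sup_right
    have hlt : (δ : WithBot ℕ∞) < min (ringKrullDim ((R ⧸ p) ⧸ a.map (algebraMap R (R ⧸ p))))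
        (ringKrullDim ((R ⧸ p) ⧸ b.map (algebraMap R (R ⧸ p)))) := by
      rw [dim_quot_quot, dim_quot_quot, lt_min_iff]
      exact ⟨hpa, hpb⟩
    have := le_add_of_cdLE_inf (R ⧸ p) n' hn' δ _ _ k (map_ne_top p a hpp.ne_top ha)
      (map_ne_top p b hpp.ne_top hb) hdim hlt hk'
    rw [hn']
    have h2 : ((n' : ℕ) : WithBot ℕ∞) ≤ ((k + δ + 1 : ℕ) : WithBot ℕ∞) := by exact_mod_cast this
    refine h2.trans (le_of_eq ?_)
    push_cast
    rw [add_comm (k : WithBot ℕ∞)]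
  · -- Case 2
    push Not at hcase
    refine (min_le_left _ _).trans ?_
    suffices hconn : connDim (PrimeSpectrum R) ≤ ((k + δ : ℕ) : WithBot ℕ∞) by
      have h2 := add_le_add_left hconn 1
      refine h2.trans (le_of_eq ?_)
      push_cast
      rw [add_comm (k : WithBot ℕ∞)]
    let A : Set (Set (PrimeSpectrum R)) := {Z | ∃ p ∈ minimalPrimes R,
      (δ : WithBot ℕ∞) < ringKrullDim (R ⧸ (p ⊔ a)) ∧ Z = PrimeSpectrum.zeroLocus (p : Set R)}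
    let B : Set (Set (PrimeSpectrum R)) := {Z | ∃ p ∈ minimalPrimes R,
      ringKrullDim (R ⧸ (p ⊔ a)) ≤ (δ : WithBot ℕ∞) ∧ Z = PrimeSpectrum.zeroLocus (p : Set R)}
    have hA : A ⊆ irreducibleComponents (PrimeSpectrum R) := by
      rintro Z ⟨p, hp, -, rfl⟩
      exact zeroLocus_mem_irreducibleComponents hp
    have hB : B ⊆ irreducibleComponents (PrimeSpectrum R) := by
      rintro Z ⟨p, hp, -, rfl⟩
      exact zeroLocus_mem_irreducibleComponents hp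
    have hAB : A ∪ B = irreducibleComponents (PrimeSpectrum R) := by
      apply Set.Subset.antisymm (Set.union_subset hA hB)
      intro Z hZ
      obtain ⟨p, hp, rfl⟩ := exists_minimalPrimes_of_mem_irreducibleComponents hZ
      rcases lt_or_ge (δ : WithBot ℕ∞) (ringKrullDim (R ⧸ (p ⊔ a))) with h | h
      · exact Or.inl ⟨p, hp, h, rfl⟩
      · exact Or.inr ⟨p, hp, h, rfl⟩
    have hAne : A.Nonempty := by
      obtain ⟨Q, hQ, haQ, hdQ⟩ := exists_prime_dim_eq a ha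
      obtain ⟨p, hp, hpQ⟩ := Ideal.exists_minimalPrimes_le (bot_le : (⊥ : Ideal R) ≤ Q)
      refine ⟨_, p, hp, ?_, rfl⟩
      refine lt_of_lt_of_le ha_lt ?_
      rw [← hdQ]
      exact dim_quotient_mono (sup_le hpQ haQ)
    have hBne : B.Nonempty := by
      obtain ⟨Q, hQ, hbQ, hdQ⟩ := exists_prime_dim_eq b hb
      obtain ⟨p, hp, hpQ⟩ := Ideal.exists_minimalPrimes_le (bot_le : (⊥ : Ideal R) ≤ Q)
      have h1 : (δ : WithBot ℕ∞) < ringKrullDim (R ⧸ (p ⊔ b)) := by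
        refine lt_of_lt_of_le hb_lt ?_
        rw [← hdQ]
        exact dim_quotient_mono (sup_le hpQ hbQ)
      refine ⟨_, p, hp, ?_, rfl⟩
      by_contra hcon
      rw [not_le] at hcon
      exact absurd h1 (not_lt.mpr (hcase p hp hcon))
    refine (connDim_le_of_pair A B hA hB hAne hBne hAB).trans ?_
    -- the closed set `W`
    have hWcl : IsClosed (⋃₀ A ∩ ⋃₀ B) :=
      (isClosed_sUnion_of_subset_irreducibleComponents hA).inter
        (isClosed_sUnion_of_subset_irreducibleComponents hB)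
    have hW : ⋃₀ A ∩ ⋃₀ B = PrimeSpectrum.zeroLocus
        ((PrimeSpectrum.vanishingIdeal (⋃₀ A ∩ ⋃₀ B) : Ideal R) : Set R) := by
      rw [PrimeSpectrum.zeroLocus_vanishingIdeal_eq_closure, hWcl.closure_eq]
    rw [hW, topDim_zeroLocus]
    set J := PrimeSpectrum.vanishingIdeal (⋃₀ A ∩ ⋃₀ B) with hJ
    by_cases hJtop : J = ⊤
    · haveI : Subsingleton (R ⧸ J) := Ideal.Quotient.subsingleton_iff.mpr hJtop
      rw [ringKrullDim_eq_bot_of_subsingleton]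
      exact bot_le
    obtain ⟨𝔮, h𝔮, hJ𝔮, hd𝔮⟩ := exists_prime_dim_eq J hJtop
    haveI := h𝔮
    rw [← hd𝔮]
    have hmem : (⟨𝔮, h𝔮⟩ : PrimeSpectrum R) ∈ ⋃₀ A ∩ ⋃₀ B := by
      rw [hW, PrimeSpectrum.mem_zeroLocus, SetLike.coe_subset_coe]
      exact hJ𝔮
    obtain ⟨⟨_, ⟨p, hp, hpA, rfl⟩, hp𝔮⟩, ⟨_, ⟨p', hp', hpB, rfl⟩, hp'𝔮⟩⟩ := hmem
    rw [PrimeSpectrum.mem_zeroLocus, SetLike.coe_subset_coe] at hp𝔮 hp'𝔮
    have hpb : ringKrullDim (R ⧸ (p ⊔ b)) ≤ (δ : WithBot ℕ∞) := hcase p hp hpA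
    apply dim_quotient_prime_le R 𝔮 (a ⊓ b) hinf k δ hk
    -- `dim R/(𝔮 + a ∩ b) ≤ δ`
    have h𝔮c : 𝔮 ⊔ (a ⊓ b) ≠ ⊤ := fun h =>
      (Ideal.IsPrime.ne_top (inferInstance : (maximalIdeal R).IsPrime))
        (top_le_iff.mp (h ▸ sup_le (le_maximalIdeal h𝔮.ne_top) (le_maximalIdeal hinf)))
    obtain ⟨𝔯, h𝔯, hle𝔯, hd𝔯⟩ := exists_prime_dim_eq (𝔮 ⊔ (a ⊓ b)) h𝔮c
    rw [← hd𝔯]
    have h𝔮𝔯 : 𝔮 ≤ 𝔯 := le_sup_left.trans hle𝔯
    rcases (Ideal.IsPrime.inf_le h𝔯).mp (le_sup_right.trans hle𝔯) with h | h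
    · exact (dim_quotient_mono (sup_le (hp'𝔮.trans h𝔮𝔯) h)).trans hpB
    · exact (dim_quotient_mono (sup_le (hp𝔮.trans h𝔮𝔯) h)).trans hpb

end Groth.Agent.Helper8.HLV
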