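import Groth.Agent.Lib.Helper8.HLV16
import Groth.Agent.Lib.Helper8.HLV9
import Groth.Agent.Lib.Helper8.Depth8
import Groth.Agent.Lib.Helper1.MatlisL

/-!
# Coassociated primes of the top local cohomology module (S17759)
-/

set_option autoImplicit false
universe u

namespace Groth.Agent.Helper8.HLV

open IsLocalRing LocCoh CategoryTheory Groth.Agent.Helper8.LC

section base

variable {R : Type u} [CommRing R] [IsNoetherianRing R] (I p : Ideal R)

theorem map_sup_quotient_self :
    (I ⊔ p).map (algebraMap R (R ⧸ p)) = I.map (algebraMap R (R ⧸ p)) := by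
  rw [Ideal.map_sup, Ideal.Quotient.algebraMap_eq, Ideal.map_quotient_self, sup_bot_eq]

/-- For a module over `R/p`: `H^i_I(N) = 0 ↔ H^i_{I+p}(N) = 0`. -/
theorem subsingleton_H_iff_sup (i : ℕ) (N : Type u) [AddCommGroup N] [Module (R ⧸ p) N]
    [Module R N] [IsScalarTower R (R ⧸ p) N] :
    Subsingleton (H I i N) ↔ Subsingleton (H (I ⊔ p) i N) := by
  obtain ⟨φ₁, -⟩ := exists_semilinear_equiv (R := R) (R' := R ⧸ p) I i N
  obtain ⟨φ₂, -⟩ := exists_semilinear_equiv (R := R) (R' := R ⧸ p) (I ⊔ p) i N
  rw [map_sup_quotient_self] at φ₂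
  exact ⟨fun _ => (φ₂.symm.trans φ₁).toEquiv.subsingleton,
    fun _ => (φ₁.symm.trans φ₂).toEquiv.subsingleton⟩

end base

section loc

variable {R : Type u} [CommRing R] [IsNoetherianRing R] [IsLocalRing R]

/-- Non-vanishing. -/
theorem nontrivial_H_of_radical_eq (I p : Ideal R) (n : ℕ)
    (N : Type u) [AddCommGroup N] [Module (R ⧸ p) N]
    [Module R N] [IsScalarTower R (R ⧸ p) N] [Module.Finite R N]
    (hN : Module.supportDim R N = n) (hrad : (I ⊔ p).radical = maximalIdeal R) :
    Nontrivial (H I n N) := by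
  have hnt : Nontrivial (H (maximalIdeal R) n N) :=
    Groth.Agent.Helper8.NV.nontrivial_H_supportDim N n hN
  by_contra hcon
  rw [not_nontrivial_iff_subsingleton, subsingleton_H_iff_sup I p n N,
    subsingleton_H_iff_of_radical_eq (I ⊔ p) (maximalIdeal R)
      (by rw [hrad, Ideal.IsPrime.radical inferInstance])] at hcon
  exact not_subsingleton _ hcon

variable [IsAdicComplete (maximalIdeal R) R]

/-- Vanishing (from the Hartshorne–Lichtenbaum theorem for the complete domain `R/p`). -/
theorem subsingleton_H_of_radical_ne (I p : Ideal R) [hp : p.IsPrime] (n : ℕ)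
    (hdim : ringKrullDim (R ⧸ p) = n) (hrad : (I ⊔ p).radical ≠ maximalIdeal R)
    (N : Type u) [AddCommGroup N] [Module (R ⧸ p) N]
    [Module R N] [IsScalarTower R (R ⧸ p) N] :
    Subsingleton (H I n N) := by
  obtain ⟨φ₁, -⟩ := exists_semilinear_equiv (R := R) (R' := R ⧸ p) I n N
  suffices h : Subsingleton (H (I.map (algebraMap R (R ⧸ p))) n N) from
    φ₁.symm.toEquiv.subsingleton
  haveI : IsAdicComplete (maximalIdeal (R ⧸ p)) (R ⧸ p) :=
    Groth.Agent.Helper8.CohenFact.isAdicComplete_of_surjective
      (Ideal.Quotient.mk p) Ideal.Quotient.mk_surjective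
  by_cases htop : I ⊔ p = ⊤
  · have h1 : I.map (algebraMap R (R ⧸ p)) = ⊤ := by
      rw [← map_sup_quotient_self, htop, Ideal.map_top]
    rw [h1]
    exact subsingleton_of_smul_injective (⊤ : Ideal (R ⧸ p)) 1 Submodule.mem_top n
      (ModuleCat.of (R ⧸ p) N) (fun z hz => by rwa [one_smul] at hz)
  · obtain ⟨e, he⟩ := exists_nat_dim_quotient (I ⊔ p) htop
    have he1 : 1 ≤ e := by
      by_contra hcon
      have he0 : e = 0 := by omega
      apply hrad
      exact radical_eq_maximalIdeal_of_dim_le_zero (I ⊔ p) htop (by rw [he, he0]; rfl)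
    refine subsingleton_H_of_complete (R ⧸ p) n hdim _ ?_ N n le_rfl
    intro q hq _
    rw [IsDomain.minimalPrimes_eq_singleton_bot, Set.mem_singleton_iff] at hq
    subst hq
    rw [sup_bot_eq, dim_quot_quot, sup_comm, he]
    exact_mod_cast he1

/-- **S17759.** -/
theorem main_S17759 (E : Type u) [AddCommGroup E] [Module R E]
    (f : ResidueField R →ₗ[R] E) (hf : InjHull.IsInjectiveHull f) (I : Ideal R)
    (M : Type u) [AddCommGroup M] [Module R M] [Module.Finite R M] (n : ℕ)
    (hn : Module.supportDim R M = n) :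
    associatedPrimes R (H I n M →ₗ[R] E) =
      {p : Ideal R | p.IsPrime ∧ Module.annihilator R M ≤ p ∧ ringKrullDim (R ⧸ p) = n ∧
        (I ⊔ p).radical = maximalIdeal R} := by
  haveI : Module.Injective R E := hf.isInjective
  have hdimM : ringKrullDim (R ⧸ Module.annihilator R M) = n := by
    rw [← Module.supportDim_eq_ringKrullDim_quotient_annihilator, hn]
  have hvan : ∀ (X : Type u) [AddCommGroup X] [Module R X] [Module.Finite R X],
      Module.annihilator R M ≤ Module.annihilator R X → Subsingleton (H I (n + 1) X) := by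
    intro X _ _ _ hX
    apply subsingleton_of_supportDim_lt
    refine lt_of_le_of_lt
      (Groth.Agent.Helper8.CanMod.supportDim_le_of_le_annihilator _ X hX) ?_
    rw [hdimM]
    exact_mod_cast Nat.lt_succ_self n
  have hNdim : ∀ p : Ideal R, Module.supportDim R (M ⧸ (p • ⊤ : Submodule R M)) ≤
      ringKrullDim (R ⧸ p) := by
    intro p
    apply Groth.Agent.Helper8.CanMod.supportDim_le_of_le_annihilator
    intro a ha
    rw [Module.mem_annihilator]
    intro x
    obtain ⟨m, rfl⟩ := Submodule.mkQ_surjective _ x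
    rw [← map_smul, Submodule.mkQ_apply, Submodule.Quotient.mk_eq_zero]
    exact Submodule.smul_mem_smul ha Submodule.mem_top
  haveI hst : ∀ p : Ideal R, IsScalarTower R (R ⧸ p) (M ⧸ (p • ⊤ : Submodule R M)) := fun p =>
    (Module.isTorsionBySet_quotient_ideal_smul M p).isScalarTower
  have hsub : ∀ p ∈ associatedPrimes R (H I n M →ₗ[R] E),
      p.IsPrime ∧ Module.annihilator R M ≤ p ∧ ringKrullDim (R ⧸ p) = n ∧
        (I ⊔ p).radical = maximalIdeal R := by
    intro p hp
    obtain ⟨hprime, φ, hφ⟩ := isAssociatedPrime_iff.mp hp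
    haveI := hprime
    have hφ0 : φ ≠ 0 := by
      rintro rfl
      apply hprime.ne_top
      rw [hφ, eq_top_iff]
      intro a _
      rw [Submodule.mem_colon_singleton, smul_zero]
      exact Submodule.zero_mem _
    have hpφ : ∀ a ∈ p, ∀ x : H I n M, φ (a • x) = 0 := by
      intro a ha x
      rw [hφ, Submodule.mem_colon_singleton] at ha
      have h1 : a • φ = 0 := (Submodule.mem_bot R).mp ha
      rw [map_smul, ← LinearMap.smul_apply, h1, LinearMap.zero_apply]
    have hann : Module.annihilator R M ≤ p := by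
      intro a ha
      rw [hφ, Submodule.mem_colon_singleton, Submodule.mem_bot]
      apply LinearMap.ext
      intro x
      rw [LinearMap.smul_apply, ← map_smul, LinearMap.zero_apply]
      have h0 : a • 𝟙 (ModuleCat.of R M) = 0 := by
        apply ModuleCat.hom_ext
        apply LinearMap.ext
        intro m
        exact Module.mem_annihilator.mp ha m
      have : a • x = 0 := by
        rw [← map_smul_id, h0]
        exact map_zero' I n _ _ x
      rw [this, map_zero]
    have hne : p • (⊤ : Submodule R (H I n M)) ≠ ⊤ := by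
      intro htop
      apply hφ0
      apply LinearMap.ext
      intro x
      have hx : x ∈ p • (⊤ : Submodule R (H I n M)) := by
        rw [htop]; exact Submodule.mem_top
      rw [LinearMap.zero_apply]
      refine Submodule.smul_induction_on hx (fun a ha x' _ => hpφ a ha x')
        (fun x₁ x₂ h₁ h₂ => by rw [map_add, h₁, h₂, add_zero])
    have hnt : Nontrivial (H I n (M ⧸ (p • ⊤ : Submodule R M))) := by
      by_contra hcon
      rw [not_nontrivial_iff_subsingleton] at hcon
      exact hne (smul_top_H_eq_top_of_subsingleton I n M p hvan)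
    have hdimp : ringKrullDim (R ⧸ p) = n := by
      apply le_antisymm
      · rw [← hdimM]
        exact dim_quotient_mono hann
      · by_contra hcon
        rw [not_le] at hcon
        have : Subsingleton (H I n (M ⧸ (p • ⊤ : Submodule R M))) :=
          subsingleton_of_supportDim_lt I _ n (lt_of_le_of_lt (hNdim p) hcon)
        exact not_subsingleton _ this
    refine ⟨hprime, hann, hdimp, ?_⟩
    by_contra hrad
    have : Subsingleton (H I n (M ⧸ (p • ⊤ : Submodule R M))) :=
      subsingleton_H_of_radical_ne I p n hdimp hrad _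
    exact not_subsingleton _ this
  apply Set.Subset.antisymm hsub
  rintro p ⟨hprime, hann, hdimp, hrad⟩
  haveI := hprime
  have hNsupp : Module.supportDim R (M ⧸ (p • ⊤ : Submodule R M)) = n := by
    apply le_antisymm
    · rw [← hdimp]; exact hNdim p
    · rw [← hdimp]
      refine Groth.Agent.Helper8.Depth.dim_quotient_le_supportDim_of_mem_support ⟨p, hprime⟩ ?_
      rw [Module.support_quotient]
      refine ⟨Module.mem_support_iff_of_finite.mpr hann, ?_⟩
      rw [PrimeSpectrum.mem_zeroLocus]
  haveI hnt : Nontrivial (H I n (M ⧸ (p • ⊤ : Submodule R M))) :=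
    nontrivial_H_of_radical_eq I p n _ hNsupp hrad
  have hne : p • (⊤ : Submodule R (H I n M)) ≠ ⊤ := by
    refine smul_top_H_ne_top_of_nontrivial I n M p (hvan _ ?_)
    intro a ha
    rw [Module.mem_annihilator] at ha ⊢
    rintro ⟨m, hm⟩
    exact Subtype.ext (ha m)
  obtain ⟨x, hx⟩ : ∃ x : H I n M, x ∉ p • (⊤ : Submodule R (H I n M)) := by
    by_contra hcon
    push Not at hcon
    exact hne (eq_top_iff.mpr fun x _ => hcon x)
  have hx0 : (p • (⊤ : Submodule R (H I n M))).mkQ x ≠ 0 := by
    rw [Submodule.mkQ_apply, Ne, Submodule.Quotient.mk_eq_zero]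
    exact hx
  obtain ⟨ψ, hψ⟩ := Groth.Agent.Helper1.MatlisL.exists_dual_ne_zero f hf hx0
  set φ : H I n M →ₗ[R] E := ψ ∘ₗ (p • (⊤ : Submodule R (H I n M))).mkQ with hφdef
  have hφ0 : φ ≠ 0 := by
    intro h
    apply hψ
    have := LinearMap.congr_fun h x
    rwa [hφdef, LinearMap.comp_apply, LinearMap.zero_apply] at this
  have hpφ : ∀ a ∈ p, a • φ = 0 := by
    intro a ha
    apply LinearMap.ext
    intro y
    rw [LinearMap.smul_apply, ← map_smul, hφdef, LinearMap.comp_apply, LinearMap.zero_apply]
    have : (p • (⊤ : Submodule R (H I n M))).mkQ (a • y) = 0 := by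
      rw [Submodule.mkQ_apply, Submodule.Quotient.mk_eq_zero]
      exact Submodule.smul_mem_smul ha Submodule.mem_top
    rw [this, map_zero]
  obtain ⟨q, hq, hle⟩ := exists_le_isAssociatedPrime_of_isNoetherianRing R φ hφ0
  have hpq : p ≤ q := by
    intro a ha
    apply hle
    rw [Submodule.mem_colon_singleton, hpφ a ha]
    exact Submodule.zero_mem _
  obtain ⟨hqprime, -, hqdim, -⟩ := hsub q hq
  have := Groth.Agent.Helper8.Depth.eq_of_le_of_dim_quotient_eq hpq n hdimp hqdim
  rw [this]
  exact hq

end loc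

end Groth.Agent.Helper8.HLV
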