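import Groth.Agent.Lib.Helper8.HLV1
import Groth.Agent.Lib.Helper8.Goren5
import Groth.Agent.Lib.Helper8.LC16

/-!
# Hartshorne–Lichtenbaum vanishing: the Gorenstein case
-/

set_option autoImplicit false
universe u

namespace Groth.Agent.Helper8.HLV

open IsLocalRing CategoryTheory Abelian LocCoh Groth.Agent.Helper8.LC RingTheory.Sequence

variable (G : Type u) [CommRing G] [IsDomain G] [IsGorensteinLocalRing G]

/-- The top `Ext` of a quotient by a symbolic power of a prime of dimension one vanishes. -/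
theorem subsingleton_ext_quotient_symb (d : ℕ) (hd : ringKrullDim G = d) (q : Ideal G)
    [q.IsPrime] (hq : ringKrullDim (G ⧸ q) = 1) (k : ℕ) (hk : k ≠ 0) :
    Subsingleton (Ext (ModuleCat.of G (G ⧸ symb q k)) (ModuleCat.of G G) d) := by
  have hne : symb q k ≠ ⊤ := fun h =>
    (Ideal.IsPrime.ne_top (inferInstance : q.IsPrime)) (top_le_iff.mp (h ▸ symb_le q hk))
  haveI : Nontrivial (G ⧸ symb q k) := Ideal.Quotient.nontrivial_iff.mpr hne
  rw [← Goren.depth_pos_iff_ext_top_subsingleton G d hd (G ⧸ symb q k)]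
  have hqm : q ≠ maximalIdeal G := by
    intro h
    have hf : IsField (G ⧸ q) := by
      rw [h]
      exact (Ideal.Quotient.maximal_ideal_iff_isField_quotient _).mp (maximalIdeal.isMaximal G)
    rw [ringKrullDim_eq_zero_of_isField hf] at hq
    exact zero_ne_one hq
  have hlt : q < maximalIdeal G :=
    lt_of_le_of_ne (le_maximalIdeal (Ideal.IsPrime.ne_top inferInstance)) hqm
  obtain ⟨x, hxm, hxq⟩ := Set.exists_of_ssubset hlt
  have hreg : IsSMulRegular (G ⧸ symb q k) x := by
    rw [isSMulRegular_iff_right_eq_zero_of_smul]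
    intro m hm
    obtain ⟨y, rfl⟩ := Ideal.Quotient.mk_surjective m
    have h1 : Ideal.Quotient.mk (symb q k) (x * y) = 0 := hm
    rw [Ideal.Quotient.eq_zero_iff_mem] at h1 ⊢
    exact mem_symb_of_mul_mem q hxq h1
  have hw : IsWeaklyRegular (G ⧸ symb q k) [x] := by
    rw [isWeaklyRegular_cons_iff]
    exact ⟨hreg, IsWeaklyRegular.nil _ _⟩
  have h1 := Depth.length_le_idealDepth (I := maximalIdeal G) hw (by
    intro r hr
    rw [List.mem_singleton] at hr
    rw [hr]; exact hxm)
  have h2 : (1 : ℕ∞) ≤ LocCoh.depth G (G ⧸ symb q k) := by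
    unfold LocCoh.depth
    simpa using h1
  exact Order.one_le_iff_pos.mp h2

variable [IsAdicComplete (maximalIdeal G) G]

/-- **Hartshorne–Lichtenbaum vanishing, Gorenstein domain case**: for a prime `q` of dimension one
in a complete Gorenstein local domain of dimension `d`, `H^d_q(G) = 0`. -/
theorem subsingleton_H_of_gorenstein (d : ℕ) (hd : ringKrullDim G = d) (q : Ideal G)
    [q.IsPrime] (hq : ringKrullDim (G ⧸ q) = 1) : Subsingleton (H q d G) := by
  apply subsingleton_of_forall_eq_zero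
  intro z
  obtain ⟨n, e, rfl⟩ := ι_rep q d (ModuleCat.of G G) z
  obtain ⟨k, hk, hle⟩ := exists_symb_le_pow q hq (max n 1)
  have hnk : n ≤ k := (le_max_left n 1).trans hk
  have hk0 : k ≠ 0 := by
    have : 1 ≤ k := (le_max_right n 1).trans hk
    omega
  have hle' : symb q k ≤ q ^ n := hle.trans (Ideal.pow_le_pow_right (le_max_left n 1))
  rw [← ι_trans q d hnk]
  let f1 : Q q k ⟶ ModuleCat.of G (G ⧸ symb q k) :=
    ModuleCat.ofHom (Submodule.mapQ _ _ LinearMap.id (pow_le_symb q k))
  let f2 : ModuleCat.of G (G ⧸ symb q k) ⟶ Q q n :=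
    ModuleCat.ofHom (Submodule.mapQ _ _ LinearMap.id hle')
  have hf : proj q hnk = f1 ≫ f2 := by
    apply ModuleCat.hom_ext
    apply Submodule.linearMap_qext
    rfl
  haveI := subsingleton_ext_quotient_symb G d hd q hq k hk0
  have h0 : (Ext.mk₀ f2).comp e (zero_add d) = 0 := Subsingleton.elim _ _
  rw [hf, ← Ext.mk₀_comp_mk₀_assoc, h0, Ext.comp_zero, map_zero]

end Groth.Agent.Helper8.HLV
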