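import Mathlib

/-!
# Mayer–Vietoris: the abstract dimension shifting step
-/

set_option autoImplicit false
universe u

namespace Groth.Agent.Helper8.MV

variable {R : Type u} [CommRing R]

/-- The abstract dimension-shifting step: an exact row `A0 → B0 → C0 → A1 → B1` mapping onto a
row `A0' → B0' → C0' ⇢ A1' → B1'` yields a connecting map making the second row exact. -/
theorem step {A0 B0 C0 A1 B1 A0' B0' C0' A1' B1' : Type u}
    [AddCommGroup A0] [Module R A0] [AddCommGroup B0] [Module R B0] [AddCommGroup C0] [Module R C0]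
    [AddCommGroup A1] [Module R A1] [AddCommGroup B1] [Module R B1]
    [AddCommGroup A0'] [Module R A0'] [AddCommGroup B0'] [Module R B0']
    [AddCommGroup C0'] [Module R C0'] [AddCommGroup A1'] [Module R A1']
    [AddCommGroup B1'] [Module R B1']
    (α0 : A0 →ₗ[R] B0) (β0 : B0 →ₗ[R] C0) (d0 : C0 →ₗ[R] A1) (α1 : A1 →ₗ[R] B1)
    (α0' : A0' →ₗ[R] B0') (β0' : B0' →ₗ[R] C0') (α1' : A1' →ₗ[R] B1')
    (pA0 : A0 →ₗ[R] A0') (pB0 : B0 →ₗ[R] B0') (pC0 : C0 →ₗ[R] C0') (pA1 : A1 →ₗ[R] A1')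
    (pB1 : B1 →ₗ[R] B1')
    (hcA : ∀ a, α0' (pA0 a) = pB0 (α0 a)) (hcB : ∀ b, β0' (pB0 b) = pC0 (β0 b))
    (hcA1 : ∀ a, α1' (pA1 a) = pB1 (α1 a))
    (h3 : Function.Exact α0 β0) (h4 : Function.Exact β0 d0) (h2 : Function.Exact d0 α1)
    (hβα' : ∀ a, β0' (α0' a) = 0)
    (hsB0 : Function.Surjective pB0) (hsC0 : Function.Surjective pC0)
    (hker : ∀ c, pC0 c = 0 → ∃ b, pB0 b = 0 ∧ β0 b = c)
    (hbA1 : Function.Bijective pA1) (hiB1 : Function.Injective pB1) :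
    ∃ d0' : C0' →ₗ[R] A1', Function.Exact α0' β0' ∧ Function.Exact β0' d0' ∧
      Function.Exact d0' α1' := by
  have hle : LinearMap.ker pC0 ≤ LinearMap.ker (pA1 ∘ₗ d0) := by
    intro c hc
    obtain ⟨b, -, rfl⟩ := hker c (LinearMap.mem_ker.mp hc)
    rw [LinearMap.mem_ker, LinearMap.comp_apply, h4.apply_apply_eq_zero, map_zero]
  let d0' : C0' →ₗ[R] A1' :=
    (LinearMap.ker pC0).liftQ (pA1 ∘ₗ d0) hle ∘ₗ (pC0.quotKerEquivOfSurjective hsC0).symm.toLinearMap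
  have hd0' : ∀ c, d0' (pC0 c) = pA1 (d0 c) := by
    intro c
    have h1 : (pC0.quotKerEquivOfSurjective hsC0).symm (pC0 c) = Submodule.Quotient.mk c := by
      rw [LinearEquiv.symm_apply_eq]
      rfl
    simp only [d0', LinearMap.coe_comp, LinearEquiv.coe_coe, Function.comp_apply]
    rw [h1, Submodule.liftQ_apply]
    rfl
  refine ⟨d0', ?_, ?_, ?_⟩
  · intro y
    constructor
    · intro hy
      obtain ⟨b, rfl⟩ := hsB0 y
      rw [hcB] at hy
      obtain ⟨bE, hbE, hbE'⟩ := hker _ hy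
      have h5 : β0 (b - bE) = 0 := by rw [map_sub, hbE', sub_self]
      obtain ⟨a, ha⟩ := (h3 _).mp h5
      refine ⟨pA0 a, ?_⟩
      rw [hcA, ha, map_sub, hbE, sub_zero]
    · rintro ⟨a, rfl⟩
      exact hβα' a
  · intro z
    constructor
    · intro hz
      obtain ⟨c, rfl⟩ := hsC0 z
      rw [hd0'] at hz
      have h5 : d0 c = 0 := hbA1.1 (by rw [hz, map_zero])
      obtain ⟨b, rfl⟩ := (h4 _).mp h5
      exact ⟨pB0 b, hcB b⟩
    · rintro ⟨y, rfl⟩
      obtain ⟨b, rfl⟩ := hsB0 y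
      rw [hcB, hd0', h4.apply_apply_eq_zero, map_zero]
  · intro w
    constructor
    · intro hw
      obtain ⟨a', rfl⟩ := hbA1.2 w
      rw [hcA1] at hw
      have h5 : α1 a' = 0 := hiB1 (by rw [hw, map_zero])
      obtain ⟨c, rfl⟩ := (h2 _).mp h5
      exact ⟨pC0 c, hd0' c⟩
    · rintro ⟨z, rfl⟩
      obtain ⟨c, rfl⟩ := hsC0 z
      rw [hd0', hcA1, h2.apply_apply_eq_zero, map_zero]

end Groth.Agent.Helper8.MV
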