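import Groth.Agent.Lib.Helper8.MV2
import Groth.Agent.Lib.Helper8.MV3
import Groth.Agent.Lib.Helper8.ExtRep3

/-!
# Mayer–Vietoris sequence for local cohomology
-/

set_option autoImplicit false
universe u

namespace Groth.Agent.Helper8.MV

open CategoryTheory Abelian localCohomology LocCoh Groth.Agent.Helper8.LC

variable {R : Type u} [CommRing R] [IsNoetherianRing R] (I J : Ideal R)

/-- the statement in degree `i` for a module. -/
def P (i : ℕ) (M : ModuleCat.{u} R) : Prop :=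
  ∃ d : (localCohomology (I ⊓ J) i).obj M →ₗ[R] (localCohomology (I ⊔ J) (i + 1)).obj M,
    Function.Exact (α I J i M) (β I J i M) ∧ Function.Exact (β I J i M) d ∧
      Function.Exact d (α I J (i + 1) M)

section

variable {N E₀ : Type u} [AddCommGroup N] [Module R N] [AddCommGroup E₀] [Module R E₀]
  [Module.Injective R E₀] (ι : N →ₗ[R] E₀) (hι : Function.Injective ι)

include hι in
/-- the base case, by the snake lemma. -/
theorem base : P I J 0 (ModuleCat.of R N) := by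
  have hS := sesQuot_shortExact ι hι
  haveI : Injective (sesQuot ι).X₂ := Module.injective_object_of_injective_module R E₀
  let S := sesQuot ι
  have hf := exact_zero I J S.X₂
  have hg := exact_zero I J S.X₃
  have h₁ : (α I J 0 S.X₃).comp ((localCohomology (I ⊔ J) 0).map S.g).hom =
      (mapB I J 0 S.g).comp (α I J 0 S.X₂) := by
    apply LinearMap.ext
    intro x
    exact α_map I J 0 S.g x
  have h₂ : (β I J 0 S.X₃).comp (mapB I J 0 S.g) =
      ((localCohomology (I ⊓ J) 0).map S.g).hom.comp (β I J 0 S.X₂) := by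
    apply LinearMap.ext
    intro y
    exact β_map I J 0 S.g y
  have hι₂ : Function.Exact (mapB I J 0 S.f) (mapB I J 0 S.g) :=
    exact_prodMap (exact_f_g I 0 hS) (exact_f_g J 0 hS)
  have hι₃ : Function.Exact ((localCohomology (I ⊓ J) 0).map S.f).hom
      ((localCohomology (I ⊓ J) 0).map S.g).hom := exact_f_g (I ⊓ J) 0 hS
  have hπ₁ : Function.Exact ((localCohomology (I ⊔ J) 0).map S.g).hom (δ (I ⊔ J) 0 hS) :=
    exact_g_δ (I ⊔ J) 0 hS
  have hπ₂ : Function.Exact (mapB I J 0 S.g) (δB I J 0 hS) :=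
    exact_prodMap (exact_g_δ I 0 hS) (exact_g_δ J 0 hS)
  have hf₂ : Function.Surjective (β I J 0 S.X₂) := β_surjective_of_injective I J 0 E₀
  have hg₁ : Function.Injective (α I J 0 S.X₃) := α_injective_zero I J S.X₃
  refine ⟨SnakeLemma.δ' ((localCohomology (I ⊔ J) 0).map S.g).hom (mapB I J 0 S.g)
    ((localCohomology (I ⊓ J) 0).map S.g).hom (α I J 0 S.X₂) (β I J 0 S.X₂) hf
    (α I J 0 S.X₃) (β I J 0 S.X₃) hg h₁ h₂ ((localCohomology (I ⊓ J) 0).map S.f).hom hι₃
    (δ (I ⊔ J) 0 hS) hπ₁ hf₂ hg₁, exact_zero I J S.X₁, ?_, ?_⟩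
  · refine SnakeLemma.exact_δ'_right _ _ _ _ _ hf _ _ hg h₁ h₂ (mapB I J 0 S.f) hι₂ _ hι₃ _ hπ₁
      hf₂ hg₁ (β I J 0 S.X₁) ?_ (map_f_injective_zero (I ⊓ J) hS)
    apply LinearMap.ext
    intro y
    exact β_map I J 0 S.f y
  · refine SnakeLemma.exact_δ'_left _ _ _ _ _ hf _ _ hg h₁ h₂ _ hι₃ _ hπ₁ (δB I J 0 hS) hπ₂
      hf₂ hg₁ (α I J 1 S.X₁) ?_ (δ_surjective_of_injective (I ⊔ J) 0 hS)
    apply LinearMap.ext
    intro x
    exact α_δ I J 0 hS x

include hι in
set_option maxRecDepth 8000 in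
/-- the induction step. -/
theorem succ_step (i : ℕ) (hQ : P I J i (ModuleCat.of R (E₀ ⧸ LinearMap.range ι))) :
    P I J (i + 1) (ModuleCat.of R N) := by
  have hS := sesQuot_shortExact ι hι
  haveI : Injective (sesQuot ι).X₂ := Module.injective_object_of_injective_module R E₀
  let S := sesQuot ι
  obtain ⟨d0, h3, h4, h2⟩ := hQ
  refine step (α I J i S.X₃) (β I J i S.X₃) d0 (α I J (i + 1) S.X₃)
    (α I J (i + 1) S.X₁) (β I J (i + 1) S.X₁) (α I J (i + 1 + 1) S.X₁)
    (δ (I ⊔ J) i hS) (δB I J i hS) (δ (I ⊓ J) i hS) (δ (I ⊔ J) (i + 1) hS) (δB I J (i + 1) hS)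
    (α_δ I J i hS) (β_δ I J i hS) (α_δ I J (i + 1) hS) h3 h4 h2 (β_α I J (i + 1) S.X₁)
    ?_ (δ_surjective_of_injective (I ⊓ J) i hS) ?_
    (δ_bijective_of_injective (I ⊔ J) (i + 1) (Nat.succ_pos i) hS) ?_
  · rintro ⟨y₁, y₂⟩
    obtain ⟨x₁, rfl⟩ := δ_surjective_of_injective I i hS y₁
    obtain ⟨x₂, rfl⟩ := δ_surjective_of_injective J i hS y₂
    exact ⟨(x₁, x₂), rfl⟩
  · intro c hc
    obtain ⟨cE, rfl⟩ := (exact_g_δ (I ⊓ J) i hS c).mp hc
    obtain ⟨bE, rfl⟩ := β_surjective_of_injective I J i E₀ cE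
    refine ⟨mapB I J i S.g bE, ?_, β_map I J i S.g bE⟩
    exact (exact_prodMap (exact_g_δ I i hS) (exact_g_δ J i hS)).apply_apply_eq_zero bE
  · rintro ⟨x₁, x₂⟩ ⟨y₁, y₂⟩ hxy
    have h5 : δ I (i + 1) hS x₁ = δ I (i + 1) hS y₁ := congrArg Prod.fst hxy
    have h6 : δ J (i + 1) hS x₂ = δ J (i + 1) hS y₂ := congrArg Prod.snd hxy
    rw [(δ_bijective_of_injective I (i + 1) (Nat.succ_pos i) hS).1 h5,
      (δ_bijective_of_injective J (i + 1) (Nat.succ_pos i) hS).1 h6]

end

theorem P_all (i : ℕ) : ∀ (N : Type u) [AddCommGroup N] [Module R N], P I J i (ModuleCat.of R N) := by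
  induction i with
  | zero =>
    intro N _ _
    obtain ⟨E₀, _, _, _, ι, hι⟩ := Groth.Agent.Helper8.ExtRep.exists_injective_embedding (R := R) N
    exact base I J ι hι
  | succ i ih =>
    intro N _ _
    obtain ⟨E₀, _, _, _, ι, hι⟩ := Groth.Agent.Helper8.ExtRep.exists_injective_embedding (R := R) N
    exact succ_step I J ι hι i (ih _)

/-- The Mayer–Vietoris sequence. -/
theorem main (M : Type u) [AddCommGroup M] [Module R M] :
    ∃ d : ∀ i : ℕ, (localCohomology (I ⊓ J) i).obj (ModuleCat.of R M) →ₗ[R]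
        (localCohomology (I ⊔ J) (i + 1)).obj (ModuleCat.of R M),
      Function.Injective (α I J 0 (ModuleCat.of R M)) ∧
      (∀ i, LinearMap.ker (α I J (i + 1) (ModuleCat.of R M)) = LinearMap.range (d i)) ∧
      (∀ i, LinearMap.ker (β I J i (ModuleCat.of R M)) =
        LinearMap.range (α I J i (ModuleCat.of R M))) ∧
      (∀ i, LinearMap.ker (d i) = LinearMap.range (β I J i (ModuleCat.of R M))) := by
  choose d h3 h4 h2 using fun i => P_all I J i M
  exact ⟨d, α_injective_zero I J _, fun i => LinearMap.exact_iff.mp (h2 i),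
    fun i => LinearMap.exact_iff.mp (h3 i), fun i => LinearMap.exact_iff.mp (h4 i)⟩

end Groth.Agent.Helper8.MV
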