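import Mathlib

/-!
# Chains of systems of parameters changing one coordinate at a time

For a Noetherian local ring `A`, an ideal `I`, and two tuples `u v : Fin e → A` in the maximal
ideal with `𝔪 ≤ rad (I + (u))`, `𝔪 ≤ rad (I + (v))`, one can pass from `u` to `v` through such
tuples changing one coordinate at a time.  (No dimension hypothesis needed: prime avoidance and
Krull's principal ideal theorem.)
-/

namespace Groth.Agent.Helper8.SopChain

universe u

open IsLocalRing

section conv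

variable {α : Type*} {r : α → α → Prop}

/-- Unfold a `ReflTransGen` chain into an indexed sequence. -/
theorem exists_seq_of_reflTransGen {a b : α} (h : Relation.ReflTransGen r a b) :
    ∃ (m : ℕ) (w : Fin (m + 1) → α), w 0 = a ∧ w (Fin.last m) = b ∧
      ∀ k : Fin m, r (w k.castSucc) (w k.succ) := by
  induction h with
  | refl => exact ⟨0, fun _ => a, rfl, rfl, fun k => k.elim0⟩
  | @tail b c _ hbc ih =>
    obtain ⟨m, w, h0, hl, hstep⟩ := ih
    refine ⟨m + 1, Fin.snoc w c, ?_, ?_, ?_⟩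
    · have : (0 : Fin (m + 1 + 1)) = Fin.castSucc (0 : Fin (m + 1)) := rfl
      rw [this, Fin.snoc_castSucc]; exact h0
    · exact Fin.snoc_last _ _
    · intro k
      refine Fin.lastCases ?_ (fun k' => ?_) k
      · rw [Fin.snoc_castSucc, Fin.succ_last, Fin.snoc_last, hl]; exact hbc
      · rw [Fin.snoc_castSucc, ← Fin.castSucc_succ, Fin.snoc_castSucc]
        exact hstep k'

end conv

variable {A : Type u} [CommRing A] [IsNoetherianRing A] [IsLocalRing A]

/-- Prime avoidance in a local ring: finitely many primes different from the maximal ideal are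
avoided by some element of the maximal ideal. -/
theorem exists_mem_maximalIdeal_notMem (S : Set (Ideal A)) (hS : S.Finite)
    (hp : ∀ p ∈ S, p.IsPrime ∧ p ≠ maximalIdeal A) :
    ∃ z ∈ maximalIdeal A, ∀ p ∈ S, z ∉ p := by
  classical
  by_contra hcon
  push Not at hcon
  have hsub : ((maximalIdeal A : Ideal A) : Set A) ⊆
      ⋃ p ∈ (↑hS.toFinset : Set (Ideal A)), ((id p : Ideal A) : Set A) := by
    intro z hz
    obtain ⟨p, hpS, hzp⟩ := hcon z hz
    refine Set.mem_iUnion₂.mpr ⟨p, ?_, hzp⟩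
    simpa using hpS
  obtain ⟨p, hpS, hle⟩ := (Ideal.subset_union_prime (f := id) (⊥ : Ideal A) ⊥ (by
    intro i hi _ _
    exact (hp i (by simpa using hi)).1)).mp hsub
  have hpS' : p ∈ S := by simpa using hpS
  obtain ⟨hpp, hpm⟩ := hp p hpS'
  exact hpm ((IsLocalRing.maximalIdeal.isMaximal A).eq_of_le hpp.ne_top hle).symm

/-- Key step: if `𝔪 ≤ rad (J + (x))` with `x ∈ 𝔪`, and `z` avoids all minimal primes of `J` other
than `𝔪`, then `𝔪 ≤ rad (J + (z))`. -/
theorem le_radical_sup_span_singleton (J : Ideal A) (x z : A) (hx : x ∈ maximalIdeal A)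
    (hxJ : maximalIdeal A ≤ (J ⊔ Ideal.span {x}).radical)
    (hz : ∀ p ∈ J.minimalPrimes, p ≠ maximalIdeal A → z ∉ p) :
    maximalIdeal A ≤ (J ⊔ Ideal.span {z}).radical := by
  rw [Ideal.radical_eq_sInf]
  refine le_sInf ?_
  rintro q ⟨hq, hqp⟩
  haveI := hqp
  obtain ⟨p, hpmin, hpq⟩ := Ideal.exists_minimalPrimes_le (le_sup_left.trans hq)
  by_cases hpm : p = maximalIdeal A
  · exact hpm ▸ hpq
  by_contra hmq
  have hzp := hz p hpmin hpm
  have hzq : z ∈ q := hq (Ideal.mem_sup_right (Ideal.mem_span_singleton_self z))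
  have hqm : q ≤ maximalIdeal A := IsLocalRing.le_maximalIdeal hqp.ne_top
  haveI : p.IsPrime := hpmin.1.1
  have hpq' : p < q := lt_of_le_of_ne hpq (fun h => hzp (h ▸ hzq))
  have hqm' : q < maximalIdeal A := lt_of_le_of_ne hqm (fun h => hmq (h ▸ le_rfl))
  have hmmin : maximalIdeal A ∈ (p ⊔ Ideal.span {x}).minimalPrimes := by
    refine ⟨⟨inferInstance,
      sup_le (hpq.trans hqm) ((Ideal.span_singleton_le_iff_mem _).mpr hx)⟩, ?_⟩
    rintro r ⟨hr, hrle⟩ _
    have h1 : J ⊔ Ideal.span {x} ≤ r :=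
      sup_le (hpmin.1.2.trans (le_sup_left.trans hrle)) (le_sup_right.trans hrle)
    exact hxJ.trans (hr.radical_le_iff.mpr h1)
  have hht := Ideal.map_height_le_one_of_mem_minimalPrimes hmmin
  have hker : RingHom.ker (Ideal.Quotient.mk p) = p := Ideal.mk_ker
  haveI hqprime : (q.map (Ideal.Quotient.mk p)).IsPrime :=
    Ideal.map_isPrime_of_surjective Ideal.Quotient.mk_surjective (by rw [hker]; exact hpq)
  have hcomap : ∀ K : Ideal A, p ≤ K →
      (K.map (Ideal.Quotient.mk p)).comap (Ideal.Quotient.mk p) = K := by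
    intro K hK
    rw [Ideal.comap_map_of_surjective _ Ideal.Quotient.mk_surjective, ← RingHom.ker_eq_comap_bot,
      hker]
    exact sup_eq_left.mpr hK
  have h1 : (⊥ : Ideal (A ⧸ p)) < q.map (Ideal.Quotient.mk p) := by
    refine lt_of_le_of_ne bot_le (fun h => ?_)
    have := hcomap q hpq
    rw [← h, ← RingHom.ker_eq_comap_bot, hker] at this
    exact hpq'.ne this
  have h2 : q.map (Ideal.Quotient.mk p) < (maximalIdeal A).map (Ideal.Quotient.mk p) := by
    refine lt_of_le_of_ne (Ideal.map_mono hqm) (fun h => ?_)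
    have e1 := hcomap q hpq
    have e2 := hcomap (maximalIdeal A) (hpq.trans hqm)
    rw [h, e2] at e1
    exact hqm'.ne e1.symm
  haveI : (⊥ : Ideal (A ⧸ p)).IsPrime := Ideal.isPrime_bot
  have hb := Ideal.height_strict_mono_of_isPrime h1
  have hc := Ideal.height_strict_mono_of_isPrime h2
  have h3 : (q.map (Ideal.Quotient.mk p)).height < 1 := lt_of_lt_of_le hc hht
  rw [Order.lt_one_iff] at h3
  rw [h3] at hb
  exact not_lt_zero hb

/-- "System of parameters relative to `I`". -/
def IsRelSop (I : Ideal A) {e : ℕ} (w : Fin e → A) : Prop :=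
  (∀ i, w i ∈ maximalIdeal A) ∧ maximalIdeal A ≤ (I ⊔ Ideal.span (Set.range w)).radical

/-- The one-coordinate-change relation among relative systems of parameters. -/
def Step (I : Ideal A) {e : ℕ} (w w' : Fin e → A) : Prop :=
  IsRelSop I w ∧ IsRelSop I w' ∧ ∃ i : Fin e, ∀ i' : Fin e, i' ≠ i → w i' = w' i'

theorem span_range_eq {e : ℕ} (w : Fin (e + 1) → A) :
    Ideal.span (Set.range w) = Ideal.span {w 0} ⊔ Ideal.span (Set.range (Fin.tail w)) := by
  conv_lhs => rw [← Fin.cons_self_tail w, Fin.range_cons]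
  rw [Set.insert_eq, Ideal.span_union]

theorem isRelSop_succ_iff (I : Ideal A) {e : ℕ} (w : Fin (e + 1) → A) :
    IsRelSop I w ↔ w 0 ∈ maximalIdeal A ∧ IsRelSop (I ⊔ Ideal.span {w 0}) (Fin.tail w) := by
  unfold IsRelSop
  rw [span_range_eq, sup_assoc]
  constructor
  · rintro ⟨h1, h2⟩
    exact ⟨h1 0, fun i => h1 i.succ, h2⟩
  · rintro ⟨h0, h1, h2⟩
    refine ⟨fun i => ?_, h2⟩
    refine Fin.cases h0 (fun j => ?_) i
    exact h1 j

theorem reflTransGen_step (e : ℕ) : ∀ (I : Ideal A) (u v : Fin e → A),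
    IsRelSop I u → IsRelSop I v → Relation.ReflTransGen (Step I) u v := by
  induction e with
  | zero =>
    intro I u v _ _
    have : u = v := Subsingleton.elim _ _
    rw [this]
  | succ e ih =>
    intro I u v hu hv
    classical
    set Ju := I ⊔ Ideal.span (Set.range (Fin.tail u)) with hJu
    set Jv := I ⊔ Ideal.span (Set.range (Fin.tail v)) with hJv
    -- choose z
    obtain ⟨z, hzm, hz⟩ := exists_mem_maximalIdeal_notMem
      ({p | (p ∈ Ju.minimalPrimes ∨ p ∈ Jv.minimalPrimes) ∧ p ≠ maximalIdeal A})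
      (((Ju.finite_minimalPrimes_of_isNoetherianRing).union
        (Jv.finite_minimalPrimes_of_isNoetherianRing)).subset (fun p hp => hp.1))
      (fun p hp => ⟨hp.1.elim (fun h => h.1.1) (fun h => h.1.1), hp.2⟩)
    have hu0 : maximalIdeal A ≤ (Ju ⊔ Ideal.span {u 0}).radical := by
      have := hu.2
      rwa [span_range_eq, sup_comm (Ideal.span {u 0}), ← sup_assoc] at this
    have hv0 : maximalIdeal A ≤ (Jv ⊔ Ideal.span {v 0}).radical := by
      have := hv.2
      rwa [span_range_eq, sup_comm (Ideal.span {v 0}), ← sup_assoc] at this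
    have hzu : maximalIdeal A ≤ (Ju ⊔ Ideal.span {z}).radical :=
      le_radical_sup_span_singleton Ju (u 0) z (hu.1 0) hu0
        (fun p hp hpm => hz p ⟨Or.inl hp, hpm⟩)
    have hzv : maximalIdeal A ≤ (Jv ⊔ Ideal.span {z}).radical :=
      le_radical_sup_span_singleton Jv (v 0) z (hv.1 0) hv0
        (fun p hp hpm => hz p ⟨Or.inr hp, hpm⟩)
    have hu' : IsRelSop (I ⊔ Ideal.span {z}) (Fin.tail u) :=
      ⟨fun i => hu.1 i.succ, by rwa [sup_right_comm]⟩
    have hv' : IsRelSop (I ⊔ Ideal.span {z}) (Fin.tail v) :=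
      ⟨fun i => hv.1 i.succ, by rwa [sup_right_comm]⟩
    have hcons : ∀ w : Fin e → A, IsRelSop (I ⊔ Ideal.span {z}) w →
        IsRelSop I (Fin.cons z w : Fin (e + 1) → A) := by
      intro w hw
      rw [isRelSop_succ_iff]
      simp only [Fin.cons_zero, Fin.tail_cons]
      exact ⟨hzm, hw⟩
    have hchain := ih (I ⊔ Ideal.span {z}) (Fin.tail u) (Fin.tail v) hu' hv'
    have hlift : Relation.ReflTransGen (Step I) (Fin.cons z (Fin.tail u) : Fin (e + 1) → A)
        (Fin.cons z (Fin.tail v)) := by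
      refine Relation.ReflTransGen.lift (fun w : Fin e → A => (Fin.cons z w : Fin (e + 1) → A))
        ?_ _ _ hchain
      rintro a b ⟨ha, hb, i, hi⟩
      refine ⟨hcons a ha, hcons b hb, i.succ, fun i' hi' => ?_⟩
      refine Fin.cases ?_ (fun j hj => ?_) i' hi'
      · intro _; simp
      · simp only [Fin.cons_succ]
        exact hi j (fun h => hj (by rw [h]))
    have hfirst : Step I u (Fin.cons z (Fin.tail u)) := by
      refine ⟨hu, hcons _ hu', 0, fun i' hi' => ?_⟩
      refine Fin.cases ?_ (fun j hj => ?_) i' hi'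
      · intro h; exact absurd rfl h
      · simp [Fin.tail]
    have hlast : Step I (Fin.cons z (Fin.tail v)) v := by
      refine ⟨hcons _ hv', hv, 0, fun i' hi' => ?_⟩
      refine Fin.cases ?_ (fun j hj => ?_) i' hi'
      · intro h; exact absurd rfl h
      · simp [Fin.tail]
    exact Relation.ReflTransGen.head hfirst (Relation.ReflTransGen.tail hlift hlast)

/-- Final form. -/
theorem exists_chain (d : ℕ) (u v : Fin d → A)
    (hu : ∀ i, u i ∈ maximalIdeal A) (hu' : maximalIdeal A ≤ (Ideal.span (Set.range u)).radical)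
    (hv : ∀ i, v i ∈ maximalIdeal A) (hv' : maximalIdeal A ≤ (Ideal.span (Set.range v)).radical) :
    ∃ (m : ℕ) (w : Fin (m + 1) → Fin d → A), w 0 = u ∧ w (Fin.last m) = v ∧
      (∀ k : Fin (m + 1), (∀ i, w k i ∈ maximalIdeal A) ∧
        maximalIdeal A ≤ (Ideal.span (Set.range (w k))).radical) ∧
      (∀ k : Fin m, ∃ i : Fin d, ∀ i' : Fin d, i' ≠ i → w k.castSucc i' = w k.succ i') := by
  have hsu : IsRelSop (⊥ : Ideal A) u := ⟨hu, by rwa [bot_sup_eq]⟩
  have hsv : IsRelSop (⊥ : Ideal A) v := ⟨hv, by rwa [bot_sup_eq]⟩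
  obtain ⟨m, w, h0, hl, hstep⟩ := exists_seq_of_reflTransGen (reflTransGen_step d ⊥ u v hsu hsv)
  refine ⟨m, w, h0, hl, fun k => ?_, fun k => (hstep k).2.2⟩
  have hk : IsRelSop (⊥ : Ideal A) (w k) := by
    rcases Fin.eq_zero_or_eq_succ k with rfl | ⟨k', rfl⟩
    · rw [h0]; exact hsu
    · cases m with
      | zero => exact absurd k'.2 (by simp)
      | succ m => 
        have := (hstep ⟨k'.1, by have := k'.2; omega⟩).2.1
        convert this using 2
  exact ⟨hk.1, by have := hk.2; rwa [bot_sup_eq] at this⟩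

end Groth.Agent.Helper8.SopChain
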