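import Groth.Agent.Lib.Helper8.HLV5
import Groth.Agent.Lib.Helper8.MV4
import Groth.Agent.Lib.Helper8.SopChain

/-!
# Faltings' connectedness bound for complete local domains (B–S 19.2.8)
-/

set_option autoImplicit false
universe u

namespace Groth.Agent.Helper8.HLV

open IsLocalRing LocCoh Groth.Agent.Helper8.LC

section dim

theorem natCast_lt_of_succ_lt_add_one {a : WithBot ℕ∞} {n : ℕ}
    (h : ((n + 1 : ℕ) : WithBot ℕ∞) < a + 1) : (n : WithBot ℕ∞) < a := by
  cases a with
  | bot => exact absurd h (by simp)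
  | coe c =>
    cases c with
    | top => exact WithBot.coe_lt_coe.mpr (ENat.coe_lt_top n)
    | coe c' =>
      have h1 : ((n + 1 : ℕ) : WithBot ℕ∞) < ((c' + 1 : ℕ) : WithBot ℕ∞) := by exact_mod_cast h
      have h2 : n + 1 < c' + 1 := by exact_mod_cast h1
      have h3 : n < c' := by omega
      exact_mod_cast h3

variable {R : Type u} [CommRing R]

theorem supportDim_quotSMulTop_quotient (I : Ideal R) (x : R) :
    Module.supportDim R (QuotSMulTop x (R ⧸ I)) = ringKrullDim (R ⧸ (I ⊔ Ideal.span {x})) := by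
  rw [← Module.supportDim_quotient_eq_ringKrullDim]
  unfold Module.supportDim
  have : Module.support R (QuotSMulTop x (R ⧸ I)) =
      Module.support R (R ⧸ (I ⊔ Ideal.span {x})) := by
    rw [Module.support_quotSMulTop, Module.support_eq_zeroLocus, Module.support_eq_zeroLocus,
      Ideal.annihilator_quotient, Ideal.annihilator_quotient, PrimeSpectrum.zeroLocus_sup,
      PrimeSpectrum.zeroLocus_span]
  rw [this]

theorem dim_quotient_sup_span_succ_le (I : Ideal R) (x : R)
    (hx : ∀ p ∈ I.minimalPrimes, x ∉ p) :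
    ringKrullDim (R ⧸ (I ⊔ Ideal.span {x})) + 1 ≤ ringKrullDim (R ⧸ I) := by
  rw [← supportDim_quotSMulTop_quotient, ← Module.supportDim_quotient_eq_ringKrullDim I]
  apply Module.supportDim_quotSMulTop_succ_le_of_notMem_minimalPrimes
  rwa [Ideal.annihilator_quotient]

theorem dim_quotient_le_sup_span_succ [IsNoetherianRing R] [IsLocalRing R] (I : Ideal R) (x : R)
    (hx : x ∈ maximalIdeal R) :
    ringKrullDim (R ⧸ I) ≤ ringKrullDim (R ⧸ (I ⊔ Ideal.span {x})) + 1 := by
  rw [← supportDim_quotSMulTop_quotient, ← Module.supportDim_quotient_eq_ringKrullDim I]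
  exact Module.supportDim_le_supportDim_quotSMulTop_succ hx

/-- if the quotient has dimension `≤ 0` then the radical is the maximal ideal. -/
theorem radical_eq_maximalIdeal_of_dim_le_zero [IsLocalRing R] (I : Ideal R) (hI : I ≠ ⊤)
    (h : ringKrullDim (R ⧸ I) ≤ 0) : I.radical = maximalIdeal R := by
  have h0 : Ring.KrullDimLE 0 (R ⧸ I) := Ring.krullDimLE_iff.mpr h
  rw [Ideal.krullDimLE_zero_quotient_iff_forall_minimalPrimes_isMaximal] at h0
  rw [← Ideal.sInf_minimalPrimes]
  apply le_antisymm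
  · obtain ⟨p, hp, -⟩ := Ideal.exists_minimalPrimes_le (le_maximalIdeal hI)
    exact (sInf_le hp).trans (le_maximalIdeal hp.1.1.ne_top)
  · refine le_sInf fun p hp => ?_
    rw [IsLocalRing.eq_maximalIdeal (h0 p hp)]

/-- if the maximal ideal is minimal over `I` then `dim R/I ≤ 0`. -/
theorem dim_le_zero_of_maximalIdeal_mem_minimalPrimes [IsLocalRing R] (I : Ideal R)
    (h : maximalIdeal R ∈ I.minimalPrimes) : ringKrullDim (R ⧸ I) ≤ 0 := by
  have h0 : Ring.KrullDimLE 0 (R ⧸ I) := by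
    rw [Ideal.krullDimLE_zero_quotient_iff_forall_minimalPrimes_isMaximal]
    intro J hJ
    have hJm : J ≤ maximalIdeal R := le_maximalIdeal hJ.1.1.ne_top
    have : maximalIdeal R ≤ J := h.2 hJ.1 hJm
    rw [le_antisymm hJm this]
    exact maximalIdeal.isMaximal R
  exact Ring.krullDimLE_iff.mp h0

end dim

variable (R : Type u) [CommRing R] [IsDomain R] [IsNoetherianRing R] [IsLocalRing R]
  [IsAdicComplete (maximalIdeal R) R]

theorem radical_inf_sup_span (a b : Ideal R) (x : R) :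
    ((a ⊔ Ideal.span {x}) ⊓ (b ⊔ Ideal.span {x})).radical = ((a ⊓ b) ⊔ Ideal.span {x}).radical := by
  apply le_antisymm
  · rw [Ideal.radical_le_radical_iff]
    intro y hy
    obtain ⟨⟨u, hu, r, hr, hy1⟩, ⟨v, hv, s, hs, hy2⟩⟩ :=
      And.intro (Submodule.mem_sup.mp hy.1) (Submodule.mem_sup.mp hy.2)
    refine ⟨2, ?_⟩
    have h1 : y ^ 2 = u * v + (u * s + r * v + r * s) := by
      rw [pow_two]
      nth_rw 1 [← hy1]
      rw [← hy2]
      ring
    rw [h1]
    refine Ideal.add_mem _ (Ideal.mem_sup_left ⟨Ideal.mul_mem_right _ _ hu,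
      Ideal.mul_mem_left _ _ hv⟩) (Ideal.mem_sup_right ?_)
    exact Ideal.add_mem _ (Ideal.add_mem _ (Ideal.mul_mem_left _ _ hs)
      (Ideal.mul_mem_right _ _ hr)) (Ideal.mul_mem_right _ _ hr)
  · apply Ideal.radical_mono
    exact le_inf (sup_le_sup_right inf_le_left _) (sup_le_sup_right inf_le_right _)

/-- B–S 19.2.8 with an explicit bound on `dim R/(a + b)`. -/
theorem le_add_of_cdLE_inf (n : ℕ) (hn : ringKrullDim R = n) :
    ∀ (δ : ℕ) (a b : Ideal R) (k : ℕ), a ≠ ⊤ → b ≠ ⊤ →
      ringKrullDim (R ⧸ (a ⊔ b)) ≤ δ →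
      (δ : WithBot ℕ∞) < min (ringKrullDim (R ⧸ a)) (ringKrullDim (R ⧸ b)) →
      CdLE R (a ⊓ b) k → n ≤ k + δ + 1 := by
  intro δ
  induction δ with
  | zero =>
    intro a b k ha hb hdim hlt hk
    have ha0 : 0 < ringKrullDim (R ⧸ a) := lt_of_lt_of_le hlt (min_le_left _ _)
    have hb0 : 0 < ringKrullDim (R ⧸ b) := lt_of_lt_of_le hlt (min_le_right _ _)
    haveI h1 := subsingleton_H_of_complete_domain R n hn a ha0
    haveI h2 := subsingleton_H_of_complete_domain R n hn b hb0
    have hn0 : n ≠ 0 := by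
      rintro rfl
      have : ringKrullDim (R ⧸ a) ≤ 0 := by
        have := ringKrullDim_quotient_le a
        rwa [hn] at this
      exact absurd ha0 (not_lt.mpr this)
    obtain ⟨i, rfl⟩ : ∃ i, n = i + 1 := ⟨n - 1, by omega⟩
    have hab : a ⊔ b ≠ ⊤ := fun h =>
      (Ideal.IsPrime.ne_top (inferInstance : (maximalIdeal R).IsPrime))
        (top_le_iff.mp (h ▸ sup_le (le_maximalIdeal ha) (le_maximalIdeal hb)))
    have hrad := radical_eq_maximalIdeal_of_dim_le_zero (a ⊔ b) hab (by simpa using hdim)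
    have hnt : Nontrivial (H (a ⊔ b) (i + 1) R) := by
      have h3 : Nontrivial (H (maximalIdeal R) (i + 1) R) :=
        Groth.Agent.Helper8.NV.nontrivial_H_supportDim R (i + 1) (by
          rw [Module.supportDim_self_eq_ringKrullDim, hn])
      by_contra hcon
      rw [not_nontrivial_iff_subsingleton,
        subsingleton_H_iff_of_radical_eq (a ⊔ b) (maximalIdeal R)
          (by rw [hrad, Ideal.IsPrime.radical inferInstance])] at hcon
      exact not_subsingleton _ hcon
    obtain ⟨d, -, hd, -, -⟩ := Groth.Agent.Helper8.MV.main a b R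
    have hsurj : Function.Surjective (d i) := by
      rw [← LinearMap.range_eq_top, ← hd i, LinearMap.ker_eq_top]
      exact Subsingleton.elim _ _
    have hnt' : Nontrivial (H (a ⊓ b) i R) := hsurj.nontrivial
    by_contra hcon
    have hki : k < i := by omega
    exact not_subsingleton _ (hk R i hki)
  | succ δ ih =>
    intro a b k ha hb hdim hlt hk
    by_cases hdim' : ringKrullDim (R ⧸ (a ⊔ b)) ≤ δ
    · have hlt' : (δ : WithBot ℕ∞) < min (ringKrullDim (R ⧸ a)) (ringKrullDim (R ⧸ b)) := by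
        refine lt_trans ?_ hlt
        exact_mod_cast Nat.lt_succ_self δ
      have := ih a b k ha hb hdim' hlt' hk
      omega
    · -- prime avoidance
      have hS : ∀ p ∈ (a ⊔ b).minimalPrimes, p.IsPrime ∧ p ≠ maximalIdeal R := by
        intro p hp
        refine ⟨hp.1.1, ?_⟩
        rintro rfl
        apply hdim'
        exact (dim_le_zero_of_maximalIdeal_mem_minimalPrimes (a ⊔ b) hp).trans (by positivity)
      obtain ⟨x, hxm, hx⟩ := Groth.Agent.Helper8.SopChain.exists_mem_maximalIdeal_notMem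
        (a ⊔ b).minimalPrimes (Ideal.finite_minimalPrimes_of_isNoetherianRing R _) hS
      have hxle : Ideal.span {x} ≤ maximalIdeal R := (Ideal.span_singleton_le_iff_mem _).mpr hxm
      have ha' : a ⊔ Ideal.span {x} ≠ ⊤ := fun h =>
        (Ideal.IsPrime.ne_top (inferInstance : (maximalIdeal R).IsPrime))
          (top_le_iff.mp (h ▸ sup_le (le_maximalIdeal ha) hxle))
      have hb' : b ⊔ Ideal.span {x} ≠ ⊤ := fun h =>
        (Ideal.IsPrime.ne_top (inferInstance : (maximalIdeal R).IsPrime))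
          (top_le_iff.mp (h ▸ sup_le (le_maximalIdeal hb) hxle))
      have hsup : (a ⊔ Ideal.span {x}) ⊔ (b ⊔ Ideal.span {x}) = (a ⊔ b) ⊔ Ideal.span {x} :=
        (sup_sup_distrib_right a b _).symm
      have hdim2 : ringKrullDim (R ⧸ ((a ⊔ Ideal.span {x}) ⊔ (b ⊔ Ideal.span {x}))) ≤ δ := by
        rw [hsup]
        have h1 := dim_quotient_sup_span_succ_le (a ⊔ b) x hx
        exact le_natCast_of_add_one_le (h1.trans hdim)
      have hlt2 : (δ : WithBot ℕ∞) < min (ringKrullDim (R ⧸ (a ⊔ Ideal.span {x})))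
          (ringKrullDim (R ⧸ (b ⊔ Ideal.span {x}))) := by
        rw [lt_min_iff] at hlt ⊢
        constructor
        · exact natCast_lt_of_succ_lt_add_one
            (lt_of_lt_of_le hlt.1 (dim_quotient_le_sup_span_succ a x hxm))
        · exact natCast_lt_of_succ_lt_add_one
            (lt_of_lt_of_le hlt.2 (dim_quotient_le_sup_span_succ b x hxm))
      have hk2 : CdLE R ((a ⊔ Ideal.span {x}) ⊓ (b ⊔ Ideal.span {x})) (k + 1) := by
        intro M _ _ j hj
        rw [subsingleton_H_iff_of_radical_eq _ _ (radical_inf_sup_span R a b x)]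
        exact cdLE_sup_span (a ⊓ b) x k hk M j hj
      have := ih _ _ (k + 1) ha' hb' hdim2 hlt2 hk2
      omega

/-- **S11668.** -/
theorem main_S11668 (n : ℕ) (hn : ringKrullDim R = n) (a b : Ideal R) (ha : a ≠ ⊤) (hb : b ≠ ⊤)
    (hab : ringKrullDim (R ⧸ (a ⊔ b)) < min (ringKrullDim (R ⧸ a)) (ringKrullDim (R ⧸ b)))
    (k : ℕ) (hk : CdLE R (a ⊓ b) k) :
    (n : WithBot ℕ∞) ≤ (k : WithBot ℕ∞) + ringKrullDim (R ⧸ (a ⊔ b)) + 1 := by
  have hsup : a ⊔ b ≠ ⊤ := fun h =>
    (Ideal.IsPrime.ne_top (inferInstance : (maximalIdeal R).IsPrime))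
      (top_le_iff.mp (h ▸ sup_le (le_maximalIdeal ha) (le_maximalIdeal hb)))
  haveI : Nontrivial (R ⧸ (a ⊔ b)) := Ideal.Quotient.nontrivial_iff.mpr hsup
  have h0 : 0 ≤ ringKrullDim (R ⧸ (a ⊔ b)) := ringKrullDim_nonneg_of_nontrivial
  have hle : ringKrullDim (R ⧸ (a ⊔ b)) ≤ n := hn ▸ ringKrullDim_quotient_le _
  obtain ⟨δ, hδ⟩ : ∃ δ : ℕ, ringKrullDim (R ⧸ (a ⊔ b)) = δ := by
    generalize ringKrullDim (R ⧸ (a ⊔ b)) = y at h0 hle
    induction y using WithBot.recBotCoe with
    | bot => exact absurd h0 (by simp)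
    | coe y =>
      induction y using ENat.recTopCoe with
      | top =>
        exfalso
        have : ((⊤ : ℕ∞) : WithBot ℕ∞) ≤ ((n : ℕ∞) : WithBot ℕ∞) := hle
        rw [WithBot.coe_le_coe] at this
        exact absurd this (by simp)
      | coe m => exact ⟨m, rfl⟩
  rw [hδ] at hab ⊢
  have := le_add_of_cdLE_inf R n hn δ a b k ha hb hδ.le hab hk
  exact_mod_cast this

end Groth.Agent.Helper8.HLV
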