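import Groth.Agent.Lib.Helper8.HLV6

/-!
# Connectedness of the punctured spectrum of `R ⧸ I` for `ara I ≤ dim R - 2` (S17758)
-/

set_option autoImplicit false
universe u

namespace Groth.Agent.Helper8.HLV

open IsLocalRing LocCoh Groth.Agent.Helper8.LC

section pos

variable {R : Type u} [CommRing R] [IsLocalRing R]

/-- a prime containing `a` other than the maximal ideal shows `dim R/a > 0`. -/
theorem dim_quotient_pos_of_prime (a P : Ideal R) [hP : P.IsPrime] (haP : a ≤ P)
    (hPm : P ≠ maximalIdeal R) : 0 < ringKrullDim (R ⧸ a) := by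
  rw [ringKrullDim_quotient, Order.krullDim_pos_iff]
  have hPle : P ≤ maximalIdeal R := le_maximalIdeal hP.ne_top
  refine ⟨⟨⟨P, hP⟩, haP⟩, ⟨⟨maximalIdeal R, inferInstance⟩, haP.trans hPle⟩, ?_⟩
  have hlt : P < maximalIdeal R := lt_of_le_of_ne hPle hPm
  exact hlt

/-- if every prime containing `c` is the maximal ideal then `dim R/c ≤ 0`. -/
theorem dim_quotient_le_zero_of_forall (c : Ideal R)
    (h : ∀ P : Ideal R, P.IsPrime → c ≤ P → P = maximalIdeal R) :
    ringKrullDim (R ⧸ c) ≤ 0 := by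
  have h0 : Ring.KrullDimLE 0 (R ⧸ c) := by
    rw [Ideal.krullDimLE_zero_quotient_iff_forall_minimalPrimes_isMaximal]
    intro J hJ
    rw [h J hJ.1.1 hJ.1.2]
    exact maximalIdeal.isMaximal R
  exact Ring.krullDimLE_iff.mp h0

end pos

variable (R : Type u) [CommRing R] [IsDomain R] [IsNoetherianRing R] [IsLocalRing R]
  [IsAdicComplete (maximalIdeal R) R]

/-- **S17758.** -/
theorem main_S17758 (d : ℕ) (hd : ringKrullDim R = d) (t : ℕ) (ht : t + 2 ≤ d) (f : Fin t → R)
    (I : Ideal R) (hItop : I ≠ ⊤) (hI : I.radical = (Ideal.span (Set.range f)).radical) :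
    IsConnected {x : PrimeSpectrum R | I ≤ x.asIdeal ∧ x.asIdeal ≠ maximalIdeal R} := by
  classical
  have hspan : Ideal.span (Set.range f) = Ideal.span ((Finset.univ.image f : Finset R) : Set R) := by
    rw [Finset.coe_image, Finset.coe_univ, Set.image_univ]
  have hcard : (Finset.univ.image f : Finset R).card ≤ t := by
    refine Finset.card_image_le.trans ?_
    simp
  refine ⟨?_, ?_⟩
  · -- nonempty
    by_contra hemp
    rw [Set.not_nonempty_iff_eq_empty] at hemp
    have hall : ∀ P : Ideal R, P.IsPrime → I ≤ P → P = maximalIdeal R := by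
      intro P hP hIP
      by_contra hne
      have : (⟨P, hP⟩ : PrimeSpectrum R) ∈
          {x : PrimeSpectrum R | I ≤ x.asIdeal ∧ x.asIdeal ≠ maximalIdeal R} := ⟨hIP, hne⟩
      rw [hemp] at this
      exact this
    have hmin : maximalIdeal R ∈ I.minimalPrimes := by
      refine ⟨⟨inferInstance, le_maximalIdeal hItop⟩, ?_⟩
      rintro Q ⟨hQ, hIQ⟩ _
      rw [hall Q hQ hIQ]
    rw [← Ideal.radical_minimalPrimes, hI, Ideal.radical_minimalPrimes, hspan] at hmin
    have hht := Ideal.height_le_card_of_mem_minimalPrimes_span_finset hmin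
    have hdim : ((maximalIdeal R).height : WithBot ℕ∞) = d := by
      rw [IsLocalRing.maximalIdeal_height_eq_ringKrullDim, hd]
    have h1 : ((maximalIdeal R).height : WithBot ℕ∞) ≤ ((t : ℕ∞) : WithBot ℕ∞) := by
      refine WithBot.coe_le_coe.mpr (hht.trans ?_)
      exact_mod_cast hcard
    rw [hdim] at h1
    have h2 : d ≤ t := by exact_mod_cast h1
    omega
  · rw [isPreconnected_closed_iff]
    intro T T' hT hT' hsub hne hne'
    obtain ⟨a₀, rfl⟩ := (PrimeSpectrum.isClosed_iff_zeroLocus_ideal T).mp hT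
    obtain ⟨b₀, rfl⟩ := (PrimeSpectrum.isClosed_iff_zeroLocus_ideal T').mp hT'
    by_contra hemp
    rw [Set.not_nonempty_iff_eq_empty] at hemp
    obtain ⟨P, ⟨hIP, hPm⟩, hPa⟩ := hne
    obtain ⟨Q, ⟨hIQ, hQm⟩, hQb⟩ := hne'
    rw [PrimeSpectrum.mem_zeroLocus, SetLike.coe_subset_coe] at hPa hQb
    have haP : I ⊔ a₀ ≤ P.asIdeal := sup_le hIP hPa
    have hbQ : I ⊔ b₀ ≤ Q.asIdeal := sup_le hIQ hQb
    have ha : I ⊔ a₀ ≠ ⊤ := fun h => P.isPrime.ne_top (top_le_iff.mp (h ▸ haP))
    have hb : I ⊔ b₀ ≠ ⊤ := fun h => Q.isPrime.ne_top (top_le_iff.mp (h ▸ hbQ))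
    have hapos : 0 < ringKrullDim (R ⧸ (I ⊔ a₀)) :=
      dim_quotient_pos_of_prime (I ⊔ a₀) P.asIdeal haP hPm
    have hbpos : 0 < ringKrullDim (R ⧸ (I ⊔ b₀)) :=
      dim_quotient_pos_of_prime (I ⊔ b₀) Q.asIdeal hbQ hQm
    have hdim0 : ringKrullDim (R ⧸ ((I ⊔ a₀) ⊔ (I ⊔ b₀))) ≤ ((0 : ℕ) : WithBot ℕ∞) := by
      apply dim_quotient_le_zero_of_forall
      intro N hN hle
      by_contra hne
      have hmem : (⟨N, hN⟩ : PrimeSpectrum R) ∈
          {x : PrimeSpectrum R | I ≤ x.asIdeal ∧ x.asIdeal ≠ maximalIdeal R} ∩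
            (PrimeSpectrum.zeroLocus (a₀ : Set R) ∩ PrimeSpectrum.zeroLocus (b₀ : Set R)) := by
        refine ⟨⟨(le_sup_left.trans le_sup_left).trans hle, hne⟩, ?_, ?_⟩
        · rw [PrimeSpectrum.mem_zeroLocus, SetLike.coe_subset_coe]
          exact (le_sup_right.trans le_sup_left).trans hle
        · rw [PrimeSpectrum.mem_zeroLocus, SetLike.coe_subset_coe]
          exact (le_sup_right.trans le_sup_right).trans hle
      rw [hemp] at hmem
      exact hmem
    have hlt : ((0 : ℕ) : WithBot ℕ∞) <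
        min (ringKrullDim (R ⧸ (I ⊔ a₀))) (ringKrullDim (R ⧸ (I ⊔ b₀))) := by
      rw [lt_min_iff]
      exact ⟨by simpa using hapos, by simpa using hbpos⟩
    -- the radical of the intersection
    have hrad : ((I ⊔ a₀) ⊓ (I ⊔ b₀)).radical = I.radical := by
      apply le_antisymm
      · rw [Ideal.radical_eq_sInf I]
        refine le_sInf ?_
        rintro N ⟨hIN, hN⟩
        rw [hN.radical_le_iff]
        by_cases hNm : N = maximalIdeal R
        · rw [hNm]
          exact inf_le_left.trans (le_maximalIdeal ha)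
        · have hmem : (⟨N, hN⟩ : PrimeSpectrum R) ∈
              {x : PrimeSpectrum R | I ≤ x.asIdeal ∧ x.asIdeal ≠ maximalIdeal R} := ⟨hIN, hNm⟩
          rcases hsub hmem with h | h
          · rw [PrimeSpectrum.mem_zeroLocus, SetLike.coe_subset_coe] at h
            exact inf_le_left.trans (sup_le hIN h)
          · rw [PrimeSpectrum.mem_zeroLocus, SetLike.coe_subset_coe] at h
            exact inf_le_right.trans (sup_le hIN h)
      · exact Ideal.radical_mono (le_inf le_sup_left le_sup_left)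
    have hk : CdLE R ((I ⊔ a₀) ⊓ (I ⊔ b₀)) t := by
      intro M _ _ j hj
      rw [subsingleton_H_iff_of_radical_eq _ (Ideal.span ((Finset.univ.image f : Finset R) : Set R))
        (by rw [hrad, hI, hspan])]
      exact cdLE_span_finset _ M j (lt_of_le_of_lt hcard hj)
    have := le_add_of_cdLE_inf R d hd 0 (I ⊔ a₀) (I ⊔ b₀) t ha hb hdim0 hlt hk
    omega

end Groth.Agent.Helper8.HLV
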