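import Groth.Agent.Lib.Helper8.HLV7
import Groth.Agent.Lib.Helper8.TopDim
import Groth.Agent.S11666

/-!
# Toolkit for the connectedness theorems: dimensions of quotients, `cd` and dimension,
  and the topology of the prime spectrum
-/

set_option autoImplicit false
universe u

namespace Groth.Agent.Helper8.HLV

open IsLocalRing LocCoh Groth.Agent.Helper8.LC

section general

variable {R : Type u} [CommRing R]

theorem dim_quotient_mono {I J : Ideal R} (h : I ≤ J) :
    ringKrullDim (R ⧸ J) ≤ ringKrullDim (R ⧸ I) :=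
  ringKrullDim_le_of_surjective (Ideal.Quotient.factor h) (Ideal.Quotient.factor_surjective h)

/-- The dimension of a closed subset of the spectrum. -/
theorem topDim_zeroLocus (I : Ideal R) :
    topologicalKrullDim ↥(PrimeSpectrum.zeroLocus (I : Set R)) = ringKrullDim (R ⧸ I) := by
  have hf := PrimeSpectrum.isClosedEmbedding_comap_of_surjective (R ⧸ I) (Ideal.Quotient.mk I)
    Ideal.Quotient.mk_surjective
  have hr : Set.range (PrimeSpectrum.comap (Ideal.Quotient.mk I)) =
      PrimeSpectrum.zeroLocus (I : Set R) := by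
    rw [_root_.range_comap_of_surjective _ _ Ideal.Quotient.mk_surjective, Ideal.mk_ker]
  have h1 := IsHomeomorph.topologicalKrullDim_eq _ hf.isEmbedding.toHomeomorph.isHomeomorph
  rw [hr] at h1
  rw [← h1, PrimeSpectrum.topologicalKrullDim_eq_ringKrullDim]

theorem zeroLocus_mem_irreducibleComponents {p : Ideal R} (hp : p ∈ minimalPrimes R) :
    PrimeSpectrum.zeroLocus (p : Set R) ∈ irreducibleComponents (PrimeSpectrum R) := by
  rw [← PrimeSpectrum.zeroLocus_minimalPrimes]
  exact ⟨p, hp, rfl⟩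

theorem exists_minimalPrimes_of_mem_irreducibleComponents {Z : Set (PrimeSpectrum R)}
    (hZ : Z ∈ irreducibleComponents (PrimeSpectrum R)) :
    ∃ p ∈ minimalPrimes R, Z = PrimeSpectrum.zeroLocus (p : Set R) := by
  rw [← PrimeSpectrum.zeroLocus_minimalPrimes] at hZ
  obtain ⟨p, hp, rfl⟩ := hZ
  exact ⟨p, hp, rfl⟩

theorem subdim_le_dim_quotient {p : Ideal R} (hp : p ∈ minimalPrimes R) :
    subdim (PrimeSpectrum R) ≤ ringKrullDim (R ⧸ p) := by
  rw [← topDim_zeroLocus]
  unfold subdim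
  exact iInf₂_le _ (zeroLocus_mem_irreducibleComponents hp)

theorem connDim_le_of_pair {T : Type u} [TopologicalSpace T] [TopologicalSpace.NoetherianSpace T]
    [Nonempty T] (A B : Set (Set T)) (hA : A ⊆ irreducibleComponents T)
    (hB : B ⊆ irreducibleComponents T) (hAne : A.Nonempty) (hBne : B.Nonempty)
    (hAB : A ∪ B = irreducibleComponents T) :
    connDim T ≤ topologicalKrullDim ↥(⋃₀ A ∩ ⋃₀ B) := by
  rw [Groth.Agent.S11666.result T]
  exact iInf_le_of_le A (iInf_le_of_le B (iInf_le _ ⟨hA, hB, hAne, hBne, hAB⟩))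

end general

section localRing

variable {R : Type u} [CommRing R] [IsNoetherianRing R] [IsLocalRing R]

theorem exists_nat_dim_quotient (I : Ideal R) (hI : I ≠ ⊤) :
    ∃ e : ℕ, ringKrullDim (R ⧸ I) = e := by
  haveI : Nontrivial (R ⧸ I) := Ideal.Quotient.nontrivial_iff.mpr hI
  have h0 : 0 ≤ ringKrullDim (R ⧸ I) := ringKrullDim_nonneg_of_nontrivial
  have hle : ringKrullDim (R ⧸ I) < ⊤ :=
    lt_of_le_of_lt (ringKrullDim_quotient_le I) ringKrullDim_lt_top
  generalize ringKrullDim (R ⧸ I) = y at h0 hle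
  induction y using WithBot.recBotCoe with
  | bot => exact absurd h0 (by simp)
  | coe y =>
    induction y using ENat.recTopCoe with
    | top => exact absurd hle (lt_irrefl _)
    | coe m => exact ⟨m, rfl⟩

theorem exists_prime_dim_eq (I : Ideal R) (hI : I ≠ ⊤) :
    ∃ Q : Ideal R, Q.IsPrime ∧ I ≤ Q ∧ ringKrullDim (R ⧸ Q) = ringKrullDim (R ⧸ I) := by
  obtain ⟨e, he⟩ := exists_nat_dim_quotient I hI
  obtain ⟨P, hPs, hPd⟩ := Groth.Agent.Helper8.NV.exists_mem_support_dim_eq (R ⧸ I) e (by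
    rw [Module.supportDim_quotient_eq_ringKrullDim, he])
  refine ⟨P.asIdeal, P.isPrime, ?_, by rw [hPd, he]⟩
  rw [Module.support_eq_zeroLocus, Ideal.annihilator_quotient, PrimeSpectrum.mem_zeroLocus,
    SetLike.coe_subset_coe] at hPs
  exact hPs

theorem dim_quotient_inf_le (I J : Ideal R) {c : WithBot ℕ∞} (hI : ringKrullDim (R ⧸ I) ≤ c)
    (hJ : ringKrullDim (R ⧸ J) ≤ c) : ringKrullDim (R ⧸ (I ⊓ J)) ≤ c := by
  by_cases htop : I ⊓ J = ⊤
  · haveI : Subsingleton (R ⧸ (I ⊓ J)) := Ideal.Quotient.subsingleton_iff.mpr htop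
    rw [ringKrullDim_eq_bot_of_subsingleton]
    exact bot_le
  · obtain ⟨Q, hQ, hle, hdim⟩ := exists_prime_dim_eq (I ⊓ J) htop
    rw [← hdim]
    rcases (Ideal.IsPrime.inf_le hQ).mp hle with h | h
    · exact (dim_quotient_mono h).trans hI
    · exact (dim_quotient_mono h).trans hJ

/-- `dim R ≤ cd 𝔠 + dim R/𝔠`. -/
theorem dim_le_of_cdLE (D : ℕ) (hD : ringKrullDim R = D) :
    ∀ (e : ℕ) (𝔠 : Ideal R) (k : ℕ), 𝔠 ≠ ⊤ → ringKrullDim (R ⧸ 𝔠) ≤ e → CdLE R 𝔠 k →
      D ≤ k + e := by
  intro e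
  induction e with
  | zero =>
    intro 𝔠 k h𝔠 hdim hk
    have hrad := radical_eq_maximalIdeal_of_dim_le_zero 𝔠 h𝔠 (by simpa using hdim)
    have hnt : Nontrivial (H 𝔠 D R) := by
      have h3 : Nontrivial (H (maximalIdeal R) D R) :=
        Groth.Agent.Helper8.NV.nontrivial_H_supportDim R D (by
          rw [Module.supportDim_self_eq_ringKrullDim, hD])
      by_contra hcon
      rw [not_nontrivial_iff_subsingleton,
        subsingleton_H_iff_of_radical_eq 𝔠 (maximalIdeal R)
          (by rw [hrad, Ideal.IsPrime.radical inferInstance])] at hcon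
      exact not_subsingleton _ hcon
    by_contra hcon
    have hkD : k < D := by omega
    exact not_subsingleton _ (hk R D hkD)
  | succ e ih =>
    intro 𝔠 k h𝔠 hdim hk
    by_cases hdim' : ringKrullDim (R ⧸ 𝔠) ≤ e
    · have := ih 𝔠 k h𝔠 hdim' hk
      omega
    · have hS : ∀ p ∈ 𝔠.minimalPrimes, p.IsPrime ∧ p ≠ maximalIdeal R := by
        intro p hp
        refine ⟨hp.1.1, ?_⟩
        rintro rfl
        apply hdim'
        exact (dim_le_zero_of_maximalIdeal_mem_minimalPrimes 𝔠 hp).trans (by positivity)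
      obtain ⟨x, hxm, hx⟩ := Groth.Agent.Helper8.SopChain.exists_mem_maximalIdeal_notMem
        𝔠.minimalPrimes (Ideal.finite_minimalPrimes_of_isNoetherianRing R _) hS
      have hxle : Ideal.span {x} ≤ maximalIdeal R := (Ideal.span_singleton_le_iff_mem _).mpr hxm
      have h𝔠' : 𝔠 ⊔ Ideal.span {x} ≠ ⊤ := fun h =>
        (Ideal.IsPrime.ne_top (inferInstance : (maximalIdeal R).IsPrime))
          (top_le_iff.mp (h ▸ sup_le (le_maximalIdeal h𝔠) hxle))
      have hdim2 : ringKrullDim (R ⧸ (𝔠 ⊔ Ideal.span {x})) ≤ e :=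
        le_natCast_of_add_one_le ((dim_quotient_sup_span_succ_le 𝔠 x hx).trans hdim)
      have := ih _ (k + 1) h𝔠' hdim2 (cdLE_sup_span 𝔠 x k hk)
      omega

end localRing

end Groth.Agent.Helper8.HLV
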