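import Mathlib
import Groth.Prelude.Def_Hens2
import Groth.Agent.Lib.Helper7.Hens.DLHens
import Groth.Agent.Lib.Helper7.Hens.LocalCase
import Groth.Agent.Lib.Helper7.Hens.IntegralBaseChange
import Groth.Agent.Lib.Helper7.Hens.Desc

/-!
# Abstract form: colimit of henselizations of a local system with henselian colimit
-/

set_option autoImplicit false
universe u

namespace Groth.Agent.Helper8.HensColim

open Groth.Agent.Helper7 Groth.Agent.Helper7.Hens

section Self

/-- A henselian pair is its own henselization. -/
theorem isPairHenselization_self {D : Type u} [CommRing D] (K : Ideal D) (h : HenselianRing D K) :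
    Hens2.IsPairHenselization D K D := by
  refine ⟨?_, ?_⟩
  · have : K.map (algebraMap D D) = K := Ideal.map_id K
    rw [this]
    exact h
  · intro C _ J φ _ _
    exact ⟨φ, RingHom.comp_id φ, fun g hg => by rw [← hg]; rfl⟩

end Self

variable (A : Type u) [CommRing A] [IsLocalRing A]


section General

variable (A : Type u) [CommRing A] [HenselianLocalRing A]
  {ι : Type u} [Preorder ι] [IsDirectedOrder ι] [Nonempty ι]
  (G : ι → Type u) [∀ i, CommRing (G i)] [∀ i, IsLocalRing (G i)]
  (f : ∀ i j : ι, i ≤ j → (G i →+* G j)) [DirectedSystem G (fun i j h => f i j h)]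
  (B : ι → Type u) [∀ i, CommRing (B i)] [∀ i, Algebra (G i) (B i)]
  (g : ∀ i j : ι, i ≤ j → (B i →+* B j)) [DirectedSystem B (fun i j h => g i j h)]

/-- The structure map of the colimits. -/
noncomputable def algDLg
    (hg : ∀ (i j : ι) (h : i ≤ j), (g i j h).comp (algebraMap (G i) (B i)) =
      (algebraMap (G j) (B j)).comp (f i j h)) :
    DirectLimit G f →+* DirectLimit B g :=
  DirectLimit.Ring.lift G f _
    (fun s => (DirectLimit.Ring.of B g s).comp (algebraMap (G s) (B s)))
    (fun s t h x => by
      show DirectLimit.Ring.of B g t (algebraMap (G t) (B t) (f s t h x)) =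
        DirectLimit.Ring.of B g s (algebraMap (G s) (B s) x)
      have := RingHom.congr_fun (hg s t h) x
      simp only [RingHom.coe_comp, Function.comp_apply] at this
      rw [← this, DirectLimit.Ring.of_f])

theorem algDLg_of
    (hg : ∀ (i j : ι) (h : i ≤ j), (g i j h).comp (algebraMap (G i) (B i)) =
      (algebraMap (G j) (B j)).comp (f i j h)) (s : ι) (x : G s) :
    algDLg G f B g hg (DirectLimit.Ring.of G f s x) =
      DirectLimit.Ring.of B g s (algebraMap (G s) (B s) x) := by
  unfold algDLg
  rw [DirectLimit.Ring.lift_of]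
  rfl

theorem general
    (hf : ∀ (i j : ι) (h : i ≤ j),
      (IsLocalRing.maximalIdeal (G i)).map (f i j h) ≤ IsLocalRing.maximalIdeal (G j))
    (e : DirectLimit G f ≃+* A)
    (he : (IsLocalRing.maximalIdeal A).map (e.symm : A →+* DirectLimit G f) =
      ⨆ i, (IsLocalRing.maximalIdeal (G i)).map (DirectLimit.Ring.of G f i))
    (hB : ∀ i, Hens2.IsPairHenselization (G i) (IsLocalRing.maximalIdeal (G i)) (B i))
    (hg : ∀ (i j : ι) (h : i ≤ j), (g i j h).comp (algebraMap (G i) (B i)) =
      (algebraMap (G j) (B j)).comp (f i j h)) :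
    Nonempty (A ≃+* DirectLimit B g) := by
  letI : Algebra (DirectLimit G f) (DirectLimit B g) := (algDLg G f B g hg).toAlgebra
  have hDL := DLHens.S9330_main G f (fun s => IsLocalRing.maximalIdeal (G s)) hf B hB g hg
    (fun s x => algDLg_of G f B g hg s x)
  have hK : HenselianRing (DirectLimit G f)
      (⨆ i, (IsLocalRing.maximalIdeal (G i)).map (DirectLimit.Ring.of G f i)) := by
    rw [← he]
    exact henselianRing_map_ringEquiv e.symm inferInstance
  obtain ⟨e'⟩ := nonempty_algEquiv_of_isPairHenselization (isPairHenselization_self _ hK) hDL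
  exact ⟨e.symm.trans e'.toRingEquiv⟩

end General

end Groth.Agent.Helper8.HensColim
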