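import Mathlib
import Groth.Prelude.Def_Hens2
import Groth.Agent.Lib.Helper8.Exc3
import Groth.Agent.Lib.Helper8.PolyG4
import Groth.Agent.Lib.Helper8.GRing11

/-!
# A local ring as the directed colimit of the localizations of its finitely generated subrings
-/

set_option autoImplicit false
universe u

namespace Groth.Agent.Helper8.HensColim

section ZZ

/-- `ℤ` lifted to any universe is a G-ring. -/
theorem isGRing_ulift_int : CAlg.IsGRing (ULift.{u} ℤ) := by
  haveI : IsDomain (ULift.{u} ℤ) := (ULift.ringEquiv : ULift.{u} ℤ ≃+* ℤ).toMulEquiv.isDomain ℤ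
  haveI : IsPrincipalIdealRing (ULift.{u} ℤ) :=
    IsPrincipalIdealRing.of_surjective ((ULift.ringEquiv : ULift.{u} ℤ ≃+* ℤ).symm : ℤ →+* ULift.{u} ℤ)
      (ULift.ringEquiv : ULift.{u} ℤ ≃+* ℤ).symm.surjective
  haveI : CharZero (ULift.{u} ℤ) :=
    charZero_of_injective_ringHom
      (f := ((ULift.ringEquiv : ULift.{u} ℤ ≃+* ℤ).symm : ℤ →+* ULift.{u} ℤ))
      (ULift.ringEquiv : ULift.{u} ℤ ≃+* ℤ).symm.injective
  exact Groth.Agent.Helper8.Exc.isGRing_of_isDedekindDomain_charZero _

end ZZ

variable (A : Type u) [CommRing A]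

/-- The `ULift ℤ`-algebra structure of a ring. -/
@[reducible] noncomputable def zAlg : Algebra (ULift.{u} ℤ) A :=
  ((Int.castRingHom A).comp ((ULift.ringEquiv : ULift.{u} ℤ ≃+* ℤ) : ULift.{u} ℤ →+* ℤ)).toAlgebra

attribute [local instance] zAlg

/-- The subring generated by a finite set. -/
noncomputable def sub (s : Finset A) : Subalgebra (ULift.{u} ℤ) A :=
  Algebra.adjoin (ULift.{u} ℤ) (↑s : Set A)

instance (s : Finset A) : Algebra.FiniteType (ULift.{u} ℤ) (sub A s) :=
  (Subalgebra.fg_iff_finiteType _).mp (Subalgebra.fg_adjoin_finset s)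

theorem isGRing_sub (s : Finset A) : CAlg.IsGRing (sub A s) :=
  Groth.Agent.Helper8.PolyG.isGRing_of_finiteType _ isGRing_ulift_int _

theorem mem_sub_of_mem {s : Finset A} {a : A} (ha : a ∈ s) : a ∈ sub A s :=
  Algebra.subset_adjoin (Finset.mem_coe.mpr ha)

theorem sub_mono {s t : Finset A} (h : s ≤ t) : sub A s ≤ sub A t :=
  Algebra.adjoin_mono (Finset.coe_subset.mpr h)

/-- The inclusion of the subrings. -/
noncomputable def incl {s t : Finset A} (h : s ≤ t) : sub A s →+* sub A t :=
  (Subalgebra.inclusion (sub_mono A h)).toRingHom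

@[simp] theorem coe_incl {s t : Finset A} (h : s ≤ t) (x : sub A s) :
    ((incl A h x : sub A t) : A) = x := by
  unfold incl
  rw [AlgHom.toRingHom_eq_coe, RingHom.coe_coe, Subalgebra.coe_inclusion]

variable [IsLocalRing A]

/-- The contraction of the maximal ideal. -/
noncomputable def pr (s : Finset A) : Ideal (sub A s) :=
  (IsLocalRing.maximalIdeal A).comap (sub A s).val.toRingHom

instance (s : Finset A) : (pr A s).IsPrime := by
  unfold pr
  infer_instance

theorem mem_pr_iff {s : Finset A} (x : sub A s) :
    x ∈ pr A s ↔ (x : A) ∈ IsLocalRing.maximalIdeal A := by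
  unfold pr
  rw [Ideal.mem_comap, AlgHom.toRingHom_eq_coe, RingHom.coe_coe, Subalgebra.val_apply]

theorem pr_eq_comap {s t : Finset A} (h : s ≤ t) : pr A s = (pr A t).comap (incl A h) := by
  ext x
  rw [Ideal.mem_comap, mem_pr_iff, mem_pr_iff, coe_incl]

/-- The local rings `(A_s)_{p_s}`. -/
abbrev G (s : Finset A) : Type u := Localization.AtPrime (pr A s)

/-- Transition maps. -/
noncomputable def f (s t : Finset A) (h : s ≤ t) : G A s →+* G A t :=
  Localization.localRingHom (pr A s) (pr A t) (incl A h) (pr_eq_comap A h)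

theorem f_algebraMap {s t : Finset A} (h : s ≤ t) (x : sub A s) :
    f A s t h (algebraMap (sub A s) (G A s) x) = algebraMap (sub A t) (G A t) (incl A h x) :=
  Localization.localRingHom_to_map _ _ _ _ x

theorem f_self (s : Finset A) : f A s s le_rfl = RingHom.id _ := by
  apply IsLocalization.ringHom_ext (pr A s).primeCompl
  ext x
  simp only [RingHom.coe_comp, Function.comp_apply, f_algebraMap, RingHom.id_apply]
  rw [show incl A (le_refl s) x = x from Subtype.ext (coe_incl A _ x)]

theorem f_comp {s t u : Finset A} (hst : s ≤ t) (htu : t ≤ u) :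
    (f A t u htu).comp (f A s t hst) = f A s u (hst.trans htu) := by
  apply IsLocalization.ringHom_ext (pr A s).primeCompl
  ext x
  simp only [RingHom.coe_comp, Function.comp_apply, f_algebraMap]
  rw [show incl A htu (incl A hst x) = incl A (hst.trans htu) x from
    Subtype.ext (by rw [coe_incl, coe_incl, coe_incl])]

instance directedSystem_f : DirectedSystem (G A) (fun s t h => f A s t h) where
  map_self s x := RingHom.congr_fun (f_self A s) x
  map_map _ _ _ hst htu x := RingHom.congr_fun (f_comp A hst htu) x

instance isLocalHom_f {s t : Finset A} (h : s ≤ t) : IsLocalHom (f A s t h) :=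
  Localization.isLocalHom_localRingHom _ _ _ _

/-- The maps to `A`. -/
noncomputable def toA (s : Finset A) : G A s →+* A :=
  IsLocalization.lift (M := (pr A s).primeCompl) (g := (sub A s).val.toRingHom)
    (fun y => by
      have hy : (y : sub A s) ∉ pr A s := y.2
      rw [mem_pr_iff] at hy
      exact IsLocalRing.notMem_maximalIdeal.mp hy)

theorem toA_algebraMap (s : Finset A) (x : sub A s) :
    toA A s (algebraMap (sub A s) (G A s) x) = (x : A) :=
  IsLocalization.lift_eq _ x

theorem toA_f {s t : Finset A} (h : s ≤ t) (x : G A s) : toA A t (f A s t h x) = toA A s x := by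
  have : (toA A t).comp (f A s t h) = toA A s := by
    apply IsLocalization.ringHom_ext (pr A s).primeCompl
    ext x
    simp only [RingHom.coe_comp, Function.comp_apply, f_algebraMap, toA_algebraMap, coe_incl]
  exact RingHom.congr_fun this x

theorem toA_injective (s : Finset A) : Function.Injective (toA A s) := by
  unfold toA
  rw [IsLocalization.lift_injective_iff]
  intro x y
  constructor
  · intro hxy
    obtain ⟨c, hc⟩ := (IsLocalization.eq_iff_exists (pr A s).primeCompl (G A s)).mp hxy
    have hcu : IsUnit ((c : sub A s) : A) := by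
      have hy : (c : sub A s) ∉ pr A s := c.2
      rw [mem_pr_iff] at hy
      exact IsLocalRing.notMem_maximalIdeal.mp hy
    have h1 : ((c : sub A s) : A) * (x : A) = ((c : sub A s) : A) * (y : A) :=
      congrArg Subtype.val hc
    exact hcu.mul_left_cancel h1
  · intro hxy
    have : x = y := Subtype.ext hxy
    rw [this]

theorem isLocalHom_toA (s : Finset A) : IsLocalHom (toA A s) := by
  refine ⟨fun x hx => ?_⟩
  obtain ⟨a, c, rfl⟩ := IsLocalization.exists_mk'_eq (pr A s).primeCompl x
  rw [IsLocalization.AtPrime.isUnit_mk'_iff (G A s) (pr A s)]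
  intro ha
  have ha : a ∈ pr A s := ha
  rw [mem_pr_iff] at ha
  have h1 : toA A s (IsLocalization.mk' (G A s) a c) * ((c : sub A s) : A) = (a : A) := by
    rw [← toA_algebraMap A s (c : sub A s), ← map_mul, IsLocalization.mk'_spec, toA_algebraMap]
  have hcu : IsUnit ((c : sub A s) : A) := by
    have hy : (c : sub A s) ∉ pr A s := c.2
    rw [mem_pr_iff] at hy
    exact IsLocalRing.notMem_maximalIdeal.mp hy
  have : IsUnit (a : A) := by
    rw [← h1]
    exact hx.mul hcu
  exact (IsLocalRing.mem_maximalIdeal _).mp ha this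

end Groth.Agent.Helper8.HensColim
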