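import Mathlib
import Groth.Prelude.Def_Hens2
import Groth.Agent.Lib.Helper8.HensColim1
import Groth.Agent.Lib.Helper8.HensColim0
import Groth.Agent.Lib.Helper8.PairNoeth2
import Groth.Agent.Lib.Helper8.Andre11
import Groth.Agent.Lib.Helper7.Hens.DLHens
import Groth.Agent.Lib.Helper7.Hens.LocalCase
import Groth.Agent.Lib.Helper7.Hens.IntegralBaseChange
import Groth.Agent.Lib.Helper7.Hens.Desc

/-!
# A henselian local ring is a directed colimit of henselian local G-rings
-/

set_option autoImplicit false
universe u

namespace Groth.Agent.Helper8.HensColim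

open Groth.Agent.Helper7 Groth.Agent.Helper7.Hens

attribute [local instance] zAlg

variable (A : Type u) [CommRing A] [IsLocalRing A]

section Colim

/-- The comparison map from the colimit of the local rings `(A_s)_{p_s}` to `A`. -/
noncomputable def e₀hom : DirectLimit (G A) (f A) →+* A :=
  DirectLimit.Ring.lift (G A) (f A) A (toA A) (fun _ _ h x => toA_f A h x)

theorem e₀hom_of (s : Finset A) (x : G A s) :
    e₀hom A (DirectLimit.Ring.of (G A) (f A) s x) = toA A s x := rfl

theorem e₀hom_bijective : Function.Bijective (e₀hom A) := by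
  constructor
  · exact DirectLimit.lift_injective (f A) (fun s x => toA A s x)
      (fun s t h x => (toA_f A h x).symm) (toA_injective A)
  · intro a
    refine ⟨DirectLimit.Ring.of (G A) (f A) {a}
      (algebraMap (sub A {a}) (G A {a}) ⟨a, mem_sub_of_mem A (Finset.mem_singleton_self a)⟩), ?_⟩
    rw [e₀hom_of, toA_algebraMap]

/-- `colim (A_s)_{p_s} ≃ A`. -/
noncomputable def e₀ : DirectLimit (G A) (f A) ≃+* A :=
  RingEquiv.ofBijective (e₀hom A) (e₀hom_bijective A)

theorem e₀_of (s : Finset A) (x : G A s) :
    e₀ A (DirectLimit.Ring.of (G A) (f A) s x) = toA A s x := rfl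


theorem map_symm_eq_K :
    (IsLocalRing.maximalIdeal A).map ((e₀ A).symm : A →+* DirectLimit (G A) (f A)) =
      ⨆ s, (IsLocalRing.maximalIdeal (G A s)).map (DirectLimit.Ring.of (G A) (f A) s) := by
  apply le_antisymm
  · rw [Ideal.map_le_iff_le_comap]
    intro a ha
    rw [Ideal.mem_comap]
    have h1 : ((e₀ A).symm : A →+* _) a = DirectLimit.Ring.of (G A) (f A) {a}
        (algebraMap (sub A {a}) (G A {a})
          ⟨a, mem_sub_of_mem A (Finset.mem_singleton_self a)⟩) := by
      show (e₀ A).symm a = _
      rw [RingEquiv.symm_apply_eq, e₀_of, toA_algebraMap]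
    rw [h1]
    refine Ideal.mem_iSup_of_mem ({a} : Finset A) (Ideal.mem_map_of_mem _ ?_)
    rw [IsLocalization.AtPrime.to_map_mem_maximal_iff (G A {a}) (pr A {a}), mem_pr_iff]
    exact ha
  · rw [iSup_le_iff]
    intro s
    rw [Ideal.map_le_iff_le_comap]
    intro x hx
    rw [Ideal.mem_comap]
    have h1 : DirectLimit.Ring.of (G A) (f A) s x =
        ((e₀ A).symm : A →+* _) (toA A s x) := by
      show _ = (e₀ A).symm (toA A s x)
      rw [eq_comm, RingEquiv.symm_apply_eq, e₀_of]
    rw [h1]
    refine Ideal.mem_map_of_mem _ ?_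
    rw [IsLocalRing.mem_maximalIdeal, mem_nonunits_iff]
    intro hu
    haveI := isLocalHom_toA A s
    exact (IsLocalRing.mem_maximalIdeal x).mp hx (isUnit_of_map_unit (toA A s) x hu)

end Colim

section Hens

/-- The henselizations of the local rings `(A_s)_{p_s}`. -/
abbrev B (s : Finset A) : Type u := Hens.H (G A s) (IsLocalRing.maximalIdeal (G A s))

theorem hB (s : Finset A) :
    Hens2.IsPairHenselization (G A s) (IsLocalRing.maximalIdeal (G A s)) (B A s) :=
  isPairHenselization_H _ _

theorem map_f_le {s t : Finset A} (h : s ≤ t) :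
    (IsLocalRing.maximalIdeal (G A s)).map (f A s t h) ≤ IsLocalRing.maximalIdeal (G A t) :=
  IsLocalRing.map_maximalIdeal_le (f A s t h)

theorem exists_g {s t : Finset A} (h : s ≤ t) :
    ∃! g : B A s →+* B A t, g.comp (algebraMap (G A s) (B A s)) =
      (algebraMap (G A t) (B A t)).comp (f A s t h) :=
  (hB A s).2 (B A t) ((IsLocalRing.maximalIdeal (G A t)).map (algebraMap (G A t) (B A t))) _
    (hB A t).1 (by rw [← Ideal.map_map]; exact Ideal.map_mono (map_f_le A h))

/-- Transition maps of the henselizations. -/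
noncomputable def g (s t : Finset A) (h : s ≤ t) : B A s →+* B A t := (exists_g A h).exists.choose

theorem g_comp {s t : Finset A} (h : s ≤ t) :
    (g A s t h).comp (algebraMap (G A s) (B A s)) =
      (algebraMap (G A t) (B A t)).comp (f A s t h) :=
  (exists_g A h).exists.choose_spec

theorem g_unique {s t : Finset A} (h : s ≤ t) (g' : B A s →+* B A t)
    (hg' : g'.comp (algebraMap (G A s) (B A s)) = (algebraMap (G A t) (B A t)).comp (f A s t h)) :
    g' = g A s t h :=
  (exists_g A h).unique hg' (g_comp A h)

theorem g_self (s : Finset A) : g A s s le_rfl = RingHom.id _ := by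
  symm
  apply g_unique
  rw [f_self, RingHom.id_comp, RingHom.comp_id]

theorem g_comp_g {s t u : Finset A} (hst : s ≤ t) (htu : t ≤ u) :
    (g A t u htu).comp (g A s t hst) = g A s u (hst.trans htu) := by
  apply g_unique
  rw [RingHom.comp_assoc, g_comp, ← RingHom.comp_assoc, g_comp, RingHom.comp_assoc, f_comp]

instance directedSystem_g : DirectedSystem (B A) (fun s t h => g A s t h) where
  map_self s x := RingHom.congr_fun (g_self A s) x
  map_map _ _ _ hst htu x := RingHom.congr_fun (g_comp_g A hst htu) x

theorem isLocalHom_g {s t : Finset A} (h : s ≤ t) : IsLocalHom (g A s t h) := by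
  refine ((IsLocalRing.local_hom_TFAE (g A s t h)).out 0 2).mpr ?_
  rw [← map_maximalIdeal_H, ← map_maximalIdeal_H, Ideal.map_map, g_comp, ← Ideal.map_map]
  exact Ideal.map_mono (map_f_le A h)

theorem isGRing_G (s : Finset A) : CAlg.IsGRing (G A s) :=
  Groth.Agent.Helper8.GRing.isGRing_of_isLocalization (pr A s).primeCompl (isGRing_sub A s)

theorem isGRing_B (s : Finset A) : CAlg.IsGRing (B A s) := by
  have hG := isGRing_G A s
  haveI : IsNoetherianRing (G A s) := hG.1
  haveI : IsNoetherianRing (B A s) := Groth.Agent.Helper8.PairNoeth.isNoetherianRing_H _ _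
  haveI : Algebra.FormallyEtale (G A s) (B A s) := formallyEtale_H
  exact Groth.Agent.Helper8.Andre.isGRing_of_formallyEtale (G A s) (B A s) hG

end Hens

theorem nonempty_ringEquiv (A : Type u) [CommRing A] [HenselianLocalRing A] :
    Nonempty (A ≃+* DirectLimit (B A) (g A)) :=
  @general A _ _ (Finset A) _ _ _ (G A) (fun _ => inferInstance) (fun _ => inferInstance) (f A)
    (directedSystem_f A) (B A) (fun _ => inferInstance) (fun _ => inferInstance) (g A)
    (directedSystem_g A) (fun s t h => map_f_le A h) (e₀ A) (map_symm_eq_K A) (hB A)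
    (fun s t h => g_comp A h)

theorem main (A : Type u) [CommRing A] [HenselianLocalRing A] :
    ∃ (ι : Type u) (_ : Preorder ι) (_ : IsDirectedOrder ι) (_ : Nonempty ι) (G : ι → Type u)
      (_ : ∀ i, CommRing (G i)) (f : ∀ i j : ι, i ≤ j → (G i →+* G j))
      (_ : DirectedSystem G (fun i j h => f i j h)),
      (∀ i, HenselianLocalRing (G i) ∧ CAlg.IsGRing (G i)) ∧
      (∀ (i j : ι) (h : i ≤ j), IsLocalHom (f i j h)) ∧
      Nonempty (A ≃+* DirectLimit G f) :=
  ⟨Finset A, inferInstance, inferInstance, inferInstance, B A, inferInstance, g A,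
    inferInstance, fun s => ⟨inferInstance, isGRing_B A s⟩, fun s t h => isLocalHom_g A h,
    nonempty_ringEquiv A⟩

end Groth.Agent.Helper8.HensColim
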