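import Mathlib
import Groth.Prelude.Def_Hens2
import Groth.Prelude.Def_FSch3
import Groth.Agent.Lib.Helper8.HensQuot1
import Groth.Agent.Lib.Helper8.PairNoeth2

/-!
# Quotients of pair henselizations of finite type algebras have algebraizable completions
-/

set_option autoImplicit false
universe u

namespace Groth.Agent.Helper8.HensQuot

open Groth.Agent.Helper7 Groth.Agent.Helper7.Hens

theorem main (A : Type u) [CommRing A] [IsNoetherianRing A] (I : Ideal A) (C : Type u)
    [CommRing C] [Algebra A C] [Algebra.FiniteType A C] (Ch : Type u) [CommRing Ch]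
    [Algebra C Ch] [Algebra A Ch] [IsScalarTower A C Ch]
    (hCh : Hens2.IsPairHenselization C (I.map (algebraMap A C)) Ch) (J : Ideal Ch) :
    ∃ (B : Type u) (_ : CommRing B) (_ : Algebra A B), Algebra.FiniteType A B ∧
      Nonempty (AdicCompletion (I.map (algebraMap A B)) B ≃ₐ[A]
        AdicCompletion (I.map (algebraMap A (Ch ⧸ J))) (Ch ⧸ J)) := by
  haveI : IsNoetherianRing C := Algebra.FiniteType.isNoetherianRing A C
  haveI : IsNoetherianRing Ch :=
    Groth.Agent.Helper8.PairNoeth.isNoetherianRing_of_isPairHenselization hCh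
  obtain ⟨e⟩ := nonempty_algEquiv_H hCh
  obtain ⟨r, g, hg⟩ := Submodule.fg_iff_exists_fin_generating_family.mp
    (IsNoetherian.noetherian J)
  obtain ⟨U, -, ξ, hξ⟩ := exists_rep_fin (Nbhd.base C (I.map (algebraMap A C)))
    (fun i => e (g i))
  obtain ⟨Y, f, hY⟩ := exists_tight U
  have hq := bijective_of_tight Y hY
  let ξ' : Fin r → Y.Ring := fun i => (f : Nbhd.Hom U Y).toAlgHom (ξ i)
  have hξ' : ∀ i, ι Y (ξ' i) = e (g i) := fun i => by rw [ι_hom, hξ]
  let ψ : Y.Ring →ₐ[C] Ch := (e.symm : H C (I.map (algebraMap A C)) →ₐ[C] Ch).comp (ιAlg Y)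
  have hψ : ∀ i, ψ (ξ' i) = g i := fun i => by
    show e.symm (ι Y (ξ' i)) = g i
    rw [hξ', e.symm_apply_apply]
  letI : Algebra A Y.Ring := ((algebraMap C Y.Ring).comp (algebraMap A C)).toAlgebra
  haveI : IsScalarTower A C Y.Ring := IsScalarTower.of_algebraMap_eq (fun _ => rfl)
  let J' : Ideal Y.Ring := Ideal.span (Set.range ξ')
  have hJ' : J'.map (ψ : Y.Ring →+* Ch) = J := by
    rw [Ideal.map_span, ← Set.range_comp]
    have : ((ψ : Y.Ring →+* Ch) : Y.Ring → Ch) ∘ ξ' = g := funext fun i => hψ i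
    rw [this]
    exact hg
  refine ⟨Y.Ring ⧸ J', inferInstance, inferInstance, ?_, ?_⟩
  · haveI : Algebra.FiniteType C Y.Ring := inferInstance
    haveI : Algebra.FiniteType A Y.Ring :=
      Algebra.FiniteType.trans (inferInstance : Algebra.FiniteType A C) inferInstance
    exact Algebra.FiniteType.of_surjective (Ideal.Quotient.mkₐ A J')
      (Ideal.Quotient.mkₐ_surjective A J')
  · -- the comparison map
    have hle : J' ≤ J.comap (ψ : Y.Ring →+* Ch) := by
      rw [← Ideal.map_le_iff_le_comap, hJ']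
    let ψb : Y.Ring ⧸ J' →+* Ch ⧸ J := Ideal.quotientMap J (ψ : Y.Ring →+* Ch) hle
    have hcompA : ψb.comp (algebraMap A (Y.Ring ⧸ J')) = algebraMap A (Ch ⧸ J) := by
      ext a
      show ψb (Ideal.Quotient.mk J' (algebraMap C Y.Ring (algebraMap A C a))) =
        Ideal.Quotient.mk J (algebraMap A Ch a)
      rw [Ideal.quotientMap_mk]
      congr 1
      show ψ (algebraMap C Y.Ring (algebraMap A C a)) = algebraMap A Ch a
      rw [AlgHom.commutes, ← IsScalarTower.algebraMap_apply]
    have h : (I.map (algebraMap A (Y.Ring ⧸ J'))).map ψb ≤ I.map (algebraMap A (Ch ⧸ J)) := by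
      rw [Ideal.map_map, hcompA]
    -- ideals
    have hIh : ∀ n : ℕ, (I.map (algebraMap A Ch)) ^ n =
        ((I.map (algebraMap A C)) ^ n).map (algebraMap C Ch) := by
      intro n
      rw [← Ideal.map_pow, ← Ideal.map_pow, Ideal.map_map, ← IsScalarTower.algebraMap_eq]
    have hI' : ∀ n : ℕ, (I.map (algebraMap A Y.Ring)) ^ n =
        ((I.map (algebraMap A C)) ^ n).map (algebraMap C Y.Ring) := by
      intro n
      rw [← Ideal.map_pow, ← Ideal.map_pow, Ideal.map_map, ← IsScalarTower.algebraMap_eq]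
    have hIQ : ∀ n : ℕ, (I.map (algebraMap A (Ch ⧸ J))) ^ n =
        ((I.map (algebraMap A Ch)) ^ n).map (Ideal.Quotient.mk J) := by
      intro n
      rw [← Ideal.map_pow, ← Ideal.map_pow, Ideal.map_map]
      rfl
    have hIB : ∀ n : ℕ, (I.map (algebraMap A (Y.Ring ⧸ J'))) ^ n =
        ((I.map (algebraMap A Y.Ring)) ^ n).map (Ideal.Quotient.mk J') := by
      intro n
      rw [← Ideal.map_pow, ← Ideal.map_pow, Ideal.map_map]
      rfl
    have hinj₀ : ∀ (n : ℕ) (s : Y.Ring), ψ s ∈ (I.map (algebraMap A Ch)) ^ n →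
        s ∈ (I.map (algebraMap A Y.Ring)) ^ n := by
      intro n s hs
      rw [hI']
      rw [hIh] at hs
      exact mem_of_map_mem hCh Y.Ring hq ψ n s hs
    have hsurj₀ : ∀ (n : ℕ) (x : Ch), ∃ s : Y.Ring, x - ψ s ∈ (I.map (algebraMap A Ch)) ^ n := by
      intro n x
      obtain ⟨s, hs⟩ := exists_sub_mem hCh Y.Ring hq ψ n x
      exact ⟨s, by rw [hIh]; exact hs⟩
    have hbij : Function.Bijective (FSch.complMap _ _ ψb h) := by
      apply complMap_bijective
      · intro n b hb
        obtain ⟨y, rfl⟩ := Ideal.Quotient.mk_surjective b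
        rw [hIQ, Ideal.quotientMap_mk, Ideal.mem_quotient_iff_mem_sup, ← hJ'] at hb
        rw [hIB, Ideal.mem_quotient_iff_mem_sup]
        exact mem_sup_of_map_mem_sup (ψ : Y.Ring →+* Ch) _ _ (hinj₀ n) (hsurj₀ n) J' y hb
      · intro n q
        obtain ⟨x, rfl⟩ := Ideal.Quotient.mk_surjective q
        obtain ⟨s, hs⟩ := hsurj₀ n x
        refine ⟨Ideal.Quotient.mk J' s, ?_⟩
        rw [hIQ, Ideal.quotientMap_mk, ← map_sub]
        exact Ideal.mem_map_of_mem _ hs
    let F : AdicCompletion (I.map (algebraMap A (Y.Ring ⧸ J'))) (Y.Ring ⧸ J') →ₐ[A]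
        AdicCompletion (I.map (algebraMap A (Ch ⧸ J))) (Ch ⧸ J) :=
      { FSch.complMap _ _ ψb h with
        commutes' := fun a => by
          show FSch.complMap _ _ ψb h (algebraMap A _ a) = algebraMap A _ a
          have hca : ψb (algebraMap A (Y.Ring ⧸ J') a) = algebraMap A (Ch ⧸ J) a :=
            RingHom.congr_fun hcompA a
          rw [IsScalarTower.algebraMap_apply A (Y.Ring ⧸ J') (AdicCompletion _ (Y.Ring ⧸ J')),
            ComplFin.complMap_of, hca, ← IsScalarTower.algebraMap_apply] }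
    exact ⟨AlgEquiv.ofBijective F hbij⟩

end Groth.Agent.Helper8.HensQuot
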