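import Mathlib
import Groth.Prelude
import Groth.Agent.Lib.Helper8.HensUJ1
import Groth.Agent.Lib.Helper8.CompFib2
import Groth.Agent.Lib.Helper8.DescFib1

/-!
# Geometrically reduced fibres ascend along maps with "ind-étale" fibres
-/

set_option autoImplicit false
universe u

namespace Groth.Agent.Helper8.HensUJ

open TensorProduct

section ascent

variable (R S C : Type u) [CommRing R] [CommRing S] [CommRing C] [Algebra R S] [Algebra S C]
  [Algebra R C] [IsScalarTower R S C]

/-- The residue field of a prime `q` of `S` is algebraic over the residue field of its contraction,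
when the fibre ring is integral over the residue field. -/
theorem isAlgebraic_residueField_of_isIntegral_fiber (q : Ideal S) [q.IsPrime]
    (hint : Algebra.IsIntegral (q.under R).ResidueField ((q.under R).Fiber S)) :
    letI : q.LiesOver (q.under R) := ⟨rfl⟩
    letI := Localization.AtPrime.algebraOfLiesOver (q.under R) q
    Algebra.IsAlgebraic (q.under R).ResidueField q.ResidueField := by
  haveI : q.LiesOver (q.under R) := ⟨rfl⟩
  letI := Localization.AtPrime.algebraOfLiesOver (q.under R) q
  let φ : (q.under R).Fiber S →ₐ[(q.under R).ResidueField] q.ResidueField :=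
    Algebra.TensorProduct.lift (Algebra.ofId _ _) (IsScalarTower.toAlgHom R S q.ResidueField)
      (fun _ _ => Commute.all _ _)
  have himg : ∀ s : S, IsIntegral (q.under R).ResidueField (algebraMap S q.ResidueField s) := by
    intro s
    have h1 : IsIntegral (q.under R).ResidueField ((1 : (q.under R).ResidueField) ⊗ₜ[R] s) :=
      hint.isIntegral _
    have h2 := h1.map φ
    have h3 : φ ((1 : (q.under R).ResidueField) ⊗ₜ[R] s) = algebraMap S q.ResidueField s := by
      simp [φ]
    rwa [h3] at h2
  refine ⟨fun x => ?_⟩
  rw [isAlgebraic_iff_isIntegral]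
  obtain ⟨a, b, -, rfl⟩ := IsFractionRing.div_surjective (A := S ⧸ q) x
  obtain ⟨a, rfl⟩ := Ideal.Quotient.mk_surjective a
  obtain ⟨b, rfl⟩ := Ideal.Quotient.mk_surjective b
  have ha : algebraMap (S ⧸ q) q.ResidueField (Ideal.Quotient.mk q a) =
      algebraMap S q.ResidueField a := rfl
  have hb : algebraMap (S ⧸ q) q.ResidueField (Ideal.Quotient.mk q b) =
      algebraMap S q.ResidueField b := rfl
  rw [ha, hb, div_eq_mul_inv]
  exact (himg a).mul (himg b).inv

/-- Dimension zero transfers along ring isomorphisms. -/
theorem krullDimLE_zero_of_ringEquiv {A B : Type*} [CommRing A] [CommRing B] (e : A ≃+* B)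
    [Ring.KrullDimLE 0 A] : Ring.KrullDimLE 0 B := by
  rw [Ring.krullDimLE_iff, ← ringKrullDim_eq_of_ringEquiv e, ← Ring.krullDimLE_iff]
  infer_instance

/-- **Ascent of geometrically reduced fibres.** Let `R → S → C` be ring maps and `q` a prime of
`S` with contraction `p`. If the fibre ring `κ(p) ⊗ S` is integral over `κ(p)` and stays reduced
after every field extension of `κ(p)`, and the fibre of `R → C` at `p` is geometrically reduced,
then so is the fibre of `S → C` at `q`. -/
theorem isGeometricallyReduced_fiber_of_under (q : Ideal S) [q.IsPrime]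
    (hint : Algebra.IsIntegral (q.under R).ResidueField ((q.under R).Fiber S))
    (hred : ∀ (K : Type u) [Field K] [Algebra (q.under R).ResidueField K],
      IsReduced (K ⊗[(q.under R).ResidueField] (q.under R).Fiber S))
    (hC : Algebra.IsGeometricallyReduced (q.under R).ResidueField ((q.under R).Fiber C)) :
    Algebra.IsGeometricallyReduced q.ResidueField (q.Fiber C) := by
  haveI : q.LiesOver (q.under R) := ⟨rfl⟩
  letI := Localization.AtPrime.algebraOfLiesOver (q.under R) q
  haveI halg := isAlgebraic_residueField_of_isIntegral_fiber R S q hint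
  apply Groth.Agent.Helper8.CompFib.isGeometricallyReduced_of_forall_finite
  intro K _ _ hfin
  haveI := hfin
  letI iS : Algebra S K :=
    ((algebraMap q.ResidueField K).comp (algebraMap S q.ResidueField)).toAlgebra
  haveI tS : IsScalarTower S q.ResidueField K := .of_algebraMap_eq' rfl
  letI iP : Algebra (q.under R).ResidueField K :=
    ((algebraMap q.ResidueField K).comp
      (algebraMap (q.under R).ResidueField q.ResidueField)).toAlgebra
  haveI tP : IsScalarTower (q.under R).ResidueField q.ResidueField K := .of_algebraMap_eq' rfl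
  letI iR : Algebra R K :=
    ((algebraMap (q.under R).ResidueField K).comp
      (algebraMap R (q.under R).ResidueField)).toAlgebra
  haveI tR : IsScalarTower R (q.under R).ResidueField K := .of_algebraMap_eq' rfl
  haveI tRS : IsScalarTower R S K := by
    refine .of_algebraMap_eq fun r => ?_
    change algebraMap q.ResidueField K (algebraMap (q.under R).ResidueField q.ResidueField
      (algebraMap R (q.under R).ResidueField r)) =
      algebraMap q.ResidueField K (algebraMap S q.ResidueField (algebraMap R S r))
    rw [← IsScalarTower.algebraMap_apply R (q.under R).ResidueField q.ResidueField,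
      ← IsScalarTower.algebraMap_apply R S q.ResidueField]
  haveI : Algebra.IsAlgebraic q.ResidueField K := Algebra.IsAlgebraic.of_finite _ _
  haveI : Algebra.IsAlgebraic (q.under R).ResidueField K :=
    Algebra.IsAlgebraic.trans (q.under R).ResidueField q.ResidueField K
  -- `K` as an algebra over `E = S ⊗[R] K`
  let μ : S ⊗[R] K →ₐ[S] K :=
    Algebra.TensorProduct.lift (Algebra.ofId S K) (AlgHom.id R K) (fun _ _ => Commute.all _ _)
  letI iE : Algebra (S ⊗[R] K) K := μ.toRingHom.toAlgebra
  haveI tE : IsScalarTower S (S ⊗[R] K) K := by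
    refine .of_algebraMap_eq fun s => ?_
    change algebraMap S K s = μ (algebraMap S (S ⊗[R] K) s)
    rw [μ.commutes]
  have hsurj : Function.Surjective (algebraMap (S ⊗[R] K) K) := by
    intro x
    refine ⟨1 ⊗ₜ x, ?_⟩
    change μ (1 ⊗ₜ x) = x
    simp [μ]
  -- `E` is reduced of dimension zero
  let eB : K ⊗[(q.under R).ResidueField] ((q.under R).ResidueField ⊗[R] S)
      ≃ₐ[(q.under R).ResidueField] K ⊗[R] S :=
    Algebra.TensorProduct.cancelBaseChange R (q.under R).ResidueField (q.under R).ResidueField K S
  let eK : S ⊗[R] K ≃ₐ[R] K ⊗[R] S := Algebra.TensorProduct.comm R S K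
  haveI := hred K
  haveI hE1 : IsReduced (S ⊗[R] K) :=
    isReduced_of_injective (eK.toRingEquiv.trans eB.symm.toRingEquiv) (RingEquiv.injective _)
  haveI hE2 : Ring.KrullDimLE 0 (S ⊗[R] K) :=
    @krullDimLE_zero_of_ringEquiv _ _ _ _ (eK.toRingEquiv.trans eB.symm.toRingEquiv).symm
      (krullDimLE_zero_of_isIntegral K _)
  -- `E ⊗[S] C` is reduced
  obtain ⟨e⟩ := Groth.Agent.Helper8.DescFib.nonempty_baseChange_equiv R S C K
  let eC : K ⊗[(q.under R).ResidueField] ((q.under R).ResidueField ⊗[R] C)
      ≃ₐ[(q.under R).ResidueField] K ⊗[R] C :=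
    Algebra.TensorProduct.cancelBaseChange R (q.under R).ResidueField (q.under R).ResidueField K C
  have hW : IsReduced ((S ⊗[R] K) ⊗[S] C) :=
    isReduced_of_injective (e.trans eC.symm.toRingEquiv) (RingEquiv.injective _)
  have h3 : IsReduced (K ⊗[S] C) := isReduced_tensor_of_surjective S (S ⊗[R] K) K C hsurj hW
  exact isReduced_of_injective
    (Algebra.TensorProduct.cancelBaseChange S q.ResidueField q.ResidueField K C)
    (AlgEquiv.injective _)

end ascent

end Groth.Agent.Helper8.HensUJ
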