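import Mathlib
import Groth.Prelude
import Groth.Agent.Lib.Helper8.HensUJ2
import Groth.Agent.Lib.Helper8.HensFC2
import Groth.Agent.S2736

/-!
# Geometrically reduced formal fibres and henselization
-/

set_option autoImplicit false
universe u

namespace Groth.Agent.Helper8.HensUJ

open TensorProduct IsLocalRing

section transfer

variable {R C C' : Type u} [CommRing R] [CommRing C] [CommRing C'] [Algebra R C] [Algebra R C']

theorem isGeometricallyReduced_fiber_of_algEquiv (e : C ≃ₐ[R] C') (p : Ideal R) [p.IsPrime]
    (h : Algebra.IsGeometricallyReduced p.ResidueField (p.Fiber C)) :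
    Algebra.IsGeometricallyReduced p.ResidueField (p.Fiber C') :=
  Algebra.IsGeometricallyReduced.of_injective
    ((Algebra.TensorProduct.congr (AlgEquiv.refl : p.ResidueField ≃ₐ[p.ResidueField] p.ResidueField)
      e.symm : p.Fiber C' ≃ₐ[p.ResidueField] p.Fiber C) : p.Fiber C' →ₐ[p.ResidueField] p.Fiber C)
    (AlgEquiv.injective _)

end transfer

variable (R S : Type u) [CommRing R] [IsLocalRing R] [IsNoetherianRing R]
  [CommRing S] [IsLocalRing S] [Algebra R S] [IsLocalHom (algebraMap R S)]
  [Hensel.IsHenselization R S]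

/-- The fibre rings of a henselization are integral, Noetherian and universally reduced. -/
theorem fiber_facts (p : Ideal R) [p.IsPrime] :
    Algebra.IsIntegral p.ResidueField (p.Fiber S) ∧ IsNoetherianRing (p.Fiber S) ∧
      ∀ (K : Type u) [Field K] [Algebra p.ResidueField K],
        IsReduced (K ⊗[p.ResidueField] p.Fiber S) := by
  obtain ⟨n, L, iF, iA, hsep, ⟨e⟩⟩ := Groth.Agent.S2736.result R S p
  haveI := hsep
  haveI : ∀ i, Algebra.IsIntegral p.ResidueField (L i) := fun i =>
    haveI : Algebra.IsAlgebraic p.ResidueField (L i) := Algebra.IsSeparable.isAlgebraic _ _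
    Algebra.IsAlgebraic.isIntegral
  haveI h1 : Algebra.IsIntegral p.ResidueField (Π i, L i) := isIntegral_pi L
  refine ⟨Algebra.IsIntegral.of_injective (e : p.Fiber S →ₐ[p.ResidueField] Π i, L i) e.injective,
    isNoetherianRing_of_ringEquiv _ e.symm.toRingEquiv, fun K _ _ => ?_⟩
  haveI := isReduced_tensor_pi p.ResidueField K L hsep
  exact isReduced_of_injective
    (Algebra.TensorProduct.congr (AlgEquiv.refl : K ≃ₐ[p.ResidueField] K) e)
    (AlgEquiv.injective _)

theorem hasGeomReducedFormalFibres_of_base (h : EGA4.HasGeomReducedFormalFibres R) :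
    EGA4.HasGeomReducedFormalFibres S := by
  haveI : IsNoetherianRing S := (Groth.Agent.S0511.result R S).mp inferInstance
  haveI : Module.Flat R S := Groth.Agent.Helper7.Hens.flat_of_isHenselization R S
  let e := CplIso.cplEquiv R S (Groth.Agent.S0507.result R S)
    (Groth.Agent.Helper8.HensFC.exists_sub_mem R S)
  intro q _
  obtain ⟨hint, -, hred⟩ := fiber_facts R S (q.under R)
  exact isGeometricallyReduced_fiber_of_under R S (EGA4.Cpl S) q hint hred
    (isGeometricallyReduced_fiber_of_algEquiv e (q.under R) (h (q.under R)))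

theorem hasGeomReducedFormalFibres_base (h : EGA4.HasGeomReducedFormalFibres S) :
    EGA4.HasGeomReducedFormalFibres R := by
  haveI : IsNoetherianRing S := (Groth.Agent.S0511.result R S).mp inferInstance
  haveI : Module.Flat R S := Groth.Agent.Helper7.Hens.flat_of_isHenselization R S
  haveI : IsNoetherianRing (EGA4.Cpl S) := Groth.Agent.Helper8.AdicReg.isNoetherianRing S _
  let e := CplIso.cplEquiv R S (Groth.Agent.S0507.result R S)
    (Groth.Agent.Helper8.HensFC.exists_sub_mem R S)
  intro p _
  have h1 : Algebra.IsGeometricallyReduced p.ResidueField (p.Fiber (EGA4.Cpl S)) := by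
    apply Groth.Agent.Helper8.CompFib.isGeometricallyReduced_of_forall_finite
    intro K _ _ hfin
    haveI := hfin
    obtain ⟨-, hN, hred⟩ := fiber_facts R S p
    haveI := hN
    haveI : IsNoetherianRing (p.Fiber (EGA4.Cpl S)) :=
      Groth.Agent.Helper8.Fib.isNoetherianRing_fiber p
    exact Groth.Agent.Helper8.CompFib.isReduced_fibre_comp R S (EGA4.Cpl S) p K (hred K)
      (fun q _ => h q)
  exact isGeometricallyReduced_fiber_of_algEquiv e.symm p h1

end Groth.Agent.Helper8.HensUJ
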