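import Mathlib
import Groth.Agent.Lib.Helper7.Hens.HfpEtale
import Groth.Agent.Lib.Helper7.SymTrick.Lift
import Groth.Agent.Lib.Helper8.SmQ9

set_option autoImplicit false
set_option linter.style.haveILetI false
set_option linter.unusedVariables false
set_option linter.unusedSectionVars false

open TensorProduct

/-! helper8: hfp maps with smooth truncations are quotients of h-smooth algebras by finitely
generated ideals inside all powers of `I` (smooth analogue of helper7's `HfpEtale`). -/

namespace Groth.Agent.Helper8.HfpSmooth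

open Groth.Agent.Helper7.Hensel Groth.Agent.Helper7.Hens Groth.Agent.Helper7.HfpSurj

universe u

section Flat

/-- A surjective linear map onto a flat module which reflects `𝔫 M` for a nilpotent ideal `𝔫`
is injective. -/
theorem injective_of_flat_of_nilpotent {Λ X Y : Type*} [CommRing Λ] [AddCommGroup X] [Module Λ X]
    [AddCommGroup Y] [Module Λ Y] [Module.Flat Λ Y] (𝔫 : Ideal Λ) (h𝔫 : IsNilpotent 𝔫)
    (f : X →ₗ[Λ] Y) (hsurj : Function.Surjective f)
    (hinj : ∀ x, f x ∈ 𝔫 • (⊤ : Submodule Λ Y) → x ∈ 𝔫 • (⊤ : Submodule Λ X)) :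
    Function.Injective f := by
  classical
  have hstep : LinearMap.ker f ≤ 𝔫 • LinearMap.ker f := by
    intro x hx
    have hfx : f x = 0 := LinearMap.mem_ker.mp hx
    have hx1 : x ∈ 𝔫 • (⊤ : Submodule Λ X) := by
      apply hinj
      rw [hfx]
      exact Submodule.zero_mem _
    have htop : (⊤ : Submodule Λ X) = Submodule.span Λ (Set.range (id : X → X)) := by
      rw [Set.range_id, Submodule.span_univ]
    rw [htop, Submodule.mem_ideal_smul_span_iff_exists_sum] at hx1
    obtain ⟨a, ha, hax⟩ := hx1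
    have hax' : ∑ i ∈ a.support, a i • i = x := hax
    -- the relation in `Y`
    have hrel : ∑ i : a.support, a (i : X) • f (i : X) = 0 := by
      rw [Finset.sum_coe_sort a.support (fun i => a i • f i)]
      have : f x = ∑ i ∈ a.support, a i • f i := by
        rw [← hax', map_sum]
        exact Finset.sum_congr rfl fun i _ => map_smul f _ _
      rw [← this, hfx]
    obtain ⟨k, b, y, hy1, hy2⟩ := Module.Flat.isTrivialRelation_of_sum_smul_eq_zero hrel
    have hy1' : ∀ i : a.support, f (i : X) = ∑ j, b i j • y j := fun i => hy1 i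
    have hy2' : ∀ j, ∑ i : a.support, a (i : X) * b i j = 0 := fun j => hy2 j
    choose x' hx' using fun j => hsurj (y j)
    have hk : ∀ i : a.support, (i : X) - ∑ j, b i j • x' j ∈ LinearMap.ker f := by
      intro i
      rw [LinearMap.mem_ker, map_sub, map_sum, hy1' i, sub_eq_zero]
      exact Finset.sum_congr rfl fun j _ => by rw [map_smul, hx']
    have hsum : x = ∑ i : a.support, a (i : X) • ((i : X) - ∑ j, b i j • x' j) := by
      have h1 : ∑ i : a.support, a (i : X) • ∑ j, b i j • x' j = 0 := by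
        simp only [Finset.smul_sum, smul_smul]
        rw [Finset.sum_comm]
        refine Finset.sum_eq_zero fun j _ => ?_
        rw [← Finset.sum_smul, hy2' j, zero_smul]
      simp only [smul_sub, Finset.sum_sub_distrib]
      rw [h1, sub_zero, Finset.sum_coe_sort a.support (fun i => a i • i)]
      exact hax'.symm
    rw [hsum]
    exact Submodule.sum_mem _ fun i _ => Submodule.smul_mem_smul (ha _) (hk i)
  have hpow : ∀ m : ℕ, LinearMap.ker f ≤ 𝔫 ^ m • LinearMap.ker f := by
    intro m
    induction m with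
    | zero => rw [pow_zero, Ideal.one_eq_top, Submodule.top_smul]
    | succ m ih =>
      calc LinearMap.ker f ≤ 𝔫 • LinearMap.ker f := hstep
        _ ≤ 𝔫 • (𝔫 ^ m • LinearMap.ker f) := Submodule.smul_mono le_rfl ih
        _ = 𝔫 ^ (m + 1) • LinearMap.ker f := by rw [← Submodule.mul_smul, ← pow_succ']
  obtain ⟨m, hm⟩ := h𝔫
  have hbot : LinearMap.ker f = ⊥ := by
    have := hpow m
    rw [hm, Ideal.zero_eq_bot, Submodule.bot_smul] at this
    exact le_bot_iff.mp this
  exact LinearMap.ker_eq_bot.mp hbot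

/-- Algebra version. -/
theorem injective_of_flat_of_nilpotent_alg {k X Y : Type u} [CommRing k] [CommRing X] [CommRing Y]
    [Algebra k X] [Algebra k Y] [Module.Flat k Y] (f : X →ₐ[k] Y) (hsurj : Function.Surjective f)
    (𝔫 : Ideal k) (h𝔫 : IsNilpotent 𝔫)
    (hinj : ∀ x, f x ∈ 𝔫.map (algebraMap k Y) → x ∈ 𝔫.map (algebraMap k X)) :
    Function.Injective f := by
  have hinj' : ∀ x, f.toLinearMap x ∈ 𝔫 • (⊤ : Submodule k Y) →
      x ∈ 𝔫 • (⊤ : Submodule k X) := by
    intro x hx
    rw [Ideal.smul_top_eq_map] at hx ⊢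
    exact hinj x hx
  exact injective_of_flat_of_nilpotent 𝔫 h𝔫 f.toLinearMap hsurj hinj'

end Flat

section Main

variable (A : Type u) [CommRing A] (I : Ideal A) [HenselianRing A I]
  (R₀ : Type u) [CommRing R₀] [Algebra A R₀] [Algebra.FinitePresentation A R₀]
  (B : Type u) [CommRing B] [Algebra R₀ B] [Algebra A B] [IsScalarTower A R₀ B]
  (hB : Hens2.IsPairHenselization R₀ (I.map (algebraMap A R₀)) B)
  (R : Type u) [CommRing R] [Algebra A R] [Algebra.Smooth A R]
  (H : Type u) [CommRing H] [Algebra R H] [Algebra A H] [IsScalarTower A R H]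
  (hH : Hens2.IsPairHenselization R (I.map (algebraMap A R)) H)
  (θ : (R ⧸ I.map (algebraMap A R)) ≃ₐ[A] (B ⧸ I.map (algebraMap A B)))

include hB hH θ in
/-- The comparison map from the henselization of a smooth lift. -/
theorem exists_comparison :
    ∃ φ : H →ₐ[A] B, (∀ x : H, φ x ∈ I.map (algebraMap A B) → x ∈ I.map (algebraMap A H)) ∧
      ∀ b : B, ∃ x : H, φ x - b ∈ I.map (algebraMap A B) := by
  have hIB : (I.map (algebraMap A R₀)).map (algebraMap R₀ B) = I.map (algebraMap A B) := by
    rw [Ideal.map_map, ← IsScalarTower.algebraMap_eq]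
  have hIH : (I.map (algebraMap A R)).map (algebraMap R H) = I.map (algebraMap A H) := by
    rw [Ideal.map_map, ← IsScalarTower.algebraMap_eq]
  have hHensB : HenselianRing B (I.map (algebraMap A B)) := hIB ▸ hB.1
  have hGB : Gabber B (I.map (algebraMap A B)) := Gabber.of_henselianRing hHensB
  let s₀ : R →ₐ[A] B ⧸ I.map (algebraMap A B) :=
    θ.toAlgHom.comp (Ideal.Quotient.mkₐ A (I.map (algebraMap A R)))
  obtain ⟨τ, hτ0⟩ := Groth.Agent.Helper7.SymTrick.exists_lift_of_smooth A R B
    (I.map (algebraMap A B)) hGB s₀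
  have hτ : ∀ r, Ideal.Quotient.mk (I.map (algebraMap A B)) (τ r) = s₀ r :=
    fun r => AlgHom.congr_fun hτ0 r
  have hle : (I.map (algebraMap A R)).map τ.toRingHom ≤ I.map (algebraMap A B) := by
    rw [Ideal.map_map]
    apply le_of_eq
    congr 1
    ext a
    exact τ.commutes a
  obtain ⟨g, hg, -⟩ := hH.2 B (I.map (algebraMap A B)) τ.toRingHom hHensB hle
  have hgr : ∀ r : R, g (algebraMap R H r) = τ r := fun r => RingHom.congr_fun hg r
  let φ : H →ₐ[A] B :=
    { g with
      commutes' := by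
        intro a
        show g (algebraMap A H a) = algebraMap A B a
        rw [IsScalarTower.algebraMap_apply A R H, hgr, AlgHom.commutes] }
  have hφr : ∀ r : R, φ (algebraMap R H r) = τ r := hgr
  have hφI : ∀ x ∈ I.map (algebraMap A H), φ x ∈ I.map (algebraMap A B) := fun x hx =>
    algHom_mem_map φ hx
  refine ⟨φ, ?_, ?_⟩
  · intro x hx
    obtain ⟨rbar, hr⟩ := (quotient_bijective_of_isPairHenselization hH).2 (Ideal.Quotient.mk _ x)
    obtain ⟨r, rfl⟩ := Ideal.Quotient.mk_surjective rbar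
    rw [Ideal.quotientMap_mk, Ideal.Quotient.eq, hIH] at hr
    have h1 : φ (algebraMap R H r) ∈ I.map (algebraMap A B) := by
      have := hφI _ hr
      rw [map_sub] at this
      have h2 := Ideal.add_mem _ this hx
      rwa [sub_add_cancel] at h2
    rw [hφr] at h1
    have h2 : s₀ r = 0 := by rw [← hτ]; exact Ideal.Quotient.eq_zero_iff_mem.mpr h1
    have h3 : (Ideal.Quotient.mk (I.map (algebraMap A R)) r) = 0 := by
      apply θ.injective
      rw [map_zero]
      exact h2
    have h4 : algebraMap R H r ∈ I.map (algebraMap A H) := by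
      rw [← hIH]
      exact Ideal.mem_map_of_mem _ (Ideal.Quotient.eq_zero_iff_mem.mp h3)
    have h5 := Ideal.sub_mem _ h4 hr
    rwa [sub_sub_cancel] at h5
  · intro b
    obtain ⟨rbar, hr⟩ := θ.surjective (Ideal.Quotient.mk _ b)
    obtain ⟨r, rfl⟩ := Ideal.Quotient.mk_surjective rbar
    refine ⟨algebraMap R H r, ?_⟩
    rw [hφr, ← Ideal.Quotient.eq, hτ]
    exact hr

include hB hH in
theorem comparison_surjective (φ : H →ₐ[A] B)
    (hsurj : ∀ b : B, ∃ x : H, φ x - b ∈ I.map (algebraMap A B)) :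
    Function.Surjective φ ∧ (RingHom.ker φ.toRingHom).FG := by
  have hIH : (I.map (algebraMap A R)).map (algebraMap R H) = I.map (algebraMap A H) := by
    rw [Ideal.map_map, ← IsScalarTower.algebraMap_eq]
  letI algHB : Algebra H B := φ.toRingHom.toAlgebra
  haveI : IsScalarTower A H B := IsScalarTower.of_algebraMap_eq (fun a => (φ.commutes a).symm)
  haveI : Algebra.FinitePresentation A R := Algebra.Smooth.finitePresentation
  obtain ⟨T, _, _, _, _, hTfp, hT⟩ := exists_finitePresentation_hom A I R H hH R₀ B hB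
  haveI : HenselianRing H (I.map (algebraMap A H)) := hIH ▸ hH.1
  have hIHB : (I.map (algebraMap A H)).map (algebraMap H B) = I.map (algebraMap A B) := by
    rw [Ideal.map_map, ← IsScalarTower.algebraMap_eq]
  have hsurj' : Function.Surjective (Ideal.quotientMap ((I.map (algebraMap A H)).map
      (algebraMap H B)) (algebraMap H B) Ideal.le_comap_map) := by
    intro y
    obtain ⟨b, rfl⟩ := Ideal.Quotient.mk_surjective y
    obtain ⟨x, hx⟩ := hsurj b
    refine ⟨Ideal.Quotient.mk _ x, ?_⟩
    rw [Ideal.quotientMap_mk, Ideal.Quotient.eq, hIHB]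
    exact hx
  exact surjective_and_ker_fg H (I.map (algebraMap A H)) T B hT hsurj'

theorem comparison_ker_le (φ : H →ₐ[A] B)
    (hinj : ∀ x : H, φ x ∈ I.map (algebraMap A B) → x ∈ I.map (algebraMap A H))
    (hφsurj : Function.Surjective φ)
    (hfl : ∀ r : ℕ, 1 ≤ r →
      Module.Flat (A ⧸ I ^ r) (B ⧸ (I ^ r).map (algebraMap A B)))
    (n : ℕ) : RingHom.ker φ.toRingHom ≤ (I ^ n).map (algebraMap A H) := by
  rcases Nat.eq_zero_or_pos n with rfl | hn
  · rw [pow_zero, Ideal.one_eq_top, Ideal.map_top]; exact le_top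
  have hpowle : I ^ n ≤ I := Ideal.pow_le_self (by omega)
  have hφI : ∀ (K : Ideal A), ∀ x ∈ K.map (algebraMap A H), φ x ∈ K.map (algebraMap A B) :=
    fun K x hx => algHom_mem_map φ hx
  have hle : (I ^ n).map (algebraMap A H) ≤
      ((I ^ n).map (algebraMap A B)).comap φ.toRingHom := fun x hx => hφI _ x hx
  let f₀ : (H ⧸ (I ^ n).map (algebraMap A H)) →+* (B ⧸ (I ^ n).map (algebraMap A B)) :=
    Ideal.quotientMap _ φ.toRingHom hle
  have hf₀ : ∀ x : H, f₀ (Ideal.Quotient.mk _ x) = Ideal.Quotient.mk _ (φ x) := fun x => rfl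
  let f : (H ⧸ (I ^ n).map (algebraMap A H)) →ₐ[A ⧸ I ^ n] (B ⧸ (I ^ n).map (algebraMap A B)) :=
    { f₀ with
      commutes' := by
        intro x
        obtain ⟨a, rfl⟩ := Ideal.Quotient.mk_surjective x
        change f₀ (Ideal.Quotient.mk _ (algebraMap A H a)) =
          Ideal.Quotient.mk _ (algebraMap A B a)
        rw [hf₀, AlgHom.commutes] }
  have hf : ∀ x : H, f (Ideal.Quotient.mk _ x) = Ideal.Quotient.mk _ (φ x) := fun x => rfl
  haveI := hfl n hn
  let 𝔫 : Ideal (A ⧸ I ^ n) := I.map (Ideal.Quotient.mk (I ^ n))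
  have h𝔫 : IsNilpotent 𝔫 := by
    refine ⟨n, ?_⟩
    show 𝔫 ^ n = ⊥
    rw [← Ideal.map_pow, Ideal.map_quotient_self]
  have hJ : 𝔫.map (algebraMap (A ⧸ I ^ n) (H ⧸ (I ^ n).map (algebraMap A H))) =
      (I.map (algebraMap A H)).map (Ideal.Quotient.mk _) := by
    rw [Ideal.map_map, Ideal.map_map]
    rfl
  have hJ' : 𝔫.map (algebraMap (A ⧸ I ^ n) (B ⧸ (I ^ n).map (algebraMap A B))) =
      (I.map (algebraMap A B)).map (Ideal.Quotient.mk _) := by
    rw [Ideal.map_map, Ideal.map_map]
    rfl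
  have hmemJ : ∀ x : H, Ideal.Quotient.mk ((I ^ n).map (algebraMap A H)) x ∈
      (I.map (algebraMap A H)).map (Ideal.Quotient.mk ((I ^ n).map (algebraMap A H))) ↔
      x ∈ I.map (algebraMap A H) := by
    intro x
    constructor
    · intro hx
      obtain ⟨h, hh, hhx⟩ :=
        (Ideal.mem_map_iff_of_surjective _ Ideal.Quotient.mk_surjective).mp hx
      have h1 : h - x ∈ (I ^ n).map (algebraMap A H) := Ideal.Quotient.eq.mp hhx
      have h2 : h - x ∈ I.map (algebraMap A H) := Ideal.map_mono hpowle h1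
      have h3 := Ideal.sub_mem _ hh h2
      rwa [sub_sub_cancel] at h3
    · intro hx
      exact Ideal.mem_map_of_mem _ hx
  have hmemJ' : ∀ x : B, Ideal.Quotient.mk ((I ^ n).map (algebraMap A B)) x ∈
      (I.map (algebraMap A B)).map (Ideal.Quotient.mk ((I ^ n).map (algebraMap A B))) ↔
      x ∈ I.map (algebraMap A B) := by
    intro x
    constructor
    · intro hx
      obtain ⟨h, hh, hhx⟩ :=
        (Ideal.mem_map_iff_of_surjective _ Ideal.Quotient.mk_surjective).mp hx
      have h1 : h - x ∈ (I ^ n).map (algebraMap A B) := Ideal.Quotient.eq.mp hhx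
      have h2 : h - x ∈ I.map (algebraMap A B) := Ideal.map_mono hpowle h1
      have h3 := Ideal.sub_mem _ hh h2
      rwa [sub_sub_cancel] at h3
    · intro hx
      exact Ideal.mem_map_of_mem _ hx
  have hfsurj : Function.Surjective f := by
    intro y
    obtain ⟨b, rfl⟩ := Ideal.Quotient.mk_surjective y
    obtain ⟨x, rfl⟩ := hφsurj b
    exact ⟨Ideal.Quotient.mk _ x, hf x⟩
  have hfinj : Function.Injective f := by
    apply injective_of_flat_of_nilpotent_alg f hfsurj 𝔫 h𝔫
    intro x hx
    obtain ⟨x, rfl⟩ := Ideal.Quotient.mk_surjective x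
    rw [hJ', hf, hmemJ'] at hx
    rw [hJ, hmemJ]
    exact hinj x hx
  intro x hx
  have hx0 : φ x = 0 := hx
  have h1 : f (Ideal.Quotient.mk _ x) = 0 := by rw [hf, hx0, map_zero]
  have h2 := (injective_iff_map_eq_zero f).mp hfinj _ h1
  exact Ideal.Quotient.eq_zero_iff_mem.mp h2

end Main

theorem S17599_main (A : Type u) [CommRing A] (I : Ideal A)
    [HenselianRing A I] (R₀ : Type u) [CommRing R₀] [Algebra A R₀] [Algebra.FinitePresentation A R₀]
    (B : Type u) [CommRing B] [Algebra R₀ B] [Algebra A B] [IsScalarTower A R₀ B]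
    (hB : Hens2.IsPairHenselization R₀ (I.map (algebraMap A R₀)) B)
    (het : ∀ r : ℕ, 1 ≤ r → Algebra.Smooth (A ⧸ I ^ r) (B ⧸ (I ^ r).map (algebraMap A B))) :
    ∃ (R : Type u) (_ : CommRing R) (_ : Algebra A R) (H : Type u) (_ : CommRing H) (_ : Algebra R H)
      (_ : Algebra A H) (_ : IsScalarTower A R H),
      Algebra.Smooth A R ∧ Hens2.IsPairHenselization R (I.map (algebraMap A R)) H ∧
      ∃ φ : H →ₐ[A] B, Function.Surjective φ ∧ (RingHom.ker φ).FG ∧
        ∀ n : ℕ, RingHom.ker φ ≤ (I ^ n).map (algebraMap A H) := by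
  haveI := het 1 le_rfl
  obtain ⟨R, _, _, hRsm, ⟨θ₀⟩⟩ := Groth.Agent.Helper8.SmQ.exists_smooth_lift (R := A)
    (A₀ := B ⧸ (I ^ 1).map (algebraMap A B)) (I ^ 1)
  haveI := hRsm
  let θ₂ : (R ⧸ (I ^ 1).map (algebraMap A R)) ≃ₐ[A] (B ⧸ (I ^ 1).map (algebraMap A B)) :=
    θ₀.restrictScalars A
  have h₁ : I.map (algebraMap A R) = (I ^ 1).map (algebraMap A R) := by rw [pow_one]
  have h₂ : (I ^ 1).map (algebraMap A B) = I.map (algebraMap A B) := by rw [pow_one]
  let θ : (R ⧸ I.map (algebraMap A R)) ≃ₐ[A] (B ⧸ I.map (algebraMap A B)) :=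
    ((Ideal.quotientEquivAlgOfEq A h₁).trans θ₂).trans (Ideal.quotientEquivAlgOfEq A h₂)
  let H := Groth.Agent.Helper7.Hens.H R (I.map (algebraMap A R))
  letI algAH : Algebra A H := ((algebraMap R H).comp (algebraMap A R)).toAlgebra
  haveI : IsScalarTower A R H := IsScalarTower.of_algebraMap_eq (fun _ => rfl)
  have hH : Hens2.IsPairHenselization R (I.map (algebraMap A R)) H :=
    Groth.Agent.Helper7.Hens.isPairHenselization_H R _
  obtain ⟨φ, hinj, hsurj⟩ := exists_comparison A I R₀ B hB R H hH θ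
  obtain ⟨hφsurj, hφfg⟩ := comparison_surjective A I R₀ B hB R H hH φ hsurj
  refine ⟨R, inferInstance, inferInstance, H, inferInstance, inferInstance, algAH, inferInstance,
    hRsm, hH, φ, hφsurj, hφfg, fun n => ?_⟩
  exact comparison_ker_le A I B H φ hinj hφsurj (fun r hr => by
    haveI := het r hr
    infer_instance) n

end Groth.Agent.Helper8.HfpSmooth
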