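import Mathlib

/-!
Support of the Hodge generating series of complete intersections (for S8732, S8736).
All series involved have nonnegative coefficients, so the support of a product is the Minkowski
sum of the supports; the supports are the "cones" `Kc c M = {max ≤ c * min + M}`.
-/

set_option autoImplicit false

namespace Groth.Agent.Lib.Helper8.HodgeSer

open MvPowerSeries

/-- power series in `y, z` with integer coefficients -/
abbrev PS : Type := MvPowerSeries (Fin 2) ℤ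

/-! ### exponent vectors -/

/-- the exponent vector `(p, q)` -/
noncomputable def e (p q : ℕ) : Fin 2 →₀ ℕ := Finsupp.single 0 p + Finsupp.single 1 q

@[simp] theorem e_zero (p q : ℕ) : e p q 0 = p := by simp [e, Finsupp.single_apply]

@[simp] theorem e_one (p q : ℕ) : e p q 1 = q := by simp [e, Finsupp.single_apply]

theorem fin2_cases (i : Fin 2) : i = 0 ∨ i = 1 := by fin_cases i <;> simp

theorem eq_e (m : Fin 2 →₀ ℕ) : m = e (m 0) (m 1) := by
  ext i
  rcases fin2_cases i with rfl | rfl <;> simp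

theorem e_add (p q p' q' : ℕ) : e p q + e p' q' = e (p + p') (q + q') := by
  ext i
  rcases fin2_cases i with rfl | rfl <;> simp

theorem eq_e_iff (m : Fin 2 →₀ ℕ) (p q : ℕ) : m = e p q ↔ m 0 = p ∧ m 1 = q := by
  constructor
  · rintro rfl; exact ⟨e_zero p q, e_one p q⟩
  · rintro ⟨rfl, rfl⟩; exact eq_e m

/-! ### coefficients of the elementary terms -/

theorem term_eq (c u v : ℕ) :
    ((c : PS) * X 0 ^ u * X 1 ^ v) = monomial (e u v) (c : ℤ) := by
  have hc : (c : PS) = monomial (0 : Fin 2 →₀ ℕ) (c : ℤ) := by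
    rw [monomial_zero_eq_C_apply, map_natCast]
  rw [hc, X_pow_eq, X_pow_eq, monomial_mul_monomial, monomial_mul_monomial, zero_add, mul_one,
    mul_one]
  rfl

theorem coeff_term (c u v : ℕ) (m : Fin 2 →₀ ℕ) :
    coeff m ((c : PS) * X 0 ^ u * X 1 ^ v) = if m = e u v then (c : ℤ) else 0 := by
  rw [term_eq, coeff_monomial]

theorem coeff_double_sum (s t : Finset ℕ) (cond : ℕ → ℕ → Prop) [∀ u v, Decidable (cond u v)]
    (cf : ℕ → ℕ → ℕ) (hs : ∀ u v, cond u v → u ∈ s ∧ v ∈ t) (m : Fin 2 →₀ ℕ) :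
    coeff m (∑ u ∈ s, ∑ v ∈ t,
      if cond u v then ((cf u v : ℕ) : PS) * X 0 ^ u * X 1 ^ v else 0) =
      if cond (m 0) (m 1) then (cf (m 0) (m 1) : ℤ) else 0 := by
  have h1 : coeff m (∑ u ∈ s, ∑ v ∈ t,
      if cond u v then ((cf u v : ℕ) : PS) * X 0 ^ u * X 1 ^ v else 0) =
      ∑ u ∈ s, ∑ v ∈ t, (if cond u v ∧ m = e u v then (cf u v : ℤ) else 0) := by
    rw [map_sum]
    refine Finset.sum_congr rfl fun u _ => ?_
    rw [map_sum]
    refine Finset.sum_congr rfl fun v _ => ?_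
    by_cases hc : cond u v
    · rw [if_pos hc, coeff_term]
      by_cases hm : m = e u v
      · rw [if_pos hm, if_pos ⟨hc, hm⟩]
      · rw [if_neg hm, if_neg (fun h => hm h.2)]
    · rw [if_neg hc, map_zero, if_neg (fun h => hc h.1)]
  rw [h1]
  by_cases hc : cond (m 0) (m 1)
  · obtain ⟨hu, hv⟩ := hs _ _ hc
    have hin : ∑ v ∈ t, (if cond (m 0) v ∧ m = e (m 0) v then (cf (m 0) v : ℤ) else 0) =
        (cf (m 0) (m 1) : ℤ) := by
      rw [Finset.sum_eq_single_of_mem (m 1) hv (fun v _ hv' =>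
        if_neg (fun h => hv' (((eq_e_iff m _ _).mp h.2).2).symm))]
      exact if_pos ⟨hc, eq_e m⟩
    rw [if_pos hc, Finset.sum_eq_single_of_mem (m 0) hu (fun u _ hu' =>
      Finset.sum_eq_zero fun v _ =>
        if_neg (fun h => hu' (((eq_e_iff m _ _).mp h.2).1).symm)), hin]
  · rw [if_neg hc]
    refine Finset.sum_eq_zero fun u _ => Finset.sum_eq_zero fun v _ => if_neg ?_
    rintro ⟨h1', h2'⟩
    obtain ⟨rfl, rfl⟩ := (eq_e_iff m u v).mp h2'
    exact hc h1'

/-- the series `P_b` -/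
noncomputable def Pser (b : ℕ) : PS :=
  ∑ u ∈ Finset.range (b + 1), ∑ v ∈ Finset.range (b + 1),
    if 1 ≤ u ∧ 1 ≤ v ∧ u + v ≤ b then (b.choose (u + v) : PS) * X 0 ^ u * X 1 ^ v else 0

/-- the series `N_b` -/
noncomputable def Nser (b : ℕ) : PS :=
  ∑ u ∈ Finset.range b, ∑ v ∈ Finset.range b,
    if u + v + 1 ≤ b - 1 then ((b - 1).choose (u + v + 1) : PS) * X 0 ^ u * X 1 ^ v else 0

theorem coeff_Pser (b : ℕ) (m : Fin 2 →₀ ℕ) :
    coeff m (Pser b) =
      if 1 ≤ m 0 ∧ 1 ≤ m 1 ∧ m 0 + m 1 ≤ b then (b.choose (m 0 + m 1) : ℤ) else 0 := by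
  unfold Pser
  exact coeff_double_sum (Finset.range (b + 1)) (Finset.range (b + 1))
    (fun u v => 1 ≤ u ∧ 1 ≤ v ∧ u + v ≤ b) (fun u v => b.choose (u + v))
    (fun u v h => by
      obtain ⟨h1, h2, h3⟩ := h
      exact ⟨Finset.mem_range.mpr (by omega), Finset.mem_range.mpr (by omega)⟩) m

theorem coeff_Nser (b : ℕ) (m : Fin 2 →₀ ℕ) :
    coeff m (Nser b) =
      if m 0 + m 1 + 1 ≤ b - 1 then ((b - 1).choose (m 0 + m 1 + 1) : ℤ) else 0 := by
  unfold Nser
  exact coeff_double_sum (Finset.range b) (Finset.range b)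
    (fun u v => u + v + 1 ≤ b - 1) (fun u v => (b - 1).choose (u + v + 1))
    (fun u v h => by
      have h' : u + v + 1 ≤ b - 1 := h
      exact ⟨Finset.mem_range.mpr (by omega), Finset.mem_range.mpr (by omega)⟩) m

theorem coeff_Nser_succ (c : ℕ) (m : Fin 2 →₀ ℕ) :
    coeff m (Nser (c + 1)) =
      if m 0 + m 1 + 1 ≤ c then (c.choose (m 0 + m 1 + 1) : ℤ) else 0 := by
  have := coeff_Nser (c + 1) m
  simpa only [Nat.add_sub_cancel] using this

/-! ### nonnegativity and supports of products -/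

/-- all coefficients are nonnegative -/
def NN (F : PS) : Prop := ∀ m, 0 ≤ coeff m F

theorem nn_mul {F G : PS} (hF : NN F) (hG : NN G) : NN (F * G) := by
  intro m
  rw [coeff_mul]
  exact Finset.sum_nonneg fun x _ => mul_nonneg (hF _) (hG _)

theorem coeff_mul_ne_zero_iff {F G : PS} (hF : NN F) (hG : NN G) (m : Fin 2 →₀ ℕ) :
    coeff m (F * G) ≠ 0 ↔ ∃ m1 m2, m1 + m2 = m ∧ coeff m1 F ≠ 0 ∧ coeff m2 G ≠ 0 := by
  rw [coeff_mul]
  constructor
  · intro h
    obtain ⟨x, hx, hne⟩ := Finset.exists_ne_zero_of_sum_ne_zero h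
    refine ⟨x.1, x.2, Finset.HasAntidiagonal.mem_antidiagonal.mp hx, ?_, ?_⟩
    · intro h0; exact hne (by rw [h0, zero_mul])
    · intro h0; exact hne (by rw [h0, mul_zero])
  · rintro ⟨m1, m2, hsum, h1, h2⟩ hzero
    have hnn : ∀ x ∈ Finset.HasAntidiagonal.antidiagonal m, 0 ≤ coeff x.1 F * coeff x.2 G :=
      fun x _ => mul_nonneg (hF _) (hG _)
    have := (Finset.sum_eq_zero_iff_of_nonneg hnn).mp hzero (m1, m2)
      (Finset.HasAntidiagonal.mem_antidiagonal.mpr hsum)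
    rcases mul_eq_zero.mp this with h | h
    · exact h1 h
    · exact h2 h

theorem add_sum_ne_zero_iff {ι : Type*} (s : Finset ι) (a : ℤ) (T : ι → ℤ) (ha : 0 ≤ a)
    (hT : ∀ x ∈ s, 0 ≤ T x) : a + ∑ x ∈ s, T x ≠ 0 ↔ a ≠ 0 ∨ ∃ x ∈ s, T x ≠ 0 := by
  have hS : 0 ≤ ∑ x ∈ s, T x := Finset.sum_nonneg hT
  constructor
  · intro h
    by_contra hcon
    rw [not_or] at hcon
    obtain ⟨h1, h2⟩ := hcon
    have ha0 : a = 0 := not_not.mp h1
    have hS0 : ∑ x ∈ s, T x = 0 := Finset.sum_eq_zero fun x hx => by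
      by_contra hne; exact h2 ⟨x, hx, hne⟩
    exact h (by rw [ha0, hS0, add_zero])
  · rintro (h1 | ⟨x, hx, hne⟩) h0
    · exact h1 (by linarith)
    · have hS0 : ∑ x ∈ s, T x = 0 := by linarith
      exact hne ((Finset.sum_eq_zero_iff_of_nonneg hT).mp hS0 x hx)

/-! ### arithmetic of the support conditions -/

/-- support condition of the hypersurface series of degree `c + 1` -/
def condH (c p q : ℕ) : Prop := q + 1 ≤ c * (p + 1) ∧ p + 1 ≤ c * (q + 1)

theorem condH_symm {c p q : ℕ} (h : condH c p q) : condH c q p := ⟨h.2, h.1⟩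

theorem condH_of_small {c p q : ℕ} (h : p + q + 1 ≤ c) : condH c p q := by
  have h1 : c ≤ c * (p + 1) := Nat.le_mul_of_pos_right c (by omega)
  have h2 : c ≤ c * (q + 1) := Nat.le_mul_of_pos_right c (by omega)
  exact ⟨by omega, by omega⟩

theorem condH_add {c u v p q : ℕ} (hu : 1 ≤ u) (hv : 1 ≤ v) (huv : u + v ≤ c + 1)
    (h : condH c p q) : condH c (u + p) (v + q) := by
  obtain ⟨h1, h2⟩ := h
  have hcu : c ≤ c * u := Nat.le_mul_of_pos_right c (by omega)
  have hcv : c ≤ c * v := Nat.le_mul_of_pos_right c (by omega)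
  have e1 : c * (u + p + 1) = c * u + c * (p + 1) := by ring
  have e2 : c * (v + q + 1) = c * v + c * (q + 1) := by ring
  exact ⟨by omega, by omega⟩

theorem condH_step_aux {c p q : ℕ} (hpq : p ≤ q) (h : condH c p q) (hbig : ¬ p + q + 1 ≤ c) :
    ∃ u v p' q', u + p' = p ∧ v + q' = q ∧ 1 ≤ u ∧ 1 ≤ v ∧ u + v ≤ c + 1 ∧ condH c p' q' := by
  obtain ⟨h1, h2⟩ := h
  have hc : 1 ≤ c := by
    by_contra hc0
    have hc0' : c = 0 := by omega
    rw [hc0', zero_mul] at h1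
    omega
  have hp : 1 ≤ p := by
    by_contra hp0
    have hp0' : p = 0 := by omega
    rw [hp0', zero_add, mul_one] at h1
    omega
  obtain ⟨p', rfl⟩ : ∃ p', p = p' + 1 := ⟨p - 1, by omega⟩
  obtain ⟨A, hA⟩ : ∃ A, A = c * (p' + 1) := ⟨_, rfl⟩
  have hA1 : 1 ≤ A := by rw [hA]; exact Nat.mul_pos (by omega) (by omega)
  have e1 : c * (p' + 1 + 1) = A + c := by rw [hA]; ring
  by_cases hq : q ≤ A
  · refine ⟨1, 1, p', q - 1, by omega, by omega, le_rfl, le_rfl, by omega, ?_, ?_⟩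
    · rw [← hA]; omega
    · have hq1 : q - 1 + 1 = q := by omega
      rw [hq1]
      have : q ≤ c * q := Nat.le_mul_of_pos_left q (by omega)
      omega
  · refine ⟨1, q + 1 - A, p', A - 1, by omega, by omega, le_rfl, by omega, by omega, ?_, ?_⟩
    · rw [← hA]; omega
    · have hA2 : A - 1 + 1 = A := by omega
      rw [hA2]
      have h3 : A ≤ c * A := Nat.le_mul_of_pos_left A (by omega)
      have h4 : p' + 1 ≤ A := by rw [hA]; exact Nat.le_mul_of_pos_left (p' + 1) (by omega)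
      omega

theorem condH_step {c p q : ℕ} :
    condH c p q ↔ (p + q + 1 ≤ c ∨ ∃ u v p' q', u + p' = p ∧ v + q' = q ∧ 1 ≤ u ∧ 1 ≤ v ∧
      u + v ≤ c + 1 ∧ condH c p' q') := by
  constructor
  · intro h
    by_cases hbig : p + q + 1 ≤ c
    · exact Or.inl hbig
    · right
      rcases le_total p q with hpq | hqp
      · exact condH_step_aux hpq h hbig
      · obtain ⟨u, v, p', q', h1, h2, h3, h4, h5, h6⟩ :=
          condH_step_aux hqp (condH_symm h) (by omega)
        exact ⟨v, u, q', p', h2, h1, h4, h3, by omega, condH_symm h6⟩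
  · rintro (h | ⟨u, v, p', q', rfl, rfl, hu, hv, huv, h⟩)
    · exact condH_of_small h
    · exact condH_add hu hv huv h

/-- the cone `max p q ≤ c * min p q + M` -/
def Kc (c M p q : ℕ) : Prop := q ≤ c * p + M ∧ p ≤ c * q + M

theorem Kc_symm {c M p q : ℕ} (h : Kc c M p q) : Kc c M q p := ⟨h.2, h.1⟩

theorem condH_succ_iff (c p q : ℕ) : condH (c + 1) p q ↔ Kc (c + 1) c p q := by
  unfold condH Kc
  have e1 : (c + 1) * (p + 1) = (c + 1) * p + c + 1 := by ring
  have e2 : (c + 1) * (q + 1) = (c + 1) * q + c + 1 := by ring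
  rw [e1, e2]
  constructor
  · rintro ⟨h1, h2⟩; exact ⟨by omega, by omega⟩
  · rintro ⟨h1, h2⟩; exact ⟨by omega, by omega⟩

theorem Kc_add {c c' M M' p q p' q' : ℕ} (h : Kc c M p q) (h' : Kc c' M' p' q') :
    Kc (max c c') (M + M') (p + p') (q + q') := by
  obtain ⟨h1, h2⟩ := h
  obtain ⟨h1', h2'⟩ := h'
  obtain ⟨C, hC⟩ : ∃ C, C = max c c' := ⟨_, rfl⟩
  rw [← hC]
  have hc : c ≤ C := by rw [hC]; exact le_max_left c c'
  have hc' : c' ≤ C := by rw [hC]; exact le_max_right c c'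
  have a1 : c * p ≤ C * p := Nat.mul_le_mul_right p hc
  have a2 : c * q ≤ C * q := Nat.mul_le_mul_right q hc
  have a3 : c' * p' ≤ C * p' := Nat.mul_le_mul_right p' hc'
  have a4 : c' * q' ≤ C * q' := Nat.mul_le_mul_right q' hc'
  have e1 : C * (p + p') = C * p + C * p' := by ring
  have e2 : C * (q + q') = C * q + C * q' := by ring
  exact ⟨by omega, by omega⟩

theorem Kc_split_aux {c M M' p q : ℕ} (c' : ℕ) (hc : 1 ≤ c) (hpq : p ≤ q)
    (h : Kc c (M + M') p q) : ∃ q1 q2, q1 + q2 = q ∧ Kc c M p q1 ∧ Kc c' M' 0 q2 := by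
  obtain ⟨h1, h2⟩ := h
  by_cases hq : q ≤ c * p + M
  · refine ⟨q, 0, by omega, ⟨hq, ?_⟩, ⟨by omega, by omega⟩⟩
    have : q ≤ c * q := Nat.le_mul_of_pos_left q (by omega)
    omega
  · refine ⟨c * p + M, q - (c * p + M), by omega, ⟨le_rfl, ?_⟩, ⟨?_, by omega⟩⟩
    · have a1 : c * p + M ≤ c * (c * p + M) := Nat.le_mul_of_pos_left _ (by omega)
      have a2 : p ≤ c * p := Nat.le_mul_of_pos_left p (by omega)
      omega
    · rw [mul_zero, zero_add]; omega

theorem Kc_split_aux2 {c M M' p q : ℕ} (c' : ℕ) (hc : 1 ≤ c) (h : Kc c (M + M') p q) :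
    ∃ p1 q1 p2 q2, p1 + p2 = p ∧ q1 + q2 = q ∧ Kc c M p1 q1 ∧ Kc c' M' p2 q2 := by
  rcases le_total p q with hpq | hqp
  · obtain ⟨q1, q2, hq, k1, k2⟩ := Kc_split_aux c' hc hpq h
    exact ⟨p, q1, 0, q2, by omega, hq, k1, k2⟩
  · obtain ⟨p1, p2, hp, k1, k2⟩ := Kc_split_aux c' hc hqp (Kc_symm h)
    exact ⟨p1, q, p2, 0, hp, by omega, Kc_symm k1, Kc_symm k2⟩

theorem Kc_split {c c' M M' p q : ℕ} (hC : 1 ≤ max c c') (h : Kc (max c c') (M + M') p q) :
    ∃ p1 q1 p2 q2, p1 + p2 = p ∧ q1 + q2 = q ∧ Kc c M p1 q1 ∧ Kc c' M' p2 q2 := by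
  rcases le_total c' c with hcc | hcc
  · rw [max_eq_left hcc] at h hC
    exact Kc_split_aux2 c' hC h
  · rw [max_eq_right hcc] at h hC
    rw [add_comm M M'] at h
    obtain ⟨p1, q1, p2, q2, hp, hq, k1, k2⟩ := Kc_split_aux2 c hC h
    exact ⟨p2, q2, p1, q1, by omega, by omega, k2, k1⟩

/-! ### series with conical support -/

/-- `F` has nonnegative coefficients and support the cone `Kc c M` -/
def HasSupp (F : PS) (c M : ℕ) : Prop :=
  NN F ∧ ∀ m : Fin 2 →₀ ℕ, coeff m F ≠ 0 ↔ Kc c M (m 0) (m 1)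

theorem hasSupp_mul {F G : PS} {c c' M M' : ℕ} (hC : 1 ≤ max c c')
    (hF : HasSupp F c M) (hG : HasSupp G c' M') : HasSupp (F * G) (max c c') (M + M') := by
  refine ⟨nn_mul hF.1 hG.1, fun m => ?_⟩
  rw [coeff_mul_ne_zero_iff hF.1 hG.1]
  constructor
  · rintro ⟨m1, m2, rfl, h1, h2⟩
    have := Kc_add ((hF.2 m1).mp h1) ((hG.2 m2).mp h2)
    rw [Finsupp.add_apply, Finsupp.add_apply]
    exact this
  · intro h
    obtain ⟨p1, q1, p2, q2, hp, hq, k1, k2⟩ := Kc_split hC h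
    refine ⟨e p1 q1, e p2 q2, ?_, (hF.2 _).mpr (by simpa using k1),
      (hG.2 _).mpr (by simpa using k2)⟩
    rw [e_add, hp, hq]; exact (eq_e m).symm

theorem hasSupp_one : HasSupp (1 : PS) 0 0 := by
  refine ⟨fun m => ?_, fun m => ?_⟩
  · rw [coeff_one]; split_ifs <;> norm_num
  · rw [coeff_one]
    unfold Kc
    constructor
    · intro h
      have hm : m = 0 := by
        by_contra hm; exact h (if_neg hm)
      subst hm
      simp
    · rintro ⟨h1, h2⟩
      have hm : m = 0 := by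
        have h0 : m 0 = 0 := by omega
        have h1' : m 1 = 0 := by omega
        ext i
        rcases fin2_cases i with rfl | rfl
        · simpa using h0
        · simpa using h1'
      rw [if_pos hm]; exact one_ne_zero

/-- `(1 + y)(1 + z)` -/
noncomputable def U : PS := (1 + X 0) * (1 + X 1)

theorem U_eq : U = ∑ u ∈ Finset.range 2, ∑ v ∈ Finset.range 2,
    if u < 2 ∧ v < 2 then ((1 : ℕ) : PS) * X 0 ^ u * X 1 ^ v else 0 := by
  simp [U, Finset.sum_range_succ]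
  ring

theorem coeff_U (m : Fin 2 →₀ ℕ) :
    coeff m U = if m 0 < 2 ∧ m 1 < 2 then ((1 : ℕ) : ℤ) else 0 := by
  rw [U_eq]
  exact coeff_double_sum (Finset.range 2) (Finset.range 2) (fun u v => u < 2 ∧ v < 2)
    (fun _ _ => 1) (fun u v h => ⟨Finset.mem_range.mpr h.1, Finset.mem_range.mpr h.2⟩) m

theorem hasSupp_U : HasSupp U 0 1 := by
  refine ⟨fun m => ?_, fun m => ?_⟩
  · rw [coeff_U]; split_ifs <;> norm_num
  · rw [coeff_U]
    unfold Kc
    constructor
    · intro h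
      have hc : m 0 < 2 ∧ m 1 < 2 := by
        by_contra hc; exact h (if_neg hc)
      constructor <;> omega
    · rintro ⟨h1, h2⟩
      have hc : m 0 < 2 ∧ m 1 < 2 := by constructor <;> omega
      rw [if_pos hc]; norm_num

/-! ### the hypersurface series -/

theorem hyper_supp (c : ℕ) (Hs : PS) (hH : (1 - Pser (c + 1)) * Hs = Nser (c + 1))
    (m : Fin 2 →₀ ℕ) : 0 ≤ coeff m Hs ∧ (coeff m Hs ≠ 0 ↔ condH c (m 0) (m 1)) := by
  have hrec : Hs = Nser (c + 1) + Pser (c + 1) * Hs := by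
    rw [← hH]; ring
  suffices h : ∀ n : ℕ, ∀ m : Fin 2 →₀ ℕ, m 0 + m 1 = n →
      0 ≤ coeff m Hs ∧ (coeff m Hs ≠ 0 ↔ condH c (m 0) (m 1)) from h _ m rfl
  intro n
  induction n using Nat.strong_induction_on with
  | _ n ih =>
  intro m hmn
  have hm : coeff m Hs = coeff m (Nser (c + 1)) +
      ∑ x ∈ Finset.HasAntidiagonal.antidiagonal m, coeff x.1 (Pser (c + 1)) * coeff x.2 Hs := by
    rw [← coeff_mul, ← map_add, ← hrec]
  have hterm : ∀ x ∈ Finset.HasAntidiagonal.antidiagonal m,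
      0 ≤ coeff x.1 (Pser (c + 1)) * coeff x.2 Hs ∧
      (coeff x.1 (Pser (c + 1)) * coeff x.2 Hs ≠ 0 ↔
        (1 ≤ x.1 0 ∧ 1 ≤ x.1 1 ∧ x.1 0 + x.1 1 ≤ c + 1) ∧ condH c (x.2 0) (x.2 1)) := by
    intro x hx
    have hsum : x.1 + x.2 = m := Finset.HasAntidiagonal.mem_antidiagonal.mp hx
    have h0 : x.1 0 + x.2 0 = m 0 := by rw [← hsum, Finsupp.add_apply]
    have h1 : x.1 1 + x.2 1 = m 1 := by rw [← hsum, Finsupp.add_apply]
    rw [coeff_Pser]
    by_cases hc : 1 ≤ x.1 0 ∧ 1 ≤ x.1 1 ∧ x.1 0 + x.1 1 ≤ c + 1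
    · rw [if_pos hc]
      obtain ⟨ihnn, ihiff⟩ := ih (x.2 0 + x.2 1) (by omega) x.2 rfl
      have hpos : (0 : ℤ) < ((c + 1).choose (x.1 0 + x.1 1) : ℤ) := by
        exact_mod_cast Nat.choose_pos hc.2.2
      refine ⟨mul_nonneg hpos.le ihnn, ?_⟩
      rw [mul_ne_zero_iff]
      constructor
      · rintro ⟨-, h2⟩; exact ⟨hc, ihiff.mp h2⟩
      · rintro ⟨-, h2⟩; exact ⟨hpos.ne', ihiff.mpr h2⟩
    · rw [if_neg hc, zero_mul]
      refine ⟨le_rfl, ?_⟩
      constructor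
      · intro h; exact absurd rfl h
      · rintro ⟨h, -⟩; exact absurd h hc
  have hN : 0 ≤ coeff m (Nser (c + 1)) ∧
      (coeff m (Nser (c + 1)) ≠ 0 ↔ m 0 + m 1 + 1 ≤ c) := by
    rw [coeff_Nser_succ]
    by_cases hcn : m 0 + m 1 + 1 ≤ c
    · rw [if_pos hcn]
      have hpos : (0 : ℤ) < (c.choose (m 0 + m 1 + 1) : ℤ) := by
        exact_mod_cast Nat.choose_pos hcn
      exact ⟨hpos.le, ⟨fun _ => hcn, fun _ => hpos.ne'⟩⟩
    · rw [if_neg hcn]
      exact ⟨le_rfl, ⟨fun h => absurd rfl h, fun h => absurd h hcn⟩⟩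
  constructor
  · rw [hm]
    exact add_nonneg hN.1 (Finset.sum_nonneg fun x hx => (hterm x hx).1)
  · rw [hm, add_sum_ne_zero_iff _ _ _ hN.1 (fun x hx => (hterm x hx).1), condH_step]
    constructor
    · rintro (h | ⟨x, hx, hT⟩)
      · exact Or.inl (hN.2.mp h)
      · right
        obtain ⟨hcx, hcond⟩ := (hterm x hx).2.mp hT
        have hsum : x.1 + x.2 = m := Finset.HasAntidiagonal.mem_antidiagonal.mp hx
        refine ⟨x.1 0, x.1 1, x.2 0, x.2 1, ?_, ?_, hcx.1, hcx.2.1, hcx.2.2, hcond⟩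
        · rw [← hsum, Finsupp.add_apply]
        · rw [← hsum, Finsupp.add_apply]
    · rintro (h | ⟨u, v, p', q', hp, hq, hu, hv, huv, hcond⟩)
      · exact Or.inl (hN.2.mpr h)
      · right
        have hx : (e u v, e p' q') ∈ Finset.HasAntidiagonal.antidiagonal m :=
          Finset.HasAntidiagonal.mem_antidiagonal.mpr (by
            show e u v + e p' q' = m
            rw [e_add, hp, hq]; exact (eq_e m).symm)
        refine ⟨(e u v, e p' q'), hx, ((hterm _ hx).2).mpr ⟨?_, ?_⟩⟩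
        · show 1 ≤ e u v 0 ∧ 1 ≤ e u v 1 ∧ e u v 0 + e u v 1 ≤ c + 1
          rw [e_zero, e_one]; exact ⟨hu, hv, huv⟩
        · show condH c (e p' q' 0) (e p' q' 1)
          rw [e_zero, e_one]; exact hcond

theorem hasSupp_hyper (c : ℕ) (Hs : PS)
    (hH : (1 - Pser (c + 1 + 1)) * Hs = Nser (c + 1 + 1)) : HasSupp Hs (c + 1) c := by
  refine ⟨fun m => (hyper_supp (c + 1) Hs hH m).1, fun m => ?_⟩
  rw [(hyper_supp (c + 1) Hs hH m).2, condH_succ_iff]

theorem hyper_zero (c : ℕ) (hc : c = 0) (Hs : PS)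
    (hH : (1 - Pser (c + 1)) * Hs = Nser (c + 1)) : Hs = 0 := by
  subst hc
  ext m
  rw [map_zero]
  by_contra h
  have := (hyper_supp 0 Hs hH m).2.mp h
  unfold condH at this
  omega

theorem hasSupp_UH (c : ℕ) (hc : 1 ≤ c) (Hs : PS)
    (hH : (1 - Pser (c + 1)) * Hs = Nser (c + 1)) : HasSupp (U * Hs) c c := by
  obtain ⟨c₀, rfl⟩ : ∃ c₀, c = c₀ + 1 := ⟨c - 1, by omega⟩
  have h := hasSupp_mul (c := 0) (c' := c₀ + 1) (M := 1) (M' := c₀)
    (le_max_of_le_right (by omega)) hasSupp_U (hasSupp_hyper c₀ Hs hH)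
  have e1 : max 0 (c₀ + 1) = c₀ + 1 := max_eq_right (Nat.zero_le _)
  have e2 : 1 + c₀ = c₀ + 1 := by omega
  rw [e1, e2] at h
  exact h

theorem hasSupp_prod {d : ℕ} (c : Fin d → ℕ) (Hs : Fin d → PS)
    (hH : ∀ i, (1 - Pser (c i + 1)) * Hs i = Nser (c i + 1)) (P : Finset (Fin d))
    (hP : ∀ i ∈ P, 1 ≤ c i) :
    HasSupp (∏ i ∈ P, (U * Hs i)) (P.sup c) (∑ i ∈ P, c i) := by
  induction P using Finset.induction_on with
  | empty =>
    rw [Finset.prod_empty, Finset.sup_empty, Finset.sum_empty]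
    exact hasSupp_one
  | insert j P hj ih =>
    rw [Finset.prod_insert hj, Finset.sup_insert, Finset.sum_insert hj]
    have hcj : 1 ≤ c j := hP j (Finset.mem_insert_self j P)
    have ihP := ih (fun i hi => hP i (Finset.mem_insert_of_mem hi))
    have hUH : HasSupp (U * Hs j) (c j) (c j) := hasSupp_UH (c j) hcj (Hs j) (hH j)
    exact hasSupp_mul (le_trans hcj (le_max_left _ _)) hUH ihP

/-! ### the summands of the generating series -/

/-- the summand attached to a subset `P` -/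
noncomputable def term {d : ℕ} (Hs : Fin d → PS) (P : Finset (Fin d)) : PS :=
  ((1 + X 0) * (1 + X 1)) ^ (P.card - 1) * ∏ i ∈ P, Hs i

theorem term_eq_mul {d : ℕ} (Hs : Fin d → PS) (P : Finset (Fin d)) (j : Fin d) (hj : j ∈ P) :
    term Hs P = Hs j * ∏ i ∈ P.erase j, (U * Hs i) := by
  unfold term
  rw [Finset.prod_mul_distrib, Finset.prod_const, Finset.card_erase_of_mem hj,
    ← Finset.mul_prod_erase P Hs hj]
  unfold U
  ring

/-- shifted cone -/
def Kc' (C L p q : ℕ) : Prop := q + 1 ≤ C * p + L ∧ p + 1 ≤ C * q + L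

theorem term_supp {d : ℕ} (c : Fin d → ℕ) (Hs : Fin d → PS)
    (hH : ∀ i, (1 - Pser (c i + 1)) * Hs i = Nser (c i + 1)) (P : Finset (Fin d))
    (hne : P.Nonempty) (hP : ∀ i ∈ P, 1 ≤ c i) :
    NN (term Hs P) ∧
      ∀ m : Fin 2 →₀ ℕ, coeff m (term Hs P) ≠ 0 ↔ Kc' (P.sup c) (∑ i ∈ P, c i) (m 0) (m 1) := by
  obtain ⟨j, hj⟩ := hne
  have hcj := hP j hj
  obtain ⟨c₀, hc₀⟩ : ∃ c₀, c j = c₀ + 1 := ⟨c j - 1, by omega⟩
  have h1 : HasSupp (Hs j) (c₀ + 1) c₀ :=
    hasSupp_hyper c₀ (Hs j) (by rw [← hc₀]; exact hH j)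
  have h2 := hasSupp_prod c Hs hH (P.erase j) (fun i hi => hP i (Finset.mem_of_mem_erase hi))
  have h3 := hasSupp_mul (le_max_of_le_left (by omega)) h1 h2
  rw [← term_eq_mul Hs P j hj] at h3
  have esup : P.sup c = max (c₀ + 1) ((P.erase j).sup c) := by
    have := Finset.sup_insert (s := P.erase j) (f := c) (b := j)
    rw [Finset.insert_erase hj, hc₀] at this
    exact this
  have esum : ∑ i ∈ P, c i = c₀ + 1 + ∑ i ∈ P.erase j, c i := by
    rw [← Finset.add_sum_erase P c hj, hc₀]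
  refine ⟨h3.1, fun m => ?_⟩
  rw [h3.2 m, esup, esum]
  unfold Kc Kc'
  constructor
  · rintro ⟨a, b⟩; exact ⟨by omega, by omega⟩
  · rintro ⟨a, b⟩; exact ⟨by omega, by omega⟩

theorem term_zero {d : ℕ} (c : Fin d → ℕ) (Hs : Fin d → PS)
    (hH : ∀ i, (1 - Pser (c i + 1)) * Hs i = Nser (c i + 1)) (P : Finset (Fin d))
    (i : Fin d) (hi : i ∈ P) (hci : c i = 0) : term Hs P = 0 := by
  have hz : Hs i = 0 := hyper_zero (c i) hci (Hs i) (hH i)
  unfold term
  rw [Finset.prod_eq_zero hi hz, mul_zero]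

theorem nn_term {d : ℕ} (c : Fin d → ℕ) (Hs : Fin d → PS)
    (hH : ∀ i, (1 - Pser (c i + 1)) * Hs i = Nser (c i + 1)) (P : Finset (Fin d))
    (hne : P.Nonempty) : NN (term Hs P) := by
  by_cases h0 : ∃ i ∈ P, c i = 0
  · obtain ⟨i, hi, hci⟩ := h0
    rw [term_zero c Hs hH P i hi hci]
    intro m
    rw [map_zero]
  · exact (term_supp c Hs hH P hne
      (fun i hi => Nat.pos_of_ne_zero (fun h => h0 ⟨i, hi, h⟩))).1

/-- the generating series -/
noncomputable def Hser {d : ℕ} (Hs : Fin d → PS) : PS :=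
  ∑ P ∈ (Finset.univ : Finset (Fin d)).powerset with P.Nonempty,
    ((1 + X 0) * (1 + X 1)) ^ (P.card - 1) * ∏ i ∈ P, Hs i

theorem main (d : ℕ) (a : Fin d → ℕ) (ha : ∀ i, 1 ≤ a i) (Hs : Fin d → PS) (p q : ℕ)
    (hpq : p ≤ q) (hH : ∀ i, (1 - Pser (a i)) * Hs i = Nser (a i)) :
    coeff (Finsupp.single 0 p + Finsupp.single 1 q) (Hser Hs) ≠ 0 ↔
      p + q + d < p * Finset.univ.sup a + ∑ i, a i := by
  obtain ⟨c, hc⟩ : ∃ c : Fin d → ℕ, ∀ i, a i = c i + 1 :=
    ⟨fun i => a i - 1, fun i => by have := ha i; show a i = a i - 1 + 1; omega⟩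
  have hH' : ∀ i, (1 - Pser (c i + 1)) * Hs i = Nser (c i + 1) := fun i => by
    rw [← hc i]; exact hH i
  have hsumA : ∑ i, a i = ∑ i, c i + d := by
    have : ∀ i ∈ (Finset.univ : Finset (Fin d)), a i = c i + 1 := fun i _ => hc i
    rw [Finset.sum_congr rfl this, Finset.sum_add_distrib, Finset.sum_const, Finset.card_univ,
      Fintype.card_fin, smul_eq_mul, mul_one]
  have hcoef : coeff (e p q) (Hser Hs) =
      ∑ P ∈ (Finset.univ : Finset (Fin d)).powerset with P.Nonempty,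
        coeff (e p q) (term Hs P) := by
    unfold Hser
    rw [map_sum]
    rfl
  have hnn : ∀ P : Finset (Fin d), P.Nonempty → 0 ≤ coeff (e p q) (term Hs P) :=
    fun P hP => nn_term c Hs hH' P hP _
  show coeff (e p q) (Hser Hs) ≠ 0 ↔ _
  rw [hcoef]
  constructor
  · intro hne
    obtain ⟨P, hPmem, hPne⟩ := Finset.exists_ne_zero_of_sum_ne_zero hne
    have hPn : P.Nonempty := (Finset.mem_filter.mp hPmem).2
    have hP1 : ∀ i ∈ P, 1 ≤ c i := by
      intro i hi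
      by_contra h0
      have hc0 : c i = 0 := by omega
      apply hPne
      rw [term_zero c Hs hH' P i hi hc0, map_zero]
    have hK := ((term_supp c Hs hH' P hPn hP1).2 (e p q)).mp hPne
    rw [e_zero, e_one] at hK
    obtain ⟨hK1, -⟩ := hK
    obtain ⟨i₁, hi₁, hsup⟩ := Finset.exists_mem_eq_sup P hPn c
    have hA : c i₁ + 1 ≤ Finset.univ.sup a := by
      rw [← hc i₁]; exact Finset.le_sup (f := a) (Finset.mem_univ i₁)
    have hS : ∑ i ∈ P, c i ≤ ∑ i, c i := Finset.sum_le_sum_of_subset (Finset.subset_univ P)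
    rw [hsup] at hK1
    have hmul : p * (c i₁ + 1) ≤ p * Finset.univ.sup a := Nat.mul_le_mul_left p hA
    have e1 : p * (c i₁ + 1) = c i₁ * p + p := by ring
    rw [hsumA]
    omega
  · intro hlt
    rw [hsumA] at hlt
    have hd : 0 < d := by
      by_contra hd0
      have hd0' : d = 0 := by omega
      subst hd0'
      simp at hlt
    haveI : Nonempty (Fin d) := ⟨⟨0, hd⟩⟩
    obtain ⟨i₀, -, hsup⟩ := Finset.exists_mem_eq_sup (Finset.univ : Finset (Fin d))
      Finset.univ_nonempty a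
    rw [hsup, hc i₀] at hlt
    have hci₀ : 1 ≤ c i₀ := by
      by_contra h0
      have h0' : c i₀ = 0 := by omega
      have hall : ∀ i, c i = 0 := by
        intro i
        have hle : a i ≤ a i₀ := by
          rw [← hsup]; exact Finset.le_sup (f := a) (Finset.mem_univ i)
        rw [hc i, hc i₀] at hle
        omega
      have hz : ∑ i, c i = 0 := Finset.sum_eq_zero fun i _ => hall i
      rw [h0', hz] at hlt
      omega
    obtain ⟨Pm, hPm⟩ : ∃ Pm : Finset (Fin d), Pm = Finset.univ.filter (fun i => 1 ≤ c i) :=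
      ⟨_, rfl⟩
    have hi₀ : i₀ ∈ Pm := by
      rw [hPm]; exact Finset.mem_filter.mpr ⟨Finset.mem_univ _, hci₀⟩
    have hPn : Pm.Nonempty := ⟨i₀, hi₀⟩
    have hP1 : ∀ i ∈ Pm, 1 ≤ c i := by
      intro i hi; rw [hPm] at hi; exact (Finset.mem_filter.mp hi).2
    have hsumP : ∑ i ∈ Pm, c i = ∑ i, c i := by
      rw [hPm, Finset.sum_filter]
      refine Finset.sum_congr rfl fun i _ => ?_
      by_cases h : 1 ≤ c i
      · rw [if_pos h]
      · rw [if_neg h]; omega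
    have hsupP : c i₀ ≤ Pm.sup c := Finset.le_sup (f := c) hi₀
    have hK : Kc' (Pm.sup c) (∑ i ∈ Pm, c i) p q := by
      rw [hsumP]
      have m1 : c i₀ * p ≤ Pm.sup c * p := Nat.mul_le_mul_right p hsupP
      have m2 : c i₀ * q ≤ Pm.sup c * q := Nat.mul_le_mul_right q hsupP
      have m3 : q ≤ c i₀ * q := Nat.le_mul_of_pos_left q (by omega)
      have e1 : p * (c i₀ + 1) = c i₀ * p + p := by ring
      have hs : c i₀ ≤ ∑ i, c i :=
        Finset.single_le_sum (fun i _ => Nat.zero_le _) (Finset.mem_univ i₀)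
      exact ⟨by omega, by omega⟩
    have hne : coeff (e p q) (term Hs Pm) ≠ 0 :=
      ((term_supp c Hs hH' Pm hPn hP1).2 (e p q)).mpr (by rw [e_zero, e_one]; exact hK)
    intro hzero
    exact hne ((Finset.sum_eq_zero_iff_of_nonneg
      (fun P hP => hnn P (Finset.mem_filter.mp hP).2)).mp hzero Pm
      (Finset.mem_filter.mpr ⟨Finset.mem_powerset.mpr (Finset.subset_univ _), hPn⟩))

end Groth.Agent.Lib.Helper8.HodgeSer
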