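import Mathlib
import Groth.Agent.Lib.Helper8.HodgeSer

/-!
Hodge level of complete intersections (for S8736): a corollary of the support computation.
-/

set_option autoImplicit false

namespace Groth.Agent.Lib.Helper8.HodgeSer

open MvPowerSeries

theorem level (d : ℕ) (a : Fin d → ℕ) (ha : ∀ i, 1 ≤ a i)
    (i₀ : Fin d) (hi₀ : ∀ i, a i ≤ a i₀) (Hs : Fin d → PS) (n l : ℕ) (hl : l < n)
    (hpar : l % 2 = n % 2) (hH : ∀ i, (1 - Pser (a i)) * Hs i = Nser (a i)) :
    (∀ p q : ℕ, p + q = n → p ≤ q → l < q - p →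
        coeff (Finsupp.single 0 p + Finsupp.single 1 q) (Hser Hs) = 0) ↔
      2 * (∑ i ∈ Finset.univ.erase i₀, ((a i : ℤ) - 1)) + ((a i₀ : ℤ) - 2) * ((n : ℤ) - l) ≤
        2 * ((l : ℤ) + 1) := by
  have hsup : Finset.univ.sup a = a i₀ :=
    le_antisymm (Finset.sup_le fun i _ => hi₀ i) (Finset.le_sup (f := a) (Finset.mem_univ i₀))
  have hmain : ∀ p q : ℕ, p ≤ q →
      (coeff (Finsupp.single 0 p + Finsupp.single 1 q) (Hser Hs) = 0 ↔
        p * a i₀ + ∑ i, a i ≤ p + q + d) := by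
    intro p q hpq
    have h := main d a ha Hs p q hpq hH
    rw [hsup] at h
    constructor
    · intro h0
      by_contra hlt
      exact (h.mpr (by omega)) h0
    · intro hle
      by_contra hne
      have := h.mp hne
      omega
  obtain ⟨k', hk⟩ : ∃ k', n = l + 2 * (k' + 1) := ⟨(n - l) / 2 - 1, by omega⟩
  obtain ⟨A, hA⟩ : ∃ A, A = a i₀ := ⟨_, rfl⟩
  obtain ⟨S, hS⟩ : ∃ S, S = ∑ i, a i := ⟨_, rfl⟩
  have hZ : (∑ i ∈ Finset.univ.erase i₀, ((a i : ℤ) - 1)) =
      (S : ℤ) - (A : ℤ) - ((d : ℤ) - 1) := by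
    have h1 : ((a i₀ : ℤ) - 1) + ∑ i ∈ Finset.univ.erase i₀, ((a i : ℤ) - 1) =
        ∑ i, ((a i : ℤ) - 1) :=
      Finset.add_sum_erase Finset.univ (fun i => (a i : ℤ) - 1) (Finset.mem_univ i₀)
    have h2 : ∑ i : Fin d, ((a i : ℤ) - 1) = (S : ℤ) - d := by
      rw [Finset.sum_sub_distrib, hS, Nat.cast_sum]
      simp
    rw [hA]; linarith
  have hnZ : (n : ℤ) = l + 2 * ((k' : ℤ) + 1) := by exact_mod_cast hk
  have hexp : ((a i₀ : ℤ) - 2) * ((n : ℤ) - l) =
      2 * ((k' : ℤ) * A) + 2 * A - 4 * k' - 4 := by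
    rw [hnZ, hA]; ring
  rw [hZ, hexp]
  constructor
  · intro hall
    have h := (hmain k' (n - k') (by omega)).mp
      (hall k' (n - k') (by omega) (by omega) (by omega))
    rw [← hA, ← hS] at h
    have hz : (k' : ℤ) * A + S ≤ n + d := by
      have h' : k' * A + S ≤ n + d := by omega
      exact_mod_cast h'
    linarith
  · intro hle p q hpqn hpq hlq
    rw [hmain p q hpq, ← hA, ← hS]
    have hz : (k' : ℤ) * A + S ≤ n + d := by linarith
    have hz' : k' * A + S ≤ n + d := by exact_mod_cast hz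
    have hpk : p ≤ k' := by omega
    have hm : p * A ≤ k' * A := Nat.mul_le_mul_right A hpk
    omega

end Groth.Agent.Lib.Helper8.HodgeSer
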