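import Mathlib
import Groth.Agent.Lib.Helper8.Equidim1
import Groth.Agent.Lib.Helper8.RegularLocal6

/-!
# Codimension of hyperplane sections in equidimensional catenary local rings (EGA IV 5.12.x)
-/

set_option autoImplicit false
universe u

namespace Groth.Agent.Helper8.HypSec

open IsLocalRing

theorem nat_of_add_eq {x : WithBot ℕ∞} {n d : ℕ} (h : x + (n : WithBot ℕ∞) = (d : WithBot ℕ∞)) :
    ∃ c : ℕ, x = (c : WithBot ℕ∞) ∧ c + n = d := by
  cases x with
  | bot => simp at h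
  | coe y =>
    have h1 : y + (n : ℕ∞) = (d : ℕ∞) := by exact_mod_cast h
    have hy : y ≠ ⊤ := by
      rintro rfl
      simp at h1
    lift y to ℕ using hy
    refine ⟨y, rfl, ?_⟩
    exact_mod_cast h1

variable (A : Type u) [CommRing A] [IsNoetherianRing A] [IsLocalRing A]
  (hA : EGA4.IsEquidim A) (hA' : CAlg.IsCatenary A) (t : A)
  (ht : ringKrullDim (A ⧸ Ideal.span {t}) + 1 = ringKrullDim A)

theorem exists_dim_eq : ∃ d : ℕ, ringKrullDim A = d := by
  have h1 : ringKrullDim A ≠ ⊥ := ringKrullDim_ne_bot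
  have h2 : ringKrullDim A ≠ ⊤ := ringKrullDim_ne_top
  obtain ⟨d, hd⟩ := WithBot.ne_bot_iff_exists.mp h1
  have h3 : d ≠ ⊤ := by
    rintro rfl
    exact h2 hd.symm
  obtain ⟨n, hn⟩ := ENat.ne_top_iff_exists.mp h3
  exact ⟨n, by rw [← hd, ← hn]; rfl⟩

include ht in
theorem t_mem : t ∈ maximalIdeal A := by
  by_contra h
  have hu : IsUnit t := by
    rwa [mem_maximalIdeal, mem_nonunits_iff, not_not] at h
  have htop : Ideal.span {t} = ⊤ := Ideal.span_singleton_eq_top.mpr hu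
  haveI : Subsingleton (A ⧸ Ideal.span {t}) := Ideal.Quotient.subsingleton_iff.mpr htop
  rw [ringKrullDim_eq_bot_of_subsingleton, WithBot.bot_add] at ht
  exact ringKrullDim_ne_bot ht.symm

include hA hA' ht in
theorem height_map_add_one_le (P : Ideal A) [hP : P.IsPrime] (htP : t ∈ P) :
    (P.map (Ideal.Quotient.mk (Ideal.span {t}))).height + 1 ≤ P.height := by
  set I := Ideal.span {t} with hI
  have hIP : I ≤ P := (Ideal.span_singleton_le_iff_mem _).mpr htP
  set Pb := P.map (Ideal.Quotient.mk I) with hPb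
  haveI hPbp : Pb.IsPrime := Ideal.isPrime_map_quotientMk_of_isPrime hIP
  have hcomap : Pb.comap (Ideal.Quotient.mk I) = P := Ideal.comap_map_mk hIP
  have h1 := RLR.height_add_dim_quotient_le Pb
  have h2 := Lift.ringKrullDim_quotient_comap A I Pb
  rw [hcomap] at h2
  obtain ⟨n, hn⟩ := ENat.ne_top_iff_exists.mp (Ideal.height_ne_top hP.ne_top)
  obtain ⟨m, hm⟩ := ENat.ne_top_iff_exists.mp (Ideal.height_ne_top hPbp.ne_top)
  obtain ⟨d, hd⟩ := exists_dim_eq A
  have h3 := Equidim.dim_quot_add_height A hA' hA P n hn.symm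
  rw [hd] at h3 ht
  obtain ⟨c, hc, hcn⟩ := nat_of_add_eq h3
  obtain ⟨r, hr, hrd⟩ := nat_of_add_eq (n := 1) (by exact_mod_cast ht)
  rw [← h2, hc, hr, ← hm] at h1
  have h4 : m + c ≤ r := by exact_mod_cast h1
  rw [← hn, ← hm]
  have : m + 1 ≤ n := by omega
  exact_mod_cast this

include hA hA' in
theorem height_le_of_minimal (p p₀ : Ideal A) [hp : p.IsPrime] [hp₀ : p₀.IsPrime] (htp : t ∉ p)
    (hmin : p₀ ∈ (p ⊔ Ideal.span {t}).minimalPrimes) : p₀.height ≤ p.height + 1 := by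
  have hcov := Lift.covBy_of_mem_minimalPrimes_sup_span A ⟨p, hp⟩ ⟨p₀, hp₀⟩ t htp hmin
  have h4 := (((Hart.isCatenary_iff_dimFun A).mp hA') ⟨p, hp⟩ ⟨p₀, hp₀⟩ hcov.lt).2 hcov
  change ringKrullDim (A ⧸ p) = ringKrullDim (A ⧸ p₀) + 1 at h4
  obtain ⟨n, hn⟩ := ENat.ne_top_iff_exists.mp (Ideal.height_ne_top hp.ne_top)
  obtain ⟨n₀, hn₀⟩ := ENat.ne_top_iff_exists.mp (Ideal.height_ne_top hp₀.ne_top)
  obtain ⟨d, hd⟩ := exists_dim_eq A
  have h3 := Equidim.dim_quot_add_height A hA' hA p n hn.symm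
  have h3' := Equidim.dim_quot_add_height A hA' hA p₀ n₀ hn₀.symm
  rw [hd] at h3 h3'
  obtain ⟨c, hc, hcn⟩ := nat_of_add_eq h3
  obtain ⟨c₀, hc₀, hcn₀⟩ := nat_of_add_eq h3'
  rw [hc, hc₀] at h4
  have h5 : c = c₀ + 1 := by exact_mod_cast h4
  rw [← hn, ← hn₀]
  have : n₀ ≤ n + 1 := by omega
  exact_mod_cast this

include hA hA' ht in
theorem main (Z : Set (PrimeSpectrum A)) (hZ : StableUnderSpecialization Z) :
    (⨅ p ∈ {p ∈ Z | t ∈ p.asIdeal},
        (p.asIdeal.map (Ideal.Quotient.mk (Ideal.span {t}))).height) ≤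
        ⨅ p ∈ Z, p.asIdeal.height ∧
      (⨅ p ∈ Z, p.asIdeal.height) ≤ ⨅ p ∈ {p ∈ Z | t ∉ p.asIdeal}, p.asIdeal.height := by
  constructor
  · refine le_iInf₂ fun p hp => ?_
    haveI := p.isPrime
    by_cases htp : t ∈ p.asIdeal
    · refine (iInf₂_le p (⟨hp, htp⟩ : p ∈ {p ∈ Z | t ∈ p.asIdeal})).trans ?_
      exact le_self_add.trans (height_map_add_one_le A hA hA' t ht p.asIdeal htp)
    · have hle : p.asIdeal ⊔ Ideal.span {t} ≤ maximalIdeal A :=
        sup_le (le_maximalIdeal p.isPrime.ne_top)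
          ((Ideal.span_singleton_le_iff_mem _).mpr (t_mem A t ht))
      have hne : p.asIdeal ⊔ Ideal.span {t} ≠ ⊤ :=
        fun h => (maximalIdeal.isMaximal A).ne_top (top_le_iff.mp (h ▸ hle))
      obtain ⟨q, hqmin⟩ := Ideal.nonempty_minimalPrimes hne
      haveI hq : q.IsPrime := hqmin.1.1
      have hpq : p.asIdeal ≤ q := le_sup_left.trans hqmin.1.2
      have htq : t ∈ q := hqmin.1.2 (Ideal.mem_sup_right (Ideal.mem_span_singleton_self t))
      have hqZ : (⟨q, hq⟩ : PrimeSpectrum A) ∈ Z :=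
        hZ ((PrimeSpectrum.le_iff_specializes p ⟨q, hq⟩).mp hpq) hp
      refine (iInf₂_le (⟨q, hq⟩ : PrimeSpectrum A)
        (⟨hqZ, htq⟩ : (⟨q, hq⟩ : PrimeSpectrum A) ∈ {p ∈ Z | t ∈ p.asIdeal})).trans ?_
      have h1 := height_map_add_one_le A hA hA' t ht q htq
      have h2 := height_le_of_minimal A hA hA' t p.asIdeal q htp hqmin
      have h3 := h1.trans h2
      exact (ENat.add_le_add_iff_right ENat.one_ne_top).mp h3
  · exact le_iInf₂ fun p hp => iInf₂_le p hp.1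

end Groth.Agent.Helper8.HypSec
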