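import Mathlib
import Groth.Prelude
import Groth.Agent.Lib.Helper1.LocalCrit

/-!
# Flatness criteria for ideally separated modules (filtration argument)
-/

set_option autoImplicit false
universe u v w

namespace Groth.Agent.Helper8.IdSep

open TensorProduct

theorem isSMulRegular_tensor {A : Type*} [CommRing A] (J : Ideal A) (M : Type*) [AddCommGroup M]
    [Module A M] [Module.Flat (A ⧸ J) ((A ⧸ J) ⊗[A] M)] (N : Type*) [AddCommGroup N] [Module A N]
    (hJ : ∀ j ∈ J, ∀ n : N, j • n = 0) (s : A) (hs : IsSMulRegular N s) :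
    IsSMulRegular (N ⊗[A] M) s := by
  have htors : Module.IsTorsionBySet A N (J : Set A) := fun x a => hJ a.1 a.2 x
  letI : Module (A ⧸ J) N := htors.module
  haveI : IsScalarTower A (A ⧸ J) N := Module.IsTorsionBySet.isScalarTower (S := A) htors
  let f : N →ₗ[A ⧸ J] N := LinearMap.lsmul (A ⧸ J) N (Ideal.Quotient.mk J s)
  have hf : Function.Injective f := by
    intro x y hxy
    apply hs
    exact hxy
  have h1 := Groth.Agent.Helper1.LocalCrit.rTensor_restrictScalars_injective (R := A) (A ⧸ J) M f hf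
  intro x y hxy
  apply h1
  have key : ∀ z : N ⊗[A] M, (f.restrictScalars A).rTensor M z = s • z := by
    intro z
    induction z using TensorProduct.induction_on with
    | zero => simp
    | tmul n m =>
      rw [LinearMap.rTensor_tmul, TensorProduct.smul_tmul']
      rfl
    | add a b ha hb => rw [map_add, ha, hb, smul_add]
  rw [key, key]
  exact hxy

theorem exists_smul_eq_zero {A : Type*} [CommRing A] {M : Type*} [AddCommGroup M] [Module A M]
    (p : Ideal A) [p.IsPrime]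
    [Module.Flat (Localization.AtPrime p) (LocalizedModule p.primeCompl M)]
    {N E : Type*} [AddCommGroup N] [Module A N] [AddCommGroup E] [Module A E] (f : N →ₗ[A] E)
    (hf : Function.Injective f) (x : N ⊗[A] M) (hx : f.rTensor M x = 0) :
    ∃ s : A, s ∉ p ∧ s • x = 0 := by
  haveI : Module.Flat A (LocalizedModule p.primeCompl M) :=
    Module.Flat.trans A (Localization.AtPrime p) _
  let ℓ : M →ₗ[A] LocalizedModule p.primeCompl M := LocalizedModule.mkLinearMap p.primeCompl M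
  have hinj : Function.Injective (f.rTensor (LocalizedModule p.primeCompl M)) :=
    Module.Flat.rTensor_preserves_injective_linearMap f hf
  have h0 : ℓ.lTensor N x = 0 := by
    apply hinj
    rw [map_zero, ← LinearMap.comp_apply, LinearMap.rTensor_comp_lTensor,
      ← LinearMap.lTensor_comp_rTensor, LinearMap.comp_apply, hx, map_zero]
  have h1 : ℓ.rTensor N (TensorProduct.comm A N M x) = 0 := by
    rw [LinearMap.rTensor_comm, h0, map_zero]
  haveI : IsLocalizedModule p.primeCompl (AlgebraTensorModule.rTensor A N ℓ) :=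
    IsLocalizedModule.rTensor (R := A) A p.primeCompl (N := N) ℓ
  have h2 : AlgebraTensorModule.rTensor A N ℓ (TensorProduct.comm A N M x) = 0 := h1
  obtain ⟨s, hs⟩ := (IsLocalizedModule.eq_zero_iff p.primeCompl _).mp h2
  refine ⟨s.1, s.2, ?_⟩
  apply (TensorProduct.comm A N M).injective
  rw [map_smul, map_zero]
  exact hs

section main

variable {A : Type*} [CommRing A] (J : Ideal A) (M : Type*) [AddCommGroup M] [Module A M]

/-- Kernels of `I ⊗ M → M` are torsion with respect to the complement of each prime of `P`. -/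
def KerTorsion (P : Finset (Ideal A)) : Prop :=
  ∀ p ∈ P, ∀ (I : Ideal A) (x : I ⊗[A] M), I.subtype.rTensor M x = 0 →
    ∃ s : A, s ∉ p ∧ s • x = 0

variable {M} in
theorem exists_avoiding (P : Finset (Ideal A)) (hprime : ∀ p ∈ P, p.IsPrime)
    (hP : KerTorsion M P) (I : Ideal A) (x : I ⊗[A] M) (hx : I.subtype.rTensor M x = 0) :
    ∃ s : A, (∀ p ∈ P, s ∉ p) ∧ s • x = 0 := by
  classical
  let 𝔞 : Ideal A := LinearMap.ker (LinearMap.toSpanSingleton A _ x)
  have hmem : ∀ a : A, a ∈ 𝔞 ↔ a • x = 0 := fun a => by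
    simp [𝔞, LinearMap.mem_ker, LinearMap.toSpanSingleton_apply]
  have hnot : ¬ ((𝔞 : Set A) ⊆ ⋃ p ∈ (↑P : Set (Ideal A)), (p : Set A)) := by
    intro hsub
    have := (Ideal.subset_union_prime (s := P) (f := fun p => p) ⊥ ⊥
      (fun p hp _ _ => hprime p hp) (I := 𝔞)).mp hsub
    obtain ⟨p, hpP, hle⟩ := this
    obtain ⟨s, hsp, hsx⟩ := hP p hpP I x hx
    exact hsp (hle ((hmem s).mpr hsx))
  rw [Set.not_subset] at hnot
  obtain ⟨s, hs𝔞, hsU⟩ := hnot
  refine ⟨s, fun p hp hsp => hsU ?_, (hmem s).mp hs𝔞⟩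
  exact Set.mem_biUnion (Finset.mem_coe.mpr hp) hsp

theorem exists_lift (P : Finset (Ideal A)) (hprime : ∀ p ∈ P, p.IsPrime) (hP : KerTorsion M P)
    [Module.Flat (A ⧸ J) ((A ⧸ J) ⊗[A] M)]
    (I' I : Ideal A) (hle : I' ≤ I) (hJ : J * I ≤ I')
    (hreg : ∀ s : A, (∀ p ∈ P, s ∉ p) → ∀ a ∈ I, s * a ∈ I' → a ∈ I')
    (x : I ⊗[A] M) (hx : I.subtype.rTensor M x = 0) :
    ∃ x' : I' ⊗[A] M, (Submodule.inclusion hle).rTensor M x' = x := by
  obtain ⟨s, hsP, hsx⟩ := exists_avoiding P hprime hP I x hx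
  let I'' : Submodule A I := Submodule.comap I.subtype I'
  have hex : Function.Exact (Submodule.inclusion hle) I''.mkQ := by
    rw [LinearMap.exact_iff, Submodule.ker_mkQ, Submodule.range_inclusion]
  have hex' := rTensor_exact M hex (Submodule.mkQ_surjective _)
  apply (hex' x).mp
  have hregN : IsSMulRegular (I ⧸ I'') s := by
    rw [isSMulRegular_iff_right_eq_zero_of_smul]
    intro n hn
    obtain ⟨a, rfl⟩ := Submodule.mkQ_surjective _ n
    rw [← map_smul, Submodule.mkQ_apply, Submodule.Quotient.mk_eq_zero] at hn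
    rw [Submodule.mkQ_apply, Submodule.Quotient.mk_eq_zero]
    exact hreg s hsP a.1 a.2 hn
  have hJN : ∀ j ∈ J, ∀ n : I ⧸ I'', j • n = 0 := by
    intro j hj n
    obtain ⟨a, rfl⟩ := Submodule.mkQ_surjective _ n
    rw [← map_smul, Submodule.mkQ_apply, Submodule.Quotient.mk_eq_zero]
    exact hJ (Ideal.mul_mem_mul hj a.2)
  have hregT := isSMulRegular_tensor J M (I ⧸ I'') hJN s hregN
  apply hregT
  show s • (I''.mkQ.rTensor M x) = s • 0
  rw [← map_smul, hsx, map_zero, smul_zero]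

theorem rTensor_mem_smul_top {N E : Type*} [AddCommGroup N] [Module A N] [AddCommGroup E]
    [Module A E] (𝔟 : Ideal A) (f : N →ₗ[A] E) (hf : ∀ y, f y ∈ 𝔟 • (⊤ : Submodule A E))
    (z : N ⊗[A] M) : f.rTensor M z ∈ 𝔟 • (⊤ : Submodule A (E ⊗[A] M)) := by
  induction z using TensorProduct.induction_on with
  | zero => simp
  | tmul y m =>
    rw [LinearMap.rTensor_tmul]
    refine Submodule.smul_induction_on (hf y) (fun r hr e _ => ?_) (fun a b ha hb => ?_)
    · rw [← TensorProduct.smul_tmul']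
      exact Submodule.smul_mem_smul hr Submodule.mem_top
    · rw [TensorProduct.add_tmul]
      exact add_mem ha hb
  | add a b ha hb => rw [map_add]; exact add_mem ha hb

theorem flat_of_filtration [IsNoetherianRing A]
    (hsep : ∀ a : Ideal A, IsHausdorff J (a ⊗[A] M))
    [Module.Flat (A ⧸ J) ((A ⧸ J) ⊗[A] M)]
    (P : Finset (Ideal A)) (hprime : ∀ p ∈ P, p.IsPrime) (hP : KerTorsion M P)
    (F : ℕ → Ideal A) (hF0 : F 0 = ⊤) (hFJ : ∀ k, J * F k ≤ F (k + 1))
    (hFanti : ∀ k, F (k + 1) ≤ F k)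
    (hreg : ∀ s : A, (∀ p ∈ P, s ∉ p) → ∀ k, ∀ a ∈ F k, s * a ∈ F (k + 1) → a ∈ F (k + 1))
    (htop : ∀ n, ∃ k, F k ≤ J ^ n) : Module.Flat A M := by
  rw [Module.Flat.iff_rTensor_injective']
  intro 𝔞
  rw [injective_iff_map_eq_zero]
  intro x hx
  have step1 : ∀ k, ∃ xk : (𝔞 ⊓ F k : Ideal A) ⊗[A] M,
      (Submodule.inclusion (inf_le_left : 𝔞 ⊓ F k ≤ 𝔞)).rTensor M xk = x := by
    intro k
    induction k with
    | zero =>
      have h0 : 𝔞 ≤ 𝔞 ⊓ F 0 := by rw [hF0, inf_top_eq]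
      refine ⟨(Submodule.inclusion h0).rTensor M x, ?_⟩
      rw [← LinearMap.rTensor_comp_apply]
      have : Submodule.inclusion (inf_le_left : 𝔞 ⊓ F 0 ≤ 𝔞) ∘ₗ Submodule.inclusion h0 =
          LinearMap.id := by
        ext y; rfl
      rw [this, LinearMap.rTensor_id, LinearMap.id_apply]
    | succ k ih =>
      obtain ⟨xk, hxk⟩ := ih
      have hle : 𝔞 ⊓ F (k + 1) ≤ 𝔞 ⊓ F k := inf_le_inf_left 𝔞 (hFanti k)
      have hJ' : J * (𝔞 ⊓ F k) ≤ 𝔞 ⊓ F (k + 1) := by
        refine le_inf ?_ ?_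
        · exact Ideal.mul_le_right.trans inf_le_left
        · exact (Ideal.mul_mono_right inf_le_right).trans (hFJ k)
      have hreg' : ∀ s : A, (∀ p ∈ P, s ∉ p) → ∀ a ∈ 𝔞 ⊓ F k, s * a ∈ 𝔞 ⊓ F (k + 1) →
          a ∈ 𝔞 ⊓ F (k + 1) := by
        intro s hs a ha hsa
        exact ⟨ha.1, hreg s hs k a ha.2 hsa.2⟩
      have hxk0 : (𝔞 ⊓ F k).subtype.rTensor M xk = 0 := by
        have : (𝔞 ⊓ F k).subtype = 𝔞.subtype ∘ₗ
            Submodule.inclusion (inf_le_left : 𝔞 ⊓ F k ≤ 𝔞) := by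
          ext y; rfl
        rw [this, LinearMap.rTensor_comp_apply, hxk, hx]
      obtain ⟨x', hx'⟩ := exists_lift J M P hprime hP (𝔞 ⊓ F (k + 1)) (𝔞 ⊓ F k) hle hJ' hreg'
        xk hxk0
      refine ⟨x', ?_⟩
      rw [← hxk, ← hx', ← LinearMap.rTensor_comp_apply]
      rfl
  have step2 : ∀ n, x ∈ J ^ n • (⊤ : Submodule A (𝔞 ⊗[A] M)) := by
    intro n
    obtain ⟨c, hc⟩ := Ideal.exists_pow_inf_eq_pow_smul J (𝔞 : Submodule A A)
    obtain ⟨k, hk⟩ := htop (n + c)
    obtain ⟨xk, hxk⟩ := step1 k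
    rw [← hxk]
    apply rTensor_mem_smul_top
    intro y
    rw [Submodule.mem_smul_top_iff]
    have hy : (y : A) ∈ J ^ (n + c) • (⊤ : Submodule A A) ⊓ 𝔞 := by
      refine ⟨?_, y.2.1⟩
      rw [smul_eq_mul, Ideal.mul_top]
      exact hk y.2.2
    rw [hc (n + c) (Nat.le_add_left c n), Nat.add_sub_cancel] at hy
    exact Submodule.smul_mono le_rfl inf_le_right hy
  apply (hsep 𝔞).haus'
  intro n
  rw [SModEq.zero]
  exact step2 n

end main

end Groth.Agent.Helper8.IdSep
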