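import Mathlib
import Groth.Prelude
import Groth.Agent.Lib.Helper8.IdSep1

/-!
# Two flatness criteria for ideally separated modules (symbolic powers; flat associated graded)
-/

set_option autoImplicit false
universe u v w

namespace Groth.Agent.Helper8.IdSep

open TensorProduct

theorem flat_symbolic {A : Type u} [CommRing A] [IsNoetherianRing A]
    (J : Ideal A) (M : Type u) [AddCommGroup M] [Module A M]
    (hsep : ∀ a : Ideal A, IsHausdorff J (↥a ⊗[A] M))
    {r : ℕ} (p : Fin r → Ideal A) [∀ i, (p i).IsPrime] (hp : ∀ i, J ≤ p i)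
    (htop : ∀ n : ℕ, ∃ m : ℕ,
      ⨅ i, Ideal.comap (algebraMap A (Localization.AtPrime (p i))) (IsLocalRing.maximalIdeal (Localization.AtPrime (p i)) ^ m) ≤ J ^ n) :
    Module.Flat A M ↔
      Module.Flat (A ⧸ J) ((A ⧸ J) ⊗[A] M) ∧
        ∀ i, Module.Flat (Localization.AtPrime (p i)) (LocalizedModule (p i).primeCompl M) := by
  classical
  constructor
  · intro h
    exact ⟨inferInstance, fun i => inferInstance⟩
  · rintro ⟨h0, hloc⟩
    refine flat_of_filtration J M hsep (Finset.univ.image p) ?_ ?_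
      (fun k => ⨅ i, Ideal.comap (algebraMap A (Localization.AtPrime (p i)))
        (IsLocalRing.maximalIdeal (Localization.AtPrime (p i)) ^ k)) ?_ ?_ ?_ ?_ htop
    · intro q hq
      obtain ⟨i, -, rfl⟩ := Finset.mem_image.mp hq
      infer_instance
    · intro q hq I x hx
      obtain ⟨i, -, rfl⟩ := Finset.mem_image.mp hq
      haveI := hloc i
      exact exists_smul_eq_zero (p i) I.subtype Subtype.val_injective x hx
    · simp
    · intro k
      rw [Ideal.mul_le]
      intro j hj a ha
      rw [Ideal.mem_iInf] at ha ⊢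
      intro i
      rw [Ideal.mem_comap, map_mul, pow_succ']
      refine Ideal.mul_mem_mul ?_ (ha i)
      rw [IsLocalization.AtPrime.to_map_mem_maximal_iff (Localization.AtPrime (p i)) (p i)]
      exact hp i hj
    · intro k
      exact iInf_mono fun i => Ideal.comap_mono (Ideal.pow_le_pow_right (Nat.le_succ k))
    · intro s hs k a _ hsa
      rw [Ideal.mem_iInf] at hsa ⊢
      intro i
      have hsi : s ∉ p i := hs (p i) (Finset.mem_image_of_mem p (Finset.mem_univ i))
      have hu : IsUnit (algebraMap A (Localization.AtPrime (p i)) s) :=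
        IsLocalization.map_units (Localization.AtPrime (p i)) (⟨s, hsi⟩ : (p i).primeCompl)
      have := hsa i
      rw [Ideal.mem_comap, map_mul, Ideal.unit_mul_mem_iff_mem _ hu] at this
      exact this

theorem one_tmul_eq_zero_iff {A : Type*} [CommRing A] (J : Ideal A) (k : ℕ) (b : ↥(J ^ k)) :
    (1 : A ⧸ J) ⊗ₜ[A] b = 0 ↔ (b : A) ∈ J ^ (k + 1) := by
  rw [← (quotTensorEquivQuotSMul (↥(J ^ k)) J).map_eq_zero_iff,
    quotTensorEquivQuotSMul_mk_one_tmul, Submodule.Quotient.mk_eq_zero,
    Submodule.mem_smul_top_iff, smul_eq_mul, pow_succ']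

theorem flat_gr {A : Type u} [CommRing A] [IsNoetherianRing A]
    (J : Ideal A) (M : Type u) [AddCommGroup M] [Module A M]
    (hsep : ∀ a : Ideal A, IsHausdorff J (↥a ⊗[A] M))
    (hgr : ∀ k : ℕ, Module.Flat (A ⧸ J) ((A ⧸ J) ⊗[A] ↥(J ^ k))) :
    Module.Flat A M ↔
      Module.Flat (A ⧸ J) ((A ⧸ J) ⊗[A] M) ∧
        ∀ q : associatedPrimes A (A ⧸ J),
          haveI : q.1.IsPrime := IsAssociatedPrime.isPrime q.2
          Module.Flat (Localization.AtPrime q.1) (LocalizedModule q.1.primeCompl M) := by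
  classical
  constructor
  · intro h
    exact ⟨inferInstance, fun q => inferInstance⟩
  · rintro ⟨h0, hloc⟩
    refine flat_of_filtration J M hsep (associatedPrimes.finite A (A ⧸ J)).toFinset ?_ ?_
      (fun k => J ^ k) ?_ ?_ ?_ ?_ (fun n => ⟨n, le_rfl⟩)
    · intro q hq
      exact IsAssociatedPrime.isPrime ((Set.Finite.mem_toFinset _).mp hq)
    · intro q hq I x hx
      have hq' : q ∈ associatedPrimes A (A ⧸ J) := (Set.Finite.mem_toFinset _).mp hq
      haveI : q.IsPrime := IsAssociatedPrime.isPrime hq'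
      haveI := hloc ⟨q, hq'⟩
      exact exists_smul_eq_zero q I.subtype Subtype.val_injective x hx
    · simp
    · intro k
      show J * J ^ k ≤ J ^ (k + 1)
      rw [pow_succ']
    · intro k
      exact Ideal.pow_le_pow_right (Nat.le_succ k)
    · intro s hs k a ha hsa
      have hreg : IsSMulRegular (A ⧸ J) s := by
        by_contra hnot
        have hmem : s ∈ ⋃ p ∈ associatedPrimes A (A ⧸ J), (p : Set A) := by
          rw [biUnion_associatedPrimes_eq_compl_regular]
          exact hnot
        obtain ⟨q, hq, hsq⟩ := Set.mem_iUnion₂.mp hmem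
        exact hs q ((Set.Finite.mem_toFinset _).mpr hq) hsq
      have hnzd : Ideal.Quotient.mk J s ∈ nonZeroDivisors (A ⧸ J) := by
        rw [mem_nonZeroDivisors_iff_right]
        intro x hx
        apply hreg
        show s • x = s • 0
        rw [smul_zero, ← hx, mul_comm]
        obtain ⟨x, rfl⟩ := Ideal.Quotient.mk_surjective x
        rfl
      haveI := hgr k
      have hregN : IsSMulRegular ((A ⧸ J) ⊗[A] ↥(J ^ k)) (Ideal.Quotient.mk J s) :=
        Module.Flat.isSMulRegular_of_nonZeroDivisors (M := (A ⧸ J) ⊗[A] ↥(J ^ k)) hnzd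
      rw [← one_tmul_eq_zero_iff J k ⟨a, ha⟩]
      apply hregN
      show Ideal.Quotient.mk J s • ((1 : A ⧸ J) ⊗ₜ[A] (⟨a, ha⟩ : ↥(J ^ k))) = _ • 0
      rw [smul_zero, TensorProduct.smul_tmul', smul_eq_mul, mul_one]
      have h1 : Ideal.Quotient.mk J s ⊗ₜ[A] (⟨a, ha⟩ : ↥(J ^ k)) =
          (1 : A ⧸ J) ⊗ₜ[A] (⟨s * a, Ideal.mul_mem_left _ s ha⟩ : ↥(J ^ k)) := by
        have : Ideal.Quotient.mk J s = s • (1 : A ⧸ J) := by
          rw [Algebra.smul_def, mul_one]; rfl
        rw [this, TensorProduct.smul_tmul]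
        rfl
      rw [h1, one_tmul_eq_zero_iff]
      exact hsa

end Groth.Agent.Helper8.IdSep
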