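import Mathlib
import Groth.Prelude.Def_DualLC

/-!
# Independent families of ring elements (every relation has coefficients in the ideal)
-/

set_option autoImplicit false

universe u

namespace Groth.Agent.Helper8

open Dual2

variable {A : Type u} [CommRing A]

section

variable {r : ℕ} (f : Fin r → A) (j : Fin r) (g : A)

theorem span_update_mul_le : Ideal.span (Set.range (Function.update f j (f j * g))) ≤
    Ideal.span (Set.range f) := by
  rw [Ideal.span_le]
  rintro _ ⟨i, rfl⟩
  by_cases hij : i = j
  · subst hij
    rw [Function.update_self]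
    exact Ideal.mul_mem_right _ _ (Ideal.subset_span ⟨_, rfl⟩)
  · rw [Function.update_of_ne hij]
    exact Ideal.subset_span ⟨_, rfl⟩

theorem span_update_mul_le' : Ideal.span (Set.range (Function.update f j (f j * g))) ≤
    Ideal.span (Set.range (Function.update f j g)) := by
  rw [Ideal.span_le]
  rintro _ ⟨i, rfl⟩
  by_cases hij : i = j
  · subst hij
    rw [Function.update_self]
    refine Ideal.mul_mem_left _ _ (Ideal.subset_span ⟨i, ?_⟩)
    rw [Function.update_self]
  · rw [Function.update_of_ne hij]
    refine Ideal.subset_span ⟨i, ?_⟩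
    rw [Function.update_of_ne hij]

theorem mul_mem_span_update_mul {a : A}
    (ha : a ∈ Ideal.span (Set.range (Function.update f j g))) :
    f j * a ∈ Ideal.span (Set.range (Function.update f j (f j * g))) := by
  have hle : Ideal.span (Set.range (Function.update f j g)) ≤
      Submodule.comap (LinearMap.mulLeft A (f j))
        (Ideal.span (Set.range (Function.update f j (f j * g)))) := by
    rw [Ideal.span, Submodule.span_le]
    rintro _ ⟨i, rfl⟩
    simp only [Submodule.comap_coe, Set.mem_preimage, LinearMap.mulLeft_apply, SetLike.mem_coe]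
    by_cases hij : i = j
    · subst hij
      rw [Function.update_self]
      refine Ideal.subset_span ⟨i, ?_⟩
      rw [Function.update_self]
    · rw [Function.update_of_ne hij]
      refine Ideal.mul_mem_left _ _ (Ideal.subset_span ⟨i, ?_⟩)
      rw [Function.update_of_ne hij]
  exact hle ha

/-- If `f₁, …, f_j g, …, f_r` is independent then so is `f₁, …, f_j, …, f_r`. -/
theorem indep_of_update_mul (h : Independent (Function.update f j (f j * g))) :
    Independent f := by
  classical
  obtain ⟨f', hf'⟩ : ∃ f' : Fin r → A, f' = Function.update f j (f j * g) := ⟨_, rfl⟩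
  rw [← hf'] at h
  have hf'j : f' j = f j * g := by rw [hf', Function.update_self]
  have hf'n : ∀ i, i ≠ j → f' i = f i := fun i hi => by rw [hf', Function.update_of_ne hi]
  have hJ : Ideal.span (Set.range f') ≤ Ideal.span (Set.range f) := by
    rw [hf']; exact span_update_mul_le f j g
  intro a ha
  -- first relation
  have h1 : ∑ i, (if i = j then a j else a i * g) * f' i = 0 := by
    have : ∀ i, (if i = j then a j else a i * g) * f' i = (a i * f i) * g := by
      intro i
      by_cases hij : i = j
      · subst hij
        rw [if_pos rfl, hf'j]; ring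
      · rw [if_neg hij, hf'n i hij]; ring
    rw [Finset.sum_congr rfl fun i _ => this i, ← Finset.sum_mul, ha, zero_mul]
  have haj : a j ∈ Ideal.span (Set.range f') := by
    have := h _ h1 j
    rwa [if_pos rfl] at this
  obtain ⟨b, hb⟩ := (Ideal.mem_span_range_iff_exists_fun).mp haj
  -- second relation
  have h2 : ∑ i, (if i = j then b j * f j else a i + b i * f j) * f' i = 0 := by
    have : ∀ i, (if i = j then b j * f j else a i + b i * f j) * f' i =
        a i * f i - (if i = j then a j * f j else 0) + (b i * f' i) * f j := by
      intro i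
      by_cases hij : i = j
      · subst hij
        rw [if_pos rfl, if_pos rfl, hf'j]; ring
      · rw [if_neg hij, if_neg hij, hf'n i hij]; ring
    rw [Finset.sum_congr rfl fun i _ => this i, Finset.sum_add_distrib, Finset.sum_sub_distrib,
      ← Finset.sum_mul, hb, ha, Finset.sum_ite_eq' Finset.univ j (fun i => a j * f j)]
    simp
  intro i
  by_cases hij : i = j
  · subst hij
    exact hJ haj
  · have h3 := h _ h2 i
    rw [if_neg hij] at h3
    have h4 : a i = (a i + b i * f j) - b i * f j := by ring
    rw [h4]
    exact Ideal.sub_mem _ (hJ h3) (Ideal.mul_mem_left _ _ (Ideal.subset_span ⟨_, rfl⟩))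

/-- The same, swapping the roles of the two factors. -/
theorem indep_of_update_mul' (h : Independent (Function.update f j (f j * g))) :
    Independent (Function.update f j g) := by
  classical
  apply indep_of_update_mul (Function.update f j g) j (f j)
  rw [Function.update_self, Function.update_idem, mul_comm]
  exact h

/-- Injectivity of multiplication by `f_j` from `A/(…, g, …)` to `A/(…, f_j g, …)`. -/
theorem mem_span_update_of_mul_mem (h : Independent (Function.update f j (f j * g))) {a : A}
    (ha : f j * a ∈ Ideal.span (Set.range (Function.update f j (f j * g)))) :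
    a ∈ Ideal.span (Set.range (Function.update f j g)) := by
  classical
  obtain ⟨f', hf'⟩ : ∃ f' : Fin r → A, f' = Function.update f j (f j * g) := ⟨_, rfl⟩
  have hJ2 := span_update_mul_le' f j g
  rw [← hf'] at h ha hJ2
  have hf'j : f' j = f j * g := by rw [hf', Function.update_self]
  have hf'n : ∀ i, i ≠ j → f' i = f i := fun i hi => by rw [hf', Function.update_of_ne hi]
  obtain ⟨b, hb⟩ := (Ideal.mem_span_range_iff_exists_fun).mp ha
  have h1 : ∑ i, (if i = j then b j * g - a else b i * g) * f' i = 0 := by
    have : ∀ i, (if i = j then b j * g - a else b i * g) * f' i =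
        (b i * f' i) * g - (if i = j then a * f j * g else 0) := by
      intro i
      by_cases hij : i = j
      · subst hij
        rw [if_pos rfl, if_pos rfl, hf'j]; ring
      · rw [if_neg hij, if_neg hij, hf'n i hij]; ring
    rw [Finset.sum_congr rfl fun i _ => this i, Finset.sum_sub_distrib,
      ← Finset.sum_mul, hb, Finset.sum_ite_eq' Finset.univ j (fun i => a * f j * g)]
    simp only [Finset.mem_univ, if_true]
    ring
  have h2 := h _ h1 j
  rw [if_pos rfl] at h2
  have hg : g ∈ Ideal.span (Set.range (Function.update f j g)) :=
    Ideal.subset_span ⟨j, Function.update_self _ _ _⟩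
  have h4 : a = b j * g - (b j * g - a) := by ring
  rw [h4]
  exact Ideal.sub_mem _ (Ideal.mul_mem_left _ _ hg) (hJ2 h2)

/-- The right exact sequence `A/(…, g, …) → A/(…, f_j g, …) → A/(…, f_j, …) → 0`, which is also
left exact when `…, f_j g, …` is independent. -/
theorem exists_exact_update_mul :
    ∃ (φ : (A ⧸ Ideal.span (Set.range (Function.update f j g))) →ₗ[A]
        (A ⧸ Ideal.span (Set.range (Function.update f j (f j * g)))))
      (ψ : (A ⧸ Ideal.span (Set.range (Function.update f j (f j * g)))) →ₗ[A]
        (A ⧸ Ideal.span (Set.range f))),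
      Function.Surjective ψ ∧ Function.Exact φ ψ ∧
        (Independent (Function.update f j (f j * g)) → Function.Injective φ) := by
  classical
  have hle2 : Ideal.span (Set.range (Function.update f j g)) ≤
      Submodule.comap (LinearMap.mulLeft A (f j))
        (Ideal.span (Set.range (Function.update f j (f j * g)))) := fun a ha => by
    simpa using mul_mem_span_update_mul f j g ha
  have hle1 : Ideal.span (Set.range (Function.update f j (f j * g))) ≤
      Submodule.comap (LinearMap.id : A →ₗ[A] A) (Ideal.span (Set.range f)) := fun a ha => by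
    simpa using span_update_mul_le f j g ha
  refine ⟨Submodule.mapQ _ _ (LinearMap.mulLeft A (f j)) hle2,
    Submodule.mapQ _ _ (LinearMap.id : A →ₗ[A] A) hle1, ?_, ?_, ?_⟩
  · intro x
    obtain ⟨a, rfl⟩ := Submodule.Quotient.mk_surjective _ x
    exact ⟨Submodule.Quotient.mk a, by rw [Submodule.mapQ_apply]; rfl⟩
  · intro x
    constructor
    · intro hx
      obtain ⟨a, rfl⟩ := Submodule.Quotient.mk_surjective _ x
      rw [Submodule.mapQ_apply, Submodule.Quotient.mk_eq_zero, LinearMap.id_apply] at hx
      obtain ⟨c, hc⟩ := (Ideal.mem_span_range_iff_exists_fun).mp hx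
      refine ⟨Submodule.Quotient.mk (c j), ?_⟩
      rw [Submodule.mapQ_apply, LinearMap.mulLeft_apply, ← sub_eq_zero, ← Submodule.Quotient.mk_sub,
        Submodule.Quotient.mk_eq_zero]
      have : f j * c j - a = - ∑ i, (if i = j then 0 else c i) *
          (Function.update f j (f j * g)) i := by
        have h1 : ∀ i, (if i = j then 0 else c i) * (Function.update f j (f j * g)) i =
            c i * f i - (if i = j then c j * f j else 0) := by
          intro i
          by_cases hij : i = j
          · subst hij
            rw [if_pos rfl, if_pos rfl]; ring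
          · rw [if_neg hij, if_neg hij, Function.update_of_ne hij]; ring
        rw [Finset.sum_congr rfl fun i _ => h1 i, Finset.sum_sub_distrib, hc,
          Finset.sum_ite_eq' Finset.univ j (fun i => c j * f j)]
        simp only [Finset.mem_univ, if_true]
        ring
      rw [this]
      exact Ideal.neg_mem_iff _ |>.mpr (Ideal.sum_mem _ fun i _ =>
        Ideal.mul_mem_left _ _ (Ideal.subset_span ⟨i, rfl⟩))
    · rintro ⟨y, rfl⟩
      obtain ⟨a, rfl⟩ := Submodule.Quotient.mk_surjective _ y
      rw [Submodule.mapQ_apply, Submodule.mapQ_apply, Submodule.Quotient.mk_eq_zero,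
        LinearMap.id_apply, LinearMap.mulLeft_apply]
      exact Ideal.mul_mem_right _ _ (Ideal.subset_span ⟨j, rfl⟩)
  · intro h
    rw [← LinearMap.ker_eq_bot, LinearMap.ker_eq_bot']
    intro x hx
    obtain ⟨a, rfl⟩ := Submodule.Quotient.mk_surjective _ x
    rw [Submodule.mapQ_apply, Submodule.Quotient.mk_eq_zero, LinearMap.mulLeft_apply] at hx
    rw [Submodule.Quotient.mk_eq_zero]
    exact mem_span_update_of_mul_mem f j g h hx

/-- `length A/(…, f_j g, …) = length A/(…, f_j, …) + length A/(…, g, …)` for an independent
family `…, f_j g, …`. -/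
theorem length_update_mul (h : Independent (Function.update f j (f j * g))) :
    Module.length A (A ⧸ Ideal.span (Set.range (Function.update f j (f j * g)))) =
      Module.length A (A ⧸ Ideal.span (Set.range f)) +
        Module.length A (A ⧸ Ideal.span (Set.range (Function.update f j g))) := by
  obtain ⟨φ, ψ, hψ, hex, hφ⟩ := exists_exact_update_mul f j g
  rw [Module.length_eq_add_of_exact φ ψ (hφ h) hψ hex, add_comm]

/-- `length A/(…, f_j g, …) ≤ length A/(…, f_j, …) + length A/(…, g, …)` in general. -/
theorem length_update_mul_le :
    Module.length A (A ⧸ Ideal.span (Set.range (Function.update f j (f j * g)))) ≤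
      Module.length A (A ⧸ Ideal.span (Set.range f)) +
        Module.length A (A ⧸ Ideal.span (Set.range (Function.update f j g))) := by
  obtain ⟨φ, ψ, hψ, hex, -⟩ := exists_exact_update_mul f j g
  rw [Module.length_eq_add_of_exact (LinearMap.ker ψ).subtype ψ (Submodule.subtype_injective _) hψ
    (LinearMap.exact_subtype_ker_map ψ), add_comm]
  gcongr
  -- `φ` maps onto the kernel of `ψ`
  let φ' := φ.codRestrict (LinearMap.ker ψ) (fun x => by
    rw [LinearMap.mem_ker]
    exact (hex (φ x)).mpr ⟨x, rfl⟩)
  refine Module.length_le_of_surjective φ' ?_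
  rintro ⟨y, hy⟩
  obtain ⟨x, hx⟩ := (hex y).mp hy
  exact ⟨x, Subtype.ext hx⟩

end

/-- Subadditivity of colength for products: if every quotient by one factor from each list has
length at most `c`, then the quotient by the products of the lists has length at most
`c * ∏ (lengths)`. -/
theorem length_quotient_prod_le {r : ℕ} (c : ℕ∞) (ℓ : Fin r → List A)
    (h : ∀ τ : Fin r → A, (∀ i, τ i ∈ ℓ i) →
      Module.length A (A ⧸ Ideal.span (Set.range τ)) ≤ c) :
    Module.length A (A ⧸ Ideal.span (Set.range fun i => (ℓ i).prod)) ≤
      c * ∏ i, ((ℓ i).length : ℕ∞) := by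
  classical
  obtain ⟨N, hN⟩ : ∃ N, ∑ i, (ℓ i).length = N := ⟨_, rfl⟩
  induction N using Nat.strong_induction_on generalizing ℓ with
  | _ N ih =>
  by_cases hempty : ∃ i, ℓ i = []
  · obtain ⟨i, hi⟩ := hempty
    have htop : Ideal.span (Set.range fun i => (ℓ i).prod) = ⊤ := by
      rw [Ideal.eq_top_iff_one]
      refine Ideal.subset_span ⟨i, ?_⟩
      simp only [hi, List.prod_nil]
    haveI : Subsingleton (A ⧸ Ideal.span (Set.range fun i => (ℓ i).prod)) := by
      rw [htop]
      exact Submodule.Quotient.subsingleton_iff.mpr rfl
    rw [Module.length_eq_zero]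
    exact bot_le
  push Not at hempty
  by_cases hlong : ∃ i, 2 ≤ (ℓ i).length
  · obtain ⟨i, hi⟩ := hlong
    obtain ⟨x, y, t, hxy⟩ : ∃ x y t, ℓ i = x :: y :: t := by
      match hli : ℓ i, hi with
      | x :: y :: t, _ => exact ⟨x, y, t, rfl⟩
    obtain ⟨f, hf⟩ : ∃ f : Fin r → A, f = Function.update (fun i => (ℓ i).prod) i x := ⟨_, rfl⟩
    have hfi : f i = x := by rw [hf, Function.update_self]
    have h0 : Function.update f i (f i * (y :: t).prod) = fun i => (ℓ i).prod := by
      funext j
      by_cases hji : j = i
      · subst hji
        rw [Function.update_self, hfi, hxy, List.prod_cons]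
        simp only [List.prod_cons]
      · rw [Function.update_of_ne hji, hf, Function.update_of_ne hji]
    have h1 : f = fun j => ((Function.update ℓ i [x]) j).prod := by
      funext j
      by_cases hji : j = i
      · subst hji
        rw [hfi, Function.update_self, List.prod_singleton]
      · rw [hf, Function.update_of_ne hji, Function.update_of_ne hji]
    have h2 : Function.update f i (y :: t).prod =
        fun j => ((Function.update ℓ i (y :: t)) j).prod := by
      funext j
      by_cases hji : j = i
      · subst hji
        rw [Function.update_self, Function.update_self]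
      · rw [Function.update_of_ne hji, hf, Function.update_of_ne hji, Function.update_of_ne hji]
    have hle := length_update_mul_le f i (y :: t).prod
    rw [h0, h2] at hle
    rw [h1] at hle
    have hsum : ∑ j, (ℓ j).length = (ℓ i).length + ∑ j ∈ Finset.univ \ {i}, (ℓ j).length :=
      Finset.sum_eq_add_sum_sdiff_singleton_of_mem (Finset.mem_univ i) _
    have hs1 : ∑ j, ((Function.update ℓ i [x]) j).length =
        1 + ∑ j ∈ Finset.univ \ {i}, (ℓ j).length := by
      have := Finset.sum_update_of_mem (Finset.mem_univ i) (fun j => (ℓ j).length) 1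
      rw [← this]
      refine Finset.sum_congr rfl fun j _ => ?_
      by_cases hji : j = i
      · subst hji; simp
      · simp [Function.update_of_ne hji]
    have hs2 : ∑ j, ((Function.update ℓ i (y :: t)) j).length =
        (t.length + 1) + ∑ j ∈ Finset.univ \ {i}, (ℓ j).length := by
      have := Finset.sum_update_of_mem (Finset.mem_univ i) (fun j => (ℓ j).length) (t.length + 1)
      rw [← this]
      refine Finset.sum_congr rfl fun j _ => ?_
      by_cases hji : j = i
      · subst hji; simp
      · simp [Function.update_of_ne hji]
    have hp : ∏ j, ((ℓ j).length : ℕ∞) =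
        ((ℓ i).length : ℕ∞) * ∏ j ∈ Finset.univ \ {i}, ((ℓ j).length : ℕ∞) :=
      Finset.prod_eq_mul_prod_sdiff_singleton_of_mem (Finset.mem_univ i) _
    have hp1 : ∏ j, (((Function.update ℓ i [x]) j).length : ℕ∞) =
        1 * ∏ j ∈ Finset.univ \ {i}, ((ℓ j).length : ℕ∞) := by
      have := Finset.prod_update_of_mem (Finset.mem_univ i) (fun j => ((ℓ j).length : ℕ∞)) 1
      rw [← this]
      refine Finset.prod_congr rfl fun j _ => ?_
      by_cases hji : j = i
      · subst hji; simp
      · simp [Function.update_of_ne hji]
    have hp2 : ∏ j, (((Function.update ℓ i (y :: t)) j).length : ℕ∞) =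
        ((t.length + 1 : ℕ) : ℕ∞) * ∏ j ∈ Finset.univ \ {i}, ((ℓ j).length : ℕ∞) := by
      have := Finset.prod_update_of_mem (Finset.mem_univ i) (fun j => ((ℓ j).length : ℕ∞))
        ((t.length + 1 : ℕ) : ℕ∞)
      rw [← this]
      refine Finset.prod_congr rfl fun j _ => ?_
      by_cases hji : j = i
      · subst hji; simp
      · simp [Function.update_of_ne hji]
    have hlen : (ℓ i).length = t.length + 2 := by rw [hxy]; rfl
    have hmem1 : ∀ τ : Fin r → A, (∀ j, τ j ∈ (Function.update ℓ i [x]) j) → ∀ j, τ j ∈ ℓ j := by
      intro τ hτ j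
      have := hτ j
      by_cases hji : j = i
      · subst hji
        rw [Function.update_self, List.mem_singleton] at this
        rw [this, hxy]
        exact List.mem_cons_self
      · rwa [Function.update_of_ne hji] at this
    have hmem2 : ∀ τ : Fin r → A, (∀ j, τ j ∈ (Function.update ℓ i (y :: t)) j) →
        ∀ j, τ j ∈ ℓ j := by
      intro τ hτ j
      have := hτ j
      by_cases hji : j = i
      · subst hji
        rw [Function.update_self] at this
        rw [hxy]
        exact List.mem_cons_of_mem _ this
      · rwa [Function.update_of_ne hji] at this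
    have ih1 := ih _ (by omega) (Function.update ℓ i [x]) (fun τ hτ => h τ (hmem1 τ hτ)) rfl
    have ih2 := ih _ (by omega) (Function.update ℓ i (y :: t)) (fun τ hτ => h τ (hmem2 τ hτ)) rfl
    refine hle.trans ((add_le_add ih1 ih2).trans (le_of_eq ?_))
    rw [hp, hp1, hp2, hlen]
    push_cast
    ring
  · push Not at hlong
    have hone : ∀ i, ∃ x, ℓ i = [x] := by
      intro i
      match hli : ℓ i, hempty i, hlong i with
      | [x], _, _ => exact ⟨x, rfl⟩
      | [], h0, _ => exact absurd rfl h0
      | x :: y :: t, _, h2 => simp at h2
    have hτ : ∀ i, (ℓ i).prod ∈ ℓ i := by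
      intro i
      obtain ⟨x, hx⟩ := hone i
      rw [hx, List.prod_singleton]
      exact List.mem_singleton_self x
    refine (h _ hτ).trans (le_of_eq ?_)
    have : ∏ i, ((ℓ i).length : ℕ∞) = 1 := by
      apply Finset.prod_eq_one
      intro i _
      obtain ⟨x, hx⟩ := hone i
      rw [hx]
      rfl
    rw [this, mul_one]

end Groth.Agent.Helper8
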