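import Mathlib
import Groth.Agent.S11679
import Groth.Agent.S8925
import Groth.Agent.S0300
import Groth.Agent.S0307
import Groth.Agent.Lib.Helper1.MatlisL
import Groth.Agent.Lib.Helper8.ExtLoc4
import Groth.Agent.Lib.Helper8.InjHullPrime

/-!
# Base change of injective modules along flat maps with `𝔭 B_𝔮 = 𝔮 B_𝔮`
-/

set_option autoImplicit false
universe u
open scoped TensorProduct
open InjHull IsLocalRing

namespace Groth.Agent.Helper8.InjBC

/-- precomposing an injective hull with a linear equivalence -/
theorem isInjectiveHull_comp_equiv {R : Type u} [CommRing R] {M M' E : Type u} [AddCommGroup M]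
    [Module R M] [AddCommGroup M'] [Module R M'] [AddCommGroup E] [Module R E] (f : M →ₗ[R] E)
    (hf : IsInjectiveHull f) (e : M' ≃ₗ[R] M) : IsInjectiveHull (f ∘ₗ e.toLinearMap) := by
  refine { injective := hf.injective.comp e.injective, essential := ?_,
           isInjective := hf.isInjective }
  intro N hN
  have hr : LinearMap.range (f ∘ₗ e.toLinearMap) = LinearMap.range f := by
    rw [LinearMap.range_comp, LinearEquiv.range, Submodule.map_top]
  rw [hr]
  exact hf.essential N hN

/-- a subsingleton module is injective -/
theorem injective_of_subsingleton' (R : Type u) [CommRing R] (M : Type u) [AddCommGroup M]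
    [Module R M] [Subsingleton M] : Module.Injective R M :=
  Module.Baer.injective fun _ _ => ⟨0, fun _ _ => Subsingleton.elim _ _⟩

/-- elementwise form of `J B_q = q B_q` -/
theorem exists_mul_mem_of_map_eq {B : Type u} [CommRing B] (q : PrimeSpectrum B) (J : Ideal B)
    (h : Ideal.map (algebraMap B (Localization.AtPrime q.asIdeal)) J =
      maximalIdeal (Localization.AtPrime q.asIdeal))
    {x : B} (hx : x ∈ q.asIdeal) : ∃ s : B, s ∉ q.asIdeal ∧ s * x ∈ J := by
  have h1 : algebraMap B (Localization.AtPrime q.asIdeal) x ∈
      Ideal.map (algebraMap B (Localization.AtPrime q.asIdeal)) J := by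
    rw [h]
    exact (IsLocalization.AtPrime.to_map_mem_maximal_iff (Localization.AtPrime q.asIdeal)
      q.asIdeal x).mpr hx
  rw [IsLocalization.mem_map_algebraMap_iff q.asIdeal.primeCompl
    (Localization.AtPrime q.asIdeal)] at h1
  obtain ⟨⟨⟨y, hy⟩, s⟩, hys⟩ := h1
  have hys' : algebraMap B (Localization.AtPrime q.asIdeal) (x * (s : B)) =
      algebraMap B (Localization.AtPrime q.asIdeal) y := by
    rw [map_mul]; exact hys
  obtain ⟨c, hc⟩ := IsLocalization.exists_of_eq (M := q.asIdeal.primeCompl) hys'
  refine ⟨(c : B) * (s : B), ?_, ?_⟩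
  · exact (q.asIdeal.primeCompl.mul_mem c.2 s.2)
  · have h2 : (c : B) * (s : B) * x = (c : B) * y := by rw [← hc]; ring
    rw [h2]
    exact J.mul_mem_left _ hy

section Units

variable (A : Type u) [CommRing A] [IsNoetherianRing A] (p : Ideal A) [p.IsPrime]
  (E : Type u) [AddCommGroup E] [Module A E] (f : (A ⧸ p) →ₗ[A] E) (hf : IsInjectiveHull f)
  (C : Type u) [CommRing C] [Algebra A C] [IsNoetherianRing C] [Module.Flat A C]

include hf in
/-- `C ⊗ E(A/p)` is injective when `A ∖ p` maps to units of `C` and `p C_Q = Q C_Q` for the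
maximal ideals `Q` of `C` lying over `p`. -/
theorem injective_baseChange_of_units
    (hu : ∀ a : A, a ∉ p → IsUnit (algebraMap A C a))
    (hC : ∀ (Q : Ideal C) [Q.IsMaximal], Q.comap (algebraMap A C) = p →
      ∀ x ∈ Q, ∃ s : C, s ∉ Q ∧ s * x ∈ p.map (algebraMap A C)) :
    Module.Injective C (C ⊗[A] E) := by
  apply Module.injective_of_localization_maximal
  intro Q hQ
  let e1 : LocalizedModule Q.primeCompl (C ⊗[A] E) ≃ₗ[Localization.AtPrime Q]
      (Localization.AtPrime Q) ⊗[A] E :=
    (IsLocalizedModule.isBaseChange Q.primeCompl (Localization.AtPrime Q)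
      (LocalizedModule.mkLinearMap Q.primeCompl (C ⊗[A] E))).equiv.symm ≪≫ₗ
      TensorProduct.AlgebraTensorModule.cancelBaseChange A C (Localization.AtPrime Q)
        (Localization.AtPrime Q) E
  by_cases hQp : Q.comap (algebraMap A C) = p
  · -- the main case: `Q` lies over `p`
    letI alg : Algebra (Localization.AtPrime p) (Localization.AtPrime Q) :=
      (Localization.localRingHom p Q (algebraMap A C) hQp.symm).toAlgebra
    haveI tower : IsScalarTower A (Localization.AtPrime p) (Localization.AtPrime Q) := by
      refine IsScalarTower.of_algebraMap_eq (fun a => ?_)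
      show algebraMap A (Localization.AtPrime Q) a =
        Localization.localRingHom p Q (algebraMap A C) hQp.symm (algebraMap A _ a)
      rw [Localization.localRingHom_to_map, ← IsScalarTower.algebraMap_apply]
    haveI loc : IsLocalHom (algebraMap (Localization.AtPrime p) (Localization.AtPrime Q)) :=
      Localization.isLocalHom_localRingHom p Q (algebraMap A C) hQp.symm
    haveI flat1 : Module.Flat A (Localization.AtPrime Q) :=
      Module.Flat.trans A C (Localization.AtPrime Q)
    haveI flat2 : Module.Flat (Localization.AtPrime p) (Localization.AtPrime Q) :=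
      (Module.flat_iff_of_isLocalization (Localization.AtPrime p) p.primeCompl _).mpr flat1
    haveI : IsNoetherianRing (Localization.AtPrime p) :=
      IsLocalization.isNoetherianRing p.primeCompl _ inferInstance
    haveI : IsNoetherianRing (Localization.AtPrime Q) :=
      IsLocalization.isNoetherianRing Q.primeCompl _ inferInstance
    have hm : (maximalIdeal (Localization.AtPrime p)).map
        (algebraMap (Localization.AtPrime p) (Localization.AtPrime Q)) =
        maximalIdeal (Localization.AtPrime Q) := by
      apply le_antisymm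
      · exact ((IsLocalRing.local_hom_TFAE
          (algebraMap (Localization.AtPrime p) (Localization.AtPrime Q))).out 0 2).mp loc
      · rw [← Localization.AtPrime.map_eq_maximalIdeal (I := Q), Ideal.map_le_iff_le_comap]
        intro x hx
        obtain ⟨s, hs, hsx⟩ := hC Q hQp x hx
        rw [Ideal.mem_comap]
        have hs' : IsUnit (algebraMap C (Localization.AtPrime Q) s) :=
          IsLocalization.map_units (Localization.AtPrime Q) (⟨s, hs⟩ : Q.primeCompl)
        have h3 : (p.map (algebraMap A C)).map (algebraMap C (Localization.AtPrime Q)) =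
            (maximalIdeal (Localization.AtPrime p)).map
              (algebraMap (Localization.AtPrime p) (Localization.AtPrime Q)) := by
          rw [← Localization.AtPrime.map_eq_maximalIdeal (I := p), Ideal.map_map, Ideal.map_map,
            ← IsScalarTower.algebraMap_eq, ← IsScalarTower.algebraMap_eq]
        have h2 : algebraMap C (Localization.AtPrime Q) (s * x) ∈
            (maximalIdeal (Localization.AtPrime p)).map
              (algebraMap (Localization.AtPrime p) (Localization.AtPrime Q)) := by
          rw [← h3]
          exact Ideal.mem_map_of_mem _ hsx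
        rw [map_mul] at h2
        exact (Ideal.unit_mul_mem_iff_mem _ hs').mp h2
    have h1 : IsInjectiveHull (LocalizedModule.map p.primeCompl f) :=
      Groth.Agent.S11679.result A p.primeCompl (A ⧸ p) E f hf
    obtain ⟨e₀'⟩ := Groth.Agent.Helper8.ExtLoc.nonempty_residue_equiv_localizedModule_quotient p
    let e₀ : ResidueField (Localization.AtPrime p) ≃ₗ[Localization.AtPrime p]
        LocalizedModule p.primeCompl (A ⧸ p) := e₀'
    have h2 : IsInjectiveHull ((LocalizedModule.map p.primeCompl f) ∘ₗ e₀.toLinearMap) :=
      isInjectiveHull_comp_equiv _ h1 e₀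
    obtain ⟨g, hg⟩ := Groth.Agent.Helper1.MatlisL.exists_hull_baseChange
      (A := Localization.AtPrime p) (B := Localization.AtPrime Q) hm _ h2
    have h3 : Module.Injective (Localization.AtPrime Q)
        ((Localization.AtPrime Q) ⊗[Localization.AtPrime p] LocalizedModule p.primeCompl E) :=
      hg.isInjective
    let e2 : (Localization.AtPrime Q) ⊗[A] E ≃ₗ[Localization.AtPrime Q]
        (Localization.AtPrime Q) ⊗[Localization.AtPrime p] LocalizedModule p.primeCompl E :=
      (TensorProduct.AlgebraTensorModule.cancelBaseChange A (Localization.AtPrime p)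
        (Localization.AtPrime Q) (Localization.AtPrime Q) E).symm ≪≫ₗ
        TensorProduct.AlgebraTensorModule.congr
          (LinearEquiv.refl (Localization.AtPrime Q) (Localization.AtPrime Q))
          (IsLocalizedModule.isBaseChange p.primeCompl (Localization.AtPrime p)
            (LocalizedModule.mkLinearMap p.primeCompl E)).equiv
    exact Groth.Agent.Helper1.InjHullL.injective_of_linearEquiv (e1 ≪≫ₗ e2).symm h3
  · -- `Q` does not lie over `p`: the localization vanishes
    have hle : Q.comap (algebraMap A C) ≤ p := by
      intro a ha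
      by_contra hap
      exact (Ideal.IsPrime.ne_top inferInstance)
        (Ideal.eq_top_of_isUnit_mem Q (Ideal.mem_comap.mp ha) (hu a hap))
    obtain ⟨a, hap, haQ⟩ : ∃ a ∈ p, algebraMap A C a ∉ Q := by
      by_contra hcon
      push Not at hcon
      exact hQp (le_antisymm hle (fun a ha => Ideal.mem_comap.mpr (hcon a ha)))
    have hE : ∀ e : E, ∃ n : ℕ, a ^ n • e = 0 := fun e =>
      Groth.Agent.Helper8.exists_pow_smul_eq_zero_of_mem hf.toIsEssentialInj hap e
    have hN : ∀ x : C ⊗[A] E, ∃ n : ℕ, (algebraMap A C a) ^ n • x = 0 := by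
      intro x
      induction x using TensorProduct.induction_on with
      | zero => exact ⟨0, smul_zero _⟩
      | tmul c e =>
        obtain ⟨n, hn⟩ := hE e
        refine ⟨n, ?_⟩
        rw [← map_pow, algebraMap_smul, ← TensorProduct.tmul_smul, hn, TensorProduct.tmul_zero]
      | add x y hx hy =>
        obtain ⟨n, hn⟩ := hx
        obtain ⟨m, hm⟩ := hy
        refine ⟨n + m, ?_⟩
        have h1 : (algebraMap A C a) ^ (n + m) • x = 0 := by
          rw [pow_add, mul_comm, mul_smul, hn, smul_zero]
        have h2 : (algebraMap A C a) ^ (n + m) • y = 0 := by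
          rw [pow_add, mul_smul, hm, smul_zero]
        rw [smul_add, h1, h2, add_zero]
    haveI : Subsingleton (LocalizedModule Q.primeCompl (C ⊗[A] E)) := by
      rw [LocalizedModule.subsingleton_iff]
      intro x
      obtain ⟨n, hn⟩ := hN x
      exact ⟨(algebraMap A C a) ^ n, Q.primeCompl.pow_mem haQ n, hn⟩
    exact injective_of_subsingleton' _ _

end Units

section General

variable (A B : Type u) [CommRing A] [CommRing B] [Algebra A B] [IsNoetherianRing A]
  [IsNoetherianRing B] [Module.Flat A B]
  (h : ∀ q : PrimeSpectrum B, Ideal.map (algebraMap B (Localization.AtPrime q.asIdeal))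
    ((q.asIdeal.comap (algebraMap A B)).map (algebraMap A B)) =
      IsLocalRing.maximalIdeal (Localization.AtPrime q.asIdeal))

include h in
/-- base change of `E(A/p)` is injective -/
theorem injective_baseChange_hull (p : Ideal A) [p.IsPrime] (E : Type u) [AddCommGroup E]
    [Module A E] (f : (A ⧸ p) →ₗ[A] E) (hf : IsInjectiveHull f) :
    Module.Injective B (B ⊗[A] E) := by
  let T : Submonoid B := Algebra.algebraMapSubmonoid B p.primeCompl
  haveI : IsNoetherianRing (Localization T) := IsLocalization.isNoetherianRing T _ inferInstance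
  have hu : ∀ a : A, a ∉ p → IsUnit (algebraMap A (Localization T) a) := by
    intro a ha
    rw [IsScalarTower.algebraMap_apply A B (Localization T)]
    exact IsLocalization.map_units (Localization T)
      (⟨algebraMap A B a, Algebra.mem_algebraMapSubmonoid_of_mem (⟨a, ha⟩ : p.primeCompl)⟩ : T)
  have hC : ∀ (Q : Ideal (Localization T)) [Q.IsMaximal],
      Q.comap (algebraMap A (Localization T)) = p →
      ∀ x ∈ Q, ∃ s : Localization T, s ∉ Q ∧ s * x ∈ p.map (algebraMap A (Localization T)) := by
    intro Q hQ hQp x hx
    let q : Ideal B := Q.comap (algebraMap B (Localization T))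
    haveI hqprime : q.IsPrime := Ideal.comap_isPrime (algebraMap B (Localization T)) Q
    have hqp : q.comap (algebraMap A B) = p := by
      show (Q.comap (algebraMap B (Localization T))).comap (algebraMap A B) = p
      rw [Ideal.comap_comap, ← IsScalarTower.algebraMap_eq]
      exact hQp
    obtain ⟨b, t, hbt⟩ := IsLocalization.exists_mk'_eq T x
    have hspec : x * algebraMap B (Localization T) t = algebraMap B (Localization T) b := by
      rw [← hbt, IsLocalization.mk'_spec]
    have hb : b ∈ q := by
      show algebraMap B (Localization T) b ∈ Q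
      rw [← hspec]
      exact Q.mul_mem_right _ hx
    obtain ⟨s, hs1, hs2⟩ := exists_mul_mem_of_map_eq ⟨q, hqprime⟩ _ (h ⟨q, hqprime⟩) hb
    have hs3 : s * b ∈ p.map (algebraMap A B) := by
      have h0 : s * b ∈ (q.comap (algebraMap A B)).map (algebraMap A B) := hs2
      rwa [hqp] at h0
    refine ⟨algebraMap B (Localization T) s, fun hsQ => hs1 hsQ, ?_⟩
    have ht : IsUnit (algebraMap B (Localization T) t) := IsLocalization.map_units _ t
    have h5 : algebraMap B (Localization T) (s * b) ∈ p.map (algebraMap A (Localization T)) := by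
      have h0 : p.map (algebraMap A (Localization T)) =
          (p.map (algebraMap A B)).map (algebraMap B (Localization T)) := by
        rw [Ideal.map_map, ← IsScalarTower.algebraMap_eq]
      rw [h0]
      exact Ideal.mem_map_of_mem _ hs3
    have h6 : algebraMap B (Localization T) t * (algebraMap B (Localization T) s * x) =
        algebraMap B (Localization T) (s * b) := by
      rw [map_mul, ← hspec]; ring
    rw [← h6] at h5
    exact (Ideal.unit_mul_mem_iff_mem _ ht).mp h5
  have hinjC : Module.Injective (Localization T) ((Localization T) ⊗[A] E) :=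
    injective_baseChange_of_units A p E f hf (Localization T) hu hC
  -- `T` acts bijectively on `B ⊗ E`
  have hTN : ∀ t ∈ T, Function.Bijective (fun n : B ⊗[A] E => t • n) := by
    intro t ht
    obtain ⟨a, ha, rfl⟩ := Submonoid.mem_map.mp ht
    let ε : E ≃ₗ[A] E := LinearEquiv.ofBijective (LinearMap.lsmul A E a)
      (Groth.Agent.Helper8.smul_bijective_of_notMem hf ha)
    have h0 : ∀ n : B ⊗[A] E, algebraMap A B a • n = ε.lTensor B n := by
      intro n
      induction n using TensorProduct.induction_on with
      | zero => rw [smul_zero, map_zero]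
      | tmul b e =>
        rw [algebraMap_smul, LinearEquiv.lTensor_tmul, ← TensorProduct.tmul_smul]
        rfl
      | add x y hx hy => rw [smul_add, map_add, hx, hy]
    have h1 : (fun n : B ⊗[A] E => algebraMap A B a • n) = ⇑(ε.lTensor B) := funext h0
    rw [h1]
    exact (ε.lTensor B).bijective
  haveI : IsLocalizedModule T (LinearMap.id : B ⊗[A] E →ₗ[B] B ⊗[A] E) :=
    { map_units := fun t => by
        rw [Module.End.isUnit_iff]
        exact hTN t.1 t.2
      surj := fun m => ⟨(m, 1), one_smul _ _⟩
      exists_of_eq := fun h => ⟨1, congr_arg _ h⟩ }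
  let e1 : LocalizedModule T (B ⊗[A] E) ≃ₗ[B] B ⊗[A] E :=
    IsLocalizedModule.iso T (LinearMap.id : B ⊗[A] E →ₗ[B] B ⊗[A] E)
  let e2 : LocalizedModule T (B ⊗[A] E) ≃ₗ[Localization T] (Localization T) ⊗[A] E :=
    (IsLocalizedModule.isBaseChange T (Localization T)
      (LocalizedModule.mkLinearMap T (B ⊗[A] E))).equiv.symm ≪≫ₗ
      TensorProduct.AlgebraTensorModule.cancelBaseChange A B (Localization T) (Localization T) E
  haveI h7 : Module.Injective (Localization T) (LocalizedModule T (B ⊗[A] E)) :=
    Groth.Agent.Helper1.InjHullL.injective_of_linearEquiv e2.symm hinjC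
  have h8 : Module.Injective B (LocalizedModule T (B ⊗[A] E)) :=
    Groth.Agent.S8925.result B (Localization T) (LocalizedModule T (B ⊗[A] E))
  exact Groth.Agent.Helper1.InjHullL.injective_of_linearEquiv e1 h8

/-- an indecomposable injective module over a Noetherian ring is the injective hull of some
`A/p` -/
theorem exists_hull_quotient_of_indecomposable {E : Type u} [AddCommGroup E] [Module A E]
    (hE : IsIndecomposable A E) (hinj : Module.Injective A E) :
    ∃ (p : Ideal A) (_ : p.IsPrime) (f : (A ⧸ p) →ₗ[A] E), IsInjectiveHull f := by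
  have := hE.1
  obtain ⟨p, hp⟩ := associatedPrimes.nonempty A E
  obtain ⟨hpp, f, hf⟩ := (isAssociatedPrime_iff_exists_injective_linearMap p E).mp hp
  have hrange : LinearMap.range f ≠ ⊥ := by
    rw [Ne, LinearMap.range_eq_bot]
    intro h0
    have h1 : (1 : A ⧸ p) = 0 := hf (by rw [h0]; simp)
    exact one_ne_zero h1
  have hess : IsEssentialInj f :=
    (Groth.Agent.Helper1.InjHullL.isEssentialInj_iff f).mpr
      ⟨hf, Groth.Agent.Helper1.InjHullL.essIn_top_of_indecomposable hE hinj hrange⟩
  exact ⟨p, hpp, f, ⟨hess, hinj⟩⟩

include h in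
/-- **S1745**: base change of injectives along a flat map with `𝔭 B_𝔮 = 𝔮 B_𝔮`. -/
theorem injective_baseChange (I : Type u) [AddCommGroup I] [Module A I] [Module.Injective A I] :
    Module.Injective B (B ⊗[A] I) := by
  classical
  obtain ⟨ι, Es, hint, hEs⟩ := Groth.Agent.S0307.result A I inferInstance
  let e : (DirectSum ι fun i => ↥(Es i)) ≃ₗ[A] I :=
    LinearEquiv.ofBijective (DirectSum.coeLinearMap Es) hint
  have hi : ∀ i, Module.Injective B (B ⊗[A] ↥(Es i)) := by
    intro i
    obtain ⟨p, hp, f, hf⟩ := exists_hull_quotient_of_indecomposable A (hEs i).1 (hEs i).2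
    haveI := hp
    exact injective_baseChange_hull A B h p ↥(Es i) f hf
  have hsum : Module.Injective B (DirectSum ι fun i => B ⊗[A] ↥(Es i)) :=
    Groth.Agent.S0300.result B (fun i => B ⊗[A] ↥(Es i)) hi
  let e1 : B ⊗[A] (DirectSum ι fun i => ↥(Es i)) ≃ₗ[B] B ⊗[A] I :=
    TensorProduct.AlgebraTensorModule.congr (LinearEquiv.refl B B) e
  let e2 : B ⊗[A] (DirectSum ι fun i => ↥(Es i)) ≃ₗ[B] DirectSum ι fun i => B ⊗[A] ↥(Es i) :=
    TensorProduct.directSumRight A B B (fun i => ↥(Es i))
  exact Groth.Agent.Helper1.InjHullL.injective_of_linearEquiv (e2.symm ≪≫ₗ e1) hsum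

end General

end Groth.Agent.Helper8.InjBC
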