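import Mathlib
import Groth.Prelude
import Groth.Agent.Lib.Helper1.MatlisL
import Groth.Agent.Lib.Helper8.InjHullPrime

/-!
# The localization of `E(A/p)` at `p` (for S10787)

For a Noetherian ring `A`, a prime `p` and an injective hull `E` of `A/p`: the localization map
`E → E_p` is bijective, `E_p` is an Artinian `A_p`-module, and `E_p[𝔪^n]` is a finite module over the
Artinian ring `A_p/𝔪^n`.
-/

set_option autoImplicit false
universe u

namespace Groth.Agent.Helper8.InjColim

open InjHull IsLocalRing

section Local

variable {A : Type u} [CommRing A] [IsNoetherianRing A] (p : Ideal A) [p.IsPrime]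
  {E : Type u} [AddCommGroup E] [Module A E] (f : (A ⧸ p) →ₗ[A] E)

theorem mk_bijective (hf : IsInjectiveHull f) :
    Function.Bijective (LocalizedModule.mkLinearMap p.primeCompl E) := by
  constructor
  · intro x y hxy
    rw [LocalizedModule.mkLinearMap_apply, LocalizedModule.mkLinearMap_apply,
      LocalizedModule.mk_eq] at hxy
    obtain ⟨u, hu⟩ := hxy
    rw [one_smul, one_smul] at hu
    exact Groth.Agent.Helper8.smul_injective_of_notMem hf.toIsEssentialInj u.2 hu
  · intro w
    refine LocalizedModule.induction_on (fun x s => ?_) w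
    obtain ⟨y, hy⟩ := (Groth.Agent.Helper8.smul_bijective_of_notMem hf s.2).2 x
    refine ⟨y, ?_⟩
    rw [LocalizedModule.mkLinearMap_apply, LocalizedModule.mk_eq]
    refine ⟨1, ?_⟩
    rw [one_smul, one_smul, one_smul]
    exact hy

theorem exists_pow_le_ann (hf : IsEssentialInj f) (x : E) :
    ∃ n : ℕ, ∀ a ∈ p ^ n, a • x = 0 := by
  let K : Ideal A := LinearMap.ker (LinearMap.toSpanSingleton A E x)
  have hK : ∀ a, a ∈ K ↔ a • x = 0 := fun a => by
    rw [LinearMap.mem_ker, LinearMap.toSpanSingleton_apply]
  have hrad : p ≤ K.radical := by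
    intro s hs
    obtain ⟨n, hn⟩ := Groth.Agent.Helper8.exists_pow_smul_eq_zero_of_mem hf hs x
    exact ⟨n, (hK _).mpr hn⟩
  obtain ⟨n, hn⟩ := Ideal.exists_pow_le_of_le_radical_of_fg hrad (IsNoetherian.noetherian p)
  exact ⟨n, fun a ha => (hK a).mp (hn ha)⟩

theorem isPowerTorsion_localized (hf : IsEssentialInj f) :
    LocCoh.IsPowerTorsion (maximalIdeal (Localization.AtPrime p))
      (LocalizedModule p.primeCompl E) := by
  intro w
  refine LocalizedModule.induction_on (fun x s => ?_) w
  obtain ⟨n, hn⟩ := exists_pow_le_ann p f hf x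
  refine ⟨n, ?_⟩
  let K : Ideal (Localization.AtPrime p) :=
    LinearMap.ker (LinearMap.toSpanSingleton (Localization.AtPrime p)
      (LocalizedModule p.primeCompl E) (LocalizedModule.mk x s))
  have hle : maximalIdeal (Localization.AtPrime p) ^ n ≤ K := by
    rw [← IsLocalization.AtPrime.map_eq_maximalIdeal p (Localization.AtPrime p), ← Ideal.map_pow,
      Ideal.map_le_iff_le_comap]
    intro a ha
    rw [Ideal.mem_comap, LinearMap.mem_ker, LinearMap.toSpanSingleton_apply, algebraMap_smul,
      LocalizedModule.smul'_mk, hn a ha, LocalizedModule.zero_mk]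
  intro r hr
  have := hle hr
  rwa [LinearMap.mem_ker, LinearMap.toSpanSingleton_apply] at this

theorem finite_socle_localized (hf : IsInjectiveHull f) :
    Module.Finite (Localization.AtPrime p ⧸ maximalIdeal (Localization.AtPrime p))
      (LocCoh.torsionBy (maximalIdeal (Localization.AtPrime p))
        (LocalizedModule p.primeCompl E)) := by
  have hone : ∀ a : A, a • (1 : A ⧸ p) = Ideal.Quotient.mk p a := fun a => by
    rw [Algebra.smul_def, mul_one, Ideal.Quotient.algebraMap_eq]
  have h0 : LocalizedModule.mk (f 1) (1 : p.primeCompl) ∈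
      LocCoh.torsionBy (maximalIdeal (Localization.AtPrime p))
        (LocalizedModule p.primeCompl E) := by
    rw [Submodule.mem_torsionBySet_iff]
    rintro ⟨r, hr⟩
    show r • LocalizedModule.mk (f 1) (1 : p.primeCompl) = 0
    let K : Ideal (Localization.AtPrime p) :=
      LinearMap.ker (LinearMap.toSpanSingleton (Localization.AtPrime p)
        (LocalizedModule p.primeCompl E) (LocalizedModule.mk (f 1) (1 : p.primeCompl)))
    have hle : maximalIdeal (Localization.AtPrime p) ≤ K := by
      rw [← IsLocalization.AtPrime.map_eq_maximalIdeal p (Localization.AtPrime p),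
        Ideal.map_le_iff_le_comap]
      intro a ha
      rw [Ideal.mem_comap, LinearMap.mem_ker, LinearMap.toSpanSingleton_apply, algebraMap_smul,
        LocalizedModule.smul'_mk, ← map_smul, hone, Ideal.Quotient.eq_zero_iff_mem.mpr ha,
        map_zero, LocalizedModule.zero_mk]
    have := hle hr
    rwa [LinearMap.mem_ker, LinearMap.toSpanSingleton_apply] at this
  have key : ∀ w : LocalizedModule p.primeCompl E,
      w ∈ LocCoh.torsionBy (maximalIdeal (Localization.AtPrime p))
        (LocalizedModule p.primeCompl E) →
      ∃ r : Localization.AtPrime p, w = r • LocalizedModule.mk (f 1) (1 : p.primeCompl) := by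
    intro w
    refine LocalizedModule.induction_on (fun x s => ?_) w
    intro hw
    by_cases hx : x = 0
    · exact ⟨0, by rw [hx, LocalizedModule.zero_mk, zero_smul]⟩
    have hpx : ∀ a ∈ p, a • x = 0 := by
      intro a ha
      have h1 : algebraMap A (Localization.AtPrime p) a ∈
          maximalIdeal (Localization.AtPrime p) := by
        rw [← IsLocalization.AtPrime.map_eq_maximalIdeal p (Localization.AtPrime p)]
        exact Ideal.mem_map_of_mem _ ha
      have h2 : algebraMap A (Localization.AtPrime p) a • LocalizedModule.mk x s = 0 :=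
        (Submodule.mem_torsionBySet_iff _ _).mp hw ⟨_, h1⟩
      rw [algebraMap_smul, LocalizedModule.smul'_mk, ← LocalizedModule.zero_mk s,
        LocalizedModule.mk_eq] at h2
      obtain ⟨u, hu⟩ := h2
      rw [smul_zero, smul_zero] at hu
      have hu' : ((u * s : p.primeCompl) : A) • (a • x) = 0 := by
        rw [Submonoid.coe_mul, mul_smul]; exact hu
      have hinj := Groth.Agent.Helper8.smul_injective_of_notMem hf.toIsEssentialInj (u * s).2
      exact hinj (hu'.trans (smul_zero _).symm)
    obtain ⟨r₀, b', hr₀, hne⟩ :=
      Groth.Agent.Helper8.IsEssentialInj.exists_smul_mem hf.toIsEssentialInj hx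
    obtain ⟨b, rfl⟩ := Ideal.Quotient.mk_surjective b'
    have hr₀p : r₀ ∉ p := fun h => hne (by rw [← hr₀, hpx r₀ h])
    have hfb : f (Ideal.Quotient.mk p b) = b • f 1 := by
      rw [← map_smul, hone]
    refine ⟨Localization.mk b (⟨r₀, hr₀p⟩ * s), ?_⟩
    rw [LocalizedModule.mk_smul_mk, mul_one, ← hfb, ← hr₀]
    exact (LocalizedModule.mk_cancel_common_left ⟨r₀, hr₀p⟩ s x).symm
  refine ⟨⟨{⟨_, h0⟩}, ?_⟩⟩
  rw [Finset.coe_singleton, eq_top_iff]
  rintro ⟨w, hw⟩ -
  obtain ⟨r, hr⟩ := key w hw
  rw [Submodule.mem_span_singleton]
  refine ⟨Ideal.Quotient.mk _ r, ?_⟩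
  apply Subtype.ext
  rw [Submodule.torsionBySet.mk_smul]
  exact hr.symm

theorem isArtinian_localized (hf : IsInjectiveHull f) :
    IsArtinian (Localization.AtPrime p) (LocalizedModule p.primeCompl E) := by
  haveI : IsNoetherianRing (Localization.AtPrime p) :=
    IsLocalization.isNoetherianRing p.primeCompl _ inferInstance
  haveI := finite_socle_localized p f hf
  exact (Groth.Agent.Helper1.MatlisL.isArtinian_iff _).mpr
    ⟨isPowerTorsion_localized p f hf.toIsEssentialInj, inferInstance⟩

theorem finite_torsion_localized (hf : IsInjectiveHull f) (n : ℕ) :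
    IsArtinianRing (Localization.AtPrime p ⧸ maximalIdeal (Localization.AtPrime p) ^ n) ∧
    Module.Finite (Localization.AtPrime p ⧸ maximalIdeal (Localization.AtPrime p) ^ n)
      (Submodule.torsionBySet (Localization.AtPrime p) (LocalizedModule p.primeCompl E)
        ((maximalIdeal (Localization.AtPrime p) ^ n : Ideal (Localization.AtPrime p)) :
          Set (Localization.AtPrime p))) := by
  haveI : IsNoetherianRing (Localization.AtPrime p) :=
    IsLocalization.isNoetherianRing p.primeCompl _ inferInstance
  have hfl := Groth.Agent.Helper1.MatlisL.isFiniteLength_quotient_of_pow_le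
    (maximalIdeal (Localization.AtPrime p) ^ n) n le_rfl
  have hart0 : IsArtinian (Localization.AtPrime p)
      (Localization.AtPrime p ⧸ maximalIdeal (Localization.AtPrime p) ^ n) :=
    (isFiniteLength_iff_isNoetherian_isArtinian.mp hfl).2
  haveI hart : IsArtinianRing
      (Localization.AtPrime p ⧸ maximalIdeal (Localization.AtPrime p) ^ n) :=
    isArtinian_of_tower (Localization.AtPrime p) hart0
  refine ⟨hart, ?_⟩
  haveI := isArtinian_localized p f hf
  have h1 : IsArtinian (Localization.AtPrime p)
      (Submodule.torsionBySet (Localization.AtPrime p) (LocalizedModule p.primeCompl E)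
        ((maximalIdeal (Localization.AtPrime p) ^ n : Ideal (Localization.AtPrime p)) :
          Set (Localization.AtPrime p))) := inferInstance
  have h2 : IsArtinian (Localization.AtPrime p ⧸ maximalIdeal (Localization.AtPrime p) ^ n)
      (Submodule.torsionBySet (Localization.AtPrime p) (LocalizedModule p.primeCompl E)
        ((maximalIdeal (Localization.AtPrime p) ^ n : Ideal (Localization.AtPrime p)) :
          Set (Localization.AtPrime p))) := isArtinian_of_tower (Localization.AtPrime p) h1
  haveI h3 : IsNoetherian (Localization.AtPrime p ⧸ maximalIdeal (Localization.AtPrime p) ^ n)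
      (Submodule.torsionBySet (Localization.AtPrime p) (LocalizedModule p.primeCompl E)
        ((maximalIdeal (Localization.AtPrime p) ^ n : Ideal (Localization.AtPrime p)) :
          Set (Localization.AtPrime p))) := IsSemiprimaryRing.isNoetherian_iff_isArtinian.mpr h2
  infer_instance

end Local

end Groth.Agent.Helper8.InjColim
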