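import Mathlib
import Groth.Prelude
import Groth.Agent.Lib.Helper8.InjColim1
import Groth.Agent.Lib.Helper8.InjBC1
import Groth.Agent.S0307

/-!
# An injective module over a Noetherian ring is a filtered colimit of modules finite over Artinian
algebras (S10787)
-/

set_option autoImplicit false
universe u

namespace Groth.Agent.Helper8.InjColim

open InjHull IsLocalRing CategoryTheory CategoryTheory.Limits

section Transport

variable {B : Type*} [Semiring B] {X Y : Type*} [AddCommMonoid X] [AddCommMonoid Y] [Module B Y]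

/-- transport a module structure along an additive equivalence -/
@[reducible] def moduleOfAddEquiv (e : X ≃+ Y) : Module B X where
  smul b x := e.symm (b • e x)
  one_smul x := by
    show e.symm ((1 : B) • e x) = x
    rw [one_smul, e.symm_apply_apply]
  mul_smul a b x := by
    show e.symm ((a * b) • e x) = e.symm (a • e (e.symm (b • e x)))
    rw [e.apply_symm_apply, mul_smul]
  smul_zero a := by
    show e.symm (a • e 0) = 0
    rw [map_zero, smul_zero, map_zero]
  smul_add a x y := by
    show e.symm (a • e (x + y)) = e.symm (a • e x) + e.symm (a • e y)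
    rw [map_add, smul_add, map_add]
  add_smul a b x := by
    show e.symm ((a + b) • e x) = e.symm (a • e x) + e.symm (b • e x)
    rw [add_smul, map_add]
  zero_smul x := by
    show e.symm ((0 : B) • e x) = 0
    rw [zero_smul, map_zero]

end Transport

section PiFinite

/-- a finite product of finite modules over varying rings is finite over the product ring -/
theorem finite_pi' {ι : Type*} [Finite ι] (R : ι → Type*) (M : ι → Type*) [∀ i, Semiring (R i)]
    [∀ i, AddCommMonoid (M i)] [∀ i, Module (R i) (M i)] [∀ i, Module.Finite (R i) (M i)] :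
    Module.Finite (∀ i, R i) (∀ i, M i) := by
  classical
  haveI := Fintype.ofFinite ι
  choose s hs using fun i => (Module.Finite.fg_top : (⊤ : Submodule (R i) (M i)).FG)
  refine ⟨⟨Finset.univ.biUnion (fun i => (s i).image (Pi.single i)), ?_⟩⟩
  rw [eq_top_iff]
  intro y _
  rw [← Finset.univ_sum_single y]
  refine Submodule.sum_mem _ (fun i _ => ?_)
  have hy : y i ∈ Submodule.span (R i) (s i : Set (M i)) := by rw [hs i]; trivial
  refine Submodule.span_induction
    (p := fun z _ => (Pi.single i z : ∀ i, M i) ∈ Submodule.span (∀ i, R i)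
      ((Finset.univ.biUnion (fun i => (s i).image (Pi.single i)) : Finset (∀ i, M i)) :
        Set (∀ i, M i))) ?_ ?_ ?_ ?_ hy
  · intro z hz
    apply Submodule.subset_span
    rw [Finset.mem_coe, Finset.mem_biUnion]
    exact ⟨i, Finset.mem_univ _, Finset.mem_image.mpr ⟨z, hz, rfl⟩⟩
  · rw [Pi.single_zero]; exact Submodule.zero_mem _
  · intro a b _ _ ha hb; rw [Pi.single_add]; exact Submodule.add_mem _ ha hb
  · intro c z _ hz
    have : (Pi.single i (c • z) : ∀ i, M i) =
        (Pi.single i c : ∀ i, R i) • (Pi.single i z : ∀ i, M i) := by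
      funext j
      by_cases hj : j = i
      · subst hj; simp
      · simp [Pi.single_eq_of_ne hj]
    rw [this]
    exact Submodule.smul_mem _ _ hz

end PiFinite

section Assembly

variable {A : Type u} [CommRing A] [IsNoetherianRing A] {ι : Type u} (p : ι → Ideal A)
  [hp : ∀ i, (p i).IsPrime]
  (E : ι → Type u) [∀ i, AddCommGroup (E i)] [∀ i, Module A (E i)]
  (f : ∀ i, (A ⧸ p i) →ₗ[A] E i)

/-- the localized summand -/
abbrev Lloc (i : ι) : Type u := LocalizedModule (p i).primeCompl (E i)

/-- the `𝔪^n`-torsion of the localized summand -/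
abbrev Tn (i : ι) (n : ℕ) : Submodule (Localization.AtPrime (p i)) (Lloc p E i) :=
  Submodule.torsionBySet (Localization.AtPrime (p i)) (Lloc p E i)
    ((maximalIdeal (Localization.AtPrime (p i)) ^ n : Ideal (Localization.AtPrime (p i))) :
      Set (Localization.AtPrime (p i)))

/-- the Artinian algebra acting on the `k`-th piece -/
abbrev BRing (k : Finset ι × ℕ) : Type u :=
  ∀ i : (↑k.1 : Set ι),
    (Localization.AtPrime (p i) ⧸ maximalIdeal (Localization.AtPrime (p i)) ^ k.2)

/-- the `k`-th piece of the direct sum of the localized summands -/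
def Nk (k : Finset ι × ℕ) : Submodule A (Π₀ i, Lloc p E i) where
  carrier := {w | (∀ i, i ∉ k.1 → w i = 0) ∧ ∀ i, w i ∈ Tn p E i k.2}
  add_mem' := by
    rintro w w' ⟨h1, h2⟩ ⟨h1', h2'⟩
    refine ⟨fun i hi => ?_, fun i => ?_⟩
    · rw [DFinsupp.add_apply, h1 i hi, h1' i hi, add_zero]
    · rw [DFinsupp.add_apply]; exact Submodule.add_mem _ (h2 i) (h2' i)
  zero_mem' := ⟨fun i _ => rfl, fun i => Submodule.zero_mem _⟩
  smul_mem' := by
    rintro a w ⟨h1, h2⟩
    refine ⟨fun i hi => ?_, fun i => ?_⟩
    · rw [DFinsupp.smul_apply, h1 i hi, smul_zero]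
    · rw [DFinsupp.smul_apply, ← algebraMap_smul (Localization.AtPrime (p i)) a (w i)]
      exact Submodule.smul_mem _ _ (h2 i)

theorem Nk_mono {k k' : Finset ι × ℕ} (h : k ≤ k') : Nk p E k ≤ Nk p E k' := by
  rintro w ⟨h1, h2⟩
  refine ⟨fun i hi => h1 i (fun hik => hi (h.1 hik)), fun i => ?_⟩
  exact Submodule.torsionBySet_le_torsionBySet_of_subset
    (fun r hr => Ideal.pow_le_pow_right h.2 hr) (h2 i)

theorem exists_mem_Nk (hf : ∀ i, IsInjectiveHull (f i)) (w : Π₀ i, Lloc p E i) :
    ∃ k, w ∈ Nk p E k := by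
  classical
  choose nn hnn using fun i =>
    isPowerTorsion_localized (p i) (f i) (hf i).toIsEssentialInj (w i)
  refine ⟨(w.support, w.support.sup nn), fun i hi => DFinsupp.notMem_support_iff.mp hi,
    fun i => ?_⟩
  by_cases hi : i ∈ w.support
  · rw [Submodule.mem_torsionBySet_iff]
    rintro ⟨r, hr⟩
    exact hnn i r (Ideal.pow_le_pow_right (Finset.le_sup hi) hr)
  · rw [DFinsupp.notMem_support_iff.mp hi]; exact Submodule.zero_mem _

/-- the `k`-th piece is a finite product -/
noncomputable def eqv [DecidableEq ι] (k : Finset ι × ℕ) :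
    Nk p E k ≃+ (∀ i : (↑k.1 : Set ι), Tn p E i k.2) where
  toFun w := fun i => ⟨w.1 i, w.2.2 i⟩
  invFun y := ⟨DFinsupp.mk k.1 (fun i => (y i).1),
    fun i hi => by rw [DFinsupp.mk_apply, dif_neg hi],
    fun i => by
      rw [DFinsupp.mk_apply]
      split_ifs with h
      · exact (y ⟨i, h⟩).2
      · exact Submodule.zero_mem _⟩
  left_inv w := by
    apply Subtype.ext
    ext i
    show (DFinsupp.mk k.1 (fun i : (↑k.1 : Set ι) => w.1 i)) i = w.1 i
    rw [DFinsupp.mk_apply]
    split_ifs with h
    · rfl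
    · exact (w.2.1 i h).symm
  right_inv y := by
    funext i
    apply Subtype.ext
    show (DFinsupp.mk k.1 (fun i => (y i).1)) i = (y i).1
    rw [DFinsupp.mk_apply]
    exact dif_pos (Finset.mem_coe.mp i.2)
  map_add' w w' := by
    funext i
    apply Subtype.ext
    rfl

theorem exists_artinian_algebra [DecidableEq ι] (hf : ∀ i, IsInjectiveHull (f i))
    (k : Finset ι × ℕ) :
    ∃ (B : Type u) (_ : CommRing B) (_ : Algebra A B) (_ : IsArtinianRing B)
      (_ : Module B ↥(Nk p E k)) (_ : IsScalarTower A B ↥(Nk p E k)),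
      Module.Finite B ↥(Nk p E k) := by
  haveI hart : ∀ i : (↑k.1 : Set ι), IsArtinianRing
      (Localization.AtPrime (p i) ⧸ maximalIdeal (Localization.AtPrime (p i)) ^ k.2) :=
    fun i => (finite_torsion_localized (p i) (f i) (hf i) k.2).1
  haveI hfin : ∀ i : (↑k.1 : Set ι), Module.Finite
      (Localization.AtPrime (p i) ⧸ maximalIdeal (Localization.AtPrime (p i)) ^ k.2)
      (Tn p E i k.2) :=
    fun i => (finite_torsion_localized (p i) (f i) (hf i) k.2).2
  letI inst : Module (BRing p k) ↥(Nk p E k) := moduleOfAddEquiv (eqv p E k)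
  have hsmul : ∀ (b : BRing p k) (w : Nk p E k),
      b • w = (eqv p E k).symm (b • eqv p E k w) := fun _ _ => rfl
  have hlin : ∀ (a : A) (w : Nk p E k), eqv p E k (a • w) = a • eqv p E k w := by
    intro a w; funext i; apply Subtype.ext; rfl
  refine ⟨BRing p k, inferInstance, inferInstance, inferInstance, inst, ⟨fun a b w => ?_⟩, ?_⟩
  · rw [hsmul, hsmul]
    apply (eqv p E k).injective
    rw [AddEquiv.apply_symm_apply, hlin, AddEquiv.apply_symm_apply, smul_assoc]
  · haveI : Module.Finite (BRing p k) (∀ i : (↑k.1 : Set ι), Tn p E i k.2) := finite_pi' _ _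
    let eB : (∀ i : (↑k.1 : Set ι), Tn p E i k.2) ≃ₗ[BRing p k] Nk p E k :=
      { (eqv p E k).symm with
        map_smul' := fun b y => by
          show (eqv p E k).symm (b • y) =
            (eqv p E k).symm (b • eqv p E k ((eqv p E k).symm y))
          rw [AddEquiv.apply_symm_apply] }
    exact Module.Finite.equiv eB

end Assembly

/-- **S10787** -/
theorem main (A : Type u) [CommRing A] [IsNoetherianRing A]
    (J : Type u) [AddCommGroup J] [Module A J] [Module.Injective A J] :
    ∃ (ι : Type u) (_ : SmallCategory ι) (_ : IsFiltered ι) (D : ι ⥤ ModuleCat.{u} A)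
      (c : Cocone D) (_ : IsColimit c), Nonempty (c.pt ≅ ModuleCat.of A J) ∧
      ∀ i : ι, ∃ (B : Type u) (_ : CommRing B) (_ : Algebra A B) (_ : IsArtinianRing B)
        (_ : Module B (D.obj i)) (_ : IsScalarTower A B (D.obj i)), Module.Finite B (D.obj i) := by
  classical
  obtain ⟨ι, Es, hint, hEs⟩ := Groth.Agent.S0307.result A J inferInstance
  choose p hp f hf using fun i =>
    Groth.Agent.Helper8.InjBC.exists_hull_quotient_of_indecomposable A (hEs i).1 (hEs i).2
  haveI := hp
  let eJ : (DirectSum ι fun i => ↥(Es i)) ≃ₗ[A] J :=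
    LinearEquiv.ofBijective (DirectSum.coeLinearMap Es) hint
  let eL : ∀ i, ↥(Es i) ≃ₗ[A] Lloc p (fun i => ↥(Es i)) i := fun i =>
    LinearEquiv.ofBijective (LocalizedModule.mkLinearMap (p i).primeCompl (Es i))
      (mk_bijective (p i) (f i) (hf i))
  let eW : (DirectSum ι fun i => ↥(Es i)) ≃ₗ[A] (Π₀ i, Lloc p (fun i => ↥(Es i)) i) :=
    DFinsupp.mapRange.linearEquiv eL
  haveI : IsDirectedOrder (Finset ι × ℕ) :=
    ⟨fun a b => ⟨(a.1 ∪ b.1, max a.2 b.2), ⟨Finset.subset_union_left, le_max_left _ _⟩,
      ⟨Finset.subset_union_right, le_max_right _ _⟩⟩⟩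
  haveI : DirectedSystem (fun k : Finset ι × ℕ => ↥(Nk p (fun i => ↥(Es i)) k))
      (fun k k' h => Submodule.inclusion (Nk_mono p (fun i => ↥(Es i)) h)) :=
    { map_self := fun _ _ => rfl, map_map := fun _ _ _ _ _ _ => rfl }
  let eDL : Module.DirectLimit (fun k : Finset ι × ℕ => ↥(Nk p (fun i => ↥(Es i)) k))
      (fun k k' h => Submodule.inclusion (Nk_mono p (fun i => ↥(Es i)) h)) ≃ₗ[A]
      (Π₀ i, Lloc p (fun i => ↥(Es i)) i) :=
    LinearEquiv.ofBijective
      (Module.DirectLimit.lift A (Finset ι × ℕ) _ _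
        (fun k => (Nk p (fun i => ↥(Es i)) k).subtype) (fun _ _ _ _ => rfl))
      ⟨Module.DirectLimit.lift_injective _ _ (fun _ => Subtype.val_injective),
       fun w => by
        obtain ⟨k, hk⟩ := exists_mem_Nk p (fun i => ↥(Es i)) f hf w
        exact ⟨Module.DirectLimit.of A _ _ _ k ⟨w, hk⟩, Module.DirectLimit.lift_of _ _ _⟩⟩
  refine ⟨Finset ι × ℕ, Preorder.smallCategory _,
    CategoryTheory.isFiltered_of_directed_le_nonempty _,
    ModuleCat.directLimitDiagram (fun k : Finset ι × ℕ => ↥(Nk p (fun i => ↥(Es i)) k))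
      (fun k k' h => Submodule.inclusion (Nk_mono p (fun i => ↥(Es i)) h)),
    ModuleCat.directLimitCocone _ _, ModuleCat.directLimitIsColimit _ _,
    ⟨(eDL.trans (eW.symm.trans eJ)).toModuleIso⟩, fun k => ?_⟩
  exact exists_artinian_algebra p (fun i => ↥(Es i)) f hf k

end Groth.Agent.Helper8.InjColim
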