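import Mathlib
import Groth.Agent.Lib.Helper8.InsA5
import Groth.Agent.Lib.Helper8.InsA8

/-! Artinian local algebras in characteristic `p` as unions of essentially finite type
Artinian local subalgebras over which they are flat (Stacks 16.11.1 type statement). -/

namespace Groth.Agent.Helper8.InsA

universe u

set_option maxHeartbeats 1600000 in
theorem main {k Λ : Type u} [Field k] (p : ℕ) [Fact p.Prime]
    [CharP k p] [CommRing Λ] [Algebra k Λ] [IsArtinianRing Λ] [IsLocalRing Λ]
    (hH : Module.Finite (IsLocalRing.ResidueField Λ)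
      (Algebra.H1Cotangent k (IsLocalRing.ResidueField Λ)))
    (E : Finset Λ) :
    ∃ (A : Subalgebra k Λ) (_ : IsLocalRing A), (↑E : Set Λ) ⊆ A ∧ IsArtinianRing A ∧
      Module.Flat A Λ ∧ Algebra.EssFiniteType k A ∧
      (IsLocalRing.maximalIdeal A).map (algebraMap A Λ) = IsLocalRing.maximalIdeal Λ := by
  classical
  let π : Λ →ₐ[k] IsLocalRing.ResidueField Λ :=
    IsScalarTower.toAlgHom k Λ (IsLocalRing.ResidueField Λ)
  have hπsurj : Function.Surjective π := IsLocalRing.residue_surjective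
  have hker : RingHom.ker (π : Λ →+* IsLocalRing.ResidueField Λ) = IsLocalRing.maximalIdeal Λ :=
    IsLocalRing.ker_residue
  obtain ⟨d, lam, hlam⟩ := Submodule.fg_iff_exists_fin_generating_family.mp
    (IsNoetherian.noetherian (IsLocalRing.maximalIdeal Λ))
  have hlam' : Ideal.span (Set.range lam) = IsLocalRing.maximalIdeal Λ := hlam
  obtain ⟨n, hn⟩ : ∃ n, IsLocalRing.maximalIdeal Λ ^ n = ⊥ := by
    have := IsArtinianRing.isNilpotent_jacobson_bot (R := Λ)
    rw [IsLocalRing.jacobson_eq_maximalIdeal ⊥ bot_ne_top] at this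
    exact this
  obtain ⟨σ, T₀, hσ, hT₀⟩ := good_of_nilpotent p hH n π hπsurj lam (hlam'.trans hker.symm)
    (by rw [hker]; exact hn)
  letI algK : Algebra (IsLocalRing.ResidueField Λ) Λ := σ.toAlgebra
  haveI : Module.Finite (IsLocalRing.ResidueField Λ) Λ :=
    finite_of_section (π : Λ →+* IsLocalRing.ResidueField Λ) hσ lam (hlam'.trans hker.symm) n
      (by rw [hker]; exact hn)
  let m := Module.finBasis (IsLocalRing.ResidueField Λ) Λ
  let S : Set (IsLocalRing.ResidueField Λ) :=
    (T₀ : Set (IsLocalRing.ResidueField Λ)) ∪ Set.range (fun u => m.repr 1 u) ∪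
      Set.range (fun t : _ × _ × _ => m.repr (m t.1 * m t.2.1) t.2.2) ∪
      Set.range (fun t : Fin d × _ => m.repr (lam t.1) t.2) ∪
      Set.range (fun t : {x // x ∈ E} × _ => m.repr (t.1 : Λ) t.2) ∪
      Set.range (fun u => π (m u))
  have hSfin : S.Finite :=
    ((((T₀.finite_toSet.union (Set.finite_range _)).union (Set.finite_range _)).union
      (Set.finite_range _)).union (Set.finite_range _)).union (Set.finite_range _)
  set F := IntermediateField.adjoin k S with hF
  have hsub : S ⊆ (F : Set (IsLocalRing.ResidueField Λ)) := IntermediateField.subset_adjoin k S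
  have h1 : ∀ u, m.repr 1 u ∈ F.toSubfield := fun u =>
    hsub (Or.inl (Or.inl (Or.inl (Or.inl (Or.inr ⟨u, rfl⟩)))))
  have hmul : ∀ u v w, m.repr (m u * m v) w ∈ F.toSubfield := fun u v w =>
    hsub (Or.inl (Or.inl (Or.inl (Or.inr ⟨(u, v, w), rfl⟩))))
  let A₀ : Subring Λ := formSubring m F.toSubfield h1 hmul
  have hA₀ : ∀ x : Λ, x ∈ A₀ ↔ ∀ u, m.repr x u ∈ F.toSubfield := fun x => Iff.rfl
  have hlamA₀ : ∀ i, lam i ∈ A₀ := fun i w =>
    hsub (Or.inl (Or.inl (Or.inr ⟨(i, w), rfl⟩)))
  have hcl : Subring.closure (σ '' (IntermediateField.adjoin k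
      (T₀ : Set (IsLocalRing.ResidueField Λ)) : Set (IsLocalRing.ResidueField Λ)) ∪
      Set.range lam) ≤ A₀ := by
    rw [Subring.closure_le]
    rintro y (⟨c, hc, rfl⟩ | ⟨i, rfl⟩)
    · have hcF : c ∈ F := by
        have hle : IntermediateField.adjoin k (T₀ : Set (IsLocalRing.ResidueField Λ)) ≤ F :=
          IntermediateField.adjoin.mono k _ _ (fun x hx =>
            Or.inl (Or.inl (Or.inl (Or.inl (Or.inl hx)))))
        exact hle hc
      exact form_algebraMap_mem m F.toSubfield A₀ hA₀ hcF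
    · exact hlamA₀ i
  let A : Subalgebra k Λ := { A₀ with algebraMap_mem' := fun a => hcl (hT₀ a) }
  have hA : ∀ x : Λ, x ∈ A ↔ ∀ u, m.repr x u ∈ F.toSubfield := fun x => Iff.rfl
  haveI hArt : IsArtinianRing ↥A := form_isArtinianRing m F.toSubfield A hA
  haveI hloc : IsLocalRing ↥A := subalgebra_isLocalRing A
  have hlamA : ∀ i, lam i ∈ A := hlamA₀
  refine ⟨A, hloc, ?_, hArt, form_flat m F.toSubfield A hA,
    form_essFiniteType π hker hσ lam hlam' n hn m S hSfin A hA hlamA
      (fun u => hsub (Or.inr ⟨u, rfl⟩)),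
    subalgebra_maximalIdeal_map A lam hlam' hlamA⟩
  intro e he
  have : ∀ w, m.repr e w ∈ F.toSubfield := fun w =>
    hsub (Or.inl (Or.inr ⟨(⟨e, he⟩, w), rfl⟩))
  exact this

end Groth.Agent.Helper8.InsA
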