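import Mathlib
import Groth.Prelude
import Groth.Agent.Lib.Helper8.CplIso2
import Groth.Agent.Lib.Helper8.IntClSemi3
import Groth.Agent.Lib.Helper8.IntClSemi4
import Groth.Agent.Lib.Helper8.AdicReg1

/-!
# Residue fields of the integral closure of a Noetherian local domain
-/

set_option autoImplicit false
universe u

namespace Groth.Agent.Helper8.IntClSemi

open TensorProduct IsLocalRing

/-- A finite module over the `I`-adic completion killed by `I` is finite over the base. -/
theorem finite_of_finite_adicCompletion (A : Type u) [CommRing A] [IsNoetherianRing A]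
    (I : Ideal A) (F : Type*) [AddCommGroup F] [Module A F] [Module (AdicCompletion I A) F]
    [IsScalarTower A (AdicCompletion I A) F] [Module.Finite (AdicCompletion I A) F]
    (hI : ∀ a ∈ I, ∀ f : F, a • f = 0) : Module.Finite A F := by
  classical
  obtain ⟨S, hS⟩ := Module.Finite.fg_top (R := AdicCompletion I A) (M := F)
  refine ⟨⟨S, ?_⟩⟩
  rw [eq_top_iff]
  rintro f -
  have hf : f ∈ Submodule.span (AdicCompletion I A) (S : Set F) := hS ▸ Submodule.mem_top
  have hann : ∀ δ ∈ I.map (algebraMap A (AdicCompletion I A)), ∀ x : F, δ • x = 0 := by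
    have : I.map (algebraMap A (AdicCompletion I A)) ≤ Module.annihilator (AdicCompletion I A) F := by
      rw [Ideal.map_le_iff_le_comap]
      intro a ha
      rw [Ideal.mem_comap, Module.mem_annihilator]
      intro x
      rw [algebraMap_smul]
      exact hI a ha x
    intro δ hδ x
    exact Module.mem_annihilator.mp (this hδ) x
  induction hf using Submodule.span_induction with
  | mem x hx => exact Submodule.subset_span hx
  | zero => exact Submodule.zero_mem _
  | add x y _ _ hx hy => exact Submodule.add_mem _ hx hy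
  | smul r x _ hx =>
    obtain ⟨a, ha⟩ := Groth.Agent.Helper8.CplIso.exists_sub_mem_map A I r
    have h1 : r • x = a • x := by
      have h2 := hann _ ha x
      rw [sub_smul, algebraMap_smul, sub_eq_zero] at h2
      exact h2
    rw [h1]
    exact Submodule.smul_mem _ a hx

section

variable (A : Type u) [CommRing A] [IsDomain A]
  (K' : Type u) [Field K'] [Algebra A K'] [Algebra (FractionRing A) K']
  [IsScalarTower A (FractionRing A) K'] [FiniteDimensional (FractionRing A) K']

/-- The integral closure of `A` in a finite extension of its fraction field is generically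
spanned by finitely many elements. -/
theorem exists_generic_span :
    ∃ (ι : Type u) (_ : Fintype ι) (e' : ι → integralClosure A K'),
      ∀ t : integralClosure A K', ∃ s : A, s ≠ 0 ∧ s • t ∈ Submodule.span A (Set.range e') := by
  classical
  obtain ⟨S, b, hb⟩ := FiniteDimensional.exists_is_basis_integral A (FractionRing A) K'
  let x : S → integralClosure A K' := fun i => ⟨b i, hb i⟩
  refine ⟨S, inferInstance, x, ?_⟩
  intro t
  have ht : (t : K') ∈ Submodule.span (FractionRing A) (Set.range b) := by
    rw [b.span_eq]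
    exact Submodule.mem_top
  rw [IsLocalization.mem_span_iff (R := A) (M := nonZeroDivisors A)] at ht
  obtain ⟨y, hy, z, hz⟩ := ht
  refine ⟨z, nonZeroDivisors.coe_ne_zero z, ?_⟩
  have hrange : Set.range b = (integralClosure A K').val.toLinearMap '' (Set.range x) := by
    rw [← Set.range_comp]
    rfl
  rw [hrange, ← Submodule.map_span] at hy
  obtain ⟨y', hy', rfl⟩ := hy
  have hzt : (z : A) • t = y' := by
    apply Subtype.ext
    have : ((z : A) • t : integralClosure A K').1 = (z : A) • (t : K') := rfl
    rw [this, hz]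
    rw [← smul_assoc]
    have h1 : (z : A) • IsLocalization.mk' (FractionRing A) (1 : A) z = 1 := by
      rw [Algebra.smul_def, IsLocalization.mk'_spec', map_one]
    rw [h1, one_smul]
    rfl
  rw [hzt]
  exact hy'

end


/-- Abstract form of the residue field finiteness. -/
theorem finite_quotient_of_complete (A : Type u) [CommRing A] [IsLocalRing A] [IsNoetherianRing A]
    (D : Type u) [CommRing D] [IsDomain D] [Algebra A D]
    [Algebra (AdicCompletion (maximalIdeal A) A) D]
    [IsScalarTower A (AdicCompletion (maximalIdeal A) A) D]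
    [Algebra.IsIntegral (AdicCompletion (maximalIdeal A) A) D]
    {ι : Type*} [Finite ι] (e : ι → D)
    (hgen : ∀ d : D, ∃ s : AdicCompletion (maximalIdeal A) A,
      algebraMap (AdicCompletion (maximalIdeal A) A) D s ≠ 0 ∧
        s • d ∈ Submodule.span (AdicCompletion (maximalIdeal A) A) (Set.range e))
    (𝔫 : Ideal D) [𝔫.IsMaximal]
    (A' : Type u) [CommRing A'] [Algebra A A'] [Algebra.IsIntegral A A'] (ψ : A' →ₐ[A] D)
    (n' : Ideal A') [n'.IsMaximal] (hψ : 𝔫.comap ψ = n') :
    Module.Finite A (A' ⧸ n') := by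
  classical
  haveI : IsNoetherianRing (AdicCompletion (maximalIdeal A) A) :=
    Groth.Agent.Helper8.AdicReg.isNoetherianRing A _
  haveI hfinR : Module.Finite (AdicCompletion (maximalIdeal A) A) (D ⧸ 𝔫) :=
    finite_quotient_maximal (AdicCompletion (maximalIdeal A) A) D e hgen 𝔫
  have hkill : ∀ a ∈ maximalIdeal A, ∀ f : D ⧸ 𝔫, a • f = 0 := by
    intro a ha f
    have h1 : n'.comap (algebraMap A A') = maximalIdeal A :=
      IsLocalRing.eq_maximalIdeal (Ideal.isMaximal_comap_of_isIntegral_of_isMaximal n')
    have h2 : algebraMap A A' a ∈ n' := by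
      rw [← h1] at ha
      exact ha
    have h3 : ψ (algebraMap A A' a) ∈ 𝔫 := by
      rw [← hψ] at h2
      exact h2
    rw [AlgHom.commutes] at h3
    rw [Algebra.smul_def, IsScalarTower.algebraMap_apply A D (D ⧸ 𝔫)]
    have h4 : algebraMap D (D ⧸ 𝔫) (algebraMap A D a) = 0 :=
      Ideal.Quotient.eq_zero_iff_mem.mpr h3
    rw [h4, zero_mul]
  haveI hfinA : Module.Finite A (D ⧸ 𝔫) :=
    finite_of_finite_adicCompletion A (maximalIdeal A) (D ⧸ 𝔫) hkill
  let q : (A' ⧸ n') →ₐ[A] D ⧸ 𝔫 := Ideal.quotientMapₐ 𝔫 ψ hψ.ge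
  have hq : Function.Injective q :=
    Ideal.quotientMap_injective' (f := (ψ : A' →+* D)) (H := hψ.ge) hψ.le
  haveI : IsNoetherian A (D ⧸ 𝔫) := isNoetherian_of_isNoetherianRing_of_finite A _
  exact Module.Finite.of_injective q.toLinearMap hq

/-- Abstract form of the residue field finiteness, for a quotient by a minimal prime. -/
theorem finite_quotient_of_complete' (A : Type u) [CommRing A] [IsLocalRing A]
    [IsNoetherianRing A]
    (T : Type u) [CommRing T] [Algebra A T]
    [Algebra (AdicCompletion (maximalIdeal A) A) T]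
    [IsScalarTower A (AdicCompletion (maximalIdeal A) A) T]
    [Algebra.IsIntegral (AdicCompletion (maximalIdeal A) A) T]
    (Q : Ideal T) (hQ : Q ∈ minimalPrimes T) (M : Ideal T) [hMmax : M.IsMaximal] (hQM : Q ≤ M)
    {ι : Type*} [Finite ι] (f : ι → T)
    (hgen : ∀ τ : T, ∃ s : A, s ≠ 0 ∧
      s • τ ∈ Submodule.span (AdicCompletion (maximalIdeal A) A) (Set.range f))
    (hQs : ∀ s : A, s ≠ 0 → algebraMap A T s ∉ Q)
    (A' : Type u) [CommRing A'] [Algebra A A'] [Algebra.IsIntegral A A'] (ψ : A' →ₐ[A] T)
    (n' : Ideal A') [n'.IsMaximal] (hψ : M.comap ψ.toRingHom = n') :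
    Module.Finite A (A' ⧸ n') := by
  classical
  haveI : Q.IsPrime := hQ.isPrime
  haveI : Algebra.IsIntegral (AdicCompletion (maximalIdeal A) A) (T ⧸ Q) :=
    Algebra.IsIntegral.of_surjective (A := T)
      (Ideal.Quotient.mkₐ (AdicCompletion (maximalIdeal A) A) Q) Ideal.Quotient.mk_surjective
  let e : ι → T ⧸ Q := fun i => Ideal.Quotient.mk Q (f i)
  have hgen' : ∀ d : T ⧸ Q, ∃ s : AdicCompletion (maximalIdeal A) A,
      algebraMap (AdicCompletion (maximalIdeal A) A) (T ⧸ Q) s ≠ 0 ∧
        s • d ∈ Submodule.span (AdicCompletion (maximalIdeal A) A) (Set.range e) := by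
    intro d
    obtain ⟨τ, rfl⟩ := Ideal.Quotient.mk_surjective d
    obtain ⟨s, hs, hsτ⟩ := hgen τ
    refine ⟨algebraMap A (AdicCompletion (maximalIdeal A) A) s, ?_, ?_⟩
    · intro h0
      apply hQs s hs
      rw [← Ideal.Quotient.eq_zero_iff_mem, ← h0]
      rw [IsScalarTower.algebraMap_apply A (AdicCompletion (maximalIdeal A) A) T]
      rfl
    · have h1 : algebraMap A (AdicCompletion (maximalIdeal A) A) s • Ideal.Quotient.mk Q τ =
          (Ideal.Quotient.mkₐ (AdicCompletion (maximalIdeal A) A) Q).toLinearMap (s • τ) := by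
        rw [algebraMap_smul]
        rfl
      rw [h1]
      have hle : Submodule.span (AdicCompletion (maximalIdeal A) A) (Set.range f) ≤
          (Submodule.span (AdicCompletion (maximalIdeal A) A) (Set.range e)).comap
            (Ideal.Quotient.mkₐ (AdicCompletion (maximalIdeal A) A) Q).toLinearMap := by
        rw [Submodule.span_le]
        rintro _ ⟨i, rfl⟩
        exact Submodule.subset_span ⟨i, rfl⟩
      exact hle hsτ
  have hcm : (M.map (Ideal.Quotient.mk Q)).comap (Ideal.Quotient.mk Q) = M := by
    rw [Ideal.comap_map_of_surjective _ Ideal.Quotient.mk_surjective,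
      ← RingHom.ker_eq_comap_bot, Ideal.mk_ker, sup_eq_left.mpr hQM]
  have hne : M.map (Ideal.Quotient.mk Q) ≠ ⊤ := by
    intro h
    rw [h, Ideal.comap_top] at hcm
    exact hMmax.ne_top hcm.symm
  haveI hmax : (M.map (Ideal.Quotient.mk Q)).IsMaximal :=
    (Ideal.map_eq_top_or_isMaximal_of_surjective _ Ideal.Quotient.mk_surjective hMmax).resolve_left
      hne
  let ψ' : A' →ₐ[A] T ⧸ Q := (Ideal.Quotient.mkₐ A Q).comp ψ
  have hψ' : (M.map (Ideal.Quotient.mk Q)).comap ψ' = n' := by
    rw [← hψ, ← hcm, Ideal.comap_comap, hcm]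
    rfl
  exact finite_quotient_of_complete A (T ⧸ Q) e hgen' (M.map (Ideal.Quotient.mk Q)) A' ψ' n' hψ'

section final

variable (A : Type u) [CommRing A] [IsDomain A] [IsLocalRing A] [IsNoetherianRing A]
  (K' : Type u) [Field K'] [Algebra A K'] [Algebra (FractionRing A) K']
  [IsScalarTower A (FractionRing A) K'] [FiniteDimensional (FractionRing A) K']

omit [IsLocalRing A] [IsNoetherianRing A] in
/-- Generic spanning of `Â ⊗ A'`. -/
theorem exists_generic_span_tensor (R : Type u) [CommRing R] [Algebra A R] {ι : Type u}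
    (e' : ι → integralClosure A K')
    (he' : ∀ t : integralClosure A K', ∃ s : A, s ≠ 0 ∧ s • t ∈ Submodule.span A (Set.range e'))
    (τ : R ⊗[A] integralClosure A K') :
    ∃ s : A, s ≠ 0 ∧ s • τ ∈ Submodule.span R
      (Set.range (fun i => (1 : R) ⊗ₜ[A] e' i)) := by
  induction τ using TensorProduct.induction_on with
  | zero => exact ⟨1, one_ne_zero, by rw [smul_zero]; exact Submodule.zero_mem _⟩
  | tmul r t =>
    obtain ⟨s, hs, hst⟩ := he' t
    refine ⟨s, hs, ?_⟩
    rw [← TensorProduct.tmul_smul]
    have hle : Submodule.span A (Set.range e') ≤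
        ((Submodule.span R (Set.range (fun i => (1 : R) ⊗ₜ[A] e' i))).restrictScalars A).comap
          (TensorProduct.mk A R (integralClosure A K') r) := by
      rw [Submodule.span_le]
      rintro _ ⟨i, rfl⟩
      show r ⊗ₜ[A] e' i ∈ Submodule.span R (Set.range (fun i => (1 : R) ⊗ₜ[A] e' i))
      have : r ⊗ₜ[A] e' i = r • ((1 : R) ⊗ₜ[A] e' i) := by
        rw [TensorProduct.smul_tmul', smul_eq_mul, mul_one]
      rw [this]
      exact Submodule.smul_mem _ _ (Submodule.subset_span ⟨i, rfl⟩)
    exact hle hst
  | add x y hx hy =>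
    obtain ⟨s₁, hs₁, h₁⟩ := hx
    obtain ⟨s₂, hs₂, h₂⟩ := hy
    refine ⟨s₁ * s₂, mul_ne_zero hs₁ hs₂, ?_⟩
    rw [smul_add]
    refine Submodule.add_mem _ ?_ ?_
    · rw [mul_comm, mul_smul]
      exact Submodule.smul_of_tower_mem _ s₂ h₁
    · rw [mul_smul]
      exact Submodule.smul_of_tower_mem _ s₁ h₂

omit [FiniteDimensional (FractionRing A) K'] in
/-- Nonzero elements of `A` avoid the minimal primes of `Â ⊗ A'`. -/
theorem algebraMap_notMem_of_mem_minimalPrimes
    (Q : Ideal (AdicCompletion (maximalIdeal A) A ⊗[A] integralClosure A K'))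
    (hQ : Q ∈ minimalPrimes (AdicCompletion (maximalIdeal A) A ⊗[A] integralClosure A K'))
    (s : A) (hs : s ≠ 0) :
    algebraMap A (AdicCompletion (maximalIdeal A) A ⊗[A] integralClosure A K') s ∉ Q := by
  have hinjA : Function.Injective (algebraMap A K') := by
    rw [IsScalarTower.algebraMap_eq A (FractionRing A) K']
    exact (algebraMap (FractionRing A) K').injective.comp (IsFractionRing.injective A _)
  have hreg : IsSMulRegular (integralClosure A K') s := by
    intro x y hxy
    have h1 : s • (x : K') = s • (y : K') := congrArg Subtype.val hxy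
    rw [Algebra.smul_def, Algebra.smul_def] at h1
    have h2 : algebraMap A K' s ≠ 0 := fun h0 => hs (hinjA (by rw [h0, map_zero]))
    exact Subtype.ext (mul_left_cancel₀ h2 h1)
  have hreg' : IsSMulRegular (AdicCompletion (maximalIdeal A) A ⊗[A] integralClosure A K') s :=
    IsSMulRegular.lTensor (AdicCompletion (maximalIdeal A) A) hreg
  have hnzd : algebraMap A (AdicCompletion (maximalIdeal A) A ⊗[A] integralClosure A K') s ∈
      nonZeroDivisors (AdicCompletion (maximalIdeal A) A ⊗[A] integralClosure A K') := by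
    rw [mem_nonZeroDivisors_iff_right]
    intro τ hτ
    apply hreg'
    show s • τ = s • 0
    rw [smul_zero]
    have h3 : s • τ = algebraMap A
        (AdicCompletion (maximalIdeal A) A ⊗[A] integralClosure A K') s * τ :=
      Algebra.smul_def s τ
    rw [h3, mul_comm]
    exact hτ
  exact fun hmem => Set.disjoint_left.mp
    (Ideal.disjoint_nonZeroDivisors_of_mem_minimalPrimes hQ) hmem hnzd


/-- The residue fields of the integral closure of a Noetherian local domain in a finite extension
of its fraction field are finite over the base. -/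
theorem finite_residue (n' : Ideal (integralClosure A K')) [hn' : n'.IsMaximal] :
    Module.Finite A (integralClosure A K' ⧸ n') := by
  classical
  obtain ⟨M, hMmax, hM⟩ := exists_maximal_comap_eq A K' n'
  obtain ⟨Q, hQ, hQM⟩ := Ideal.exists_minimalPrimes_le (bot_le : ⊥ ≤ M)
  obtain ⟨ι, hι, e', he'⟩ := exists_generic_span A K'
  exact finite_quotient_of_complete' A
    (AdicCompletion (maximalIdeal A) A ⊗[A] integralClosure A K') Q hQ M hQM
    (fun i => (1 : AdicCompletion (maximalIdeal A) A) ⊗ₜ[A] e' i)
    (exists_generic_span_tensor A K' (AdicCompletion (maximalIdeal A) A) e' he')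
    (algebraMap_notMem_of_mem_minimalPrimes A K' Q hQ)
    (integralClosure A K') Algebra.TensorProduct.includeRight n' hM

end final

end Groth.Agent.Helper8.IntClSemi
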