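import Mathlib
import Groth.Prelude.Def_IntMult
import Groth.Agent.S1914
import Groth.Agent.Lib.Helper1.TorBal
import Groth.Agent.Lib.Helper8.KS6
import Groth.Agent.Lib.Helper8.KE9
import Groth.Agent.Lib.Helper8.KG1

/-!
# Samuel limit and positivity of the Tor multiplicity against a regular sequence
-/

set_option autoImplicit false
universe u
open CategoryTheory Filter

namespace Groth.Agent.Helper8.IntLim

variable {A : Type u} [CommRing A]

/-- symmetry of the Tor Euler characteristic -/
theorem chi_symm (M N : Type u) [AddCommGroup M] [Module A M] [AddCommGroup N] [Module A N] :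
    IntMult.chi A M N = IntMult.chi A N M := by
  unfold IntMult.chi
  refine finsum_congr fun i => ?_
  obtain ⟨e⟩ := Groth.Agent.Helper1.TorBal.torSymm i (ModuleCat.of A M) (ModuleCat.of A N)
  have h : Module.length A (DRing.Tor A i M N) = Module.length A (DRing.Tor A i N M) :=
    (e.toLinearEquiv).length_eq
  rw [h]

theorem quot_equiv (J I : Ideal A) :
    Nonempty (((A ⧸ J) ⧸ (I • (⊤ : Submodule A (A ⧸ J)))) ≃ₗ[A] (A ⧸ (J ⊔ I))) := by
  have h : I • (⊤ : Submodule A (A ⧸ J)) = Submodule.map (Submodule.mkQ J) I := by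
    have h1 : (⊤ : Submodule A (A ⧸ J)) = Submodule.map (Submodule.mkQ J) ⊤ := by
      rw [Submodule.map_top, Submodule.range_mkQ]
    have h2 : I • (⊤ : Submodule A A) = I := by
      rw [smul_eq_mul, Ideal.mul_top]
    rw [h1, ← Submodule.map_smul'', h2]
  rw [h]
  exact ⟨Submodule.quotientQuotientEquivQuotientSup J I⟩

variable [IsNoetherianRing A] [IsLocalRing A]

theorem core1874 (J : Ideal A) (c : ℕ) (g : Fin c → A)
    (hreg : RingTheory.Sequence.IsRegular A (List.ofFn g))
    (hdim : (c : WithBot ℕ∞) ≤ ringKrullDim (A ⧸ J))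
    (hmax : ∀ P : Ideal A, P.IsPrime → J ≤ P → Ideal.span (Set.range g) ≤ P →
      P = IsLocalRing.maximalIdeal A) :
    Tendsto (fun t : ℕ => (c.factorial : ℝ) *
        ((Module.length A (A ⧸ (J ⊔ Ideal.span (Set.range g) ^ t))).toNat : ℝ) / (t : ℝ) ^ c)
      atTop (nhds (IntMult.chi A (A ⧸ J) (A ⧸ Ideal.span (Set.range g)) : ℝ)) ∧
    0 < IntMult.chi A (A ⧸ J) (A ⧸ Ideal.span (Set.range g)) := by
  classical
  have hfl : IsFiniteLength A
      ((A ⧸ J) ⧸ (Ideal.span (Set.range g) • (⊤ : Submodule A (A ⧸ J)))) := by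
    refine KoszulLib.isFiniteLength_of_minimalPrimes_isMaximal _ (fun p hp => ?_)
    have hpp : p.IsPrime := hp.1.1
    have hann : Module.annihilator A
        ((A ⧸ J) ⧸ (Ideal.span (Set.range g) • (⊤ : Submodule A (A ⧸ J)))) ≤ p := hp.1.2
    have hJp : J ≤ p := by
      refine le_trans ?_ hann
      intro a ha
      rw [Module.mem_annihilator]
      intro m
      obtain ⟨m', rfl⟩ := Submodule.Quotient.mk_surjective _ m
      obtain ⟨b, rfl⟩ := Ideal.Quotient.mk_surjective m'
      rw [← Submodule.Quotient.mk_smul, Submodule.Quotient.mk_eq_zero]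
      have h0 : a • (Ideal.Quotient.mk J b) = 0 := by
        rw [Algebra.smul_def, Ideal.Quotient.algebraMap_eq, ← map_mul,
          Ideal.Quotient.eq_zero_iff_mem]
        exact J.mul_mem_right b ha
      rw [h0]
      exact Submodule.zero_mem _
    have hIp : Ideal.span (Set.range g) ≤ p := by
      refine le_trans ?_ hann
      intro a ha
      rw [Module.mem_annihilator]
      intro m
      obtain ⟨m', rfl⟩ := Submodule.Quotient.mk_surjective _ m
      rw [← Submodule.Quotient.mk_smul, Submodule.Quotient.mk_eq_zero]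
      exact Submodule.smul_mem_smul ha trivial
    rw [hmax p hpp hJp hIp]
    exact IsLocalRing.maximalIdeal.isMaximal A
  have h0 : Module.supportDim A
      ((A ⧸ J) ⧸ (Ideal.span (Set.range g) • (⊤ : Submodule A (A ⧸ J)))) ≤ 0 :=
    KoszulLib.supportDim_le_zero_of_isFiniteLength' hfl
  have hlim := Groth.Agent.S1914.result A c g hreg (A ⧸ J) h0
  have hlen : ∀ t : ℕ, Module.length A
      ((A ⧸ J) ⧸ (Ideal.span (Set.range g) ^ t • (⊤ : Submodule A (A ⧸ J)))) =
        Module.length A (A ⧸ (J ⊔ Ideal.span (Set.range g) ^ t)) := by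
    intro t
    obtain ⟨e⟩ := quot_equiv J (Ideal.span (Set.range g) ^ t)
    exact e.length_eq
  rw [chi_symm (A ⧸ J) (A ⧸ Ideal.span (Set.range g))]
  constructor
  · refine (tendsto_congr (fun t => ?_)).mp hlim
    rw [hlen t]
  · have hIne : Ideal.span (Set.range g) ≠ ⊤ := by
      intro h
      apply hreg.top_ne_smul
      rw [KoszulLib.ofList_ofFn, h]
      simp
    have hx : ∀ j, g j ∈ IsLocalRing.maximalIdeal A := fun j =>
      IsLocalRing.le_maximalIdeal hIne (Ideal.subset_span ⟨j, rfl⟩)
    have hsd_le : Module.supportDim A (A ⧸ J) ≤ (c : WithBot ℕ∞) := by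
      have h1 := KoszulLib.supportDim_le_length (List.ofFn g) (A ⧸ J) (by
        intro a ha
        obtain ⟨j, rfl⟩ := (List.mem_ofFn' g a).mp ha
        exact hx j) (by rw [KoszulLib.ofList_ofFn]; exact hfl)
      rwa [List.length_ofFn] at h1
    have hsd : Module.supportDim A (A ⧸ J) = (c : WithBot ℕ∞) :=
      le_antisymm hsd_le (by rw [Module.supportDim_quotient_eq_ringKrullDim]; exact hdim)
    have hpos := KoszulLib.koszulEuler_pos_of_supportDim_eq c g hx (A ⧸ J) hfl hsd
    have hl2 := KoszulLib.tendsto_samuel_eq_koszulEuler c g (A ⧸ J) hfl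
    have heq := tendsto_nhds_unique hlim hl2
    rw [Int.cast_injective heq]
    exact hpos

end Groth.Agent.Helper8.IntLim
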