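import Mathlib

/-! helper8: a finitely generated, geometrically reduced field extension is formally smooth. -/

set_option autoImplicit false
universe u

namespace Groth.Agent.Helper8.J2

open TensorProduct

/-- In a geometrically reduced algebra over a field of characteristic `p`, taking `p`-th powers
preserves linear independence. -/
theorem linearIndepOn_pow_of_isGeometricallyReduced (K L : Type*) [Field K] [Field L] [Algebra K L]
    [Algebra.IsGeometricallyReduced K L] (p : ℕ) [hp : Fact p.Prime] [CharP K p]
    (s : Finset L) (hs : LinearIndepOn K _root_.id (s : Set L)) :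
    LinearIndepOn K (· ^ p) (s : Set L) := by
  classical
  let Ω := AlgebraicClosure K
  haveI : CharP Ω p := charP_of_injective_algebraMap (algebraMap K Ω).injective p
  haveI : CharP (Ω ⊗[K] L) p :=
    charP_of_injective_algebraMap (algebraMap Ω (Ω ⊗[K] L)).injective p
  haveI : IsReduced (Ω ⊗[K] L) := (Algebra.isGeometricallyReduced_field_iff K L).mp inferInstance
  have hs' : LinearIndependent K (fun x : (s : Set L) => (x : L)) := hs
  have hΩ : LinearIndependent Ω (fun x : (s : Set L) => (1 : Ω) ⊗ₜ[K] (x : L)) :=
    Module.Flat.linearIndependent_one_tmul hs'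
  rw [LinearIndepOn, Fintype.linearIndependent_iff]
  intro c hc
  choose d hd using fun x : (s : Set L) => IsAlgClosed.exists_pow_nat_eq
    (algebraMap K Ω (c x)) hp.out.pos
  let z : Ω ⊗[K] L := ∑ x : (s : Set L), d x ⊗ₜ[K] (x : L)
  have hz : z ^ p = 0 := by
    rw [sum_pow_char]
    have h1 : ∀ x : (s : Set L), (d x ⊗ₜ[K] (x : L)) ^ p = (1 : Ω) ⊗ₜ[K] (c x • (x : L) ^ p) := by
      intro x
      rw [Algebra.TensorProduct.tmul_pow, hd x, Algebra.algebraMap_eq_smul_one, smul_tmul]
    rw [Finset.sum_congr rfl (fun x _ => h1 x), ← tmul_sum, hc, tmul_zero]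
  have hz0 : z = 0 := IsReduced.eq_zero _ ⟨p, hz⟩
  have hz1 : ∑ x : (s : Set L), d x • ((1 : Ω) ⊗ₜ[K] (x : L)) = 0 := by
    rw [← hz0]
    refine Finset.sum_congr rfl (fun x _ => ?_)
    rw [smul_tmul', smul_eq_mul, mul_one]
  have hd0 := Fintype.linearIndependent_iff.mp hΩ d hz1
  intro x
  have h2 := hd x
  rw [hd0 x, zero_pow hp.out.ne_zero] at h2
  exact (map_eq_zero_iff _ (algebraMap K Ω).injective).mp h2.symm

/-- A finitely generated geometrically reduced field extension is formally smooth. -/
theorem formallySmooth_of_isGeometricallyReduced (K L : Type*) [Field K] [Field L] [Algebra K L]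
    [Algebra.EssFiniteType K L] [Algebra.IsGeometricallyReduced K L] :
    Algebra.FormallySmooth K L := by
  obtain _ | ⟨p, hp, hpk⟩ := CharP.exists' K
  · haveI : PerfectField K := PerfectField.ofCharZero
    infer_instance
  · obtain ⟨s, hs, H⟩ :=
      exists_isTranscendenceBasis_and_isSeparable_of_linearIndepOn_pow_of_essFiniteType
        (k := K) (K := L) p hp.out
        (fun s hs => linearIndepOn_pow_of_isGeometricallyReduced K L p s hs)
    have : Algebra.IsSeparable (↥(IntermediateField.adjoin K (Set.range ((↑) : s → L)))) L := by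
      convert! H <;> simp
    exact .of_algebraicIndependent_of_isSeparable hs.1

end Groth.Agent.Helper8.J2
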