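import Mathlib
import Groth.Prelude
import Groth.Agent.Lib.Helper8.J2a
import Groth.Agent.Lib.Helper8.Exc1
import Groth.Agent.Lib.Helper8.AdicFS17
import Groth.Agent.Lib.Helper8.CompFib2
import Groth.Agent.Lib.Helper8.CplMap3
import Groth.Agent.Lib.Helper8.DescFib2

/-! helper8: the regular locus and formally smooth maps; the "J-0" property along extensions with
formally smooth fraction field extension. -/

set_option autoImplicit false
universe u

namespace Groth.Agent.Helper8.J2

open TensorProduct

/-- `J-0`: the regular locus contains a nonempty open subset. -/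
def J0 (A : Type u) [CommRing A] : Prop :=
  ∃ U : Set (PrimeSpectrum A), IsOpen U ∧ U.Nonempty ∧ U ⊆ EGA4.regLocus A

/-- Regularity ascends along formally smooth maps, pointwise. -/
theorem preimage_regLocus_subset_of_formallySmooth (A B : Type u) [CommRing A] [CommRing B]
    [IsNoetherianRing A] [IsNoetherianRing B] [Algebra A B] [Algebra.FormallySmooth A B] :
    PrimeSpectrum.comap (algebraMap A B) ⁻¹' EGA4.regLocus A ⊆ EGA4.regLocus B := by
  intro Q hQ
  have h := Groth.Agent.Helper8.AdicFS.isRegularHom_of_formallySmooth A B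
  haveI := h.1
  have hfib : IsRegularRing ((Q.asIdeal.comap (algebraMap A B)).Fiber B) :=
    Groth.Agent.Helper8.CplMap.isRegularRing_of_isGeometricallyRegular _ _
      (h.2 (Q.asIdeal.comap (algebraMap A B))).2
  exact Groth.Agent.Helper8.FlatReg.isRegularLocalRing_atPrime_of_fibre A B Q.asIdeal hQ
    (Groth.Agent.Helper8.CompFib.isRegularLocalRing_fibLocRing_of_fiber A B Q.asIdeal hfib)

/-- In the spectrum of a domain, a nonempty open set contains the generic point. -/
theorem bot_mem_of_isOpen_of_nonempty {A : Type*} [CommRing A] [IsDomain A]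
    {U : Set (PrimeSpectrum A)} (hU : IsOpen U) (hne : U.Nonempty) :
    (⟨⊥, Ideal.isPrime_bot⟩ : PrimeSpectrum A) ∈ U := by
  obtain ⟨x, hx⟩ := hne
  have hsp : (⟨⊥, Ideal.isPrime_bot⟩ : PrimeSpectrum A) ⤳ x := by
    rw [← PrimeSpectrum.le_iff_specializes]
    exact bot_le (a := x.asIdeal)
  exact hsp.mem_open hU hx

/-- The key "smooth" step: if `B` is a domain of finite type over the Noetherian domain `A`,
`A → B` is injective, the fraction field of `B` is formally smooth over `A`, and `A` is `J-0`,
then `B` is `J-0`. -/
theorem j0_of_formallySmooth_fractionRing (A B : Type u) [CommRing A] [CommRing B] [IsDomain A]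
    [IsDomain B] [IsNoetherianRing A] [Algebra A B] [Algebra.FiniteType A B]
    (hinj : Function.Injective (algebraMap A B))
    (L : Type u) [Field L] [Algebra B L] [IsFractionRing B L] [Algebra A L] [IsScalarTower A B L]
    [Algebra.FormallySmooth A L] (hA : J0 A) : J0 B := by
  obtain ⟨U, hU, hne, hUreg⟩ := hA
  haveI : IsNoetherianRing B := Algebra.FiniteType.isNoetherianRing A B
  haveI : Algebra.FinitePresentation A B := Algebra.FinitePresentation.of_finiteType.mp inferInstance
  haveI : IsFractionRing B (Localization.AtPrime (⊥ : Ideal B)) := by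
    simpa [Ideal.primeCompl_bot] using Localization.isLocalization (M := (⊥ : Ideal B).primeCompl)
  let e : L ≃ₐ[B] Localization.AtPrime (⊥ : Ideal B) :=
    IsLocalization.algEquiv (nonZeroDivisors B) L _
  haveI : Algebra.IsSmoothAt A (⊥ : Ideal B) :=
    Algebra.FormallySmooth.of_equiv (e.restrictScalars A)
  obtain ⟨g, hg, hsm⟩ := Algebra.IsSmoothAt.exists_notMem_smooth A (⊥ : Ideal B)
  haveI : IsNoetherianRing (Localization.Away g) :=
    IsLocalization.isNoetherianRing (Submonoid.powers g) _ inferInstance
  haveI : Algebra.FormallySmooth A (Localization.Away g) := hsm.1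
  refine ⟨(PrimeSpectrum.basicOpen g : Set (PrimeSpectrum B)) ∩
    PrimeSpectrum.comap (algebraMap A B) ⁻¹' U,
    (PrimeSpectrum.basicOpen g).isOpen.inter (hU.preimage (PrimeSpectrum.continuous_comap _)),
    ⟨⟨⊥, Ideal.isPrime_bot⟩, hg, ?_⟩, ?_⟩
  · have h1 : PrimeSpectrum.comap (algebraMap A B) ⟨⊥, Ideal.isPrime_bot⟩ =
        (⟨⊥, Ideal.isPrime_bot⟩ : PrimeSpectrum A) := by
      apply PrimeSpectrum.ext
      change Ideal.comap (algebraMap A B) ⊥ = ⊥
      rw [← RingHom.ker_eq_comap_bot]
      exact (RingHom.injective_iff_ker_eq_bot _).mp hinj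
    change PrimeSpectrum.comap (algebraMap A B) ⟨⊥, Ideal.isPrime_bot⟩ ∈ U
    rw [h1]
    exact bot_mem_of_isOpen_of_nonempty hU hne
  · rintro Q ⟨hQg, hQU⟩
    have hrange : Q ∈ Set.range (PrimeSpectrum.comap (algebraMap B (Localization.Away g))) := by
      rw [PrimeSpectrum.localization_away_comap_range (Localization.Away g) g]
      exact hQg
    obtain ⟨Q', rfl⟩ := hrange
    have h2 := Groth.Agent.Helper8.Exc.regLocus_of_isLocalization (R := B)
      (L := Localization.Away g) (Submonoid.powers g)
    have h3 : Q' ∈ EGA4.regLocus (Localization.Away g) := by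
      apply preimage_regLocus_subset_of_formallySmooth A (Localization.Away g)
      apply hUreg
      have h4 : PrimeSpectrum.comap (algebraMap A (Localization.Away g)) Q' =
          PrimeSpectrum.comap (algebraMap A B)
            (PrimeSpectrum.comap (algebraMap B (Localization.Away g)) Q') := by
        rw [IsScalarTower.algebraMap_eq A B (Localization.Away g)]
        rfl
      change PrimeSpectrum.comap (algebraMap A (Localization.Away g)) Q' ∈ U
      rw [h4]
      exact hQU
    rw [h2] at h3
    exact h3

end Groth.Agent.Helper8.J2
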