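import Mathlib

/-! helper8: descending finitely many elements of `Ω ⊗[K] L` to a finite subextension of an
algebraic extension `Ω/K`; quotients of `E ⊗[K] L` whose base change to `Ω` is a domain. -/

set_option autoImplicit false
universe u

namespace Groth.Agent.Helper8.J2

open TensorProduct

section finiteLevel

variable (K Ω L : Type*) [Field K] [Field Ω] [Algebra K Ω] [CommRing L] [Algebra K L]

/-- the natural map `K₁ ⊗[K] L → Ω ⊗[K] L` for an intermediate field `K₁`. -/
noncomputable abbrev levelMap (K₁ : IntermediateField K Ω) : K₁ ⊗[K] L →ₐ[K] Ω ⊗[K] L :=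
  Algebra.TensorProduct.map K₁.val (AlgHom.id K L)

variable {K Ω L}

theorem range_levelMap_mono {K₁ K₂ : IntermediateField K Ω} (h : K₁ ≤ K₂) :
    Set.range (levelMap K Ω L K₁) ⊆ Set.range (levelMap K Ω L K₂) := by
  rintro _ ⟨y, rfl⟩
  refine ⟨Algebra.TensorProduct.map (IntermediateField.inclusion h) (AlgHom.id K L) y, ?_⟩
  induction y using TensorProduct.induction_on with
  | zero => simp
  | tmul a l => simp [levelMap]
  | add a b ha hb => simp only [map_add, ha, hb]

theorem exists_finite_level [Algebra.IsAlgebraic K Ω] (x : Ω ⊗[K] L) :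
    ∃ K₁ : IntermediateField K Ω, FiniteDimensional K K₁ ∧ x ∈ Set.range (levelMap K Ω L K₁) := by
  induction x using TensorProduct.induction_on with
  | zero => exact ⟨⊥, inferInstance, 0, map_zero _⟩
  | tmul ω l =>
    refine ⟨IntermediateField.adjoin K {ω},
      IntermediateField.adjoin.finiteDimensional (Algebra.IsIntegral.isIntegral ω),
      ⟨ω, IntermediateField.mem_adjoin_simple_self K ω⟩ ⊗ₜ l, ?_⟩
    simp [levelMap]
  | add a b ha hb =>
    obtain ⟨K₁, h1, ha⟩ := ha
    obtain ⟨K₂, h2, hb⟩ := hb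
    refine ⟨K₁ ⊔ K₂, IntermediateField.finiteDimensional_sup K₁ K₂, ?_⟩
    obtain ⟨a', rfl⟩ := range_levelMap_mono (L := L) (le_sup_left : K₁ ≤ K₁ ⊔ K₂) ha
    obtain ⟨b', rfl⟩ := range_levelMap_mono (L := L) (le_sup_right : K₂ ≤ K₁ ⊔ K₂) hb
    exact ⟨a' + b', map_add _ _ _⟩

theorem exists_finite_level_finset [Algebra.IsAlgebraic K Ω] (X : Finset (Ω ⊗[K] L)) :
    ∃ K₁ : IntermediateField K Ω, FiniteDimensional K K₁ ∧
      ∀ x ∈ X, x ∈ Set.range (levelMap K Ω L K₁) := by
  classical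
  induction X using Finset.induction_on with
  | empty => exact ⟨⊥, inferInstance, by simp⟩
  | insert a s _ ih =>
    obtain ⟨K₁, h1, hs⟩ := ih
    obtain ⟨K₂, h2, ha⟩ := exists_finite_level a
    refine ⟨K₁ ⊔ K₂, IntermediateField.finiteDimensional_sup K₁ K₂, fun x hx => ?_⟩
    rcases Finset.mem_insert.mp hx with rfl | hx
    · exact range_levelMap_mono (L := L) (le_sup_right : K₂ ≤ K₁ ⊔ K₂) ha
    · exact range_levelMap_mono (L := L) (le_sup_left : K₁ ≤ K₁ ⊔ K₂) (hs x hx)

end finiteLevel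

section domain

variable (K E Ω L : Type*) [Field K] [Field E] [Field Ω] [CommRing L] [Algebra K E] [Algebra K Ω]
  [Algebra E Ω] [IsScalarTower K E Ω] [Algebra K L]

/-- If the extension of the ideal `I₁ ⊆ E ⊗[K] L` to `Ω ⊗[K] L` is prime, then
`Ω ⊗[E] ((E ⊗[K] L) ⧸ I₁)` is a domain. -/
theorem isDomain_tensor_quotient (I₁ : Ideal (E ⊗[K] L))
    (hq : (I₁.map (Algebra.TensorProduct.map (IsScalarTower.toAlgHom K E Ω)
      (AlgHom.id K L))).IsPrime) :
    IsDomain (Ω ⊗[E] ((E ⊗[K] L) ⧸ I₁)) := by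
  let e1 := Algebra.TensorProduct.tensorQuotientEquiv (R := E) E (E ⊗[K] L) Ω I₁
  let G := Algebra.TensorProduct.cancelBaseChange K E E Ω L
  have hG : (G.toRingEquiv.toRingHom).comp
      (Algebra.TensorProduct.includeRight (R := E) (A := Ω) (B := E ⊗[K] L)).toRingHom =
      (Algebra.TensorProduct.map (IsScalarTower.toAlgHom K E Ω) (AlgHom.id K L)).toRingHom := by
    apply RingHom.ext
    intro x
    induction x using TensorProduct.induction_on with
    | zero => simp
    | tmul a l =>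
      simp [G, Algebra.smul_def]
    | add a b ha hb => simp only [map_add, ha, hb]
  have hJ : I₁.map (Algebra.TensorProduct.map (IsScalarTower.toAlgHom K E Ω) (AlgHom.id K L)) =
      (I₁.map (Algebra.TensorProduct.includeRight (R := E) (A := Ω) (B := E ⊗[K] L))).map
        (G : Ω ⊗[E] (E ⊗[K] L) ≃+* Ω ⊗[K] L) := by
    have h1 := Ideal.map_map (I := I₁)
      (Algebra.TensorProduct.includeRight (R := E) (A := Ω) (B := E ⊗[K] L)).toRingHom
      (G.toRingEquiv.toRingHom)
    rw [hG] at h1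
    exact h1.symm
  let e2 := Ideal.quotientEquiv _ _ (G : Ω ⊗[E] (E ⊗[K] L) ≃+* Ω ⊗[K] L) hJ
  haveI : IsDomain ((Ω ⊗[K] L) ⧸ I₁.map (Algebra.TensorProduct.map (IsScalarTower.toAlgHom K E Ω)
      (AlgHom.id K L))) := Ideal.Quotient.isDomain _
  exact MulEquiv.isDomain _ ((e1 : _ ≃+* _).trans e2).toMulEquiv

end domain

end Groth.Agent.Helper8.J2
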