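import Mathlib
import Groth.Agent.Lib.Helper8.J2a
import Groth.Agent.Lib.Helper8.J2d

/-! helper8: for a finitely generated field extension `L/K` there are a finite extension `K₁/K`
and a compositum `L₁` of `K₁` and `L` which is geometrically reduced (hence formally smooth)
over `K₁`. -/

set_option autoImplicit false
universe u

namespace Groth.Agent.Helper8.J2

open TensorProduct

section choose

variable (K L : Type u) [Field K] [Field L] [Algebra K L] [Algebra.EssFiniteType K L]

theorem exists_finite_level_prime :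
    ∃ (K₁ : IntermediateField K (AlgebraicClosure K)) (I₁ : Ideal (K₁ ⊗[K] L)),
      FiniteDimensional K K₁ ∧ (I₁.map (levelMap K (AlgebraicClosure K) L K₁)).IsPrime := by
  classical
  haveI : IsNoetherianRing (AlgebraicClosure K ⊗[K] L) :=
    Algebra.EssFiniteType.isNoetherianRing (AlgebraicClosure K) _
  haveI : Nontrivial (AlgebraicClosure K ⊗[K] L) :=
    (Algebra.TensorProduct.includeLeft_injective (S := K) (R := K) (A := AlgebraicClosure K)
      (B := L) (algebraMap K L).injective).nontrivial
  obtain ⟨𝔮, h𝔮⟩ := Ideal.exists_maximal (AlgebraicClosure K ⊗[K] L)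
  obtain ⟨X, hX⟩ := (IsNoetherian.noetherian 𝔮 : 𝔮.FG)
  obtain ⟨K₁, hfin, hK₁⟩ := exists_finite_level_finset X
  choose! y hy using hK₁
  refine ⟨K₁, Ideal.span (y '' (X : Set _)), hfin, ?_⟩
  have h1 : (Ideal.span (y '' (X : Set _))).map (levelMap K (AlgebraicClosure K) L K₁) = 𝔮 := by
    rw [Ideal.map_span, Set.image_image, ← hX]
    congr 1
    ext z
    constructor
    · rintro ⟨x, hx, rfl⟩
      change levelMap K (AlgebraicClosure K) L K₁ (y x) ∈ (X : Set _)
      rw [hy x hx]; exact hx
    · intro hz
      exact ⟨z, hz, hy z hz⟩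
  rw [h1]
  exact h𝔮.isPrime

/-- the same statement with an abstract field `E` instead of an intermediate field. -/
theorem exists_finite_level_prime' :
    ∃ (E : Type u) (_ : Field E) (_ : Algebra K E) (_ : Algebra E (AlgebraicClosure K))
      (_ : IsScalarTower K E (AlgebraicClosure K)) (_ : Module.Finite K E)
      (I₁ : Ideal (E ⊗[K] L)),
      (I₁.map (Algebra.TensorProduct.map (IsScalarTower.toAlgHom K E (AlgebraicClosure K))
        (AlgHom.id K L))).IsPrime := by
  obtain ⟨K₁, I₁, hfin, hq⟩ := exists_finite_level_prime K L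
  exact ⟨K₁, inferInstance, inferInstance, inferInstance, inferInstance, hfin, I₁, hq⟩

end choose

section props

variable (K E Ω L : Type u) [Field K] [Field E] [Field Ω] [Field L] [Algebra K E] [Algebra K Ω]
  [Algebra E Ω] [IsScalarTower K E Ω] [Algebra K L]
  (I₁ : Ideal (E ⊗[K] L))
  (hq : (I₁.map (Algebra.TensorProduct.map (IsScalarTower.toAlgHom K E Ω)
      (AlgHom.id K L))).IsPrime)

include hq

theorem isDomain_quotient : IsDomain ((E ⊗[K] L) ⧸ I₁) := by
  haveI := isDomain_tensor_quotient K E Ω L I₁ hq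
  exact (Algebra.TensorProduct.includeRight_injective (R := E) (A := Ω)
    (B := (E ⊗[K] L) ⧸ I₁) (algebraMap E Ω).injective).isDomain

theorem isField_quotient [Module.Finite K E] : IsField ((E ⊗[K] L) ⧸ I₁) := by
  haveI := isDomain_quotient K E Ω L I₁ hq
  let ρ : L →+* (E ⊗[K] L) ⧸ I₁ :=
    (Ideal.Quotient.mk I₁).comp
      (Algebra.TensorProduct.includeRight (R := K) (A := E) (B := L)).toRingHom
  letI : Algebra L ((E ⊗[K] L) ⧸ I₁) := ρ.toAlgebra
  haveI : Algebra.IsIntegral K E := Algebra.IsIntegral.of_finite K E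
  let σ : L ⊗[K] E →+* (E ⊗[K] L) ⧸ I₁ :=
    (Ideal.Quotient.mk I₁).comp (Algebra.TensorProduct.comm K L E).toAlgHom.toRingHom
  have h4 : ∀ t : E ⊗[K] L,
      (Algebra.TensorProduct.comm K L E) ((Algebra.TensorProduct.comm K E L) t) = t := by
    intro t
    induction t using TensorProduct.induction_on with
    | zero => simp
    | tmul a l => simp
    | add a b ha hb => simp only [map_add, ha, hb]
  haveI : Algebra.IsIntegral L ((E ⊗[K] L) ⧸ I₁) := by
    refine ⟨fun z => ?_⟩
    obtain ⟨t, rfl⟩ := Ideal.Quotient.mk_surjective z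
    have h1 : IsIntegral L (Algebra.TensorProduct.comm K E L t) :=
      Algebra.IsIntegral.isIntegral _
    have h2 := IsIntegral.map_of_comp_eq (RingHom.id L) σ (by
      apply RingHom.ext
      intro l
      simp [σ, RingHom.algebraMap_toAlgebra, ρ]) h1
    have h3 : σ (Algebra.TensorProduct.comm K E L t) = Ideal.Quotient.mk I₁ t := by
      simp [σ, h4 t]
    rwa [h3] at h2
  exact isField_of_isIntegral_of_isField' (Field.toIsField L)

theorem isGeometricallyReduced_quotient [IsAlgClosed Ω] [Algebra.IsAlgebraic E Ω] :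
    Algebra.IsGeometricallyReduced E ((E ⊗[K] L) ⧸ I₁) := by
  haveI := isDomain_tensor_quotient K E Ω L I₁ hq
  rw [Algebra.isGeometricallyReduced_field_iff]
  haveI : IsAlgClosure E Ω := ⟨inferInstance, inferInstance⟩
  let e : AlgebraicClosure E ≃ₐ[E] Ω := IsAlgClosure.equiv E _ _
  exact isReduced_of_injective _
    (Algebra.TensorProduct.congr e (AlgEquiv.refl (R := E)
      (A₁ := (E ⊗[K] L) ⧸ I₁))).injective

end props

end Groth.Agent.Helper8.J2
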