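import Mathlib

/-! helper8: a finite extension of the fraction field of a domain `A` is the fraction field of a
finite `A`-subalgebra. -/

set_option autoImplicit false
universe u

namespace Groth.Agent.Helper8.J2

theorem exists_finite_subalgebra_isFractionRing (A K E : Type*) [CommRing A] [IsDomain A]
    [Field K] [Algebra A K] [IsFractionRing A K] [Field E] [Algebra K E] [Module.Finite K E]
    [Algebra A E] [IsScalarTower A K E] :
    ∃ A₁ : Subalgebra A E, Module.Finite A A₁ ∧ IsFractionRing A₁ E := by
  classical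
  obtain ⟨s, b, hb⟩ := FiniteDimensional.exists_is_basis_integral A K E
  let A₁ : Subalgebra A E := Algebra.adjoin A (Set.range b)
  have hfg : (A₁.toSubmodule).FG := fg_adjoin_of_finite (Set.finite_range b) (by
    rintro _ ⟨x, rfl⟩
    exact hb x)
  have hfin : Module.Finite A A₁ := ⟨(Submodule.fg_top _).mpr hfg⟩
  refine ⟨A₁, hfin, ?_⟩
  haveI : FaithfulSMul A₁ E :=
    (faithfulSMul_iff_algebraMap_injective A₁ E).mpr Subtype.val_injective
  have hinj : Function.Injective (algebraMap A E) := by
    rw [IsScalarTower.algebraMap_eq A K E]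
    exact (algebraMap K E).injective.comp (IsFractionRing.injective A K)
  have key : ∀ z : E, ∃ (a : A) (x : A₁), a ≠ 0 ∧ algebraMap A E a * z = (x : E) := by
    intro z
    have hz : z ∈ Submodule.span K (Set.range b) := by
      rw [b.span_eq]
      exact Submodule.mem_top
    induction hz using Submodule.span_induction with
    | mem z hz =>
      exact ⟨1, ⟨z, Algebra.subset_adjoin hz⟩, one_ne_zero, by simp⟩
    | zero => exact ⟨1, 0, one_ne_zero, by simp⟩
    | add z z' _ _ hz hz' =>
      obtain ⟨a, x, ha, hx⟩ := hz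
      obtain ⟨a', x', ha', hx'⟩ := hz'
      refine ⟨a * a', a' • x + a • x', mul_ne_zero ha ha', ?_⟩
      rw [Subalgebra.coe_add, Subalgebra.coe_smul, Subalgebra.coe_smul, ← hx, ← hx',
        Algebra.smul_def, Algebra.smul_def, map_mul]
      ring
    | smul c z _ hz =>
      obtain ⟨a, x, ha, hx⟩ := hz
      obtain ⟨r, t, ht, rfl⟩ := IsFractionRing.div_surjective (A := A) c
      have ht0 : t ≠ 0 := nonZeroDivisors.ne_zero ht
      refine ⟨t * a, r • x, mul_ne_zero ht0 ha, ?_⟩
      have ht1 : algebraMap A K t ≠ 0 :=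
        (map_ne_zero_iff _ (IsFractionRing.injective A K)).mpr ht0
      have ht2 : algebraMap K E (algebraMap A K t) ≠ 0 :=
        (map_ne_zero_iff _ (algebraMap K E).injective).mpr ht1
      rw [Subalgebra.coe_smul, ← hx, Algebra.smul_def, Algebra.smul_def, map_mul,
        IsScalarTower.algebraMap_apply A K E t, IsScalarTower.algebraMap_apply A K E r, map_div₀]
      field_simp
  refine IsFractionRing.of_field (R := A₁) E (fun z => ?_)
  obtain ⟨a, x, ha, hx⟩ := key z
  refine ⟨x, algebraMap A A₁ a, ?_⟩
  have h1 : algebraMap A₁ E (algebraMap A A₁ a) = algebraMap A E a :=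
    (IsScalarTower.algebraMap_apply A A₁ E a).symm
  have h2 : algebraMap A₁ E x = (x : E) := rfl
  rw [h1, h2, ← hx, mul_div_cancel_left₀ _ ((map_ne_zero_iff _ hinj).mpr ha)]

end Groth.Agent.Helper8.J2
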