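import Mathlib
import Groth.Prelude
import Groth.Agent.Lib.Helper8.J2b
import Groth.Agent.Lib.Helper8.FlatReg9

/-! helper8: `J-0` descends along finite injective maps of domains. -/

set_option autoImplicit false
universe u

namespace Groth.Agent.Helper8.J2

open TensorProduct

/-- Generic freeness for finite modules, in ring form. -/
theorem exists_free_away (B B₁ : Type u) [CommRing B] [IsDomain B] [IsNoetherianRing B]
    [CommRing B₁] [Algebra B B₁] [Module.Finite B B₁] :
    ∃ r : B, r ≠ 0 ∧ Module.Free (Localization.Away r)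
      (Localization (Algebra.algebraMapSubmonoid B₁ (Submonoid.powers r))) := by
  haveI : Module.FinitePresentation B B₁ := Module.finitePresentation_of_finite B B₁
  haveI : Module.Free (FractionRing B) (LocalizedModule (nonZeroDivisors B) B₁) :=
    Module.Free.of_divisionRing _ _
  obtain ⟨r, hr, hfree, -⟩ := Module.FinitePresentation.exists_free_localizedModule_powers
    (nonZeroDivisors B) (LocalizedModule.mkLinearMap (nonZeroDivisors B) B₁) (FractionRing B)
  refine ⟨r, nonZeroDivisors.ne_zero hr, ?_⟩
  let S := Localization (Algebra.algebraMapSubmonoid B₁ (Submonoid.powers r))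
  haveI : IsLocalizedModule (Submonoid.powers r) (IsScalarTower.toAlgHom B B₁ S).toLinearMap :=
    isLocalizedModule_iff_isLocalization.mpr inferInstance
  let e : LocalizedModule (Submonoid.powers r) B₁ ≃ₗ[B] S :=
    IsLocalizedModule.iso (Submonoid.powers r) (IsScalarTower.toAlgHom B B₁ S).toLinearMap
  let e' : LocalizedModule (Submonoid.powers r) B₁ ≃ₗ[Localization.Away r] S :=
    e.extendScalarsOfIsLocalization (Submonoid.powers r) (Localization.Away r)
  exact Module.Free.of_equiv e'

/-- `J-0` descends along finite injective maps of domains. -/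
theorem j0_of_finite_injective (B B₁ : Type u) [CommRing B] [IsDomain B] [IsNoetherianRing B]
    [CommRing B₁] [IsDomain B₁] [Algebra B B₁] [Module.Finite B B₁]
    (hinj : Function.Injective (algebraMap B B₁)) (h : J0 B₁) : J0 B := by
  obtain ⟨U₁, hU₁, hne₁, hreg₁⟩ := h
  obtain ⟨r, hr, hfree⟩ := exists_free_away B B₁
  haveI : Algebra.IsIntegral B B₁ := Algebra.IsIntegral.of_finite B B₁
  haveI : IsNoetherianRing B₁ := IsNoetherianRing.of_finite B B₁
  have hclosed : IsClosed (PrimeSpectrum.comap (algebraMap B B₁) '' U₁ᶜ) :=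
    PrimeSpectrum.isClosedMap_comap_of_isIntegral _ (algebraMap_isIntegral_iff.mpr inferInstance) _
      hU₁.isClosed_compl
  refine ⟨(PrimeSpectrum.comap (algebraMap B B₁) '' U₁ᶜ)ᶜ ∩
    (PrimeSpectrum.basicOpen r : Set (PrimeSpectrum B)),
    hclosed.isOpen_compl.inter (PrimeSpectrum.basicOpen r).isOpen,
    ⟨⟨⊥, Ideal.isPrime_bot⟩, ?_, ?_⟩, ?_⟩
  · rintro ⟨Q, hQ, hQbot⟩
    have h1 : Q.asIdeal = ⊥ :=
      Ideal.eq_bot_of_comap_eq_bot (R := B) (congrArg PrimeSpectrum.asIdeal hQbot)
    have h2 : Q = ⟨⊥, Ideal.isPrime_bot⟩ := PrimeSpectrum.ext h1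
    exact hQ (h2 ▸ bot_mem_of_isOpen_of_nonempty hU₁ hne₁)
  · exact hr
  · rintro q ⟨hq1, hq2⟩
    have hrange : q ∈ Set.range (PrimeSpectrum.comap (algebraMap B (Localization.Away r))) := by
      rw [PrimeSpectrum.localization_away_comap_range (Localization.Away r) r]
      exact hq2
    obtain ⟨q', rfl⟩ := hrange
    have hle : Algebra.algebraMapSubmonoid B₁ (Submonoid.powers r) ≤ nonZeroDivisors B₁ := by
      rintro _ ⟨x, ⟨n, rfl⟩, rfl⟩
      rw [map_pow]
      exact pow_mem (mem_nonZeroDivisors_of_ne_zero
        ((map_ne_zero_iff _ hinj).mpr hr)) n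
    haveI : IsDomain (Localization (Algebra.algebraMapSubmonoid B₁ (Submonoid.powers r))) :=
      IsLocalization.isDomain_localization hle
    haveI : Module.FaithfullyFlat (Localization.Away r)
        (Localization (Algebra.algebraMapSubmonoid B₁ (Submonoid.powers r))) := inferInstance
    obtain ⟨Q', hQ'⟩ := PrimeSpectrum.comap_surjective_of_faithfullyFlat
      (A := Localization.Away r)
      (B := Localization (Algebra.algebraMapSubmonoid B₁ (Submonoid.powers r))) q'
    have hcomm : PrimeSpectrum.comap (algebraMap B B₁)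
        (PrimeSpectrum.comap (algebraMap B₁
          (Localization (Algebra.algebraMapSubmonoid B₁ (Submonoid.powers r)))) Q') =
        PrimeSpectrum.comap (algebraMap B (Localization.Away r)) q' := by
      rw [← hQ']
      apply PrimeSpectrum.ext
      change Ideal.comap (algebraMap B B₁) (Ideal.comap (algebraMap B₁ _) Q'.asIdeal) =
        Ideal.comap (algebraMap B (Localization.Away r)) (Ideal.comap (algebraMap _ _) Q'.asIdeal)
      rw [Ideal.comap_comap, Ideal.comap_comap, ← IsScalarTower.algebraMap_eq,
        ← IsScalarTower.algebraMap_eq]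
    have hQU : PrimeSpectrum.comap (algebraMap B₁
        (Localization (Algebra.algebraMapSubmonoid B₁ (Submonoid.powers r)))) Q' ∈ U₁ := by
      by_contra hcon
      exact hq1 ⟨_, hcon, hcomm⟩
    have hQ'reg : Q' ∈ EGA4.regLocus
        (Localization (Algebra.algebraMapSubmonoid B₁ (Submonoid.powers r))) := by
      rw [Groth.Agent.Helper8.Exc.regLocus_of_isLocalization (R := B₁)
        (Algebra.algebraMapSubmonoid B₁ (Submonoid.powers r))]
      exact hreg₁ hQU
    have hq'reg : q' ∈ EGA4.regLocus (Localization.Away r) := by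
      rw [← hQ']
      haveI : Q'.asIdeal.LiesOver (PrimeSpectrum.comap (algebraMap (Localization.Away r)
          (Localization (Algebra.algebraMapSubmonoid B₁ (Submonoid.powers r)))) Q').asIdeal :=
        ⟨rfl⟩
      haveI : IsNoetherianRing (Localization.Away r) :=
        IsLocalization.isNoetherianRing (Submonoid.powers r) _ inferInstance
      exact Groth.Agent.Helper8.FlatReg.isRegularLocalRing_of_flat_liesOver (Localization.Away r)
        (Localization (Algebra.algebraMapSubmonoid B₁ (Submonoid.powers r))) _ Q'.asIdeal hQ'reg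
    rw [Groth.Agent.Helper8.Exc.regLocus_of_isLocalization (R := B) (Submonoid.powers r)] at hq'reg
    exact hq'reg

end Groth.Agent.Helper8.J2
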