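import Mathlib
import Groth.Prelude
import Groth.Agent.Lib.Helper8.J2b
import Groth.Agent.Lib.Helper8.J2c

/-! helper8: the abstract assembly step for the `J-2` criterion. -/

set_option autoImplicit false
universe u

namespace Groth.Agent.Helper8.J2

open TensorProduct

section assembly

variable (A B A₁ L₁ : Type u) [CommRing A] [IsDomain A] [IsNoetherianRing A]
  [CommRing B] [IsDomain B] [Algebra A B] [Algebra.FiniteType A B]
  [CommRing A₁] [IsDomain A₁] [Algebra A A₁] [Module.Finite A A₁]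
  [Field L₁] [Algebra A₁ L₁] [Algebra B L₁] [Algebra A L₁] [IsScalarTower A A₁ L₁]
  [IsScalarTower A B L₁]

/-- the multiplication map `A₁ ⊗[A] B → L₁`. -/
noncomputable abbrev mulMap : A₁ ⊗[A] B →ₐ[A₁] L₁ :=
  Algebra.TensorProduct.lift (Algebra.ofId A₁ L₁) (IsScalarTower.toAlgHom A B L₁)
    (fun _ _ => Commute.all _ _)

theorem j0_of_compositum
    (hA₁ : Function.Injective (algebraMap A₁ L₁)) (hB : Function.Injective (algebraMap B L₁))
    [Algebra.FormallySmooth A₁ L₁]
    (hgen : ∀ z : L₁, ∃ x y : A₁ ⊗[A] B, mulMap A B A₁ L₁ y ≠ 0 ∧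
      z * mulMap A B A₁ L₁ y = mulMap A B A₁ L₁ x)
    (hJ : J0 A₁) : J0 B := by
  haveI : IsNoetherianRing A₁ := IsNoetherianRing.of_finite A A₁
  haveI : IsNoetherianRing B := Algebra.FiniteType.isNoetherianRing A B
  let μ := mulMap A B A₁ L₁
  let B₁ := (A₁ ⊗[A] B) ⧸ RingHom.ker μ
  let ν : B₁ →ₐ[A₁] L₁ := Ideal.kerLiftAlg μ
  have hν : Function.Injective ν := Ideal.kerLiftAlg_injective μ
  haveI : IsDomain B₁ := Function.Injective.isDomain ν.toRingHom hν
  letI : Algebra B₁ L₁ := ν.toRingHom.toAlgebra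
  haveI : IsScalarTower A₁ B₁ L₁ := IsScalarTower.of_algebraMap_eq (fun a => (ν.commutes a).symm)
  haveI : FaithfulSMul B₁ L₁ := (faithfulSMul_iff_algebraMap_injective B₁ L₁).mpr hν
  haveI : Algebra.FiniteType A₁ B₁ :=
    Algebra.FiniteType.of_surjective (Ideal.Quotient.mkₐ A₁ (RingHom.ker μ))
      (Ideal.Quotient.mkₐ_surjective A₁ _)
  have hνmk : ∀ t : A₁ ⊗[A] B, ν (Ideal.Quotient.mk _ t) = μ t := fun t => rfl
  haveI : IsFractionRing B₁ L₁ := by
    refine IsFractionRing.of_field (R := B₁) L₁ (fun z => ?_)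
    obtain ⟨x, y, hy, hxy⟩ := hgen z
    refine ⟨Ideal.Quotient.mk _ x, Ideal.Quotient.mk _ y, ?_⟩
    change z = ν (Ideal.Quotient.mk _ x) / ν (Ideal.Quotient.mk _ y)
    rw [hνmk, hνmk, eq_div_iff hy]
    exact hxy
  have hinj₁ : Function.Injective (algebraMap A₁ B₁) := by
    intro a a' h
    apply hA₁
    rw [IsScalarTower.algebraMap_apply A₁ B₁ L₁, IsScalarTower.algebraMap_apply A₁ B₁ L₁, h]
  have hJ₁ : J0 B₁ := j0_of_formallySmooth_fractionRing A₁ B₁ hinj₁ L₁ hJ
  -- now descend to `B`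
  letI : Algebra B B₁ := ((Ideal.Quotient.mk (RingHom.ker μ)).comp
    (Algebra.TensorProduct.includeRight (R := A) (A := A₁) (B := B)).toRingHom).toAlgebra
  let φ : B ⊗[A] A₁ →ₐ[B] B₁ :=
    { toRingHom := (Ideal.Quotient.mk (RingHom.ker μ)).comp
        (Algebra.TensorProduct.comm A B A₁).toAlgHom.toRingHom
      commutes' := fun b => by
        simp [RingHom.algebraMap_toAlgebra] }
  have hφ : Function.Surjective φ := by
    intro z
    obtain ⟨t, rfl⟩ := Ideal.Quotient.mk_surjective z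
    exact ⟨(Algebra.TensorProduct.comm A B A₁).symm t, by simp [φ]⟩
  haveI : Module.Finite B B₁ := Module.Finite.of_surjective φ.toLinearMap hφ
  have hinjB : Function.Injective (algebraMap B B₁) := by
    intro b b' h
    apply hB
    have h1 : ∀ c : B, ν (algebraMap B B₁ c) = algebraMap B L₁ c := by
      intro c
      change ν (Ideal.Quotient.mk _ ((1 : A₁) ⊗ₜ[A] c)) = _
      rw [hνmk]
      simp [μ, mulMap]
    rw [← h1, ← h1, h]
  exact j0_of_finite_injective B B₁ hinjB hJ₁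

end assembly

end Groth.Agent.Helper8.J2
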