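import Mathlib
import Groth.Prelude
import Groth.Agent.Lib.Helper8.J2e
import Groth.Agent.Lib.Helper8.J2f
import Groth.Agent.Lib.Helper8.J2g

/-! helper8: the key step of the `J-2` criterion: if all finite domains over `A` are `J-0` then
all domains of finite type over `A` are `J-0`. -/

set_option autoImplicit false
universe u

namespace Groth.Agent.Helper8.J2

open TensorProduct

section

set_option maxHeartbeats 1000000 in
theorem j0_of_finiteType_aux (A : Type u) [CommRing A] [IsDomain A] [IsNoetherianRing A]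
    (B : Type u) [CommRing B] [IsDomain B] [Algebra A B] [Algebra.FiniteType A B]
    (K L : Type u) [Field K] [Field L] [Algebra A K] [IsFractionRing A K] [Algebra B L]
    [IsFractionRing B L] [Algebra K L] [Algebra A L] [IsScalarTower A K L] [IsScalarTower A B L]
    (H : ∀ (A' : Type u) [CommRing A'] [IsDomain A'] [Algebra A A'], Module.Finite A A' → J0 A') :
    J0 B := by
  haveI : Algebra.EssFiniteType B L := Algebra.EssFiniteType.of_isLocalization L (nonZeroDivisors B)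
  haveI : Algebra.EssFiniteType A L := Algebra.EssFiniteType.comp A B L
  haveI : Algebra.EssFiniteType K L := Algebra.EssFiniteType.of_comp A K L
  obtain ⟨E, _, _, _, _, _, I₁, hq⟩ := exists_finite_level_prime' K L
  haveI : Algebra.IsAlgebraic E (AlgebraicClosure K) := Algebra.IsAlgebraic.tower_top (K := K) E
  letI : Field ((E ⊗[K] L) ⧸ I₁) :=
    (isField_quotient K E (AlgebraicClosure K) L I₁ hq).toField
  haveI : Algebra.IsGeometricallyReduced E ((E ⊗[K] L) ⧸ I₁) :=
    isGeometricallyReduced_quotient K E (AlgebraicClosure K) L I₁ hq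
  haveI : Algebra.FormallySmooth E ((E ⊗[K] L) ⧸ I₁) :=
    formallySmooth_of_isGeometricallyReduced E _
  letI : Algebra A E := ((algebraMap K E).comp (algebraMap A K)).toAlgebra
  haveI : IsScalarTower A K E := IsScalarTower.of_algebraMap_eq (fun _ => rfl)
  obtain ⟨A₁, hA₁fin, hA₁frac⟩ := exists_finite_subalgebra_isFractionRing A K E
  let ρ : L →+* (E ⊗[K] L) ⧸ I₁ := (Ideal.Quotient.mk I₁).comp
    (Algebra.TensorProduct.includeRight (R := K) (A := E) (B := L)).toRingHom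
  letI : Algebra B ((E ⊗[K] L) ⧸ I₁) := (ρ.comp (algebraMap B L)).toAlgebra
  have hmkE : ∀ e : E, algebraMap E ((E ⊗[K] L) ⧸ I₁) e = Ideal.Quotient.mk I₁ (e ⊗ₜ[K] (1 : L)) :=
    fun e => rfl
  have hmkA : ∀ a : A, algebraMap A ((E ⊗[K] L) ⧸ I₁) a =
      Ideal.Quotient.mk I₁ ((algebraMap A E a) ⊗ₜ[K] (1 : L)) :=
    fun a => rfl
  have hmkA₁ : ∀ a : A₁, algebraMap A₁ ((E ⊗[K] L) ⧸ I₁) a =
      Ideal.Quotient.mk I₁ ((algebraMap A₁ E a) ⊗ₜ[K] (1 : L)) :=
    fun a => rfl
  have hmkB : ∀ b : B, algebraMap B ((E ⊗[K] L) ⧸ I₁) b =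
      Ideal.Quotient.mk I₁ ((1 : E) ⊗ₜ[K] (algebraMap B L b)) :=
    fun b => rfl
  haveI : IsScalarTower A B ((E ⊗[K] L) ⧸ I₁) := IsScalarTower.of_algebraMap_eq (fun a => by
    rw [hmkA, hmkB, ← IsScalarTower.algebraMap_apply A B L,
      IsScalarTower.algebraMap_apply A K E, IsScalarTower.algebraMap_apply A K L,
      Algebra.algebraMap_eq_smul_one, Algebra.algebraMap_eq_smul_one (A := L), smul_tmul])
  have hinjE : Function.Injective (algebraMap E ((E ⊗[K] L) ⧸ I₁)) :=
    (algebraMap E ((E ⊗[K] L) ⧸ I₁)).injective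
  have hA₁ : Function.Injective (algebraMap A₁ ((E ⊗[K] L) ⧸ I₁)) := by
    rw [IsScalarTower.algebraMap_eq A₁ E]
    exact hinjE.comp Subtype.val_injective
  have hB : Function.Injective (algebraMap B ((E ⊗[K] L) ⧸ I₁)) := by
    change Function.Injective (ρ.comp (algebraMap B L))
    exact ρ.injective.comp (IsFractionRing.injective B L)
  haveI : Algebra.FormallyEtale A₁ E := Algebra.FormallyEtale.of_isLocalization (nonZeroDivisors A₁)
  haveI : Algebra.FormallySmooth A₁ ((E ⊗[K] L) ⧸ I₁) :=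
    Algebra.FormallySmooth.comp A₁ E ((E ⊗[K] L) ⧸ I₁)
  have hμ : ∀ (a : A₁) (b : B), mulMap A B A₁ ((E ⊗[K] L) ⧸ I₁) (a ⊗ₜ[A] b) =
      algebraMap A₁ _ a * algebraMap B _ b := by
    intro a b
    simp [mulMap]
  have hgen : ∀ z : (E ⊗[K] L) ⧸ I₁, ∃ x y : A₁ ⊗[A] B,
      mulMap A B A₁ ((E ⊗[K] L) ⧸ I₁) y ≠ 0 ∧
      z * mulMap A B A₁ ((E ⊗[K] L) ⧸ I₁) y = mulMap A B A₁ ((E ⊗[K] L) ⧸ I₁) x := by
    intro z
    obtain ⟨t, rfl⟩ := Ideal.Quotient.mk_surjective z
    induction t using TensorProduct.induction_on with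
    | zero => exact ⟨0, 1, by simp, by simp⟩
    | tmul e l =>
      obtain ⟨a, s, hs, rfl⟩ := IsFractionRing.div_surjective (A := A₁) e
      obtain ⟨b, c, hc, rfl⟩ := IsFractionRing.div_surjective (A := B) l
      have hs0 : algebraMap A₁ ((E ⊗[K] L) ⧸ I₁) s ≠ 0 :=
        (map_ne_zero_iff _ hA₁).mpr (nonZeroDivisors.ne_zero hs)
      have hc0 : algebraMap B ((E ⊗[K] L) ⧸ I₁) c ≠ 0 :=
        (map_ne_zero_iff _ hB).mpr (nonZeroDivisors.ne_zero hc)
      refine ⟨a ⊗ₜ b, s ⊗ₜ c, ?_, ?_⟩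
      · rw [hμ]
        exact mul_ne_zero hs0 hc0
      · have h1 : Ideal.Quotient.mk I₁ ((algebraMap A₁ E a / algebraMap A₁ E s) ⊗ₜ[K]
            (algebraMap B L b / algebraMap B L c)) =
            (algebraMap A₁ ((E ⊗[K] L) ⧸ I₁) a / algebraMap A₁ ((E ⊗[K] L) ⧸ I₁) s) *
            (algebraMap B ((E ⊗[K] L) ⧸ I₁) b / algebraMap B ((E ⊗[K] L) ⧸ I₁) c) := by
          have h2 : (algebraMap A₁ E a / algebraMap A₁ E s) ⊗ₜ[K]
              (algebraMap B L b / algebraMap B L c) =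
              ((algebraMap A₁ E a / algebraMap A₁ E s) ⊗ₜ[K] (1 : L)) *
              ((1 : E) ⊗ₜ[K] (algebraMap B L b / algebraMap B L c)) := by
            rw [Algebra.TensorProduct.tmul_mul_tmul, mul_one, one_mul]
          rw [h2, map_mul, ← hmkE, map_div₀, IsScalarTower.algebraMap_apply A₁ E,
            IsScalarTower.algebraMap_apply A₁ E ((E ⊗[K] L) ⧸ I₁) s]
          congr 1
          change ρ (algebraMap B L b / algebraMap B L c) = ρ (algebraMap B L b) / ρ (algebraMap B L c)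
          rw [map_div₀]
        rw [h1, hμ, hμ]
        field_simp
    | add t t' ht ht' =>
      obtain ⟨x, y, hy, h⟩ := ht
      obtain ⟨x', y', hy', h'⟩ := ht'
      refine ⟨x * y' + x' * y, y * y', by rw [map_mul]; exact mul_ne_zero hy hy', ?_⟩
      rw [map_add, map_mul, map_add, map_mul, map_mul, ← h, ← h']
      ring
  exact j0_of_compositum A B A₁ ((E ⊗[K] L) ⧸ I₁) hA₁ hB hgen (H A₁ hA₁fin)

end

end Groth.Agent.Helper8.J2
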