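import Mathlib
import Groth.Prelude
import Groth.Agent.Lib.Helper8.J2h
import Groth.Agent.S4700

/-! helper8: the `J-2` criterion (EGA IV 6.12.4 / Matsumura 32.B). -/

set_option autoImplicit false
universe u

namespace Groth.Agent.Helper8.J2

open TensorProduct

/-- Key step with the canonical fraction fields. -/
theorem j0_of_finiteType_of_injective (A : Type u) [CommRing A] [IsDomain A] [IsNoetherianRing A]
    (H : ∀ (A' : Type u) [CommRing A'] [IsDomain A'] [Algebra A A'], Module.Finite A A' → J0 A')
    (B : Type u) [CommRing B] [IsDomain B] [Algebra A B] [Algebra.FiniteType A B]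
    (hinj : Function.Injective (algebraMap A B)) : J0 B := by
  haveI : FaithfulSMul A (FractionRing B) :=
    (faithfulSMul_iff_algebraMap_injective A (FractionRing B)).mpr (by
      rw [IsScalarTower.algebraMap_eq A B (FractionRing B)]
      exact (IsFractionRing.injective B (FractionRing B)).comp hinj)
  letI : Algebra (FractionRing A) (FractionRing B) := FractionRing.liftAlgebra A (FractionRing B)
  haveI : IsScalarTower A (FractionRing A) (FractionRing B) :=
    FractionRing.isScalarTower_liftAlgebra A (FractionRing B)
  exact j0_of_finiteType_aux A B (FractionRing A) (FractionRing B) H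

/-- the generic point of a domain is a regular point. -/
theorem bot_mem_regLocus (A : Type u) [CommRing A] [IsDomain A] :
    (⟨⊥, Ideal.isPrime_bot⟩ : PrimeSpectrum A) ∈ EGA4.regLocus A := by
  change IsRegularLocalRing (Localization.AtPrime (⊥ : Ideal A))
  let _ : Field (Localization.AtPrime (⊥ : Ideal A)) := IsField.toField <| by
    simp [IsLocalRing.isField_iff_maximalIdeal_eq, ← Localization.AtPrime.map_eq_maximalIdeal]
  infer_instance

/-- **The `J-2` criterion.** -/
theorem isJ2_iff (A : Type u) [CommRing A] [IsNoetherianRing A] :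
    EGA4.IsJ2 A ↔
      ∀ (A' : Type u) [CommRing A'] [IsDomain A'] [Algebra A A'], Module.Finite A A' → J0 A' := by
  constructor
  · intro h A' _ _ _ hfin
    haveI := hfin
    exact ⟨EGA4.regLocus A', h A' inferInstance, ⟨_, bot_mem_regLocus A'⟩, subset_rfl⟩
  · intro H S _ _ hS
    haveI := hS
    haveI : IsNoetherianRing S := Algebra.FiniteType.isNoetherianRing A S
    apply Groth.Agent.S4700.result S
    intro p _
    haveI := p.2
    -- the domain `S ⧸ p` over the domain `A ⧸ (p ∩ A)`
    set 𝔭 := p.asIdeal.comap (algebraMap A S) with h𝔭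
    haveI : 𝔭.IsPrime := Ideal.IsPrime.comap _
    have hinj : Function.Injective (algebraMap (A ⧸ 𝔭) (S ⧸ p.asIdeal)) :=
      Ideal.algebraMap_quotient_injective
    haveI : Algebra.FiniteType (A ⧸ 𝔭) (S ⧸ p.asIdeal) :=
      Algebra.FiniteType.of_restrictScalars_finiteType A _ _
    refine j0_of_finiteType_of_injective (A ⧸ 𝔭) ?_ (S ⧸ p.asIdeal) hinj
    intro A' _ _ _ hfin
    letI : Algebra A A' := ((algebraMap (A ⧸ 𝔭) A').comp (algebraMap A (A ⧸ 𝔭))).toAlgebra
    haveI : IsScalarTower A (A ⧸ 𝔭) A' := IsScalarTower.of_algebraMap_eq (fun _ => rfl)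
    haveI : Module.Finite A A' := Module.Finite.trans (A ⧸ 𝔭) A'
    exact H A' inferInstance

end Groth.Agent.Helper8.J2
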