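import Mathlib
import Groth.Prelude
import Groth.Agent.Lib.Helper8.J2i
import Groth.Agent.Lib.Helper8.Nag11
import Groth.Agent.Lib.Helper8.Nag2
import Groth.Agent.Lib.Helper8.Tate2

/-! helper8: consequences of the `J-2` criterion in dimension at most one. -/

set_option autoImplicit false
universe u

namespace Groth.Agent.Helper8.J2

open TensorProduct

/-- A domain integral over a ring of dimension at most one has dimension at most one. -/
theorem dimensionLEOne_of_isIntegral (R A' : Type*) [CommRing R] [CommRing A'] [IsDomain A']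
    [Algebra R A'] [Algebra.IsIntegral R A'] [Ring.KrullDimLE 1 R] : Ring.DimensionLEOne A' := by
  refine ⟨fun {Q} hQ0 hQ => ?_⟩
  haveI := hQ
  obtain ⟨x, hxQ, hx0⟩ := Submodule.exists_mem_ne_zero_of_ne_bot hQ0
  have hlt : (⊥ : Ideal A').comap (algebraMap R A') < Q.comap (algebraMap R A') :=
    Ideal.comap_lt_comap_of_integral_mem_sdiff (I := ⊥) bot_le ⟨hxQ, fun h => hx0 (by simpa using h)⟩
      (Algebra.IsIntegral.isIntegral x)
  haveI : (Q.comap (algebraMap R A')).IsPrime := Ideal.IsPrime.comap _
  haveI : ((⊥ : Ideal A').comap (algebraMap R A')).IsPrime := Ideal.IsPrime.comap _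
  rcases Ring.krullDimLE_one_iff.mp ‹Ring.KrullDimLE 1 R› _ ‹(Q.comap (algebraMap R A')).IsPrime›
    with hmin | hmax
  · exact absurd (hmin.2 ⟨inferInstance, bot_le⟩ hlt.le) (not_le_of_gt hlt)
  · exact Ideal.isMaximal_of_isIntegral_of_isMaximal_comap Q hmax

/-- A regular ring is `J-0` (when nontrivial). -/
theorem j0_of_isRegularRing (C : Type u) [CommRing C] [Nontrivial C] [IsRegularRing C] : J0 C := by
  refine ⟨Set.univ, isOpen_univ, ?_, fun p _ => ?_⟩
  · obtain ⟨m, hm⟩ := Ideal.exists_maximal C
    exact ⟨⟨m, hm.isPrime⟩, trivial⟩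
  · exact IsRegularRing.isRegularLocalRing_localization p.asIdeal

/-- Finite domains over a Nagata ring of dimension at most one are `J-0`. -/
theorem j0_of_isNagata_of_krullDimLE_one (R : Type u) [CommRing R] (hR : CAlg.IsNagata R)
    [Ring.KrullDimLE 1 R] (A' : Type u) [CommRing A'] [IsDomain A'] [Algebra R A']
    [Module.Finite R A'] : J0 A' := by
  haveI := hR.1
  haveI : IsNoetherianRing A' := IsNoetherianRing.of_finite R A'
  have hA' : CAlg.IsNagata A' := Groth.Agent.Helper8.Nag.isNagata_of_finite R A' hR
  have hN2 : CAlg.IsN2 A' :=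
    Groth.Agent.Helper8.Tate.isN2_of_ringEquiv (RingEquiv.quotientBot A') (hA'.2 ⊥)
  have hN1 : Module.Finite A' (integralClosure A' (FractionRing A')) :=
    Groth.Agent.Helper8.Nag.isN1_of_isN2 A' hN2
  haveI := hN1
  haveI : IsNoetherianRing (integralClosure A' (FractionRing A')) := IsNoetherianRing.of_finite A' _
  haveI : Algebra.IsIntegral R A' := Algebra.IsIntegral.of_finite R A'
  haveI : Algebra.IsIntegral R (integralClosure A' (FractionRing A')) :=
    Algebra.IsIntegral.trans A'
  haveI : Ring.DimensionLEOne (integralClosure A' (FractionRing A')) :=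
    dimensionLEOne_of_isIntegral R _
  haveI : IsIntegrallyClosed (integralClosure A' (FractionRing A')) :=
    integralClosure.isIntegrallyClosedOfFiniteExtension (FractionRing A')
  haveI : IsDedekindDomain (integralClosure A' (FractionRing A')) :=
    { toIsDomain := inferInstance
      toIsDedekindRing := { } }
  have hC : J0 (integralClosure A' (FractionRing A')) := j0_of_isRegularRing _
  refine j0_of_finite_injective A' (integralClosure A' (FractionRing A')) ?_ hC
  intro a b hab
  apply IsFractionRing.injective A' (FractionRing A')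
  have := congrArg (algebraMap (integralClosure A' (FractionRing A')) (FractionRing A')) hab
  rwa [← IsScalarTower.algebraMap_apply, ← IsScalarTower.algebraMap_apply] at this

end Groth.Agent.Helper8.J2
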