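import Mathlib

/-!
# Finite subalgebras of a finite field extension with full fraction field ("models")
-/

set_option autoImplicit false
universe u

namespace Groth.Agent.Helper8.JapFlat

variable {A K' : Type u} [CommRing A] [IsDomain A] [Field K'] [Algebra A K']

/-- A finite `A`-subalgebra of `K'` whose fraction field is `K'`. -/
def IsModel (C : Subalgebra A K') : Prop :=
  Module.Finite A C ∧ ∀ x : K', ∃ a b : C, (b : K') ≠ 0 ∧ x * b = a

theorem IsModel.sup {C : Subalgebra A K'} (hC : IsModel C) (C' : Subalgebra A K')
    (hC' : Module.Finite A C') : IsModel (C ⊔ C') := by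
  haveI := hC.1
  haveI := hC'
  refine ⟨Subalgebra.finite_sup C C', fun x => ?_⟩
  obtain ⟨a, b, hb, hab⟩ := hC.2 x
  exact ⟨Subalgebra.inclusion le_sup_left a, Subalgebra.inclusion le_sup_left b, hb, hab⟩

theorem exists_isModel_ge_mem {C : Subalgebra A K'} (hC : IsModel C) (a : K')
    (ha : IsIntegral A a) : ∃ C' : Subalgebra A K', IsModel C' ∧ C ≤ C' ∧ a ∈ C' := by
  refine ⟨C ⊔ Algebra.adjoin A {a}, hC.sup _ ?_, le_sup_left, ?_⟩
  · exact Module.Finite.iff_fg.mpr
      (fg_adjoin_of_finite (Set.finite_singleton a) (fun x hx => by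
        rw [Set.mem_singleton_iff.mp hx]; exact ha))
  · exact (le_sup_right : Algebra.adjoin A {a} ≤ C ⊔ Algebra.adjoin A {a})
      (Algebra.subset_adjoin (Set.mem_singleton a))

variable [Algebra (FractionRing A) K'] [IsScalarTower A (FractionRing A) K']
  [FiniteDimensional (FractionRing A) K']

theorem algebraMap_injective' : Function.Injective (algebraMap A K') := by
  rw [IsScalarTower.algebraMap_eq A (FractionRing A) K']
  exact (algebraMap (FractionRing A) K').injective.comp
    (IsFractionRing.injective A (FractionRing A))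

theorem exists_isModel : ∃ C : Subalgebra A K', IsModel C := by
  classical
  have hinj : Function.Injective (algebraMap A K') := algebraMap_injective'
  obtain ⟨t, ht⟩ := (Module.Finite.fg_top : (⊤ : Submodule (FractionRing A) K').FG)
  have halg : ∀ l : K', IsAlgebraic A l := fun l =>
    (IsFractionRing.isAlgebraic_iff A (FractionRing A) K').mpr
      (Algebra.IsAlgebraic.isAlgebraic (R := FractionRing A) l)
  choose d hd0 hdint using fun l : K' => (halg l).exists_integral_multiple
  let T : Finset K' := t.image (fun l => d l • l)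
  let S'' : Subalgebra A K' := Algebra.adjoin A (T : Set K')
  have hTint : ∀ x ∈ (T : Set K'), IsIntegral A x := by
    intro x hx
    obtain ⟨l, _, rfl⟩ := Finset.mem_image.mp hx
    exact hdint l
  have hfin : Module.Finite A S'' :=
    Module.Finite.iff_fg.mpr (fg_adjoin_of_finite T.finite_toSet hTint)
  refine ⟨S'', hfin, ?_⟩
  have hP : ∀ z : K', z ∈ Submodule.span (FractionRing A) (t : Set K') →
      ∃ x y : S'', (y : K') ≠ 0 ∧ z * (y : K') = (x : K') := by
    intro z hz
    induction hz using Submodule.span_induction with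
    | mem l hl =>
      refine ⟨⟨d l • l, Algebra.subset_adjoin (Finset.mem_image_of_mem _ hl)⟩,
        algebraMap A S'' (d l), ?_, ?_⟩
      · show algebraMap A K' (d l) ≠ 0
        exact (map_ne_zero_iff _ hinj).mpr (hd0 l)
      · show l * algebraMap A K' (d l) = d l • l
        rw [Algebra.smul_def, mul_comm]
    | zero => exact ⟨0, 1, by simp, by simp⟩
    | add z z' _ _ ih ih' =>
      obtain ⟨x, y, hy, h1⟩ := ih
      obtain ⟨x', y', hy', h2⟩ := ih'
      refine ⟨x * y' + x' * y, y * y', ?_, ?_⟩
      · show (y : K') * (y' : K') ≠ 0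
        exact mul_ne_zero hy hy'
      · push_cast
        rw [← h1, ← h2]
        ring
    | smul k z _ ih =>
      obtain ⟨x, y, hy, h1⟩ := ih
      obtain ⟨a, b, hb, rfl⟩ := IsFractionRing.div_surjective (A := A) k
      have hb0 : algebraMap A K' b ≠ 0 :=
        (map_ne_zero_iff _ hinj).mpr (nonZeroDivisors.ne_zero hb)
      refine ⟨algebraMap A S'' a * x, algebraMap A S'' b * y, ?_, ?_⟩
      · show algebraMap A K' b * (y : K') ≠ 0
        exact mul_ne_zero hb0 hy
      · show _ = algebraMap A K' a * (x : K')
        rw [Algebra.smul_def, map_div₀, ← IsScalarTower.algebraMap_apply,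
          ← IsScalarTower.algebraMap_apply, ← h1]
        show algebraMap A K' a / algebraMap A K' b * z * (algebraMap A K' b * (y : K')) = _
        field_simp
  intro z
  obtain ⟨x, y, hy, hxy⟩ := hP z (by rw [ht]; trivial)
  exact ⟨x, y, hy, hxy⟩

end Groth.Agent.Helper8.JapFlat
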