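import Mathlib

/-!
# An abstract stabilization lemma for families of integral submodules
-/

set_option autoImplicit false
universe u

namespace Groth.Agent.Helper8.JapFlat

/-- Let `B` be a Noetherian ring, `T` a `B`-algebra and `θ i : T → L i` finitely many `B`-algebra
maps to fields in which the integral closure of `B` is a finite `B`-module. Then every nonempty
family of `B`-submodules of `T` consisting of integral elements contains a member `S c₀` such that
for every larger member `S c`, every element of `S c` agrees under all `θ i` with an element of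
`S c₀`. -/
theorem exists_stable {B T : Type u} [CommRing B] [IsNoetherianRing B] [CommRing T] [Algebra B T]
    {I : Type u} [Finite I] (L : I → Type u) [∀ i, Field (L i)] [∀ i, Algebra B (L i)]
    (θ : ∀ i, T →ₐ[B] L i)
    (hfin : ∀ i, Module.Finite B (integralClosure B (L i)))
    {𝒞 : Type*} (S : 𝒞 → Submodule B T) [hne : Nonempty 𝒞]
    (hint : ∀ c, ∀ x ∈ S c, IsIntegral B x) :
    ∃ c₀, ∀ c, S c₀ ≤ S c → ∀ y ∈ S c, ∃ x ∈ S c₀, ∀ i, θ i x = θ i y := by
  classical
  haveI := hfin
  cases nonempty_fintype I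
  let Y := Π i, integralClosure B (L i)
  haveI : Module.Finite B Y := Module.Finite.pi
  haveI : IsNoetherian B Y := isNoetherian_of_isNoetherianRing_of_finite B Y
  let N : 𝒞 → Submodule B Y := fun c =>
    { carrier := {d | ∃ x ∈ S c, ∀ i, θ i x = (d i : L i)}
      add_mem' := by
        rintro d d' ⟨x, hx, h⟩ ⟨x', hx', h'⟩
        refine ⟨x + x', (S c).add_mem hx hx', fun i => ?_⟩
        rw [map_add, h i, h' i]
        rfl
      zero_mem' := ⟨0, (S c).zero_mem, fun i => by rw [map_zero]; rfl⟩
      smul_mem' := by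
        rintro b d ⟨x, hx, h⟩
        refine ⟨b • x, (S c).smul_mem b hx, fun i => ?_⟩
        rw [map_smul, h i]
        rfl }
  obtain ⟨M', ⟨c₀, rfl⟩, hmax⟩ := (set_has_maximal_iff_noetherian (R := B) (M := Y)).mpr
    inferInstance (Set.range N) ⟨N hne.some, Set.mem_range_self _⟩
  refine ⟨c₀, fun c hle y hy => ?_⟩
  have h1 : N c₀ ≤ N c := by
    rintro d ⟨x, hx, h⟩
    exact ⟨x, hle hx, h⟩
  have h2 : N c ≤ N c₀ := by
    by_contra hnot
    exact hmax (N c) (Set.mem_range_self c) (lt_of_le_not_ge h1 hnot)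
  let d : Y := fun i => ⟨θ i y, (hint c y hy).map (θ i)⟩
  have hd : d ∈ N c := ⟨y, hy, fun i => rfl⟩
  obtain ⟨x, hx, h⟩ := h2 hd
  exact ⟨x, hx, fun i => h i⟩

end Groth.Agent.Helper8.JapFlat
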