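import Mathlib
import Groth.Agent.Lib.Helper8.JapFlat1

/-!
# Fibre-wise constructions for the stabilization of reduced tensor products
-/

set_option autoImplicit false
universe u

namespace Groth.Agent.Helper8.JapFlat

open TensorProduct nonZeroDivisors

section finite

variable {A K' : Type u} [CommRing A] [IsDomain A] [Field K'] [Algebra A K']
  [Algebra (FractionRing A) K'] [IsScalarTower A (FractionRing A) K']
  [FiniteDimensional (FractionRing A) K']

/-- `K'` is flat over `A`. -/
theorem flat_K' : Module.Flat A K' := Module.Flat.trans A (FractionRing A) K'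

/-- For a field `F` containing `A`, the `F`-algebra `F ⊗[A] K'` is finite. -/
theorem finite_tensor (F : Type u) [Field F] [Algebra A F]
    (hinj : Function.Injective (algebraMap A F)) : Module.Finite F (F ⊗[A] K') := by
  classical
  obtain ⟨t, ht⟩ := (Module.Finite.fg_top : (⊤ : Submodule (FractionRing A) K').FG)
  refine ⟨⟨t.image (fun e => (1 : F) ⊗ₜ[A] e), ?_⟩⟩
  rw [eq_top_iff]
  rintro z -
  have key : ∀ x : K', x ∈ Submodule.span (FractionRing A) (t : Set K') → ∀ f : F,
      f ⊗ₜ[A] x ∈ Submodule.span F ((t.image (fun e => (1 : F) ⊗ₜ[A] e) : Finset (F ⊗[A] K')) :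
        Set (F ⊗[A] K')) := by
    intro x hx
    induction hx using Submodule.span_induction with
    | mem e he =>
      intro f
      have : f ⊗ₜ[A] e = f • ((1 : F) ⊗ₜ[A] e) := by
        rw [TensorProduct.smul_tmul', smul_eq_mul, mul_one]
      rw [this]
      exact Submodule.smul_mem _ _ (Submodule.subset_span
        (Finset.mem_coe.mpr (Finset.mem_image_of_mem _ he)))
    | zero =>
      intro f
      rw [TensorProduct.tmul_zero]
      exact Submodule.zero_mem _
    | add x y _ _ ihx ihy =>
      intro f
      rw [TensorProduct.tmul_add]
      exact Submodule.add_mem _ (ihx f) (ihy f)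
    | smul k x _ ih =>
      intro f
      obtain ⟨a, s, hs, rfl⟩ := IsFractionRing.div_surjective (A := A) k
      have hs0 : algebraMap A F s ≠ 0 :=
        (map_ne_zero_iff _ hinj).mpr (nonZeroDivisors.ne_zero hs)
      have h1 : s • ((algebraMap A (FractionRing A) a / algebraMap A (FractionRing A) s) • x) =
          a • x := by
        rw [← IsScalarTower.algebraMap_smul (FractionRing A) s, ← IsScalarTower.algebraMap_smul
          (FractionRing A) a x, smul_smul]
        congr 1
        have : algebraMap A (FractionRing A) s ≠ 0 :=
          (map_ne_zero_iff _ (IsFractionRing.injective A (FractionRing A))).mpr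
            (nonZeroDivisors.ne_zero hs)
        field_simp
      have h2 : f ⊗ₜ[A] ((algebraMap A (FractionRing A) a / algebraMap A (FractionRing A) s) • x) =
          (f * algebraMap A F a / algebraMap A F s) ⊗ₜ[A] x := by
        have h3 : f = s • (f / algebraMap A F s) := by
          rw [Algebra.smul_def]
          field_simp
        conv_lhs => rw [h3, TensorProduct.smul_tmul, h1, ← TensorProduct.smul_tmul]
        congr 1
        rw [Algebra.smul_def]
        ring
      rw [h2]
      exact ih _
  induction z using TensorProduct.induction_on with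
  | zero => exact Submodule.zero_mem _
  | tmul f x => exact key x (by rw [ht]; trivial) f
  | add x y hx hy => exact Submodule.add_mem _ hx hy

end finite

section minimal

variable {A B : Type u} [CommRing A] [IsDomain A] [CommRing B] [Algebra A B] [Module.Flat A B]

/-- Nonzero elements of `A` stay nonzero in `B ⧸ q` for a minimal prime `q` of the flat
`A`-algebra `B`. -/
theorem algebraMap_quotient_injective {q : Ideal B} (hq : q ∈ minimalPrimes B) :
    Function.Injective (algebraMap A (B ⧸ q)) := by
  rw [injective_iff_map_eq_zero]
  intro a ha
  by_contra ha0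
  have hreg : IsSMulRegular B a :=
    Module.Flat.isSMulRegular_of_nonZeroDivisors (mem_nonZeroDivisors_of_ne_zero ha0)
  have hnzd : algebraMap A B a ∈ B⁰ := by
    rw [mem_nonZeroDivisors_iff_right]
    intro b hb
    apply hreg
    show a • b = a • 0
    rw [smul_zero, Algebra.smul_def, mul_comm]
    exact hb
  have hmem : algebraMap A B a ∈ q := by
    rw [IsScalarTower.algebraMap_apply A B (B ⧸ q)] at ha
    exact Ideal.Quotient.eq_zero_iff_mem.mp ha
  exact Set.disjoint_left.mp (Ideal.disjoint_nonZeroDivisors_of_mem_minimalPrimes hq) hmem hnzd

theorem algebraMap_fractionRing_quotient_injective {q : Ideal B} [q.IsPrime]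
    (hq : q ∈ minimalPrimes B) :
    Function.Injective (algebraMap A (FractionRing (B ⧸ q))) := by
  rw [IsScalarTower.algebraMap_eq A (B ⧸ q) (FractionRing (B ⧸ q))]
  exact (IsFractionRing.injective (B ⧸ q) (FractionRing (B ⧸ q))).comp
    (algebraMap_quotient_injective hq)

end minimal

end Groth.Agent.Helper8.JapFlat
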