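import Mathlib
import Groth.Prelude
import Groth.Agent.Lib.Helper8.JapFlat2
import Groth.Agent.Lib.Helper8.JapFlat3

/-!
# The family of residue fields of `B ⊗[A] K'` used to detect nilpotents and integrality
-/

set_option autoImplicit false
universe u

namespace Groth.Agent.Helper8.JapFlat

open TensorProduct nonZeroDivisors

section main

variable (A B K' : Type u) [CommRing A] [IsDomain A] [CommRing B] [Algebra A B]
  [Field K'] [Algebra A K']

instance instIsPrimeMinimalPrimes (q : minimalPrimes B) : q.1.IsPrime :=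
  Ideal.IsMinimalPrime.isPrime q.2

/-- The fibre ring `Frac(B/q) ⊗[A] K'`. -/
abbrev Eq (q : minimalPrimes B) : Type u := FractionRing (B ⧸ q.1) ⊗[A] K'

/-- The map `B ⊗[A] K' → Frac(B/q) ⊗[A] K'`. -/
noncomputable def Θ (q : minimalPrimes B) : B ⊗[A] K' →ₐ[B] Eq A B K' q :=
  Algebra.TensorProduct.map (Algebra.ofId B (FractionRing (B ⧸ q.1))) (AlgHom.id A K')

/-- The index type: pairs of a minimal prime of `B` and a maximal ideal of the fibre ring. -/
abbrev Idx : Type u := Σ q : minimalPrimes B, MaximalSpectrum (Eq A B K' q)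

/-- The residue fields. -/
abbrev L (i : Idx A B K') : Type u := Eq A B K' i.1 ⧸ i.2.asIdeal

noncomputable instance instFieldL (i : Idx A B K') : Field (L A B K' i) :=
  @Ideal.Quotient.field _ _ i.2.asIdeal i.2.isMaximal

/-- The maps to the residue fields. -/
noncomputable def θ (i : Idx A B K') : B ⊗[A] K' →ₐ[B] L A B K' i :=
  (Ideal.Quotient.mkₐ B i.2.asIdeal).comp (Θ A B K' i.1)

variable {A B K'}

variable [Module.Flat A K']

theorem mem_map_of_Θ_eq_zero (q : minimalPrimes B) (s : B ⊗[A] K') (hs : Θ A B K' q s = 0) :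
    s ∈ q.1.map (algebraMap B (B ⊗[A] K')) := by
  let g : B →ₗ[A] FractionRing (B ⧸ q.1) :=
    (IsScalarTower.toAlgHom A B (FractionRing (B ⧸ q.1))).toLinearMap
  have hΘ : ∀ z : B ⊗[A] K', Θ A B K' q z = g.rTensor K' z := by
    intro z
    induction z using TensorProduct.induction_on with
    | zero => simp
    | tmul b x => simp [Θ, g]
    | add x y hx hy => rw [map_add, map_add, hx, hy]
  have hex := Module.Flat.rTensor_exact K' (LinearMap.exact_subtype_ker_map g)
  obtain ⟨w, rfl⟩ := (hex s).mp (by rw [← hΘ]; exact hs)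
  clear hs
  have hker : ∀ n : LinearMap.ker g, (n : B) ∈ q.1 := by
    intro n
    have h1 : algebraMap B (FractionRing (B ⧸ q.1)) (n : B) = 0 := n.2
    rw [IsScalarTower.algebraMap_apply B (B ⧸ q.1) (FractionRing (B ⧸ q.1))] at h1
    have h2 := (IsFractionRing.injective (B ⧸ q.1) (FractionRing (B ⧸ q.1)))
      (h1.trans (map_zero _).symm)
    exact Ideal.Quotient.eq_zero_iff_mem.mp h2
  induction w using TensorProduct.induction_on with
  | zero => simp
  | tmul n x =>
    rw [LinearMap.rTensor_tmul]
    have : ((LinearMap.ker g).subtype n) ⊗ₜ[A] x =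
        algebraMap B (B ⊗[A] K') (n : B) * ((1 : B) ⊗ₜ[A] x) := by
      rw [Algebra.TensorProduct.algebraMap_apply, Algebra.TensorProduct.tmul_mul_tmul]
      simp
    rw [this]
    exact Ideal.mul_mem_right _ _ (Ideal.mem_map_of_mem _ (hker n))
  | add x y hx hy =>
    rw [map_add]
    exact Ideal.add_mem _ hx hy

end main

end Groth.Agent.Helper8.JapFlat
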