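import Mathlib
import Groth.Prelude
import Groth.Agent.Lib.Helper8.JapFlat4

/-!
# Finiteness and nilpotent detection for the family of residue fields
-/

set_option autoImplicit false
universe u

namespace Groth.Agent.Helper8.JapFlat

open TensorProduct nonZeroDivisors

variable {A B K' : Type u} [CommRing A] [IsDomain A] [CommRing B] [Algebra A B]
  [IsNoetherianRing B] [Module.Flat A B]
  [Field K'] [Algebra A K'] [Algebra (FractionRing A) K'] [IsScalarTower A (FractionRing A) K']
  [FiniteDimensional (FractionRing A) K']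

omit [IsNoetherianRing B] in
theorem finite_Eq (q : minimalPrimes B) :
    Module.Finite (FractionRing (B ⧸ q.1)) (Eq A B K' q) :=
  finite_tensor _ (algebraMap_fractionRing_quotient_injective q.2)

omit [IsNoetherianRing B] in
theorem isArtinianRing_Eq (q : minimalPrimes B) : IsArtinianRing (Eq A B K' q) := by
  haveI := finite_Eq (A := A) (K' := K') q
  exact IsArtinianRing.of_finite (FractionRing (B ⧸ q.1)) _

instance instFiniteIdx : Finite (Idx A B K') := by
  haveI : Finite (minimalPrimes B) := (minimalPrimes.finite_of_isNoetherianRing B).to_subtype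
  haveI : ∀ q : minimalPrimes B, Finite (MaximalSpectrum (Eq A B K' q)) := fun q => by
    haveI := isArtinianRing_Eq (A := A) (K' := K') q
    haveI : Finite {I : Ideal (Eq A B K' q) // I.IsMaximal} :=
      (IsArtinianRing.setOfPred_isMaximal_finite (Eq A B K' q)).to_subtype
    exact .of_equiv _ (MaximalSpectrum.equivSubtype _).symm
  infer_instance

theorem finite_integralClosure
    (hJ : ∀ (q : Ideal B) [q.IsPrime], q ∈ minimalPrimes B → CAlg.IsN2 (B ⧸ q))
    (i : Idx A B K') : Module.Finite B (integralClosure B (L A B K' i)) := by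
  haveI := finite_Eq (A := A) (K' := K') i.1
  haveI : FiniteDimensional (FractionRing (B ⧸ i.1.1)) (L A B K' i) :=
    Module.Finite.of_surjective
      (Ideal.Quotient.mkₐ (FractionRing (B ⧸ i.1.1)) i.2.asIdeal).toLinearMap
      Ideal.Quotient.mk_surjective
  have h1 : Module.Finite (B ⧸ i.1.1) (integralClosure (B ⧸ i.1.1) (L A B K' i)) :=
    hJ i.1.1 i.1.2 (L A B K' i) inferInstance
  haveI : Module.Finite B (integralClosure (B ⧸ i.1.1) (L A B K' i)) :=
    Module.Finite.trans (B ⧸ i.1.1) _
  haveI : IsNoetherian B (integralClosure (B ⧸ i.1.1) (L A B K' i)) :=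
    isNoetherian_of_isNoetherianRing_of_finite B _
  let ι : integralClosure B (L A B K' i) →ₗ[B] integralClosure (B ⧸ i.1.1) (L A B K' i) :=
    { toFun := fun x => ⟨x.1, IsIntegral.tower_top x.2⟩
      map_add' := fun _ _ => rfl
      map_smul' := fun _ _ => rfl }
  refine Module.Finite.of_injective ι (fun x y h => Subtype.ext ?_)
  exact congrArg (fun z : integralClosure (B ⧸ i.1.1) (L A B K' i) => (z : L A B K' i)) h

theorem isNilpotent_of_θ_eq_zero (t : B ⊗[A] K') (h : ∀ i, θ A B K' i t = 0) :
    IsNilpotent t := by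
  haveI : Module.Flat A K' := flat_K'
  rw [← mem_nilradical, nilradical_eq_sInf, Ideal.mem_sInf]
  intro P hP
  haveI : P.IsPrime := hP
  obtain ⟨q, hq, hqle⟩ := Ideal.exists_minimalPrimes_le
    (bot_le : ⊥ ≤ P.comap (algebraMap B (B ⊗[A] K')))
  let q' : minimalPrimes B := ⟨q, hq⟩
  haveI := isArtinianRing_Eq (A := A) (K' := K') q'
  have h1 : Θ A B K' q' t ∈ Ideal.jacobson (⊥ : Ideal (Eq A B K' q')) := by
    rw [Ideal.jacobson, Ideal.mem_sInf]
    rintro M ⟨-, hM⟩
    have := h ⟨q', ⟨M, hM⟩⟩
    exact Ideal.Quotient.eq_zero_iff_mem.mp this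
  rw [IsArtinianRing.jacobson_eq_radical] at h1
  obtain ⟨n, hn⟩ := h1
  have h2 : Θ A B K' q' (t ^ n) = 0 := by
    rw [map_pow]
    exact (Ideal.mem_bot).mp hn
  have h3 := mem_map_of_Θ_eq_zero q' (t ^ n) h2
  have h4 : t ^ n ∈ P := (Ideal.map_le_iff_le_comap.mpr hqle) h3
  exact hP.mem_of_pow_mem n h4

end Groth.Agent.Helper8.JapFlat
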