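import Mathlib
import Groth.Prelude
import Groth.Agent.Lib.Helper8.JapFlat5

/-!
# Stabilization of the reduced rings `(C ⊗[A] B)_red` over the finite models `C` of `K'`
-/

set_option autoImplicit false
universe u

namespace Groth.Agent.Helper8.JapFlat

open TensorProduct nonZeroDivisors

section maps

variable {A B K' : Type u} [CommRing A] [CommRing B] [Algebra A B] [Field K'] [Algebra A K']

/-- The `B`-submodule of `B ⊗[A] K'` generated by `1 ⊗ c`, `c ∈ C`. -/
def SC (B : Type u) [CommRing B] [Algebra A B] (C : Subalgebra A K') :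
    Submodule B (B ⊗[A] K') :=
  Submodule.span B ((fun c : K' => (1 : B) ⊗ₜ[A] c) '' (C : Set K'))

/-- The map `C ⊗[A] B → B ⊗[A] K'`. -/
noncomputable def j (B : Type u) [CommRing B] [Algebra A B] (C : Subalgebra A K') :
    C ⊗[A] B →ₐ[A] B ⊗[A] K' :=
  (Algebra.TensorProduct.map (AlgHom.id A B) C.val).comp
    (Algebra.TensorProduct.comm A C B).toAlgHom

@[simp]
theorem j_tmul (C : Subalgebra A K') (c : C) (b : B) : j B C (c ⊗ₜ[A] b) = b ⊗ₜ[A] (c : K') := by
  simp [j]

theorem j_injective [Module.Flat A B] (C : Subalgebra A K') : Function.Injective (j B C) := by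
  have h1 : Function.Injective (C.val.toLinearMap.lTensor B) :=
    Module.Flat.lTensor_preserves_injective_linearMap _ Subtype.val_injective
  have h2 : ∀ z, j B C z = C.val.toLinearMap.lTensor B (TensorProduct.comm A C B z) := by
    intro z
    induction z using TensorProduct.induction_on with
    | zero => simp
    | tmul c b => simp
    | add x y hx hy => rw [map_add, map_add, map_add, hx, hy]
  intro x y hxy
  rw [h2, h2] at hxy
  exact (TensorProduct.comm A C B).injective (h1 hxy)

theorem j_mem (C : Subalgebra A K') (y : C ⊗[A] B) : j B C y ∈ SC B C := by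
  induction y using TensorProduct.induction_on with
  | zero => rw [map_zero]; exact Submodule.zero_mem _
  | tmul c b =>
    rw [j_tmul]
    have : b ⊗ₜ[A] (c : K') = b • ((1 : B) ⊗ₜ[A] (c : K')) := by
      rw [TensorProduct.smul_tmul', smul_eq_mul, mul_one]
    rw [this]
    exact Submodule.smul_mem _ _ (Submodule.subset_span ⟨c, c.2, rfl⟩)
  | add x y hx hy => rw [map_add]; exact Submodule.add_mem _ hx hy

theorem exists_j_eq (C : Subalgebra A K') (x : B ⊗[A] K') (hx : x ∈ SC B C) :
    ∃ y : C ⊗[A] B, j B C y = x := by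
  induction hx using Submodule.span_induction with
  | mem z hz =>
    obtain ⟨c, hc, rfl⟩ := hz
    exact ⟨(⟨c, hc⟩ : C) ⊗ₜ[A] 1, by simp⟩
  | zero => exact ⟨0, map_zero _⟩
  | add x y _ _ hx hy =>
    obtain ⟨x', rfl⟩ := hx
    obtain ⟨y', rfl⟩ := hy
    exact ⟨x' + y', map_add _ _ _⟩
  | smul b x _ hx =>
    obtain ⟨x', rfl⟩ := hx
    refine ⟨((1 : C) ⊗ₜ[A] b) * x', ?_⟩
    rw [map_mul, j_tmul, Algebra.smul_def, Algebra.TensorProduct.algebraMap_apply]
    simp

theorem SC_mono {C C' : Subalgebra A K'} (h : C ≤ C') : SC B C ≤ SC B C' :=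
  Submodule.span_mono (Set.image_mono h)

theorem isIntegral_of_mem_SC (C : Subalgebra A K') [Algebra.IsIntegral A C] (x : B ⊗[A] K')
    (hx : x ∈ SC B C) : IsIntegral B x := by
  have hle : SC B C ≤ Subalgebra.toSubmodule (integralClosure B (B ⊗[A] K')) := by
    refine Submodule.span_le.mpr ?_
    rintro _ ⟨c, hc, rfl⟩
    have hc' : IsIntegral A (⟨c, hc⟩ : C) := Algebra.IsIntegral.isIntegral _
    have hc'' : IsIntegral A c := hc'.map C.val
    exact IsIntegral.tmul (1 : B) hc''
  exact hle hx

theorem j_comp_map {C C' : Subalgebra A K'} (hle : C ≤ C') (x : C ⊗[A] B) :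
    j B C' (Algebra.TensorProduct.map (Subalgebra.inclusion hle) (AlgHom.id A B) x) = j B C x := by
  induction x using TensorProduct.induction_on with
  | zero => simp
  | tmul c b => simp
  | add x y hx hy => rw [map_add, map_add, map_add, hx, hy]

end maps

section main

variable {A B K' : Type u} [CommRing A] [IsDomain A] [CommRing B] [Algebra A B]
  [IsNoetherianRing B] [Module.Flat A B]
  [Field K'] [Algebra A K'] [Algebra (FractionRing A) K'] [IsScalarTower A (FractionRing A) K']
  [FiniteDimensional (FractionRing A) K']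

/-- **Stabilization.** -/
theorem exists_isModel_stable
    (hJ : ∀ (q : Ideal B) [q.IsPrime], q ∈ minimalPrimes B → CAlg.IsN2 (B ⧸ q)) :
    ∃ Cα : Subalgebra A K', IsModel Cα ∧
      ∀ C : Subalgebra A K', IsModel C → ∀ hle : Cα ≤ C,
        (∀ x : ↥Cα ⊗[A] B, IsNilpotent
            (Algebra.TensorProduct.map (Subalgebra.inclusion hle) (AlgHom.id A B) x) →
          IsNilpotent x) ∧
        (∀ y : ↥C ⊗[A] B, ∃ x : ↥Cα ⊗[A] B, IsNilpotent
          (Algebra.TensorProduct.map (Subalgebra.inclusion hle) (AlgHom.id A B) x - y)) := by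
  obtain ⟨C₀, hC₀⟩ := exists_isModel (A := A) (K' := K')
  haveI : Nonempty {C : Subalgebra A K' // IsModel C} := ⟨⟨C₀, hC₀⟩⟩
  obtain ⟨⟨Cα, hα⟩, hstab⟩ := exists_stable (L A B K') (θ A B K')
    (finite_integralClosure hJ) (fun c : {C : Subalgebra A K' // IsModel C} => SC B c.1)
    (fun c x hx => by
      haveI := c.2.1
      haveI : Algebra.IsIntegral A c.1 := Algebra.IsIntegral.of_finite A c.1
      exact isIntegral_of_mem_SC c.1 x hx)
  refine ⟨Cα, hα, fun C hC hle => ⟨fun x hx => ?_, fun y => ?_⟩⟩
  · have hinj : Function.Injective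
        (Algebra.TensorProduct.map (Subalgebra.inclusion hle) (AlgHom.id A B)) := by
      have h1 : Function.Injective ((Subalgebra.inclusion hle).toLinearMap.rTensor B) :=
        Module.Flat.rTensor_preserves_injective_linearMap _ (Subalgebra.inclusion_injective hle)
      intro a b hab
      apply h1
      have h2 : ∀ z, (Subalgebra.inclusion hle).toLinearMap.rTensor B z =
          Algebra.TensorProduct.map (Subalgebra.inclusion hle) (AlgHom.id A B) z := by
        intro z
        induction z using TensorProduct.induction_on with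
        | zero => simp
        | tmul c b => simp
        | add x y hx hy => rw [map_add, map_add, hx, hy]
      rw [h2, h2]
      exact hab
    exact (IsNilpotent.map_iff hinj).mp hx
  · obtain ⟨x₀, hx₀, hθ⟩ := hstab ⟨C, hC⟩ (SC_mono hle) (j B C y) (j_mem C y)
    obtain ⟨x, rfl⟩ := exists_j_eq Cα x₀ hx₀
    refine ⟨x, ?_⟩
    have hnil : IsNilpotent (j B C
        (Algebra.TensorProduct.map (Subalgebra.inclusion hle) (AlgHom.id A B) x - y)) := by
      apply isNilpotent_of_θ_eq_zero
      intro i
      rw [map_sub, map_sub, j_comp_map, hθ i, sub_self]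
    exact (IsNilpotent.map_iff (j_injective C)).mp hnil

end main

end Groth.Agent.Helper8.JapFlat
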