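import Mathlib
import Groth.Prelude
import Groth.Agent.Lib.Helper8.JapFlat6
import Groth.Agent.Lib.Helper7.UHLib

/-!
# Radicial-ness of `Spec A' → Spec C_α` from stabilization after a faithfully flat base change
-/

set_option autoImplicit false
universe u

namespace Groth.Agent.Helper8.JapFlat

open TensorProduct nonZeroDivisors AlgebraicGeometry CategoryTheory

section key

variable {A B K' : Type u} [CommRing A] [CommRing B] [Algebra A B] [Module.FaithfullyFlat A B]
  [Field K'] [Algebra A K']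

/-- Two ring maps `C → Ω` to a field agreeing on `Cα` are equal as soon as `Cα ⊗ B → C ⊗ B` is
surjective modulo nilpotents, `B` being faithfully flat. -/
theorem ringHom_eq_of_stable {Cα C : Subalgebra A K'} (hle : Cα ≤ C)
    (hstab : ∀ y : ↥C ⊗[A] B, ∃ x : ↥Cα ⊗[A] B, IsNilpotent
      (Algebra.TensorProduct.map (Subalgebra.inclusion hle) (AlgHom.id A B) x - y))
    (Ω : Type u) [Field Ω] (f₁ f₂ : C →+* Ω)
    (h : f₁.comp (Subalgebra.inclusion hle).toRingHom = f₂.comp (Subalgebra.inclusion hle).toRingHom) :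
    f₁ = f₂ := by
  letI : Algebra A Ω := (f₁.comp (algebraMap A C)).toAlgebra
  have hagree : ∀ c : Cα, f₁ (Subalgebra.inclusion hle c) = f₂ (Subalgebra.inclusion hle c) :=
    fun c => RingHom.congr_fun h c
  let F₁ : C →ₐ[A] Ω := { f₁ with commutes' := fun a => rfl }
  let F₂ : C →ₐ[A] Ω := { f₂ with
    commutes' := fun a => by
      have h1 := hagree (algebraMap A Cα a)
      have h2 : Subalgebra.inclusion hle (algebraMap A Cα a) = algebraMap A C a := rfl
      rw [h2] at h1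
      exact h1.symm }
  -- a field containing `Ω` and receiving `B`
  haveI : Nontrivial (B ⊗[A] Ω) := Module.FaithfullyFlat.lTensor_nontrivial A B Ω
  obtain ⟨𝔐, h𝔐⟩ := Ideal.exists_maximal (B ⊗[A] Ω)
  haveI := h𝔐
  letI : Field ((B ⊗[A] Ω) ⧸ 𝔐) := Ideal.Quotient.field 𝔐
  let g : B →ₐ[A] (B ⊗[A] Ω) ⧸ 𝔐 :=
    (Ideal.Quotient.mkₐ A 𝔐).comp Algebra.TensorProduct.includeLeft
  let ι : Ω →ₐ[A] (B ⊗[A] Ω) ⧸ 𝔐 :=
    (Ideal.Quotient.mkₐ A 𝔐).comp Algebra.TensorProduct.includeRight
  have hι : Function.Injective ι := (ι : Ω →+* (B ⊗[A] Ω) ⧸ 𝔐).injective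
  let h₁ : ↥C ⊗[A] B →ₐ[A] (B ⊗[A] Ω) ⧸ 𝔐 :=
    Algebra.TensorProduct.lift (ι.comp F₁) g (fun _ _ => Commute.all _ _)
  let h₂ : ↥C ⊗[A] B →ₐ[A] (B ⊗[A] Ω) ⧸ 𝔐 :=
    Algebra.TensorProduct.lift (ι.comp F₂) g (fun _ _ => Commute.all _ _)
  have hcomp : ∀ x : ↥Cα ⊗[A] B,
      h₁ (Algebra.TensorProduct.map (Subalgebra.inclusion hle) (AlgHom.id A B) x) =
      h₂ (Algebra.TensorProduct.map (Subalgebra.inclusion hle) (AlgHom.id A B) x) := by
    intro x
    induction x using TensorProduct.induction_on with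
    | zero => simp
    | tmul c b =>
      simp only [Algebra.TensorProduct.map_tmul, AlgHom.coe_id, id_eq, h₁, h₂,
        Algebra.TensorProduct.lift_tmul, AlgHom.comp_apply]
      have : F₁ (Subalgebra.inclusion hle c) = F₂ (Subalgebra.inclusion hle c) := hagree c
      rw [this]
    | add x y hx hy => simp only [map_add, hx, hy]
  have hnil : ∀ (φ : ↥C ⊗[A] B →ₐ[A] (B ⊗[A] Ω) ⧸ 𝔐) (z : ↥C ⊗[A] B), IsNilpotent z → φ z = 0 :=
    fun φ z hz => (hz.map φ).eq_zero
  have hall : ∀ y : ↥C ⊗[A] B, h₁ y = h₂ y := by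
    intro y
    obtain ⟨x, hx⟩ := hstab y
    have e1 := hnil h₁ _ hx
    have e2 := hnil h₂ _ hx
    rw [map_sub, sub_eq_zero] at e1 e2
    rw [← e1, ← e2, hcomp]
  ext c
  have := hall (c ⊗ₜ[A] (1 : B))
  simp only [h₁, h₂, Algebra.TensorProduct.lift_tmul, AlgHom.comp_apply, map_one, mul_one] at this
  exact hι this

end key

section main

variable {A B K' : Type u} [CommRing A] [IsDomain A] [CommRing B] [Algebra A B]
  [Module.FaithfullyFlat A B] [Field K'] [Algebra A K']

theorem universallyInjective_of_stable {Cα : Subalgebra A K'} (hα : IsModel Cα)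
    (hstab : ∀ C : Subalgebra A K', IsModel C → ∀ hle : Cα ≤ C,
      ∀ y : ↥C ⊗[A] B, ∃ x : ↥Cα ⊗[A] B, IsNilpotent
        (Algebra.TensorProduct.map (Subalgebra.inclusion hle) (AlgHom.id A B) x - y))
    (hint : Cα ≤ integralClosure A K') :
    UniversallyInjective (Spec.map (CommRingCat.ofHom (Subalgebra.inclusion hint).toRingHom)) := by
  rw [Groth.Agent.Helper7.UHLib.universallyInjective_specMap_iff]
  intro Ω _ ψ₁ ψ₂ he
  ext ⟨a, ha⟩
  obtain ⟨C, hC, hle, haC⟩ := exists_isModel_ge_mem hα a ha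
  haveI := hC.1
  have hCint : C ≤ integralClosure A K' := by
    intro c hc
    have h1 : IsIntegral A (⟨c, hc⟩ : C) := (Algebra.IsIntegral.of_finite A C).isIntegral _
    exact h1.map C.val
  have key := ringHom_eq_of_stable (B := B) hle (hstab C hC hle) Ω
    (ψ₁.comp (Subalgebra.inclusion hCint).toRingHom)
    (ψ₂.comp (Subalgebra.inclusion hCint).toRingHom) (by
      ext c
      exact RingHom.congr_fun he c)
  exact RingHom.congr_fun key ⟨a, haC⟩

end main

end Groth.Agent.Helper8.JapFlat
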