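import Mathlib
import Groth.Agent.Lib.Helper8.KLa

/-!
# The key lemma: the global sum of local valuations
-/

set_option autoImplicit false
universe u

namespace Groth.Agent.Helper8.KL

open IsLocalRing

section Sums

variable {A : Type u} [CommRing A] [IsNoetherianRing A]

/-- the sum over the height one primes -/
noncomputable def S (g h : A) : ℤ :=
  ∑ᶠ (q : PrimeSpectrum A) (_ : q.asIdeal.height = 1), vq q g h

theorem finite_Z {x : A} (hx : x ∈ nonZeroDivisors A) :
    {q : PrimeSpectrum A | q.asIdeal.height = 1 ∧ x ∈ q.asIdeal}.Finite := by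
  have hfin := Ideal.finite_minimalPrimes_of_isNoetherianRing A (Ideal.span {x})
  refine Set.Finite.of_finite_image (f := PrimeSpectrum.asIdeal) (hfin.subset ?_) ?_
  · rintro _ ⟨q, ⟨hq1, hxq⟩, rfl⟩
    have hle : Ideal.span {x} ≤ q.asIdeal := (Ideal.span_singleton_le_iff_mem _).mpr hxq
    exact Ideal.mem_minimalPrimes_of_height_le hle
      (by rw [hq1]; exact Ideal.one_le_height_span_singleton_of_mem_nonZeroDivisors hx)
  · intro a _ b _ h
    exact PrimeSpectrum.ext h

theorem exists_finset {x : A} (hx : x ∈ nonZeroDivisors A) :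
    ∃ T : Finset (PrimeSpectrum A), (∀ q ∈ T, q.asIdeal.height = 1) ∧
      ∀ q : PrimeSpectrum A, q.asIdeal.height = 1 → x ∈ q.asIdeal → q ∈ T := by
  refine ⟨(finite_Z hx).toFinset, fun q hq => ?_, fun q hq hxq => ?_⟩
  · exact ((finite_Z hx).mem_toFinset.mp hq).1
  · exact (finite_Z hx).mem_toFinset.mpr ⟨hq, hxq⟩

theorem vq_eq_zero_of_notMem (q : PrimeSpectrum A) (hq : q.asIdeal.height = 1) {g h : A}
    (hgh : g * h ∉ q.asIdeal) : vq q g h = 0 :=
  vq_of_notMem q hq (fun hg => hgh (Ideal.mul_mem_right _ _ hg))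
    (fun hh => hgh (Ideal.mul_mem_left _ _ hh))

theorem S_eq_sum (g h x : A) (hdvd : g * h ∣ x) (T : Finset (PrimeSpectrum A))
    (hT1 : ∀ q ∈ T, q.asIdeal.height = 1)
    (hT2 : ∀ q : PrimeSpectrum A, q.asIdeal.height = 1 → x ∈ q.asIdeal → q ∈ T) :
    S g h = ∑ q ∈ T, vq q g h := by
  unfold S
  show ∑ᶠ q ∈ {q : PrimeSpectrum A | q.asIdeal.height = 1}, vq q g h = _
  apply finsum_mem_eq_sum_of_inter_support_eq
  ext q
  simp only [Set.mem_inter_iff, Set.mem_setOf_eq, Function.mem_support, Finset.mem_coe]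
  constructor
  · rintro ⟨hq, hne⟩
    refine ⟨hT2 q hq ?_, hne⟩
    by_contra hx
    apply hne
    apply vq_eq_zero_of_notMem q hq
    intro hgh
    obtain ⟨c, rfl⟩ := hdvd
    exact hx (Ideal.mul_mem_right c _ hgh)
  · rintro ⟨hqT, hne⟩
    exact ⟨hT1 q hqT, hne⟩

theorem S_mul_left {g g' h : A} (hg : g ∈ nonZeroDivisors A) (hg' : g' ∈ nonZeroDivisors A)
    (hh : h ∈ nonZeroDivisors A) : S (g * g') h = S g h + S g' h := by
  obtain ⟨T, hT1, hT2⟩ := exists_finset (mul_mem (mul_mem hg hg') hh)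
  rw [S_eq_sum (g * g') h (g * g' * h) dvd_rfl T hT1 hT2,
    S_eq_sum g h (g * g' * h) ⟨g', by ring⟩ T hT1 hT2,
    S_eq_sum g' h (g * g' * h) ⟨g, by ring⟩ T hT1 hT2, ← Finset.sum_add_distrib]
  exact Finset.sum_congr rfl fun q hqT => vq_mul_left q (hT1 q hqT) hg hg' hh

theorem S_mul_right {g h h' : A} (hg : g ∈ nonZeroDivisors A) (hh : h ∈ nonZeroDivisors A)
    (hh' : h' ∈ nonZeroDivisors A) : S g (h * h') = S g h + S g h' := by
  obtain ⟨T, hT1, hT2⟩ := exists_finset (mul_mem hg (mul_mem hh hh'))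
  rw [S_eq_sum g (h * h') (g * (h * h')) dvd_rfl T hT1 hT2,
    S_eq_sum g h (g * (h * h')) ⟨h', by ring⟩ T hT1 hT2,
    S_eq_sum g h' (g * (h * h')) ⟨h, by ring⟩ T hT1 hT2, ← Finset.sum_add_distrib]
  exact Finset.sum_congr rfl fun q hqT => vq_mul_right q (hT1 q hqT) hg hh hh'

theorem S_self {g : A} (hg : g ∈ nonZeroDivisors A) : S g g = 0 := by
  obtain ⟨T, hT1, hT2⟩ := exists_finset (mul_mem hg hg)
  rw [S_eq_sum g g (g * g) dvd_rfl T hT1 hT2]
  exact Finset.sum_eq_zero fun q hqT => vq_self q (hT1 q hqT) hg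

theorem S_swap {g h : A} (hg : g ∈ nonZeroDivisors A) (hh : h ∈ nonZeroDivisors A) :
    S g h = - S h g := by
  obtain ⟨T, hT1, hT2⟩ := exists_finset (mul_mem hg hh)
  rw [S_eq_sum g h (g * h) dvd_rfl T hT1 hT2, S_eq_sum h g (g * h) ⟨1, by ring⟩ T hT1 hT2,
    ← Finset.sum_neg_distrib]
  exact Finset.sum_congr rfl fun q hqT => vq_swap q (hT1 q hqT) hg hh

theorem S_one_right {g : A} (hg : g ∈ nonZeroDivisors A) : S g 1 = 0 := by
  have h := S_mul_right hg (one_mem _) (one_mem _)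
  rw [mul_one] at h
  linarith

theorem S_prod_right {ι : Type*} (s : Finset ι) {g : A} (hg : g ∈ nonZeroDivisors A) (f : ι → A)
    (hf : ∀ i ∈ s, f i ∈ nonZeroDivisors A) : S g (∏ i ∈ s, f i) = ∑ i ∈ s, S g (f i) := by
  classical
  induction s using Finset.induction_on with
  | empty => rw [Finset.prod_empty, Finset.sum_empty]; exact S_one_right hg
  | insert a s ha ih =>
    rw [Finset.prod_insert ha, Finset.sum_insert ha,
      S_mul_right hg (hf a (Finset.mem_insert_self a s))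
        (Submonoid.prod_mem _ fun i hi => hf i (Finset.mem_insert_of_mem hi)),
      ih fun i hi => hf i (Finset.mem_insert_of_mem hi)]

theorem S_steinberg {g c : A} (hg : g ∈ nonZeroDivisors A) (hc : c ∈ nonZeroDivisors A)
    (hcg : c - g ∈ nonZeroDivisors A) : S g (c - g) = S c (c - g) + S g c := by
  obtain ⟨T, hT1, hT2⟩ := exists_finset (mul_mem (mul_mem (mul_mem hg hc) hc) hcg)
  have h0 := S_self hc
  rw [S_eq_sum c c (g * c * c * (c - g)) ⟨g * (c - g) , by ring⟩ T hT1 hT2] at h0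
  rw [S_eq_sum g (c - g) (g * c * c * (c - g)) ⟨c * c, by ring⟩ T hT1 hT2,
    S_eq_sum c (c - g) (g * c * c * (c - g)) ⟨g * c, by ring⟩ T hT1 hT2,
    S_eq_sum g c (g * c * c * (c - g)) ⟨c * (c - g), by ring⟩ T hT1 hT2, ← Finset.sum_add_distrib,
    ← add_zero (∑ q ∈ T, vq q g (c - g)), ← h0, ← Finset.sum_add_distrib]
  exact Finset.sum_congr rfl fun q hqT => vq_steinberg q (hT1 q hqT) hg hc hcg

end Sums

section Dim2

variable {A : Type u} [CommRing A] [IsNoetherianRing A] [IsLocalRing A]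

theorem height_maximalIdeal (hA : ringKrullDim A = 2) : (maximalIdeal A).height = 2 := by
  have h := IsLocalRing.maximalIdeal_height_eq_ringKrullDim (R := A)
  rw [hA] at h
  have h' : ((maximalIdeal A).height : WithBot ℕ∞) = ((2 : ℕ∞) : WithBot ℕ∞) := h
  exact WithBot.coe_injective h'

theorem ne_maximal (hA : ringKrullDim A = 2) (q : PrimeSpectrum A)
    (hq : q.asIdeal.height = 1) : q.asIdeal ≠ maximalIdeal A := by
  intro h
  have h2 := height_maximalIdeal hA
  rw [← h, hq] at h2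
  exact absurd h2 (by norm_num)

theorem eq_maximal_of_lt (hA : ringKrullDim A = 2) (q : PrimeSpectrum A)
    (hq : q.asIdeal.height = 1) {p : Ideal A} [hp : p.IsPrime] (hlt : q.asIdeal < p) :
    p = maximalIdeal A := by
  by_contra hne
  have hpm : p < maximalIdeal A := lt_of_le_of_ne (le_maximalIdeal hp.ne_top) hne
  have h1 : q.asIdeal.height < p.height := Ideal.height_strict_mono_of_isPrime hlt
  have h2 : p.height < (maximalIdeal A).height := Ideal.height_strict_mono_of_isPrime hpm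
  rw [hq] at h1
  rw [height_maximalIdeal hA] at h2
  have h3 : (1 : ℕ∞) + 1 ≤ p.height := Order.add_one_le_of_lt h1
  rw [one_add_one_eq_two] at h3
  exact absurd h2 (not_lt.mpr h3)

theorem eq_of_le_of_height_one (q q' : PrimeSpectrum A) (hq : q.asIdeal.height = 1)
    (hq' : q'.asIdeal.height = 1) (hle : q.asIdeal ≤ q'.asIdeal) : q = q' := by
  apply PrimeSpectrum.ext
  exact Ideal.eq_of_le_of_height_le _ hle (by rw [hq, hq'])

theorem krullDimLE_quot (hA : ringKrullDim A = 2) (q : PrimeSpectrum A)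
    (hq : q.asIdeal.height = 1) : Ring.KrullDimLE 1 (A ⧸ q.asIdeal) := by
  rw [Ring.krullDimLE_one_iff_of_noZeroDivisors]
  intro I hI0 hIp
  have hle : q.asIdeal ≤ I.comap (Ideal.Quotient.mk q.asIdeal) := by
    intro x hx
    rw [Ideal.mem_comap, Ideal.Quotient.eq_zero_iff_mem.mpr hx]
    exact I.zero_mem
  have hne : q.asIdeal ≠ I.comap (Ideal.Quotient.mk q.asIdeal) := by
    intro h
    apply hI0
    rw [eq_bot_iff]
    intro y hy
    obtain ⟨x, rfl⟩ := Ideal.Quotient.mk_surjective y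
    have hx : x ∈ q.asIdeal := by rw [h]; exact hy
    exact (Submodule.mem_bot _).mpr (Ideal.Quotient.eq_zero_iff_mem.mpr hx)
  haveI : (I.comap (Ideal.Quotient.mk q.asIdeal)).IsPrime := Ideal.comap_isPrime _ _
  haveI : Nontrivial (A ⧸ q.asIdeal) := Ideal.Quotient.nontrivial_iff.mpr q.isPrime.ne_top
  haveI : IsLocalRing (A ⧸ q.asIdeal) :=
    IsLocalRing.of_surjective' (Ideal.Quotient.mk q.asIdeal) Ideal.Quotient.mk_surjective
  have hmax := eq_maximal_of_lt hA q hq (lt_of_le_of_ne hle hne)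
  have hIm : I = maximalIdeal (A ⧸ q.asIdeal) := by
    refine le_antisymm (le_maximalIdeal hIp.ne_top) ?_
    intro y hy
    obtain ⟨x, rfl⟩ := Ideal.Quotient.mk_surjective y
    have hx : x ∈ maximalIdeal A := by
      rw [mem_maximalIdeal, mem_nonunits_iff]
      intro hu
      exact (mem_maximalIdeal _).mp hy (hu.map (Ideal.Quotient.mk q.asIdeal))
    rw [← hmax] at hx
    exact hx
  rw [hIm]
  exact maximalIdeal.isMaximal _

theorem rq_eq (hA : ringKrullDim A = 2) (q : PrimeSpectrum A) (hq : q.asIdeal.height = 1)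
    {g : A} (hg : g ∉ q.asIdeal) :
    rq q g = ((Ring.ord (A ⧸ q.asIdeal) (Ideal.Quotient.mk q.asIdeal g)).toNat : ℤ) := by
  haveI := krullDimLE_quot hA q hq
  unfold rq
  exact ordFrac_algebraMap _ _ _ (fun h => hg (Ideal.Quotient.eq_zero_iff_mem.mp h))

end Dim2

end Groth.Agent.Helper8.KL
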