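import Mathlib
import Groth.Agent.Lib.Helper8.KLb
import Groth.Agent.Lib.Helper8.OD4
import Groth.Agent.Lib.Helper8.Tame2

/-!
# The key lemma: the transversal case (symmetry of intersection numbers)
-/

set_option autoImplicit false
universe u

namespace Groth.Agent.Helper8.KL

open IsLocalRing
open scoped Pointwise

section Koszul

variable {A : Type u} [CommRing A]

/-- the module of relations `h x = g y` -/
def Gam (g h : A) : Submodule A (A × A) where
  carrier := {p | h * p.1 = g * p.2}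
  add_mem' := by
    intro p p' hp hp'
    have h1 : h * p.1 = g * p.2 := hp
    have h2 : h * p'.1 = g * p'.2 := hp'
    show h * (p + p').1 = g * (p + p').2
    rw [Prod.fst_add, Prod.snd_add, mul_add, mul_add, h1, h2]
  zero_mem' := by
    show h * (0 : A × A).1 = g * (0 : A × A).2
    rw [Prod.fst_zero, Prod.snd_zero, mul_zero, mul_zero]
  smul_mem' := by
    intro c p hp
    have h1 : h * p.1 = g * p.2 := hp
    show h * (c • p).1 = g * (c • p).2
    rw [Prod.smul_fst, Prod.smul_snd, smul_eq_mul, smul_eq_mul, mul_left_comm, h1, mul_left_comm]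

noncomputable def pi1 (g h : A) : Gam g h →ₗ[A] A ⧸ Ideal.span {g} :=
  (Submodule.mkQ (Ideal.span {g})).comp ((LinearMap.fst A A A).comp (Gam g h).subtype)

noncomputable def pi2 (g h : A) : Gam g h →ₗ[A] A ⧸ Ideal.span {h} :=
  (Submodule.mkQ (Ideal.span {h})).comp ((LinearMap.snd A A A).comp (Gam g h).subtype)

theorem range_pi1 (g h : A) :
    LinearMap.range (pi1 g h) = LinearMap.ker (LinearMap.lsmul A (A ⧸ Ideal.span {g}) h) := by
  ext z
  rw [LinearMap.mem_range, LinearMap.mem_ker]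
  constructor
  · rintro ⟨⟨p, hp⟩, rfl⟩
    have h1 : h * p.1 = g * p.2 := hp
    show h • (Ideal.Quotient.mk (Ideal.span {g}) p.1) = 0
    rw [Algebra.smul_def, Ideal.Quotient.algebraMap_eq, ← map_mul, h1]
    exact Ideal.Quotient.eq_zero_iff_mem.mpr
      (Ideal.mul_mem_right _ _ (Ideal.mem_span_singleton_self g))
  · intro hz
    obtain ⟨x, rfl⟩ := Ideal.Quotient.mk_surjective z
    have h1 : h • (Ideal.Quotient.mk (Ideal.span {g}) x) = 0 := hz
    rw [Algebra.smul_def, Ideal.Quotient.algebraMap_eq, ← map_mul, Ideal.Quotient.eq_zero_iff_mem,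
      Ideal.mem_span_singleton'] at h1
    obtain ⟨y, hy⟩ := h1
    exact ⟨⟨(x, y), by show h * x = g * y; rw [← hy, mul_comm]⟩, rfl⟩

theorem range_pi2 (g h : A) :
    LinearMap.range (pi2 g h) = LinearMap.ker (LinearMap.lsmul A (A ⧸ Ideal.span {h}) g) := by
  ext z
  rw [LinearMap.mem_range, LinearMap.mem_ker]
  constructor
  · rintro ⟨⟨p, hp⟩, rfl⟩
    have h1 : h * p.1 = g * p.2 := hp
    show g • (Ideal.Quotient.mk (Ideal.span {h}) p.2) = 0
    rw [Algebra.smul_def, Ideal.Quotient.algebraMap_eq, ← map_mul, ← h1]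
    exact Ideal.Quotient.eq_zero_iff_mem.mpr
      (Ideal.mul_mem_right _ _ (Ideal.mem_span_singleton_self h))
  · intro hz
    obtain ⟨y, rfl⟩ := Ideal.Quotient.mk_surjective z
    have h1 : g • (Ideal.Quotient.mk (Ideal.span {h}) y) = 0 := hz
    rw [Algebra.smul_def, Ideal.Quotient.algebraMap_eq, ← map_mul, Ideal.Quotient.eq_zero_iff_mem,
      Ideal.mem_span_singleton'] at h1
    obtain ⟨x, hx⟩ := h1
    exact ⟨⟨(x, y), by show h * x = g * y; rw [← hx, mul_comm]⟩, rfl⟩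

theorem ker_pi1_eq_ker_pi2 {g h : A} (hg : g ∈ nonZeroDivisors A) (hh : h ∈ nonZeroDivisors A) :
    LinearMap.ker (pi1 g h) = LinearMap.ker (pi2 g h) := by
  ext ⟨p, hp⟩
  have h1 : h * p.1 = g * p.2 := hp
  rw [LinearMap.mem_ker, LinearMap.mem_ker]
  show Ideal.Quotient.mk (Ideal.span {g}) p.1 = 0 ↔ Ideal.Quotient.mk (Ideal.span {h}) p.2 = 0
  rw [Ideal.Quotient.eq_zero_iff_mem, Ideal.Quotient.eq_zero_iff_mem, Ideal.mem_span_singleton',
    Ideal.mem_span_singleton']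
  constructor
  · rintro ⟨z, hz⟩
    refine ⟨z, ?_⟩
    have h2 : g * (z * h) = g * p.2 := by rw [← h1, ← hz]; ring
    exact (mul_cancel_left_mem_nonZeroDivisors hg).mp h2
  · rintro ⟨z, hz⟩
    refine ⟨z, ?_⟩
    have h2 : h * (z * g) = h * p.1 := by rw [h1, ← hz]; ring
    exact (mul_cancel_left_mem_nonZeroDivisors hh).mp h2

theorem length_ker_comm {g h : A} (hg : g ∈ nonZeroDivisors A) (hh : h ∈ nonZeroDivisors A) :
    Module.length A (LinearMap.ker (LinearMap.lsmul A (A ⧸ Ideal.span {g}) h)) =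
      Module.length A (LinearMap.ker (LinearMap.lsmul A (A ⧸ Ideal.span {h}) g)) := by
  rw [← range_pi1 g h, ← range_pi2 g h, ← (pi1 g h).quotKerEquivRange.length_eq,
    ← (pi2 g h).quotKerEquivRange.length_eq, ker_pi1_eq_ker_pi2 hg hh]

theorem length_quotSMulTop_quot (I : Ideal A) (x : A) :
    Module.length A (QuotSMulTop x (A ⧸ I)) = Module.length A (A ⧸ (I ⊔ Ideal.span {x})) :=
  ((Submodule.quotEquivOfEq _ _ (OD.smul_top_quotient_eq_map I x)).trans
    (Submodule.quotientQuotientEquivQuotientSup I (Ideal.span {x}))).length_eq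

end Koszul

section Transversal

variable {A : Type u} [CommRing A] [IsNoetherianRing A] [IsLocalRing A]

theorem height_eq_one_of_mem (hA : ringKrullDim A = 2) (p : PrimeSpectrum A) {g : A}
    (hg : g ∈ nonZeroDivisors A) (hgp : g ∈ p.asIdeal) (hpm : p.asIdeal ≠ maximalIdeal A) :
    p.asIdeal.height = 1 := by
  apply le_antisymm
  · have hlt : p.asIdeal < maximalIdeal A :=
      lt_of_le_of_ne (le_maximalIdeal p.isPrime.ne_top) hpm
    have h2 : p.asIdeal.height < (maximalIdeal A).height :=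
      Ideal.height_strict_mono_of_isPrime hlt
    rw [height_maximalIdeal hA, ← one_add_one_eq_two] at h2
    exact Order.le_of_lt_add_one h2
  · exact (Ideal.one_le_height_span_singleton_of_mem_nonZeroDivisors hg).trans
      (Ideal.height_mono ((Ideal.span_singleton_le_iff_mem _).mpr hgp))

theorem formula (hA : ringKrullDim A = 2) {g h : A} (hg : g ∈ nonZeroDivisors A)
    (htr : ∀ q : PrimeSpectrum A, q.asIdeal.height = 1 → g ∈ q.asIdeal → h ∉ q.asIdeal)
    (T : Finset (PrimeSpectrum A)) (hT1 : ∀ q ∈ T, q.asIdeal.height = 1 ∧ g ∈ q.asIdeal)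
    (hT2 : ∀ q : PrimeSpectrum A, q.asIdeal.height = 1 → g ∈ q.asIdeal → q ∈ T) :
    Module.length A (A ⧸ (Ideal.span {g} ⊔ Ideal.span {h})) =
      Module.length A (LinearMap.ker (LinearMap.lsmul A (A ⧸ Ideal.span {g}) h)) +
        ((∑ q ∈ T, oq q g *
          (Ring.ord (A ⧸ q.asIdeal) (Ideal.Quotient.mk q.asIdeal h)).toNat : ℕ) : ℕ∞) ∧
    Module.length A (LinearMap.ker (LinearMap.lsmul A (A ⧸ Ideal.span {g}) h)) ≠ ⊤ := by
  have hadm : ∀ p ∈ Module.support A (A ⧸ Ideal.span {g}), OD.Adm h T p := by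
    intro p hp
    have hgp : g ∈ p.asIdeal := by
      rw [Module.support_eq_zeroLocus, Ideal.annihilator_quotient,
        PrimeSpectrum.mem_zeroLocus] at hp
      exact hp (Ideal.mem_span_singleton_self g)
    by_cases hpm : p.asIdeal = maximalIdeal A
    · right
      refine ⟨hpm ▸ maximalIdeal.isMaximal A, fun q hqT hle => ?_⟩
      apply ne_maximal hA q (hT1 q hqT).1
      rw [hpm] at hle
      exact le_antisymm (le_maximalIdeal q.isPrime.ne_top) hle
    · left
      have hp1 := height_eq_one_of_mem hA p hg hgp hpm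
      exact ⟨hT2 p hp1 hgp, htr p hp1 hgp⟩
  have hanti : ∀ p ∈ T, ∀ q ∈ T, p.asIdeal ≤ q.asIdeal → p = q :=
    fun p hp q hq hle => eq_of_le_of_height_one p q (hT1 p hp).1 (hT1 q hq).1 hle
  have hmain := OD.length_quot_eq h T hanti (A ⧸ Ideal.span {g}) hadm
  have hker := OD.isFiniteLength_ker h T (A ⧸ Ideal.span {g}) hadm
  rw [length_quotSMulTop_quot] at hmain
  refine ⟨?_, Module.length_ne_top_iff.mpr hker⟩
  rw [hmain]
  congr 1
  unfold OD.locSum
  rw [Nat.cast_sum]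
  refine Finset.sum_congr rfl fun q hqT => ?_
  rw [OD.wt_eq_ord, Tame.length_localized_quotient_span, Nat.cast_mul]
  have h1 : ((oq q g : ℕ) : ℕ∞) = Ring.ord (Localization.AtPrime q.asIdeal)
      (algebraMap A (Localization.AtPrime q.asIdeal) g) := by
    unfold oq
    haveI := krullDimLE_loc q (hT1 q hqT).1
    exact ENat.coe_toNat (Ring.ord_ne_top (alg_nzd q hg))
  have h2 : (((Ring.ord (A ⧸ q.asIdeal) (Ideal.Quotient.mk q.asIdeal h)).toNat : ℕ) : ℕ∞)
      = Ring.ord (A ⧸ q.asIdeal) (Ideal.Quotient.mk q.asIdeal h) := by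
    haveI := krullDimLE_quot hA q (hT1 q hqT).1
    apply ENat.coe_toNat
    apply Ring.ord_ne_top
    exact mem_nonZeroDivisors_of_ne_zero (fun h0 =>
      htr q (hT1 q hqT).1 (hT1 q hqT).2 (Ideal.Quotient.eq_zero_iff_mem.mp h0))
  rw [h1, h2, mul_comm]

theorem S_transversal (hA : ringKrullDim A = 2) {g h : A} (hg : g ∈ nonZeroDivisors A)
    (hh : h ∈ nonZeroDivisors A)
    (htr : ∀ q : PrimeSpectrum A, q.asIdeal.height = 1 → g ∈ q.asIdeal → h ∉ q.asIdeal) :
    S g h = 0 := by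
  classical
  obtain ⟨Tg, hTg1, hTg2⟩ : ∃ T : Finset (PrimeSpectrum A),
      (∀ q ∈ T, q.asIdeal.height = 1 ∧ g ∈ q.asIdeal) ∧
        ∀ q : PrimeSpectrum A, q.asIdeal.height = 1 → g ∈ q.asIdeal → q ∈ T :=
    ⟨(finite_Z hg).toFinset, fun q hq => (finite_Z hg).mem_toFinset.mp hq,
      fun q h1 h2 => (finite_Z hg).mem_toFinset.mpr ⟨h1, h2⟩⟩
  obtain ⟨Th, hTh1, hTh2⟩ : ∃ T : Finset (PrimeSpectrum A),
      (∀ q ∈ T, q.asIdeal.height = 1 ∧ h ∈ q.asIdeal) ∧
        ∀ q : PrimeSpectrum A, q.asIdeal.height = 1 → h ∈ q.asIdeal → q ∈ T :=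
    ⟨(finite_Z hh).toFinset, fun q hq => (finite_Z hh).mem_toFinset.mp hq,
      fun q h1 h2 => (finite_Z hh).mem_toFinset.mpr ⟨h1, h2⟩⟩
  have htr' : ∀ q : PrimeSpectrum A, q.asIdeal.height = 1 → h ∈ q.asIdeal → g ∉ q.asIdeal :=
    fun q h1 hh' hg' => htr q h1 hg' hh'
  obtain ⟨f1, k1⟩ := formula hA hg htr Tg hTg1 hTg2
  obtain ⟨f2, -⟩ := formula hA hh htr' Th hTh1 hTh2
  rw [sup_comm (Ideal.span {h}) (Ideal.span {g}), length_ker_comm hh hg, f1] at f2
  have hXY := WithTop.add_left_cancel k1 f2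
  have hXY' : (∑ q ∈ Tg, oq q g *
      (Ring.ord (A ⧸ q.asIdeal) (Ideal.Quotient.mk q.asIdeal h)).toNat) =
      ∑ q ∈ Th, oq q h * (Ring.ord (A ⧸ q.asIdeal) (Ideal.Quotient.mk q.asIdeal g)).toNat := by
    exact ENat.coe_inj.mp hXY
  have hdisj : Disjoint Tg Th := Finset.disjoint_left.mpr fun q h1 h2 =>
    htr q (hTg1 q h1).1 (hTg1 q h1).2 (hTh1 q h2).2
  have hc1 : ∀ q ∈ Tg ∪ Th, q.asIdeal.height = 1 := by
    intro q hq
    rcases Finset.mem_union.mp hq with h1 | h1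
    · exact (hTg1 q h1).1
    · exact (hTh1 q h1).1
  have hc2 : ∀ q : PrimeSpectrum A, q.asIdeal.height = 1 → g * h ∈ q.asIdeal → q ∈ Tg ∪ Th := by
    intro q hq1 hq2
    rcases q.isPrime.mem_or_mem hq2 with h1 | h1
    · exact Finset.mem_union_left _ (hTg2 q hq1 h1)
    · exact Finset.mem_union_right _ (hTh2 q hq1 h1)
  rw [S_eq_sum g h (g * h) dvd_rfl (Tg ∪ Th) hc1 hc2, Finset.sum_union hdisj]
  have e1 : ∑ q ∈ Tg, vq q g h = - ((∑ q ∈ Tg, oq q g *
      (Ring.ord (A ⧸ q.asIdeal) (Ideal.Quotient.mk q.asIdeal h)).toNat : ℕ) : ℤ) := by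
    rw [Nat.cast_sum, ← Finset.sum_neg_distrib]
    refine Finset.sum_congr rfl fun q hq => ?_
    rw [vq_unit_right q (hTg1 q hq).1 hg hh (htr q (hTg1 q hq).1 (hTg1 q hq).2),
      rq_eq hA q (hTg1 q hq).1 (htr q (hTg1 q hq).1 (hTg1 q hq).2), Nat.cast_mul]
  have e2 : ∑ q ∈ Th, vq q g h = ((∑ q ∈ Th, oq q h *
      (Ring.ord (A ⧸ q.asIdeal) (Ideal.Quotient.mk q.asIdeal g)).toNat : ℕ) : ℤ) := by
    rw [Nat.cast_sum]
    refine Finset.sum_congr rfl fun q hq => ?_
    rw [vq_unit_left q (hTh1 q hq).1 (htr' q (hTh1 q hq).1 (hTh1 q hq).2) hh,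
      rq_eq hA q (hTh1 q hq).1 (htr' q (hTh1 q hq).1 (hTh1 q hq).2), Nat.cast_mul]
  rw [e1, e2, hXY']
  ring

end Transversal

end Groth.Agent.Helper8.KL
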