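import Mathlib
import Groth.Agent.Lib.Helper8.KLc
import Groth.Agent.Lib.Helper8.Tame11

/-!
# The key lemma: avoidance constructions and invariance under local associates
-/

set_option autoImplicit false
universe u

namespace Groth.Agent.Helper8.KL

open IsLocalRing

section Avoid

variable {A : Type u} [CommRing A] [IsNoetherianRing A]

theorem not_mem_of_mem_associatedPrimes {p : Ideal A} (hp : p ∈ associatedPrimes A A) {y : A}
    (hy : y ∈ nonZeroDivisors A) : y ∉ p := by
  intro hyp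
  have h1 : y ∈ ⋃ p ∈ associatedPrimes A A, (p : Set A) := Set.mem_biUnion hp hyp
  rw [biUnion_associatedPrimes_eq_compl_nonZeroDivisors] at h1
  exact h1 hy

theorem exists_mem_associatedPrimes_of_not_nzd {x : A} (hx : x ∉ nonZeroDivisors A) :
    ∃ p ∈ associatedPrimes A A, x ∈ p := by
  have h1 : x ∈ ⋃ p ∈ associatedPrimes A A, (p : Set A) := by
    rw [biUnion_associatedPrimes_eq_compl_nonZeroDivisors]
    exact hx
  obtain ⟨p, hp, hxp⟩ := Set.mem_iUnion₂.mp h1
  exact ⟨p, hp, hxp⟩

theorem exists_avoid (I J : Ideal A) (F : Finset (PrimeSpectrum A)) (hIJ : ¬ I ≤ J)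
    (hF : ∀ p ∈ F, ¬ I ≤ p.asIdeal) (hnzd : ∃ y ∈ I, y ∈ nonZeroDivisors A) :
    ∃ x ∈ I, x ∈ nonZeroDivisors A ∧ x ∉ J ∧ ∀ p ∈ F, x ∉ p.asIdeal := by
  classical
  have hfin : (associatedPrimes A A).Finite := associatedPrimes.finite A A
  let s : Finset (Ideal A) := insert J (F.image PrimeSpectrum.asIdeal ∪ hfin.toFinset)
  by_contra hcon
  push Not at hcon
  have hsub : (I : Set A) ⊆ ⋃ i ∈ (↑s : Set (Ideal A)), ((fun i : Ideal A => i) i : Set A) := by
    intro x hx
    by_cases hxJ : x ∈ J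
    · exact Set.mem_biUnion (x := J) (Finset.mem_coe.mpr (Finset.mem_insert_self _ _)) hxJ
    by_cases hxn : x ∈ nonZeroDivisors A
    · obtain ⟨p, hpF, hxp⟩ := hcon x hx hxn hxJ
      refine Set.mem_biUnion (x := p.asIdeal) ?_ hxp
      exact Finset.mem_coe.mpr (Finset.mem_insert_of_mem
        (Finset.mem_union_left _ (Finset.mem_image_of_mem _ hpF)))
    · obtain ⟨p, hp, hxp⟩ := exists_mem_associatedPrimes_of_not_nzd hxn
      refine Set.mem_biUnion (x := p) ?_ hxp
      exact Finset.mem_coe.mpr (Finset.mem_insert_of_mem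
        (Finset.mem_union_right _ (hfin.mem_toFinset.mpr hp)))
  have hprime : ∀ i ∈ s, i ≠ J → i ≠ J → ((fun i : Ideal A => i) i).IsPrime := by
    intro i hi hiJ _
    rcases Finset.mem_insert.mp hi with h | h
    · exact absurd h hiJ
    · rcases Finset.mem_union.mp h with h | h
      · obtain ⟨p, -, rfl⟩ := Finset.mem_image.mp h
        exact p.isPrime
      · exact (hfin.mem_toFinset.mp h).isPrime
  obtain ⟨i, his, hIi⟩ := (Ideal.subset_union_prime J J hprime).mp hsub
  rcases Finset.mem_insert.mp his with h | h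
  · exact hIJ (h ▸ hIi)
  · rcases Finset.mem_union.mp h with h | h
    · obtain ⟨p, hpF, rfl⟩ := Finset.mem_image.mp h
      exact hF p hpF hIi
    · obtain ⟨y, hyI, hyn⟩ := hnzd
      exact not_mem_of_mem_associatedPrimes (hfin.mem_toFinset.mp h) hyn (hIi hyI)

end Avoid

section Tfrac

variable {A : Type u} [CommRing A] [IsNoetherianRing A]

/-- `x` and `y` generate the same ideal of `A_q` -/
def AssocAt (q : PrimeSpectrum A) (x y : A) : Prop :=
  Associated (algebraMap A (Localization.AtPrime q.asIdeal) x)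
    (algebraMap A (Localization.AtPrime q.asIdeal) y)

theorem AssocAt.symm {q : PrimeSpectrum A} {x y : A} (h : AssocAt q x y) : AssocAt q y x :=
  Associated.symm h

theorem assocAt_of_notMem (q : PrimeSpectrum A) {x y : A} (hx : x ∉ q.asIdeal)
    (hy : y ∉ q.asIdeal) : AssocAt q x y :=
  (associated_one_iff_isUnit.mpr (alg_isUnit q hx)).trans
    (associated_one_iff_isUnit.mpr (alg_isUnit q hy)).symm

theorem notMem_of_assocAt (q : PrimeSpectrum A) {x y : A} (h : AssocAt q x y)
    (hy : y ∉ q.asIdeal) : x ∉ q.asIdeal := by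
  intro hx
  have hu : IsUnit (algebraMap A (Localization.AtPrime q.asIdeal) x) :=
    (Associated.isUnit_iff h).mpr (alg_isUnit q hy)
  exact ((IsLocalization.AtPrime.isUnit_to_map_iff (Localization.AtPrime q.asIdeal)
    q.asIdeal x).mp hu) hx

theorem exists_notMem_colon (q : PrimeSpectrum A) {h k : A} (hass : AssocAt q h k) :
    ∃ s, s ∉ q.asIdeal ∧ s ∈ (Ideal.span {k}).colon {h} := by
  obtain ⟨u, hu⟩ := hass
  obtain ⟨⟨z, s⟩, hzs⟩ := IsLocalization.surj q.asIdeal.primeCompl
    ((u⁻¹ : (Localization.AtPrime q.asIdeal)ˣ) : Localization.AtPrime q.asIdeal)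
  have hzs' : ((u⁻¹ : (Localization.AtPrime q.asIdeal)ˣ) : Localization.AtPrime q.asIdeal) *
      algebraMap A (Localization.AtPrime q.asIdeal) (s : A)
        = algebraMap A (Localization.AtPrime q.asIdeal) z := hzs
  have h1 : algebraMap A (Localization.AtPrime q.asIdeal) ((s : A) * h)
      = algebraMap A (Localization.AtPrime q.asIdeal) (z * k) := by
    rw [map_mul, map_mul, ← hu, ← hzs']
    have h2 : ((u⁻¹ : (Localization.AtPrime q.asIdeal)ˣ) : Localization.AtPrime q.asIdeal) *
        (u : Localization.AtPrime q.asIdeal) = 1 := Units.inv_mul u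
    calc algebraMap A (Localization.AtPrime q.asIdeal) (s : A) *
          algebraMap A (Localization.AtPrime q.asIdeal) h
        = (((u⁻¹ : (Localization.AtPrime q.asIdeal)ˣ) : Localization.AtPrime q.asIdeal) *
            (u : Localization.AtPrime q.asIdeal)) *
          (algebraMap A (Localization.AtPrime q.asIdeal) (s : A) *
            algebraMap A (Localization.AtPrime q.asIdeal) h) := by rw [h2, one_mul]
      _ = _ := by ring
  obtain ⟨s', hs'⟩ := (IsLocalization.eq_iff_exists q.asIdeal.primeCompl _).mp h1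
  refine ⟨(s' : A) * (s : A), q.asIdeal.primeCompl.mul_mem s'.2 s.2, ?_⟩
  rw [Submodule.mem_colon_singleton, smul_eq_mul, Ideal.mem_span_singleton']
  exact ⟨(s' : A) * z, by rw [mul_assoc, mul_assoc, ← hs']⟩

variable [IsLocalRing A]

theorem S_congr_right (hA : ringKrullDim A = 2) {c h k : A} (hc : c ∈ nonZeroDivisors A)
    (hh : h ∈ nonZeroDivisors A) (hk : k ∈ nonZeroDivisors A)
    (hass : ∀ q : PrimeSpectrum A, q.asIdeal.height = 1 → c ∈ q.asIdeal → AssocAt q h k) :
    S c h = S c k := by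
  classical
  have hF : ∀ p ∈ (finite_Z hc).toFinset, ¬ (Ideal.span {k}).colon {h} ≤ p.asIdeal := by
    intro p hp hle
    obtain ⟨hp1, hcp⟩ := (finite_Z hc).mem_toFinset.mp hp
    obtain ⟨s, hs1, hs2⟩ := exists_notMem_colon p (hass p hp1 hcp)
    exact hs1 (hle hs2)
  have hkd : k ∈ (Ideal.span {k}).colon {h} := by
    rw [Submodule.mem_colon_singleton, smul_eq_mul]
    exact Ideal.mul_mem_right _ _ (Ideal.mem_span_singleton_self k)
  obtain ⟨k1, hk1d, hk1n, -, hk1F⟩ := exists_avoid ((Ideal.span {k}).colon {h}) ⊥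
    (finite_Z hc).toFinset
    (fun hle => (nonZeroDivisors.ne_zero hk) ((Submodule.mem_bot _).mp (hle hkd))) hF ⟨k, hkd, hk⟩
  rw [Submodule.mem_colon_singleton, smul_eq_mul, Ideal.mem_span_singleton'] at hk1d
  obtain ⟨h1, hh1⟩ := hk1d
  have hh1n : h1 ∈ nonZeroDivisors A := by
    have h2 : h1 * k ∈ nonZeroDivisors A := hh1 ▸ mul_mem hk1n hh
    exact (mul_mem_nonZeroDivisors.mp h2).1
  have t1 : ∀ q : PrimeSpectrum A, q.asIdeal.height = 1 → c ∈ q.asIdeal → k1 ∉ q.asIdeal :=
    fun q hq1 hcq => hk1F q ((finite_Z hc).mem_toFinset.mpr ⟨hq1, hcq⟩)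
  have t2 : ∀ q : PrimeSpectrum A, q.asIdeal.height = 1 → c ∈ q.asIdeal → h1 ∉ q.asIdeal := by
    intro q hq1 hcq hh1q
    obtain ⟨u, hu⟩ := hass q hq1 hcq
    have e0 : algebraMap A (Localization.AtPrime q.asIdeal) h1 *
        algebraMap A (Localization.AtPrime q.asIdeal) k =
        algebraMap A (Localization.AtPrime q.asIdeal) k1 *
        algebraMap A (Localization.AtPrime q.asIdeal) h := by
      rw [← map_mul, ← map_mul, hh1]
    rw [← hu] at e0
    have e1 : algebraMap A (Localization.AtPrime q.asIdeal) h *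
        (algebraMap A (Localization.AtPrime q.asIdeal) h1 * (u : Localization.AtPrime q.asIdeal))
        = algebraMap A (Localization.AtPrime q.asIdeal) h *
          algebraMap A (Localization.AtPrime q.asIdeal) k1 := by
      rw [mul_comm (algebraMap A (Localization.AtPrime q.asIdeal) h)
        (algebraMap A (Localization.AtPrime q.asIdeal) k1), ← e0]
      ring
    have e2 := (mul_cancel_left_mem_nonZeroDivisors (alg_nzd q hh)).mp e1
    have hu1 : IsUnit (algebraMap A (Localization.AtPrime q.asIdeal) h1 *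
        (u : Localization.AtPrime q.asIdeal)) := by
      rw [e2]; exact alg_isUnit q (t1 q hq1 hcq)
    have hu2 : IsUnit (algebraMap A (Localization.AtPrime q.asIdeal) h1) :=
      isUnit_of_mul_isUnit_left hu1
    exact ((IsLocalization.AtPrime.isUnit_to_map_iff (Localization.AtPrime q.asIdeal)
      q.asIdeal h1).mp hu2) hh1q
  have z1 := S_transversal hA hc hk1n t1
  have z2 := S_transversal hA hc hh1n t2
  have e3 := S_mul_right hc hk1n hh
  have e4 := S_mul_right hc hh1n hk
  rw [← hh1, e4, z1, z2] at e3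
  linarith

end Tfrac

section Gen

variable {A : Type u} [CommRing A] [IsNoetherianRing A] [IsLocalRing A]

theorem exists_local_gen (hA : ringKrullDim A = 2) (q : PrimeSpectrum A)
    (hq : q.asIdeal.height = 1) (hqn : ∃ y ∈ q.asIdeal, y ∈ nonZeroDivisors A)
    (ρ : Localization.AtPrime q.asIdeal)
    (hρ : ρ ∈ nonZeroDivisors (Localization.AtPrime q.asIdeal))
    (F : Finset (PrimeSpectrum A)) (hF : ∀ p ∈ F, p.asIdeal.height = 1 ∧ p ≠ q) :
    ∃ x ∈ nonZeroDivisors A,
      Associated (algebraMap A (Localization.AtPrime q.asIdeal) x) ρ ∧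
        ∀ p ∈ F, x ∉ p.asIdeal := by
  haveI := krullDimLE_loc q hq
  let I : Ideal A := (Ideal.span {ρ}).comap (algebraMap A (Localization.AtPrime q.asIdeal))
  let J : Ideal A := (Ideal.span {ρ} * maximalIdeal (Localization.AtPrime q.asIdeal)).comap (algebraMap A (Localization.AtPrime q.asIdeal))
  obtain ⟨N, hN⟩ := Tame.exists_pow_maximalIdeal_le_span hρ
  have hqNI : q.asIdeal ^ N ≤ I := by
    intro z hz
    have h1 : algebraMap A (Localization.AtPrime q.asIdeal) z ∈ Ideal.map (algebraMap A (Localization.AtPrime q.asIdeal)) (q.asIdeal ^ N) :=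
      Ideal.mem_map_of_mem _ hz
    rw [Ideal.map_pow, Localization.AtPrime.map_eq_maximalIdeal] at h1
    exact hN h1
  obtain ⟨⟨y, s⟩, hys⟩ := IsLocalization.surj q.asIdeal.primeCompl ρ
  have hys' : ρ * algebraMap A (Localization.AtPrime q.asIdeal) (s : A) = algebraMap A (Localization.AtPrime q.asIdeal) y := hys
  have hyI : y ∈ I := by
    show algebraMap A (Localization.AtPrime q.asIdeal) y ∈ Ideal.span {ρ}
    rw [← hys']
    exact Ideal.mul_mem_right _ _ (Ideal.mem_span_singleton_self ρ)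
  have hIJ : ¬ I ≤ J := by
    intro hle
    have h1 : algebraMap A (Localization.AtPrime q.asIdeal) y ∈ Ideal.span {ρ} * maximalIdeal (Localization.AtPrime q.asIdeal) := hle hyI
    obtain ⟨m, hm, hρm⟩ := Ideal.mem_span_singleton_mul.mp h1
    rw [← hys'] at hρm
    have h2 := (mul_cancel_left_mem_nonZeroDivisors hρ).mp hρm
    have h3 : IsUnit m := h2 ▸ alg_isUnit q s.2
    exact (mem_maximalIdeal _).mp hm h3
  have hFI : ∀ p ∈ F, ¬ I ≤ p.asIdeal := by
    intro p hp hle
    have h1 : q.asIdeal ≤ p.asIdeal := Ideal.IsPrime.le_of_pow_le (hqNI.trans hle)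
    exact (hF p hp).2 (eq_of_le_of_height_one q p hq (hF p hp).1 h1).symm
  obtain ⟨y0, hy0q, hy0n⟩ := hqn
  obtain ⟨x, hxI, hxn, hxJ, hxF⟩ := exists_avoid I J F hIJ hFI
    ⟨y0 ^ N, hqNI (Ideal.pow_mem_pow hy0q N), pow_mem hy0n N⟩
  refine ⟨x, hxn, ?_, hxF⟩
  have hxI' : algebraMap A (Localization.AtPrime q.asIdeal) x ∈ Ideal.span {ρ} := hxI
  obtain ⟨w, hw⟩ := Ideal.mem_span_singleton'.mp hxI'
  have hwu : IsUnit w := by
    by_contra hnu
    apply hxJ
    show algebraMap A (Localization.AtPrime q.asIdeal) x ∈ Ideal.span {ρ} * maximalIdeal (Localization.AtPrime q.asIdeal)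
    rw [Ideal.mem_span_singleton_mul]
    exact ⟨w, (mem_maximalIdeal _).mpr hnu, by rw [← hw, mul_comm]⟩
  rw [← hw]
  exact associated_unit_mul_left ρ w hwu

theorem exists_lambda (hA : ringKrullDim A = 2) (q : PrimeSpectrum A)
    (hq : q.asIdeal.height = 1) {g h : A} (hg : g ∈ nonZeroDivisors A) (hgq : g ∈ q.asIdeal)
    (F : Finset (PrimeSpectrum A)) (hF : ∀ p ∈ F, p.asIdeal.height = 1 ∧ p ≠ q) :
    ∃ l : A, l ∈ q.asIdeal ∧ l ∈ nonZeroDivisors A ∧ (∀ p ∈ F, l ∉ p.asIdeal) ∧
      g + l * h ∈ nonZeroDivisors A := by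
  classical
  have hfin : (associatedPrimes A A).Finite := associatedPrimes.finite A A
  have stepA : ∀ P : Ideal A, ∃ N : ℕ, P ∈ associatedPrimes A A →
      ∀ l ∈ maximalIdeal A ^ N, g + l * h ∉ P := by
    intro P
    by_cases hP : P ∈ associatedPrimes A A
    · by_contra hcon
      push Not at hcon
      have hmem : (Ideal.Quotient.mk P g : A ⧸ P) ∈
          (⨅ i : ℕ, maximalIdeal A ^ i • ⊤ : Submodule A (A ⧸ P)) := by
        rw [Submodule.mem_iInf]
        intro N
        obtain ⟨-, l, hl, hlP⟩ := hcon N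
        have h1 : (Ideal.Quotient.mk P g : A ⧸ P) = - (l • (Ideal.Quotient.mk P h : A ⧸ P)) := by
          rw [Algebra.smul_def, Ideal.Quotient.algebraMap_eq, ← map_mul, ← map_neg,
            ← sub_eq_zero, ← map_sub, Ideal.Quotient.eq_zero_iff_mem]
          have : g - -(l * h) = g + l * h := by ring
          rw [this]
          exact hlP
        rw [h1]
        exact Submodule.neg_mem _ (Submodule.smul_mem_smul hl Submodule.mem_top)
      rw [Ideal.iInf_pow_smul_eq_bot_of_isLocalRing (maximalIdeal A)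
        (maximalIdeal.isMaximal A).ne_top, Submodule.mem_bot, Ideal.Quotient.eq_zero_iff_mem] at hmem
      exact not_mem_of_mem_associatedPrimes hP hg hmem
    · exact ⟨0, fun h' => absurd h' hP⟩
  choose Nf hNf using stepA
  let N : ℕ := hfin.toFinset.sup Nf
  have hI1 : ∀ p ∈ F, ¬ q.asIdeal * maximalIdeal A ^ N ≤ p.asIdeal := by
    intro p hp hle
    rcases (Ideal.IsPrime.mul_le p.isPrime).mp hle with h1 | h1
    · exact (hF p hp).2 (eq_of_le_of_height_one q p hq (hF p hp).1 h1).symm
    · have h2 : maximalIdeal A ≤ p.asIdeal := Ideal.IsPrime.le_of_pow_le h1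
      exact ne_maximal hA p (hF p hp).1
        (le_antisymm (le_maximalIdeal p.isPrime.ne_top) h2)
  have hgm : g ∈ maximalIdeal A := le_maximalIdeal q.isPrime.ne_top hgq
  have hy : g * g ^ N ∈ q.asIdeal * maximalIdeal A ^ N :=
    Ideal.mul_mem_mul hgq (Ideal.pow_mem_pow hgm N)
  have hyn : g * g ^ N ∈ nonZeroDivisors A := mul_mem hg (pow_mem hg N)
  obtain ⟨l, hlI, hln, -, hlF⟩ := exists_avoid (q.asIdeal * maximalIdeal A ^ N) ⊥ F
    (fun hle => (nonZeroDivisors.ne_zero hyn) ((Submodule.mem_bot _).mp (hle hy))) hI1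
    ⟨_, hy, hyn⟩
  refine ⟨l, Ideal.mul_le_left hlI, hln, hlF, ?_⟩
  by_contra hnz
  obtain ⟨P, hP, hcP⟩ := exists_mem_associatedPrimes_of_not_nzd hnz
  have hlN : l ∈ maximalIdeal A ^ Nf P :=
    Ideal.pow_le_pow_right (Finset.le_sup (f := Nf) (hfin.mem_toFinset.mpr hP))
      (Ideal.mul_le_right hlI)
  exact hNf P hP l hlN hcP

end Gen

end Groth.Agent.Helper8.KL
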