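import Mathlib
import Groth.Agent.Lib.Helper8.KLd
import Groth.Agent.Lib.Helper8.Tame9

/-!
# The key lemma: the Euclidean reduction and the factored case
-/

set_option autoImplicit false
universe u

namespace Groth.Agent.Helper8.KL

open IsLocalRing

section Euclid

variable {A : Type u} [CommRing A] [IsNoetherianRing A]

theorem alg_mem_maximalIdeal (q : PrimeSpectrum A) {l : A} (hl : l ∈ q.asIdeal) :
    algebraMap A (Localization.AtPrime q.asIdeal) l ∈
      maximalIdeal (Localization.AtPrime q.asIdeal) := by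
  rw [mem_maximalIdeal, mem_nonunits_iff]
  intro hu
  exact ((IsLocalization.AtPrime.isUnit_to_map_iff (Localization.AtPrime q.asIdeal)
    q.asIdeal l).mp hu) hl

theorem notMem_of_assoc_one (q : PrimeSpectrum A) {g : A}
    (h : Associated (algebraMap A (Localization.AtPrime q.asIdeal) g) 1) : g ∉ q.asIdeal :=
  fun hm => ((IsLocalization.AtPrime.isUnit_to_map_iff (Localization.AtPrime q.asIdeal)
    q.asIdeal g).mp (associated_one_iff_isUnit.mp h)) hm

variable [IsLocalRing A]

theorem euclid_step (hA : ringKrullDim A = 2) (q : PrimeSpectrum A) (hq : q.asIdeal.height = 1)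
    {g h : A} (hg : g ∈ nonZeroDivisors A) (hh : h ∈ nonZeroDivisors A) (hgq : g ∈ q.asIdeal)
    (hNT : ∀ p : PrimeSpectrum A, p.asIdeal.height = 1 → g ∈ p.asIdeal → h ∈ p.asIdeal → p = q)
    (ρ : Localization.AtPrime q.asIdeal)
    (hρ : ρ ∈ nonZeroDivisors (Localization.AtPrime q.asIdeal))
    (hdiv : algebraMap A (Localization.AtPrime q.asIdeal) h =
      algebraMap A (Localization.AtPrime q.asIdeal) g * ρ) :
    ∃ c h' : A, c ∈ nonZeroDivisors A ∧ h' ∈ nonZeroDivisors A ∧ S g h = S c h' ∧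
      (∀ p : PrimeSpectrum A, p.asIdeal.height = 1 → c ∈ p.asIdeal → h' ∈ p.asIdeal → p = q) ∧
      AssocAt q c g ∧ Associated (algebraMap A (Localization.AtPrime q.asIdeal) h') ρ := by
  classical
  let F1 : Finset (PrimeSpectrum A) := ((finite_Z hg).toFinset ∪ (finite_Z hh).toFinset).erase q
  have hF1 : ∀ p ∈ F1, p.asIdeal.height = 1 ∧ p ≠ q := by
    intro p hp
    obtain ⟨hpq, hp'⟩ := Finset.mem_erase.mp hp
    rcases Finset.mem_union.mp hp' with h1 | h1
    · exact ⟨((finite_Z hg).mem_toFinset.mp h1).1, hpq⟩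
    · exact ⟨((finite_Z hh).mem_toFinset.mp h1).1, hpq⟩
  have hF1mem : ∀ p : PrimeSpectrum A, p.asIdeal.height = 1 → p ≠ q →
      (g ∈ p.asIdeal ∨ h ∈ p.asIdeal) → p ∈ F1 := by
    intro p hp1 hpq hor
    refine Finset.mem_erase.mpr ⟨hpq, Finset.mem_union.mpr ?_⟩
    rcases hor with h1 | h1
    · exact Or.inl ((finite_Z hg).mem_toFinset.mpr ⟨hp1, h1⟩)
    · exact Or.inr ((finite_Z hh).mem_toFinset.mpr ⟨hp1, h1⟩)
  obtain ⟨l, hlq, hln, hlF, hcn⟩ := exists_lambda hA q hq (h := h) hg hgq F1 hF1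
  have hcg : g + l * h - g = l * h := by ring
  have hgc : ∀ {I : Ideal A}, g + l * h ∈ I → l * h ∈ I → g ∈ I := by
    intro I h1 h2
    have : g = g + l * h - l * h := by ring
    rw [this]
    exact I.sub_mem h1 h2
  -- (i)
  have hci : AssocAt q (g + l * h) g := by
    show Associated (algebraMap A (Localization.AtPrime q.asIdeal) (g + l * h))
      (algebraMap A (Localization.AtPrime q.asIdeal) g)
    have e : algebraMap A (Localization.AtPrime q.asIdeal) (g + l * h) =
        algebraMap A (Localization.AtPrime q.asIdeal) g *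
          (1 + algebraMap A (Localization.AtPrime q.asIdeal) l * ρ) := by
      rw [map_add, map_mul, hdiv]; ring
    rw [e]
    exact associated_mul_unit_left _ _ (Tame.isUnit_add_of_mem_maximalIdeal isUnit_one
      (Ideal.mul_mem_right _ _ (alg_mem_maximalIdeal q hlq)))
  -- (ii)
  have hii : ∀ p : PrimeSpectrum A, p.asIdeal.height = 1 → p ≠ q → g + l * h ∈ p.asIdeal →
      g ∉ p.asIdeal ∧ h ∉ p.asIdeal := by
    intro p hp1 hpq hcp
    by_contra hcon
    have hor : g ∈ p.asIdeal ∨ h ∈ p.asIdeal := by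
      by_contra hno
      push Not at hno
      exact hcon hno
    have hlp : l ∉ p.asIdeal := hlF p (hF1mem p hp1 hpq hor)
    rcases hor with h1 | h1
    · have h2 : l * h ∈ p.asIdeal := by rw [← hcg]; exact p.asIdeal.sub_mem hcp h1
      rcases p.isPrime.mem_or_mem h2 with h3 | h3
      · exact hlp h3
      · exact hpq (hNT p hp1 h1 h3)
    · exact hpq (hNT p hp1 (hgc hcp (Ideal.mul_mem_left _ _ h1)) h1)
  -- (iii)
  have hlh : l * h ∈ nonZeroDivisors A := mul_mem hln hh
  have hst := S_steinberg hg hcn (by rw [hcg]; exact hlh)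
  rw [hcg, S_mul_right hg hln hh, S_mul_right hcn hln hh] at hst
  -- (iv)
  have hiv : S l g = S l (g + l * h) := by
    apply S_congr_right hA hln hg hcn
    intro p hp1 hlp
    by_cases hpq : p = q
    · rw [hpq]; exact hci.symm
    · have hnot : ¬ (g ∈ p.asIdeal ∨ h ∈ p.asIdeal) :=
        fun hor => hlF p (hF1mem p hp1 hpq hor) hlp
      push Not at hnot
      have hcp : g + l * h ∉ p.asIdeal :=
        fun hcp => hnot.1 (hgc hcp (Ideal.mul_mem_right _ _ hlp))
      exact assocAt_of_notMem p hnot.1 hcp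
  have hgl : S g l = S (g + l * h) l := by
    rw [S_swap hg hln, S_swap hcn hln, hiv]
  -- (vi)
  let F2 : Finset (PrimeSpectrum A) :=
    ((finite_Z hcn).toFinset ∪ (finite_Z hg).toFinset).erase q
  have hF2 : ∀ p ∈ F2, p.asIdeal.height = 1 ∧ p ≠ q := by
    intro p hp
    obtain ⟨hpq, hp'⟩ := Finset.mem_erase.mp hp
    rcases Finset.mem_union.mp hp' with h1 | h1
    · exact ⟨((finite_Z hcn).mem_toFinset.mp h1).1, hpq⟩
    · exact ⟨((finite_Z hg).mem_toFinset.mp h1).1, hpq⟩
  have hF2mem : ∀ p : PrimeSpectrum A, p.asIdeal.height = 1 → p ≠ q →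
      g + l * h ∈ p.asIdeal → p ∈ F2 := by
    intro p hp1 hpq hcp
    exact Finset.mem_erase.mpr ⟨hpq, Finset.mem_union.mpr
      (Or.inl ((finite_Z hcn).mem_toFinset.mpr ⟨hp1, hcp⟩))⟩
  obtain ⟨h', hh'n, hh'ρ, hh'F⟩ := exists_local_gen hA q hq ⟨g, hgq, hg⟩ ρ hρ F2 hF2
  -- (vii)
  have hvii : S (g + l * h) h = S (g + l * h) (g * h') := by
    apply S_congr_right hA hcn hh (mul_mem hg hh'n)
    intro p hp1 hcp
    by_cases hpq : p = q
    · rw [hpq]
      show Associated (algebraMap A (Localization.AtPrime q.asIdeal) h)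
        (algebraMap A (Localization.AtPrime q.asIdeal) (g * h'))
      rw [map_mul, hdiv]
      exact (Associated.mul_left _ hh'ρ).symm
    · obtain ⟨hgp, hhp⟩ := hii p hp1 hpq hcp
      have hh'p : h' ∉ p.asIdeal := hh'F p (hF2mem p hp1 hpq hcp)
      exact assocAt_of_notMem p hhp (fun hm => (p.isPrime.mem_or_mem hm).elim hgp hh'p)
  refine ⟨g + l * h, h', hcn, hh'n, ?_, ?_, hci, hh'ρ⟩
  · rw [S_mul_right hcn hg hh'n] at hvii
    have hgc' : S g (g + l * h) = - S (g + l * h) g := S_swap hg hcn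
    linarith
  · intro p hp1 hcp hh'p
    by_contra hpq
    exact hh'F p (hF2mem p hp1 hpq hcp) hh'p

theorem S_single_aux (hA : ringKrullDim A = 2) (q : PrimeSpectrum A)
    (hq : q.asIdeal.height = 1) (π : Localization.AtPrime q.asIdeal)
    (hπ : π ∈ nonZeroDivisors (Localization.AtPrime q.asIdeal)) :
    ∀ n : ℕ, ∀ g h : A, g ∈ nonZeroDivisors A → h ∈ nonZeroDivisors A →
      (∀ p : PrimeSpectrum A, p.asIdeal.height = 1 → g ∈ p.asIdeal → h ∈ p.asIdeal → p = q) →
      ∀ e f : ℕ, e + f ≤ n →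
        Associated (algebraMap A (Localization.AtPrime q.asIdeal) g) (π ^ e) →
        Associated (algebraMap A (Localization.AtPrime q.asIdeal) h) (π ^ f) → S g h = 0 := by
  intro n
  induction n with
  | zero =>
    intro g h hg hh hNT e f hef hge hhf
    have he : e = 0 := by omega
    rw [he, pow_zero] at hge
    have hgq : g ∉ q.asIdeal := notMem_of_assoc_one q hge
    exact S_transversal hA hg hh (fun p hp1 hgp hhp => hgq ((hNT p hp1 hgp hhp) ▸ hgp))
  | succ n ih =>
    have key : ∀ g h : A, g ∈ nonZeroDivisors A → h ∈ nonZeroDivisors A →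
        (∀ p : PrimeSpectrum A, p.asIdeal.height = 1 → g ∈ p.asIdeal → h ∈ p.asIdeal → p = q) →
        ∀ e f : ℕ, e + f ≤ n + 1 → e ≤ f →
          Associated (algebraMap A (Localization.AtPrime q.asIdeal) g) (π ^ e) →
          Associated (algebraMap A (Localization.AtPrime q.asIdeal) h) (π ^ f) → S g h = 0 := by
      intro g h hg hh hNT e f hef hle hge hhf
      by_cases hgq : g ∈ q.asIdeal
      · have he1 : 1 ≤ e := by
          by_contra hcon
          have he0 : e = 0 := by omega
          rw [he0, pow_zero] at hge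
          exact notMem_of_assoc_one q hge hgq
        obtain ⟨u, hu⟩ := hge
        obtain ⟨v, hv⟩ := hhf
        have hρ : (u : Localization.AtPrime q.asIdeal) * π ^ (f - e) *
            ((v⁻¹ : (Localization.AtPrime q.asIdeal)ˣ) : Localization.AtPrime q.asIdeal) ∈
            nonZeroDivisors (Localization.AtPrime q.asIdeal) :=
          mul_mem (mul_mem u.isUnit.mem_nonZeroDivisors (pow_mem hπ _))
            (v⁻¹).isUnit.mem_nonZeroDivisors
        have hdiv : algebraMap A (Localization.AtPrime q.asIdeal) h =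
            algebraMap A (Localization.AtPrime q.asIdeal) g *
              ((u : Localization.AtPrime q.asIdeal) * π ^ (f - e) *
                ((v⁻¹ : (Localization.AtPrime q.asIdeal)ˣ) : Localization.AtPrime q.asIdeal)) := by
          have h1 : algebraMap A (Localization.AtPrime q.asIdeal) h = π ^ f *
              ((v⁻¹ : (Localization.AtPrime q.asIdeal)ˣ) : Localization.AtPrime q.asIdeal) := by
            rw [← hv, mul_assoc, Units.mul_inv, mul_one]
          rw [h1, ← mul_assoc, ← mul_assoc, hu, ← pow_add, Nat.add_sub_cancel' hle]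
        obtain ⟨c, h', hcn, hh'n, hS, hNT', hcg, hh'ρ⟩ :=
          euclid_step hA q hq hg hh hgq hNT _ hρ hdiv
        rw [hS]
        refine ih c h' hcn hh'n hNT' e (f - e) (by omega) (Associated.trans hcg ⟨u, hu⟩)
          (hh'ρ.trans ?_)
        refine ⟨u⁻¹ * v, ?_⟩
        rw [Units.val_mul]
        calc (u : Localization.AtPrime q.asIdeal) * π ^ (f - e) *
              ((v⁻¹ : (Localization.AtPrime q.asIdeal)ˣ) : Localization.AtPrime q.asIdeal) *
              (((u⁻¹ : (Localization.AtPrime q.asIdeal)ˣ) : Localization.AtPrime q.asIdeal) *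
                (v : Localization.AtPrime q.asIdeal))
            = π ^ (f - e) * ((u : Localization.AtPrime q.asIdeal) *
                ((u⁻¹ : (Localization.AtPrime q.asIdeal)ˣ) : Localization.AtPrime q.asIdeal)) *
              (((v⁻¹ : (Localization.AtPrime q.asIdeal)ˣ) : Localization.AtPrime q.asIdeal) *
                (v : Localization.AtPrime q.asIdeal)) := by ring
          _ = π ^ (f - e) := by rw [Units.mul_inv, Units.inv_mul, mul_one, mul_one]
      · exact S_transversal hA hg hh (fun p hp1 hgp hhp => hgq ((hNT p hp1 hgp hhp) ▸ hgp))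
    intro g h hg hh hNT e f hef hge hhf
    rcases le_total e f with hle | hle
    · exact key g h hg hh hNT e f hef hle hge hhf
    · rw [S_swap hg hh, key h g hh hg (fun p hp1 hhp hgp => hNT p hp1 hgp hhp) f e (by omega) hle
        hhf hge, neg_zero]

/-- the factored condition at a prime -/
def FacAt (q : PrimeSpectrum A) (g h : A) : Prop :=
  ∃ π ∈ nonZeroDivisors (Localization.AtPrime q.asIdeal), ∃ e f : ℕ,
    Associated (algebraMap A (Localization.AtPrime q.asIdeal) g) (π ^ e) ∧
      Associated (algebraMap A (Localization.AtPrime q.asIdeal) h) (π ^ f)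

theorem S_eq_zero_of_facAt (hA : ringKrullDim A = 2) {g h : A} (hg : g ∈ nonZeroDivisors A)
    (hh : h ∈ nonZeroDivisors A)
    (hfac : ∀ q : PrimeSpectrum A, q.asIdeal.height = 1 → g ∈ q.asIdeal → h ∈ q.asIdeal →
      FacAt q g h) : S g h = 0 := by
  classical
  let NT : Finset (PrimeSpectrum A) := (finite_Z hg).toFinset.filter (fun q => h ∈ q.asIdeal)
  have hNT : ∀ q, q ∈ NT ↔ q.asIdeal.height = 1 ∧ g ∈ q.asIdeal ∧ h ∈ q.asIdeal := by
    intro q
    show q ∈ (finite_Z hg).toFinset.filter (fun q => h ∈ q.asIdeal) ↔ _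
    rw [Finset.mem_filter, (finite_Z hg).mem_toFinset]
    exact ⟨fun ⟨⟨a, b⟩, c⟩ => ⟨a, b, c⟩, fun ⟨a, b, c⟩ => ⟨⟨a, b⟩, c⟩⟩
  have hex : ∀ q : PrimeSpectrum A, ∃ x : A, x ∈ nonZeroDivisors A ∧
      (q ∈ NT → AssocAt q x h ∧ ∀ p ∈ (finite_Z hg).toFinset.erase q, x ∉ p.asIdeal) := by
    intro q
    by_cases hq : q ∈ NT
    · obtain ⟨hq1, hgq, hhq⟩ := (hNT q).mp hq
      obtain ⟨x, hxn, hxa, hxF⟩ := exists_local_gen hA q hq1 ⟨g, hgq, hg⟩
        (algebraMap A (Localization.AtPrime q.asIdeal) h) (alg_nzd q hh)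
        ((finite_Z hg).toFinset.erase q)
        (fun p hp => ⟨((finite_Z hg).mem_toFinset.mp (Finset.mem_of_mem_erase hp)).1,
          Finset.ne_of_mem_erase hp⟩)
      exact ⟨x, hxn, fun _ => ⟨hxa, hxF⟩⟩
    · exact ⟨1, one_mem _, fun h' => absurd h' hq⟩
  choose hx hxn hxs using hex
  have hkn : ∏ q ∈ NT, hx q ∈ nonZeroDivisors A := Submonoid.prod_mem _ fun q _ => hxn q
  have hstep1 : S g h = S g (∏ q ∈ NT, hx q) := by
    apply S_congr_right hA hg hh hkn
    intro p hp1 hgp
    have hunits : ∀ q ∈ NT, q ≠ p → hx q ∉ p.asIdeal := by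
      intro q hqNT hqp
      exact (hxs q hqNT).2 p (Finset.mem_erase.mpr ⟨fun h' => hqp h'.symm,
        (finite_Z hg).mem_toFinset.mpr ⟨hp1, hgp⟩⟩)
    by_cases hpNT : p ∈ NT
    · rw [← Finset.mul_prod_erase NT hx hpNT]
      show Associated (algebraMap A (Localization.AtPrime p.asIdeal) h)
        (algebraMap A (Localization.AtPrime p.asIdeal) (hx p * ∏ q ∈ NT.erase p, hx q))
      rw [map_mul]
      have hu : IsUnit (algebraMap A (Localization.AtPrime p.asIdeal)
          (∏ q ∈ NT.erase p, hx q)) := by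
        apply alg_isUnit
        intro hm
        obtain ⟨q, hqe, hqm⟩ := Ideal.IsPrime.prod_mem_iff.mp hm
        exact hunits q (Finset.mem_of_mem_erase hqe) (Finset.ne_of_mem_erase hqe) hqm
      exact Associated.trans (hxs p hpNT).1.symm (associated_mul_unit_right _ _ hu)
    · have hhp : h ∉ p.asIdeal := fun hm => hpNT ((hNT p).mpr ⟨hp1, hgp, hm⟩)
      apply assocAt_of_notMem p hhp
      intro hm
      obtain ⟨q, hqe, hqm⟩ := Ideal.IsPrime.prod_mem_iff.mp hm
      exact hunits q hqe (fun h' => hpNT (h' ▸ hqe)) hqm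
  rw [hstep1, S_prod_right NT hg hx (fun q _ => hxn q)]
  apply Finset.sum_eq_zero
  intro q hqNT
  obtain ⟨hq1, hgq, hhq⟩ := (hNT q).mp hqNT
  obtain ⟨π, hπ, e, f, hge, hhf⟩ := hfac q hq1 hgq hhq
  refine S_single_aux hA q hq1 π hπ (e + f) g (hx q) hg (hxn q) ?_ e f le_rfl hge
    (Associated.trans (hxs q hqNT).1 hhf)
  intro p hp1 hgp hhqp
  by_contra hpq
  exact (hxs q hqNT).2 p (Finset.mem_erase.mpr ⟨hpq,
    (finite_Z hg).mem_toFinset.mpr ⟨hp1, hgp⟩⟩) hhqp

end Euclid

end Groth.Agent.Helper8.KL
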