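import Mathlib
import Groth.Agent.Lib.Helper8.Tame1

/-!
# The key lemma: the local subring `A + 𝔪 C₀` of a finite algebra over a local ring
-/

set_option autoImplicit false
universe u

namespace Groth.Agent.Helper8.KL

open IsLocalRing

section LocSub

variable (A : Type u) [CommRing A] [IsLocalRing A] (C₀ : Type u) [CommRing C₀] [Algebra A C₀]

/-- the subalgebra `A + 𝔪 C₀` -/
def locSub : Subalgebra A C₀ where
  carrier := {x | ∃ α : A, x - algebraMap A C₀ α ∈
    Ideal.map (algebraMap A C₀) (maximalIdeal A)}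
  mul_mem' := by
    rintro x y ⟨α, hα⟩ ⟨β, hβ⟩
    refine ⟨α * β, ?_⟩
    have h : x * y - algebraMap A C₀ (α * β) = (x - algebraMap A C₀ α) * y +
        algebraMap A C₀ α * (y - algebraMap A C₀ β) := by
      rw [map_mul]; ring
    rw [h]
    exact Ideal.add_mem _ (Ideal.mul_mem_right _ _ hα) (Ideal.mul_mem_left _ _ hβ)
  one_mem' := ⟨1, by rw [map_one, sub_self]; exact Ideal.zero_mem _⟩
  add_mem' := by
    rintro x y ⟨α, hα⟩ ⟨β, hβ⟩
    refine ⟨α + β, ?_⟩
    have h : x + y - algebraMap A C₀ (α + β) = (x - algebraMap A C₀ α) +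
        (y - algebraMap A C₀ β) := by
      rw [map_add]; ring
    rw [h]
    exact Ideal.add_mem _ hα hβ
  zero_mem' := ⟨0, by rw [map_zero, sub_self]; exact Ideal.zero_mem _⟩
  algebraMap_mem' := fun a => ⟨a, by rw [sub_self]; exact Ideal.zero_mem _⟩

variable {A C₀}

theorem mem_locSub_of_mem_map {x : C₀}
    (hx : x ∈ Ideal.map (algebraMap A C₀) (maximalIdeal A)) : x ∈ locSub A C₀ :=
  ⟨0, by rw [map_zero, sub_zero]; exact hx⟩

theorem smul_mem_locSub {s : A} (hs : s ∈ maximalIdeal A) (x : C₀) :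
    algebraMap A C₀ s * x ∈ locSub A C₀ :=
  mem_locSub_of_mem_map (Ideal.mul_mem_right _ _ (Ideal.mem_map_of_mem _ hs))

variable [Module.Finite A C₀]

theorem map_le_of_isMaximal (𝔫 : Ideal C₀) [𝔫.IsMaximal] :
    Ideal.map (algebraMap A C₀) (maximalIdeal A) ≤ 𝔫 := by
  rw [Ideal.map_le_iff_le_comap, Groth.Agent.Helper8.Tame.comap_eq_maximalIdeal A C₀ 𝔫]

theorem isUnit_of_sub_mem {x : C₀} {α : A} (hα : IsUnit α)
    (hx : x - algebraMap A C₀ α ∈ Ideal.map (algebraMap A C₀) (maximalIdeal A)) :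
    IsUnit x := by
  by_contra hnu
  obtain ⟨𝔫, h𝔫, hx𝔫⟩ := exists_max_ideal_of_mem_nonunits (mem_nonunits_iff.mpr hnu)
  haveI := h𝔫
  have h1 : x - algebraMap A C₀ α ∈ 𝔫 := map_le_of_isMaximal 𝔫 hx
  have h2 : algebraMap A C₀ α ∈ 𝔫 := by
    have h3 := 𝔫.sub_mem hx𝔫 h1
    rwa [sub_sub_cancel] at h3
  exact h𝔫.ne_top (𝔫.eq_top_of_isUnit_mem h2 (hα.map _))

theorem isUnit_locSub_of_sub_mem {x : locSub A C₀} {α : A} (hα : IsUnit α)
    (hx : (x : C₀) - algebraMap A C₀ α ∈ Ideal.map (algebraMap A C₀) (maximalIdeal A)) :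
    IsUnit x := by
  obtain ⟨y, hy⟩ := (isUnit_of_sub_mem hα hx).exists_right_inv
  obtain ⟨β, hβ⟩ := hα.exists_left_inv
  have hymem : y ∈ locSub A C₀ := by
    refine ⟨β, ?_⟩
    have h1 : algebraMap A C₀ β * algebraMap A C₀ α = 1 := by rw [← map_mul, hβ, map_one]
    have h : y - algebraMap A C₀ β =
        - (algebraMap A C₀ β * y * ((x : C₀) - algebraMap A C₀ α)) := by
      calc y - algebraMap A C₀ β
          = y * (algebraMap A C₀ β * algebraMap A C₀ α) -
              algebraMap A C₀ β * ((x : C₀) * y) := by rw [h1, hy, mul_one, mul_one]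
        _ = - (algebraMap A C₀ β * y * ((x : C₀) - algebraMap A C₀ α)) := by ring
    rw [h]
    exact neg_mem (Ideal.mul_mem_left _ _ hx)
  rw [isUnit_iff_exists_inv]
  exact ⟨⟨y, hymem⟩, Subtype.ext hy⟩

variable (hinj : Function.Injective (algebraMap A C₀))
include hinj

theorem isLocalRing_locSub : IsLocalRing (locSub A C₀) := by
  haveI : Nontrivial C₀ := hinj.nontrivial
  haveI : Nontrivial (locSub A C₀) :=
    ⟨⟨0, 1, fun h => zero_ne_one (α := C₀) (congrArg Subtype.val h)⟩⟩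
  apply IsLocalRing.of_isUnit_or_isUnit_one_sub_self
  intro x
  obtain ⟨α, hα⟩ := x.2
  by_cases hu : IsUnit α
  · exact Or.inl (isUnit_locSub_of_sub_mem hu hα)
  · right
    have hαm : α ∈ maximalIdeal A := (mem_maximalIdeal _).mpr (mem_nonunits_iff.mpr hu)
    have hu' : IsUnit (1 - α) := by
      by_contra h
      have h1 : (1 - α) ∈ maximalIdeal A := (mem_maximalIdeal _).mpr (mem_nonunits_iff.mpr h)
      have h2 := (maximalIdeal A).add_mem h1 hαm
      rw [sub_add_cancel] at h2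
      exact (maximalIdeal.isMaximal A).ne_top ((Ideal.eq_top_iff_one _).mpr h2)
    apply isUnit_locSub_of_sub_mem hu'
    show ((1 : C₀) - (x : C₀)) - algebraMap A C₀ (1 - α) ∈ _
    have h : ((1 : C₀) - (x : C₀)) - algebraMap A C₀ (1 - α) =
        - ((x : C₀) - algebraMap A C₀ α) := by
      rw [map_sub, map_one]; ring
    rw [h]
    exact neg_mem hα

theorem not_isUnit_sub (c : locSub A C₀) :
    ∃ x : A, ¬ IsUnit (c - algebraMap A (locSub A C₀) x) := by
  haveI : Nontrivial C₀ := hinj.nontrivial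
  obtain ⟨α, hα⟩ := c.2
  refine ⟨α, fun hu => ?_⟩
  obtain ⟨𝔫, h𝔫⟩ := Ideal.exists_maximal C₀
  haveI := h𝔫
  have h1 : IsUnit ((c : C₀) - algebraMap A C₀ α) := by
    have h := hu.map (locSub A C₀).val
    exact h
  have h2 : (c : C₀) - algebraMap A C₀ α ∈ 𝔫 := map_le_of_isMaximal 𝔫 hα
  exact h𝔫.ne_top (𝔫.eq_top_of_isUnit_mem h2 h1)

omit hinj in
theorem finite_locSub [IsNoetherianRing A] : Module.Finite A (locSub A C₀) := by
  haveI : IsNoetherian A C₀ := isNoetherian_of_isNoetherianRing_of_finite A C₀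
  exact Module.Finite.of_injective (locSub A C₀).val.toLinearMap Subtype.val_injective

end LocSub

end Groth.Agent.Helper8.KL
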