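import Mathlib
import Groth.Agent.Lib.Helper8.GlueH1a
import Groth.Agent.Lib.Helper8.GlueH1b
import Groth.Agent.Lib.Helper8.KLf
import Groth.Agent.Lib.Helper8.KLc

/-!
# The key lemma: glueing local finite extensions to a local finite extension
-/

set_option autoImplicit false
universe u

namespace Groth.Agent.Helper8.KL

open IsLocalRing

theorem exists_glue {A : Type u} [CommRing A] [IsNoetherianRing A] [IsLocalRing A]
    (hA : ringKrullDim A = 2) (t : A) (htnz : t ∈ nonZeroDivisors A)
    (r : ℕ) (q : Fin r → Ideal A) [hq : ∀ i, (q i).IsPrime] (hinj : Function.Injective q)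
    (hqm : ∀ i, q i ≠ maximalIdeal A) (htq : ∀ i, t ∈ q i)
    (hV : ∀ p : Ideal A, p.IsPrime → t ∈ p → p = maximalIdeal A ∨ ∃ i, p = q i)
    (B : Fin r → Type u) [∀ i, CommRing (B i)]
    [∀ i, Algebra (Localization.AtPrime (q i)) (B i)]
    (hB : ∀ i, CycAlg.IsFinExt (Localization.AtPrime (q i)) (B i)
      (maximalIdeal (Localization.AtPrime (q i))))
    (htB : ∀ i, algebraMap (Localization.AtPrime (q i)) (B i)
      (algebraMap A (Localization.AtPrime (q i)) t) ∈ nonZeroDivisors (B i)) :
    ∃ (C : Type u) (_ : CommRing C) (_ : Algebra A C) (_ : IsLocalRing C)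
      (_ : Module.Finite A C),
      Function.Injective (algebraMap A C) ∧
      (∀ c : C, ∃ x : A, c - algebraMap A C x ∈ maximalIdeal C) ∧
      (∀ x : A, x ∣ t → algebraMap A C x ∈ nonZeroDivisors C) ∧
      ∃ ψ : ∀ i, C →+* B i,
        (∀ i (x : A), ψ i (algebraMap A C x) = algebraMap (Localization.AtPrime (q i)) (B i)
          (algebraMap A (Localization.AtPrime (q i)) x)) ∧
        (∀ i (β : B i), ∃ s, s ∉ q i ∧ ∃ c : C, ψ i c =
          algebraMap (Localization.AtPrime (q i)) (B i)
            (algebraMap A (Localization.AtPrime (q i)) s) * β) ∧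
        (∀ i (c : C), ψ i c = 0 → ∃ s, s ∉ q i ∧ algebraMap A C s * c = 0) := by
  classical
  have hinjB : ∀ i, Function.Injective (algebraMap (Localization.AtPrime (q i)) (B i)) :=
    fun i => (hB i).1
  have hex : ∀ i, ∃ n : ℕ, ∀ r ∈ (maximalIdeal (Localization.AtPrime (q i))) ^ n,
      ∀ b : B i, r • b ∈ (algebraMap (Localization.AtPrime (q i)) (B i)).range :=
    fun i => (hB i).2.2
  choose nn hnn using hex
  let n : ℕ := ∑ i, nn i
  have htmq : ∀ i, algebraMap A (Localization.AtPrime (q i)) t ∈
      maximalIdeal (Localization.AtPrime (q i)) := fun i =>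
    (IsLocalization.AtPrime.to_map_mem_maximal_iff (Localization.AtPrime (q i)) (q i) t).mpr
      (htq i)
  have hn_i : ∀ i, ∀ b : B i, ∃ α, algebraMap (Localization.AtPrime (q i)) (B i) α
      = algebraMap (Localization.AtPrime (q i)) (B i)
          (algebraMap A (Localization.AtPrime (q i)) (t ^ n)) * b := by
    intro i b
    have hle : nn i ≤ n := Finset.single_le_sum (fun _ _ => Nat.zero_le _) (Finset.mem_univ i)
    have hmem : algebraMap A (Localization.AtPrime (q i)) (t ^ n) ∈
        (maximalIdeal (Localization.AtPrime (q i))) ^ (nn i) := by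
      rw [map_pow]
      exact Ideal.pow_le_pow_right hle (Ideal.pow_mem_pow (htmq i) n)
    obtain ⟨α, hα⟩ := RingHom.mem_range.mp (hnn i _ hmem b)
    exact ⟨α, by rw [hα, Algebra.smul_def]⟩
  obtain ⟨𝔠, hτ𝔠, h𝔠mul, h𝔠J, h𝔠surj⟩ := Groth.Agent.Helper8.GlueH1.exists_glue_ideal q (t ^ n)
    (fun k => Groth.Agent.Helper8.GlueH1.JI (Localization.AtPrime (q k)) (B k)
      (algebraMap A (Localization.AtPrime (q k)) (t ^ n)))
    (fun k => Groth.Agent.Helper8.GlueH1.self_mem_JI _)
    (fun k => Groth.Agent.Helper8.GlueH1.JI_mul_le _ (hinjB k) (hn_i k))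
    (fun i k hik => Groth.Agent.Helper8.GlueH1.exists_sep hA t htnz q hinj hqm htq hV n i k hik)
  have hu : IsUnit (algebraMap A (Localization.Away t) (t ^ n)) := by
    rw [map_pow]; exact (IsLocalization.Away.algebraMap_isUnit t).pow n
  have hinjL : Function.Injective (algebraMap A (Localization.Away t)) :=
    IsLocalization.injective _ (Submonoid.powers_le.mpr htnz)
  letI algAB : ∀ i, Algebra A (B i) := fun i =>
    ((algebraMap (Localization.AtPrime (q i)) (B i)).comp
      (algebraMap A (Localization.AtPrime (q i)))).toAlgebra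
  haveI towAB : ∀ i, IsScalarTower A (Localization.AtPrime (q i)) (B i) := fun i =>
    IsScalarTower.of_algebraMap_eq (fun _ => rfl)
  have hJ : ∀ i, ∀ c ∈ 𝔠, ∃ b : B i,
      algebraMap A (B i) (t ^ n) * b = algebraMap A (B i) c := by
    intro i c hc
    obtain ⟨b, hb⟩ := h𝔠J i c hc
    exact ⟨b, hb.symm⟩
  have hreg : ∀ i, ∀ b b' : B i,
      algebraMap A (B i) (t ^ n) * b = algebraMap A (B i) (t ^ n) * b' → b = b' := by
    intro i b b' h
    have hr : algebraMap (Localization.AtPrime (q i)) (B i)
        (algebraMap A (Localization.AtPrime (q i)) (t ^ n)) ∈ nonZeroDivisors (B i) := by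
      rw [map_pow, map_pow]; exact pow_mem (htB i) n
    exact (mul_cancel_left_mem_nonZeroDivisors hr).mp h
  let C₀ : Subalgebra A (Localization.Away t) :=
    Groth.Agent.Helper8.GlueH1.twSub (L := Localization.Away t) (t ^ n) 𝔠 hτ𝔠 h𝔠mul hu
  let ψ₀ : ∀ i, C₀ →ₐ[A] B i := fun i =>
    Groth.Agent.Helper8.GlueH1.psi (hτ := hτ𝔠) (hmul := h𝔠mul) (hu := hu) hinjL (hJ i) (hreg i)
  have hloc : ∀ i, IsLocalizedModule (q i).primeCompl (ψ₀ i).toLinearMap := by
    intro i
    apply Groth.Agent.Helper8.GlueH1.isLocalizedModule_psi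
    · intro s hs
      exact (IsLocalization.map_units (Localization.AtPrime (q i))
        (⟨s, hs⟩ : (q i).primeCompl)).map (algebraMap (Localization.AtPrime (q i)) (B i))
    · intro b
      obtain ⟨α, hα⟩ := hn_i i b
      obtain ⟨s, hs, c, hc, hsc⟩ := h𝔠surj i α ⟨b, hα⟩
      refine ⟨s, hs, c, hc, ?_⟩
      show algebraMap (Localization.AtPrime (q i)) (B i)
          (algebraMap A (Localization.AtPrime (q i)) s)
        * (algebraMap (Localization.AtPrime (q i)) (B i)
          (algebraMap A (Localization.AtPrime (q i)) (t ^ n)) * b)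
        = algebraMap (Localization.AtPrime (q i)) (B i)
          (algebraMap A (Localization.AtPrime (q i)) c)
      rw [← hα, ← map_mul, hsc]
    · intro a ha
      have h0 : algebraMap A (Localization.AtPrime (q i)) a = 0 :=
        hinjB i (by rw [map_zero]; exact ha)
      obtain ⟨m, hm⟩ := (IsLocalization.map_eq_zero_iff (q i).primeCompl _ a).mp h0
      exact ⟨m, m.2, hm⟩
  haveI hfinC₀ : Module.Finite A C₀ := Groth.Agent.Helper8.GlueH1.finite_twSub hinjL
  have hinjC₀ : Function.Injective (algebraMap A C₀) := by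
    intro a b h
    exact hinjL (congrArg Subtype.val h)
  refine ⟨↥(locSub A C₀), inferInstance, inferInstance, isLocalRing_locSub hinjC₀,
    finite_locSub, ?_, ?_, ?_, ?_⟩
  · intro a b h
    exact hinjC₀ (congrArg Subtype.val h)
  · intro c
    obtain ⟨x, hx⟩ := not_isUnit_sub hinjC₀ c
    exact ⟨x, (@mem_maximalIdeal _ _ (isLocalRing_locSub hinjC₀) _).mpr
      (mem_nonunits_iff.mpr hx)⟩
  · rintro x ⟨y, hxy⟩
    have htu : IsUnit (algebraMap A (Localization.Away t) t) :=
      IsLocalization.Away.algebraMap_isUnit t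
    have hxu : IsUnit (algebraMap A (Localization.Away t) x) := by
      have h1 : IsUnit (algebraMap A (Localization.Away t) x *
          algebraMap A (Localization.Away t) y) := by
        rw [← map_mul, ← hxy]; exact htu
      exact isUnit_of_mul_isUnit_left h1
    rw [mem_nonZeroDivisors_iff_right]
    intro z hz
    have hz' : algebraMap A (locSub A C₀) x * z = 0 := by
      first
        | exact hz
        | (rw [mul_comm]; exact hz)
    have h0 : algebraMap A (Localization.Away t) x * (((z : C₀) : Localization.Away t)) = 0 := by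
      have h := congrArg (fun w : locSub A C₀ => (((w : C₀) : Localization.Away t))) hz'
      exact h
    have h1 : (((z : C₀) : Localization.Away t)) = 0 := by
      have h2 := hxu.mul_left_cancel (h0.trans (mul_zero _).symm)
      exact h2
    exact Subtype.ext (Subtype.ext h1)
  · refine ⟨fun i => (ψ₀ i).toRingHom.comp (locSub A C₀).val.toRingHom, ?_, ?_, ?_⟩
    · intro i x
      exact (ψ₀ i).commutes x
    · intro i β
      haveI := hloc i
      obtain ⟨⟨c₀, s⟩, hs⟩ := IsLocalizedModule.surj (q i).primeCompl (ψ₀ i).toLinearMap β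
      have hlt : q i < maximalIdeal A :=
        lt_of_le_of_ne (le_maximalIdeal (hq i).ne_top) (hqm i)
      obtain ⟨m₀, hm₀, hm₀q⟩ := SetLike.exists_of_lt hlt
      refine ⟨m₀ * s, fun h => ((hq i).mem_or_mem h).elim hm₀q s.2,
        ⟨algebraMap A C₀ m₀ * c₀, smul_mem_locSub hm₀ c₀⟩, ?_⟩
      have hs' : ψ₀ i c₀ = algebraMap A (B i) (s : A) * β := by
        rw [← Algebra.smul_def]; exact hs.symm
      show ψ₀ i (algebraMap A C₀ m₀ * c₀) = algebraMap A (B i) (m₀ * (s : A)) * β
      rw [map_mul, (ψ₀ i).commutes, hs', map_mul, mul_assoc]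
    · intro i c hc
      haveI := hloc i
      have hc' : (ψ₀ i).toLinearMap (c : C₀) = (ψ₀ i).toLinearMap 0 := by
        rw [map_zero]; exact hc
      obtain ⟨s, hs⟩ := IsLocalizedModule.exists_of_eq (S := (q i).primeCompl) hc'
      refine ⟨s, s.2, Subtype.ext ?_⟩
      show algebraMap A C₀ (s : A) * (c : C₀) = 0
      rw [← Algebra.smul_def]
      rw [smul_zero] at hs
      exact hs

end Groth.Agent.Helper8.KL
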