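import Mathlib
import Groth.Prelude.Def_Tame
import Groth.Agent.Lib.Helper8.KLh
import Groth.Agent.Lib.Helper8.KLe
import Groth.Agent.Lib.Helper8.Tame11

/-!
# The key lemma: comparing the local symbols of `A` with those of a finite local extension
-/

set_option autoImplicit false
universe u

namespace Groth.Agent.Helper8.KL

open IsLocalRing Groth.Agent.Helper8.Tame Groth.Agent.Lead.SecOrd

attribute [local instance] Groth.Agent.Helper8.Tame.isLocalHom_atPrime

/-- transport a unit along a ring isomorphism -/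
def unitMap {R S : Type*} [CommRing R] [CommRing S] (e : R ≃+* S) (u : Rˣ) : Sˣ :=
  ⟨e u, e ↑u⁻¹, by rw [← map_mul, Units.mul_inv, map_one],
    by rw [← map_mul, Units.inv_mul, map_one]⟩

theorem unitMap_val {R S : Type*} [CommRing R] [CommRing S] (e : R ≃+* S) (u : Rˣ) :
    ((unitMap e u : Sˣ) : S) = e u := rfl

section Loc

variable {A : Type u} [CommRing A] [IsNoetherianRing A] [IsLocalRing A]
  {C : Type u} [CommRing C] [Algebra A C]
  (q : PrimeSpectrum A)
  {B : Type u} [CommRing B] [Algebra (Localization.AtPrime q.asIdeal) B]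
  (ψ : C →+* B)
  (hcomm : ∀ x : A, ψ (algebraMap A C x) = algebraMap (Localization.AtPrime q.asIdeal) B
    (algebraMap A (Localization.AtPrime q.asIdeal) x))
  (hsurj : ∀ β : B, ∃ s, s ∉ q.asIdeal ∧ ∃ c : C, ψ c =
    algebraMap (Localization.AtPrime q.asIdeal) B
      (algebraMap A (Localization.AtPrime q.asIdeal) s) * β)
  (hker : ∀ c : C, ψ c = 0 → ∃ s, s ∉ q.asIdeal ∧ algebraMap A C s * c = 0)

include hcomm in
theorem comap_comap_eq [Module.Finite (Localization.AtPrime q.asIdeal) B] (𝔫 : Ideal B)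
    [𝔫.IsMaximal] : (𝔫.comap ψ).comap (algebraMap A C) = q.asIdeal := by
  ext x
  rw [Ideal.mem_comap, Ideal.mem_comap, hcomm, ← Ideal.mem_comap,
    comap_eq_maximalIdeal (Localization.AtPrime q.asIdeal) B 𝔫]
  exact IsLocalization.AtPrime.to_map_mem_maximal_iff (Localization.AtPrime q.asIdeal)
    q.asIdeal x

include hcomm hsurj hker

theorem isLocalization_psi :
    @IsLocalization C _ (Algebra.algebraMapSubmonoid C q.asIdeal.primeCompl) B _ ψ.toAlgebra := by
  letI := ψ.toAlgebra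
  have hunit : ∀ s, s ∉ q.asIdeal → IsUnit (ψ (algebraMap A C s)) := by
    intro s hs
    rw [hcomm]
    exact (alg_isUnit q hs).map _
  rw [isLocalization_iff]
  refine ⟨?_, ?_, ?_⟩
  · rintro ⟨_, s, hs, rfl⟩
    exact hunit s hs
  · intro β
    obtain ⟨s, hs, c, hc⟩ := hsurj β
    refine ⟨(c, ⟨algebraMap A C s, s, hs, rfl⟩), ?_⟩
    show β * ψ (algebraMap A C s) = ψ c
    rw [hc, hcomm, mul_comm]
  · intro x y hxy
    have hxy' : ψ x = ψ y := hxy
    have h0 : ψ (x - y) = 0 := by rw [map_sub, hxy', sub_self]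
    obtain ⟨s, hs, hsc⟩ := hker _ h0
    refine ⟨⟨algebraMap A C s, s, hs, rfl⟩, ?_⟩
    show algebraMap A C s * x = algebraMap A C s * y
    rw [mul_sub, sub_eq_zero] at hsc
    exact hsc

theorem exists_eps (𝔫 : Ideal B) [𝔫.IsPrime] :
    ∃ ε : Localization.AtPrime (𝔫.comap ψ) ≃+* Localization.AtPrime 𝔫,
      ∀ c : C, ε (algebraMap C _ c) = algebraMap B _ (ψ c) := by
  letI := ψ.toAlgebra
  haveI := isLocalization_psi q ψ hcomm hsurj hker
  haveI : IsLocalization.AtPrime (Localization.AtPrime 𝔫) (𝔫.comap ψ) :=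
    IsLocalization.isLocalization_isLocalization_atPrime_isLocalization
      (Algebra.algebraMapSubmonoid C q.asIdeal.primeCompl) (Localization.AtPrime 𝔫) 𝔫
  let ε := IsLocalization.algEquiv (𝔫.comap ψ).primeCompl
    (Localization.AtPrime (𝔫.comap ψ)) (Localization.AtPrime 𝔫)
  refine ⟨ε.toRingEquiv, fun c => ?_⟩
  show ε (algebraMap C _ c) = _
  rw [ε.commutes]
  exact IsScalarTower.algebraMap_apply C B (Localization.AtPrime 𝔫) c

theorem comap_psi_injective (𝔫 𝔫' : Ideal B) (h : 𝔫.comap ψ = 𝔫'.comap ψ) : 𝔫 = 𝔫' := by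
  letI := ψ.toAlgebra
  haveI := isLocalization_psi q ψ hcomm hsurj hker
  have e₁ := IsLocalization.map_comap (Algebra.algebraMapSubmonoid C q.asIdeal.primeCompl) B 𝔫
  have e₂ := IsLocalization.map_comap (Algebra.algebraMapSubmonoid C q.asIdeal.primeCompl) B 𝔫'
  rw [← e₁, ← e₂]
  exact congrArg (Ideal.map (algebraMap C B)) h

theorem exists_comap_eq (Q : Ideal C) [hQ : Q.IsPrime]
    (h : Q.comap (algebraMap A C) = q.asIdeal) :
    ∃ 𝔫 : Ideal B, 𝔫.IsPrime ∧ 𝔫.comap ψ = Q := by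
  letI := ψ.toAlgebra
  haveI := isLocalization_psi q ψ hcomm hsurj hker
  have hdisj : Disjoint (Algebra.algebraMapSubmonoid C q.asIdeal.primeCompl : Set C)
      (Q : Set C) := by
    rw [Set.disjoint_left]
    rintro _ ⟨s, hs, rfl⟩ hmem
    apply hs
    rw [← h]; exact hmem
  exact ⟨Q.map (algebraMap C B),
    IsLocalization.isPrime_of_isPrime_disjoint
      (Algebra.algebraMapSubmonoid C q.asIdeal.primeCompl) B Q hQ hdisj,
    IsLocalization.comap_map_of_isPrime_disjoint
      (Algebra.algebraMapSubmonoid C q.asIdeal.primeCompl) B hQ hdisj⟩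

end Loc

section Contrib

variable {A : Type u} [CommRing A] [IsNoetherianRing A] [IsLocalRing A]
  {C : Type u} [CommRing C] [Algebra A C] [IsLocalRing C] [Module.Finite A C]
  [IsNoetherianRing C]
  (q : PrimeSpectrum A) (hA : ringKrullDim A = 2) (hq : q.asIdeal.height = 1)
  (hres : ∀ c : C, ∃ x : A, c - algebraMap A C x ∈ maximalIdeal C)
  (F : FacSys (Localization.AtPrime q.asIdeal))
  (ψ : C →+* F.B)
  (hcomm : ∀ x : A, ψ (algebraMap A C x) = algebraMap (Localization.AtPrime q.asIdeal) F.B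
    (algebraMap A (Localization.AtPrime q.asIdeal) x))
  (hsurj : ∀ β : F.B, ∃ s, s ∉ q.asIdeal ∧ ∃ c : C, ψ c =
    algebraMap (Localization.AtPrime q.asIdeal) F.B
      (algebraMap A (Localization.AtPrime q.asIdeal) s) * β)
  (hker : ∀ c : C, ψ c = 0 → ∃ s, s ∉ q.asIdeal ∧ algebraMap A C s * c = 0)

include hA hq hres hcomm hsurj hker

set_option maxHeartbeats 1600000 in
set_option synthInstance.maxHeartbeats 400000 in
theorem contrib {a b : A}
    (fa : Fac F (algebraMap A (Localization.AtPrime q.asIdeal) a))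
    (fb : Fac F (algebraMap A (Localization.AtPrime q.asIdeal) b))
    (𝔫 : MaximalSpectrum F.B) (Q : PrimeSpectrum C) (hQ : Q.asIdeal = 𝔫.asIdeal.comap ψ)
    (hQ1 : Q.asIdeal.height = 1) :
    FacAt Q (algebraMap A C a) (algebraMap A C b) ∧
    CycAlg.ordFrac (A ⧸ q.asIdeal) q.asIdeal.ResidueField
      (locFac (Localization.AtPrime q.asIdeal) (Localization.AtPrime 𝔫.asIdeal) (F.π 𝔫)
        (fa.u 𝔫) (fb.u 𝔫) (fa.e 𝔫) (fb.e 𝔫))
      = vq Q (algebraMap A C a) (algebraMap A C b) := by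
  classical
  obtain ⟨Qi, hQp⟩ := Q
  change Qi = 𝔫.asIdeal.comap ψ at hQ
  subst hQ
  haveI : (𝔫.asIdeal.comap ψ).IsPrime := hQp
  obtain ⟨ε, hε⟩ := exists_eps q ψ hcomm hsurj hker 𝔫.asIdeal
  letI algRC : Algebra (Localization.AtPrime q.asIdeal)
      (Localization.AtPrime (𝔫.asIdeal.comap ψ)) :=
    (ε.symm.toRingHom.comp (algebraMap (Localization.AtPrime q.asIdeal)
      (Localization.AtPrime 𝔫.asIdeal))).toAlgebra
  have hεR : ∀ x, ε (algebraMap (Localization.AtPrime q.asIdeal)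
      (Localization.AtPrime (𝔫.asIdeal.comap ψ)) x) =
      algebraMap (Localization.AtPrime q.asIdeal) (Localization.AtPrime 𝔫.asIdeal) x :=
    fun x => ε.apply_symm_apply _
  haveI hlocRC : IsLocalHom (algebraMap (Localization.AtPrime q.asIdeal)
      (Localization.AtPrime (𝔫.asIdeal.comap ψ))) := by
    constructor
    intro x hx
    have h1 : IsUnit (ε (algebraMap (Localization.AtPrime q.asIdeal)
      (Localization.AtPrime (𝔫.asIdeal.comap ψ)) x)) := hx.map ε
    rw [hεR] at h1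
    exact isUnit_of_map_unit (algebraMap (Localization.AtPrime q.asIdeal)
      (Localization.AtPrime 𝔫.asIdeal)) x h1
  have htower : ∀ x : A, algebraMap (Localization.AtPrime q.asIdeal)
      (Localization.AtPrime (𝔫.asIdeal.comap ψ))
      (algebraMap A (Localization.AtPrime q.asIdeal) x) =
      algebraMap C (Localization.AtPrime (𝔫.asIdeal.comap ψ)) (algebraMap A C x) := by
    intro x
    apply ε.injective
    rw [hεR, hε, hcomm, ← IsScalarTower.algebraMap_apply (Localization.AtPrime q.asIdeal) F.B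
      (Localization.AtPrime 𝔫.asIdeal)]
  have hπ' : ε.symm (F.π 𝔫) ∈ nonZeroDivisors (Localization.AtPrime (𝔫.asIdeal.comap ψ)) :=
    ringEquiv_mem_nonZeroDivisors ε.symm (F.π_mem 𝔫)
  have hfacx : ∀ (x : A) (fx : Fac F (algebraMap A (Localization.AtPrime q.asIdeal) x)),
      algebraMap C (Localization.AtPrime (𝔫.asIdeal.comap ψ)) (algebraMap A C x) =
        ((unitMap ε.symm (fx.u 𝔫) : (Localization.AtPrime (𝔫.asIdeal.comap ψ))ˣ) :
          Localization.AtPrime (𝔫.asIdeal.comap ψ)) * (ε.symm (F.π 𝔫)) ^ (fx.e 𝔫) := by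
    intro x fx
    apply ε.injective
    rw [hε, hcomm, ← IsScalarTower.algebraMap_apply (Localization.AtPrime q.asIdeal) F.B
      (Localization.AtPrime 𝔫.asIdeal), fx.fac 𝔫, map_mul, map_pow, unitMap_val,
      ε.apply_symm_apply, ε.apply_symm_apply]
  refine ⟨⟨ε.symm (F.π 𝔫), hπ', fa.e 𝔫, fb.e 𝔫, ?_, ?_⟩, ?_⟩
  · show Associated (algebraMap C (Localization.AtPrime (𝔫.asIdeal.comap ψ))
      (algebraMap A C a)) _
    rw [hfacx a fa]
    exact associated_unit_mul_left _ _ (Units.isUnit _)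
  · show Associated (algebraMap C (Localization.AtPrime (𝔫.asIdeal.comap ψ))
      (algebraMap A C b)) _
    rw [hfacx b fb]
    exact associated_unit_mul_left _ _ (Units.isUnit _)
  · haveI hdim := krullDimLE_quot hA q hq
    have hqq' : (𝔫.asIdeal.comap ψ).comap (algebraMap A C) = q.asIdeal :=
      comap_comap_eq q ψ hcomm 𝔫.asIdeal
    have hdimC : ringKrullDim (Localization.AtPrime (𝔫.asIdeal.comap ψ)) = 1 :=
      dim_loc (⟨_, hQp⟩ : PrimeSpectrum C) hQ1
    rw [locFac_transport (Localization.AtPrime q.asIdeal) ε hεR (ε.symm (F.π 𝔫)) (F.π 𝔫)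
      (ε.apply_symm_apply _).symm
      (unitMap ε.symm (fa.u 𝔫)) (unitMap ε.symm (fb.u 𝔫)) (fa.u 𝔫) (fb.u 𝔫)
      (by rw [unitMap_val, ε.apply_symm_apply]) (by rw [unitMap_val, ε.apply_symm_apply])
      (fa.e 𝔫) (fb.e 𝔫)]
    unfold vq
    change _ = CycAlg.ordFrac (C ⧸ 𝔫.asIdeal.comap ψ) (𝔫.asIdeal.comap ψ).ResidueField
      (CycAlg.tameSymbol (Localization.AtPrime (𝔫.asIdeal.comap ψ))
        (algebraMap C (Localization.AtPrime (𝔫.asIdeal.comap ψ)) (algebraMap A C a))
        (algebraMap C (Localization.AtPrime (𝔫.asIdeal.comap ψ)) (algebraMap A C b)))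
    rw [hfacx a fa, hfacx b fb, tameSymbol_fac _ hdimC hπ', ordFrac_pow']
    unfold locFac
    rw [ordFrac_pow']
    congr 1
    exact ordFrac_norm_eq hres q.asIdeal (𝔫.asIdeal.comap ψ) hqq' hdim htower _
      (theta_ne_zero _ _ _ _ _)

theorem vq_eq_sum {a b : A} (ha : a ∈ nonZeroDivisors A) (hb : b ∈ nonZeroDivisors A)
    (fa : Fac F (algebraMap A (Localization.AtPrime q.asIdeal) a))
    (fb : Fac F (algebraMap A (Localization.AtPrime q.asIdeal) b))
    [Fintype (MaximalSpectrum F.B)]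
    (Qof : MaximalSpectrum F.B → PrimeSpectrum C)
    (hQof : ∀ 𝔫, (Qof 𝔫).asIdeal = 𝔫.asIdeal.comap ψ)
    (hQ1 : ∀ 𝔫, (Qof 𝔫).asIdeal.height = 1) :
    vq q a b = ∑ 𝔫, vq (Qof 𝔫) (algebraMap A C a) (algebraMap A C b) := by
  haveI := krullDimLE_loc q hq
  have h1 : vq q a b =
      CycAlg.ordFrac (A ⧸ q.asIdeal) q.asIdeal.ResidueField (symb F fa fb) := by
    unfold vq
    rw [tameSymbol_eq_symb F (alg_nzd q ha) (alg_nzd q hb) fa fb]
  rw [h1]
  unfold symb
  rw [ordFrac_prod]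
  · exact Finset.sum_congr rfl (fun 𝔫 _ =>
      (contrib q hA hq hres F ψ hcomm hsurj hker fa fb 𝔫 (Qof 𝔫) (hQof 𝔫) (hQ1 𝔫)).2)
  · intro 𝔫 _
    haveI : Module.Finite (ResidueField (Localization.AtPrime q.asIdeal))
        (ResidueField (Localization.AtPrime 𝔫.asIdeal)) :=
      finite_residueField (Localization.AtPrime q.asIdeal) F.B 𝔫.asIdeal
    exact locFac_ne_zero _ _ _ _ _ _ _

end Contrib

end Groth.Agent.Helper8.KL
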