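import Mathlib
import Groth.Prelude.Def_Tame
import Groth.Agent.Lib.Helper8.KLg
import Groth.Agent.Lib.Helper8.KLi
import Groth.Agent.Lib.Helper8.Tame7

/-!
# The key lemma: the sum of the orders of the tame symbols vanishes
-/

set_option autoImplicit false
universe u

namespace Groth.Agent.Helper8.KL

open IsLocalRing Groth.Agent.Helper8.Tame

section Final

variable {A : Type u} [CommRing A] [IsNoetherianRing A] [IsLocalRing A]

theorem dim_eq_two_of_finite (hA : ringKrullDim A = 2) {C : Type u} [CommRing C] [Algebra A C]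
    [IsLocalRing C] [Module.Finite A C] (q0 : PrimeSpectrum A) (hq0 : q0.asIdeal.height = 1)
    {t : A} (ht0 : t ∈ q0.asIdeal) (htC : algebraMap A C t ∈ nonZeroDivisors C)
    (hinj : Function.Injective (algebraMap A C)) : ringKrullDim C = 2 := by
  haveI : Algebra.IsIntegral A C := Algebra.IsIntegral.of_finite A C
  haveI : IsNoetherianRing C := isNoetherianRing_of_finite A C
  apply le_antisymm
  · exact (ringKrullDim_le_of_isIntegral' A C).trans hA.le
  · obtain ⟨Q, -, hQp, hQc⟩ := Ideal.exists_ideal_over_prime_of_isIntegral q0.asIdeal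
      (⊥ : Ideal C) (by
        intro x hx
        have h0 : algebraMap A C x = 0 := hx
        have h1 : x = 0 := hinj (h0.trans (map_zero _).symm)
        rw [h1]; exact Ideal.zero_mem _)
    haveI := hQp
    have hQm : Q ≠ maximalIdeal C := by
      intro h
      rw [h, comap_eq_maximalIdeal A C (maximalIdeal C)] at hQc
      exact ne_maximal hA q0 hq0 hQc.symm
    have hQlt : Q < maximalIdeal C := lt_of_le_of_ne (le_maximalIdeal hQp.ne_top) hQm
    have htQ : algebraMap A C t ∈ Q := by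
      have h : t ∈ Q.comap (algebraMap A C) := by rw [hQc]; exact ht0
      exact h
    have h1 : 1 ≤ Q.height :=
      (Ideal.one_le_height_span_singleton_of_mem_nonZeroDivisors htC).trans
        (Ideal.height_mono ((Ideal.span_singleton_le_iff_mem _).mpr htQ))
    have h2 : Q.height < (maximalIdeal C).height := Ideal.height_strict_mono_of_isPrime hQlt
    have h3 : (2 : ℕ∞) ≤ (maximalIdeal C).height := by
      have h4 := Order.add_one_le_of_lt (lt_of_le_of_lt h1 h2)
      rwa [one_add_one_eq_two] at h4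
    rw [← IsLocalRing.maximalIdeal_height_eq_ringKrullDim]
    have h5 : ((2 : ℕ∞) : WithBot ℕ∞) ≤ ((maximalIdeal C).height : WithBot ℕ∞) :=
      WithBot.coe_le_coe.mpr h3
    exact h5

theorem isMaximal_of_nzd_mem {B : Type*} [CommRing B] [Ring.KrullDimLE 1 B] (𝔫 : Ideal B)
    [h𝔫 : 𝔫.IsPrime] {x : B} (hx : x ∈ nonZeroDivisors B) (hx𝔫 : x ∈ 𝔫) : 𝔫.IsMaximal := by
  rcases (Ring.krullDimLE_one_iff.mp inferInstance) 𝔫 h𝔫 with hmin | hmax
  · exfalso
    exact Set.disjoint_left.mp (Ideal.disjoint_nonZeroDivisors_of_mem_minimalPrimes hmin)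
      hx𝔫 hx
  · exact hmax

set_option maxHeartbeats 1600000 in
set_option synthInstance.maxHeartbeats 400000 in
theorem S_eq_zero (hA : ringKrullDim A = 2) {a b : A} (ha : a ∈ nonZeroDivisors A)
    (hb : b ∈ nonZeroDivisors A) : S a b = 0 := by
  classical
  have htnz : a * b ∈ nonZeroDivisors A := mul_mem ha hb
  obtain ⟨T, hT1, hT2⟩ := exists_finset htnz
  let Z : Finset (PrimeSpectrum A) := T.filter (fun p => a * b ∈ p.asIdeal)
  have hZ : ∀ p, p ∈ Z ↔ p.asIdeal.height = 1 ∧ a * b ∈ p.asIdeal := by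
    intro p
    show p ∈ T.filter _ ↔ _
    rw [Finset.mem_filter]
    exact ⟨fun ⟨h1, h2⟩ => ⟨hT1 p h1, h2⟩, fun ⟨h1, h2⟩ => ⟨hT2 p h1 h2, h2⟩⟩
  have hSA : S a b = ∑ p ∈ Z, vq p a b :=
    S_eq_sum a b (a * b) dvd_rfl Z (fun p hp => ((hZ p).mp hp).1)
      (fun p h1 h2 => (hZ p).mpr ⟨h1, h2⟩)
  by_cases hempty : Z = ∅
  · rw [hSA, hempty, Finset.sum_empty]
  obtain ⟨q0, hq0Z⟩ := Finset.nonempty_iff_ne_empty.mpr hempty
  have hq0 := (hZ q0).mp hq0Z
  -- enumerate
  let r := Z.card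
  let e : Z ≃ Fin r := Z.equivFin
  let qs : Fin r → PrimeSpectrum A := fun i => (e.symm i).1
  have hqsZ : ∀ i, qs i ∈ Z := fun i => (e.symm i).2
  have hqs_inj : Function.Injective qs := fun i j h => e.symm.injective (Subtype.ext h)
  have hqs_surj : ∀ p ∈ Z, ∃ i, qs i = p := fun p hp =>
    ⟨e ⟨p, hp⟩, by show (e.symm (e ⟨p, hp⟩)).1 = p; rw [e.symm_apply_apply]⟩
  have hht : ∀ i, (qs i).asIdeal.height = 1 := fun i => ((hZ _).mp (hqsZ i)).1
  have htq : ∀ i, a * b ∈ (qs i).asIdeal := fun i => ((hZ _).mp (hqsZ i)).2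
  -- local data
  have hex : ∀ i, ∃ F : FacSys (Localization.AtPrime (qs i).asIdeal),
      Nonempty (Fac F (algebraMap A (Localization.AtPrime (qs i).asIdeal) a)) ∧
        Nonempty (Fac F (algebraMap A (Localization.AtPrime (qs i).asIdeal) b)) := by
    intro i
    obtain ⟨F, h1, h2, -⟩ := exists_facSys₃ (dim_loc (qs i) (hht i))
      (algebraMap A (Localization.AtPrime (qs i).asIdeal) a)
      (algebraMap A (Localization.AtPrime (qs i).asIdeal) b)
      (algebraMap A (Localization.AtPrime (qs i).asIdeal) b)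
      (alg_nzd (qs i) ha) (alg_nzd (qs i) hb) (alg_nzd (qs i) hb) (by
        rintro ⟨hua, hub, -⟩
        have hu : IsUnit (algebraMap A (Localization.AtPrime (qs i).asIdeal) (a * b)) := by
          rw [map_mul]; exact hua.mul hub
        exact ((IsLocalization.AtPrime.isUnit_to_map_iff (Localization.AtPrime (qs i).asIdeal)
          (qs i).asIdeal (a * b)).mp hu) (htq i))
    exact ⟨F, h1, h2⟩
  choose F hFa hFb using hex
  have fa : ∀ i, Fac (F i) (algebraMap A (Localization.AtPrime (qs i).asIdeal) a) :=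
    fun i => (hFa i).some
  have fb : ∀ i, Fac (F i) (algebraMap A (Localization.AtPrime (qs i).asIdeal) b) :=
    fun i => (hFb i).some
  have htB : ∀ i, algebraMap (Localization.AtPrime (qs i).asIdeal) (F i).B
      (algebraMap A (Localization.AtPrime (qs i).asIdeal) (a * b)) ∈
      nonZeroDivisors (F i).B := by
    intro i
    rw [map_mul]
    exact algebraMap_mul_mem_nonZeroDivisors _ ((F i).toTameData (fa i) (fb i))
  obtain ⟨C, instC, instAlg, instLoc, instFin, hinjC, hres, hnzdC, ψ, hcomm, hsurj, hker⟩ :=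
    @exists_glue A _ _ _ hA (a * b) htnz r (fun i => (qs i).asIdeal)
      (fun i => (qs i).isPrime)
      (fun i j h => hqs_inj (PrimeSpectrum.ext h)) (fun i => ne_maximal hA (qs i) (hht i)) htq
      (by
        intro p hp htp
        by_cases hpm : p = maximalIdeal A
        · exact Or.inl hpm
        · right
          have h1 : (⟨p, hp⟩ : PrimeSpectrum A).asIdeal.height = 1 :=
            height_eq_one_of_mem hA ⟨p, hp⟩ htnz htp hpm
          obtain ⟨i, hi⟩ := hqs_surj ⟨p, hp⟩ ((hZ _).mpr ⟨h1, htp⟩)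
          exact ⟨i, by rw [hi]⟩)
      (fun i => (F i).B) (fun i => (F i).commRing) (fun i => (F i).algebra)
      (fun i => (F i).isFinExt) htB
  haveI : IsNoetherianRing C := isNoetherianRing_of_finite A C
  have hnzdC_t : algebraMap A C (a * b) ∈ nonZeroDivisors C := hnzdC _ dvd_rfl
  have haC : algebraMap A C a ∈ nonZeroDivisors C := hnzdC a ⟨b, rfl⟩
  have hbC : algebraMap A C b ∈ nonZeroDivisors C := hnzdC b ⟨a, mul_comm a b⟩
  have hdimC : ringKrullDim C = 2 := dim_eq_two_of_finite hA q0 hq0.1 hq0.2 hnzdC_t hinjC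
  haveI hfinMS : ∀ i, Finite (MaximalSpectrum (F i).B) := fun i =>
    finite_maximalSpectrum (Localization.AtPrime (qs i).asIdeal) (F i).B
  letI hFT : ∀ i, Fintype (MaximalSpectrum (F i).B) := fun i => Fintype.ofFinite _
  let Qof : ∀ i, MaximalSpectrum (F i).B → PrimeSpectrum C := fun i 𝔫 =>
    ⟨𝔫.asIdeal.comap (ψ i), inferInstance⟩
  have hQcomap : ∀ i (𝔫 : MaximalSpectrum (F i).B),
      (Qof i 𝔫).asIdeal.comap (algebraMap A C) = (qs i).asIdeal := fun i 𝔫 =>
    comap_comap_eq (qs i) (ψ i) (hcomm i) 𝔫.asIdeal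
  have hQne : ∀ i (𝔫 : MaximalSpectrum (F i).B), (Qof i 𝔫).asIdeal ≠ maximalIdeal C := by
    intro i 𝔫 h
    have h1 := hQcomap i 𝔫
    rw [h, comap_eq_maximalIdeal A C (maximalIdeal C)] at h1
    exact ne_maximal hA (qs i) (hht i) h1.symm
  have hQt : ∀ i (𝔫 : MaximalSpectrum (F i).B), algebraMap A C (a * b) ∈ (Qof i 𝔫).asIdeal := by
    intro i 𝔫
    have h : a * b ∈ (Qof i 𝔫).asIdeal.comap (algebraMap A C) := by
      rw [hQcomap]; exact htq i
    exact h
  have hQ1 : ∀ i (𝔫 : MaximalSpectrum (F i).B), (Qof i 𝔫).asIdeal.height = 1 := fun i 𝔫 =>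
    height_eq_one_of_mem hdimC (Qof i 𝔫) hnzdC_t (hQt i 𝔫) (hQne i 𝔫)
  -- the sum over the primes of A
  have hsumA : ∑ p ∈ Z, vq p a b = ∑ i, vq (qs i) a b := by
    have himg : Z = Finset.univ.image qs := by
      ext p
      rw [Finset.mem_image]
      constructor
      · intro hp
        obtain ⟨i, hi⟩ := hqs_surj p hp
        exact ⟨i, Finset.mem_univ _, hi⟩
      · rintro ⟨i, -, rfl⟩
        exact hqsZ i
    rw [himg, Finset.sum_image (fun i _ j _ h => hqs_inj h)]
  have hvi : ∀ i, vq (qs i) a b = ∑ 𝔫 : MaximalSpectrum (F i).B,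
      vq (Qof i 𝔫) (algebraMap A C a) (algebraMap A C b) := fun i =>
    vq_eq_sum (qs i) hA (hht i) hres (F i) (ψ i) (hcomm i) (hsurj i) (hker i) ha hb
      (fa i) (fb i) (Qof i) (fun 𝔫 => rfl) (hQ1 i)
  -- the primes of C
  let g : (Σ i, MaximalSpectrum (F i).B) → PrimeSpectrum C := fun x => Qof x.1 x.2
  have hg1 : ∀ Q ∈ Finset.univ.image g, Q.asIdeal.height = 1 := by
    intro Q hQ
    obtain ⟨x, -, rfl⟩ := Finset.mem_image.mp hQ
    exact hQ1 x.1 x.2
  have hg2 : ∀ Q : PrimeSpectrum C, Q.asIdeal.height = 1 →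
      algebraMap A C (a * b) ∈ Q.asIdeal → Q ∈ Finset.univ.image g := by
    intro Q hQh hQt'
    have hcp : (Q.asIdeal.comap (algebraMap A C)).IsPrime := Ideal.comap_isPrime _ _
    have hcne : Q.asIdeal.comap (algebraMap A C) ≠ maximalIdeal A := by
      intro h
      haveI : Algebra.IsIntegral A C := Algebra.IsIntegral.of_finite A C
      have hmax : Q.asIdeal.IsMaximal :=
        Ideal.isMaximal_of_isIntegral_of_isMaximal_comap Q.asIdeal
          (by rw [h]; exact maximalIdeal.isMaximal A)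
      exact ne_maximal hdimC Q hQh (IsLocalRing.eq_maximalIdeal hmax)
    have h1 : (⟨_, hcp⟩ : PrimeSpectrum A).asIdeal.height = 1 :=
      height_eq_one_of_mem hA ⟨_, hcp⟩ htnz hQt' hcne
    obtain ⟨i, hi⟩ := hqs_surj ⟨_, hcp⟩ ((hZ _).mpr ⟨h1, hQt'⟩)
    have hci : Q.asIdeal.comap (algebraMap A C) = (qs i).asIdeal := by rw [hi]
    obtain ⟨𝔫, h𝔫p, h𝔫c⟩ :=
      exists_comap_eq (qs i) (ψ i) (hcomm i) (hsurj i) (hker i) Q.asIdeal hci
    haveI := h𝔫p
    haveI : Ring.KrullDimLE 1 (F i).B := by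
      haveI := krullDimLE_loc (qs i) (hht i)
      exact krullDimLE_one_of_finite (Localization.AtPrime (qs i).asIdeal) (F i).B
    have h𝔫t : algebraMap (Localization.AtPrime (qs i).asIdeal) (F i).B
        (algebraMap A (Localization.AtPrime (qs i).asIdeal) (a * b)) ∈ 𝔫 := by
      rw [← hcomm i]
      have h : algebraMap A C (a * b) ∈ 𝔫.comap (ψ i) := by rw [h𝔫c]; exact hQt'
      exact h
    have h𝔫max : 𝔫.IsMaximal := isMaximal_of_nzd_mem 𝔫 (htB i) h𝔫t
    refine Finset.mem_image.mpr ⟨⟨i, ⟨𝔫, h𝔫max⟩⟩, Finset.mem_univ _, ?_⟩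
    exact PrimeSpectrum.ext h𝔫c
  have hginj : Function.Injective g := by
    rintro ⟨i, 𝔫⟩ ⟨j, 𝔫'⟩ h
    have h' : (Qof i 𝔫).asIdeal = (Qof j 𝔫').asIdeal := congrArg PrimeSpectrum.asIdeal h
    have hij : i = j := by
      apply hqs_inj
      apply PrimeSpectrum.ext
      rw [← hQcomap i 𝔫, ← hQcomap j 𝔫', h']
    subst hij
    have h2 : 𝔫.asIdeal = 𝔫'.asIdeal :=
      comap_psi_injective (qs i) (ψ i) (hcomm i) (hsurj i) (hker i) 𝔫.asIdeal 𝔫'.asIdeal h'
    have h𝔫 : 𝔫 = 𝔫' := MaximalSpectrum.ext h2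
    rw [h𝔫]
  have hSC : S (algebraMap A C a) (algebraMap A C b) =
      ∑ Q ∈ Finset.univ.image g, vq Q (algebraMap A C a) (algebraMap A C b) :=
    S_eq_sum _ _ (algebraMap A C (a * b)) ⟨1, by rw [map_mul, mul_one]⟩ _ hg1 hg2
  have hzero : S (algebraMap A C a) (algebraMap A C b) = 0 := by
    apply S_eq_zero_of_facAt hdimC haC hbC
    intro Q hQh hQa hQb
    have hQt' : algebraMap A C (a * b) ∈ Q.asIdeal := by
      rw [map_mul]; exact Ideal.mul_mem_right _ _ hQa
    obtain ⟨x, -, hx⟩ := Finset.mem_image.mp (hg2 Q hQh hQt')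
    subst hx
    exact (contrib (qs x.1) hA (hht x.1) hres (F x.1) (ψ x.1) (hcomm x.1) (hsurj x.1)
      (hker x.1) (fa x.1) (fb x.1) x.2 (Qof x.1 x.2) rfl (hQ1 x.1 x.2)).1
  rw [hSC, Finset.sum_image (fun x _ y _ h => hginj h)] at hzero
  rw [hSA, hsumA, Finset.sum_congr rfl (fun i _ => hvi i),
    ← Fintype.sum_sigma' (fun i 𝔫 => vq (Qof i 𝔫) (algebraMap A C a) (algebraMap A C b))]
  exact hzero

end Final

end Groth.Agent.Helper8.KL
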