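import Mathlib
import Groth.Agent.Lib.Helper8.PRad4

/-!
# Absolute differentials of a quotient, tensored with a residue ring
-/

set_option autoImplicit false

namespace Groth.Agent.Helper8.KaehlerQuot

open TensorProduct KaehlerDifferential

section main

variable {A A' L : Type*} [CommRing A] [CommRing A'] [CommRing L] [Algebra A A'] [Algebra A' L]
  [Algebra A L] [IsScalarTower A A' L]

/-- The comparison map `L ⊗_A Ω_A → L ⊗_{A'} Ω_{A'}`. -/
noncomputable def compMap : L ⊗[A] Ω[A⁄ℤ] →ₗ[L] L ⊗[A'] Ω[A'⁄ℤ] :=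
  LinearMap.liftBaseChange L
    (((TensorProduct.mk A' L Ω[A'⁄ℤ] 1).restrictScalars A) ∘ₗ KaehlerDifferential.map ℤ ℤ A A')

theorem compMap_tmul_D (a : A) :
    compMap (A := A) (A' := A') (L := L) ((1 : L) ⊗ₜ[A] D ℤ A a) =
      (1 : L) ⊗ₜ[A'] D ℤ A' (algebraMap A A' a) := by
  rw [compMap, LinearMap.liftBaseChange_tmul, one_smul]
  show (1 : L) ⊗ₜ[A'] (KaehlerDifferential.map ℤ ℤ A A' (D ℤ A a)) = _
  rw [KaehlerDifferential.map_D]

variable (hsurj : Function.Surjective (algebraMap A A'))
  (hker : ∀ x ∈ RingHom.ker (algebraMap A A'), (1 : L) ⊗ₜ[A] D ℤ A x = 0)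

omit [Algebra A' L] [IsScalarTower A A' L] in
include hker in
theorem tmul_D_eq_of_algebraMap_eq {a b : A} (h : algebraMap A A' a = algebraMap A A' b) :
    (1 : L) ⊗ₜ[A] D ℤ A a = (1 : L) ⊗ₜ[A] D ℤ A b := by
  have h1 : a - b ∈ RingHom.ker (algebraMap A A') := by
    rw [RingHom.mem_ker, map_sub, h, sub_self]
  have h2 := hker _ h1
  rw [map_sub, TensorProduct.tmul_sub, sub_eq_zero] at h2
  exact h2

/-- The derivation `A' → L ⊗_A Ω_A`, as a function. -/
noncomputable def derFun (x : A') : L ⊗[A] Ω[A⁄ℤ] :=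
  (1 : L) ⊗ₜ[A] D ℤ A (Function.surjInv hsurj x)

omit [Algebra A' L] [IsScalarTower A A' L] in
include hker in
theorem derFun_algebraMap (a : A) :
    derFun (L := L) hsurj (algebraMap A A' a) = (1 : L) ⊗ₜ[A] D ℤ A a :=
  tmul_D_eq_of_algebraMap_eq hker (Function.surjInv_eq hsurj _)

theorem algebraMap_smul_tmul (a : A) (z : L ⊗[A] Ω[A⁄ℤ]) :
    algebraMap A A' a • z = algebraMap A L a • z := by
  rw [← algebraMap_smul L (algebraMap A A' a) z, ← IsScalarTower.algebraMap_apply]

/-- The derivation `A' → L ⊗_A Ω_A`, `ā ↦ 1 ⊗ da`. -/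
noncomputable def der : Derivation ℤ A' (L ⊗[A] Ω[A⁄ℤ]) where
  toFun := derFun (L := L) hsurj
  map_add' x y := by
    obtain ⟨a, rfl⟩ := hsurj x
    obtain ⟨b, rfl⟩ := hsurj y
    rw [← map_add, derFun_algebraMap hsurj hker, derFun_algebraMap hsurj hker,
      derFun_algebraMap hsurj hker, map_add, TensorProduct.tmul_add]
  map_smul' n x := by
    obtain ⟨a, rfl⟩ := hsurj x
    rw [← map_zsmul, derFun_algebraMap hsurj hker, derFun_algebraMap hsurj hker, map_zsmul,
      TensorProduct.tmul_smul]
    rfl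
  map_one_eq_zero' := by
    show derFun (L := L) hsurj 1 = 0
    rw [← map_one (algebraMap A A'), derFun_algebraMap hsurj hker, Derivation.map_one_eq_zero,
      TensorProduct.tmul_zero]
  leibniz' x y := by
    obtain ⟨a, rfl⟩ := hsurj x
    obtain ⟨b, rfl⟩ := hsurj y
    show derFun (L := L) hsurj (algebraMap A A' a * algebraMap A A' b) =
      algebraMap A A' a • derFun (L := L) hsurj (algebraMap A A' b) +
        algebraMap A A' b • derFun (L := L) hsurj (algebraMap A A' a)
    rw [← map_mul, derFun_algebraMap hsurj hker, derFun_algebraMap hsurj hker,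
      derFun_algebraMap hsurj hker, Derivation.leibniz, TensorProduct.tmul_add,
      algebraMap_smul_tmul (a := a), algebraMap_smul_tmul (a := b),
      Groth.Agent.Helper8.PRad.one_tmul_smul, Groth.Agent.Helper8.PRad.one_tmul_smul]

include hsurj hker in
theorem der_algebraMap (a : A) :
    der (L := L) hsurj hker (algebraMap A A' a) = (1 : L) ⊗ₜ[A] D ℤ A a :=
  derFun_algebraMap hsurj hker a

include hsurj hker in
/-- The comparison map is injective. -/
theorem compMap_injective :
    Function.Injective (compMap (A := A) (A' := A') (L := L)) := by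
  let ψ : L ⊗[A'] Ω[A'⁄ℤ] →ₗ[L] L ⊗[A] Ω[A⁄ℤ] :=
    LinearMap.liftBaseChange L (der (L := L) hsurj hker).liftKaehlerDifferential
  have h : ψ ∘ₗ compMap (A := A) (A' := A') (L := L) = LinearMap.id := by
    apply Groth.Agent.Helper8.PRad.linearMap_ext_D
    intro a
    rw [LinearMap.comp_apply, compMap_tmul_D, LinearMap.id_apply]
    show LinearMap.liftBaseChange L (der (L := L) hsurj hker).liftKaehlerDifferential _ = _
    rw [LinearMap.liftBaseChange_tmul, one_smul, Derivation.liftKaehlerDifferential_comp_D,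
      der_algebraMap]
  intro x y hxy
  have := congrArg ψ hxy
  rwa [← LinearMap.comp_apply, ← LinearMap.comp_apply, h] at this

include hsurj hker in
/-- Linear independence of differentials can be tested after passing to the quotient. -/
theorem linearIndependent_iff {ι : Type*} (w : ι → A) :
    LinearIndependent L (fun i => (1 : L) ⊗ₜ[A'] D ℤ A' (algebraMap A A' (w i))) ↔
      LinearIndependent L (fun i => (1 : L) ⊗ₜ[A] D ℤ A (w i)) := by
  have h : (fun i => (1 : L) ⊗ₜ[A'] D ℤ A' (algebraMap A A' (w i))) =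
      compMap (A := A) (A' := A') (L := L) ∘ fun i => (1 : L) ⊗ₜ[A] D ℤ A (w i) := by
    funext i
    rw [Function.comp_apply, compMap_tmul_D]
  rw [h]
  exact LinearMap.linearIndependent_iff _
    (LinearMap.ker_eq_bot.2 (compMap_injective hsurj hker))

end main

section sq

variable {A A' L : Type*} [CommRing A] [CommRing A'] [CommRing L] [Algebra A A'] [Algebra A' L]
  [Algebra A L] [IsScalarTower A A' L]

omit [Algebra A' L] [IsScalarTower A A' L] in
/-- Differentials of elements of the square of the kernel of `A → L` vanish in `L ⊗ Ω_A`. -/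
theorem tmul_D_eq_zero_of_mem_sq (x : A) (hx : x ∈ RingHom.ker (algebraMap A L) ^ 2) :
    (1 : L) ⊗ₜ[A] D ℤ A x = 0 := by
  rw [pow_two] at hx
  induction hx using Submodule.mul_induction_on' with
  | mem_mul_mem y hy z hz =>
    rw [Derivation.leibniz, TensorProduct.tmul_add,
      Groth.Agent.Helper8.PRad.one_tmul_smul, Groth.Agent.Helper8.PRad.one_tmul_smul,
      RingHom.mem_ker.1 hy, RingHom.mem_ker.1 hz, zero_smul, zero_smul, add_zero]
  | add y _ z _ hy hz =>
    rw [map_add, TensorProduct.tmul_add, hy, hz, add_zero]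

end sq

end Groth.Agent.Helper8.KaehlerQuot
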