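import Mathlib
import Groth.Prelude.Def_ega3
import Groth.Prelude.Def_CAlg
import Groth.Agent.Lib.Helper8.Koszul6
import Groth.Agent.Lib.Helper8.Depth3

/-!
# Depth sensitivity of the Koszul complex
-/

namespace Groth.Agent.Helper8.KoszulLib

open CategoryTheory CategoryTheory.Limits CochainComplex CohIII LocCoh
open scoped Pointwise

universe u

variable {A : Type u} [CommRing A]

/-- The long exact sequence of Koszul cohomology for `0 → M --y--> M → M/yM → 0`. -/
theorem exists_exact_of_regular (M : Type u) [AddCommGroup M] [Module A M] (y : A)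
    (hy : IsSMulRegular M y) (fs : List A) (i j : ℤ) (hij : i + 1 = j) :
    ∃ (π : (koszulCx (ModuleCat.of A M) fs).homology i →ₗ[A]
        (koszulCx (ModuleCat.of A (QuotSMulTop y M)) fs).homology i)
      (δ : (koszulCx (ModuleCat.of A (QuotSMulTop y M)) fs).homology i →ₗ[A]
        (koszulCx (ModuleCat.of A M) fs).homology j),
      Function.Exact (y • (LinearMap.id : (koszulCx (ModuleCat.of A M) fs).homology i →ₗ[A] _)) π ∧
      Function.Exact π δ ∧
      Function.Exact δ (y • (LinearMap.id : (koszulCx (ModuleCat.of A M) fs).homology j →ₗ[A] _)) := by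
  have hd := degreewiseSES_koszulMap (y • 𝟙 (ModuleCat.of A M))
    (ModuleCat.ofHom (Submodule.mkQ (y • (⊤ : Submodule A M)))) hy
    (Submodule.mkQ_surjective _) (by
      intro z
      show Submodule.mkQ _ z = 0 ↔ _
      rw [Submodule.mkQ_apply, Submodule.Quotient.mk_eq_zero,
        Submodule.mem_smul_pointwise_iff_exists]
      constructor
      · rintro ⟨b, -, rfl⟩; exact ⟨b, rfl⟩
      · rintro ⟨b, rfl⟩; exact ⟨b, trivial, rfl⟩) fs
  rw [koszulMap_smul_id] at hd
  obtain ⟨w, hS⟩ := hd.shortExact
  have e : ∀ n, (HomologicalComplex.homologyMap (y • 𝟙 (koszulCx (ModuleCat.of A M) fs)) n).hom =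
      y • (LinearMap.id : (koszulCx (ModuleCat.of A M) fs).homology n →ₗ[A] _) := by
    intro n
    rw [homologyMap_smul_id]
    rfl
  have h1 : Function.Exact
      (HomologicalComplex.homologyMap (y • 𝟙 (koszulCx (ModuleCat.of A M) fs)) i).hom
      (HomologicalComplex.homologyMap (koszulMap (ModuleCat.ofHom
        (Submodule.mkQ (y • (⊤ : Submodule A M)))) fs) i).hom :=
    (ShortComplex.ShortExact.moduleCat_exact_iff_function_exact _).mp (hS.homology_exact₂ i)
  have h2 : Function.Exact
      (HomologicalComplex.homologyMap (koszulMap (ModuleCat.ofHom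
        (Submodule.mkQ (y • (⊤ : Submodule A M)))) fs) i).hom (hS.δ i j hij).hom :=
    (ShortComplex.ShortExact.moduleCat_exact_iff_function_exact _).mp (hS.homology_exact₃ i j hij)
  have h3 : Function.Exact (hS.δ i j hij).hom
      (HomologicalComplex.homologyMap (y • 𝟙 (koszulCx (ModuleCat.of A M) fs)) j).hom :=
    (ShortComplex.ShortExact.moduleCat_exact_iff_function_exact _).mp (hS.homology_exact₁ i j hij)
  rw [e] at h1 h3
  exact ⟨_, _, h1, h2, h3⟩

end Groth.Agent.Helper8.KoszulLib

namespace Groth.Agent.Helper8.KoszulLib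

open CategoryTheory CategoryTheory.Limits CochainComplex CohIII LocCoh
open Groth.Agent.Helper8.Depth
open scoped Pointwise

universe u

variable {A : Type u} [CommRing A] [IsNoetherianRing A]

/-- Depth zero: some nonzero element is killed by the ideal. -/
theorem exists_ne_zero_of_idealDepth_eq_zero (I : Ideal A) (M : Type u) [AddCommGroup M]
    [Module A M] [Module.Finite A M] (h0 : idealDepth I M = 0) :
    ∃ m : M, m ≠ 0 ∧ ∀ a ∈ I, a • m = 0 := by
  classical
  have hnr : ∀ a ∈ I, ¬ IsSMulRegular M a := by
    intro a ha hreg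
    have := length_le_idealDepth (I := I) (M := M) (rs := [a])
      ((RingTheory.Sequence.isWeaklyRegular_singleton_iff M a).mpr hreg) (by simpa using ha)
    rw [h0] at this
    simp at this
  have hsub : ((I : Ideal A) : Set A) ⊆
      ⋃ p ∈ (↑(associatedPrimes.finite A M).toFinset : Set (Ideal A)), ((id p : Ideal A) : Set A) := by
    intro a ha
    have h1 : a ∈ {r : A | IsSMulRegular M r}ᶜ := hnr a ha
    rw [← biUnion_associatedPrimes_eq_compl_regular] at h1
    simpa using h1
  obtain ⟨p, hpS, hle⟩ := (Ideal.subset_union_prime (f := id) (⊥ : Ideal A) ⊥ (by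
    intro i hi _ _
    have : i ∈ associatedPrimes A M := by simpa using hi
    exact this.isPrime)).mp hsub
  have hp : p ∈ associatedPrimes A M := by simpa using hpS
  obtain ⟨hpp, m, hm⟩ := isAssociatedPrime_iff.mp hp
  refine ⟨m, ?_, fun a ha => ?_⟩
  · rintro rfl
    have h1 : (1 : A) ∈ p := by
      rw [hm, Submodule.mem_colon_singleton]; simp
    exact hpp.ne_top ((Ideal.eq_top_iff_one _).mpr h1)
  · have := hle ha
    rw [id, hm, Submodule.mem_colon_singleton] at this
    simpa using this

omit [IsNoetherianRing A] in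
/-- Vanishing of Koszul cohomology below the depth. -/
theorem isZero_homology_of_lt_idealDepth (xs : List A) (k : ℕ) :
    ∀ (M : Type u) [AddCommGroup M] [Module A M] [Module.Finite A M],
    Ideal.span {x | x ∈ xs} • (⊤ : Submodule A M) ≠ ⊤ →
    (k : ℕ∞) ≤ idealDepth (Ideal.span {x | x ∈ xs}) M →
    ∀ p : ℕ, p < k →
      IsZero ((koszulCx (ModuleCat.of A M) xs).homology ((p : ℤ) - xs.length)) := by
  induction k with
  | zero => intro M _ _ _ _ _ p hp; omega
  | succ k ih =>
    intro M _ _ _ hne hk p hp
    obtain ⟨rs, hlen, hreg, hmem⟩ := (le_idealDepth_iff hne (k + 1)).mp hk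
    match rs, hlen, hreg, hmem with
    | y :: rs', hlen, hreg, hmem =>
      rw [RingTheory.Sequence.isWeaklyRegular_cons_iff] at hreg
      obtain ⟨hy, hreg'⟩ := hreg
      have hyI : y ∈ Ideal.span {x | x ∈ xs} := hmem y List.mem_cons_self
      have hne' := smul_top_quotSMulTop_ne_top hyI hne
      have hk' : (k : ℕ∞) ≤ idealDepth (Ideal.span {x | x ∈ xs}) (QuotSMulTop y M) := by
        have := length_le_idealDepth (I := Ideal.span {x | x ∈ xs}) hreg'
          (fun r hr => hmem r (List.mem_cons_of_mem _ hr))
        have hl : rs'.length = k := by simpa using hlen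
        rwa [hl] at this
      obtain ⟨π, δ, h1, h2, h3⟩ := exists_exact_of_regular M y hy xs
        ((p : ℤ) - xs.length - 1) ((p : ℤ) - xs.length) (by ring)
      have hz : IsZero ((koszulCx (ModuleCat.of A (QuotSMulTop y M)) xs).homology
          ((p : ℤ) - xs.length - 1)) := by
        rcases Nat.eq_zero_or_pos p with rfl | hpos
        · exact isZero_homology_of_lt _ xs _ (by push_cast; omega)
        · obtain ⟨p', rfl⟩ : ∃ p', p = p' + 1 := ⟨p - 1, by omega⟩
          have := ih (QuotSMulTop y M) hne' hk' p' (by omega)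
          exact isZero_homology_congr _ (by push_cast; ring) this
      have hs : Subsingleton ((koszulCx (ModuleCat.of A (QuotSMulTop y M)) xs).homology
          ((p : ℤ) - xs.length - 1)) := ModuleCat.subsingleton_of_isZero hz
      have : Subsingleton ((koszulCx (ModuleCat.of A M) xs).homology ((p : ℤ) - xs.length)) := by
        constructor
        intro z w
        have hz0 : ∀ z : (koszulCx (ModuleCat.of A M) xs).homology ((p : ℤ) - xs.length),
            z = 0 := by
          intro z
          have hyz : (y • (LinearMap.id : (koszulCx (ModuleCat.of A M) xs).homology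
              ((p : ℤ) - xs.length) →ₗ[A] _)) z = 0 :=
            smul_homology_eq_zero (ModuleCat.of A M) xs y hyI _ z
          obtain ⟨w, rfl⟩ := (h3 z).mp hyz
          rw [Subsingleton.elim w 0, map_zero]
        rw [hz0 z, hz0 w]
      exact ModuleCat.isZero_of_subsingleton _

/-- Nonvanishing of Koszul cohomology at the depth. -/
theorem not_isZero_homology_idealDepth (xs : List A) (r : ℕ) :
    ∀ (M : Type u) [AddCommGroup M] [Module A M] [Module.Finite A M],
    Ideal.span {x | x ∈ xs} • (⊤ : Submodule A M) ≠ ⊤ →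
    idealDepth (Ideal.span {x | x ∈ xs}) M = r →
      ¬ IsZero ((koszulCx (ModuleCat.of A M) xs).homology ((r : ℤ) - xs.length)) := by
  induction r with
  | zero =>
    intro M _ _ _ hne h0 hz
    obtain ⟨m, hm0, hm⟩ := exists_ne_zero_of_idealDepth_eq_zero _ M (by simpa using h0)
    obtain ⟨e⟩ := nonempty_homology_bot_equiv M xs
    have hz' : IsZero ((koszulCx (ModuleCat.of A M) xs).homology (-(xs.length : ℤ))) :=
      isZero_homology_congr _ (by simp) hz
    have hs : Subsingleton ((koszulCx (ModuleCat.of A M) xs).homology (-(xs.length : ℤ))) :=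
      ModuleCat.subsingleton_of_isZero hz'
    have hs' : Subsingleton (annSub M xs) := e.symm.toEquiv.subsingleton
    have hmem : m ∈ annSub M xs := fun f hf => hm f (Ideal.subset_span hf)
    have := Subsingleton.elim (⟨m, hmem⟩ : annSub M xs) 0
    exact hm0 (congrArg Subtype.val this)
  | succ r ih =>
    intro M _ _ _ hne hr hz
    have h1le : (1 : ℕ∞) ≤ idealDepth (Ideal.span {x | x ∈ xs}) M := by
      rw [hr]; exact_mod_cast Nat.succ_pos r
    obtain ⟨rs, hlen, hreg, hmem⟩ := (le_idealDepth_iff hne 1).mp (by exact_mod_cast h1le)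
    match rs, hlen, hreg, hmem with
    | [y], _, hreg, hmem =>
      have hy : IsSMulRegular M y :=
        ((RingTheory.Sequence.isWeaklyRegular_cons_iff M y []).mp hreg).1
      have hyI : y ∈ Ideal.span {x | x ∈ xs} := hmem y List.mem_cons_self
      have hne' := smul_top_quotSMulTop_ne_top hyI hne
      have hd := idealDepth_quotSMulTop_add_one hne hyI hy
      rw [hr] at hd
      have hd' : idealDepth (Ideal.span {x | x ∈ xs}) (QuotSMulTop y M) = r := by
        have h2 : idealDepth (Ideal.span {x | x ∈ xs}) (QuotSMulTop y M) + 1 = (r : ℕ∞) + 1 := by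
          rw [hd]; push_cast; rfl
        exact (ENat.add_left_injective_of_ne_top (by simp)) h2
      have hnz := ih (QuotSMulTop y M) hne' hd'
      obtain ⟨π, δ, h1, h2, h3⟩ := exists_exact_of_regular M y hy xs
        ((r : ℤ) - xs.length) (((r + 1 : ℕ) : ℤ) - xs.length) (by push_cast; ring)
      have hzM : IsZero ((koszulCx (ModuleCat.of A M) xs).homology ((r : ℤ) - xs.length)) :=
        isZero_homology_of_lt_idealDepth xs (r + 1) M hne (by rw [hr]) r (by omega)
      have hsM : Subsingleton ((koszulCx (ModuleCat.of A M) xs).homology ((r : ℤ) - xs.length)) :=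
        ModuleCat.subsingleton_of_isZero hzM
      have hsT : Subsingleton ((koszulCx (ModuleCat.of A M) xs).homology
          (((r + 1 : ℕ) : ℤ) - xs.length)) := ModuleCat.subsingleton_of_isZero hz
      apply hnz
      have : Subsingleton ((koszulCx (ModuleCat.of A (QuotSMulTop y M)) xs).homology
          ((r : ℤ) - xs.length)) := by
        constructor
        intro z w
        have hz0 : ∀ z : (koszulCx (ModuleCat.of A (QuotSMulTop y M)) xs).homology
            ((r : ℤ) - xs.length), z = 0 := by
          intro z
          have : δ z = 0 := Subsingleton.elim _ _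
          obtain ⟨w, rfl⟩ := (h2 z).mp this
          rw [Subsingleton.elim w 0, map_zero]
        rw [hz0 z, hz0 w]
      exact ModuleCat.isZero_of_subsingleton _

/-- Depth sensitivity of the Koszul complex over a Noetherian local ring. -/
theorem koszul_depth_sensitivity [IsLocalRing A]
    (M : Type u) [AddCommGroup M] [Module A M] [Module.Finite A M] [Nontrivial M]
    (xs : List A) (hxs : ∀ x ∈ xs, x ∈ IsLocalRing.maximalIdeal A) :
    LocCoh.idealDepth (Ideal.span {x | x ∈ xs}) M ≤ xs.length ∧
      (∀ p : ℕ, (p : ℕ∞) < LocCoh.idealDepth (Ideal.span {x | x ∈ xs}) M →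
        IsZero (CohIII.koszulH xs (ModuleCat.of A M) p)) ∧
      (∀ r : ℕ, LocCoh.idealDepth (Ideal.span {x | x ∈ xs}) M = r →
        ¬ IsZero (CohIII.koszulH xs (ModuleCat.of A M) r)) := by
  have hle : Ideal.span {x | x ∈ xs} ≤ IsLocalRing.maximalIdeal A :=
    Ideal.span_le.mpr (fun x hx => hxs x hx)
  have hne : Ideal.span {x | x ∈ xs} • (⊤ : Submodule A M) ≠ ⊤ := by
    intro h
    apply smul_top_ne_top_of_local A M
    have h2 : Ideal.span {x | x ∈ xs} • (⊤ : Submodule A M) ≤
        IsLocalRing.maximalIdeal A • (⊤ : Submodule A M) := Submodule.smul_mono hle le_rfl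
    rw [h] at h2
    exact eq_top_iff.mpr h2
  refine ⟨?_, ?_, ?_⟩
  · by_contra hlt
    rw [not_le] at hlt
    have h1 : ((xs.length + 1 : ℕ) : ℕ∞) ≤ LocCoh.idealDepth (Ideal.span {x | x ∈ xs}) M := by
      push_cast
      exact Order.add_one_le_of_lt hlt
    have hz := isZero_homology_of_lt_idealDepth xs (xs.length + 1) M hne h1 xs.length (by omega)
    have hz0 : IsZero ((koszulCx (ModuleCat.of A M) xs).homology 0) :=
      isZero_homology_congr _ (by simp) hz
    obtain ⟨e⟩ := nonempty_homology_zero_equiv (ModuleCat.of A M) xs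
    have hs : Subsingleton ((koszulCx (ModuleCat.of A M) xs).homology 0) :=
      ModuleCat.subsingleton_of_isZero hz0
    have hs' := e.symm.toEquiv.subsingleton
    apply hne
    exact Submodule.Quotient.subsingleton_iff.mp hs'
  · intro p hp
    have h1 : ((p + 1 : ℕ) : ℕ∞) ≤ LocCoh.idealDepth (Ideal.span {x | x ∈ xs}) M := by
      push_cast
      exact Order.add_one_le_of_lt hp
    exact isZero_homology_of_lt_idealDepth xs (p + 1) M hne h1 p (by omega)
  · intro r hr
    exact not_isZero_homology_idealDepth xs r M hne hr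

end Groth.Agent.Helper8.KoszulLib
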