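import Mathlib
import Groth.Prelude.Def_ega3
import Groth.Prelude.Def_CAlg
import Groth.Agent.Lib.Helper8.Koszul7
import Groth.Agent.Lib.Helper8.KE2

/-!
# Vanishing of Koszul cohomology in negative degrees forces regularity (local case)
-/

namespace Groth.Agent.Helper8.KoszulLib

open CategoryTheory CategoryTheory.Limits CochainComplex CohIII LocCoh
open Groth.Agent.Helper8.Depth
open scoped Pointwise

universe u

variable {A : Type u} [CommRing A] [IsNoetherianRing A] [IsLocalRing A]

/-- Nakayama: a finite module on which an element of the maximal ideal acts surjectively is zero. -/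
theorem subsingleton_of_smul_surjective (X : Type u) [AddCommGroup X] [Module A X]
    [Module.Finite A X] (f : A) (hf : f ∈ IsLocalRing.maximalIdeal A)
    (hs : Function.Surjective (f • (LinearMap.id : X →ₗ[A] X))) : Subsingleton X := by
  have hle : (⊤ : Submodule A X) ≤ IsLocalRing.maximalIdeal A • (⊤ : Submodule A X) := by
    intro x _
    obtain ⟨y, rfl⟩ := hs x
    exact Submodule.smul_mem_smul hf Submodule.mem_top
  have hbot := Submodule.eq_bot_of_le_smul_of_le_jacobson_bot (IsLocalRing.maximalIdeal A)
    (⊤ : Submodule A X) Module.Finite.fg_top hle (IsLocalRing.maximalIdeal_le_jacobson _)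
  exact (Submodule.subsingleton_iff A).mp (subsingleton_of_bot_eq_top hbot.symm)

theorem isWeaklyRegular_reverse_of_isZero_homology (M : Type u) [AddCommGroup M] [Module A M]
    [Module.Finite A M] (xs : List A) :
    (∀ x ∈ xs, x ∈ IsLocalRing.maximalIdeal A) →
    (∀ j : ℤ, j < 0 → IsZero ((koszulCx (ModuleCat.of A M) xs).homology j)) →
    RingTheory.Sequence.IsWeaklyRegular M xs.reverse := by
  induction xs with
  | nil =>
    intro _ _
    exact RingTheory.Sequence.IsWeaklyRegular.nil A M
  | cons f fs ih =>
    intro hmem hz
    have hf : f ∈ IsLocalRing.maximalIdeal A := hmem f List.mem_cons_self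
    have hmem' : ∀ x ∈ fs, x ∈ IsLocalRing.maximalIdeal A :=
      fun x hx => hmem x (List.mem_cons_of_mem _ hx)
    set K := koszulCx (ModuleCat.of A M) fs with hK
    have hz' : ∀ j : ℤ, j < 0 → IsZero ((mappingCone (f • 𝟙 K)).homology j) := hz
    -- surjectivity in negative degrees
    have hsurj : ∀ j : ℤ, j < 0 →
        Function.Surjective (f • (LinearMap.id : K.homology j →ₗ[A] K.homology j)) := by
      intro j hj y
      obtain ⟨i, δ, h1, h2, h3⟩ := exists_exact_cone K f j (j + 1) rfl
      have : Subsingleton ((mappingCone (f • 𝟙 K)).homology j) :=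
        ModuleCat.subsingleton_of_isZero (hz' j hj)
      exact (h1 y).mp (Subsingleton.elim _ _)
    have hinj : ∀ j : ℤ, j < 0 →
        Function.Injective (f • (LinearMap.id : K.homology (j + 1) →ₗ[A] K.homology (j + 1))) := by
      intro j hj
      rw [injective_iff_map_eq_zero]
      intro y hy
      obtain ⟨i, δ, h1, h2, h3⟩ := exists_exact_cone K f j (j + 1) rfl
      have : Subsingleton ((mappingCone (f • 𝟙 K)).homology j) :=
        ModuleCat.subsingleton_of_isZero (hz' j hj)
      obtain ⟨b, rfl⟩ := (h3 y).mp hy
      rw [Subsingleton.elim b 0, map_zero]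
    have hzK : ∀ j : ℤ, j < 0 → IsZero (K.homology j) := by
      intro j hj
      haveI : Module.Finite A (K.homology j) := finite_koszul_homology (ModuleCat.of A M) fs j
      have := subsingleton_of_smul_surjective (K.homology j) f hf (hsurj j hj)
      exact ModuleCat.isZero_of_subsingleton _
    have hreg := ih hmem' hzK
    have hinj0 := hinj (-1) (by norm_num)
    obtain ⟨e⟩ := nonempty_homology_zero_equiv M fs
    have hof : Ideal.ofList fs.reverse = Ideal.ofList fs := by
      unfold Ideal.ofList
      congr 1
      ext r
      simp
    rw [List.reverse_cons, RingTheory.Sequence.isWeaklyRegular_append_iff]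
    refine ⟨hreg, ?_⟩
    rw [RingTheory.Sequence.isWeaklyRegular_singleton_iff, hof]
    intro a b hab
    apply e.symm.injective
    apply hinj0
    change f • e.symm a = f • e.symm b
    rw [← map_smul, ← map_smul]
    exact congrArg e.symm hab

end Groth.Agent.Helper8.KoszulLib
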