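import Mathlib
import Groth.Prelude.Def_SGA1t

/-!
# The Kummer algebra over étale coordinates is formally smooth (algebra)

Let `ψ : R[x_s] → A` be a formally smooth ring map, `a_i = ψ (x_{e i})` for an injective `e`, and
`K = A[T_i]/(T_i^{n_i} - a_i)`.  Then `R → K` is formally smooth.
-/

set_option autoImplicit false

universe u

namespace Groth.Agent.Helper8.KumSm

open MvPolynomial

theorem kummer_formallySmooth {R A : Type u} [CommRing R] [CommRing A] {σ : Type u}
    (ψ : MvPolynomial σ R →+* A) (hψ : ψ.FormallySmooth)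
    {ι : Type} (e : ι → σ) (he : Function.Injective e) (a : ι → A)
    (ha : ∀ i, a i = ψ (X (e i))) (n : ι → ℕ) :
    ((algebraMap A (SGA1t.kummer A a n)).comp (ψ.comp C)).FormallySmooth := by
  classical
  letI algPA : Algebra (MvPolynomial σ R) A := ψ.toAlgebra
  haveI hPA : Algebra.FormallySmooth (MvPolynomial σ R) A := hψ
  letI algRK : Algebra R (SGA1t.kummer A a n) :=
    ((algebraMap A (SGA1t.kummer A a n)).comp (ψ.comp C)).toAlgebra
  show Algebra.FormallySmooth R (SGA1t.kummer A a n)
  refine Algebra.FormallySmooth.of_comp_surjective (fun Q _ _ I hI f => ?_)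
  let mkK : MvPolynomial ι A →+* SGA1t.kummer A a n := Ideal.Quotient.mk _
  have hsurjQ : Function.Surjective (Ideal.Quotient.mk I) := Ideal.Quotient.mk_surjective
  choose t ht using fun i : ι => hsurjQ (f (mkK (X i)))
  let fA : A →+* Q ⧸ I :=
    (f : SGA1t.kummer A a n →+* Q ⧸ I).comp (algebraMap A (SGA1t.kummer A a n))
  have hfA : ∀ x : A, fA x = f (mkK (C x)) := fun x => rfl
  choose c₀ hc₀ using fun s : σ => hsurjQ (fA (ψ (X s)))
  let c : σ → Q := fun s => if h : ∃ i, e i = s then (t h.choose) ^ (n h.choose) else c₀ s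
  have hce : ∀ i, c (e i) = t i ^ n i := by
    intro i
    have h : ∃ j, e j = e i := ⟨i, rfl⟩
    have hj : h.choose = i := he h.choose_spec
    simp only [c, dif_pos h]
    rw [hj]
  have hrel : ∀ i, mkK (X i ^ n i) = mkK (C (a i)) := by
    intro i
    rw [← sub_eq_zero, ← map_sub]
    exact Ideal.Quotient.eq_zero_iff_mem.mpr (Ideal.subset_span ⟨i, rfl⟩)
  have hmkc : ∀ s, Ideal.Quotient.mk I (c s) = fA (ψ (X s)) := by
    intro s
    by_cases h : ∃ i, e i = s
    · obtain ⟨i, rfl⟩ := h
      rw [hce, map_pow, ht, ← map_pow, ← map_pow, hrel, ← ha, hfA]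
    · simp only [c, dif_neg h]
      exact hc₀ s
  let lam : MvPolynomial σ R →+* Q := eval₂Hom (algebraMap R Q) c
  have hlamC : ∀ r, lam (C r) = algebraMap R Q r := fun r => eval₂Hom_C _ _ r
  have hlamX : ∀ s, lam (X s) = c s := fun s => eval₂Hom_X' _ _ s
  have hlam : ∀ p, Ideal.Quotient.mk I (lam p) = fA (ψ p) := by
    have h0 : (Ideal.Quotient.mk I).comp lam = fA.comp ψ := by
      apply MvPolynomial.ringHom_ext
      · intro r
        rw [RingHom.comp_apply, RingHom.comp_apply, hlamC]
        have h1 : fA (ψ (C r)) = f (algebraMap R (SGA1t.kummer A a n) r) := rfl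
        rw [h1, f.commutes]
        rfl
      · intro s
        rw [RingHom.comp_apply, RingHom.comp_apply, hlamX]
        exact hmkc s
    intro p
    exact RingHom.congr_fun h0 p
  letI algPQ : Algebra (MvPolynomial σ R) Q := lam.toAlgebra
  let fA' : A →ₐ[MvPolynomial σ R] Q ⧸ I :=
    { fA with
      commutes' := fun p => by
        show fA (ψ p) = Ideal.Quotient.mk I (lam p)
        exact (hlam p).symm }
  obtain ⟨FA, hFA⟩ := Algebra.FormallySmooth.comp_surjective (MvPolynomial σ R) A I hI fA'
  have hFA' : ∀ x : A, Ideal.Quotient.mk I (FA x) = fA x := fun x => AlgHom.congr_fun hFA x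
  have hFAψ : ∀ p, FA (ψ p) = lam p := fun p => FA.commutes p
  let F₀ : MvPolynomial ι A →+* Q := eval₂Hom (FA : A →+* Q) t
  have hF₀C : ∀ x : A, F₀ (C x) = FA x := fun x => eval₂Hom_C _ _ x
  have hF₀X : ∀ i, F₀ (X i) = t i := fun i => eval₂Hom_X' _ _ i
  have hF₀ : ∀ p ∈ Ideal.span (Set.range fun i => (X i : MvPolynomial ι A) ^ n i - C (a i)),
      F₀ p = 0 := by
    intro p hp
    have hle : Ideal.span (Set.range fun i => (X i : MvPolynomial ι A) ^ n i - C (a i)) ≤
        RingHom.ker F₀ := by
      rw [Ideal.span_le]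
      rintro _ ⟨i, rfl⟩
      rw [SetLike.mem_coe, RingHom.mem_ker, map_sub, map_pow, hF₀X, hF₀C, ha i, hFAψ, hlamX, hce,
        sub_self]
    exact hle hp
  let F : SGA1t.kummer A a n →+* Q := Ideal.Quotient.lift _ F₀ hF₀
  have hFmk : ∀ p, F (mkK p) = F₀ p := fun p => Ideal.Quotient.lift_mk _ _ _
  let Falg : SGA1t.kummer A a n →ₐ[R] Q :=
    { F with
      commutes' := fun r => by
        show F (mkK (C (ψ (C r)))) = algebraMap R Q r
        rw [hFmk, hF₀C, hFAψ, hlamC] }
  refine ⟨Falg, ?_⟩
  apply AlgHom.coe_ringHom_injective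
  apply Ideal.Quotient.ringHom_ext
  apply MvPolynomial.ringHom_ext
  · intro x
    show Ideal.Quotient.mk I (F (mkK (C x))) = f (mkK (C x))
    rw [hFmk, hF₀C, hFA' x, hfA]
  · intro i
    show Ideal.Quotient.mk I (F (mkK (X i))) = f (mkK (X i))
    rw [hFmk, hF₀X]
    exact ht i

/-- Formal smoothness passes to the local homomorphisms of the localizations at primes. -/
theorem formallySmooth_localRingHom {R K : Type u} [CommRing R] [CommRing K] (ψ : R →+* K)
    (hψ : ψ.FormallySmooth) (p : Ideal K) [p.IsPrime] :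
    (Localization.localRingHom (p.comap ψ) p ψ rfl).FormallySmooth := by
  have h1 : ((algebraMap K (Localization.AtPrime p)).comp ψ).FormallySmooth :=
    hψ.comp (RingHom.formallySmooth_algebraMap.mpr
      (Algebra.FormallySmooth.of_isLocalization p.primeCompl))
  have h2 : (Localization.localRingHom (p.comap ψ) p ψ rfl).comp
      (algebraMap R (Localization.AtPrime (p.comap ψ))) =
      (algebraMap K (Localization.AtPrime p)).comp ψ := by
    ext r
    exact Localization.localRingHom_to_map _ _ _ rfl r
  letI alg1 : Algebra (Localization.AtPrime (p.comap ψ)) (Localization.AtPrime p) :=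
    (Localization.localRingHom (p.comap ψ) p ψ rfl).toAlgebra
  letI alg2 : Algebra R (Localization.AtPrime p) :=
    ((Localization.localRingHom (p.comap ψ) p ψ rfl).comp
      (algebraMap R (Localization.AtPrime (p.comap ψ)))).toAlgebra
  haveI : IsScalarTower R (Localization.AtPrime (p.comap ψ)) (Localization.AtPrime p) :=
    IsScalarTower.of_algebraMap_eq' rfl
  haveI : Algebra.FormallySmooth R (Localization.AtPrime p) := by
    show ((Localization.localRingHom (p.comap ψ) p ψ rfl).comp
      (algebraMap R (Localization.AtPrime (p.comap ψ)))).FormallySmooth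
    rw [h2]
    exact h1
  exact Algebra.FormallySmooth.localization_base (p.comap ψ).primeCompl

end Groth.Agent.Helper8.KumSm
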