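import Mathlib
import Groth.Prelude.Def_SGA1t
import Groth.Agent.Lib.Helper8.KumSm1
import Groth.Agent.Lib.Helper3.SecChart1

/-!
# The Kummer scheme along a relative strict normal crossings divisor is smooth (schemes)
-/

set_option autoImplicit false
set_option backward.isDefEq.respectTransparency.types false

universe u

namespace Groth.Agent.Helper8.KumSm

open AlgebraicGeometry CategoryTheory CategoryTheory.Limits AffineSpace Opposite

/-- Restricting an affine-space chart to smaller opens. -/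
theorem homOfVector_resLE {X S : Scheme.{u}} (f : X ⟶ S) {n : Type u} (W : X.Opens)
    (v : n → Γ(W, ⊤)) (U : S.Opens) (W' : X.Opens) (hW'W : W' ≤ W) (hW'U : W' ≤ f ⁻¹ᵁ U) :
    homOfVector (f.resLE U W' hW'U) (fun k => (X.homOfLE hW'W).appTop.hom (v k)) ≫
        AffineSpace.map n U.ι =
      X.homOfLE hW'W ≫ homOfVector (W.ι ≫ f) v := by
  apply AffineSpace.hom_ext
  · simp
  · intro k
    simp

theorem isOpenImmersion_map_ι {S : Scheme.{u}} (n : Type u) (U : S.Opens) :
    IsOpenImmersion (AffineSpace.map n U.ι) :=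
  MorphismProperty.of_isPullback (P := @IsOpenImmersion) (AffineSpace.isPullback_map U.ι).flip
    inferInstance

/-- Germs of the restriction of a section of an open subscheme. -/
theorem germ_restrict_eq {X : Scheme.{u}} {W W' : X.Opens} (hW'W : W' ≤ W) (x : X)
    (hxW' : x ∈ W') (t : Γ(W, ⊤)) :
    (X.presheaf.germ W' x hxW').hom (((Scheme.Opens.topIso W').hom).hom (((X.homOfLE hW'W).appTop).hom t)) =
      (X.presheaf.germ W x (hW'W hxW')).hom ((W.topIso.hom).hom t) := by
  rw [Scheme.homOfLE_appTop, Scheme.Opens.topIso_hom, Scheme.Opens.topIso_hom]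
  erw [TopCat.Presheaf.germ_res_apply', TopCat.Presheaf.germ_res_apply',
    TopCat.Presheaf.germ_res_apply']

/-- The ring-level chart: étale coordinates give a formally smooth map from a polynomial ring. -/
theorem formallySmooth_chart {X S : Scheme.{u}} (f : X ⟶ S) {n : Type u} (W : X.Opens)
    (v : n → Γ(W, ⊤)) (hEt : Etale (homOfVector (W.ι ≫ f) v)) (U : S.Opens) (hU : IsAffineOpen U)
    (W' : X.Opens) (hW' : IsAffineOpen W') (hW'W : W' ≤ W) (hW'U : W' ≤ f ⁻¹ᵁ U) :
    (MvPolynomial.eval₂Hom (f.resLE U W' hW'U).appTop.hom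
      (fun k => (X.homOfLE hW'W).appTop.hom (v k))).FormallySmooth := by
  haveI : IsAffine (U : Scheme.{u}) := hU
  haveI : IsAffine (W' : Scheme.{u}) := hW'
  haveI := hEt
  haveI := isOpenImmersion_map_ι n U
  haveI : Etale (homOfVector (f.resLE U W' hW'U) (fun k => (X.homOfLE hW'W).appTop.hom (v k)) ≫
      AffineSpace.map n U.ι) := by
    rw [homOfVector_resLE]
    infer_instance
  haveI hg' : Etale (homOfVector (f.resLE U W' hW'U)
      (fun k => (X.homOfLE hW'W).appTop.hom (v k))) :=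
    Etale.of_comp _ (AffineSpace.map n U.ι)
  have h1 := (HasRingHomProperty.iff_of_isAffine (P := @Etale)).mp hg'
  have h2 : ((homOfVector (f.resLE U W' hW'U)
      (fun k => (X.homOfLE hW'W).appTop.hom (v k))).appTop).hom.FormallySmooth :=
    ((RingHom.etale_iff_formallyUnramified_and_smooth _).mp h1).2.formallySmooth
  rw [← Groth.Agent.Helper3.SecChart.homOfVector_appTop_comp_theta]
  exact (RingHom.FormallySmooth.of_bijective
    (Groth.Agent.Helper3.SecChart.theta_bijective n (U : Scheme.{u}))).comp h2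

theorem main {X S : Scheme.{u}} (f : X ⟶ S) {r : ℕ} (φ : Fin r → Γ(X, ⊤))
    (hD : SGA1t.IsRelSNC f φ) (x : X) (hx : Nonempty (SGA1t.vanishingAt φ x))
    (n : SGA1t.vanishingAt φ x → ℕ)
    (x' : Spec (CommRingCat.of (SGA1t.kummer (X.presheaf.stalk x)
      (fun i : SGA1t.vanishingAt φ x => (X.presheaf.germ ⊤ x trivial).hom (φ i.1)) n))) :
    ((Spec.map (CommRingCat.ofHom (algebraMap (X.presheaf.stalk x)
      (SGA1t.kummer (X.presheaf.stalk x)
        (fun i : SGA1t.vanishingAt φ x => (X.presheaf.germ ⊤ x trivial).hom (φ i.1)) n))) ≫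
      X.fromSpecStalk x ≫ f).stalkMap x').hom.FormallySmooth := by
  classical
  obtain ⟨W, hxW, d, v, e, he, hEt, hv⟩ := hD x hx
  obtain ⟨_, ⟨U, hU, rfl⟩, hsU, -⟩ :=
    S.isBasis_affineOpens.exists_subset_of_mem_open (Set.mem_univ (f.base x)) isOpen_univ
  obtain ⟨_, ⟨W', hW', rfl⟩, hxW', hW'le⟩ :=
    X.isBasis_affineOpens.exists_subset_of_mem_open
      (show x ∈ ((W ⊓ f ⁻¹ᵁ U : X.Opens) : Set X) from ⟨hxW, hsU⟩) (W ⊓ f ⁻¹ᵁ U).2
  have hW'W : W' ≤ W := fun y hy => (hW'le hy).1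
  have hW'U : W' ≤ f ⁻¹ᵁ U := fun y hy => (hW'le hy).2
  -- abbreviations
  let a : SGA1t.vanishingAt φ x → X.presheaf.stalk x :=
    fun i => (X.presheaf.germ ⊤ x trivial).hom (φ i.1)
  let τ : Γ((U : Scheme.{u}), ⊤) →+* Γ(S, U) := ((Scheme.Opens.topIso U).hom).hom
  let τ' : Γ(S, U) →+* Γ((U : Scheme.{u}), ⊤) := ((Scheme.Opens.topIso U).inv).hom
  let ω : Γ((W' : Scheme.{u}), ⊤) →+* Γ(X, W') := ((Scheme.Opens.topIso W').hom).hom
  let γ : Γ(X, W') →+* X.presheaf.stalk x := (X.presheaf.germ W' x hxW').hom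
  let v'' : ULift.{u} (Fin d) → Γ((W' : Scheme.{u}), ⊤) :=
    fun k => (X.homOfLE hW'W).appTop.hom (v k)
  let ψ₀ : MvPolynomial (ULift.{u} (Fin d)) Γ((U : Scheme.{u}), ⊤) →+* Γ((W' : Scheme.{u}), ⊤) :=
    MvPolynomial.eval₂Hom (f.resLE U W' hW'U).appTop.hom v''
  have hψ₀ : ψ₀.FormallySmooth := formallySmooth_chart f W v hEt U hU W' hW' hW'W hW'U
  -- the germ map is a localization
  have hγ : γ.FormallySmooth := by
    letI : Algebra Γ(X, W') (X.presheaf.stalk x) :=
      TopCat.Presheaf.algebra_section_stalk X.presheaf ⟨x, hxW'⟩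
    haveI := hW'.isLocalization_stalk ⟨x, hxW'⟩
    show Algebra.FormallySmooth Γ(X, W') (X.presheaf.stalk x)
    exact Algebra.FormallySmooth.of_isLocalization (hW'.primeIdealOf ⟨x, hxW'⟩).asIdeal.primeCompl
  have hω : ω.FormallySmooth :=
    RingHom.FormallySmooth.of_bijective (ConcreteCategory.bijective_of_isIso (Scheme.Opens.topIso W').hom)
  let ψ : MvPolynomial (ULift.{u} (Fin d)) Γ((U : Scheme.{u}), ⊤) →+* X.presheaf.stalk x :=
    (γ.comp ω).comp ψ₀
  have hψ : ψ.FormallySmooth := hψ₀.comp (hω.comp hγ)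
  -- the coordinates
  have ha : ∀ i, a i = ψ (MvPolynomial.X (ULift.up (e i))) := by
    intro i
    have h1 : ψ (MvPolynomial.X (ULift.up (e i))) = γ (ω (v'' (ULift.up (e i)))) := by
      show γ (ω (ψ₀ (MvPolynomial.X (ULift.up (e i))))) = _
      rw [show ψ₀ (MvPolynomial.X (ULift.up (e i))) = v'' (ULift.up (e i)) from
        MvPolynomial.eval₂Hom_X' _ _ _]
    rw [h1]
    show _ = (X.presheaf.germ W' x hxW').hom (((Scheme.Opens.topIso W').hom).hom
      (((X.homOfLE hW'W).appTop).hom (v (ULift.up (e i)))))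
    rw [germ_restrict_eq hW'W x hxW', hv i]
    have h2 : (W.topIso.hom).hom ((W.topIso.inv).hom
        ((X.presheaf.map (homOfLE (le_top : W ≤ ⊤)).op).hom (φ i.1))) =
        (X.presheaf.map (homOfLE (le_top : W ≤ ⊤)).op).hom (φ i.1) :=
      Iso.inv_hom_id_apply W.topIso _
    erw [h2]
    exact (TopCat.Presheaf.germ_res_apply X.presheaf (homOfLE (le_top : W ≤ ⊤)) x hxW
      (φ i.1)).symm
  have hK := kummer_formallySmooth ψ hψ (fun i => ULift.up (e i))
    (fun i₁ i₂ h => he (ULift.up_injective h)) a ha n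
  -- the morphism factors through an affine open of `S`
  let Ψ : Γ(S, U) ⟶ CommRingCat.of (SGA1t.kummer (X.presheaf.stalk x) a n) :=
    f.appLE U W' hW'U ≫ X.presheaf.germ W' x hxW' ≫
      CommRingCat.ofHom (algebraMap (X.presheaf.stalk x) (SGA1t.kummer (X.presheaf.stalk x) a n))
  have happ : ∀ r'' : Γ((U : Scheme.{u}), ⊤),
      ω ((f.resLE U W' hW'U).appTop.hom r'') = (f.appLE U W' hW'U).hom (τ r'') := by
    intro r''
    have h3 : (f.resLE U W' hW'U).appTop.hom r'' =
        ((Scheme.Opens.topIso W').inv).hom ((f.appLE U W' hW'U).hom (τ r'')) :=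
      congrArg (fun m => (CommRingCat.Hom.hom m) r'') (Scheme.Hom.resLE_app_top f hW'U)
    rw [h3]
    exact Iso.inv_hom_id_apply (Scheme.Opens.topIso W') _
  have hττ' : ∀ r₀ : Γ(S, U), τ (τ' r₀) = r₀ := fun r₀ => Iso.inv_hom_id_apply (Scheme.Opens.topIso U) r₀
  have hΨeq : Ψ.hom = ((algebraMap (X.presheaf.stalk x)
      (SGA1t.kummer (X.presheaf.stalk x) a n)).comp (ψ.comp MvPolynomial.C)).comp τ' := by
    ext r₀
    show algebraMap (X.presheaf.stalk x) (SGA1t.kummer (X.presheaf.stalk x) a n)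
        (γ ((f.appLE U W' hW'U).hom r₀)) =
      algebraMap (X.presheaf.stalk x) (SGA1t.kummer (X.presheaf.stalk x) a n)
        (γ (ω (ψ₀ (MvPolynomial.C (τ' r₀)))))
    rw [show ψ₀ (MvPolynomial.C (τ' r₀)) = (f.resLE U W' hW'U).appTop.hom (τ' r₀) from
      MvPolynomial.eval₂Hom_C _ _ _, happ, hττ']
  have hτ' : τ'.FormallySmooth :=
    RingHom.FormallySmooth.of_bijective (ConcreteCategory.bijective_of_isIso (Scheme.Opens.topIso U).inv)
  have hΨ : Ψ.hom.FormallySmooth := by
    rw [hΨeq]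
    exact hτ'.comp hK
  have hfs : X.fromSpecStalk x = Spec.map (X.presheaf.germ W' x hxW') ≫ hW'.fromSpec :=
    (hW'.fromSpecStalk_eq_fromSpecStalk hxW').symm
  have hcomp : Spec.map (CommRingCat.ofHom (algebraMap (X.presheaf.stalk x)
      (SGA1t.kummer (X.presheaf.stalk x) a n))) ≫ X.fromSpecStalk x ≫ f =
      Spec.map Ψ ≫ hU.fromSpec := by
    rw [hfs, Category.assoc, ← IsAffineOpen.SpecMap_appLE_fromSpec f hU hW' hW'U]
    simp only [Ψ, Spec.map_comp, Category.assoc]
    rfl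
  have key : ∀ (m : Spec (CommRingCat.of (SGA1t.kummer (X.presheaf.stalk x) a n)) ⟶ S),
      m = Spec.map Ψ ≫ hU.fromSpec → (m.stalkMap x').hom.FormallySmooth := by
    rintro m rfl
    rw [Scheme.Hom.stalkMap_comp]
    refine (RingHom.FormallySmooth.respectsIso.cancel_left_isIso
      (hU.fromSpec.stalkMap _) ((Spec.map Ψ).stalkMap x')).mpr ?_
    exact (stalkwise_SpecMap_iff RingHom.FormallySmooth.respectsIso Ψ).mpr
      (fun p hp => by
        haveI := hp
        exact formallySmooth_localRingHom Ψ.hom hΨ p) x'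
  exact key _ hcomp

end Groth.Agent.Helper8.KumSm
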