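import Mathlib
import Groth.Agent.Lib.Helper8.Eisen4

/-!
# Kummer algebras `A[T_1, …, T_r]/(T_i^{n_i} - f_i)`: regularity
-/

set_option autoImplicit false

namespace Groth.Agent.Helper8.Kummer

open MvPolynomial IsLocalRing Groth.Agent.Helper8.MonicAlg

universe u

section basic

variable {A : Type u} [CommRing A] {r : ℕ} (f : Fin r → A) (n : Fin r → ℕ)

/-- `X^{n_i} - f_i`. -/
noncomputable def kPoly (i : Fin r) : Polynomial A := Polynomial.X ^ n i - Polynomial.C (f i)

theorem eval₂_kPoly {S : Type*} [CommRing S] (φ : A →+* S) (s : S) (i : Fin r) :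
    Polynomial.eval₂ φ s (kPoly f n i) = s ^ n i - φ (f i) := by
  rw [kPoly, Polynomial.eval₂_sub, Polynomial.eval₂_pow, Polynomial.eval₂_X, Polynomial.eval₂_C]

theorem gPoly_kPoly (i : Fin r) : gPoly (kPoly f n) i = X i ^ n i - C (f i) := by
  rw [gPoly, eval₂_kPoly]

theorem kPoly_monic (hn : ∀ i, 1 ≤ n i) (i : Fin r) : (kPoly f n i).Monic :=
  Polynomial.monic_X_pow_sub_C _ (by have := hn i; omega)

theorem kPoly_natDegree [Nontrivial A] (i : Fin r) : (kPoly f n i).natDegree = n i :=
  Polynomial.natDegree_X_pow_sub_C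

theorem kPoly_coeff {k : ℕ} (i : Fin r) (hk : k < n i) :
    (kPoly f n i).coeff k = if k = 0 then - f i else 0 := by
  rw [kPoly, Polynomial.coeff_sub, Polynomial.coeff_X_pow, if_neg (by omega), Polynomial.coeff_C,
    zero_sub]
  split_ifs
  · rfl
  · rw [neg_zero]

theorem kPoly_isWeaklyEisensteinAt [Nontrivial A] (I : Ideal A) (hf : ∀ i, f i ∈ I) (i : Fin r) :
    (kPoly f n i).IsWeaklyEisensteinAt I := by
  refine ⟨fun {k} hk => ?_⟩
  rw [kPoly_natDegree] at hk
  rw [kPoly_coeff f n i hk]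
  split_ifs
  · exact neg_mem (hf i)
  · exact Ideal.zero_mem _

end basic

section reg

variable {A : Type u} [CommRing A] [IsRegularLocalRing A] {r : ℕ} (f : Fin r → A)
  (hm : ∀ i, f i ∈ maximalIdeal A) (n : Fin r → ℕ) (hn : ∀ i, 1 ≤ n i)

include hm hn in
theorem isLocalRing_kummer : IsLocalRing (MAlg (kPoly f n)) :=
  isLocalRing_mAlg _ (kPoly_monic f n hn)
    (fun i => by rw [kPoly_natDegree]; have := hn i; omega)
    (kPoly_isWeaklyEisensteinAt f n _ hm)

include hn in
theorem isRegularLocalRing_kummer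
    (hf : LinearIndependent (ResidueField A)
      (fun i => (maximalIdeal A).toCotangent ⟨f i, hm i⟩)) :
    IsRegularLocalRing (MAlg (kPoly f n)) := by
  haveI := isLocalRing_kummer f hm n hn
  have hd' : ∀ i, (kPoly f n i).natDegree ≠ 0 := fun i => by
    rw [kPoly_natDegree]; have := hn i; omega
  refine isRegularLocalRing_mAlg_of_linearIndependent _ (kPoly_monic f n hn) hd'
    (kPoly_isWeaklyEisensteinAt f n _ hm) ?_
  have h2 : (fun i => (maximalIdeal A).toCotangent (constElt (kPoly f n) hd'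
      (kPoly_isWeaklyEisensteinAt f n _ hm) i)) =
      -fun i => (maximalIdeal A).toCotangent ⟨f i, hm i⟩ := by
    funext i
    rw [Pi.neg_apply, ← map_neg]
    congr 1
    refine Subtype.ext ?_
    show (kPoly f n i).coeff 0 = - f i
    rw [kPoly_coeff f n i (by have := hn i; omega), if_pos rfl]
  rw [h2]
  exact hf.neg

end reg

end Groth.Agent.Helper8.Kummer
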