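import Mathlib
import Groth.Agent.Lib.Helper8.Kummer1

/-!
# Kummer algebras are étale after inverting the `f_i`, when the `n_i` are units
-/

set_option autoImplicit false

namespace Groth.Agent.Helper8.Kummer

open MvPolynomial Groth.Agent.Helper8.MonicAlg

universe u

section pair

variable {A : Type u} [CommRing A] {r : ℕ} (f : Fin r → A) (n : Fin r → ℕ)
  (hn : ∀ i, 1 ≤ n i) (hu : ∀ i, IsUnit ((n i : ℕ) : A))

/-- The standard étale pair `(X^{n_i} - f_i, f_i)`. -/
noncomputable def pair (i : Fin r) : StandardEtalePair A where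
  f := kPoly f n i
  monic_f := kPoly_monic f n hn i
  g := Polynomial.C (f i)
  cond := by
    obtain ⟨v, hv⟩ := (hu i).exists_left_inv
    refine ⟨Polynomial.C v * Polynomial.X, -1, 1, ?_⟩
    obtain ⟨m, hm⟩ : ∃ m, n i = m + 1 := ⟨n i - 1, by have := hn i; omega⟩
    rw [hm] at hv
    rw [kPoly, hm, Polynomial.derivative_sub, Polynomial.derivative_C, sub_zero,
      Polynomial.derivative_X_pow, pow_one]
    have h1 : (Polynomial.C v : Polynomial A) * Polynomial.C (((m + 1 : ℕ) : A)) = 1 := by
      rw [← Polynomial.C_mul, hv, Polynomial.C_1]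
    have h3 : m + 1 - 1 = m := by omega
    rw [h3]
    linear_combination (Polynomial.X ^ (m + 1) : Polynomial A) * h1

theorem hasMap_iff {C : Type*} [CommRing C] [Algebra A C] (i : Fin r) (s : C) :
    (pair f n hn hu i).HasMap s ↔
      s ^ n i = algebraMap A C (f i) ∧ IsUnit (algebraMap A C (f i)) := by
  unfold StandardEtalePair.HasMap
  have h1 : Polynomial.aeval s (pair f n hn hu i).f = s ^ n i - algebraMap A C (f i) := by
    show Polynomial.aeval s (kPoly f n i) = _
    rw [Polynomial.aeval_def, eval₂_kPoly]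
  have h2 : Polynomial.aeval s (pair f n hn hu i).g = algebraMap A C (f i) := by
    show Polynomial.aeval s (Polynomial.C (f i)) = _
    rw [Polynomial.aeval_C]
  rw [h1, h2, sub_eq_zero]

end pair

section hom

variable {A : Type u} [CommRing A] {r : ℕ} (f : Fin r → A) (n : Fin r → ℕ)
  (hn : ∀ i, 1 ≤ n i) (hu : ∀ i, IsUnit ((n i : ℕ) : A))

/-- The Kummer algebra with `∏ f_i` inverted. -/
abbrev LocK : Type u := Localization.Away (algebraMap A (MAlg (kPoly f n)) (∏ i, f i))

/-- The class of `T_i` in the localization. -/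
noncomputable def teeL (i : Fin r) : LocK f n :=
  algebraMap (MAlg (kPoly f n)) (LocK f n) (tee (kPoly f n) i)

variable {C : Type*} [CommRing C] [Algebra A C]

theorem isUnit_algebraMap_locK (i : Fin r) : IsUnit (algebraMap A (LocK f n) (f i)) := by
  have h1 : IsUnit (algebraMap (MAlg (kPoly f n)) (LocK f n)
      (algebraMap A (MAlg (kPoly f n)) (∏ i, f i))) :=
    IsLocalization.Away.algebraMap_isUnit _
  rw [← IsScalarTower.algebraMap_apply] at h1
  exact isUnit_of_dvd_unit (map_dvd _ (Finset.dvd_prod_of_mem f (Finset.mem_univ i))) h1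

theorem hasMap_of_algHom (φ : LocK f n →ₐ[A] C) (i : Fin r) :
    (pair f n hn hu i).HasMap (φ (teeL f n i)) := by
  rw [hasMap_iff]
  constructor
  · have h := tee_relation (kPoly f n) i
    rw [eval₂_kPoly, sub_eq_zero] at h
    rw [teeL, ← map_pow, ← map_pow, h, ← IsScalarTower.algebraMap_apply, AlgHom.commutes]
  · have := (isUnit_algebraMap_locK f n i).map φ
    rwa [AlgHom.commutes] at this

/-- The algebra map out of the Kummer algebra defined by a tuple of roots. -/
noncomputable def liftB (s : Fin r → C) (hs : ∀ i, s i ^ n i = algebraMap A C (f i)) :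
    MAlg (kPoly f n) →ₐ[A] C :=
  { liftM (kPoly f n) (algebraMap A C) s (fun i => by rw [eval₂_kPoly, hs, sub_self]) with
    commutes' := fun a => liftM_algebraMap _ _ _ _ a }

theorem liftB_tee (s : Fin r → C) (hs : ∀ i, s i ^ n i = algebraMap A C (f i)) (i : Fin r) :
    liftB f n s hs (tee (kPoly f n) i) = s i :=
  liftM_tee (kPoly f n) (algebraMap A C) s
    (fun i => by rw [eval₂_kPoly, hs, sub_self]) i

/-- The algebra map out of the localized Kummer algebra defined by a tuple of roots. -/
noncomputable def liftL (s : {s : Fin r → C // ∀ i, (pair f n hn hu i).HasMap (s i)}) :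
    LocK f n →ₐ[A] C :=
  IsLocalization.liftAlgHom
    (M := Submonoid.powers (algebraMap A (MAlg (kPoly f n)) (∏ i, f i)))
    (f := liftB f n s.1 (fun i => ((hasMap_iff f n hn hu i (s.1 i)).1 (s.2 i)).1)) (by
      rintro ⟨_, k, rfl⟩
      rw [map_pow, AlgHom.commutes, map_prod]
      refine IsUnit.pow k ?_
      rw [IsUnit.prod_univ_iff]
      exact fun i => ((hasMap_iff f n hn hu i (s.1 i)).1 (s.2 i)).2)

theorem liftL_teeL (s : {s : Fin r → C // ∀ i, (pair f n hn hu i).HasMap (s i)}) (i : Fin r) :
    liftL f n hn hu s (teeL f n i) = s.1 i := by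
  rw [liftL, teeL, IsLocalization.liftAlgHom_apply, IsLocalization.lift_eq]
  exact liftB_tee f n s.1 _ i

/-- Algebra maps out of the localized Kummer algebra correspond to tuples of roots. -/
noncomputable def homEquiv :
    (LocK f n →ₐ[A] C) ≃ {s : Fin r → C // ∀ i, (pair f n hn hu i).HasMap (s i)} where
  toFun φ := ⟨fun i => φ (teeL f n i), hasMap_of_algHom f n hn hu φ⟩
  invFun := liftL f n hn hu
  left_inv φ := by
    refine IsLocalization.algHom_ext
      (Submonoid.powers (algebraMap A (MAlg (kPoly f n)) (∏ i, f i))) ?_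
    refine AlgHom.coe_ringHom_injective ?_
    refine mAlg_hom_ext _ (fun a => ?_) (fun i => ?_)
    · show liftL f n hn hu _ (algebraMap _ (LocK f n) (algebraMap A _ a)) =
        φ (algebraMap _ (LocK f n) (algebraMap A _ a))
      rw [← IsScalarTower.algebraMap_apply, AlgHom.commutes, AlgHom.commutes]
    · exact liftL_teeL f n hn hu _ i
  right_inv s := Subtype.ext (funext fun i => liftL_teeL f n hn hu s i)

theorem homEquiv_apply (φ : LocK f n →ₐ[A] C) (i : Fin r) :
    (homEquiv f n hn hu φ).1 i = φ (teeL f n i) := rfl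

end hom

section etale

variable {A : Type u} [CommRing A] {r : ℕ} (f : Fin r → A) (n : Fin r → ℕ)
  (hn : ∀ i, 1 ≤ n i) (hu : ∀ i, IsUnit ((n i : ℕ) : A))

include hn hu in
/-- The localized Kummer algebra is formally étale over `A`. -/
theorem formallyEtale_locK : Algebra.FormallyEtale A (LocK f n) := by
  refine Algebra.FormallyEtale.iff_comp_bijective.mpr fun C _ _ I hI => ?_
  rw [← (homEquiv f n hn hu (C := C)).symm.bijective.of_comp_iff,
    ← (homEquiv f n hn hu (C := C ⧸ I)).bijective.of_comp_iff',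
    Function.bijective_iff_existsUnique]
  rintro ⟨xb, hxb⟩
  choose x hx using fun i => Ideal.Quotient.mk_surjective (xb i)
  have key : ∀ i, ∃! ε, ε ∈ I ∧ (pair f n hn hu i).HasMap (x i + ε) := fun i =>
    (pair f n hn hu i).existsUnique_hasMap_of_hasMap_quotient_of_sq_eq_bot I hI (x i) (by
      rw [hx i]
      exact hxb i)
  choose ε hε huniq using key
  have himg : ∀ (s : {s : Fin r → C // ∀ i, (pair f n hn hu i).HasMap (s i)}) (i : Fin r),
      ((homEquiv f n hn hu (C := C ⧸ I)) ((Ideal.Quotient.mkₐ A I).comp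
        ((homEquiv f n hn hu (C := C)).symm s))).1 i = Ideal.Quotient.mk I (s.1 i) := by
    intro s i
    rw [homEquiv_apply, AlgHom.comp_apply]
    show Ideal.Quotient.mkₐ A I (liftL f n hn hu s (teeL f n i)) = _
    rw [liftL_teeL]
    rfl
  refine ⟨⟨fun i => x i + ε i, fun i => (hε i).2⟩, ?_, ?_⟩
  · refine Subtype.ext (funext fun i => ?_)
    show ((homEquiv f n hn hu (C := C ⧸ I)) ((Ideal.Quotient.mkₐ A I).comp
        ((homEquiv f n hn hu (C := C)).symm _))).1 i = xb i
    rw [himg, map_add, hx i, Ideal.Quotient.eq_zero_iff_mem.2 (hε i).1, add_zero]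
  · rintro ⟨y, hy⟩ hyx
    refine Subtype.ext (funext fun i => ?_)
    have h1 : Ideal.Quotient.mk I (y i) = xb i := by
      rw [← himg ⟨y, hy⟩ i]
      exact congrArg (fun z => z.1 i) hyx
    have h2 : y i - x i ∈ I := by
      rw [← Ideal.Quotient.mk_eq_mk_iff_sub_mem, h1, hx i]
    have h3 := huniq i (y i - x i) ⟨h2, by rw [add_sub_cancel]; exact hy i⟩
    show y i = x i + ε i
    rw [← h3]
    ring

end etale

end Groth.Agent.Helper8.Kummer
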