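import Mathlib
import Groth.Agent.Lib.Helper8.Kummer2

/-!
# Kummer algebras are étale after inverting the `f_i`: the statement over the localized base
-/

set_option autoImplicit false

namespace Groth.Agent.Helper8.Kummer

open MvPolynomial Groth.Agent.Helper8.MonicAlg

universe u

section final

variable {A : Type u} [CommRing A] {r : ℕ} (f : Fin r → A) (n : Fin r → ℕ)
  (hn : ∀ i, 1 ≤ n i) (hu : ∀ i, IsUnit ((n i : ℕ) : A))

include hn hu in
theorem etale_locK :
    letI := (Localization.awayMap (algebraMap A (MAlg (kPoly f n))) (∏ i, f i)).toAlgebra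
    Algebra.Etale (Localization.Away (∏ i, f i)) (LocK f n) := by
  letI := (Localization.awayMap (algebraMap A (MAlg (kPoly f n))) (∏ i, f i)).toAlgebra
  haveI : IsScalarTower A (Localization.Away (∏ i, f i)) (LocK f n) :=
    IsScalarTower.of_algebraMap_eq' (by
      rw [RingHom.algebraMap_toAlgebra, Localization.awayMap, IsLocalization.Away.map,
        IsLocalization.map_comp]
      exact IsScalarTower.algebraMap_eq A (MAlg (kPoly f n)) (LocK f n))
  haveI := formallyEtale_locK f n hn hu
  haveI : Algebra.FormallyEtale (Localization.Away (∏ i, f i)) (LocK f n) :=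
    Algebra.FormallyEtale.localization_base (Submonoid.powers (∏ i, f i))
  haveI : Algebra.FinitePresentation A (MAlg (kPoly f n)) :=
    Algebra.FinitePresentation.quotient
      ((Submodule.fg_span (Set.finite_range (gPoly (kPoly f n)))))
  haveI : Algebra.FinitePresentation A (LocK f n) :=
    Algebra.FinitePresentation.trans A (MAlg (kPoly f n)) (LocK f n)
  haveI : Algebra.FinitePresentation (Localization.Away (∏ i, f i)) (LocK f n) :=
    Algebra.FinitePresentation.of_restrict_scalars_finitePresentation A _ _
  exact {}

end final

end Groth.Agent.Helper8.Kummer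

namespace Groth.Agent.Helper8.Kummer

open MvPolynomial IsLocalRing Groth.Agent.Helper8.MonicAlg

universe u

/-- The Kummer algebra over a regular local ring, for `f_i` part of a regular system of parameters:
it is regular, and étale over `A[1/∏ f_i]` after inverting `∏ f_i` when the `n_i` are invertible
in the residue field. -/
theorem kummer_main (A : Type u) [CommRing A] [IsRegularLocalRing A] (r : ℕ) (f : Fin r → A)
    (hm : ∀ i, f i ∈ maximalIdeal A)
    (hf : LinearIndependent (ResidueField A) (fun i => (maximalIdeal A).toCotangent ⟨f i, hm i⟩))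
    (n : Fin r → ℕ) (hn : ∀ i, 1 ≤ n i)
    (F : Fin r → MvPolynomial (Fin r) A) (hF : F = fun i => X i ^ n i - C (f i)) :
    IsRegularLocalRing (MvPolynomial (Fin r) A ⧸ Ideal.span (Set.range F)) ∧
    ((∀ i, IsUnit ((n i : ℕ) : ResidueField A)) →
      letI := (Localization.awayMap
        (algebraMap A (MvPolynomial (Fin r) A ⧸ Ideal.span (Set.range F))) (∏ i, f i)).toAlgebra
      Algebra.Etale (Localization.Away (∏ i, f i))
        (Localization.Away
          (algebraMap A (MvPolynomial (Fin r) A ⧸ Ideal.span (Set.range F)) (∏ i, f i)))) := by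
  have hF' : F = gPoly (kPoly f n) := hF.trans (funext fun i => (gPoly_kPoly f n i).symm)
  subst hF'
  refine ⟨isRegularLocalRing_kummer f hm n hn hf, fun hu => ?_⟩
  have hu' : ∀ i, IsUnit ((n i : ℕ) : A) := fun i => by
    have h := hu i
    rw [← map_natCast (residue A)] at h
    exact (isUnit_map_iff (residue A) _).1 h
  exact etale_locK f n hn hu'

end Groth.Agent.Helper8.Kummer
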