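import Mathlib
import Groth.Prelude.Def_CAlg
import Groth.Prelude.Def_W4c6gradedringsgwSect
import Groth.Agent.Lib.Helper8.GorArt3

/-!
# Kunz's theorem for numerical semigroup rings (helper8)

For an additive submonoid `H` of `ℕ` containing all large integers and `0 < e ∈ H`, the Artinian local ring
`k[H] / (x^e)` is Gorenstein iff `H` is symmetric.
-/

set_option autoImplicit false
universe u
open Polynomial IsLocalRing LocCoh

namespace Groth.Agent.Helper8.Kunz

section Comb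

variable (H : AddSubmonoid ℕ) (e : ℕ)

/-- the Apéry set of `H` with respect to `e` -/
def Ap (n : ℕ) : Prop := n ∈ H ∧ ¬ (e ≤ n ∧ n - e ∈ H)

/-- `W` is the largest element of the Apéry set for the order `a ≤ b ↔ b - a ∈ H` -/
def SymW (W : ℕ) : Prop := Ap H e W ∧ ∀ a, Ap H e a → a ≤ W ∧ W - a ∈ H

/-- maximal elements of the Apéry set -/
def MaxAp (w : ℕ) : Prop := Ap H e w ∧ ∀ h ∈ H, 0 < h → ¬ Ap H e (w + h)

variable {H e}

theorem Ap.lt {c₀ : ℕ} (hc : ∀ n, c₀ ≤ n → n ∈ H) {n : ℕ} (hn : Ap H e n) : n < c₀ + e := by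
  by_contra hge
  push Not at hge
  exact hn.2 ⟨by omega, hc _ (by omega)⟩

theorem ap_zero (he0 : 0 < e) : Ap H e 0 := ⟨H.zero_mem, fun h => by omega⟩

theorem exists_max (P : ℕ → Prop) (N : ℕ) (hb : ∀ n, P n → n < N) {a : ℕ} (ha : P a) :
    ∃ b, P b ∧ ∀ n, P n → n ≤ b := by
  classical
  exact ⟨Nat.findGreatest P N, Nat.findGreatest_spec (hb a ha).le ha,
    fun n hn => Nat.le_findGreatest (hb n hn).le hn⟩

theorem isSymmetric_of_symW (he : e ∈ H) (he0 : 0 < e) {c₀ : ℕ} (hc : ∀ n, c₀ ≤ n → n ∈ H) {W : ℕ}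
    (hW : SymW H e W) : W4c6gradedringsgw.IsSymmetric (H : Set ℕ) := by
  refine ⟨(W : ℤ) - e, fun n => ⟨?_, ?_⟩⟩
  · rintro ⟨h, hh, rfl⟩ ⟨h', hh', hh2⟩
    apply hW.1.2
    have hWe : W = h + h' + e := by omega
    refine ⟨by omega, ?_⟩
    have h3 : W - e = h + h' := by omega
    rw [h3]
    exact H.add_mem hh hh'
  · intro hn
    by_contra hcon
    apply hn
    have hex : ∃ j : ℕ, ∃ a ∈ H, (a : ℤ) = n + ((j : ℤ) + 1) * e := by
      obtain ⟨j, hj⟩ : ∃ j : ℕ, j = c₀ + (-n).toNat := ⟨_, rfl⟩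
      have h1 : ((j : ℤ) + 1) ≤ ((j : ℤ) + 1) * e :=
        le_mul_of_one_le_right (by positivity) (by exact_mod_cast he0)
      have h2 : -n ≤ ((-n).toNat : ℤ) := Int.self_le_toNat _
      have h3 : (j : ℤ) = c₀ + ((-n).toNat : ℤ) := by rw [hj]; push_cast; ring
      obtain ⟨M, hM⟩ : ∃ M : ℤ, M = n + ((j : ℤ) + 1) * e := ⟨_, rfl⟩
      have h4 : (c₀ : ℤ) ≤ M := by rw [hM]; linarith
      have h5 : ((M.toNat : ℕ) : ℤ) = M :=
        Int.toNat_of_nonneg (by linarith [Int.natCast_nonneg c₀])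
      refine ⟨j, M.toNat, hc _ (by omega), ?_⟩
      rw [h5, hM]
    obtain ⟨j₀, ⟨a, haH, ha⟩, hmin⟩ : ∃ j₀ : ℕ, (∃ a ∈ H, (a : ℤ) = n + ((j₀ : ℤ) + 1) * e) ∧
        ∀ j < j₀, ¬ ∃ a ∈ H, (a : ℤ) = n + ((j : ℤ) + 1) * e := by
      classical
      exact ⟨Nat.find hex, Nat.find_spec hex, fun j hj => Nat.find_min hex hj⟩
    have hnot : ¬ ∃ b ∈ H, (b : ℤ) = n + (j₀ : ℤ) * e := by
      rintro ⟨b, hb, hb2⟩
      rcases Nat.eq_zero_or_pos j₀ with h0 | hpos
      · apply hcon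
        refine ⟨b, hb, ?_⟩
        rw [hb2, h0]
        simp
      · apply hmin (j₀ - 1) (by omega)
        refine ⟨b, hb, ?_⟩
        rw [hb2]
        have h6 : ((j₀ - 1 : ℕ) : ℤ) + 1 = j₀ := by omega
        rw [h6]
    have hAp : Ap H e a := by
      refine ⟨haH, fun ⟨h1, h2⟩ => hnot ⟨a - e, h2, ?_⟩⟩
      rw [Nat.cast_sub h1, ha]
      ring
    obtain ⟨haW, hWa⟩ := hW.2 a hAp
    refine ⟨(W - a) + j₀ * e, H.add_mem hWa ?_, ?_⟩
    · have h7 := H.nsmul_mem he j₀
      rwa [smul_eq_mul] at h7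
    · push_cast [Nat.cast_sub haW]
      linear_combination (-1 : ℤ) * ha

theorem exists_symW_of_isSymmetric (he0 : 0 < e)
    (hS : W4c6gradedringsgw.IsSymmetric (H : Set ℕ)) : ∃ W, SymW H e W := by
  obtain ⟨d, hd⟩ := hS
  have hd0 : ¬ ∃ h ∈ (H : Set ℕ), (h : ℤ) = d := by
    have h1 := (hd 0).mp ⟨0, H.zero_mem, by simp⟩
    rwa [sub_zero] at h1
  have hde : ∃ h ∈ (H : Set ℕ), (h : ℤ) = d + e := by
    rw [hd]
    rintro ⟨h, -, hh⟩
    omega
  obtain ⟨W, hWH, hW⟩ := hde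
  refine ⟨W, ⟨hWH, fun ⟨h1, h2⟩ => hd0 ⟨W - e, h2, by rw [Nat.cast_sub h1, hW]; ring⟩⟩,
    fun a ha => ?_⟩
  have hna : ¬ ∃ h ∈ (H : Set ℕ), (h : ℤ) = (a : ℤ) - e := by
    rintro ⟨h, hh, hh2⟩
    apply ha.2
    have h1 : e ≤ a := by omega
    refine ⟨h1, ?_⟩
    have h3 : a - e = h := by omega
    rw [h3]
    exact hh
  have h4 := (hd ((a : ℤ) - e)).not.mp hna
  rw [not_not] at h4
  obtain ⟨h, hh, hh2⟩ := h4
  have h1 : a ≤ W := by omega
  refine ⟨h1, ?_⟩
  have h3 : W - a = h := by omega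
  rw [h3]
  exact hh

theorem exists_symW_iff (he : e ∈ H) (he0 : 0 < e) {c₀ : ℕ} (hc : ∀ n, c₀ ≤ n → n ∈ H) :
    (∃ W, SymW H e W) ↔ W4c6gradedringsgw.IsSymmetric (H : Set ℕ) :=
  ⟨fun ⟨_, hW⟩ => isSymmetric_of_symW he he0 hc hW, exists_symW_of_isSymmetric he0⟩

end Comb

section Length

theorem length_le_one_of_cyclic {B M : Type*} [Ring B] [AddCommGroup M] [Module B M]
    (h : ∀ x y : M, x ≠ 0 → ∃ b : B, b • x = y) : Module.length B M ≤ 1 := by
  by_cases hM : Subsingleton M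
  · rw [Module.length_eq_zero_iff.mpr hM]
    exact zero_le_one
  · rw [not_subsingleton_iff_nontrivial] at hM
    have hs : IsSimpleModule B M := isSimpleModule_iff_toSpanSingleton_surjective.mpr
      ⟨hM, fun x hx y => by
        obtain ⟨b, hb⟩ := h x y hx
        exact ⟨b, by rw [LinearMap.toSpanSingleton_apply]; exact hb⟩⟩
    exact (Module.length_eq_one_iff.mpr hs).le

theorem cyclic_of_length_le_one {B M : Type*} [Ring B] [AddCommGroup M] [Module B M]
    (h : Module.length B M ≤ 1) (x y : M) (hx : x ≠ 0) : ∃ b : B, b • x = y := by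
  have hne : Module.length B M ≠ 0 := by
    rw [Ne, Module.length_eq_zero_iff]
    intro hs
    exact hx (Subsingleton.elim _ _)
  have h1 : Module.length B M = 1 := le_antisymm h (ENat.one_le_iff_ne_zero.mpr hne)
  have hs : IsSimpleModule B M := Module.length_eq_one_iff.mp h1
  obtain ⟨b, hb⟩ := (isSimpleModule_iff_toSpanSingleton_surjective.mp hs).2 x hx y
  exact ⟨b, by rw [LinearMap.toSpanSingleton_apply] at hb; exact hb⟩

end Length

section Alg

variable (k : Type u) [Field k] (H : AddSubmonoid ℕ)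

/-- the semigroup algebra of `H` inside `k[X]` -/
def semiAlg : Subalgebra k k[X] where
  carrier := {p | ∀ n : ℕ, p.coeff n ≠ 0 → n ∈ H}
  mul_mem' := by
    intro p q hp hq n hn
    rw [coeff_mul] at hn
    obtain ⟨x, hx, hx0⟩ := Finset.exists_ne_zero_of_sum_ne_zero hn
    have h1 := Finset.HasAntidiagonal.mem_antidiagonal.mp hx
    rw [← h1]
    exact H.add_mem (hp _ (left_ne_zero_of_mul hx0)) (hq _ (right_ne_zero_of_mul hx0))
  add_mem' := by
    intro p q hp hq n hn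
    rw [coeff_add] at hn
    by_cases h : p.coeff n = 0
    · rw [h, zero_add] at hn
      exact hq n hn
    · exact hp n h
  algebraMap_mem' := by
    intro c n hn
    rw [← C_eq_algebraMap, coeff_C] at hn
    split_ifs at hn with h
    · rw [h]
      exact H.zero_mem
    · exact absurd rfl hn

variable {k H}

theorem X_pow_mem {n : ℕ} (hn : n ∈ H) : (X ^ n : k[X]) ∈ semiAlg k H := by
  intro m hm
  rw [coeff_X_pow] at hm
  split_ifs at hm with h
  · rw [h]
    exact hn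
  · exact absurd rfl hm

variable (k) in
/-- the monomial `X^n` in the semigroup algebra -/
noncomputable def xm (n : ℕ) (hn : n ∈ H) : semiAlg k H := ⟨X ^ n, X_pow_mem hn⟩

theorem mem_span_xm_iff {e : ℕ} (he : e ∈ H) (p : semiAlg k H) :
    p ∈ Ideal.span {xm k e he} ↔ ∀ n : ℕ, (p : k[X]).coeff n ≠ 0 → e ≤ n ∧ n - e ∈ H := by
  constructor
  · intro hp n hn
    obtain ⟨q, rfl⟩ := Ideal.mem_span_singleton'.mp hp
    change ((q : k[X]) * X ^ e).coeff n ≠ 0 at hn
    rw [coeff_mul_X_pow'] at hn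
    split_ifs at hn with h
    · exact ⟨h, q.2 _ hn⟩
    · exact absurd rfl hn
  · intro h
    have hdvd : (X : k[X]) ^ e ∣ (p : k[X]) := by
      rw [X_pow_dvd_iff]
      intro d hd
      by_contra hne
      have := (h d hne).1
      omega
    obtain ⟨q, hq⟩ := hdvd
    have hqm : q ∈ semiAlg k H := by
      intro m hm
      have h1 : (p : k[X]).coeff (m + e) = q.coeff m := by rw [hq, coeff_X_pow_mul]
      have h2 := h (m + e) (by rw [h1]; exact hm)
      have h3 : m + e - e = m := by omega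
      rw [h3] at h2
      exact h2.2
    rw [Ideal.mem_span_singleton']
    refine ⟨⟨q, hqm⟩, Subtype.ext ?_⟩
    change q * X ^ e = (p : k[X])
    rw [hq, mul_comm]

/-- the Artinian quotient `k[H] / (x^e)` -/
abbrev Bq {e : ℕ} (he : e ∈ H) : Type u := semiAlg k H ⧸ Ideal.span {xm k e he}

variable (k) in
/-- the quotient map -/
noncomputable abbrev mkB {e : ℕ} (he : e ∈ H) : semiAlg k H →+* Bq (k := k) he :=
  Ideal.Quotient.mk (Ideal.span {xm k e he})

theorem mem_of_coeff_lt {e : ℕ} (he : e ∈ H) {c₀ : ℕ} (hc : ∀ n, c₀ ≤ n → n ∈ H)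
    (p : semiAlg k H) (h : ∀ n < c₀ + e, (p : k[X]).coeff n = 0) :
    p ∈ Ideal.span {xm k e he} := by
  rw [mem_span_xm_iff]
  intro n hn
  have hge : c₀ + e ≤ n := by
    by_contra hlt
    push Not at hlt
    exact hn (h n hlt)
  exact ⟨by omega, hc _ (by omega)⟩

theorem pow_mem_of_coeff_zero {e : ℕ} (he : e ∈ H) {c₀ : ℕ} (hc : ∀ n, c₀ ≤ n → n ∈ H)
    (p : semiAlg k H) (h0 : (p : k[X]).coeff 0 = 0) :
    p ^ (c₀ + e) ∈ Ideal.span {xm k e he} := by
  apply mem_of_coeff_lt he hc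
  have h1 : (X : k[X]) ∣ (p : k[X]) := X_dvd_iff.mpr h0
  have h2 : (X : k[X]) ^ (c₀ + e) ∣ ((p ^ (c₀ + e) : semiAlg k H) : k[X]) := by
    rw [SubmonoidClass.coe_pow]
    exact pow_dvd_pow_of_dvd h1 _
  exact X_pow_dvd_iff.mp h2

theorem isNilpotent_mk {e : ℕ} (he : e ∈ H) {c₀ : ℕ} (hc : ∀ n, c₀ ≤ n → n ∈ H)
    (p : semiAlg k H) (h0 : (p : k[X]).coeff 0 = 0) : IsNilpotent (mkB k he p) := by
  refine ⟨c₀ + e, ?_⟩
  rw [← map_pow, Ideal.Quotient.eq_zero_iff_mem]
  exact pow_mem_of_coeff_zero he hc p h0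

theorem isUnit_mk {e : ℕ} (he : e ∈ H) {c₀ : ℕ} (hc : ∀ n, c₀ ≤ n → n ∈ H)
    (p : semiAlg k H) (h0 : (p : k[X]).coeff 0 ≠ 0) : IsUnit (mkB k he p) := by
  obtain ⟨c, hc'⟩ : ∃ c : k, c = (p : k[X]).coeff 0 := ⟨_, rfl⟩
  have hr0 : ((p - algebraMap k (semiAlg k H) c : semiAlg k H) : k[X]).coeff 0 = 0 := by
    change ((p : k[X]) - algebraMap k k[X] c).coeff 0 = 0
    rw [coeff_sub, ← C_eq_algebraMap, coeff_C_zero, hc', sub_self]
  have hsum : mkB k he p = mkB k he (algebraMap k (semiAlg k H) c) +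
      mkB k he (p - algebraMap k (semiAlg k H) c) := by
    rw [← map_add]
    congr 1
    ring
  rw [hsum]
  have hcomm : Commute (mkB k he (p - algebraMap k (semiAlg k H) c))
      (mkB k he (algebraMap k (semiAlg k H) c)) :=
    Commute.all (mkB k he (p - algebraMap k (semiAlg k H) c))
      (mkB k he (algebraMap k (semiAlg k H) c))
  exact (isNilpotent_mk he hc _ hr0).isUnit_add_left_of_commute
    (((IsUnit.mk0 c (hc' ▸ h0)).map (algebraMap k (semiAlg k H))).map (mkB k he)) hcomm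

theorem nontrivial_Bq {e : ℕ} (he : e ∈ H) (he0 : 0 < e) : Nontrivial (Bq (k := k) he) := by
  rw [Ideal.Quotient.nontrivial_iff, Ideal.ne_top_iff_one, mem_span_xm_iff]
  intro h
  have h1 := (h 0 (by
    change (1 : k[X]).coeff 0 ≠ 0
    rw [coeff_one_zero]
    exact one_ne_zero)).1
  omega

theorem isLocalRing_Bq {e : ℕ} (he : e ∈ H) (he0 : 0 < e) {c₀ : ℕ} (hc : ∀ n, c₀ ≤ n → n ∈ H) :
    IsLocalRing (Bq (k := k) he) := by
  have : Nontrivial (Bq (k := k) he) := nontrivial_Bq he he0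
  apply IsLocalRing.of_isUnit_or_isUnit_one_sub_self
  intro a
  obtain ⟨p, rfl⟩ := Ideal.Quotient.mk_surjective a
  by_cases h0 : (p : k[X]).coeff 0 = 0
  · right
    exact (isNilpotent_mk he hc p h0).isUnit_one_sub
  · left
    exact isUnit_mk he hc p h0

theorem finite_Bq {e : ℕ} (he : e ∈ H) {c₀ : ℕ} (hc : ∀ n, c₀ ≤ n → n ∈ H) :
    Module.Finite k (Bq (k := k) he) := by
  classical
  let g : ℕ → Bq (k := k) he := fun n => if h : n ∈ H then mkB k he (xm k n h) else 0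
  refine ⟨⟨(Finset.range (c₀ + e)).image g, ?_⟩⟩
  rw [eq_top_iff]
  rintro b -
  obtain ⟨p, rfl⟩ := Ideal.Quotient.mk_surjective b
  have hp : p = ∑ n ∈ (p : k[X]).support,
      (p : k[X]).coeff n • (if h : n ∈ H then xm k n h else 0) := by
    apply Subtype.ext
    rw [AddSubmonoidClass.coe_finsetSum]
    conv_lhs => rw [(p : k[X]).as_sum_support]
    refine Finset.sum_congr rfl fun n hn => ?_
    have hnH : n ∈ H := p.2 n (mem_support_iff.mp hn)
    rw [dif_pos hnH]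
    change monomial n ((p : k[X]).coeff n) = (p : k[X]).coeff n • (X ^ n : k[X])
    rw [← monomial_one_right_eq_X_pow, smul_monomial, smul_eq_mul, mul_one]
  rw [hp, map_sum]
  refine Submodule.sum_mem _ fun n hn => ?_
  have hnH : n ∈ H := p.2 n (mem_support_iff.mp hn)
  rw [dif_pos hnH]
  have hsm : (Ideal.Quotient.mk (Ideal.span {xm k e he})) ((p : k[X]).coeff n • xm k n hnH) =
      (p : k[X]).coeff n • mkB k he (xm k n hnH) := rfl
  rw [hsm]
  apply Submodule.smul_mem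
  by_cases hlt : n < c₀ + e
  · apply Submodule.subset_span
    rw [Finset.coe_image]
    exact ⟨n, Finset.mem_coe.mpr (Finset.mem_range.mpr hlt), dif_pos hnH⟩
  · have h0 : mkB k he (xm k n hnH) = 0 := by
      rw [Ideal.Quotient.eq_zero_iff_mem]
      apply mem_of_coeff_lt he hc
      intro m hm
      change (X ^ n : k[X]).coeff m = 0
      rw [coeff_X_pow, if_neg (by omega)]
    rw [h0]
    exact zero_mem _

section Soc

variable {e : ℕ} (he : e ∈ H) {c₀ : ℕ} (hc : ∀ n, c₀ ≤ n → n ∈ H) [IsLocalRing (Bq (k := k) he)]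

include hc in
theorem mk_mem_maximalIdeal_iff (p : semiAlg k H) :
    mkB k he p ∈ maximalIdeal (Bq (k := k) he) ↔ (p : k[X]).coeff 0 = 0 := by
  rw [mem_maximalIdeal, mem_nonunits_iff]
  constructor
  · intro h
    by_contra h0
    exact h (isUnit_mk he hc p h0)
  · intro h0
    exact (isNilpotent_mk he hc p h0).not_isUnit

omit [IsLocalRing (Bq (k := k) he)] in
theorem mk_xm_ne_zero {w : ℕ} (hw : Ap H e w) : mkB k he (xm k w hw.1) ≠ 0 := by
  rw [Ne, Ideal.Quotient.eq_zero_iff_mem, mem_span_xm_iff]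
  intro h
  exact hw.2 (h w (by
    change (X ^ w : k[X]).coeff w ≠ 0
    rw [coeff_X_pow, if_pos rfl]
    exact one_ne_zero))

include hc in
theorem mk_xm_mem_soc {w : ℕ} (hw : MaxAp H e w) :
    mkB k he (xm k w hw.1.1) ∈ GorArt.Soc (Bq (k := k) he) (Bq (k := k) he) := by
  rw [GorArt.mem_soc_iff]
  intro r hr
  obtain ⟨q, rfl⟩ := Ideal.Quotient.mk_surjective r
  have hq0 := (mk_mem_maximalIdeal_iff he hc q).mp hr
  rw [smul_eq_mul, ← map_mul, Ideal.Quotient.eq_zero_iff_mem, mem_span_xm_iff]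
  intro n hn
  change ((q : k[X]) * X ^ w).coeff n ≠ 0 at hn
  rw [coeff_mul_X_pow'] at hn
  split_ifs at hn with hwn
  · have hh : n - w ∈ H := q.2 _ hn
    have hpos : 0 < n - w := by
      rcases Nat.eq_zero_or_pos (n - w) with h | h
      · rw [h] at hn
        exact absurd hq0 hn
      · exact h
    have hnot := hw.2 _ hh hpos
    have hnw : w + (n - w) = n := by omega
    rw [hnw] at hnot
    have hnH : n ∈ H := by
      rw [← hnw]
      exact H.add_mem hw.1.1 hh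
    by_contra hcon
    exact hnot ⟨hnH, hcon⟩
  · exact absurd rfl hn

include hc in
theorem coeff_eq_zero_of_mem_soc {W : ℕ} (hW : Ap H e W) {p : semiAlg k H}
    (hp : mkB k he p ∈ GorArt.Soc (Bq (k := k) he) (Bq (k := k) he)) {a : ℕ} (haW : a < W)
    (hWa : W - a ∈ H) : (p : k[X]).coeff a = 0 := by
  have hmem : mkB k he (xm k (W - a) hWa) ∈ maximalIdeal (Bq (k := k) he) := by
    rw [mk_mem_maximalIdeal_iff he hc]
    change (X ^ (W - a) : k[X]).coeff 0 = 0
    rw [coeff_X_pow, if_neg (by omega)]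
  have h1 := (GorArt.mem_soc_iff _).mp hp _ hmem
  rw [smul_eq_mul, ← map_mul, Ideal.Quotient.eq_zero_iff_mem, mem_span_xm_iff] at h1
  by_contra hne
  apply hW.2
  apply h1 W
  change (X ^ (W - a) * (p : k[X])).coeff W ≠ 0
  rw [coeff_X_pow_mul', if_pos (by omega)]
  have h2 : W - (W - a) = a := by omega
  rw [h2]
  exact hne

include hc in
theorem length_soc_le_one_of_symW {W : ℕ} (hW : SymW H e W) :
    Module.length (Bq (k := k) he) (GorArt.Soc (Bq (k := k) he) (Bq (k := k) he)) ≤ 1 := by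
  have key : ∀ s ∈ GorArt.Soc (Bq (k := k) he) (Bq (k := k) he), ∃ c : k,
      s = mkB k he (algebraMap k (semiAlg k H) c * xm k W hW.1.1) := by
    intro s hs
    obtain ⟨p, rfl⟩ := Ideal.Quotient.mk_surjective s
    refine ⟨(p : k[X]).coeff W, ?_⟩
    rw [Ideal.Quotient.eq, mem_span_xm_iff]
    intro n hn
    change ((p : k[X]) - algebraMap k k[X] ((p : k[X]).coeff W) * X ^ W).coeff n ≠ 0 at hn
    rw [coeff_sub, ← C_eq_algebraMap, coeff_C_mul, coeff_X_pow] at hn
    have hnW : n ≠ W := by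
      rintro rfl
      rw [if_pos rfl, mul_one, sub_self] at hn
      exact hn rfl
    rw [if_neg hnW, mul_zero, sub_zero] at hn
    have hnH : n ∈ H := p.2 n hn
    by_contra hcon
    have hAp : Ap H e n := ⟨hnH, hcon⟩
    obtain ⟨h1, h2⟩ := hW.2 n hAp
    exact hn (coeff_eq_zero_of_mem_soc he hc hW.1 hs (lt_of_le_of_ne h1 hnW) h2)
  apply length_le_one_of_cyclic
  rintro ⟨x, hx⟩ ⟨y, hy⟩ hx0
  obtain ⟨c, rfl⟩ := key x hx
  obtain ⟨c', rfl⟩ := key y hy
  have hc0 : c ≠ 0 := by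
    rintro rfl
    apply hx0
    apply Subtype.ext
    change mkB k he _ = 0
    rw [map_zero, zero_mul, map_zero]
  refine ⟨mkB k he (algebraMap k (semiAlg k H) (c' / c)), ?_⟩
  apply Subtype.ext
  change mkB k he _ * mkB k he _ = mkB k he _
  rw [← map_mul, ← mul_assoc, ← map_mul, div_mul_cancel₀ _ hc0]

include hc in
theorem exists_symW_of_length (he0 : 0 < e)
    (hlen : Module.length (Bq (k := k) he) (GorArt.Soc (Bq (k := k) he) (Bq (k := k) he)) ≤ 1) :
    ∃ W, SymW H e W := by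
  obtain ⟨W, hWAp, hWmax⟩ := exists_max (Ap H e) (c₀ + e) (fun n hn => hn.lt hc) (ap_zero he0)
  have hWM : MaxAp H e W := ⟨hWAp, fun h hh hpos hAp => by
    have := hWmax _ hAp
    omega⟩
  have huniq : ∀ w, MaxAp H e w → w = W := by
    intro w hw
    by_contra hne
    have hlt : w < W := lt_of_le_of_ne (hWmax w hw.1) hne
    obtain ⟨b, hb⟩ := cyclic_of_length_le_one hlen ⟨_, mk_xm_mem_soc he hc hWM⟩
      ⟨_, mk_xm_mem_soc he hc hw⟩ (by
        intro h0
        exact mk_xm_ne_zero he hWAp (congrArg Subtype.val h0))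
    obtain ⟨q, rfl⟩ := Ideal.Quotient.mk_surjective b
    have hb' : mkB k he (q * xm k W hWAp.1) = mkB k he (xm k w hw.1.1) := by
      rw [map_mul]
      exact congrArg Subtype.val hb
    rw [Ideal.Quotient.eq, mem_span_xm_iff] at hb'
    apply hw.1.2
    apply hb' w
    change ((q : k[X]) * X ^ W - X ^ w).coeff w ≠ 0
    rw [coeff_sub, coeff_mul_X_pow', if_neg (by omega), coeff_X_pow, if_pos rfl, zero_sub]
    exact neg_ne_zero.mpr one_ne_zero
  refine ⟨W, hWAp, fun a ha => ?_⟩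
  obtain ⟨b, ⟨hbAp, hab, hbaH⟩, hbmax⟩ := exists_max
    (fun b => Ap H e b ∧ a ≤ b ∧ b - a ∈ H) (c₀ + e) (fun n hn => hn.1.lt hc) (a := a)
    ⟨ha, le_rfl, by rw [Nat.sub_self]; exact H.zero_mem⟩
  have hbM : MaxAp H e b := by
    refine ⟨hbAp, fun h hh hpos hAp => ?_⟩
    have h1 := hbmax (b + h) ⟨hAp, by omega, by
      have h2 : b + h - a = (b - a) + h := by omega
      rw [h2]
      exact H.add_mem hbaH hh⟩
    omega
  have h3 := huniq b hbM
  rw [h3] at hab hbaH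
  exact ⟨hab, hbaH⟩

end Soc

/-- **Kunz's theorem**: `k[H]/(x^e)` is Gorenstein iff `H` is symmetric. -/
theorem isGorensteinLocalRing_iff {e : ℕ} (he : e ∈ H) (he0 : 0 < e) {c₀ : ℕ}
    (hc : ∀ n, c₀ ≤ n → n ∈ H) :
    IsGorensteinLocalRing (Bq (k := k) he) ↔ W4c6gradedringsgw.IsSymmetric (H : Set ℕ) := by
  have : IsLocalRing (Bq (k := k) he) := isLocalRing_Bq he he0 hc
  have := finite_Bq (k := k) he hc
  have : IsArtinianRing (Bq (k := k) he) := IsArtinianRing.of_finite k _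
  rw [GorArt.isGorensteinLocalRing_iff_length_soc_le_one, ← exists_symW_iff he he0 hc]
  exact ⟨exists_symW_of_length he hc he0, fun ⟨W, hW⟩ => length_soc_le_one_of_symW he hc hW⟩

end Alg

end Groth.Agent.Helper8.Kunz
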