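import Mathlib
import Groth.Prelude.Def_CAlg
import Groth.Agent.Lib.Helper8.GB2
import Groth.Agent.Lib.Helper8.GorFlat6
import Groth.Agent.Lib.Helper8.GorFlat9
import Groth.Agent.Lib.Helper8.ExtLoc4
import Groth.Agent.Lib.Helper8.LD15

/-!
# Reduction of the Gorenstein property of a graded ring to an Artinian quotient (helper8)

For a Noetherian graded ring `R` defined over a field with irrelevant ideal `m`, `t, y ∈ m` with `t` regular on
`R`, `y` regular on `R/(t)` and `(R/(t))/(y) ≃ B` local: `R` is a Gorenstein ring iff `B` is a Gorenstein local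
ring.
-/

set_option autoImplicit false
set_option linter.unusedSectionVars false
universe u

namespace Groth.Agent.Helper8.Kunz

open IsLocalRing LocCoh Groth.Agent.Helper8.GD Groth.Agent.Helper8.GorFlat

/-- a Gorenstein local ring is a Gorenstein ring -/
theorem isGorensteinRing_of_isGorensteinLocalRing (B : Type u) [CommRing B]
    (h : IsGorensteinLocalRing B) : IsGorensteinRing B := by
  haveI := h
  haveI : IsNoetherianRing B := inferInstance
  exact { isGorensteinLocalRing_localization := fun p hp =>
    ExtLoc.isGorensteinLocalRing_localization p h.exists_hasInjectiveDimensionLT }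

/-- a local ring which is a Gorenstein ring is a Gorenstein local ring -/
theorem isGorensteinLocalRing_of_isGorensteinRing (B : Type u) [CommRing B] [IsLocalRing B]
    (h : IsGorensteinRing B) : IsGorensteinLocalRing B :=
  (isGorensteinLocalRing_localization_maximalIdeal_iff B (maximalIdeal B) rfl).mp
    (h.isGorensteinLocalRing_localization (maximalIdeal B))

/-- lifting the Gorenstein property from the quotient by a regular element, at one prime -/
theorem isGorensteinLocalRing_atPrime_of_quotient (A : Type u) [CommRing A] [IsNoetherianRing A]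
    (x : A) (hreg : IsSMulRegular A x) (I : Ideal A) (hI : I = Ideal.span {x}) (q : Ideal A)
    [q.IsPrime] (hxq : x ∈ q) [(q.map (Ideal.Quotient.mk I)).IsPrime]
    (h : IsGorensteinLocalRing (Localization.AtPrime (q.map (Ideal.Quotient.mk I)))) :
    IsGorensteinLocalRing (Localization.AtPrime q) := by
  have hIq : I ≤ q := by
    rw [hI, Ideal.span_singleton_le_iff_mem]
    exact hxq
  set S := Localization.AtPrime q with hS
  set x' := algebraMap A S x with hxdef
  have hx : x' ∈ maximalIdeal S := (IsLocalization.AtPrime.to_map_mem_maximal_iff S q x).mpr hxq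
  have hxreg : IsSMulRegular S x' := IsSMulRegular.of_isLocalization S q.primeCompl hreg
  have hJ : I.map (algebraMap A S) = Ideal.span {x'} := by
    rw [hI, Ideal.map_span, Set.image_singleton]
  have h1 : IsGorensteinLocalRing (S ⧸ I.map (algebraMap A S)) :=
    isGorensteinLocalRing_of_ringEquiv (Sk.locQuotEquiv A I q hIq) h
  rw [hJ] at h1
  exact (LD.isGorensteinLocalRing_iff_quotient S x' hx hxreg).mpr h1

section Main

variable (R : Type u) [CommRing R] [IsNoetherianRing R] {𝒜 : ℤ → AddSubgroup R} [GradedRing 𝒜]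
  {m : HomogeneousIdeal 𝒜} (hF : FieldGr 𝒜 m)

include hF in
/-- **Reduction to the Artinian quotient.** -/
theorem isGorensteinRing_iff_of_equiv (t y : R) (ht : t ∈ m.toIdeal) (hy : y ∈ m.toIdeal)
    (htreg : IsSMulRegular R t) (I₁ : Ideal R) (hI₁ : I₁ = Ideal.span {t})
    (hyreg : IsSMulRegular (R ⧸ I₁) (Ideal.Quotient.mk I₁ y)) (I₂ : Ideal (R ⧸ I₁))
    (hI₂ : I₂ = Ideal.span {Ideal.Quotient.mk I₁ y}) (B : Type u) [CommRing B] [IsLocalRing B]
    (e : ((R ⧸ I₁) ⧸ I₂) ≃+* B) : IsGorensteinRing R ↔ IsGorensteinLocalRing B := by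
  constructor
  · intro h
    have h1 : IsGorensteinRing (R ⧸ I₁) := isGorensteinRing_quotient' R h t htreg I₁ hI₁
    have h2 : IsGorensteinRing ((R ⧸ I₁) ⧸ I₂) :=
      isGorensteinRing_quotient' (R ⧸ I₁) h1 _ hyreg I₂ hI₂
    exact isGorensteinLocalRing_of_isGorensteinRing B (isGorensteinRing_of_ringEquiv e h2)
  · intro hB
    have hBr : IsGorensteinRing B := isGorensteinRing_of_isGorensteinLocalRing B hB
    have h2 : IsGorensteinRing ((R ⧸ I₁) ⧸ I₂) := isGorensteinRing_of_ringEquiv e.symm hBr
    haveI hmP : m.toIdeal.IsPrime := hF.isMaximal.isPrime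
    have hI₁m : I₁ ≤ m.toIdeal := by
      rw [hI₁, Ideal.span_singleton_le_iff_mem]
      exact ht
    haveI hm₁ : (m.toIdeal.map (Ideal.Quotient.mk I₁)).IsPrime :=
      Ideal.map_isPrime_of_surjective Ideal.Quotient.mk_surjective (by rw [Ideal.mk_ker]; exact hI₁m)
    have hI₂m : I₂ ≤ m.toIdeal.map (Ideal.Quotient.mk I₁) := by
      rw [hI₂, Ideal.span_singleton_le_iff_mem]
      exact Ideal.mem_map_of_mem _ hy
    haveI hm₂ : ((m.toIdeal.map (Ideal.Quotient.mk I₁)).map (Ideal.Quotient.mk I₂)).IsPrime :=
      Ideal.map_isPrime_of_surjective Ideal.Quotient.mk_surjective (by rw [Ideal.mk_ker]; exact hI₂m)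
    have hG2 := h2.isGorensteinLocalRing_localization
      ((m.toIdeal.map (Ideal.Quotient.mk I₁)).map (Ideal.Quotient.mk I₂))
    have hG1 : IsGorensteinLocalRing (Localization.AtPrime (m.toIdeal.map (Ideal.Quotient.mk I₁))) :=
      isGorensteinLocalRing_atPrime_of_quotient (R ⧸ I₁) (Ideal.Quotient.mk I₁ y) hyreg I₂ hI₂
        (m.toIdeal.map (Ideal.Quotient.mk I₁)) (Ideal.mem_map_of_mem _ hy) hG2
    have hG0 : IsGorensteinLocalRing (Localization.AtPrime m.toIdeal) :=
      isGorensteinLocalRing_atPrime_of_quotient R t htreg I₁ hI₁ m.toIdeal ht hG1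
    exact GB.isGorensteinRing_of_atPrime hF hG0

end Main

end Groth.Agent.Helper8.Kunz
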