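import Mathlib
import Groth.Prelude.Def_CAlg
import Groth.Prelude.Def_W4c6gradedringsgwSect
import Groth.Agent.Lib.Helper9.GrSect.Emb
import Groth.Agent.Lib.Helper8.Kunz1
import Groth.Agent.Lib.Helper8.Kunz2

/-!
# The section ring of a point of a curve is Gorenstein iff the Weierstrass semigroup is symmetric (helper8)

`R = ⊕ L(nP) Tⁿ` is graded over the field `k`, `t = T` is a nonzerodivisor with `R/(t) ≅ k[H]` (helper9's
leading-coefficient homomorphism), and `k[H]/(x^e)` is Gorenstein iff `H` is symmetric (`Kunz1`).  The graded-local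
principle (`GB2`) and the behaviour of the Gorenstein property under quotients by regular elements (`Kunz2`)
give the result.
-/

set_option autoImplicit false
set_option linter.unusedSectionVars false
universe u

namespace Groth.Agent.Helper8.Kunz

open FunFld W4c6gradedringsgw Polynomial WithZero Groth.Agent.Lib.Helper4.FF Groth.Agent.Helper9.FFExt
  Groth.Agent.Helper9.GrSect LocCoh

variable {k K : Type u} [Field k] [Field K] [Algebra k K] {P : Place k K}

/-- the section ring of the point divisor -/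
abbrev SR (P : Place k K) : Type u := ↥(sectRing (Finsupp.single P 1 : Divisor k K))

section Semigroup

variable (R : RatData P) (hK : IsFunctionField k K) (hP : P.deg = 1)

include R hK hP in
theorem zero_mem_poleOrders : 0 ∈ poleOrders P := by
  rw [mem_poleOrders_iff R hK hP]
  refine ⟨1, ?_, ?_⟩
  · rw [Nat.cast_zero, zero_smul]
    have := algebraMap_mem_L_zero (k := k) (K := K) 1
    rwa [map_one] at this
  · have h1 := lam_algebraMap R (1 : k)
    rw [map_one] at h1
    rw [h1]
    exact one_ne_zero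

include R hK hP in
theorem add_mem_poleOrders {a b : ℕ} (ha : a ∈ poleOrders P) (hb : b ∈ poleOrders P) :
    a + b ∈ poleOrders P := by
  obtain ⟨f, hf, hf0⟩ := (mem_poleOrders_iff R hK hP a).mp ha
  obtain ⟨g, hg, hg0⟩ := (mem_poleOrders_iff R hK hP b).mp hb
  rw [mem_poleOrders_iff R hK hP]
  refine ⟨f * g, ?_, ?_⟩
  · have h1 := mul_mem_L hf hg
    rwa [← add_smul, ← Nat.cast_add] at h1
  · rw [lam_mul R (val_le_of_mem hf) (val_le_of_mem hg)]
    exact mul_ne_zero hf0 hg0

/-- the Weierstrass semigroup as a submonoid of `ℕ` -/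
def Hs : AddSubmonoid ℕ where
  carrier := poleOrders P
  zero_mem' := zero_mem_poleOrders R hK hP
  add_mem' := fun ha hb => add_mem_poleOrders R hK hP ha hb

theorem psi_mem (p : SR P) : psi R p ∈ semiAlg k (Hs R hK hP) := by
  intro n hn
  rw [coeff_psi] at hn
  exact (mem_poleOrders_iff R hK hP n).mpr ⟨_, p.2 n, hn⟩

/-- the leading-coefficient homomorphism onto the semigroup algebra -/
noncomputable def psi' : SR P →ₐ[k] semiAlg k (Hs R hK hP) :=
  (psi R).codRestrict (semiAlg k (Hs R hK hP)) (psi_mem R hK hP)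

theorem coe_psi' (p : SR P) : ((psi' R hK hP p : semiAlg k (Hs R hK hP)) : k[X]) = psi R p := rfl

theorem psi'_surjective : Function.Surjective (psi' R hK hP) := by
  intro q
  refine ⟨∑ n ∈ (q : k[X]).support,
    (q : k[X]).coeff n • mono n (fmon R hK hP n) (fmon_mem R hK hP n), ?_⟩
  apply Subtype.ext
  rw [coe_psi', map_sum]
  conv_rhs => rw [(q : k[X]).as_sum_support]
  refine Finset.sum_congr rfl fun n hn => ?_
  have hnH : n ∈ poleOrders P := q.2 n (mem_support_iff.mp hn)
  rw [map_smul, psi_mono, lam_fmon R hK hP hnH, smul_monomial, smul_eq_mul, mul_one]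

theorem tzero_coe : ((tzero : SR P) : K[X]) = C (algebraMap k K 1) * X := by
  have h : ((tzero : SR P) : K[X]) = monomial 1 (1 : K) := rfl
  rw [h, (algebraMap k K).map_one, C_1, one_mul, monomial_one_one_eq_X]

theorem ker_psi' : RingHom.ker (psi' R hK hP) = Ideal.span {(tzero : SR P)} := by
  rw [← ker_psi R hK tzero 1 one_ne_zero tzero_coe]
  ext p
  rw [RingHom.mem_ker, RingHom.mem_ker]
  constructor
  · intro h
    exact congrArg Subtype.val h
  · intro h
    exact Subtype.ext h

/-- the element of degree `e` with leading coefficient one -/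
noncomputable def ye (e : ℕ) : SR P := mono e (fmon R hK hP e) (fmon_mem R hK hP e)

theorem psi'_ye {e : ℕ} (he : e ∈ Hs R hK hP) : psi' R hK hP (ye R hK hP e) = xm k e he := by
  apply Subtype.ext
  rw [coe_psi']
  change psi R (mono e _ _) = X ^ e
  rw [psi_mono, lam_fmon R hK hP he, monomial_one_right_eq_X_pow]

theorem ker_comp {e : ℕ} (he : e ∈ Hs R hK hP) :
    RingHom.ker ((mkB k he).comp (psi' R hK hP : SR P →+* semiAlg k (Hs R hK hP))) =
      Ideal.span {(tzero : SR P)} ⊔ Ideal.span {ye R hK hP e} := by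
  rw [← RingHom.comap_ker, Ideal.mk_ker]
  have h1 : Ideal.span {xm k e he} =
      (Ideal.span {ye R hK hP e}).map (psi' R hK hP : SR P →+* semiAlg k (Hs R hK hP)) := by
    rw [Ideal.map_span, Set.image_singleton]
    rw [show ((psi' R hK hP : SR P →+* semiAlg k (Hs R hK hP)) (ye R hK hP e)) = xm k e he from
      psi'_ye R hK hP he]
  rw [h1, Ideal.comap_map_of_surjective (psi' R hK hP : SR P →+* semiAlg k (Hs R hK hP))
    (psi'_surjective R hK hP), sup_comm]
  congr 1
  exact ker_psi' R hK hP

theorem exists_equiv {e : ℕ} (he : e ∈ Hs R hK hP) :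
    Nonempty (((SR P ⧸ Ideal.span {(tzero : SR P)}) ⧸
      (Ideal.span {ye R hK hP e}).map (Ideal.Quotient.mk (Ideal.span {(tzero : SR P)}))) ≃+*
        Bq (k := k) he) := by
  have hsurj : Function.Surjective
      ((mkB k he).comp (psi' R hK hP : SR P →+* semiAlg k (Hs R hK hP))) :=
    Ideal.Quotient.mk_surjective.comp (psi'_surjective R hK hP)
  exact ⟨(DoubleQuot.quotQuotEquivQuotSup _ _).trans
    ((Ideal.quotEquivOfEq (ker_comp R hK hP he).symm).trans
      (RingHom.quotientKerEquivOfSurjective hsurj))⟩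

theorem isSMulRegular_ye {e : ℕ} (he : e ∈ Hs R hK hP) :
    IsSMulRegular (SR P ⧸ Ideal.span {(tzero : SR P)})
      (Ideal.Quotient.mk (Ideal.span {(tzero : SR P)}) (ye R hK hP e)) := by
  haveI : (Ideal.span {(tzero : SR P)}).IsPrime := by
    rw [← ker_psi' R hK hP]
    exact RingHom.ker_isPrime _
  haveI : IsDomain (SR P ⧸ Ideal.span {(tzero : SR P)}) := Ideal.Quotient.isDomain _
  have hne : Ideal.Quotient.mk (Ideal.span {(tzero : SR P)}) (ye R hK hP e) ≠ 0 := by
    rw [Ne, Ideal.Quotient.eq_zero_iff_mem, ← ker_psi' R hK hP, RingHom.mem_ker,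
      psi'_ye R hK hP he]
    intro h
    have h1 : (X ^ e : k[X]) = 0 := congrArg Subtype.val h
    exact pow_ne_zero e X_ne_zero h1
  exact (IsRegular.of_ne_zero hne).left.isSMulRegular

end Semigroup

theorem isSMulRegular_tzero (P : Place k K) : IsSMulRegular (SR P) (tzero : SR P) := by
  have h1 : ((tzero : SR P) : K[X]).coeff 1 = 1 := by
    change (monomial 1 (1 : K)).coeff 1 = 1
    rw [coeff_monomial, if_pos rfl]
  have hne : (tzero : SR P) ≠ 0 := by
    intro h
    rw [h] at h1
    exact zero_ne_one h1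
  exact (IsRegular.of_ne_zero hne).left.isSMulRegular

section Noeth

variable (R : RatData P) (hK : IsFunctionField k K) (hP : P.deg = 1) [IsAlgClosed k]
  (hg : 1 ≤ genus k K)

include hg in
theorem mono_mem_adjoin : ∀ n : ℕ, ∀ (f : K)
    (hf : f ∈ L ((n : ℤ) • (Finsupp.single P 1 : Divisor k K))),
    mono n f hf ∈ Algebra.adjoin k (gens R hK hP) := by
  intro n
  induction n using Nat.strong_induction_on with
  | _ n ih =>
  intro f hf
  rcases Nat.eq_zero_or_pos n with hn0 | hn
  · subst hn0
    have h1 : f ∈ L ((((1 : ℕ) : ℤ) - 1) • (Finsupp.single P 1 : Divisor k K)) := by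
      convert hf using 2
      simp
    have h2 := L_pred_le (P := P) (k := k) 1 h1
    obtain ⟨c, rfl⟩ := const_of_mem hK hg h2
    have h3 : mono 0 (algebraMap k K c) hf = algebraMap k (SR P) c := by
      apply Subtype.ext
      change monomial 0 (algebraMap k K c) = algebraMap k K[X] c
      rw [monomial_zero_left, Polynomial.algebraMap_apply]
    rw [h3]
    exact Subalgebra.algebraMap_mem _ c
  · have htz : (tzero : SR P) ∈ Algebra.adjoin k (gens R hK hP) :=
      Algebra.subset_adjoin (Set.mem_insert _ _)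
    have hsmall : ∀ (f : K) (hf : f ∈ L ((n : ℤ) • (Finsupp.single P 1 : Divisor k K))),
        lam R n f = 0 → mono n f hf ∈ Algebra.adjoin k (gens R hK hP) := by
      intro f hf h0
      obtain ⟨m, rfl⟩ : ∃ m, n = m + 1 := ⟨n - 1, by omega⟩
      rw [lam_eq_zero_iff R (val_le_of_mem hf)] at h0
      have hf' : f ∈ L ((m : ℤ) • (Finsupp.single P 1 : Divisor k K)) := by
        have := (mem_L_pred_iff hf).mpr h0
        convert this using 2
        push_cast; ring_nf
      have h2 : mono (m + 1) f hf = mono m f hf' * tzero := mono_pred_mul_tzero (P := P) hf'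
      rw [h2]
      exact Subalgebra.mul_mem _ (ih m (by omega) f hf') htz
    by_cases h0 : lam R n f = 0
    · exact hsmall f hf h0
    have hnH : n ∈ poleOrders P := (mem_poleOrders_iff R hK hP n).mpr ⟨f, hf, h0⟩
    have hred : ∀ (g : K) (hg' : g ∈ L ((n : ℤ) • (Finsupp.single P 1 : Divisor k K))),
        lam R n g = 1 → mono n g hg' ∈ Algebra.adjoin k (gens R hK hP) →
        mono n f hf ∈ Algebra.adjoin k (gens R hK hP) := by
      intro g hg' hg1 hmem
      set c := lam R n f with hc
      have hdiff : f - c • g ∈ L ((n : ℤ) • (Finsupp.single P 1 : Divisor k K)) :=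
        sub_mem hf (Submodule.smul_mem _ c hg')
      have hlam : lam R n (f - c • g) = 0 := by
        have h1 : f = (f - c • g) + c • g := (sub_add_cancel f (c • g)).symm
        have h2 := lam_add R (val_le_of_mem hdiff) (val_le_of_mem (Submodule.smul_mem _ c hg'))
        rw [← h1, lam_smul R c (val_le_of_mem hg'), hg1, mul_one, ← hc] at h2
        exact add_eq_right.mp h2.symm
      have h3 : mono n f hf = mono n (f - c • g) hdiff + c • mono n g hg' := by
        apply Subtype.ext
        change monomial n f = monomial n (f - c • g) + c • monomial n g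
        rw [Polynomial.smul_monomial, ← map_add, sub_add_cancel]
      rw [h3]
      exact Subalgebra.add_mem _ (hsmall _ hdiff hlam) (Subalgebra.smul_mem _ hmem c)
    by_cases hmin : n ∈ minGens (poleOrders P)
    · refine hred (fmon R hK hP n) (fmon_mem R hK hP n) (lam_fmon R hK hP hnH) ?_
      exact Algebra.subset_adjoin (Set.mem_insert_of_mem _ ⟨n, hmin, rfl⟩)
    · have hn0 : n ≠ 0 := by omega
      have hex : ∃ a ∈ poleOrders P, ∃ b ∈ poleOrders P, a ≠ 0 ∧ b ≠ 0 ∧ a + b = n := by
        by_contra hcon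
        apply hmin
        refine ⟨hnH, hn0, fun a ha b hb ha0 hb0 hab => hcon ⟨a, ha, b, hb, ha0, hb0, hab⟩⟩
      obtain ⟨a, ha, b, hb, ha0, hb0, rfl⟩ := hex
      have hprod : fmon R hK hP a * fmon R hK hP b ∈
          L (((a + b : ℕ) : ℤ) • (Finsupp.single P 1 : Divisor k K)) := by
        have := mul_mem_L (fmon_mem R hK hP a) (fmon_mem R hK hP b)
        rwa [← add_smul, ← Nat.cast_add] at this
      refine hred _ hprod ?_ ?_
      · rw [lam_mul R (val_le_of_mem (fmon_mem R hK hP a)) (val_le_of_mem (fmon_mem R hK hP b)),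
          lam_fmon R hK hP ha, lam_fmon R hK hP hb, one_mul]
      · rw [mono_mul a b _ _ (fmon_mem R hK hP a) (fmon_mem R hK hP b)]
        exact Subalgebra.mul_mem _ (ih a (by omega) _ (fmon_mem R hK hP a))
          (ih b (by omega) _ (fmon_mem R hK hP b))

include hg in
theorem adjoin_gens_eq_top : Algebra.adjoin k (gens R hK hP) = ⊤ := by
  rw [eq_top_iff]
  rintro p -
  have hsum : p = ∑ n ∈ (p : K[X]).support, mono n ((p : K[X]).coeff n) (p.2 n) := by
    apply Subtype.ext
    rw [AddSubmonoidClass.coe_finsetSum]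
    exact (p : K[X]).as_sum_support
  rw [hsum]
  exact Subalgebra.sum_mem _ fun n _ => mono_mem_adjoin R hK hP hg n _ _

include R hK hP hg in
theorem isNoetherianRing_SR : IsNoetherianRing (SR P) := by
  have hfin : (gens R hK hP).Finite := ((finite_minGens hK hP hg).image _).insert _
  haveI : Algebra.FiniteType k (SR P) :=
    ⟨⟨hfin.toFinset, by rw [Set.Finite.coe_toFinset]; exact adjoin_gens_eq_top R hK hP hg⟩⟩
  exact Algebra.FiniteType.isNoetherianRing k (SR P)

end Noeth

section Grading

variable (P)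

/-- the homogeneous pieces of the section ring -/
def grS (n : ℤ) : AddSubgroup (SR P) where
  carrier := {p | ∀ m : ℕ, (m : ℤ) ≠ n → (p : K[X]).coeff m = 0}
  add_mem' := by
    intro p q hp hq m hm
    change ((p : K[X]) + (q : K[X])).coeff m = 0
    rw [coeff_add, hp m hm, hq m hm, add_zero]
  zero_mem' := by
    intro m _
    exact coeff_zero m
  neg_mem' := by
    intro p hp m hm
    change (-(p : K[X])).coeff m = 0
    rw [coeff_neg, hp m hm, neg_zero]

theorem mono_mem_grS (n : ℕ) (f : K)
    (hf : f ∈ L ((n : ℤ) • (Finsupp.single P 1 : Divisor k K))) :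
    mono n f hf ∈ grS P (n : ℤ) := by
  intro m hm
  change (monomial n f).coeff m = 0
  rw [coeff_monomial, if_neg]
  intro h
  exact hm (by rw [h])

theorem algebraMap_mem_grS_zero (c : k) : algebraMap k (SR P) c ∈ grS P 0 := by
  intro m hm
  change (algebraMap k K[X] c).coeff m = 0
  rw [Polynomial.algebraMap_apply, coeff_C, if_neg (by omega)]

instance grS_gradedMonoid : SetLike.GradedMonoid (grS P) where
  one_mem := by
    intro m hm
    change (1 : K[X]).coeff m = 0
    rw [coeff_one, if_neg (by omega)]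
  mul_mem := by
    intro i j p q hp hq m hm
    change ((p : K[X]) * (q : K[X])).coeff m = 0
    rw [coeff_mul]
    refine Finset.sum_eq_zero fun x hx => ?_
    have hsum := Finset.HasAntidiagonal.mem_antidiagonal.mp hx
    by_cases h1 : (x.1 : ℤ) = i
    · have h2 : (x.2 : ℤ) ≠ j := by
        intro h2
        apply hm
        rw [← hsum, Nat.cast_add, h1, h2]
      rw [hq x.2 h2, mul_zero]
    · rw [hp x.1 h1, zero_mul]

theorem coeff_coe (y : DirectSum ℤ fun n => grS P n) (m : ℕ) :
    ((DirectSum.coeAddMonoidHom (grS P) y : SR P) : K[X]).coeff m =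
      ((y (m : ℤ) : SR P) : K[X]).coeff m := by
  induction y using DirectSum.induction_on with
  | zero => simp
  | of g a =>
    rw [DirectSum.coeAddMonoidHom_of]
    by_cases hg : g = (m : ℤ)
    · subst hg
      rw [DirectSum.of_eq_same]
    · rw [DirectSum.of_eq_of_ne _ _ _ (Ne.symm hg), a.2 m (Ne.symm hg)]
      rfl
  | add x y hx hy =>
    simp only [map_add, DirectSum.add_apply, AddSubgroup.coe_add, Subalgebra.coe_add, coeff_add,
      hx, hy]

theorem coe_injective : Function.Injective (DirectSum.coeAddMonoidHom (grS P)) := by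
  rw [injective_iff_map_eq_zero]
  intro y hy
  refine DFinsupp.ext fun j => ?_
  apply Subtype.ext
  apply Subtype.ext
  apply Polynomial.ext
  intro m
  have h0 : ((((0 : DirectSum ℤ fun n => grS P n) j : grS P j) : SR P) : K[X]).coeff m = 0 := by
    simp
  rw [h0]
  by_cases hm : (m : ℤ) = j
  · subst hm
    have h1 := coeff_coe P y m
    rw [hy] at h1
    rw [← h1]
    rfl
  · exact (y j).2 m hm

theorem coe_surjective : Function.Surjective (DirectSum.coeAddMonoidHom (grS P)) := by
  intro p
  refine ⟨∑ n ∈ (p : K[X]).support, DirectSum.of (fun j => grS P j) (n : ℤ)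
    ⟨mono n ((p : K[X]).coeff n) (p.2 n), mono_mem_grS P n _ _⟩, ?_⟩
  rw [map_sum]
  simp only [DirectSum.coeAddMonoidHom_of]
  apply Subtype.ext
  rw [AddSubmonoidClass.coe_finsetSum]
  exact ((p : K[X]).as_sum_support).symm

noncomputable instance grS_gradedRing : GradedRing (grS P) :=
  { grS_gradedMonoid P,
    (show DirectSum.IsInternal (grS P) from
      ⟨coe_injective P, coe_surjective P⟩).chooseDecomposition with }

theorem grS_neg {n : ℤ} (hn : n < 0) : grS P n = ⊥ := by
  rw [eq_bot_iff]
  intro p hp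
  rw [AddSubgroup.mem_bot]
  apply Subtype.ext
  apply Polynomial.ext
  intro m
  rw [hp m (by omega)]
  rfl

/-- the irrelevant ideal -/
noncomputable def mS : HomogeneousIdeal (grS P) :=
  ⟨Ideal.span (⋃ n ∈ Set.Ioi (0 : ℤ), (grS P n : Set (SR P))), by
    apply Ideal.homogeneous_span
    intro x hx
    simp only [Set.mem_iUnion, Set.mem_Ioi, SetLike.mem_coe] at hx
    obtain ⟨n, -, hxn⟩ := hx
    exact ⟨n, hxn⟩⟩

theorem mem_mS_of_mem {n : ℤ} (hn : 0 < n) {x : SR P} (hx : x ∈ grS P n) :
    x ∈ (mS P).toIdeal := by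
  change x ∈ Ideal.span (⋃ n ∈ Set.Ioi (0 : ℤ), (grS P n : Set (SR P)))
  apply Ideal.subset_span
  simp only [Set.mem_iUnion, Set.mem_Ioi, SetLike.mem_coe]
  exact ⟨n, hn, hx⟩

theorem tzero_mem_mS : (tzero : SR P) ∈ (mS P).toIdeal :=
  mem_mS_of_mem P (n := ((1 : ℕ) : ℤ)) (by norm_num) (mono_mem_grS P 1 _ _)

theorem isField_deg0 (hK : IsFunctionField k K) [IsAlgClosed k] (hg : 1 ≤ genus k K) :
    IsField (GrLC.deg0 (grS P)) := by
  refine ⟨⟨0, 1, fun h => zero_ne_one (α := K[X])
    (congrArg (fun x : GrLC.deg0 (grS P) => ((x : SR P) : K[X])) h)⟩, fun a b => mul_comm a b, ?_⟩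
  rintro ⟨a, ha⟩ ha0
  have ha' : a ∈ grS P 0 := ha
  have h0 : (a : K[X]).coeff 0 ∈
      L ((((1 : ℕ) : ℤ) - 1) • (Finsupp.single P 1 : Divisor k K)) := by
    have := a.2 0
    convert this using 2
    simp
  obtain ⟨c, hc⟩ := const_of_mem hK hg (L_pred_le (P := P) (k := k) 1 h0)
  have haeq : a = algebraMap k (SR P) c := by
    apply Subtype.ext
    apply Polynomial.ext
    intro m
    change (a : K[X]).coeff m = (algebraMap k K[X] c).coeff m
    rw [Polynomial.algebraMap_apply, coeff_C]
    split_ifs with hm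
    · rw [hm, hc]
    · exact ha' m (by omega)
  have hc0 : c ≠ 0 := by
    rintro rfl
    apply ha0
    apply Subtype.ext
    change a = 0
    rw [haeq, map_zero]
  refine ⟨⟨algebraMap k (SR P) c⁻¹, algebraMap_mem_grS_zero P c⁻¹⟩, ?_⟩
  apply Subtype.ext
  change a * algebraMap k (SR P) c⁻¹ = 1
  rw [haeq, ← map_mul, mul_inv_cancel₀ hc0, map_one]

theorem fieldGr (hK : IsFunctionField k K) [IsAlgClosed k] (hg : 1 ≤ genus k K) :
    GD.FieldGr (grS P) (mS P) where
  pos := fun n hn => grS_neg P hn
  field := isField_deg0 P hK hg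
  span := rfl

end Grading

theorem ye_mem_mS (R : RatData P) (hK : IsFunctionField k K) (hP : P.deg = 1) {e : ℕ}
    (he0 : 0 < e) : ye R hK hP e ∈ (mS P).toIdeal :=
  mem_mS_of_mem P (n := (e : ℤ)) (by exact_mod_cast he0) (mono_mem_grS P e _ _)

/-- **The section ring of a point is Gorenstein iff the Weierstrass semigroup is symmetric.** -/
theorem isGorensteinRing_sectRing_iff (k : Type u) [Field k] [IsAlgClosed k] (K : Type u) [Field K]
    [Algebra k K] (hK : IsFunctionField k K) (hg : 1 ≤ genus k K) (P : Place k K) :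
    IsGorensteinRing (SR P) ↔ IsSymmetric (poleOrders P) := by
  have hP : P.deg = 1 := Place.deg_eq_one hK P
  obtain ⟨π, hπ⟩ := Place.exists_uniformizer P
  obtain ⟨R⟩ : Nonempty (RatData P) :=
    ⟨⟨π, hπ, fun z hz => Place.exists_const_sub_lt P hP hz⟩⟩
  have heH : 2 * genus k K ∈ Hs R hK hP := mem_poleOrders_of_ge hK hP le_rfl
  have he0 : 0 < 2 * genus k K := by omega
  have hc : ∀ n, 2 * genus k K ≤ n → n ∈ Hs R hK hP :=
    fun n hn => mem_poleOrders_of_ge hK hP hn
  haveI : IsNoetherianRing (SR P) := isNoetherianRing_SR R hK hP hg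
  haveI : IsLocalRing (Bq (k := k) heH) := isLocalRing_Bq heH he0 hc
  obtain ⟨eqv⟩ := exists_equiv R hK hP heH
  have hF : GD.FieldGr (grS P) (mS P) := fieldGr P hK hg
  have key := isGorensteinRing_iff_of_equiv (SR P) hF tzero (ye R hK hP (2 * genus k K))
    (tzero_mem_mS P) (ye_mem_mS R hK hP he0) (isSMulRegular_tzero P)
    (Ideal.span {(tzero : SR P)}) rfl (isSMulRegular_ye R hK hP heH)
    ((Ideal.span {ye R hK hP (2 * genus k K)}).map
      (Ideal.Quotient.mk (Ideal.span {(tzero : SR P)})))
    (by rw [Ideal.map_span, Set.image_singleton]) (Bq (k := k) heH) eqv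
  rw [key, isGorensteinLocalRing_iff heH he0 hc]
  rfl

end Groth.Agent.Helper8.Kunz
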