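import Groth.Agent.Lib.Helper8.KunzF3
import Groth.Agent.Lib.Helper8.ABS10
import Groth.Agent.Lib.Helper8.Depth6
import Groth.Agent.Lib.Helper8.Depth14

/-!
# Kunz's theorem, local case: flat Frobenius implies regular (Herzog's argument)
-/

set_option autoImplicit false
universe u

namespace Groth.Agent.Helper8.Kunz

open CategoryTheory Matrix Module IsLocalRing RingTheory.Sequence
open Groth.Agent.Helper8.NIT

section Socle

variable {R : Type u} [CommRing R] [IsLocalRing R] [IsNoetherianRing R]

/-- a maximal regular sequence in the maximal ideal has a socle element. -/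
theorem exists_socle (rs : List R)
    (hmax : ∀ r ∈ maximalIdeal R, ¬ IsWeaklyRegular R (rs ++ [r]))
    (hreg : IsWeaklyRegular R rs) :
    ∃ s : R, s ∉ Ideal.ofList rs ∧ ∀ a ∈ maximalIdeal R, a * s ∈ Ideal.ofList rs := by
  set Q := R ⧸ (Ideal.ofList rs • ⊤ : Submodule R R) with hQ
  have hI : (Ideal.ofList rs • ⊤ : Submodule R R) = Ideal.ofList rs := by
    rw [smul_eq_mul, Ideal.mul_top]
  have hnr : ∀ x ∈ maximalIdeal R, ¬ IsSMulRegular Q x := by
    intro x hx hcon
    apply hmax x hx
    rw [isWeaklyRegular_append_iff, isWeaklyRegular_singleton_iff]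
    exact ⟨hreg, hcon⟩
  obtain ⟨P, hP, hle⟩ :=
    Groth.Agent.Helper8.Depth.exists_le_associatedPrime_of_forall_not_isSMulRegular
      (M := Q) (maximalIdeal R) hnr
  have hPp : P.IsPrime := hP.isPrime
  have hPm : P = maximalIdeal R :=
    ((maximalIdeal.isMaximal R).eq_of_le hPp.ne_top hle).symm
  obtain ⟨-, x, hx⟩ := (isAssociatedPrime_iff (R := R) (M := Q)).mp hP
  obtain ⟨s, rfl⟩ := Submodule.Quotient.mk_surjective _ x
  refine ⟨s, ?_, ?_⟩
  · intro hs
    have h0 : (Submodule.Quotient.mk s : Q) = 0 := by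
      rw [Submodule.Quotient.mk_eq_zero, hI]; exact hs
    apply hPp.ne_top
    rw [hx, h0]
    ext a
    simp [Submodule.mem_colon_singleton]
  · intro a ha
    have h1 : a ∈ P := by rw [hPm]; exact ha
    rw [hx, Submodule.mem_colon_singleton, Submodule.mem_bot, ← Submodule.Quotient.mk_smul,
      Submodule.Quotient.mk_eq_zero, hI, smul_eq_mul] at h1
    exact h1

/-- closedness of ideals in a Noetherian local ring. -/
theorem mem_of_forall_mem_sup_pow (I : Ideal R) (s : R)
    (h : ∀ n : ℕ, s ∈ I ⊔ maximalIdeal R ^ n) : s ∈ I := by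
  have h1 := Ideal.iInf_pow_smul_eq_bot_of_isLocalRing (R := R) (M := R ⧸ I) (maximalIdeal R)
    (Ideal.IsPrime.ne_top inferInstance)
  have h2 : (Ideal.Quotient.mk I s) ∈ (⨅ i : ℕ, maximalIdeal R ^ i • ⊤ : Submodule R (R ⧸ I)) := by
    rw [Submodule.mem_iInf]
    intro n
    obtain ⟨i, hi, z, hz, hsum⟩ := Submodule.mem_sup.mp (h n)
    rw [← hsum, map_add, Ideal.Quotient.eq_zero_iff_mem.mpr hi, zero_add]
    have : Ideal.Quotient.mk I z = z • (1 : R ⧸ I) := by
      rw [Algebra.smul_def, mul_one]; rfl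
    rw [this]
    exact Submodule.smul_mem_smul hz Submodule.mem_top
  rw [h1, Submodule.mem_bot] at h2
  exact Ideal.Quotient.eq_zero_iff_mem.mp h2

end Socle

section Main

variable {R : Type u} [CommRing R] [IsLocalRing R] [IsNoetherianRing R] (p : ℕ) [Fact p.Prime]
  [CharP R p]

lemma iterateFrobenius_flat (hF : (frobenius R p).Flat) (e : ℕ) :
    (iterateFrobenius R p e).Flat := by
  induction e with
  | zero =>
    rw [iterateFrobenius_zero]
    exact RingHom.Flat.id R
  | succ e ih =>
    rw [iterateFrobenius_add, iterateFrobenius_one]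
    exact RingHom.Flat.comp hF ih

/-- **Kunz (local case, ⇐).** A Noetherian local ring of characteristic `p` with flat Frobenius
is regular. -/
theorem isRegularLocalRing_of_frobenius_flat (hF : (frobenius R p).Flat) :
    IsRegularLocalRing R := by
  obtain ⟨rs, hreg, hmem, hmax, -⟩ :=
    Groth.Agent.Helper8.Depth.exists_maximal_isWeaklyRegular (R := R) (M := R)
      (I := maximalIdeal R) (Groth.Agent.Helper8.Depth.smul_top_ne_top_of_local R R)
  set d := rs.length with hd
  obtain ⟨s, hsI, hsoc⟩ := exists_socle rs hmax hreg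
  obtain ⟨C, π, hb0, hπ, hπmin, hcomp, hker, hex, hent⟩ :=
    exists_minimal_partial_resolution (A := R) (d + 2) (ResidueField R)
  have hb : C.b (d + 1 + 1) = 0 := by
    by_contra hne
    have hpos : 0 < C.b (d + 1 + 1) := Nat.pos_of_ne_zero hne
    apply hsI
    apply mem_of_forall_mem_sup_pow
    intro n
    set φ := iterateFrobenius R p n with hφdef
    have hφ : φ.Flat := iterateFrobenius_flat p hF n
    have hpn : n ≤ p ^ n := (Nat.lt_pow_self (Fact.out : p.Prime).one_lt).le
    have hpn0 : p ^ n ≠ 0 := pow_ne_zero _ (Fact.out : p.Prime).ne_zero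
    have hex' : ∀ j, 1 ≤ j → j ≤ d + 1 → (C.map φ).Kills 1 j := fun j hj hjd =>
      kills_one_map_of_flat φ hφ C j ((C.exactAt_iff_kills_one j).mp (hex j hj (by omega)))
    have hEM := exactMod_ofList_take (C.map φ) rs hreg 1 (d + 1) hex' d le_rfl (d + 1)
      (by omega) le_rfl
    rw [hd, List.take_length] at hEM
    let l : Fin ((C.map φ).b (d + 1 + 1)) := ⟨0, hpos⟩
    obtain ⟨w, hw⟩ := hEM (Pi.single l s) (by
      intro r
      rw [Matrix.mulVec_single]
      show φ (C.D (d + 1) r l) * s ∈ Ideal.ofList rs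
      apply hsoc
      rw [hφdef, iterateFrobenius_def]
      exact Ideal.pow_mem_of_mem _ (hent (d + 1) (by omega) r l) _ (Nat.pos_of_ne_zero hpn0))
    have h1 := hw l
    rw [Pi.sub_apply, Pi.single_eq_same] at h1
    have h2 : ((C.map φ).D (d + 1 + 1) *ᵥ w) l ∈ maximalIdeal R ^ n := by
      show ∑ i, φ (C.D (d + 1 + 1) l i) * w i ∈ maximalIdeal R ^ n
      refine Ideal.sum_mem _ fun i _ => Ideal.mul_mem_right _ _ ?_
      rw [hφdef, iterateFrobenius_def]
      exact Ideal.pow_le_pow_right hpn (Ideal.pow_mem_pow (hent (d + 1 + 1) (by omega) l i) _)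
    have h3 : s = (s - ((C.map φ).D (d + 1 + 1) *ᵥ w) l) + ((C.map φ).D (d + 1 + 1) *ᵥ w) l := by
      ring
    rw [h3]
    exact Ideal.add_mem _ (Ideal.mem_sup_left h1) (Ideal.mem_sup_right h2)
  have hpd : HasProjectiveDimensionLT (ModuleCat.of R (ResidueField R)) (d + 1) :=
    hasProjectiveDimensionLT_of_resolution d (ResidueField R) C π hπ hcomp (hker (by omega))
      (fun j hj hjd => hex j hj (by omega)) hb
  exact Groth.Agent.Helper8.ABS.isRegularLocalRing_of_residueField R (d + 1) hpd

end Main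

end Groth.Agent.Helper8.Kunz
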