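import Groth.Agent.Lib.Helper8.Kunz5
import Groth.Agent.Lib.Helper8.NIT12

/-!
# Kunz's theorem: a Noetherian ring of characteristic `p` is regular iff its Frobenius is flat
-/

set_option autoImplicit false
universe u

namespace Groth.Agent.Helper8.Kunz

open Module IsLocalRing

lemma flat_localRingHom_of_eq {R S : Type u} [CommRing R] [CommRing S] (f : R →+* S)
    (J : Ideal S) [J.IsPrime] (Q : Ideal R) [Q.IsPrime] (hQ : Q = Ideal.comap f J)
    (h : (Localization.localRingHom Q J f hQ).Flat) :
    (Localization.localRingHom (Ideal.comap f J) J f rfl).Flat := by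
  subst hQ
  exact h

variable {R : Type u} [CommRing R] (p : ℕ) [Fact p.Prime] [CharP R p]

lemma comap_frobenius (J : Ideal R) [hJ : J.IsPrime] : J = Ideal.comap (frobenius R p) J := by
  ext a
  rw [Ideal.mem_comap, frobenius_def]
  exact (hJ.pow_mem_iff_mem p (Fact.out : p.Prime).pos).symm

lemma localRingHom_frobenius (J : Ideal R) [J.IsPrime] [CharP (Localization.AtPrime J) p]
    (h : J = Ideal.comap (frobenius R p) J) :
    Localization.localRingHom J J (frobenius R p) h = frobenius (Localization.AtPrime J) p := by
  apply IsLocalization.ringHom_ext J.primeCompl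
  ext x
  rw [RingHom.comp_apply, RingHom.comp_apply, Localization.localRingHom_to_map, frobenius_def,
    frobenius_def, map_pow]

/-- **Kunz's theorem.** -/
theorem isRegularRing_iff_frobenius_flat [IsNoetherianRing R] :
    IsRegularRing R ↔ (frobenius R p).Flat := by
  constructor
  · intro hreg
    apply RingHom.Flat.ofLocalizationPrime
    intro J hJ
    haveI := hJ
    have hJ' := comap_frobenius p J
    apply flat_localRingHom_of_eq (frobenius R p) J J hJ'
    haveI : CharP (Localization.AtPrime J) p :=
      Groth.Agent.Helper8.NIT.charP_localization_atPrime p J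
    rw [localRingHom_frobenius p J hJ']
    exact frobenius_flat_of_isRegularLocalRing p
  · intro hF
    rw [isRegularRing_iff]
    intro J hJ
    have hJ' := comap_frobenius p J
    haveI : CharP (Localization.AtPrime J) p :=
      Groth.Agent.Helper8.NIT.charP_localization_atPrime p J
    have h1 := RingHom.Flat.localRingHom hF J J hJ'
    rw [localRingHom_frobenius p J hJ'] at h1
    exact isRegularLocalRing_of_frobenius_flat p h1

end Groth.Agent.Helper8.Kunz
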