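import Groth.Agent.Lib.Helper8.NIT10

/-!
# Partial minimal free resolutions as matrix complexes
-/

set_option autoImplicit false
universe u

namespace Groth.Agent.Helper8.Kunz

open CategoryTheory Matrix IsLocalRing Module
open Groth.Agent.Helper8.NIT

section Aux

variable {A : Type u} [CommRing A]

/-- the coordinates of a vector of `I • ⊤` lie in `I`. -/
lemma apply_mem_of_mem_smul_top (I : Ideal A) {n : ℕ} (v : Fin n → A)
    (hv : v ∈ I • (⊤ : Submodule A (Fin n → A))) (i : Fin n) : v i ∈ I := by
  refine Submodule.smul_induction_on (p := fun w => w i ∈ I) hv ?_ ?_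
  · intro a ha w _
    rw [Pi.smul_apply, smul_eq_mul]
    exact I.mul_mem_right _ ha
  · intro x y hx hy
    rw [Pi.add_apply]
    exact I.add_mem hx hy

/-- a vector with coordinates in `I` lies in `I • ⊤`. -/
lemma mem_smul_top_of_apply_mem (I : Ideal A) {n : ℕ} (v : Fin n → A)
    (hv : ∀ i, v i ∈ I) : v ∈ I • (⊤ : Submodule A (Fin n → A)) := by
  have : v = ∑ i, v i • (Pi.single i (1 : A) : Fin n → A) := by
    funext j
    rw [Finset.sum_apply]
    simp [Pi.single_apply]
  rw [this]
  exact Submodule.sum_mem _ fun i _ => Submodule.smul_mem_smul (hv i) Submodule.mem_top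

end Aux

section Partial

variable {A : Type u} [CommRing A] [IsLocalRing A] [IsNoetherianRing A]

/-- **Partial minimal free resolutions.** -/
theorem exists_minimal_partial_resolution : ∀ (N : ℕ) (M : Type u) [AddCommGroup M] [Module A M]
    [Module.Finite A M],
    ∃ (C : MC A) (π : C.X 1 →ₗ[A] M), C.b 0 = 0 ∧ Function.Surjective π ∧
      LinearMap.ker π ≤ maximalIdeal A • (⊤ : Submodule A (C.X 1)) ∧
      π ∘ₗ C.d 1 = 0 ∧
      (1 ≤ N → LinearMap.ker π ≤ LinearMap.range (C.d 1)) ∧
      (∀ j, 1 ≤ j → j < N → C.ExactAt j) ∧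
      (∀ j, 1 ≤ j → ∀ r c, C.D j r c ∈ maximalIdeal A) := by
  intro N
  induction N with
  | zero =>
    intro M _ _ _
    obtain ⟨r, f, hf, hmin⟩ := Groth.Agent.Helper8.ABS.exists_minimal_cover (R := A) M
    refine ⟨MC.single r, f, rfl, hf, hmin, ?_, fun h => absurd h (by omega),
      fun j _ hj => absurd hj (by omega), ?_⟩
    · apply LinearMap.ext
      intro v
      show f (Matrix.mulVecLin (0 : Matrix _ _ A) v) = 0
      rw [Matrix.mulVecLin_zero, LinearMap.zero_apply, map_zero]
    · intro j _ r' c
      show (0 : A) ∈ maximalIdeal A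
      exact zero_mem _
  | succ N ih =>
    intro M _ _ _
    obtain ⟨r, f, hf, hmin⟩ := Groth.Agent.Helper8.ABS.exists_minimal_cover (R := A) M
    set K := LinearMap.ker f with hK
    obtain ⟨C, π, hb0, hπ, hπmin, hcomp, hker, hex, hent⟩ := ih K
    let g : C.X 1 →ₗ[A] (Fin r → A) := K.subtype ∘ₗ π
    let E : Matrix (Fin r) (Fin (C.b 1)) A := LinearMap.toMatrix' g
    have hEg : Matrix.mulVecLin E = g := by
      show Matrix.mulVecLin (LinearMap.toMatrix' g) = g
      rw [← Matrix.toLin'_apply', Matrix.toLin'_toMatrix']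
    have hgd : g ∘ₗ C.d 1 = 0 := by
      show (K.subtype ∘ₗ π) ∘ₗ C.d 1 = 0
      rw [LinearMap.comp_assoc, hcomp, LinearMap.comp_zero]
    have hE : E * C.D 1 = 0 := by
      apply Matrix.toLin'.injective
      rw [Matrix.toLin'_mul, Matrix.toLin'_apply', Matrix.toLin'_apply', hEg, map_zero]
      exact hgd
    have hd1 : ∀ w, (MC.cons C r E hE).d 1 w = g w := by
      intro w
      show Matrix.mulVecLin E w = g w
      rw [hEg]
    refine ⟨MC.cons C r E hE, f, rfl, hf, hmin, ?_, ?_, ?_, ?_⟩
    · apply LinearMap.ext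
      intro w
      show f ((MC.cons C r E hE).d 1 w) = 0
      have h1 : (MC.cons C r E hE).d 1 w = g w := hd1 w
      rw [h1]
      exact (π w).2
    · intro _ v hv
      obtain ⟨w, hw⟩ := hπ ⟨v, hv⟩
      refine ⟨w, (hd1 w).trans ?_⟩
      show K.subtype (π w) = v
      rw [hw]
      rfl
    · intro j hj hjN
      obtain ⟨j', rfl⟩ : ∃ j', j = j' + 1 := ⟨j - 1, by omega⟩
      cases j' with
      | zero =>
        intro v hv
        have hv' : g v = 0 := by rw [← hEg]; exact hv
        have hπv : π v = 0 := Subtype.ext hv'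
        exact hker (by omega) hπv
      | succ j' => exact hex (j' + 1) (by omega) (by omega)
    · intro j hj r' c
      obtain ⟨j', rfl⟩ : ∃ j', j = j' + 1 := ⟨j - 1, by omega⟩
      cases j' with
      | zero =>
        show E r' c ∈ maximalIdeal A
        have h1 : E r' c = g (Pi.single c 1) r' := LinearMap.toMatrix'_apply g r' c
        rw [h1]
        apply apply_mem_of_mem_smul_top
        exact hmin (π (Pi.single c 1)).2
      | succ j' => exact hent (j' + 1) (by omega) r' c

end Partial

section Tail

variable {A : Type u} [CommRing A]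

/-- ranks of the tail of a complex. -/
def tailB (b : ℕ → ℕ) : ℕ → ℕ
  | 0 => 0
  | (j + 1) => b (j + 2)

/-- matrices of the tail of a complex. -/
def tailD (C : MC A) : ∀ j, Matrix (Fin (tailB C.b j)) (Fin (tailB C.b (j + 1))) A
  | 0 => 0
  | (j + 1) => C.D (j + 2)

/-- the tail of a complex: drop the term in spot `1`. -/
def tail (C : MC A) : MC A where
  b := tailB C.b
  D := tailD C
  hD := fun j => by
    match j with
    | 0 => exact Matrix.zero_mul _
    | (j + 1) => exact C.hD (j + 2)

/-- **From matrix resolutions to projective dimension.** -/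
theorem hasProjectiveDimensionLT_of_resolution : ∀ (n : ℕ) (M : Type u) [AddCommGroup M]
    [Module A M] (C : MC A) (π : C.X 1 →ₗ[A] M), Function.Surjective π → π ∘ₗ C.d 1 = 0 →
    LinearMap.ker π ≤ LinearMap.range (C.d 1) → (∀ j, 1 ≤ j → j ≤ n → C.ExactAt j) →
    C.b (n + 2) = 0 → HasProjectiveDimensionLT (ModuleCat.of A M) (n + 1) := by
  intro n
  induction n with
  | zero =>
    intro M _ _ C π hπ hcomp hker _ hb
    haveI : IsEmpty (Fin (C.b (0 + 2))) := by rw [hb]; infer_instance
    have hinj : Function.Injective π := by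
      rw [← LinearMap.ker_eq_bot, eq_bot_iff]
      intro v hv
      obtain ⟨w, rfl⟩ := hker hv
      have : w = 0 := by
        funext i
        exact isEmptyElim i
      rw [this, map_zero]
      exact Submodule.zero_mem _
    haveI : Module.Free A M := Module.Free.of_equiv (LinearEquiv.ofBijective π ⟨hinj, hπ⟩)
    have h6 : Projective (ModuleCat.of A M) :=
      (IsProjective.iff_projective (R := A) (P := M)).mp inferInstance
    exact projective_iff_hasProjectiveDimensionLT_one.mp h6
  | succ n ih =>
    intro M _ _ C π hπ hcomp hker hex hb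
    set K := LinearMap.ker π with hK
    have hS := LinearMap.shortExact_shortComplexKer hπ
    let π₀ : C.X 2 →ₗ[A] K := LinearMap.codRestrict K (C.d 1) (fun w => by
      rw [hK, LinearMap.mem_ker]
      exact LinearMap.congr_fun hcomp w)
    let π' : (tail C).X 1 →ₗ[A] K := π₀
    have hπ' : Function.Surjective π' := by
      rintro ⟨v, hv⟩
      obtain ⟨w, rfl⟩ := hker hv
      exact ⟨w, Subtype.ext rfl⟩
    have hcomp' : π' ∘ₗ (tail C).d 1 = 0 := by
      apply LinearMap.ext
      intro w
      apply Subtype.ext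
      have h1 : ∀ w' : C.X 3, C.d 1 (C.d 2 w') = 0 := fun w' =>
        LinearMap.congr_fun (C.d_comp 1) w'
      exact h1 w
    have hker' : LinearMap.ker π' ≤ LinearMap.range ((tail C).d 1) := by
      intro v hv
      have hv' : C.d 1 v = 0 := congrArg Subtype.val hv
      exact hex 1 le_rfl (by omega) hv'
    have hex' : ∀ j, 1 ≤ j → j ≤ n → (tail C).ExactAt j := by
      intro j hj hjn
      obtain ⟨j', rfl⟩ : ∃ j', j = j' + 1 := ⟨j - 1, by omega⟩
      exact hex (j' + 2) (by omega) (by omega)
    have h1 : HasProjectiveDimensionLT (ModuleCat.of A K) (n + 1) :=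
      ih K (tail C) π' hπ' hcomp' hker' hex' hb
    have h2 : HasProjectiveDimensionLT (ModuleCat.of A (C.X 1)) (n + 1 + 1) := by
      have h6 : Projective (ModuleCat.of A (C.X 1)) :=
        (IsProjective.iff_projective (R := A) (P := C.X 1)).mp inferInstance
      infer_instance
    exact hS.hasProjectiveDimensionLT_X₃ (n + 1) h1 h2

end Tail

end Groth.Agent.Helper8.Kunz
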