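import Groth.Agent.Lib.Helper8.KunzF1

/-!
# Flat base change preserves exactness of matrix complexes
-/

set_option autoImplicit false
universe u

namespace Groth.Agent.Helper8.Kunz

open Matrix Module
open Groth.Agent.Helper8.NIT

variable {A A' : Type u} [CommRing A] [CommRing A']

/-- **Flat base change.** If `φ` is flat and `C` is exact at spot `j` then so is `C.map φ`. -/
theorem kills_one_map_of_flat (φ : A →+* A') (hφ : φ.Flat) (C : MC A) (j : ℕ)
    (h : C.Kills 1 j) : (C.map φ).Kills 1 j := by
  letI : Algebra A A' := φ.toAlgebra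
  haveI : Module.Flat A A' := hφ
  intro v' hv'
  -- the linear map `x`
  let x : (Fin (C.b (j + 1)) → A) →ₗ[A] A' :=
    Fintype.linearCombination A (v' : Fin (C.b (j + 1)) → A')
  let f : (Fin (C.b j) → A) →ₗ[A] (Fin (C.b (j + 1)) → A) := Matrix.vecMulLinear (C.D j)
  have hxf : x ∘ₗ f = 0 := by
    apply LinearMap.pi_ext'
    intro r
    apply LinearMap.ext_ring
    show x (f (Pi.single r 1)) = 0
    have h1 : f (Pi.single r 1) = fun c => C.D j r c := by
      funext c
      show (Pi.single r 1 ᵥ* C.D j) c = _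
      rw [Matrix.single_one_vecMul]
      rfl
    rw [h1]
    show ∑ c, C.D j r c • v' c = 0
    have h2 := congrFun hv' r
    rw [MC.map_D, Matrix.mulVec, dotProduct] at h2
    have h3 : ∀ c, C.D j r c • v' c = φ (C.D j r c) * v' c := fun c => rfl
    simp only [h3]
    simpa using h2
  obtain ⟨k, a, y, hxy, haf⟩ := Module.Flat.exists_factorization_of_comp_eq_zero_of_free hxf
  let u : Fin k → Fin (C.b (j + 1)) → A := fun l c => a (Pi.single c 1) l
  have hrow : ∀ r, f (Pi.single r 1) = ∑ c, C.D j r c • (Pi.single c (1 : A) : Fin (C.b (j + 1)) → A) := by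
    intro r
    funext c
    show (Pi.single r 1 ᵥ* C.D j) c = _
    rw [Matrix.single_one_vecMul, Finset.sum_apply]
    simp [Pi.single_apply]
  have hu : ∀ l, C.D j *ᵥ u l = 0 := by
    intro l
    funext r
    have h1 : a (f (Pi.single r 1)) = 0 := LinearMap.congr_fun haf (Pi.single r 1)
    rw [hrow, map_sum] at h1
    have h2 := DFunLike.congr_fun h1 l
    rw [Finsupp.coe_finset_sum, Finset.sum_apply] at h2
    simp only [map_smul, Finsupp.coe_smul, Pi.smul_apply, smul_eq_mul, Finsupp.coe_zero,
      Pi.zero_apply] at h2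
    exact h2
  choose w hw using fun l => h (u l) (hu l)
  let yl : Fin k → A' := fun l => y (Finsupp.single l 1)
  have hv'c : ∀ c, v' c = ∑ l, φ (u l c) * yl l := by
    intro c
    have h1 : x (Pi.single c 1) = v' c := by
      show ∑ c', (Pi.single c (1 : A) : Fin (C.b (j + 1)) → A) c' • v' c' = v' c
      rw [Finset.sum_eq_single c]
      · rw [Pi.single_eq_same, one_smul]
      · intro c' _ hc'
        rw [Pi.single_eq_of_ne hc', zero_smul]
      · intro hc
        exact absurd (Finset.mem_univ c) hc
    rw [← h1, hxy, LinearMap.comp_apply]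
    have h2 : a (Pi.single c 1) = ∑ l, (a (Pi.single c 1) l) • Finsupp.single l (1 : A) := by
      ext l'
      rw [Finsupp.coe_finset_sum, Finset.sum_apply]
      simp [Finsupp.single_apply]
    rw [h2, map_sum]
    refine Finset.sum_congr rfl fun l _ => ?_
    rw [map_smul]
    rfl
  refine ⟨fun i => ∑ l, yl l * φ (w l i), ?_⟩
  funext c
  rw [one_smul, hv'c c, MC.map_D]
  show ∑ i, φ (C.D (j + 1) c i) * ∑ l, yl l * φ (w l i) = _
  simp only [Finset.mul_sum]
  rw [Finset.sum_comm]
  refine Finset.sum_congr rfl fun l _ => ?_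
  have h3 : (C.D (j + 1) *ᵥ w l) c = u l c := by rw [hw l, one_smul]
  rw [← h3]
  show _ = φ (∑ i, C.D (j + 1) c i * w l i) * yl l
  rw [map_sum, Finset.sum_mul]
  refine Finset.sum_congr rfl fun i _ => ?_
  rw [map_mul]
  ring

end Groth.Agent.Helper8.Kunz
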