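import Groth.Agent.Lib.Helper8.KunzF2

/-!
# Exactness of matrix complexes modulo a regular sequence
-/

set_option autoImplicit false
universe u

namespace Groth.Agent.Helper8.Kunz

open Matrix Module
open Groth.Agent.Helper8.NIT

variable {A : Type u} [CommRing A]

/-- exactness at spot `j` modulo the ideal `I`. -/
def ExactMod (C : MC A) (I : Ideal A) (j : ℕ) : Prop :=
  ∀ v : Fin (C.b (j + 1)) → A, (∀ r, (C.D j *ᵥ v) r ∈ I) →
    ∃ w : Fin (C.b (j + 1 + 1)) → A, ∀ c, (v - C.D (j + 1) *ᵥ w) c ∈ I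

lemma exactMod_bot (C : MC A) (j : ℕ) (h : C.Kills 1 j) : ExactMod C ⊥ j := by
  intro v hv
  have hv0 : C.D j *ᵥ v = 0 := by
    funext r
    exact (Submodule.mem_bot A).mp (hv r)
  obtain ⟨w, hw⟩ := h v hv0
  refine ⟨w, fun c => ?_⟩
  rw [hw, one_smul, sub_self]
  exact zero_mem _

/-- coordinates of `M *ᵥ v` lie in `I` when those of `v` do. -/
lemma mulVec_mem {m n : ℕ} (I : Ideal A) (M : Matrix (Fin m) (Fin n) A) (v : Fin n → A)
    (hv : ∀ c, v c ∈ I) (r : Fin m) : (M *ᵥ v) r ∈ I := by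
  show ∑ c, M r c * v c ∈ I
  exact I.sum_mem fun c _ => I.mul_mem_left _ (hv c)

/-- the inductive step: adding an element which is regular modulo `I`. -/
theorem exactMod_sup_span (C : MC A) (I : Ideal A) (x : A) (hx : ∀ a, x * a ∈ I → a ∈ I) (j : ℕ)
    (h1 : ExactMod C I (j + 1)) (h0 : ExactMod C I j) :
    ExactMod C (I ⊔ Ideal.span {x}) (j + 1) := by
  intro v hv
  have hdec : ∀ r, ∃ a, (C.D (j + 1) *ᵥ v) r - x * a ∈ I := by
    intro r
    obtain ⟨i, hi, z, hz, hsum⟩ := Submodule.mem_sup.mp (hv r)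
    obtain ⟨a, rfl⟩ := Ideal.mem_span_singleton'.mp hz
    refine ⟨a, ?_⟩
    rw [← hsum, mul_comm]
    simpa using hi
  choose w' hw' using hdec
  -- `D_j w' ∈ I`
  have h2 : ∀ r, (C.D j *ᵥ w') r ∈ I := by
    intro r
    apply hx
    have h3 : C.D j *ᵥ (C.D (j + 1) *ᵥ v) = 0 := by
      rw [Matrix.mulVec_mulVec, C.hD, Matrix.zero_mulVec]
    have h4 : (C.D j *ᵥ (C.D (j + 1) *ᵥ v - x • w')) r ∈ I :=
      mulVec_mem I _ _ (fun c => by simpa [smul_eq_mul] using hw' c) r
    rw [Matrix.mulVec_sub, h3, Matrix.mulVec_smul, zero_sub, Pi.neg_apply, Pi.smul_apply,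
      smul_eq_mul] at h4
    simpa using I.neg_mem h4
  obtain ⟨t, ht⟩ := h0 w' h2
  -- `v₂ = v - x t`
  have h5 : ∀ r, (C.D (j + 1) *ᵥ (v - x • t)) r ∈ I := by
    intro r
    rw [Matrix.mulVec_sub, Matrix.mulVec_smul]
    have h6 : (C.D (j + 1) *ᵥ v - x • C.D (j + 1) *ᵥ t) r =
        ((C.D (j + 1) *ᵥ v) r - x * w' r) + x * (w' - C.D (j + 1) *ᵥ t) r := by
      simp only [Pi.sub_apply, Pi.smul_apply, smul_eq_mul]
      ring
    rw [h6]
    exact I.add_mem (hw' r) (I.mul_mem_left _ (ht r))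
  obtain ⟨s, hs⟩ := h1 (v - x • t) h5
  refine ⟨s, fun c => ?_⟩
  have h7 : (v - C.D (j + 1 + 1) *ᵥ s) c = (v - x • t - C.D (j + 1 + 1) *ᵥ s) c + x * t c := by
    simp only [Pi.sub_apply, Pi.smul_apply, smul_eq_mul]
    ring
  rw [h7]
  exact Ideal.add_mem _ (Ideal.mem_sup_left (hs c))
    (Ideal.mem_sup_right (Ideal.mul_mem_right _ _ (Ideal.mem_span_singleton_self x)))

/-- regularity on the quotient, in elementary terms. -/
lemma mem_of_mul_mem_of_isSMulRegular (I : Ideal A) (x : A)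
    (h : IsSMulRegular (A ⧸ (I • ⊤ : Submodule A A)) x) (a : A) (ha : x * a ∈ I) : a ∈ I := by
  have hI : (I • ⊤ : Submodule A A) = I := by rw [smul_eq_mul, Ideal.mul_top]
  have h1 : x • (Submodule.Quotient.mk a : A ⧸ (I • ⊤ : Submodule A A)) =
      x • (Submodule.Quotient.mk 0 : A ⧸ (I • ⊤ : Submodule A A)) := by
    rw [← Submodule.Quotient.mk_smul, ← Submodule.Quotient.mk_smul, smul_zero,
      Submodule.Quotient.mk_zero, Submodule.Quotient.mk_eq_zero, hI, smul_eq_mul]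
    exact ha
  have h2 := h h1
  rw [Submodule.Quotient.mk_zero, Submodule.Quotient.mk_eq_zero, hI] at h2
  exact h2

/-- **Exactness modulo a regular sequence.** -/
theorem exactMod_ofList_take (C : MC A) (rs : List A)
    (hreg : RingTheory.Sequence.IsWeaklyRegular A rs) (lo hi : ℕ)
    (hex : ∀ j, lo ≤ j → j ≤ hi → C.Kills 1 j) :
    ∀ i, i ≤ rs.length → ∀ j, lo + i ≤ j → j ≤ hi →
      ExactMod C (Ideal.ofList (rs.take i)) j := by
  intro i
  induction i with
  | zero =>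
    intro _ j hj hjhi
    rw [List.take_zero, Ideal.ofList_nil]
    exact exactMod_bot C j (hex j (by omega) hjhi)
  | succ i ih =>
    intro hi' j hj hjhi
    have hlt : i < rs.length := by omega
    obtain ⟨j', rfl⟩ : ∃ j', j = j' + 1 := ⟨j - 1, by omega⟩
    rw [List.take_succ_eq_append_getElem hlt, Ideal.ofList_append, Ideal.ofList_singleton]
    apply exactMod_sup_span C _ _ _ j' (ih (by omega) (j' + 1) (by omega) hjhi)
      (ih (by omega) j' (by omega) (by omega))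
    exact mem_of_mul_mem_of_isSMulRegular _ _ (hreg.regular_mod_prev i hlt)

end Groth.Agent.Helper8.Kunz
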