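import Mathlib

set_option autoImplicit false
universe u v
open CategoryTheory CategoryTheory.Limits

namespace Groth.Agent.Helper8.LC

variable {R : Type u} [Ring R]

section CochainHomology

variable (K : CochainComplex (ModuleCat.{v} R) ℕ) (n : ℕ)

/-- cocycles of a cochain complex of modules. -/
def Z : Submodule R (K.X n) := LinearMap.ker (K.d n (n + 1)).hom

/-- inclusion of cocycles as a morphism -/
def zι : ModuleCat.of R (Z K n) ⟶ K.X n := ModuleCat.ofHom (Z K n).subtype

lemma zι_d : zι K n ≫ K.d n (n + 1) = 0 := by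
  ext z
  exact z.2

/-- the map from cocycles to the cycles object -/
noncomputable def toCyc : ModuleCat.of R (Z K n) ⟶ K.cycles n :=
  K.liftCycles (zι K n) (n + 1) (by simp) (zι_d K n)

lemma toCyc_i : toCyc K n ≫ K.iCycles n = zι K n := K.liftCycles_i _ _ _ _

lemma toCyc_i_apply (z : Z K n) : (K.iCycles n) (toCyc K n z) = z.1 := by
  have := congrArg (fun f => f.hom z) (toCyc_i K n)
  exact this

lemma toCyc_surjective : Function.Surjective (toCyc K n) := by
  intro c
  have hc : (K.iCycles n) c ∈ Z K n := by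
    change (K.d n (n + 1)) ((K.iCycles n) c) = 0
    have := congrArg (fun f => f.hom c) (K.iCycles_d n (n + 1))
    exact this
  refine ⟨⟨_, hc⟩, ?_⟩
  have hmono : Function.Injective (K.iCycles n) :=
    (ModuleCat.mono_iff_injective _).mp inferInstance
  apply hmono
  rw [toCyc_i_apply]

/-- cocycles to homology. -/
noncomputable def toH : Z K n →ₗ[R] K.homology n := (toCyc K n ≫ K.homologyπ n).hom

lemma toH_surjective : Function.Surjective (toH K n) := by
  have h1 : Function.Surjective (K.homologyπ n) :=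
    (ModuleCat.epi_iff_surjective _).mp inferInstance
  intro x
  obtain ⟨c, rfl⟩ := h1 x
  obtain ⟨z, rfl⟩ := toCyc_surjective K n c
  exact ⟨z, rfl⟩

lemma toH_eq_zero_of_boundary {m : ℕ} (z : Z K n) (y : K.X m) (hy : (K.d m n) y = z.1) :
    toH K n z = 0 := by
  by_cases hmn : m + 1 = n
  · have hprev : (ComplexShape.up ℕ).prev n = m := by subst hmn; simp
    have h0 : K.toCycles m n y = toCyc K n z := by
      have hmono : Function.Injective (K.iCycles n) :=
        (ModuleCat.mono_iff_injective _).mp inferInstance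
      apply hmono
      rw [toCyc_i_apply, ← hy]
      have := congrArg (fun f => f.hom y) (K.toCycles_i m n)
      exact this
    change (K.homologyπ n) (toCyc K n z) = 0
    rw [← h0]
    have := congrArg (fun f => f.hom y) (K.toCycles_comp_homologyπ m n)
    exact this
  · have : K.d m n = 0 := K.shape _ _ hmn
    have hz : z = 0 := by
      apply Subtype.ext
      rw [← hy, this]; rfl
    rw [hz, map_zero]

lemma exists_boundary_of_toH_eq_zero_succ {m : ℕ} (hmn : m + 1 = n) (z : Z K n)
    (hz : toH K n z = 0) : ∃ y : K.X m, (K.d m n) y = z.1 := by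
  have hprev : (ComplexShape.up ℕ).prev n = m := by subst hmn; simp
  have hex : (ShortComplex.mk (K.toCycles m n) (K.homologyπ n)
      (K.toCycles_comp_homologyπ m n)).Exact :=
    ShortComplex.exact_of_g_is_cokernel _ (K.homologyIsCokernel m n hprev)
  rw [ShortComplex.moduleCat_exact_iff] at hex
  obtain ⟨y, hy⟩ := hex (toCyc K n z) hz
  refine ⟨y, ?_⟩
  rw [← toCyc_i_apply]
  dsimp at hy
  rw [← hy]
  have := congrArg (fun f => f.hom y) (K.toCycles_i m n)
  exact this.symm

lemma eq_zero_of_toH_eq_zero_zero (z : Z K 0) (hz : toH K 0 z = 0) : z = 0 := by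
  have hprev : (ComplexShape.up ℕ).prev 0 = 0 := by simp
  have hex : (ShortComplex.mk (K.toCycles 0 0) (K.homologyπ 0)
      (K.toCycles_comp_homologyπ 0 0)).Exact :=
    ShortComplex.exact_of_g_is_cokernel _ (K.homologyIsCokernel 0 0 hprev)
  rw [ShortComplex.moduleCat_exact_iff] at hex
  obtain ⟨y, hy⟩ := hex (toCyc K 0 z) hz
  apply Subtype.ext
  rw [← toCyc_i_apply]
  dsimp at hy
  rw [← hy]
  have h1 := congrArg (fun f => f.hom y) (K.toCycles_i 0 0)
  have h2 : K.d 0 0 = 0 := K.shape _ _ (by simp)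
  rw [h2] at h1
  exact h1

variable {K} in
lemma map_mem_Z {K' : CochainComplex (ModuleCat.{v} R) ℕ} (ψ : K ⟶ K') (z : Z K n) :
    (ψ.f n) z.1 ∈ Z K' n := by
  change (K'.d n (n + 1)) ((ψ.f n) z.1) = 0
  have h1 := congrArg (fun f => f.hom z.1) (ψ.comm n (n + 1))
  have h2 : (K.d n (n + 1)) z.1 = 0 := z.2
  change (K'.d n (n + 1)) ((ψ.f n) z.1) = (ψ.f (n + 1)) ((K.d n (n + 1)) z.1) at h1
  rw [h1, h2, map_zero]

variable {K} in
lemma homologyMap_toH {K' : CochainComplex (ModuleCat.{v} R) ℕ} (ψ : K ⟶ K') (z : Z K n) :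
    (HomologicalComplex.homologyMap ψ n) (toH K n z) = toH K' n ⟨_, map_mem_Z n ψ z⟩ := by
  have h1 : toCyc K n ≫ HomologicalComplex.cyclesMap ψ n =
      ModuleCat.ofHom ((ψ.f n).hom.restrict (fun z hz => map_mem_Z n ψ ⟨z, hz⟩)) ≫
        toCyc K' n := by
    rw [← cancel_mono (K'.iCycles n)]
    simp only [Category.assoc, HomologicalComplex.cyclesMap_i, toCyc_i]
    rw [← Category.assoc, toCyc_i]
    rfl
  have h2 : toCyc K n ≫ K.homologyπ n ≫ HomologicalComplex.homologyMap ψ n =
      ModuleCat.ofHom ((ψ.f n).hom.restrict (fun z hz => map_mem_Z n ψ ⟨z, hz⟩)) ≫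
        toCyc K' n ≫ K'.homologyπ n := by
    rw [HomologicalComplex.homologyπ_naturality, ← Category.assoc, h1, Category.assoc]
  have := congrArg (fun f => f.hom z) h2
  exact this

end CochainHomology

end Groth.Agent.Helper8.LC
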