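import Groth.Agent.Lib.Helper8.LC13

set_option autoImplicit false
universe u
open CategoryTheory CategoryTheory.Limits Opposite

namespace Groth.Agent.Helper8.LC

variable {R : Type u} [CommRing R] (J : Ideal R)

open Abelian localCohomology LocCoh

section SES

variable {M : Type u} [AddCommGroup M] [Module R M]

/-- the short complex `N → M → M / N` attached to a submodule. -/
abbrev sesSub (N : Submodule R M) : ShortComplex (ModuleCat.{u} R) :=
  ModuleCat.shortComplexOfCompEqZero N.subtype N.mkQ (by
    apply LinearMap.ext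
    intro x
    simp)

lemma sesSub_shortExact (N : Submodule R M) : (sesSub N).ShortExact := by
  apply ModuleCat.shortComplex_shortExact
  · intro x
    change N.mkQ x = 0 ↔ x ∈ Set.range N.subtype
    rw [Submodule.mkQ_apply, Submodule.Quotient.mk_eq_zero]
    constructor
    · intro hx; exact ⟨⟨x, hx⟩, rfl⟩
    · rintro ⟨y, rfl⟩; exact y.2
  · exact N.injective_subtype
  · exact Submodule.mkQ_surjective _

end SES

variable [IsNoetherianRing R]

theorem torsion_h0_and_vanishing (N : Type u) [AddCommGroup N] [Module R N]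
    (hN : IsPowerTorsion J N) :
    Nonempty (H J 0 N ≃ₗ[R] N) ∧ ∀ p : ℕ, 0 < p → Subsingleton (H J p N) := by
  refine ⟨⟨(h0Equiv J (ModuleCat.of R N)).trans (LinearEquiv.ofTop _ ?_)⟩,
    fun p hp => subsingleton_of_isPowerTorsion J p hp N hN⟩
  rw [eq_top_iff]
  intro n _
  exact hN n

lemma isPowerTorsion_torsionSub (N : Type u) [AddCommGroup N] [Module R N] :
    IsPowerTorsion J (DRing.torsionSub J N) := by
  rintro ⟨e, n, hn⟩
  exact ⟨n, fun a ha => Subtype.ext (hn a ha)⟩

theorem bijective_map_mkQ_torsionSub (N : Type u) [AddCommGroup N] [Module R N] (i : ℕ)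
    (hi : 0 < i) :
    Function.Bijective ((localCohomology J i).map
      (ModuleCat.ofHom (DRing.torsionSub J N).mkQ)).hom := by
  have hS := sesSub_shortExact (DRing.torsionSub J N)
  have hT := isPowerTorsion_torsionSub J N
  have h1 : Subsingleton (H J i (DRing.torsionSub J N)) :=
    subsingleton_of_isPowerTorsion J i hi _ hT
  have h2 : Subsingleton (H J (i + 1) (DRing.torsionSub J N)) :=
    subsingleton_of_isPowerTorsion J (i + 1) (Nat.succ_pos i) _ hT
  constructor
  · rw [injective_iff_map_eq_zero]
    intro x hx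
    obtain ⟨y, rfl⟩ := (exact_f_g J i hS x).mp hx
    have hy : y = 0 := Subsingleton.elim _ _
    rw [hy, map_zero]
  · intro y
    have hy : δ J i hS y = 0 := Subsingleton.elim _ _
    exact (exact_g_δ J i hS y).mp hy

end Groth.Agent.Helper8.LC
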