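import Groth.Agent.Lib.Helper8.LC18

set_option autoImplicit false
universe u
open CategoryTheory CategoryTheory.Limits Opposite

namespace Groth.Agent.Helper8.LC

variable {R : Type u} [CommRing R] [IsNoetherianRing R]

open Abelian localCohomology LocCoh

section

variable (J : Ideal R)

/-- if `H^{k+1}` vanishes on all modules then `H^k` is right exact. -/
lemma subsingleton_of_surjective (k : ℕ)
    (hk : ∀ (N : Type u) [AddCommGroup N] [Module R N], Subsingleton (H J (k + 1) N))
    {M M'' : Type u} [AddCommGroup M] [Module R M] [AddCommGroup M''] [Module R M'']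
    (g : M →ₗ[R] M'') (hg : Function.Surjective g) (h : Subsingleton (H J k M)) :
    Subsingleton (H J k M'') := by
  have hS := LinearMap.shortExact_shortComplexKer hg
  apply subsingleton_of_forall_eq_zero
  intro z
  have h1 : δ J k hS z = 0 := (hk (LinearMap.ker g)).elim _ _
  obtain ⟨y, rfl⟩ := (exact_g_δ J k hS z).mp h1
  have hy : y = 0 := h.elim _ _
  subst hy
  exact map_zero _

lemma subsingleton_of_linearEquiv (k : ℕ) {M M' : Type u} [AddCommGroup M] [Module R M]
    [AddCommGroup M'] [Module R M'] (e : M ≃ₗ[R] M') (h : Subsingleton (H J k M)) :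
    Subsingleton (H J k M') :=
  ((localCohomology J k).mapIso e.toModuleIso).symm.toLinearEquiv.toEquiv.subsingleton

/-- vanishing of `H^k` on the ring and `H^{k+1}` everywhere gives vanishing of `H^k`
everywhere. -/
theorem subsingleton_of_subsingleton_self (k : ℕ) (hR : Subsingleton (H J k R))
    (hk : ∀ (N : Type u) [AddCommGroup N] [Module R N], Subsingleton (H J (k + 1) N))
    (M : Type u) [AddCommGroup M] [Module R M] : Subsingleton (H J k M) := by
  -- finitely generated submodules
  have hfg : ∀ (N : Submodule R M), N.FG → Subsingleton (H J k N) := by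
    intro N hN
    induction N, hN using Submodule.fg_induction with
    | singleton x =>
      refine subsingleton_of_surjective J k hk
        (LinearMap.codRestrict (R ∙ x) (LinearMap.toSpanSingleton R M x)
          (fun r => Submodule.smul_mem _ r (Submodule.mem_span_singleton_self x))) ?_ hR
      rintro ⟨y, hy⟩
      obtain ⟨r, rfl⟩ := Submodule.mem_span_singleton.mp hy
      exact ⟨r, Subtype.ext rfl⟩
    | sup N₁ N₂ hN₁ hN₂ h₁ h₂ =>
      have hprod : Subsingleton (H J k (N₁ × N₂)) :=
        subsingleton_of_exact J k (LinearMap.inl R N₁ N₂) (LinearMap.snd R N₁ N₂)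
          LinearMap.inl_injective LinearMap.snd_surjective Function.Exact.inl_snd h₁ h₂
      refine subsingleton_of_surjective J k hk
        (LinearMap.coprod (Submodule.inclusion (le_sup_left : N₁ ≤ N₁ ⊔ N₂))
          (Submodule.inclusion (le_sup_right : N₂ ≤ N₁ ⊔ N₂))) ?_ hprod
      rintro ⟨y, hy⟩
      obtain ⟨y₁, hy₁, y₂, hy₂, rfl⟩ := Submodule.mem_sup.mp hy
      exact ⟨(⟨y₁, hy₁⟩, ⟨y₂, hy₂⟩), Subtype.ext (by simp)⟩
  apply subsingleton_of_forall_eq_zero
  intro z
  obtain ⟨n, e, rfl⟩ := ι_rep J k (ModuleCat.of R M) z
  haveI : Module.Finite R (R ⧸ J ^ n) := Module.Finite.quotient R _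
  obtain ⟨N, hN, e', he'⟩ := exists_fg_submodule_ext k (R ⧸ J ^ n) M e
  have h2 := hfg N hN
  rw [← he', ← ι_map, Subsingleton.elim (ι J k n (ModuleCat.of R N) e') 0, map_zero]

end

end Groth.Agent.Helper8.LC

namespace Groth.Agent.Helper8.LC

variable {R : Type u} [CommRing R] [IsNoetherianRing R]

open Abelian localCohomology LocCoh

omit [IsNoetherianRing R] in
lemma cdLE_mono (J : Ideal R) {d d' : ℕ} (h : d ≤ d') (hd : CdLE R J d) : CdLE R J d' :=
  fun M _ _ i hi => hd M i (by omega)

theorem cdLE_iff_self (J : Ideal R) (d : ℕ) :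
    (∀ i : ℕ, d < i → Subsingleton (H J i R)) ↔ CdLE R J d := by
  constructor
  · intro hR
    obtain ⟨s, hs⟩ : (J : Submodule R R).FG := IsNoetherian.noetherian J
    have he : CdLE R J s.card := by
      have := cdLE_span_finset (R := R) s
      rwa [show Ideal.span (s : Set R) = J from hs] at this
    have step : ∀ j : ℕ, CdLE R J (d + j) → CdLE R J d := by
      intro j
      induction j with
      | zero => exact fun h => h
      | succ j ih =>
        intro h
        apply ih
        intro M _ _ i hi
        rcases Nat.lt_or_ge (d + (j + 1)) i with h1 | h1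
        · exact h M i h1
        · have hi' : i = d + j + 1 := by omega
          subst hi'
          exact subsingleton_of_subsingleton_self J (d + j + 1) (hR _ (by omega))
            (fun N _ _ => h N (d + j + 1 + 1) (by omega)) M
    rcases Nat.le_total s.card d with h | h
    · exact cdLE_mono J h he
    · apply step (s.card - d)
      rwa [Nat.add_sub_cancel' h]
  · intro h i hi
    exact h R i hi

end Groth.Agent.Helper8.LC
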