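import Mathlib

set_option autoImplicit false
universe u v w
open CategoryTheory CategoryTheory.Limits Opposite

namespace Groth.Agent.Helper8.LC

section

variable {V : Type u} [Category.{v} V] [Abelian V] {ι : Type w} {c : ComplexShape ι}

/-- the unopposite of a morphism of complexes, with convenient types. -/
def unopMap {K L : HomologicalComplex Vᵒᵖ c} (φ : K ⟶ L) : L.unop ⟶ K.unop :=
  (HomologicalComplex.unopFunctor V c).map φ.op

lemma homologyUnop_hom_naturality {K L : HomologicalComplex Vᵒᵖ c} (φ : K ⟶ L) (i : ι) :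
    HomologicalComplex.homologyMap (unopMap φ) i ≫ (K.homologyUnop i).hom =
    (L.homologyUnop i).hom ≫ (HomologicalComplex.homologyMap φ i).unop := by
  have h := HomologicalComplex.homologyOp_hom_naturality
    ((HomologicalComplex.unopFunctor V c).map φ.op) i
  have h' := congrArg Quiver.Hom.unop h
  exact h'.symm

lemma homologyUnop_inv_naturality {K L : HomologicalComplex Vᵒᵖ c} (φ : K ⟶ L) (i : ι) :
    (HomologicalComplex.homologyMap φ i).unop ≫ (K.homologyUnop i).inv =
    (L.homologyUnop i).inv ≫ HomologicalComplex.homologyMap (unopMap φ) i := by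
  rw [Iso.comp_inv_eq, Category.assoc, homologyUnop_hom_naturality, Iso.inv_hom_id_assoc]

end

lemma cat_aux {D : Type*} [Category D] {a b c d e : D} (f₁ : a ⟶ b) (f₂ : b ⟶ c) (f₃ : c ⟶ d)
    (f₄ : d ⟶ c) (f₅ : c ⟶ e) (h : f₃ ≫ f₄ = 𝟙 c) :
    ((f₁ ≫ f₂) ≫ f₃) ≫ (f₄ ≫ f₅) = f₁ ≫ (f₂ ≫ f₅) := by
  simp only [Category.assoc]
  rw [reassoc_of% h]

section

variable (R : Type u) [Ring R] {C : Type v} [Category.{w} C] [Abelian C] [Linear R C]
  [EnoughProjectives C]

/-- the functor `Hom(-, Y)` valued in the opposite category. -/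
abbrev FY (Y : C) : C ⥤ (ModuleCat.{w} R)ᵒᵖ := ((linearYoneda R C).obj Y).rightOp

/-- precomposition map between Hom complexes. -/
noncomputable def preMap {P P' : ChainComplex C ℕ} (φ : P' ⟶ P) (Y : C) :
    P.linearYonedaObj R Y ⟶ P'.linearYonedaObj R Y :=
  unopMap (((FY R Y).mapHomologicalComplex _).map φ)

/-- postcomposition map between Hom complexes. -/
noncomputable def postMap (P : ChainComplex C ℕ) {Y Y' : C} (g : Y ⟶ Y') :
    P.linearYonedaObj R Y ⟶ P.linearYonedaObj R Y' :=
  unopMap
    ((NatTrans.mapHomologicalComplex (NatTrans.rightOp ((linearYoneda R C).map g)) _).app P)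

variable {R}

lemma isoExt_hom_naturality_left {X X' : C} (f : X' ⟶ X) (P : ProjectiveResolution X)
    (P' : ProjectiveResolution X') (φ : P'.complex ⟶ P.complex)
    (comm : φ.f 0 ≫ P.π.f 0 = P'.π.f 0 ≫ f) (Y : C) (n : ℕ) :
    ((Ext R C n).map f.op).app Y ≫ (P'.isoExt n Y).hom =
      (P.isoExt n Y).hom ≫ HomologicalComplex.homologyMap (preMap R φ Y) n := by
  have h1 := ProjectiveResolution.isoLeftDerivedObj_inv_naturality f P' P φ comm (FY R Y) n
  have h1' : (((FY R Y).leftDerived n).map f).unop ≫ (P'.isoLeftDerivedObj (FY R Y) n).inv.unop =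
      (P.isoLeftDerivedObj (FY R Y) n).inv.unop ≫
        (HomologicalComplex.homologyMap (((FY R Y).mapHomologicalComplex _).map φ) n).unop :=
    congrArg Quiver.Hom.unop h1
  have h2 := homologyUnop_inv_naturality (((FY R Y).mapHomologicalComplex _).map φ) n
  have e1 : ((Ext R C n).map f.op).app Y ≫ (P'.isoExt n Y).hom
      = ((((FY R Y).leftDerived n).map f).unop ≫ (P'.isoLeftDerivedObj (FY R Y) n).inv.unop) ≫
          (HomologicalComplex.homologyUnop _ _).inv := (Category.assoc _ _ _).symm
  have e2 : ((((FY R Y).leftDerived n).map f).unop ≫ (P'.isoLeftDerivedObj (FY R Y) n).inv.unop) ≫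
          (HomologicalComplex.homologyUnop _ _).inv = ((P.isoLeftDerivedObj (FY R Y) n).inv.unop ≫
        (HomologicalComplex.homologyMap (((FY R Y).mapHomologicalComplex _).map φ) n).unop) ≫
          (HomologicalComplex.homologyUnop _ _).inv := congrArg (· ≫ _) h1'
  have e3 : ((P.isoLeftDerivedObj (FY R Y) n).inv.unop ≫
        (HomologicalComplex.homologyMap (((FY R Y).mapHomologicalComplex _).map φ) n).unop) ≫
          (HomologicalComplex.homologyUnop _ _).inv = (P.isoLeftDerivedObj (FY R Y) n).inv.unop ≫
        ((HomologicalComplex.homologyMap (((FY R Y).mapHomologicalComplex _).map φ) n).unop ≫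
          (HomologicalComplex.homologyUnop _ _).inv) := Category.assoc _ _ _
  have e4 : (P.isoLeftDerivedObj (FY R Y) n).inv.unop ≫
        ((HomologicalComplex.homologyMap (((FY R Y).mapHomologicalComplex _).map φ) n).unop ≫
          (HomologicalComplex.homologyUnop _ _).inv) = (P.isoLeftDerivedObj (FY R Y) n).inv.unop ≫
        ((HomologicalComplex.homologyUnop _ _).inv ≫
          HomologicalComplex.homologyMap (preMap R φ Y) n) := congrArg (_ ≫ ·) h2
  have e5 : (P.isoLeftDerivedObj (FY R Y) n).inv.unop ≫
        ((HomologicalComplex.homologyUnop _ _).inv ≫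
          HomologicalComplex.homologyMap (preMap R φ Y) n) =
      (P.isoExt n Y).hom ≫ HomologicalComplex.homologyMap (preMap R φ Y) n :=
        (Category.assoc _ _ _).symm
  exact e1.trans (e2.trans (e3.trans (e4.trans e5)))

lemma isoExt_hom_naturality_right {X : C} (P : ProjectiveResolution X) {Y Y' : C} (g : Y ⟶ Y')
    (n : ℕ) :
    ((Ext R C n).obj (op X)).map g ≫ (P.isoExt n Y').hom =
      (P.isoExt n Y).hom ≫ HomologicalComplex.homologyMap (postMap R P.complex g) n := by
  have h1 := ProjectiveResolution.leftDerived_app_eq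
    (NatTrans.rightOp ((linearYoneda R C).map g)) P n
  have h1' : ((NatTrans.leftDerived (NatTrans.rightOp ((linearYoneda R C).map g)) n).app X).unop =
      ((P.isoLeftDerivedObj (FY R Y) n).inv.unop ≫
        (HomologicalComplex.homologyMap ((NatTrans.mapHomologicalComplex
          (NatTrans.rightOp ((linearYoneda R C).map g)) _).app P.complex) n).unop) ≫
        (P.isoLeftDerivedObj (FY R Y') n).hom.unop := by
    rw [h1]; rfl
  have h2 := homologyUnop_inv_naturality ((NatTrans.mapHomologicalComplex
          (NatTrans.rightOp ((linearYoneda R C).map g)) _).app P.complex) n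
  have h3 : (P.isoLeftDerivedObj (FY R Y') n).hom.unop ≫
      (P.isoLeftDerivedObj (FY R Y') n).inv.unop = 𝟙 _ := by
    rw [← unop_comp, Iso.inv_hom_id, unop_id]
  have e1 : ((Ext R C n).obj (op X)).map g ≫ (P.isoExt n Y').hom
      = ((NatTrans.leftDerived (NatTrans.rightOp ((linearYoneda R C).map g)) n).app X).unop ≫
          ((P.isoLeftDerivedObj (FY R Y') n).inv.unop ≫
            (HomologicalComplex.homologyUnop _ _).inv) := rfl
  have e2 : ((NatTrans.leftDerived (NatTrans.rightOp ((linearYoneda R C).map g)) n).app X).unop ≫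
          ((P.isoLeftDerivedObj (FY R Y') n).inv.unop ≫
            (HomologicalComplex.homologyUnop _ _).inv) =
      (P.isoLeftDerivedObj (FY R Y) n).inv.unop ≫
        ((HomologicalComplex.homologyMap ((NatTrans.mapHomologicalComplex
          (NatTrans.rightOp ((linearYoneda R C).map g)) _).app P.complex) n).unop ≫
          (HomologicalComplex.homologyUnop _ _).inv) := by
        exact (congrArg (· ≫ ((P.isoLeftDerivedObj (FY R Y') n).inv.unop ≫
            (HomologicalComplex.homologyUnop _ _).inv)) h1').trans (cat_aux _ _ _ _ _ h3)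
  have e4 : (P.isoLeftDerivedObj (FY R Y) n).inv.unop ≫
        ((HomologicalComplex.homologyMap ((NatTrans.mapHomologicalComplex
          (NatTrans.rightOp ((linearYoneda R C).map g)) _).app P.complex) n).unop ≫
          (HomologicalComplex.homologyUnop _ _).inv) = (P.isoLeftDerivedObj (FY R Y) n).inv.unop ≫
        ((HomologicalComplex.homologyUnop _ _).inv ≫
          HomologicalComplex.homologyMap (postMap R P.complex g) n) := congrArg (_ ≫ ·) h2
  have e5 : (P.isoLeftDerivedObj (FY R Y) n).inv.unop ≫
        ((HomologicalComplex.homologyUnop _ _).inv ≫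
          HomologicalComplex.homologyMap (postMap R P.complex g) n) =
      (P.isoExt n Y).hom ≫ HomologicalComplex.homologyMap (postMap R P.complex g) n :=
        (Category.assoc _ _ _).symm
  exact e1.trans (e2.trans (e4.trans e5))

end

end Groth.Agent.Helper8.LC
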