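import Groth.Agent.Lib.Helper8.LC19

set_option autoImplicit false
universe u
open CategoryTheory CategoryTheory.Limits Opposite

namespace Groth.Agent.Helper8.LC

variable {R : Type u} [CommRing R]

open Abelian localCohomology LocCoh

/-- A prime containing an element avoiding all top-dimensional minimal primes cannot start a
chain of length `dim R`. -/
lemma supportDim_quotSMulTop_lt (d : ℕ) (hd : ringKrullDim R = d) (f : R)
    (hf : ∀ p ∈ minimalPrimes R, ringKrullDim (R ⧸ p) = d → f ∉ p)
    (M : Type u) [AddCommGroup M] [Module R M] [Module.Finite R M] :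
    Module.supportDim R (QuotSMulTop f M) < (d : WithBot ℕ∞) := by
  by_contra hlt
  rw [not_lt] at hlt
  obtain ⟨l, hl⟩ := Order.le_krullDim_iff.mp hlt
  -- the chain in the prime spectrum
  let l' : LTSeries (PrimeSpectrum R) := l.map Subtype.val (fun _ _ h => h)
  have hl' : l'.length = d := hl
  have hmem : l.head.1 ∈ Module.support R M ∩ PrimeSpectrum.zeroLocus {f} :=
    (Set.ext_iff.mp (Module.support_quotSMulTop (M := M) f) _).mp l.head.2
  have hfmem : f ∈ l.head.1.asIdeal := by
    have := hmem.2
    simpa [PrimeSpectrum.mem_zeroLocus] using this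
  obtain ⟨q, hq, hq'⟩ := Ideal.exists_minimalPrimes_le (J := l.head.1.asIdeal) bot_le
  let q' : PrimeSpectrum R := ⟨q, hq.1.1⟩
  have hqeq : q' = l.head.1 := by
    by_contra hne
    have hlt' : q' < l'.head := lt_of_le_of_ne hq' hne
    have h1 := Order.LTSeries.length_le_krullDim (l'.cons q' hlt')
    rw [← ringKrullDim, hd] at h1
    simp only [RelSeries.cons_length, hl'] at h1
    have : ((d + 1 : ℕ) : WithBot ℕ∞) ≤ (d : WithBot ℕ∞) := by exact_mod_cast h1
    have h2 : d + 1 ≤ d := by exact_mod_cast this
    omega
  have hqmin : l.head.1.asIdeal ∈ minimalPrimes R := by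
    rw [← hqeq]; exact hq
  refine hf _ hqmin ?_ hfmem
  apply le_antisymm
  · rw [← hd]; exact ringKrullDim_quotient_le _
  · rw [ringKrullDim_quotient]
    apply Order.le_krullDim_iff.mpr
    refine ⟨{ length := l.length
              toFun := fun i => ⟨(l i).1, ?_⟩
              step := fun i => l.step i }, hl⟩
    rw [PrimeSpectrum.mem_zeroLocus]
    have : l.head ≤ l i := LTSeries.head_le l i
    exact this

end Groth.Agent.Helper8.LC

namespace Groth.Agent.Helper8.LC

variable {R : Type u} [CommRing R] [IsNoetherianRing R]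

open Abelian localCohomology LocCoh
open scoped Pointwise

/-- if `H^{k+1}` vanishes on the kernel then `H^k` of a surjection is surjective. -/
lemma map_surjective_of_surjective (J : Ideal R) (k : ℕ)
    {M M'' : Type u} [AddCommGroup M] [Module R M] [AddCommGroup M''] [Module R M'']
    (g : M →ₗ[R] M'') (hg : Function.Surjective g)
    (hk : Subsingleton (H J (k + 1) (LinearMap.ker g))) :
    Function.Surjective ((localCohomology J k).map (ModuleCat.ofHom g)) := by
  have hS := LinearMap.shortExact_shortComplexKer hg
  intro z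
  have h1 : δ J k hS z = 0 := hk.elim _ _
  exact (exact_g_δ J k hS z).mp h1

/-- if `H^k` vanishes on the quotient then `H^k` of a submodule inclusion is surjective. -/
lemma map_surjective_of_subsingleton_quotient (J : Ideal R) (k : ℕ)
    {M : Type u} [AddCommGroup M] [Module R M] (N : Submodule R M)
    (hk : Subsingleton (H J k (M ⧸ N))) :
    Function.Surjective ((localCohomology J k).map (ModuleCat.ofHom N.subtype)) := by
  have hS := sesSub_shortExact N
  intro z
  have h1 : (localCohomology J k).map (sesSub N).g z = 0 := hk.elim _ _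
  exact (exact_f_g J k hS z).mp h1

theorem smul_surjective_top (J : Ideal R) (d : ℕ) (hd : ringKrullDim R = d) (f : R)
    (hf : ∀ p ∈ minimalPrimes R, ringKrullDim (R ⧸ p) = d → f ∉ p)
    (M : Type u) [AddCommGroup M] [Module R M] [Module.Finite R M] :
    Function.Surjective (fun x : H J d M => f • x) := by
  have hcd := cdLE_of_ringKrullDim_le J d hd.le
  let N : Submodule R M := f • (⊤ : Submodule R M)
  have hq : Subsingleton (H J d (M ⧸ N)) :=
    subsingleton_of_supportDim_lt J (QuotSMulTop f M) d (supportDim_quotSMulTop_lt d hd f hf M)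
  let g : M →ₗ[R] N := LinearMap.codRestrict N (LinearMap.lsmul R M f)
    (fun m => Submodule.smul_mem_pointwise_smul m f ⊤ Submodule.mem_top)
  have hg : Function.Surjective g := by
    rintro ⟨y, hy⟩
    obtain ⟨m, -, rfl⟩ := (Submodule.mem_smul_pointwise_iff_exists _ _ _).mp hy
    exact ⟨m, Subtype.ext rfl⟩
  have h1 := map_surjective_of_surjective J d g hg (hcd _ (d + 1) (Nat.lt_succ_self d))
  have h2 := map_surjective_of_subsingleton_quotient J d N hq
  intro z
  obtain ⟨y, rfl⟩ := h2 z
  obtain ⟨x, rfl⟩ := h1 y
  refine ⟨x, ?_⟩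
  change f • x = _
  rw [← map_smul_id]
  have : (f • 𝟙 (ModuleCat.of R M)) = ModuleCat.ofHom g ≫ ModuleCat.ofHom N.subtype := by
    ext m
    rfl
  rw [this, Functor.map_comp]
  rfl

end Groth.Agent.Helper8.LC
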