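import Groth.Agent.Lib.Helper8.LC20

set_option autoImplicit false
universe u
open CategoryTheory CategoryTheory.Limits Opposite

namespace Groth.Agent.Helper8.LC

open Abelian localCohomology LocCoh
open scoped TensorProduct

section NonzeroMap

variable {R : Type u} [CommRing R]

lemma algebraMapSubmonoid_primeCompl_eq (p : Ideal R) [p.IsPrime] :
    Algebra.algebraMapSubmonoid (R ⧸ p) p.primeCompl = nonZeroDivisors (R ⧸ p) := by
  ext x
  rw [mem_nonZeroDivisors_iff_ne_zero]
  constructor
  · rintro ⟨s, hs, rfl⟩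
    change Ideal.Quotient.mk p s ≠ 0
    rw [ne_eq, Ideal.Quotient.eq_zero_iff_mem]
    exact hs
  · intro hx
    obtain ⟨s, rfl⟩ := Ideal.Quotient.mk_surjective x
    refine ⟨s, ?_, rfl⟩
    intro hs
    exact hx (Ideal.Quotient.eq_zero_iff_mem.mpr hs)

/-- a finitely presented module with `p` in its support has a nonzero map to `R ⧸ p`. -/
theorem exists_linearMap_quotient_ne_zero (p : PrimeSpectrum R)
    (M : Type u) [AddCommGroup M] [Module R M] [Module.FinitePresentation R M]
    (hp : p ∈ Module.support R M) : ∃ h : M →ₗ[R] R ⧸ p.asIdeal, h ≠ 0 := by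
  haveI : Module.Finite R M := inferInstance
  let K := p.asIdeal.ResidueField
  haveI : Nontrivial (K ⊗[R] M) :=
    (Module.mem_support_iff_nontrivial_residueField_tensorProduct p).mp hp
  obtain ⟨v, hv⟩ := exists_ne (0 : K ⊗[R] M)
  obtain ⟨ψ, hψ⟩ : ∃ ψ : Module.Dual K (K ⊗[R] M), ψ v ≠ 0 := by
    by_contra hcon
    push Not at hcon
    exact hv ((Module.forall_dual_apply_eq_zero_iff K v).mp hcon)
  let g : M →ₗ[R] K := (ψ.restrictScalars R).comp (TensorProduct.mk R K M 1)
  have hg : g ≠ 0 := by
    intro hg0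
    apply hψ
    have hall : ∀ w : K ⊗[R] M, ψ w = 0 := by
      intro w
      induction w using TensorProduct.induction_on with
      | zero => exact map_zero _
      | tmul k m =>
        have h1 : k ⊗ₜ[R] m = k • ((1 : K) ⊗ₜ[R] m) := by
          rw [TensorProduct.smul_tmul', smul_eq_mul, mul_one]
        have h2 : ψ ((1 : K) ⊗ₜ[R] m) = 0 := LinearMap.congr_fun hg0 m
        rw [h1, map_smul, h2, smul_zero]
      | add x y hx hy => rw [map_add, hx, hy, add_zero]
    exact hall v
  let f : R ⧸ p.asIdeal →ₗ[R] K := (IsScalarTower.toAlgHom R (R ⧸ p.asIdeal) K).toLinearMap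
  haveI : IsLocalization (Algebra.algebraMapSubmonoid (R ⧸ p.asIdeal) p.asIdeal.primeCompl) K := by
    rw [algebraMapSubmonoid_primeCompl_eq]
    infer_instance
  haveI : IsLocalizedModule p.asIdeal.primeCompl f := inferInstance
  obtain ⟨h, s, hs⟩ :=
    Module.FinitePresentation.exists_lift_of_isLocalizedModule p.asIdeal.primeCompl f g
  refine ⟨h, ?_⟩
  intro h0
  apply hg
  ext m
  have h1 : (f ∘ₗ h) m = (s • g) m := by rw [hs]
  rw [h0] at h1
  simp only [LinearMap.comp_zero, LinearMap.zero_apply, LinearMap.smul_apply] at h1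
  have h2 : algebraMap R K (s : R) * g m = 0 := by
    rw [← Algebra.smul_def]
    exact h1.symm
  rcases mul_eq_zero.mp h2 with h3 | h3
  · exact absurd (Ideal.algebraMap_residueField_eq_zero.mp h3) s.2
  · exact h3

end NonzeroMap

end Groth.Agent.Helper8.LC

namespace Groth.Agent.Helper8.LC

open Abelian localCohomology LocCoh
open scoped Pointwise

variable {R : Type u} [CommRing R]

lemma lt_of_add_one_le_natCast {a : WithBot ℕ∞} {d : ℕ} (h : a + 1 ≤ (d : WithBot ℕ∞)) :
    a < (d : WithBot ℕ∞) := by
  by_cases hne : a = ⊥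
  · rw [hne]; exact WithBot.bot_lt_coe _
  · obtain ⟨d', rfl, hd'⟩ := exists_nat_of_add_one_le hne h
    exact_mod_cast hd'

/-- a prime whose quotient has the full (finite) dimension is minimal. -/
lemma mem_minimalPrimes_of_ringKrullDim_quotient_eq (p : Ideal R) [hp : p.IsPrime] (d : ℕ)
    (hd : ringKrullDim R = d) (hpd : ringKrullDim (R ⧸ p) = d) : p ∈ minimalPrimes R := by
  obtain ⟨q, hq, hqp⟩ := Ideal.exists_minimalPrimes_le (J := p) bot_le
  by_contra hpmin
  have hne : q ≠ p := fun h => hpmin (h ▸ hq)
  have hlt : q < p := lt_of_le_of_ne hqp hne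
  rw [ringKrullDim_quotient] at hpd
  obtain ⟨l, hl⟩ := Order.le_krullDim_iff.mp hpd.ge
  let l' : LTSeries (PrimeSpectrum R) := l.map Subtype.val (fun _ _ h => h)
  have hl' : l'.length = d := hl
  let q' : PrimeSpectrum R := ⟨q, hq.1.1⟩
  have hhead : q' < l'.head := by
    have h1 : p ≤ l.head.1.asIdeal := by
      have := l.head.2
      rwa [PrimeSpectrum.mem_zeroLocus] at this
    have h2 : q' < l.head.1 := lt_of_lt_of_le (b := (⟨p, hp⟩ : PrimeSpectrum R)) hlt h1
    exact h2
  have h1 := Order.LTSeries.length_le_krullDim (l'.cons q' hhead)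
  rw [← ringKrullDim, hd] at h1
  simp only [RelSeries.cons_length, hl'] at h1
  have : ((d + 1 : ℕ) : WithBot ℕ∞) ≤ (d : WithBot ℕ∞) := by exact_mod_cast h1
  have h2 : d + 1 ≤ d := by exact_mod_cast this
  omega

variable [IsNoetherianRing R]

/-- vanishing of `H^d` on `R ⧸ p` (full dimension) from vanishing on a module with `p` in its
support. -/
lemma subsingleton_quotient_prime_of_mem_support (J : Ideal R) (d : ℕ)
    (hk : ∀ (N : Type u) [AddCommGroup N] [Module R N], Subsingleton (H J (d + 1) N))
    (M : Type u) [AddCommGroup M] [Module R M] [Module.Finite R M]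
    (p : PrimeSpectrum R) (hp : p ∈ Module.support R M)
    (hpd : ringKrullDim (R ⧸ p.asIdeal) = d)
    (hvan : Subsingleton (H J d M)) : Subsingleton (H J d (R ⧸ p.asIdeal)) := by
  haveI : Module.FinitePresentation R M := Module.finitePresentation_of_finite R M
  obtain ⟨h, hh⟩ := exists_linearMap_quotient_ne_zero p M hp
  have h1 : Subsingleton (H J d (LinearMap.range h)) :=
    subsingleton_of_surjective J d hk h.rangeRestrict h.surjective_rangeRestrict hvan
  obtain ⟨m, hm⟩ : ∃ m, h m ≠ 0 := by
    by_contra hcon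
    push Not at hcon
    exact hh (LinearMap.ext hcon)
  obtain ⟨x, hx⟩ := Ideal.Quotient.mk_surjective (h m)
  have hxp : x ∉ p.asIdeal := by
    intro hxp
    apply hm
    rw [← hx]
    exact Ideal.Quotient.eq_zero_iff_mem.mpr hxp
  have hle : x • (⊤ : Submodule R (R ⧸ p.asIdeal)) ≤ LinearMap.range h := by
    intro y hy
    obtain ⟨z, -, rfl⟩ := (Submodule.mem_smul_pointwise_iff_exists _ _ _).mp hy
    obtain ⟨r, rfl⟩ := Ideal.Quotient.mk_surjective z
    refine ⟨r • m, ?_⟩
    rw [map_smul, ← hx]
    change Ideal.Quotient.mk p.asIdeal (r * x) = Ideal.Quotient.mk p.asIdeal (x * r)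
    rw [mul_comm]
  have h2 : Module.supportDim R (QuotSMulTop x (R ⧸ p.asIdeal)) < (d : WithBot ℕ∞) := by
    apply lt_of_add_one_le_natCast
    rw [← hpd, ← Module.supportDim_quotient_eq_ringKrullDim]
    apply Module.supportDim_quotSMulTop_succ_le_of_notMem_minimalPrimes
    intro q hq
    rw [Ideal.annihilator_quotient, Ideal.minimalPrimes_eq_subsingleton_self] at hq
    rw [Set.mem_singleton_iff.mp hq]
    exact hxp
  have h3 : Subsingleton (H J d ((R ⧸ p.asIdeal) ⧸ LinearMap.range h)) := by
    apply subsingleton_of_supportDim_lt J _ d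
    refine (Module.supportDim_le_of_surjective (Submodule.factor hle)
      (Submodule.factor_surjective hle)).trans_lt h2
  exact subsingleton_of_exact J d (LinearMap.range h).subtype (LinearMap.range h).mkQ
    (LinearMap.range h).injective_subtype (Submodule.mkQ_surjective _)
    (LinearMap.exact_subtype_mkQ _) h1 h3

theorem subsingleton_of_subsingleton_of_support (J : Ideal R) (d : ℕ) (hd : ringKrullDim R = d)
    (M : Type u) [AddCommGroup M] [Module R M] [Module.Finite R M]
    (hsupp : ∀ p ∈ minimalPrimes R, ringKrullDim (R ⧸ p) = d → ∀ hp : p.IsPrime,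
      (⟨p, hp⟩ : PrimeSpectrum R) ∈ Module.support R M)
    (hvan : Subsingleton (H J d M)) (N : Type u) [AddCommGroup N] [Module R N] (i : ℕ)
    (hi : d ≤ i) : Subsingleton (H J i N) := by
  have hcd := cdLE_of_ringKrullDim_le J d hd.le
  rcases Nat.lt_or_eq_of_le hi with hlt | rfl
  · exact hcd N i hlt
  have hk : ∀ (N : Type u) [AddCommGroup N] [Module R N], Subsingleton (H J (d + 1) N) :=
    fun N _ _ => hcd N (d + 1) (Nat.lt_succ_self d)
  have hfin : ∀ (X : Type u) [AddCommGroup X] [Module R X] [Module.Finite R X],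
      Subsingleton (H J d X) := by
    intro X _ _ hX
    induction hX using IsNoetherianRing.induction_on_isQuotientEquivQuotientPrime R with
    | subsingleton X => exact subsingleton_of_subsingleton J d (ModuleCat.of R X)
    | quotient X p e =>
      apply subsingleton_of_linearEquiv J d e.symm
      by_cases hpd : ringKrullDim (R ⧸ p.asIdeal) = d
      · have hmin := mem_minimalPrimes_of_ringKrullDim_quotient_eq p.asIdeal d hd hpd
        exact subsingleton_quotient_prime_of_mem_support J d hk M p
          (hsupp p.asIdeal hmin hpd p.2) hpd hvan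
      · apply subsingleton_of_supportDim_lt J _ d
        rw [Module.supportDim_quotient_eq_ringKrullDim]
        refine lt_of_le_of_ne ?_ hpd
        rw [← hd]
        exact ringKrullDim_quotient_le _
    | exact X₁ X₂ X₃ f g hf hg hfg h₁ h₃ =>
      exact subsingleton_of_exact J d f g hf hg hfg h₁ h₃
  exact subsingleton_of_subsingleton_self J d (hfin R) hk N

end Groth.Agent.Helper8.LC
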