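import Groth.Agent.Lib.Helper8.LC21

set_option autoImplicit false
universe u
open CategoryTheory CategoryTheory.Limits Opposite

namespace Groth.Agent.Helper8.LC

open Abelian localCohomology LocCoh

section FreeAtPrime

variable {R : Type u} [CommRing R] [IsNoetherianRing R]

/-- a finite module all of whose elements are killed by elements outside `p` is killed by a
single element outside `p`. -/
lemma exists_notMem_forall_smul_eq_zero' (p : Ideal R) [hp : p.IsPrime] (N : Type u)
    [AddCommGroup N] [Module R N] [Module.Finite R N]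
    (h : ∀ n : N, ∃ r ∉ p, r • n = 0) : ∃ s ∉ p, ∀ n : N, s • n = 0 := by
  have h1 : (⟨p, hp⟩ : PrimeSpectrum R) ∉ Module.support R N :=
    Module.notMem_support_iff'.mpr h
  rw [Module.mem_support_iff_of_finite] at h1
  obtain ⟨s, hs, hsp⟩ := Set.not_subset.mp h1
  exact ⟨s, hsp, fun n => Module.mem_annihilator.mp hs n⟩

/-- a finite module free at `p` receives a map from a finite free module whose kernel and
cokernel are killed by an element outside `p`. -/
theorem exists_map_of_free_localization (M : Type u) [AddCommGroup M] [Module R M]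
    [Module.Finite R M] (p : Ideal R) [p.IsPrime]
    [Module.Free (Localization.AtPrime p) (LocalizedModule p.primeCompl M)] :
    ∃ (ι : Type u) (_ : Fintype ι) (h : (ι →₀ R) →ₗ[R] M) (s : R), s ∉ p ∧
      (∀ k ∈ LinearMap.ker h, s • k = 0) ∧ (∀ m : M, s • m ∈ LinearMap.range h) := by
  let Rp := Localization.AtPrime p
  let Mp := LocalizedModule p.primeCompl M
  let f : M →ₗ[R] Mp := LocalizedModule.mkLinearMap p.primeCompl M
  let ι := Module.Free.ChooseBasisIndex Rp Mp
  let b : Module.Basis ι Rp Mp := Module.Free.chooseBasis Rp Mp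
  haveI : Fintype ι := inferInstance
  let g : (ι →₀ R) →ₗ[R] Mp := Finsupp.linearCombination R (fun i => b i)
  haveI : Module.FinitePresentation R (ι →₀ R) := Module.finitePresentation_of_projective _ _
  obtain ⟨h, s, hs⟩ :=
    Module.FinitePresentation.exists_lift_of_isLocalizedModule p.primeCompl f g
  have hfh : ∀ k, f (h k) = s • g k := fun k => LinearMap.congr_fun hs k
  -- kernel
  have hker : ∀ k : LinearMap.ker h, ∃ r ∉ p, r • k = 0 := by
    rintro ⟨k, hk⟩
    have h1 : g k = 0 := by
      have : s • g k = s • (0 : Mp) := by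
        rw [← hfh, LinearMap.mem_ker.mp hk, map_zero, smul_zero]
      exact (IsLocalizedModule.smul_inj f s _ _).mp this
    have h2 : ∀ i, algebraMap R Rp (k i) = 0 := by
      have h3 : (Finsupp.linearCombination Rp (fun i => b i))
          (Finsupp.mapRange (algebraMap R Rp) (map_zero _) k) = 0 := by
        rw [← h1]
        simp only [g, Finsupp.linearCombination_apply]
        rw [Finsupp.sum_mapRange_index (by intro i; exact zero_smul _ _)]
        apply Finset.sum_congr rfl
        intro i _
        exact algebraMap_smul Rp (k i) (b i)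
      have h4 := (linearIndependent_iff.mp b.linearIndependent) _ h3
      intro i
      have := DFunLike.congr_fun h4 i
      simpa using this
    have h5 : ∀ i, ∃ u : p.primeCompl, (u : R) * k i = 0 := by
      intro i
      exact (IsLocalization.map_eq_zero_iff p.primeCompl Rp (k i)).mp (h2 i)
    choose u hu using h5
    refine ⟨∏ i ∈ k.support, (u i : R), ?_, ?_⟩
    · intro hmem
      obtain ⟨i, -, hi⟩ := (Ideal.IsPrime.prod_mem_iff).mp hmem
      exact (u i).2 hi
    · apply Subtype.ext
      ext i
      change (∏ j ∈ k.support, (u j : R)) * k i = 0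
      by_cases hi : i ∈ k.support
      · rw [← Finset.prod_erase_mul _ _ hi, mul_assoc, hu i, mul_zero]
      · rw [Finsupp.notMem_support_iff.mp hi, mul_zero]
  -- cokernel
  have hspan : Submodule.span Rp (f '' (LinearMap.range h : Set M)) = ⊤ := by
    rw [eq_top_iff, ← b.span_eq, Submodule.span_le]
    rintro _ ⟨i, rfl⟩
    have h1 : s • b i ∈ Submodule.span Rp (f '' (LinearMap.range h : Set M)) := by
      apply Submodule.subset_span
      refine ⟨h (Finsupp.single i 1), ⟨_, rfl⟩, ?_⟩
      rw [hfh]
      simp [g]
    have hunit : IsUnit (algebraMap R Rp (s : R)) := IsLocalization.map_units Rp s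
    obtain ⟨c, hc⟩ := hunit.exists_left_inv
    have h2 : b i = c • ((s : R) • b i) := by
      rw [← algebraMap_smul Rp (s : R) (b i), smul_smul, hc, one_smul]
    rw [h2]
    exact Submodule.smul_mem _ _ h1
  have hcoker : ∀ c : M ⧸ LinearMap.range h, ∃ r ∉ p, r • c = 0 := by
    intro c
    obtain ⟨m, rfl⟩ := Submodule.Quotient.mk_surjective _ c
    have h1 : f m ∈ Submodule.localized' Rp p.primeCompl f (LinearMap.range h) := by
      rw [Submodule.localized'_eq_span, hspan]
      exact Submodule.mem_top
    obtain ⟨m', hm', u, hu⟩ := (Submodule.mem_localized' Rp p.primeCompl f _ _).mp h1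
    rw [IsLocalizedModule.mk'_eq_iff] at hu
    have h2 : f m' = f ((u : R) • m) := by rw [hu, map_smul]; rfl
    obtain ⟨v, hv⟩ := IsLocalizedModule.exists_of_eq (S := p.primeCompl) h2
    refine ⟨(v : R) * (u : R), ?_, ?_⟩
    · intro hmem
      rcases Ideal.IsPrime.mem_or_mem inferInstance hmem with h3 | h3
      · exact v.2 h3
      · exact u.2 h3
    · rw [← Submodule.Quotient.mk_smul, Submodule.Quotient.mk_eq_zero, mul_smul]
      have : (v : R) • (u : R) • m = v • m' := hv.symm
      rw [this]
      exact Submodule.smul_mem _ _ hm'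
  obtain ⟨s₁, hs₁, hs₁'⟩ := exists_notMem_forall_smul_eq_zero' p (LinearMap.ker h) hker
  obtain ⟨s₂, hs₂, hs₂'⟩ := exists_notMem_forall_smul_eq_zero' p (M ⧸ LinearMap.range h) hcoker
  refine ⟨ι, inferInstance, h, s₁ * s₂, ?_, ?_, ?_⟩
  · intro hmem
    rcases Ideal.IsPrime.mem_or_mem inferInstance hmem with h3 | h3
    · exact hs₁ h3
    · exact hs₂ h3
  · intro k hk
    have := hs₁' ⟨k, hk⟩
    rw [mul_comm, mul_smul]
    have h1 : s₁ • k = 0 := congrArg Subtype.val this
    rw [h1, smul_zero]
  · intro m
    have := hs₂' (Submodule.Quotient.mk m)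
    rw [← Submodule.Quotient.mk_smul, Submodule.Quotient.mk_eq_zero] at this
    rw [mul_smul]
    exact Submodule.smul_mem _ _ this

end FreeAtPrime

end Groth.Agent.Helper8.LC

namespace Groth.Agent.Helper8.LC

open Abelian localCohomology LocCoh

variable {R : Type u} [CommRing R] [IsNoetherianRing R]

lemma subsingleton_pi_fin (J : Ideal R) (i : ℕ) (hR : Subsingleton (H J i R)) (t : ℕ) :
    Subsingleton (H J i (Fin t → R)) := by
  induction t with
  | zero => exact subsingleton_of_subsingleton J i (ModuleCat.of R (Fin 0 → R))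
  | succ t ih =>
    refine subsingleton_of_exact J i (LinearMap.single R (fun _ : Fin (t + 1) => R) 0)
      (LinearMap.funLeft R R Fin.succ) ?_ ?_ ?_ hR ih
    · intro a b hab
      have := congrFun hab 0
      simpa using this
    · intro w
      refine ⟨Fin.cons 0 w, ?_⟩
      ext j
      simp [LinearMap.funLeft]
    · intro v
      constructor
      · intro hv
        refine ⟨v 0, ?_⟩
        ext j
        cases j using Fin.cases with
        | zero => simp
        | succ j =>
          have := congrFun hv j
          simp only [LinearMap.funLeft_apply, Pi.zero_apply] at this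
          simp [this]
      · rintro ⟨r, rfl⟩
        ext j
        simp [LinearMap.funLeft]

lemma subsingleton_finsupp (J : Ideal R) (i : ℕ) (hR : Subsingleton (H J i R))
    (ι : Type u) [Fintype ι] : Subsingleton (H J i (ι →₀ R)) := by
  have h1 := subsingleton_pi_fin J i hR (Fintype.card ι)
  exact subsingleton_of_linearEquiv J i
    ((LinearEquiv.funCongrLeft R R (Fintype.equivFin ι)).trans
      (Finsupp.linearEquivFunOnFinite R R ι).symm) h1

/-- annihilation of `H^i(M)` from a map `F → M` with `H^i(F) = 0` whose kernel and cokernel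
are annihilated. -/
theorem smul_eq_zero_of_map (J : Ideal R) (i : ℕ) {F M : Type u} [AddCommGroup F] [Module R F]
    [AddCommGroup M] [Module R M] (h : F →ₗ[R] M) (s₁ s₂ : R)
    (hker : ∀ k ∈ LinearMap.ker h, s₁ • k = 0) (hcoker : ∀ m : M, s₂ • m ∈ LinearMap.range h)
    (hF : Subsingleton (H J i F)) (x : H J i M) : (s₁ * s₂) • x = 0 := by
  let N := LinearMap.range h
  have hS1 := LinearMap.shortExact_shortComplexKer h.surjective_rangeRestrict
  have hS2 := sesSub_shortExact N
  -- step 1
  have h1 : (localCohomology J i).map (sesSub N).g (s₂ • x) = 0 := by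
    rw [map_smul]
    apply smul_eq_zero_of_mem_annihilator J i (ModuleCat.of R (M ⧸ N)) s₂
    rw [Module.mem_annihilator]
    intro c
    obtain ⟨m, rfl⟩ := Submodule.Quotient.mk_surjective _ c
    change s₂ • Submodule.Quotient.mk m = 0
    rw [← Submodule.Quotient.mk_smul, Submodule.Quotient.mk_eq_zero]
    exact hcoker m
  obtain ⟨y, hy⟩ := (exact_f_g J i hS2 (s₂ • x)).mp h1
  -- step 2
  have h2 : δ J i hS1 (s₁ • y) = 0 := by
    rw [map_smul]
    apply smul_eq_zero_of_mem_annihilator J (i + 1)
      (ModuleCat.of R (LinearMap.ker h.rangeRestrict)) s₁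
    rw [Module.mem_annihilator]
    rintro ⟨k, hk⟩
    apply Subtype.ext
    apply hker k
    rw [LinearMap.ker_rangeRestrict] at hk
    exact hk
  obtain ⟨z, hz⟩ := (exact_g_δ J i hS1 (s₁ • y)).mp h2
  have hz0 : z = 0 := hF.elim _ _
  rw [hz0, map_zero] at hz
  rw [mul_smul, ← hy, ← map_smul, ← hz, map_zero]

theorem exists_smul_eq_zero_of_free_localization (M : Type u) [AddCommGroup M] [Module R M]
    [Module.Finite R M] (p : Ideal R) [p.IsPrime]
    [Module.Free (Localization.AtPrime p) (LocalizedModule p.primeCompl M)] :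
    ∃ s : R, s ∉ p ∧ ∀ (b : Ideal R), b ≠ ⊤ → ∀ (i : ℕ), (i : ℕ∞) < LocCoh.idealDepth b R →
      ∀ x : LocCoh.H b i M, s • x = 0 := by
  obtain ⟨ι, _, h, s, hs, hker, hcoker⟩ := exists_map_of_free_localization M p
  refine ⟨s * s, ?_, ?_⟩
  · intro hmem
    rcases Ideal.IsPrime.mem_or_mem inferInstance hmem with h3 | h3 <;> exact hs h3
  · intro b hb i hi x
    have hR : Subsingleton (H b i R) := by
      apply subsingleton_of_lt_idealDepth b _ i hi
      rw [smul_eq_mul, Ideal.mul_top]
      exact hb
    exact smul_eq_zero_of_map b i h s s hker hcoker (subsingleton_finsupp b i hR ι) x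

end Groth.Agent.Helper8.LC
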