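import Groth.Agent.Lib.Helper8.LC22
import Mathlib.Algebra.Category.ModuleCat.Localization

set_option autoImplicit false
universe u
open CategoryTheory CategoryTheory.Limits Opposite

namespace Groth.Agent.Helper8.LC

open Abelian localCohomology LocCoh

section PD

variable {R : Type u} [CommRing R]

/-- the comparison between Mathlib's shrunk localized module and the plain one. -/
noncomputable def locIso (S : Submonoid R) (M : Type u) [AddCommGroup M] [Module R M] :
    (ModuleCat.of R M).localizedModule S ≅
      ModuleCat.of (Localization S) (LocalizedModule S M) :=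
  (Shrink.linearEquiv (Localization S) (LocalizedModule S M)).toModuleIso

/-- projective dimension of the localized kernel drops. -/
lemma hasProjectiveDimensionLE_localized_ker (S : Submonoid R) {F M : Type u}
    [AddCommGroup F] [Module R F] [Module.Free R F] [AddCommGroup M] [Module R M]
    (f : F →ₗ[R] M) (hf : Function.Surjective f) (h : ℕ)
    (hpd : HasProjectiveDimensionLE
      (ModuleCat.of (Localization S) (LocalizedModule S M)) (h + 1)) :
    HasProjectiveDimensionLE
      (ModuleCat.of (Localization S) (LocalizedModule S (LinearMap.ker f))) h := by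
  have hS := LinearMap.shortExact_shortComplexKer hf
  have hS' := hS.map_of_exact (ModuleCat.localizedModuleFunctor.{u} S)
  have h3 : HasProjectiveDimensionLT
      ((LinearMap.shortComplexKer f).map (ModuleCat.localizedModuleFunctor.{u} S)).X₃
      (h + 1 + 1) :=
    hasProjectiveDimensionLT_of_iso (locIso S M).symm (h + 1 + 1)
  have h2 : HasProjectiveDimensionLT
      ((LinearMap.shortComplexKer f).map (ModuleCat.localizedModuleFunctor.{u} S)).X₂
      (h + 1) := by
    haveI : Module.Free (Localization S) (LocalizedModule S F) :=
      Module.free_of_isLocalizedModule S (LocalizedModule.mkLinearMap S F)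
    haveI : Module.Projective (Localization S) (LocalizedModule S F) := inferInstance
    haveI : Projective (ModuleCat.of (Localization S) (LocalizedModule S F)) :=
      (IsProjective.iff_projective _).mp inferInstance
    have h4 : HasProjectiveDimensionLT (ModuleCat.of (Localization S) (LocalizedModule S F)) 1 :=
      inferInstance
    have h5 := hasProjectiveDimensionLT_of_ge
      (ModuleCat.of (Localization S) (LocalizedModule S F)) 1 (h + 1) (by omega)
    exact hasProjectiveDimensionLT_of_iso (locIso S F).symm (h + 1)
  have h1 : HasProjectiveDimensionLT ((ModuleCat.of R (LinearMap.ker f)).localizedModule S)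
      (h + 1) := hS'.hasProjectiveDimensionLT_X₁ (h + 1) h2 h3
  exact hasProjectiveDimensionLT_of_iso (locIso S (LinearMap.ker f)) (h + 1)

end PD

end Groth.Agent.Helper8.LC

namespace Groth.Agent.Helper8.LC

open Abelian localCohomology LocCoh

variable {R : Type u} [CommRing R] [IsNoetherianRing R]

theorem exists_smul_eq_zero_of_pd_le (p : Ideal R) [p.IsPrime] (h : ℕ) :
    ∀ (M : Type u) [AddCommGroup M] [Module R M] [Module.Finite R M]
    (_ : HasProjectiveDimensionLE
      (ModuleCat.of (Localization.AtPrime p) (LocalizedModule p.primeCompl M)) h),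
    ∃ s : R, s ∉ p ∧ ∀ (b : Ideal R), b ≠ ⊤ → ∀ (i : ℕ),
      ((i + h : ℕ) : ℕ∞) < LocCoh.idealDepth b R → ∀ x : LocCoh.H b i M, s • x = 0 := by
  induction h with
  | zero =>
    intro M _ _ _ hpd
    haveI : Projective
        (ModuleCat.of (Localization.AtPrime p) (LocalizedModule p.primeCompl M)) :=
      (projective_iff_hasProjectiveDimensionLE_zero _).mpr hpd
    haveI : Module.Projective (Localization.AtPrime p) (LocalizedModule p.primeCompl M) :=
      (IsProjective.iff_projective _).mpr inferInstance
    haveI : Module.Free (Localization.AtPrime p) (LocalizedModule p.primeCompl M) :=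
      Module.free_of_flat_of_isLocalRing
    obtain ⟨s, hs, hs'⟩ := exists_smul_eq_zero_of_free_localization M p
    exact ⟨s, hs, fun b hb i hi x => hs' b hb i (by simpa using hi) x⟩
  | succ h ih =>
    intro M _ _ _ hpd
    obtain ⟨n, f, hf⟩ := Module.Finite.exists_fin' R M
    have hK := hasProjectiveDimensionLE_localized_ker p.primeCompl f hf h hpd
    obtain ⟨s, hs, hs'⟩ := ih (LinearMap.ker f) hK
    refine ⟨s, hs, ?_⟩
    intro b hb i hi x
    have hS := LinearMap.shortExact_shortComplexKer hf
    have hi1 : ((i + 1 + h : ℕ) : ℕ∞) < LocCoh.idealDepth b R := by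
      have : i + 1 + h = i + (h + 1) := by omega
      rw [this]; exact hi
    have h1 : δ b i hS (s • x) = 0 := by
      rw [map_smul]
      exact hs' b hb (i + 1) hi1 _
    obtain ⟨z, hz⟩ := (exact_g_δ b i hS (s • x)).mp h1
    have hR : Subsingleton (H b i R) := by
      apply subsingleton_of_lt_idealDepth b _ i
      · refine lt_of_le_of_lt ?_ hi
        exact_mod_cast Nat.le_add_right i (h + 1)
      · rw [smul_eq_mul, Ideal.mul_top]
        exact hb
    have hz0 : z = 0 := (subsingleton_pi_fin b i hR n).elim _ _
    rw [← hz, hz0, map_zero]

end Groth.Agent.Helper8.LC
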