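import Groth.Agent.Lib.Helper8.LC23

set_option autoImplicit false
universe u
open CategoryTheory CategoryTheory.Limits Opposite

namespace Groth.Agent.Helper8.LC

open Abelian localCohomology LocCoh

variable {R : Type u} [CommRing R] [IsNoetherianRing R]

theorem exists_pow_vanishingIdeal_le_annihilator (M : Type u) [AddCommGroup M] [Module R M]
    [Module.Finite R M] (t : ℕ) :
    ∃ n : ℕ, ∀ (d : Ideal R), d ≠ ⊤ → ∀ (i : ℕ),
      ((i + t : ℕ) : ℕ∞) < LocCoh.idealDepth d R →
      (PrimeSpectrum.vanishingIdeal {p : PrimeSpectrum R | ¬ HasProjectiveDimensionLE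
        (ModuleCat.of (Localization.AtPrime p.asIdeal)
          (LocalizedModule p.asIdeal.primeCompl M)) t}) ^ n ≤
        Module.annihilator R (LocCoh.H d i M) := by
  -- the ideal of uniform annihilators
  let 𝔰 : Ideal R :=
    { carrier := {s | ∀ (d : Ideal R), d ≠ ⊤ → ∀ (i : ℕ),
        ((i + t : ℕ) : ℕ∞) < LocCoh.idealDepth d R → ∀ x : LocCoh.H d i M, s • x = 0}
      add_mem' := by
        intro a b ha hb d hd i hi x
        rw [add_smul, ha d hd i hi x, hb d hd i hi x, add_zero]
      zero_mem' := by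
        intro d hd i hi x
        exact zero_smul _ _
      smul_mem' := by
        intro c a ha d hd i hi x
        rw [smul_eq_mul, mul_smul, ha d hd i hi x, smul_zero] }
  set Z : Set (PrimeSpectrum R) := {p : PrimeSpectrum R | ¬ HasProjectiveDimensionLE
        (ModuleCat.of (Localization.AtPrime p.asIdeal)
          (LocalizedModule p.asIdeal.primeCompl M)) t} with hZ
  have hsub : PrimeSpectrum.zeroLocus (𝔰 : Set R) ⊆ Z := by
    intro q hq
    by_contra hqZ
    rw [hZ, Set.mem_ofPred_eq, not_not] at hqZ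
    obtain ⟨s, hs, hs'⟩ := exists_smul_eq_zero_of_pd_le q.asIdeal t M hqZ
    have : s ∈ 𝔰 := hs'
    exact hs (hq this)
  have hle : PrimeSpectrum.vanishingIdeal Z ≤ 𝔰.radical := by
    rw [← PrimeSpectrum.vanishingIdeal_zeroLocus_eq_radical]
    exact PrimeSpectrum.vanishingIdeal_anti_mono hsub
  obtain ⟨n, hn⟩ := Ideal.exists_radical_pow_le_of_fg 𝔰 (IsNoetherian.noetherian _)
  refine ⟨n, fun d hd i hi => ?_⟩
  refine (Ideal.pow_right_mono hle n).trans (hn.trans ?_)
  intro s hs
  rw [Module.mem_annihilator]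
  exact hs d hd i hi

end Groth.Agent.Helper8.LC
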