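import Groth.Agent.Lib.Helper8.LC26

set_option autoImplicit false
universe u
open CategoryTheory CategoryTheory.Limits Opposite

namespace Groth.Agent.Helper8.LC

open Abelian localCohomology LocCoh

variable {R : Type u} [CommRing R] [IsNoetherianRing R]

theorem finite_of_finite_self_of_projective_away (I : Ideal R) (n : ℕ)
    (hR : ∀ i : ℕ, i ≤ n → Module.Finite R (LocCoh.H I i R))
    (M : Type u) [AddCommGroup M] [Module R M] [Module.Finite R M]
    (hM : ∀ f ∈ I, Module.Projective (Localization.Away f)
      (LocalizedModule (Submonoid.powers f) M)) (i : ℕ) (hi : i ≤ n) :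
    Module.Finite R (LocCoh.H I i M) := by
  obtain ⟨J, hJ, hJ'⟩ := (finite_iff_exists_annihilator I R n).mp hR
  obtain ⟨k, hk⟩ := Ideal.exists_pow_le_of_le_radical_of_fg hJ (IsNoetherian.noetherian _)
  have h1 : ∀ j : ℕ, ∃ m : ℕ, j ≤ n → I ^ m ≤ Module.annihilator R (H I j M) := by
    intro j
    by_cases hj : j ≤ n
    · obtain ⟨m, hm⟩ := exists_pow_smul_eq_zero_of_projective_away I I j k
        (fun a ha x => hJ' j hj a (hk ha) x) M hM
      exact ⟨m, fun _ a ha => Module.mem_annihilator.mpr (hm a ha)⟩
    · exact ⟨0, fun h => absurd h hj⟩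
  choose m hm using h1
  apply finite_of_pow_le_annihilator I n M (∑ j ∈ Finset.range (n + 1), m j) _ i hi
  intro j hj
  have hle : m j ≤ ∑ j ∈ Finset.range (n + 1), m j :=
    Finset.single_le_sum (f := m) (fun _ _ => Nat.zero_le _)
      (Finset.mem_range.mpr (by omega : j < n + 1))
  exact (Ideal.pow_le_pow_right hle).trans (hm j hj)

end Groth.Agent.Helper8.LC
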