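import Groth.Agent.Lib.Helper8.LC1
import Groth.Agent.Lib.Helper8.LC2

set_option autoImplicit false
universe u
open CategoryTheory CategoryTheory.Limits Opposite

namespace Groth.Agent.Helper8.LC

variable {R : Type u} [CommRing R]

section

variable {X : ModuleCat.{u} R} (P : ProjectiveResolution X) (Y : ModuleCat.{u} R) (n : ℕ)

/-- The Hom complex `Hom(P, Y)`. -/
noncomputable abbrev HomCx : CochainComplex (ModuleCat.{u} R) ℕ := P.complex.linearYonedaObj R Y

/-- an element of the degree `n` part of the Hom complex as a morphism -/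
def toHom (h : (HomCx P Y).X n) : P.complex.X n ⟶ Y := h

/-- a morphism as an element of the degree `n` part of the Hom complex -/
def ofHom (h : P.complex.X n ⟶ Y) : (HomCx P Y).X n := h

lemma d_apply (h : (HomCx P Y).X n) :
    ((HomCx P Y).d n (n + 1)) h = ofHom P Y (n + 1) (P.complex.d (n + 1) n ≫ toHom P Y n h) := by
  rw [ChainComplex.linearYonedaObj_d]
  rfl

lemma mem_Z_iff (h : (HomCx P Y).X n) :
    h ∈ Z (HomCx P Y) n ↔ P.complex.d (n + 1) n ≫ toHom P Y n h = 0 := by
  change ((HomCx P Y).d n (n + 1)) h = 0 ↔ _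
  rw [d_apply]
  rfl

end

section

open Abelian

variable {X : ModuleCat.{u} R} (P : ProjectiveResolution X) (Y : ModuleCat.{u} R) (n : ℕ)

/-- the class in the new Ext of a cocycle. -/
noncomputable def newMkFun (z : Z (HomCx P Y) n) : Ext X Y n :=
  P.extMk (toHom P Y n z.1) (n + 1) rfl ((mem_Z_iff P Y n z.1).mp z.2)

lemma newMkFun_add (z z' : Z (HomCx P Y) n) :
    newMkFun P Y n (z + z') = newMkFun P Y n z + newMkFun P Y n z' := by
  unfold newMkFun
  rw [ProjectiveResolution.add_extMk]
  rfl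

lemma newMkFun_smul (r : R) (z : Z (HomCx P Y) n) :
    newMkFun P Y n (r • z) = r • newMkFun P Y n z := by
  unfold newMkFun
  rw [Ext.smul_eq_comp_mk₀, ProjectiveResolution.extMk_comp_mk₀]
  congr 1

/-- the class in the new Ext of a cocycle, as a linear map. -/
noncomputable def newMk : Z (HomCx P Y) n →ₗ[R] Ext X Y n where
  toFun := newMkFun P Y n
  map_add' := newMkFun_add P Y n
  map_smul' := newMkFun_smul P Y n

lemma newMk_surjective : Function.Surjective (newMk P Y n) := by
  intro α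
  obtain ⟨f, hf, rfl⟩ := P.extMk_surjective α (n + 1) rfl
  exact ⟨⟨ofHom P Y n f, (mem_Z_iff P Y n _).mpr hf⟩, rfl⟩

end

section

open Abelian CochainComplex HomComplex

lemma extMk_zero_eq_zero_iff {X Y : ModuleCat.{u} R} (P : ProjectiveResolution X)
    (f : P.complex.X 0 ⟶ Y) (hf : P.complex.d 1 0 ≫ f = 0) :
    P.extMk f 1 rfl hf = 0 ↔ f = 0 := by
  constructor
  · intro h
    have h1 := congrArg P.extEquivCohomologyClass h
    rw [ProjectiveResolution.extEquivCohomologyClass_extMk,
      ProjectiveResolution.extEquivCohomologyClass_zero,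
      CohomologyClass.mk_eq_zero_iff] at h1
    rw [Cocycle.toSingleMk_mem_coboundaries_iff _ _ _ _ _ 1 (by simp)] at h1
    obtain ⟨g, hg⟩ := h1
    have hz : IsZero (P.cochainComplex.X 1) := P.cochainComplex.isZero_of_isStrictlyLE 0 1 (by simp)
    have hg0 : g = 0 := hz.eq_of_src _ _
    rw [hg0, comp_zero] at hg
    have := hg.symm
    rw [← cancel_epi (P.cochainComplexXIso (-(0:ℕ)) 0 rfl).hom]
    simpa using this
  · rintro rfl
    exact P.extMk_zero 1 rfl

variable {X : ModuleCat.{u} R} (P : ProjectiveResolution X) (Y : ModuleCat.{u} R) (n : ℕ)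

lemma newMk_eq_zero_iff (z : Z (HomCx P Y) n) :
    newMk P Y n z = 0 ↔ toH (HomCx P Y) n z = 0 := by
  cases n with
  | zero =>
    constructor
    · intro h
      have h1 : toHom P Y 0 z.1 = 0 :=
        (extMk_zero_eq_zero_iff P _ ((mem_Z_iff P Y 0 z.1).mp z.2)).mp h
      have hz : z = 0 := Subtype.ext h1
      rw [hz, map_zero]
    · intro h
      have hz := eq_zero_of_toH_eq_zero_zero _ z h
      rw [hz, map_zero]
  | succ m =>
    constructor
    · intro h
      obtain ⟨g, hg⟩ := (P.extMk_eq_zero_iff _ (m + 1 + 1) rfl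
        ((mem_Z_iff P Y (m + 1) z.1).mp z.2) m rfl).mp h
      refine toH_eq_zero_of_boundary _ _ z (ofHom P Y m g) ?_
      rw [d_apply]
      exact hg
    · intro h
      obtain ⟨y, hy⟩ := exists_boundary_of_toH_eq_zero_succ _ (m + 1) rfl z h
      refine (P.extMk_eq_zero_iff _ (m + 1 + 1) rfl
        ((mem_Z_iff P Y (m + 1) z.1).mp z.2) m rfl).mpr ⟨toHom P Y m y, ?_⟩
      rw [d_apply] at hy
      exact hy

/-- the class in the old Ext of a cocycle. -/
noncomputable def oldMk : Z (HomCx P Y) n →ₗ[R] ((Ext R (ModuleCat.{u} R) n).obj (op X)).obj Y :=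
  (P.isoExt n Y).inv.hom ∘ₗ toH (HomCx P Y) n

lemma oldMk_surjective : Function.Surjective (oldMk P Y n) := by
  intro x
  obtain ⟨z, hz⟩ := toH_surjective (HomCx P Y) n ((P.isoExt n Y).hom x)
  refine ⟨z, ?_⟩
  change (P.isoExt n Y).inv (toH (HomCx P Y) n z) = x
  rw [hz]
  exact congrArg (fun f => f.hom x) (P.isoExt n Y).hom_inv_id

lemma oldMk_eq_zero_iff (z : Z (HomCx P Y) n) :
    oldMk P Y n z = 0 ↔ toH (HomCx P Y) n z = 0 := by
  constructor
  · intro h
    have h1 := congrArg (P.isoExt n Y).hom h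
    change (P.isoExt n Y).hom ((P.isoExt n Y).inv (toH (HomCx P Y) n z)) = _ at h1
    rw [map_zero] at h1
    rw [← h1]
    exact (congrArg (fun f => f.hom (toH (HomCx P Y) n z)) (P.isoExt n Y).inv_hom_id).symm
  · intro h
    change (P.isoExt n Y).inv (toH (HomCx P Y) n z) = 0
    rw [h, map_zero]

lemma ker_oldMk_eq : LinearMap.ker (oldMk P Y n) = LinearMap.ker (newMk P Y n) := by
  ext z
  rw [LinearMap.mem_ker, LinearMap.mem_ker, oldMk_eq_zero_iff, newMk_eq_zero_iff]

/-- comparison of old and new Ext via a projective resolution. -/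
noncomputable def cmp : ((Ext R (ModuleCat.{u} R) n).obj (op X)).obj Y ≃ₗ[R] Abelian.Ext X Y n :=
  ((oldMk P Y n).quotKerEquivOfSurjective (oldMk_surjective P Y n)).symm ≪≫ₗ
    Submodule.quotEquivOfEq _ _ (ker_oldMk_eq P Y n) ≪≫ₗ
    (newMk P Y n).quotKerEquivOfSurjective (newMk_surjective P Y n)

lemma cmp_oldMk (z : Z (HomCx P Y) n) : cmp P Y n (oldMk P Y n z) = newMk P Y n z := by
  unfold cmp
  have h1 : ((oldMk P Y n).quotKerEquivOfSurjective (oldMk_surjective P Y n)).symm
      (oldMk P Y n z) = Submodule.Quotient.mk z := by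
    rw [LinearEquiv.symm_apply_eq]
    rfl
  simp only [LinearEquiv.trans_apply]
  rw [h1]
  rfl

end

end Groth.Agent.Helper8.LC
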