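import Groth.Agent.Lib.Helper8.LC29

set_option autoImplicit false
universe u
open CategoryTheory CategoryTheory.Limits Opposite

namespace Groth.Agent.Helper8.LC

open Abelian localCohomology LocCoh

attribute [local instance] HasDerivedCategory.standard

variable {A : Type u} [CommRing A] [IsNoetherianRing A]

theorem ext_transition_zero_above_cd (I : Ideal A) (e : ℕ) (he : LocCoh.CdLE A I e) (n : ℕ) :
    ∃ (m : ℕ) (hm : n < m), ∀ (N : Type u) [AddCommGroup N] [Module A N] (i : ℕ), e < i →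
      ∀ φ : Dual.inD A (A ⧸ I ^ n) ⟶ (Dual.inD A N)⟦(i : ℤ)⟧,
        (DerivedCategory.singleFunctor (ModuleCat.{u} A) 0).map
          (ModuleCat.ofHom (Submodule.mapQ (I ^ m) (I ^ n) LinearMap.id
            (Ideal.pow_le_pow_right (Nat.le_of_lt hm)))) ≫ φ = 0 := by
  obtain ⟨m, hm, h⟩ := exists_uniform_index_above I e n
    (fun N i hi => he N i hi)
  refine ⟨m, hm, ?_⟩
  intro N _ _ i hi φ
  obtain ⟨x, rfl⟩ := (Ext.homEquiv (X := ModuleCat.of A (A ⧸ I ^ n))
    (Y := ModuleCat.of A N) (n := i)).surjective φ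
  have h1 := h (ModuleCat.of A N) i hi x
  have h2 := congrArg Ext.hom h1
  rw [Ext.comp_hom, Ext.mk₀_hom, ShiftedHom.mk₀_comp] at h2
  rw [Ext.zero_hom] at h2
  exact h2

end Groth.Agent.Helper8.LC
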