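import Groth.Agent.Lib.Helper8.LC30

set_option autoImplicit false
universe u
open CategoryTheory CategoryTheory.Limits Opposite

namespace Groth.Agent.Helper8.LC

open Abelian localCohomology LocCoh

section Filtered

variable {R : Type u} [CommRing R]
variable {J : Type u} [SmallCategory J] [IsFiltered J] (F : J ⥤ ModuleCat.{u} R)
  {c : Cocone F} (hc : IsColimit c)

include hc in
/-- finite families in the colimit lift to a common stage. -/
lemma exists_lift_fin (r : ℕ) (y : Fin r → c.pt) :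
    ∃ (j : J) (y' : Fin r → F.obj j), ∀ t, c.ι.app j (y' t) = y t := by
  induction r with
  | zero =>
    obtain ⟨j⟩ := IsFiltered.nonempty (C := J)
    exact ⟨j, fun t => t.elim0, fun t => t.elim0⟩
  | succ r ih =>
    obtain ⟨j₁, y₁, h₁⟩ := ih (fun t => y t.succ)
    obtain ⟨j₂, z, hz⟩ := Concrete.isColimit_exists_rep F hc (y 0)
    refine ⟨IsFiltered.max j₁ j₂,
      Fin.cons (F.map (IsFiltered.rightToMax j₁ j₂) z)
        (fun t => F.map (IsFiltered.leftToMax j₁ j₂) (y₁ t)), ?_⟩
    intro t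
    cases t using Fin.cases with
    | zero =>
      rw [Fin.cons_zero, ← hz, ← c.w (IsFiltered.rightToMax j₁ j₂)]
      rfl
    | succ t =>
      rw [Fin.cons_succ, ← h₁ t, ← c.w (IsFiltered.leftToMax j₁ j₂)]
      rfl

include hc in
/-- finite families dying in the colimit die at a common later stage. -/
lemma exists_kill_fin (r : ℕ) {j : J} (z : Fin r → F.obj j)
    (hz : ∀ t, c.ι.app j (z t) = 0) :
    ∃ (k : J) (f : j ⟶ k), ∀ t, F.map f (z t) = 0 := by
  induction r with
  | zero => exact ⟨j, 𝟙 j, fun t => t.elim0⟩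
  | succ r ih =>
    obtain ⟨k, f, hk⟩ := ih (fun t => z t.succ) (fun t => hz t.succ)
    have h1 : c.ι.app k (F.map f (z 0)) = c.ι.app k 0 := by
      rw [map_zero]
      have : c.ι.app k (F.map f (z 0)) = c.ι.app j (z 0) := by
        rw [← c.w f]; rfl
      rw [this]
      exact hz 0
    obtain ⟨k', g, h, hgh⟩ := Concrete.isColimit_exists_of_rep_eq F hc _ _ h1
    refine ⟨k', f ≫ g, fun t => ?_⟩
    have hcomp : ∀ w, F.map (f ≫ g) w = F.map g (F.map f w) := by
      intro w; rw [F.map_comp]; rfl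
    rw [hcomp]
    cases t using Fin.cases with
    | zero => rw [hgh, map_zero]
    | succ t => rw [hk t, map_zero]

end Filtered

end Groth.Agent.Helper8.LC

namespace Groth.Agent.Helper8.LC

open Abelian localCohomology LocCoh

section ExtFiltered

variable {R : Type u} [CommRing R]
variable {J : Type u} [SmallCategory J] [IsFiltered J] (F : J ⥤ ModuleCat.{u} R)
  (c : Cocone F)

/-- classes over the colimit lift to some stage. -/
def ExtLift (X : ModuleCat.{u} R) (i : ℕ) : Prop :=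
  ∀ e : Abelian.Ext X c.pt i, ∃ (j : J) (e' : Abelian.Ext X (F.obj j) i),
    e'.comp (Ext.mk₀ (c.ι.app j)) (add_zero i) = e

/-- classes dying over the colimit die at some stage. -/
def ExtKill (X : ModuleCat.{u} R) (i : ℕ) : Prop :=
  ∀ (j : J) (e : Abelian.Ext X (F.obj j) i),
    e.comp (Ext.mk₀ (c.ι.app j)) (add_zero i) = 0 →
    ∃ (k : J) (f : j ⟶ k), e.comp (Ext.mk₀ (F.map f)) (add_zero i) = 0

lemma pi_linearMap_eq_zero {r : ℕ} {Y : Type u} [AddCommGroup Y] [Module R Y]
    (φ : (Fin r → R) →ₗ[R] Y) (h : ∀ t, φ (Pi.single t 1) = 0) : φ = 0 := by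
  apply LinearMap.pi_ext
  intro t x
  have : (Pi.single t x : Fin r → R) = x • Pi.single t 1 := by
    rw [← Pi.single_smul', smul_eq_mul, mul_one]
  rw [this, map_smul, h t, smul_zero, LinearMap.zero_apply]

variable {F c} (hc : IsColimit c)

include hc in
lemma extKill_free_zero (r : ℕ) : ExtKill F c (ModuleCat.of R (Fin r → R)) 0 := by
  intro j e he
  obtain ⟨ψ, rfl⟩ : ∃ f, Ext.mk₀ f = e := ⟨_, Ext.mk₀_linearEquiv₀_apply (R := R) e⟩
  rw [Ext.mk₀_comp_mk₀, Ext.mk₀_eq_zero_iff] at he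
  have hz : ∀ t, c.ι.app j (ψ.hom (Pi.single t 1)) = 0 := by
    intro t
    have := congrArg (fun α => α.hom (Pi.single t (1 : R))) he
    exact this
  obtain ⟨k, f, hk⟩ := exists_kill_fin F hc r (fun t => ψ.hom (Pi.single t 1)) hz
  refine ⟨k, f, ?_⟩
  rw [Ext.mk₀_comp_mk₀, Ext.mk₀_eq_zero_iff]
  apply ModuleCat.hom_ext
  apply pi_linearMap_eq_zero
  intro t
  exact hk t

include hc in
lemma extLift_free_zero (r : ℕ) : ExtLift F c (ModuleCat.of R (Fin r → R)) 0 := by
  intro e
  obtain ⟨φ, rfl⟩ : ∃ f, Ext.mk₀ f = e := ⟨_, Ext.mk₀_linearEquiv₀_apply (R := R) e⟩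
  obtain ⟨j, y', hy'⟩ := exists_lift_fin F hc r (fun t => φ.hom (Pi.single t 1))
  refine ⟨j, Ext.mk₀ (ModuleCat.ofHom (Fintype.linearCombination R y')), ?_⟩
  rw [Ext.mk₀_comp_mk₀]
  congr 1
  apply ModuleCat.hom_ext
  rw [← sub_eq_zero]
  apply pi_linearMap_eq_zero
  intro t
  rw [LinearMap.sub_apply, sub_eq_zero]
  change c.ι.app j ((Fintype.linearCombination R y') (Pi.single t 1)) = φ.hom (Pi.single t 1)
  rw [Fintype.linearCombination_apply_single, one_smul]
  exact hy' t

end ExtFiltered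

end Groth.Agent.Helper8.LC

namespace Groth.Agent.Helper8.LC

open Abelian localCohomology LocCoh

section ExtFiltered2

variable {R : Type u} [CommRing R] [IsNoetherianRing R]
variable {J : Type u} [SmallCategory J] [IsFiltered J] {F : J ⥤ ModuleCat.{u} R}
  {c : Cocone F} (hc : IsColimit c)

lemma ext_sub_comp {X Y Z : ModuleCat.{u} R} {n m p : ℕ} (α₁ α₂ : Abelian.Ext X Y n)
    (β : Abelian.Ext Y Z m) (h : n + m = p) :
    (α₁ - α₂).comp β h = α₁.comp β h - α₂.comp β h := by
  rw [sub_eq_add_neg, Ext.add_comp, Ext.neg_comp, ← sub_eq_add_neg]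

include hc in
lemma extKill_zero (X : Type u) [AddCommGroup X] [Module R X] [Module.Finite R X] :
    ExtKill F c (ModuleCat.of R X) 0 := by
  obtain ⟨r, π, hπ⟩ := Module.Finite.exists_fin' R X
  have hS := LinearMap.shortExact_shortComplexKer hπ
  haveI : Epi (LinearMap.shortComplexKer π).g := hS.epi_g
  intro j e he
  have h1 : ((Ext.mk₀ (LinearMap.shortComplexKer π).g).comp e (zero_add 0)).comp
      (Ext.mk₀ (c.ι.app j)) (add_zero 0) = 0 := by
    rw [Ext.comp_assoc_of_third_deg_zero, he, Ext.comp_zero]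
  obtain ⟨k, f, hk⟩ := extKill_free_zero hc r j _ h1
  refine ⟨k, f, ?_⟩
  apply Ext.precomp_mk₀_injective_of_epi _ (LinearMap.shortComplexKer π).g
  rw [map_zero]
  change (Ext.mk₀ (LinearMap.shortComplexKer π).g).comp _ (zero_add 0) = 0
  rw [← Ext.comp_assoc_of_third_deg_zero]
  exact hk

include hc in
lemma extLift_zero (X : Type u) [AddCommGroup X] [Module R X] [Module.Finite R X] :
    ExtLift F c (ModuleCat.of R X) 0 := by
  obtain ⟨r, π, hπ⟩ := Module.Finite.exists_fin' R X
  have hS := LinearMap.shortExact_shortComplexKer hπ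
  haveI : Epi (LinearMap.shortComplexKer π).g := hS.epi_g
  intro e
  obtain ⟨j, e₂', he₂'⟩ := extLift_free_zero hc r
    ((Ext.mk₀ (LinearMap.shortComplexKer π).g).comp e (zero_add 0))
  have h1 : ((Ext.mk₀ (LinearMap.shortComplexKer π).f).comp e₂' (zero_add 0)).comp
      (Ext.mk₀ (c.ι.app j)) (add_zero 0) = 0 := by
    rw [Ext.comp_assoc_of_third_deg_zero, he₂', Ext.mk₀_comp_mk₀_assoc,
      (LinearMap.shortComplexKer π).zero, Ext.mk₀_zero, Ext.zero_comp]
  obtain ⟨k, f, hk⟩ := extKill_zero hc (LinearMap.ker π) j _ h1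
  rw [Ext.comp_assoc_of_third_deg_zero] at hk
  obtain ⟨x₃, hx₃⟩ := Ext.contravariant_sequence_exact₂ hS (F.obj k) _ hk
  refine ⟨k, x₃, ?_⟩
  apply Ext.precomp_mk₀_injective_of_epi _ (LinearMap.shortComplexKer π).g
  change (Ext.mk₀ (LinearMap.shortComplexKer π).g).comp _ (zero_add 0) =
    (Ext.mk₀ (LinearMap.shortComplexKer π).g).comp e (zero_add 0)
  rw [← Ext.comp_assoc_of_third_deg_zero, hx₃, Ext.comp_assoc_of_third_deg_zero,
    Ext.mk₀_comp_mk₀, c.w f, he₂']

include hc in
theorem extLift_extKill (i : ℕ) :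
    ∀ (X : Type u) [AddCommGroup X] [Module R X] [Module.Finite R X],
      ExtLift F c (ModuleCat.of R X) i ∧ ExtKill F c (ModuleCat.of R X) i := by
  induction i with
  | zero => exact fun X _ _ _ => ⟨extLift_zero hc X, extKill_zero hc X⟩
  | succ i ih =>
    intro X _ _ _
    obtain ⟨r, π, hπ⟩ := Module.Finite.exists_fin' R X
    have hS := LinearMap.shortExact_shortComplexKer hπ
    haveI : Projective (LinearMap.shortComplexKer π).X₂ :=
      (IsProjective.iff_projective _).mp (inferInstanceAs (Module.Projective R (Fin r → R)))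
    obtain ⟨ihL, ihK⟩ := ih (LinearMap.ker π)
    constructor
    · intro e
      have h0 : (Ext.mk₀ (LinearMap.shortComplexKer π).g).comp e (zero_add (i + 1)) = 0 :=
        Ext.eq_zero_of_projective _
      obtain ⟨e₁, he₁⟩ := Ext.contravariant_sequence_exact₃ hS c.pt e h0 (add_comm 1 i)
      obtain ⟨j, e₁', he₁'⟩ := ihL e₁
      refine ⟨j, hS.extClass.comp e₁' (add_comm 1 i), ?_⟩
      rw [Ext.comp_assoc_of_third_deg_zero, he₁', he₁]
    · intro j e he
      have h0 : (Ext.mk₀ (LinearMap.shortComplexKer π).g).comp e (zero_add (i + 1)) = 0 :=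
        Ext.eq_zero_of_projective _
      obtain ⟨e₁, rfl⟩ := Ext.contravariant_sequence_exact₃ hS (F.obj j) e h0 (add_comm 1 i)
      rw [Ext.comp_assoc_of_third_deg_zero] at he
      obtain ⟨x₂, hx₂⟩ := Ext.contravariant_sequence_exact₁ hS c.pt _ (add_comm 1 i) he
      rcases Nat.eq_zero_or_pos i with rfl | hipos
      · -- degree zero: lift `x₂`
        obtain ⟨j₂, x₂', hx₂'⟩ := extLift_free_zero hc r x₂
        let j₀ := IsFiltered.max j j₂
        let a : j ⟶ j₀ := IsFiltered.leftToMax j j₂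
        let b : j₂ ⟶ j₀ := IsFiltered.rightToMax j j₂
        let d : Abelian.Ext (LinearMap.shortComplexKer π).X₁ (F.obj j₀) 0 :=
          e₁.comp (Ext.mk₀ (F.map a)) (add_zero 0) -
            (Ext.mk₀ (LinearMap.shortComplexKer π).f).comp
              (x₂'.comp (Ext.mk₀ (F.map b)) (add_zero 0)) (zero_add 0)
        have hd : d.comp (Ext.mk₀ (c.ι.app j₀)) (add_zero 0) = 0 := by
          simp only [d, ext_sub_comp]
          rw [Ext.comp_assoc_of_third_deg_zero, Ext.mk₀_comp_mk₀, c.w a,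
            Ext.comp_assoc_of_third_deg_zero, Ext.comp_assoc_of_third_deg_zero,
            Ext.mk₀_comp_mk₀, c.w b, hx₂', hx₂, sub_self]
        obtain ⟨k, f, hk⟩ := ihK j₀ d hd
        refine ⟨k, a ≫ f, ?_⟩
        simp only [d, ext_sub_comp, sub_eq_zero] at hk
        rw [Ext.comp_assoc_of_third_deg_zero, F.map_comp, ← Ext.mk₀_comp_mk₀,
          ← Ext.comp_assoc_of_third_deg_zero e₁, hk, Ext.comp_assoc_of_third_deg_zero,
          hS.extClass_comp_assoc]
      · have hx₂0 : x₂ = 0 := by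
          obtain ⟨i', rfl⟩ : ∃ i', i = i' + 1 := ⟨i - 1, by omega⟩
          exact Ext.eq_zero_of_projective _
        rw [hx₂0, Ext.comp_zero] at hx₂
        obtain ⟨k, f, hk⟩ := ihK j e₁ hx₂.symm
        refine ⟨k, f, ?_⟩
        rw [Ext.comp_assoc_of_third_deg_zero, hk, Ext.comp_zero]

end ExtFiltered2

end Groth.Agent.Helper8.LC
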