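import Groth.Agent.Lib.Helper8.LC34
import Groth.Prelude.Def_ARSys

set_option autoImplicit false
universe u
open CategoryTheory CategoryTheory.Limits Opposite

namespace Groth.Agent.Helper8.LC

section Img

variable {A : Type u} [CommRing A]

lemma imageSubobject_epi_comp' {X' X Y : ModuleCat.{u} A} (h : X' ⟶ X) [Epi h] (f : X ⟶ Y) :
    imageSubobject (h ≫ f) = imageSubobject f := by
  apply le_antisymm (imageSubobject_comp_le h f)
  have : IsIso (Subobject.ofLE _ _ (imageSubobject_comp_le h f)) := isIso_of_mono_of_epi _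
  refine Subobject.le_of_comm (inv (Subobject.ofLE _ _ (imageSubobject_comp_le h f))) ?_
  rw [IsIso.inv_comp_eq, Subobject.ofLE_arrow]

lemma imageSubobject_le_of_range_le {P P' Q : ModuleCat.{u} A} (a : P ⟶ Q) (b : P' ⟶ Q)
    (h : LinearMap.range a.hom ≤ LinearMap.range b.hom) :
    imageSubobject a ≤ imageSubobject b := by
  let W : Submodule A (P × P') := LinearMap.ker (a.hom.coprod (-b.hom))
  let π : ModuleCat.of A W ⟶ P := ModuleCat.ofHom ((LinearMap.fst A P P') ∘ₗ W.subtype)
  let w : ModuleCat.of A W ⟶ P' := ModuleCat.ofHom ((LinearMap.snd A P P') ∘ₗ W.subtype)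
  haveI : Epi π := by
    rw [ModuleCat.epi_iff_surjective]
    intro p
    obtain ⟨p', hp'⟩ := h ⟨p, rfl⟩
    refine ⟨⟨(p, p'), ?_⟩, rfl⟩
    rw [LinearMap.mem_ker, LinearMap.coprod_apply, LinearMap.neg_apply, hp', add_neg_cancel]
  have hsq : π ≫ a = w ≫ b := by
    apply ModuleCat.hom_ext
    apply LinearMap.ext
    rintro ⟨⟨p, p'⟩, hpp'⟩
    rw [LinearMap.mem_ker, LinearMap.coprod_apply, LinearMap.neg_apply, add_neg_eq_zero] at hpp'
    exact hpp'
  rw [← imageSubobject_epi_comp' π a, hsq]
  exact imageSubobject_comp_le w b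

lemma imageSubobject_eq_of_range_eq {P P' Q : ModuleCat.{u} A} (a : P ⟶ Q) (b : P' ⟶ Q)
    (h : LinearMap.range a.hom = LinearMap.range b.hom) :
    imageSubobject a = imageSubobject b :=
  le_antisymm (imageSubobject_le_of_range_le a b h.le) (imageSubobject_le_of_range_le b a h.ge)

/-- a projective system of Artinian modules satisfies the Mittag-Leffler condition. -/
theorem isML_of_isArtinian (X : ARSys.PS (ModuleCat.{u} A))
    (hX : ∀ n : ℕ, IsArtinian A (X.obj (op n))) : ARSys.IsML X := by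
  intro n
  haveI := hX n
  have hanti : ∀ s t : ℕ, s ≤ t →
      LinearMap.range (ARSys.shiftMap X t n).hom ≤ LinearMap.range (ARSys.shiftMap X s n).hom := by
    intro s t hst
    have hcomp : ARSys.tr X (Nat.le_add_right n t) =
        ARSys.tr X (Nat.add_le_add_left hst n) ≫ ARSys.tr X (Nat.le_add_right n s) := by
      dsimp only [ARSys.tr]
      rw [← Functor.map_comp]
      rfl
    change LinearMap.range (ARSys.tr X (Nat.le_add_right n t)).hom ≤
      LinearMap.range (ARSys.tr X (Nat.le_add_right n s)).hom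
    rw [hcomp]
    rintro _ ⟨y, rfl⟩
    exact ⟨_, rfl⟩
  let f : ℕ →o (Submodule A (X.obj (op n)))ᵒᵈ :=
    ⟨fun s => OrderDual.toDual (LinearMap.range (ARSys.shiftMap X s n).hom),
      fun s t hst => hanti s t hst⟩
  obtain ⟨r, hr⟩ := IsArtinian.monotone_stabilizes f
  refine ⟨r, fun s hs => ?_⟩
  apply imageSubobject_eq_of_range_eq
  exact (congrArg OrderDual.ofDual (hr s hs)).symm

end Img

open Abelian localCohomology LocCoh

theorem isML_localCohomology_maximalIdeal (A : Type u) [CommRing A] [IsNoetherianRing A]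
    [IsLocalRing A] (Msys : ℕᵒᵖ ⥤ ModuleCat.{u} A)
    (hfin : ∀ n : ℕᵒᵖ, Module.Finite A (Msys.obj n)) (i : ℕ) :
    ARSys.IsML (Msys ⋙ localCohomology (IsLocalRing.maximalIdeal A) i) := by
  apply isML_of_isArtinian
  intro n
  haveI := hfin (op n)
  exact isArtinian_H_maximalIdeal i (Msys.obj (op n))

end Groth.Agent.Helper8.LC
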