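import Groth.Agent.Lib.Helper8.LC36
import Groth.Prelude.Def_DualLC

set_option autoImplicit false
universe u
open CategoryTheory CategoryTheory.Limits Opposite

namespace Groth.Agent.Helper8.LC

open Abelian localCohomology LocCoh

variable {R : Type u} [CommRing R] {I I' : Ideal R} (h : I ≤ I') (i : ℕ)

/-- the quotient map `R / I ^ n ⟶ R / I' ^ n`. -/
noncomputable def qm (n : ℕ) : Q I n ⟶ Q I' n := (Dual2.quotMapOfLE h).app (op n)

/-- the comparison map as a linear map. -/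
noncomputable def θ (M : ModuleCat.{u} R) :
    (localCohomology I' i).obj M →ₗ[R] (localCohomology I i).obj M :=
  ((Dual2.HmapOfLE h i).app M).hom

lemma θ_ι (n : ℕ) (M : ModuleCat.{u} R) (e : Abelian.Ext (Q I' n) M i) :
    θ h i M (ι I' i n M e) = ι I i n M ((Ext.mk₀ (qm h n)).comp e (zero_add i)) := by
  have hw := ι_colimMap (Functor.whiskerRight (NatTrans.op (Dual2.quotMapOfLE h))
    (Ext R (ModuleCat.{u} R) i)) (idx n)
  have hw' := congrArg (fun α => (α.app M).hom ((cmpC (Q I' n) M i).symm e)) hw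
  change ((Dual2.HmapOfLE h i).app M)
    (((colimit.ι (diagram (idealPowersDiagram I') i) (idx n)).app M)
      ((cmpC (Q I' n) M i).symm e)) =
    ((colimit.ι (diagram (idealPowersDiagram I) i) (idx n)).app M)
      ((((Ext R (ModuleCat.{u} R) i).map (qm h n).op).app M) ((cmpC (Q I' n) M i).symm e)) at hw'
  rw [cmpC_symm_pre] at hw'
  exact hw'

lemma θ_map {M M' : ModuleCat.{u} R} (f : M ⟶ M') (x : (localCohomology I' i).obj M) :
    θ h i M' (((localCohomology I' i).map f) x) = ((localCohomology I i).map f) (θ h i M x) := by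
  have := (Dual2.HmapOfLE h i).naturality f
  exact congrArg (fun α => α.hom x) this

lemma θ_δ {S : ShortComplex (ModuleCat.{u} R)} (hS : S.ShortExact)
    (x : (localCohomology I' i).obj S.X₃) :
    θ h (i + 1) S.X₁ (δ I' i hS x) = δ I i hS (θ h i S.X₃ x) := by
  obtain ⟨n, e, rfl⟩ := ι_rep I' i S.X₃ x
  rw [δ_ι, θ_ι, θ_ι, δ_ι, Ext.comp_assoc _ _ _ (zero_add i) rfl (by omega)]

lemma ev0_θ (M : ModuleCat.{u} R) (x : (localCohomology I' 0).obj M) :
    ev0 I M (θ h 0 M x) = ev0 I' M x := by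
  obtain ⟨n, e, rfl⟩ := ι_rep I' 0 M x
  rw [θ_ι, ev0_ι, ev0_ι]
  obtain ⟨g, rfl⟩ : ∃ g, Ext.mk₀ g = e := ⟨_, Ext.mk₀_linearEquiv₀_apply (R := R) e⟩
  rw [Ext.mk₀_comp_mk₀, val_mk₀, val_mk₀]
  rfl

lemma θ_injective_zero (M : ModuleCat.{u} R) : Function.Injective (θ h 0 M) := by
  intro x y hxy
  apply ev0_injective I' M
  rw [← ev0_θ h, ← ev0_θ h, hxy]

end Groth.Agent.Helper8.LC
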