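import Groth.Agent.Lib.Helper8.LC38

set_option autoImplicit false
universe u
open CategoryTheory CategoryTheory.Limits Opposite

namespace Groth.Agent.Helper8.LC

open Abelian localCohomology LocCoh

variable {R : Type u} [CommRing R]

section Seq

variable (b : R) (M : Type u) [AddCommGroup M] [Module R M]

/-- the sequential diagram `M → M → ⋯` with all maps multiplication by `b`. -/
noncomputable def seqDiagram : ULift.{u} ℕ ⥤ ModuleCat.{u} R where
  obj _ := ModuleCat.of R M
  map {n m} _ := b ^ (m.down - n.down) • 𝟙 (ModuleCat.of R M)
  map_id n := by rw [Nat.sub_self, pow_zero, one_smul]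
  map_comp {n m k} f g := by
    have h1 : n.down ≤ m.down := (leOfHom f : n ≤ m)
    have h2 : m.down ≤ k.down := (leOfHom g : m ≤ k)
    rw [Linear.smul_comp, Linear.comp_smul, Category.comp_id, smul_smul, ← pow_add]
    congr 2
    omega

/-- the element `b ^ n` of the submonoid of powers. -/
def bpow (n : ℕ) : Submonoid.powers b := ⟨b ^ n, ⟨n, rfl⟩⟩

/-- the map `x ↦ x / b ^ n`. -/
noncomputable def seqι (n : ℕ) : M →ₗ[R] LocalizedModule (Submonoid.powers b) M :=
  (LocalizedModule.divBy (bpow b n)).comp (LocalizedModule.mkLinearMap (Submonoid.powers b) M)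

lemma seqι_apply (n : ℕ) (x : M) : seqι b M n x = LocalizedModule.mk x (bpow b n) := by
  change LocalizedModule.divBy (bpow b n) (LocalizedModule.mk x 1) = _
  rw [LocalizedModule.divBy_apply]
  change LocalizedModule.mk x (1 * bpow b n) = _
  rw [one_mul]

lemma seqι_zero : seqι b M 0 = LocalizedModule.mkLinearMap (Submonoid.powers b) M := by
  apply LinearMap.ext
  intro x
  rw [seqι_apply]
  have : bpow b 0 = 1 := Subtype.ext (pow_zero b)
  rw [this]
  rfl

lemma seqι_smul {n m : ℕ} (h : n ≤ m) (x : M) :
    seqι b M m (b ^ (m - n) • x) = seqι b M n x := by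
  rw [seqι_apply, seqι_apply, LocalizedModule.mk_eq]
  refine ⟨1, ?_⟩
  rw [one_smul, one_smul]
  change b ^ n • b ^ (m - n) • x = b ^ m • x
  rw [smul_smul, ← pow_add]
  congr 2
  omega

lemma pow_smul_seqι (n : ℕ) (x : M) :
    b ^ n • seqι b M n x = LocalizedModule.mkLinearMap (Submonoid.powers b) M x := by
  rw [seqι_apply]
  change (bpow b n : R) • LocalizedModule.mk x (bpow b n) = LocalizedModule.mk x 1
  rw [LocalizedModule.smul'_mk]
  exact LocalizedModule.mk_cancel (bpow b n) x

/-- the cocone with vertex the localization. -/
noncomputable def seqCocone : Cocone (seqDiagram b M) where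
  pt := ModuleCat.of R (LocalizedModule (Submonoid.powers b) M)
  ι :=
    { app := fun n => ModuleCat.ofHom (seqι b M n.down)
      naturality := by
        intro n m f
        have h : n.down ≤ m.down := (leOfHom f : n ≤ m)
        apply ModuleCat.hom_ext
        apply LinearMap.ext
        intro x
        change seqι b M m.down (b ^ (m.down - n.down) • x) = seqι b M n.down x
        exact seqι_smul b M h x }

/-- the cocone is a colimit. -/
noncomputable def seqIsColimit : IsColimit (seqCocone b M) := by
  apply isColimitOfReflects (forget (ModuleCat.{u} R))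
  apply Types.FilteredColimit.isColimitOf
  · intro y
    change LocalizedModule (Submonoid.powers b) M at y
    induction y using LocalizedModule.induction_on with
    | h x s =>
      obtain ⟨n, hn⟩ := s.2
      refine ⟨ULift.up n, x, ?_⟩
      change LocalizedModule.mk x s = seqι b M n x
      rw [seqι_apply]
      congr 1
      exact Subtype.ext hn.symm
  · intro n m x y hxy
    change M at x
    change M at y
    have hxy' : seqι b M n.down x = seqι b M m.down y := hxy
    rw [seqι_apply, seqι_apply, LocalizedModule.mk_eq] at hxy'
    obtain ⟨⟨_, t, rfl⟩, ht⟩ := hxy'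
    have ht' : b ^ t • b ^ m.down • x = b ^ t • b ^ n.down • y := ht
    let k : ULift.{u} ℕ := ULift.up (t + n.down + m.down)
    have hn : n ≤ k := by change n.down ≤ t + n.down + m.down; omega
    have hm : m ≤ k := by change m.down ≤ t + n.down + m.down; omega
    refine ⟨k, homOfLE hn, homOfLE hm, ?_⟩
    change b ^ (t + n.down + m.down - n.down) • x = b ^ (t + n.down + m.down - m.down) • y
    have e1 : t + n.down + m.down - n.down = t + m.down := by omega
    have e2 : t + n.down + m.down - m.down = t + n.down := by omega
    rw [e1, e2, pow_add, pow_add, mul_smul, mul_smul]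
    exact ht'

end Seq

end Groth.Agent.Helper8.LC
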