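import Groth.Agent.Lib.Helper8.LC3

set_option autoImplicit false
universe u
open CategoryTheory CategoryTheory.Limits Opposite

namespace Groth.Agent.Helper8.LC

variable {R : Type u} [CommRing R]

section Right

open Abelian

variable {X : ModuleCat.{u} R} (P : ProjectiveResolution X) {Y Y' : ModuleCat.{u} R} (g : Y ⟶ Y')
  (n : ℕ)

lemma postMap_f_apply (h : (HomCx P Y).X n) :
    ((postMap R P.complex g).f n) h = ofHom P Y' n (toHom P Y n h ≫ g) := rfl

/-- pushing a cocycle forward along `g`. -/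
def zPost (z : Z (HomCx P Y) n) : Z (HomCx P Y') n :=
  ⟨ofHom P Y' n (toHom P Y n z.1 ≫ g), by
    rw [mem_Z_iff]
    change P.complex.d (n + 1) n ≫ toHom P Y n z.1 ≫ g = 0
    rw [← Category.assoc, (mem_Z_iff P Y n z.1).mp z.2, zero_comp]⟩

lemma oldMk_post (z : Z (HomCx P Y) n) :
    (((Ext R (ModuleCat.{u} R) n).obj (op X)).map g) (oldMk P Y n z) =
      oldMk P Y' n (zPost P g n z) := by
  have h1 := isoExt_hom_naturality_right (R := R) P g n
  have h2 : ((Ext R (ModuleCat.{u} R) n).obj (op X)).map g =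
      (P.isoExt n Y).hom ≫ HomologicalComplex.homologyMap (postMap R P.complex g) n ≫
        (P.isoExt n Y').inv := by
    rw [← Category.assoc, ← h1, Category.assoc, Iso.hom_inv_id, Category.comp_id]
  rw [h2]
  change (P.isoExt n Y').inv ((HomologicalComplex.homologyMap (postMap R P.complex g) n)
    ((P.isoExt n Y).hom ((P.isoExt n Y).inv (toH (HomCx P Y) n z)))) = _
  have h3 : (P.isoExt n Y).hom ((P.isoExt n Y).inv (toH (HomCx P Y) n z)) =
      toH (HomCx P Y) n z :=
    congrArg (fun f => f.hom (toH (HomCx P Y) n z)) (P.isoExt n Y).inv_hom_id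
  rw [h3, homologyMap_toH]
  rfl

lemma newMk_post (z : Z (HomCx P Y) n) :
    (newMk P Y n z).comp (Ext.mk₀ g) (add_zero n) = newMk P Y' n (zPost P g n z) := by
  have h : newMk P Y n z =
      P.extMk (toHom P Y n z.1) (n + 1) rfl ((mem_Z_iff P Y n z.1).mp z.2) := rfl
  rw [h, ProjectiveResolution.extMk_comp_mk₀]
  rfl

lemma cmp_post (x : ((Ext R (ModuleCat.{u} R) n).obj (op X)).obj Y) :
    cmp P Y' n ((((Ext R (ModuleCat.{u} R) n).obj (op X)).map g) x) =
      (cmp P Y n x).comp (Ext.mk₀ g) (add_zero n) := by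
  obtain ⟨z, rfl⟩ := oldMk_surjective P Y n x
  rw [oldMk_post, cmp_oldMk, cmp_oldMk, newMk_post]

end Right

section Left

open Abelian

variable {X X' : ModuleCat.{u} R} {f : X' ⟶ X} {P : ProjectiveResolution X}
  {P' : ProjectiveResolution X'} (φ : ProjectiveResolution.Hom P' P f) (Y : ModuleCat.{u} R)
  (n : ℕ)

lemma preMap_f_apply (h : (HomCx P Y).X n) :
    ((preMap R φ.hom Y).f n) h = ofHom P' Y n (φ.hom.f n ≫ toHom P Y n h) := rfl

/-- pulling a cocycle back along `φ`. -/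
def zPre (z : Z (HomCx P Y) n) : Z (HomCx P' Y) n :=
  ⟨ofHom P' Y n (φ.hom.f n ≫ toHom P Y n z.1), by
    rw [mem_Z_iff]
    change P'.complex.d (n + 1) n ≫ φ.hom.f n ≫ toHom P Y n z.1 = 0
    rw [← φ.hom.comm_assoc, (mem_Z_iff P Y n z.1).mp z.2, comp_zero]⟩

lemma oldMk_pre (z : Z (HomCx P Y) n) :
    (((Ext R (ModuleCat.{u} R) n).map f.op).app Y) (oldMk P Y n z) =
      oldMk P' Y n (zPre φ Y n z) := by
  have h1 := isoExt_hom_naturality_left (R := R) f P P' φ.hom
    (by simpa using φ.hom_f_zero_comp_π_f_zero) Y n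
  have h2 : ((Ext R (ModuleCat.{u} R) n).map f.op).app Y =
      (P.isoExt n Y).hom ≫ HomologicalComplex.homologyMap (preMap R φ.hom Y) n ≫
        (P'.isoExt n Y).inv := by
    rw [← Category.assoc, ← h1, Category.assoc, Iso.hom_inv_id, Category.comp_id]
  rw [h2]
  change (P'.isoExt n Y).inv ((HomologicalComplex.homologyMap (preMap R φ.hom Y) n)
    ((P.isoExt n Y).hom ((P.isoExt n Y).inv (toH (HomCx P Y) n z)))) = _
  have h3 : (P.isoExt n Y).hom ((P.isoExt n Y).inv (toH (HomCx P Y) n z)) =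
      toH (HomCx P Y) n z :=
    congrArg (fun f => f.hom (toH (HomCx P Y) n z)) (P.isoExt n Y).inv_hom_id
  rw [h3, homologyMap_toH]
  rfl

lemma newMk_pre (z : Z (HomCx P Y) n) :
    (Ext.mk₀ f).comp (newMk P Y n z) (zero_add n) = newMk P' Y n (zPre φ Y n z) := by
  have h : newMk P Y n z =
      P.extMk (toHom P Y n z.1) (n + 1) rfl ((mem_Z_iff P Y n z.1).mp z.2) := rfl
  rw [h, ProjectiveResolution.mk₀_comp_extMk _ _ _ _ φ]
  rfl

include φ in
lemma cmp_pre (x : ((Ext R (ModuleCat.{u} R) n).obj (op X)).obj Y) :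
    cmp P' Y n ((((Ext R (ModuleCat.{u} R) n).map f.op).app Y) x) =
      (Ext.mk₀ f).comp (cmp P Y n x) (zero_add n) := by
  obtain ⟨z, rfl⟩ := oldMk_surjective P Y n x
  rw [oldMk_pre φ, cmp_oldMk, cmp_oldMk, newMk_pre φ]

end Left

end Groth.Agent.Helper8.LC
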