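import Groth.Agent.Lib.Helper8.LC39

set_option autoImplicit false
universe u
open CategoryTheory CategoryTheory.Limits Opposite

namespace Groth.Agent.Helper8.LC

open Abelian localCohomology LocCoh

variable {R : Type u} [CommRing R]

lemma map_smul_hom (J : Ideal R) (i : ℕ) {M M' : ModuleCat.{u} R} (r : R) (f : M ⟶ M')
    (x : (localCohomology J i).obj M) :
    ((localCohomology J i).map (r • f)) x = r • ((localCohomology J i).map f) x := by
  have h : r • f = f ≫ (r • 𝟙 M') := by rw [Linear.comp_smul, Category.comp_id]
  rw [h, Functor.map_comp]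
  change ((localCohomology J i).map (r • 𝟙 M')) (((localCohomology J i).map f) x) = _
  rw [map_smul_id]

/-- if `s` acts bijectively on `N`, it acts bijectively on local cohomology of `N`. -/
lemma smul_bijective_H (J : Ideal R) (i : ℕ) (N : Type u) [AddCommGroup N] [Module R N] (s : R)
    (hbij : Function.Bijective (fun n : N => s • n)) :
    Function.Bijective (fun z : H J i N => s • z) := by
  let e : N ≃ₗ[R] N := LinearEquiv.ofBijective (LinearMap.lsmul R N s) hbij
  have h1 : ModuleCat.ofHom e.symm.toLinearMap ≫ (s • 𝟙 (ModuleCat.of R N)) =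
      𝟙 (ModuleCat.of R N) := by
    apply ModuleCat.hom_ext
    apply LinearMap.ext
    intro n
    change s • e.symm n = n
    exact e.apply_symm_apply n
  have h2 : (s • 𝟙 (ModuleCat.of R N)) ≫ ModuleCat.ofHom e.symm.toLinearMap =
      𝟙 (ModuleCat.of R N) := by
    apply ModuleCat.hom_ext
    apply LinearMap.ext
    intro n
    change e.symm (s • n) = n
    exact e.symm_apply_apply n
  constructor
  · intro z z' hzz'
    have h3 : ∀ w : H J i N, w = ((localCohomology J i).map (ModuleCat.ofHom e.symm.toLinearMap))
        (((localCohomology J i).map (s • 𝟙 (ModuleCat.of R N))) w) := by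
      intro w
      have := congrArg (fun α => ((localCohomology J i).map α) w) h2
      simp only [Functor.map_comp, CategoryTheory.Functor.map_id] at this
      exact this.symm
    have hzz'' : s • z = s • z' := hzz'
    rw [h3 z, h3 z', map_smul_id, map_smul_id, hzz'']
  · intro z
    refine ⟨((localCohomology J i).map (ModuleCat.ofHom e.symm.toLinearMap)) z, ?_⟩
    have := congrArg (fun α => ((localCohomology J i).map α) z) h1
    simp only [Functor.map_comp, CategoryTheory.Functor.map_id] at this
    change s • ((localCohomology J i).map (ModuleCat.ofHom e.symm.toLinearMap)) z = z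
    rw [← map_smul_id]
    exact this

section T3

variable [IsNoetherianRing R] (a : Ideal R) (b : R) (i : ℕ) (M : Type u) [AddCommGroup M]
  [Module R M]

/-- the map on local cohomology induced by the localization map `M → M_b`. -/
noncomputable def locMap : H a i M →ₗ[R] H a i (LocalizedModule (Submonoid.powers b) M) :=
  ((localCohomology a i).map
    (ModuleCat.ofHom (LocalizedModule.mkLinearMap (Submonoid.powers b) M))).hom

omit [IsNoetherianRing R] in
lemma pow_smul_bijective_localizedModule (n : ℕ) :
    Function.Bijective (fun x : LocalizedModule (Submonoid.powers b) M => b ^ n • x) := by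
  have h := IsLocalizedModule.map_units (LocalizedModule.mkLinearMap (Submonoid.powers b) M)
    (bpow b n)
  exact (Module.End.isUnit_iff _).mp h

lemma pow_smul_bijective_H_localizedModule (n : ℕ) :
    Function.Bijective
      (fun z : H a i (LocalizedModule (Submonoid.powers b) M) => b ^ n • z) :=
  smul_bijective_H a i _ (b ^ n) (pow_smul_bijective_localizedModule b M n)

lemma locMap_eq_zero_of_pow_smul (x : H a i M) (n : ℕ) (hx : b ^ n • x = 0) :
    locMap a b i M x = 0 := by
  apply (pow_smul_bijective_H_localizedModule a b i M n).1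
  change b ^ n • locMap a b i M x = b ^ n • 0
  rw [← map_smul, hx, map_zero, smul_zero]

lemma exists_pow_smul_of_locMap_eq_zero (x : H a i M) (hx : locMap a b i M x = 0) :
    ∃ n : ℕ, b ^ n • x = 0 := by
  have hx' : ((localCohomology a i).map ((seqCocone b M).ι.app (ULift.up 0))) x = 0 := by
    change ((localCohomology a i).map (ModuleCat.ofHom (seqι b M 0))) x = 0
    rw [seqι_zero]
    exact hx
  obtain ⟨k, f, hk⟩ := H_exists_kill (seqIsColimit b M) a i (j := ULift.up 0) x hx'
  refine ⟨k.down, ?_⟩
  change ((localCohomology a i).map (b ^ (k.down - 0) • 𝟙 (ModuleCat.of R M))) x = 0 at hk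
  rw [map_smul_id, Nat.sub_zero] at hk
  exact hk

lemma exists_pow_smul_eq_locMap (y : H a i (LocalizedModule (Submonoid.powers b) M)) :
    ∃ (n : ℕ) (x : H a i M), b ^ n • y = locMap a b i M x := by
  obtain ⟨k, x, hx⟩ := H_exists_rep (seqIsColimit b M) a i y
  have key : ∀ x' : H a i M,
      b ^ k.down • ((localCohomology a i).map (ModuleCat.ofHom (seqι b M k.down))) x' =
        locMap a b i M x' := by
    intro x'
    rw [← map_smul_hom]
    have : b ^ k.down • ModuleCat.ofHom (seqι b M k.down) =
        ModuleCat.ofHom (LocalizedModule.mkLinearMap (Submonoid.powers b) M) := by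
      apply ModuleCat.hom_ext
      apply LinearMap.ext
      intro m
      exact pow_smul_seqι b M k.down m
    rw [this]
    rfl
  refine ⟨k.down, x, ?_⟩
  rw [← hx]
  exact key x

/-- (T3) local cohomology commutes with localization at the powers of an element. -/
instance isLocalizedModule_locMap :
    IsLocalizedModule (Submonoid.powers b) (locMap a b i M) where
  map_units := by
    rintro ⟨_, n, rfl⟩
    exact (Module.End.isUnit_iff _).mpr (pow_smul_bijective_H_localizedModule a b i M n)
  surj := by
    intro y
    obtain ⟨n, x, hx⟩ := exists_pow_smul_eq_locMap a b i M y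
    exact ⟨⟨x, bpow b n⟩, hx⟩
  exists_of_eq := by
    intro x₁ x₂ h
    have h0 : locMap a b i M (x₁ - x₂) = 0 := by rw [map_sub, h, sub_self]
    obtain ⟨n, hn⟩ := exists_pow_smul_of_locMap_eq_zero a b i M _ h0
    refine ⟨bpow b n, ?_⟩
    change b ^ n • x₁ = b ^ n • x₂
    rw [smul_sub, sub_eq_zero] at hn
    exact hn

end T3

end Groth.Agent.Helper8.LC
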