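import Groth.Agent.Lib.Helper8.LC42

set_option autoImplicit false
universe u
open CategoryTheory CategoryTheory.Limits Opposite

namespace Groth.Agent.Helper8.LC

open Abelian localCohomology LocCoh

variable {R : Type u} [CommRing R] [IsNoetherianRing R] (a : Ideal R) (b : R)

theorem range_and_ker_comparison (M : Type u) [AddCommGroup M] [Module R M] (i : ℕ) :
    (∀ x : LocCoh.H a (i + 1) M,
      x ∈ LinearMap.range ((Dual2.HmapOfLE (le_sup_left : a ≤ a ⊔ Ideal.span {b})
        (i + 1)).app (ModuleCat.of R M)).hom ↔ ∃ n : ℕ, b ^ n • x = 0) ∧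
    Nonempty (LinearMap.ker ((Dual2.HmapOfLE (le_sup_left : a ≤ a ⊔ Ideal.span {b})
        (i + 1)).app (ModuleCat.of R M)).hom ≃ₗ[R]
      LocCoh.H (Ideal.span {b}) 1 (LocCoh.H a i M)) :=
  ⟨fun x => mem_range_θb_iff a b (i + 1) M x, nonempty_ker_θb_equiv a b i M⟩

theorem exact_comparison_locMap (M : Type u) [AddCommGroup M] [Module R M] (i : ℕ) :
    Function.Exact (θb a b i (ModuleCat.of R M)) (locMap a b i M) := by
  intro y
  constructor
  · intro hy
    obtain ⟨n, hn⟩ := exists_pow_smul_of_locMap_eq_zero a b i M y hy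
    exact mem_range_θb a b i M y n hn
  · intro hy
    obtain ⟨n, hn⟩ := exists_pow_smul_eq_zero_of_mem_range a b i _ y hy
    exact locMap_eq_zero_of_pow_smul a b i M y n hn

theorem nonempty_coker_locMap_equiv (M : Type u) [AddCommGroup M] [Module R M] (i : ℕ) :
    Nonempty ((H a i (LocalizedModule (Submonoid.powers b) M) ⧸
      LinearMap.range (locMap a b i M)) ≃ₗ[R]
      LinearMap.ker (θb a b (i + 1) (ModuleCat.of R M))) := by
  let S := Submonoid.powers b
  let N := H a i M
  obtain ⟨e₁⟩ := nonempty_ker_θb_equiv a b i M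
  obtain ⟨e₂⟩ := nonempty_coker_mkLinearMap_equiv b N
  let φ : LocalizedModule S N ≃ₗ[R] H a i (LocalizedModule S M) :=
    IsLocalizedModule.iso S (locMap a b i M)
  have hφ : (LinearMap.range (LocalizedModule.mkLinearMap S N)).map (φ : _ →ₗ[R] _) =
      LinearMap.range (locMap a b i M) := by
    rw [← LinearMap.range_comp]
    congr 1
    apply LinearMap.ext
    intro x
    exact IsLocalizedModule.iso_mk_one S (locMap a b i M) x
  let e₃ := Submodule.Quotient.equiv _ _ φ hφ
  exact ⟨e₃.symm.trans (e₂.trans e₁.symm)⟩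

end Groth.Agent.Helper8.LC
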