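import Groth.Agent.Lib.Helper8.LC44

set_option autoImplicit false
universe u
open CategoryTheory CategoryTheory.Limits Opposite

namespace Groth.Agent.Helper8.LC

open Abelian localCohomology LocCoh

variable {R : Type u} [CommRing R] [IsNoetherianRing R] {R' : Type u} [CommRing R']
  [IsNoetherianRing R'] [Algebra R R']

/-- (P) for an injective module over an algebra, `H^1` with support in a principal ideal of the
base ring vanishes. -/
lemma subsingleton_H_one_span_of_injective_algebra (b : R) (E : Type u) [AddCommGroup E]
    [Module R' E] [Module R E] [IsScalarTower R R' E] [Module.Injective R' E] :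
    Subsingleton (H (Ideal.span {b}) 1 E) := by
  obtain ⟨e⟩ := nonempty_coker_mkLinearMap_equiv b E
  have htop : LinearMap.range (LocalizedModule.mkLinearMap (Submonoid.powers b) E) = ⊤ := by
    rw [eq_top_iff]
    intro y _
    induction y using LocalizedModule.induction_on with
    | h x s =>
      obtain ⟨n, hn⟩ := s.2
      obtain ⟨x', m, hm⟩ := exists_div_of_injective (R := R') E (algebraMap R R' b) n x
      refine ⟨x', ?_⟩
      change LocalizedModule.mk x' 1 = LocalizedModule.mk x s
      rw [LocalizedModule.mk_eq]
      refine ⟨bpow b m, ?_⟩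
      change b ^ m • (s : R) • x' = b ^ m • (1 : R) • x
      rw [one_smul, ← hn]
      rw [smul_sub, sub_eq_zero, ← map_pow, ← map_pow, algebraMap_smul, algebraMap_smul,
        algebraMap_smul] at hm
      exact hm.symm
  haveI : Subsingleton (LocalizedModule (Submonoid.powers b) E ⧸
      LinearMap.range (LocalizedModule.mkLinearMap (Submonoid.powers b) E)) := by
    exact Submodule.Quotient.subsingleton_iff.mpr htop
  exact e.symm.toEquiv.subsingleton

omit [IsNoetherianRing R] [IsNoetherianRing R'] in
lemma mem_torsionSub_map_iff (a : Ideal R) (E : Type u) [AddCommGroup E]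
    [Module R' E] [Module R E] [IsScalarTower R R' E] (x : E) :
    x ∈ DRing.torsionSub (a.map (algebraMap R R')) E ↔ x ∈ DRing.torsionSub a E := by
  constructor
  · rintro ⟨n, hn⟩
    refine ⟨n, fun r hr => ?_⟩
    rw [← algebraMap_smul R' r x]
    apply hn
    rw [← Ideal.map_pow]
    exact Ideal.mem_map_of_mem _ hr
  · rintro ⟨n, hn⟩
    refine ⟨n, fun r hr => ?_⟩
    rw [← Ideal.map_pow] at hr
    change r ∈ Ideal.span _ at hr
    induction hr using Submodule.span_induction with
    | mem y hy =>
      obtain ⟨t, ht, rfl⟩ := hy
      rw [algebraMap_smul]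
      exact hn t ht
    | zero => rw [zero_smul]
    | add y z _ _ hy hz => rw [add_smul, hy, hz, add_zero]
    | smul t y _ hy => rw [smul_eq_mul, mul_smul, hy, smul_zero]

/-- the torsion submodule over the base ring agrees with the one over the algebra. -/
noncomputable def torsionSubMapEquiv (a : Ideal R) (E : Type u) [AddCommGroup E]
    [Module R' E] [Module R E] [IsScalarTower R R' E] :
    DRing.torsionSub a E ≃ₗ[R] DRing.torsionSub (a.map (algebraMap R R')) E where
  toFun x := ⟨x.1, (mem_torsionSub_map_iff a E x.1).mpr x.2⟩
  invFun x := ⟨x.1, (mem_torsionSub_map_iff a E x.1).mp x.2⟩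
  map_add' _ _ := rfl
  map_smul' _ _ := rfl
  left_inv _ := rfl
  right_inv _ := rfl

theorem subsingleton_H_span_finset_of_injective_algebra (s : Finset R) (E : Type u)
    [AddCommGroup E] [Module R' E] [Module R E] [IsScalarTower R R' E] [Module.Injective R' E]
    (i : ℕ) (hi : 0 < i) : Subsingleton (H (Ideal.span (s : Set R)) i E) := by
  classical
  induction s using Finset.induction_on generalizing i with
  | empty =>
    rw [Finset.coe_empty, Ideal.span_empty]
    exact cdLE_bot E i hi
  | insert b s hb ih =>
    rw [Finset.coe_insert, Ideal.span_insert, sup_comm]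
    set a : Ideal R := Ideal.span (s : Set R) with ha
    obtain ⟨j, rfl⟩ : ∃ j, i = j + 1 := ⟨i - 1, by omega⟩
    rcases Nat.eq_zero_or_pos j with rfl | hj
    · -- degree one
      obtain ⟨e⟩ := nonempty_ker_θb_equiv a b 0 E
      let E'' := DRing.torsionSub (a.map (algebraMap R R')) E
      haveI : Module.Injective R' E'' := torsionSub_injective (a.map (algebraMap R R')) E
      haveI h1 : Subsingleton (H (Ideal.span {b}) 1 E'') :=
        subsingleton_H_one_span_of_injective_algebra (R' := R') b E''
      have h2 : Subsingleton (H (Ideal.span {b}) 1 (H a 0 E)) :=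
        (Hcongr (Ideal.span {b}) 1
          ((h0Equiv a (ModuleCat.of R E)).trans
            (torsionSubMapEquiv (R' := R') a E))).toEquiv.subsingleton
      haveI := h2
      have h4 : Subsingleton (LinearMap.ker (θb a b (0 + 1) (ModuleCat.of R E))) :=
        e.toEquiv.subsingleton
      apply subsingleton_of_forall_eq_zero
      intro z
      have hz : z ∈ LinearMap.ker (θb a b (0 + 1) (ModuleCat.of R E)) := by
        rw [LinearMap.mem_ker]
        exact (ih 1 Nat.one_pos).elim _ _
      have := h4.elim ⟨z, hz⟩ 0
      exact congrArg Subtype.val this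
    · obtain ⟨k, rfl⟩ : ∃ k, j = k + 1 := ⟨j - 1, by omega⟩
      exact subsingleton_sup_span_of_subsingleton a b E k (ih (k + 1) (Nat.succ_pos k))
        (ih (k + 2) (Nat.succ_pos _))

/-- injective modules over an algebra are acyclic for local cohomology over the base. -/
theorem subsingleton_H_of_injective_algebra (I : Ideal R) (E : Type u)
    [AddCommGroup E] [Module R' E] [Module R E] [IsScalarTower R R' E] [Module.Injective R' E]
    (i : ℕ) (hi : 0 < i) : Subsingleton (H I i E) := by
  obtain ⟨s, rfl⟩ := (IsNoetherian.noetherian I : I.FG)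
  exact subsingleton_H_span_finset_of_injective_algebra (R' := R') s E i hi

end Groth.Agent.Helper8.LC
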