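import Groth.Agent.Lib.Helper8.LC46

set_option autoImplicit false
universe u
open CategoryTheory CategoryTheory.Limits Opposite

namespace Groth.Agent.Helper8.LC

open Abelian localCohomology LocCoh

variable {R : Type u} [CommRing R]

lemma ringKrullDim_localization_away_lt (f : R) (hf : f ∈ (⊥ : Ideal R).jacobson) (d : ℕ)
    (hd : ringKrullDim R = d) : ringKrullDim (Localization.Away f) < d := by
  unfold ringKrullDim
  rw [Order.krullDim_lt_coe_iff]
  intro l
  let c : PrimeSpectrum (Localization.Away f) → PrimeSpectrum R :=
    PrimeSpectrum.comap (algebraMap R (Localization.Away f))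
  have hinj : Function.Injective c :=
    PrimeSpectrum.localization_comap_injective (Localization.Away f) (Submonoid.powers f)
  have hmono : StrictMono c := by
    intro p q hpq
    refine lt_of_le_of_ne ?_ (fun h => hpq.ne (hinj h))
    exact Ideal.comap_mono hpq.le
  let l' : LTSeries (PrimeSpectrum R) := l.map c hmono
  have hfl : f ∉ (l'.last).asIdeal := by
    intro hmem
    have h1 : algebraMap R (Localization.Away f) f ∈ (l.last).asIdeal := by
      have : l'.last = c l.last := LTSeries.last_map l c hmono
      rw [this] at hmem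
      exact hmem
    have h2 : IsUnit (algebraMap R (Localization.Away f) f) :=
      IsLocalization.Away.algebraMap_isUnit f
    exact (l.last).isPrime.ne_top (Ideal.eq_top_of_isUnit_mem _ h1 h2)
  obtain ⟨m, hm, hlm⟩ := Ideal.exists_le_maximal (l'.last).asIdeal (l'.last).isPrime.ne_top
  have hfm : f ∈ m := (Ideal.mem_sInf.mp hf) ⟨bot_le, hm⟩
  have hlt : l'.last < (⟨m, hm.isPrime⟩ : PrimeSpectrum R) := by
    refine lt_of_le_of_ne hlm (fun h => hfl ?_)
    rw [h]
    exact hfm
  let l'' := l'.snoc ⟨m, hm.isPrime⟩ hlt
  have h3 := Order.LTSeries.length_le_krullDim l''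
  have h4 : l''.length = l.length + 1 := by
    simp [l'', l']
  have h5 : Order.krullDim (PrimeSpectrum R) = d := hd
  rw [h4, h5] at h3
  have h6 : l.length + 1 ≤ d := by exact_mod_cast h3
  omega

variable [IsNoetherianRing R]

/-- vanishing on modules over the localization away from an element of the Jacobson radical. -/
lemma subsingleton_H_localizedModule_away (a : Ideal R) (f : R)
    (hf : f ∈ (⊥ : Ideal R).jacobson) (d : ℕ) (hd : ringKrullDim R = d) (M : Type u)
    [AddCommGroup M] [Module R M] (i : ℕ) (hi : d ≤ i) :
    Subsingleton (H a i (LocalizedModule (Submonoid.powers f) M)) := by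
  obtain ⟨φ, -⟩ := exists_semilinear_equiv (R' := Localization.Away f) a i
    (LocalizedModule (Submonoid.powers f) M)
  have h1 : Subsingleton (H (a.map (algebraMap R (Localization.Away f))) i
      (LocalizedModule (Submonoid.powers f) M)) := by
    apply subsingleton_of_supportDim_lt
    refine (Module.supportDim_le_ringKrullDim _ _).trans_lt
      ((ringKrullDim_localization_away_lt f hf d hd).trans_le ?_)
    exact_mod_cast hi
  exact φ.symm.toEquiv.subsingleton

/-- key step: remove one generator lying in the Jacobson radical. -/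
lemma subsingleton_of_sup_span_of_mem_jacobson (a : Ideal R) (f : R)
    (hf : f ∈ (⊥ : Ideal R).jacobson) (d : ℕ) (hd : ringKrullDim R = d) (M : Type u)
    [AddCommGroup M] [Module R M] (i : ℕ) (hi : d ≤ i)
    (h : Subsingleton (H (a ⊔ Ideal.span {f}) i M)) : Subsingleton (H a i M) := by
  apply subsingleton_of_forall_eq_zero
  intro x
  have h1 : locMap a f i M x = 0 :=
    (subsingleton_H_localizedModule_away a f hf d hd M i hi).elim _ _
  obtain ⟨y, rfl⟩ := (exact_comparison_locMap a f M i x).mp h1
  rw [h.elim y 0, map_zero]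

lemma subsingleton_of_sup_span_finset_of_mem_jacobson (a : Ideal R) (s : Finset R)
    (hs : ∀ f ∈ s, f ∈ (⊥ : Ideal R).jacobson) (d : ℕ) (hd : ringKrullDim R = d) (M : Type u)
    [AddCommGroup M] [Module R M] (i : ℕ) (hi : d ≤ i)
    (h : Subsingleton (H (a ⊔ Ideal.span (s : Set R)) i M)) : Subsingleton (H a i M) := by
  classical
  induction s using Finset.induction_on with
  | empty =>
    rw [Finset.coe_empty, Ideal.span_empty, sup_bot_eq] at h
    exact h
  | insert b s hb ih =>
    apply ih (fun f hf => hs f (Finset.mem_insert_of_mem hf))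
    apply subsingleton_of_sup_span_of_mem_jacobson _ b (hs b (Finset.mem_insert_self b s)) d hd M
      i hi
    rw [Finset.coe_insert, Ideal.span_insert, sup_comm (Ideal.span {b}), ← sup_assoc] at h
    exact h

theorem top_vanishing_of_le_jacobson (d : ℕ) (hd : ringKrullDim R = d) (I I' : Ideal R)
    (hII' : I ≤ I') (hJ : I' ≤ (⊥ : Ideal R).jacobson) (M : Type u) [AddCommGroup M]
    [Module R M] (i : ℕ) (hi : d ≤ i) (h : Subsingleton (H I' i M)) :
    Subsingleton (H I i M) := by
  obtain ⟨s, hs⟩ := (IsNoetherian.noetherian I' : I'.FG)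
  have hs' : Ideal.span (s : Set R) = I' := hs
  apply subsingleton_of_sup_span_finset_of_mem_jacobson I s
    (fun f hf => hJ (hs' ▸ Ideal.subset_span hf)) d hd M i hi
  rw [hs', sup_eq_right.mpr hII']
  exact h

end Groth.Agent.Helper8.LC
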