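import Groth.Agent.Lib.Helper8.LC47

set_option autoImplicit false
universe u
open CategoryTheory CategoryTheory.Limits Opposite

namespace Groth.Agent.Helper8.LC

open Abelian localCohomology LocCoh

variable {R : Type u} [CommRing R] [IsNoetherianRing R] [IsLocalRing R]

/-- an ideal of positive dimension lies in a prime of dimension one. -/
lemma exists_prime_dim_one (I : Ideal R) (hI : 0 < ringKrullDim (R ⧸ I)) :
    ∃ p : Ideal R, p.IsPrime ∧ I ≤ p ∧ ringKrullDim (R ⧸ p) = 1 := by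
  rw [ringKrullDim_quotient, Order.krullDim_pos_iff] at hI
  obtain ⟨x, y, hxy⟩ := hI
  let m := IsLocalRing.maximalIdeal R
  have hx : x.1.asIdeal ≠ m := by
    intro h
    have h1 : y.1.asIdeal ≤ m := IsLocalRing.le_maximalIdeal y.1.isPrime.ne_top
    have h2 : x.1.asIdeal < y.1.asIdeal := hxy
    exact absurd (h ▸ h2) (not_lt_of_ge h1)
  let 𝒮 : Set (Ideal R) := {q | q.IsPrime ∧ x.1.asIdeal ≤ q ∧ q ≠ m}
  have h𝒮 : 𝒮.Nonempty := ⟨x.1.asIdeal, x.1.isPrime, le_rfl, hx⟩
  obtain ⟨p, ⟨hp, hxp, hpm⟩, hmax⟩ :=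
    (set_has_maximal_iff_noetherian (R := R) (M := R)).mpr inferInstance 𝒮 h𝒮
  have hIp : I ≤ p := fun r hr => hxp (x.2 hr)
  refine ⟨p, hp, hIp, ?_⟩
  rw [ringKrullDim_quotient]
  apply le_antisymm
  · rw [Order.krullDim_le_one_iff]
    rintro ⟨P, hP⟩
    have hP' : p ≤ P.asIdeal := hP
    by_cases hPm : P.asIdeal = m
    · right
      intro z hz
      have h1 : z.1.asIdeal ≤ m := IsLocalRing.le_maximalIdeal z.1.isPrime.ne_top
      change z.1.asIdeal ≤ P.asIdeal
      rw [hPm]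
      exact h1
    · left
      have hmem : P.asIdeal ∈ 𝒮 := ⟨P.isPrime, hxp.trans hP', hPm⟩
      have heq : p = P.asIdeal := by
        by_contra hne
        exact hmax _ hmem (lt_of_le_of_ne hP' hne)
      intro z hz
      change P.asIdeal ≤ z.1.asIdeal
      rw [← heq]
      exact z.2
  · rw [Order.one_le_krullDim_iff]
    have hm : m.IsPrime := (IsLocalRing.maximalIdeal.isMaximal R).isPrime
    have hpm' : p ≤ m := IsLocalRing.le_maximalIdeal hp.ne_top
    refine ⟨⟨⟨p, hp⟩, fun r hr => hr⟩, ⟨⟨m, hm⟩, fun r hr => hpm' hr⟩, ?_⟩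
    refine lt_of_le_of_ne hpm' (fun h => hpm ?_)
    exact congrArg (fun z => z.1.asIdeal) h

theorem forall_H_dim_subsingleton_iff (d : ℕ) (hd : ringKrullDim R = d) :
    (∀ I : Ideal R, 0 < ringKrullDim (R ⧸ I) → Subsingleton (LocCoh.H I d R)) ↔
      (∀ (p : Ideal R) [p.IsPrime], ringKrullDim (R ⧸ p) = 1 →
        Subsingleton (LocCoh.H p d R)) := by
  constructor
  · intro h p _ hp
    apply h p
    rw [hp]
    exact zero_lt_one
  · intro h I hI
    obtain ⟨p, hp, hIp, hp1⟩ := exists_prime_dim_one I hI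
    haveI := hp
    have hJ : p ≤ (⊥ : Ideal R).jacobson := by
      rw [IsLocalRing.jacobson_eq_maximalIdeal ⊥ bot_ne_top]
      exact IsLocalRing.le_maximalIdeal hp.ne_top
    exact top_vanishing_of_le_jacobson d hd I p hIp hJ R d le_rfl (h p hp1)

end Groth.Agent.Helper8.LC
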