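import Groth.Agent.Lib.Helper8.LC49

set_option autoImplicit false
universe u
open CategoryTheory CategoryTheory.Limits Opposite

namespace Groth.Agent.Helper8.LC

open Abelian localCohomology LocCoh

variable {R : Type u} [CommRing R]

/-- objects of the filtered category attached to a submonoid. -/
structure SObj (S : Submonoid R) : Type u where
  /-- the underlying element. -/
  val : S

namespace SObj

variable (S : Submonoid R)

instance : Category.{u} (SObj S) where
  Hom s t := {w : S // s.val * w = t.val}
  id s := ⟨1, mul_one _⟩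
  comp f g := ⟨f.1 * g.1, by rw [← mul_assoc, f.2, g.2]⟩
  id_comp f := Subtype.ext (one_mul _)
  comp_id f := Subtype.ext (mul_one _)
  assoc f g h := Subtype.ext (mul_assoc _ _ _)

lemma comp_val {s t w : SObj S} (f : s ⟶ t) (g : t ⟶ w) : (f ≫ g).1 = f.1 * g.1 := rfl

lemma id_val (s : SObj S) : (𝟙 s : s ⟶ s).1 = 1 := rfl

instance : Nonempty (SObj S) := ⟨⟨1⟩⟩

instance : IsFiltered (SObj S) where
  cocone_objs s t := ⟨⟨s.val * t.val⟩, ⟨t.val, rfl⟩, ⟨s.val, mul_comm _ _⟩, trivial⟩
  cocone_maps s t f g := ⟨⟨t.val * s.val⟩, ⟨s.val, rfl⟩, by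
    apply Subtype.ext
    change f.1 * s.val = g.1 * s.val
    rw [mul_comm f.1, mul_comm g.1, f.2, g.2]⟩

end SObj

section Diagram

variable (S : Submonoid R) (M : Type u) [AddCommGroup M] [Module R M]

/-- the diagram of copies of `M` indexed by `S`. -/
noncomputable def sDiagram : SObj S ⥤ ModuleCat.{u} R where
  obj _ := ModuleCat.of R M
  map f := ((f.1 : S) : R) • 𝟙 (ModuleCat.of R M)
  map_id s := by rw [SObj.id_val]; exact one_smul _ _
  map_comp f g := by
    rw [SObj.comp_val, Linear.smul_comp, Linear.comp_smul, Category.comp_id, smul_smul,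
      Submonoid.coe_mul, mul_comm]

/-- the map `x ↦ x / s`. -/
noncomputable def sι (s : S) : M →ₗ[R] LocalizedModule S M :=
  (LocalizedModule.divBy s).comp (LocalizedModule.mkLinearMap S M)

lemma sι_apply (s : S) (x : M) : sι S M s x = LocalizedModule.mk x s := by
  change LocalizedModule.divBy s (LocalizedModule.mk x 1) = _
  rw [LocalizedModule.divBy_apply]
  change LocalizedModule.mk x (1 * s) = _
  rw [one_mul]

lemma sι_one : sι S M 1 = LocalizedModule.mkLinearMap S M := by
  apply LinearMap.ext
  intro x
  rw [sι_apply]
  rfl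

lemma smul_sι (s : S) (x : M) :
    (s : R) • sι S M s x = LocalizedModule.mkLinearMap S M x := by
  rw [sι_apply]
  change (s : R) • LocalizedModule.mk x s = LocalizedModule.mk x 1
  rw [LocalizedModule.smul'_mk]
  exact LocalizedModule.mk_cancel s x

/-- the cocone with vertex the localization. -/
noncomputable def sCocone : Cocone (sDiagram S M) where
  pt := ModuleCat.of R (LocalizedModule S M)
  ι :=
    { app := fun s => ModuleCat.ofHom (sι S M s.val)
      naturality := by
        intro s t f
        apply ModuleCat.hom_ext
        apply LinearMap.ext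
        intro x
        change M at x
        change sι S M t.val (((f.1 : S) : R) • x) = sι S M s.val x
        rw [sι_apply, sι_apply, LocalizedModule.mk_eq]
        refine ⟨1, ?_⟩
        rw [one_smul, one_smul]
        have h2 : (t.val : R) = (s.val : R) * ((f.1 : S) : R) := by
          rw [← Submonoid.coe_mul, f.2]
        change (s.val : R) • ((f.1 : S) : R) • x = (t.val : R) • x
        rw [smul_smul, h2] }

/-- the cocone is a colimit. -/
noncomputable def sIsColimit : IsColimit (sCocone S M) := by
  apply isColimitOfReflects (forget (ModuleCat.{u} R))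
  apply Types.FilteredColimit.isColimitOf
  · intro y
    change LocalizedModule S M at y
    induction y using LocalizedModule.induction_on with
    | h x s =>
      refine ⟨⟨s⟩, x, ?_⟩
      change LocalizedModule.mk x s = sι S M s x
      rw [sι_apply]
  · intro s t x y hxy
    change M at x
    change M at y
    have hxy' : sι S M s.val x = sι S M t.val y := hxy
    rw [sι_apply, sι_apply, LocalizedModule.mk_eq] at hxy'
    obtain ⟨w, hw⟩ := hxy'
    have hw' : (w : R) • (t.val : R) • x = (w : R) • (s.val : R) • y := hw
    refine ⟨⟨s.val * t.val * w⟩, ⟨t.val * w, by rw [mul_assoc]⟩,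
      ⟨s.val * w, by rw [mul_comm s.val t.val, mul_assoc]⟩, ?_⟩
    change ((t.val * w : S) : R) • x = ((s.val * w : S) : R) • y
    rw [Submonoid.coe_mul, Submonoid.coe_mul, mul_comm (t.val : R), mul_comm (s.val : R),
      mul_smul, mul_smul]
    exact hw'

end Diagram

section T3gen

variable [IsNoetherianRing R] (a : Ideal R) (S : Submonoid R) (i : ℕ) (M : Type u)
  [AddCommGroup M] [Module R M]

/-- the map on local cohomology induced by the localization map `M → S⁻¹M`. -/
noncomputable def locMapS : H a i M →ₗ[R] H a i (LocalizedModule S M) :=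
  ((localCohomology a i).map (ModuleCat.ofHom (LocalizedModule.mkLinearMap S M))).hom

omit [IsNoetherianRing R] in
lemma smul_bijective_localizedModule' (s : S) :
    Function.Bijective (fun x : LocalizedModule S M => (s : R) • x) := by
  have h := IsLocalizedModule.map_units (LocalizedModule.mkLinearMap S M) s
  exact (Module.End.isUnit_iff _).mp h

omit [IsNoetherianRing R] in
lemma smul_bijective_H_localizedModule (s : S) :
    Function.Bijective (fun z : H a i (LocalizedModule S M) => (s : R) • z) :=
  smul_bijective_H a i _ (s : R) (smul_bijective_localizedModule' S M s)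

lemma exists_smul_of_locMapS_eq_zero (x : H a i M) (hx : locMapS a S i M x = 0) :
    ∃ s : S, (s : R) • x = 0 := by
  have hx' : ((localCohomology a i).map ((sCocone S M).ι.app ⟨1⟩)) x = 0 := by
    change ((localCohomology a i).map (ModuleCat.ofHom (sι S M 1))) x = 0
    rw [sι_one]
    exact hx
  obtain ⟨k, f, hk⟩ := H_exists_kill (sIsColimit S M) a i (j := ⟨1⟩) x hx'
  refine ⟨f.1, ?_⟩
  change ((localCohomology a i).map (((f.1 : S) : R) • 𝟙 (ModuleCat.of R M))) x = 0 at hk
  rw [map_smul_id] at hk
  exact hk

lemma exists_smul_eq_locMapS (y : H a i (LocalizedModule S M)) :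
    ∃ (s : S) (x : H a i M), (s : R) • y = locMapS a S i M x := by
  obtain ⟨k, x, hx⟩ := H_exists_rep (sIsColimit S M) a i y
  have key : ∀ x' : H a i M,
      (k.val : R) • ((localCohomology a i).map (ModuleCat.ofHom (sι S M k.val))) x' =
        locMapS a S i M x' := by
    intro x'
    rw [← map_smul_hom]
    have : (k.val : R) • ModuleCat.ofHom (sι S M k.val) =
        ModuleCat.ofHom (LocalizedModule.mkLinearMap S M) := by
      apply ModuleCat.hom_ext
      apply LinearMap.ext
      intro m
      exact smul_sι S M k.val m
    rw [this]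
    rfl
  refine ⟨k.val, x, ?_⟩
  rw [← hx]
  exact key x

/-- local cohomology commutes with localization. -/
instance isLocalizedModule_locMapS : IsLocalizedModule S (locMapS a S i M) where
  map_units := by
    intro s
    exact (Module.End.isUnit_iff _).mpr (smul_bijective_H_localizedModule a S i M s)
  surj := by
    intro y
    obtain ⟨s, x, hx⟩ := exists_smul_eq_locMapS a S i M y
    exact ⟨⟨x, s⟩, hx⟩
  exists_of_eq := by
    intro x₁ x₂ h
    have h0 : locMapS a S i M (x₁ - x₂) = 0 := by rw [map_sub, h, sub_self]
    obtain ⟨s, hs⟩ := exists_smul_of_locMapS_eq_zero a S i M _ h0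
    refine ⟨s, ?_⟩
    change (s : R) • x₁ = (s : R) • x₂
    rw [smul_sub, sub_eq_zero] at hs
    exact hs

end T3gen

end Groth.Agent.Helper8.LC
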