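import Groth.Agent.Lib.Helper8.LC51
import Groth.Agent.Lib.Helper8.ABS19

set_option autoImplicit false
universe u
open CategoryTheory CategoryTheory.Limits Opposite

namespace Groth.Agent.Helper8.LC

open Abelian localCohomology LocCoh

theorem not_finite_H_top_of_regular (R : Type u) [CommRing R] [IsRegularLocalRing R] (d : ℕ)
    (hd : 0 < d) (hdim : ringKrullDim R = d) :
    ¬ Module.Finite R (LocCoh.H (IsLocalRing.maximalIdeal R) d R) := by
  intro hfin
  let m := IsLocalRing.maximalIdeal R
  have hdepth : LocCoh.depth R R = d := by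
    have h := Groth.Agent.Helper8.ABS.depth_eq_dim_of_regular R
    rw [hdim] at h
    have h' : ((LocCoh.depth R R : ℕ∞) : WithBot ℕ∞) = ((d : ℕ∞) : WithBot ℕ∞) := h
    exact WithBot.coe_injective h'
  have hne : m • (⊤ : Submodule R R) ≠ ⊤ := Depth.smul_top_ne_top_of_local R R
  have hn : idealDepth m R = d := hdepth
  have hnt : Nontrivial (H m d R) := nontrivial_of_idealDepth_eq m hne d hn
  have h1 : ((1 : ℕ) : ℕ∞) ≤ idealDepth m R := by
    rw [hn]; exact_mod_cast hd
  obtain ⟨rs, hlen, hreg, hmem⟩ := (Depth.le_idealDepth_iff hne 1).mp h1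
  obtain ⟨x, rfl⟩ := List.length_eq_one_iff.mp hlen
  have hx : IsSMulRegular R x := (RingTheory.Sequence.isWeaklyRegular_singleton_iff R x).mp hreg
  have hxm : x ∈ m := hmem x (List.mem_singleton_self x)
  have hxnzd : x ∈ nonZeroDivisors R := by
    rw [mem_nonZeroDivisors_iff_right]
    intro y hy
    apply hx
    change x * y = x * 0
    rw [mul_zero, mul_comm]
    exact hy
  have hf : ∀ p ∈ minimalPrimes R, ringKrullDim (R ⧸ p) = d → x ∉ p := by
    intro p hp _ hxp
    exact Set.disjoint_left.mp (Ideal.disjoint_nonZeroDivisors_of_mem_minimalPrimes hp) hxp hxnzd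
  have hsurj := smul_surjective_top m d hdim x hf R
  have htop : (⊤ : Submodule R (H m d R)) = ⊥ := by
    apply Submodule.eq_bot_of_le_smul_of_le_jacobson_bot m ⊤ (Module.finite_def.mp hfin)
    · intro y _
      obtain ⟨z, rfl⟩ := hsurj y
      exact Submodule.smul_mem_smul hxm Submodule.mem_top
    · exact IsLocalRing.maximalIdeal_le_jacobson _
  obtain ⟨y, hy⟩ := exists_ne (0 : H m d R)
  have : y ∈ (⊥ : Submodule R (H m d R)) := by rw [← htop]; exact Submodule.mem_top
  exact hy ((Submodule.mem_bot R).mp this)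

end Groth.Agent.Helper8.LC
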