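import Groth.Agent.Lib.Helper8.LC51

/-!
# The comparison map `H^i_{I'}(M) → H^i_I(M)` for `I ≤ I'` (S1806)
-/

set_option autoImplicit false
universe u
open CategoryTheory CategoryTheory.Limits Opposite

namespace Groth.Agent.Helper8.LC

open Abelian localCohomology LocCoh IsLocalRing

section Functoriality

variable {R : Type u} [CommRing R]

lemma qm_comp {I J K : Ideal R} (h₁ : I ≤ J) (h₂ : J ≤ K) (n : ℕ) :
    qm h₁ n ≫ qm h₂ n = qm (h₁.trans h₂) n := by
  apply ModuleCat.hom_ext
  apply LinearMap.ext
  intro x
  obtain ⟨x, rfl⟩ := Submodule.Quotient.mk_surjective _ x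
  rfl

lemma qm_refl (I : Ideal R) (n : ℕ) : qm (le_refl I) n = 𝟙 (Q I n) := by
  apply ModuleCat.hom_ext
  apply LinearMap.ext
  intro x
  obtain ⟨x, rfl⟩ := Submodule.Quotient.mk_surjective _ x
  rfl

lemma θ_comp {I J K : Ideal R} (h₁ : I ≤ J) (h₂ : J ≤ K) (i : ℕ) (M : ModuleCat.{u} R)
    (x : (localCohomology K i).obj M) :
    θ h₁ i M (θ h₂ i M x) = θ (h₁.trans h₂) i M x := by
  obtain ⟨n, e, rfl⟩ := ι_rep K i M x
  rw [θ_ι, θ_ι, θ_ι, ← qm_comp h₁ h₂ n, ← Ext.mk₀_comp_mk₀,
    Ext.comp_assoc _ _ _ (zero_add 0) (zero_add i) (by omega)]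

lemma θ_refl (I : Ideal R) (i : ℕ) (M : ModuleCat.{u} R) (x : (localCohomology I i).obj M) :
    θ (le_refl I) i M x = x := by
  obtain ⟨n, e, rfl⟩ := ι_rep I i M x
  rw [θ_ι, qm_refl, Ext.mk₀_id_comp]

end Functoriality

section Radical

variable {R : Type u} [CommRing R]

/-- At a minimal prime `p` of `I`, the ideal `I R_p` has the same radical as the maximal ideal. -/
lemma radical_map_eq_of_mem_minimalPrimes (I p : Ideal R) [hp' : p.IsPrime]
    (hp : p ∈ I.minimalPrimes) :
    (I.map (algebraMap R (Localization.AtPrime p))).radical =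
      (maximalIdeal (Localization.AtPrime p)).radical := by
  apply le_antisymm
  · apply Ideal.radical_mono
    rw [← Localization.AtPrime.map_eq_maximalIdeal]
    exact Ideal.map_mono hp.1.2
  · rw [Ideal.radical_eq_sInf (I.map (algebraMap R (Localization.AtPrime p)))]
    refine le_sInf ?_
    rintro Q ⟨hIQ, hQ⟩
    haveI := hQ
    have hq : (Q.comap (algebraMap R (Localization.AtPrime p))).IsPrime := Ideal.comap_isPrime _ Q
    have hIq : I ≤ Q.comap (algebraMap R (Localization.AtPrime p)) :=
      Ideal.map_le_iff_le_comap.mp hIQ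
    have hqp : Q.comap (algebraMap R (Localization.AtPrime p)) ≤ p :=
      (Ideal.comap_mono (IsLocalRing.le_maximalIdeal hQ.ne_top)).trans
        (Localization.AtPrime.under_maximalIdeal (I := p)).le
    have hpq : p ≤ Q.comap (algebraMap R (Localization.AtPrime p)) := hp.2 ⟨hq, hIq⟩ hqp
    have heq : Q.comap (algebraMap R (Localization.AtPrime p)) = p := le_antisymm hqp hpq
    have hQ' : Q = maximalIdeal (Localization.AtPrime p) := by
      have h1 : Ideal.map (algebraMap R (Localization.AtPrime p))
          (Q.comap (algebraMap R (Localization.AtPrime p))) = Q :=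
        IsLocalization.map_under p.primeCompl _ Q
      rw [heq] at h1
      rw [← h1]
      exact Localization.AtPrime.map_eq_maximalIdeal
    rw [hQ', (maximalIdeal.isMaximal _).isPrime.radical]

end Radical

variable {R : Type u} [CommRing R] [IsNoetherianRing R]

/-- The key vanishing principle: if the local cohomology of `M_p` with respect to the maximal
ideal of `R_p` vanishes in degree `j` for all primes `p ⊇ I` not containing `b`, then every
element of `H^j_I(M)` is killed by a power of `b`. -/
theorem exists_pow_smul_eq_zero_of_forall_local (b : R) (M : Type u) [AddCommGroup M]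
    [Module R M] (j : ℕ) (I : Ideal R)
    (hyp : ∀ p : PrimeSpectrum R, I ≤ p.asIdeal → b ∉ p.asIdeal →
      Subsingleton (H (maximalIdeal (Localization.AtPrime p.asIdeal)) j
        (LocalizedModule p.asIdeal.primeCompl M))) :
    ∀ x : H I j M, ∃ n : ℕ, b ^ n • x = 0 := by
  induction I using IsNoetherian.induction with
  | hgt I ih =>
    intro x
    by_cases hb : b ∈ Ideal.radical I
    · obtain ⟨k, hk⟩ := hb
      obtain ⟨n, hn⟩ := isPowerTorsion I j (ModuleCat.of R M) x
      refine ⟨k * n, ?_⟩
      apply hn
      rw [pow_mul]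
      exact Ideal.pow_mem_pow hk n
    · -- a minimal prime of `I` not containing `b`
      have hex : ∃ q : Ideal R, q.IsPrime ∧ I ≤ q ∧ b ∉ q := by
        by_contra hcon
        apply hb
        rw [Ideal.radical_eq_sInf, Ideal.mem_sInf]
        rintro q ⟨hIq, hq⟩
        by_contra hbq
        exact hcon ⟨q, hq, hIq, hbq⟩
      obtain ⟨q, hq, hIq, hbq⟩ := hex
      haveI := hq
      obtain ⟨p, hp, hpq⟩ := Ideal.exists_minimalPrimes_le hIq
      haveI hpp : p.IsPrime := hp.1.1
      have hbp : b ∉ p := fun h => hbq (hpq h)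
      -- local cohomology of the localization vanishes
      have h1 := hyp ⟨p, hpp⟩ hp.1.2 hbp
      have h2 : Subsingleton (H (Ideal.map (algebraMap R (Localization.AtPrime p)) I) j
          (LocalizedModule p.primeCompl M)) := by
        have e := (localCohomology.isoOfSameRadical
          (radical_map_eq_of_mem_minimalPrimes I p hp) j).app
            (ModuleCat.of (Localization.AtPrime p) (LocalizedModule p.primeCompl M))
        exact (e.toLinearEquiv.toEquiv).subsingleton
      have h3 : Subsingleton (H I j (LocalizedModule p.primeCompl M)) := by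
        obtain ⟨φ, -⟩ := exists_semilinear_equiv (R' := Localization.AtPrime p) I j
          (LocalizedModule p.primeCompl M)
        exact φ.symm.toEquiv.subsingleton
      have h4 : locMapS I p.primeCompl j M x = 0 := h3.elim _ _
      obtain ⟨s, hs⟩ := exists_smul_of_locMapS_eq_zero I p.primeCompl j M x h4
      have hsI : (s : R) ∉ I := fun h => s.2 (hp.1.2 h)
      have hlt : I < I ⊔ Ideal.span {(s : R)} := by
        refine lt_of_le_of_ne le_sup_left ?_
        intro heq
        apply hsI
        rw [heq]
        exact Ideal.mem_sup_right (Ideal.mem_span_singleton_self _)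
      have ih' := ih (I ⊔ Ideal.span {(s : R)}) hlt
        (fun p' hp' hbp' => hyp p' (le_sup_left.trans hp') hbp')
      have hx : x ∈ LinearMap.range (θb I (s : R) j (ModuleCat.of R M)) :=
        mem_range_θb I (s : R) j M x 1 (by rw [pow_one]; exact hs)
      obtain ⟨y, rfl⟩ := hx
      obtain ⟨n, hn⟩ := ih' y
      exact ⟨n, by rw [← map_smul, hn, map_zero]⟩

/-- The single step `I ≤ I ⊔ (b)`. -/
theorem θb_surjective_of_forall_local (I : Ideal R) (b : R) (M : Type u) [AddCommGroup M]
    [Module R M] (i : ℕ)
    (hyp : ∀ p : PrimeSpectrum R, I ≤ p.asIdeal → b ∉ p.asIdeal →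
      Subsingleton (H (maximalIdeal (Localization.AtPrime p.asIdeal)) i
        (LocalizedModule p.asIdeal.primeCompl M))) :
    Function.Surjective (θb I b i (ModuleCat.of R M)) := by
  intro x
  obtain ⟨n, hn⟩ := exists_pow_smul_eq_zero_of_forall_local b M i I hyp x
  exact mem_range_θb I b i M x n hn

theorem θb_injective_of_forall_local (I : Ideal R) (b : R) (M : Type u) [AddCommGroup M]
    [Module R M] (i : ℕ)
    (hyp : ∀ p : PrimeSpectrum R, I ≤ p.asIdeal → b ∉ p.asIdeal → ∀ j : ℕ, j + 1 = i →
      Subsingleton (H (maximalIdeal (Localization.AtPrime p.asIdeal)) j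
        (LocalizedModule p.asIdeal.primeCompl M))) :
    Function.Injective (θb I b i (ModuleCat.of R M)) := by
  rcases i with _ | j
  · exact θ_injective_zero _ _
  · have hyp' : ∀ p : PrimeSpectrum R, I ≤ p.asIdeal → b ∉ p.asIdeal →
        Subsingleton (H (maximalIdeal (Localization.AtPrime p.asIdeal)) j
          (LocalizedModule p.asIdeal.primeCompl M)) := fun p hp hbp => hyp p hp hbp j rfl
    have htors := exists_pow_smul_eq_zero_of_forall_local b M j I hyp'
    -- `H^j_I(M_b) = 0`
    have hsub : Subsingleton (H I j (LocalizedModule (Submonoid.powers b) M)) := by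
      apply subsingleton_of_forall_eq_zero
      intro y
      obtain ⟨n, x, hx⟩ := exists_pow_smul_eq_locMap I b j M y
      obtain ⟨m, hm⟩ := htors x
      rw [locMap_eq_zero_of_pow_smul I b j M x m hm] at hx
      apply (pow_smul_bijective_H_localizedModule I b j M n).1
      change b ^ n • y = b ^ n • 0
      rw [hx, smul_zero]
    obtain ⟨e⟩ := nonempty_coker_locMap_equiv I b M j
    have hker : Subsingleton (LinearMap.ker (θb I b (j + 1) (ModuleCat.of R M))) :=
      e.symm.toEquiv.subsingleton
    rw [← LinearMap.ker_eq_bot, ← Submodule.subsingleton_iff_eq_bot]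
    exact hker

/-- **S1806.** -/
theorem comparison_surjective_injective (I' : Ideal R) (M : Type u) [AddCommGroup M]
    [Module R M] (i : ℕ) (I : Ideal R) :
    ∀ (h : I ≤ I'),
    ((∀ p : PrimeSpectrum R, I ≤ p.asIdeal → ¬ I' ≤ p.asIdeal →
        Subsingleton (H (maximalIdeal (Localization.AtPrime p.asIdeal)) i
          (LocalizedModule p.asIdeal.primeCompl M))) →
      Function.Surjective (θ h i (ModuleCat.of R M))) ∧
    ((∀ p : PrimeSpectrum R, I ≤ p.asIdeal → ¬ I' ≤ p.asIdeal → ∀ j : ℕ, j + 1 = i →
        Subsingleton (H (maximalIdeal (Localization.AtPrime p.asIdeal)) j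
          (LocalizedModule p.asIdeal.primeCompl M))) →
      Function.Injective (θ h i (ModuleCat.of R M))) := by
  induction I using IsNoetherian.induction with
  | hgt I ih =>
    intro h
    by_cases heq : I = I'
    · subst heq
      have hid : ∀ x, θ h i (ModuleCat.of R M) x = x := fun x => θ_refl I i _ x
      exact ⟨fun _ x => ⟨x, hid x⟩, fun _ x y hxy => by rw [← hid x, ← hid y]; exact hxy⟩
    · have hex : ∃ b ∈ I', b ∉ I := by
        by_contra hcon
        apply heq
        apply le_antisymm h
        intro b hb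
        by_contra hbI
        exact hcon ⟨b, hb, hbI⟩
      obtain ⟨b, hbI', hbI⟩ := hex
      have hlt : I < I ⊔ Ideal.span {b} := by
        refine lt_of_le_of_ne le_sup_left ?_
        intro heq'
        apply hbI
        rw [heq']
        exact Ideal.mem_sup_right (Ideal.mem_span_singleton_self _)
      have hJ : I ⊔ Ideal.span {b} ≤ I' :=
        sup_le h ((Ideal.span_singleton_le_iff_mem _).mpr hbI')
      have ihJ := ih (I ⊔ Ideal.span {b}) hlt hJ
      have hfac : ∀ x, θ h i (ModuleCat.of R M) x =
          θb I b i (ModuleCat.of R M) (θ hJ i (ModuleCat.of R M) x) := fun x =>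
        (θ_comp (le_sup_left : I ≤ I ⊔ Ideal.span {b}) hJ i _ x).symm
      constructor
      · intro hyp
        have h1 := ihJ.1 (fun p hp hp' => hyp p (le_sup_left.trans hp) hp')
        have h2 := θb_surjective_of_forall_local I b M i
          (fun p hp hbp => hyp p hp (fun hle => hbp (hle hbI')))
        intro x
        obtain ⟨y, rfl⟩ := h2 x
        obtain ⟨z, rfl⟩ := h1 y
        exact ⟨z, hfac z⟩
      · intro hyp
        have h1 := ihJ.2 (fun p hp hp' => hyp p (le_sup_left.trans hp) hp')
        have h2 := θb_injective_of_forall_local I b M i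
          (fun p hp hbp => hyp p hp (fun hle => hbp (hle hbI')))
        intro x y hxy
        rw [hfac x, hfac y] at hxy
        exact h1 (h2 hxy)

end Groth.Agent.Helper8.LC
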