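import Groth.Agent.Lib.Helper8.LC46
import Groth.Agent.Lib.Helper8.LC55

/-!
# Local cohomology only depends on the radical of the ideal
-/

set_option autoImplicit false
universe u
open CategoryTheory CategoryTheory.Limits Opposite

namespace Groth.Agent.Helper8.LC

open Abelian localCohomology LocCoh

variable {R : Type u} [CommRing R]

section Deg0

variable (I J : Ideal R)
  (h : ∀ (X : Type u) [AddCommGroup X] [Module R X],
    DRing.torsionSub I X = DRing.torsionSub J X)

/-- the comparison in degree zero. -/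
noncomputable def h0Rad (X : Type u) [AddCommGroup X] [Module R X] : H J 0 X ≃ₗ[R] H I 0 X :=
  (h0Equiv J (ModuleCat.of R X)) ≪≫ₗ (LinearEquiv.ofEq _ _ (h X).symm) ≪≫ₗ
    (h0Equiv I (ModuleCat.of R X)).symm

lemma ev0_h0Rad (X : Type u) [AddCommGroup X] [Module R X] (y : H J 0 X) :
    ev0 I (ModuleCat.of R X) (h0Rad I J h X y) = ev0 J (ModuleCat.of R X) y := by
  rw [← h0Equiv_apply]
  change ((h0Equiv I (ModuleCat.of R X)) ((h0Equiv I (ModuleCat.of R X)).symm _) : X) = _
  rw [LinearEquiv.apply_symm_apply]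
  rfl

lemma h0Rad_natural {X Y : Type u} [AddCommGroup X] [Module R X] [AddCommGroup Y] [Module R Y]
    (g : X →ₗ[R] Y) (y : H J 0 X) :
    h0Rad I J h Y (((localCohomology J 0).map (ModuleCat.ofHom g)) y) =
      ((localCohomology I 0).map (ModuleCat.ofHom g)) (h0Rad I J h X y) := by
  apply ev0_injective I (ModuleCat.of R Y)
  rw [ev0_h0Rad, ev0_map, ev0_map, ev0_h0Rad]

end Deg0

variable [IsNoetherianRing R]

/-- ideals with the same torsion functor have the same local cohomology. -/
theorem exists_equiv_of_torsionSub_eq (I J : Ideal R)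
    (h : ∀ (X : Type u) [AddCommGroup X] [Module R X],
      DRing.torsionSub I X = DRing.torsionSub J X) (i : ℕ) (M : Type u) [AddCommGroup M]
    [Module R M] :
    ∃ φ : H J i M ≃+ H I i M, ∀ (r : R) (x : H J i M), φ (r • x) = r • φ x := by
  induction i generalizing M with
  | zero => exact ⟨(h0Rad I J h M).toAddEquiv, fun r x => (h0Rad I J h M).map_smul r x⟩
  | succ i ih =>
    let E₀ : ModuleCat.{u} R := Injective.under (ModuleCat.of R M)
    let ι₀ : ModuleCat.of R M ⟶ E₀ := Injective.ι (ModuleCat.of R M)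
    have hι₀ : Function.Injective ι₀.hom := (ModuleCat.mono_iff_injective _).mp inferInstance
    haveI hinj : Injective (ModuleCat.of R E₀) :=
      (inferInstance : Injective (Injective.under (ModuleCat.of R M)))
    let f : M →ₗ[R] E₀ := ι₀.hom
    have hS := sesQuot_shortExact f hι₀
    haveI : Injective (sesQuot f).X₂ := hinj
    let Qm := E₀ ⧸ LinearMap.range f
    rcases Nat.eq_zero_or_pos i with rfl | hi
    · obtain ⟨ψ, hψ⟩ := exists_semi_one (R' := R) J I hS hS (h0Rad I J h Qm).toAddEquiv
        (fun r x => (h0Rad I J h Qm).map_smul r x)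
        (h0Rad I J h E₀).toAddEquiv
        (fun y => h0Rad_natural I J h (LinearMap.range f).mkQ y)
        (δ_surjective_of_injective J 0 hS) (δ_surjective_of_injective I 0 hS)
      exact ⟨ψ, fun r x => hψ r x⟩
    · obtain ⟨φ, hφ⟩ := ih Qm
      obtain ⟨ψ, hψ⟩ := exists_semi_succ (R' := R) J I hS hS i φ (fun r x => hφ r x)
        (δ_bijective_of_injective J i hi hS) (δ_bijective_of_injective I i hi hS)
      exact ⟨ψ, fun r x => hψ r x⟩

/-- **Local cohomology only depends on the radical.** -/
theorem exists_equiv_of_radical_eq (I J : Ideal R) (hIJ : I.radical = J.radical) (i : ℕ)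
    (M : Type u) [AddCommGroup M] [Module R M] :
    ∃ φ : H J i M ≃+ H I i M, ∀ (r : R) (x : H J i M), φ (r • x) = r • φ x := by
  apply exists_equiv_of_torsionSub_eq I J
  intro X _ _
  obtain ⟨a, ha⟩ := Ideal.exists_pow_le_of_le_radical_of_fg
    (show I ≤ J.radical from hIJ ▸ Ideal.le_radical) (IsNoetherian.noetherian I)
  obtain ⟨b, hb⟩ := Ideal.exists_pow_le_of_le_radical_of_fg
    (show J ≤ I.radical from hIJ ▸ Ideal.le_radical) (IsNoetherian.noetherian J)
  exact le_antisymm (torsionSub_le_of_pow_le hb X) (torsionSub_le_of_pow_le ha X)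

theorem subsingleton_H_iff_of_radical_eq (I J : Ideal R) (hIJ : I.radical = J.radical) (i : ℕ)
    (M : Type u) [AddCommGroup M] [Module R M] :
    Subsingleton (H I i M) ↔ Subsingleton (H J i M) := by
  obtain ⟨φ, -⟩ := exists_equiv_of_radical_eq I J hIJ i M
  exact ⟨fun _ => φ.toEquiv.subsingleton, fun _ => φ.symm.toEquiv.subsingleton⟩

end Groth.Agent.Helper8.LC
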