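import Groth.Agent.Lib.Helper8.LC6

set_option autoImplicit false
universe u
open CategoryTheory CategoryTheory.Limits Opposite

namespace Groth.Agent.Helper8.LC

variable {R : Type u} [CommRing R] (J : Ideal R) (i : ℕ)

open Abelian localCohomology

lemma ι_eq_zero_iff {n : ℕ} (M : ModuleCat.{u} R) (e : Abelian.Ext (Q J n) M i) :
    ι J i n M e = 0 ↔ ∃ (k : ℕ) (h : n ≤ k), (Ext.mk₀ (proj J h)).comp e (zero_add i) = 0 := by
  constructor
  · intro h
    have h' : ι J i n M e = ι J i n M 0 := by rw [h, map_zero]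
    obtain ⟨k, hn, hm, hk⟩ := (ι_eq_iff J i M e 0).mp h'
    exact ⟨k, hn, by rw [hk, Ext.comp_zero]⟩
  · rintro ⟨k, h, hk⟩
    rw [← ι_trans J i h, hk, map_zero]

lemma trans_comp {n k : ℕ} (h : n ≤ k) {M M' : ModuleCat.{u} R} {a b c : ℕ}
    (e : Abelian.Ext (Q J n) M a) (β : Abelian.Ext M M' b) (hc : a + b = c) :
    (Ext.mk₀ (proj J h)).comp (e.comp β hc) (zero_add c) =
      ((Ext.mk₀ (proj J h)).comp e (zero_add a)).comp β hc := by
  rw [Ext.comp_assoc _ _ _ (zero_add a) hc (by omega)]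

section LES

variable {S : ShortComplex (ModuleCat.{u} R)} (hS : S.ShortExact)

/-- the connecting map as a function. -/
noncomputable def δFun (x : (localCohomology J i).obj S.X₃) :
    (localCohomology J (i + 1)).obj S.X₁ :=
  ι J (i + 1) (ι_rep J i S.X₃ x).choose S.X₁
    ((ι_rep J i S.X₃ x).choose_spec.choose.comp hS.extClass rfl)

lemma δFun_ι {n : ℕ} (e : Abelian.Ext (Q J n) S.X₃ i) :
    δFun J i hS (ι J i n S.X₃ e) = ι J (i + 1) n S.X₁ (e.comp hS.extClass rfl) := by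
  unfold δFun
  set x := ι J i n S.X₃ e with hx
  have hspec := (ι_rep J i S.X₃ x).choose_spec.choose_spec
  set n' := (ι_rep J i S.X₃ x).choose
  set e' := (ι_rep J i S.X₃ x).choose_spec.choose
  obtain ⟨k, hn, hm, hk⟩ := (ι_eq_iff J i S.X₃ e' e).mp hspec
  rw [← ι_trans J (i + 1) hn, ← ι_trans J (i + 1) hm, trans_comp, trans_comp, hk]

/-- the connecting homomorphism in local cohomology. -/
noncomputable def δ : (localCohomology J i).obj S.X₃ →ₗ[R] (localCohomology J (i + 1)).obj S.X₁ where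
  toFun := δFun J i hS
  map_add' x y := by
    obtain ⟨n, e, rfl⟩ := ι_rep J i S.X₃ x
    obtain ⟨m, e', rfl⟩ := ι_rep J i S.X₃ y
    have hn : n ≤ max n m := le_max_left _ _
    have hm : m ≤ max n m := le_max_right _ _
    rw [← ι_trans J i hn, ← ι_trans J i hm, ← map_add, δFun_ι, δFun_ι, δFun_ι, Ext.add_comp,
      map_add]
  map_smul' r x := by
    obtain ⟨n, e, rfl⟩ := ι_rep J i S.X₃ x
    rw [← map_smul, δFun_ι, δFun_ι, RingHom.id_apply, Ext.smul_comp, map_smul]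

lemma δ_ι {n : ℕ} (e : Abelian.Ext (Q J n) S.X₃ i) :
    δ J i hS (ι J i n S.X₃ e) = ι J (i + 1) n S.X₁ (e.comp hS.extClass rfl) :=
  δFun_ι J i hS e

include hS in
lemma exact_f_g : Function.Exact ((localCohomology J i).map S.f) ((localCohomology J i).map S.g) := by
  intro x
  constructor
  · intro hx
    obtain ⟨n, e, rfl⟩ := ι_rep J i S.X₂ x
    rw [ι_map, ι_eq_zero_iff] at hx
    obtain ⟨k, h, hk⟩ := hx
    rw [trans_comp] at hk
    obtain ⟨e₁, he₁⟩ := Ext.covariant_sequence_exact₂ _ hS _ hk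
    refine ⟨ι J i k S.X₁ e₁, ?_⟩
    rw [ι_map, he₁, ι_trans]
  · rintro ⟨y, rfl⟩
    obtain ⟨n, e, rfl⟩ := ι_rep J i S.X₁ y
    rw [ι_map, ι_map, Ext.comp_assoc_of_third_deg_zero, Ext.mk₀_comp_mk₀, S.zero, Ext.mk₀_zero,
      Ext.comp_zero, map_zero]

lemma exact_g_δ : Function.Exact ((localCohomology J i).map S.g) (δ J i hS) := by
  intro x
  constructor
  · intro hx
    obtain ⟨n, e, rfl⟩ := ι_rep J i S.X₃ x
    rw [δ_ι, ι_eq_zero_iff] at hx
    obtain ⟨k, h, hk⟩ := hx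
    rw [trans_comp] at hk
    obtain ⟨e₂, he₂⟩ := Ext.covariant_sequence_exact₃ _ hS _ rfl hk
    refine ⟨ι J i k S.X₂ e₂, ?_⟩
    rw [ι_map, he₂, ι_trans]
  · rintro ⟨y, rfl⟩
    obtain ⟨n, e, rfl⟩ := ι_rep J i S.X₂ y
    rw [ι_map, δ_ι, Ext.comp_assoc_of_second_deg_zero, hS.comp_extClass, Ext.comp_zero, map_zero]

lemma exact_δ_f : Function.Exact (δ J i hS) ((localCohomology J (i + 1)).map S.f) := by
  intro x
  constructor
  · intro hx
    obtain ⟨n, e, rfl⟩ := ι_rep J (i + 1) S.X₁ x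
    rw [ι_map, ι_eq_zero_iff] at hx
    obtain ⟨k, h, hk⟩ := hx
    rw [trans_comp] at hk
    obtain ⟨e₃, he₃⟩ := Ext.covariant_sequence_exact₁ _ hS _ hk rfl
    refine ⟨ι J i k S.X₃ e₃, ?_⟩
    rw [δ_ι, he₃, ι_trans]
  · rintro ⟨y, rfl⟩
    obtain ⟨n, e, rfl⟩ := ι_rep J i S.X₃ y
    rw [δ_ι, ι_map, Ext.comp_assoc_of_third_deg_zero, hS.extClass_comp, Ext.comp_zero, map_zero]

include hS in
lemma map_f_injective_zero : Function.Injective ((localCohomology J 0).map S.f) := by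
  rw [injective_iff_map_eq_zero]
  intro x hx
  obtain ⟨n, e, rfl⟩ := ι_rep J 0 S.X₁ x
  rw [ι_map, ι_eq_zero_iff] at hx
  obtain ⟨k, h, hk⟩ := hx
  rw [trans_comp] at hk
  have := hS.mono_f
  have h0 := Ext.postcomp_mk₀_injective_of_mono (Q J k) S.f
  have h1 : (Ext.mk₀ (proj J h)).comp e (zero_add 0) = 0 := by
    apply h0
    rw [map_zero]
    exact hk
  rw [← ι_trans J 0 h, h1, map_zero]

end LES

end Groth.Agent.Helper8.LC
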