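import Groth.Agent.Lib.Helper8.LC32
import Mathlib.CategoryTheory.Adjunction.AdjointFunctorTheorems
import Mathlib.Algebra.Category.ModuleCat.AB
import Mathlib.Algebra.Category.ModuleCat.Products
import Mathlib.Algebra.Category.ModuleCat.ChangeOfRings
import Mathlib.Algebra.Homology.ShortComplex.ExactFunctor
import Mathlib.CategoryTheory.Limits.Constructions.LimitsOfProductsAndEqualizers
import Mathlib.CategoryTheory.Abelian.Subobject
import Mathlib.Algebra.Category.ModuleCat.Subobject

/-!
# The top local cohomology functor is cocontinuous, hence a left adjoint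

If `H^{d+1}_J` vanishes identically then `H^d_J` is right exact; it commutes with filtered
colimits (Noetherian case), hence with all coproducts and all colimits.  By the special adjoint
functor theorem it is a left adjoint, and so is its composite with restriction of scalars.
-/

set_option autoImplicit false
universe u
open CategoryTheory CategoryTheory.Limits Opposite

namespace Groth.Agent.Helper8.LCRep

open Groth.Agent.Helper8.LC Abelian localCohomology LocCoh DirectSum

section Additive

variable {R : Type u} [CommRing R] (J : Ideal R) (d : ℕ)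

instance additive : (localCohomology J d).Additive where
  map_add {M M' f g} := by
    apply ModuleCat.hom_ext
    apply LinearMap.ext
    intro x
    exact map_add' J d f g x

lemma map_map_apply {M M' M'' : ModuleCat.{u} R} (f : M ⟶ M') (g : M' ⟶ M'')
    (x : (localCohomology J d).obj M) :
    ((localCohomology J d).map g) (((localCohomology J d).map f) x) =
      ((localCohomology J d).map (f ≫ g)) x := by
  rw [Functor.map_comp]; rfl

lemma map_id_apply {M : ModuleCat.{u} R} (x : (localCohomology J d).obj M) :
    ((localCohomology J d).map (𝟙 M)) x = x := by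
  rw [CategoryTheory.Functor.map_id]; rfl

end Additive

section Finite

variable {R : Type u} [CommRing R] (J : Ideal R) (d : ℕ)

theorem preservesFiniteColimits
    (h : ∀ M : ModuleCat.{u} R, Subsingleton ((localCohomology J (d + 1)).obj M)) :
    PreservesFiniteColimits (localCohomology J d) := by
  apply ((Functor.preservesFiniteColimits_tfae (localCohomology J d)).out 0 3).mp
  intro S hS
  constructor
  · rw [ShortComplex.ShortExact.moduleCat_exact_iff_function_exact]
    exact exact_f_g J d hS
  · rw [ModuleCat.epi_iff_surjective]
    intro x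
    have h0 : δ J d hS x = 0 := (h S.X₁).elim _ _
    exact (exact_g_δ J d hS x).mp h0

end Finite

section Coprod

variable {R : Type u} [CommRing R] [IsNoetherianRing R] (J : Ideal R) (d : ℕ)
variable {ι : Type u} [DecidableEq ι] (Z : ι → ModuleCat.{u} R)

/-- elements of the direct sum supported in the finite set `s`. -/
def supp (s : Finset ι) : Submodule R (⨁ i, Z i) where
  carrier := {z | ∀ i, i ∉ s → z i = 0}
  zero_mem' := fun i _ => DirectSum.zero_apply i
  add_mem' := by
    intro a b ha hb i hi
    rw [DirectSum.add_apply, ha i hi, hb i hi, add_zero]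
  smul_mem' := by
    intro c a ha i hi
    rw [DirectSum.smul_apply, ha i hi, smul_zero]

lemma supp_mono {s t : Finset ι} (h : s ≤ t) : supp Z s ≤ supp Z t :=
  fun _ hz i hi => hz i (fun his => hi (h his))

/-- the diagram of finitely supported parts. -/
noncomputable def diag : Finset ι ⥤ ModuleCat.{u} R where
  obj s := ModuleCat.of R (supp Z s)
  map {s t} f := ModuleCat.ofHom (Submodule.inclusion (supp_mono Z (leOfHom f)))
  map_id s := by
    apply ModuleCat.hom_ext; apply LinearMap.ext; intro x; rfl
  map_comp f g := by
    apply ModuleCat.hom_ext; apply LinearMap.ext; intro x; rfl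

/-- the cocone with vertex the direct sum. -/
noncomputable def cocone : Cocone (diag Z) where
  pt := ModuleCat.of R (⨁ i, Z i)
  ι :=
    { app := fun s => ModuleCat.ofHom (supp Z s).subtype
      naturality := by
        intro s t f
        apply ModuleCat.hom_ext; apply LinearMap.ext; intro x; rfl }

/-- the direct sum is the filtered colimit of its finitely supported parts. -/
noncomputable def isColimit : IsColimit (cocone Z) := by
  classical
  apply isColimitOfReflects (forget (ModuleCat.{u} R))
  apply Types.FilteredColimit.isColimitOf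
  · intro y
    change (⨁ i, Z i) at y
    refine ⟨DFinsupp.support y, ⟨y, fun i hi => ?_⟩, rfl⟩
    exact DFinsupp.notMem_support_iff.mp hi
  · intro s t x y hxy
    change supp Z s at x
    change supp Z t at y
    have hxy' : (x : ⨁ i, Z i) = (y : ⨁ i, Z i) := hxy
    refine ⟨s ∪ t, homOfLE Finset.subset_union_left, homOfLE Finset.subset_union_right, ?_⟩
    apply Subtype.ext
    exact hxy'

/-- the projection to a component from the elements supported in `s`. -/
noncomputable def proj (s : Finset ι) (i : ι) : ModuleCat.of R (supp Z s) ⟶ Z i :=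
  ModuleCat.ofHom ((DirectSum.component R ι (fun i => Z i) i).comp (supp Z s).subtype)

/-- the inclusion of a summand. -/
noncomputable def inj (i : ι) : Z i ⟶ ModuleCat.of R (⨁ i, Z i) :=
  ModuleCat.ofHom (DirectSum.lof R ι (fun i => Z i) i)

/-- the projection to a summand. -/
noncomputable def pr (i : ι) : ModuleCat.of R (⨁ i, Z i) ⟶ Z i :=
  ModuleCat.ofHom (DirectSum.component R ι (fun i => Z i) i)

lemma inj_pr_self (i : ι) : inj Z i ≫ pr Z i = 𝟙 (Z i) := by
  apply ModuleCat.hom_ext
  apply LinearMap.ext
  intro x
  exact DirectSum.component.lof_self (M := fun i => Z i) R i x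

lemma inj_pr_ne {i k : ι} (h : i ≠ k) : inj Z i ≫ pr Z k = 0 := by
  apply ModuleCat.hom_ext
  apply LinearMap.ext
  intro x
  exact DirectSum.of_eq_of_ne (β := fun i => Z i) i k x h.symm

lemma subtype_eq_sum (s : Finset ι) :
    ModuleCat.ofHom (supp Z s).subtype = ∑ i ∈ s, proj Z s i ≫ inj Z i := by
  classical
  apply ModuleCat.hom_ext
  apply LinearMap.ext
  intro z
  rw [ModuleCat.hom_sum, LinearMap.sum_apply]
  change (z : ⨁ i, Z i) =
    ∑ i ∈ s, DirectSum.of (fun i => Z i) i ((z : ⨁ i, Z i) i)
  have hsub : DFinsupp.support (z : ⨁ i, Z i) ⊆ s := fun i hi => by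
    by_contra his
    exact (DFinsupp.mem_support_iff.mp hi) (z.2 i his)
  have h1 := Finset.sum_subset hsub
    (f := fun i => DirectSum.of (fun i => Z i) i ((z : ⨁ i, Z i) i)) (fun i _ hi => by
      rw [DFinsupp.notMem_support_iff.mp hi, map_zero])
  rw [DirectSum.sum_support_of] at h1
  exact h1

/-- the comparison map from the direct sum of local cohomologies. -/
noncomputable def Φ : (⨁ i, (localCohomology J d).obj (Z i)) →ₗ[R]
    (localCohomology J d).obj (ModuleCat.of R (⨁ i, Z i)) :=
  DirectSum.toModule R ι _ (fun i => ((localCohomology J d).map (inj Z i)).hom)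

lemma Φ_lof (i : ι) (x : (localCohomology J d).obj (Z i)) :
    Φ J d Z (DirectSum.lof R ι (fun i => (localCohomology J d).obj (Z i)) i x) =
      ((localCohomology J d).map (inj Z i)) x := by
  rw [Φ, DirectSum.toModule_lof]

lemma pr_Φ (k : ι) (z : ⨁ i, (localCohomology J d).obj (Z i)) :
    ((localCohomology J d).map (pr Z k)) (Φ J d Z z) = z k := by
  refine DirectSum.induction_on z ?_ ?_ ?_
  · rw [map_zero, map_zero, DirectSum.zero_apply]
  · intro i x
    rw [← DirectSum.lof_eq_of R, Φ_lof, map_map_apply]
    by_cases h : i = k
    · subst h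
      rw [inj_pr_self, map_id_apply, DirectSum.lof_eq_of, DirectSum.of_eq_same]
    · rw [inj_pr_ne Z h, map_zero', DirectSum.lof_eq_of, DirectSum.of_eq_of_ne _ _ _ (Ne.symm h)]
  · intro a b ha hb
    rw [map_add, map_add, ha, hb, DirectSum.add_apply]

lemma Φ_injective : Function.Injective (Φ J d Z) := by
  rw [injective_iff_map_eq_zero]
  intro z hz
  apply DirectSum.ext
  intro k
  rw [← pr_Φ J d Z k z, hz, map_zero, DirectSum.zero_apply]

lemma Φ_surjective : Function.Surjective (Φ J d Z) := by
  intro x
  obtain ⟨s, y, hy⟩ := H_exists_rep (isColimit Z) J d x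
  have hy' : ((localCohomology J d).map (∑ i ∈ s, proj Z s i ≫ inj Z i)) y = x := by
    rw [← subtype_eq_sum Z s]
    exact hy
  rw [map_sum'] at hy'
  refine ⟨∑ i ∈ s, DirectSum.lof R ι (fun i => (localCohomology J d).obj (Z i)) i
    (((localCohomology J d).map (proj Z s i)) y), ?_⟩
  rw [map_sum, ← hy']
  apply Finset.sum_congr rfl
  intro i _
  rw [Φ_lof, map_map_apply]

/-- the comparison map as a linear equivalence. -/
noncomputable def ΦEquiv : (⨁ i, (localCohomology J d).obj (Z i)) ≃ₗ[R]
    (localCohomology J d).obj (ModuleCat.of R (⨁ i, Z i)) :=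
  LinearEquiv.ofBijective (Φ J d Z) ⟨Φ_injective J d Z, Φ_surjective J d Z⟩

theorem preservesCoproduct :
    PreservesColimit (Discrete.functor Z) (localCohomology J d) := by
  apply preservesColimit_of_preserves_colimit_cocone (ModuleCat.coproductCoconeIsColimit Z)
  change IsColimit ((localCohomology J d).mapCocone
    (Cofan.mk (ModuleCat.of R (⨁ i, Z i)) (fun i => inj Z i)))
  refine (isColimitMapCoconeCofanMkEquiv _ _ _).symm ?_
  refine IsColimit.ofIsoColimit
    (ModuleCat.coproductCoconeIsColimit (fun i => (localCohomology J d).obj (Z i))) ?_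
  refine Cofan.ext (ΦEquiv J d Z).toModuleIso ?_
  intro i
  apply ModuleCat.hom_ext
  apply LinearMap.ext
  intro x
  exact Φ_lof J d Z i x

end Coprod

section All

variable {R : Type u} [CommRing R] [IsNoetherianRing R] (J : Ideal R) (d : ℕ)

theorem preservesCoproducts (ι : Type u) :
    PreservesColimitsOfShape (Discrete ι) (localCohomology J d) := by
  classical
  haveI : ∀ f : ι → ModuleCat.{u} R,
      PreservesColimit (Discrete.functor f) (localCohomology J d) :=
    fun f => preservesCoproduct J d f
  exact preservesColimitsOfShape_of_discrete _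

theorem preservesColimits
    (h : ∀ M : ModuleCat.{u} R, Subsingleton ((localCohomology J (d + 1)).obj M)) :
    PreservesColimitsOfSize.{u, u} (localCohomology J d) := by
  haveI := preservesFiniteColimits J d h
  haveI : ∀ ι : Type u, PreservesColimitsOfShape (Discrete ι) (localCohomology J d) :=
    preservesCoproducts J d
  exact preservesColimits_of_preservesCoequalizers_and_coproducts _

theorem isLeftAdjoint
    (h : ∀ M : ModuleCat.{u} R, Subsingleton ((localCohomology J (d + 1)).obj M)) :
    (localCohomology J d).IsLeftAdjoint := by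
  haveI := preservesColimits J d h
  exact isLeftAdjoint_of_preservesColimits_of_isSeparating
    (isSeparator_separator (ModuleCat.{u} R)) _

end All

section Rep

variable {R S : Type u} [CommRing R] [CommRing S] [IsNoetherianRing S]

theorem isRepresentable (φ : R →+* S) (J : Ideal S) (d : ℕ)
    (h : ∀ M : ModuleCat.{u} S, Subsingleton ((localCohomology J (d + 1)).obj M))
    (X : ModuleCat.{u} R) :
    ((localCohomology J d ⋙ ModuleCat.restrictScalars φ).op ⋙ yoneda.obj X).IsRepresentable := by
  haveI := isLeftAdjoint J d h
  haveI : (localCohomology J d ⋙ ModuleCat.restrictScalars φ).IsLeftAdjoint := inferInstance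
  let adj := Adjunction.ofIsLeftAdjoint (localCohomology J d ⋙ ModuleCat.restrictScalars φ)
  exact Functor.RepresentableBy.isRepresentable
    (Y := (localCohomology J d ⋙ ModuleCat.restrictScalars φ).rightAdjoint.obj X)
    { homEquiv := fun {E} => (adj.homEquiv E X).symm
      homEquiv_comp := fun {E E'} f g => adj.homEquiv_naturality_left_symm f g }

/-- vanishing above the number of generators, up to radical. -/
theorem subsingleton_succ_of_le_radical_span [IsNoetherianRing S] (J : Ideal S) (d : ℕ)
    (u : Fin d → S) (hu : ∀ i, u i ∈ J) (hJ : J ≤ (Ideal.span (Set.range u)).radical)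
    (M : ModuleCat.{u} S) : Subsingleton ((localCohomology J (d + 1)).obj M) := by
  classical
  set s : Finset S := Finset.univ.image u with hs_def
  have hs : (s : Set S) = Set.range u := by
    rw [hs_def, Finset.coe_image, Finset.coe_univ, Set.image_univ]
  have hcard : s.card ≤ d := by
    refine (Finset.card_image_le).trans ?_
    rw [Finset.card_univ, Fintype.card_fin]
  have hcd := cdLE_span_finset s
  have hrad : J.radical = (Ideal.span (s : Set S)).radical := by
    rw [hs]
    apply le_antisymm
    · exact Ideal.radical_le_radical_iff.mpr hJ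
    · exact Ideal.radical_mono (Ideal.span_le.mpr (by rintro _ ⟨i, rfl⟩; exact hu i))
  have e := (localCohomology.isoOfSameRadical hrad (d + 1)).app M
  have h1 : Subsingleton ((localCohomology (Ideal.span (s : Set S)) (d + 1)).obj M) :=
    hcd M (d + 1) (by omega)
  exact e.toLinearEquiv.toEquiv.subsingleton

end Rep

end Groth.Agent.Helper8.LCRep
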