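import Mathlib

/-!
# Lengths of `Ext` groups along short exact sequences with vanishing maps

If in the long exact `Ext(X, -)` sequence of a short exact sequence `0 → X₁ → X₂ → X₃ → 0`
all maps induced by `X₁ → X₂` (resp. by `X₂ → X₃`) vanish, the long exact sequence breaks up into
short exact sequences and lengths add up.
-/

set_option autoImplicit false
universe u

namespace Groth.Agent.Helper8.LD

open CategoryTheory Abelian

variable {R : Type u} [CommRing R]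

/-- The length of `Ext^i(X, Y)` as an `R`-module. -/
noncomputable def mu (X Y : ModuleCat.{u} R) (i : ℕ) : ℕ∞ := Module.length R (Ext X Y i)

variable {S : ShortComplex (ModuleCat.{u} R)} (hS : S.ShortExact) (X : ModuleCat.{u} R)

include hS in
/-- If all maps `Ext^i(X, X₁) → Ext^i(X, X₂)` vanish then
`ℓ(Ext^i(X, X₃)) = ℓ(Ext^i(X, X₂)) + ℓ(Ext^{i+1}(X, X₁))`. -/
theorem mu_of_f_zero
    (hz : ∀ (i : ℕ) (α : Ext X S.X₁ i), α.comp (Ext.mk₀ S.f) (add_zero i) = 0) (i : ℕ) :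
    mu X S.X₃ i = mu X S.X₂ i + mu X S.X₁ (i + 1) := by
  unfold mu
  let pg : Ext X S.X₂ i →ₗ[R] Ext X S.X₃ i := Ext.postcompOfLinear (Ext.mk₀ S.g) R X (add_zero i)
  let pd : Ext X S.X₃ i →ₗ[R] Ext X S.X₁ (i + 1) := Ext.postcompOfLinear hS.extClass R X rfl
  have hpg : Function.Injective pg := by
    rw [← LinearMap.ker_eq_bot, LinearMap.ker_eq_bot']
    intro x hx
    obtain ⟨x₁, hx₁⟩ := Ext.covariant_sequence_exact₂ X hS x hx
    rw [← hx₁, hz]
  have hpd : Function.Surjective pd := by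
    intro y
    obtain ⟨x₃, hx₃⟩ := Ext.covariant_sequence_exact₁ X hS y (hz _ y) rfl
    exact ⟨x₃, hx₃⟩
  have hex : Function.Exact pg pd := by
    intro y
    constructor
    · intro hy
      obtain ⟨x₂, hx₂⟩ := Ext.covariant_sequence_exact₃ X hS y rfl hy
      exact ⟨x₂, hx₂⟩
    · rintro ⟨x₂, rfl⟩
      show (x₂.comp (Ext.mk₀ S.g) (add_zero i)).comp hS.extClass rfl = 0
      rw [Ext.comp_assoc x₂ (Ext.mk₀ S.g) hS.extClass (add_zero i) (zero_add 1) (by omega),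
        ShortComplex.ShortExact.comp_extClass, Ext.comp_zero]
  exact Module.length_eq_add_of_exact pg pd hpg hpd hex

include hS in
/-- If all maps `Ext^i(X, X₂) → Ext^i(X, X₃)` vanish then
`ℓ(Ext^{i+1}(X, X₁)) = ℓ(Ext^i(X, X₃)) + ℓ(Ext^{i+1}(X, X₂))`. -/
theorem mu_of_g_zero
    (hz : ∀ (i : ℕ) (α : Ext X S.X₂ i), α.comp (Ext.mk₀ S.g) (add_zero i) = 0) (i : ℕ) :
    mu X S.X₁ (i + 1) = mu X S.X₃ i + mu X S.X₂ (i + 1) := by
  unfold mu
  let pd : Ext X S.X₃ i →ₗ[R] Ext X S.X₁ (i + 1) := Ext.postcompOfLinear hS.extClass R X rfl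
  let pf : Ext X S.X₁ (i + 1) →ₗ[R] Ext X S.X₂ (i + 1) :=
    Ext.postcompOfLinear (Ext.mk₀ S.f) R X (add_zero (i + 1))
  have hpd : Function.Injective pd := by
    rw [← LinearMap.ker_eq_bot, LinearMap.ker_eq_bot']
    intro x hx
    obtain ⟨x₂, hx₂⟩ := Ext.covariant_sequence_exact₃ X hS x rfl hx
    rw [← hx₂, hz]
  have hpf : Function.Surjective pf := by
    intro y
    obtain ⟨x₁, hx₁⟩ := Ext.covariant_sequence_exact₂ X hS y (hz _ y)
    exact ⟨x₁, hx₁⟩
  have hex : Function.Exact pd pf := by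
    intro y
    constructor
    · intro hy
      obtain ⟨x₃, hx₃⟩ := Ext.covariant_sequence_exact₁ X hS y hy rfl
      exact ⟨x₃, hx₃⟩
    · rintro ⟨x₃, rfl⟩
      show (x₃.comp hS.extClass rfl).comp (Ext.mk₀ S.f) (add_zero (i + 1)) = 0
      rw [Ext.comp_assoc x₃ hS.extClass (Ext.mk₀ S.f) rfl (add_zero 1) (by omega),
        ShortComplex.ShortExact.extClass_comp, Ext.comp_zero]
  exact Module.length_eq_add_of_exact pd pf hpd hpf hex

include hS in
/-- If the map `Hom(X, X₂) → Hom(X, X₃)` vanishes then `Hom(X, X₁) ≃ Hom(X, X₂)`. -/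
theorem mu_zero_of_g_zero
    (hz : ∀ (α : Ext X S.X₂ 0), α.comp (Ext.mk₀ S.g) (add_zero 0) = 0) :
    mu X S.X₁ 0 = mu X S.X₂ 0 := by
  unfold mu
  let pf : Ext X S.X₁ 0 →ₗ[R] Ext X S.X₂ 0 :=
    Ext.postcompOfLinear (Ext.mk₀ S.f) R X (add_zero 0)
  have hmono : Mono S.f := hS.mono_f
  have hinj : Function.Injective pf := Ext.postcomp_mk₀_injective_of_mono X S.f
  have hsurj : Function.Surjective pf := by
    intro y
    obtain ⟨x₁, hx₁⟩ := Ext.covariant_sequence_exact₂ X hS y (hz y)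
    exact ⟨x₁, hx₁⟩
  exact (LinearEquiv.ofBijective pf ⟨hinj, hsurj⟩).length_eq

end Groth.Agent.Helper8.LD
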