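import Groth.Agent.Lib.Helper8.LD12
import Groth.Agent.Lib.Helper8.LC46
import Groth.Agent.Lib.Helper8.LC28

/-!
# Gorenstein local rings and quotients by a regular element: abstract ingredients
-/

set_option autoImplicit false
universe u

namespace Groth.Agent.Helper8.LD

open CategoryTheory Abelian IsLocalRing LocCoh localCohomology InjHull
open Groth.Agent.Helper8.LC Groth.Agent.Helper1.InjHullL

section LES

variable {A : Type u} [CommRing A] (J : Ideal A) {M : ModuleCat.{u} A} {f : A}

/-- the connecting map `H^j(M/fM) → H^{j+1}(M)`. -/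
noncomputable def dq (hreg : IsSMulRegular M f) (j : ℕ) :
    (localCohomology J j).obj (ModuleCat.of A (QuotSMulTop f M)) →ₗ[A]
      (localCohomology J (j + 1)).obj M :=
  δ J j hreg.smulShortComplex_shortExact

/-- the projection `H^j(M) → H^j(M/fM)`. -/
noncomputable def gq (M : ModuleCat.{u} A) (f : A) (j : ℕ) :
    (localCohomology J j).obj M →ₗ[A]
      (localCohomology J j).obj (ModuleCat.of A (QuotSMulTop f M)) :=
  ((localCohomology J j).map (ModuleCat.smulShortComplex M f).g).hom

lemma exact1 (hreg : IsSMulRegular M f) (j : ℕ) (x : (localCohomology J j).obj M) :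
    gq J M f j x = 0 ↔ ∃ w : (localCohomology J j).obj M, f • w = x := by
  have h := exact_f_g J j hreg.smulShortComplex_shortExact x
  constructor
  · intro hx
    obtain ⟨w, hw⟩ := h.mp hx
    refine ⟨w, ?_⟩
    have h2 : ((localCohomology J j).map (ModuleCat.smulShortComplex M f).f) w = f • w :=
      map_smul_id J j M f w
    exact h2.symm.trans hw
  · rintro ⟨w, rfl⟩
    apply h.mpr
    exact ⟨w, map_smul_id J j M f w⟩

lemma exact2 (hreg : IsSMulRegular M f) (j : ℕ)
    (y : (localCohomology J j).obj (ModuleCat.of A (QuotSMulTop f M))) :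
    dq J hreg j y = 0 ↔ ∃ x : (localCohomology J j).obj M, gq J M f j x = y :=
  exact_g_δ J j hreg.smulShortComplex_shortExact y

lemma exact3 (hreg : IsSMulRegular M f) (j : ℕ) (x : (localCohomology J (j + 1)).obj M) :
    f • x = 0 ↔ ∃ y, dq J hreg j y = x := by
  have h := exact_δ_f J j hreg.smulShortComplex_shortExact x
  have h2 : ((localCohomology J (j + 1)).map (ModuleCat.smulShortComplex M f).f) x = f • x :=
    map_smul_id J (j + 1) M f x
  constructor
  · intro hx
    exact h.mp (h2.trans hx)
  · intro hy
    exact h2.symm.trans (h.mpr hy)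

/-- vanishing of `H^j(M/fM)` from the long exact sequence. -/
lemma subsingleton_H_quot (hreg : IsSMulRegular M f) (j : ℕ)
    (hsurj : ∀ x : (localCohomology J j).obj M, ∃ w : (localCohomology J j).obj M, x = f • w)
    (hinj : ∀ x : (localCohomology J (j + 1)).obj M, f • x = 0 → x = 0) :
    Subsingleton ((localCohomology J j).obj (ModuleCat.of A (QuotSMulTop f M))) := by
  apply subsingleton_of_forall_eq_zero
  intro y
  have h1 : dq J hreg j y = 0 := by
    apply hinj
    exact (exact3 J hreg j _).mpr ⟨y, rfl⟩
  obtain ⟨z, rfl⟩ := (exact2 J hreg j y).mp h1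
  obtain ⟨w, rfl⟩ := hsurj z
  exact (exact1 J hreg j _).mpr ⟨w, rfl⟩

lemma smul_injective_of_subsingleton_H_quot (hreg : IsSMulRegular M f) (j : ℕ)
    (h : Subsingleton ((localCohomology J j).obj (ModuleCat.of A (QuotSMulTop f M))))
    (x : (localCohomology J (j + 1)).obj M) (hx : f • x = 0) : x = 0 := by
  obtain ⟨y, rfl⟩ := (exact3 J hreg j x).mp hx
  have : y = 0 := h.elim _ _
  rw [this, map_zero]

lemma smul_surjective_of_subsingleton_H_quot (hreg : IsSMulRegular M f) (j : ℕ)
    (h : Subsingleton ((localCohomology J j).obj (ModuleCat.of A (QuotSMulTop f M))))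
    (x : (localCohomology J j).obj M) : ∃ w : (localCohomology J j).obj M, x = f • w := by
  obtain ⟨w, hw⟩ := (exact1 J hreg j x).mp (h.elim _ _)
  exact ⟨w, hw.symm⟩

/-- a module on which an element of `J` acts injectively has no `J`-power torsion. -/
lemma subsingleton_of_smul_injective (hfJ : f ∈ J) (j : ℕ)
    (hinj : ∀ x : (localCohomology J j).obj M, f • x = 0 → x = 0) :
    Subsingleton ((localCohomology J j).obj M) := by
  apply subsingleton_of_forall_eq_zero
  intro x
  obtain ⟨n, hn⟩ := isPowerTorsion J j M x
  have h1 : f ^ n • x = 0 := hn _ (Ideal.pow_mem_pow hfJ n)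
  clear hn
  induction n with
  | zero => simpa using h1
  | succ n ih =>
    apply ih
    apply hinj
    rw [← mul_smul, ← pow_succ']
    exact h1

end LES

section Divisible

variable {A : Type u} [CommRing A]

/-- injective modules are divisible by regular elements. -/
lemma exists_smul_eq_of_injective (E : Type u) [AddCommGroup E] [Module A E]
    [Module.Injective A E] (f : A) (hf : IsSMulRegular A f) (e : E) : ∃ e' : E, e = f • e' := by
  have hinj : Function.Injective (LinearMap.lsmul A A f) := hf
  obtain ⟨h, hh⟩ := Module.Injective.extension_property A E A A (LinearMap.lsmul A A f) hinj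
    (LinearMap.toSpanSingleton A E e)
  refine ⟨h 1, ?_⟩
  have h1 := LinearMap.congr_fun hh 1
  rw [LinearMap.comp_apply, LinearMap.lsmul_apply, LinearMap.toSpanSingleton_apply, one_smul]
    at h1
  rw [← h1, ← map_smul]

/-- a semilinear additive equivalence over a quotient ring is linear. -/
noncomputable def linearEquivOfSemilinear (I : Ideal A) {N T : Type u} [AddCommGroup N]
    [Module (A ⧸ I) N] [AddCommGroup T] [Module (A ⧸ I) T] [Module A T]
    [IsScalarTower A (A ⧸ I) T] (φ : N ≃+ T)
    (hφ : ∀ (a : A) (x : N), φ (algebraMap A (A ⧸ I) a • x) = a • φ x) : N ≃ₗ[A ⧸ I] T :=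
  { φ with
    map_smul' := by
      intro b x
      obtain ⟨a, rfl⟩ := Ideal.Quotient.mk_surjective b
      change φ (algebraMap A (A ⧸ I) a • x) = algebraMap A (A ⧸ I) a • φ x
      rw [hφ, algebraMap_smul] }

end Divisible

section Hequiv

variable {R : Type u} [CommRing R] (J : Ideal R) (n : ℕ)
  {M M' : Type u} [AddCommGroup M] [Module R M] [AddCommGroup M'] [Module R M']

/-- local cohomology of isomorphic modules. -/
noncomputable def hEquiv (e : M ≃ₗ[R] M') : H J n M ≃ₗ[R] H J n M' :=
  LinearEquiv.ofLinearMap (hmap J n e.toLinearMap) (hmap J n e.symm.toLinearMap)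
    (by
      ext ξ
      rw [LinearMap.comp_apply, LinearMap.id_apply, ← hmap_comp]
      have : e.toLinearMap ∘ₗ e.symm.toLinearMap = LinearMap.id := by ext; simp
      rw [this, hmap_id])
    (by
      ext ξ
      rw [LinearMap.comp_apply, LinearMap.id_apply, ← hmap_comp]
      have : e.symm.toLinearMap ∘ₗ e.toLinearMap = LinearMap.id := by ext; simp
      rw [this, hmap_id])

end Hequiv

end Groth.Agent.Helper8.LD
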