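import Groth.Agent.Lib.Helper8.LD13

/-!
# Injectivity of an `f`-divisible power torsion module from injectivity of its `f`-torsion
-/

set_option autoImplicit false
universe u

namespace Groth.Agent.Helper8.LD

open CategoryTheory Abelian IsLocalRing LocCoh InjHull
open Groth.Agent.Helper1.InjHullL Groth.Agent.Helper1.MatlisL2

variable {A : Type u} [CommRing A]

/-- the injective hull of a power torsion module over a Noetherian ring is power torsion. -/
theorem isPowerTorsion_of_isInjectiveHull [IsNoetherianRing A] (J : Ideal A) {H E : Type u}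
    [AddCommGroup H] [Module A H] [AddCommGroup E] [Module A E] (ι : H →ₗ[A] E)
    (hι : IsInjectiveHull ι) (hpt : IsPowerTorsion J H) : IsPowerTorsion J E := by
  have hΓ : Module.Injective A (powTorsion J E) := injective_powTorsion J hι.isInjective
  obtain ⟨ρ, hρ⟩ := exists_retraction (powTorsion J E).subtype (Submodule.injective_subtype _)
  have hc := isCompl_range_ker _ ρ hρ
  rw [Submodule.range_subtype] at hc
  have hle : LinearMap.range ι ≤ powTorsion J E := by
    rintro _ ⟨h, rfl⟩
    rw [mem_powTorsion_iff]
    obtain ⟨n, hn⟩ := hpt h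
    exact ⟨n, fun a ha => by rw [← map_smul, hn a ha, map_zero]⟩
  have hker : LinearMap.ker ρ = ⊥ := by
    by_contra hne
    apply hι.essential _ hne
    rw [eq_bot_iff]
    exact le_trans (inf_le_inf_left _ hle) (by rw [inf_comm]; exact hc.disjoint.le_bot)
  have htop : powTorsion J E = ⊤ := by
    have := hc.sup_eq_top
    rwa [hker, sup_bot_eq] at this
  intro x
  have : x ∈ powTorsion J E := by rw [htop]; trivial
  exact (mem_powTorsion_iff _ x).mp this

/-- **Key criterion.** Let `H` be a `J`-power torsion module over a Noetherian ring, `f ∈ J` such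
that `H = f H` and `H[f]` is an injective `A/f`-module.  Then `H` is an injective `A`-module. -/
theorem injective_of_torsionBy_injective [IsNoetherianRing A] (J : Ideal A) (f : A) (hfJ : f ∈ J)
    (H : Type u) [AddCommGroup H] [Module A H] (hpt : IsPowerTorsion J H)
    (hdiv : ∀ x : H, ∃ w : H, x = f • w)
    (hinj : Module.Injective (A ⧸ Ideal.span {f})
      (Submodule.torsionBySet A H (Ideal.span {f} : Set A))) :
    Module.Injective A H := by
  obtain ⟨E, _, _, ι, hι⟩ := exists_injectiveHull (R := A) H
  have hE : Module.Injective A E := hι.isInjective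
  have hptE := isPowerTorsion_of_isInjectiveHull J ι hι hpt
  set I : Ideal A := Ideal.span {f} with hI
  have hTE : Module.Injective (A ⧸ I) (Submodule.torsionBySet A E (I : Set A)) :=
    injective_torsionBySet I E
  have hmemI : ∀ {X : Type u} [AddCommGroup X] [Module A X] (x : X),
      x ∈ Submodule.torsionBySet A X (I : Set A) ↔ f • x = 0 := by
    intro X _ _ x
    rw [hI, Submodule.torsionBySet_span_singleton_eq, Submodule.mem_torsionBy_iff]
  -- restriction of `ι` to the torsion
  let ι₀ : Submodule.torsionBySet A H (I : Set A) →ₗ[A] Submodule.torsionBySet A E (I : Set A) :=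
    (ι ∘ₗ (Submodule.torsionBySet A H (I : Set A)).subtype).codRestrict _ (by
      intro x
      rw [hmemI, LinearMap.comp_apply, Submodule.subtype_apply, ← map_smul,
        (hmemI x.1).mp x.2, map_zero])
  let ι' : Submodule.torsionBySet A H (I : Set A) →ₗ[A ⧸ I]
      Submodule.torsionBySet A E (I : Set A) :=
    ι₀.extendScalarsOfSurjective Ideal.Quotient.mk_surjective
  have hι'inj : Function.Injective ι' := by
    intro x y hxy
    apply Subtype.ext
    apply hι.injective
    exact congrArg Subtype.val hxy
  obtain ⟨ρ, hρ⟩ := exists_retraction ι' hι'inj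
  have hc := isCompl_range_ker ι' ρ hρ
  -- the kernel of the retraction vanishes
  have hker : LinearMap.ker ρ = ⊥ := by
    rw [eq_bot_iff]
    intro c hc0
    rw [Submodule.mem_bot]
    by_contra hne
    have hne' : (c : E) ≠ 0 := fun h => hne (Subtype.ext h)
    obtain ⟨a, h, ha0, hah⟩ := essInj_exists_smul_mem hι.toIsEssentialInj hne'
    have hfh : f • h = 0 := by
      apply hι.injective
      rw [map_smul, hah, map_zero, smul_comm, (hmemI c.1).mp c.2, smul_zero]
    let h' : Submodule.torsionBySet A H (I : Set A) := ⟨h, (hmemI h).mpr hfh⟩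
    have h1 : ι' h' = (Ideal.Quotient.mk I a) • c := by
      apply Subtype.ext
      exact hah
    have h2 : ι' h' ∈ LinearMap.range ι' ⊓ LinearMap.ker ρ :=
      ⟨⟨h', rfl⟩, by rw [h1]; exact Submodule.smul_mem _ _ hc0⟩
    rw [hc.inf_eq_bot, Submodule.mem_bot] at h2
    apply ha0
    rw [← hah]
    exact congrArg Subtype.val h2
  have hsurj' : Function.Surjective ι' := by
    rw [← LinearMap.range_eq_top]
    have := hc.sup_eq_top
    rwa [hker, sup_bot_eq] at this
  -- elements killed by `f` come from `H`
  have hstep : ∀ e : E, f • e = 0 → e ∈ LinearMap.range ι := by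
    intro e he
    obtain ⟨h, hh⟩ := hsurj' ⟨e, (hmemI e).mpr he⟩
    exact ⟨h.1, congrArg Subtype.val hh⟩
  have hall : ∀ n : ℕ, ∀ e : E, f ^ n • e = 0 → e ∈ LinearMap.range ι := by
    intro n
    induction n with
    | zero =>
      intro e he
      rw [pow_zero, one_smul] at he
      rw [he]
      exact Submodule.zero_mem _
    | succ n ih =>
      intro e he
      have h1 : f ^ n • (f • e) = 0 := by rw [← mul_smul, ← pow_succ]; exact he
      obtain ⟨h, hh⟩ := ih _ h1
      obtain ⟨w, rfl⟩ := hdiv h
      have h2 : f • (e - ι w) = 0 := by rw [smul_sub, ← map_smul, hh, sub_self]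
      obtain ⟨h'', hh''⟩ := hstep _ h2
      exact ⟨h'' + w, by rw [map_add, hh'', sub_add_cancel]⟩
  have hsurj : Function.Surjective ι := by
    intro e
    obtain ⟨n, hn⟩ := hptE e
    exact hall n e (hn _ (Ideal.pow_mem_pow hfJ n))
  exact injective_of_linearEquiv (LinearEquiv.ofBijective ι ⟨hι.injective, hsurj⟩).symm hE

end Groth.Agent.Helper8.LD
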