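import Groth.Agent.Lib.Helper8.LD15
import Groth.Agent.Lib.Helper8.ExtLoc5

/-!
# Annihilators of local cohomology over a Gorenstein local ring
-/

set_option autoImplicit false
universe u

namespace Groth.Agent.Helper8.LD

open CategoryTheory Abelian IsLocalRing LocCoh localCohomology InjHull
open Groth.Agent.Helper8.LC Groth.Agent.Helper8.ExtLoc

section Support

variable {A : Type u} [CommRing A]

/-- `J ⊆ √Ann K` iff `K` vanishes at the primes not containing `J`. -/
lemma le_radical_annihilator_iff (K : Type u) [AddCommGroup K] [Module A K] [Module.Finite A K]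
    (J : Ideal A) :
    J ≤ (Module.annihilator A K).radical ↔
      ∀ (q : Ideal A) [q.IsPrime], ¬ J ≤ q → Subsingleton (LocalizedModule q.primeCompl K) := by
  rw [← PrimeSpectrum.zeroLocus_subset_zeroLocus_iff, ← Module.support_eq_zeroLocus]
  constructor
  · intro h q hq hJq
    have : (⟨q, hq⟩ : PrimeSpectrum A) ∉ Module.support A K := fun hmem => hJq (h hmem)
    exact Module.notMem_support_iff.mp this
  · intro h q hq
    rw [PrimeSpectrum.mem_zeroLocus]
    by_contra hJq
    exact Module.notMem_support_iff.mpr (h q.asIdeal hJq) hq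

end Support

section Gor

variable (S : Type u) [CommRing S] [IsGorensteinLocalRing S]

/-- local duality, vanishing form. -/
theorem subsingleton_H_iff_subsingleton_ext (d : ℕ) (hd : ringKrullDim S = d)
    (N : Type u) [AddCommGroup N] [Module S N] [Module.Finite S N] (j k : ℕ) (hjk : j + k = d) :
    Subsingleton (H (maximalIdeal S) j N) ↔
      Subsingleton (Ext (ModuleCat.of S N) (ModuleCat.of S S) k) := by
  obtain ⟨E, _, _, f, hf⟩ :=
    Groth.Agent.Helper1.InjHullL.exists_injectiveHull (R := S) (ResidueField S)
  obtain ⟨e⟩ := nonempty_H_equiv_dual_ext_of_gorenstein S d hd E f hf N j k hjk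
  constructor
  · intro h
    refine ⟨fun x y => ?_⟩
    have key : ∀ z : Ext (ModuleCat.of S N) (ModuleCat.of S S) k, z = 0 := by
      intro z
      by_contra hz
      obtain ⟨φ, hφ⟩ := Groth.Agent.Helper1.MatlisL.exists_dual_ne_zero f hf hz
      apply hφ
      have : φ = 0 := by
        rw [← e.apply_symm_apply φ, Subsingleton.elim (e.symm φ) 0, map_zero]
      rw [this, LinearMap.zero_apply]
    rw [key x, key y]
  · intro h
    refine ⟨fun x y => ?_⟩
    apply e.injective
    apply LinearMap.ext
    intro z
    rw [Subsingleton.elim z 0, map_zero, map_zero]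

/-- the annihilator of local cohomology is the annihilator of the dual `Ext`. -/
theorem annihilator_H_eq_annihilator_ext (d : ℕ) (hd : ringKrullDim S = d)
    (N : Type u) [AddCommGroup N] [Module S N] [Module.Finite S N] (j k : ℕ) (hjk : j + k = d) :
    Module.annihilator S (H (maximalIdeal S) j N) =
      Module.annihilator S (Ext (ModuleCat.of S N) (ModuleCat.of S S) k) := by
  obtain ⟨E, _, _, f, hf⟩ :=
    Groth.Agent.Helper1.InjHullL.exists_injectiveHull (R := S) (ResidueField S)
  obtain ⟨e⟩ := nonempty_H_equiv_dual_ext_of_gorenstein S d hd E f hf N j k hjk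
  rw [e.annihilator_eq]
  exact (Groth.Agent.Helper1.MatlisL2.annihilator_dual f hf _).symm

end Gor

end Groth.Agent.Helper8.LD
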