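import Groth.Agent.Lib.Helper8.LD17

/-!
# Comparison of localizations along a surjective ring map
-/

set_option autoImplicit false
universe u

namespace Groth.Agent.Helper8.LD

open CategoryTheory Abelian IsLocalRing LocCoh localCohomology InjHull
open Groth.Agent.Helper8.LC

section LocCompare

variable {R' R : Type u} [CommRing R'] [CommRing R] [Algebra R' R]
  (hg : Function.Surjective (algebraMap R' R)) (p : Ideal R) [p.IsPrime]
  (M : Type u) [AddCommGroup M] [Module R M] [Module R' M] [IsScalarTower R' R M]

include hg in
/-- the localization of `M` at `p` is the localization of `M` over `R'` at the preimage of `p`. -/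
theorem nonempty_localizedModule_comap_equiv :
    letI : Module (Localization.AtPrime (p.comap (algebraMap R' R)))
        (LocalizedModule p.primeCompl M) :=
      Module.compHom _ (Localization.localRingHom (p.comap (algebraMap R' R)) p
        (algebraMap R' R) rfl)
    Nonempty (LocalizedModule (p.comap (algebraMap R' R)).primeCompl M
      ≃ₗ[Localization.AtPrime (p.comap (algebraMap R' R))] LocalizedModule p.primeCompl M) := by
  set p' := p.comap (algebraMap R' R) with hp'
  let φ := Localization.localRingHom p' p (algebraMap R' R) rfl
  letI : Module (Localization.AtPrime p') (LocalizedModule p.primeCompl M) :=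
    Module.compHom _ φ
  have hsmul : ∀ (r : R') (x : LocalizedModule p.primeCompl M),
      r • x = (algebraMap R' R r) • x := fun r x => (algebraMap_smul R r x).symm
  haveI : IsScalarTower R' (Localization.AtPrime p') (LocalizedModule p.primeCompl M) :=
    IsScalarTower.of_algebraMap_smul (fun r x => by
      change φ (algebraMap R' (Localization.AtPrime p') r) • x = _
      rw [Localization.localRingHom_to_map, algebraMap_smul, algebraMap_smul])
  let ℓ : M →ₗ[R'] LocalizedModule p.primeCompl M :=
    { toFun := fun m => LocalizedModule.mk m 1
      map_add' := fun m m' => by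
        rw [LocalizedModule.mk_add_mk, one_smul, one_smul, mul_one]
      map_smul' := fun r m => by
        rw [RingHom.id_apply, hsmul, LocalizedModule.smul'_mk, algebraMap_smul] }
  haveI : IsLocalizedModule p'.primeCompl ℓ := by
    refine ⟨fun s => ?_, fun y => ?_, fun {x y} hxy => ?_⟩
    · have hs : algebraMap R' R s.1 ∈ p.primeCompl := s.2
      rw [Module.End.isUnit_iff]
      have hu : IsUnit (algebraMap R (Localization.AtPrime p) (algebraMap R' R s.1)) :=
        IsLocalization.map_units _ ⟨_, hs⟩
      constructor
      · intro x y hxy
        change s.1 • x = s.1 • y at hxy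
        rw [hsmul, hsmul, ← algebraMap_smul (Localization.AtPrime p),
          ← algebraMap_smul (Localization.AtPrime p) _ y] at hxy
        exact hu.smul_left_cancel.mp hxy
      · intro x
        obtain ⟨u, hu'⟩ := hu
        refine ⟨(↑u⁻¹ : Localization.AtPrime p) • x, ?_⟩
        change s.1 • ((↑u⁻¹ : Localization.AtPrime p) • x) = x
        rw [hsmul, ← algebraMap_smul (Localization.AtPrime p), ← hu', smul_smul, Units.mul_inv,
          one_smul]
    · induction y using LocalizedModule.induction_on with
      | h m t =>
        obtain ⟨s, hs⟩ := hg t.1
        have hsp : s ∈ p'.primeCompl := by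
          change algebraMap R' R s ∉ p
          rw [hs]
          exact t.2
        refine ⟨(m, ⟨s, hsp⟩), ?_⟩
        change s • LocalizedModule.mk m t = LocalizedModule.mk m 1
        rw [hsmul, hs, LocalizedModule.smul'_mk]
        exact LocalizedModule.mk_cancel t m
    · have h1 : (LocalizedModule.mk x 1 : LocalizedModule p.primeCompl M) =
          LocalizedModule.mk y 1 := hxy
      rw [LocalizedModule.mk_eq] at h1
      obtain ⟨t, ht⟩ := h1
      obtain ⟨s, hs⟩ := hg t.1
      have hsp : s ∈ p'.primeCompl := by
        change algebraMap R' R s ∉ p
        rw [hs]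
        exact t.2
      refine ⟨⟨s, hsp⟩, ?_⟩
      change s • x = s • y
      rw [← algebraMap_smul R s x, ← algebraMap_smul R s y, hs]
      simp only [one_smul] at ht
      exact ht
  let e₀ : LocalizedModule p'.primeCompl M ≃ₗ[R'] LocalizedModule p.primeCompl M :=
    IsLocalizedModule.iso p'.primeCompl ℓ
  exact ⟨e₀.extendScalarsOfIsLocalization p'.primeCompl (Localization.AtPrime p')⟩

include hg in
/-- vanishing of the local cohomology of `M_p` can be computed over `R'`. -/
theorem subsingleton_H_localizedModule_iff [IsNoetherianRing R'] [IsNoetherianRing R] (j : ℕ) :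
    Subsingleton (H (maximalIdeal (Localization.AtPrime p)) j
        (LocalizedModule p.primeCompl M)) ↔
      Subsingleton (H (maximalIdeal (Localization.AtPrime (p.comap (algebraMap R' R)))) j
        (LocalizedModule (p.comap (algebraMap R' R)).primeCompl M)) := by
  set p' := p.comap (algebraMap R' R) with hp'
  let φ := Localization.localRingHom p' p (algebraMap R' R) rfl
  letI : Algebra (Localization.AtPrime p') (Localization.AtPrime p) := φ.toAlgebra
  letI : Module (Localization.AtPrime p') (LocalizedModule p.primeCompl M) :=
    Module.compHom _ φ
  haveI : IsScalarTower (Localization.AtPrime p') (Localization.AtPrime p)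
      (LocalizedModule p.primeCompl M) :=
    IsScalarTower.of_algebraMap_smul (fun r x => rfl)
  obtain ⟨e⟩ := nonempty_localizedModule_comap_equiv hg p M
  have key := exists_semilinear_equiv (R := Localization.AtPrime p')
    (R' := Localization.AtPrime p) (maximalIdeal (Localization.AtPrime p')) j
    (LocalizedModule p.primeCompl M)
  have hcomp : (algebraMap (Localization.AtPrime p') (Localization.AtPrime p)).comp
      (algebraMap R' (Localization.AtPrime p')) =
      (algebraMap R (Localization.AtPrime p)).comp (algebraMap R' R) := by
    apply RingHom.ext
    intro x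
    exact Localization.localRingHom_to_map p' p (algebraMap R' R) rfl x
  have hmax : (maximalIdeal (Localization.AtPrime p')).map
      (algebraMap (Localization.AtPrime p') (Localization.AtPrime p)) =
      maximalIdeal (Localization.AtPrime p) := by
    rw [← Localization.AtPrime.map_eq_maximalIdeal, Ideal.map_map, hcomp, ← Ideal.map_map,
      Ideal.map_comap_of_surjective _ hg, Localization.AtPrime.map_eq_maximalIdeal]
  rw [hmax] at key
  obtain ⟨ψ, -⟩ := key
  have e2 := hEquiv (maximalIdeal (Localization.AtPrime p')) j e
  constructor
  · intro h
    haveI := ψ.symm.toEquiv.subsingleton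
    exact e2.toEquiv.subsingleton
  · intro h
    haveI := e2.symm.toEquiv.subsingleton
    exact ψ.toEquiv.subsingleton

end LocCompare

end Groth.Agent.Helper8.LD
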