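import Groth.Agent.Lib.Helper8.LD1

/-!
# Length formulas for `Ext(X, -)` along multiplication by an element killing `X`
-/

set_option autoImplicit false
universe u

namespace Groth.Agent.Helper8.LD

open CategoryTheory Abelian

variable {R : Type u} [CommRing R]

/-- an element killing `X` kills `Ext(X, Y)`. -/
lemma smul_ext_eq_zero_of_left {X Y : ModuleCat.{u} R} (x : R) (hx : ∀ n : X, x • n = 0) (i : ℕ)
    (α : Ext X Y i) : x • α = 0 := by
  have h1 : x • α = (Ext.mk₀ (x • 𝟙 X)).comp α (zero_add i) := by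
    rw [Ext.mk₀_smul, Ext.smul_comp, Ext.mk₀_id_comp]
  have h2 : x • 𝟙 X = 0 := by
    apply ModuleCat.hom_ext
    apply LinearMap.ext
    intro n
    exact hx n
  rw [h1, h2, Ext.mk₀_zero, Ext.zero_comp]

lemma comp_mk₀_smul_id_eq_zero {X Y : ModuleCat.{u} R} (x : R) (hx : ∀ n : X, x • n = 0) (i : ℕ)
    (α : Ext X Y i) : α.comp (Ext.mk₀ (x • 𝟙 Y)) (add_zero i) = 0 := by
  rw [← Ext.smul_eq_comp_mk₀]
  exact smul_ext_eq_zero_of_left x hx i α

/-- `μ` only depends on the isomorphism class of the second argument. -/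
lemma mu_congr_right (X : ModuleCat.{u} R) {Y Y' : ModuleCat.{u} R} (e : Y ≅ Y') (i : ℕ) :
    mu X Y i = mu X Y' i := by
  unfold mu
  let p : Ext X Y i →ₗ[R] Ext X Y' i := Ext.postcompOfLinear (Ext.mk₀ e.hom) R X (add_zero i)
  let q : Ext X Y' i →ₗ[R] Ext X Y i := Ext.postcompOfLinear (Ext.mk₀ e.inv) R X (add_zero i)
  have hpq : ∀ z, q (p z) = z := by
    intro z
    show (z.comp (Ext.mk₀ e.hom) (add_zero i)).comp (Ext.mk₀ e.inv) (add_zero i) = z
    rw [Ext.comp_assoc z (Ext.mk₀ e.hom) (Ext.mk₀ e.inv) (add_zero i) (add_zero 0) (by omega),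
      Ext.mk₀_comp_mk₀, e.hom_inv_id, Ext.comp_mk₀_id]
  have hqp : ∀ z, p (q z) = z := by
    intro z
    show (z.comp (Ext.mk₀ e.inv) (add_zero i)).comp (Ext.mk₀ e.hom) (add_zero i) = z
    rw [Ext.comp_assoc z (Ext.mk₀ e.inv) (Ext.mk₀ e.hom) (add_zero i) (add_zero 0) (by omega),
      Ext.mk₀_comp_mk₀, e.inv_hom_id, Ext.comp_mk₀_id]
  exact (LinearEquiv.ofLinearMap p q (LinearMap.ext hqp) (LinearMap.ext hpq)).length_eq

lemma mu_congr_linearEquiv (X : ModuleCat.{u} R) {Y Y' : Type u} [AddCommGroup Y] [Module R Y]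
    [AddCommGroup Y'] [Module R Y'] (e : Y ≃ₗ[R] Y') (i : ℕ) :
    mu X (ModuleCat.of R Y) i = mu X (ModuleCat.of R Y') i :=
  mu_congr_right X e.toModuleIso i

/-- `μ` of a subsingleton target vanishes. -/
lemma mu_eq_zero_of_subsingleton (X Y : ModuleCat.{u} R) [Subsingleton Y] (i : ℕ) :
    mu X Y i = 0 := by
  unfold mu
  have hY : Limits.IsZero Y := ModuleCat.isZero_of_subsingleton Y
  have : Subsingleton (Ext X Y i) := by
    refine ⟨fun a b => ?_⟩
    have key : ∀ z : Ext X Y i, z = 0 := by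
      intro z
      rw [← Ext.comp_mk₀_id z, hY.eq_of_src (𝟙 Y) 0, Ext.mk₀_zero, Ext.comp_zero]
    rw [key a, key b]
  exact Module.length_eq_zero

/-- Rees-type formula: if `x` kills `X` and is `M`-regular then
`ℓ Ext^i(X, M/xM) = ℓ Ext^i(X, M) + ℓ Ext^{i+1}(X, M)`. -/
theorem mu_quotSMulTop (X M : ModuleCat.{u} R) (x : R) (hx : ∀ n : X, x • n = 0)
    (hreg : IsSMulRegular M x) (i : ℕ) :
    mu X (ModuleCat.of R (QuotSMulTop x M)) i = mu X M i + mu X M (i + 1) := by
  have hS := hreg.smulShortComplex_shortExact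
  exact mu_of_f_zero hS X (fun j α => comp_mk₀_smul_id_eq_zero (Y := M) x hx j α) i

section Torsion

variable (B : Type u) [AddCommGroup B] [Module R B] (x : R)

/-- the short complex `0 → B[x] → B → B → 0`. -/
noncomputable def torsionShortComplex : ShortComplex (ModuleCat.{u} R) :=
  ModuleCat.shortComplexOfCompEqZero (Submodule.torsionBy R B x).subtype
    (LinearMap.lsmul R B x) (by
      ext ⟨b, hb⟩
      simpa using hb)

lemma torsionShortComplex_shortExact (hsurj : Function.Surjective (fun b : B => x • b)) :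
    (torsionShortComplex B x).ShortExact := by
  refine ModuleCat.shortComplex_shortExact _ ?_ (Submodule.injective_subtype _) hsurj
  intro b
  constructor
  · intro hb
    exact ⟨⟨b, hb⟩, rfl⟩
  · rintro ⟨⟨c, hc⟩, rfl⟩
    exact hc

/-- co-Rees formula: if `x` kills `X` and acts surjectively on `B` then
`ℓ Ext^{i+1}(X, B[x]) = ℓ Ext^i(X, B) + ℓ Ext^{i+1}(X, B)`. -/
theorem mu_torsionBy_succ (X : ModuleCat.{u} R) (hx : ∀ n : X, x • n = 0)
    (hsurj : Function.Surjective (fun b : B => x • b)) (i : ℕ) :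
    mu X (ModuleCat.of R (Submodule.torsionBy R B x)) (i + 1) =
      mu X (ModuleCat.of R B) i + mu X (ModuleCat.of R B) (i + 1) := by
  have hS := torsionShortComplex_shortExact B x hsurj
  exact mu_of_g_zero hS X
    (fun j α => comp_mk₀_smul_id_eq_zero (Y := ModuleCat.of R B) x hx j α) i

theorem mu_torsionBy_zero (X : ModuleCat.{u} R) (hx : ∀ n : X, x • n = 0)
    (hsurj : Function.Surjective (fun b : B => x • b)) :
    mu X (ModuleCat.of R (Submodule.torsionBy R B x)) 0 = mu X (ModuleCat.of R B) 0 := by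
  have hS := torsionShortComplex_shortExact B x hsurj
  exact mu_zero_of_g_zero hS X
    (fun α => comp_mk₀_smul_id_eq_zero (Y := ModuleCat.of R B) x hx 0 α)

end Torsion

end Groth.Agent.Helper8.LD
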