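import Groth.Agent.Lib.Helper8.LD20

/-!
# Finite length of the local cohomology below a given degree, in terms of depths
-/

set_option autoImplicit false
universe u

namespace Groth.Agent.Helper8.LD

open CategoryTheory Abelian IsLocalRing LocCoh localCohomology InjHull
open Groth.Agent.Helper8.LC Groth.Agent.Helper8.Depth

section DepthH

variable (S : Type u) [CommRing S] [IsNoetherianRing S] [IsLocalRing S]
  (N : Type u) [AddCommGroup N] [Module S N] [Module.Finite S N]

/-- the depth is the least degree of non-vanishing local cohomology. -/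
lemma forall_lt_subsingleton_H_iff (k : ℕ) :
    (∀ j : ℕ, j < k → Subsingleton (H (maximalIdeal S) j N)) ↔ (k : ℕ∞) ≤ depth S N := by
  by_cases hN : Subsingleton N
  · have htop : depth S N = ⊤ := by
      unfold depth
      rw [idealDepth_eq_top_iff]
      exact Subsingleton.elim _ _
    rw [htop]
    exact ⟨fun _ => le_top, fun _ j _ => subsingleton_H_of_subsingleton _ j N⟩
  · rw [not_subsingleton_iff_nontrivial] at hN
    have hmN := smul_top_ne_top_of_local S N
    obtain ⟨d, hd⟩ := ENat.ne_top_iff_exists.mp (idealDepth_ne_top (I := maximalIdeal S) hmN)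
    have hd' : depth S N = d := hd.symm
    rw [hd']
    constructor
    · intro h
      by_contra hlt
      have hlt' : d < k := by exact_mod_cast not_le.mp hlt
      have := h d hlt'
      have hnt := nontrivial_of_idealDepth_eq (maximalIdeal S) hmN d hd.symm
      exact not_subsingleton _ this
    · intro h j hj
      apply subsingleton_of_lt_idealDepth (maximalIdeal S) hmN j
      rw [← hd]
      have : j < d := lt_of_lt_of_le hj (by exact_mod_cast h)
      exact_mod_cast this

end DepthH

/-- **S5167.** -/
theorem forall_isFiniteLength_H_iff (R : Type u) [CommRing R] [IsGorensteinLocalRing R]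
    (A : Type u) [CommRing A] [IsLocalRing A] [IsNoetherianRing A] (π : R →+* A)
    (hπ : Function.Surjective π) (M : Type u) [AddCommGroup M] [Module A M] [Module.Finite A M]
    (n : ℕ) :
    (∀ i : ℕ, i ≤ n → IsFiniteLength A (H (maximalIdeal A) i M)) ↔
      ∀ p : PrimeSpectrum A, p.asIdeal ≠ maximalIdeal A → ∀ e : ℕ,
        ringKrullDim (A ⧸ p.asIdeal) = e →
          (n : ℕ∞) < depth (Localization.AtPrime p.asIdeal)
            (LocalizedModule p.asIdeal.primeCompl M) + e := by
  have key : ∀ (p : PrimeSpectrum A) (e : ℕ),
      (∀ j : ℕ, j + e ≤ n → Subsingleton (H (maximalIdeal (Localization.AtPrime p.asIdeal)) j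
        (LocalizedModule p.asIdeal.primeCompl M))) ↔
      (n : ℕ∞) < depth (Localization.AtPrime p.asIdeal)
        (LocalizedModule p.asIdeal.primeCompl M) + e := by
    intro p e
    haveI : Module.Finite (Localization.AtPrime p.asIdeal)
        (LocalizedModule p.asIdeal.primeCompl M) :=
      Module.Finite.of_isLocalizedModule p.asIdeal.primeCompl
        (LocalizedModule.mkLinearMap p.asIdeal.primeCompl M)
    by_cases hen : e ≤ n
    · have h1 := forall_lt_subsingleton_H_iff (Localization.AtPrime p.asIdeal)
        (LocalizedModule p.asIdeal.primeCompl M) (n + 1 - e)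
      have h2 : (∀ j : ℕ, j + e ≤ n → Subsingleton (H (maximalIdeal
          (Localization.AtPrime p.asIdeal)) j (LocalizedModule p.asIdeal.primeCompl M))) ↔
          (∀ j : ℕ, j < n + 1 - e → Subsingleton (H (maximalIdeal
          (Localization.AtPrime p.asIdeal)) j (LocalizedModule p.asIdeal.primeCompl M))) := by
        refine forall_congr' fun j => ?_
        have : j + e ≤ n ↔ j < n + 1 - e := by omega
        rw [this]
      rw [h2, h1]
      generalize depth (Localization.AtPrime p.asIdeal)
        (LocalizedModule p.asIdeal.primeCompl M) = D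
      induction D using ENat.recTopCoe with
      | top => simp
      | coe d =>
        have h3 : ((n + 1 - e : ℕ) : ℕ∞) ≤ (d : ℕ∞) ↔ n + 1 - e ≤ d := by exact_mod_cast Iff.rfl
        have h4 : (n : ℕ∞) < (d : ℕ∞) + (e : ℕ∞) ↔ n < d + e := by exact_mod_cast Iff.rfl
        rw [h3, h4]
        omega
    · constructor
      · intro _
        have h1 : (n : ℕ∞) < (e : ℕ∞) := by exact_mod_cast not_le.mp hen
        exact lt_of_lt_of_le h1 le_add_self
      · intro _ j hj
        omega
  constructor
  · intro h p hp e he
    rw [← key p e]
    intro j hj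
    exact (isFiniteLength_H_iff R A π hπ M (j + e)).mp (h (j + e) hj) p hp e j he rfl
  · intro h i hi
    rw [isFiniteLength_H_iff R A π hπ M i]
    intro p hp e j he hj
    exact (key p e).mpr (h p hp e he) j (by omega)

end Groth.Agent.Helper8.LD
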