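import Groth.Agent.Lib.Helper8.LD3

/-!
# Injectivity criterion for torsion modules and lengths of `Hom` into an injective module
-/

set_option autoImplicit false
universe u

namespace Groth.Agent.Helper8.LD

open CategoryTheory Abelian IsLocalRing LocCoh localCohomology RingTheory.Sequence
open Groth.Agent.Helper8.LC Groth.Agent.Helper8.Depth

variable {R : Type u} [CommRing R] [IsLocalRing R] [IsNoetherianRing R]

/-- **Injectivity criterion.** A power torsion module `H` over a Noetherian local ring with
`Ext^1(k, H) = 0` is injective. -/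
theorem injective_of_mu_one_eq_zero (H : Type u) [AddCommGroup H] [Module R H]
    (hpt : IsPowerTorsion (maximalIdeal R) H) (h : mu (kk R) (ModuleCat.of R H) 1 = 0) :
    Module.Injective R H := by
  unfold mu at h
  rw [Module.length_eq_zero_iff] at h
  apply Groth.Agent.Helper1.MatlisL.injective_of_powerTorsion_of_baer hpt
  intro g
  have hS := sesSub_shortExact (maximalIdeal R : Submodule R R)
  obtain ⟨x₂, hx₂⟩ := Ext.contravariant_sequence_exact₁ hS (ModuleCat.of R H)
    (Ext.mk₀ (ModuleCat.ofHom g)) (n₁ := 1) rfl (Subsingleton.elim _ _)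
  obtain ⟨φ, rfl⟩ := Ext.mk₀_bijective _ _ |>.2 x₂
  rw [Ext.mk₀_comp_mk₀] at hx₂
  have h3 := (Ext.mk₀_bijective _ _).1 hx₂
  refine ⟨φ.hom (1 : R), fun a => ?_⟩
  have h4 := congrArg (fun ψ => ψ.hom a) h3
  simp only [ModuleCat.hom_comp, ModuleCat.hom_ofHom, LinearMap.comp_apply] at h4
  rw [← h4]
  have : (Submodule.subtype (maximalIdeal R : Submodule R R)) a = (a : R) • (1 : R) := by
    rw [smul_eq_mul, mul_one]
    rfl
  rw [this]
  exact map_smul φ.hom (a : R) (1 : R)

end Groth.Agent.Helper8.LD
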