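import Groth.Agent.Lib.Helper8.LD6

/-!
# The duality map `H^n_J(M) → Hom(Hom(M, R), H^n_J(R))`
-/

set_option autoImplicit false
universe u

namespace Groth.Agent.Helper8.LD

open CategoryTheory Abelian LocCoh localCohomology
open Groth.Agent.Helper8.LC

variable {R : Type u} [CommRing R] (J : Ideal R) (n : ℕ)

section Hmap

variable {M M' M'' : Type u} [AddCommGroup M] [Module R M] [AddCommGroup M'] [Module R M']
  [AddCommGroup M''] [Module R M'']

/-- the map induced on local cohomology by a linear map. -/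
noncomputable def hmap (g : M →ₗ[R] M') : H J n M →ₗ[R] H J n M' :=
  ((localCohomology J n).map (ModuleCat.ofHom g)).hom

lemma hmap_id (ξ : H J n M) : hmap J n (LinearMap.id : M →ₗ[R] M) ξ = ξ := by
  unfold hmap
  have : ModuleCat.ofHom (LinearMap.id : M →ₗ[R] M) = 𝟙 (ModuleCat.of R M) := rfl
  rw [this, CategoryTheory.Functor.map_id]
  rfl

lemma hmap_comp (g : M →ₗ[R] M') (g' : M' →ₗ[R] M'') (ξ : H J n M) :
    hmap J n (g' ∘ₗ g) ξ = hmap J n g' (hmap J n g ξ) := by
  unfold hmap
  have : ModuleCat.ofHom (g' ∘ₗ g) = ModuleCat.ofHom g ≫ ModuleCat.ofHom g' := rfl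
  rw [this, CategoryTheory.Functor.map_comp]
  rfl

lemma hmap_add (g g' : M →ₗ[R] M') (ξ : H J n M) :
    hmap J n (g + g') ξ = hmap J n g ξ + hmap J n g' ξ := by
  unfold hmap
  have : ModuleCat.ofHom (g + g') = ModuleCat.ofHom g + ModuleCat.ofHom g' := rfl
  rw [this]
  exact map_add' J n _ _ ξ

lemma hmap_smul (r : R) (g : M →ₗ[R] M') (ξ : H J n M) :
    hmap J n (r • g) ξ = r • hmap J n g ξ := by
  unfold hmap
  have : ModuleCat.ofHom (r • g) = r • ModuleCat.ofHom g := rfl
  rw [this]
  exact map_smul_hom J n r _ ξ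

lemma hmap_zero (ξ : H J n M) : hmap J n (0 : M →ₗ[R] M') ξ = 0 := by
  unfold hmap
  have : ModuleCat.ofHom (0 : M →ₗ[R] M') = 0 := rfl
  rw [this]
  exact map_zero' J n _ _ ξ

end Hmap

section Theta

variable (M : Type u) [AddCommGroup M] [Module R M]

/-- the duality map. -/
noncomputable def θ : H J n M →ₗ[R] (M →ₗ[R] R) →ₗ[R] H J n R :=
  LinearMap.mk₂ R (fun ξ φ => hmap J n φ ξ)
    (fun ξ ξ' _ => map_add _ ξ ξ')
    (fun r ξ _ => map_smul _ r ξ)
    (fun ξ φ φ' => hmap_add J n φ φ' ξ)
    (fun r ξ φ => hmap_smul J n r φ ξ)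

lemma θ_apply (ξ : H J n M) (φ : M →ₗ[R] R) : θ J n M ξ φ = hmap J n φ ξ := rfl

variable {M}

lemma θ_natural {M' : Type u} [AddCommGroup M'] [Module R M'] (g : M →ₗ[R] M') (ξ : H J n M)
    (φ' : M' →ₗ[R] R) : θ J n M' (hmap J n g ξ) φ' = θ J n M ξ (φ' ∘ₗ g) := by
  rw [θ_apply, θ_apply, hmap_comp]

/-- `M` satisfies duality in top degree. -/
def IsDualIso (M : Type u) [AddCommGroup M] [Module R M] : Prop :=
  Function.Bijective (θ J n M)

end Theta

section Basic

lemma linearMap_self_eq (φ : R →ₗ[R] R) : φ = φ 1 • (LinearMap.id : R →ₗ[R] R) := by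
  ext
  simp

/-- the ring itself satisfies duality. -/
theorem isDualIso_self : IsDualIso J n R := by
  constructor
  · rw [injective_iff_map_eq_zero]
    intro ξ hξ
    have := congrArg (fun ψ => ψ (LinearMap.id : R →ₗ[R] R)) hξ
    simpa [θ_apply, hmap_id] using this
  · intro ψ
    refine ⟨ψ LinearMap.id, ?_⟩
    ext φ
    rw [θ_apply]
    conv_lhs => rw [linearMap_self_eq φ]
    rw [hmap_smul, hmap_id, ← map_smul, ← linearMap_self_eq]

variable {M M' : Type u} [AddCommGroup M] [Module R M] [AddCommGroup M'] [Module R M']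

/-- duality is invariant under isomorphisms. -/
theorem isDualIso_of_linearEquiv (e : M ≃ₗ[R] M') (h : IsDualIso J n M) : IsDualIso J n M' := by
  constructor
  · rw [injective_iff_map_eq_zero]
    intro ξ' hξ'
    have h1 : θ J n M (hmap J n e.symm.toLinearMap ξ') = 0 := by
      ext φ
      rw [θ_natural, hξ']
      rfl
    have h2 := (injective_iff_map_eq_zero _).mp h.1 _ h1
    have h3 : hmap J n e.toLinearMap (hmap J n e.symm.toLinearMap ξ') = ξ' := by
      rw [← hmap_comp]
      have : e.toLinearMap ∘ₗ e.symm.toLinearMap = LinearMap.id := by ext; simp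
      rw [this, hmap_id]
    rw [← h3, h2, map_zero]
  · intro ψ'
    obtain ⟨ξ, hξ⟩ := h.2 (ψ' ∘ₗ LinearMap.lcomp R R e.symm.toLinearMap)
    refine ⟨hmap J n e.toLinearMap ξ, ?_⟩
    ext φ'
    rw [θ_natural, hξ]
    simp only [LinearMap.comp_apply, LinearMap.lcomp_apply']
    congr 1
    ext x
    simp

/-- duality for a subsingleton module. -/
theorem isDualIso_of_subsingleton [Subsingleton M] : IsDualIso J n M := by
  have h1 : Subsingleton (H J n M) := by
    refine ⟨fun a b => ?_⟩
    have key : ∀ z : H J n M, z = 0 := by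
      intro z
      have hid : (LinearMap.id : M →ₗ[R] M) = 0 := by
        ext x
        exact Subsingleton.elim _ _
      rw [← hmap_id J n z, hid, hmap_zero]
    rw [key a, key b]
  constructor
  · intro a b _
    exact Subsingleton.elim _ _
  · intro ψ
    refine ⟨0, ?_⟩
    ext φ
    have : φ = 0 := Subsingleton.elim _ _
    rw [this, map_zero, map_zero]

/-- duality for binary products. -/
theorem isDualIso_prod (hM : IsDualIso J n M) (hM' : IsDualIso J n M') :
    IsDualIso J n (M × M') := by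
  have hsum : (LinearMap.inl R M M') ∘ₗ (LinearMap.fst R M M') +
      (LinearMap.inr R M M') ∘ₗ (LinearMap.snd R M M') = LinearMap.id := by
    ext <;> simp
  constructor
  · rw [injective_iff_map_eq_zero]
    intro ξ hξ
    have h1 : hmap J n (LinearMap.fst R M M') ξ = 0 := by
      apply (injective_iff_map_eq_zero _).mp hM.1
      ext φ
      rw [θ_natural, hξ]
      rfl
    have h2 : hmap J n (LinearMap.snd R M M') ξ = 0 := by
      apply (injective_iff_map_eq_zero _).mp hM'.1
      ext φ
      rw [θ_natural, hξ]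
      rfl
    rw [← hmap_id J n ξ, ← hsum, hmap_add, hmap_comp, hmap_comp, h1, h2, map_zero, map_zero,
      add_zero]
  · intro ψ
    obtain ⟨ξ₁, hξ₁⟩ := hM.2 (ψ ∘ₗ LinearMap.lcomp R R (LinearMap.fst R M M'))
    obtain ⟨ξ₂, hξ₂⟩ := hM'.2 (ψ ∘ₗ LinearMap.lcomp R R (LinearMap.snd R M M'))
    refine ⟨hmap J n (LinearMap.inl R M M') ξ₁ + hmap J n (LinearMap.inr R M M') ξ₂, ?_⟩
    ext φ
    rw [map_add, LinearMap.add_apply, θ_natural, θ_natural, hξ₁, hξ₂]
    simp only [LinearMap.comp_apply, LinearMap.lcomp_apply']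
    rw [← map_add]
    congr 1
    rw [LinearMap.comp_assoc, LinearMap.comp_assoc, ← LinearMap.comp_add, hsum,
      LinearMap.comp_id]

/-- duality for finite free modules. -/
theorem isDualIso_pi_fin (k : ℕ) : IsDualIso J n (Fin k → R) := by
  induction k with
  | zero => exact isDualIso_of_subsingleton J n
  | succ k ih =>
    exact isDualIso_of_linearEquiv J n (Fin.consLinearEquiv R (fun _ : Fin (k + 1) => R))
      (isDualIso_prod J n (isDualIso_self J n) ih)

end Basic

end Groth.Agent.Helper8.LD
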