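import Groth.Agent.Lib.Helper8.LD7

/-!
# Top degree duality for finite modules
-/

set_option autoImplicit false
universe u

namespace Groth.Agent.Helper8.LD

open CategoryTheory Abelian LocCoh localCohomology
open Groth.Agent.Helper8.LC

variable {R : Type u} [CommRing R] (J : Ideal R) (n : ℕ)

section Dual

variable {E : Type u} [AddCommGroup E] [Module R E]
variable {M₁ M₂ M₃ : Type u} [AddCommGroup M₁] [Module R M₁] [AddCommGroup M₂] [Module R M₂]
  [AddCommGroup M₃] [Module R M₃]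

/-- the double dual map `Hom(Hom(M₁, R), E) → Hom(Hom(M₂, R), E)` of `g : M₁ → M₂`. -/
abbrev dmap (E : Type u) [AddCommGroup E] [Module R E] (g : M₁ →ₗ[R] M₂) :
    ((M₁ →ₗ[R] R) →ₗ[R] E) →ₗ[R] ((M₂ →ₗ[R] R) →ₗ[R] E) :=
  LinearMap.lcomp R E (LinearMap.lcomp R R g)

lemma dmap_apply (g : M₁ →ₗ[R] M₂) (ψ : (M₁ →ₗ[R] R) →ₗ[R] E) (φ : M₂ →ₗ[R] R) :
    dmap E g ψ φ = ψ (φ ∘ₗ g) := rfl

/-- `dmap` of a surjection is surjective when `E` is injective. -/
lemma dmap_surjective [Module.Injective R E] (p : M₁ →ₗ[R] M₂) (hp : Function.Surjective p) :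
    Function.Surjective (dmap E p) := by
  intro ψ
  have hinj : Function.Injective (LinearMap.lcomp R R p) := by
    intro φ φ' h
    ext y
    obtain ⟨x, rfl⟩ := hp y
    exact LinearMap.congr_fun h x
  obtain ⟨ψ₀, hψ₀⟩ := Module.Injective.extension_property R E _ _ (LinearMap.lcomp R R p) hinj ψ
  exact ⟨ψ₀, hψ₀⟩

/-- exactness of `dmap` at the middle for a right exact sequence `M₁ → M₂ → M₃ → 0`. -/
lemma dmap_exact [Module.Injective R E] (f : M₁ →ₗ[R] M₂) (p : M₂ →ₗ[R] M₃)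
    (hp : Function.Surjective p) (hex : Function.Exact f p)
    (ψ₀ : (M₂ →ₗ[R] R) →ₗ[R] E) (h : dmap E p ψ₀ = 0) :
    ∃ ψ₁ : (M₁ →ₗ[R] R) →ₗ[R] E, dmap E f ψ₁ = ψ₀ := by
  let fs : (M₂ →ₗ[R] R) →ₗ[R] (M₁ →ₗ[R] R) := LinearMap.lcomp R R f
  have hker : LinearMap.ker fs ≤ LinearMap.ker ψ₀ := by
    intro φ hφ
    rw [LinearMap.mem_ker] at hφ ⊢
    -- `φ` vanishes on the range of `f`, i.e. on the kernel of `p`
    have hφ' : LinearMap.ker p ≤ LinearMap.ker φ := by
      intro x hx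
      obtain ⟨y, rfl⟩ := (hex x).mp hx
      exact LinearMap.congr_fun hφ y
    have hfac : φ = ((LinearMap.ker p).liftQ φ hφ' ∘ₗ
        (p.quotKerEquivOfSurjective hp).symm.toLinearMap) ∘ₗ p := by
      ext x
      simp only [LinearMap.comp_apply, LinearEquiv.coe_coe]
      have : (p.quotKerEquivOfSurjective hp).symm (p x) = Submodule.Quotient.mk x := by
        rw [LinearEquiv.symm_apply_eq]
        rfl
      rw [this]
      rfl
    rw [hfac]
    have h' := LinearMap.congr_fun h ((LinearMap.ker p).liftQ φ hφ' ∘ₗ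
        (p.quotKerEquivOfSurjective hp).symm.toLinearMap)
    rw [dmap_apply] at h'
    exact h'
  let ι : ((M₂ →ₗ[R] R) ⧸ LinearMap.ker fs) →ₗ[R] (M₁ →ₗ[R] R) :=
    (LinearMap.ker fs).liftQ fs le_rfl
  have hι : Function.Injective ι := by
    rw [← LinearMap.ker_eq_bot]
    exact Submodule.ker_liftQ_eq_bot _ _ _ le_rfl
  obtain ⟨ψ₁, hψ₁⟩ := Module.Injective.extension_property R E _ _ ι hι
    ((LinearMap.ker fs).liftQ ψ₀ hker)
  refine ⟨ψ₁, ?_⟩
  ext φ
  have := LinearMap.congr_fun hψ₁ (Submodule.Quotient.mk φ)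
  simpa [ι, fs] using this

end Dual

section Main

variable [IsNoetherianRing R]

/-- **Top degree duality**: if `H^{n+1}_J` vanishes identically and `H^n_J(R)` is injective, then
`H^n_J(M) ≃ Hom(Hom(M, R), H^n_J(R))` for all finite `M`. -/
theorem isDualIso_of_finite
    (hcd : ∀ (N : Type u) [AddCommGroup N] [Module R N], Subsingleton (H J (n + 1) N))
    [Module.Injective R (H J n R)] (M : Type u) [AddCommGroup M] [Module R M]
    [Module.Finite R M] : IsDualIso J n M := by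
  obtain ⟨a, p, hp⟩ := Module.Finite.exists_fin' R M
  obtain ⟨b, q, hq⟩ := Module.Finite.exists_fin' R (LinearMap.ker p)
  let f : (Fin b → R) →ₗ[R] (Fin a → R) := (LinearMap.ker p).subtype ∘ₗ q
  have hex : Function.Exact f p := by
    intro x
    constructor
    · intro hx
      obtain ⟨y, hy⟩ := hq ⟨x, hx⟩
      exact ⟨y, by simp [f, hy]⟩
    · rintro ⟨y, rfl⟩
      exact (q y).2
  have hpf : p ∘ₗ f = 0 := by
    ext y
    simp only [LinearMap.comp_apply, LinearMap.zero_apply]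
    exact (hex (f _)).mpr ⟨_, rfl⟩
  -- surjectivity on local cohomology
  have hHp : Function.Surjective (hmap J n p) :=
    map_surjective_of_surjective J n p hp (hcd _)
  have hHq : Function.Surjective (hmap J n q) :=
    map_surjective_of_surjective J n q hq (hcd _)
  have hHex : ∀ ξ₀ : H J n (Fin a → R), hmap J n p ξ₀ = 0 → ∃ ξ₁, hmap J n f ξ₁ = ξ₀ := by
    intro ξ₀ h0
    have hS := LinearMap.shortExact_shortComplexKer hp
    obtain ⟨ζ, hζ⟩ := (exact_f_g J n hS ξ₀).mp h0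
    obtain ⟨ξ₁, rfl⟩ := hHq ζ
    refine ⟨ξ₁, ?_⟩
    rw [hmap_comp]
    exact hζ
  have h0 := isDualIso_pi_fin J n a
  have h1 := isDualIso_pi_fin J n b
  constructor
  · rw [injective_iff_map_eq_zero]
    intro ξ hξ
    obtain ⟨ξ₀, rfl⟩ := hHp ξ
    have hd : dmap (H J n R) p (θ J n _ ξ₀) = 0 := by
      ext φ
      rw [dmap_apply, ← θ_natural, hξ]
    obtain ⟨ψ₁, hψ₁⟩ := dmap_exact f p hp hex _ hd
    obtain ⟨ξ₁, rfl⟩ := h1.2 ψ₁
    have h2 : θ J n _ (hmap J n f ξ₁) = θ J n _ ξ₀ := by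
      rw [← hψ₁]
      ext φ
      rw [θ_natural, dmap_apply]
    have h3 := h0.1 h2
    rw [← h3, ← hmap_comp, hpf, hmap_zero]
  · intro ψ
    obtain ⟨ψ₀, hψ₀⟩ := dmap_surjective (E := H J n R) p hp ψ
    obtain ⟨ξ₀, hξ₀⟩ := h0.2 ψ₀
    refine ⟨hmap J n p ξ₀, ?_⟩
    ext φ
    rw [θ_natural, hξ₀, ← hψ₀, dmap_apply]

end Main

end Groth.Agent.Helper8.LD
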