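import Groth.Agent.Lib.Helper8.LD8

/-!
# Local duality by dimension shifting
-/

set_option autoImplicit false
universe u

namespace Groth.Agent.Helper8.LD

open CategoryTheory Abelian LocCoh localCohomology
open Groth.Agent.Helper8.LC

section Abstract

variable {R : Type u} [CommRing R]

/-- kernels correspond under a commutative square with bijective left and injective right
vertical maps. -/
lemma nonempty_ker_equiv {A B A' B' : Type*} [AddCommGroup A] [Module R A] [AddCommGroup B]
    [Module R B] [AddCommGroup A'] [Module R A'] [AddCommGroup B'] [Module R B']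
    (f : A →ₗ[R] B) (f' : A' →ₗ[R] B') (a : A →ₗ[R] A') (b : B →ₗ[R] B')
    (hcomm : ∀ x, b (f x) = f' (a x)) (ha : Function.Bijective a) (hb : Function.Injective b) :
    Nonempty (LinearMap.ker f ≃ₗ[R] LinearMap.ker f') := by
  let g : LinearMap.ker f →ₗ[R] LinearMap.ker f' :=
    (a ∘ₗ (LinearMap.ker f).subtype).codRestrict _ (by
      intro x
      rw [LinearMap.mem_ker, LinearMap.comp_apply, ← hcomm]
      have : f x.1 = 0 := x.2
      rw [Submodule.subtype_apply, this, map_zero])
  refine ⟨LinearEquiv.ofBijective g ⟨?_, ?_⟩⟩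
  · intro x y hxy
    apply Subtype.ext
    apply ha.1
    exact congrArg Subtype.val hxy
  · intro y
    obtain ⟨x, hx⟩ := ha.2 y.1
    have hx0 : f x = 0 := by
      apply hb
      rw [hcomm, hx, map_zero]
      exact y.2
    exact ⟨⟨x, hx0⟩, Subtype.ext hx⟩

/-- `Hom(C, E)` is the kernel of `Hom(B, E) → Hom(A, E)` when `A → B → C → 0` is exact. -/
lemma nonempty_hom_coker_equiv {A B C E : Type*} [AddCommGroup A] [Module R A] [AddCommGroup B]
    [Module R B] [AddCommGroup C] [Module R C] [AddCommGroup E] [Module R E]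
    (u : A →ₗ[R] B) (d : B →ₗ[R] C) (hd : Function.Surjective d) (hex : Function.Exact u d) :
    Nonempty ((C →ₗ[R] E) ≃ₗ[R] LinearMap.ker (LinearMap.lcomp R E u)) := by
  let g : (C →ₗ[R] E) →ₗ[R] LinearMap.ker (LinearMap.lcomp R E u) :=
    (LinearMap.lcomp R E d).codRestrict _ (by
      intro χ
      rw [LinearMap.mem_ker]
      ext x
      simp only [LinearMap.lcomp_apply', LinearMap.comp_apply, LinearMap.zero_apply]
      rw [hex.apply_apply_eq_zero, map_zero])
  refine ⟨LinearEquiv.ofBijective g ⟨?_, ?_⟩⟩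
  · intro χ χ' h
    ext c
    obtain ⟨b, rfl⟩ := hd c
    have h' := congrArg Subtype.val h
    exact LinearMap.congr_fun h' b
  · rintro ⟨χ, hχ⟩
    rw [LinearMap.mem_ker] at hχ
    have hker : LinearMap.ker d ≤ LinearMap.ker χ := by
      intro b hb
      obtain ⟨a, rfl⟩ := (hex b).mp hb
      exact LinearMap.congr_fun hχ a
    refine ⟨(LinearMap.ker d).liftQ χ hker ∘ₗ (d.quotKerEquivOfSurjective hd).symm.toLinearMap, ?_⟩
    apply Subtype.ext
    ext b
    change (LinearMap.ker d).liftQ χ hker ((d.quotKerEquivOfSurjective hd).symm (d b)) = χ b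
    have : (d.quotKerEquivOfSurjective hd).symm (d b) = Submodule.Quotient.mk b := by
      rw [LinearEquiv.symm_apply_eq]
      rfl
    rw [this]
    rfl

end Abstract

section Shift

variable {R : Type u} [CommRing R]
variable {S : ShortComplex (ModuleCat.{u} R)} (hS : S.ShortExact) (Y : ModuleCat.{u} R)

/-- the connecting map `Ext^j(X₁, Y) → Ext^{j+1}(X₃, Y)`. -/
noncomputable def extδ (j : ℕ) : Ext S.X₁ Y j →ₗ[R] Ext S.X₃ Y (j + 1) :=
  hS.extClass.precompOfLinear R Y (add_comm 1 j)

lemma extδ_apply (j : ℕ) (x : Ext S.X₁ Y j) :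
    extδ hS Y j x = hS.extClass.comp x (add_comm 1 j) := rfl

lemma extδ_surjective (j : ℕ) (h : Subsingleton (Ext S.X₂ Y (j + 1))) :
    Function.Surjective (extδ hS Y j) := by
  intro y
  obtain ⟨x₁, hx₁⟩ := Ext.contravariant_sequence_exact₃ hS Y y (h.elim _ _) (add_comm 1 j)
  exact ⟨x₁, hx₁⟩

lemma extδ_bijective (j : ℕ) (h0 : Subsingleton (Ext S.X₂ Y j))
    (h : Subsingleton (Ext S.X₂ Y (j + 1))) : Function.Bijective (extδ hS Y j) := by
  refine ⟨?_, extδ_surjective hS Y j h⟩
  rw [injective_iff_map_eq_zero]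
  intro x hx
  obtain ⟨x₂, hx₂⟩ := Ext.contravariant_sequence_exact₁ hS Y x (add_comm 1 j) hx
  rw [← hx₂, h0.elim x₂ 0, Ext.comp_zero]

lemma extδ_exact : Function.Exact
    ((Ext.mk₀ S.f).precompOfLinear R Y (zero_add 0)) (extδ hS Y 0) := by
  intro x
  constructor
  · intro hx
    obtain ⟨x₂, hx₂⟩ := Ext.contravariant_sequence_exact₁ hS Y x (add_comm 1 0) hx
    exact ⟨x₂, hx₂⟩
  · rintro ⟨x₂, rfl⟩
    change hS.extClass.comp ((Ext.mk₀ S.f).comp x₂ (zero_add 0)) (add_comm 1 0) = 0
    rw [← Ext.comp_assoc hS.extClass (Ext.mk₀ S.f) x₂ (add_zero 1) (zero_add 0) (by omega),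
      ShortComplex.ShortExact.extClass_comp, Ext.zero_comp]

end Shift

end Groth.Agent.Helper8.LD
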