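import Groth.Agent.Lib.Helper8.LC26
import Groth.Agent.Lib.Helper8.LG1

/-!
# The local-global principle for finiteness of local cohomology
-/

set_option autoImplicit false
universe u
open CategoryTheory CategoryTheory.Limits Opposite

namespace Groth.Agent.Helper8.LG

open Abelian localCohomology LocCoh Groth.Agent.Helper8.LC

variable {R : Type u} [CommRing R] [IsNoetherianRing R]

omit [IsNoetherianRing R] in
lemma annSub_fg_of_equiv (I : Ideal R) {X Y : Type*} [AddCommGroup X] [Module R X]
    [AddCommGroup Y] [Module R Y] (e : X ≃ₗ[R] Y) (h : (annSub I X).FG) : (annSub I Y).FG := by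
  have hle : annSub I Y ≤ (annSub I X).map e.toLinearMap := by
    intro y hy
    refine ⟨e.symm y, ?_, e.apply_symm_apply y⟩
    intro a ha
    rw [← map_smul, hy a ha, map_zero]
  have hge : (annSub I X).map e.toLinearMap ≤ annSub I Y := by
    rintro _ ⟨x, hx, rfl⟩ a ha
    change a • e x = 0
    rw [← map_smul, hx a ha, map_zero]
  rw [le_antisymm hle hge]
  exact h.map _

lemma finite_of_exact_of_finite {A B C : Type*} [AddCommGroup A] [Module R A] [AddCommGroup B]
    [Module R B] [AddCommGroup C] [Module R C] (f : A →ₗ[R] B) (g : B →ₗ[R] C)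
    (h : Function.Exact f g) [Module.Finite R A] [Module.Finite R C] : Module.Finite R B := by
  haveI : IsNoetherian R C := isNoetherian_of_isNoetherianRing_of_finite R C
  refine ⟨Submodule.fg_of_fg_map_of_fg_inf_ker g (IsNoetherian.noetherian _) ?_⟩
  rw [top_inf_eq, LinearMap.exact_iff.mp h, LinearMap.range_eq_map]
  exact Module.Finite.fg_top.map f

/-- if `H^j_I(M)` is finite for `j < n` then the socle `(0 :_{H^n_I(M)} I)` is finite. -/
theorem annSub_H_fg (I : Ideal R) (n : ℕ) :
    ∀ (M : Type u) [AddCommGroup M] [Module R M] [Module.Finite R M],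
      (∀ j < n, Module.Finite R (H I j M)) → (annSub I (H I n M)).FG := by
  induction n with
  | zero =>
    intro M _ _ _ _
    haveI := finite_h0 I M
    haveI : IsNoetherian R (H I 0 M) := isNoetherian_of_isNoetherianRing_of_finite R _
    exact IsNoetherian.noetherian _
  | succ n ih =>
    intro M _ _ _ hlow
    let T := DRing.torsionSub I M
    have hbij : ∀ j, 0 < j → Function.Bijective
        ((localCohomology I j).map (ModuleCat.ofHom T.mkQ)).hom :=
      fun j hj => bijective_map_mkQ_torsionSub I M j hj
    suffices h : (annSub I (H I (n + 1) (M ⧸ T))).FG from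
      annSub_fg_of_equiv I (LinearEquiv.ofBijective _ (hbij (n + 1) (Nat.succ_pos n))).symm h
    have hM' : DRing.torsionSub I (M ⧸ T) = ⊥ := torsionSub_quotient_torsionSub_eq_bot I M
    have hlow' : ∀ j < n + 1, Module.Finite R (H I j (M ⧸ T)) := by
      intro j hj
      rcases Nat.eq_zero_or_pos j with rfl | hjpos
      · exact finite_h0 I (M ⧸ T)
      · haveI := hlow j hj
        exact Module.Finite.equiv (LinearEquiv.ofBijective _ (hbij j hjpos))
    obtain ⟨x, hx, hreg⟩ := exists_isSMulRegular_mem_pow I (M ⧸ T) hM' 1
    rw [pow_one] at hx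
    have hS := IsSMulRegular.smulShortComplex_shortExact (M := ModuleCat.of R (M ⧸ T)) hreg
    have hQlow : ∀ j < n, Module.Finite R (H I j (QuotSMulTop x (M ⧸ T))) := by
      intro j hj
      haveI : Module.Finite R ((localCohomology I j).obj
          (ModuleCat.smulShortComplex (ModuleCat.of R (M ⧸ T)) x).X₂) := hlow' j (by omega)
      haveI : Module.Finite R ((localCohomology I (j + 1)).obj
          (ModuleCat.smulShortComplex (ModuleCat.of R (M ⧸ T)) x).X₁) := hlow' (j + 1) (by omega)
      exact finite_of_exact_of_finite _ _ (exact_g_δ I j hS)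
    have hIH := ih (QuotSMulTop x (M ⧸ T)) hQlow
    let g := ((localCohomology I n).map
      (ModuleCat.smulShortComplex (ModuleCat.of R (M ⧸ T)) x).g).hom
    have hU : (LinearMap.range g).FG := by
      haveI : Module.Finite R ((localCohomology I n).obj
          (ModuleCat.smulShortComplex (ModuleCat.of R (M ⧸ T)) x).X₂) := hlow' n (by omega)
      rw [LinearMap.range_eq_map]
      exact Module.Finite.fg_top.map g
    have hV := colonSub_fg I (LinearMap.range g) hU hIH
    refine Submodule.FG.of_le (hV.map (δ I n hS)) ?_
    intro y hy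
    have hxy : x • y = 0 := hy x hx
    have h1 : ((localCohomology I (n + 1)).map
        (ModuleCat.smulShortComplex (ModuleCat.of R (M ⧸ T)) x).f) y = 0 :=
      (map_smul_id I (n + 1) (ModuleCat.of R (M ⧸ T)) x y).trans hxy
    obtain ⟨z, rfl⟩ := (exact_δ_f I n hS y).mp h1
    refine ⟨z, ?_, rfl⟩
    intro a ha
    have h2 : δ I n hS (a • z) = 0 := by
      rw [map_smul]
      exact hy a ha
    exact (exact_g_δ I n hS (a • z)).mp h2

/-- **Faltings' local-global principle** for the finiteness of local cohomology. -/
theorem finite_H_iff_locally (I : Ideal R) (M : Type u) [AddCommGroup M] [Module R M]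
    [Module.Finite R M] (n : ℕ) :
    (∀ i : ℕ, i ≤ n → Module.Finite R (LocCoh.H I i M)) ↔
      ∀ (p : Ideal R) [p.IsPrime], ∀ i : ℕ, i ≤ n →
        Module.Finite (Localization.AtPrime p) (LocalizedModule p.primeCompl (LocCoh.H I i M)) := by
  constructor
  · intro h p _ i hi
    haveI := h i hi
    exact Module.Finite.of_isLocalizedModule p.primeCompl
      (LocalizedModule.mkLinearMap p.primeCompl (LocCoh.H I i M))
  · intro h
    have key : ∀ i : ℕ, i ≤ n → Module.Finite R (LocCoh.H I i M) := by
      intro i
      induction i using Nat.strong_induction_on with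
      | _ i ih =>
      intro hi
      have hlow : ∀ j < i, Module.Finite R (H I j M) := fun j hj => ih j hj (by omega)
      exact finite_of_locally_finite I (H I i M)
        (fun y => isPowerTorsion I i (ModuleCat.of R M) y) (annSub_H_fg I i M hlow)
        (fun p _ => h p i hi)
    exact key

end Groth.Agent.Helper8.LG
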