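import Groth.Agent.Lib.Helper8.Len2

/-!
# Lengths over a local ring of finite-length modules over a semi-local algebra (S6320)
-/

set_option autoImplicit false
universe u v

namespace Groth.Agent.Helper8.Len

open Function

section covby

variable {B : Type u} [CommRing B] {M : Type v} [AddCommGroup M] [Module B M]

theorem covBy_equiv {p q : Submodule B M} (h : p ⋖ q) :
    (p.colon (q : Set M)).IsMaximal ∧
      Nonempty ((q ⧸ LinearMap.range (Submodule.inclusion h.le)) ≃ₗ[B]
        B ⧸ p.colon (q : Set M)) := by
  have key : IsSimpleModule B (q ⧸ LinearMap.range (Submodule.inclusion h.le)) := by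
    rwa [Submodule.range_inclusion, ← covBy_iff_quot_is_simple h.le]
  obtain ⟨m', hm', ⟨e⟩⟩ := isSimpleModule_iff_quot_maximal.mp key
  have hcolon : p.colon (q : Set M) = m' := by
    have hann : Module.annihilator B (q ⧸ LinearMap.range (Submodule.inclusion h.le)) = m' := by
      rw [e.annihilator_eq, Ideal.annihilator_quotient]
    rw [← hann]
    ext r
    rw [Submodule.mem_colon, Module.mem_annihilator]
    constructor
    · intro hr z
      obtain ⟨x, rfl⟩ := Submodule.Quotient.mk_surjective _ z
      rw [← Submodule.Quotient.mk_smul, Submodule.Quotient.mk_eq_zero]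
      exact ⟨⟨r • x.1, hr x.1 x.2⟩, rfl⟩
    · intro hr x hx
      have := hr (Submodule.Quotient.mk ⟨x, hx⟩)
      rw [← Submodule.Quotient.mk_smul, Submodule.Quotient.mk_eq_zero] at this
      obtain ⟨y, hy⟩ := this
      have hy' : (y : M) = r • x := congrArg Subtype.val hy
      rw [← hy']
      exact y.2
  rw [hcolon]
  exact ⟨hm', ⟨e⟩⟩

variable {A : Type*} [CommRing A] [Algebra A B] [Module A M] [IsScalarTower A B M]

theorem covBy_length_restrictScalars {p q : Submodule B M} (h : p ⋖ q) :
    Module.length A q = Module.length A p + Module.length A (B ⧸ p.colon (q : Set M)) := by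
  obtain ⟨_, ⟨e⟩⟩ := covBy_equiv h
  let f : p →ₗ[B] q := Submodule.inclusion h.le
  let g : q →ₗ[B] B ⧸ p.colon (q : Set M) := e.toLinearMap.comp (LinearMap.range f).mkQ
  have hf : Injective f := Submodule.inclusion_injective _
  have hg : Surjective g := e.surjective.comp (Submodule.mkQ_surjective _)
  have hfg : Exact f g := by
    intro y
    change e ((LinearMap.range f).mkQ y) = 0 ↔ _
    rw [e.map_eq_zero_iff]
    exact LinearMap.exact_map_mkQ_range f y
  exact Module.length_eq_add_of_exact (f.restrictScalars A) (g.restrictScalars A) hf hg hfg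

end covby

section residue

variable {A B : Type*} [CommRing A] [CommRing B] [Algebra A B]

theorem length_quotient_eq_finrank (n : Ideal B) (hn : (n.comap (algebraMap A B)).IsMaximal)
    [Module.Finite (A ⧸ n.comap (algebraMap A B)) (B ⧸ n)] :
    Module.length A (B ⧸ n) =
      (Module.finrank (A ⧸ n.comap (algebraMap A B)) (B ⧸ n) : ℕ∞) := by
  rw [Module.length_eq_of_surjective (R := A ⧸ n.comap (algebraMap A B)) (M := B ⧸ n)
    (S := A) Ideal.Quotient.mk_surjective]
  letI := Ideal.Quotient.field (n.comap (algebraMap A B))
  exact Module.length_eq_finrank _ _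

end residue

section main

variable {A B : Type u} [CommRing A] [CommRing B] [Algebra A B] {M : Type v} [AddCommGroup M]
  [Module B M] [Module A M] [IsScalarTower A B M]

theorem length_eq_sum_of_compositionSeries [Fintype (MaximalSpectrum B)]
    (hmax : ∀ n : MaximalSpectrum B, (n.asIdeal.comap (algebraMap A B)).IsMaximal)
    (hfin : ∀ n : MaximalSpectrum B,
      Module.Finite (A ⧸ n.asIdeal.comap (algebraMap A B)) (B ⧸ n.asIdeal))
    (s : CompositionSeries (Submodule B M)) (h0 : s.head = ⊥) (h1 : s.last = ⊤) :
    Module.length A M = ∑ n : MaximalSpectrum B,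
      (Module.finrank (A ⧸ n.asIdeal.comap (algebraMap A B)) (B ⧸ n.asIdeal) : ℕ∞) *
        Module.length (Localization.AtPrime n.asIdeal)
          (LocalizedModule n.asIdeal.primeCompl M) := by
  classical
  have key : ∀ k : Fin (s.length + 1), Module.length A (s k) = ∑ n : MaximalSpectrum B,
      (Module.finrank (A ⧸ n.asIdeal.comap (algebraMap A B)) (B ⧸ n.asIdeal) : ℕ∞) *
        Module.length (Localization.AtPrime n.asIdeal)
          (LocalizedModule n.asIdeal.primeCompl (s k)) := by
    intro k
    induction k using Fin.induction with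
    | zero =>
      have hbot : s 0 = ⊥ := h0
      have hsub : Subsingleton (s 0) := by
        rw [hbot]; infer_instance
      rw [Module.length_eq_zero]
      symm
      apply Finset.sum_eq_zero
      intro n _
      rw [Module.length_eq_zero, mul_zero]
    | succ j ih =>
      have hstep := s.step j
      have hcm := (covBy_equiv hstep).1
      obtain ⟨n₀, hn₀⟩ : ∃ n₀ : MaximalSpectrum B,
          n₀ = ⟨(s j.castSucc).colon (s j.succ : Set M), hcm⟩ := ⟨_, rfl⟩
      have hn₀' : n₀.asIdeal = (s j.castSucc).colon (s j.succ : Set M) := by rw [hn₀]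
      rw [covBy_length_restrictScalars (A := A) hstep, ih]
      have hterm : ∀ n : MaximalSpectrum B,
          Module.length (Localization.AtPrime n.asIdeal)
            (LocalizedModule n.asIdeal.primeCompl (s j.succ)) =
          Module.length (Localization.AtPrime n.asIdeal)
            (LocalizedModule n.asIdeal.primeCompl (s j.castSucc)) +
              if n = n₀ then 1 else 0 := by
        intro n
        haveI := n.2
        rw [(covBy_length_localized hstep n.asIdeal).2]
        congr 1
        by_cases h : n = n₀
        · rw [if_pos h, if_pos]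
          rw [h, hn₀']
        · rw [if_neg h, if_neg]
          intro h'
          apply h
          apply MaximalSpectrum.ext
          rw [hn₀', h']
      simp only [hterm, mul_add, Finset.sum_add_distrib, mul_ite, mul_one, mul_zero]
      congr 1
      rw [Finset.sum_ite_eq' Finset.univ n₀, if_pos (Finset.mem_univ _)]
      haveI := hfin n₀
      have := length_quotient_eq_finrank (A := A) n₀.asIdeal (hmax n₀)
      rw [← this, hn₀']
  have hlast := key (Fin.last s.length)
  have htop : s (Fin.last s.length) = ⊤ := h1
  have e : (s (Fin.last s.length)) ≃ₗ[B] M :=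
    (LinearEquiv.ofEq _ _ htop).trans Submodule.topEquiv
  have e1 : Module.length A (s (Fin.last s.length)) = Module.length A M :=
    (e.restrictScalars A).length_eq
  rw [← e1, hlast]
  refine Finset.sum_congr rfl fun n _ => ?_
  haveI := n.2
  rw [OD.length_localized_congr n.asIdeal e]

/-- **S6320.** -/
theorem length_eq_finsum [IsLocalRing A] [Finite (MaximalSpectrum B)]
    (hover : ∀ n : MaximalSpectrum B,
      n.asIdeal.comap (algebraMap A B) = IsLocalRing.maximalIdeal A)
    (hfin : ∀ n : MaximalSpectrum B,
      Module.Finite (A ⧸ n.asIdeal.comap (algebraMap A B)) (B ⧸ n.asIdeal))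
    (hM : IsFiniteLength B M) :
    Module.length A M = ∑ᶠ n : MaximalSpectrum B,
      (Module.finrank (A ⧸ n.asIdeal.comap (algebraMap A B)) (B ⧸ n.asIdeal) : ℕ∞) *
        Module.length (Localization.AtPrime n.asIdeal)
          (LocalizedModule n.asIdeal.primeCompl M) := by
  haveI := Fintype.ofFinite (MaximalSpectrum B)
  obtain ⟨s, h0, h1⟩ := isFiniteLength_iff_exists_compositionSeries.mp hM
  rw [finsum_eq_sum_of_fintype]
  refine length_eq_sum_of_compositionSeries (fun n => ?_) hfin s h0 h1
  rw [hover n]
  exact IsLocalRing.maximalIdeal.isMaximal A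

end main

end Groth.Agent.Helper8.Len
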