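import Mathlib
import Groth.Agent.Lib.Helper8.OD1
import Groth.Agent.Lib.Helper8.Len3

/-!
# Lengths of `M/xM` for lattices over a one-dimensional domain: generic module lemmas
-/

set_option autoImplicit false
universe u v

namespace Groth.Agent.Helper8.LQ

open Function Module
open scoped Pointwise

section U

variable {R : Type*} [Ring R] {N : Type*} [AddCommGroup N] [Module R N]

theorem eq_of_le_of_length_eq {P P' : Submodule R N} (hle : P ≤ P')
    (hfin : Module.length R P' ≠ ⊤) (heq : Module.length R P = Module.length R P') : P = P' := by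
  by_contra hne
  have hfl : IsFiniteLength R P' := Module.length_ne_top_iff.mp hfin
  obtain ⟨hN, hA⟩ := isFiniteLength_iff_isNoetherian_isArtinian.mp hfl
  have h1 : P.submoduleOf P' ≠ ⊤ := by
    intro h
    apply hne
    apply le_antisymm hle
    intro y hy
    have : (⟨y, hy⟩ : P') ∈ P.submoduleOf P' := by rw [h]; trivial
    exact this
  have h2 := Submodule.length_lt (R := R) (M := P') h1
  have h3 : Module.length R (P.submoduleOf P') = Module.length R P :=
    (Submodule.submoduleOfEquivOfLe hle).length_eq
  rw [h3, heq] at h2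
  exact lt_irrefl _ h2

theorem length_le_of_forall_fg (c : ℕ)
    (h : ∀ N' : Submodule R N, N'.FG → Module.length R N' ≤ (c : ℕ∞)) :
    Module.length R N ≤ (c : ℕ∞) := by
  let T : Set ℕ := {k | ∃ N' : Submodule R N, N'.FG ∧ Module.length R N' = (k : ℕ∞)}
  have hne : T.Nonempty := ⟨0, ⊥, Submodule.fg_bot, by
    rw [Nat.cast_zero, Module.length_eq_zero_iff]; infer_instance⟩
  have hbdd : BddAbove T := by
    refine ⟨c, ?_⟩
    rintro k ⟨N', hfg, hk⟩
    have := h N' hfg
    rw [hk] at this
    exact_mod_cast this
  obtain ⟨N₀, hfg₀, hk₀⟩ := Nat.sSup_mem hne hbdd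
  have hmax : ∀ N' : Submodule R N, N'.FG → Module.length R N' ≤ Module.length R N₀ := by
    intro N' hfg
    have h1 := h N' hfg
    obtain ⟨k, hk⟩ := ENat.ne_top_iff_exists.mp (ne_top_of_le_ne_top (ENat.natCast_ne_top c) h1)
    have hkT : k ∈ T := ⟨N', hfg, hk.symm⟩
    have := le_csSup hbdd hkT
    rw [← hk, hk₀]
    exact_mod_cast this
  have htop : N₀ = ⊤ := by
    rw [eq_top_iff]
    intro v _
    have hfg' : (N₀ ⊔ Submodule.span R {v}).FG :=
      hfg₀.sup (Submodule.fg_span (Set.finite_singleton v))
    have hle : N₀ ≤ N₀ ⊔ Submodule.span R {v} := le_sup_left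
    have h1 : Module.length R N₀ ≤ Module.length R ↥(N₀ ⊔ Submodule.span R {v}) :=
      Module.length_le_of_injective (Submodule.inclusion hle) (Submodule.inclusion_injective hle)
    have h2 := hmax _ hfg'
    have h3 : Module.length R ↥(N₀ ⊔ Submodule.span R {v}) ≠ ⊤ :=
      ne_top_of_le_ne_top (ENat.natCast_ne_top c) (h _ hfg')
    have h4 := eq_of_le_of_length_eq hle h3 (le_antisymm h1 h2)
    rw [h4]
    exact Submodule.mem_sup_right (Submodule.mem_span_singleton_self v)
  have : Module.length R N = Module.length R N₀ := by
    rw [htop, Module.length_top]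
  rw [this]
  exact h N₀ hfg₀

end U

section Qx

variable {A : Type*} [CommRing A] (x : A) (Q : Type*) [AddCommGroup Q] [Module A Q]

theorem range_lsmul_eq : LinearMap.range (LinearMap.lsmul A Q x) = (x • ⊤ : Submodule A Q) := by
  ext q
  rw [Submodule.mem_smul_pointwise_iff_exists]
  constructor
  · rintro ⟨m, rfl⟩
    exact ⟨m, Submodule.mem_top, rfl⟩
  · rintro ⟨m, -, rfl⟩
    exact ⟨m, rfl⟩

theorem length_ker_eq_length_quot (hQ : IsFiniteLength A Q) :
    Module.length A (LinearMap.ker (LinearMap.lsmul A Q x)) =
      Module.length A (QuotSMulTop x Q) := by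
  have h1 := KoszulLib.length_eq_ker_add_range (LinearMap.lsmul A Q x)
  have h2 := KoszulLib.length_eq_ker_add_range (Submodule.mkQ (x • ⊤ : Submodule A Q))
  rw [Submodule.ker_mkQ, LinearMap.range_eq_top.mpr (Submodule.mkQ_surjective _),
    Module.length_top] at h2
  rw [range_lsmul_eq] at h1
  have hfin : Module.length A Q ≠ ⊤ := Module.length_ne_top_iff.mpr hQ
  have hfin2 : Module.length A ↥(x • ⊤ : Submodule A Q) ≠ ⊤ :=
    ne_top_of_le_ne_top hfin
      (Module.length_le_of_injective (Submodule.subtype _) (Submodule.subtype_injective _))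
  have h3 : Module.length A (LinearMap.ker (LinearMap.lsmul A Q x)) +
        Module.length A ↥(x • ⊤ : Submodule A Q) =
      Module.length A (QuotSMulTop x Q) + Module.length A ↥(x • ⊤ : Submodule A Q) := by
    rw [← h1, add_comm, ← h2]
  exact WithTop.add_right_cancel hfin2 h3

theorem length_quotSMulTop_pi (ι : Type*) [Fintype ι] :
    Module.length A (QuotSMulTop x (ι → A)) =
      (Fintype.card ι : ℕ∞) * Module.length A (A ⧸ Ideal.span {x}) := by
  classical
  have e : QuotSMulTop x (ι → A) ≃ₗ[A] (ι → A ⧸ Ideal.span {x}) :=
    (QuotSMulTop.equivQuotTensor x (ι → A)).trans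
      (TensorProduct.piScalarRight A A (A ⧸ Ideal.span {x}) ι)
  rw [e.length_eq, Module.length_pi_of_fintype A (fun _ : ι => A ⧸ Ideal.span {x}),
    Finset.sum_const, Finset.card_univ, nsmul_eq_mul]

end Qx

section Lattice

variable {A : Type u} [CommRing A] [IsDomain A] (x : A)

theorem length_quotSMulTop_eq (hx : x ≠ 0) (M : Type u) [AddCommGroup M] [Module A M]
    (hreg : IsSMulRegular M x) (n : ℕ) (f : (Fin n → A) →ₗ[A] M) (hf : Injective f)
    (hQ : IsFiniteLength A (M ⧸ LinearMap.range f)) :
    Module.length A (QuotSMulTop x M) =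
      (n : ℕ∞) * Module.length A (A ⧸ Ideal.span {x}) := by
  have key := OD.length_ker_quot_additive x f (LinearMap.range f).mkQ hf
    (Submodule.mkQ_surjective _) (LinearMap.exact_map_mkQ_range f)
  have k1 : Module.length A (LinearMap.ker (LinearMap.lsmul A (Fin n → A) x)) = 0 := by
    rw [Module.length_eq_zero_iff]
    have : LinearMap.ker (LinearMap.lsmul A (Fin n → A) x) = ⊥ := by
      rw [LinearMap.ker_eq_bot]
      intro v w hvw
      funext i
      have := congrFun hvw i
      simp only [LinearMap.lsmul_apply, Pi.smul_apply, smul_eq_mul] at this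
      exact mul_left_cancel₀ hx this
    rw [this]; infer_instance
  have k2 : Module.length A (LinearMap.ker (LinearMap.lsmul A M x)) = 0 := by
    rw [Module.length_eq_zero_iff]
    have : LinearMap.ker (LinearMap.lsmul A M x) = ⊥ := by
      rw [LinearMap.ker_eq_bot]
      intro v w hvw
      exact hreg hvw
    rw [this]; infer_instance
  rw [k1, k2, zero_add, zero_add, length_ker_eq_length_quot x _ hQ, length_quotSMulTop_pi,
    Fintype.card_fin] at key
  have hfin : Module.length A (QuotSMulTop x (M ⧸ LinearMap.range f)) ≠ ⊤ :=
    ne_top_of_le_ne_top (Module.length_ne_top_iff.mpr hQ)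
      (Module.length_le_of_surjective (Submodule.mkQ _) (Submodule.mkQ_surjective _))
  rw [add_comm] at key
  exact WithTop.add_right_cancel hfin key

end Lattice

section comp

variable {A B : Type u} [CommRing A] [CommRing B] [Algebra A B] {M : Type v} [AddCommGroup M]
  [Module B M] [Module A M] [IsScalarTower A B M]

theorem length_eq_sum_of_compositionSeries' [Fintype (MaximalSpectrum B)]
    (s : CompositionSeries (Submodule B M)) (h0 : s.head = ⊥) (h1 : s.last = ⊤) :
    Module.length A M = ∑ n : MaximalSpectrum B,
      Module.length A (B ⧸ n.asIdeal) *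
        Module.length (Localization.AtPrime n.asIdeal)
          (LocalizedModule n.asIdeal.primeCompl M) := by
  classical
  have key : ∀ k : Fin (s.length + 1), Module.length A (s k) = ∑ n : MaximalSpectrum B,
      Module.length A (B ⧸ n.asIdeal) *
        Module.length (Localization.AtPrime n.asIdeal)
          (LocalizedModule n.asIdeal.primeCompl (s k)) := by
    intro k
    induction k using Fin.induction with
    | zero =>
      have hbot : s 0 = ⊥ := h0
      have hsub : Subsingleton (s 0) := by
        rw [hbot]; infer_instance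
      rw [Module.length_eq_zero]
      symm
      apply Finset.sum_eq_zero
      intro n _
      have hz : Module.length (Localization.AtPrime n.asIdeal)
          (LocalizedModule n.asIdeal.primeCompl (s 0)) = 0 := Module.length_eq_zero
      rw [hz, mul_zero]
    | succ j ih =>
      have hstep := s.step j
      have hcm := (Len.covBy_equiv hstep).1
      obtain ⟨n₀, hn₀⟩ : ∃ n₀ : MaximalSpectrum B,
          n₀ = ⟨(s j.castSucc).colon (s j.succ : Set M), hcm⟩ := ⟨_, rfl⟩
      have hn₀' : n₀.asIdeal = (s j.castSucc).colon (s j.succ : Set M) := by rw [hn₀]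
      rw [Len.covBy_length_restrictScalars (A := A) hstep, ih]
      have hterm : ∀ n : MaximalSpectrum B,
          Module.length (Localization.AtPrime n.asIdeal)
            (LocalizedModule n.asIdeal.primeCompl (s j.succ)) =
          Module.length (Localization.AtPrime n.asIdeal)
            (LocalizedModule n.asIdeal.primeCompl (s j.castSucc)) +
              if n = n₀ then 1 else 0 := by
        intro n
        haveI := n.2
        rw [(Len.covBy_length_localized hstep n.asIdeal).2]
        congr 1
        by_cases h : n = n₀
        · rw [if_pos h, if_pos]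
          rw [h, hn₀']
        · rw [if_neg h, if_neg]
          intro h'
          apply h
          apply MaximalSpectrum.ext
          rw [hn₀', h']
      simp only [hterm, mul_add, Finset.sum_add_distrib, mul_ite, mul_one, mul_zero]
      congr 1
      rw [Finset.sum_ite_eq' Finset.univ n₀, if_pos (Finset.mem_univ _), hn₀']
  have hlast := key (Fin.last s.length)
  have htop : s (Fin.last s.length) = ⊤ := h1
  have e : (s (Fin.last s.length)) ≃ₗ[B] M :=
    (LinearEquiv.ofEq _ _ htop).trans Submodule.topEquiv
  have e1 : Module.length A (s (Fin.last s.length)) = Module.length A M :=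
    (e.restrictScalars A).length_eq
  rw [← e1, hlast]
  refine Finset.sum_congr rfl fun n _ => ?_
  haveI := n.2
  rw [OD.length_localized_congr n.asIdeal e]

end comp

end Groth.Agent.Helper8.LQ
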