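import Mathlib
import Groth.Agent.Lib.Helper8.LQ1
import Groth.Agent.Lib.Helper1.MiscL

/-!
# Lengths of `B/xB` for a finite type extension of a one-dimensional local domain
-/

set_option autoImplicit false
universe u v

namespace Groth.Agent.Helper8.LQ

open Function Module IsLocalRing
open scoped Pointwise

section DimOne

variable {A : Type u} [CommRing A] [IsDomain A] [IsNoetherianRing A] [IsLocalRing A]

theorem prime_eq_maximalIdeal (hdim : ringKrullDim A = 1) (p : Ideal A) [hp : p.IsPrime]
    (hp0 : p ≠ ⊥) : p = maximalIdeal A := by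
  have h1 : Ring.KrullDimLE 1 A := ⟨hdim.le⟩
  rcases Ring.krullDimLE_one_iff.mp h1 p hp with h | h
  · exfalso
    have h' : p ∈ (⊥ : Ideal A).minimalPrimes := h
    rw [Ideal.minimalPrimes_eq_subsingleton_self] at h'
    exact hp0 h'
  · exact IsLocalRing.eq_maximalIdeal h

theorem exists_pow_mem_span (hdim : ringKrullDim A = 1) {x a : A} (hx : x ∈ maximalIdeal A)
    (ha : a ≠ 0) : ∃ k : ℕ, x ^ k ∈ Ideal.span {a} := by
  rw [← Ideal.mem_radical_iff, Ideal.radical_eq_sInf, Ideal.mem_sInf]
  rintro J ⟨hJ, hJp⟩
  haveI := hJp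
  have hJ0 : J ≠ ⊥ := by
    intro h
    apply ha
    have : a ∈ J := hJ (Ideal.mem_span_singleton_self a)
    rw [h] at this
    exact (Submodule.mem_bot A).mp this
  rw [prime_eq_maximalIdeal hdim J hJ0]
  exact hx

theorem isFiniteLength_of_torsion (hdim : ringKrullDim A = 1) (Q : Type u) [AddCommGroup Q]
    [Module A Q] [Module.Finite A Q] (htors : ∀ q : Q, ∃ a : A, a ≠ 0 ∧ a • q = 0) :
    IsFiniteLength A Q := by
  refine (Groth.Agent.Helper1.MiscL.support_maximal_iff_isFiniteLength A Q).mp ?_
  intro p hp
  by_cases h0 : p.asIdeal = ⊥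
  · exfalso
    refine (Module.notMem_support_iff.mpr ?_) hp
    rw [LocalizedModule.subsingleton_iff]
    intro q
    obtain ⟨a, ha, haq⟩ := htors q
    refine ⟨a, ?_, haq⟩
    show a ∉ p.asIdeal
    rw [h0]
    exact fun h => ha ((Submodule.mem_bot A).mp h)
  · rw [prime_eq_maximalIdeal hdim p.asIdeal h0]
    exact maximalIdeal.isMaximal A

end DimOne

section Ext

variable {A B K L : Type u}
  [CommRing A] [IsDomain A] [IsNoetherianRing A] [IsLocalRing A]
  [CommRing B] [IsDomain B] [Algebra A B] [FaithfulSMul A B]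
  [Field K] [Field L] [Algebra A K] [IsFractionRing A K] [Algebra B L] [IsFractionRing B L]
  [Algebra K L] [Algebra A L] [IsScalarTower A K L] [IsScalarTower A B L] [FiniteDimensional K L]

omit [IsDomain A] [IsNoetherianRing A] [IsLocalRing A] [IsDomain B] [FaithfulSMul A B]
  [IsFractionRing B L] in
theorem algebraMap_smul' (a : A) (b : B) : algebraMap B L (a • b) = a • algebraMap B L b := by
  rw [Algebra.smul_def, map_mul, ← IsScalarTower.algebraMap_apply A B L, Algebra.smul_def]

theorem exists_basis_in (A B K L : Type u)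
    [CommRing A] [IsDomain A] [CommRing B] [IsDomain B] [Algebra A B]
    [Field K] [Field L] [Algebra A K] [IsFractionRing A K] [Algebra B L] [IsFractionRing B L]
    [Algebra K L] [Algebra A L] [IsScalarTower A K L] [IsScalarTower A B L]
    [FiniteDimensional K L] : ∃ β : Fin (finrank K L) → B,
    LinearIndependent K (fun i => algebraMap B L (β i)) ∧
    Submodule.span K (Set.range (fun i => algebraMap B L (β i))) = ⊤ := by
  classical
  let e := Module.finBasis K L
  have hφ : Injective (algebraMap B L) := IsFractionRing.injective B L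
  have halg : Algebra.IsAlgebraic K L := Algebra.IsAlgebraic.of_finite K L
  have key : ∀ i, ∃ (r : A) (b : B), r ≠ 0 ∧ algebraMap B L b = (algebraMap A K r) • e i := by
    intro i
    obtain ⟨b, s, hs, hbs⟩ := IsFractionRing.div_surjective B (e i)
    have hsalg : IsAlgebraic A s := by
      rw [← isAlgebraic_algebraMap_iff (A := L) hφ, IsFractionRing.isAlgebraic_iff A K L]
      exact halg.isAlgebraic _
    obtain ⟨r, hr0, t, ht⟩ := hsalg.exists_nonzero_dvd hs
    refine ⟨r, t * b, hr0, ?_⟩
    have hs0 : algebraMap B L s ≠ 0 := by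
      intro h
      exact (nonZeroDivisors.ne_zero hs) (hφ (by rw [h, map_zero]))
    have h1 : (algebraMap A K r) • e i = algebraMap A L r * e i := by
      rw [algebraMap_smul K r (e i), Algebra.smul_def]
    rw [h1, IsScalarTower.algebraMap_apply A B L, ht, ← hbs, map_mul, map_mul, mul_div_assoc',
      eq_div_iff hs0]
    ring
  choose r b hr hb using key
  have hw : ∀ i, IsUnit (algebraMap A K (r i)) := fun i =>
    IsUnit.mk0 _ (by
      intro h
      exact hr i (IsFractionRing.injective A K (by rw [h, map_zero])))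
  have heq : (fun i => algebraMap B L (b i)) = ⇑(e.isUnitSMul hw) := by
    funext i
    rw [Module.Basis.isUnitSMul_apply, hb i]
  refine ⟨b, ?_, ?_⟩
  · rw [heq]
    exact (e.isUnitSMul hw).linearIndependent
  · rw [heq]
    exact (e.isUnitSMul hw).span_eq

variable {n : ℕ} (β : Fin n → B)

omit [IsNoetherianRing A] [IsLocalRing A] [FaithfulSMul A B] [FiniteDimensional K L] in
theorem exists_smul_eq_sum
    (hspan : Submodule.span K (Set.range (fun i => algebraMap B L (β i))) = ⊤) (b : B) :
    ∃ a : A, a ≠ 0 ∧ ∃ v : Fin n → A, a • b = ∑ i, v i • β i := by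
  have hφ : Injective (algebraMap B L) := IsFractionRing.injective B L
  have hb : algebraMap B L b ∈ Submodule.span K (Set.range fun i => algebraMap B L (β i)) := by
    rw [hspan]; trivial
  obtain ⟨c, hc⟩ := (Submodule.mem_span_range_iff_exists_fun K).mp hb
  obtain ⟨a, ha⟩ := IsLocalization.exist_integer_multiples_of_finite (nonZeroDivisors A) c
  have ha' : ∀ i, ∃ v : A, algebraMap A K v = (a : A) • c i :=
    fun i => RingHom.mem_rangeS.mp (ha i)
  choose v hv using ha'
  refine ⟨a, nonZeroDivisors.ne_zero a.2, v, ?_⟩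
  apply hφ
  rw [algebraMap_smul', map_sum, ← hc, Finset.smul_sum]
  refine Finset.sum_congr rfl fun i _ => ?_
  rw [algebraMap_smul' (v i) (β i), ← algebraMap_smul K (v i) (algebraMap B L (β i)), hv i,
    smul_assoc]

omit [IsNoetherianRing A] [IsLocalRing A] [FaithfulSMul A B] [FiniteDimensional K L] in
theorem linearCombination_injective
    (hli : LinearIndependent K (fun i => algebraMap B L (β i))) :
    Injective (Fintype.linearCombination A β) := by
  rw [← LinearMap.ker_eq_bot, LinearMap.ker_eq_bot']
  intro v hv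
  rw [Fintype.linearCombination_apply] at hv
  have h1 : ∑ i, algebraMap A K (v i) • algebraMap B L (β i) = 0 := by
    have := congrArg (algebraMap B L) hv
    rw [map_sum, map_zero] at this
    rw [← this]
    refine Finset.sum_congr rfl fun i _ => ?_
    rw [algebraMap_smul' (v i) (β i), algebraMap_smul K (v i)]
  have h2 := Fintype.linearIndependent_iff.mp hli (fun i => algebraMap A K (v i)) h1
  funext i
  exact IsFractionRing.injective A K (by rw [h2 i]; exact (map_zero _).symm)

/-- the quotient map `B → B/xB` as an `A`-linear map -/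
noncomputable def piA (x : A) : B →ₗ[A] (B ⧸ Ideal.span {algebraMap A B x}) :=
  (Ideal.Quotient.mkₐ A (Ideal.span {algebraMap A B x})).toLinearMap

omit [IsDomain A] [IsNoetherianRing A] [IsLocalRing A] [IsDomain B] [FaithfulSMul A B] in
theorem piA_surjective (x : A) : Surjective (piA (B := B) x) :=
  Ideal.Quotient.mk_surjective

omit [IsDomain A] [IsNoetherianRing A] [IsLocalRing A] [IsDomain B] [FaithfulSMul A B] in
theorem piA_eq_zero_iff (x : A) (b : B) : piA x b = 0 ↔ ∃ c : B, x • c = b := by
  show Ideal.Quotient.mk _ b = 0 ↔ _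
  rw [Ideal.Quotient.eq_zero_iff_mem, Ideal.mem_span_singleton']
  constructor
  · rintro ⟨c, hc⟩
    exact ⟨c, by rw [Algebra.smul_def, mul_comm]; exact hc⟩
  · rintro ⟨c, hc⟩
    exact ⟨c, by rw [← hc, Algebra.smul_def, mul_comm]⟩

omit [IsNoetherianRing A] [IsLocalRing A] in
theorem smul_left_cancel_of_ne {x : A} (hx0 : x ≠ 0) {b c : B} (h : x • b = x • c) : b = c := by
  rw [Algebra.smul_def, Algebra.smul_def] at h
  have hx' : algebraMap A B x ≠ 0 := by
    intro h'
    exact hx0 (FaithfulSMul.algebraMap_injective A B (by rw [h', map_zero]))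
  exact mul_left_cancel₀ hx' h

/-- the induced map from a lattice -/
noncomputable def gM (x : A) (M : Submodule A B) : M →ₗ[A] (B ⧸ Ideal.span {algebraMap A B x}) :=
  (piA x).comp M.subtype

omit [IsDomain A] [IsNoetherianRing A] [IsLocalRing A] [IsDomain B] [FaithfulSMul A B] in
theorem smul_top_le_ker_gM (x : A) (M : Submodule A B) :
    (x • ⊤ : Submodule A M) ≤ LinearMap.ker (gM x M) := by
  intro m hm
  obtain ⟨m', -, rfl⟩ := (Submodule.mem_smul_pointwise_iff_exists _ _ _).mp hm
  rw [LinearMap.mem_ker]
  show piA x ((x • m' : M) : B) = 0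
  rw [piA_eq_zero_iff]
  exact ⟨(m' : B), rfl⟩

/-- the map `M/xM → B/xB` -/
noncomputable def gbar (x : A) (M : Submodule A B) :
    QuotSMulTop x M →ₗ[A] (B ⧸ Ideal.span {algebraMap A B x}) :=
  (x • ⊤ : Submodule A M).liftQ (gM x M) (smul_top_le_ker_gM x M)

omit [IsDomain A] [IsNoetherianRing A] [IsLocalRing A] [IsDomain B] [FaithfulSMul A B] in
theorem range_gbar (x : A) (M : Submodule A B) :
    LinearMap.range (gbar x M) = LinearMap.range (gM x M) :=
  Submodule.range_liftQ _ _ _

variable (hdim : ringKrullDim A = 1) {x : A} (hx0 : x ≠ 0)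
  (hli : LinearIndependent K (fun i => algebraMap B L (β i)))
  (hspan : Submodule.span K (Set.range (fun i => algebraMap B L (β i))) = ⊤)

include hdim hx0 hli hspan in
theorem length_quot_lattice (M : Submodule A B) (hM : M.FG) (hβ : ∀ i, β i ∈ M) :
    Module.length A (QuotSMulTop x M) =
      (n : ℕ∞) * Module.length A (A ⧸ Ideal.span {x}) := by
  haveI : Module.Finite A M := Module.Finite.of_fg hM
  have hmem : ∀ v : Fin n → A, Fintype.linearCombination A β v ∈ M := by
    intro v
    rw [Fintype.linearCombination_apply]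
    exact M.sum_mem fun i _ => M.smul_mem _ (hβ i)
  let f' : (Fin n → A) →ₗ[A] M := (Fintype.linearCombination A β).codRestrict M hmem
  have hf' : Injective f' := by
    intro v w h
    exact linearCombination_injective (A := A) (K := K) (L := L) β hli (congrArg Subtype.val h)
  have hreg : IsSMulRegular M x := by
    intro m m' h
    apply Subtype.ext
    have h' : x • (m : B) = x • (m' : B) := congrArg Subtype.val h
    exact smul_left_cancel_of_ne hx0 h'
  have hQ : IsFiniteLength A (M ⧸ LinearMap.range f') := by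
    apply isFiniteLength_of_torsion hdim
    intro q
    obtain ⟨m, rfl⟩ := Submodule.Quotient.mk_surjective _ q
    obtain ⟨a, ha, v, hv⟩ := exists_smul_eq_sum (A := A) (K := K) (L := L) β hspan (m : B)
    refine ⟨a, ha, ?_⟩
    rw [← Submodule.Quotient.mk_smul, Submodule.Quotient.mk_eq_zero]
    refine ⟨v, Subtype.ext ?_⟩
    show Fintype.linearCombination A β v = ((a • m : M) : B)
    rw [Fintype.linearCombination_apply, ← hv]
    rfl
  exact length_quotSMulTop_eq x hx0 M hreg n f' hf' hQ

omit [IsDomain A] [IsNoetherianRing A] [IsLocalRing A] [IsDomain B] [FaithfulSMul A B] in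
/-- lattices containing the basis and capturing a given f.g. submodule of `B/xB` -/
theorem exists_lattice (x : A) (N' : Submodule A (B ⧸ Ideal.span {algebraMap A B x}))
    (hN' : N'.FG) :
    ∃ M : Submodule A B, M.FG ∧ (∀ i, β i ∈ M) ∧ N' ≤ LinearMap.range (gM x M) := by
  obtain ⟨S, hSfin, hS⟩ := Submodule.fg_def.mp hN'
  let σ := Function.surjInv (piA_surjective (B := B) x)
  have hσ : ∀ y, piA x (σ y) = y := Function.surjInv_eq (piA_surjective (B := B) x)
  refine ⟨Submodule.span A (Set.range β) ⊔ Submodule.span A (σ '' S),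
    (Submodule.fg_span (Set.finite_range β)).sup (Submodule.fg_span (hSfin.image σ)), ?_, ?_⟩
  · intro i
    exact Submodule.mem_sup_left (Submodule.subset_span ⟨i, rfl⟩)
  · rw [← hS, Submodule.span_le]
    intro y hy
    refine ⟨⟨σ y, Submodule.mem_sup_right (Submodule.subset_span ⟨y, hy, rfl⟩)⟩, ?_⟩
    exact hσ y

include hdim hx0 hli hspan in
theorem length_quot_le (hl : Module.length A (A ⧸ Ideal.span {x}) ≠ ⊤) :
    Module.length A (B ⧸ Ideal.span {algebraMap A B x}) ≤
      (n : ℕ∞) * Module.length A (A ⧸ Ideal.span {x}) := by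
  obtain ⟨l, hl'⟩ := ENat.ne_top_iff_exists.mp hl
  rw [← hl']
  have hc : ((n : ℕ∞) * (l : ℕ∞)) = ((n * l : ℕ) : ℕ∞) := by push_cast; rfl
  rw [hc]
  apply length_le_of_forall_fg
  intro N' hN'
  obtain ⟨M, hM, hβ, hle⟩ := exists_lattice β x N' hN'
  have h1 : Module.length A N' ≤ Module.length A (LinearMap.range (gM x M)) :=
    Module.length_le_of_injective (Submodule.inclusion hle) (Submodule.inclusion_injective hle)
  have h2 : Module.length A (LinearMap.range (gM x M)) ≤ Module.length A (QuotSMulTop x M) := by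
    rw [← range_gbar]
    exact Module.length_le_of_surjective (gbar x M).rangeRestrict
      (LinearMap.surjective_rangeRestrict _)
  rw [← hc, hl', ← length_quot_lattice β hdim hx0 hli hspan M hM hβ]
  exact h1.trans h2

include hdim hx0 hli hspan in
/-- a lattice closed under division by `x` is everything -/
theorem eq_top_of_div_closed (hx : x ∈ maximalIdeal A) (M : Submodule A B) (hβ : ∀ i, β i ∈ M)
    (hdiv : ∀ c : B, x • c ∈ M → c ∈ M) : M = ⊤ := by
  rw [eq_top_iff]
  intro b _
  obtain ⟨a, ha, v, hv⟩ := exists_smul_eq_sum (A := A) (K := K) (L := L) β hspan b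
  have hab : a • b ∈ M := by
    rw [hv]
    exact M.sum_mem fun i _ => M.smul_mem _ (hβ i)
  obtain ⟨k, hk⟩ := exists_pow_mem_span hdim hx ha
  obtain ⟨c', hc'⟩ := Ideal.mem_span_singleton'.mp hk
  have hkb : x ^ k • b ∈ M := by
    rw [← hc', mul_smul]
    exact M.smul_mem _ hab
  have hind : ∀ k : ℕ, x ^ k • b ∈ M → b ∈ M := by
    intro k
    induction k with
    | zero =>
      intro h
      rwa [pow_zero, one_smul] at h
    | succ k ih =>
      intro h
      apply ih
      apply hdiv
      rw [← mul_smul, ← pow_succ']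
      exact h
  exact hind k hkb

include hdim hx0 hli hspan in
theorem length_quot_eq_iff (hx : x ∈ maximalIdeal A)
    (hl : Module.length A (A ⧸ Ideal.span {x}) ≠ ⊤) :
    Module.length A (B ⧸ Ideal.span {algebraMap A B x}) =
      (n : ℕ∞) * Module.length A (A ⧸ Ideal.span {x}) ↔ Module.Finite A B := by
  have hnl : (n : ℕ∞) * Module.length A (A ⧸ Ideal.span {x}) ≠ ⊤ :=
    WithTop.mul_ne_top (ENat.natCast_ne_top n) hl
  constructor
  · intro heq
    have hfl : IsFiniteLength A (B ⧸ Ideal.span {algebraMap A B x}) := by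
      rw [← Module.length_ne_top_iff, heq]
      exact hnl
    haveI : Module.Finite A (B ⧸ Ideal.span {algebraMap A B x}) := by
      obtain ⟨hN, -⟩ := isFiniteLength_iff_isNoetherian_isArtinian.mp hfl
      infer_instance
    obtain ⟨M, hM, hβ, hle⟩ := exists_lattice β x ⊤ (Module.finite_def.mp inferInstance)
    have hsurj : Surjective (gbar x M) := by
      rw [← LinearMap.range_eq_top, range_gbar]
      exact top_le_iff.mp hle
    have hlen := length_quot_lattice β hdim hx0 hli hspan M hM hβ
    have h1 := KoszulLib.length_eq_ker_add_range (gbar x M)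
    rw [LinearMap.range_eq_top.mpr hsurj, Module.length_top, hlen, ← heq] at h1
    have h2 : Module.length A (LinearMap.ker (gbar x M)) +
        Module.length A (B ⧸ Ideal.span {algebraMap A B x}) =
        0 + Module.length A (B ⧸ Ideal.span {algebraMap A B x}) := by
      rw [zero_add]; exact h1.symm
    have h3 : Module.length A (LinearMap.ker (gbar x M)) = 0 :=
      WithTop.add_right_cancel (heq ▸ hnl) h2
    rw [Module.length_eq_zero_iff] at h3
    have hker : LinearMap.ker (gbar x M) = ⊥ := Submodule.eq_bot_of_subsingleton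
    have hdiv : ∀ c : B, x • c ∈ M → c ∈ M := by
      intro c hc
      have hz : gbar x M (Submodule.Quotient.mk ⟨x • c, hc⟩) = 0 := by
        show piA x (x • c) = 0
        rw [piA_eq_zero_iff]
        exact ⟨c, rfl⟩
      have hz' : (Submodule.Quotient.mk ⟨x • c, hc⟩ : QuotSMulTop x M) ∈
          LinearMap.ker (gbar x M) := hz
      rw [hker, Submodule.mem_bot, Submodule.Quotient.mk_eq_zero] at hz'
      obtain ⟨m', -, hm'⟩ := (Submodule.mem_smul_pointwise_iff_exists _ _ _).mp hz'
      have h4 : x • (m' : B) = x • c := congrArg Subtype.val hm'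
      have h5 := smul_left_cancel_of_ne hx0 h4
      rw [← h5]
      exact m'.2
    have htop := eq_top_of_div_closed β hdim hx0 hli hspan hx M hβ hdiv
    rw [Module.finite_def, ← htop]
    exact hM
  · intro hfin
    have hM : (⊤ : Submodule A B).FG := Module.finite_def.mp hfin
    have hlen := length_quot_lattice β hdim hx0 hli hspan ⊤ hM (fun _ => Submodule.mem_top)
    rw [← hlen]
    have hsurj : Surjective (gbar x (⊤ : Submodule A B)) := by
      rw [← LinearMap.range_eq_top, range_gbar, LinearMap.range_eq_top]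
      intro y
      obtain ⟨b, rfl⟩ := piA_surjective (B := B) x y
      exact ⟨⟨b, Submodule.mem_top⟩, rfl⟩
    have hinj : Injective (gbar x (⊤ : Submodule A B)) := by
      rw [← LinearMap.ker_eq_bot, LinearMap.ker_eq_bot']
      intro q hq
      obtain ⟨m, rfl⟩ := Submodule.Quotient.mk_surjective _ q
      have hq' : piA x (m : B) = 0 := hq
      rw [piA_eq_zero_iff] at hq'
      obtain ⟨c, hc⟩ := hq'
      rw [Submodule.Quotient.mk_eq_zero]
      refine (Submodule.mem_smul_pointwise_iff_exists _ _ _).mpr ⟨⟨c, Submodule.mem_top⟩,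
        Submodule.mem_top, Subtype.ext hc⟩
    exact (LinearEquiv.ofBijective (gbar x ⊤) ⟨hinj, hsurj⟩).length_eq.symm

end Ext

end Groth.Agent.Helper8.LQ
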