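import Mathlib
import Groth.Agent.Lib.Helper8.LQ2
import Groth.Agent.Lib.Helper8.Tame2

/-!
# The degree inequality for a finite type extension of a one-dimensional local domain (S9136)
-/

set_option autoImplicit false
universe u v

namespace Groth.Agent.Helper8.LQ

open Function Module IsLocalRing
open scoped Pointwise

section Main

variable {A B K L : Type u}
  [CommRing A] [IsDomain A] [IsNoetherianRing A] [IsLocalRing A]
  [CommRing B] [IsDomain B] [Algebra A B] [FaithfulSMul A B]
  [Field K] [Field L] [Algebra A K] [IsFractionRing A K] [Algebra B L] [IsFractionRing B L]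
  [Algebra K L] [Algebra A L] [IsScalarTower A K L] [IsScalarTower A B L] [FiniteDimensional K L]

include K L in
theorem maximal_eq_bot_or (hdim : ringKrullDim A = 1) {x : A} (hx : x ∈ maximalIdeal A)
    (n : Ideal B) [hn : n.IsMaximal] (hxn : algebraMap A B x ∉ n) : n = ⊥ := by
  by_contra hne
  obtain ⟨b, hbn, hb0⟩ := Submodule.exists_mem_ne_zero_of_ne_bot hne
  have hφ : Injective (algebraMap B L) := IsFractionRing.injective B L
  have halg : Algebra.IsAlgebraic K L := Algebra.IsAlgebraic.of_finite K L
  have hbalg : IsAlgebraic A b := by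
    rw [← isAlgebraic_algebraMap_iff (A := L) hφ, IsFractionRing.isAlgebraic_iff A K L]
    exact halg.isAlgebraic _
  obtain ⟨r, hr0, t, ht⟩ := hbalg.exists_nonzero_dvd (mem_nonZeroDivisors_of_ne_zero hb0)
  have hrn : algebraMap A B r ∈ n := by
    rw [ht]
    exact n.mul_mem_right _ hbn
  obtain ⟨k, hk⟩ := exists_pow_mem_span hdim hx hr0
  obtain ⟨c, hc⟩ := Ideal.mem_span_singleton'.mp hk
  have hxk : algebraMap A B x ^ k ∈ n := by
    rw [← map_pow, ← hc, map_mul]
    exact n.mul_mem_left _ hrn
  exact hxn (hn.isPrime.mem_of_pow_mem k hxk)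

include K L in
theorem finite_maximalSpectrum (hdim : ringKrullDim A = 1) {x : A} (hx : x ∈ maximalIdeal A)
    (hfl : IsFiniteLength A (B ⧸ Ideal.span {algebraMap A B x})) :
    Finite (MaximalSpectrum B) := by
  classical
  set I : Ideal B := Ideal.span {algebraMap A B x} with hI
  haveI : IsArtinianRing (B ⧸ I) :=
    isArtinian_of_tower A (isFiniteLength_iff_isNoetherian_isArtinian.mp hfl).2
  have key : ∀ n : MaximalSpectrum B, n.asIdeal = ⊥ ∨
      ∃ M : MaximalSpectrum (B ⧸ I), n.asIdeal = M.asIdeal.comap (Ideal.Quotient.mk I) := by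
    intro n
    haveI := n.2
    by_cases hxn : algebraMap A B x ∈ n.asIdeal
    · right
      have hIn : I ≤ n.asIdeal := by
        rw [hI, Ideal.span_le, Set.singleton_subset_iff]
        exact hxn
      have hmax : (n.asIdeal.map (Ideal.Quotient.mk I)).IsMaximal :=
        Ideal.IsMaximal.map_of_surjective_of_ker_le Ideal.Quotient.mk_surjective
          (by rw [Ideal.mk_ker]; exact hIn)
      refine ⟨⟨_, hmax⟩, ?_⟩
      rw [Ideal.comap_map_of_surjective _ Ideal.Quotient.mk_surjective,
        ← RingHom.ker_eq_comap_bot, Ideal.mk_ker, sup_eq_left.mpr hIn]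
    · left
      exact maximal_eq_bot_or (K := K) (L := L) hdim hx n.asIdeal hxn
  let S : Set (Ideal B) := insert (⊥ : Ideal B)
    (Set.range fun M : MaximalSpectrum (B ⧸ I) => M.asIdeal.comap (Ideal.Quotient.mk I))
  have hS : S.Finite := (Set.finite_range _).insert _
  haveI := hS.to_subtype
  let F : MaximalSpectrum B → S := fun n => ⟨n.asIdeal, (key n).elim (fun h => Or.inl h)
    (fun ⟨M, hM⟩ => Or.inr ⟨M, hM.symm⟩)⟩
  exact Finite.of_injective F (fun n n' h => MaximalSpectrum.ext (congrArg Subtype.val h))

theorem main (hdim : ringKrullDim A = 1) (x : A) (hx : x ∈ maximalIdeal A) (hx0 : x ≠ 0) :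
    Finite (MaximalSpectrum B) ∧
      (∑ᶠ m : MaximalSpectrum B,
          Module.length A (B ⧸ m.asIdeal) *
            Module.length (Localization.AtPrime m.asIdeal)
              (Localization.AtPrime m.asIdeal ⧸
                Ideal.span ({algebraMap A (Localization.AtPrime m.asIdeal) x} : Set _)) ≤
        (Module.finrank K L : ℕ∞) * Module.length A (A ⧸ Ideal.span ({x} : Set A))) ∧
      ((∑ᶠ m : MaximalSpectrum B,
          Module.length A (B ⧸ m.asIdeal) *
            Module.length (Localization.AtPrime m.asIdeal)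
              (Localization.AtPrime m.asIdeal ⧸
                Ideal.span ({algebraMap A (Localization.AtPrime m.asIdeal) x} : Set _)) =
        (Module.finrank K L : ℕ∞) * Module.length A (A ⧸ Ideal.span ({x} : Set A))) ↔
          Module.Finite A B) := by
  obtain ⟨β, hli, hspan⟩ := exists_basis_in A B K L
  haveI : Ring.KrullDimLE 1 A := ⟨hdim.le⟩
  have hl : Module.length A (A ⧸ Ideal.span {x}) ≠ ⊤ :=
    Module.length_ne_top_iff.mpr
      (isFiniteLength_quotient_span_singleton A (mem_nonZeroDivisors_of_ne_zero hx0))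
  have hle := length_quot_le β hdim hx0 hli hspan hl
  have hiff := length_quot_eq_iff β hdim hx0 hli hspan hx hl
  have hnl : (Module.finrank K L : ℕ∞) * Module.length A (A ⧸ Ideal.span {x}) ≠ ⊤ :=
    WithTop.mul_ne_top (ENat.natCast_ne_top _) hl
  have hflA : IsFiniteLength A (B ⧸ Ideal.span {algebraMap A B x}) :=
    Module.length_ne_top_iff.mp (ne_top_of_le_ne_top hnl hle)
  haveI hfinite : Finite (MaximalSpectrum B) :=
    finite_maximalSpectrum (K := K) (L := L) hdim hx hflA
  have hsum : (∑ᶠ m : MaximalSpectrum B,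
      Module.length A (B ⧸ m.asIdeal) *
        Module.length (Localization.AtPrime m.asIdeal)
          (Localization.AtPrime m.asIdeal ⧸
            Ideal.span ({algebraMap A (Localization.AtPrime m.asIdeal) x} : Set _))) =
      Module.length A (B ⧸ Ideal.span {algebraMap A B x}) := by
    haveI := Fintype.ofFinite (MaximalSpectrum B)
    have hflB : IsFiniteLength B (B ⧸ Ideal.span {algebraMap A B x}) := by
      rw [isFiniteLength_iff_isNoetherian_isArtinian] at hflA ⊢
      exact hflA.imp (isNoetherian_of_tower A) (isArtinian_of_tower A)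
    obtain ⟨s, h0, h1⟩ := isFiniteLength_iff_exists_compositionSeries.mp hflB
    rw [finsum_eq_sum_of_fintype]
    refine Eq.trans ?_ (length_eq_sum_of_compositionSeries' (A := A) s h0 h1).symm
    refine Finset.sum_congr rfl fun m _ => ?_
    haveI := m.2
    congr 1
    rw [Tame.length_localized_quotient_span B m.asIdeal (algebraMap A B x), Ring.ord,
      ← IsScalarTower.algebraMap_apply A B (Localization.AtPrime m.asIdeal) x]
  rw [hsum]
  exact ⟨hfinite, hle, hiff⟩

end Main

end Groth.Agent.Helper8.LQ
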