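import Mathlib

/-!
# LU1: coefficientwise ideals of group algebras, base change of `mapDomain`, trivial units

Helper library for S13793 (vanishing of `H²` of the Laurent-units complex).
-/

set_option autoImplicit false
universe u v w

namespace Groth.Agent.Helper8.LU1

open AddMonoidAlgebra

/-! ## commutative group identities -/

theorem cg_identity {M : Type*} [CommGroup M] (p₁ p₂ p₃ p₄ p₅ p₆ : M) :
    (p₁ * p₂⁻¹ * p₃) * (p₁ * p₄⁻¹ * p₅)⁻¹ * (p₂ * p₄⁻¹ * p₆) * (p₃ * p₅⁻¹ * p₆)⁻¹ = 1 := by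
  have h : ∀ (q₁ q₂ q₃ q₄ q₅ q₆ : Additive M),
      (q₁ + -q₂ + q₃) + -(q₁ + -q₄ + q₅) + (q₂ + -q₄ + q₆) + -(q₃ + -q₅ + q₆) = 0 := by
    intros; abel
  exact h (Additive.ofMul p₁) (Additive.ofMul p₂) (Additive.ofMul p₃) (Additive.ofMul p₄)
    (Additive.ofMul p₅) (Additive.ofMul p₆)

theorem cg_two {M : Type*} [CommGroup M] (a b c d : M) :
    a * c = (a * b⁻¹ * c * d⁻¹) * (b * d) := by
  have h : ∀ (q₁ q₂ q₃ q₄ : Additive M), q₁ + q₃ = (q₁ + -q₂ + q₃ + -q₄) + (q₂ + q₄) := by
    intros; abel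
  exact h (Additive.ofMul a) (Additive.ofMul b) (Additive.ofMul c) (Additive.ofMul d)

theorem cg_three {M : Type*} [CommGroup M] (x a b c : M) :
    x * (a * b⁻¹ * c)⁻¹ = x * b * (a⁻¹ * c⁻¹) := by
  have h : ∀ (q₀ q₁ q₂ q₃ : Additive M), q₀ + -(q₁ + -q₂ + q₃) = q₀ + q₂ + (-q₁ + -q₃) := by
    intros; abel
  exact h (Additive.ofMul x) (Additive.ofMul a) (Additive.ofMul b) (Additive.ofMul c)

theorem cg_four {M : Type*} [CommGroup M] (a c : M) :
    (1 : M) = a * c * (a⁻¹ * c⁻¹) := by
  have h : ∀ (q₁ q₃ : Additive M), (0 : Additive M) = q₁ + q₃ + (-q₁ + -q₃) := by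
    intros; abel
  exact h (Additive.ofMul a) (Additive.ofMul c)

/-! ## coefficientwise ideals -/

section CI

variable {A : Type u} [CommRing A] {G : Type v} [AddCommGroup G]

/-- the ideal of elements of `A[G]` all of whose coefficients lie in `K` -/
noncomputable def cI (G : Type v) [AddCommGroup G] (K : Ideal A) : Ideal (AddMonoidAlgebra A G) :=
  RingHom.ker (mapRingHom G (Ideal.Quotient.mk K))

theorem mem_cI {K : Ideal A} {x : AddMonoidAlgebra A G} : x ∈ cI G K ↔ ∀ g, x.coeff g ∈ K := by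
  rw [cI, RingHom.mem_ker]
  constructor
  · intro h g
    have h2 := congrArg (fun y => y.coeff g) h
    simp only [coeff_mapRingHom] at h2
    rw [← Ideal.Quotient.eq_zero_iff_mem]
    simpa using h2
  · intro h
    ext g
    rw [coeff_mapRingHom]
    simp [Ideal.Quotient.eq_zero_iff_mem.mpr (h g)]

theorem single_mem_cI {K : Ideal A} (g : G) {r : A} (hr : r ∈ K) :
    (single g r : AddMonoidAlgebra A G) ∈ cI G K := by
  classical
  rw [mem_cI]
  intro h
  rw [coeff_single, Finsupp.single_apply]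
  split_ifs
  · exact hr
  · exact K.zero_mem

theorem cI_mono {K₁ K₂ : Ideal A} (h : K₁ ≤ K₂) : cI G K₁ ≤ cI G K₂ := by
  intro x hx
  rw [mem_cI] at hx ⊢
  exact fun g => h (hx g)

theorem eq_zero_of_mem_cI_bot {x : AddMonoidAlgebra A G} (hx : x ∈ cI G (⊥ : Ideal A)) :
    x = 0 := by
  rw [mem_cI] at hx
  ext g
  have := hx g
  rw [Ideal.mem_bot] at this
  rw [this]
  rfl

theorem mul_mem_cI {K₁ K₂ : Ideal A} {x y : AddMonoidAlgebra A G} (hx : x ∈ cI G K₁)
    (hy : y ∈ cI G K₂) : x * y ∈ cI G (K₁ * K₂) := by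
  rw [mem_cI] at hx hy
  rw [mul_def]
  unfold Finsupp.sum
  refine Ideal.sum_mem _ fun a _ => Ideal.sum_mem _ fun b _ => ?_
  exact single_mem_cI _ (Ideal.mul_mem_mul (hx a) (hy b))

theorem pow_mem_cI {K : Ideal A} {x : AddMonoidAlgebra A G} (hx : x ∈ cI G K) (n : ℕ) :
    x ^ n ∈ cI G (K ^ n) := by
  induction n with
  | zero =>
    rw [pow_zero, pow_zero, Ideal.one_eq_top]
    rw [mem_cI]
    intro g
    exact Submodule.mem_top
  | succ n ih =>
    rw [pow_succ, pow_succ]
    exact mul_mem_cI ih hx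

theorem isNilpotent_of_mem_cI {K : Ideal A} {r : ℕ} (hr : K ^ r = ⊥)
    {x : AddMonoidAlgebra A G} (hx : x ∈ cI G K) : IsNilpotent x := by
  refine ⟨r, ?_⟩
  apply eq_zero_of_mem_cI_bot
  rw [← hr]
  exact pow_mem_cI hx r

theorem mapDomain_mem_cI {H : Type w} [AddCommGroup H] (μ : G →+ H) {K : Ideal A}
    {x : AddMonoidAlgebra A G} (hx : x ∈ cI G K) : mapDomainRingHom A μ x ∈ cI H K := by
  rw [cI, RingHom.mem_ker] at hx ⊢
  have h := congrArg (fun φ => φ x) (mapRingHom_comp_mapDomainRingHom (Ideal.Quotient.mk K) μ)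
  simp only [RingHom.comp_apply] at h
  rw [h, hx, map_zero]

theorem comapDomain_mem_cI {H : Type w} [AddCommGroup H] (ν : G → H)
    (hν : Function.Injective ν) {K : Ideal A}
    {x : AddMonoidAlgebra A H} (hx : x ∈ cI H K) : comapDomain ν hν x ∈ cI G K := by
  rw [mem_cI] at hx ⊢
  intro g
  rw [coeff_comapDomain, Finsupp.comapDomain_apply]
  exact hx (ν g)

end CI

/-! ## coefficients of `mapDomain` along injective maps, base change -/

section BC

variable {A : Type u} [CommRing A]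

theorem coeff_mapDomain_apply {G H : Type*} {μ : G → H} (hμ : Function.Injective μ)
    (x : AddMonoidAlgebra A G) (g : G) : (mapDomain μ x).coeff (μ g) = x.coeff g := by
  rw [coeff_mapDomain, Finsupp.mapDomain_apply hμ]

theorem coeff_mapDomain_notin {G H : Type*} {μ : G → H}
    (x : AddMonoidAlgebra A G) (h : H) (hh : h ∉ Set.range μ) : (mapDomain μ x).coeff h = 0 := by
  rw [coeff_mapDomain, Finsupp.mapDomain_of_notMem_range _ _ hh]

theorem base_change {K G H L : Type*} (α : K → G) (β : K → H) (μ : G → L) (σ : H → L)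
    (hα : Function.Injective α) (hβ : Function.Injective β) (hμ : Function.Injective μ)
    (hcomm : ∀ k, μ (α k) = σ (β k))
    (hcart : ∀ g h, μ g = σ h → ∃ k, α k = g ∧ β k = h)
    (x : AddMonoidAlgebra A G) (h : H) :
    (mapDomain μ x).coeff (σ h) = (mapDomain β (comapDomain α hα x)).coeff h := by
  by_cases hh : h ∈ Set.range β
  · obtain ⟨k, rfl⟩ := hh
    rw [← hcomm k, coeff_mapDomain_apply hμ, coeff_mapDomain_apply hβ, coeff_comapDomain,
      Finsupp.comapDomain_apply]
  · rw [coeff_mapDomain_notin _ _ hh, coeff_mapDomain_notin]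
    rintro ⟨g, hg⟩
    obtain ⟨k, -, hk⟩ := hcart g h hg
    exact hh ⟨k, hk⟩

end BC

/-! ## trivial units over a domain -/

theorem eq_single_of_mul_eq_one {D : Type*} [CommRing D] [IsDomain D] {G : Type*}
    [AddCommGroup G] [TwoUniqueSums G]
    (p q : AddMonoidAlgebra D G) (hpq : p * q = 1) : ∃ (g : G) (d : D), p = single g d := by
  classical
  have h1 : (1 : AddMonoidAlgebra D G) ≠ 0 := one_ne_zero
  have hp0 : p ≠ 0 := by
    rintro rfl
    rw [zero_mul] at hpq
    exact h1 hpq.symm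
  have hq0 : q ≠ 0 := by
    rintro rfl
    rw [mul_zero] at hpq
    exact h1 hpq.symm
  have hS : p.coeff.support.Nonempty := by
    rw [Finsupp.support_nonempty_iff]
    intro h
    apply hp0
    apply AddMonoidAlgebra.ext
    rw [h, coeff_zero]
  have hT : q.coeff.support.Nonempty := by
    rw [Finsupp.support_nonempty_iff]
    intro h
    apply hq0
    apply AddMonoidAlgebra.ext
    rw [h, coeff_zero]
  have hcard : ¬ 1 < p.coeff.support.card * q.coeff.support.card := by
    intro hc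
    obtain ⟨p1, h1m, p2, h2m, hne, hu1, hu2⟩ := TwoUniqueSums.uniqueAdd_of_one_lt_card hc
    rw [Finset.mem_product] at h1m h2m
    have e1 : (p * q).coeff (p1.1 + p1.2) = p.coeff p1.1 * q.coeff p1.2 :=
      coeff_mul_add_of_uniqueAdd hu1
    have e2 : (p * q).coeff (p2.1 + p2.2) = p.coeff p2.1 * q.coeff p2.2 :=
      coeff_mul_add_of_uniqueAdd hu2
    have n1 : (p * q).coeff (p1.1 + p1.2) ≠ 0 := by
      rw [e1]
      exact mul_ne_zero (Finsupp.mem_support_iff.mp h1m.1) (Finsupp.mem_support_iff.mp h1m.2)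
    have n2 : (p * q).coeff (p2.1 + p2.2) ≠ 0 := by
      rw [e2]
      exact mul_ne_zero (Finsupp.mem_support_iff.mp h2m.1) (Finsupp.mem_support_iff.mp h2m.2)
    rw [hpq, one_def, coeff_single, Finsupp.single_apply] at n1 n2
    have z1 : p1.1 + p1.2 = 0 := by
      by_contra hz
      apply n1
      rw [if_neg (Ne.symm hz)]
    have z2 : p2.1 + p2.2 = 0 := by
      by_contra hz
      apply n2
      rw [if_neg (Ne.symm hz)]
    have h3 := hu1 h2m.1 h2m.2 (z2.trans z1.symm)
    exact hne (Prod.ext h3.1 h3.2).symm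
  have ha : 1 ≤ p.coeff.support.card := Finset.card_pos.mpr hS
  have hb : 1 ≤ q.coeff.support.card := Finset.card_pos.mpr hT
  have hone : p.coeff.support.card = 1 := by
    by_contra hne1
    have h2 : 2 ≤ p.coeff.support.card := by omega
    have h3 : 2 * 1 ≤ p.coeff.support.card * q.coeff.support.card := Nat.mul_le_mul h2 hb
    exact hcard (by omega)
  obtain ⟨g, hg⟩ := Finset.card_eq_one.mp hone
  refine ⟨g, p.coeff g, ?_⟩
  apply AddMonoidAlgebra.ext
  rw [coeff_single]
  ext h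
  rw [Finsupp.single_apply]
  split_ifs with hh
  · rw [hh]
  · have : h ∉ p.coeff.support := by
      rw [hg, Finset.mem_singleton]
      exact fun e => hh e.symm
    exact Finsupp.notMem_support_iff.mp this

end Groth.Agent.Helper8.LU1
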