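import Groth.Agent.Lib.Helper8.LU1

/-!
# LU2: the coface maps of the Laurent-units complex

Helper library for S13793: explicit formulas for the additive maps `ℤ^p → ℤ^(p+1)`, their
injectivity, the simplicial identities, three cartesian squares, and the coboundary maps `d1`, `d2`
on unit groups with `d2 ∘ d1 = 1`.
-/

set_option autoImplicit false
universe u

namespace Groth.Agent.Helper8.LU2

open AddMonoidAlgebra
open Groth.Agent.Helper8.LU1

abbrev Gp (p : ℕ) := Fin p → ℤ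

noncomputable def m1 : Gp 2 →+ Gp 3 :=
  (Matrix.mulVecLin (!![0, 0; 1, 0; 0, 1] : Matrix (Fin 3) (Fin 2) ℤ)).toAddMonoidHom
noncomputable def m2 : Gp 2 →+ Gp 3 :=
  (Matrix.mulVecLin (!![1, 0; 1, 0; 0, 1] : Matrix (Fin 3) (Fin 2) ℤ)).toAddMonoidHom
noncomputable def m3 : Gp 2 →+ Gp 3 :=
  (Matrix.mulVecLin (!![1, 0; 0, 1; 0, 1] : Matrix (Fin 3) (Fin 2) ℤ)).toAddMonoidHom
noncomputable def m4 : Gp 2 →+ Gp 3 :=
  (Matrix.mulVecLin (!![1, 0; 0, 1; 0, 0] : Matrix (Fin 3) (Fin 2) ℤ)).toAddMonoidHom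
noncomputable def n1 : Gp 1 →+ Gp 2 :=
  (Matrix.mulVecLin (!![0; 1] : Matrix (Fin 2) (Fin 1) ℤ)).toAddMonoidHom
noncomputable def n2 : Gp 1 →+ Gp 2 :=
  (Matrix.mulVecLin (!![1; 1] : Matrix (Fin 2) (Fin 1) ℤ)).toAddMonoidHom
noncomputable def n3 : Gp 1 →+ Gp 2 :=
  (Matrix.mulVecLin (!![1; 0] : Matrix (Fin 2) (Fin 1) ℤ)).toAddMonoidHom

theorem m1_apply (v : Gp 2) : m1 v = ![0, v 0, v 1] := by
  ext i; fin_cases i <;> simp [m1, Matrix.mulVec, dotProduct, Fin.sum_univ_two]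
theorem m2_apply (v : Gp 2) : m2 v = ![v 0, v 0, v 1] := by
  ext i; fin_cases i <;> simp [m2, Matrix.mulVec, dotProduct, Fin.sum_univ_two]
theorem m3_apply (v : Gp 2) : m3 v = ![v 0, v 1, v 1] := by
  ext i; fin_cases i <;> simp [m3, Matrix.mulVec, dotProduct, Fin.sum_univ_two]
theorem m4_apply (v : Gp 2) : m4 v = ![v 0, v 1, 0] := by
  ext i; fin_cases i <;> simp [m4, Matrix.mulVec, dotProduct, Fin.sum_univ_two]
theorem n1_apply (v : Gp 1) : n1 v = ![0, v 0] := by
  ext i; fin_cases i <;> simp [n1, Matrix.mulVec, dotProduct]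
theorem n2_apply (v : Gp 1) : n2 v = ![v 0, v 0] := by
  ext i; fin_cases i <;> simp [n2, Matrix.mulVec, dotProduct]
theorem n3_apply (v : Gp 1) : n3 v = ![v 0, 0] := by
  ext i; fin_cases i <;> simp [n3, Matrix.mulVec, dotProduct]

theorem vec2_eq (v : Gp 2) : v = ![v 0, v 1] := by
  ext i; fin_cases i <;> rfl
theorem vec1_eq (v : Gp 1) : v = ![v 0] := by
  ext i; fin_cases i; rfl

theorem m1_inj : Function.Injective m1 := by
  intro v w h
  rw [m1_apply, m1_apply] at h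
  have h1 : v 0 = w 0 := by have := congrFun h 1; simp at this; omega
  have h2 : v 1 = w 1 := by have := congrFun h 2; simp at this; omega
  rw [vec2_eq v, vec2_eq w, h1, h2]

theorem m2_inj : Function.Injective m2 := by
  intro v w h
  rw [m2_apply, m2_apply] at h
  have h1 : v 0 = w 0 := by have := congrFun h 0; simp at this; omega
  have h2 : v 1 = w 1 := by have := congrFun h 2; simp at this; omega
  rw [vec2_eq v, vec2_eq w, h1, h2]

theorem m3_inj : Function.Injective m3 := by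
  intro v w h
  rw [m3_apply, m3_apply] at h
  have h1 : v 0 = w 0 := by have := congrFun h 0; simp at this; omega
  have h2 : v 1 = w 1 := by have := congrFun h 1; simp at this; omega
  rw [vec2_eq v, vec2_eq w, h1, h2]

theorem m4_inj : Function.Injective m4 := by
  intro v w h
  rw [m4_apply, m4_apply] at h
  have h1 : v 0 = w 0 := by have := congrFun h 0; simp at this; omega
  have h2 : v 1 = w 1 := by have := congrFun h 1; simp at this; omega
  rw [vec2_eq v, vec2_eq w, h1, h2]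

theorem n1_inj : Function.Injective n1 := by
  intro v w h
  rw [n1_apply, n1_apply] at h
  have h1 : v 0 = w 0 := by have := congrFun h 1; simp at this; omega
  rw [vec1_eq v, vec1_eq w, h1]

theorem n2_inj : Function.Injective n2 := by
  intro v w h
  rw [n2_apply, n2_apply] at h
  have h1 : v 0 = w 0 := by have := congrFun h 0; simp at this; omega
  rw [vec1_eq v, vec1_eq w, h1]

theorem n3_inj : Function.Injective n3 := by
  intro v w h
  rw [n3_apply, n3_apply] at h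
  have h1 : v 0 = w 0 := by have := congrFun h 0; simp at this; omega
  rw [vec1_eq v, vec1_eq w, h1]

/-! ### the twelve composites -/

theorem m1n1 (a : Gp 1) : m1 (n1 a) = ![0, 0, a 0] := by rw [m1_apply, n1_apply]; simp
theorem m1n2 (a : Gp 1) : m1 (n2 a) = ![0, a 0, a 0] := by rw [m1_apply, n2_apply]; simp
theorem m1n3 (a : Gp 1) : m1 (n3 a) = ![0, a 0, 0] := by rw [m1_apply, n3_apply]; simp
theorem m2n1 (a : Gp 1) : m2 (n1 a) = ![0, 0, a 0] := by rw [m2_apply, n1_apply]; simp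
theorem m2n2 (a : Gp 1) : m2 (n2 a) = ![a 0, a 0, a 0] := by rw [m2_apply, n2_apply]; simp
theorem m2n3 (a : Gp 1) : m2 (n3 a) = ![a 0, a 0, 0] := by rw [m2_apply, n3_apply]; simp
theorem m3n1 (a : Gp 1) : m3 (n1 a) = ![0, a 0, a 0] := by rw [m3_apply, n1_apply]; simp
theorem m3n2 (a : Gp 1) : m3 (n2 a) = ![a 0, a 0, a 0] := by rw [m3_apply, n2_apply]; simp
theorem m3n3 (a : Gp 1) : m3 (n3 a) = ![a 0, 0, 0] := by rw [m3_apply, n3_apply]; simp
theorem m4n1 (a : Gp 1) : m4 (n1 a) = ![0, a 0, 0] := by rw [m4_apply, n1_apply]; simp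
theorem m4n2 (a : Gp 1) : m4 (n2 a) = ![a 0, a 0, 0] := by rw [m4_apply, n2_apply]; simp
theorem m4n3 (a : Gp 1) : m4 (n3 a) = ![a 0, 0, 0] := by rw [m4_apply, n3_apply]; simp

theorem c21 : m2.comp n1 = m1.comp n1 :=
  AddMonoidHom.ext fun a => by rw [AddMonoidHom.comp_apply, AddMonoidHom.comp_apply, m2n1, m1n1]
theorem c31 : m3.comp n1 = m1.comp n2 :=
  AddMonoidHom.ext fun a => by rw [AddMonoidHom.comp_apply, AddMonoidHom.comp_apply, m3n1, m1n2]
theorem c41 : m4.comp n1 = m1.comp n3 :=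
  AddMonoidHom.ext fun a => by rw [AddMonoidHom.comp_apply, AddMonoidHom.comp_apply, m4n1, m1n3]
theorem c32 : m3.comp n2 = m2.comp n2 :=
  AddMonoidHom.ext fun a => by rw [AddMonoidHom.comp_apply, AddMonoidHom.comp_apply, m3n2, m2n2]
theorem c42 : m4.comp n2 = m2.comp n3 :=
  AddMonoidHom.ext fun a => by rw [AddMonoidHom.comp_apply, AddMonoidHom.comp_apply, m4n2, m2n3]
theorem c43 : m4.comp n3 = m3.comp n3 :=
  AddMonoidHom.ext fun a => by rw [AddMonoidHom.comp_apply, AddMonoidHom.comp_apply, m4n3, m3n3]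

theorem comm2 (k : Gp 1) : m2 (n1 k) = m1 (n1 k) := by rw [m2n1, m1n1]
theorem comm3 (k : Gp 1) : m3 (n1 k) = m1 (n2 k) := by rw [m3n1, m1n2]
theorem comm4 (k : Gp 1) : m4 (n1 k) = m1 (n3 k) := by rw [m4n1, m1n3]

/-! ### cartesian squares -/

theorem cart2 (g h : Gp 2) (e : m2 g = m1 h) : ∃ k, n1 k = g ∧ n1 k = h := by
  rw [m2_apply, m1_apply] at e
  have e0 : g 0 = 0 := by have := congrFun e 0; simp at this; omega
  have e1 : g 0 = h 0 := by have := congrFun e 1; simp at this; omega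
  have e2 : g 1 = h 1 := by have := congrFun e 2; simp at this; omega
  refine ⟨![g 1], ?_, ?_⟩
  · rw [n1_apply]
    conv_rhs => rw [vec2_eq g]
    rw [e0]
    simp
  · rw [n1_apply]
    conv_rhs => rw [vec2_eq h]
    rw [← e1, ← e2, e0]
    simp

theorem cart3 (g h : Gp 2) (e : m3 g = m1 h) : ∃ k, n1 k = g ∧ n2 k = h := by
  rw [m3_apply, m1_apply] at e
  have e0 : g 0 = 0 := by have := congrFun e 0; simp at this; omega
  have e1 : g 1 = h 0 := by have := congrFun e 1; simp at this; omega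
  have e2 : g 1 = h 1 := by have := congrFun e 2; simp at this; omega
  refine ⟨![g 1], ?_, ?_⟩
  · rw [n1_apply]
    conv_rhs => rw [vec2_eq g]
    rw [e0]
    simp
  · rw [n2_apply]
    conv_rhs => rw [vec2_eq h]
    rw [← e1, ← e2]
    simp

theorem cart4 (g h : Gp 2) (e : m4 g = m1 h) : ∃ k, n1 k = g ∧ n3 k = h := by
  rw [m4_apply, m1_apply] at e
  have e0 : g 0 = 0 := by have := congrFun e 0; simp at this; omega
  have e1 : g 1 = h 0 := by have := congrFun e 1; simp at this; omega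
  have e2 : h 1 = 0 := by have := congrFun e 2; simp at this; omega
  refine ⟨![g 1], ?_, ?_⟩
  · rw [n1_apply]
    conv_rhs => rw [vec2_eq g]
    rw [e0]
    simp
  · rw [n3_apply]
    conv_rhs => rw [vec2_eq h]
    rw [← e1, e2]
    simp

/-! ### unit group maps -/

section Units

variable {A : Type u} [CommRing A]

/-- the map on unit groups induced by an additive map of exponent lattices -/
noncomputable def U {p q : ℕ} (μ : Gp p →+ Gp q) :
    (AddMonoidAlgebra A (Gp p))ˣ →* (AddMonoidAlgebra A (Gp q))ˣ :=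
  Units.map (mapDomainRingHom A μ).toMonoidHom

theorem U_val {p q : ℕ} (μ : Gp p →+ Gp q) (ξ : (AddMonoidAlgebra A (Gp p))ˣ) :
    ((U μ ξ : (AddMonoidAlgebra A (Gp q))ˣ) : AddMonoidAlgebra A (Gp q)) =
      mapDomainRingHom A μ (ξ : AddMonoidAlgebra A (Gp p)) := rfl

theorem U_comp {p q r : ℕ} (μ : Gp q →+ Gp r) (ν : Gp p →+ Gp q)
    (η : (AddMonoidAlgebra A (Gp p))ˣ) : U μ (U ν η) = U (μ.comp ν) η := by
  apply Units.ext
  rw [U_val, U_val, U_val, mapDomainRingHom_comp]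
  rfl

noncomputable def d1 : (AddMonoidAlgebra A (Gp 1))ˣ →* (AddMonoidAlgebra A (Gp 2))ˣ :=
  U n1 * (U n2)⁻¹ * U n3

noncomputable def d2 : (AddMonoidAlgebra A (Gp 2))ˣ →* (AddMonoidAlgebra A (Gp 3))ˣ :=
  U m1 * (U m2)⁻¹ * U m3 * (U m4)⁻¹

theorem d1_apply (η : (AddMonoidAlgebra A (Gp 1))ˣ) :
    d1 η = U n1 η * (U n2 η)⁻¹ * U n3 η := rfl

theorem d2_apply (ξ : (AddMonoidAlgebra A (Gp 2))ˣ) :
    d2 ξ = U m1 ξ * (U m2 ξ)⁻¹ * U m3 ξ * (U m4 ξ)⁻¹ := rfl

theorem d2_d1 (η : (AddMonoidAlgebra A (Gp 1))ˣ) : d2 (d1 η) = 1 := by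
  rw [d2_apply, d1_apply]
  simp only [map_mul, map_inv, U_comp]
  rw [c21, c31, c41, c32, c42, c43]
  exact cg_identity _ _ _ _ _ _

/-- constant units -/
noncomputable def kap (p : ℕ) (c : Aˣ) : (AddMonoidAlgebra A (Gp p))ˣ where
  val := single 0 (c : A)
  inv := single 0 ((c⁻¹ : Aˣ) : A)
  val_inv := by rw [single_mul_single, add_zero, Units.mul_inv, one_def]
  inv_val := by rw [single_mul_single, add_zero, Units.inv_mul, one_def]

theorem kap_val (p : ℕ) (c : Aˣ) :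
    ((kap p c : (AddMonoidAlgebra A (Gp p))ˣ) : AddMonoidAlgebra A (Gp p)) = single 0 (c : A) :=
  rfl

theorem kap_inv_val (p : ℕ) (c : Aˣ) :
    (((kap p c)⁻¹ : (AddMonoidAlgebra A (Gp p))ˣ) : AddMonoidAlgebra A (Gp p)) =
      single 0 ((c⁻¹ : Aˣ) : A) := rfl

theorem U_kap {p q : ℕ} (μ : Gp p →+ Gp q) (c : Aˣ) : U μ (kap p c) = kap q c := by
  apply Units.ext
  rw [U_val, kap_val, kap_val, mapDomainRingHom_apply, mapDomain_single, map_zero]

theorem d1_kap (c : Aˣ) : d1 (kap 1 c : (AddMonoidAlgebra A (Gp 1))ˣ) = kap 2 c := by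
  rw [d1_apply, U_kap, U_kap, U_kap, mul_inv_cancel, one_mul]

theorem ring_cocycle (ξ : (AddMonoidAlgebra A (Gp 2))ˣ) (hξ : d2 ξ = 1) :
    mapDomainRingHom A m1 (ξ : AddMonoidAlgebra A (Gp 2)) * mapDomainRingHom A m3 ξ =
      mapDomainRingHom A m2 ξ * mapDomainRingHom A m4 ξ := by
  rw [d2_apply] at hξ
  have h : U m1 ξ * U m3 ξ = U m2 ξ * U m4 ξ := by
    calc U m1 ξ * U m3 ξ
        = (U m1 ξ * (U m2 ξ)⁻¹ * U m3 ξ * (U m4 ξ)⁻¹) * (U m2 ξ * U m4 ξ) := cg_two _ _ _ _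
      _ = U m2 ξ * U m4 ξ := by rw [hξ, one_mul]
  have h2 := congrArg Units.val h
  rw [Units.val_mul, Units.val_mul, U_val, U_val, U_val, U_val] at h2
  exact h2

/-- naturality of `U` in the coefficient ring -/
theorem U_nat {B : Type u} [CommRing B] (f : A →+* B) {p q : ℕ} (μ : Gp p →+ Gp q)
    (ξ : (AddMonoidAlgebra A (Gp p))ˣ) :
    Units.map (mapRingHom (Gp q) f).toMonoidHom (U μ ξ) =
      U μ (Units.map (mapRingHom (Gp p) f).toMonoidHom ξ) := by
  apply Units.ext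
  exact congrArg (fun φ => φ (ξ : AddMonoidAlgebra A (Gp p)))
    (mapRingHom_comp_mapDomainRingHom f μ)

theorem d2_nat {B : Type u} [CommRing B] (f : A →+* B) (ξ : (AddMonoidAlgebra A (Gp 2))ˣ)
    (hξ : d2 ξ = 1) : d2 (Units.map (mapRingHom (Gp 2) f).toMonoidHom ξ) = 1 := by
  have h2 := congrArg (Units.map (mapRingHom (Gp 3) f).toMonoidHom) hξ
  rw [map_one, d2_apply] at h2
  simp only [map_mul, map_inv, U_nat] at h2
  rw [d2_apply]
  exact h2

end Units

end Groth.Agent.Helper8.LU2
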