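import Groth.Agent.Lib.Helper8.LU2

/-!
# LU3: `H²` of the Laurent-units complex vanishes

Helper library for S13793.  A cocycle unit `ξ ∈ A[t₁^±,t₂^±]ˣ` is constant modulo the nilradical
(units over a domain are monomials), so after dividing by its constant term it is `1 + f` with `f`
having coefficients in a nilpotent ideal `J`; successive approximation modulo `J^m`, using the
contracting homotopy "degree-zero part in `t₁`" of the additive complex, produces `η` with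
`ξ = η(t₂) η(t₁t₂)⁻¹ η(t₁)`.
-/

set_option autoImplicit false
universe u

namespace Groth.Agent.Helper8.LU3

open AddMonoidAlgebra
open Groth.Agent.Helper8.LU1
open Groth.Agent.Helper8.LU2

/-! ## the domain case -/

theorem domain_const {D : Type u} [CommRing D] [IsDomain D]
    (ξ : (AddMonoidAlgebra D (Gp 2))ˣ) (hξ : d2 ξ = 1) :
    ∃ d : D, (ξ : AddMonoidAlgebra D (Gp 2)) = single 0 d := by
  obtain ⟨g, d, hgd⟩ := eq_single_of_mul_eq_one (ξ : AddMonoidAlgebra D (Gp 2))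
    ((ξ⁻¹ : (AddMonoidAlgebra D (Gp 2))ˣ) : AddMonoidAlgebra D (Gp 2)) (Units.mul_inv ξ)
  have hd : d ≠ 0 := by
    rintro rfl
    rw [single_zero] at hgd
    exact ξ.ne_zero hgd
  have hc := ring_cocycle ξ hξ
  rw [hgd] at hc
  simp only [mapDomainRingHom_apply, mapDomain_single, single_mul_single] at hc
  have hdd : d * d ≠ 0 := mul_ne_zero hd hd
  have hg := (single_left_inj hdd).mp hc
  rw [m1_apply, m2_apply, m3_apply, m4_apply] at hg
  have h0 : g 0 = 0 := by have := congrFun hg 0; simp at this; omega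
  have h1 : g 1 = 0 := by have := congrFun hg 2; simp at this; omega
  refine ⟨d, ?_⟩
  rw [hgd]
  have hg0 : g = 0 := by
    rw [vec2_eq g, h0, h1]
    ext i; fin_cases i <;> rfl
  rw [hg0]

/-! ## reduction modulo the nilradical -/

section General

variable {A : Type u} [CommRing A]

theorem coeff_mem_nilradical (ξ : (AddMonoidAlgebra A (Gp 2))ˣ) (hξ : d2 ξ = 1) (h : Gp 2)
    (hh : h ≠ 0) : (ξ : AddMonoidAlgebra A (Gp 2)).coeff h ∈ nilradical A := by
  classical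
  rw [nilradical_eq_sInf, Ideal.mem_sInf]
  intro P hP
  haveI : P.IsPrime := hP
  have hξ' := d2_nat (Ideal.Quotient.mk P) ξ hξ
  obtain ⟨d, hd⟩ := domain_const _ hξ'
  have h4 : mapRingHom (Gp 2) (Ideal.Quotient.mk P) (ξ : AddMonoidAlgebra A (Gp 2)) =
      single 0 d := hd
  have h3 : (mapRingHom (Gp 2) (Ideal.Quotient.mk P)
      (ξ : AddMonoidAlgebra A (Gp 2))).coeff h = 0 := by
    rw [h4, coeff_single, Finsupp.single_apply, if_neg (Ne.symm hh)]
  rw [coeff_mapRingHom] at h3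
  exact Ideal.Quotient.eq_zero_iff_mem.mp h3

theorem sub_single_mem (ξ : (AddMonoidAlgebra A (Gp 2))ˣ) (hξ : d2 ξ = 1) :
    (ξ : AddMonoidAlgebra A (Gp 2)) - single 0 ((ξ : AddMonoidAlgebra A (Gp 2)).coeff 0) ∈
      cI (Gp 2) (nilradical A) := by
  classical
  rw [mem_cI]
  intro g
  rw [coeff_sub, Finsupp.sub_apply, coeff_single, Finsupp.single_apply]
  split_ifs with hg
  · rw [← hg, sub_self]
    exact Ideal.zero_mem _
  · rw [sub_zero]
    exact coeff_mem_nilradical ξ hξ g (Ne.symm hg)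

theorem isUnit_coeff_zero (ξ : (AddMonoidAlgebra A (Gp 2))ˣ) (hξ : d2 ξ = 1) :
    IsUnit ((ξ : AddMonoidAlgebra A (Gp 2)).coeff 0) := by
  classical
  have hξi : d2 ξ⁻¹ = 1 := by rw [map_inv, hξ, inv_one]
  have e1 := sub_single_mem ξ hξ
  have e2 := sub_single_mem ξ⁻¹ hξi
  obtain ⟨c, hc⟩ : ∃ c : A, c = (ξ : AddMonoidAlgebra A (Gp 2)).coeff 0 := ⟨_, rfl⟩
  obtain ⟨c', hc'⟩ : ∃ c' : A,
      c' = ((ξ⁻¹ : (AddMonoidAlgebra A (Gp 2))ˣ) : AddMonoidAlgebra A (Gp 2)).coeff 0 := ⟨_, rfl⟩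
  rw [← hc] at e1 ⊢
  rw [← hc'] at e2
  have e3 : (1 : AddMonoidAlgebra A (Gp 2)) - single 0 (c * c') ∈ cI (Gp 2) (nilradical A) := by
    have h1 : (ξ : AddMonoidAlgebra A (Gp 2)) *
        ((ξ⁻¹ : (AddMonoidAlgebra A (Gp 2))ˣ) : AddMonoidAlgebra A (Gp 2)) = 1 := Units.mul_inv ξ
    have h2 : (single 0 c * single 0 c' : AddMonoidAlgebra A (Gp 2)) = single 0 (c * c') := by
      rw [single_mul_single, add_zero]
    have h3 : (1 : AddMonoidAlgebra A (Gp 2)) - single 0 (c * c') =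
        ((ξ : AddMonoidAlgebra A (Gp 2)) - single 0 c) *
          ((ξ⁻¹ : (AddMonoidAlgebra A (Gp 2))ˣ) : AddMonoidAlgebra A (Gp 2)) +
        single 0 c * (((ξ⁻¹ : (AddMonoidAlgebra A (Gp 2))ˣ) : AddMonoidAlgebra A (Gp 2)) -
          single 0 c') := by
      linear_combination (-1 : AddMonoidAlgebra A (Gp 2)) * h1 + h2
    rw [h3]
    exact Ideal.add_mem _ (Ideal.mul_mem_right _ _ e1) (Ideal.mul_mem_left _ _ e2)
  rw [mem_cI] at e3
  have e4 := e3 0
  rw [coeff_sub, Finsupp.sub_apply, one_def, coeff_single, coeff_single, Finsupp.single_eq_same,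
    Finsupp.single_eq_same] at e4
  have e5 : IsUnit (c * c') := by
    have h : c * c' = 1 - (1 - c * c') := by ring
    rw [h]
    exact IsNilpotent.isUnit_one_sub (mem_nilradical.mp e4)
  exact isUnit_of_mul_isUnit_left e5

/-! ## the approximation step -/

theorem step (ξ : (AddMonoidAlgebra A (Gp 2))ˣ) (hξ : d2 ξ = 1) (K₁ K₂ : Ideal A)
    (hK : K₁ * K₁ ≤ K₂) (r : ℕ) (hr : K₁ ^ r = ⊥)
    (hf : (ξ : AddMonoidAlgebra A (Gp 2)) - 1 ∈ cI (Gp 2) K₁) :
    ∃ η : (AddMonoidAlgebra A (Gp 1))ˣ,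
      ((ξ * (d1 η)⁻¹ : (AddMonoidAlgebra A (Gp 2))ˣ) : AddMonoidAlgebra A (Gp 2)) - 1 ∈
        cI (Gp 2) K₂ := by
  obtain ⟨f, hfdef⟩ : ∃ f : AddMonoidAlgebra A (Gp 2),
      f = (ξ : AddMonoidAlgebra A (Gp 2)) - 1 := ⟨_, rfl⟩
  rw [← hfdef] at hf
  have hξf : (ξ : AddMonoidAlgebra A (Gp 2)) = 1 + f := by rw [hfdef]; ring
  have hφ1 := mapDomain_mem_cI m1 hf
  have hφ2 := mapDomain_mem_cI m2 hf
  have hφ3 := mapDomain_mem_cI m3 hf
  have hφ4 := mapDomain_mem_cI m4 hf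
  have hE : mapDomainRingHom A m1 f - mapDomainRingHom A m2 f + mapDomainRingHom A m3 f -
      mapDomainRingHom A m4 f ∈ cI (Gp 3) K₂ := by
    have hc := ring_cocycle ξ hξ
    rw [hξf] at hc
    simp only [map_add, map_one] at hc
    have h : mapDomainRingHom A m1 f - mapDomainRingHom A m2 f + mapDomainRingHom A m3 f -
        mapDomainRingHom A m4 f =
        mapDomainRingHom A m2 f * mapDomainRingHom A m4 f -
          mapDomainRingHom A m1 f * mapDomainRingHom A m3 f := by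
      linear_combination hc
    rw [h]
    exact Ideal.sub_mem _ (cI_mono hK (mul_mem_cI hφ2 hφ4)) (cI_mono hK (mul_mem_cI hφ1 hφ3))
  obtain ⟨g₀, hg₀⟩ : ∃ g₀ : AddMonoidAlgebra A (Gp 1), g₀ = comapDomain n1 n1_inj f :=
    ⟨_, rfl⟩
  have hg₀K : g₀ ∈ cI (Gp 1) K₁ := by
    rw [hg₀]
    exact comapDomain_mem_cI n1 n1_inj hf
  have hψ1 := mapDomain_mem_cI n1 hg₀K
  have hψ2 := mapDomain_mem_cI n2 hg₀K
  have hψ3 := mapDomain_mem_cI n3 hg₀K
  have hT : f - (mapDomainRingHom A n1 g₀ - mapDomainRingHom A n2 g₀ +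
      mapDomainRingHom A n3 g₀) ∈ cI (Gp 2) K₂ := by
    rw [mem_cI]
    intro h
    have e1 : (mapDomainRingHom A m1 f).coeff (m1 h) = f.coeff h := by
      rw [mapDomainRingHom_apply]
      exact coeff_mapDomain_apply m1_inj f h
    have e2 : (mapDomainRingHom A m2 f).coeff (m1 h) = (mapDomainRingHom A n1 g₀).coeff h := by
      rw [mapDomainRingHom_apply, mapDomainRingHom_apply, hg₀]
      exact base_change n1 n1 m2 m1 n1_inj n1_inj m2_inj comm2 cart2 f h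
    have e3 : (mapDomainRingHom A m3 f).coeff (m1 h) = (mapDomainRingHom A n2 g₀).coeff h := by
      rw [mapDomainRingHom_apply, mapDomainRingHom_apply, hg₀]
      exact base_change n1 n2 m3 m1 n1_inj n2_inj m3_inj comm3 cart3 f h
    have e4 : (mapDomainRingHom A m4 f).coeff (m1 h) = (mapDomainRingHom A n3 g₀).coeff h := by
      rw [mapDomainRingHom_apply, mapDomainRingHom_apply, hg₀]
      exact base_change n1 n3 m4 m1 n1_inj n3_inj m4_inj comm4 cart4 f h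
    have hgoal : (f - (mapDomainRingHom A n1 g₀ - mapDomainRingHom A n2 g₀ +
        mapDomainRingHom A n3 g₀)).coeff h =
        (mapDomainRingHom A m1 f - mapDomainRingHom A m2 f + mapDomainRingHom A m3 f -
          mapDomainRingHom A m4 f).coeff (m1 h) := by
      simp only [coeff_sub, coeff_add, Finsupp.sub_apply, Finsupp.add_apply]
      rw [e1, e2, e3, e4]
      ring
    rw [hgoal]
    exact (mem_cI.mp hE) (m1 h)
  have hnil : IsNilpotent g₀ := isNilpotent_of_mem_cI hr hg₀K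
  obtain ⟨η, hη⟩ : ∃ η : (AddMonoidAlgebra A (Gp 1))ˣ,
      (η : AddMonoidAlgebra A (Gp 1)) = 1 + g₀ :=
    ⟨(hnil.isUnit_one_add).unit, (hnil.isUnit_one_add).unit_spec⟩
  refine ⟨η, ?_⟩
  have h5 : (ξ : AddMonoidAlgebra A (Gp 2)) * mapDomainRingHom A n2 (η : AddMonoidAlgebra A (Gp 1))
      - mapDomainRingHom A n1 (η : AddMonoidAlgebra A (Gp 1)) *
        mapDomainRingHom A n3 (η : AddMonoidAlgebra A (Gp 1)) ∈ cI (Gp 2) K₂ := by
    rw [hη, hξf]
    simp only [map_add, map_one]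
    have h : (1 + f) * (1 + mapDomainRingHom A n2 g₀) -
        (1 + mapDomainRingHom A n1 g₀) * (1 + mapDomainRingHom A n3 g₀) =
        (f - (mapDomainRingHom A n1 g₀ - mapDomainRingHom A n2 g₀ + mapDomainRingHom A n3 g₀)) +
          (f * mapDomainRingHom A n2 g₀ -
            mapDomainRingHom A n1 g₀ * mapDomainRingHom A n3 g₀) := by
      ring
    rw [h]
    exact Ideal.add_mem _ hT (Ideal.sub_mem _ (cI_mono hK (mul_mem_cI hf hψ2))
      (cI_mono hK (mul_mem_cI hψ1 hψ3)))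
  obtain ⟨W, hW⟩ : ∃ W : (AddMonoidAlgebra A (Gp 2))ˣ, W = (U n1 η)⁻¹ * (U n3 η)⁻¹ := ⟨_, rfl⟩
  have e1 : ξ * (d1 η)⁻¹ = ξ * U n2 η * W := by
    rw [d1_apply, hW]
    exact cg_three _ _ _ _
  have e2 : (1 : (AddMonoidAlgebra A (Gp 2))ˣ) = U n1 η * U n3 η * W := by
    rw [hW]
    exact cg_four _ _
  have e3 : ((ξ * (d1 η)⁻¹ : (AddMonoidAlgebra A (Gp 2))ˣ) : AddMonoidAlgebra A (Gp 2)) - 1 =
      ((ξ : AddMonoidAlgebra A (Gp 2)) * mapDomainRingHom A n2 (η : AddMonoidAlgebra A (Gp 1)) -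
        mapDomainRingHom A n1 (η : AddMonoidAlgebra A (Gp 1)) *
          mapDomainRingHom A n3 (η : AddMonoidAlgebra A (Gp 1))) *
        (W : AddMonoidAlgebra A (Gp 2)) := by
    have e2' := congrArg Units.val e2
    rw [Units.val_one, Units.val_mul, Units.val_mul, U_val, U_val] at e2'
    rw [e1, Units.val_mul, Units.val_mul, U_val]
    linear_combination (-1 : AddMonoidAlgebra A (Gp 2)) * e2'
  rw [e3]
  exact Ideal.mul_mem_right _ _ h5

/-! ## the main theorem -/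

theorem main_aux (ξ : (AddMonoidAlgebra A (Gp 2))ˣ) (hξ : d2 ξ = 1) :
    ∃ η : (AddMonoidAlgebra A (Gp 1))ˣ, ξ = d1 η := by
  classical
  obtain ⟨c, hc⟩ := isUnit_coeff_zero ξ hξ
  obtain ⟨f₁, hf₁⟩ : ∃ f₁ : AddMonoidAlgebra A (Gp 2),
      f₁ = ((ξ * (kap 2 c)⁻¹ : (AddMonoidAlgebra A (Gp 2))ˣ) : AddMonoidAlgebra A (Gp 2)) - 1 :=
    ⟨_, rfl⟩
  have hf₁N : f₁ ∈ cI (Gp 2) (nilradical A) := by
    rw [mem_cI]
    intro g
    rw [hf₁, Units.val_mul, coeff_sub, Finsupp.sub_apply, kap_inv_val, coeff_mul_single_zero,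
      one_def, coeff_single, Finsupp.single_apply]
    split_ifs with hg
    · rw [← hg, ← hc, Units.mul_inv, sub_self]
      exact Ideal.zero_mem _
    · rw [sub_zero]
      exact Ideal.mul_mem_right _ _ (coeff_mem_nilradical ξ hξ g (Ne.symm hg))
  obtain ⟨J, hJ⟩ : ∃ J : Ideal A, J = Ideal.span
      ((f₁.coeff.support.image (fun g => f₁.coeff g) : Finset A) : Set A) := ⟨_, rfl⟩
  have hJfg : J.FG := ⟨_, hJ.symm⟩
  have hJN : J ≤ nilradical A := by
    rw [hJ, Ideal.span_le]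
    intro a ha
    rw [Finset.mem_coe, Finset.mem_image] at ha
    obtain ⟨g, -, rfl⟩ := ha
    exact (mem_cI.mp hf₁N) g
  have hf₁J : f₁ ∈ cI (Gp 2) J := by
    rw [mem_cI]
    intro g
    by_cases hg : g ∈ f₁.coeff.support
    · rw [hJ]
      apply Ideal.subset_span
      rw [Finset.mem_coe, Finset.mem_image]
      exact ⟨g, hg, rfl⟩
    · rw [Finsupp.notMem_support_iff.mp hg]
      exact Ideal.zero_mem _
  obtain ⟨r, hr⟩ : ∃ r, J ^ r = ⊥ := hJfg.isNilpotent_iff_le_nilradical.mpr hJN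
  have key : ∀ m : ℕ, ∃ η : (AddMonoidAlgebra A (Gp 1))ˣ,
      ((ξ * (d1 η)⁻¹ : (AddMonoidAlgebra A (Gp 2))ˣ) : AddMonoidAlgebra A (Gp 2)) - 1 ∈
        cI (Gp 2) (J ^ (m + 1)) := by
    intro m
    induction m with
    | zero =>
      refine ⟨kap 1 c, ?_⟩
      rw [d1_kap, zero_add, pow_one, ← hf₁]
      exact hf₁J
    | succ m ih =>
      obtain ⟨η, hη⟩ := ih
      have hcoc : d2 (ξ * (d1 η)⁻¹) = 1 := by
        rw [map_mul, map_inv, d2_d1, hξ, inv_one, one_mul]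
      have hK : J ^ (m + 1) * J ^ (m + 1) ≤ J ^ (m + 1 + 1) := by
        rw [← pow_add]
        exact Ideal.pow_le_pow_right (by omega)
      have hnil : (J ^ (m + 1)) ^ r = ⊥ := by
        rw [← pow_mul, eq_bot_iff, ← hr]
        apply Ideal.pow_le_pow_right
        calc r = 1 * r := (one_mul r).symm
          _ ≤ (m + 1) * r := Nat.mul_le_mul_right r (Nat.succ_pos m)
      obtain ⟨η', hη'⟩ := step (ξ * (d1 η)⁻¹) hcoc (J ^ (m + 1)) (J ^ (m + 1 + 1)) hK r hnil hη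
      refine ⟨η * η', ?_⟩
      have e : ξ * (d1 (η * η'))⁻¹ = ξ * (d1 η)⁻¹ * (d1 η')⁻¹ := by
        rw [map_mul, mul_inv, mul_assoc]
      rw [e]
      exact hη'
  obtain ⟨η, hη⟩ := key r
  refine ⟨η, ?_⟩
  have h0 : ((ξ * (d1 η)⁻¹ : (AddMonoidAlgebra A (Gp 2))ˣ) : AddMonoidAlgebra A (Gp 2)) - 1
      = 0 := by
    apply eq_zero_of_mem_cI_bot
    rw [← hr]
    exact cI_mono (Ideal.pow_le_pow_right (Nat.le_succ r)) hη
  have h1 : ξ * (d1 η)⁻¹ = 1 := by
    apply Units.ext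
    rw [Units.val_one]
    exact sub_eq_zero.mp h0
  exact mul_inv_eq_one.mp h1

end General

theorem main (A : Type u) [CommRing A] (ξ : (AddMonoidAlgebra A (Fin 2 → ℤ))ˣ)
    (hξ : Units.map (AddMonoidAlgebra.mapDomainRingHom A
          (Matrix.mulVecLin (!![0, 0; 1, 0; 0, 1] : Matrix (Fin 3) (Fin 2) ℤ)).toAddMonoidHom).toMonoidHom ξ *
        (Units.map (AddMonoidAlgebra.mapDomainRingHom A
          (Matrix.mulVecLin (!![1, 0; 1, 0; 0, 1] : Matrix (Fin 3) (Fin 2) ℤ)).toAddMonoidHom).toMonoidHom ξ)⁻¹ *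
        Units.map (AddMonoidAlgebra.mapDomainRingHom A
          (Matrix.mulVecLin (!![1, 0; 0, 1; 0, 1] : Matrix (Fin 3) (Fin 2) ℤ)).toAddMonoidHom).toMonoidHom ξ *
        (Units.map (AddMonoidAlgebra.mapDomainRingHom A
          (Matrix.mulVecLin (!![1, 0; 0, 1; 0, 0] : Matrix (Fin 3) (Fin 2) ℤ)).toAddMonoidHom).toMonoidHom ξ)⁻¹ = 1) :
    ∃ η : (AddMonoidAlgebra A (Fin 1 → ℤ))ˣ,
      ξ = Units.map (AddMonoidAlgebra.mapDomainRingHom A
          (Matrix.mulVecLin (!![0; 1] : Matrix (Fin 2) (Fin 1) ℤ)).toAddMonoidHom).toMonoidHom η *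
        (Units.map (AddMonoidAlgebra.mapDomainRingHom A
          (Matrix.mulVecLin (!![1; 1] : Matrix (Fin 2) (Fin 1) ℤ)).toAddMonoidHom).toMonoidHom η)⁻¹ *
        Units.map (AddMonoidAlgebra.mapDomainRingHom A
          (Matrix.mulVecLin (!![1; 0] : Matrix (Fin 2) (Fin 1) ℤ)).toAddMonoidHom).toMonoidHom η := by
  have h : d2 (A := A) ξ = 1 := hξ
  obtain ⟨η, hη⟩ := main_aux ξ h
  exact ⟨η, hη⟩

end Groth.Agent.Helper8.LU3
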