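import Mathlib
import Groth.Agent.Lib.Helper8.Depth29
import Groth.Agent.Lib.Helper8.Fib5

/-!
# Cohen–Macaulay rings: vanishing of torsion-free elements killed generically
-/

set_option autoImplicit false
universe u v

namespace Groth.Agent.Helper8.LciH1

open LocCoh

/-- In a Noetherian ring with `(S_1)`, an element outside all minimal primes is a
non-zero-divisor. -/
theorem mem_nonZeroDivisors_of_forall_minimalPrimes {A : Type u} [CommRing A] [IsNoetherianRing A]
    (hCM : IsCohenMacaulayRing A) (s : A) (hs : ∀ p ∈ minimalPrimes A, s ∉ p) :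
    s ∈ nonZeroDivisors A := by
  have h1 : HasSk 1 A A := (Groth.Agent.Helper8.Fib.isCohenMacaulayRing_iff_forall_hasSk A).mp hCM 1
  have h2 := (Groth.Agent.Helper8.Depth.noEmbeddedPrimes_iff_hasSk_one (R := A) (M := A)).mpr h1
  by_contra hns
  have h3 : s ∈ (nonZeroDivisors A : Set A)ᶜ := hns
  rw [← biUnion_associatedPrimes_eq_compl_nonZeroDivisors A] at h3
  simp only [Set.mem_iUnion] at h3
  obtain ⟨p, hp, hsp⟩ := h3
  have h4 := h2 p hp
  have h5 : Module.annihilator A A = ⊥ := by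
    rw [Module.annihilator_eq_bot]
    infer_instance
  rw [h5] at h4
  exact hs p h4 hsp

/-- A torsion-free element of a module over a Cohen–Macaulay ring which dies at every minimal
prime is zero. -/
theorem eq_zero_of_forall_minimalPrimes {A : Type u} [CommRing A] [IsNoetherianRing A]
    (hCM : IsCohenMacaulayRing A) {M : Type v} [AddCommGroup M] [Module A M]
    (m : M) (htf : ∀ s : A, s ∈ nonZeroDivisors A → s • m = 0 → m = 0)
    (hm : ∀ p ∈ minimalPrimes A, ∃ s : A, s ∉ p ∧ s • m = 0) : m = 0 := by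
  classical
  let 𝔞 : Ideal A := LinearMap.ker (LinearMap.toSpanSingleton A M m)
  have h𝔞 : ∀ s : A, s ∈ 𝔞 ↔ s • m = 0 := fun s => by
    simp [𝔞, LinearMap.mem_ker, LinearMap.toSpanSingleton_apply]
  have hfin := minimalPrimes.finite_of_isNoetherianRing A
  by_contra hne
  have h1 : ¬ ((𝔞 : Set A) ⊆ ⋃ p ∈ (↑hfin.toFinset : Set (Ideal A)), (p : Set A)) := by
    intro hsub
    have h2 := (Ideal.subset_union_prime (s := hfin.toFinset) (f := fun p : Ideal A => p) ⊥ ⊥
      (fun p hp _ _ => ((hfin.mem_toFinset).mp hp).1.1) (I := 𝔞)).mp hsub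
    obtain ⟨p, hp, hle⟩ := h2
    obtain ⟨s, hsp, hsm⟩ := hm p (hfin.mem_toFinset.mp hp)
    exact hsp (hle ((h𝔞 s).mpr hsm))
  rw [Set.not_subset] at h1
  obtain ⟨s, hs𝔞, hsn⟩ := h1
  refine hne (htf s ?_ ((h𝔞 s).mp hs𝔞))
  apply mem_nonZeroDivisors_of_forall_minimalPrimes hCM
  intro p hp hsp
  apply hsn
  simp only [Set.mem_iUnion]
  exact ⟨p, by simpa using hp, hsp⟩

end Groth.Agent.Helper8.LciH1
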