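import Mathlib
import Groth.Prelude.Def_LCI2
import Groth.Agent.Lib.Helper4.KosH1b

/-!
# The conormal module of a Koszul-regular ideal is torsion-free
-/

set_option autoImplicit false
universe u v

namespace Groth.Agent.Helper8.LciH1

/-- If `I` is generated by a Koszul-regular sequence, `s` is regular on `R/I` and `s x ∈ I²` with
`x ∈ I`, then `x ∈ I²`. -/
theorem mem_sq_of_mul_mem_sq_of_seq {R : Type u} [CommRing R] (I : Ideal R) (hI : I ≠ ⊤)
    (l : List R) (hl : LCI.IsKoszulRegularSeq R l) (hlI : I = Ideal.span {x | x ∈ l})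
    (s : R) (hs : ∀ y, s * y ∈ I → y ∈ I) (x : R) (hx : x ∈ I) (hsx : s * x ∈ I ^ 2) :
    x ∈ I ^ 2 := by
  have hmem : ∀ i : Fin l.length, l.get i ∈ I := fun i => by
    rw [hlI]
    exact Ideal.subset_span (List.get_mem l i)
  let f : Fin l.length → I := fun i => ⟨l.get i, hmem i⟩
  have hof : List.ofFn (fun i => (f i : R)) = l := List.ofFn_get l
  have hspan : Ideal.span (Set.range (fun i => (f i : R))) = I := by
    refine Eq.trans ?_ hlI.symm
    congr 1
    ext y
    simp only [Set.mem_range, Set.mem_ofPred_eq, f]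
    constructor
    · rintro ⟨i, rfl⟩
      exact List.get_mem l i
    · intro hy
      obtain ⟨i, hi⟩ := List.get_of_mem hy
      exact ⟨i, hi⟩
  obtain ⟨b, hb⟩ := Groth.Agent.Lib.Helper4.KosH1b.S18939_main hI l.length f (by rw [hof]; exact hl) hspan
  have h1 : (Ideal.Quotient.mk I s) • I.toCotangent ⟨x, hx⟩ = 0 := by
    have : (Ideal.Quotient.mk I s) • I.toCotangent ⟨x, hx⟩ = s • I.toCotangent ⟨x, hx⟩ := by
      rw [← Ideal.Quotient.algebraMap_eq, algebraMap_smul]
    rw [this, ← map_smul, Ideal.toCotangent_eq_zero]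
    simpa using hsx
  have h2 : b.repr (I.toCotangent ⟨x, hx⟩) = 0 := by
    ext i
    have h3 := congrArg (fun v => b.repr v i) h1
    simp only [map_smul, Finsupp.smul_apply, smul_eq_mul, map_zero, Finsupp.zero_apply] at h3
    obtain ⟨y, hy⟩ := Ideal.Quotient.mk_surjective (b.repr (I.toCotangent ⟨x, hx⟩) i)
    rw [← hy, ← map_mul, Ideal.Quotient.eq_zero_iff_mem] at h3
    rw [← hy, Finsupp.zero_apply, Ideal.Quotient.eq_zero_iff_mem]
    exact hs y h3
  have h4 : I.toCotangent ⟨x, hx⟩ = 0 := by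
    simpa using h2
  simpa [Ideal.toCotangent_eq_zero] using h4

/-- The conormal module of a Koszul-regular ideal has no torsion with respect to elements regular on
the quotient. -/
theorem mem_sq_of_mul_mem_sq {P : Type u} [CommRing P] (I : Ideal P)
    (hI : LCI.IsKoszulRegularIdeal I)
    (s : P) (hs : ∀ y, s * y ∈ I → y ∈ I) (x : P) (hx : x ∈ I) (hsx : s * x ∈ I ^ 2) :
    x ∈ I ^ 2 := by
  by_contra hx2
  let 𝔠 : Ideal P := (I ^ 2).colon {x}
  have h𝔠 : ∀ y, y ∈ 𝔠 ↔ y * x ∈ I ^ 2 := fun y => by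
    simp only [𝔠, Submodule.mem_colon_singleton, smul_eq_mul]
  have hne : 𝔠 ≠ ⊤ := by
    intro h
    apply hx2
    have := (h𝔠 1).mp (h ▸ Submodule.mem_top)
    simpa using this
  obtain ⟨𝔮, h𝔮max, h𝔮⟩ := Ideal.exists_le_maximal 𝔠 hne
  haveI := h𝔮max.isPrime
  have hI𝔠 : I ≤ 𝔠 := fun y hy => by
    rw [h𝔠, pow_two]
    exact Ideal.mul_mem_mul hy hx
  obtain ⟨g, hg, l, hl, hmap⟩ := hI ⟨𝔮, inferInstance⟩ (hI𝔠.trans h𝔮)
  set Ig := I.map (algebraMap P (Localization.Away g)) with hIg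
  have hpow : ∀ y, y ∈ Submonoid.powers g → y ∉ 𝔮 := by
    rintro y ⟨n, rfl⟩ hy
    exact hg (Ideal.IsPrime.mem_of_pow_mem inferInstance n hy)
  have hIgne : Ig ≠ ⊤ := by
    rw [hIg, IsLocalization.map_algebraMap_ne_top_iff_disjoint (Submonoid.powers g)]
    rw [Set.disjoint_left]
    intro y hy hyI
    exact hpow y hy (h𝔮 (hI𝔠 hyI))
  have hs' : ∀ y', algebraMap P (Localization.Away g) s * y' ∈ Ig → y' ∈ Ig := by
    intro y' hy'
    obtain ⟨y, m, rfl⟩ := IsLocalization.exists_mk'_eq (Submonoid.powers g) y'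
    rw [← IsLocalization.mk'_one (M := Submonoid.powers g) (Localization.Away g) s, ← IsLocalization.mk'_mul, hIg,
      IsLocalization.mk'_mem_map_algebraMap_iff] at hy'
    rw [hIg, IsLocalization.mk'_mem_map_algebraMap_iff]
    obtain ⟨m', hm', h⟩ := hy'
    refine ⟨m', hm', hs _ ?_⟩
    have : s * (m' * y) = m' * (s * y) := by ring
    rw [this]
    exact h
  have hsq : Ig ^ 2 = (I ^ 2).map (algebraMap P (Localization.Away g)) := by
    rw [hIg, Ideal.map_pow]
  have h5 := mem_sq_of_mul_mem_sq_of_seq Ig hIgne l hl hmap (algebraMap P (Localization.Away g) s) hs'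
    (algebraMap P (Localization.Away g) x) (Ideal.mem_map_of_mem _ hx) (by
      rw [hsq, ← map_mul]
      exact Ideal.mem_map_of_mem _ hsx)
  rw [hsq, IsLocalization.algebraMap_mem_map_algebraMap_iff (Submonoid.powers g)] at h5
  obtain ⟨m, hm, hmx⟩ := h5
  exact hpow m hm (h𝔮 ((h𝔠 m).mpr hmx))

end Groth.Agent.Helper8.LciH1
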