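import Mathlib
import Groth.Prelude.Def_LCI2
import Groth.Agent.Lib.Helper8.LciH1a
import Groth.Agent.Lib.Helper8.LciH1b
import Groth.Agent.Lib.Helper2.Synt.KosField
import Groth.Agent.Lib.Helper2.Synt.LCICM

/-!
# `H¹(L_{A/k}) = 0` for a generically smooth local complete intersection over a field
-/

set_option autoImplicit false
universe u v

namespace Groth.Agent.Helper8.LciH1

open Algebra

/-- The cotangent space of an extension with Koszul-regular kernel is torsion-free. -/
theorem cotangent_torsionFree {R S : Type u} [CommRing R] [CommRing S] [Algebra R S]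
    (Q : Extension.{u} R S) (hQ : LCI.IsKoszulRegularIdeal Q.ker)
    (a : S) (ha : a ∈ nonZeroDivisors S) (c : Q.Cotangent) (hc : a • c = 0) : c = 0 := by
  obtain ⟨x, rfl⟩ := Extension.Cotangent.mk_surjective c
  obtain ⟨s, rfl⟩ := Q.algebraMap_surjective a
  rw [algebraMap_smul, ← map_smul, Extension.Cotangent.mk_eq_zero_iff] at hc
  rw [Extension.Cotangent.mk_eq_zero_iff]
  refine mem_sq_of_mul_mem_sq Q.ker hQ s ?_ x.1 x.2 (by simpa using hc)
  intro y hy
  have h1 : algebraMap Q.Ring S s * algebraMap Q.Ring S y = 0 := by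
    rw [← map_mul]
    exact hy
  exact (mem_nonZeroDivisors_iff_left.mp ha) _ h1

/-- `H¹(L_{A/k}) = 0` for a generically smooth local complete intersection over a field. -/
theorem subsingleton_h1Cotangent (k : Type u) [Field k]
    (A : Type u) [CommRing A] [Algebra k A] (hlci : LCI.IsLCI k A)
    (hgs : ∀ (p : Ideal A) [p.IsPrime], p ∈ minimalPrimes A →
      Algebra.FormallySmooth k (Localization.AtPrime p)) :
    Subsingleton (Algebra.H1Cotangent k A) := by
  have hCM : LocCoh.IsCohenMacaulayRing A :=
    Groth.Agent.Helper2.Synt.isCohenMacaulayRing_of_isLCIOver k A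
      (Groth.Agent.Helper2.Synt.isLCIOver_of_isLCI k A hlci)
  obtain ⟨hft, n, f, hf, hKR⟩ := hlci
  haveI : IsNoetherianRing A := Algebra.FiniteType.isNoetherianRing k A
  have hfe : (MvPolynomial.aeval (R := k) fun i : Fin n => f (MvPolynomial.X i)) = f := by
    apply MvPolynomial.algHom_ext
    intro i
    simp
  let G : Generators k A (Fin n) :=
    Generators.ofSurjective (fun i => f (MvPolynomial.X i)) (by rw [hfe]; exact hf)
  have hker : G.toExtension.ker = RingHom.ker f.toRingHom := by
    change G.ker = _
    rw [Generators.ker_eq_ker_aeval_val]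
    change RingHom.ker (MvPolynomial.aeval (R := k) fun i : Fin n => f (MvPolynomial.X i)) = _
    rw [hfe]
    rfl
  have hQ : LCI.IsKoszulRegularIdeal G.toExtension.ker := hker ▸ hKR
  let e := G.equivH1Cotangent
  refine ⟨fun m₁ m₂ => ?_⟩
  rw [← sub_eq_zero]
  generalize m₁ - m₂ = m
  apply eq_zero_of_forall_minimalPrimes hCM m
  · intro s hs hsm
    have h1 : s • e.symm m = 0 := by rw [← map_smul, hsm, map_zero]
    have h2 : s • (e.symm m).1 = 0 := by
      rw [← Extension.H1Cotangent.val_smul, h1]
      rfl
    have h3 := cotangent_torsionFree G.toExtension hQ s hs _ h2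
    have h4 : e.symm m = 0 := Subtype.ext h3
    simpa using h4
  · intro p hp
    haveI : p.IsPrime := hp.1.1
    haveI := hgs p hp
    haveI : IsLocalizedModule p.primeCompl
      (Algebra.H1Cotangent.map k k A (Localization.AtPrime p)) := inferInstance
    have hz : Algebra.H1Cotangent.map k k A (Localization.AtPrime p) m = 0 :=
      Subsingleton.elim _ _
    rw [IsLocalizedModule.eq_zero_iff p.primeCompl] at hz
    obtain ⟨c, hc⟩ := hz
    exact ⟨c.1, c.2, hc⟩

end Groth.Agent.Helper8.LciH1
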