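import Groth.Agent.Lib.Helper8.OD2

/-!
# Composition series and lengths of localizations (S6329)
-/

set_option autoImplicit false
universe u v

namespace Groth.Agent.Helper8.Len

open Function

variable {R : Type u} [CommRing R] {M : Type v} [AddCommGroup M] [Module R M]

/-- The localized length of `R ⧸ m'` at a maximal ideal `m`. -/
theorem length_localized_quotient_maximal (m' m : Ideal R) [m'.IsMaximal] [m.IsMaximal] :
    Module.length (Localization.AtPrime m) (LocalizedModule m.primeCompl (R ⧸ m')) =
      if m' = m then 1 else 0 := by
  split_ifs with h
  · subst h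
    exact OD.length_localized_quotient_self m'
  · apply OD.length_localized_of_not_le
    intro hle
    exact h (Ideal.IsMaximal.eq_of_le ‹m'.IsMaximal› (Ideal.IsMaximal.ne_top ‹m.IsMaximal›) hle)

/-- One step of a composition series. -/
theorem covBy_length_localized {p q : Submodule R M} (h : p ⋖ q) (m : Ideal R) [m.IsMaximal] :
    (p.colon (q : Set M)).IsMaximal ∧
    Module.length (Localization.AtPrime m) (LocalizedModule m.primeCompl q) =
      Module.length (Localization.AtPrime m) (LocalizedModule m.primeCompl p) +
        if p.colon (q : Set M) = m then 1 else 0 := by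
  let f : p →ₗ[R] q := Submodule.inclusion h.le
  have key : IsSimpleModule R (q ⧸ LinearMap.range f) := by
    rwa [Submodule.range_inclusion, ← covBy_iff_quot_is_simple h.le]
  obtain ⟨m', hm', ⟨e⟩⟩ := isSimpleModule_iff_quot_maximal.mp key
  have hcolon : p.colon (q : Set M) = m' := by
    have hann : Module.annihilator R (q ⧸ LinearMap.range f) = m' := by
      rw [e.annihilator_eq, Ideal.annihilator_quotient]
    rw [← hann]
    ext r
    rw [Submodule.mem_colon, Module.mem_annihilator]
    constructor
    · intro hr z
      obtain ⟨x, rfl⟩ := Submodule.Quotient.mk_surjective _ z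
      rw [← Submodule.Quotient.mk_smul, Submodule.Quotient.mk_eq_zero]
      exact ⟨⟨r • x.1, hr x.1 x.2⟩, rfl⟩
    · intro hr x hx
      have := hr (Submodule.Quotient.mk ⟨x, hx⟩)
      rw [← Submodule.Quotient.mk_smul, Submodule.Quotient.mk_eq_zero] at this
      obtain ⟨y, hy⟩ := this
      have hy' : (y : M) = r • x := congrArg Subtype.val hy
      rw [← hy']
      exact y.2
  refine ⟨hcolon ▸ hm', ?_⟩
  haveI := hm'
  have hf : Injective f := Submodule.inclusion_injective _
  have hg : Surjective (LinearMap.range f).mkQ := Submodule.mkQ_surjective _
  have hfg : Exact f (LinearMap.range f).mkQ := LinearMap.exact_map_mkQ_range f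
  rw [OD.length_localized_additive m f _ hf hg hfg, OD.length_localized_congr m e,
    length_localized_quotient_maximal m' m, hcolon]

/-- **S6329.** -/
theorem card_filter_eq_length_localization (s : CompositionSeries (Submodule R M))
    (h0 : s.head = ⊥) (h1 : s.last = ⊤) (m : Ideal R) [m.IsMaximal] :
    ((Finset.univ.filter fun i : Fin s.length =>
        (s i.castSucc).colon (s i.succ : Set M) = m).card : ℕ∞) =
      Module.length (Localization.AtPrime m) (LocalizedModule m.primeCompl M) := by
  classical
  have key : ∀ k : Fin (s.length + 1),
      Module.length (Localization.AtPrime m) (LocalizedModule m.primeCompl (s k)) =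
        ∑ i : Fin s.length, if (i.val < k.val ∧ (s i.castSucc).colon (s i.succ : Set M) = m)
          then (1 : ℕ∞) else 0 := by
    intro k
    induction k using Fin.induction with
    | zero =>
      have hbot : s 0 = ⊥ := h0
      have hsub : Subsingleton (s 0) := by
        rw [hbot]; infer_instance
      rw [Module.length_eq_zero]
      symm
      apply Finset.sum_eq_zero
      intro i _
      rw [if_neg]
      rintro ⟨h, _⟩
      exact absurd h (Nat.not_lt_zero _)
    | succ j ih =>
      have hsingle : (if (s j.castSucc).colon (s j.succ : Set M) = m then (1 : ℕ∞) else 0) =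
          ∑ i : Fin s.length, if i = j then
            (if (s i.castSucc).colon (s i.succ : Set M) = m then (1 : ℕ∞) else 0) else 0 := by
        rw [Finset.sum_ite_eq' Finset.univ j]
        simp
      rw [(covBy_length_localized (s.step j) m).2, ih, hsingle, ← Finset.sum_add_distrib]
      refine Finset.sum_congr rfl fun i _ => ?_
      by_cases hP : (s i.castSucc).colon (s i.succ : Set M) = m
      · simp only [hP, and_true, Fin.val_castSucc, Fin.val_succ]
        by_cases hij : i = j
        · subst hij
          simp
        · rcases lt_or_gt_of_ne (fun h => hij (Fin.ext h)) with hlt | hgt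
          · have : i.val < j.val + 1 := Nat.lt_succ_of_lt hlt
            simp [hlt, this, hij]
          · have h1 : ¬ i.val < j.val := Nat.not_lt.mpr hgt.le
            have h2 : ¬ i.val < j.val + 1 := Nat.not_lt.mpr hgt
            simp [h1, h2, hij]
      · simp [hP]
  have hlast := key (Fin.last s.length)
  have htop : s (Fin.last s.length) = ⊤ := h1
  have e : (s (Fin.last s.length)) ≃ₗ[R] M :=
    (LinearEquiv.ofEq _ _ htop).trans Submodule.topEquiv
  rw [OD.length_localized_congr m e] at hlast
  rw [hlast, Finset.card_filter, Nat.cast_sum]
  refine Finset.sum_congr rfl fun i _ => ?_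
  simp

end Groth.Agent.Helper8.Len
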