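import Groth.Agent.Lib.Helper8.Len3

/-!
# The multiplicities of the points of a fibre of a finite free algebra add up to the rank (S14438)
-/

set_option autoImplicit false
universe u v

namespace Groth.Agent.Helper8.Len

open Function TensorProduct IsLocalRing

variable (A B : Type u) [CommRing A] [IsLocalRing A] [CommRing B] [Algebra A B]

/-- The length of the fibre of a finite free algebra. -/
theorem length_fibre_eq_finrank [Module.Free A B] [Module.Finite A B] :
    Module.length A (B ⧸ Ideal.map (algebraMap A B) (maximalIdeal A)) =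
      (Module.finrank A B : ℕ∞) := by
  let b := Module.Free.chooseBasis A B
  have e1 : (B ⧸ Ideal.map (algebraMap A B) (maximalIdeal A)) ≃ₗ[A]
      B ⊗[A] (A ⧸ maximalIdeal A) :=
    (Algebra.TensorProduct.quotIdealMapEquivTensorQuot B (maximalIdeal A)).toLinearEquiv.restrictScalars A
  have e2 : B ⊗[A] (A ⧸ maximalIdeal A) ≃ₗ[A]
      (Module.Free.ChooseBasisIndex A B →₀ (A ⧸ maximalIdeal A)) :=
    (TensorProduct.congr b.repr (LinearEquiv.refl A _)).trans
      (TensorProduct.finsuppScalarLeft A (A ⧸ maximalIdeal A) _)
  haveI : IsSimpleModule A (A ⧸ maximalIdeal A) :=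
    isSimpleModule_iff_quot_maximal.mpr ⟨_, maximalIdeal.isMaximal A, ⟨LinearEquiv.refl _ _⟩⟩
  rw [e1.length_eq, e2.length_eq, Module.length_finsupp, Module.length_eq_one, mul_one,
    Module.finrank_eq_card_chooseBasisIndex]
  simp

variable {A B}

/-- The residue field hypothesis gives length one. -/
theorem length_quotient_eq_one (n : Ideal B) [n.IsMaximal]
    (h : Ideal.map (algebraMap A B) (maximalIdeal A) ≤ n)
    (hres : Function.Bijective (Ideal.quotientMap n (algebraMap A B)
      (Ideal.map_le_iff_le_comap.mp h))) :
    Module.length A (B ⧸ n) = 1 := by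
  have hle : (maximalIdeal A : Submodule A A) ≤
      (n.restrictScalars A).comap (Algebra.linearMap A B) := by
    intro a ha
    exact Ideal.map_le_iff_le_comap.mp h ha
  let f : (A ⧸ maximalIdeal A) →ₗ[A] (B ⧸ n) :=
    (Submodule.Quotient.restrictScalarsEquiv A n).toLinearMap.comp
      (Submodule.mapQ (maximalIdeal A : Submodule A A) (n.restrictScalars A)
        (Algebra.linearMap A B) hle)
  have hf : ∀ x, f x = Ideal.quotientMap n (algebraMap A B) (Ideal.map_le_iff_le_comap.mp h) x := by
    intro x
    obtain ⟨a, rfl⟩ := Ideal.Quotient.mk_surjective x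
    rfl
  have hbij : Function.Bijective f := by
    have : (f : (A ⧸ maximalIdeal A) → (B ⧸ n)) =
        Ideal.quotientMap n (algebraMap A B) (Ideal.map_le_iff_le_comap.mp h) := funext hf
    rw [this]
    exact hres
  haveI : IsSimpleModule A (A ⧸ maximalIdeal A) :=
    isSimpleModule_iff_quot_maximal.mpr ⟨_, maximalIdeal.isMaximal A, ⟨LinearEquiv.refl _ _⟩⟩
  rw [← (LinearEquiv.ofBijective f hbij).length_eq, Module.length_eq_one]

/-- **S14438.** -/
theorem finsum_length_fibre_eq [Module.Free A B] [Module.Finite A B] (d : ℕ)
    (hd : Module.finrank A B = d)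
    (hres : ∀ (n : Ideal B) [n.IsMaximal]
      (h : Ideal.map (algebraMap A B) (maximalIdeal A) ≤ n),
      Function.Bijective (Ideal.quotientMap n (algebraMap A B)
        (Ideal.map_le_iff_le_comap.mp h))) :
    finsum (fun n : {n : MaximalSpectrum B //
        Ideal.map (algebraMap A B) (maximalIdeal A) ≤ n.asIdeal} =>
      Module.length (Localization.AtPrime n.1.asIdeal)
        (LocalizedModule n.1.asIdeal.primeCompl
          (B ⧸ Ideal.map (algebraMap A B) (maximalIdeal A)))) = (d : ℕ∞) := by
  classical
  obtain ⟨I, hI⟩ : ∃ I : Ideal B, I = Ideal.map (algebraMap A B) (maximalIdeal A) := ⟨_, rfl⟩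
  have hlenA : Module.length A (B ⧸ I) = (d : ℕ∞) := by
    rw [hI, length_fibre_eq_finrank, hd]
  rw [← hI]
  -- finite length over `B`
  have hlenB : Module.length B (B ⧸ I) ≤ Module.length A (B ⧸ I) := by
    have := Submodule.length_le_length_restrictScalars A (⊤ : Submodule B (B ⧸ I))
    rwa [Submodule.restrictScalars_top, Module.length_top, Module.length_top] at this
  have hfl : IsFiniteLength B (B ⧸ I) := by
    rw [← Module.length_ne_top_iff]
    apply ne_top_of_le_ne_top _ hlenB
    rw [hlenA]
    exact ENat.natCast_ne_top d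
  obtain ⟨s, h0, h1⟩ := isFiniteLength_iff_exists_compositionSeries.mp hfl
  -- the colon ideals contain `I`
  have hcI : ∀ j : Fin s.length, I ≤ (s j.castSucc).colon (s j.succ : Set (B ⧸ I)) := by
    intro j r hr
    rw [Submodule.mem_colon]
    intro x _
    obtain ⟨y, rfl⟩ := Ideal.Quotient.mk_surjective x
    have : r • (Ideal.Quotient.mk I y) = 0 := by
      have h' : r • (Ideal.Quotient.mk I y) = Ideal.Quotient.mk I (r * y) := rfl
      rw [h', Ideal.Quotient.eq_zero_iff_mem]
      exact I.mul_mem_right _ hr
    rw [this]
    exact Submodule.zero_mem _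
  have hcm : ∀ j : Fin s.length,
      ((s j.castSucc).colon (s j.succ : Set (B ⧸ I))).IsMaximal :=
    fun j => (covBy_equiv (s.step j)).1
  -- the `A`-length is the number of steps
  have key : ∀ k : Fin (s.length + 1), Module.length A (s k) = (k.val : ℕ∞) := by
    intro k
    induction k using Fin.induction with
    | zero =>
      have hbot : s 0 = ⊥ := h0
      have hsub : Subsingleton (s 0) := by
        rw [hbot]; infer_instance
      rw [Module.length_eq_zero]
      simp
    | succ j ih =>
      haveI := hcm j
      rw [covBy_length_restrictScalars (A := A) (s.step j), ih,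
        length_quotient_eq_one _ (hI ▸ hcI j) (hres _ (hI ▸ hcI j))]
      simp
  have hlen : (s.length : ℕ∞) = d := by
    have hlast := key (Fin.last s.length)
    have htop : s (Fin.last s.length) = ⊤ := h1
    have e : (s (Fin.last s.length)) ≃ₗ[B] (B ⧸ I) :=
      (LinearEquiv.ofEq _ _ htop).trans Submodule.topEquiv
    have e1 : Module.length A (s (Fin.last s.length)) = Module.length A (B ⧸ I) :=
      (e.restrictScalars A).length_eq
    rw [e1, hlenA] at hlast
    rw [hlast]
    simp
  -- the colon ideals as elements of the index type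
  let c : Fin s.length → {n : MaximalSpectrum B // I ≤ n.asIdeal} :=
    fun j => ⟨⟨(s j.castSucc).colon (s j.succ : Set (B ⧸ I)), hcm j⟩, hcI j⟩
  have hterm : ∀ n : {n : MaximalSpectrum B // I ≤ n.asIdeal},
      Module.length (Localization.AtPrime n.1.asIdeal)
        (LocalizedModule n.1.asIdeal.primeCompl (B ⧸ I)) =
      ((Finset.univ.filter fun j : Fin s.length => c j = n).card : ℕ∞) := by
    intro n
    haveI := n.1.2
    rw [← card_filter_eq_length_localization s h0 h1 n.1.asIdeal]
    congr 2
    ext j
    simp only [Finset.mem_filter, Finset.mem_univ, true_and]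
    constructor
    · intro h
      apply Subtype.ext
      apply MaximalSpectrum.ext
      exact h
    · intro h
      rw [← h]
  rw [finsum_congr hterm]
  rw [finsum_eq_finsetSum_of_support_subset (s := Finset.univ.image c)]
  · rw [← hlen, ← Nat.cast_sum]
    congr 1
    have := Finset.card_eq_sum_card_fiberwise (f := c) (s := Finset.univ)
      (t := Finset.univ.image c) (fun j _ => Finset.mem_coe.mpr
        (Finset.mem_image_of_mem c (Finset.mem_univ j)))
    rw [Finset.card_univ, Fintype.card_fin] at this
    exact this.symm
  · intro n hn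
    rw [Function.mem_support] at hn
    rw [Finset.mem_coe, Finset.mem_image]
    by_contra hcon
    apply hn
    rw [Nat.cast_eq_zero, Finset.card_eq_zero, Finset.filter_eq_empty_iff]
    intro j _ hj
    exact hcon ⟨j, Finset.mem_univ j, hj⟩

end Groth.Agent.Helper8.Len
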