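import Mathlib

/-! An inverse limit of modules `M_n` with `I^(n+1) M_n = 0` is `I`-adically complete
(`I` finitely generated; no surjectivity of the transition maps). -/

namespace Groth.Agent.Helper8.LimComplete

open Submodule

universe u v

/-- Elements of `span (range g) • N` are combinations `∑ g_j • u_j` with `u_j ∈ N`. -/
lemma exists_sum_of_mem_span_smul {A : Type*} [CommRing A] {L : Type*} [AddCommGroup L]
    [Module A L] {s : ℕ} (g : Fin s → A) (N : Submodule A L) (z : L)
    (hz : z ∈ Ideal.span (Set.range g) • N) :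
    ∃ u : Fin s → L, (∀ j, u j ∈ N) ∧ z = ∑ j, g j • u j := by
  induction hz using Submodule.smul_induction_on' with
  | smul r hr n hn =>
    obtain ⟨c, hc⟩ := (Ideal.mem_span_range_iff_exists_fun).mp hr
    refine ⟨fun j => c j • n, fun j => N.smul_mem _ hn, ?_⟩
    rw [← hc, Finset.sum_smul]
    refine Finset.sum_congr rfl fun j _ => ?_
    rw [smul_smul, mul_comm]
  | add x y _ _ hx hy =>
    obtain ⟨u, hu, rfl⟩ := hx
    obtain ⟨w, hw, rfl⟩ := hy
    refine ⟨fun j => u j + w j, fun j => N.add_mem (hu j) (hw j), ?_⟩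
    rw [← Finset.sum_add_distrib]
    refine Finset.sum_congr rfl fun j _ => ?_
    rw [smul_add]

variable {A : Type u} [CommRing A] (I : Ideal A)
  {M : ℕ → Type v} [∀ n, AddCommGroup (M n)] [∀ n, Module A (M n)]
  (f : ∀ n, M (n + 1) →ₗ[A] M n)
  (hkill : ∀ n, I ^ (n + 1) • (⊤ : Submodule A (M n)) = ⊥)
  {L : Type v} [AddCommGroup L] [Module A L] (π : ∀ n, L →ₗ[A] M n)
  (hπ : ∀ n, f n ∘ₗ π (n + 1) = π n)

include hkill in
lemma pi_eq_zero {n m : ℕ} (hnm : n + 1 ≤ m) {x : L} (hx : x ∈ I ^ m • (⊤ : Submodule A L)) :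
    π n x = 0 := by
  have h1 : I ^ m • (⊤ : Submodule A L) ≤ I ^ (n + 1) • (⊤ : Submodule A L) :=
    Submodule.smul_mono_left (Ideal.pow_le_pow_right hnm)
  have h3 : ∀ y ∈ I ^ (n + 1) • (⊤ : Submodule A L),
      π n y ∈ I ^ (n + 1) • (⊤ : Submodule A (M n)) := by
    intro y hy
    induction hy using Submodule.smul_induction_on' with
    | smul r hr y _ =>
      rw [map_smul]
      exact Submodule.smul_mem_smul hr trivial
    | add y z _ _ hy hz => rw [map_add]; exact add_mem hy hz
  have h2 := h3 x (h1 hx)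
  rw [hkill n] at h2
  exact (Submodule.mem_bot A).mp h2

include hkill hπ in
/-- Weak limits of Cauchy sequences. -/
lemma exists_weak_limit
    (hlift : ∀ y : (∀ n, M n), (∀ n, f n (y (n + 1)) = y n) → ∃ x : L, ∀ n, π n x = y n)
    (x : ℕ → L) (hx : ∀ k, x (k + 1) - x k ∈ I ^ k • (⊤ : Submodule A L)) :
    ∃ ℓ : L, ∀ n m, n + 1 ≤ m → π n ℓ = π n (x m) := by
  have hstep : ∀ n m, n + 1 ≤ m → π n (x (m + 1)) = π n (x m) := by
    intro n m hnm
    have := pi_eq_zero I hkill π hnm (hx m)
    rw [map_sub, sub_eq_zero] at this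
    exact this
  have hconst : ∀ n m, n + 1 ≤ m → π n (x m) = π n (x (n + 1)) := by
    intro n m hnm
    induction m, hnm using Nat.le_induction with
    | base => rfl
    | succ m hm ih => rw [hstep n m hm, ih]
  obtain ⟨ℓ, hℓ⟩ := hlift (fun n => π n (x (n + 1))) (by
    intro n
    have h1 : f n (π (n + 1) (x (n + 1 + 1))) = π n (x (n + 1 + 1)) :=
      LinearMap.congr_fun (hπ n) _
    rw [h1]
    exact hstep n (n + 1) le_rfl)
  exact ⟨ℓ, fun n m hnm => by rw [hℓ n, hconst n m hnm]⟩

include hkill hπ in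
theorem main (hI : I.FG)
    (hinj : ∀ x : L, (∀ n, π n x = 0) → x = 0)
    (hlift : ∀ y : (∀ n, M n), (∀ n, f n (y (n + 1)) = y n) → ∃ x : L, ∀ n, π n x = y n) :
    IsAdicComplete I L := by
  classical
  haveI : IsHausdorff I L := by
    refine ⟨fun x hx => hinj x fun n => ?_⟩
    have := hx (n + 1)
    rw [SModEq.zero] at this
    exact pi_eq_zero I hkill π le_rfl this
  haveI : IsPrecomplete I L := by
    refine ⟨fun x hx => ?_⟩
    have hx' : ∀ k, x (k + 1) - x k ∈ I ^ k • (⊤ : Submodule A L) := by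
      intro k
      have := (hx (Nat.le_succ k)).symm
      exact SModEq.sub_mem.mp this
    obtain ⟨ℓ, hℓ⟩ := exists_weak_limit I f hkill π hπ hlift x hx'
    refine ⟨ℓ, fun k => ?_⟩
    -- generators of `I ^ k`
    have hIk : (I ^ k).FG := Ideal.FG.pow hI
    obtain ⟨s, g, hg⟩ := Submodule.fg_iff_exists_fin_generating_family.mp hIk
    -- decompose the increments
    have hdec : ∀ N : ℕ, ∃ u : Fin s → L, (∀ j, u j ∈ I ^ N • (⊤ : Submodule A L)) ∧
        x (k + N + 1) - x (k + N) = ∑ j, g j • u j := by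
      intro N
      have h1 := hx' (k + N)
      rw [pow_add, Submodule.mul_smul] at h1
      have hspan : Ideal.span (Set.range g) = I ^ k := hg
      rw [← hspan] at h1
      exact exists_sum_of_mem_span_smul g _ _ h1
    choose u hu hue using hdec
    -- partial sums
    let S : Fin s → ℕ → L := fun j N => ∑ i ∈ Finset.range N, u i j
    have hS : ∀ j N, S j (N + 1) - S j N ∈ I ^ N • (⊤ : Submodule A L) := by
      intro j N
      simp only [S, Finset.sum_range_succ, add_sub_cancel_left]
      exact hu N j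
    have hU : ∀ j, ∃ U : L, ∀ n m, n + 1 ≤ m → π n U = π n (S j m) := fun j =>
      exists_weak_limit I f hkill π hπ hlift (S j) (hS j)
    choose U hUs using hU
    have hkey : ℓ - x k = ∑ j, g j • U j := by
      rw [← sub_eq_zero]
      apply hinj
      intro n
      have e1 := hℓ n (k + (n + 1)) (by omega)
      have e2 : ∀ j, π n (U j) = π n (S j (n + 1)) := fun j => hUs j n (n + 1) le_rfl
      have e3 : ∑ j, g j • S j (n + 1) = x (k + (n + 1)) - x k := by
        simp only [S, Finset.smul_sum]
        rw [Finset.sum_comm]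
        have : ∀ i, ∑ j, g j • u i j = x (k + i + 1) - x (k + i) := fun i => (hue i).symm
        simp only [this]
        have := Finset.sum_range_sub (fun i => x (k + i)) (n + 1)
        simpa [add_assoc] using this
      have e4 : ∑ j, g j • π n (S j (n + 1)) = π n (x (k + (n + 1))) - π n (x k) := by
        rw [← map_sub, ← e3, map_sum]
        simp only [map_smul]
      rw [map_sub, map_sub, map_sum, e1]
      simp only [map_smul, e2]
      rw [e4, sub_self]
    have hmem : ℓ - x k ∈ I ^ k • (⊤ : Submodule A L) := by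
      rw [hkey]
      refine sum_mem fun j _ => Submodule.smul_mem_smul ?_ trivial
      have hspan : Ideal.span (Set.range g) = I ^ k := hg
      rw [← hspan]
      exact Ideal.subset_span ⟨j, rfl⟩
    exact (SModEq.sub_mem.mpr hmem).symm
  exact ⟨⟩

end Groth.Agent.Helper8.LimComplete
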