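import Mathlib
import Groth.Prelude
import Groth.Agent.Lib.Helper8.J0Cpl7
import Groth.Agent.Lib.Helper8.Andre11
import Groth.Agent.Lib.Helper8.FlatReg9
import Groth.Agent.S9293
import Groth.Agent.Lib.Helper8.Exc1
import Groth.Agent.Lib.Helper8.ABS11

/-!
# A Noetherian local G-ring is J-2
-/

set_option autoImplicit false
universe u

namespace Groth.Agent.Helper8.LocJ2

open TensorProduct IsLocalRing

/-- Regularity ascends along regular homomorphisms, pointwise. -/
theorem preimage_regLocus_subset_of_isRegularHom (A B : Type u) [CommRing A] [CommRing B]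
    [IsNoetherianRing A] [IsNoetherianRing B] [Algebra A B] (h : CAlg.IsRegularHom A B) :
    PrimeSpectrum.comap (algebraMap A B) ⁻¹' EGA4.regLocus A ⊆ EGA4.regLocus B := by
  intro Q hQ
  haveI := h.1
  have hfib : IsRegularRing ((Q.asIdeal.comap (algebraMap A B)).Fiber B) :=
    Groth.Agent.Helper8.CplMap.isRegularRing_of_isGeometricallyRegular _ _
      (h.2 (Q.asIdeal.comap (algebraMap A B))).2
  exact Groth.Agent.Helper8.FlatReg.isRegularLocalRing_atPrime_of_fibre A B Q.asIdeal hQ
    (Groth.Agent.Helper8.CompFib.isRegularLocalRing_fibLocRing_of_fiber A B Q.asIdeal hfib)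

/-- Regularity descends along flat homomorphisms, pointwise. -/
theorem regLocus_subset_preimage_of_flat (A B : Type u) [CommRing A] [CommRing B]
    [IsNoetherianRing A] [Algebra A B] [Module.Flat A B] :
    EGA4.regLocus B ⊆ PrimeSpectrum.comap (algebraMap A B) ⁻¹' EGA4.regLocus A := by
  intro Q hQ
  haveI : Q.asIdeal.LiesOver (Q.asIdeal.comap (algebraMap A B)) := ⟨rfl⟩
  exact Groth.Agent.Helper8.FlatReg.isRegularLocalRing_of_flat_liesOver A B
    (Q.asIdeal.comap (algebraMap A B)) Q.asIdeal hQ

/-- The regular locus is stable under generization. -/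
theorem mem_regLocus_of_le {A : Type u} [CommRing A] (x y : PrimeSpectrum A)
    (hle : x.asIdeal ≤ y.asIdeal) (hy : y ∈ EGA4.regLocus A) : x ∈ EGA4.regLocus A := by
  haveI : IsRegularLocalRing (Localization.AtPrime y.asIdeal) := hy
  have h1 := Groth.Agent.Helper8.Exc.regLocus_of_isLocalization (R := A)
    (L := Localization.AtPrime y.asIdeal) y.asIdeal.primeCompl
  have hdisj : Disjoint (y.asIdeal.primeCompl : Set A) x.asIdeal := by
    rw [Set.disjoint_left]
    intro a ha hax
    exact ha (hle hax)
  let x' : PrimeSpectrum (Localization.AtPrime y.asIdeal) :=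
    ⟨x.asIdeal.map (algebraMap A (Localization.AtPrime y.asIdeal)),
      IsLocalization.isPrime_of_isPrime_disjoint y.asIdeal.primeCompl _ _ x.2 hdisj⟩
  have hx' : PrimeSpectrum.comap (algebraMap A (Localization.AtPrime y.asIdeal)) x' = x :=
    PrimeSpectrum.ext
      (IsLocalization.under_map_of_isPrime_disjoint y.asIdeal.primeCompl _ x.2 hdisj)
  haveI : x'.asIdeal.IsPrime := x'.2
  have h2 : x' ∈ EGA4.regLocus (Localization.AtPrime y.asIdeal) :=
    Groth.Agent.Helper8.ABS.isRegularLocalRing_localization _ x'.asIdeal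
  rw [h1] at h2
  have h3 : PrimeSpectrum.comap (algebraMap A (Localization.AtPrime y.asIdeal)) x' ∈
      EGA4.regLocus A := h2
  rwa [hx'] at h3

/-- Openness of the regular locus descends along a regular homomorphism which is surjective on
spectra. -/
theorem isOpen_regLocus_of_isRegularHom (A B : Type u) [CommRing A] [CommRing B]
    [IsNoetherianRing A] [IsNoetherianRing B] [Algebra A B] (h : CAlg.IsRegularHom A B)
    (hsurj : Function.Surjective (PrimeSpectrum.comap (algebraMap A B)))
    (hB : IsOpen (EGA4.regLocus B)) : IsOpen (EGA4.regLocus A) := by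
  haveI := h.1
  have heq : PrimeSpectrum.comap (algebraMap A B) ⁻¹' EGA4.regLocus A = EGA4.regLocus B :=
    Set.Subset.antisymm (preimage_regLocus_subset_of_isRegularHom A B h)
      (regLocus_subset_preimage_of_flat A B)
  have himg : (EGA4.regLocus A)ᶜ = PrimeSpectrum.comap (algebraMap A B) '' (EGA4.regLocus B)ᶜ := by
    rw [← heq, ← Set.preimage_compl, Set.image_preimage_eq _ hsurj]
  rw [← isClosed_compl_iff, himg]
  refine PrimeSpectrum.isClosed_image_of_stableUnderSpecialization _ _ hB.isClosed_compl ?_
  rw [← himg]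
  intro x y hxy hx hy
  apply hx
  -- regularity passes to generizations
  have hle : x.asIdeal ≤ y.asIdeal := (PrimeSpectrum.le_iff_specializes x y).mpr hxy
  exact mem_regLocus_of_le x y hle hy
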