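import Mathlib
import Groth.Prelude
import Groth.Agent.Lib.Helper8.LocJ2a

/-!
# A Noetherian local G-ring is J-2 (main statement)
-/

set_option autoImplicit false
universe u

namespace Groth.Agent.Helper8.LocJ2

open TensorProduct IsLocalRing

/-- The regular locus is compatible with ring isomorphisms. -/
theorem isOpen_regLocus_of_ringEquiv {R S : Type u} [CommRing R] [CommRing S] (e : R ≃+* S)
    (h : IsOpen (EGA4.regLocus R)) : IsOpen (EGA4.regLocus S) := by
  letI : Algebra R S := e.toRingHom.toAlgebra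
  haveI : IsLocalization (⊥ : Submonoid R) S := by
    refine IsLocalization.of_le_isUnit_of_bijective ?_ e.bijective
    rintro _ ⟨x, hx, rfl⟩
    rw [Submonoid.mem_bot.mp hx, map_one]
    exact isUnit_one
  rw [Groth.Agent.Helper8.Exc.regLocus_of_isLocalization (R := R) (L := S) ⊥]
  exact h.preimage (PrimeSpectrum.continuous_comap _)

/-- **A Noetherian local G-ring is J-2.** -/
theorem isJ2_of_isGRing (A : Type u) [CommRing A] [IsLocalRing A] (hA : CAlg.IsGRing A) :
    EGA4.IsJ2 A := by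
  haveI : IsNoetherianRing A := hA.1
  haveI : IsNoetherianRing (EGA4.Cpl A) := Groth.Agent.Helper8.AdicReg.isNoetherianRing A _
  haveI : Module.FaithfullyFlat A (EGA4.Cpl A) := Module.FaithfullyFlat.of_flat_of_isLocalHom
  have hreg : CAlg.IsRegularHom A (EGA4.Cpl A) :=
    Groth.Agent.Helper8.Andre.isRegularHom_cpl_of_isGRing A hA
  have hJ : EGA4.IsJ2 (EGA4.Cpl A) := Groth.Agent.Helper8.J0Cpl.isJ2_of_isAdicComplete (EGA4.Cpl A)
  intro A' _ _ hft
  haveI := hft
  haveI : IsNoetherianRing A' := Algebra.FiniteType.isNoetherianRing A A'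
  have h1 : CAlg.IsRegularHom A' (A' ⊗[A] EGA4.Cpl A) := Groth.Agent.S9293.result A _ A' hreg
  have h2 : IsOpen (EGA4.regLocus (EGA4.Cpl A ⊗[A] A')) := hJ _ inferInstance
  haveI : IsNoetherianRing (EGA4.Cpl A ⊗[A] A') :=
    Algebra.FiniteType.isNoetherianRing (EGA4.Cpl A) _
  haveI : IsNoetherianRing (A' ⊗[A] EGA4.Cpl A) :=
    isNoetherianRing_of_ringEquiv _ (Algebra.TensorProduct.comm A (EGA4.Cpl A) A').toRingEquiv
  have h3 : IsOpen (EGA4.regLocus (A' ⊗[A] EGA4.Cpl A)) :=
    isOpen_regLocus_of_ringEquiv (Algebra.TensorProduct.comm A (EGA4.Cpl A) A').toRingEquiv h2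
  exact isOpen_regLocus_of_isRegularHom A' (A' ⊗[A] EGA4.Cpl A) h1
    PrimeSpectrum.comap_surjective_of_faithfullyFlat h3

end Groth.Agent.Helper8.LocJ2
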