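import Mathlib
import Groth.Agent.Lib.Helper8.LocTr1
import Groth.Agent.Lib.Helper8.LocTr3

/-!
# Local tricks for smoothing, IV: descending a smooth factorization from the localizations
-/

set_option autoImplicit false
universe u

namespace Groth.Agent.Helper8.LocTr

open MvPolynomial

/-- The factorization lemma: a smooth factorization over the localizations yields a finitely
presented factorization over the original rings with a smooth principal open mapping outside the
prime. -/
theorem exists_factorization {R A Λ Λq A' B : Type u} [CommRing R] [CommRing A] [Algebra R A]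
    [Algebra.FinitePresentation R A] [CommRing Λ] [Algebra R Λ] (φ : A →ₐ[R] Λ) (𝔮 : Ideal Λ)
    [𝔮.IsPrime] [CommRing Λq] [Algebra Λ Λq] [IsLocalization.AtPrime Λq 𝔮] (M : Submonoid R)
    (hM : ∀ s ∈ M, algebraMap R Λ s ∉ 𝔮) [CommRing A'] [Algebra A A']
    [IsLocalization (Algebra.algebraMapSubmonoid A M) A'] [CommRing B] [Algebra A' B]
    [Algebra A B] [IsScalarTower A A' B] [Algebra.FinitePresentation A' B] [Algebra R B]
    [IsScalarTower R A B] [Algebra.FormallySmooth R B] (h : B →+* Λq)
    (hh : ∀ x : A, h (algebraMap A B x) = algebraMap Λ Λq (φ x)) :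
    ∃ (C : Type u) (_ : CommRing C) (_ : Algebra R C), Algebra.FinitePresentation R C ∧
      ∃ (g : A →ₐ[R] C) (h' : C →ₐ[R] Λ), h'.comp g = φ ∧
        ∃ b : C, Algebra.FormallySmooth R (Localization.Away b) ∧ h' b ∉ 𝔮 := by
  classical
  -- descent
  obtain ⟨k, l, r, ι, hloc⟩ := exists_descent_of_isLocalization (A := A) (A' := A') (B := B)
    (Algebra.algebraMapSubmonoid A M)
  letI algC₁B : Algebra (C₁ r) B := ι.toRingHom.toAlgebra
  haveI : IsScalarTower R (C₁ r) B := by
    have h0 := IsScalarTower.of_algebraMap_eq (R := R) (S := C₁ r) (A := B) fun x => by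
      change algebraMap R B x = ι (algebraMap R (C₁ r) x)
      rw [IsScalarTower.algebraMap_apply R A (C₁ r), ι.commutes, ← IsScalarTower.algebraMap_apply]
    exact h0
  haveI : IsLocalization (Algebra.algebraMapSubmonoid (C₁ r) M) B := by
    have hsub : Algebra.algebraMapSubmonoid (C₁ r) (Algebra.algebraMapSubmonoid A M) =
        Algebra.algebraMapSubmonoid (C₁ r) M := by
      ext x
      constructor
      · rintro ⟨_, ⟨s, hs, rfl⟩, rfl⟩
        exact ⟨s, hs, IsScalarTower.algebraMap_apply R A (C₁ r) s⟩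
      · rintro ⟨s, hs, rfl⟩
        exact ⟨_, ⟨s, hs, rfl⟩, (IsScalarTower.algebraMap_apply R A (C₁ r) s).symm⟩
    rw [← hsub]
    exact hloc
  haveI : Algebra.FinitePresentation R (C₁ r) :=
    Algebra.FinitePresentation.quotient (Submodule.fg_span (Set.finite_range r))
  -- spreading out
  obtain ⟨s, hsM, hsm⟩ := exists_smooth_away_of_isLocalization (R := R) (C := C₁ r) (B := B) M
  haveI hfs : Algebra.FormallySmooth R
      (Localization.Away (algebraMap A (C₁ r) (algebraMap R A s))) := hsm.1
  -- the map to `Λq`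
  let θ : C₁ r →+* Λq := h.comp ι.toRingHom
  have hθA : ∀ x : A, θ (algebraMap A (C₁ r) x) = algebraMap Λ Λq (φ x) := by
    intro x
    change h (ι (algebraMap A (C₁ r) x)) = _
    rw [ι.commutes, hh]
  let ψ : A →+* Λq := (algebraMap Λ Λq).comp φ.toRingHom
  have hθeval : ∀ p : MvPolynomial (Fin k) A,
      eval₂ ψ (fun i => θ (Ideal.Quotient.mk _ (X i))) p = θ (Ideal.Quotient.mk _ p) := by
    intro p
    have : (eval₂Hom ψ (fun i => θ (Ideal.Quotient.mk _ (X i)))) =
        θ.comp (Ideal.Quotient.mk (Ideal.span (Set.range r))) := by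
      refine MvPolynomial.ringHom_ext (fun x => ?_) (fun i => ?_)
      · rw [eval₂Hom_C, RingHom.comp_apply]
        exact (hθA x).symm
      · rw [eval₂Hom_X', RingHom.comp_apply]
        rfl
    exact congr($this p)
  -- common denominator
  obtain ⟨lam, hlam⟩ := IsLocalization.exist_integer_multiples_of_finite 𝔮.primeCompl
    (fun i : Fin k => θ (Ideal.Quotient.mk _ (X i)))
  choose μ hμ using hlam
  have hlamu : IsUnit (algebraMap Λ Λq lam.1) := IsLocalization.map_units Λq lam
  obtain ⟨lam', hlam'⟩ : ∃ t : Λq, algebraMap Λ Λq lam.1 * t = 1 := ⟨_, hlamu.mul_val_inv⟩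
  have hμ' : ∀ i, algebraMap Λ Λq (μ i) * lam' = θ (Ideal.Quotient.mk _ (X i)) := by
    intro i
    rw [hμ i, Algebra.smul_def, mul_comm, ← mul_assoc, mul_comm lam', hlam', one_mul]
  -- the degree
  let d : ℕ := Finset.univ.sup fun j => (r j).totalDegree
  have hd : ∀ j, (r j).totalDegree ≤ d := fun j =>
    Finset.le_sup (f := fun j => (r j).totalDegree) (Finset.mem_univ j)
  -- the relations hold in `Λq`
  let Ej : Fin l → Λ := fun j =>
    eval₂ φ.toRingHom (fun o : Option (Fin k) => o.elim lam.1 μ) (homog d (r j))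
  have hEj : ∀ j, algebraMap Λ Λq (Ej j) = 0 := by
    intro j
    change algebraMap Λ Λq (eval₂ φ.toRingHom _ (homog d (r j))) = 0
    rw [eval₂_comp_left]
    have h1 : (algebraMap Λ Λq ∘ fun o : Option (Fin k) => o.elim lam.1 μ) =
        fun o : Option (Fin k) => o.elim (algebraMap Λ Λq lam.1) (fun i => algebraMap Λ Λq (μ i)) := by
      funext o
      rcases o with _ | i <;> rfl
    rw [h1, eval₂_homog d (r j) (hd j) _ _ _ _ hlam']
    have h2 : (fun i => algebraMap Λ Λq (μ i) * lam') =
        fun i => θ (Ideal.Quotient.mk _ (X i)) := funext hμ'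
    rw [h2]
    change _ * eval₂ ψ _ (r j) = 0
    have h3 : Ideal.Quotient.mk (Ideal.span (Set.range r)) (r j) = 0 :=
      Ideal.Quotient.eq_zero_iff_mem.mpr (Ideal.subset_span ⟨j, rfl⟩)
    rw [hθeval, h3, map_zero, mul_zero]
  have hEj' : ∀ j, ∃ m : 𝔮.primeCompl, m.1 * Ej j = 0 := fun j =>
    (IsLocalization.map_eq_zero_iff 𝔮.primeCompl Λq (Ej j)).mp (hEj j)
  choose mj hmj using hEj'
  let lam₀ : Λ := ∏ j, (mj j).1
  have hlam₀ : lam₀ ∉ 𝔮 := by
    have : lam₀ ∈ 𝔮.primeCompl := Submonoid.prod_mem _ fun j _ => (mj j).2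
    exact this
  have hlam₀E : ∀ j, lam₀ * Ej j = 0 := by
    intro j
    have : lam₀ = (∏ j' ∈ Finset.univ.erase j, (mj j').1) * (mj j).1 := by
      rw [Finset.prod_erase_mul _ _ (Finset.mem_univ j)]
    rw [this, mul_assoc, hmj, mul_zero]
  -- the algebra `C`
  haveI : Algebra.FinitePresentation R (Cc r d) :=
    Algebra.FinitePresentation.quotient (Submodule.fg_span (Set.finite_range (rel r d)))
  let valsΛ : Option (Option (Fin k)) → Λ := fun o => o.elim lam₀ (fun o' => o'.elim lam.1 μ)
  let h₀ : MvPolynomial (Option (Option (Fin k))) A →ₐ[R] Λ := aevalTower φ valsΛ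
  have hh₀ : ∀ p, h₀ p = eval₂ φ.toRingHom valsΛ p := fun p => rfl
  have hh₀rel : ∀ p ∈ Ideal.span (Set.range (rel r d)), h₀ p = 0 := by
    intro p hp
    have hle : Ideal.span (Set.range (rel r d)) ≤ RingHom.ker h₀.toRingHom := by
      rw [Ideal.span_le]
      rintro _ ⟨j, rfl⟩
      rw [SetLike.mem_coe, RingHom.mem_ker]
      change h₀ (rel r d j) = 0
      rw [hh₀, rel, eval₂_mul, eval₂_X, eval₂_rename]
      exact hlam₀E j
    exact hle hp
  let h' : Cc r d →ₐ[R] Λ := Ideal.Quotient.liftₐ _ h₀ hh₀rel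
  let g : A →ₐ[R] Cc r d := IsScalarTower.toAlgHom R A (Cc r d)
  refine ⟨Cc r d, inferInstance, inferInstance, inferInstance, g, h', ?_, bb r (algebraMap R A s) d,
    formallySmooth_away_bb r (algebraMap R A s) d hd, ?_⟩
  · refine AlgHom.ext fun x => ?_
    change h₀ (C x) = φ x
    exact aevalTower_C _ _ _
  · change h₀ (X none * X (some none) * C (algebraMap R A s)) ∉ 𝔮
    rw [map_mul, map_mul]
    have e1 : h₀ (X none) = lam₀ := aevalTower_X _ _ _
    have e2 : h₀ (X (some none)) = lam.1 := aevalTower_X _ _ _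
    have e3 : h₀ (C (algebraMap R A s)) = algebraMap R Λ s := by
      rw [aevalTower_C, φ.commutes]
    rw [e1, e2, e3]
    intro hmem
    rcases (Ideal.IsPrime.mem_or_mem inferInstance hmem) with h1 | h1
    · rcases (Ideal.IsPrime.mem_or_mem inferInstance h1) with h2 | h2
      · exact hlam₀ h2
      · exact lam.2 h2
    · exact hM s hsM h1

end Groth.Agent.Helper8.LocTr
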