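import Mathlib
import Groth.Prelude.Def_CAlg
import Groth.Agent.Lib.Helper8.AdicReg1
import Groth.Agent.Lib.Helper8.GorFlat5
import Groth.Agent.Lib.Helper8.LD15
import Groth.Agent.Lib.Helper8.GorArt3
import Groth.Agent.Lib.Helper8.Kunz1

/-!
# A Gorenstein multicross singularity is a node (helper8)

The multicross ring `M_n ⊆ k[[t]]^n` (common constant term).  Modulo the regular element `(t, …, t)` it is
`k ⊕ V` with `V² = 0` and `dim V = n - 1`, whose socle is `V`; hence `M_n` Gorenstein forces `n ≤ 2`.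
-/

set_option autoImplicit false
universe u

namespace Groth.Agent.Helper8.MCross

open IsLocalRing LocCoh PowerSeries

/-- The Gorenstein property ascends to the completion. -/
theorem isGorensteinLocalRing_adicCompletion (A : Type u) [CommRing A]
    (hA : IsGorensteinLocalRing A) :
    IsGorensteinLocalRing (AdicCompletion (maximalIdeal A) A) := by
  haveI := hA
  have hfg : (maximalIdeal A).FG := IsNoetherian.noetherian _
  have hI : maximalIdeal A ≠ ⊤ := (maximalIdeal.isMaximal A).ne_top
  haveI := AdicReg.isLocalRing A (maximalIdeal A) hfg hI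
  haveI := AdicReg.isLocalHom A (maximalIdeal A) hfg hI
  haveI := AdicReg.isNoetherianRing A (maximalIdeal A)
  rw [GorFlat.isGorensteinLocalRing_iff_of_flat A (AdicCompletion (maximalIdeal A) A)]
  refine ⟨hA, ?_⟩
  apply GorFlat.isGorensteinLocalRing_of_isField
  rw [← AdicReg.maximalIdeal_eq A (maximalIdeal A) hfg hI]
  exact (Ideal.Quotient.maximal_ideal_iff_isField_quotient _).mp (maximalIdeal.isMaximal _)

variable (k : Type u) [Field k] (n : ℕ)

/-- the multicross ring -/
def MC : Subring (Fin n → PowerSeries k) where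
  carrier := {f | ∀ i j : Fin n, constantCoeff (f i) = constantCoeff (f j)}
  mul_mem' := by
    intro f g hf hg i j
    rw [Pi.mul_apply, Pi.mul_apply, map_mul, map_mul, hf i j, hg i j]
  one_mem' := by
    intro i j
    rfl
  add_mem' := by
    intro f g hf hg i j
    rw [Pi.add_apply, Pi.add_apply, map_add, map_add, hf i j, hg i j]
  zero_mem' := by
    intro i j
    rfl
  neg_mem' := by
    intro f hf i j
    rw [Pi.neg_apply, Pi.neg_apply, map_neg, map_neg, hf i j]

/-- the element `(t, …, t)` -/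
noncomputable def xx : MC k n := ⟨fun _ => X, fun _ _ => rfl⟩

/-- the element with components `X * h i` -/
noncomputable def zc (h : Fin n → PowerSeries k) : MC k n :=
  ⟨fun i => X * h i, fun i j => by
    rw [map_mul, map_mul, constantCoeff_X, zero_mul, zero_mul]⟩

variable {k n}

theorem mem_span_xx_iff (f : MC k n) : f ∈ Ideal.span {xx k n} ↔
    ∃ a : MC k n, ∀ i, (f : Fin n → PowerSeries k) i = (a : Fin n → PowerSeries k) i * X := by
  rw [Ideal.mem_span_singleton']
  constructor
  · rintro ⟨a, rfl⟩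
    exact ⟨a, fun i => rfl⟩
  · rintro ⟨a, ha⟩
    exact ⟨a, Subtype.ext (funext fun i => (ha i).symm)⟩

theorem zc_mul_zc_mem (h h' : Fin n → PowerSeries k) :
    zc k n h * zc k n h' ∈ Ideal.span {xx k n} := by
  rw [mem_span_xx_iff]
  refine ⟨zc k n (fun i => h i * h' i), fun i => ?_⟩
  change (X * h i) * (X * h' i) = (X * (h i * h' i)) * X
  ring

theorem isUnit_of_constantCoeff_ne_zero (f : MC k n) (i : Fin n)
    (h : constantCoeff ((f : Fin n → PowerSeries k) i) ≠ 0) : IsUnit f := by
  have hall : ∀ j, constantCoeff ((f : Fin n → PowerSeries k) j) ≠ 0 := fun j => by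
    rw [f.2 j i]
    exact h
  let g : MC k n := ⟨fun j => ((f : Fin n → PowerSeries k) j)⁻¹, fun a b => by
    rw [constantCoeff_inv, constantCoeff_inv, f.2 a b]⟩
  refine IsUnit.of_mul_eq_one g (Subtype.ext (funext fun j => ?_))
  change (f : Fin n → PowerSeries k) j * ((f : Fin n → PowerSeries k) j)⁻¹ = 1
  exact PowerSeries.mul_inv_cancel _ (hall j)

theorem exists_zc (f : MC k n) (h : ∀ i, constantCoeff ((f : Fin n → PowerSeries k) i) = 0) :
    ∃ g, f = zc k n g := by
  have h1 : ∀ i, ∃ g, (f : Fin n → PowerSeries k) i = X * g := fun i => X_dvd_iff.mpr (h i)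
  choose g hg using h1
  exact ⟨g, Subtype.ext (funext hg)⟩

section Quot

variable [IsLocalRing (MC k n ⧸ Ideal.span {xx k n})]

theorem exists_zc_of_mem_maximalIdeal (f : MC k n)
    (hf : Ideal.Quotient.mk (Ideal.span {xx k n}) f ∈
      maximalIdeal (MC k n ⧸ Ideal.span {xx k n})) : ∃ g, f = zc k n g := by
  apply exists_zc
  intro i
  by_contra hne
  have hu := (isUnit_of_constantCoeff_ne_zero f i hne).map (Ideal.Quotient.mk (Ideal.span {xx k n}))
  rw [mem_maximalIdeal, mem_nonunits_iff] at hf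
  exact hf hu

theorem maximalIdeal_sq : maximalIdeal (MC k n ⧸ Ideal.span {xx k n}) ^ 2 = ⊥ := by
  rw [pow_two, eq_bot_iff, Ideal.mul_le]
  intro r hr s hs
  obtain ⟨f, rfl⟩ := Ideal.Quotient.mk_surjective r
  obtain ⟨f', rfl⟩ := Ideal.Quotient.mk_surjective s
  obtain ⟨g, rfl⟩ := exists_zc_of_mem_maximalIdeal f hr
  obtain ⟨g', rfl⟩ := exists_zc_of_mem_maximalIdeal f' hs
  rw [Ideal.mem_bot, ← map_mul, Ideal.Quotient.eq_zero_iff_mem]
  exact zc_mul_zc_mem g g'

theorem mk_zc_mem_soc (h : Fin n → PowerSeries k) :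
    Ideal.Quotient.mk (Ideal.span {xx k n}) (zc k n h) ∈
      GorArt.Soc (MC k n ⧸ Ideal.span {xx k n}) (MC k n ⧸ Ideal.span {xx k n}) := by
  rw [GorArt.mem_soc_iff]
  intro r hr
  obtain ⟨f, rfl⟩ := Ideal.Quotient.mk_surjective r
  obtain ⟨g, rfl⟩ := exists_zc_of_mem_maximalIdeal f hr
  rw [smul_eq_mul, ← map_mul, Ideal.Quotient.eq_zero_iff_mem]
  exact zc_mul_zc_mem g h

end Quot

/-- **A Gorenstein multicross ring has two branches.** -/
theorem eq_two_of_gorenstein (hn : 2 ≤ n) (hG : IsGorensteinLocalRing (MC k n)) : n = 2 := by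
  classical
  by_contra hne
  have h3 : 3 ≤ n := by omega
  haveI := hG
  obtain ⟨i0, hi0⟩ : ∃ i : Fin n, i.1 = 0 := ⟨⟨0, by omega⟩, rfl⟩
  obtain ⟨i1, hi1⟩ : ∃ i : Fin n, i.1 = 1 := ⟨⟨1, by omega⟩, rfl⟩
  obtain ⟨i2, hi2⟩ : ∃ i : Fin n, i.1 = 2 := ⟨⟨2, by omega⟩, rfl⟩
  have h01 : i1 ≠ i0 := fun h => by rw [h] at hi1; omega
  have h02 : i2 ≠ i0 := fun h => by rw [h] at hi2; omega
  have h12 : i2 ≠ i1 := fun h => by rw [h] at hi2; omega
  have hx : xx k n ∈ maximalIdeal (MC k n) := by
    rw [mem_maximalIdeal, mem_nonunits_iff]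
    intro hu
    obtain ⟨y, hy⟩ := hu.exists_right_inv
    have h1 : (X : PowerSeries k) * (y : Fin n → PowerSeries k) i0 = 1 :=
      congrArg (fun f : MC k n => (f : Fin n → PowerSeries k) i0) hy
    have h2 := congrArg (fun p : PowerSeries k => constantCoeff p) h1
    simp only [map_mul, constantCoeff_X, zero_mul, map_one] at h2
    exact zero_ne_one h2
  have hxreg : IsSMulRegular (MC k n) (xx k n) := by
    intro a b hab
    apply Subtype.ext
    funext i
    have h1 : (X : PowerSeries k) * (a : Fin n → PowerSeries k) i =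
        X * (b : Fin n → PowerSeries k) i :=
      congrArg (fun f : MC k n => (f : Fin n → PowerSeries k) i) hab
    exact X_mul_cancel h1
  have hB : IsGorensteinLocalRing (MC k n ⧸ Ideal.span {xx k n}) :=
    (LD.isGorensteinLocalRing_iff_quotient (MC k n) (xx k n) hx hxreg).mp hG
  haveI := hB
  haveI : IsArtinianRing (MC k n ⧸ Ideal.span {xx k n}) :=
    (isArtinianRing_iff_isNilpotent_maximalIdeal _).mpr ⟨2, maximalIdeal_sq⟩
  have hlen := (GorArt.isGorensteinLocalRing_iff_length_soc_le_one
    (MC k n ⧸ Ideal.span {xx k n})).mp hB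
  -- the two socle elements
  have hu0 : Ideal.Quotient.mk (Ideal.span {xx k n}) (zc k n (Pi.single i0 1)) ≠ 0 := by
    rw [Ne, Ideal.Quotient.eq_zero_iff_mem, mem_span_xx_iff]
    rintro ⟨a, ha⟩
    have e0 := ha i0
    have e1 := ha i1
    change X * ((Pi.single i0 (1 : PowerSeries k) : Fin n → PowerSeries k) i0) = _ at e0
    change X * ((Pi.single i0 (1 : PowerSeries k) : Fin n → PowerSeries k) i1) = _ at e1
    rw [Pi.single_eq_same, mul_one] at e0
    rw [Pi.single_eq_of_ne h01, mul_zero] at e1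
    have a0 : (a : Fin n → PowerSeries k) i0 = 1 := by
      have : (1 : PowerSeries k) * X = (a : Fin n → PowerSeries k) i0 * X := by rw [one_mul]; exact e0
      exact (mul_right_cancel₀ X_ne_zero this).symm
    have a1 : (a : Fin n → PowerSeries k) i1 = 0 := by
      have : (0 : PowerSeries k) * X = (a : Fin n → PowerSeries k) i1 * X := by rw [zero_mul]; exact e1
      exact (mul_right_cancel₀ X_ne_zero this).symm
    have hc := a.2 i0 i1
    rw [a0, a1, map_one, map_zero] at hc
    exact one_ne_zero hc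
  obtain ⟨b, hb⟩ := Kunz.cyclic_of_length_le_one hlen
    ⟨_, mk_zc_mem_soc (Pi.single i0 1)⟩ ⟨_, mk_zc_mem_soc (Pi.single i1 1)⟩ (by
      intro h0
      exact hu0 (congrArg Subtype.val h0))
  obtain ⟨q, rfl⟩ := Ideal.Quotient.mk_surjective b
  have hb' : Ideal.Quotient.mk (Ideal.span {xx k n}) (q * zc k n (Pi.single i0 1)) =
      Ideal.Quotient.mk (Ideal.span {xx k n}) (zc k n (Pi.single i1 1)) := by
    rw [map_mul]
    exact congrArg Subtype.val hb
  rw [Ideal.Quotient.eq, mem_span_xx_iff] at hb'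
  obtain ⟨a, ha⟩ := hb'
  have e1 := ha i1
  have e2 := ha i2
  change (q : Fin n → PowerSeries k) i1 * (X * ((Pi.single i0 (1 : PowerSeries k) : Fin n → PowerSeries k) i1)) -
    X * ((Pi.single i1 (1 : PowerSeries k) : Fin n → PowerSeries k) i1) = _ at e1
  change (q : Fin n → PowerSeries k) i2 * (X * ((Pi.single i0 (1 : PowerSeries k) : Fin n → PowerSeries k) i2)) -
    X * ((Pi.single i1 (1 : PowerSeries k) : Fin n → PowerSeries k) i2) = _ at e2
  rw [Pi.single_eq_of_ne h01, Pi.single_eq_same, mul_zero, mul_zero, mul_one, zero_sub] at e1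
  rw [Pi.single_eq_of_ne h02, Pi.single_eq_of_ne h12, mul_zero, mul_zero, sub_zero] at e2
  have a1 : (a : Fin n → PowerSeries k) i1 = -1 := by
    have : (-1 : PowerSeries k) * X = (a : Fin n → PowerSeries k) i1 * X := by
      rw [neg_one_mul]; exact e1
    exact (mul_right_cancel₀ X_ne_zero this).symm
  have a2 : (a : Fin n → PowerSeries k) i2 = 0 := by
    have : (0 : PowerSeries k) * X = (a : Fin n → PowerSeries k) i2 * X := by
      rw [zero_mul]; exact e2
    exact (mul_right_cancel₀ X_ne_zero this).symm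
  have hc := a.2 i1 i2
  rw [a1, a2, map_neg, map_one, map_zero] at hc
  exact one_ne_zero (neg_eq_zero.mp hc)

/-- the statement for a local ring with multicross completion -/
theorem eq_two_of_completion (A : Type u) [CommRing A] [IsGorensteinLocalRing A] (hn : 2 ≤ n)
    (φ : AdicCompletion (maximalIdeal A) A →+* (Fin n → PowerSeries k))
    (hinj : Function.Injective φ)
    (hrange : Set.range φ = {f : Fin n → PowerSeries k | ∀ i j : Fin n,
      PowerSeries.constantCoeff (f i) = PowerSeries.constantCoeff (f j)}) : n = 2 := by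
  have hAhat := isGorensteinLocalRing_adicCompletion A inferInstance
  have hmem : ∀ a, φ a ∈ MC k n := fun a => by
    have h1 : φ a ∈ Set.range φ := ⟨a, rfl⟩
    rw [hrange] at h1
    exact h1
  let ψ : AdicCompletion (maximalIdeal A) A →+* MC k n := φ.codRestrict (MC k n) hmem
  have hbij : Function.Bijective ψ := by
    refine ⟨fun a b hab => hinj (congrArg Subtype.val hab), fun f => ?_⟩
    have h1 : (f : Fin n → PowerSeries k) ∈ Set.range φ := by
      rw [hrange]
      exact f.2
    obtain ⟨a, ha⟩ := h1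
    exact ⟨a, Subtype.ext ha⟩
  have hMC := GorFlat.isGorensteinLocalRing_of_ringEquiv (RingEquiv.ofBijective ψ hbij) hAhat
  exact eq_two_of_gorenstein hn hMC

end Groth.Agent.Helper8.MCross
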