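import Mathlib

/-!
# Invariants of a permutation-type module: trace formula (abstract lemma for S8609).
-/

namespace Groth.Agent.Helper8.MM1

open Module

variable {A : Type*} [CommRing A] {V : Type*} [AddCommGroup V] [Module A V]
  {X : Type*} [Fintype X] [DecidableEq X] {Y : Type*} [Fintype Y] [DecidableEq Y] {G : Type*}

lemma repr_rho (b : Basis X A V) (act : G → X → X) (hact : ∀ σ, Function.Injective (act σ))
    (ρ : G → V →ₗ[A] V) (hρ : ∀ σ x, ρ σ (b x) = b (act σ x)) (v : V) (σ : G) (x : X) :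
    b.repr (ρ σ v) (act σ x) = b.repr v x := by
  have hv := b.sum_repr v
  calc b.repr (ρ σ v) (act σ x)
      = b.repr (ρ σ (∑ z, b.repr v z • b z)) (act σ x) := by rw [hv]
    _ = ∑ z, b.repr v z * (if act σ z = act σ x then 1 else 0) := by
        rw [map_sum, map_sum, Finsupp.finset_sum_apply]
        refine Finset.sum_congr rfl fun z _ => ?_
        rw [map_smul, map_smul, hρ, Basis.repr_self, Finsupp.smul_apply, Finsupp.single_apply,
          smul_eq_mul]
    _ = b.repr v x := by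
        rw [Finset.sum_eq_single x]
        · rw [if_pos rfl, mul_one]
        · intro z _ hz
          rw [if_neg (fun h => hz (hact σ h)), mul_zero]
        · intro h; exact absurd (Finset.mem_univ x) h

/-- the orbit-sum map -/
noncomputable def Phi (b : Basis X A V) (π : X → Y) : (Y → A) →ₗ[A] V where
  toFun c := ∑ x, c (π x) • b x
  map_add' c d := by simp [add_smul, Finset.sum_add_distrib]
  map_smul' a c := by simp [Finset.smul_sum, mul_smul]

lemma Phi_apply (b : Basis X A V) (π : X → Y) (c : Y → A) :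
    Phi b π c = ∑ x, c (π x) • b x := rfl

lemma repr_Phi (b : Basis X A V) (π : X → Y) (c : Y → A) (x : X) :
    b.repr (Phi b π c) x = c (π x) := by
  rw [Phi_apply, map_sum, Finsupp.finset_sum_apply]
  simp only [map_smul, Basis.repr_self, Finsupp.smul_apply, Finsupp.single_apply, smul_eq_mul]
  rw [Finset.sum_eq_single x]
  · rw [if_pos rfl, mul_one]
  · intro z _ hz; rw [if_neg hz, mul_zero]
  · intro h; exact absurd (Finset.mem_univ x) h

lemma Phi_mem (b : Basis X A V) (act : G → X → X) (hact : ∀ σ, Function.Bijective (act σ))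
    (ρ : G → V →ₗ[A] V) (hρ : ∀ σ x, ρ σ (b x) = b (act σ x))
    (π : X → Y) (hπ : ∀ σ x, π (act σ x) = π x) (c : Y → A) :
    Phi b π c ∈ ⨅ σ : G, LinearMap.eqLocus (ρ σ) LinearMap.id := by
  rw [Submodule.mem_iInf]
  intro σ
  rw [LinearMap.mem_eqLocus, LinearMap.id_apply, Phi_apply, map_sum]
  calc ∑ x, ρ σ (c (π x) • b x) = ∑ x, c (π (act σ x)) • b (act σ x) := by
        refine Finset.sum_congr rfl fun x _ => ?_
        rw [map_smul, hρ, hπ]
    _ = ∑ x, c (π x) • b x :=
        Fintype.sum_bijective (act σ) (hact σ) _ _ (fun x => rfl)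

/-- invariants ≃ functions on the orbit space -/
noncomputable def EE (b : Basis X A V) (act : G → X → X) (hact : ∀ σ, Function.Bijective (act σ))
    (ρ : G → V →ₗ[A] V) (hρ : ∀ σ x, ρ σ (b x) = b (act σ x))
    (π : X → Y) (s : Y → X) (hπs : ∀ y, π (s y) = y) (hπ : ∀ σ x, π (act σ x) = π x)
    (htrans : ∀ x x', π x = π x' → ∃ σ, act σ x = x') :
    ↥(⨅ σ : G, LinearMap.eqLocus (ρ σ) LinearMap.id) ≃ₗ[A] (Y → A) where
  toFun v := fun y => b.repr (v : V) (s y)
  map_add' v w := by ext y; simp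
  map_smul' a v := by ext y; simp
  invFun c := ⟨Phi b π c, Phi_mem b act hact ρ hρ π hπ c⟩
  left_inv v := by
    apply Subtype.ext
    apply b.repr.injective
    ext x
    show b.repr (Phi b π (fun y => b.repr (v : V) (s y))) x = b.repr (v : V) x
    rw [repr_Phi]
    obtain ⟨σ, hσ⟩ := htrans (s (π x)) x (hπs (π x))
    have hv : ρ σ (v : V) = (v : V) := by
      have := (Submodule.mem_iInf _).1 v.2 σ
      rwa [LinearMap.mem_eqLocus, LinearMap.id_apply] at this
    have := repr_rho b act (fun σ => (hact σ).1) ρ hρ (v : V) σ (s (π x))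
    rw [hv, hσ] at this
    exact this.symm
  right_inv c := by
    funext y
    show b.repr (Phi b π c) (s y) = c y
    rw [repr_Phi, hπs]

theorem trace_invariants (b : Basis X A V) (act : G → X → X)
    (hact : ∀ σ, Function.Bijective (act σ))
    (ρ : G → V →ₗ[A] V) (hρ : ∀ σ x, ρ σ (b x) = b (act σ x))
    (π : X → Y) (s : Y → X) (hπs : ∀ y, π (s y) = y) (hπ : ∀ σ x, π (act σ x) = π x)
    (htrans : ∀ x x', π x = π x' → ∃ σ, act σ x = x')
    (T : V →ₗ[A] V)
    (γ : ↥(⨅ σ : G, LinearMap.eqLocus (ρ σ) LinearMap.id) →ₗ[A]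
      ↥(⨅ σ : G, LinearMap.eqLocus (ρ σ) LinearMap.id))
    (hγ : ∀ v : ↥(⨅ σ : G, LinearMap.eqLocus (ρ σ) LinearMap.id), ((γ v : ↥(⨅ σ : G, LinearMap.eqLocus (ρ σ) LinearMap.id)) : V) = T (v : V)) :
    LinearMap.trace A _ γ =
      ∑ y : Y, ∑ x : X, if π x = y then b.repr (T (b x)) (s y) else 0 := by
  obtain ⟨e, he⟩ : ∃ e : ↥(⨅ σ : G, LinearMap.eqLocus (ρ σ) LinearMap.id) ≃ₗ[A] (Y → A),
      e = EE b act hact ρ hρ π s hπs hπ htrans := ⟨_, rfl⟩
  have he1 : ∀ (v : ↥(⨅ σ : G, LinearMap.eqLocus (ρ σ) LinearMap.id)) (y : Y),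
      e v y = b.repr (v : V) (s y) := by
    intro v y; rw [he]; rfl
  have he2 : ∀ c : Y → A, ((e.symm c : ↥(⨅ σ : G, LinearMap.eqLocus (ρ σ) LinearMap.id)) : V)
      = Phi b π c := by
    intro c; rw [he]; rfl
  rw [LinearMap.trace_eq_matrix_trace A (Basis.ofEquivFun e) γ, Matrix.trace]
  refine Finset.sum_congr rfl fun y _ => ?_
  rw [Matrix.diag_apply, LinearMap.toMatrix_apply, Basis.ofEquivFun_repr_apply,
    Basis.coe_ofEquivFun, he1, hγ, he2, Phi_apply, map_sum, map_sum, Finsupp.finset_sum_apply]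
  refine Finset.sum_congr rfl fun x _ => ?_
  rw [map_smul, map_smul, Finsupp.smul_apply, smul_eq_mul, Pi.single_apply]
  split_ifs <;> simp

end Groth.Agent.Helper8.MM1
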