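import Mathlib
import Groth.Agent.Lib.Helper8.MM1

/-!
# Count vectors on `Fin n → Fin r` and the trace of `u^{⊗n}` on symmetric tensors (for S8609).
-/

namespace Groth.Agent.Helper8.MM2

open Module Finset
open TensorProduct PiTensorProduct

/-- count vector -/
def cnt {r n : ℕ} (f : Fin n → Fin r) : Fin r → ℕ :=
  fun i => (univ.filter (fun k => f k = i)).card

lemma sum_cnt {r n : ℕ} (f : Fin n → Fin r) : ∑ i, cnt f i = n := by
  have := Finset.card_eq_sum_card_fiberwise (s := (univ : Finset (Fin n)))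
    (t := (univ : Finset (Fin r))) (f := f) (by intro x _; simp)
  rw [Finset.card_univ, Fintype.card_fin] at this
  exact this.symm

lemma cnt_comp {r n : ℕ} (f : Fin n → Fin r) (σ : Equiv.Perm (Fin n)) :
    cnt (f ∘ σ) = cnt f := by
  funext i
  unfold cnt
  exact Finset.card_bijective σ σ.bijective (by intro k; simp)

lemma exists_perm_of_cnt_eq {r n : ℕ} (f g : Fin n → Fin r) (h : cnt f = cnt g) :
    ∃ σ : Equiv.Perm (Fin n), f ∘ σ.symm = g := by
  have hcard : ∀ i, Fintype.card {k // f k = i} = Fintype.card {k // g k = i} := by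
    intro i
    rw [Fintype.card_subtype, Fintype.card_subtype]
    exact congrFun h i
  obtain ⟨e⟩ : Nonempty (∀ i, {k // f k = i} ≃ {k // g k = i}) :=
    ⟨fun i => Fintype.equivOfCardEq (hcard i)⟩
  obtain ⟨σ, hσdef⟩ : ∃ σ : Equiv.Perm (Fin n), σ =
      (Equiv.sigmaFiberEquiv f).symm.trans
        ((Equiv.sigmaCongrRight e).trans (Equiv.sigmaFiberEquiv g)) := ⟨_, rfl⟩
  have hσ : ∀ k, g (σ k) = f k := by
    intro k
    rw [hσdef]
    show g ((e (f k) ⟨k, rfl⟩ : {k' // g k' = f k}) : Fin n) = f k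
    exact (e (f k) ⟨k, rfl⟩).2
  refine ⟨σ, ?_⟩
  funext k
  have := hσ (σ.symm k)
  rw [Equiv.apply_symm_apply] at this
  exact this.symm

lemma exists_cnt_eq {r n : ℕ} (α : Fin r → ℕ) (hα : ∑ i, α i = n) :
    ∃ f : Fin n → Fin r, cnt f = α := by
  subst hα
  refine ⟨fun k => (finSigmaFinEquiv.symm k).1, ?_⟩
  funext i
  unfold cnt
  rw [← Fintype.card_subtype]
  have e1 : {k : Fin (∑ i, α i) // (finSigmaFinEquiv.symm k).1 = i} ≃
      {p : (i : Fin r) × Fin (α i) // p.1 = i} :=
    (finSigmaFinEquiv (n := α)).symm.subtypeEquiv (fun k => Iff.rfl)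
  rw [Fintype.card_congr (e1.trans (Equiv.sigmaSubtype i)), Fintype.card_fin]

/-- the index type: exponent vectors of total degree `n` -/
abbrev Yt (r n : ℕ) := ↥(Finset.finsuppAntidiag (Finset.univ : Finset (Fin r)) n)

noncomputable def cntF {r n : ℕ} (f : Fin n → Fin r) : Fin r →₀ ℕ :=
  Finsupp.equivFunOnFinite.symm (cnt f)

lemma cntF_apply {r n : ℕ} (f : Fin n → Fin r) (i : Fin r) : cntF f i = cnt f i := by
  simp [cntF]

noncomputable def piY {r n : ℕ} (f : Fin n → Fin r) : Yt r n :=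
  ⟨cntF f, by
    rw [Finset.mem_finsuppAntidiag]
    refine ⟨?_, Finset.subset_univ _⟩
    simp only [cntF_apply]
    exact sum_cnt f⟩

lemma piY_val_apply {r n : ℕ} (f : Fin n → Fin r) (i : Fin r) : (piY f).1 i = cnt f i :=
  cntF_apply f i

lemma piY_eq_iff {r n : ℕ} (f g : Fin n → Fin r) : piY f = piY g ↔ cnt f = cnt g := by
  constructor
  · intro h
    funext i
    have := congrArg (fun y : Yt r n => y.1 i) h
    simpa [piY_val_apply] using this
  · intro h
    apply Subtype.ext
    ext i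
    rw [piY_val_apply, piY_val_apply, h]

lemma exists_sec {r n : ℕ} (y : Yt r n) : ∃ f : Fin n → Fin r, piY f = y := by
  have hy := (Finset.mem_finsuppAntidiag.1 y.2).1
  obtain ⟨f, hf⟩ := exists_cnt_eq (r := r) (n := n) (fun i => y.1 i) hy
  refine ⟨f, ?_⟩
  apply Subtype.ext
  ext i
  rw [piY_val_apply, hf]

noncomputable def secY {r n : ℕ} (y : Yt r n) : Fin n → Fin r := Classical.choose (exists_sec y)

lemma piY_secY {r n : ℕ} (y : Yt r n) : piY (secY y) = y := Classical.choose_spec (exists_sec y)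

/-- the universal polynomial giving the trace of `u^{⊗n}` on symmetric tensors -/
noncomputable def Pn {A : Type*} [CommRing A] (r n : ℕ) (U : Matrix (Fin r) (Fin r) A) : A :=
  ∑ y : Yt r n, ∑ g : Fin n → Fin r, if piY g = y then ∏ k, U (secY y k) (g k) else 0

lemma map_Pn {A B : Type*} [CommRing A] [CommRing B] (φ : A →+* B) (r n : ℕ)
    (U : Matrix (Fin r) (Fin r) A) : φ (Pn r n U) = Pn r n (U.map φ) := by
  unfold Pn
  rw [map_sum]
  refine Finset.sum_congr rfl fun y _ => ?_
  rw [map_sum]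
  refine Finset.sum_congr rfl fun g _ => ?_
  split_ifs
  · rw [map_prod]; rfl
  · rw [map_zero]

theorem trace_gamma {A : Type*} [CommRing A] {M : Type*} [AddCommGroup M] [Module A M] {r : ℕ}
    (bM : Basis (Fin r) A M) (u : M →ₗ[A] M) (n : ℕ)
    (γ : ↥(⨅ σ : Equiv.Perm (Fin n), LinearMap.eqLocus
        ((PiTensorProduct.reindex A (fun _ : Fin n => M) σ).toLinearMap) LinearMap.id) →ₗ[A]
      ↥(⨅ σ : Equiv.Perm (Fin n), LinearMap.eqLocus
        ((PiTensorProduct.reindex A (fun _ : Fin n => M) σ).toLinearMap) LinearMap.id))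
    (hγ : ∀ x : ↥(⨅ σ : Equiv.Perm (Fin n), LinearMap.eqLocus
        ((PiTensorProduct.reindex A (fun _ : Fin n => M) σ).toLinearMap) LinearMap.id),
      (↑(γ x) : ⨂[A] _i : Fin n, M) =
        PiTensorProduct.map (fun _ : Fin n => u) (↑x : ⨂[A] _i : Fin n, M)) :
    LinearMap.trace A _ γ = Pn r n (LinearMap.toMatrix bM bM u) := by
  have h := MM1.trace_invariants (A := A) (V := ⨂[A] _i : Fin n, M) (X := Fin n → Fin r)
    (Y := Yt r n) (G := Equiv.Perm (Fin n))
    (Basis.piTensorProduct (fun _ : Fin n => bM))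
    (fun σ f => f ∘ σ.symm)
    (fun σ => ⟨fun f g hfg => by
        funext k
        have := congrFun hfg (σ k)
        simpa using this,
      fun g => ⟨g ∘ σ, by funext k; simp⟩⟩)
    (fun σ => (PiTensorProduct.reindex A (fun _ : Fin n => M) σ).toLinearMap)
    (fun σ f => by
      beta_reduce
      rw [Basis.piTensorProduct_apply, Basis.piTensorProduct_apply, LinearEquiv.coe_coe,
        PiTensorProduct.reindex_tprod]
      rfl)
    piY secY piY_secY
    (fun σ f => by
      beta_reduce
      rw [piY_eq_iff]; exact cnt_comp f σ.symm)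
    (fun f g hfg => by
      rw [piY_eq_iff] at hfg
      exact exists_perm_of_cnt_eq f g hfg)
    (PiTensorProduct.map (fun _ : Fin n => u)) γ hγ
  rw [h, Pn]
  refine Finset.sum_congr rfl fun y _ => ?_
  refine Finset.sum_congr rfl fun g _ => ?_
  by_cases hc : piY g = y
  · rw [if_pos hc, if_pos hc, Basis.piTensorProduct_apply, PiTensorProduct.map_tprod,
      Basis.piTensorProduct_repr_tprod_apply]
    refine Finset.prod_congr rfl fun k _ => ?_
    rw [LinearMap.toMatrix_apply]
  · rw [if_neg hc, if_neg hc]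

end Groth.Agent.Helper8.MM2
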