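import Mathlib
import Groth.Agent.Lib.Helper8.MM2

/-!
# The lower triangular case of the symmetric-tensor trace identity (for S8609).
-/

namespace Groth.Agent.Helper8.MM3

open Module Finset Groth.Agent.Helper8.MM2

lemma prod_comp_cnt {A : Type*} [CommRing A] {r n : ℕ} (f : Fin n → Fin r) (φ : Fin r → A) :
    ∏ k, φ (f k) = ∏ i, φ i ^ cnt f i := by
  calc ∏ k, φ (f k) = ∏ i, ∏ k ∈ univ.filter (fun k => f k = i), φ (f k) :=
        (Finset.prod_fiberwise (univ : Finset (Fin n)) f (fun k => φ (f k))).symm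
    _ = ∏ i, φ i ^ cnt f i := by
        refine Finset.prod_congr rfl fun i _ => ?_
        rw [Finset.prod_congr rfl (fun k hk => by rw [(Finset.mem_filter.1 hk).2] :
          ∀ k ∈ univ.filter (fun k => f k = i), φ (f k) = φ i), Finset.prod_const]
        rfl

theorem Pn_lower {A : Type*} [CommRing A] (r n : ℕ) (L : Matrix (Fin r) (Fin r) A)
    (hL : ∀ i j, i < j → L i j = 0) :
    Pn r n L = ∑ y ∈ Finset.finsuppAntidiag (univ : Finset (Fin r)) n, ∏ i, L i i ^ (y i) := by
  rw [← Finset.sum_coe_sort, Pn]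
  refine Finset.sum_congr rfl fun y _ => ?_
  rw [Finset.sum_eq_single (secY y)]
  · rw [if_pos (piY_secY y), prod_comp_cnt (secY y) (fun i => L i i)]
    refine Finset.prod_congr rfl fun i _ => ?_
    rw [← piY_val_apply, piY_secY]
  · intro g _ hg
    by_cases hc : piY g = y
    · rw [if_pos hc]
      by_contra hne
      apply hg
      have hle : ∀ k, g k ≤ secY y k := by
        intro k
        by_contra hk
        rw [not_le] at hk
        exact hne (Finset.prod_eq_zero (Finset.mem_univ k) (hL _ _ hk))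
      obtain ⟨σ, hσ⟩ := exists_perm_of_cnt_eq (secY y) g
        ((piY_eq_iff _ _).1 ((piY_secY y).trans hc.symm))
      have hsum : ∑ k, ((g k : Fin r) : ℕ) = ∑ k, ((secY y k : Fin r) : ℕ) := by
        rw [← hσ]
        exact Equiv.sum_comp σ.symm (fun k => ((secY y k : Fin r) : ℕ))
      have := (Finset.sum_eq_sum_iff_of_le (s := univ)
        (f := fun k => ((g k : Fin r) : ℕ)) (g := fun k => ((secY y k : Fin r) : ℕ))
        (fun k _ => hle k)).1 hsum
      funext k
      exact Fin.ext (this k (Finset.mem_univ k))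
    · rw [if_neg hc]
  · intro h; exact absurd (Finset.mem_univ _) h

lemma geom (A : Type*) [CommRing A] (a : A) :
    (1 - PowerSeries.C a * PowerSeries.X) * PowerSeries.mk (fun k => a ^ k) = 1 := by
  ext n
  rw [sub_mul, one_mul, mul_assoc, map_sub, PowerSeries.coeff_C_mul, PowerSeries.coeff_mk]
  cases n with
  | zero => simp
  | succ n =>
    rw [PowerSeries.coeff_succ_X_mul, PowerSeries.coeff_mk, PowerSeries.coeff_one,
      if_neg (Nat.succ_ne_zero n), pow_succ]
    ring

theorem gen_lower {A : Type*} [CommRing A] (r : ℕ) (lam : Fin r → A) :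
    (∏ i, (1 - PowerSeries.C (lam i) * PowerSeries.X)) *
      PowerSeries.mk (fun n => ∑ y ∈ Finset.finsuppAntidiag (univ : Finset (Fin r)) n,
        ∏ i, lam i ^ (y i)) = 1 := by
  have h : PowerSeries.mk (fun n => ∑ y ∈ Finset.finsuppAntidiag (univ : Finset (Fin r)) n,
      ∏ i, lam i ^ (y i)) = ∏ i, PowerSeries.mk (fun k => lam i ^ k) := by
    ext n
    rw [PowerSeries.coeff_mk, PowerSeries.coeff_prod]
    refine Finset.sum_congr rfl fun y _ => ?_
    refine Finset.prod_congr rfl fun i _ => ?_
    rw [PowerSeries.coeff_mk]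
  rw [h, ← Finset.prod_mul_distrib]
  exact Finset.prod_eq_one fun i _ => geom A (lam i)

theorem det_lower {A : Type*} [CommRing A] (r : ℕ) (L : Matrix (Fin r) (Fin r) A)
    (hL : ∀ i j, i < j → L i j = 0) :
    Matrix.det (1 - (Polynomial.X : Polynomial A) • L.map Polynomial.C)
      = ∏ i, (1 - Polynomial.C (L i i) * Polynomial.X) := by
  rw [Matrix.det_of_isLowerTriangular]
  · refine Finset.prod_congr rfl fun i _ => ?_
    rw [Matrix.sub_apply, Matrix.one_apply_eq, Matrix.smul_apply, Matrix.map_apply, smul_eq_mul,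
      mul_comm]
  · intro i j hij
    have hij' : i < j := hij
    rw [Matrix.sub_apply, Matrix.one_apply_ne (ne_of_lt hij'), Matrix.smul_apply,
      Matrix.map_apply, hL i j hij', map_zero, smul_zero, sub_zero]

theorem I_lower {A : Type*} [CommRing A] (r : ℕ) (L : Matrix (Fin r) (Fin r) A)
    (hL : ∀ i j, i < j → L i j = 0) :
    ((Matrix.det (1 - (Polynomial.X : Polynomial A) • L.map Polynomial.C) : Polynomial A) :
        PowerSeries A) * PowerSeries.mk (fun n => Pn r n L) = 1 := by
  rw [det_lower r L hL]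
  have h1 : ((∏ i, (1 - Polynomial.C (L i i) * Polynomial.X) : Polynomial A) : PowerSeries A)
      = ∏ i, (1 - PowerSeries.C (L i i) * PowerSeries.X) := by
    rw [← Polynomial.coeToPowerSeries.ringHom_apply, map_prod]
    refine Finset.prod_congr rfl fun i _ => ?_
    rw [Polynomial.coeToPowerSeries.ringHom_apply]
    simp
  have h2 : (fun n => Pn r n L) = fun n => ∑ y ∈ Finset.finsuppAntidiag (univ : Finset (Fin r)) n,
      ∏ i, L i i ^ (y i) := by
    funext n; exact Pn_lower r n L hL
  rw [h1, h2]
  exact gen_lower r (fun i => L i i)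

end Groth.Agent.Helper8.MM3
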