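import Mathlib
import Groth.Prelude.Def_SGA4hB
import Groth.Agent.Lib.Helper8.MM3

/-!
# Triangularisation, universal reduction and the final identity for S8609.
-/

namespace Groth.Agent.Helper8.MM4

open Module Finset Groth.Agent.Helper8.MM2 Groth.Agent.Helper8.MM3
open TensorProduct PiTensorProduct Polynomial

universe u v

theorem tri (K : Type*) [Field K] [IsAlgClosed K] :
    ∀ (r : ℕ) (V : Type v) [AddCommGroup V] [Module K V] [FiniteDimensional K V],
      Module.finrank K V = r → ∀ u : V →ₗ[K] V,
      ∃ b : Basis (Fin r) K V, ∀ i j, i < j → LinearMap.toMatrix b b u i j = 0 := by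
  intro r
  induction r with
  | zero =>
    intro V _ _ _ hr u
    exact ⟨Module.finBasisOfFinrankEq K V hr, fun i => i.elim0⟩
  | succ r ih =>
    intro V _ _ _ hr u
    haveI : Nontrivial V := Module.nontrivial_of_finrank_pos (R := K) (by omega)
    haveI : Nontrivial (Module.Dual K V) := by
      apply Module.nontrivial_of_finrank_pos (R := K)
      rw [Subspace.dual_finrank_eq]; omega
    obtain ⟨μ, hμ⟩ := Module.End.exists_eigenvalue (Module.Dual.transpose (R := K) u)
    obtain ⟨φ, hφ⟩ := hμ.exists_hasEigenvector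
    have hφ0 : φ ≠ 0 := hφ.2
    have hφu : ∀ x, φ (u x) = μ * φ x := by
      intro x
      have h1 := hφ.apply_eq_smul
      have h2 := LinearMap.congr_fun h1 x
      simpa [Module.Dual.transpose_apply] using h2
    obtain ⟨v, hv⟩ : ∃ v, φ v ≠ 0 := by
      by_contra h
      rw [not_exists] at h
      exact hφ0 (LinearMap.ext fun x => by simpa using h x)
    obtain ⟨H, hHdef⟩ : ∃ H : Submodule K V, H = LinearMap.ker φ := ⟨_, rfl⟩
    have hH : Module.finrank K H = r := by
      have := Module.Dual.finrank_ker_add_one_of_ne_zero hφ0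
      rw [hHdef]
      omega
    have hinv : ∀ x ∈ H, u x ∈ H := by
      intro x hx
      rw [hHdef, LinearMap.mem_ker] at hx ⊢
      rw [hφu, hx, mul_zero]
    obtain ⟨b', hb'⟩ := ih H hH (u.restrict hinv)
    have hli : ∀ (c : K), ∀ x ∈ H, c • v + x = 0 → c = 0 := by
      intro c x hx hc
      rw [hHdef, LinearMap.mem_ker] at hx
      have := congrArg φ hc
      rw [map_add, map_smul, hx, add_zero, map_zero, smul_eq_mul] at this
      exact (mul_eq_zero.1 this).resolve_right hv
    have hsp : ∀ z : V, ∃ c : K, z + c • v ∈ H := by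
      intro z
      refine ⟨-(φ z / φ v), ?_⟩
      rw [hHdef, LinearMap.mem_ker, map_add, map_smul, smul_eq_mul]
      field_simp
      ring
    obtain ⟨b, hbdef⟩ : ∃ b : Basis (Fin (r + 1)) K V, b = Basis.mkFinCons v b' hli hsp :=
      ⟨_, rfl⟩
    have hbs : ∀ j : Fin r, b j.succ = (b' j : V) := by
      intro j
      rw [hbdef, Basis.coe_mkFinCons]
      simp
    have hrepr : ∀ (j' : Fin r), b.repr (u (b j'.succ)) =
        ∑ i' : Fin r, (LinearMap.toMatrix b' b' (u.restrict hinv) i' j') •
          Finsupp.single i'.succ (1 : K) := by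
      intro j'
      have h1 : u (b j'.succ) = ((u.restrict hinv) (b' j') : V) := by
        rw [hbs, LinearMap.coe_restrict_apply]
      have h2 := b'.sum_repr ((u.restrict hinv) (b' j'))
      rw [h1]
      conv_lhs => rw [← h2]
      rw [Submodule.coe_sum, map_sum]
      refine Finset.sum_congr rfl fun i' _ => ?_
      rw [Submodule.coe_smul, map_smul, ← hbs, Basis.repr_self, LinearMap.toMatrix_apply]
    refine ⟨b, ?_⟩
    intro i j hij
    rw [LinearMap.toMatrix_apply]
    have hj0 : j ≠ 0 := by
      intro h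
      rw [h] at hij
      exact absurd hij (Fin.not_lt_zero i)
    obtain ⟨j', rfl⟩ := Fin.exists_succ_eq.2 hj0
    rw [hrepr, Finsupp.finsetSum_apply]
    refine Finset.sum_eq_zero fun i' _ => ?_
    rw [Finsupp.smul_apply, Finsupp.single_apply, smul_eq_mul]
    split_ifs with h
    · subst h
      rw [hb' i' j' (Fin.succ_lt_succ_iff.1 hij), zero_mul]
    · rw [mul_zero]

lemma map_mem_inv {A : Type*} [CommRing A] {M : Type*} [AddCommGroup M] [Module A M]
    (u : M →ₗ[A] M) (n : ℕ) (x : ⨂[A] _i : Fin n, M)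
    (hx : x ∈ ⨅ σ : Equiv.Perm (Fin n), LinearMap.eqLocus
      ((PiTensorProduct.reindex A (fun _ : Fin n => M) σ).toLinearMap) LinearMap.id) :
    PiTensorProduct.map (fun _ : Fin n => u) x ∈ ⨅ σ : Equiv.Perm (Fin n), LinearMap.eqLocus
      ((PiTensorProduct.reindex A (fun _ : Fin n => M) σ).toLinearMap) LinearMap.id := by
  rw [Submodule.mem_iInf] at hx ⊢
  intro σ
  have hσ := hx σ
  rw [LinearMap.mem_eqLocus, LinearMap.id_apply] at hσ ⊢
  have hcomm : ∀ z : ⨂[A] _i : Fin n, M,
      (PiTensorProduct.reindex A (fun _ : Fin n => M) σ) (PiTensorProduct.map (fun _ : Fin n => u) z)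
      = PiTensorProduct.map (fun _ : Fin n => u)
          ((PiTensorProduct.reindex A (fun _ : Fin n => M) σ) z) := by
    intro z
    induction z using PiTensorProduct.induction_on with
    | smul_tprod r f =>
      simp only [map_smul, PiTensorProduct.map_tprod, PiTensorProduct.reindex_tprod]
    | add x y hx hy =>
      simp only [map_add, hx, hy]
  rw [LinearEquiv.coe_coe, hcomm, ← LinearEquiv.coe_coe, hσ]

/-- the canonical restriction of `u^{⊗n}` to symmetric tensors -/
noncomputable def gammaCan {A : Type*} [CommRing A] {M : Type*} [AddCommGroup M] [Module A M]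
    (u : M →ₗ[A] M) (n : ℕ) :
    ↥(⨅ σ : Equiv.Perm (Fin n), LinearMap.eqLocus
      ((PiTensorProduct.reindex A (fun _ : Fin n => M) σ).toLinearMap) LinearMap.id) →ₗ[A]
    ↥(⨅ σ : Equiv.Perm (Fin n), LinearMap.eqLocus
      ((PiTensorProduct.reindex A (fun _ : Fin n => M) σ).toLinearMap) LinearMap.id) :=
  (PiTensorProduct.map (fun _ : Fin n => u)).restrict (fun x hx => map_mem_inv u n x hx)

lemma gammaCan_coe {A : Type*} [CommRing A] {M : Type*} [AddCommGroup M] [Module A M]
    (u : M →ₗ[A] M) (n : ℕ)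
    (x : ↥(⨅ σ : Equiv.Perm (Fin n), LinearMap.eqLocus
      ((PiTensorProduct.reindex A (fun _ : Fin n => M) σ).toLinearMap) LinearMap.id)) :
    ((gammaCan u n x : ↥(⨅ σ : Equiv.Perm (Fin n), LinearMap.eqLocus
      ((PiTensorProduct.reindex A (fun _ : Fin n => M) σ).toLinearMap) LinearMap.id)) :
        ⨂[A] _i : Fin n, M) =
      PiTensorProduct.map (fun _ : Fin n => u) (x : ⨂[A] _i : Fin n, M) := rfl

lemma det_bridge {A : Type*} [CommRing A] {M : Type*} [AddCommGroup M] [Module A M] {r : ℕ}
    (bM : Basis (Fin r) A M) (u : M →ₗ[A] M) :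
    LinearMap.det (LinearMap.id - (X : A[X]) • u.baseChange A[X]) =
      Matrix.det (1 - (X : A[X]) • (LinearMap.toMatrix bM bM u).map C) := by
  rw [← LinearMap.det_toMatrix (Algebra.TensorProduct.basis A[X] bM)]
  congr 1
  have e1 := map_sub (LinearMap.toMatrix (Algebra.TensorProduct.basis A[X] bM)
    (Algebra.TensorProduct.basis A[X] bM)) LinearMap.id ((X : A[X]) • u.baseChange A[X])
  have e2 := map_smul (LinearMap.toMatrix (Algebra.TensorProduct.basis A[X] bM)
    (Algebra.TensorProduct.basis A[X] bM)) (X : A[X]) (u.baseChange A[X])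
  rw [e1, e2, LinearMap.toMatrix_id, LinearMap.toMatrix_baseChange]
  rfl

theorem main_field (K : Type*) [Field K] [IsAlgClosed K] (r : ℕ)
    (U : Matrix (Fin r) (Fin r) K) :
    ((Matrix.det (1 - (X : K[X]) • U.map C) : K[X]) : PowerSeries K) *
      PowerSeries.mk (fun n => Pn r n U) = 1 := by
  obtain ⟨b, hb⟩ := tri K r (Fin r → K) (Module.finrank_fin_fun K) (Matrix.toLin' U)
  have hU : LinearMap.toMatrix (Pi.basisFun K (Fin r)) (Pi.basisFun K (Fin r))
      (Matrix.toLin' U) = U := by
    rw [LinearMap.toMatrix_eq_toMatrix', LinearMap.toMatrix'_toLin']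
  have hP : ∀ n, Pn r n U = Pn r n (LinearMap.toMatrix b b (Matrix.toLin' U)) := by
    intro n
    have h1 := trace_gamma (Pi.basisFun K (Fin r)) (Matrix.toLin' U) n
      (gammaCan (Matrix.toLin' U) n) (fun x => gammaCan_coe _ _ x)
    have h2 := trace_gamma b (Matrix.toLin' U) n
      (gammaCan (Matrix.toLin' U) n) (fun x => gammaCan_coe _ _ x)
    rw [hU] at h1
    rw [← h1, h2]
  have hdet : Matrix.det (1 - (X : K[X]) • U.map C) =
      Matrix.det (1 - (X : K[X]) • (LinearMap.toMatrix b b (Matrix.toLin' U)).map C) := by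
    have h1 := det_bridge (Pi.basisFun K (Fin r)) (Matrix.toLin' U)
    have h2 := det_bridge b (Matrix.toLin' U)
    rw [hU] at h1
    rw [← h1, h2]
  rw [hdet, funext hP]
  exact I_lower r _ hb

/-- the left-hand side of the identity, as a function of the matrix -/
noncomputable def LHS {A : Type*} [CommRing A] (r : ℕ) (U : Matrix (Fin r) (Fin r) A) :
    PowerSeries A :=
  ((Matrix.det (1 - (X : A[X]) • U.map C) : A[X]) : PowerSeries A) *
    PowerSeries.mk (fun n => Pn r n U)

lemma map_LHS {A B : Type*} [CommRing A] [CommRing B] (φ : A →+* B) (r : ℕ)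
    (U : Matrix (Fin r) (Fin r) A) :
    PowerSeries.map φ (LHS r U) = LHS r (U.map φ) := by
  unfold LHS
  rw [map_mul]
  congr 1
  · rw [← Polynomial.polynomial_map_coe]
    congr 1
    rw [← Polynomial.coe_mapRingHom, RingHom.map_det, RingHom.mapMatrix_apply]
    congr 1
    ext i j
    by_cases hij : i = j
    · subst hij
      simp [Matrix.sub_apply, Matrix.smul_apply, Matrix.map_apply]
    · simp [Matrix.sub_apply, Matrix.smul_apply, Matrix.map_apply, Matrix.one_apply_ne hij]
  · ext n
    rw [PowerSeries.coeff_map, PowerSeries.coeff_mk, PowerSeries.coeff_mk, map_Pn]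

/-- the generic matrix -/
noncomputable def Ugen (r : ℕ) : Matrix (Fin r) (Fin r) (MvPolynomial (Fin r × Fin r) ℤ) :=
  Matrix.of fun i j => MvPolynomial.X (i, j)

theorem main_matrix {A : Type*} [CommRing A] (r : ℕ) (U : Matrix (Fin r) (Fin r) A) :
    LHS r U = 1 := by
  have hgen : LHS r (Ugen r) = 1 := by
    have hφ : Function.Injective
        ((algebraMap (FractionRing (MvPolynomial (Fin r × Fin r) ℤ))
          (AlgebraicClosure (FractionRing (MvPolynomial (Fin r × Fin r) ℤ)))).comp
          (algebraMap (MvPolynomial (Fin r × Fin r) ℤ)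
            (FractionRing (MvPolynomial (Fin r × Fin r) ℤ)))) := by
      rw [RingHom.coe_comp]
      exact (algebraMap (FractionRing (MvPolynomial (Fin r × Fin r) ℤ))
          (AlgebraicClosure (FractionRing (MvPolynomial (Fin r × Fin r) ℤ)))).injective.comp
        (IsFractionRing.injective (MvPolynomial (Fin r × Fin r) ℤ)
          (FractionRing (MvPolynomial (Fin r × Fin r) ℤ)))
    have h1 : PowerSeries.map
        ((algebraMap (FractionRing (MvPolynomial (Fin r × Fin r) ℤ))
          (AlgebraicClosure (FractionRing (MvPolynomial (Fin r × Fin r) ℤ)))).comp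
          (algebraMap (MvPolynomial (Fin r × Fin r) ℤ)
            (FractionRing (MvPolynomial (Fin r × Fin r) ℤ)))) (LHS r (Ugen r)) = 1 := by
      rw [map_LHS]
      exact main_field _ r _
    refine PowerSeries.ext fun n => ?_
    apply hφ
    have h2 := congrArg (PowerSeries.coeff n) h1
    rw [PowerSeries.coeff_map] at h2
    rw [h2, PowerSeries.coeff_one, PowerSeries.coeff_one]
    split_ifs <;> simp
  have hψ : (Ugen r).map (MvPolynomial.eval₂Hom (Int.castRingHom A)
      (fun p : Fin r × Fin r => U p.1 p.2)) = U := by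
    ext i j
    simp [Ugen]
  have := congrArg (PowerSeries.map (MvPolynomial.eval₂Hom (Int.castRingHom A)
      (fun p : Fin r × Fin r => U p.1 p.2))) hgen
  rw [map_LHS, hψ, map_one] at this
  exact this

theorem main {A : Type u} [CommRing A] (M : Type u) [AddCommGroup M]
    [Module A M] [Module.Free A M] [Module.Finite A M] (u : M →ₗ[A] M)
    (γ : ∀ n : ℕ, ↥(⨅ σ : Equiv.Perm (Fin n),
        LinearMap.eqLocus ((PiTensorProduct.reindex A (fun _ : Fin n => M) σ).toLinearMap) LinearMap.id) →ₗ[A]
      ↥(⨅ σ : Equiv.Perm (Fin n),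
        LinearMap.eqLocus ((PiTensorProduct.reindex A (fun _ : Fin n => M) σ).toLinearMap) LinearMap.id))
    (hγ : ∀ (n : ℕ) (x : ↥(⨅ σ : Equiv.Perm (Fin n),
        LinearMap.eqLocus ((PiTensorProduct.reindex A (fun _ : Fin n => M) σ).toLinearMap) LinearMap.id)),
      (↑(γ n x) : ⨂[A] _i : Fin n, M) = PiTensorProduct.map (fun _ : Fin n => u) (↑x : ⨂[A] _i : Fin n, M)) :
    (↑(SGA4h.detOneSub (ModuleCat.of A M) (ModuleCat.ofHom u)) : PowerSeries A) *
      PowerSeries.mk (fun n => LinearMap.trace A _ (γ n)) = 1 := by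
  rcases subsingleton_or_nontrivial A with hA | hA
  · exact PowerSeries.ext fun n => Subsingleton.elim _ _
  · have h1 : SGA4h.detOneSub (ModuleCat.of A M) (ModuleCat.ofHom u) =
        Matrix.det (1 - (X : A[X]) • (LinearMap.toMatrix (Module.finBasis A M)
          (Module.finBasis A M) u).map C) := by
      unfold SGA4h.detOneSub
      exact det_bridge (Module.finBasis A M) u
    have h2 : (fun n => LinearMap.trace A _ (γ n)) =
        fun n => Pn _ n (LinearMap.toMatrix (Module.finBasis A M) (Module.finBasis A M) u) := by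
      funext n
      exact trace_gamma (Module.finBasis A M) u n (γ n) (hγ n)
    rw [h1, h2]
    exact main_matrix _ _

end Groth.Agent.Helper8.MM4
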