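import Mathlib
import Groth.Prelude

/-!
# Mori–Nagata, part 17: descending a finite subalgebra along a localization
-/

set_option autoImplicit false
universe u

namespace Groth.Agent.Helper8.MN

section descend

variable {A : Type*} [CommRing A] {K : Type*} [Field K] [Algebra A K] (M : Submonoid A)
  {R : Type*} [CommRing R] [Algebra A R] [IsLocalization M R] [Algebra R K] [IsScalarTower A R K]

/-- A finite subalgebra over a localization is the localization of a finite integral
subalgebra. -/
theorem exists_subalgebra_of_localization (CR : Subalgebra R K) [Module.Finite R CR] :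
    ∃ C : Subalgebra A K, C ≤ integralClosure A K ∧ C.toSubmodule.FG ∧ (∀ c ∈ C, c ∈ CR) ∧
      ∀ z ∈ CR, ∃ t ∈ M, algebraMap A K t * z ∈ C := by
  classical
  obtain ⟨s, hs⟩ := Module.Finite.fg_top (R := R) (M := CR)
  haveI : Algebra.IsIntegral R CR := Algebra.IsIntegral.of_finite R CR
  have hint : ∀ g : CR, ∃ t : M, IsIntegral A (t • (g : K)) := by
    intro g
    have h1 : IsIntegral R (g : K) := (Algebra.IsIntegral.isIntegral (R := R) g).map CR.val
    exact IsIntegral.exists_multiple_integral_of_isLocalization M _ h1
  choose t ht using hint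
  set gens : Set K := (fun g : CR => (t g : A) • (g : K)) '' (s : Set CR) with hgens
  have hgens_int : ∀ y ∈ gens, IsIntegral A y := by
    rintro _ ⟨g, -, rfl⟩
    exact ht g
  have hsmul : ∀ (a : A) (z : K), z ∈ CR → algebraMap A K a * z ∈ CR := by
    intro a z hz
    rw [IsScalarTower.algebraMap_apply A R K]
    exact CR.mul_mem (CR.algebraMap_mem _) hz
  refine ⟨Algebra.adjoin A gens, ?_, ?_, ?_, ?_⟩
  · apply Algebra.adjoin_le
    exact hgens_int
  · exact fg_adjoin_of_finite ((Finset.finite_toSet s).image _) hgens_int
  · intro c hc
    induction hc using Algebra.adjoin_induction with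
    | mem y hy =>
      obtain ⟨g, -, rfl⟩ := hy
      change (t g : A) • (g : K) ∈ CR
      rw [Algebra.smul_def]
      exact hsmul _ _ g.2
    | algebraMap a =>
      rw [IsScalarTower.algebraMap_apply A R K]
      exact CR.algebraMap_mem _
    | add y z _ _ hy hz => exact CR.add_mem hy hz
    | mul y z _ _ hy hz => exact CR.mul_mem hy hz
  · intro z hz
    have hz' : (⟨z, hz⟩ : CR) ∈ Submodule.span R (s : Set CR) := by
      rw [hs]
      exact Submodule.mem_top
    have key : ∀ w : CR, w ∈ Submodule.span R (s : Set CR) →
        ∃ u ∈ M, algebraMap A K u * (w : K) ∈ Algebra.adjoin A gens := by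
      intro w hw
      induction hw using Submodule.span_induction with
      | mem g hg =>
        refine ⟨t g, (t g).2, ?_⟩
        apply Algebra.subset_adjoin
        refine ⟨g, hg, ?_⟩
        change (t g : A) • (g : K) = _
        rw [Algebra.smul_def]
      | zero =>
        refine ⟨1, M.one_mem, ?_⟩
        rw [ZeroMemClass.coe_zero, mul_zero]
        exact zero_mem _
      | add y w _ _ hy hw =>
        obtain ⟨u, hu, huy⟩ := hy
        obtain ⟨u', hu', huw⟩ := hw
        refine ⟨u * u', M.mul_mem hu hu', ?_⟩
        have : algebraMap A K (u * u') * ((y + w : CR) : K) =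
            algebraMap A K u' * (algebraMap A K u * (y : K)) +
              algebraMap A K u * (algebraMap A K u' * (w : K)) := by
          rw [map_mul, Subalgebra.coe_add]
          ring
        rw [this]
        refine add_mem ?_ ?_
        · rw [← Algebra.smul_def]
          exact Subalgebra.smul_mem _ huy _
        · rw [← Algebra.smul_def]
          exact Subalgebra.smul_mem _ huw _
      | smul r y _ hy =>
        obtain ⟨u, hu, huy⟩ := hy
        obtain ⟨⟨a, v⟩, hav⟩ := IsLocalization.surj M r
        refine ⟨v * u, M.mul_mem v.2 hu, ?_⟩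
        have hav' : algebraMap R K r * algebraMap A K v = algebraMap A K a := by
          rw [IsScalarTower.algebraMap_apply A R K, IsScalarTower.algebraMap_apply A R K,
            ← map_mul]
          exact congrArg _ hav
        have : algebraMap A K (v * u) * ((r • y : CR) : K) =
            algebraMap A K a * (algebraMap A K u * (y : K)) := by
          rw [map_mul, Subalgebra.coe_smul, Algebra.smul_def, ← hav']
          ring
        rw [this, ← Algebra.smul_def]
        exact Subalgebra.smul_mem _ huy _
    exact key ⟨z, hz⟩ hz'

end descend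

section loc

variable {A : Type*} [CommRing A] {K : Type*} [Field K] [Algebra A K] (M : Submonoid A)
  {R : Type*} [CommRing R] [Algebra A R] [IsLocalization M R] [Algebra R K] [IsScalarTower A R K]
  (C : Subalgebra A K) (CR : Subalgebra R K) (hle : ∀ c ∈ C, c ∈ CR)

/-- The inclusion of a subalgebra into a subalgebra over the localization. -/
def inclLoc : C →+* CR where
  toFun c := ⟨c.1, hle c.1 c.2⟩
  map_one' := rfl
  map_mul' _ _ := rfl
  map_zero' := rfl
  map_add' _ _ := rfl

omit [IsLocalization M R] [IsScalarTower A R K] in
theorem coe_inclLoc (c : C) : ((inclLoc C CR hle c : CR) : K) = (c : K) := rfl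

/-- Heights are preserved under contraction to the subalgebra. -/
theorem height_comap_inclLoc (hsurj : ∀ z ∈ CR, ∃ t ∈ M, algebraMap A K t * z ∈ C)
    (p : Ideal CR) [p.IsPrime] : (p.comap (inclLoc C CR hle)).height = p.height := by
  letI : Algebra C CR := (inclLoc C CR hle).toAlgebra
  haveI : IsLocalization (Algebra.algebraMapSubmonoid C M) CR := by
    rw [isLocalization_iff]
    refine ⟨?_, ?_, ?_⟩
    · rintro ⟨_, t, ht, rfl⟩
      have h1 : IsUnit (algebraMap R CR (algebraMap A R t)) :=
        (IsLocalization.map_units R ⟨t, ht⟩).map _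
      convert h1 using 1
      apply Subtype.ext
      change algebraMap A K t = algebraMap R K (algebraMap A R t)
      rw [← IsScalarTower.algebraMap_apply]
    · intro z
      obtain ⟨t, ht, htz⟩ := hsurj z.1 z.2
      refine ⟨(⟨⟨_, htz⟩, ⟨algebraMap A C t, t, ht, rfl⟩⟩ :
        C × (Algebra.algebraMapSubmonoid C M)), ?_⟩
      apply Subtype.ext
      change (z : K) * algebraMap A K t = algebraMap A K t * z
      ring
    · intro x y hxy
      refine ⟨1, ?_⟩
      have : x = y := Subtype.ext (congrArg (Subtype.val : CR → K) hxy)
      rw [this]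
  exact IsLocalization.height_under (Algebra.algebraMapSubmonoid C M) p

end loc

end Groth.Agent.Helper8.MN
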