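import Mathlib
import Groth.Prelude
import Groth.Agent.Lib.Helper8.MN16
import Groth.Agent.Lib.Helper8.MN17

/-!
# Mori–Nagata, part 18: the integral closure as an intersection over height one primes of `A`
-/

set_option autoImplicit false
universe u

namespace Groth.Agent.Helper8.MN

section

variable (A : Type u) [CommRing A] [IsDomain A] [IsNoetherianRing A]
  (K : Type u) [Field K] [Algebra A K] [IsFractionRing A K]

/-- If height one primes of finite subalgebras of the integral closure contract to height one
primes, the integral closure is the intersection of its localizations at the height one primes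
of `A`. -/
theorem integralClosure_eq_iInter
    (h : ∀ C : Subalgebra A K, C ≤ integralClosure A K → Module.Finite A C →
      ∀ (q : Ideal C) [q.IsPrime], q.height = 1 → (q.comap (algebraMap A C)).height = 1) :
    (integralClosure A K : Set K) =
      ⋂ (p : PrimeSpectrum A) (_ : p.asIdeal.height = 1),
        {x : K | ∃ s : A, s ∉ p.asIdeal ∧ algebraMap A K s * x ∈ integralClosure A K} := by
  classical
  ext x
  simp only [Set.mem_iInter, Set.mem_ofPred_eq, SetLike.mem_coe]
  constructor
  · intro hx p _
    exact ⟨1, p.asIdeal.one_notMem, by rw [map_one, one_mul]; exact hx⟩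
  · intro hall
    by_contra hx
    -- the denominator ideal
    let I : Ideal A :=
      { carrier := {a | algebraMap A K a * x ∈ integralClosure A K}
        add_mem' := fun {a b} ha hb => by
          change algebraMap A K (a + b) * x ∈ integralClosure A K
          rw [map_add, add_mul]
          exact add_mem ha hb
        zero_mem' := by
          change algebraMap A K 0 * x ∈ integralClosure A K
          rw [map_zero, zero_mul]
          exact zero_mem _
        smul_mem' := fun c a ha => by
          change algebraMap A K (c • a) * x ∈ integralClosure A K
          rw [smul_eq_mul, map_mul, mul_assoc, ← Algebra.smul_def]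
          exact Subalgebra.smul_mem _ ha _ }
    have hI : I ≠ ⊤ := by
      intro htop
      have h1 : (1 : A) ∈ I := htop ▸ Submodule.mem_top
      apply hx
      have h2 : algebraMap A K 1 * x ∈ integralClosure A K := h1
      rwa [map_one, one_mul] at h2
    obtain ⟨m, hm, hIm⟩ := Ideal.exists_le_maximal I hI
    haveI := hm
    have hunits : ∀ y : m.primeCompl, IsUnit (algebraMap A K y) := fun y => by
      apply IsUnit.mk0
      rw [Ne, map_eq_zero_iff _ (IsFractionRing.injective A K)]
      rintro h0
      exact y.2 (h0 ▸ zero_mem _)
    letI alg : Algebra (Localization.AtPrime m) K :=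
      (IsLocalization.lift (M := m.primeCompl) (S := Localization.AtPrime m) hunits).toAlgebra
    haveI : IsScalarTower A (Localization.AtPrime m) K :=
      IsScalarTower.of_algebraMap_eq (fun x => (IsLocalization.lift_eq hunits x).symm)
    haveI : IsFractionRing (Localization.AtPrime m) K :=
      IsFractionRing.isFractionRing_of_isDomain_of_isLocalization m.primeCompl
        (Localization.AtPrime m) K
    obtain ⟨CR, hfinR, -, hb, -⟩ := mori_nagata_local (Localization.AtPrime m) K
    have hxR : x ∉ integralClosure (Localization.AtPrime m) K := by
      intro hxR
      obtain ⟨t, ht⟩ := IsIntegral.exists_multiple_integral_of_isLocalization m.primeCompl x hxR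
      apply t.2
      apply hIm
      change algebraMap A K t * x ∈ integralClosure A K
      rw [← Algebra.smul_def]
      exact ht
    rw [hb x] at hxR
    push Not at hxR
    obtain ⟨pC, hpC, hpC1, hnot⟩ := hxR
    haveI := hpC
    obtain ⟨C, hCint, hfg, hle, hsurj⟩ := exists_subalgebra_of_localization m.primeCompl CR
    have hq1 : (pC.comap (inclLoc C CR hle)).height = 1 := by
      rw [height_comap_inclLoc m.primeCompl C CR hle hsurj pC]
      exact hpC1
    haveI : (pC.comap (inclLoc C CR hle)).IsPrime := Ideal.comap_isPrime _ _
    have hA1 := h C hCint (Module.Finite.iff_fg.mpr hfg) (pC.comap (inclLoc C CR hle)) hq1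
    obtain ⟨s, hs, hsx⟩ := hall ⟨(pC.comap (inclLoc C CR hle)).comap (algebraMap A C),
      Ideal.comap_isPrime _ _⟩ hA1
    refine hnot (inclLoc C CR hle (algebraMap A C s)) hs ?_
    have h1 : IsIntegral A (algebraMap A K s * x) := hsx
    have h2 : IsIntegral (Localization.AtPrime m) (algebraMap A K s * x) := h1.tower_top
    exact h2.tower_top

end

end Groth.Agent.Helper8.MN
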