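import Groth.Agent.Lib.Helper8.LC56
import Groth.Agent.Lib.Helper8.LC49

/-!
# Mayer–Vietoris: the torsion of an injective module for an intersection of ideals
-/

set_option autoImplicit false
universe u

namespace Groth.Agent.Helper8.MV

open LocCoh Groth.Agent.Helper8.LC

variable {R : Type u} [CommRing R] [IsNoetherianRing R]

lemma exists_pow_inf_pow_le (I J : Ideal R) (n : ℕ) : ∃ m : ℕ, I ^ m ⊓ J ^ m ≤ (I ⊓ J) ^ n := by
  obtain ⟨m, hm⟩ := exists_pow_inf_le I (J ^ n) n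
  refine ⟨max m n, ?_⟩
  have h1 : I ^ max m n ⊓ J ^ max m n ≤ I ^ m ⊓ J ^ n :=
    inf_le_inf (Ideal.pow_le_pow_right (le_max_left m n)) (Ideal.pow_le_pow_right (le_max_right m n))
  refine h1.trans (hm.trans ?_)
  rw [← mul_pow]
  exact Ideal.pow_right_mono Ideal.mul_le_inf n

/-- for an injective module over a Noetherian ring, `Γ_{I ∩ J}(E) = Γ_I(E) + Γ_J(E)`. -/
theorem torsionSub_inf_le_sup (I J : Ideal R) (E : Type u) [AddCommGroup E] [Module R E]
    [Module.Injective R E] :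
    DRing.torsionSub (I ⊓ J) E ≤ DRing.torsionSub I E ⊔ DRing.torsionSub J E := by
  rintro x ⟨n, hn⟩
  obtain ⟨m, hm⟩ := exists_pow_inf_pow_le I J n
  set 𝔟 : Ideal R := I ^ m ⊓ J ^ m with h𝔟
  have hx : 𝔟 ≤ LinearMap.ker (LinearMap.toSpanSingleton R E x) := by
    intro a ha
    rw [LinearMap.mem_ker, LinearMap.toSpanSingleton_apply]
    exact hn a (hm ha)
  let φ : (R ⧸ 𝔟) →ₗ[R] E := Submodule.liftQ 𝔟 (LinearMap.toSpanSingleton R E x) hx
  let j₀ : R →ₗ[R] (R ⧸ I ^ m) × (R ⧸ J ^ m) :=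
    LinearMap.prod (Submodule.mkQ (I ^ m)) (Submodule.mkQ (J ^ m))
  have hj₀ : LinearMap.ker j₀ = 𝔟 := by
    rw [LinearMap.ker_prod, Submodule.ker_mkQ, Submodule.ker_mkQ]
  let j : (R ⧸ 𝔟) →ₗ[R] (R ⧸ I ^ m) × (R ⧸ J ^ m) := Submodule.liftQ 𝔟 j₀ hj₀.ge
  have hj : Function.Injective j := by
    rw [← LinearMap.ker_eq_bot]
    exact Submodule.ker_liftQ_eq_bot _ _ _ hj₀.le
  obtain ⟨ψ, hψ⟩ := Module.Injective.out j hj φ
  have h1 : x = ψ (Submodule.Quotient.mk 1, 0) + ψ (0, Submodule.Quotient.mk 1) := by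
    have h2 := hψ (Submodule.Quotient.mk 1)
    have h3 : φ (Submodule.Quotient.mk 1) = x := by
      change (LinearMap.toSpanSingleton R E x) 1 = x
      rw [LinearMap.toSpanSingleton_apply, one_smul]
    have h4 : j (Submodule.Quotient.mk 1) =
        ((Submodule.Quotient.mk 1 : R ⧸ I ^ m), (Submodule.Quotient.mk 1 : R ⧸ J ^ m)) := rfl
    rw [h3, h4] at h2
    rw [← map_add, Prod.mk_add_mk, add_zero, zero_add]
    exact h2.symm
  rw [h1]
  apply Submodule.add_mem_sup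
  · refine ⟨m, fun a ha => ?_⟩
    rw [← map_smul, Prod.smul_mk, smul_zero, ← Submodule.Quotient.mk_smul, smul_eq_mul, mul_one,
      (Submodule.Quotient.mk_eq_zero _).mpr ha]
    exact map_zero ψ
  · refine ⟨m, fun a ha => ?_⟩
    rw [← map_smul, Prod.smul_mk, smul_zero, ← Submodule.Quotient.mk_smul, smul_eq_mul, mul_one,
      (Submodule.Quotient.mk_eq_zero _).mpr ha]
    exact map_zero ψ

end Groth.Agent.Helper8.MV
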