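import Groth.Agent.Lib.Helper8.MV1
import Groth.Agent.Lib.Helper8.LC54

/-!
# Mayer–Vietoris: the maps `α`, `β` and their basic properties
-/

set_option autoImplicit false
universe u

namespace Groth.Agent.Helper8.MV

open CategoryTheory Abelian localCohomology LocCoh Groth.Agent.Helper8.LC

variable {R : Type u} [CommRing R] (I J : Ideal R) (i : ℕ)

/-- the map `H_{I+J} → H_I ⊕ H_J`. -/
noncomputable def α (M : ModuleCat.{u} R) :
    (localCohomology (I ⊔ J) i).obj M →ₗ[R]
      ((localCohomology I i).obj M × (localCohomology J i).obj M) :=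
  LinearMap.prod (θ (le_sup_left : I ≤ I ⊔ J) i M) (θ (le_sup_right : J ≤ I ⊔ J) i M)

/-- the map `H_I ⊕ H_J → H_{I ∩ J}`. -/
noncomputable def β (M : ModuleCat.{u} R) :
    ((localCohomology I i).obj M × (localCohomology J i).obj M) →ₗ[R]
      (localCohomology (I ⊓ J) i).obj M :=
  θ (inf_le_left : I ⊓ J ≤ I) i M ∘ₗ LinearMap.fst R _ _ -
    θ (inf_le_right : I ⊓ J ≤ J) i M ∘ₗ LinearMap.snd R _ _

lemma α_apply (M : ModuleCat.{u} R) (x : (localCohomology (I ⊔ J) i).obj M) :
    α I J i M x = (θ (le_sup_left : I ≤ I ⊔ J) i M x, θ (le_sup_right : J ≤ I ⊔ J) i M x) := rfl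

lemma β_apply (M : ModuleCat.{u} R)
    (y : (localCohomology I i).obj M × (localCohomology J i).obj M) :
    β I J i M y = θ (inf_le_left : I ⊓ J ≤ I) i M y.1 - θ (inf_le_right : I ⊓ J ≤ J) i M y.2 := rfl

lemma β_α (M : ModuleCat.{u} R) (x : (localCohomology (I ⊔ J) i).obj M) :
    β I J i M (α I J i M x) = 0 := by
  rw [β_apply, α_apply]
  simp only
  rw [θ_comp, θ_comp]
  exact sub_self _

/-- the map induced on `H_I ⊕ H_J` by a morphism. -/
noncomputable def mapB {M M' : ModuleCat.{u} R} (f : M ⟶ M') :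
    ((localCohomology I i).obj M × (localCohomology J i).obj M) →ₗ[R]
      ((localCohomology I i).obj M' × (localCohomology J i).obj M') :=
  LinearMap.prodMap ((localCohomology I i).map f).hom ((localCohomology J i).map f).hom

lemma α_map {M M' : ModuleCat.{u} R} (f : M ⟶ M') (x : (localCohomology (I ⊔ J) i).obj M) :
    α I J i M' (((localCohomology (I ⊔ J) i).map f) x) = mapB I J i f (α I J i M x) := by
  rw [α_apply, α_apply, θ_map, θ_map]
  rfl

lemma β_map {M M' : ModuleCat.{u} R} (f : M ⟶ M')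
    (y : (localCohomology I i).obj M × (localCohomology J i).obj M) :
    β I J i M' (mapB I J i f y) = ((localCohomology (I ⊓ J) i).map f) (β I J i M y) := by
  rw [β_apply, β_apply, map_sub, ← θ_map, ← θ_map]
  rfl

section Delta

variable {S : ShortComplex (ModuleCat.{u} R)} (hS : S.ShortExact)

/-- the connecting map on `H_I ⊕ H_J`. -/
noncomputable def δB :
    ((localCohomology I i).obj S.X₃ × (localCohomology J i).obj S.X₃) →ₗ[R]
      ((localCohomology I (i + 1)).obj S.X₁ × (localCohomology J (i + 1)).obj S.X₁) :=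
  LinearMap.prodMap (δ I i hS) (δ J i hS)

lemma α_δ (x : (localCohomology (I ⊔ J) i).obj S.X₃) :
    α I J (i + 1) S.X₁ (δ (I ⊔ J) i hS x) = δB I J i hS (α I J i S.X₃ x) := by
  rw [α_apply, α_apply, θ_δ, θ_δ]
  rfl

lemma β_δ (y : (localCohomology I i).obj S.X₃ × (localCohomology J i).obj S.X₃) :
    β I J (i + 1) S.X₁ (δB I J i hS y) = δ (I ⊓ J) i hS (β I J i S.X₃ y) := by
  rw [β_apply, β_apply, map_sub, ← θ_δ, ← θ_δ]
  rfl

end Delta

lemma exact_prodMap {X X' Y Y' Z Z' : Type u} [AddCommGroup X] [Module R X] [AddCommGroup X']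
    [Module R X'] [AddCommGroup Y] [Module R Y] [AddCommGroup Y'] [Module R Y']
    [AddCommGroup Z] [Module R Z] [AddCommGroup Z'] [Module R Z']
    {f : X →ₗ[R] Y} {g : Y →ₗ[R] Z} {f' : X' →ₗ[R] Y'} {g' : Y' →ₗ[R] Z'}
    (h : Function.Exact f g) (h' : Function.Exact f' g') :
    Function.Exact (LinearMap.prodMap f f') (LinearMap.prodMap g g') := by
  rintro ⟨y, y'⟩
  constructor
  · intro hy
    have h1 : g y = 0 := congrArg Prod.fst hy
    have h2 : g' y' = 0 := congrArg Prod.snd hy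
    obtain ⟨x, rfl⟩ := (h y).mp h1
    obtain ⟨x', rfl⟩ := (h' y').mp h2
    exact ⟨(x, x'), rfl⟩
  · rintro ⟨⟨x, x'⟩, hx⟩
    have h1 : f x = y := congrArg Prod.fst hx
    have h2 : f' x' = y' := congrArg Prod.snd hx
    subst h1 h2
    change (g (f x), g' (f' x')) = 0
    rw [h.apply_apply_eq_zero, h'.apply_apply_eq_zero]
    rfl

section Zero

variable (M : ModuleCat.{u} R)

lemma α_injective_zero : Function.Injective (α I J 0 M) := by
  intro x y hxy
  have h1 : θ (le_sup_left : I ≤ I ⊔ J) 0 M x = θ (le_sup_left : I ≤ I ⊔ J) 0 M y :=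
    congrArg Prod.fst hxy
  exact θ_injective_zero _ M h1

lemma exact_zero : Function.Exact (α I J 0 M) (β I J 0 M) := by
  rintro ⟨y₁, y₂⟩
  constructor
  · intro hy
    rw [β_apply, sub_eq_zero] at hy
    have h1 : ev0 I M y₁ = ev0 J M y₂ := by
      rw [← ev0_θ (inf_le_left : I ⊓ J ≤ I), ← ev0_θ (inf_le_right : I ⊓ J ≤ J)]
      exact congrArg _ hy
    have hm : ev0 I M y₁ ∈ DRing.torsionSub (I ⊔ J) M :=
      mem_torsionSub_sup _ (ev0_mem I M y₁) (h1 ▸ ev0_mem J M y₂)
    obtain ⟨x, hx⟩ := exists_ev0_eq (I ⊔ J) M _ hm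
    refine ⟨x, ?_⟩
    rw [α_apply]
    ext
    · apply ev0_injective I M
      rw [ev0_θ, hx]
    · apply ev0_injective J M
      rw [ev0_θ, hx, h1]
  · rintro ⟨x, hx⟩
    rw [← hx]
    exact β_α I J 0 M x

end Zero

section Inj

variable [IsNoetherianRing R]

/-- for an injective module, `β` is surjective in every degree. -/
lemma β_surjective_of_injective (E : Type u) [AddCommGroup E] [Module R E] [Module.Injective R E] :
    Function.Surjective (β I J i (ModuleCat.of R E)) := by
  haveI : Injective (ModuleCat.of R E) := Module.injective_object_of_injective_module R E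
  rcases Nat.eq_zero_or_pos i with rfl | hi
  · intro c
    have hm := torsionSub_inf_le_sup I J E (ev0_mem (I ⊓ J) (ModuleCat.of R E) c)
    obtain ⟨m₁, hm₁, m₂, hm₂, hsum⟩ := Submodule.mem_sup.mp hm
    obtain ⟨x₁, hx₁⟩ := exists_ev0_eq I (ModuleCat.of R E) m₁ hm₁
    obtain ⟨x₂, hx₂⟩ := exists_ev0_eq J (ModuleCat.of R E) m₂ hm₂
    refine ⟨(x₁, -x₂), ?_⟩
    apply ev0_injective (I ⊓ J) (ModuleCat.of R E)
    rw [β_apply, map_sub, ev0_θ, ev0_θ]
    simp only
    rw [map_neg, sub_neg_eq_add, hx₁, hx₂]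
    exact hsum
  · intro c
    refine ⟨0, ?_⟩
    rw [map_zero]
    exact (subsingleton_of_injective (I ⊓ J) i (ModuleCat.of R E) hi).elim _ _

end Inj

end Groth.Agent.Helper8.MV
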