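import Mathlib

/-!
# Kernel of `Sym((A^(N+1))^∨) → Sym(M^∨)` is generated by maximal minors
-/

set_option autoImplicit false
universe u

namespace Groth.Agent.Lib.Helper8.MinKer

open MvPolynomial

variable {A : Type u} [CommRing A] {N s : ℕ} (m : Fin s → (Fin (N + 1) → A))

/-- column vector attached to the index `k`. -/
noncomputable def colv (k : Fin (N + 1)) : Fin (s + 1) → MvPolynomial (Fin (N + 1)) A :=
  Fin.snoc (α := fun _ => MvPolynomial (Fin (N + 1)) A) (fun i' : Fin s => C (m i' k)) (X k)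

/-- the minor -/
noncomputable def minor (c : Fin (s + 1) → Fin (N + 1)) : MvPolynomial (Fin (N + 1)) A :=
  (Matrix.of fun (i : Fin (s + 1)) (j : Fin (s + 1)) =>
      (Fin.snoc (α := fun _ => MvPolynomial (Fin (N + 1)) A)
        (fun i' : Fin s => C (m i' (c j))) (X (c j)) i)).det

lemma minor_eq (c : Fin (s + 1) → Fin (N + 1)) :
    minor m c = Matrix.det (Matrix.of fun j : Fin (s + 1) => colv m (c j)) := by
  rw [minor, ← Matrix.det_transpose]
  rfl

/-- the map `a_j ↦ Σ_i m_i(j) y_i`. -/
noncomputable def phi : MvPolynomial (Fin (N + 1)) A →ₐ[A] MvPolynomial (Fin s) A :=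
  MvPolynomial.aeval (R := A) (S₁ := MvPolynomial (Fin s) A)
    (fun j : Fin (N + 1) => ∑ i : Fin s, C (m i j) * X i)

lemma phi_minor (c : Fin (s + 1) → Fin (N + 1)) : phi m (minor m c) = 0 := by
  classical
  rw [minor, AlgHom.map_det]
  let B : Matrix (Fin (s + 1)) (Fin (s + 1)) (MvPolynomial (Fin s) A) :=
    (phi m).mapMatrix (Matrix.of fun i j => colv m (c j) i)
  let cc : Fin (s + 1) → MvPolynomial (Fin s) A :=
    Fin.snoc (α := fun _ => MvPolynomial (Fin s) A) (fun i' : Fin s => X i') 0
  have hrow : B (Fin.last s) = ∑ k : Fin (s + 1), cc k • B k := by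
    funext j
    rw [Fin.sum_univ_castSucc]
    simp only [cc, Fin.snoc_castSucc, Fin.snoc_last, zero_smul, add_zero, Finset.sum_apply,
      Pi.smul_apply, smul_eq_mul]
    show phi m (colv m (c j) (Fin.last s))
      = ∑ i' : Fin s, X i' * phi m (colv m (c j) (Fin.castSucc i'))
    simp only [colv, Fin.snoc_last, Fin.snoc_castSucc, phi, aeval_X, aeval_C,
      MvPolynomial.algebraMap_eq]
    exact Finset.sum_congr rfl (fun i _ => mul_comm _ _)
  have h2 := Matrix.det_updateRow_sum B (Fin.last s) cc
  rw [← hrow, Matrix.updateRow_eq_self] at h2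
  have h3 : cc (Fin.last s) = 0 := Fin.snoc_last _ _
  rw [h3, zero_smul] at h2
  exact h2

lemma sub_map_mem {σ : Type*} (τ : MvPolynomial σ A →ₐ[A] MvPolynomial σ A)
    (p : MvPolynomial σ A) :
    p - τ p ∈ Ideal.span (Set.range fun j : σ => (X j - τ (X j) : MvPolynomial σ A)) := by
  refine MvPolynomial.induction_on
    (motive := fun p => p - τ p ∈
      Ideal.span (Set.range fun j : σ => (X j - τ (X j) : MvPolynomial σ A))) p ?_ ?_ ?_
  · intro a
    have : τ (C a) = C a := by
      rw [← MvPolynomial.algebraMap_eq]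
      exact τ.commutes a
    rw [this, sub_self]
    exact zero_mem _
  · intro p q hp hq
    rw [map_add, add_sub_add_comm]
    exact add_mem hp hq
  · intro p j hp
    have h1 : p * X j - τ (p * X j) = (p - τ p) * X j + τ p * (X j - τ (X j)) := by
      rw [map_mul]
      ring
    rw [h1]
    exact add_mem (Ideal.mul_mem_right _ _ hp)
      (Ideal.mul_mem_left _ _ (Ideal.subset_span ⟨j, rfl⟩))

lemma exists_dual (hli : LinearIndependent A m)
    (hproj : Module.Projective A ((Fin (N + 1) → A) ⧸ Submodule.span A (Set.range m))) :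
    ∃ lam : Fin s → Fin (N + 1) → A,
      ∀ i k, ∑ j, m k j * lam i j = if i = k then 1 else 0 := by
  classical
  let P := Submodule.span A (Set.range m)
  obtain ⟨σ, hσ⟩ := Module.projective_lifting_property P.mkQ LinearMap.id
    (Submodule.mkQ_surjective P)
  let ρ' : (Fin (N + 1) → A) →ₗ[A] (Fin (N + 1) → A) := LinearMap.id - σ.comp P.mkQ
  have hρmem : ∀ v, ρ' v ∈ P := by
    intro v
    rw [← Submodule.Quotient.mk_eq_zero P]
    show P.mkQ (v - σ (P.mkQ v)) = 0
    rw [map_sub]
    have h1 := LinearMap.congr_fun hσ (P.mkQ v)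
    simp only [LinearMap.comp_apply, LinearMap.id_apply] at h1
    rw [h1, sub_self]
  have hρm : ∀ k, ρ' (m k) = m k := by
    intro k
    show m k - σ (P.mkQ (m k)) = m k
    have h1 : P.mkQ (m k) = 0 :=
      (Submodule.Quotient.mk_eq_zero P).mpr (Submodule.subset_span ⟨k, rfl⟩)
    rw [h1, map_zero, sub_zero]
  let Rr : (Fin (N + 1) → A) →ₗ[A] (Fin s →₀ A) := hli.repr.comp (ρ'.codRestrict P hρmem)
  have hR : ∀ k, Rr (m k) = Finsupp.single k 1 := fun k =>
    hli.repr_eq_single k _ (hρm k)
  refine ⟨fun i j => Rr (Pi.single j 1) i, fun i k => ?_⟩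
  have h1 : m k = ∑ j, m k j • (Pi.single j (1 : A) : Fin (N + 1) → A) := by
    conv_lhs => rw [← Finset.univ_sum_single (m k)]
    refine Finset.sum_congr rfl (fun j _ => ?_)
    ext j'
    simp [Pi.single_apply]
  have h2 : Rr (m k) = ∑ j, m k j • Rr (Pi.single j 1) := by
    conv_lhs => rw [h1]
    rw [map_sum]
    simp only [map_smul]
  have h3 := DFunLike.congr_fun h2 i
  rw [hR, Finsupp.finsetSum_apply] at h3
  simp only [Finsupp.smul_apply, smul_eq_mul] at h3
  rw [← h3, Finsupp.single_apply]
  simp only [eq_comm]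

lemma sum_prod_det (lam : Fin s → Fin (N + 1) → A)
    (h : ∀ i k, ∑ j, m k j * lam i j = if i = k then 1 else 0) :
    ∑ c : Fin s → Fin (N + 1),
      (∏ t, lam t (c t)) * Matrix.det (Matrix.of fun (t i : Fin s) => m i (c t)) = 1 := by
  classical
  have hG : (Matrix.of fun (t i : Fin s) => ∑ j, lam t j * m i j)
      = (1 : Matrix (Fin s) (Fin s) A) := by
    ext t i
    rw [Matrix.of_apply, Matrix.one_apply, ← h t i]
    exact Finset.sum_congr rfl (fun j _ => mul_comm _ _)
  have h1 : Matrix.det (Matrix.of fun (t i : Fin s) => ∑ j, lam t j * m i j) = 1 := by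
    rw [hG, Matrix.det_one]
  rw [← h1]
  have h2 := MultilinearMap.map_sum
    (Matrix.detRowAlternating (n := Fin s) (R := A)).toMultilinearMap
    (fun (t : Fin s) (j : Fin (N + 1)) => lam t j • (fun i : Fin s => m i j))
  have e1 : (Matrix.of fun (t i : Fin s) => ∑ j, lam t j * m i j)
      = fun t => ∑ j, lam t j • (fun i : Fin s => m i j) := by
    funext t i
    simp [Finset.sum_apply]
  have e2 : Matrix.det (Matrix.of fun (t i : Fin s) => ∑ j, lam t j * m i j)
      = (Matrix.detRowAlternating (n := Fin s) (R := A)).toMultilinearMap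
        (fun t => ∑ j, lam t j • (fun i : Fin s => m i j)) := by
    rw [e1]
    rfl
  rw [e2, h2]
  refine Finset.sum_congr rfl (fun c _ => ?_)
  have h3 := MultilinearMap.map_smul_univ
    (Matrix.detRowAlternating (n := Fin s) (R := A)).toMultilinearMap
    (fun t => lam t (c t)) (fun t => fun i : Fin s => m i (c t))
  rw [smul_eq_mul] at h3
  exact h3.symm

end Groth.Agent.Lib.Helper8.MinKer
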