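import Groth.Agent.Lib.Helper8.MinKer

/-!
# Kernel of `Sym((A^(N+1))^∨) → Sym(M^∨)` is generated by maximal minors (part 2)
-/

set_option autoImplicit false
universe u

namespace Groth.Agent.Lib.Helper8.MinKer

open MvPolynomial

variable {A : Type u} [CommRing A] {N s : ℕ} (m : Fin s → (Fin (N + 1) → A))

lemma key_identity (c : Fin s → Fin (N + 1)) (w : Fin (N + 1) → A)
    (hw : ∀ i', ∑ k, w k * m i' k = 0) :
    ∑ k, C (w k) * minor m (Fin.snoc (α := fun _ => Fin (N + 1)) c k)
      = (∑ k, C (w k) * X k) * C (Matrix.det (Matrix.of fun (t i : Fin s) => m i (c t))) := by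
  classical
  let v₀ : Fin (s + 1) → (Fin (s + 1) → MvPolynomial (Fin (N + 1)) A) :=
    Fin.snoc (α := fun _ => Fin (s + 1) → MvPolynomial (Fin (N + 1)) A)
      (fun j' => colv m (c j')) 0
  have hv0 : ∀ j' : Fin s, v₀ (Fin.castSucc j') = colv m (c j') := fun j' => Fin.snoc_castSucc _ _ j'
  have hv : ∀ k, (fun j : Fin (s + 1) =>
      colv m ((Fin.snoc (α := fun _ => Fin (N + 1)) c k : Fin (s + 1) → Fin (N + 1)) j))
        = Function.update v₀ (Fin.last s) (colv m k) := by
    intro k
    funext j
    refine Fin.lastCases ?_ (fun j' => ?_) j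
    · rw [Fin.snoc_last, Function.update_self]
    · rw [Fin.snoc_castSucc, Function.update_of_ne (Fin.castSucc_lt_last j').ne, hv0]
  let L := (Matrix.detRowAlternating (n := Fin (s + 1))
    (R := MvPolynomial (Fin (N + 1)) A)).toMultilinearMap.toLinearMap v₀ (Fin.last s)
  have hL : ∀ x, L x = Matrix.det (Matrix.of (Function.update v₀ (Fin.last s) x)) :=
    fun x => MultilinearMap.toLinearMap_apply _ _ _ _
  have h1 : ∀ k, minor m (Fin.snoc (α := fun _ => Fin (N + 1)) c k) = L (colv m k) :=
    fun k => by rw [minor_eq, hv k, hL]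
  simp only [h1]
  have h2 : ∑ k, C (w k) * L (colv m k) = L (∑ k, (C (w k) : MvPolynomial (Fin (N + 1)) A) • colv m k) := by
    rw [map_sum]
    simp only [map_smul, smul_eq_mul]
  rw [h2]
  have hx : (∑ k, (C (w k) : MvPolynomial (Fin (N + 1)) A) • colv m k)
      = Pi.single (Fin.last s) (∑ k, C (w k) * X k) := by
    funext i
    refine Fin.lastCases ?_ (fun i' => ?_) i
    · rw [Pi.single_eq_same, Finset.sum_apply]
      simp only [Pi.smul_apply, smul_eq_mul, colv, Fin.snoc_last]
    · rw [Pi.single_eq_of_ne (Fin.castSucc_lt_last i').ne, Finset.sum_apply]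
      simp only [Pi.smul_apply, smul_eq_mul, colv, Fin.snoc_castSucc]
      rw [← C_0, ← hw i', map_sum]
      simp only [map_mul]
  rw [hx, hL, Matrix.det_succ_row _ (Fin.last s)]
  rw [Finset.sum_eq_single (Fin.last s)]
  · simp only [Matrix.of_apply, Function.update_self, Pi.single_eq_same, Fin.succAbove_last]
    have hsign : ((-1 : MvPolynomial (Fin (N + 1)) A)) ^ ((Fin.last s : ℕ) + (Fin.last s : ℕ)) = 1 :=
      Even.neg_one_pow ⟨_, rfl⟩
    rw [hsign, one_mul]
    congr 1
    have hsub : (Matrix.of (Function.update v₀ (Fin.last s)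
        (Pi.single (Fin.last s) (∑ k, C (w k) * X k)))).submatrix Fin.castSucc Fin.castSucc
        = (C : A →+* MvPolynomial (Fin (N + 1)) A).mapMatrix
          (Matrix.of fun (t i : Fin s) => m i (c t)) := by
      ext t i
      simp only [Matrix.submatrix_apply, Matrix.of_apply, RingHom.mapMatrix_apply,
        Matrix.map_apply]
      rw [Function.update_of_ne (Fin.castSucc_lt_last t).ne, hv0]
      simp only [colv, Fin.snoc_castSucc]
    rw [hsub, ← RingHom.map_det]
  · intro j _ hj
    have h0 : Matrix.of (Function.update v₀ (Fin.last s)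
        (Pi.single (Fin.last s) (∑ k, C (w k) * X k))) (Fin.last s) j = 0 := by
      rw [Matrix.of_apply, Function.update_self, Pi.single_eq_of_ne hj]
    rw [h0, mul_zero, zero_mul]
  · intro h
    exact absurd (Finset.mem_univ _) h

theorem ker_eq (hli : LinearIndependent A m)
    (hproj : Module.Projective A ((Fin (N + 1) → A) ⧸ Submodule.span A (Set.range m))) :
    RingHom.ker (phi m) = Ideal.span (Set.range fun c => minor m c) := by
  classical
  obtain ⟨lam, hlam⟩ := exists_dual m hli hproj
  apply le_antisymm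
  · intro p hp
    rw [RingHom.mem_ker] at hp
    let ψ : MvPolynomial (Fin s) A →ₐ[A] MvPolynomial (Fin (N + 1)) A :=
      aeval (fun i => ∑ j, C (lam i j) * X j)
    let τ : MvPolynomial (Fin (N + 1)) A →ₐ[A] MvPolynomial (Fin (N + 1)) A := ψ.comp (phi m)
    have h1 := sub_map_mem τ p
    have hτp : τ p = 0 := by
      show ψ (phi m p) = 0
      rw [hp, map_zero]
    rw [hτp, sub_zero] at h1
    refine (Ideal.span_le.mpr ?_) h1
    rintro _ ⟨j, rfl⟩
    let w : Fin (N + 1) → A := fun k => (if j = k then 1 else 0) - ∑ i, m i j * lam i k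
    have hw : ∀ i', ∑ k, w k * m i' k = 0 := by
      intro i'
      simp only [w, sub_mul, Finset.sum_sub_distrib, ite_mul, one_mul, zero_mul,
        Finset.sum_ite_eq, Finset.mem_univ, if_true, Finset.sum_mul]
      rw [Finset.sum_comm]
      have h3 : ∀ i, ∑ k, m i j * lam i k * m i' k = m i j * (if i = i' then 1 else 0) := by
        intro i
        rw [← hlam i i', Finset.mul_sum]
        exact Finset.sum_congr rfl (fun k _ => by ring)
      simp only [h3, mul_ite, mul_one, mul_zero, Finset.sum_ite_eq', Finset.mem_univ, if_true,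
        sub_self]
    have hlin : (X j - τ (X j) : MvPolynomial (Fin (N + 1)) A) = ∑ k, C (w k) * X k := by
      have h4 : τ (X j) = ∑ i, C (m i j) * ∑ k, C (lam i k) * X k := by
        show ψ (phi m (X j)) = _
        simp only [phi, ψ, aeval_X, map_sum, map_mul, aeval_C, MvPolynomial.algebraMap_eq]
      rw [h4]
      simp only [w, map_sub, sub_mul, Finset.sum_sub_distrib, map_sum, map_mul, Finset.sum_mul]
      congr 1
      · simp only [apply_ite C, C_1, C_0, ite_mul, one_mul, zero_mul, Finset.sum_ite_eq,
          Finset.mem_univ, if_true]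
      · rw [Finset.sum_comm]
        refine Finset.sum_congr rfl (fun i _ => ?_)
        rw [Finset.mul_sum]
        exact Finset.sum_congr rfl (fun k _ => by ring)
    show (X j - τ (X j) : MvPolynomial (Fin (N + 1)) A) ∈ _
    rw [hlin]
    have h2 : (∑ k, C (w k) * X k : MvPolynomial (Fin (N + 1)) A)
        = ∑ c : Fin s → Fin (N + 1), C (∏ t, lam t (c t)) *
            ∑ k, C (w k) * minor m (Fin.snoc (α := fun _ => Fin (N + 1)) c k) := by
      simp only [key_identity m _ w hw]
      have h3 := sum_prod_det m lam hlam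
      calc (∑ k, C (w k) * X k : MvPolynomial (Fin (N + 1)) A)
          = (∑ k, C (w k) * X k) * C (∑ c : Fin s → Fin (N + 1),
              (∏ t, lam t (c t)) * Matrix.det (Matrix.of fun (t i : Fin s) => m i (c t))) := by
            rw [h3, C_1, mul_one]
        _ = _ := by
            rw [map_sum, Finset.mul_sum]
            refine Finset.sum_congr rfl (fun c _ => ?_)
            rw [map_mul]
            ring
    rw [h2]
    refine Ideal.sum_mem _ (fun c _ => Ideal.mul_mem_left _ _
      (Ideal.sum_mem _ (fun k _ => Ideal.mul_mem_left _ _ (Ideal.subset_span ⟨_, rfl⟩))))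
  · rw [Ideal.span_le]
    rintro _ ⟨c, rfl⟩
    exact phi_minor m c

end Groth.Agent.Lib.Helper8.MinKer
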