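import Mathlib

set_option autoImplicit false

namespace Groth.Agent.Lib.Helper8.MovFin

open Polynomial

universe u v

section TopLE
variable {S : Type*} [CommSemiring S]

structure TopLE (p : S[X]) (n : ℕ) (c : S) : Prop where
  deg : p.natDegree ≤ n
  co : p.coeff n = c

theorem TopLE.mul {p q : S[X]} {m n : ℕ} {c d : S} (hp : TopLE p m c) (hq : TopLE q n d) :
    TopLE (p * q) (m + n) (c * d) :=
  ⟨natDegree_mul_le_of_le hp.1 hq.1, by
    rw [coeff_mul_add_eq_of_natDegree_le hp.1 hq.1, hp.2, hq.2]⟩

theorem TopLE.pow {p : S[X]} {m : ℕ} {c : S} (hp : TopLE p m c) (e : ℕ) :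
    TopLE (p ^ e) (e * m) (c ^ e) :=
  ⟨natDegree_pow_le_of_le e hp.1, by rw [coeff_pow_of_natDegree_le hp.1, hp.2]⟩

theorem TopLE.one : TopLE (1 : S[X]) 0 1 := ⟨by simp, by simp⟩

theorem TopLE.prod {ι : Type*} (s : Finset ι) (p : ι → S[X]) (m : ι → ℕ) (c : ι → S)
    (h : ∀ i ∈ s, TopLE (p i) (m i) (c i)) :
    TopLE (∏ i ∈ s, p i) (∑ i ∈ s, m i) (∏ i ∈ s, c i) := by
  classical
  induction s using Finset.induction_on with
  | empty => simpa using (TopLE.one (S := S))
  | insert a s ha ih =>
    rw [Finset.prod_insert ha, Finset.sum_insert ha, Finset.prod_insert ha]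
    exact (h a (Finset.mem_insert_self a s)).mul
      (ih fun i hi => h i (Finset.mem_insert_of_mem hi))

theorem TopLE.add {p q : S[X]} {n : ℕ} {c d : S} (hp : TopLE p n c) (hq : TopLE q n d) :
    TopLE (p + q) n (c + d) :=
  ⟨natDegree_add_le_of_degree_le hp.1 hq.1, by rw [coeff_add, hp.2, hq.2]⟩

theorem TopLE.zero (n : ℕ) : TopLE (0 : S[X]) n 0 := ⟨by simp, by simp⟩

theorem TopLE.sum {ι : Type*} (s : Finset ι) (p : ι → S[X]) (n : ℕ) (c : ι → S)
    (h : ∀ i ∈ s, TopLE (p i) n (c i)) :
    TopLE (∑ i ∈ s, p i) n (∑ i ∈ s, c i) := by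
  classical
  induction s using Finset.induction_on with
  | empty => simpa using (TopLE.zero (S := S) n)
  | insert a s ha ih =>
    rw [Finset.sum_insert ha, Finset.sum_insert ha]
    exact (h a (Finset.mem_insert_self a s)).add
      (ih fun i hi => h i (Finset.mem_insert_of_mem hi))

theorem TopLE.of_lt {p : S[X]} {m n : ℕ} (hp : p.natDegree ≤ m) (h : m < n) : TopLE p n 0 :=
  ⟨hp.trans h.le, coeff_eq_zero_of_natDegree_lt (lt_of_le_of_lt hp h)⟩

theorem TopLE.C_mul {p : S[X]} {n : ℕ} {c : S} (hp : TopLE p n c) (a : S) :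
    TopLE (C a * p) n (a * c) :=
  ⟨(natDegree_C_mul_le a p).trans hp.1, by rw [coeff_C_mul, hp.2]⟩

theorem TopLE.mul_X_pow {p : S[X]} {n : ℕ} {c : S} (hp : TopLE p n c) (j : ℕ) :
    TopLE (p * X ^ j) (n + j) c :=
  ⟨natDegree_mul_le_of_le hp.1 (natDegree_X_pow_le j), by rw [coeff_mul_X_pow, hp.2]⟩

end TopLE

section Main
variable (k : Type u) [Field k] {K : Type v} [Field K] [Algebra k K] {r : ℕ}

/-- the linear factor -/
noncomputable def lin (g : Fin r → K) (N : ℕ) (i : Fin r) : (MvPolynomial (Fin r) K)[X] :=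
  C (MvPolynomial.X i) + C (MvPolynomial.C (g i)) * X ^ N

theorem lin_top (g : Fin r → K) {N : ℕ} (hN : 1 ≤ N) (i : Fin r) :
    TopLE (lin g N i) N (MvPolynomial.C (g i)) := by
  refine ⟨?_, ?_⟩
  · unfold lin
    refine natDegree_add_le_of_degree_le ?_ (natDegree_C_mul_X_pow_le _ _)
    rw [natDegree_C]; exact Nat.zero_le _
  · unfold lin
    rw [coeff_add, coeff_C_mul_X_pow, if_pos rfl, coeff_C, if_neg (by omega), zero_add]

theorem mono_top (g : Fin r → K) {N : ℕ} (hN : 1 ≤ N) (d : Fin r →₀ ℕ) :
    TopLE (∏ i, lin g N i ^ d i) (N * Finsupp.degree d) (MvPolynomial.C (∏ i, g i ^ d i)) := by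
  have h := TopLE.prod Finset.univ (fun i => lin g N i ^ d i) (fun i => d i * N)
    (fun i => MvPolynomial.C (g i) ^ d i) (fun i _ => (lin_top g hN i).pow (d i))
  have h1 : ∑ i, d i * N = N * Finsupp.degree d := by
    rw [Finsupp.degree_eq_sum, Finset.mul_sum]
    exact Finset.sum_congr rfl fun i _ => mul_comm _ _
  have h2 : ∏ i, MvPolynomial.C (g i) ^ d i =
      (MvPolynomial.C (∏ i, g i ^ d i) : MvPolynomial (Fin r) K) := by
    rw [map_prod]; exact Finset.prod_congr rfl fun i _ => (map_pow _ _ _).symm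
  rw [h1, h2] at h
  exact h

noncomputable def sub0 (g : Fin r → K) (N : ℕ) :
    MvPolynomial (Fin r) k →ₐ[k] (MvPolynomial (Fin r) K)[X] :=
  MvPolynomial.aeval (lin g N)

theorem sub0_eq (g : Fin r → K) (N : ℕ) (a : MvPolynomial (Fin r) k) :
    sub0 k g N a = ∑ d ∈ a.support,
      C (MvPolynomial.C (algebraMap k K (a.coeff d))) * ∏ i, lin g N i ^ d i := by
  unfold sub0
  rw [MvPolynomial.aeval_def, MvPolynomial.eval₂_eq']
  refine Finset.sum_congr rfl fun d _ => ?_
  rw [Polynomial.algebraMap_apply, MvPolynomial.algebraMap_apply]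

theorem sub0_top (g : Fin r → K) {N : ℕ} (hN : 1 ≤ N) (a : MvPolynomial (Fin r) k) :
    TopLE (sub0 k g N a) (N * a.totalDegree)
      (MvPolynomial.C (MvPolynomial.aeval g
        (MvPolynomial.homogeneousComponent a.totalDegree a))) := by
  classical
  rw [sub0_eq]
  have hdeg : ∀ d ∈ a.support, Finsupp.degree d ≤ a.totalDegree := by
    intro d hd
    rw [Finsupp.degree_apply]
    exact MvPolynomial.le_totalDegree hd
  have h := TopLE.sum a.support
    (fun d => C (MvPolynomial.C (algebraMap k K (a.coeff d))) * ∏ i, lin g N i ^ d i)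
    (N * a.totalDegree)
    (fun d => if Finsupp.degree d = a.totalDegree then
      MvPolynomial.C (algebraMap k K (a.coeff d)) * MvPolynomial.C (∏ i, g i ^ d i) else 0)
    (by
      intro d hd
      by_cases hdd : Finsupp.degree d = a.totalDegree
      · rw [if_pos hdd, ← hdd]
        exact (mono_top g hN d).C_mul _
      · rw [if_neg hdd]
        have hlt : Finsupp.degree d < a.totalDegree := lt_of_le_of_ne (hdeg d hd) hdd
        refine TopLE.of_lt ((mono_top g hN d).C_mul _).1 ?_
        exact (Nat.mul_lt_mul_left (by omega)).mpr hlt)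
  convert h using 1
  rw [MvPolynomial.homogeneousComponent_apply, map_sum, map_sum, Finset.sum_filter]
  refine Finset.sum_congr rfl fun d _ => ?_
  split_ifs with hdd
  · rw [MvPolynomial.aeval_monomial, Finsupp.prod_fintype _ _ (fun i => pow_zero _), map_mul]
  · rfl

theorem main (r m : ℕ)
    (f : Polynomial (MvPolynomial (Fin r) k)) (hirr : Irreducible f) (h0 : IsUnit (f.coeff 0)) :
    ∃ h : MvPolynomial (Fin r) k, h ≠ 0 ∧ ∃ s₀ : ℕ, ∀ s : ℕ, s₀ ≤ s →
      ∀ (K : Type v) [Field K] [Algebra k K] (g : Fin r → K), MvPolynomial.aeval g h ≠ 0 →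
        ∀ F : Polynomial (MvPolynomial (Fin r) K),
          F = Polynomial.eval₂ (MvPolynomial.aeval (fun i : Fin r => Polynomial.C (MvPolynomial.X i) + Polynomial.C (MvPolynomial.C (g i)) * Polynomial.X ^ (s * (m + 1))) : MvPolynomial (Fin r) k →ₐ[k] Polynomial (MvPolynomial (Fin r) K)).toRingHom Polynomial.X f →
          Module.Finite (MvPolynomial (Fin r) K) (Polynomial (MvPolynomial (Fin r) K) ⧸ Ideal.span {F}) ∧
          Function.Injective ((Ideal.Quotient.mk (Ideal.span {F})).comp (algebraMap (MvPolynomial (Fin r) K) (Polynomial (MvPolynomial (Fin r) K)))) := by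
  classical
  have hf0 : f ≠ 0 := hirr.ne_zero
  have hsne : f.support.Nonempty := by
    rw [Finset.nonempty_iff_ne_empty]; intro h; exact hf0 (Polynomial.support_eq_empty.mp h)
  obtain ⟨j0, hj0, he⟩ :=
    Finset.exists_mem_eq_sup f.support hsne (fun j => (f.coeff j).totalDegree)
  obtain ⟨e, hedef⟩ : ∃ e, e = f.support.sup (fun j => (f.coeff j).totalDegree) := ⟨_, rfl⟩
  have hele : ∀ j ∈ f.support, (f.coeff j).totalDegree ≤ e := fun j hj => by
    rw [hedef]; exact Finset.le_sup (f := fun j => (f.coeff j).totalDegree) hj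
  have hSne : (f.support.filter (fun j => (f.coeff j).totalDegree = e)).Nonempty :=
    ⟨j0, Finset.mem_filter.mpr ⟨hj0, by rw [hedef, he]⟩⟩
  obtain ⟨js, hjsdef⟩ : ∃ js,
      js = (f.support.filter (fun j => (f.coeff j).totalDegree = e)).max' hSne := ⟨_, rfl⟩
  have hjsmem : js ∈ f.support.filter (fun j => (f.coeff j).totalDegree = e) := by
    rw [hjsdef]; exact Finset.max'_mem _ _
  have hjs1 : js ∈ f.support := (Finset.mem_filter.mp hjsmem).1
  have hjs2 : (f.coeff js).totalDegree = e := (Finset.mem_filter.mp hjsmem).2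
  have hjsmax : ∀ j ∈ f.support, (f.coeff j).totalDegree = e → j ≤ js := by
    intro j hj hje
    rw [hjsdef]
    exact Finset.le_max' _ _ (Finset.mem_filter.mpr ⟨hj, hje⟩)
  have hcne : f.coeff js ≠ 0 := Polynomial.mem_support_iff.mp hjs1
  refine ⟨MvPolynomial.homogeneousComponent e (f.coeff js), ?_, f.natDegree + 1, ?_⟩
  · have hsne2 : (f.coeff js).support.Nonempty := by
      rw [Finset.nonempty_iff_ne_empty]; intro h
      exact hcne (MvPolynomial.support_eq_empty.mp h)
    obtain ⟨d, hd, hdeq⟩ := Finset.exists_mem_eq_sup (f.coeff js).support hsne2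
      (fun s => s.sum fun _ x => x)
    have hdd : Finsupp.degree d = e := by
      rw [← hjs2]; exact hdeq.symm
    intro hzero
    have := congrArg (MvPolynomial.coeff d) hzero
    rw [MvPolynomial.coeff_homogeneousComponent, if_pos hdd, MvPolynomial.coeff_zero] at this
    exact (MvPolynomial.mem_support_iff.mp hd) this
  · intro s hs K _ _ g hg F hF
    obtain ⟨N, hNdef⟩ : ∃ N, N = s * (m + 1) := ⟨_, rfl⟩
    have hN : f.natDegree < N := by
      have : s ≤ s * (m + 1) := Nat.le_mul_of_pos_right s (Nat.succ_pos m)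
      omega
    have hN1 : 1 ≤ N := by omega
    have hF' : F = Polynomial.eval₂ (sub0 k g N).toRingHom X f := by
      rw [hNdef]; exact hF
    have hFsum : F = ∑ j ∈ f.support, sub0 k g N (f.coeff j) * X ^ j := by
      rw [hF', Polynomial.eval₂_eq_sum, Polynomial.sum_def]
      rfl
    have hterm : ∀ j ∈ f.support,
        TopLE (sub0 k g N (f.coeff j) * X ^ j) (N * e + js)
          (if j = js then MvPolynomial.C (MvPolynomial.aeval g
            (MvPolynomial.homogeneousComponent e (f.coeff js))) else 0) := by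
      intro j hj
      by_cases hjj : j = js
      · rw [if_pos hjj, hjj]
        have := (sub0_top k g hN1 (f.coeff js)).mul_X_pow js
        rw [hjs2] at this
        exact this
      · rw [if_neg hjj]
        have h1 := ((sub0_top k g hN1 (f.coeff j)).mul_X_pow j).1
        refine TopLE.of_lt h1 ?_
        have hjN : j < N := lt_of_le_of_lt (Polynomial.le_natDegree_of_mem_supp j hj) hN
        rcases lt_or_eq_of_le (hele j hj) with hlt | heq
        · have : N * ((f.coeff j).totalDegree + 1) ≤ N * e := Nat.mul_le_mul_left N hlt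
          rw [Nat.mul_add, Nat.mul_one] at this
          omega
        · have : j < js := lt_of_le_of_ne (hjsmax j hj heq) hjj
          rw [heq]; omega
    have hFtop : TopLE F (N * e + js) (MvPolynomial.C (MvPolynomial.aeval g
            (MvPolynomial.homogeneousComponent e (f.coeff js)))) := by
      have := TopLE.sum f.support (fun j => sub0 k g N (f.coeff j) * X ^ j) (N * e + js) _ hterm
      rw [Finset.sum_ite_eq' f.support js, if_pos hjs1, ← hFsum] at this
      exact this
    obtain ⟨κ, hκdef⟩ : ∃ κ : K, κ = MvPolynomial.aeval g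
        (MvPolynomial.homogeneousComponent e (f.coeff js)) := ⟨_, rfl⟩
    rw [← hκdef] at hFtop
    have hκ : κ ≠ 0 := by rw [hκdef]; exact hg
    have hCκ : (MvPolynomial.C κ : MvPolynomial (Fin r) K) ≠ 0 := by
      intro h; exact hκ (MvPolynomial.C_injective (Fin r) K (by rw [h, map_zero]))
    have hnd : F.natDegree = N * e + js :=
      natDegree_eq_of_le_of_coeff_ne_zero hFtop.1 (by rw [hFtop.2]; exact hCκ)
    have hlc : F.leadingCoeff = MvPolynomial.C κ := by
      rw [Polynomial.leadingCoeff, hnd, hFtop.2]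
    have hmonic : (C (MvPolynomial.C κ⁻¹) * F).Monic := by
      apply monic_C_mul_of_mul_leadingCoeff_eq_one
      rw [hlc, ← map_mul, inv_mul_cancel₀ hκ, map_one]
    have hunit : IsUnit (C (MvPolynomial.C κ⁻¹) : (MvPolynomial (Fin r) K)[X]) := by
      apply Polynomial.isUnit_C.mpr
      exact (IsUnit.mk0 κ⁻¹ (inv_ne_zero hκ)).map MvPolynomial.C
    have hspan : Ideal.span {F} = Ideal.span {C (MvPolynomial.C κ⁻¹) * F} :=
      (Ideal.span_singleton_mul_left_unit hunit F).symm
    have hwpos : 1 ≤ N * e + js := by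
      by_contra hcon
      have hw0 : N * e + js = 0 := by omega
      have he0 : e = 0 := by
        rcases Nat.eq_zero_or_pos e with h | h
        · exact h
        · have : N * 1 ≤ N * e := Nat.mul_le_mul_left N h
          omega
      have hjs0 : js = 0 := by omega
      have hnd0 : f.natDegree = 0 := by
        have h1 := Polynomial.natDegree_mem_support_of_nonzero hf0
        have h2 : (f.coeff f.natDegree).totalDegree = e := by
          have := hele _ h1
          omega
        have := hjsmax _ h1 h2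
        omega
      apply hirr.not_isUnit
      rw [Polynomial.eq_C_of_natDegree_eq_zero hnd0]
      exact Polynomial.isUnit_C.mpr h0
    refine ⟨?_, ?_⟩
    · rw [hspan]; exact hmonic.finite_quotient
    · rw [injective_iff_map_eq_zero]
      intro a ha
      rw [RingHom.comp_apply, Ideal.Quotient.eq_zero_iff_mem, Ideal.mem_span_singleton,
        ← Polynomial.C_eq_algebraMap] at ha
      have hC : (C a : (MvPolynomial (Fin r) K)[X]) = 0 :=
        eq_zero_of_dvd_of_natDegree_lt ha (by rw [natDegree_C, hnd]; omega)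
      exact Polynomial.C_eq_zero.mp hC

end Main

end Groth.Agent.Lib.Helper8.MovFin
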