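import Mathlib
import Groth.Prelude
import Groth.Agent.Lib.Helper8.Mult2

/-!
# Samuel multiplicities: the sum formula over the top-dimensional primes
-/

set_option autoImplicit false

universe u

namespace Groth.Agent.Helper8.Mult

open IsLocalRing Filter Topology Groth.Agent.Helper8.KoszulLib

section main

variable {A : Type u} [CommRing A] [IsNoetherianRing A] [IsLocalRing A] (I : Ideal A) (d : ℕ)
  (e : PrimeSpectrum A → ℝ)

/-- The primes of coheight `d`. -/
def topSet (A : Type u) [CommRing A] (d : ℕ) : Set (PrimeSpectrum A) :=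
  {p | ringKrullDim (A ⧸ p.asIdeal) = d}

/-- The length of the localization of `N` at `p`. -/
noncomputable def ll (N : Type u) [AddCommGroup N] [Module A N] (p : PrimeSpectrum A) : ℕ∞ :=
  Module.length (Localization.AtPrime p.asIdeal) (LocalizedModule p.asIdeal.primeCompl N)

/-- The expected multiplicity. -/
noncomputable def mu (N : Type u) [AddCommGroup N] [Module A N] : ℝ :=
  ∑ᶠ p ∈ topSet A d, ((ll N p).toNat : ℝ) * e p

/-- The inductive statement. -/
def Good (N : Type u) [AddCommGroup N] [Module A N] : Prop :=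
  Module.supportDim A N ≤ d →
    (∀ p ∈ topSet A d, ll N p ≠ ⊤) ∧ {p | p ∈ topSet A d ∧ ll N p ≠ 0}.Finite ∧
      Tendsto (sam I N d) atTop (𝓝 (mu d e N))

omit [IsNoetherianRing A] [IsLocalRing A] in
theorem good_subsingleton (N : Type u) [AddCommGroup N] [Module A N] [Subsingleton N] :
    Good I d e N := by
  intro _
  have h0 : ∀ p : PrimeSpectrum A, ll N p = 0 := fun p => Module.length_eq_zero
  refine ⟨fun p _ => by rw [h0 p]; exact ENat.zero_ne_top, ?_, ?_⟩
  · convert Set.finite_empty
    ext p
    simp [h0 p]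
  · have hmu : mu d e N = 0 := by
      unfold mu
      refine finsum_mem_eq_zero_of_forall_eq_zero (fun p _ => ?_)
      rw [h0 p, ENat.toNat_zero, Nat.cast_zero, zero_mul]
    rw [hmu]
    exact tendsto_const_nhds.congr (fun t => (sam_of_subsingleton I N d t).symm)

theorem good_exact (hI : ∃ n : ℕ, maximalIdeal A ^ n ≤ I)
    (N₁ N₂ N₃ : Type u) [AddCommGroup N₁] [Module A N₁] [Module.Finite A N₁]
    [AddCommGroup N₂] [Module A N₂] [Module.Finite A N₂] [AddCommGroup N₃] [Module A N₃]
    [Module.Finite A N₃] (f : N₁ →ₗ[A] N₂) (g : N₂ →ₗ[A] N₃) (hf : Function.Injective f)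
    (hg : Function.Surjective g) (hfg : Function.Exact f g)
    (h1 : Good I d e N₁) (h3 : Good I d e N₃) : Good I d e N₂ := by
  intro hdim
  obtain ⟨a1, b1, c1⟩ := h1 ((Module.supportDim_le_of_injective f hf).trans hdim)
  obtain ⟨a3, b3, c3⟩ := h3 ((Module.supportDim_le_of_surjective g hg).trans hdim)
  have hadd : ∀ p : PrimeSpectrum A, ll N₂ p = ll N₁ p + ll N₃ p :=
    fun p => length_localizedModule_add p.asIdeal f g hf hg hfg
  refine ⟨fun p hp => ?_, ?_, ?_⟩
  · rw [hadd p]
    exact WithTop.add_ne_top.mpr ⟨a1 p hp, a3 p hp⟩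
  · refine (b1.union b3).subset ?_
    rintro p ⟨hp, hne⟩
    by_contra hcon
    rw [Set.mem_union, not_or] at hcon
    apply hne
    have e1 : ll N₁ p = 0 := by
      by_contra h0
      exact hcon.1 ⟨hp, h0⟩
    have e3 : ll N₃ p = 0 := by
      by_contra h0
      exact hcon.2 ⟨hp, h0⟩
    rw [hadd p, e1, e3, add_zero]
  · have hrange : LinearMap.range f = LinearMap.ker g := (LinearMap.exact_iff.mp hfg).symm
    have hsum := samuel_add I hI f g hf hg hrange d _ _ c1 c3
    have hmu : mu d e N₂ = mu d e N₁ + mu d e N₃ := by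
      unfold mu
      rw [← finsum_mem_add_distrib']
      · refine finsum_mem_congr rfl (fun p hp => ?_)
        rw [hadd p, ENat.toNat_add (a1 p hp) (a3 p hp), Nat.cast_add, add_mul]
      · refine b1.subset ?_
        rintro p ⟨hp, hne⟩
        refine ⟨hp, fun h0 => hne ?_⟩
        show ((ll N₁ p).toNat : ℝ) * e p = 0
        rw [h0, ENat.toNat_zero, Nat.cast_zero, zero_mul]
      · refine b3.subset ?_
        rintro p ⟨hp, hne⟩
        refine ⟨hp, fun h0 => hne ?_⟩
        show ((ll N₃ p).toNat : ℝ) * e p = 0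
        rw [h0, ENat.toNat_zero, Nat.cast_zero, zero_mul]
    rw [hmu]
    exact hsum

theorem good_quotient (hI : ∃ n : ℕ, maximalIdeal A ^ n ≤ I) (q : PrimeSpectrum A)
    (he : ∀ p : PrimeSpectrum A, p ∈ topSet A d →
      Tendsto (sam I (A ⧸ p.asIdeal) d) atTop (𝓝 (e p))) :
    Good I d e (A ⧸ q.asIdeal) := by
  intro hdim
  rw [Module.supportDim_quotient_eq_ringKrullDim] at hdim
  have key : ∀ p ∈ topSet A d, p ≠ q → ¬ q.asIdeal ≤ p.asIdeal := by
    intro p hp hne hle
    have hlt : q.asIdeal < p.asIdeal :=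
      lt_of_le_of_ne hle (fun h => hne (PrimeSpectrum.ext h.symm))
    have h1 := Groth.Agent.Helper8.Ratliff.ringKrullDim_quotient_add_one_le q.asIdeal p.asIdeal hlt
    have hp' : ringKrullDim (A ⧸ p.asIdeal) = d := hp
    rw [hp'] at h1
    have h2 : ((d : WithBot ℕ∞) + 1) ≤ d := h1.trans hdim
    have h3 : ((d + 1 : ℕ) : WithBot ℕ∞) ≤ (d : ℕ) := by exact_mod_cast h2
    have h4 : d + 1 ≤ d := by exact_mod_cast h3
    omega
  have hzero : ∀ p ∈ topSet A d, p ≠ q → ll (A ⧸ q.asIdeal) p = 0 := by
    intro p hp hne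
    haveI := subsingleton_localizedModule_quotient q.asIdeal p.asIdeal (key p hp hne)
    exact Module.length_eq_zero
  have hone : ll (A ⧸ q.asIdeal) q = 1 := length_localizedModule_quotient_self q.asIdeal
  refine ⟨fun p hp => ?_, ?_, ?_⟩
  · by_cases hpq : p = q
    · rw [hpq, hone]; exact ENat.one_ne_top
    · rw [hzero p hp hpq]; exact ENat.zero_ne_top
  · refine (Set.finite_singleton q).subset ?_
    rintro p ⟨hp, hne⟩
    by_contra hpq
    exact hne (hzero p hp hpq)
  · by_cases hq : q ∈ topSet A d
    · have hmu : mu d e (A ⧸ q.asIdeal) = e q := by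
        unfold mu
        rw [finsum_mem_inter_support_eq' _ (topSet A d) ({q} : Set (PrimeSpectrum A)),
          finsum_mem_singleton, hone, ENat.toNat_one, Nat.cast_one, one_mul]
        intro p hp
        rw [Set.mem_singleton_iff]
        constructor
        · intro hpt
          by_contra hpq
          apply hp
          rw [hzero p hpt hpq, ENat.toNat_zero, Nat.cast_zero, zero_mul]
        · rintro rfl
          exact hq
      rw [hmu]
      exact he q hq
    · have hmu : mu d e (A ⧸ q.asIdeal) = 0 := by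
        unfold mu
        refine finsum_mem_eq_zero_of_forall_eq_zero (fun p hp => ?_)
        have hpq : p ≠ q := fun h => hq (h ▸ hp)
        rw [hzero p hp hpq, ENat.toNat_zero, Nat.cast_zero, zero_mul]
      rw [hmu]
      refine tendsto_sam_zero I hI _ d ?_
      rw [Module.supportDim_quotient_eq_ringKrullDim]
      exact lt_of_le_of_ne hdim hq

/-- **The sum formula for Samuel multiplicities.** -/
theorem good_all (hI : ∃ n : ℕ, maximalIdeal A ^ n ≤ I)
    (he : ∀ p : PrimeSpectrum A, p ∈ topSet A d →
      Tendsto (sam I (A ⧸ p.asIdeal) d) atTop (𝓝 (e p)))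
    (M : Type u) [AddCommGroup M] [Module A M] [hM : Module.Finite A M] : Good I d e M := by
  induction hM using IsNoetherianRing.induction_on_isQuotientEquivQuotientPrime A with
  | subsingleton N => exact good_subsingleton I d e N
  | quotient N p f =>
    exact good_exact I d e hI (A ⧸ p.asIdeal) N PUnit.{u + 1} f.symm.toLinearMap 0
      f.symm.injective (Function.surjective_to_subsingleton _)
      ((f.symm.exact_zero_iff_surjective _).2 f.symm.surjective)
      (good_quotient I d e hI p he) (good_subsingleton I d e _)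
  | exact N₁ N₂ N₃ f g hf hg hfg h1 h3 => exact good_exact I d e hI N₁ N₂ N₃ f g hf hg hfg h1 h3

end main

end Groth.Agent.Helper8.Mult
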