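import Mathlib
import Groth.Agent.Lib.Helper8.GenFree

/-!
# Rank one modules over domains, and ideals of a UFD up to isomorphism
-/

set_option autoImplicit false

namespace Groth.Agent.Helper8.Murthy

section domain

variable {A : Type*} [CommRing A] [IsDomain A]

/-- a nonzero finite torsion-free module over a domain has a nonzero linear functional. -/
theorem exists_dual_ne_zero {K : Type*} [AddCommGroup K] [Module A K] [Module.Finite A K]
    [Nontrivial K] (htf : ∀ (a : A) (x : K), a ≠ 0 → a • x = 0 → x = 0) :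
    ∃ (π : K →ₗ[A] A) (x : K), π x ≠ 0 := by
  classical
  obtain ⟨f, n, q, hf, hli, hspan⟩ := Groth.Agent.Helper8.GenFree.exists_free_span (A := A) (Q := K)
  have hn : 0 < n := by
    by_contra h0
    have hn0 : n = 0 := by omega
    subst hn0
    obtain ⟨y, hy⟩ := exists_ne (0 : K)
    have h1 := hspan y
    have hr : Set.range q = ∅ := Set.range_eq_empty q
    rw [hr, Submodule.span_empty, Submodule.mem_bot] at h1
    exact hy (htf f y hf h1)
  let b : Module.Basis (Fin n) A (Submodule.span A (Set.range q)) := Module.Basis.span hli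
  let g : K →ₗ[A] Submodule.span A (Set.range q) :=
    LinearMap.codRestrict _ (f • (LinearMap.id : K →ₗ[A] K)) hspan
  refine ⟨(b.coord ⟨0, hn⟩).comp g, q ⟨0, hn⟩, ?_⟩
  have h1 : g (q ⟨0, hn⟩) = f • b ⟨0, hn⟩ := by
    apply Subtype.ext
    change f • q ⟨0, hn⟩ = f • ((b ⟨0, hn⟩ : Submodule.span A (Set.range q)) : K)
    rw [Module.Basis.span_apply]
  rw [LinearMap.comp_apply, h1, map_smul, Module.Basis.coord_apply, Module.Basis.repr_self,
    Finsupp.single_eq_same, smul_eq_mul, mul_one]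
  exact hf

/-- a finite torsion-free module all of whose endomorphisms are scalars is isomorphic to a nonzero
ideal. -/
theorem exists_equiv_ideal {K : Type*} [AddCommGroup K] [Module A K] [Module.Finite A K]
    [Nontrivial K] (htf : ∀ (a : A) (x : K), a ≠ 0 → a • x = 0 → x = 0)
    (hend : ∀ φ : K →ₗ[A] K, ∃ r : A, ∀ k, φ k = r • k) :
    ∃ I : Ideal A, I ≠ ⊥ ∧ Nonempty (K ≃ₗ[A] I) := by
  obtain ⟨π, x, hx⟩ := exists_dual_ne_zero htf
  have hx0 : x ≠ 0 := by
    rintro rfl
    exact hx (map_zero π)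
  let ι : A →ₗ[A] K := LinearMap.toSpanSingleton A K x
  have hι : Function.Injective ι := by
    rw [injective_iff_map_eq_zero]
    intro a ha
    by_contra ha0
    exact hx0 (htf a x ha0 ha)
  have hmem : ∀ y : K, (π x • (LinearMap.id : K →ₗ[A] K)) y ∈ LinearMap.range ι := by
    intro y
    obtain ⟨r, hr⟩ := hend (π.smulRight y)
    refine ⟨r, ?_⟩
    have := hr x
    rw [LinearMap.smulRight_apply] at this
    change r • x = π x • y
    exact this.symm
  let g : K →ₗ[A] LinearMap.range ι :=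
    LinearMap.codRestrict _ (π x • (LinearMap.id : K →ₗ[A] K)) hmem
  let e := LinearEquiv.ofInjective ι hι
  let ψ : K →ₗ[A] A := e.symm.toLinearMap.comp g
  have hψ : Function.Injective ψ := by
    rw [injective_iff_map_eq_zero]
    intro y hy
    have h1 : g y = 0 := e.symm.injective (by rw [map_zero]; exact hy)
    have h2 : π x • y = 0 := congrArg Subtype.val h1
    exact htf (π x) y hx h2
  refine ⟨LinearMap.range ψ, ?_, ⟨LinearEquiv.ofInjective ψ hψ⟩⟩
  intro hbot
  obtain ⟨y, hy⟩ := exists_ne (0 : K)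
  have : ψ y ∈ LinearMap.range ψ := ⟨y, rfl⟩
  rw [hbot, Submodule.mem_bot] at this
  exact hy (hψ (by rw [this, map_zero]))

end domain

section noeth

variable {A : Type*} [CommRing A] [IsDomain A] [IsNoetherianRing A]

/-- every nonzero ideal of a Noetherian domain is isomorphic to an ideal contained in no principal
prime ideal. -/
theorem exists_equiv_not_le_prime (I : Ideal A) (hI : I ≠ ⊥) :
    ∃ J : Ideal A, J ≠ ⊥ ∧ Nonempty (I ≃ₗ[A] J) ∧ ∀ π : A, Prime π → ¬ J ≤ Ideal.span {π} := by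
  let S : Set (Ideal A) := {J | J ≠ ⊥ ∧ Nonempty (I ≃ₗ[A] J)}
  have hS : S.Nonempty := ⟨I, hI, ⟨LinearEquiv.refl A I⟩⟩
  obtain ⟨J, ⟨hJ0, ⟨eJ⟩⟩, hmax⟩ :=
    (set_has_maximal_iff_noetherian (R := A) (M := A)).mpr inferInstance S hS
  refine ⟨J, hJ0, ⟨eJ⟩, ?_⟩
  intro π hπ hle
  have hπ0 : π ≠ 0 := hπ.ne_zero
  -- the ideal `J'' = (J : π)`
  let J'' : Ideal A := Submodule.comap (LinearMap.mulLeft A π) J
  have hJJ'' : J ≤ J'' := by
    intro a ha
    change π * a ∈ J
    exact Ideal.mul_mem_left J π ha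
  -- multiplication by `π` is an isomorphism `J'' ≃ J`
  let m : J'' →ₗ[A] J :=
    LinearMap.codRestrict J ((LinearMap.mulLeft A π).comp J''.subtype) (fun a => a.2)
  have hm_inj : Function.Injective m := by
    rw [injective_iff_map_eq_zero]
    intro a ha
    have h1 : π * (a : A) = 0 := congrArg Subtype.val ha
    rcases mul_eq_zero.mp h1 with h | h
    · exact absurd h hπ0
    · exact Subtype.ext h
  have hm_surj : Function.Surjective m := by
    rintro ⟨b, hb⟩
    obtain ⟨a, rfl⟩ := Ideal.mem_span_singleton'.mp (hle hb)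
    have ha : a ∈ J'' := by
      change π * a ∈ J
      rw [mul_comm]
      exact hb
    exact ⟨⟨a, ha⟩, Subtype.ext (mul_comm π a)⟩
  let em : J'' ≃ₗ[A] J := LinearEquiv.ofBijective m ⟨hm_inj, hm_surj⟩
  have hJ''S : J'' ∈ S := by
    refine ⟨?_, ⟨eJ.trans em.symm⟩⟩
    intro hbot
    apply hJ0
    rw [eq_bot_iff]
    exact hJJ''.trans (le_of_eq hbot)
  have heq : J'' = J := by
    by_contra hne
    exact hmax J'' hJ''S (lt_of_le_of_ne hJJ'' (Ne.symm hne))
  -- hence `J ≤ (π^k)` for all `k`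
  have hpow : ∀ k : ℕ, J ≤ Ideal.span {π ^ k} := by
    intro k
    induction k with
    | zero =>
      rw [pow_zero, Ideal.span_singleton_one]
      exact le_top
    | succ k ih =>
      intro b hb
      obtain ⟨a, rfl⟩ := Ideal.mem_span_singleton'.mp (hle hb)
      have ha : a ∈ J'' := by
        change π * a ∈ J
        rw [mul_comm]
        exact hb
      rw [heq] at ha
      obtain ⟨c, rfl⟩ := Ideal.mem_span_singleton'.mp (ih ha)
      rw [Ideal.mem_span_singleton']
      exact ⟨c, by ring⟩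
  have hne_top : Ideal.span {π} ≠ ⊤ := by
    rw [Ne, Ideal.span_singleton_eq_top]
    exact hπ.not_isUnit
  have hinf := Ideal.iInf_pow_eq_bot_of_isDomain (Ideal.span {π}) hne_top
  apply hJ0
  rw [eq_bot_iff, ← hinf]
  refine le_iInf fun k => ?_
  rw [Ideal.span_singleton_pow]
  exact hpow k

/-- in a Noetherian UFD, a nonzero proper ideal contained in no principal prime has height at
least two. -/
theorem two_le_height_of_not_le_prime [UniqueFactorizationMonoid A] (J : Ideal A) (hJ0 : J ≠ ⊥)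
    (hJ : ∀ π : A, Prime π → ¬ J ≤ Ideal.span {π}) : 2 ≤ J.height := by
  rw [Ideal.height_eq_inf_minimalPrimes]
  refine le_iInf₂ fun Q hQ => ?_
  haveI hQp : Q.IsPrime := hQ.1.1
  have hJQ : J ≤ Q := hQ.1.2
  have hQ0 : Q ≠ ⊥ := by
    intro h
    apply hJ0
    rw [eq_bot_iff, ← h]
    exact hJQ
  obtain ⟨π, hπQ, hπ⟩ := Ideal.IsPrime.exists_mem_prime_of_ne_bot hQp hQ0
  haveI hPp : (Ideal.span {π}).IsPrime := (Ideal.span_singleton_prime hπ.ne_zero).mpr hπ
  have hle : Ideal.span {π} ≤ Q := (Ideal.span_singleton_le_iff_mem Q).mpr hπQ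
  have hlt : Ideal.span {π} < Q := by
    refine lt_of_le_of_ne hle ?_
    intro h
    exact hJ π hπ (h ▸ hJQ)
  have hbot : (⊥ : Ideal A) < Ideal.span {π} := by
    rw [bot_lt_iff_ne_bot, Ne, Ideal.span_singleton_eq_bot]
    exact hπ.ne_zero
  haveI : (⊥ : Ideal A).IsPrime := Ideal.isPrime_bot
  have h1 := Ideal.height_add_one_le_of_lt_of_isPrime hbot
  have h2 := Ideal.height_add_one_le_of_lt_of_isPrime hlt
  calc (2 : ℕ∞) = 0 + 1 + 1 := by norm_num
    _ ≤ (⊥ : Ideal A).height + 1 + 1 := by gcongr; exact zero_le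
    _ ≤ (Ideal.span {π}).height + 1 := by gcongr
    _ ≤ Q.height := h2

end noeth

end Groth.Agent.Helper8.Murthy
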