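import Groth.Agent.Lib.Helper8.Murthy1
import Groth.Agent.Lib.Helper8.CanMod14
import Groth.Agent.Lib.Helper8.CanMod12
import Groth.Agent.Lib.Helper8.CanMod8
import Groth.Agent.Lib.Helper8.LD25
import Groth.Agent.Lib.Helper8.ABS21

/-!
# A Cohen–Macaulay factorial quotient of a regular local ring is Gorenstein (Murthy)
-/

set_option autoImplicit false
universe u

namespace Groth.Agent.Helper8.Murthy

open LocCoh IsLocalRing CategoryTheory Abelian Groth.Agent.Helper8.LC Groth.Agent.Helper8.LD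
open Groth.Agent.Helper8.Depth Groth.Agent.Helper8.CanMod

section mcm

variable (A : Type u) [CommRing A] [IsCohenMacaulayLocalRing A] (n : ℕ)
  (hn : ringKrullDim A = n)

include hn in
/-- an ideal of height at least two is not a maximal Cohen–Macaulay module. -/
theorem false_of_two_le_height_of_depth (J : Ideal A) (hJtop : J ≠ ⊤) (hht : 2 ≤ J.height)
    (hdepth : (n : ℕ∞) ≤ LocCoh.depth A J) : False := by
  have h1 := cm_height_add_dim_quotient_ideal A J hJtop
  rw [hn] at h1
  have hdA : (n : ℕ∞) ≤ LocCoh.depth A A := by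
    have h2 : Module.supportDim A A = ((LocCoh.depth A A : ℕ∞) : WithBot ℕ∞) :=
      IsCohenMacaulayLocalRing.supportDim_eq_depth
    rw [Module.supportDim_self_eq_ringKrullDim, hn] at h2
    have : (n : ℕ∞) = LocCoh.depth A A := by exact_mod_cast h2
    exact le_of_eq this
  have hvA := (forall_lt_subsingleton_H_iff_le_idealDepth (maximalIdeal A) A n).mpr hdA
  have hvJ := (forall_lt_subsingleton_H_iff_le_idealDepth (maximalIdeal A) J n).mpr hdepth
  have hS := sesSub_shortExact J
  have hvQ : ∀ j : ℕ, j < n - 1 → Subsingleton (H (maximalIdeal A) j (A ⧸ J)) := by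
    intro j hj
    apply subsingleton_of_forall_eq_zero
    intro x
    haveI := hvJ (j + 1) (by omega)
    haveI := hvA j (by omega)
    have hx : δ (maximalIdeal A) j hS x = 0 := Subsingleton.elim _ _
    obtain ⟨y, rfl⟩ := (exact_g_δ (maximalIdeal A) j hS x).mp hx
    have hy : y = 0 := Subsingleton.elim _ _
    rw [hy, map_zero]
  haveI : Nontrivial (A ⧸ J) := Ideal.Quotient.nontrivial_iff.mpr hJtop
  haveI : Module.Finite A (A ⧸ J) := Module.Finite.quotient A J
  have hdQ := (forall_lt_subsingleton_H_iff_le_idealDepth (maximalIdeal A) (A ⧸ J) (n - 1)).mp hvQ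
  have h3 := depth_le_supportDim (A := A) (M := A ⧸ J)
  rw [Module.supportDim_quotient_eq_ringKrullDim] at h3
  have h4 : (((n - 1 : ℕ) : ℕ∞) : WithBot ℕ∞) ≤ ringKrullDim (A ⧸ J) :=
    le_trans (by exact_mod_cast hdQ) h3
  have h5 : ((2 : ℕ∞) : WithBot ℕ∞) + (((n - 1 : ℕ) : ℕ∞) : WithBot ℕ∞) ≤ (n : WithBot ℕ∞) := by
    rw [← h1]
    exact add_le_add (by exact_mod_cast hht) h4
  have h6 : (2 : ℕ∞) + ((n - 1 : ℕ) : ℕ∞) ≤ (n : ℕ∞) := by exact_mod_cast h5
  have h7 : 2 + (n - 1) ≤ n := by exact_mod_cast h6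
  omega

end mcm

section canon

variable (A : Type u) [CommRing A] [IsCohenMacaulayLocalRing A] [IsDomain A] (n : ℕ)
  (hn : ringKrullDim A = n) (E : Type u) [AddCommGroup E] [Module A E]
  (f : ResidueField A →ₗ[A] E) (hf : InjHull.IsInjectiveHull f)
  (K : Type u) [AddCommGroup K] [Module A K] [Module.Finite A K]
  (eK : (K →ₗ[A] E) ≃ₗ[A] H (maximalIdeal A) n A)

include hn hf eK in
/-- a canonical module of a Cohen–Macaulay local domain is torsion-free. -/
theorem canon_torsionFree (a : A) (x : K) (ha : a ≠ 0) (hax : a • x = 0) : x = 0 := by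
  by_contra hx
  obtain ⟨P, hP, hle⟩ := exists_le_isAssociatedPrime_of_isNoetherianRing A x hx
  have hP' : P ∈ associatedPrimes A K := hP
  rw [associatedPrimes_eq n hn f hf K eK] at hP'
  obtain ⟨hPprime, hPdim⟩ := hP'
  have h1 := cm_height_add_dim_quotient_ideal A P hPprime.ne_top
  rw [hPdim, hn] at h1
  have h2 : P.height = 0 := by
    have h3 : P.height + (n : ℕ∞) = (n : ℕ∞) := by exact_mod_cast h1
    have h4 : P.height + (n : ℕ∞) = 0 + (n : ℕ∞) := by rw [h3, zero_add]
    exact (ENat.add_left_injective_of_ne_top (ENat.natCast_ne_top n)) h4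
  rw [Ideal.height_eq_zero_iff_eq_bot] at h2
  apply ha
  have : a ∈ P := hle (by
    rw [Submodule.mem_colon_singleton, hax]
    exact Submodule.zero_mem _)
  rw [h2] at this
  exact this

include hn hf eK in
/-- **Murthy.** over a factorial Cohen–Macaulay local domain a canonical module is free. -/
theorem nonempty_canon_equiv_self [UniqueFactorizationMonoid A] : Nonempty (K ≃ₗ[A] A) := by
  haveI := nontrivial_canon A n hn E K eK
  have htf : ∀ (a : A) (x : K), a ≠ 0 → a • x = 0 → x = 0 :=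
    fun a x ha hax => canon_torsionFree A n hn E f hf K eK a x ha hax
  have hend : ∀ φ : K →ₗ[A] K, ∃ r : A, ∀ k, φ k = r • k := by
    intro φ
    obtain ⟨r, hr⟩ := (toEnd_bijective A n hn E f hf K eK).2 φ
    refine ⟨r, fun k => ?_⟩
    rw [← hr]
    rfl
  obtain ⟨I, hI, ⟨e1⟩⟩ := exists_equiv_ideal htf hend
  obtain ⟨J, hJ0, ⟨e2⟩, hJ⟩ := exists_equiv_not_le_prime I hI
  by_cases hJtop : J = ⊤
  · exact ⟨e1.trans (e2.trans ((LinearEquiv.ofEq J ⊤ hJtop).trans Submodule.topEquiv))⟩
  · exfalso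
    have hht := two_le_height_of_not_le_prime J hJ0 hJ
    obtain ⟨-, -, hcm, hdim⟩ := injectiveDimension_and_cm A n hn E f hf K eK
    have hdK : (n : ℕ∞) = LocCoh.depth A K := by
      unfold IsCohenMacaulayModule at hcm
      rw [hdim] at hcm
      exact_mod_cast hcm
    have hdJ : LocCoh.depth A K = LocCoh.depth A J :=
      idealDepth_congr (I := maximalIdeal A) (e1.trans e2)
    exact false_of_two_le_height_of_depth A n hn J hJtop hht (by rw [← hdJ, ← hdK])

end canon

/-- **S17750.** -/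
theorem isGorensteinLocalRing_quotient_of_ufd (B : Type u) [CommRing B] [IsRegularLocalRing B]
    (p : Ideal B) [p.IsPrime] [UniqueFactorizationMonoid (B ⧸ p)]
    [LocCoh.IsCohenMacaulayLocalRing (B ⧸ p)] : LocCoh.IsGorensteinLocalRing (B ⧸ p) := by
  obtain ⟨n, hn0⟩ := exists_nat_supportDim (A := B ⧸ p) (B ⧸ p)
  have hn : ringKrullDim (B ⧸ p) = n := by
    rw [← Module.supportDim_self_eq_ringKrullDim, hn0]
  obtain ⟨E, _, _, f, hf⟩ :=
    Groth.Agent.Helper1.InjHullL.exists_injectiveHull (R := B ⧸ p) (ResidueField (B ⧸ p))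
  haveI : IsGorensteinLocalRing B :=
    Groth.Agent.Helper8.ABS.isGorensteinLocalRing_of_isRegularLocalRing B
  letI : Module B E := Module.compHom E (algebraMap B (B ⧸ p))
  haveI : IsScalarTower B (B ⧸ p) E := IsScalarTower.of_algebraMap_smul (fun r x => rfl)
  obtain ⟨K, hKfin, ⟨eK⟩⟩ := exists_canon_of_surjective_gorenstein (B ⧸ p) n hn E f hf B
    Ideal.Quotient.mk_surjective
  haveI := hKfin
  obtain ⟨e⟩ := nonempty_canon_equiv_self (B ⧸ p) n hn E f hf K eK
  exact (isGorensteinLocalRing_iff_canon_free (B ⧸ p) n hn E f hf K eK).mpr ⟨e⟩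

end Groth.Agent.Helper8.Murthy
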