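import Mathlib
import Groth.Prelude
import Groth.Agent.Lib.Helper8.NF3
import Groth.Agent.Lib.Helper8.Loc2
import Groth.Agent.Lib.Helper9.NormFlat.Transfer

/-!
# Normal flatness along a nilpotent ideal: localization, and comparison with `A ⧸ I`
-/

set_option autoImplicit false
universe u

namespace Groth.Agent.Helper8.NF

open IsLocalRing LocCoh Groth.Agent.Helper8.Depth Groth.Agent.Helper9.NormFlat
  Groth.Agent.Helper8.Loc

section loc

variable {A : Type u} [CommRing A] (I : Ideal A) (M : Type u) [AddCommGroup M] [Module A M]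

/-- Normal flatness localizes. -/
theorem isNormallyFlat_localizedModule (Q : Ideal A) [Q.IsPrime] (hM : EGA4.IsNormallyFlat I M) :
    EGA4.IsNormallyFlat (I.map (algebraMap A (Localization.AtPrime Q)))
      (LocalizedModule Q.primeCompl M) := by
  intro n
  have hflat := hM n
  have hT : IsScalarTower A (Localization.AtPrime Q ⧸ I.map (algebraMap A (Localization.AtPrime Q)))
      (↥((I.map (algebraMap A (Localization.AtPrime Q))) ^ n •
        (⊤ : Submodule (Localization.AtPrime Q) (LocalizedModule Q.primeCompl M))) ⧸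
      ((I.map (algebraMap A (Localization.AtPrime Q))) • (⊤ : Submodule (Localization.AtPrime Q)
        ↥((I.map (algebraMap A (Localization.AtPrime Q))) ^ n •
        (⊤ : Submodule (Localization.AtPrime Q) (LocalizedModule Q.primeCompl M)))))) := by
    infer_instance
  apply flat_quot_of_flat_localized Q.primeCompl (Localization.AtPrime Q) I
    (grMap Q.primeCompl (Localization.AtPrime Q)
      (LocalizedModule.mkLinearMap Q.primeCompl M) I n)
  infer_instance

/-- `A ⧸ I` is normally flat along `I`. -/
theorem isNormallyFlat_quotient_self : EGA4.IsNormallyFlat I (A ⧸ I) := by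
  intro n
  have hker : ∀ (a : A) (x : A ⧸ I), a ∈ I → a • x = 0 := by
    intro a x ha
    obtain ⟨y, rfl⟩ := Ideal.Quotient.mk_surjective x
    have h1 : a • (Ideal.Quotient.mk I y) = Ideal.Quotient.mk I (a * y) := by
      rw [Algebra.smul_def, Ideal.Quotient.algebraMap_eq, ← map_mul]
    rw [h1]
    exact Ideal.Quotient.eq_zero_iff_mem.mpr (I.mul_mem_right y ha)
  have hItop : (I • (⊤ : Submodule A (A ⧸ I))) = ⊥ := by
    rw [eq_bot_iff, Submodule.smul_le]
    intro a ha x _
    rw [Submodule.mem_bot]
    exact hker a x ha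
  cases n with
  | zero =>
    -- the piece is `(A ⧸ I) ⧸ I (A ⧸ I) ≅ A ⧸ I`, free over `A ⧸ I`
    let N0 : Submodule A (A ⧸ I) := I ^ 0 • (⊤ : Submodule A (A ⧸ I))
    have hN0 : N0 = ⊤ := by
      change I ^ 0 • (⊤ : Submodule A (A ⧸ I)) = ⊤
      rw [pow_zero, Ideal.one_eq_top, Submodule.top_smul]
    have hsub : (I • (⊤ : Submodule A ↥N0)) = ⊥ := by
      rw [eq_bot_iff, Submodule.smul_le]
      intro a ha x _
      rw [Submodule.mem_bot]
      apply Subtype.ext
      exact hker a x.1 ha
    -- an `A ⧸ I`-linear equivalence with `A ⧸ I`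
    let e1 : (↥N0 ⧸ (I • (⊤ : Submodule A ↥N0))) ≃ₗ[A] ↥N0 :=
      (Submodule.quotEquivOfEqBot _ hsub)
    let e2 : ↥N0 ≃ₗ[A] (A ⧸ I) :=
      (LinearEquiv.ofEq N0 ⊤ hN0).trans Submodule.topEquiv
    let e : (↥N0 ⧸ (I • (⊤ : Submodule A ↥N0))) ≃ₗ[A] (A ⧸ I) := e1.trans e2
    let e' : (↥N0 ⧸ (I • (⊤ : Submodule A ↥N0))) ≃ₗ[A ⧸ I] (A ⧸ I) :=
      { e with
        map_smul' := by
          intro r x
          obtain ⟨a, rfl⟩ := Ideal.Quotient.mk_surjective r
          have h1 : (Ideal.Quotient.mk I a) • x = a • x := by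
            rw [← Ideal.Quotient.algebraMap_eq, algebraMap_smul]
          have h2 : (Ideal.Quotient.mk I a) • (e x) = a • (e x) := by
            rw [← Ideal.Quotient.algebraMap_eq, algebraMap_smul]
          simp only [AddHom.toFun_eq_coe, LinearMap.coe_toAddHom, LinearEquiv.coe_coe,
            RingHom.id_apply]
          rw [h1, h2, map_smul] }
    exact Module.Flat.of_linearEquiv e'
  | succ n =>
    have hN : (I ^ (n + 1) • (⊤ : Submodule A (A ⧸ I))) = ⊥ := by
      rw [eq_bot_iff, pow_succ, mul_smul, hItop, Submodule.smul_bot]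
    haveI : Subsingleton ↥(I ^ (n + 1) • (⊤ : Submodule A (A ⧸ I))) := by
      rw [hN]; infer_instance
    infer_instance

end loc

section main

variable {A : Type u} [CommRing A] [IsNoetherianRing A] (I : Ideal A) (hI : IsNilpotent I)
  (M : Type u) [AddCommGroup M] [Module A M] [Module.Finite A M]

include hI in
/-- Dimension and depth of the localizations of a normally flat module of full support along a
nilpotent ideal. -/
theorem supportDim_depth_localizedModule (hsupp : Module.support A M = Set.univ)
    (hM : EGA4.IsNormallyFlat I M) (Q : Ideal A) [hQ : Q.IsPrime] :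
    Module.supportDim (Localization.AtPrime Q) (LocalizedModule Q.primeCompl M) =
        ringKrullDim (Localization.AtPrime Q ⧸ I.map (algebraMap A (Localization.AtPrime Q))) ∧
      depth (Localization.AtPrime Q) (LocalizedModule Q.primeCompl M) =
        depth (Localization.AtPrime Q)
          (Localization.AtPrime Q ⧸ I.map (algebraMap A (Localization.AtPrime Q))) := by
  have hnil : IsNilpotent (I.map (algebraMap A (Localization.AtPrime Q))) := by
    obtain ⟨k, hk⟩ := hI
    refine ⟨k, ?_⟩
    rw [← Ideal.map_pow, hk]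
    exact Ideal.map_bot
  haveI : Nontrivial (LocalizedModule Q.primeCompl M) := by
    have : (⟨Q, hQ⟩ : PrimeSpectrum A) ∈ Module.support A M := by rw [hsupp]; exact Set.mem_univ _
    exact Module.mem_support_iff.mp this
  have hloc := isNormallyFlat_localizedModule I M Q hM
  exact ⟨supportDim_eq_of_isNormallyFlat_of_nilpotent _ _ hnil hloc,
    depth_eq_of_isNormallyFlat_of_nilpotent _ _ hnil hloc⟩

include hI in
theorem support_quotient_eq_univ : Module.support A (A ⧸ I) = Set.univ := by
  rw [Set.eq_univ_iff_forall]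
  intro Q
  rw [Module.mem_support_iff_of_finite, Ideal.annihilator_quotient]
  obtain ⟨k, hk⟩ := hI
  apply Q.isPrime.le_of_pow_le (n := k)
  rw [hk]
  exact bot_le

include hI in
/-- **S4734.** -/
theorem hasSkAt_and_codepth_iff (n : ℕ) (hsupp : Module.support A M = Set.univ)
    (hM : EGA4.IsNormallyFlat I M) (p : Ideal A) [p.IsPrime] :
    (EGA4.HasSkAt n A M p ↔ EGA4.HasSkAt n A (A ⧸ I) p) ∧
      (Module.supportDim (Localization.AtPrime p) (LocalizedModule p.primeCompl M) ≤
          ((depth (Localization.AtPrime p) (LocalizedModule p.primeCompl M) : ℕ∞) : WithBot ℕ∞) + n ↔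
        Module.supportDim (Localization.AtPrime p) (LocalizedModule p.primeCompl (A ⧸ I)) ≤
          ((depth (Localization.AtPrime p) (LocalizedModule p.primeCompl (A ⧸ I)) : ℕ∞) :
            WithBot ℕ∞) + n) := by
  have key : ∀ (Q : Ideal A) [Q.IsPrime],
      Module.supportDim (Localization.AtPrime Q) (LocalizedModule Q.primeCompl M) =
        Module.supportDim (Localization.AtPrime Q) (LocalizedModule Q.primeCompl (A ⧸ I)) ∧
      depth (Localization.AtPrime Q) (LocalizedModule Q.primeCompl M) =
        depth (Localization.AtPrime Q) (LocalizedModule Q.primeCompl (A ⧸ I)) := by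
    intro Q _
    obtain ⟨h1, h2⟩ := supportDim_depth_localizedModule I hI M hsupp hM Q
    obtain ⟨h3, h4⟩ := supportDim_depth_localizedModule I hI (A ⧸ I)
      (support_quotient_eq_univ I hI) (isNormallyFlat_quotient_self I) Q
    exact ⟨h1.trans h3.symm, h2.trans h4.symm⟩
  constructor
  · rw [hasSkAt_iff, hasSkAt_iff]
    refine forall_congr' fun Q => forall_congr' fun hQ => forall_congr' fun _ => ?_
    unfold SkPt
    obtain ⟨h1, h2⟩ := key Q
    rw [h1, h2]
  · obtain ⟨h1, h2⟩ := key p
    rw [h1, h2]

end main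

end Groth.Agent.Helper8.NF
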