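import Mathlib

set_option autoImplicit false

namespace Groth.Agent.Helper8.NV

variable {A : Type*} [CommRing A] {N : Type*} [AddCommGroup N] [Module A N] [IsArtinian A N]

/-- a sup-irreducible submodule of an Artinian module is secondary. -/
lemma smul_surjective_or_pow_smul_eq_zero (S : Submodule A N) (hS : SupIrred S) (x : A) :
    (∀ s ∈ S, ∃ s' ∈ S, x • s' = s) ∨ ∃ k : ℕ, ∀ s ∈ S, x ^ k • s = 0 := by
  -- the chain `x ^ k • S`
  let f : ℕ →o (Submodule A N)ᵒᵈ :=
    { toFun := fun k => OrderDual.toDual (S.map (LinearMap.lsmul A N (x ^ k)))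
      monotone' := by
        intro a b hab
        change S.map (LinearMap.lsmul A N (x ^ b)) ≤ S.map (LinearMap.lsmul A N (x ^ a))
        rintro _ ⟨s, hs, rfl⟩
        refine ⟨x ^ (b - a) • s, S.smul_mem _ hs, ?_⟩
        change x ^ a • x ^ (b - a) • s = x ^ b • s
        rw [smul_smul, ← pow_add, Nat.add_sub_cancel' hab] }
  obtain ⟨k, hk⟩ := IsArtinian.monotone_stabilizes f
  have hk1 : S.map (LinearMap.lsmul A N (x ^ k)) = S.map (LinearMap.lsmul A N (x ^ (k + 1))) :=
    hk (k + 1) (Nat.le_succ k)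
  have hk2 : S.map (LinearMap.lsmul A N (x ^ k)) = S.map (LinearMap.lsmul A N (x ^ (k + k))) :=
    hk (k + k) (Nat.le_add_right k k)
  have hle : S.map (LinearMap.lsmul A N (x ^ k)) ≤ S := by
    rintro _ ⟨s, hs, rfl⟩
    exact S.smul_mem _ hs
  have hsup : S.map (LinearMap.lsmul A N (x ^ k)) ⊔
      (S ⊓ LinearMap.ker (LinearMap.lsmul A N (x ^ k))) = S := by
    apply le_antisymm
    · exact sup_le hle inf_le_left
    · intro s hs
      have h1 : x ^ k • s ∈ S.map (LinearMap.lsmul A N (x ^ (k + k))) := by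
        rw [← hk2]
        exact ⟨s, hs, rfl⟩
      obtain ⟨s', hs', hs's⟩ := h1
      have hs's' : x ^ (k + k) • s' = x ^ k • s := hs's
      rw [Submodule.mem_sup]
      refine ⟨x ^ k • s', ⟨s', hs', rfl⟩, s - x ^ k • s', ⟨?_, ?_⟩, by abel⟩
      · exact S.sub_mem hs (S.smul_mem _ hs')
      · change x ^ k • (s - x ^ k • s') = 0
        rw [smul_sub, smul_smul, ← pow_add, hs's', sub_self]
  rcases hS.2 hsup with h | h
  · left
    intro s hs
    have h1 : s ∈ S.map (LinearMap.lsmul A N (x ^ (k + 1))) := by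
      rw [← hk1, h]
      exact hs
    obtain ⟨s', hs', rfl⟩ := h1
    refine ⟨x ^ k • s', S.smul_mem _ hs', ?_⟩
    change x • x ^ k • s' = x ^ (k + 1) • s'
    rw [smul_smul, ← pow_succ']
  · right
    refine ⟨k, fun s hs => ?_⟩
    have h1 : s ∈ S ⊓ LinearMap.ker (LinearMap.lsmul A N (x ^ k)) := by rw [h]; exact hs
    exact LinearMap.mem_ker.mp h1.2

omit [IsArtinian A N] in
lemma pow_smul_surjective (S : Submodule A N) (x : A)
    (h : ∀ s ∈ S, ∃ s' ∈ S, x • s' = s) (k : ℕ) : ∀ s ∈ S, ∃ s' ∈ S, x ^ k • s' = s := by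
  induction k with
  | zero => exact fun s hs => ⟨s, hs, by rw [pow_zero, one_smul]⟩
  | succ k ih =>
    intro s hs
    obtain ⟨s₁, hs₁, rfl⟩ := h s hs
    obtain ⟨s₂, hs₂, rfl⟩ := ih s₁ hs₁
    exact ⟨s₂, hs₂, by rw [pow_succ', mul_smul]⟩

/-- the radical of the annihilator of a sup-irreducible submodule is prime. -/
lemma isPrime_radical_annihilator (S : Submodule A N) (hS : SupIrred S) :
    (S.annihilator).radical.IsPrime := by
  refine ⟨?_, ?_⟩
  · intro htop
    have h1 : (1 : A) ∈ S.annihilator.radical := by rw [htop]; exact Submodule.mem_top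
    obtain ⟨k, hk⟩ := h1
    rw [one_pow, Submodule.mem_annihilator] at hk
    apply hS.1
    rw [isMin_iff_eq_bot, eq_bot_iff]
    intro s hs
    have := hk s hs
    rw [one_smul] at this
    exact this
  · intro x y hxy
    obtain ⟨k, hk⟩ := hxy
    rw [Submodule.mem_annihilator] at hk
    rcases smul_surjective_or_pow_smul_eq_zero S hS x with h | ⟨j, hj⟩
    · right
      refine ⟨k, ?_⟩
      rw [Submodule.mem_annihilator]
      intro s hs
      obtain ⟨s', hs', rfl⟩ := pow_smul_surjective S x h k s hs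
      rw [smul_smul, ← mul_pow, mul_comm]
      exact hk s' hs'
    · left
      exact ⟨j, Submodule.mem_annihilator.mpr hj⟩

/-- irredundant decomposition of the top submodule into sup-irreducibles. -/
lemma exists_irredundant_decomposition :
    ∃ t : Finset (Submodule A N), t.sup id = ⊤ ∧ (∀ S ∈ t, SupIrred S) ∧
      ∀ S ∈ t, (t.erase S).sup id ≠ ⊤ := by
  classical
  obtain ⟨s, hs, hirr⟩ := exists_supIrred_decomposition (⊤ : Submodule A N)
  have hex : ∃ k : ℕ, ∃ t : Finset (Submodule A N), t ⊆ s ∧ t.sup id = ⊤ ∧ t.card = k :=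
    ⟨s.card, s, Finset.Subset.refl s, hs, rfl⟩
  obtain ⟨t, hts, htsup, htcard⟩ := Nat.find_spec hex
  refine ⟨t, htsup, fun S hS => hirr (hts hS), ?_⟩
  intro S hS htop
  have hlt : (t.erase S).card < Nat.find hex := by
    rw [Finset.card_erase_of_mem hS, htcard]
    have : 0 < t.card := Finset.card_pos.mpr ⟨S, hS⟩
    rw [← htcard]
    omega
  exact Nat.find_min hex hlt
    ⟨t.erase S, (Finset.erase_subset S t).trans hts, htop, rfl⟩

omit [IsArtinian A N] in
/-- surjectivity on each member of a finite family gives surjectivity on the sup. -/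
lemma smul_surjective_on_sup (x : A) (u : Finset (Submodule A N))
    (h : ∀ S ∈ u, ∀ n ∈ S, ∃ n' ∈ S, x • n' = n) :
    ∀ n ∈ u.sup id, ∃ n' : N, x • n' = n := by
  classical
  induction u using Finset.induction_on with
  | empty =>
    intro n hn
    rw [Finset.sup_empty, Submodule.mem_bot] at hn
    exact ⟨0, by rw [hn, smul_zero]⟩
  | insert S u hSu ih =>
    intro n hn
    rw [Finset.sup_insert, id, Submodule.mem_sup] at hn
    obtain ⟨a, ha, b, hb, rfl⟩ := hn
    obtain ⟨a', -, ha'⟩ := h S (Finset.mem_insert_self _ _) a ha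
    obtain ⟨b', hb'⟩ := ih (fun T hT => h T (Finset.mem_insert_of_mem hT)) b hb
    exact ⟨a' + b', by rw [smul_add, ha', hb']⟩

/-- prime avoidance step. -/
lemma exists_le_radical_annihilator (t : Finset (Submodule A N)) (hirr : ∀ S ∈ t, SupIrred S)
    (htsup : t.sup id = ⊤) (𝔪 : Ideal A) (P₀ : Ideal A) [P₀.IsPrime] (hP₀ : ¬ 𝔪 ≤ P₀)
    (h : ∀ x ∈ 𝔪, x ∉ P₀ → ¬ Function.Surjective (fun n : N => x • n)) :
    ∃ S ∈ t, 𝔪 ≤ S.annihilator.radical := by
  classical
  let f : Option (Submodule A N) → Ideal A := fun o =>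
    match o with
    | none => P₀
    | some S => S.annihilator.radical
  let s' : Finset (Option (Submodule A N)) := insert none (t.image some)
  have hunion : (𝔪 : Set A) ⊆ ⋃ i ∈ (s' : Set (Option (Submodule A N))), (f i : Set A) := by
    intro x hx
    by_cases hxP : x ∈ P₀
    · have h1 : (none : Option (Submodule A N)) ∈ (s' : Set (Option (Submodule A N))) :=
        Finset.mem_coe.mpr (Finset.mem_insert_self _ _)
      have h2 : x ∈ (f none : Set A) := hxP
      exact Set.mem_biUnion h1 h2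
    · have hns := h x hx hxP
      by_contra hcon
      apply hns
      have hSsurj : ∀ S ∈ t, ∀ n ∈ S, ∃ n' ∈ S, x • n' = n := by
        intro S hS
        rcases smul_surjective_or_pow_smul_eq_zero S (hirr S hS) x with h1 | ⟨k, hk⟩
        · exact h1
        · exfalso
          apply hcon
          have h1 : (some S : Option (Submodule A N)) ∈ (s' : Set (Option (Submodule A N))) :=
            Finset.mem_coe.mpr (Finset.mem_insert_of_mem (Finset.mem_image_of_mem _ hS))
          have h2 : x ∈ (f (some S) : Set A) := ⟨k, Submodule.mem_annihilator.mpr hk⟩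
          exact Set.mem_biUnion h1 h2
      intro n
      exact smul_surjective_on_sup x t hSsurj n (by rw [htsup]; exact Submodule.mem_top)
  have hPI := (Ideal.subset_union_prime (s := s') (f := f) none none (by
      intro i hi hiP _
      rcases Finset.mem_insert.mp hi with rfl | hi'
      · exact absurd rfl hiP
      · obtain ⟨S, hS, rfl⟩ := Finset.mem_image.mp hi'
        exact isPrime_radical_annihilator S (hirr S hS))).mp hunion
  obtain ⟨i, hi, h𝔪i⟩ := hPI
  rcases Finset.mem_insert.mp hi with rfl | hi'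
  · exact absurd h𝔪i hP₀
  · obtain ⟨S, hS, rfl⟩ := Finset.mem_image.mp hi'
    exact ⟨S, hS, h𝔪i⟩

/-- (Kirby) if no element of `𝔪` outside the prime `P₀` acts surjectively on the Artinian module
`N`, then `𝔪 N ≠ N`. -/
theorem smul_top_ne_top_of_forall_not_surjective (𝔪 : Ideal A) (h𝔪 : 𝔪.FG) (P₀ : Ideal A)
    [P₀.IsPrime] (hP₀ : ¬ 𝔪 ≤ P₀)
    (h : ∀ x ∈ 𝔪, x ∉ P₀ → ¬ Function.Surjective (fun n : N => x • n)) :
    𝔪 • (⊤ : Submodule A N) ≠ ⊤ := by
  classical
  obtain ⟨t, htsup, hirr, hmin⟩ := exists_irredundant_decomposition (A := A) (N := N)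
  obtain ⟨S, hS, h𝔪S⟩ := exists_le_radical_annihilator t hirr htsup 𝔪 P₀ hP₀ h
  obtain ⟨K, hK⟩ := Ideal.exists_pow_le_of_le_radical_of_fg h𝔪S h𝔪
  intro htop
  have hpow : ∀ k : ℕ, (𝔪 ^ k) • (⊤ : Submodule A N) = ⊤ := by
    intro k
    induction k with
    | zero => rw [pow_zero, Ideal.one_eq_top, Submodule.top_smul]
    | succ k ih => rw [pow_succ, Submodule.mul_smul, htop, ih]
  apply hmin S hS
  rw [eq_top_iff]
  intro n _
  have hn : n ∈ (𝔪 ^ K) • (⊤ : Submodule A N) := by rw [hpow K]; exact Submodule.mem_top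
  refine Submodule.smul_induction_on hn ?_ ?_
  · intro a ha n' _
    have hn' : n' ∈ (insert S (t.erase S)).sup id := by
      rw [Finset.insert_erase hS, htsup]
      exact Submodule.mem_top
    rw [Finset.sup_insert, id, Submodule.mem_sup] at hn'
    obtain ⟨u, hu, v, hv, rfl⟩ := hn'
    rw [smul_add, Submodule.mem_annihilator.mp (hK ha) u hu, zero_add]
    exact Submodule.smul_mem _ _ hv
  · intro x y hx hy
    exact Submodule.add_mem _ hx hy

end Groth.Agent.Helper8.NV
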