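import Mathlib

set_option autoImplicit false
universe u

namespace Groth.Agent.Helper8.NV

open IsLocalRing

lemma natCast_le_of_succ_le_add_one {a : WithBot ℕ∞} {n : ℕ}
    (h : ((n + 1 : ℕ) : WithBot ℕ∞) ≤ a + 1) : (n : WithBot ℕ∞) ≤ a := by
  induction a using WithBot.recBotCoe with
  | bot =>
    rw [WithBot.bot_add] at h
    exact absurd h (by simp)
  | coe b =>
    have h1 : ((n + 1 : ℕ) : ℕ∞) ≤ b + 1 := by exact_mod_cast h
    have h2 : (n : ℕ∞) ≤ b := by
      induction b using ENat.recTopCoe with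
      | top => exact le_top
      | coe k =>
        have : n + 1 ≤ k + 1 := by exact_mod_cast h1
        exact_mod_cast Nat.le_of_succ_le_succ this
    exact_mod_cast h2

/-- the dimension of `A ⧸ q` is the coheight of `q`. -/
lemma ringKrullDim_quotient_eq_coheight {A : Type u} [CommRing A] (q : PrimeSpectrum A) :
    ringKrullDim (A ⧸ q.asIdeal) = (Order.coheight q : ℕ∞) := by
  rw [ringKrullDim_quotient, Order.coheight_eq_krullDim_Ici]
  have : PrimeSpectrum.zeroLocus (q.asIdeal : Set A) = Set.Ici q := by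
    ext Q
    rw [PrimeSpectrum.mem_zeroLocus, Set.mem_Ici]
    exact Iff.rfl
  rw [this]

variable {A : Type u} [CommRing A] [IsDomain A] [IsNoetherianRing A] [IsLocalRing A]

/-- in a local domain of dimension `n + 1`, every nonzero nonunit lies in a prime of
dimension `n`. -/
lemma exists_prime_mem_dim_eq (n : ℕ) (hn : ringKrullDim A = ((n + 1 : ℕ) : WithBot ℕ∞)) (x : A)
    (hx : x ∈ maximalIdeal A) (hx0 : x ≠ 0) :
    ∃ q : Ideal A, q.IsPrime ∧ x ∈ q ∧ ringKrullDim (A ⧸ q) = n := by
  have hreg : IsSMulRegular A x := by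
    intro a b hab
    exact mul_left_cancel₀ hx0 hab
  have h1 := ringKrullDim_quotient_span_singleton_succ_eq_ringKrullDim hreg hx
  rw [hn] at h1
  have h2 : (n : WithBot ℕ∞) ≤ ringKrullDim (A ⧸ Ideal.span {x}) :=
    natCast_le_of_succ_le_add_one h1.ge
  rw [ringKrullDim_quotient, Order.le_krullDim_iff] at h2
  obtain ⟨l, hl⟩ := h2
  let q : PrimeSpectrum A := l.head.1
  have hxq : x ∈ q.asIdeal := by
    have := l.head.2
    rw [PrimeSpectrum.mem_zeroLocus] at this
    exact this (Ideal.mem_span_singleton_self x)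
  have hmono : StrictMono (fun y : PrimeSpectrum.zeroLocus ((Ideal.span {x} : Ideal A) : Set A) =>
      (y.1 : PrimeSpectrum A)) := fun _ _ h => h
  have hge : (n : ℕ∞) ≤ Order.coheight q := by
    have := Order.length_le_coheight_head (p := l.map _ hmono)
    rw [LTSeries.map_length, hl, LTSeries.head_map] at this
    exact this
  have hbot : (⊥ : PrimeSpectrum A) < q := by
    rw [bot_lt_iff_ne_bot]
    intro h
    have : x ∈ (⊥ : PrimeSpectrum A).asIdeal := h ▸ hxq
    exact hx0 this
  have hle : Order.coheight q ≤ (n : ℕ∞) := by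
    have h3 := Order.coheight_add_one_le hbot
    have h4 : ((Order.coheight (⊥ : PrimeSpectrum A) : ℕ∞) : WithBot ℕ∞) ≤
        ((n + 1 : ℕ) : WithBot ℕ∞) := by
      rw [← hn]
      exact Order.coheight_le_krullDim _
    have h5 : Order.coheight (⊥ : PrimeSpectrum A) ≤ ((n + 1 : ℕ) : ℕ∞) := by exact_mod_cast h4
    have h6 : Order.coheight q + 1 ≤ ((n : ℕ∞) + 1) := by
      refine h3.trans (h5.trans ?_)
      push_cast
      exact le_rfl
    exact (ENat.add_le_add_iff_right ENat.one_ne_top).mp h6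
  refine ⟨q.asIdeal, q.isPrime, hxq, ?_⟩
  rw [ringKrullDim_quotient_eq_coheight, le_antisymm hle hge]
  rfl

end Groth.Agent.Helper8.NV
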