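import Groth.Agent.Lib.Helper8.NV1
import Groth.Agent.Lib.Helper8.NV2
import Groth.Agent.Lib.Helper8.LC34
import Groth.Agent.Lib.Helper8.LC46
import Groth.Agent.Lib.Helper8.LC25
import Groth.Agent.Lib.Helper8.LC40
import Groth.Agent.Lib.Helper8.LC19
import Groth.Agent.Lib.Helper8.LC28

set_option autoImplicit false
universe u
open CategoryTheory CategoryTheory.Limits Opposite

namespace Groth.Agent.Helper8.NV

open LocCoh Groth.Agent.Helper8.LC Abelian IsLocalRing

section General

variable {R : Type u} [CommRing R] [IsNoetherianRing R] (I : Ideal R)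

omit [IsNoetherianRing R] in
/-- an element killing a module kills its local cohomology. -/
lemma smul_eq_zero_of_forall_smul_eq_zero (i : ℕ) (M : Type u) [AddCommGroup M] [Module R M]
    (x : R) (hx : ∀ m : M, x • m = 0) (y : H I i M) : x • y = 0 := by
  rw [← map_smul_id I i (ModuleCat.of R M) x y]
  have h0 : x • 𝟙 (ModuleCat.of R M) = 0 := by
    apply ModuleCat.hom_ext
    apply LinearMap.ext
    intro m
    exact hx m
  rw [h0]
  exact map_zero' I i _ _ y

/-- the top local cohomology module is `I`-divisible: `H^d_I(M) = I H^d_I(M)` when `cd I ≤ d`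
and `d ≥ 1`. -/
theorem smul_top_eq_top_of_cdLE (d : ℕ) (hd : 0 < d) (hcd : CdLE R I d) (M : Type u)
    [AddCommGroup M] [Module R M] : I • (⊤ : Submodule R (H I d M)) = ⊤ := by
  obtain ⟨r, a, ha⟩ := Submodule.fg_iff_exists_fin_generating_family.mp
    (IsNoetherian.noetherian I)
  have haI : ∀ j, a j ∈ I := by
    intro j
    rw [← ha]
    exact Submodule.subset_span ⟨j, rfl⟩
  let π : (Fin r → R) →ₗ[R] R := Fintype.linearCombination R a
  have hrange : LinearMap.range π = I := by
    rw [Fintype.range_linearCombination, ha]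
  -- the map `σ : M^r → M`
  let σ : (Fin r → M) →ₗ[R] M := ∑ j, a j • (LinearMap.proj j : (Fin r → M) →ₗ[R] M)
  have hσ : ∀ v, σ v = ∑ j, a j • v j := by
    intro v
    change (∑ j, a j • (LinearMap.proj j : (Fin r → M) →ₗ[R] M)) v = _
    rw [LinearMap.sum_apply]
    rfl
  have hmem : ∀ c ∈ I, ∀ m : M, c • m ∈ LinearMap.range σ := by
    intro c hc m
    rw [← hrange] at hc
    obtain ⟨w, rfl⟩ := hc
    refine ⟨fun j => w j • m, ?_⟩
    rw [hσ]
    change _ = (Fintype.linearCombination R a w) • m
    rw [Fintype.linearCombination_apply, Finset.sum_smul]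
    apply Finset.sum_congr rfl
    intro j _
    rw [smul_smul, mul_comm, smul_eq_mul]
  let L : Submodule R M := LinearMap.range σ
  -- `M / L` is power torsion
  have hT : IsPowerTorsion I (M ⧸ L) := by
    intro q
    obtain ⟨m, rfl⟩ := Submodule.Quotient.mk_surjective _ q
    refine ⟨1, fun c hc => ?_⟩
    rw [pow_one] at hc
    rw [← Submodule.Quotient.mk_smul, Submodule.Quotient.mk_eq_zero]
    exact hmem c hc m
  have hQ : Subsingleton (H I d (M ⧸ L)) := subsingleton_of_isPowerTorsion I d hd _ hT
  -- surjectivity of `H(subtype)`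
  have hS₁ := sesSub_shortExact L
  have hsurj₁ : Function.Surjective ((localCohomology I d).map (ModuleCat.ofHom L.subtype)) := by
    intro y
    have h1 : ((localCohomology I d).map (sesSub L).g) y = 0 := hQ.elim _ _
    exact (exact_f_g I d hS₁ y).mp h1
  -- surjectivity of `H(rangeRestrict)`
  have hσ' : Function.Surjective σ.rangeRestrict := LinearMap.surjective_rangeRestrict σ
  have hS₂ := LinearMap.shortExact_shortComplexKer hσ'
  have hK : Subsingleton (H I (d + 1) (LinearMap.ker σ.rangeRestrict)) :=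
    hcd _ (d + 1) (Nat.lt_succ_self d)
  have hsurj₂ : Function.Surjective
      ((localCohomology I d).map (ModuleCat.ofHom σ.rangeRestrict)) := by
    intro y
    have h1 : δ I d hS₂ y = 0 := hK.elim _ _
    exact (exact_g_δ I d hS₂ y).mp h1
  rw [eq_top_iff]
  intro y _
  obtain ⟨y₁, rfl⟩ := hsurj₁ y
  obtain ⟨y₂, rfl⟩ := hsurj₂ y₁
  have hcomp : ((localCohomology I d).map (ModuleCat.ofHom L.subtype))
      (((localCohomology I d).map (ModuleCat.ofHom σ.rangeRestrict)) y₂) =
      ((localCohomology I d).map (ModuleCat.ofHom σ)) y₂ := by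
    have : ModuleCat.ofHom σ = ModuleCat.ofHom σ.rangeRestrict ≫ ModuleCat.ofHom L.subtype := rfl
    rw [this, Functor.map_comp]
    rfl
  rw [hcomp]
  have hsum : ModuleCat.ofHom σ = ∑ j, a j •
      ModuleCat.ofHom (LinearMap.proj j : (Fin r → M) →ₗ[R] M) := by
    apply ModuleCat.hom_ext
    rw [ModuleCat.hom_sum]
    rfl
  rw [hsum, map_sum']
  apply Submodule.sum_mem
  intro j _
  rw [map_smul_hom]
  exact Submodule.smul_mem_smul (haI j) Submodule.mem_top

end General

section Quot

variable {A : Type u} [CommRing A] [IsLocalRing A]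

lemma isLocalRing_quotient (q : Ideal A) [q.IsPrime] : IsLocalRing (A ⧸ q) :=
  IsLocalRing.of_surjective' (Ideal.Quotient.mk q) Ideal.Quotient.mk_surjective

lemma map_maximalIdeal_quotient (q : Ideal A) [q.IsPrime] :
    haveI := isLocalRing_quotient q
    (maximalIdeal A).map (algebraMap A (A ⧸ q)) = maximalIdeal (A ⧸ q) := by
  haveI := isLocalRing_quotient q
  haveI := IsLocalHom.of_surjective (Ideal.Quotient.mk q) Ideal.Quotient.mk_surjective
  have hq : q ≠ ⊤ := Ideal.IsPrime.ne_top ‹_›
  ext x
  obtain ⟨x, rfl⟩ := Ideal.Quotient.mk_surjective x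
  simp [sup_eq_left.mpr (le_maximalIdeal hq)]

end Quot

end Groth.Agent.Helper8.NV
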