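import Groth.Agent.Lib.Helper8.NV3

set_option autoImplicit false
universe u
open CategoryTheory CategoryTheory.Limits Opposite

namespace Groth.Agent.Helper8.NV

open LocCoh Groth.Agent.Helper8.LC Abelian IsLocalRing

section Step

variable {A : Type u} [CommRing A] [IsDomain A] [IsNoetherianRing A] [IsLocalRing A]

omit [IsDomain A] [IsNoetherianRing A] in
lemma maximalIdeal_ne_bot_of_dim_pos (n : ℕ)
    (hn : ringKrullDim A = ((n + 1 : ℕ) : WithBot ℕ∞)) : ¬ maximalIdeal A ≤ ⊥ := by
  intro h
  have hm : maximalIdeal A = ⊥ := le_bot_iff.mp h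
  have hf : IsField A := IsLocalRing.isField_iff_maximalIdeal_eq.mpr hm
  have h0 := ringKrullDim_eq_zero_of_isField hf
  rw [hn] at h0
  have : ((n + 1 : ℕ) : WithBot ℕ∞) = ((0 : ℕ) : WithBot ℕ∞) := by rw [h0]; rfl
  have h2 : n + 1 = 0 := by exact_mod_cast this
  omega

lemma torsionSub_maximalIdeal_eq_bot (n : ℕ)
    (hn : ringKrullDim A = ((n + 1 : ℕ) : WithBot ℕ∞)) :
    DRing.torsionSub (maximalIdeal A) A = ⊥ := by
  have hne := maximalIdeal_ne_bot_of_dim_pos n hn
  obtain ⟨y, hy, hy0⟩ : ∃ y ∈ maximalIdeal A, y ≠ 0 := by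
    by_contra hcon
    push Not at hcon
    apply hne
    intro z hz
    rw [Ideal.mem_bot]
    exact hcon z hz
  rw [eq_bot_iff]
  rintro a ⟨k, hk⟩
  have h1 := hk (y ^ k) (Ideal.pow_mem_pow hy k)
  rw [smul_eq_mul, mul_eq_zero] at h1
  rcases h1 with h1 | h1
  · exact absurd (pow_eq_zero_iff (n := k) (by
      rintro rfl
      rw [pow_zero] at h1
      exact one_ne_zero h1) |>.mp h1) hy0
  · exact h1

end Step

/-- Grothendieck's non-vanishing theorem for local domains. -/
theorem nontrivial_H_dim_of_domain (n : ℕ) :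
    ∀ (A : Type u) [CommRing A] [IsDomain A] [IsNoetherianRing A] [IsLocalRing A],
      ringKrullDim A = (n : WithBot ℕ∞) → Nontrivial (H (maximalIdeal A) n A) := by
  induction n with
  | zero =>
    intro A _ _ _ _ hn
    -- `A` is a field
    have hf : IsField A := by
      haveI : Ring.KrullDimLE 0 A := by
        rw [Ring.krullDimLE_iff, hn]
      exact Ring.KrullDimLE.isField_of_isDomain
    have hm : maximalIdeal A = ⊥ := IsLocalRing.isField_iff_maximalIdeal_eq.mp hf
    have h1 : (1 : A) ∈ DRing.torsionSub (maximalIdeal A) A := by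
      refine ⟨1, fun a ha => ?_⟩
      rw [pow_one, hm, Ideal.mem_bot] at ha
      rw [ha, zero_smul]
    let e := h0Equiv (maximalIdeal A) (ModuleCat.of A A)
    refine ⟨⟨e.symm ⟨1, h1⟩, 0, ?_⟩⟩
    intro h
    have h2 : (⟨1, h1⟩ : DRing.torsionSub (maximalIdeal A) A) = 0 := by
      rw [← e.apply_symm_apply ⟨1, h1⟩, h, map_zero]
    exact one_ne_zero (congrArg Subtype.val h2)
  | succ n ih =>
    intro A _ _ _ _ hn
    by_contra hnt
    rw [not_nontrivial_iff_subsingleton] at hnt
    let m := maximalIdeal A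
    have hcdtop : CdLE A m (n + 1) := cdLE_of_ringKrullDim_le m (n + 1) hn.le
    have hcd : CdLE A m n := by
      apply (cdLE_iff_self m n).mp
      intro i hi
      rcases Nat.lt_or_ge (n + 1) i with h | h
      · exact hcdtop A i h
      · have : i = n + 1 := by omega
        subst this
        exact hnt
    haveI hart : IsArtinian A (H m n A) := isArtinian_H_maximalIdeal n A
    have hP₀ : ¬ m ≤ ⊥ := maximalIdeal_ne_bot_of_dim_pos n hn
    haveI : (⊥ : Ideal A).IsPrime := Ideal.isPrime_bot
    have hfg : m.FG := IsNoetherian.noetherian m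
    -- no nonzero element of `m` acts surjectively
    have hns : ∀ x ∈ m, x ∉ (⊥ : Ideal A) →
        ¬ Function.Surjective (fun z : H m n A => x • z) := by
      intro x hx hx0 hsurj
      rw [Ideal.mem_bot] at hx0
      obtain ⟨q, hq, hxq, hdim⟩ := exists_prime_mem_dim_eq n hn x hx hx0
      haveI := hq
      haveI := isLocalRing_quotient q
      have hnt' : Nontrivial (H (maximalIdeal (A ⧸ q)) n (A ⧸ q)) := ih (A ⧸ q) hdim
      rw [← map_maximalIdeal_quotient q] at hnt'
      obtain ⟨φ, -⟩ := exists_semilinear_equiv (R := A) (R' := A ⧸ q) m n (A ⧸ q)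
      haveI : Nontrivial (H m n (A ⧸ q)) := φ.symm.toEquiv.nontrivial
      -- `H(π)` is surjective
      have hS := sesSub_shortExact (q : Submodule A A)
      have hq1 : Subsingleton (H m (n + 1) q) := hcd q (n + 1) (Nat.lt_succ_self n)
      have hsurjπ : Function.Surjective
          ((localCohomology m n).map (sesSub (q : Submodule A A)).g) := by
        intro y
        have h1 : δ m n hS y = 0 := hq1.elim _ _
        exact (exact_g_δ m n hS y).mp h1
      -- hence `H^n_m(A/q) = 0`
      have hzero : ∀ y : H m n (A ⧸ q), y = 0 := by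
        intro y
        obtain ⟨z, rfl⟩ := hsurjπ y
        obtain ⟨z', rfl⟩ := hsurj z
        change ((localCohomology m n).map (sesSub (q : Submodule A A)).g) (x • z') = 0
        rw [map_smul]
        apply smul_eq_zero_of_forall_smul_eq_zero m n (A ⧸ q) x
        intro b
        obtain ⟨b, rfl⟩ := Ideal.Quotient.mk_surjective b
        change Ideal.Quotient.mk q (x * b) = 0
        rw [Ideal.Quotient.eq_zero_iff_mem]
        exact Ideal.mul_mem_right _ _ hxq
      obtain ⟨y₁, y₂, hy⟩ := exists_pair_ne (H m n (A ⧸ q))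
      exact hy (by rw [hzero y₁, hzero y₂])
    have hK := smul_top_ne_top_of_forall_not_surjective (N := H m n A) m hfg ⊥ hP₀ hns
    apply hK
    rcases Nat.eq_zero_or_pos n with rfl | hnpos
    · -- `H^0_m(A) = 0`
      haveI : Subsingleton (H m 0 A) :=
        subsingleton_h0_of_torsionSub_eq_bot m A (torsionSub_maximalIdeal_eq_bot 0 hn)
      exact Subsingleton.elim _ _
    · exact smul_top_eq_top_of_cdLE m n hnpos hcd A

end Groth.Agent.Helper8.NV
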