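import Groth.Agent.Lib.Helper8.NV7

set_option autoImplicit false
universe u
open CategoryTheory CategoryTheory.Limits Opposite

namespace Groth.Agent.Helper8.NV

open LocCoh Groth.Agent.Helper8.LC Abelian IsLocalRing

section Local

variable {R : Type u} [CommRing R] [IsNoetherianRing R] [IsLocalRing R]

omit [IsNoetherianRing R] in
lemma maximalIdeal_smul_top_ne_top (M : Type u) [AddCommGroup M] [Module R M]
    [Module.Finite R M] [Nontrivial M] : maximalIdeal R • (⊤ : Submodule R M) ≠ ⊤ := by
  intro h
  have h1 := Submodule.eq_bot_of_le_smul_of_le_jacobson_bot (maximalIdeal R)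
    (⊤ : Submodule R M) Module.Finite.fg_top h.ge (maximalIdeal_le_jacobson _)
  exact top_ne_bot h1

lemma exists_supportDim_eq (M : Type u) [AddCommGroup M] [Module R M] [Nontrivial M] :
    ∃ n : ℕ, Module.supportDim R M = (n : WithBot ℕ∞) := by
  have h1 : Module.supportDim R M ≠ ⊥ := Module.supportDim_ne_bot_of_nontrivial R M
  have h2 : Module.supportDim R M < ⊤ :=
    (Module.supportDim_le_ringKrullDim R M).trans_lt ringKrullDim_lt_top
  generalize Module.supportDim R M = a at h1 h2
  induction a using WithBot.recBotCoe with
  | bot => exact absurd rfl h1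
  | coe b =>
    induction b using ENat.recTopCoe with
    | top => exact absurd h2 (lt_irrefl _)
    | coe k => exact ⟨k, rfl⟩

/-- a nonzero finite module over a Noetherian local ring has exactly one nonvanishing local
cohomology module iff it is Cohen--Macaulay. -/
theorem existsUnique_nontrivial_H_iff (M : Type u) [AddCommGroup M] [Module R M]
    [Module.Finite R M] [Nontrivial M] :
    (∃! i : ℕ, Nontrivial (H (maximalIdeal R) i M)) ↔ IsCohenMacaulayModule R M := by
  let m := maximalIdeal R
  have hmM := maximalIdeal_smul_top_ne_top (R := R) M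
  obtain ⟨d, hd⟩ := ENat.ne_top_iff_exists.mp (Depth.idealDepth_ne_top hmM)
  obtain ⟨n, hn⟩ := exists_supportDim_eq (R := R) M
  have hHd : Nontrivial (H m d M) := nontrivial_of_idealDepth_eq m hmM d hd.symm
  have hHn : Nontrivial (H m n M) := nontrivial_H_supportDim M n hn
  have hlt : ∀ i, i < d → Subsingleton (H m i M) := fun i hi =>
    subsingleton_of_lt_idealDepth m hmM i (by rw [← hd]; exact_mod_cast hi)
  have hgt : ∀ i, n < i → Subsingleton (H m i M) := fun i hi =>
    subsingleton_of_supportDim_lt m M i (by rw [hn]; exact_mod_cast hi)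
  unfold IsCohenMacaulayModule depth
  rw [hn, ← hd]
  constructor
  · rintro ⟨i, hi, huniq⟩
    have h1 := huniq d hHd
    have h2 := huniq n hHn
    rw [h1, ← h2]
    rfl
  · intro h
    have hnd : n = d := by exact_mod_cast h
    refine ⟨d, hHd, fun j hj => ?_⟩
    by_contra hne
    rcases lt_or_gt_of_ne hne with h | h
    · exact not_subsingleton _ (hlt j h)
    · exact not_subsingleton _ (hgt j (hnd ▸ h))

end Local

end Groth.Agent.Helper8.NV
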