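import Mathlib
import Groth.Prelude
import Groth.Agent.Lib.Helper8.Nag11
import Groth.Agent.Lib.Helper8.Nag2
import Groth.Agent.Lib.Helper8.N1Desc2
import Groth.Agent.Lib.Helper8.AdicFS17
import Groth.Agent.Lib.Helper8.CompFib3
import Groth.Agent.Lib.Helper6.Japanese

/-!
# The Nagata property descends along smooth surjective ring maps
-/

set_option autoImplicit false
universe u

namespace Groth.Agent.Helper8.Nag

open TensorProduct

/-- Noetherianity descends along faithfully flat ring maps. -/
theorem isNoetherianRing_of_faithfullyFlat' (A : Type*) (B : Type*) [CommRing A] [CommRing B]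
    [Algebra A B] [Module.FaithfullyFlat A B] [IsNoetherianRing B] : IsNoetherianRing A := by
  rw [isNoetherianRing_iff, isNoetherian_iff']
  have hB : WellFoundedGT (Ideal B) := by
    rw [← isNoetherian_iff', ← isNoetherianRing_iff]
    infer_instance
  have hmono : StrictMono (fun I : Ideal A => I.map (algebraMap A B)) := by
    intro I J hIJ
    refine lt_of_le_of_ne (Ideal.map_mono hIJ.le) (fun h => ?_)
    have := congrArg (Ideal.comap (algebraMap A B)) h
    rw [Ideal.comap_map_eq_self_of_faithfullyFlat, Ideal.comap_map_eq_self_of_faithfullyFlat]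
      at this
    exact hIJ.ne this
  exact StrictMono.wellFoundedGT hmono

/-- A Noetherian formally smooth algebra over a Noetherian domain is reduced. -/
theorem isReduced_of_formallySmooth_of_isDomain (C T : Type u) [CommRing C] [IsDomain C]
    [IsNoetherianRing C] [CommRing T] [IsNoetherianRing T] [Algebra C T]
    [Algebra.FormallySmooth C T] : IsReduced T := by
  have hreg := Groth.Agent.Helper8.AdicFS.isRegularHom_of_formallySmooth C T
  haveI : Module.Flat C T := hreg.1
  haveI : (⊥ : Ideal C).IsPrime := Ideal.isPrime_bot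
  have h1 : Algebra.IsGeometricallyReduced (⊥ : Ideal C).ResidueField ((⊥ : Ideal C).Fiber T) :=
    Groth.Agent.Helper8.CompFib.isGeometricallyReduced_of_isGeometricallyRegular _ _
      (hreg.2 ⊥).2
  haveI : IsReduced ((⊥ : Ideal C).Fiber T) := Algebra.isReduced_of_isGeometricallyReduced
    (k := (⊥ : Ideal C).ResidueField)
  have hinj : Function.Injective (algebraMap C (⊥ : Ideal C).ResidueField) := by
    rw [injective_iff_map_eq_zero]
    intro c hc
    have := (Ideal.algebraMap_residueField_eq_zero (I := (⊥ : Ideal C))).mp hc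
    simpa using this
  exact isReduced_of_injective
    (Algebra.TensorProduct.includeRight : T →ₐ[C] (⊥ : Ideal C).ResidueField ⊗[C] T)
    (Algebra.TensorProduct.includeRight_injective hinj)

attribute [local instance] Algebra.TensorProduct.rightAlgebra in
/-- **S9401.** The Nagata property descends along smooth ring maps surjective on spectra. -/
theorem isNagata_of_smooth_of_comap_surjective (R : Type u) [CommRing R] (S : Type u)
    [CommRing S] [Algebra R S] [Algebra.Smooth R S]
    (hs : Function.Surjective (PrimeSpectrum.comap (algebraMap R S))) (hS : CAlg.IsNagata S) :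
    CAlg.IsNagata R := by
  haveI := hS.1
  haveI : Module.FaithfullyFlat R S := Module.FaithfullyFlat.of_comap_surjective hs
  haveI : IsNoetherianRing R := isNoetherianRing_of_faithfullyFlat' R S
  refine ⟨inferInstance, fun p _ => ?_⟩
  intro L _ _ _ _ hfin
  haveI : FiniteDimensional (FractionRing (R ⧸ p)) L := hfin
  refine Groth.Agent.Lib.Helper6.Japanese.key_n2 (R ⧸ p) L fun C hC => ?_
  haveI : Module.Finite (R ⧸ p) C := hC
  letI : Algebra R L := ((algebraMap (R ⧸ p) L).comp (algebraMap R (R ⧸ p))).toAlgebra
  haveI : IsScalarTower R (R ⧸ p) L := IsScalarTower.of_algebraMap_eq fun _ => rfl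
  haveI : Module.Finite R C := Module.Finite.trans (R ⧸ p) C
  haveI : IsNoetherianRing C :=
    isNoetherian_of_tower R (isNoetherian_of_isNoetherianRing_of_finite R C)
  haveI : Module.Finite S (C ⊗[R] S) :=
    Module.Finite.equiv (Algebra.TensorProduct.commRight R S C).toLinearEquiv
  haveI : IsNoetherianRing (C ⊗[R] S) :=
    isNoetherian_of_tower S (isNoetherian_of_isNoetherianRing_of_finite S (C ⊗[R] S))
  haveI : IsReduced (C ⊗[R] S) := isReduced_of_formallySmooth_of_isDomain C (C ⊗[R] S)
  have hT : CAlg.IsNagata (C ⊗[R] S) := isNagata_of_finite S (C ⊗[R] S) hS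
  refine Groth.Agent.Helper8.N1Desc.isN1_of_faithfullyFlat C (C ⊗[R] S) fun q _ _ => ?_
  exact isN1_of_isN2 _ (hT.2 q)

end Groth.Agent.Helper8.Nag
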