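import Mathlib
import Groth.Prelude
import Groth.Agent.Lib.Helper8.Nag1

/-!
# N-2 passes to quasi-finite extensions of finite type (via Zariski's main theorem)
-/

set_option autoImplicit false

universe u

namespace Groth.Agent.Helper8.Nag

open Groth.Agent.Lib.Helper6.Japanese

/-- **S2114.** -/
theorem isN2_of_quasiFinite {R S : Type u} [CommRing R] [IsDomain R] [IsNoetherianRing R]
    [CommRing S] [IsDomain S] [Algebra R S] (hinj : Function.Injective (algebraMap R S))
    [Algebra.FiniteType R S] [Algebra.QuasiFinite R S] (hR : CAlg.IsN2 R) : CAlg.IsN2 S := by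
  classical
  -- local statement
  have hloc : ∀ p : Ideal S, p.IsPrime → ∃ g : S, g ∉ p ∧
      ∀ (_ : IsDomain (Localization.Away g)), CAlg.IsN2 (Localization.Away g) := by
    intro p hp
    haveI := hp
    obtain ⟨S', hfg, r, hr, hbij⟩ :=
      Algebra.QuasiFiniteAt.exists_fg_and_exists_notMem_and_awayMap_bijective (R := R) p
    haveI : Module.Finite R S' := ⟨(Submodule.fg_top _).mpr hfg⟩
    have hinj' : Function.Injective (algebraMap R S') := by
      intro a b hab
      exact hinj (congrArg Subtype.val hab)
    have hS' : CAlg.IsN2 S' := isN2_of_finite_injective R S' hinj' hR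
    refine ⟨r.1, hr, fun hdom => ?_⟩
    have hr0 : r ≠ 0 := by
      intro h
      apply hr
      rw [h]
      exact p.zero_mem
    haveI : IsDomain (Localization.Away r) :=
      IsLocalization.isDomain_localization (powers_le_nonZeroDivisors_of_noZeroDivisors hr0)
    have h1 : CAlg.IsN2 (Localization.Away r) :=
      n2_loc S' (Submonoid.powers r) (Localization.Away r) hS'
    exact Groth.Agent.Helper8.Tate.isN2_of_ringEquiv (RingEquiv.ofBijective _ hbij) h1
  choose g hg1 hg2 using hloc
  have hspan : Ideal.span {x : S | ∃ (p : Ideal S) (hp : p.IsPrime), x = g p hp} = ⊤ := by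
    by_contra hne
    obtain ⟨m, hm, hle⟩ := Ideal.exists_le_maximal _ hne
    exact hg1 m hm.isPrime (hle (Ideal.subset_span ⟨m, hm.isPrime, rfl⟩))
  obtain ⟨s', hs'sub, hs'⟩ := (Ideal.span_eq_top_iff_finite _).1 hspan
  have hne0 : ∀ i : s', (i : S) ≠ 0 := by
    intro i
    obtain ⟨p, hp, hi⟩ := hs'sub i.2
    intro h0
    apply hg1 p hp
    rw [← hi, h0]
    exact p.zero_mem
  haveI : ∀ i : s', IsDomain (Localization.Away (i : S)) := fun i =>
    IsLocalization.isDomain_localization (powers_le_nonZeroDivisors_of_noZeroDivisors (hne0 i))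
  refine n2_cover S (ι := s') (fun i => (i : S)) ?_ (fun i => Localization.Away (i : S)) ?_
  · rw [Subtype.range_coe_subtype]
    exact hs'
  · intro i
    obtain ⟨p, hp, hi⟩ := hs'sub i.2
    have h1 := hg2 p hp
    rw [← hi] at h1
    exact h1 inferInstance

end Groth.Agent.Helper8.Nag
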