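import Mathlib
import Groth.Prelude
import Groth.Agent.Lib.Helper8.Nag8

/-!
# `p`-th roots in the completion of a Nagata local domain descend
-/

set_option autoImplicit false
universe u

namespace Groth.Agent.Helper8.Nag

open IsLocalRing TensorProduct Polynomial

/-- **S0577.** -/
theorem exists_pow_eq_of_isNagata (A : Type u) [CommRing A] [IsDomain A] [IsLocalRing A]
    (hA : CAlg.IsNagata A) (p : ℕ) [Fact p.Prime] [CharP A p] (a : A) (α : EGA4.Cpl A)
    (hα : α ^ p = algebraMap A (EGA4.Cpl A) a) : ∃ b : A, b ^ p = a := by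
  haveI := hA.1
  have hp : p.Prime := Fact.out
  obtain ⟨b, hb⟩ := IsAlgClosed.exists_pow_nat_eq
    (algebraMap A (AlgebraicClosure (FractionRing A)) a) hp.pos
  have hint : IsIntegral A b := by
    refine ⟨X ^ p - C a, monic_X_pow_sub_C a hp.ne_zero, ?_⟩
    simp [hb]
  haveI : Module.Finite A (Algebra.adjoin A {b}) :=
    Module.Finite.iff_fg.mpr hint.fg_adjoin_singleton
  haveI : IsReduced ((Algebra.adjoin A {b}) ⊗[A] EGA4.Cpl A) :=
    isReduced_tensor_cpl_of_isNagata A hA (Algebra.adjoin A {b})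
  let b' : Algebra.adjoin A {b} := ⟨b, Algebra.subset_adjoin (Set.mem_singleton b)⟩
  have hb' : b' ^ p = algebraMap A (Algebra.adjoin A {b}) a := Subtype.ext hb
  have key : b' ⊗ₜ[A] (1 : EGA4.Cpl A) = (1 : Algebra.adjoin A {b}) ⊗ₜ[A] α := by
    rcases subsingleton_or_nontrivial ((Algebra.adjoin A {b}) ⊗[A] EGA4.Cpl A) with h | h
    · exact Subsingleton.elim _ _
    · haveI : CharP ((Algebra.adjoin A {b}) ⊗[A] EGA4.Cpl A) p :=
        CharP.of_ringHom_of_ne_zero (algebraMap A _) p hp.ne_zero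
      apply frobenius_inj ((Algebra.adjoin A {b}) ⊗[A] EGA4.Cpl A) p
      simp only [frobenius_def, Algebra.TensorProduct.tmul_pow, one_pow, hb', hα]
      rw [Algebra.algebraMap_eq_smul_one, Algebra.algebraMap_eq_smul_one, TensorProduct.smul_tmul]
  let N : Submodule A (Algebra.adjoin A {b}) :=
    LinearMap.range (Algebra.linearMap A (Algebra.adjoin A {b}))
  have h1 : N.mkQ.rTensor (EGA4.Cpl A) (b' ⊗ₜ[A] (1 : EGA4.Cpl A)) =
      N.mkQ.rTensor (EGA4.Cpl A) ((1 : Algebra.adjoin A {b}) ⊗ₜ[A] α) := congrArg _ key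
  rw [LinearMap.rTensor_tmul, LinearMap.rTensor_tmul] at h1
  have hπ1 : N.mkQ (1 : Algebra.adjoin A {b}) = 0 :=
    (Submodule.Quotient.mk_eq_zero N).mpr ⟨1, by simp⟩
  rw [hπ1, TensorProduct.zero_tmul] at h1
  have h2 : (1 : EGA4.Cpl A) ⊗ₜ[A] (N.mkQ b') = 0 := by
    have := congrArg (TensorProduct.comm A _ _) h1
    simpa using this
  haveI : Module.FaithfullyFlat A (EGA4.Cpl A) := Module.FaithfullyFlat.of_flat_of_isLocalHom
  have h3 : N.mkQ b' = 0 :=
    Module.FaithfullyFlat.tensorProduct_mk_injective (A := A) (B := EGA4.Cpl A)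
      ((Algebra.adjoin A {b}) ⧸ N) (by simpa using h2)
  obtain ⟨c, hc⟩ := (Submodule.Quotient.mk_eq_zero N).mp h3
  refine ⟨c, ?_⟩
  have hinj : Function.Injective (algebraMap A (AlgebraicClosure (FractionRing A))) := by
    rw [IsScalarTower.algebraMap_eq A (FractionRing A) (AlgebraicClosure (FractionRing A)),
      RingHom.coe_comp]
    exact (algebraMap (FractionRing A) _).injective.comp (IsFractionRing.injective A _)
  apply hinj
  rw [map_pow, ← hb]
  congr 1
  exact congrArg Subtype.val hc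

end Groth.Agent.Helper8.Nag
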