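import Mathlib
import Groth.Prelude.Def_BlowUp2

/-!
# Basic facts on the affine blow-up algebra `A[I/a] ⊆ A_a`
-/

set_option autoImplicit false
universe u

namespace Groth.Agent.Helper8.NerB

open BlowUp

variable {A : Type u} [CommRing A] (I : Ideal A) (a : A)

/-- The fraction `x / a` as an element of the affine blow-up algebra. -/
noncomputable def frac (x : A) (hx : x ∈ I) : affineAlgebra A I a :=
  ⟨IsLocalization.mk' (Localization.Away a) x ⟨a, Submonoid.mem_powers a⟩,
    Algebra.subset_adjoin ⟨x, hx, rfl⟩⟩

theorem coe_frac (x : A) (hx : x ∈ I) :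
    ((frac I a x hx : affineAlgebra A I a) : Localization.Away a) =
      IsLocalization.mk' (Localization.Away a) x ⟨a, Submonoid.mem_powers a⟩ := rfl

theorem algebraMap_mul_frac (x : A) (hx : x ∈ I) :
    algebraMap A (affineAlgebra A I a) a * frac I a x hx = algebraMap A (affineAlgebra A I a) x := by
  apply Subtype.ext
  rw [Subalgebra.coe_mul, coe_frac, Subalgebra.coe_algebraMap, Subalgebra.coe_algebraMap]
  exact IsLocalization.mk'_spec' (Localization.Away a) x ⟨a, Submonoid.mem_powers a⟩

theorem algebraMap_mul_cancel {y z : affineAlgebra A I a}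
    (h : algebraMap A (affineAlgebra A I a) a * y = algebraMap A (affineAlgebra A I a) a * z) :
    y = z := by
  apply Subtype.ext
  have h1 := congrArg (fun w : affineAlgebra A I a => (w : Localization.Away a)) h
  simp only [Subalgebra.coe_mul, Subalgebra.coe_algebraMap] at h1
  exact (IsLocalization.Away.algebraMap_isUnit (S := Localization.Away a) a).mul_left_cancel h1

/-- Induction principle for the affine blow-up algebra. -/
theorem induction_on {P : affineAlgebra A I a → Prop}
    (halg : ∀ x : A, P (algebraMap A (affineAlgebra A I a) x))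
    (hfrac : ∀ (x : A) (hx : x ∈ I), P (frac I a x hx))
    (hadd : ∀ y z, P y → P z → P (y + z)) (hmul : ∀ y z, P y → P z → P (y * z))
    (y : affineAlgebra A I a) : P y := by
  obtain ⟨y, hy⟩ := y
  refine Algebra.adjoin_induction (p := fun y hy => P ⟨y, hy⟩) ?_ ?_ ?_ ?_ hy
  · rintro _ ⟨x, hx, rfl⟩
    exact hfrac x hx
  · intro x
    exact halg x
  · intro y z hy hz h1 h2
    exact hadd ⟨y, hy⟩ ⟨z, hz⟩ h1 h2
  · intro y z hy hz h1 h2
    exact hmul ⟨y, hy⟩ ⟨z, hz⟩ h1 h2

/-- Every element of the blow-up algebra becomes an element of `A` after multiplication with a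
power of `a`. -/
theorem exists_pow_mul_eq (y : affineAlgebra A I a) :
    ∃ (n : ℕ) (x : A), algebraMap A (affineAlgebra A I a) a ^ n * y =
      algebraMap A (affineAlgebra A I a) x := by
  obtain ⟨n, x, hx⟩ := IsLocalization.Away.surj a (y : Localization.Away a)
  refine ⟨n, x, Subtype.ext ?_⟩
  simp only [Subalgebra.coe_mul, Subalgebra.coe_pow, Subalgebra.coe_algebraMap]
  rw [mul_comm]
  exact hx

/-- `A_a` is the localization of the blow-up algebra at `a`. -/
theorem isLocalization_away :
    IsLocalization.Away (algebraMap A (affineAlgebra A I a) a) (Localization.Away a) := by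
  rw [IsLocalization.Away, isLocalization_iff]
  refine ⟨?_, ?_, ?_⟩
  · rintro ⟨_, n, rfl⟩
    simp only [map_pow]
    have : algebraMap (affineAlgebra A I a) (Localization.Away a)
        (algebraMap A (affineAlgebra A I a) a) = algebraMap A (Localization.Away a) a := rfl
    rw [this]
    exact (IsLocalization.Away.algebraMap_isUnit a).pow n
  · intro z
    obtain ⟨n, x, hx⟩ := IsLocalization.Away.surj a z
    refine ⟨⟨algebraMap A (affineAlgebra A I a) x,
      ⟨algebraMap A (affineAlgebra A I a) a ^ n, n, rfl⟩⟩, ?_⟩
    simp only [map_pow]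
    exact hx
  · intro y z hyz
    exact ⟨1, by rw [Subtype.ext hyz]⟩

/-- The blow-up algebra of a finitely generated ideal is of finite type. -/
theorem finiteType (hI : I.FG) : Algebra.FiniteType A (affineAlgebra A I a) := by
  classical
  obtain ⟨S, hS⟩ := hI
  rw [← Subalgebra.fg_iff_finiteType]
  refine ⟨S.image (fun x => IsLocalization.mk' (Localization.Away a) x
    ⟨a, Submonoid.mem_powers a⟩), ?_⟩
  apply le_antisymm
  · apply Algebra.adjoin_mono
    intro q hq
    simp only [Finset.coe_image, Set.mem_image, Finset.mem_coe] at hq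
    obtain ⟨x, hx, rfl⟩ := hq
    exact ⟨x, by rw [← hS]; exact Ideal.subset_span hx, rfl⟩
  · apply Algebra.adjoin_le
    rintro _ ⟨x, hx, rfl⟩
    rw [← hS] at hx
    refine Submodule.span_induction (p := fun x _ => IsLocalization.mk' (Localization.Away a) x
      ⟨a, Submonoid.mem_powers a⟩ ∈ Algebra.adjoin A _) ?_ ?_ ?_ ?_ hx
    · intro x hx
      apply Algebra.subset_adjoin
      simp only [Finset.coe_image, Set.mem_image, Finset.mem_coe]
      exact ⟨x, hx, rfl⟩
    · rw [IsLocalization.mk'_zero]
      exact Subalgebra.zero_mem _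
    · intro x y _ _ hx hy
      have hadd : IsLocalization.mk' (Localization.Away a) (x + y) ⟨a, Submonoid.mem_powers a⟩ =
          IsLocalization.mk' (Localization.Away a) x ⟨a, Submonoid.mem_powers a⟩ +
          IsLocalization.mk' (Localization.Away a) y ⟨a, Submonoid.mem_powers a⟩ := by
        rw [IsLocalization.mk'_eq_iff_eq_mul, add_mul, IsLocalization.mk'_spec,
          IsLocalization.mk'_spec, map_add]
      rw [hadd]
      exact Subalgebra.add_mem _ hx hy
    · intro r x _ hx
      rw [smul_eq_mul, ← IsLocalization.smul_mk']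
      exact Subalgebra.smul_mem _ hx r

end Groth.Agent.Helper8.NerB
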