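import Mathlib

/-!
# Derivations into the residue field from formal smoothness of the residue field extension
-/

set_option autoImplicit false
universe u

namespace Groth.Agent.Helper8.NerB

open IsLocalRing

/-- Let `R → T` be a local homomorphism of local rings with formally smooth residue field
extension. Let `𝔟 ⊆ 𝔪_T` be an ideal containing `𝔪_T²` and the image of `𝔪_R`, and `x₀ ∈ 𝔪_T ∖ 𝔟`
with `𝔪_T = 𝔟 + (x₀)`. Then there is an `R`-derivation `T → κ(T)` vanishing on `𝔟` with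
`D x₀ = 1`. -/
theorem exists_derivation_residueField
    {R T : Type u} [CommRing R] [IsLocalRing R] [CommRing T] [IsLocalRing T] [Algebra R T]
    [IsLocalHom (algebraMap R T)]
    [Algebra.FormallySmooth (ResidueField R) (ResidueField T)]
    (𝔟 : Ideal T) (h𝔟m : 𝔟 ≤ maximalIdeal T) (hsq : maximalIdeal T ^ 2 ≤ 𝔟)
    (hR : ∀ r ∈ maximalIdeal R, algebraMap R T r ∈ 𝔟)
    (x₀ : T) (hx₀m : x₀ ∈ maximalIdeal T) (hx₀ : x₀ ∉ 𝔟)
    (hgen : maximalIdeal T ≤ 𝔟 ⊔ Ideal.span {x₀}) :
    ∃ D : Derivation R T (ResidueField T), D x₀ = 1 ∧ ∀ y ∈ 𝔟, D y = 0 := by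
  classical
  let T' := T ⧸ 𝔟
  let k := ResidueField R
  let κ := ResidueField T
  letI algkT' : Algebra k T' :=
    (Ideal.Quotient.lift (maximalIdeal R) (algebraMap R T') (fun r hr => by
      rw [IsScalarTower.algebraMap_apply R T T']
      exact Ideal.Quotient.eq_zero_iff_mem.mpr (hR r hr))).toAlgebra
  haveI : IsScalarTower R k T' := IsScalarTower.of_algebraMap_eq (fun r => rfl)
  -- the residue map
  let g₀ : T' →+* κ := Ideal.Quotient.factor h𝔟m
  have hg₀mk : ∀ t : T, g₀ (Ideal.Quotient.mk 𝔟 t) = residue T t := fun t => rfl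
  let g : T' →ₐ[k] κ :=
    { g₀ with
      commutes' := by
        intro r
        obtain ⟨r, rfl⟩ := Ideal.Quotient.mk_surjective r
        rfl }
  have hgmk : ∀ t : T, g (Ideal.Quotient.mk 𝔟 t) = residue T t := fun t => rfl
  have hgsurj : Function.Surjective g := by
    intro y
    obtain ⟨t, rfl⟩ := Ideal.Quotient.mk_surjective y
    exact ⟨Ideal.Quotient.mk 𝔟 t, rfl⟩
  let I : Ideal T' := RingHom.ker (g : T' →+* κ)
  have hImem : ∀ t : T, Ideal.Quotient.mk 𝔟 t ∈ I ↔ t ∈ maximalIdeal T := by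
    intro t
    rw [RingHom.mem_ker]
    change residue T t = 0 ↔ _
    exact residue_eq_zero_iff t
  have hI : I ^ 2 = ⊥ := by
    rw [eq_bot_iff, pow_two, Ideal.mul_le]
    intro y hy z hz
    obtain ⟨y, rfl⟩ := Ideal.Quotient.mk_surjective y
    obtain ⟨z, rfl⟩ := Ideal.Quotient.mk_surjective z
    rw [hImem] at hy hz
    rw [Ideal.mem_bot, ← map_mul, Ideal.Quotient.eq_zero_iff_mem]
    apply hsq
    rw [pow_two]
    exact Ideal.mul_mem_mul hy hz
  have hnil : IsNilpotent (RingHom.ker (g : T' →+* κ)) := ⟨2, hI⟩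
  let σ : κ →ₐ[k] T' := Algebra.FormallySmooth.liftOfSurjective (AlgHom.id k κ) g hgsurj hnil
  have hσ : ∀ y, g (σ y) = y := fun y =>
    Algebra.FormallySmooth.liftOfSurjective_apply (AlgHom.id k κ) g hgsurj hnil y
  let f : T →ₐ[R] T' := (σ.restrictScalars R).comp (IsScalarTower.toAlgHom R T κ)
  have hf : ∀ t, f t = σ (residue T t) := fun t => rfl
  have e : (Ideal.Quotient.mkₐ R I).comp f = IsScalarTower.toAlgHom R T (T' ⧸ I) := by
    ext t
    change Ideal.Quotient.mk I (f t) = Ideal.Quotient.mk I (Ideal.Quotient.mk 𝔟 t)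
    rw [Ideal.Quotient.eq, RingHom.mem_ker, map_sub]
    change g (f t) - g (Ideal.Quotient.mk 𝔟 t) = 0
    rw [hf, hσ, hgmk, sub_self]
  let D₀ : Derivation R T I := derivationToSquareZeroOfLift I hI f e
  have hD₀ : ∀ t, (D₀ t : T') = f t - Ideal.Quotient.mk 𝔟 t := fun t => rfl
  -- the linear form on `I`
  let L : T →ₗ[T] T' := LinearMap.toSpanSingleton T T' (Ideal.Quotient.mk 𝔟 x₀)
  have hL : ∀ t, L t = Ideal.Quotient.mk 𝔟 (t * x₀) := by
    intro t
    simp only [L, LinearMap.toSpanSingleton_apply, Algebra.smul_def, map_mul]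
    rfl
  have hker : LinearMap.ker L = maximalIdeal T := by
    ext t
    rw [LinearMap.mem_ker, hL, Ideal.Quotient.eq_zero_iff_mem]
    constructor
    · intro h
      by_contra hnm
      have hu : IsUnit t := by
        by_contra hnu
        exact hnm ((mem_maximalIdeal t).mpr hnu)
      obtain ⟨u, rfl⟩ := hu
      apply hx₀
      have := 𝔟.mul_mem_left (↑u⁻¹ : T) h
      rwa [← mul_assoc, Units.inv_mul, one_mul] at this
    · intro h
      apply hsq
      rw [pow_two]
      exact Ideal.mul_mem_mul h hx₀m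
  have hrange : ∀ y : I, (y : T') ∈ LinearMap.range L := by
    rintro ⟨y, hy⟩
    obtain ⟨z, rfl⟩ := Ideal.Quotient.mk_surjective y
    rw [hImem] at hy
    obtain ⟨b, hb, c, hc, rfl⟩ := Submodule.mem_sup.mp (hgen hy)
    obtain ⟨t, rfl⟩ := Ideal.mem_span_singleton'.mp hc
    refine ⟨t, ?_⟩
    rw [hL]
    simp only [map_add]
    rw [Ideal.Quotient.eq_zero_iff_mem.mpr hb, zero_add]
  let ι : I →ₗ[T] LinearMap.range L :=
    LinearMap.codRestrict (LinearMap.range L) ((Submodule.subtype I).restrictScalars T) hrange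
  have hle : LinearMap.ker L ≤ LinearMap.ker (Algebra.linearMap T κ) := by
    rw [hker]
    intro t ht
    rw [LinearMap.mem_ker, Algebra.linearMap_apply]
    exact (residue_eq_zero_iff t).mpr ht
  let ρ : I →ₗ[T] κ :=
    (LinearMap.ker L).liftQ (Algebra.linearMap T κ) hle ∘ₗ
      L.quotKerEquivRange.symm.toLinearMap ∘ₗ ι
  have hρ : ∀ (t : T) (h : Ideal.Quotient.mk 𝔟 (t * x₀) ∈ I),
      ρ ⟨Ideal.Quotient.mk 𝔟 (t * x₀), h⟩ = residue T t := by
    intro t h
    have h1 : ι ⟨Ideal.Quotient.mk 𝔟 (t * x₀), h⟩ = ⟨L t, LinearMap.mem_range_self L t⟩ := by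
      apply Subtype.ext
      exact (hL t).symm
    have h2 : L.quotKerEquivRange.symm ⟨L t, LinearMap.mem_range_self L t⟩ =
        (LinearMap.ker L).mkQ t :=
      LinearMap.quotKerEquivRange_symm_apply_image L t (LinearMap.mem_range_self L t)
    simp only [ρ, LinearMap.comp_apply, LinearEquiv.coe_coe, h1, h2]
    rfl
  let D : Derivation R T κ := ρ.compDer D₀
  have hDapply : ∀ t, D t = ρ (D₀ t) := fun t => rfl
  refine ⟨-D, ?_, ?_⟩
  · have h1 : D₀ x₀ = -⟨Ideal.Quotient.mk 𝔟 (1 * x₀), by rw [one_mul, hImem]; exact hx₀m⟩ := by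
      apply Subtype.ext
      rw [hD₀, hf, (residue_eq_zero_iff x₀).mpr hx₀m, map_zero, zero_sub]
      simp
    rw [Derivation.neg_apply, hDapply, h1, map_neg, neg_neg, hρ, map_one]
  · intro y hy
    have h1 : D₀ y = 0 := by
      apply Subtype.ext
      rw [hD₀, hf, (residue_eq_zero_iff y).mpr (h𝔟m hy), map_zero,
        Ideal.Quotient.eq_zero_iff_mem.mpr hy, sub_zero]
      rfl
    rw [Derivation.neg_apply, hDapply, h1, map_zero, neg_zero]

end Groth.Agent.Helper8.NerB
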