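import Mathlib
import Groth.Agent.Lib.Helper8.NerB2

/-!
# Minimal generators of the maximal ideal modulo the uniformizer and dual derivations
-/

set_option autoImplicit false
universe u

namespace Groth.Agent.Helper8.NerB

open IsLocalRing

/-- Let `p` be a prime of the Noetherian `R`-algebra `A` containing the uniformizer `π`, with
formally smooth residue field extension. Then there are `x₁, …, x_c ∈ p` generating together with
`π` the maximal ideal of `A_p`, and `R`-derivations `A → κ(p)` dual to them. -/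
theorem exists_minimal_generators
    {R A : Type u} [CommRing R] [IsLocalRing R] [CommRing A] [IsNoetherianRing A] [Algebra R A]
    (π : R) (hπ : maximalIdeal R = Ideal.span {π})
    (p : Ideal A) [p.IsPrime] (hπp : algebraMap R A π ∈ p)
    [IsLocalHom (algebraMap R (Localization.AtPrime p))]
    [Algebra.FormallySmooth (ResidueField R) (ResidueField (Localization.AtPrime p))] :
    ∃ (c : ℕ) (x : Fin c → A), (∀ i, x i ∈ p) ∧
      maximalIdeal (Localization.AtPrime p) =
        Ideal.span (Set.range (algebraMap A (Localization.AtPrime p) ∘ x)) ⊔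
          Ideal.span {algebraMap A (Localization.AtPrime p) (algebraMap R A π)} ∧
      ∀ i₀, ∃ D : Derivation R A (ResidueField (Localization.AtPrime p)),
        D (x i₀) = 1 ∧ ∀ i, i ≠ i₀ → D (x i) = 0 := by
  classical
  set T := Localization.AtPrime p with hT
  set ϖ : T := algebraMap A T (algebraMap R A π) with hϖ
  have hϖm : ϖ ∈ maximalIdeal T := by
    rw [← Localization.AtPrime.map_eq_maximalIdeal]
    exact Ideal.mem_map_of_mem _ hπp
  let Pc : ℕ → Prop := fun c => ∃ x : Fin c → A, (∀ i, x i ∈ p) ∧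
    maximalIdeal T = Ideal.span (Set.range (algebraMap A T ∘ x)) ⊔ Ideal.span {ϖ}
  have hex : ∃ c, Pc c := by
    obtain ⟨S, hS⟩ := (isNoetherianRing_iff_ideal_fg A).mp inferInstance p
    obtain ⟨c, x, hx⟩ : ∃ (c : ℕ) (x : Fin c → A), Set.range x = (S : Set A) := by
      refine ⟨S.card, fun i => ((S.equivFin.symm i : S) : A), ?_⟩
      ext y
      constructor
      · rintro ⟨i, rfl⟩
        exact (S.equivFin.symm i).2
      · intro hy
        exact ⟨S.equivFin ⟨y, hy⟩, by simp⟩
    refine ⟨c, x, fun i => ?_, ?_⟩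
    · rw [← hS]
      exact Ideal.subset_span (hx ▸ ⟨i, rfl⟩)
    · have h1 : maximalIdeal T = Ideal.span (Set.range (algebraMap A T ∘ x)) := by
        have h0 : p.map (algebraMap A T) = Ideal.span (Set.range (algebraMap A T ∘ x)) := by
          have h00 := congrArg (Ideal.map (algebraMap A T)) hS.symm
          rw [h00, Ideal.map_span, Set.range_comp, hx]
        rw [← h0]
        exact Localization.AtPrime.map_eq_maximalIdeal.symm
      apply le_antisymm
      · rw [h1]
        exact le_sup_left
      · refine sup_le ?_ ?_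
        · rw [← h1]
        · rw [Ideal.span_le]
          rintro _ rfl
          exact hϖm
  obtain ⟨x, hxp, hgen⟩ := Nat.find_spec hex
  have hmin : ∀ c' < Nat.find hex, ¬ Pc c' := fun c' hc' => Nat.find_min hex hc'
  generalize Nat.find hex = c at x hxp hgen hmin
  refine ⟨c, x, hxp, hgen, fun i₀ => ?_⟩
  rcases c with _ | n
  · exact i₀.elim0
  -- the ideal `𝔟`
  set N : Ideal T := Ideal.span ((algebraMap A T ∘ x) '' {i | i ≠ i₀}) ⊔ Ideal.span {ϖ} with hN
  set 𝔟 : Ideal T := maximalIdeal T ^ 2 ⊔ N with h𝔟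
  have hxm : ∀ i, algebraMap A T (x i) ∈ maximalIdeal T := by
    intro i
    rw [← Localization.AtPrime.map_eq_maximalIdeal]
    exact Ideal.mem_map_of_mem _ (hxp i)
  have hNm : N ≤ maximalIdeal T := by
    refine sup_le ?_ ?_
    · rw [Ideal.span_le]
      rintro _ ⟨i, -, rfl⟩
      exact hxm i
    · rw [Ideal.span_le]
      rintro _ rfl
      exact hϖm
  have h𝔟m : 𝔟 ≤ maximalIdeal T := sup_le (Ideal.pow_le_self two_ne_zero) hNm
  have hsq : maximalIdeal T ^ 2 ≤ 𝔟 := le_sup_left
  have hR : ∀ r ∈ maximalIdeal R, algebraMap R T r ∈ 𝔟 := by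
    intro r hr
    rw [hπ] at hr
    obtain ⟨s, rfl⟩ := Ideal.mem_span_singleton'.mp hr
    rw [map_mul]
    apply Ideal.mul_mem_left
    apply le_sup_right (a := maximalIdeal T ^ 2)
    apply le_sup_right (a := Ideal.span ((algebraMap A T ∘ x) '' {i | i ≠ i₀}))
    rw [IsScalarTower.algebraMap_apply R A T]
    exact Ideal.subset_span rfl
  have hgen' : maximalIdeal T ≤ 𝔟 ⊔ Ideal.span {algebraMap A T (x i₀)} := by
    rw [hgen]
    refine sup_le ?_ ?_
    · rw [Ideal.span_le]
      rintro _ ⟨i, rfl⟩
      by_cases hi : i = i₀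
      · subst hi
        exact le_sup_right (a := 𝔟) (Ideal.subset_span rfl)
      · apply le_sup_left (b := Ideal.span {algebraMap A T (x i₀)})
        apply le_sup_right (a := maximalIdeal T ^ 2)
        apply le_sup_left (b := Ideal.span {ϖ})
        exact Ideal.subset_span ⟨i, hi, rfl⟩
    · refine le_trans ?_ (le_sup_left (a := 𝔟))
      exact le_trans le_sup_right (le_sup_right (a := maximalIdeal T ^ 2))
  have hx₀ : algebraMap A T (x i₀) ∉ 𝔟 := by
    intro hmem
    have h1 : maximalIdeal T ≤ 𝔟 := by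
      refine le_trans hgen' (sup_le le_rfl ?_)
      rw [Ideal.span_le]
      rintro _ rfl
      exact hmem
    have h2 : maximalIdeal T ≤ N := by
      apply Submodule.le_of_le_smul_of_le_jacobson_bot (I := maximalIdeal T)
        (IsNoetherian.noetherian _) (IsLocalRing.maximalIdeal_le_jacobson ⊥)
      rw [smul_eq_mul, ← pow_two, sup_comm]
      exact h1
    apply hmin n (Nat.lt_succ_self n)
    refine ⟨x ∘ Fin.succAbove i₀, fun i => hxp _, le_antisymm ?_ ?_⟩
    · refine le_trans h2 (sup_le_sup_right ?_ _)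
      apply Ideal.span_mono
      rintro _ ⟨i, hi, rfl⟩
      obtain ⟨j, rfl⟩ := Fin.exists_succAbove_eq hi
      exact ⟨j, rfl⟩
    · refine sup_le ?_ ?_
      · rw [Ideal.span_le]
        rintro _ ⟨j, rfl⟩
        exact hxm _
      · rw [Ideal.span_le]
        rintro _ rfl
        exact hϖm
  obtain ⟨D, hD1, hD0⟩ := exists_derivation_residueField 𝔟 h𝔟m hsq hR
    (algebraMap A T (x i₀)) (hxm i₀) hx₀ hgen'
  refine ⟨D.compAlgebraMap A, ?_, fun i hi => ?_⟩
  · rw [Derivation.compAlgebraMap_apply]
    exact hD1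
  · rw [Derivation.compAlgebraMap_apply]
    apply hD0
    apply le_sup_right (a := maximalIdeal T ^ 2)
    apply le_sup_left (b := Ideal.span {ϖ})
    exact Ideal.subset_span ⟨i, hi, rfl⟩

end Groth.Agent.Helper8.NerB
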