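import Mathlib

/-!
# Clearing denominators in a generation statement for the maximal ideal of a localization
-/

set_option autoImplicit false
universe u

namespace Groth.Agent.Helper8.NerB

open IsLocalRing

/-- If the maximal ideal of `A_p` is generated by the images of `x i` and `ϖ`, then every element
of `p` is, up to a factor outside `p`, a combination of the `x i` and `ϖ`. -/
theorem exists_mul_eq_of_mem {A : Type u} [CommRing A] (p : Ideal A) [p.IsPrime] {c : ℕ}
    (x : Fin c → A) (ϖ : A)
    (hgen : maximalIdeal (Localization.AtPrime p) =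
      Ideal.span (Set.range (algebraMap A (Localization.AtPrime p) ∘ x)) ⊔
        Ideal.span {algebraMap A (Localization.AtPrime p) ϖ})
    (y : A) (hy : y ∈ p) :
    ∃ s : A, s ∉ p ∧ ∃ (coef : Fin c → A) (b : A), s * y = ∑ i, coef i * x i + ϖ * b := by
  classical
  set T := Localization.AtPrime p with hT
  have hym : algebraMap A T y ∈ maximalIdeal T := by
    rw [← Localization.AtPrime.map_eq_maximalIdeal]
    exact Ideal.mem_map_of_mem _ hy
  rw [hgen] at hym
  obtain ⟨z, hz, w, hw, hzw⟩ := Submodule.mem_sup.mp hym
  rw [Ideal.span, Submodule.mem_span_range_iff_exists_fun] at hz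
  obtain ⟨t, rfl⟩ := hz
  obtain ⟨t₀, rfl⟩ := Ideal.mem_span_singleton'.mp hw
  -- clear denominators
  let g : Option (Fin c) → T := fun o => o.elim t₀ t
  obtain ⟨⟨s, hs⟩, hsint⟩ := IsLocalization.exist_integer_multiples_of_finite p.primeCompl g
  choose a ha using hsint
  simp only [Algebra.smul_def] at ha
  have hsome : ∀ i, algebraMap A T (a (some i)) = algebraMap A T s * t i := fun i => ha (some i)
  have hnone : algebraMap A T (a none) = algebraMap A T s * t₀ := ha none
  have h1 : algebraMap A T (s * y) =
      algebraMap A T (∑ i, a (some i) * x i + ϖ * a none) := by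
    simp only [map_add, map_sum, map_mul, hsome, hnone]
    rw [← hzw, mul_add, Finset.mul_sum]
    congr 1
    · refine Finset.sum_congr rfl fun i _ => ?_
      rw [smul_eq_mul, Function.comp_apply]
      ring
    · ring
  rw [IsLocalization.eq_iff_exists p.primeCompl] at h1
  obtain ⟨⟨s', hs'⟩, h2⟩ := h1
  simp only at h2
  refine ⟨s' * s, ?_, fun i => s' * a (some i), s' * a none, ?_⟩
  · intro hmem
    rcases Ideal.IsPrime.mem_or_mem inferInstance hmem with h | h
    · exact hs' h
    · exact hs h
  · rw [mul_assoc, h2, mul_add, Finset.mul_sum]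
    congr 1
    · refine Finset.sum_congr rfl fun i _ => ?_
      ring
    · ring

end Groth.Agent.Helper8.NerB
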