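import Mathlib
import Groth.Agent.Lib.Helper8.NerB1

/-!
# Generators of the differentials of the Néron blow-up after base change to the valuation ring
-/

set_option autoImplicit false
universe u

namespace Groth.Agent.Helper8.NerB

open TensorProduct KaehlerDifferential IsLocalRing BlowUp

section alpha

variable (R A A' Λ : Type u) [CommRing R] [CommRing A] [CommRing A'] [CommRing Λ] [Algebra R A]
  [Algebra R A'] [Algebra A A'] [IsScalarTower R A A'] [Algebra A Λ] [Algebra A' Λ]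
  [IsScalarTower A A' Λ]

/-- The canonical map `Λ ⊗_A Ω_{A/R} → Λ ⊗_{A'} Ω_{A'/R}`. -/
noncomputable def alpha : Λ ⊗[A] Ω[A⁄R] →ₗ[Λ] Λ ⊗[A'] Ω[A'⁄R] :=
  LinearMap.liftBaseChange Λ
    (((TensorProduct.mk A' Λ Ω[A'⁄R] 1).restrictScalars A) ∘ₗ (KaehlerDifferential.map R R A A'))

theorem alpha_tmul_D (l : Λ) (a : A) :
    alpha R A A' Λ (l ⊗ₜ D R A a) = l ⊗ₜ D R A' (algebraMap A A' a) := by
  simp [alpha, LinearMap.liftBaseChange_tmul, smul_tmul']

variable {R A A' Λ}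

theorem one_tmul_smul (r : A') (ω : Ω[A'⁄R]) :
    (1 : Λ) ⊗ₜ[A'] (r • ω) = algebraMap A' Λ r • ((1 : Λ) ⊗ₜ[A'] ω) := by
  rw [← smul_tmul, smul_tmul', Algebra.smul_def, smul_eq_mul]

theorem one_tmul_D_mul (y z : A') :
    (1 : Λ) ⊗ₜ[A'] D R A' (y * z) =
      algebraMap A' Λ y • ((1 : Λ) ⊗ₜ[A'] D R A' z) +
        algebraMap A' Λ z • ((1 : Λ) ⊗ₜ[A'] D R A' y) := by
  rw [Derivation.leibniz, tmul_add, one_tmul_smul, one_tmul_smul]

end alpha

section gen

variable {R A A' Λ : Type u} [CommRing R] [CommRing A] [Algebra R A] [CommRing Λ] [IsLocalRing Λ]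
  [Algebra A Λ] [CommRing A'] [Algebra R A'] [Algebra A A'] [IsScalarTower R A A'] [Algebra A' Λ]
  [IsScalarTower A A' Λ]

/-- The generator count: `Λ ⊗ Ω_{A'/R}` is generated by the differentials of the fractions
`x i / ϖ` and the images of the complementary basis vectors of `Λ ⊗ Ω_{A/R}`. Here `A'` is an
abstract model of the blow-up algebra `A[p/ϖ]`, described by the fractions `fr x`, the
cancellation of `ϖ` and an induction principle. -/
theorem span_eq_top [Module.Finite Λ (Λ ⊗[A'] Ω[A'⁄R])]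
    (p : Ideal A) (hp : ∀ s, s ∉ p → IsUnit (algebraMap A Λ s)) (ϖ : A)
    (hDϖ : D R A' (algebraMap A A' ϖ) = 0)
    (hπm : algebraMap A Λ ϖ ∈ maximalIdeal Λ)
    (fr : ∀ x, x ∈ p → A')
    (hfr : ∀ x hx, algebraMap A A' ϖ * fr x hx = algebraMap A A' x)
    (hcancel : ∀ y z : A', algebraMap A A' ϖ * y = algebraMap A A' ϖ * z → y = z)
    (hind : ∀ P : A' → Prop, (∀ a, P (algebraMap A A' a)) → (∀ x hx, P (fr x hx)) →
      (∀ y z, P y → P z → P (y + z)) → (∀ y z, P y → P z → P (y * z)) → ∀ y, P y)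
    {c : ℕ} (x : Fin c → A) (hx : ∀ i, x i ∈ p)
    (hgen : ∀ y ∈ p, ∃ s : A, s ∉ p ∧ ∃ (coef : Fin c → A) (b : A),
        s * y = ∑ i, coef i * x i + ϖ * b)
    {ι₂ : Type*} [Fintype ι₂] (e : Module.Basis (Fin c ⊕ ι₂) Λ (Λ ⊗[A] Ω[A⁄R]))
    (he : ∀ i, e (Sum.inl i) = (1 : Λ) ⊗ₜ[A] D R A (x i)) :
    Submodule.span Λ (Set.range (Sum.elim
      (fun i : Fin c => (1 : Λ) ⊗ₜ[A'] D R A' (fr (x i) (hx i)))
      (fun j : ι₂ => alpha R A A' Λ (e (Sum.inr j))))) = ⊤ := by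
  classical
  set w : Fin c ⊕ ι₂ → Λ ⊗[A'] Ω[A'⁄R] := Sum.elim
      (fun i : Fin c => (1 : Λ) ⊗ₜ[A'] D R A' (fr (x i) (hx i)))
      (fun j : ι₂ => alpha R A A' Λ (e (Sum.inr j))) with hw
  set W₀ := Submodule.span Λ (Set.range w) with hW₀
  set W₁ := W₀ ⊔ (maximalIdeal Λ) • (⊤ : Submodule Λ (Λ ⊗[A'] Ω[A'⁄R])) with hW₁
  have hw_mem : ∀ k, w k ∈ W₁ := fun k => Submodule.mem_sup_left (Submodule.subset_span ⟨k, rfl⟩)
  have hϖΛ : algebraMap A' Λ (algebraMap A A' ϖ) = algebraMap A Λ ϖ :=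
    (IsScalarTower.algebraMap_apply A A' Λ ϖ).symm
  -- Claim A
  have hA : ∀ v, alpha R A A' Λ v ∈ W₁ := by
    intro v
    rw [← e.sum_repr v, map_sum]
    refine Submodule.sum_mem _ fun k _ => ?_
    rw [map_smul]
    refine Submodule.smul_mem _ _ ?_
    rcases k with i | j
    · rw [he, alpha_tmul_D, ← hfr (x i) (hx i), one_tmul_D_mul, hDϖ,
        tmul_zero, smul_zero, add_zero, hϖΛ]
      exact Submodule.mem_sup_right (Submodule.smul_mem_smul hπm Submodule.mem_top)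
    · exact hw_mem (Sum.inr j)
  have hB : ∀ a : A, (1 : Λ) ⊗ₜ[A'] D R A' (algebraMap A A' a) ∈ W₁ := by
    intro a
    rw [← alpha_tmul_D]
    exact hA _
  -- Claim C
  have hC : ∀ (z : A) (hz : z ∈ p), (1 : Λ) ⊗ₜ[A'] D R A' (fr z hz) ∈ W₁ := by
    intro z hz
    obtain ⟨s, hs, coef, b, hsz⟩ := hgen z hz
    have hfrac : algebraMap A A' s * fr z hz =
        ∑ i, algebraMap A A' (coef i) * fr (x i) (hx i) + algebraMap A A' b := by
      apply hcancel
      rw [mul_left_comm, hfr, mul_add, Finset.mul_sum]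
      simp only [mul_left_comm (algebraMap A A' ϖ), hfr]
      rw [← map_mul, hsz]
      simp only [map_add, map_sum, map_mul]
    have h1 := congrArg (fun y => (1 : Λ) ⊗ₜ[A'] D R A' y) hfrac
    simp only [map_add, map_sum, tmul_add, tmul_sum, one_tmul_D_mul] at h1
    have hunit : IsUnit (algebraMap A' Λ (algebraMap A A' s)) := by
      rw [← IsScalarTower.algebraMap_apply A A' Λ]
      exact hp s hs
    have h2 : algebraMap A' Λ (algebraMap A A' s) • ((1 : Λ) ⊗ₜ[A'] D R A' (fr z hz)) ∈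
        W₁ := by
      have h3 : algebraMap A' Λ (algebraMap A A' s) • ((1 : Λ) ⊗ₜ[A'] D R A' (fr z hz)) =
          (∑ i, (algebraMap A' Λ (algebraMap A A' (coef i)) •
              ((1 : Λ) ⊗ₜ[A'] D R A' (fr (x i) (hx i))) +
            algebraMap A' Λ (fr (x i) (hx i)) •
              ((1 : Λ) ⊗ₜ[A'] D R A' (algebraMap A A' (coef i)))) +
            (1 : Λ) ⊗ₜ[A'] D R A' (algebraMap A A' b)) -
          algebraMap A' Λ (fr z hz) • ((1 : Λ) ⊗ₜ[A'] D R A' (algebraMap A A' s)) := by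
        rw [← h1]
        abel
      rw [h3]
      refine Submodule.sub_mem _ (Submodule.add_mem _ (Submodule.sum_mem _ fun i _ => ?_) (hB b))
        (Submodule.smul_mem _ _ (hB s))
      exact Submodule.add_mem _ (Submodule.smul_mem _ _ (hw_mem (Sum.inl i)))
        (Submodule.smul_mem _ _ (hB _))
    have h4 := Submodule.smul_mem W₁ (↑hunit.unit⁻¹ : Λ) h2
    rwa [smul_smul, IsUnit.val_inv_mul, one_smul] at h4
  -- all differentials
  have hall : ∀ y : A', (1 : Λ) ⊗ₜ[A'] D R A' y ∈ W₁ := by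
    intro y
    refine hind (fun y => (1 : Λ) ⊗ₜ[A'] D R A' y ∈ W₁) hB hC ?_ ?_ y
    · intro y z hy hz
      rw [map_add, tmul_add]
      exact Submodule.add_mem _ hy hz
    · intro y z hy hz
      rw [one_tmul_D_mul]
      exact Submodule.add_mem _ (Submodule.smul_mem _ _ hz) (Submodule.smul_mem _ _ hy)
  have htop : (⊤ : Submodule Λ (Λ ⊗[A'] Ω[A'⁄R])) ≤ W₁ := by
    have h1 := Submodule.baseChange_span (R := A') Λ (Set.range (D R A'))
    rw [KaehlerDifferential.span_range_derivation, Submodule.baseChange_top] at h1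
    rw [h1, Submodule.span_le]
    rintro _ ⟨_, ⟨y, rfl⟩, rfl⟩
    exact hall y
  rw [_root_.eq_top_iff]
  exact Submodule.le_of_le_smul_of_le_jacobson_bot (Module.Finite.fg_top)
    (IsLocalRing.maximalIdeal_le_jacobson ⊥) htop

end gen

end Groth.Agent.Helper8.NerB
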