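import Mathlib
import Groth.Agent.Lib.Helper8.NerB5

/-!
# Freeness of the differentials of the Néron blow-up after base change to the valuation ring
-/

set_option autoImplicit false
universe u

namespace Groth.Agent.Helper8.NerB

open TensorProduct KaehlerDifferential IsLocalRing

variable {R A A' Λ : Type u} [CommRing R] [CommRing A] [Algebra R A] [CommRing Λ] [IsLocalRing Λ]
  [IsDomain Λ]
  [Algebra A Λ] [CommRing A'] [Algebra R A'] [Algebra A A'] [IsScalarTower R A A'] [Algebra A' Λ]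
  [IsScalarTower A A' Λ]

theorem linearIndependent_w
    (hαinj : Function.Injective (alpha R A A' Λ))
    (p : Ideal A) (ϖ : A) (hπ0 : algebraMap A Λ ϖ ≠ 0)
    (hDϖ : D R A' (algebraMap A A' ϖ) = 0)
    (fr : ∀ x, x ∈ p → A')
    (hfr : ∀ x hx, algebraMap A A' ϖ * fr x hx = algebraMap A A' x)
    {c : ℕ} (x : Fin c → A) (hx : ∀ i, x i ∈ p)
    {ι₂ : Type*} [Fintype ι₂] (e : Module.Basis (Fin c ⊕ ι₂) Λ (Λ ⊗[A] Ω[A⁄R]))
    (he : ∀ i, e (Sum.inl i) = (1 : Λ) ⊗ₜ[A] D R A (x i)) :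
    LinearIndependent Λ (Sum.elim
      (fun i : Fin c => (1 : Λ) ⊗ₜ[A'] D R A' (fr (x i) (hx i)))
      (fun j : ι₂ => alpha R A A' Λ (e (Sum.inr j)))) := by
  classical
  have hϖΛ : algebraMap A' Λ (algebraMap A A' ϖ) = algebraMap A Λ ϖ :=
    (IsScalarTower.algebraMap_apply A A' Λ ϖ).symm
  have hinl : ∀ i, alpha R A A' Λ (e (Sum.inl i)) =
      algebraMap A Λ ϖ • ((1 : Λ) ⊗ₜ[A'] D R A' (fr (x i) (hx i))) := by
    intro i
    rw [he, alpha_tmul_D, ← hfr (x i) (hx i), one_tmul_D_mul, hDϖ,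
      tmul_zero, smul_zero, add_zero, hϖΛ]
  rw [Fintype.linearIndependent_iff]
  intro g hg
  have h1 := congrArg (fun v => algebraMap A Λ ϖ • v) hg
  simp only [smul_zero, Fintype.sum_sum_type, Sum.elim_inl, Sum.elim_inr, smul_add,
    Finset.smul_sum, smul_smul] at h1
  have h2 : alpha R A A' Λ (∑ k, (Sum.elim (fun i => g (Sum.inl i))
      (fun j => algebraMap A Λ ϖ * g (Sum.inr j)) k) • e k) = 0 := by
    rw [map_sum, Fintype.sum_sum_type]
    simp only [Sum.elim_inl, Sum.elim_inr, map_smul, hinl, smul_smul]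
    rw [← h1]
    congr 1
    refine Finset.sum_congr rfl fun i _ => ?_
    rw [mul_comm]
  have h3 := hαinj (h2.trans (map_zero _).symm)
  have h4 := Fintype.linearIndependent_iff.mp e.linearIndependent _ h3
  intro k
  rcases k with i | j
  · exact h4 (Sum.inl i)
  · have := h4 (Sum.inr j)
    simp only [Sum.elim_inr] at this
    exact (mul_eq_zero.mp this).resolve_left hπ0

/-- Freeness of `Λ ⊗ Ω_{A'/R}`. -/
theorem free_of_injective_alpha [Module.Finite Λ (Λ ⊗[A'] Ω[A'⁄R])]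
    (hαinj : Function.Injective (alpha R A A' Λ))
    (p : Ideal A) (hp : ∀ s, s ∉ p → IsUnit (algebraMap A Λ s)) (ϖ : A)
    (hπ0 : algebraMap A Λ ϖ ≠ 0)
    (hDϖ : D R A' (algebraMap A A' ϖ) = 0)
    (hπm : algebraMap A Λ ϖ ∈ maximalIdeal Λ)
    (fr : ∀ x, x ∈ p → A')
    (hfr : ∀ x hx, algebraMap A A' ϖ * fr x hx = algebraMap A A' x)
    (hcancel : ∀ y z : A', algebraMap A A' ϖ * y = algebraMap A A' ϖ * z → y = z)
    (hind : ∀ P : A' → Prop, (∀ a, P (algebraMap A A' a)) → (∀ x hx, P (fr x hx)) →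
      (∀ y z, P y → P z → P (y + z)) → (∀ y z, P y → P z → P (y * z)) → ∀ y, P y)
    {c : ℕ} (x : Fin c → A) (hx : ∀ i, x i ∈ p)
    (hgen : ∀ y ∈ p, ∃ s : A, s ∉ p ∧ ∃ (coef : Fin c → A) (b : A),
        s * y = ∑ i, coef i * x i + ϖ * b)
    {ι₂ : Type*} [Fintype ι₂] (e : Module.Basis (Fin c ⊕ ι₂) Λ (Λ ⊗[A] Ω[A⁄R]))
    (he : ∀ i, e (Sum.inl i) = (1 : Λ) ⊗ₜ[A] D R A (x i)) :
    Module.Free Λ (Λ ⊗[A'] Ω[A'⁄R]) := by
  have hli := linearIndependent_w hαinj p ϖ hπ0 hDϖ fr hfr x hx e he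
  have hsp := span_eq_top p hp ϖ hDϖ hπm fr hfr hcancel hind x hx hgen e he
  exact Module.Free.of_basis (Module.Basis.mk hli hsp.ge)

end Groth.Agent.Helper8.NerB
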