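import Mathlib
import Groth.Agent.Lib.Helper8.NerB5

/-!
# Injectivity of `Λ ⊗ Ω_{A/R} → Λ ⊗ Ω_{A'/R}` when `A → A'` becomes an isomorphism after a
formally étale extension
-/

set_option autoImplicit false
universe u

namespace Groth.Agent.Helper8.NerB

open TensorProduct KaehlerDifferential

variable {R A A' Aϖ Λ L : Type u} [CommRing R] [CommRing A] [CommRing A'] [CommRing Aϖ]
  [CommRing Λ] [CommRing L]
  [Algebra R A] [Algebra R A'] [Algebra A A'] [IsScalarTower R A A']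
  [Algebra R Aϖ] [Algebra A Aϖ] [Algebra A' Aϖ] [IsScalarTower R A Aϖ] [IsScalarTower R A' Aϖ]
  [IsScalarTower A A' Aϖ]
  [Algebra.FormallyEtale A Aϖ]
  [Algebra A Λ] [Algebra A' Λ] [IsScalarTower A A' Λ]
  [Algebra Λ L] [Algebra Aϖ L] [Algebra A L] [Algebra A' L]
  [IsScalarTower A Λ L] [IsScalarTower A Aϖ L] [IsScalarTower A' Λ L] [IsScalarTower A' Aϖ L]
  [Algebra R L] [IsScalarTower R A L] [IsScalarTower R A' L] [IsScalarTower R Aϖ L]

/-- The comparison map `Λ ⊗_A Ω → L ⊗_A Ω`. -/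
noncomputable def iotaL : Λ ⊗[A] Ω[A⁄R] →ₗ[Λ] L ⊗[A] Ω[A⁄R] :=
  TensorProduct.AlgebraTensorModule.map (Algebra.linearMap Λ L) LinearMap.id

omit [IsScalarTower R A A'] [Algebra R A'] [Algebra A A'] [CommRing A'] [CommRing Aϖ]
  [Algebra R Aϖ] [Algebra A Aϖ] [Algebra A' Aϖ] [IsScalarTower R A Aϖ] [IsScalarTower R A' Aϖ]
  [IsScalarTower A A' Aϖ] [Algebra.FormallyEtale A Aϖ] [Algebra A' Λ] [IsScalarTower A A' Λ]
  [Algebra Aϖ L] [Algebra A' L] [IsScalarTower A Aϖ L] [IsScalarTower A' Λ L]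
  [IsScalarTower A' Aϖ L] [Algebra R L] [IsScalarTower R A L] [IsScalarTower R A' L]
  [IsScalarTower R Aϖ L] in
theorem iotaL_injective (hinj : Function.Injective (algebraMap Λ L))
    [Module.Flat Λ (Λ ⊗[A] Ω[A⁄R])] :
    Function.Injective (iotaL (R := R) (A := A) (Λ := Λ) (L := L)) := by
  have h1 : Function.Injective ((Algebra.linearMap Λ L).rTensor (Λ ⊗[A] Ω[A⁄R])) :=
    Module.Flat.rTensor_preserves_injective_linearMap (Algebra.linearMap Λ L) hinj
  have h2 : ∀ v : Λ ⊗[A] Ω[A⁄R], iotaL (R := R) (A := A) (Λ := Λ) (L := L) v =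
      AlgebraTensorModule.cancelBaseChange A Λ L L Ω[A⁄R]
        ((Algebra.linearMap Λ L).rTensor (Λ ⊗[A] Ω[A⁄R]) ((TensorProduct.lid Λ _).symm v)) := by
    intro v
    induction v using TensorProduct.induction_on with
    | zero => simp
    | tmul l ω =>
      simp [iotaL, Algebra.smul_def]
    | add x y hx hy => simp only [map_add, hx, hy]
  intro v v' hvv'
  rw [h2, h2] at hvv'
  exact (TensorProduct.lid Λ _).symm.injective
    (h1 ((AlgebraTensorModule.cancelBaseChange A Λ L L Ω[A⁄R]).injective hvv'))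

/-- The derivation `A' → L ⊗_A Ω_{A/R}` obtained from the formally étale extension `Aϖ`. -/
noncomputable def derL : Derivation R A' (L ⊗[A] Ω[A⁄R]) :=
  (((TensorProduct.AlgebraTensorModule.map (Algebra.linearMap Aϖ L) LinearMap.id :
      Aϖ ⊗[A] Ω[A⁄R] →ₗ[Aϖ] L ⊗[A] Ω[A⁄R]) ∘ₗ
    (tensorKaehlerEquivOfFormallyEtale R A Aϖ).symm.toLinearMap).compDer
      (D R Aϖ)).compAlgebraMap A'

theorem derL_algebraMap (a : A) :
    derL (R := R) (A := A) (A' := A') (Aϖ := Aϖ) (L := L) (algebraMap A A' a) =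
      (1 : L) ⊗ₜ[A] D R A a := by
  simp only [derL, Derivation.compAlgebraMap_apply, Derivation.coe_comp, LinearMap.comp_apply,
    LinearEquiv.coe_coe, LinearMap.coe_restrictScalars, Derivation.coeFn_coe]
  rw [← IsScalarTower.algebraMap_apply A A' Aϖ, tensorKaehlerEquivOfFormallyEtale_symm_D_algebraMap]
  simp

/-- The map `Λ ⊗_{A'} Ω_{A'/R} → L ⊗_A Ω_{A/R}`. -/
noncomputable def gammaL : Λ ⊗[A'] Ω[A'⁄R] →ₗ[Λ] L ⊗[A] Ω[A⁄R] :=
  LinearMap.liftBaseChange Λ
    (derL (R := R) (A := A) (A' := A') (Aϖ := Aϖ) (L := L)).liftKaehlerDifferential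

theorem gammaL_alpha (v : Λ ⊗[A] Ω[A⁄R]) :
    gammaL (R := R) (A := A) (A' := A') (Aϖ := Aϖ) (Λ := Λ) (L := L) (alpha R A A' Λ v) =
      iotaL (R := R) (A := A) (Λ := Λ) (L := L) v := by
  induction v using TensorProduct.induction_on with
  | zero => simp
  | add x y hx hy => simp only [map_add, hx, hy]
  | tmul l ω =>
    have hω : ω ∈ Submodule.span A (Set.range (D R A)) := by
      rw [KaehlerDifferential.span_range_derivation]; trivial
    revert l
    refine Submodule.span_induction (p := fun ω _ => ∀ l : Λ,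
      gammaL (R := R) (A := A) (A' := A') (Aϖ := Aϖ) (Λ := Λ) (L := L)
        (alpha R A A' Λ (l ⊗ₜ ω)) = iotaL (R := R) (A := A) (Λ := Λ) (L := L) (l ⊗ₜ ω))
      ?_ ?_ ?_ ?_ hω
    · rintro _ ⟨a, rfl⟩ l
      rw [alpha_tmul_D]
      simp only [gammaL, LinearMap.liftBaseChange_tmul, Derivation.liftKaehlerDifferential_comp_D,
        derL_algebraMap, iotaL, AlgebraTensorModule.map_tmul, Algebra.linearMap_apply,
        LinearMap.id_apply]
      rw [smul_tmul', Algebra.smul_def, mul_one]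
    · intro l
      simp
    · intro x y _ _ hx hy l
      rw [tmul_add, map_add, map_add, map_add, hx, hy]
    · intro a x _ hx l
      rw [← smul_tmul]
      exact hx (a • l)

variable (Aϖ) in
include Aϖ in
theorem injective_alpha (hinj : Function.Injective (algebraMap Λ L))
    [Module.Flat Λ (Λ ⊗[A] Ω[A⁄R])] :
    Function.Injective (alpha R A A' Λ) := by
  intro v v' hvv'
  apply iotaL_injective (R := R) (A := A) (Λ := Λ) (L := L) hinj
  rw [← gammaL_alpha (A' := A') (Aϖ := Aϖ), ← gammaL_alpha (A' := A') (Aϖ := Aϖ), hvv']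

end Groth.Agent.Helper8.NerB
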