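import Mathlib
import Groth.Agent.Lib.Helper8.NerB1

/-!
# Smoothness of the affine blow-up algebra away from the centre
-/

set_option autoImplicit false
universe u

namespace Groth.Agent.Helper8.NerB

open BlowUp

/-- Formal smoothness of the local ring passes to generizations. -/
theorem formallySmooth_atPrime_of_le {R A : Type*} [CommRing R] [CommRing A] [Algebra R A]
    (p q : Ideal A) [p.IsPrime] [q.IsPrime] (hqp : q ≤ p)
    (h : Algebra.FormallySmooth R (Localization.AtPrime p)) :
    Algebra.FormallySmooth R (Localization.AtPrime q) := by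
  have hle : p.primeCompl ≤ q.primeCompl := fun x hx hxq => hx (hqp hxq)
  have hu : ∀ y : p.primeCompl, IsUnit (algebraMap A (Localization.AtPrime q) y) := fun y =>
    IsLocalization.map_units _ (⟨y, hle y.2⟩ : q.primeCompl)
  letI : Algebra (Localization.AtPrime p) (Localization.AtPrime q) :=
    (IsLocalization.lift (M := p.primeCompl) hu).toAlgebra
  haveI : IsScalarTower A (Localization.AtPrime p) (Localization.AtPrime q) :=
    IsScalarTower.of_algebraMap_eq (fun c => (IsLocalization.lift_eq hu c).symm)
  haveI : IsScalarTower R (Localization.AtPrime p) (Localization.AtPrime q) :=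
    IsScalarTower.of_algebraMap_eq (fun a => by
      rw [IsScalarTower.algebraMap_apply R A (Localization.AtPrime q),
        IsScalarTower.algebraMap_apply R A (Localization.AtPrime p),
        ← IsScalarTower.algebraMap_apply A])
  haveI : IsLocalization (q.primeCompl.map (algebraMap A (Localization.AtPrime p)))
      (Localization.AtPrime q) :=
    IsLocalization.isLocalization_of_submonoid_le _ _ p.primeCompl q.primeCompl hle
  haveI : Algebra.FormallySmooth (Localization.AtPrime p) (Localization.AtPrime q) :=
    Algebra.FormallySmooth.of_isLocalization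
      (q.primeCompl.map (algebraMap A (Localization.AtPrime p)))
  exact Algebra.FormallySmooth.comp R (Localization.AtPrime p) (Localization.AtPrime q)

variable {A : Type u} [CommRing A] (I : Ideal A) (a : A)

/-- At a prime `q'` of the blow-up algebra not containing `a`, the local ring is the local ring of
`A` at the contraction. -/
theorem isLocalization_atPrime_comap (q' : Ideal (affineAlgebra A I a)) [q'.IsPrime]
    (ha : algebraMap A (affineAlgebra A I a) a ∉ q') :
    haveI : (q'.comap (algebraMap A (affineAlgebra A I a))).IsPrime := Ideal.comap_isPrime _ _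
    IsLocalization.AtPrime (Localization.AtPrime q')
      (q'.comap (algebraMap A (affineAlgebra A I a))) := by
  haveI : (q'.comap (algebraMap A (affineAlgebra A I a))).IsPrime := Ideal.comap_isPrime _ _
  set q := q'.comap (algebraMap A (affineAlgebra A I a)) with hq
  have hpow : ∀ n : ℕ, algebraMap A (affineAlgebra A I a) a ^ n ∉ q' := fun n h =>
    ha (Ideal.IsPrime.mem_of_pow_mem inferInstance n h)
  have haq : ∀ n : ℕ, a ^ n ∉ q := fun n h => hpow n (by
    have : algebraMap A (affineAlgebra A I a) (a ^ n) ∈ q' := h
    rwa [map_pow] at this)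
  rw [IsLocalization.AtPrime, isLocalization_iff]
  refine ⟨?_, ?_, ?_⟩
  · rintro ⟨s, hs⟩
    rw [IsScalarTower.algebraMap_apply A (affineAlgebra A I a) (Localization.AtPrime q')]
    exact IsLocalization.map_units (Localization.AtPrime q') (⟨algebraMap A (affineAlgebra A I a) s, hs⟩ : q'.primeCompl)
  · intro z
    obtain ⟨⟨y, ⟨t, ht⟩⟩, hz⟩ := IsLocalization.surj q'.primeCompl z
    simp only at hz
    obtain ⟨n, a₁, ha₁⟩ := exists_pow_mul_eq I a y
    obtain ⟨m, s₁, hs₁⟩ := exists_pow_mul_eq I a t
    have hs₁q : s₁ ∉ q := by
      intro h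
      have h1 : algebraMap A (affineAlgebra A I a) s₁ ∈ q' := h
      rw [← hs₁] at h1
      rcases Ideal.IsPrime.mem_or_mem inferInstance h1 with h2 | h2
      · exact hpow m h2
      · exact ht h2
    have hsq : s₁ * a ^ n ∉ q := by
      intro h
      rcases Ideal.IsPrime.mem_or_mem inferInstance h with h2 | h2
      · exact hs₁q h2
      · exact haq n h2
    refine ⟨⟨a₁ * a ^ m, ⟨s₁ * a ^ n, hsq⟩⟩, ?_⟩
    simp only
    rw [IsScalarTower.algebraMap_apply A (affineAlgebra A I a) (Localization.AtPrime q'),
      IsScalarTower.algebraMap_apply A (affineAlgebra A I a) (Localization.AtPrime q')]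
    have e1 : algebraMap A (affineAlgebra A I a) (s₁ * a ^ n) =
        (algebraMap A (affineAlgebra A I a) a ^ m * t) *
          algebraMap A (affineAlgebra A I a) a ^ n := by
      rw [map_mul, map_pow, hs₁]
    have e2 : algebraMap A (affineAlgebra A I a) (a₁ * a ^ m) =
        (algebraMap A (affineAlgebra A I a) a ^ n * y) *
          algebraMap A (affineAlgebra A I a) a ^ m := by
      rw [map_mul, map_pow, ha₁]
    rw [e1, e2]
    simp only [map_mul, map_pow]
    rw [← hz]
    ring
  · intro x y hxy
    rw [IsScalarTower.algebraMap_apply A (affineAlgebra A I a) (Localization.AtPrime q'), IsScalarTower.algebraMap_apply A (affineAlgebra A I a) (Localization.AtPrime q')] at hxy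
    obtain ⟨⟨t, ht⟩, h1⟩ := (IsLocalization.eq_iff_exists q'.primeCompl (Localization.AtPrime q')).mp hxy
    simp only at h1
    obtain ⟨m, s₁, hs₁⟩ := exists_pow_mul_eq I a t
    have hs₁q : s₁ ∉ q := by
      intro h
      have h1 : algebraMap A (affineAlgebra A I a) s₁ ∈ q' := h
      rw [← hs₁] at h1
      rcases Ideal.IsPrime.mem_or_mem inferInstance h1 with h2 | h2
      · exact hpow m h2
      · exact ht h2
    have h2 : algebraMap A (affineAlgebra A I a) (s₁ * x) = algebraMap A (affineAlgebra A I a) (s₁ * y) := by
      rw [map_mul, map_mul, ← hs₁, mul_assoc, h1, ← mul_assoc]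
    have h3 : algebraMap A (Localization.Away a) (s₁ * x) =
        algebraMap A (Localization.Away a) (s₁ * y) := by
      have := congrArg (fun w : affineAlgebra A I a => (w : Localization.Away a)) h2
      simpa only [Subalgebra.coe_algebraMap] using this
    obtain ⟨⟨_, k, rfl⟩, h4⟩ :=
      (IsLocalization.eq_iff_exists (Submonoid.powers a) (Localization.Away a)).mp h3
    simp only at h4
    refine ⟨⟨a ^ k * s₁, ?_⟩, ?_⟩
    · intro h
      rcases Ideal.IsPrime.mem_or_mem inferInstance h with h5 | h5
      · exact haq k h5
      · exact hs₁q h5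
    · simp only
      rw [mul_assoc, h4, mul_assoc]

/-- Smoothness of the blow-up algebra at a prime not containing `a`, given smoothness of `A` at
its contraction. -/
theorem formallySmooth_atPrime_blowup {R : Type u} [CommRing R] [Algebra R A]
    (q' : Ideal (affineAlgebra A I a)) [q'.IsPrime]
    (ha : algebraMap A (affineAlgebra A I a) a ∉ q')
    (q : Ideal A) [q.IsPrime] (hq : q = q'.comap (algebraMap A (affineAlgebra A I a)))
    (h : Algebra.FormallySmooth R (Localization.AtPrime q)) :
    Algebra.FormallySmooth R (Localization.AtPrime q') := by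
  subst hq
  haveI := isLocalization_atPrime_comap I a q' ha
  let e : Localization.AtPrime (q'.comap (algebraMap A (affineAlgebra A I a))) ≃ₐ[A]
      Localization.AtPrime q' :=
    IsLocalization.algEquiv (q'.comap (algebraMap A (affineAlgebra A I a))).primeCompl _ _
  exact Algebra.FormallySmooth.of_equiv (e.restrictScalars R)

end Groth.Agent.Helper8.NerB
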