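import Mathlib

/-!
# Extending a family with dual functionals to a basis of a free module over a local ring
-/

set_option autoImplicit false
universe u

namespace Groth.Agent.Helper8.NerB

open TensorProduct IsLocalRing

/-- A family of vectors of a finite free module over a local ring which admits dual functionals
with values in the residue field extends to a basis. -/
theorem exists_basis_extending {Λ : Type u} [CommRing Λ] [IsLocalRing Λ] {V : Type u}
    [AddCommGroup V] [Module Λ V] [Module.Finite Λ V] [Module.Free Λ V] {c : ℕ} (v₁ : Fin c → V)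
    (hdual : ∀ i₀, ∃ ξ : V →ₗ[Λ] ResidueField Λ, ξ (v₁ i₀) = 1 ∧ ∀ i, i ≠ i₀ → ξ (v₁ i) = 0) :
    ∃ (ι₂ : Type u) (_ : Fintype ι₂) (e : Module.Basis (Fin c ⊕ ι₂) Λ V),
      ∀ i, e (Sum.inl i) = v₁ i := by
  classical
  let k := ResidueField Λ
  let Vk := k ⊗[Λ] V
  let w₁ : Fin c → Vk := fun i => (1 : k) ⊗ₜ[Λ] v₁ i
  have hli : LinearIndependent k w₁ := by
    rw [Fintype.linearIndependent_iff]
    intro g hg i₀
    obtain ⟨ξ, hξ1, hξ0⟩ := hdual i₀
    have h1 := congrArg (LinearMap.liftBaseChange k ξ) hg
    rw [map_sum, map_zero] at h1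
    simp only [map_smul, w₁, LinearMap.liftBaseChange_tmul, one_smul] at h1
    rw [Finset.sum_eq_single i₀] at h1
    · rwa [hξ1, smul_eq_mul, mul_one] at h1
    · intro i _ hi
      rw [hξ0 i hi, smul_zero]
    · intro h
      exact absurd (Finset.mem_univ i₀) h
  let U : Submodule k Vk := Submodule.span k (Set.range w₁)
  let bW : Module.Basis (Fin c) k U := Module.Basis.span hli
  let ι₂ := Module.Free.ChooseBasisIndex k (Vk ⧸ U)
  let bQ : Module.Basis ι₂ k (Vk ⧸ U) := Module.Free.chooseBasis k (Vk ⧸ U)
  let bk : Module.Basis (Fin c ⊕ ι₂) k Vk := Module.Basis.sumQuot bW bQ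
  have hbk_inl : ∀ i, bk (Sum.inl i) = w₁ i := by
    intro i
    rw [Module.Basis.sumQuot_inl]
    exact congrArg Subtype.val (Module.Basis.span_apply hli i)
  have hmk : Function.Surjective (TensorProduct.mk Λ k V 1) :=
    TensorProduct.mk_surjective Λ V k Ideal.Quotient.mk_surjective
  let v : Fin c ⊕ ι₂ → V := Sum.elim v₁ (fun j => Function.surjInv hmk (bk (Sum.inr j)))
  have hv : TensorProduct.mk Λ k V 1 ∘ v = bk := by
    ext i
    rcases i with i | j
    · simp only [Function.comp_apply, v, Sum.elim_inl, TensorProduct.mk_apply]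
      exact (hbk_inl i).symm
    · simp only [Function.comp_apply, v, Sum.elim_inr]
      exact Function.surjInv_eq hmk _
  haveI : Module.FinitePresentation Λ V := Module.finitePresentation_of_projective Λ V
  have H : Function.Injective ((maximalIdeal Λ).subtype.rTensor V) :=
    Module.Flat.rTensor_preserves_injective_linearMap _ Subtype.val_injective
  obtain ⟨b, hb⟩ := Module.exists_basis_of_basis_baseChange v
    (by rw [hv]; exact bk.linearIndependent) (by rw [hv]; exact bk.span_eq) H
  exact ⟨ι₂, inferInstance, b, fun i => by rw [hb]; rfl⟩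

end Groth.Agent.Helper8.NerB
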