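import Mathlib
import Groth.Agent.Lib.Helper8.JacPt2

/-!
# Linear algebra over a local ring: a direct summand of a free module spanned by given vectors
-/

set_option autoImplicit false
universe u v

namespace Groth.Agent.Helper8.NerD

open TensorProduct IsLocalRing

/-- Let `F` be free with basis `e` over a local ring `Λ`, `v ℓ` vectors whose span `N` has
projective quotient `F ⧸ N`. Then one can choose `c` of the vectors and `c` coordinates such that
the corresponding minor is a unit and the chosen vectors span `N`. -/
theorem exists_rows_cols_of_projective_quotient {Λ : Type u} [CommRing Λ] [IsLocalRing Λ]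
    {F : Type v} [AddCommGroup F] [Module Λ F] {n m : ℕ} (e : Module.Basis (Fin n) Λ F)
    (v : Fin m → F)
    (hproj : Module.Projective Λ (F ⧸ Submodule.span Λ (Set.range v))) :
    ∃ (c : ℕ) (rows : Fin c → Fin m) (cols : Fin c ↪ Fin n),
      IsUnit (Matrix.det (Matrix.of fun i k : Fin c => e.repr (v (rows i)) (cols k))) ∧
      ∀ ℓ, v ℓ ∈ Submodule.span Λ (Set.range (v ∘ rows)) := by
  classical
  set N := Submodule.span Λ (Set.range v) with hN
  haveI : Module.Finite Λ F := Module.Finite.of_basis e
  haveI : Module.Free Λ F := Module.Free.of_basis e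
  -- a retraction onto `N`
  obtain ⟨σ, hσ⟩ := Module.projective_lifting_property N.mkQ LinearMap.id N.mkQ_surjective
  have hρmem : ∀ x : F, x - σ (N.mkQ x) ∈ N := by
    intro x
    rw [← Submodule.Quotient.mk_eq_zero, Submodule.Quotient.mk_sub]
    have := congr($hσ (N.mkQ x))
    simp only [LinearMap.comp_apply, LinearMap.id_apply] at this
    rw [← Submodule.mkQ_apply, ← Submodule.mkQ_apply, this, sub_self]
  let ρ : F →ₗ[Λ] N := (LinearMap.id - σ ∘ₗ N.mkQ).codRestrict N hρmem
  have hρN : ρ ∘ₗ N.subtype = LinearMap.id := by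
    ext ⟨y, hy⟩
    simp only [LinearMap.comp_apply, Submodule.subtype_apply, LinearMap.id_apply, ρ,
      LinearMap.codRestrict_apply, LinearMap.sub_apply]
    have h0 : N.mkQ y = 0 := by
      rw [Submodule.mkQ_apply]; exact (Submodule.Quotient.mk_eq_zero N).mpr hy
    rw [h0, map_zero, sub_zero]
  haveI : Module.Projective Λ N :=
    Module.Projective.of_split N.subtype ρ hρN
  haveI : Module.Finite Λ N := Module.Finite.of_surjective ρ (fun y => ⟨N.subtype y, congr($hρN y)⟩)
  haveI : Module.FinitePresentation Λ N := Module.finitePresentation_of_projective Λ N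
  let v' : Fin m → N := fun ℓ => ⟨v ℓ, Submodule.subset_span ⟨ℓ, rfl⟩⟩
  have hv' : Submodule.span Λ (Set.range v') = ⊤ := by
    rw [eq_top_iff]
    rintro ⟨y, hy⟩ -
    have : Submodule.span Λ (Set.range v) ≤
        (Submodule.span Λ (Set.range v')).map N.subtype := by
      rw [Submodule.span_le]
      rintro _ ⟨ℓ, rfl⟩
      exact ⟨v' ℓ, Submodule.subset_span ⟨ℓ, rfl⟩, rfl⟩
    obtain ⟨z, hz, hzy⟩ := this hy
    have : z = ⟨y, hy⟩ := Subtype.ext hzy
    rwa [← this]
  obtain ⟨κ, a, b, hb⟩ := Module.exists_basis_of_span_of_flat v' hv'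
  haveI : Finite κ := Module.Finite.finite_basis b
  haveI := Fintype.ofFinite κ
  let eq : Fin (Fintype.card κ) ≃ κ := (Fintype.equivFin κ).symm
  let rows : Fin (Fintype.card κ) → Fin m := a ∘ eq
  let b' : Module.Basis (Fin (Fintype.card κ)) Λ N := b.reindex eq.symm
  have hb' : ∀ i, (b' i : F) = v (rows i) := by
    intro i
    simp only [b', Module.Basis.reindex_apply, Equiv.symm_symm, hb, rows, Function.comp_apply, v']
  -- linear independence over the residue field
  let k := ResidueField Λ
  have hinj : Function.Injective (N.subtype.lTensor k) :=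
    (IsLocalRing.split_injective_iff_lTensor_residueField_injective N.subtype).mp ⟨ρ, hρN⟩
  have hli1 : LinearIndependent k (b'.baseChange k) := (b'.baseChange k).linearIndependent
  have hli2 : LinearIndependent k ((N.subtype.baseChange k) ∘ (b'.baseChange k)) :=
    hli1.map' _ (LinearMap.ker_eq_bot.mpr hinj)
  let ek : Module.Basis (Fin n) k (k ⊗[Λ] F) := e.baseChange k
  let M : Matrix (Fin (Fintype.card κ)) (Fin n) k := fun i j =>
    ek.repr (N.subtype.baseChange k (b'.baseChange k i)) j
  have hM : LinearIndependent k M.row := by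
    have := hli2.map' ek.equivFun.toLinearMap (LinearMap.ker_eq_bot.mpr ek.equivFun.injective)
    exact this
  obtain ⟨cols, hcols⟩ := Groth.Agent.Helper8.JacPt.exists_cols_det_ne_zero M hM
  have hMentry : ∀ i j, M i j = algebraMap Λ k (e.repr (v (rows i)) j) := by
    intro i j
    simp only [M, ek, Module.Basis.baseChange_apply, LinearMap.baseChange_tmul,
      Submodule.subtype_apply, hb', Module.Basis.baseChange_repr_tmul]
    rw [Algebra.algebraMap_eq_smul_one]
  refine ⟨Fintype.card κ, rows, cols, ?_, fun ℓ => ?_⟩
  · rw [← IsLocalRing.notMem_maximalIdeal, ← IsLocalRing.residue_eq_zero_iff]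
    intro h0
    apply hcols
    have h1 : M.submatrix _root_.id cols = (algebraMap Λ k).mapMatrix
        (Matrix.of fun i j : Fin (Fintype.card κ) => e.repr (v (rows i)) (cols j)) := by
      refine Matrix.ext fun i j => ?_
      simp [hMentry]
    rw [h1, ← RingHom.map_det]
    exact h0
  · have h1 : (v' ℓ) ∈ Submodule.span Λ (Set.range b') := by rw [b'.span_eq]; trivial
    have h2 : Submodule.span Λ (Set.range b') ≤
        (Submodule.span Λ (Set.range (v ∘ rows))).comap N.subtype := by
      rw [Submodule.span_le]
      rintro _ ⟨i, rfl⟩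
      simp only [Submodule.comap_coe, Set.mem_preimage, Submodule.subtype_apply, SetLike.mem_coe]
      rw [hb']
      exact Submodule.subset_span ⟨i, rfl⟩
    exact h2 h1

end Groth.Agent.Helper8.NerD
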