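import Mathlib
import Groth.Agent.Lib.Helper8.NerD1

/-!
# Choosing relations and variables from freeness of the differentials after base change to a
local ring
-/

set_option autoImplicit false
universe u

namespace Groth.Agent.Helper8.NerD

open TensorProduct Algebra KaehlerDifferential MvPolynomial

/-- If `Λ ⊗ Ω_{A/R}` is projective over the local ring `Λ`, one can choose `c` relations and `c`
variables of a presentation of `A` such that the corresponding Jacobian minor is a unit in `Λ`, and
such that every row of the Jacobian matrix over `Λ` is a combination of the chosen rows. -/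
theorem exists_rows_cols_of_projective {R A Λ : Type u} [CommRing R] [CommRing A] [Algebra R A]
    [CommRing Λ] [IsLocalRing Λ] [Algebra A Λ] {n m : ℕ}
    (G : Generators R A (Fin n)) (f : Fin m → MvPolynomial (Fin n) R)
    (hker : Ideal.span (Set.range f) = G.ker)
    (hproj : Module.Projective Λ (Λ ⊗[A] Ω[A⁄R])) :
    ∃ (c : ℕ) (rows : Fin c → Fin m) (cols : Fin c ↪ Fin n),
      IsUnit (algebraMap A Λ (aeval G.val
        (Matrix.det (Matrix.of fun j k : Fin c => pderiv (cols k) (f (rows j)))))) ∧
      ∀ ℓ, ∃ lam : Fin c → Λ, ∀ k,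
        algebraMap A Λ (aeval G.val (pderiv k (f ℓ))) =
          ∑ i, lam i * algebraMap A Λ (aeval G.val (pderiv k (f (rows i)))) := by
  have hf : ∀ j, f j ∈ G.toExtension.ker := fun j => hker.le (Ideal.subset_span ⟨j, rfl⟩)
  have hxspan := Extension.Cotangent.span_eq_top_of_span_eq_ker (P := G.toExtension) f hker
  set x : Fin m → G.toExtension.Cotangent := fun j => Extension.Cotangent.mk ⟨f j, hf j⟩ with hx
  let d := G.toExtension.cotangentComplex
  let t := G.toExtension.toKaehler
  let e : Module.Basis (Fin n) Λ (Λ ⊗[A] G.toExtension.CotangentSpace) :=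
    G.cotangentSpaceBasis.baseChange Λ
  let v : Fin m → Λ ⊗[A] G.toExtension.CotangentSpace := fun ℓ => d.baseChange Λ (1 ⊗ₜ x ℓ)
  have hvspan : Submodule.span Λ (Set.range fun j => (1 : Λ) ⊗ₜ[A] x j) = ⊤ := by
    have h1 := Submodule.baseChange_span (R := A) Λ (Set.range x)
    rw [hxspan, Submodule.baseChange_top, ← Set.range_comp] at h1
    exact h1.symm
  have hrange : LinearMap.range (d.baseChange Λ) = Submodule.span Λ (Set.range v) := by
    rw [← Submodule.map_top, ← hvspan, Submodule.map_span, ← Set.range_comp]
    rfl
  have h2 : Function.Exact (d.baseChange Λ) (t.baseChange Λ) :=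
    lTensor_exact Λ G.toExtension.exact_cotangentComplex_toKaehler
      G.toExtension.toKaehler_surjective
  have hsurj : Function.Surjective (t.baseChange Λ) :=
    LinearMap.lTensor_surjective Λ G.toExtension.toKaehler_surjective
  have hproj' : Module.Projective Λ
      ((Λ ⊗[A] G.toExtension.CotangentSpace) ⧸ Submodule.span Λ (Set.range v)) := by
    have e1 := h2.linearEquivOfSurjective hsurj
    have e2 := Submodule.quotEquivOfEq _ _ hrange
    exact Module.Projective.of_equiv (e2.symm.trans e1).symm
  obtain ⟨c, rows, cols, hunit, hspan⟩ := exists_rows_cols_of_projective_quotient e v hproj'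
  have hentry : ∀ ℓ k, e.repr (v ℓ) k = algebraMap A Λ (aeval G.val (pderiv k (f ℓ))) := by
    intro ℓ k
    simp only [v, e, d, x, LinearMap.baseChange_tmul, Extension.cotangentComplex_mk,
      Module.Basis.baseChange_repr_tmul]
    rw [Algebra.algebraMap_eq_smul_one]
    congr 1
    exact G.cotangentSpaceBasis_repr_one_tmul (f ℓ) k
  refine ⟨c, rows, cols, ?_, fun ℓ => ?_⟩
  · have h1 : (Matrix.of fun i k : Fin c => e.repr (v (rows i)) (cols k)) =
        ((algebraMap A Λ).comp (aeval G.val : MvPolynomial (Fin n) R →ₐ[R] A).toRingHom).mapMatrix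
        (Matrix.of fun j k : Fin c => pderiv (cols k) (f (rows j))) := by
      refine Matrix.ext fun j k => ?_
      simp [hentry]
    rw [h1, ← RingHom.map_det] at hunit
    exact hunit
  · have h1 := hspan ℓ
    rw [Submodule.mem_span_range_iff_exists_fun] at h1
    obtain ⟨lam, hlam⟩ := h1
    refine ⟨lam, fun k => ?_⟩
    rw [← hentry, ← hlam]
    simp only [map_sum, map_smul, Function.comp_apply, Finsupp.coe_finset_sum, Finset.sum_apply,
      Finsupp.coe_smul, Pi.smul_apply, smul_eq_mul, hentry]

end Groth.Agent.Helper8.NerD
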