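import Mathlib
import Groth.Agent.Lib.Helper8.JacPt3

/-!
# Transferring a choice of relations made over an overring down to a smooth point
-/

set_option autoImplicit false
universe u

namespace Groth.Agent.Helper8.NerD

open TensorProduct Algebra KaehlerDifferential MvPolynomial

/-- Cramer's rule: if every row of a matrix over `Λ` is a combination of chosen rows, then after
multiplying with the determinant of a square submatrix of the chosen rows, the coefficients can be
taken from the adjugate. -/
theorem cramer_relation {A Λ : Type*} [CommRing A] [CommRing Λ] (ψ : A →+* Λ) {n c : ℕ}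
    (Jℓ : Fin n → A) (Jr : Fin c → Fin n → A) (cols : Fin c → Fin n)
    (lam : Fin c → Λ) (hlam : ∀ k, ψ (Jℓ k) = ∑ i, lam i * ψ (Jr i k)) (k : Fin n) :
    ψ (Matrix.det (Matrix.of fun i j : Fin c => Jr i (cols j)) * Jℓ k -
      ∑ i, (∑ j, Jℓ (cols j) * Matrix.adjugate (Matrix.of fun i j : Fin c => Jr i (cols j)) j i) *
        Jr i k) = 0 := by
  set G0 : Matrix (Fin c) (Fin c) A := Matrix.of fun i j : Fin c => Jr i (cols j) with hG0
  have hadj : ∀ j i, ∑ l, ψ (G0 j l) * ψ (Matrix.adjugate G0 l i) =
      if j = i then ψ (Matrix.det G0) else 0 := by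
    intro j i
    have h1 := congrFun (congrFun (Matrix.mul_adjugate G0) j) i
    rw [Matrix.mul_apply] at h1
    have h2 := congrArg ψ h1
    rw [map_sum] at h2
    simp only [map_mul] at h2
    rw [h2, Matrix.smul_apply, Matrix.one_apply, smul_eq_mul]
    split_ifs <;> simp
  have ha : ∀ i, ψ (∑ j, Jℓ (cols j) * Matrix.adjugate G0 j i) = lam i * ψ (Matrix.det G0) := by
    intro i
    rw [map_sum]
    simp only [map_mul]
    calc ∑ j, ψ (Jℓ (cols j)) * ψ (Matrix.adjugate G0 j i)
        = ∑ j, (∑ i', lam i' * ψ (G0 i' j)) * ψ (Matrix.adjugate G0 j i) := by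
          refine Finset.sum_congr rfl fun j _ => ?_
          rw [hlam (cols j)]
          rfl
      _ = ∑ i', lam i' * ∑ j, ψ (G0 i' j) * ψ (Matrix.adjugate G0 j i) := by
          simp only [Finset.sum_mul, Finset.mul_sum]
          rw [Finset.sum_comm]
          refine Finset.sum_congr rfl fun i' _ => Finset.sum_congr rfl fun j _ => ?_
          ring
      _ = lam i * ψ (Matrix.det G0) := by
          simp only [hadj]
          simp
  rw [map_sub, map_mul, map_sum, hlam k]
  simp only [map_mul, ha]
  rw [Finset.mul_sum, ← Finset.sum_sub_distrib]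
  refine Finset.sum_eq_zero fun i _ => ?_
  ring

/-- Transfer to a smooth point `q` containing the kernel of `A → Λ`: if over `Λ` every row of the
Jacobian matrix is a combination of chosen rows and the chosen minor does not vanish at `q`, then
the chosen relations generate the conormal module near `q`. -/
theorem exists_mul_mem_of_rows {R A Λ : Type u} [CommRing R] [CommRing A] [Algebra R A]
    [CommRing Λ] [Algebra A Λ] {n m c : ℕ}
    (G : Generators R A (Fin n)) (f : Fin m → MvPolynomial (Fin n) R)
    (hker : Ideal.span (Set.range f) = G.ker)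
    (q : Ideal A) [q.IsPrime] [Algebra.IsSmoothAt R q]
    (hq : RingHom.ker (algebraMap A Λ) ≤ q)
    (rows : Fin c → Fin m) (cols : Fin c → Fin n)
    (hδ : aeval G.val (Matrix.det (Matrix.of fun j k : Fin c => pderiv (cols k) (f (rows j)))) ∉ q)
    (hrel : ∀ ℓ, ∃ lam : Fin c → Λ, ∀ k,
        algebraMap A Λ (aeval G.val (pderiv k (f ℓ))) =
          ∑ i, lam i * algebraMap A Λ (aeval G.val (pderiv k (f (rows i))))) :
    ∃ u : MvPolynomial (Fin n) R, aeval G.val u ∉ q ∧
      ∀ ℓ, u * f ℓ ∈ Ideal.span (Set.range (f ∘ rows)) ⊔ Ideal.span (Set.range f) ^ 2 := by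
  have hf : ∀ j, f j ∈ G.toExtension.ker := fun j => hker.le (Ideal.subset_span ⟨j, rfl⟩)
  have hxspan := Extension.Cotangent.span_eq_top_of_span_eq_ker (P := G.toExtension) f hker
  set x : Fin m → G.toExtension.Cotangent := fun j => Extension.Cotangent.mk ⟨f j, hf j⟩ with hx
  let κ := q.ResidueField
  let d := G.toExtension.cotangentComplex
  have hvspan : Submodule.span κ (Set.range fun j => (1 : κ) ⊗ₜ[A] x j) = ⊤ := by
    have h1 := Submodule.baseChange_span (R := A) κ (Set.range x)
    rw [hxspan, Submodule.baseChange_top, ← Set.range_comp] at h1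
    exact h1.symm
  have hdinj := Groth.Agent.Helper8.JacPt.injective_cotangentComplex_baseChange_residueField G q
  let b : Module.Basis (Fin n) κ (κ ⊗[A] G.toExtension.CotangentSpace) :=
    G.cotangentSpaceBasis.baseChange κ
  let J : Fin m → Fin n → A := fun ℓ k => aeval G.val (pderiv k (f ℓ))
  have hentry : ∀ (ℓ : Fin m) (k : Fin n), G.cotangentSpaceBasis.repr (d (x ℓ)) k = J ℓ k := by
    intro ℓ k
    simp only [d, x, Extension.cotangentComplex_mk]
    exact G.cotangentSpaceBasis_repr_one_tmul (f ℓ) k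
  set G0 : Matrix (Fin c) (Fin c) A := Matrix.of fun i j : Fin c => J (rows i) (cols j) with hG0
  have hdet : Matrix.det G0 =
      aeval G.val (Matrix.det (Matrix.of fun j k : Fin c => pderiv (cols k) (f (rows j)))) := by
    have h1 : G0 = ((aeval G.val : MvPolynomial (Fin n) R →ₐ[R] A).toRingHom).mapMatrix
        (Matrix.of fun j k : Fin c => pderiv (cols k) (f (rows j))) := by
      refine Matrix.ext fun j k => ?_
      simp [G0, J]
    rw [h1, ← RingHom.map_det]
    rfl
  have hδ' : Matrix.det G0 ∉ q := by rw [hdet]; exact hδ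
  have hδκ : algebraMap A κ (Matrix.det G0) ≠ 0 := by
    intro h0
    exact hδ' (Ideal.algebraMap_residueField_eq_zero.mp h0)
  -- each `1 ⊗ x ℓ` lies in the span of the chosen ones
  have hmem : ∀ ℓ, (1 : κ) ⊗ₜ[A] x ℓ ∈
      Submodule.span κ (Set.range fun i : Fin c => (1 : κ) ⊗ₜ[A] x (rows i)) := by
    intro ℓ
    obtain ⟨lam, hlam⟩ := hrel ℓ
    let a : Fin c → A := fun i => ∑ j, J ℓ (cols j) * Matrix.adjugate G0 j i
    have hcr : ∀ k, Matrix.det G0 * J ℓ k - ∑ i, a i * J (rows i) k ∈ q := fun k =>
      hq (cramer_relation (algebraMap A Λ) (J ℓ) (fun i => J (rows i)) cols lam hlam k)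
    have hzero : (1 : κ) ⊗ₜ[A] (Matrix.det G0 • x ℓ - ∑ i, a i • x (rows i)) = 0 := by
      apply hdinj
      rw [map_zero]
      apply b.ext_elem
      intro k
      have hkey : G.cotangentSpaceBasis.repr
          (d (Matrix.det G0 • x ℓ - ∑ i, a i • x (rows i))) k =
          Matrix.det G0 * J ℓ k - ∑ i, a i * J (rows i) k := by
        rw [map_sub, map_smul, map_sum, map_sub, map_smul, map_sum]
        simp only [map_smul, Finsupp.coe_sub, Pi.sub_apply, Finsupp.coe_smul, Pi.smul_apply,
          Finsupp.coe_finset_sum, Finset.sum_apply, hentry, smul_eq_mul]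
      simp only [LinearMap.baseChange_tmul, b, Module.Basis.baseChange_repr_tmul, map_zero,
        Finsupp.coe_zero, Pi.zero_apply]
      rw [Algebra.smul_def, mul_one]
      refine Ideal.algebraMap_residueField_eq_zero.mpr ?_
      have h5 := hcr k
      rw [← hkey] at h5
      exact h5
    rw [tmul_sub, tmul_smul, tmul_sum, sub_eq_zero] at hzero
    have h3 : (1 : κ) ⊗ₜ[A] x ℓ = (algebraMap A κ (Matrix.det G0))⁻¹ •
        ∑ i, (1 : κ) ⊗ₜ[A] (a i • x (rows i)) := by
      rw [← hzero, ← algebraMap_smul κ (Matrix.det G0), smul_smul, inv_mul_cancel₀ hδκ, one_smul]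
    rw [h3]
    refine Submodule.smul_mem _ _ (Submodule.sum_mem _ fun i _ => ?_)
    rw [tmul_smul, ← algebraMap_smul κ (a i)]
    exact Submodule.smul_mem _ _ (Submodule.subset_span ⟨i, rfl⟩)
  have hspan' : Submodule.span κ (Set.range fun i : Fin c => (1 : κ) ⊗ₜ[A] (x ∘ rows) i) = ⊤ := by
    rw [_root_.eq_top_iff, ← hvspan, Submodule.span_le]
    rintro _ ⟨ℓ, rfl⟩
    exact hmem ℓ
  haveI : Module.Finite A G.toExtension.Cotangent := by
    apply Extension.Cotangent.finite
    have hfg : (Ideal.span (Set.range f)).FG := Submodule.fg_span (Set.finite_range f)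
    rw [hker] at hfg
    exact hfg
  obtain ⟨u₀, hu₀, hu₀'⟩ :=
    Groth.Agent.Helper8.JacPt.exists_notMem_smul_mem_span q (x ∘ rows) hspan'
  have hsurj : ∀ y : A, ∃ z : G.toExtension.Ring, algebraMap G.toExtension.Ring A z = y :=
    G.algebraMap_surjective
  obtain ⟨u, hu⟩ := hsurj u₀
  refine ⟨u, ?_, fun ℓ => ?_⟩
  · have : aeval G.val u = u₀ := by rw [← hu]; exact (Generators.algebraMap_apply G u).symm
    rw [this]
    exact hu₀
  · have h1 := hu₀' (x ℓ)
    rw [← hu] at h1
    have h2 := Groth.Agent.Helper8.JacPt.mul_mem_span_sup_ker_sq G.toExtension f hf rows u ℓ h1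
    rw [hker]
    exact h2

end Groth.Agent.Helper8.NerD
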