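import Mathlib
import Groth.Agent.S2032

/-!
# An ideal which is idempotent up to an element outside a smaller prime dies in a local domain
-/

set_option autoImplicit false

namespace Groth.Agent.Helper8.NerD

/-- Finitely many elements which die in the localization at `p'` are killed by one element outside
`p'`. -/
theorem exists_notMem_forall_mul_eq_zero {B : Type*} [CommRing B] (p' : Ideal B) [p'.IsPrime]
    (S : Finset B)
    (h : ∀ j ∈ S, algebraMap B (Localization.AtPrime p') j = 0) :
    ∃ t : B, t ∉ p' ∧ ∀ j ∈ S, t * j = 0 := by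
  classical
  induction S using Finset.induction_on with
  | empty => exact ⟨1, fun h1 => (inferInstance : p'.IsPrime).ne_top
      ((Ideal.eq_top_iff_one _).mpr h1), by simp⟩
  | insert a S ha ih =>
    obtain ⟨t, ht, htS⟩ := ih (fun j hj => h j (Finset.mem_insert_of_mem hj))
    have ha0 := h a (Finset.mem_insert_self a S)
    rw [IsLocalization.map_eq_zero_iff p'.primeCompl] at ha0
    obtain ⟨⟨w, hw⟩, hwa⟩ := ha0
    refine ⟨w * t, ?_, ?_⟩
    · intro hmem
      rcases Ideal.IsPrime.mem_or_mem inferInstance hmem with h1 | h1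
      · exact hw h1
      · exact ht h1
    · intro j hj
      rcases Finset.mem_insert.mp hj with rfl | hj
      · rw [mul_comm w t, mul_assoc]
        simp only at hwa
        rw [hwa, mul_zero]
      · rw [mul_assoc, htS j hj, mul_zero]

/-- Let `J ⊆ q' ⊆ p'` with `J` finitely generated and `B_{p'}` a domain. If some `s ∉ q'`
multiplies `J` into `J²`, then `J` is killed by an element outside `p'`. -/
theorem exists_annihilator_of_isDomain {B : Type*} [CommRing B] (J : Ideal B) (hJ : J.FG)
    (p' q' : Ideal B) [p'.IsPrime] [q'.IsPrime] (hqp : q' ≤ p') (hJq : J ≤ q')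
    [IsDomain (Localization.AtPrime p')] (s : B) (hs : s ∉ q')
    (hsJ : ∀ j ∈ J, s * j ∈ J * J) :
    ∃ t : B, t ∉ p' ∧ ∀ j ∈ J, t * j = 0 := by
  classical
  have hk : RingHom.ker (Ideal.Quotient.mk J) = J := Ideal.mk_ker
  obtain ⟨t, N, ht, htN⟩ := Groth.Agent.S2032.exists_annihilator (Ideal.Quotient.mk J)
    (by rw [hk]; exact hJ) s (by rw [hk]; exact hsJ)
  rw [hk] at ht
  have htq : t ∉ q' := by
    intro htq
    rw [← map_pow, Ideal.Quotient.eq] at htN
    have h1 : s ^ N ∈ q' := by
      have : s ^ N = t - (t - s ^ N) := by ring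
      rw [this]
      exact Ideal.sub_mem _ htq (hJq htN)
    exact hs (Ideal.IsPrime.mem_of_pow_mem inferInstance N h1)
  have ht0 : algebraMap B (Localization.AtPrime p') t ≠ 0 := by
    intro h0
    rw [IsLocalization.map_eq_zero_iff p'.primeCompl] at h0
    obtain ⟨⟨w, hw⟩, hwt⟩ := h0
    simp only at hwt
    have h1 : w * t ∈ q' := by rw [hwt]; exact Ideal.zero_mem _
    rcases Ideal.IsPrime.mem_or_mem inferInstance h1 with h2 | h2
    · exact hw (hqp h2)
    · exact htq h2
  have hJ0 : ∀ j ∈ J, algebraMap B (Localization.AtPrime p') j = 0 := by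
    intro j hj
    have h1 := congrArg (algebraMap B (Localization.AtPrime p')) (ht j hj)
    rw [map_mul, map_zero] at h1
    rcases mul_eq_zero.mp h1 with h2 | h2
    · exact absurd h2 ht0
    · exact h2
  obtain ⟨S, hS⟩ := hJ
  obtain ⟨t', ht', ht'S⟩ := exists_notMem_forall_mul_eq_zero p' S
    (fun j hj => hJ0 j (by rw [← hS]; exact Ideal.subset_span hj))
  refine ⟨t', ht', fun j hj => ?_⟩
  rw [← hS] at hj
  refine Submodule.span_induction (p := fun j _ => t' * j = 0) ?_ ?_ ?_ ?_ hj
  · intro j hj; exact ht'S j hj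
  · exact mul_zero _
  · intro x y _ _ hx hy; rw [mul_add, hx, hy, add_zero]
  · intro a x _ hx; rw [smul_eq_mul, mul_left_comm, hx, mul_zero]

end Groth.Agent.Helper8.NerD
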