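import Mathlib
import Groth.Agent.S2032
import Groth.Agent.Lib.Helper8.NerD4
import Groth.Agent.Lib.Helper8.Jac4
import Groth.Agent.Lib.Helper8.Andre2
import Groth.Agent.Lib.Helper8.RegularLocal

/-!
# Smoothness at a special point from a choice of relations and variables
-/

set_option autoImplicit false
universe u

namespace Groth.Agent.Helper8.NerD

open MvPolynomial IsLocalRing

/-- The localization at a prime of `R[x]/(v)` at which a maximal Jacobian minor does not vanish is
a domain, when `R` is a regular local ring and the prime lies over the maximal ideal. -/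
theorem isDomain_atPrime_of_minor {R : Type u} [CommRing R] [IsRegularLocalRing R] {n c : ℕ}
    (v : Fin c → MvPolynomial (Fin n) R) (cols : Fin c → Fin n) (hcols : Function.Injective cols)
    (p' : Ideal (MvPolynomial (Fin n) R ⧸ Ideal.span (Set.range v))) [p'.IsPrime]
    (hpR : ∀ r ∈ maximalIdeal R,
      algebraMap R (MvPolynomial (Fin n) R ⧸ Ideal.span (Set.range v)) r ∈ p')
    (hg : Ideal.Quotient.mk (Ideal.span (Set.range v))
      (Matrix.det (Matrix.of fun j k : Fin c => pderiv (cols k) (v j))) ∉ p') :
    IsDomain (Localization.AtPrime p') := by
  set B' := MvPolynomial (Fin n) R ⧸ Ideal.span (Set.range v) with hB'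
  set g : B' := Ideal.Quotient.mk (Ideal.span (Set.range v))
      (Matrix.det (Matrix.of fun j k : Fin c => pderiv (cols k) (v j))) with hgdef
  haveI : IsNoetherianRing R := inferInstance
  haveI : IsNoetherianRing B' := Ideal.Quotient.isNoetherianRing _
  haveI : Algebra.IsStandardSmooth R (Localization.Away g) :=
    Groth.Agent.S2032.isStandardSmooth_of_naive v cols hcols (Localization.Away g) g
      (IsLocalization.Away.algebraMap_isUnit g)
  haveI : Algebra.FormallySmooth R (Localization.Away g) := inferInstance
  haveI : Algebra.FormallySmooth R (Localization.AtPrime p') :=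
    Groth.Agent.Helper8.Jac.formallySmooth_atPrime_of_away p' g hg inferInstance
  haveI : IsNoetherianRing (Localization.AtPrime p') :=
    IsLocalization.isNoetherianRing p'.primeCompl _ inferInstance
  haveI : IsLocalHom (algebraMap R (Localization.AtPrime p')) := by
    constructor
    intro r hr
    by_contra hnu
    have hrm : r ∈ maximalIdeal R := hnu
    have h1 := hpR r hrm
    rw [IsScalarTower.algebraMap_apply R B' (Localization.AtPrime p')] at hr
    have h2 : algebraMap B' (Localization.AtPrime p') (algebraMap R B' r) ∈
        maximalIdeal (Localization.AtPrime p') := by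
      rw [← Localization.AtPrime.comap_maximalIdeal (I := p')] at h1
      exact h1
    exact h2 hr
  haveI : IsRegularLocalRing (Localization.AtPrime p') :=
    Groth.Agent.Helper8.Andre.isRegularLocalRing_of_isAdicFormallySmooth (A₁ := R)
      (Groth.Agent.Helper8.AdicFS.of_formallySmooth _)
  exact Groth.Agent.Helper8.RLR.isDomain (Localization.AtPrime p')

end Groth.Agent.Helper8.NerD
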