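import Mathlib
import Groth.Agent.S2032
import Groth.Agent.Lib.Helper8.NerD4
import Groth.Agent.Lib.Helper8.NerD5

/-!
# Smoothness at a special point from a choice of relations and variables: assembly
-/

set_option autoImplicit false
universe u

namespace Groth.Agent.Helper8.NerD

open MvPolynomial IsLocalRing

/-- Let `A = R[x]/(f)` over a regular local ring `R`, `q ⊆ p` primes of `A` with `p` over the
maximal ideal. Suppose `c` relations and `c` variables are chosen such that the Jacobian minor does
not vanish at `p`, and the chosen relations generate the conormal module near `q`. Then `A` is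
smooth over `R` at `p`. -/
theorem isSmoothAt_of_rows_cols {R A : Type u} [CommRing R] [IsRegularLocalRing R] [CommRing A]
    [Algebra R A] {n m c : ℕ}
    (f : Fin m → MvPolynomial (Fin n) R) (φ : MvPolynomial (Fin n) R →ₐ[R] A)
    (hφ : Function.Surjective φ) (hker : RingHom.ker φ.toRingHom = Ideal.span (Set.range f))
    (p q : Ideal A) [p.IsPrime] [q.IsPrime] (hqp : q ≤ p)
    (hpR : ∀ r ∈ maximalIdeal R, algebraMap R A r ∈ p)
    (rows : Fin c → Fin m) (cols : Fin c → Fin n) (hcols : Function.Injective cols)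
    (hδ : φ (Matrix.det (Matrix.of fun j k : Fin c => pderiv (cols k) (f (rows j)))) ∉ p)
    (u : MvPolynomial (Fin n) R) (hu : φ u ∉ q)
    (hmem : ∀ ℓ, u * f ℓ ∈ Ideal.span (Set.range (f ∘ rows)) ⊔ Ideal.span (Set.range f) ^ 2) :
    Algebra.IsSmoothAt R p := by
  classical
  obtain ⟨v, hv⟩ : ∃ v : Fin c → MvPolynomial (Fin n) R, v = f ∘ rows := ⟨_, rfl⟩
  obtain ⟨I, hIdef⟩ : ∃ I : Ideal (MvPolynomial (Fin n) R), I = Ideal.span (Set.range f) :=
    ⟨_, rfl⟩
  have hI₀I : Ideal.span (Set.range v) ≤ I := by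
    rw [hIdef]; apply Ideal.span_mono
    rintro _ ⟨j, rfl⟩; rw [hv]; exact ⟨_, rfl⟩
  have hkerφ : ∀ x, φ x = 0 ↔ x ∈ I := by
    intro x; rw [hIdef, ← hker]; rfl
  let π : (MvPolynomial (Fin n) R ⧸ Ideal.span (Set.range v)) →ₐ[R] A :=
    Ideal.Quotient.liftₐ (Ideal.span (Set.range v)) φ
      (fun x hx => (hkerφ x).mpr (hI₀I hx))
  have hπmk : ∀ x, π (Ideal.Quotient.mk _ x) = φ x := fun x => rfl
  have hπsurj : Function.Surjective π := by
    intro a
    obtain ⟨x, rfl⟩ := hφ a
    exact ⟨Ideal.Quotient.mk _ x, hπmk x⟩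
  set B' := MvPolynomial (Fin n) R ⧸ Ideal.span (Set.range v) with hB'
  obtain ⟨J, hJdef⟩ : ∃ J : Ideal B', J = RingHom.ker π.toRingHom := ⟨_, rfl⟩
  have hJmap : J = I.map (Ideal.Quotient.mk (Ideal.span (Set.range v))) := by
    apply le_antisymm
    · intro b hb
      obtain ⟨x, rfl⟩ := Ideal.Quotient.mk_surjective b
      rw [hJdef, RingHom.mem_ker] at hb
      have : φ x = 0 := hb
      exact Ideal.mem_map_of_mem _ ((hkerφ x).mp this)
    · rw [Ideal.map_le_iff_le_comap]
      intro x hx
      rw [Ideal.mem_comap, hJdef, RingHom.mem_ker]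
      exact (hkerφ x).mpr hx
  have hJfg : J.FG := by
    rw [hJmap]
    apply Ideal.FG.map
    rw [hIdef]
    exact Submodule.fg_span (Set.finite_range f)
  -- the element `s`
  let s : B' := Ideal.Quotient.mk _ u
  have hmemI : ∀ x ∈ I, u * x ∈ Ideal.span (Set.range v) ⊔ I ^ 2 := by
    intro x hx
    rw [hIdef] at hx
    refine Submodule.span_induction (p := fun x _ => u * x ∈ Ideal.span (Set.range v) ⊔ I ^ 2)
      ?_ ?_ ?_ ?_ hx
    · rintro _ ⟨ℓ, rfl⟩
      rw [hv, hIdef]
      exact hmem ℓ
    · rw [mul_zero]; exact Ideal.zero_mem _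
    · intro x y _ _ hx hy; rw [mul_add]; exact Ideal.add_mem _ hx hy
    · intro a x _ hx
      rw [smul_eq_mul, mul_left_comm]
      exact Ideal.mul_mem_left _ _ hx
  have hsJ : ∀ j ∈ J, s * j ∈ J * J := by
    intro j hj
    rw [hJmap] at hj ⊢
    obtain ⟨x, hx, rfl⟩ := (Ideal.mem_map_iff_of_surjective _ Ideal.Quotient.mk_surjective).mp hj
    have h1 := Ideal.mem_map_of_mem (Ideal.Quotient.mk (Ideal.span (Set.range v))) (hmemI x hx)
    rw [Ideal.map_sup, Ideal.map_quotient_self, bot_sup_eq, pow_two, Ideal.map_mul, map_mul] at h1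
    exact h1
  -- the primes
  let p' : Ideal B' := p.comap π.toRingHom
  let q' : Ideal B' := q.comap π.toRingHom
  haveI : p'.IsPrime := Ideal.comap_isPrime _ _
  haveI : q'.IsPrime := Ideal.comap_isPrime _ _
  have hq'p' : q' ≤ p' := Ideal.comap_mono hqp
  have hJq' : J ≤ q' := by
    rw [hJdef]
    intro b hb
    rw [RingHom.mem_ker] at hb
    change π.toRingHom b ∈ q
    rw [hb]; exact Ideal.zero_mem _
  have hsq' : s ∉ q' := fun h => hu h
  let g : B' := Ideal.Quotient.mk _
    (Matrix.det (Matrix.of fun j k : Fin c => pderiv (cols k) (v j)))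
  have hπg : π g = φ (Matrix.det (Matrix.of fun j k : Fin c => pderiv (cols k) (f (rows j)))) := by
    rw [hπmk, hv]
    rfl
  have hgp' : g ∉ p' := by
    intro h
    apply hδ
    rw [← hπg]
    exact h
  haveI : IsDomain (Localization.AtPrime p') :=
    isDomain_atPrime_of_minor v cols hcols p'
      (fun r hr => by
        change π.toRingHom (algebraMap R B' r) ∈ p
        have : π.toRingHom (algebraMap R B' r) = algebraMap R A r := π.commutes r
        rw [this]
        exact hpR r hr) hgp'
  obtain ⟨t, htp', htJ⟩ := exists_annihilator_of_isDomain J hJfg p' q' hq'p' hJq' s hsq' hsJ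
  -- the localization
  let u' : B' := g * t
  have hu'p : π u' ∉ p := by
    intro h
    have : u' ∈ p' := h
    rcases Ideal.IsPrime.mem_or_mem inferInstance this with h1 | h1
    · exact hgp' h1
    · exact htp' h1
  have hu'J : ∀ j ∈ RingHom.ker π.toRingHom, u' * j = 0 := by
    intro j hj
    rw [← hJdef] at hj
    rw [mul_assoc, htJ j hj, mul_zero]
  let T := Localization.Away (π u')
  letI algB'T : Algebra B' T := ((algebraMap A T).comp π.toRingHom).toAlgebra
  have hBT : ∀ y, algebraMap B' T y = algebraMap A T (π.toRingHom y) := fun y => rfl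
  haveI : IsScalarTower R B' T := by
    refine IsScalarTower.of_algebraMap_eq (R := R) (S := B') (A := T) (fun r => ?_)
    rw [hBT]
    have : π.toRingHom (algebraMap R B' r) = algebraMap R A r := π.commutes r
    rw [this, IsScalarTower.algebraMap_apply R A T]
  haveI : IsLocalization.Away (π.toRingHom u') T :=
    (inferInstance : IsLocalization.Away (π u') T)
  haveI hloc : IsLocalization.Away (u' * u') T :=
    Groth.Agent.S2032.away_of_annihilator π.toRingHom hπsurj u' u' 1 hu'J (pow_one _).symm hBT
  have hunit : IsUnit (algebraMap B' T g) := by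
    have h1 : IsUnit (algebraMap B' T u') :=
      IsLocalization.Away.algebraMap_isUnit (S := T) (π.toRingHom u')
    have h2 : algebraMap B' T u' = algebraMap B' T g * algebraMap B' T t := map_mul _ g t
    exact isUnit_of_mul_isUnit_left (h2 ▸ h1)
  haveI : Algebra.IsStandardSmooth R T :=
    Groth.Agent.S2032.isStandardSmooth_of_naive v cols hcols T (u' * u') hunit
  haveI : Algebra.FormallySmooth R T := inferInstance
  exact Groth.Agent.Helper8.Jac.formallySmooth_atPrime_of_away p (π u') hu'p inferInstance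

end Groth.Agent.Helper8.NerD
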