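import Mathlib
import Groth.Agent.Lib.Helper8.NerD2
import Groth.Agent.Lib.Helper8.NerD3
import Groth.Agent.Lib.Helper8.NerD6

/-!
# Smoothness at the special point from freeness of the differentials along a local ring
-/

set_option autoImplicit false
universe u

namespace Groth.Agent.Helper8.NerD

open TensorProduct IsLocalRing

/-- Let `R` be a regular local ring, `Λ` a local `R`-algebra dominating `R`, `A` a finite type
`R`-algebra with an `R`-algebra map `A → Λ` whose kernel is a prime at which `A` is smooth. If
`Λ ⊗_A Ω_{A/R}` is projective, then `A` is smooth at the inverse image of the maximal ideal. -/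
theorem isSmoothAt_comap_maximalIdeal_of_projective {R Λ A : Type u} [CommRing R]
    [IsRegularLocalRing R] [CommRing Λ] [IsLocalRing Λ] [Algebra R Λ]
    (hloc : ∀ r ∈ maximalIdeal R, algebraMap R Λ r ∈ maximalIdeal Λ)
    [CommRing A] [Algebra R A] [Algebra.FiniteType R A] [Algebra A Λ] [IsScalarTower R A Λ]
    [(RingHom.ker (algebraMap A Λ)).IsPrime]
    (hq : Algebra.IsSmoothAt R (RingHom.ker (algebraMap A Λ)))
    (hproj : Module.Projective Λ (Λ ⊗[A] Ω[A⁄R])) :
    Algebra.IsSmoothAt R ((maximalIdeal Λ).comap (algebraMap A Λ)) := by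
  classical
  haveI := hq
  haveI : IsNoetherianRing R := inferInstance
  obtain ⟨n, φ, hφ⟩ := Algebra.FiniteType.iff_quotient_mvPolynomial''.mp ‹Algebra.FiniteType R A›
  have hfg : (RingHom.ker φ.toRingHom).FG := IsNoetherian.noetherian _
  obtain ⟨m, f, hf⟩ := Submodule.fg_iff_exists_fin_generating_family.mp hfg
  have hker : RingHom.ker φ.toRingHom = Ideal.span (Set.range f) := hf.symm
  let G : Algebra.Generators R A (Fin n) := Algebra.Generators.ofAlgHom φ hφ
  have hval : MvPolynomial.aeval G.val = φ := by
    apply MvPolynomial.algHom_ext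
    intro i
    simp [G, Algebra.Generators.ofAlgHom]
  have hGker : Ideal.span (Set.range f) = G.ker := by
    rw [← hker]
    exact (Algebra.Generators.ker_ofAlgHom φ hφ).symm
  obtain ⟨c, rows, cols, hunit, hrel⟩ :=
    exists_rows_cols_of_projective (Λ := Λ) G f hGker hproj
  rw [hval] at hunit
  have hqp : RingHom.ker (algebraMap A Λ) ≤
      (IsLocalRing.maximalIdeal Λ).comap (algebraMap A Λ) := by
    intro a ha
    rw [RingHom.mem_ker] at ha
    rw [Ideal.mem_comap, ha]
    exact Ideal.zero_mem _
  have hδp : φ (Matrix.det (Matrix.of fun j k : Fin c =>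
      MvPolynomial.pderiv (cols k) (f (rows j)))) ∉
      (IsLocalRing.maximalIdeal Λ).comap (algebraMap A Λ) := by
    intro h
    rw [Ideal.mem_comap] at h
    exact h hunit
  have hδq : MvPolynomial.aeval G.val (Matrix.det (Matrix.of fun j k : Fin c =>
      MvPolynomial.pderiv (cols k) (f (rows j)))) ∉ RingHom.ker (algebraMap A Λ) := by
    rw [hval]
    exact fun h => hδp (hqp h)
  obtain ⟨u, hu, hmem⟩ := exists_mul_mem_of_rows (Λ := Λ) G f hGker
    (RingHom.ker (algebraMap A Λ)) le_rfl rows cols hδq hrel
  rw [hval] at hu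
  haveI : ((IsLocalRing.maximalIdeal Λ).comap (algebraMap A Λ)).IsPrime :=
    Ideal.comap_isPrime _ _
  refine isSmoothAt_of_rows_cols f φ hφ hker _
    (RingHom.ker (algebraMap A Λ)) hqp ?_ rows cols cols.injective hδp u hu hmem
  intro r hr
  rw [Ideal.mem_comap, ← IsScalarTower.algebraMap_apply]
  exact hloc r hr

end Groth.Agent.Helper8.NerD
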