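import Mathlib
import Groth.Agent.S2451
import Groth.Agent.Lib.Helper8.NerB1
import Groth.Agent.Lib.Helper8.NerB3
import Groth.Agent.Lib.Helper8.NerB4
import Groth.Agent.Lib.Helper8.NerB6
import Groth.Agent.Lib.Helper8.NerB7
import Groth.Agent.Lib.Helper8.NerB8
import Groth.Agent.Lib.Helper8.NerB9
import Groth.Agent.Lib.Helper8.NerD7

/-!
# Néron's blow-up of a smooth point is smooth
-/

set_option autoImplicit false
universe u

namespace Groth.Agent.Helper8.NerB

open TensorProduct KaehlerDifferential IsLocalRing BlowUp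

section setup

variable {R Λ A : Type u} [CommRing R] [IsLocalRing R] [CommRing Λ] [IsLocalRing Λ] [Algebra R Λ]
  [IsLocalHom (algebraMap R Λ)] [CommRing A] [Algebra R A] [Algebra A Λ] [IsScalarTower R A Λ]

local notation "𝔭" => Ideal.comap (algebraMap A Λ) (maximalIdeal Λ)

theorem isUnit_of_notMem (s : A) (hs : s ∉ 𝔭) : IsUnit (algebraMap A Λ s) := by
  by_contra h
  exact hs h

variable (R Λ A) in
/-- The canonical local homomorphism `A_𝔭 → Λ`. -/
noncomputable def toΛ : Localization.AtPrime 𝔭 →ₐ[R] Λ :=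
  IsLocalization.liftAlgHom (M := (𝔭).primeCompl) (f := IsScalarTower.toAlgHom R A Λ)
    (fun y => show IsUnit ((IsScalarTower.toAlgHom R A Λ) (y : A)) from
      isUnit_of_notMem (Λ := Λ) (A := A) y y.2)

theorem toΛ_algebraMap (a : A) : toΛ R Λ A (algebraMap A _ a) = algebraMap A Λ a := by
  exact IsLocalization.lift_eq _ a

instance isLocalHom_toΛ : IsLocalHom (toΛ R Λ A) := by
  constructor
  intro t ht
  obtain ⟨a, s, rfl⟩ := IsLocalization.exists_mk'_eq (𝔭).primeCompl t
  have h1 : toΛ R Λ A (IsLocalization.mk' _ a s) * algebraMap A Λ s = algebraMap A Λ a := by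
    rw [← toΛ_algebraMap (R := R), ← map_mul, IsLocalization.mk'_spec, toΛ_algebraMap]
  have h2 : IsUnit (algebraMap A Λ a) := by
    rw [← h1]
    exact ht.mul (isUnit_of_notMem (Λ := Λ) (A := A) s s.2)
  have h3 : a ∉ 𝔭 := fun h => h h2
  have h4 : IsUnit (algebraMap A (Localization.AtPrime 𝔭) a) :=
    IsLocalization.map_units _ (⟨a, h3⟩ : (𝔭).primeCompl)
  rw [← IsLocalization.mk'_spec (Localization.AtPrime 𝔭) a s] at h4
  exact isUnit_of_mul_isUnit_left h4

instance isLocalHom_algebraMap_atPrime :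
    IsLocalHom (algebraMap R (Localization.AtPrime 𝔭)) := by
  constructor
  intro r hr
  have h1 : IsUnit (toΛ R Λ A (algebraMap R _ r)) := hr.map _
  rw [AlgHom.commutes] at h1
  exact (isUnit_map_iff (algebraMap R Λ) r).mp h1

theorem formallySmooth_residueField
    (hsep : Algebra.IsGeometricallyReduced (ResidueField R) (ResidueField Λ)) :
    Algebra.FormallySmooth (ResidueField R) (ResidueField (Localization.AtPrime 𝔭)) := by
  haveI := hsep
  have h1 : Algebra.IsGeometricallyReduced (ResidueField R)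
      (ResidueField (Localization.AtPrime 𝔭)) :=
    Algebra.IsGeometricallyReduced.of_injective (ResidueField.mapAlgHom' (toΛ R Λ A))
      (RingHom.injective _)
  exact (Groth.Agent.S2451.result).2 h1

/-- The `A`-linear map `κ(𝔭) → κ(Λ)`. -/
noncomputable def chiL : ResidueField (Localization.AtPrime 𝔭) →ₗ[A] ResidueField Λ where
  toFun := ResidueField.map (toΛ R Λ A : Localization.AtPrime 𝔭 →+* Λ)
  map_add' := map_add _
  map_smul' a z := by
    obtain ⟨z, rfl⟩ := residue_surjective z
    rw [RingHom.id_apply, Algebra.smul_def, Algebra.smul_def, map_mul]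
    congr 1
    change ResidueField.map _ (residue _ (algebraMap A _ a)) = residue Λ (algebraMap A Λ a)
    rw [ResidueField.map_residue]
    congr 1
    exact toΛ_algebraMap (R := R) a

theorem chiL_one : chiL (R := R) (Λ := Λ) (A := A) 1 = 1 :=
  map_one (ResidueField.map (toΛ R Λ A : Localization.AtPrime 𝔭 →+* Λ))

/-- `Λ ⊗ Ω_{A/R}` is finite free when `A` is smooth at `𝔭`. -/
theorem free_tensor_kaehler [Algebra.FiniteType R A]
    (hsm : Algebra.IsSmoothAt R 𝔭) :
    Module.Free Λ (Λ ⊗[A] Ω[A⁄R]) ∧ Module.Finite Λ (Λ ⊗[A] Ω[A⁄R]) := by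
  let T := Localization.AtPrime 𝔭
  haveI : Algebra.FormallySmooth R T := hsm
  letI : Algebra T Λ := (toΛ R Λ A).toRingHom.toAlgebra
  haveI : IsScalarTower A T Λ := IsScalarTower.of_algebraMap_eq
    (fun a => (toΛ_algebraMap (R := R) a).symm)
  haveI : Module.Projective T (T ⊗[A] Ω[A⁄R]) := by
    haveI : Algebra.FormallyEtale A T := Algebra.FormallyEtale.of_isLocalization (𝔭).primeCompl
    exact Module.Projective.of_equiv (tensorKaehlerEquivOfFormallyEtale R A T).symm
  haveI : Module.Projective Λ (Λ ⊗[A] Ω[A⁄R]) :=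
    Module.Projective.of_equiv (AlgebraTensorModule.cancelBaseChange A T Λ Λ Ω[A⁄R])
  haveI : Module.Finite Λ (Λ ⊗[A] Ω[A⁄R]) := inferInstance
  exact ⟨Module.free_of_flat_of_isLocalRing, inferInstance⟩

end setup

end Groth.Agent.Helper8.NerB
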