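import Mathlib
import Groth.Agent.Lib.Helper8.NerB10

/-!
# Néron's blow-up of a smooth point is smooth: the main theorem
-/

set_option autoImplicit false
universe u

namespace Groth.Agent.Helper8.NerB

open TensorProduct KaehlerDifferential IsLocalRing BlowUp

variable {R Λ A : Type u} [CommRing R] [IsDomain R]
    [IsDiscreteValuationRing R] [CommRing Λ] [IsDomain Λ] [IsDiscreteValuationRing Λ] [Algebra R Λ]
    [NoZeroSMulDivisors R Λ] [IsLocalHom (algebraMap R Λ)]
    [CommRing A] [Algebra R A] [Algebra.FiniteType R A] [Algebra A Λ]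
    [IsScalarTower R A Λ] (π : R)

local notation "𝔭" => Ideal.comap (algebraMap A Λ) (maximalIdeal Λ)
local notation "ϖ" => algebraMap R A π
local notation "𝔸'" => affineAlgebra A 𝔭 ϖ
local notation "𝔸ϖ" => Localization.Away ϖ
local notation "Λϖ" => Localization.Away (algebraMap A Λ ϖ)

theorem isSmoothAt_neronBlowup
    (he : (IsLocalRing.maximalIdeal R).map (algebraMap R Λ) = IsLocalRing.maximalIdeal Λ)
    (hsep : Algebra.IsGeometricallyReduced (IsLocalRing.ResidueField R)
      (IsLocalRing.ResidueField Λ))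
    (hπ : IsLocalRing.maximalIdeal R = Ideal.span {π})
    (hsm : Algebra.IsSmoothAt R ((IsLocalRing.maximalIdeal Λ).comap (algebraMap A Λ)))
    (φ' : BlowUp.affineAlgebra A ((IsLocalRing.maximalIdeal Λ).comap (algebraMap A Λ))
      (algebraMap R A π) →ₐ[A] Λ)
    (hφ' : ∀ a' : BlowUp.affineAlgebra A ((IsLocalRing.maximalIdeal Λ).comap (algebraMap A Λ))
        (algebraMap R A π),
      algebraMap Λ (Localization.Away (algebraMap A Λ (algebraMap R A π))) (φ' a') =
        Localization.awayMap (algebraMap A Λ) (algebraMap R A π) a'.val) :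
    Algebra.IsSmoothAt R ((IsLocalRing.maximalIdeal Λ).comap φ'.toRingHom) := by
  classical
  haveI : IsNoetherianRing R := inferInstance
  haveI : IsNoetherianRing A := Algebra.FiniteType.isNoetherianRing R A
  haveI hpprime : ((maximalIdeal Λ).comap (algebraMap A Λ)).IsPrime := Ideal.comap_isPrime _ _
  have hπΛ : algebraMap A Λ (algebraMap R A π) ∈ maximalIdeal Λ := by
    rw [← IsScalarTower.algebraMap_apply, ← he]
    apply Ideal.mem_map_of_mem
    rw [hπ]
    exact Ideal.subset_span rfl
  have hπ0 : algebraMap A Λ (algebraMap R A π) ≠ 0 := by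
    rw [← IsScalarTower.algebraMap_apply]
    intro h0
    have h1 : π = 0 := (FaithfulSMul.algebraMap_injective R Λ) (by rw [h0, map_zero])
    have h2 : maximalIdeal R = ⊥ := by rw [hπ, h1, Ideal.span_singleton_eq_bot]
    exact IsDiscreteValuationRing.not_a_field R h2
  have hunit : ∀ s, s ∉ (maximalIdeal Λ).comap (algebraMap A Λ) → IsUnit (algebraMap A Λ s) :=
    fun s hs => isUnit_of_notMem s hs
  -- the algebra structure on `Λ` over the blow-up
  letI algA'Λ : Algebra (affineAlgebra A ((maximalIdeal Λ).comap (algebraMap A Λ))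
      (algebraMap R A π)) Λ := φ'.toRingHom.toAlgebra
  haveI tower1 : IsScalarTower A (affineAlgebra A ((maximalIdeal Λ).comap (algebraMap A Λ))
      (algebraMap R A π)) Λ := IsScalarTower.of_algebraMap_eq (fun a => (φ'.commutes a).symm)
  haveI tower2 : IsScalarTower R (affineAlgebra A ((maximalIdeal Λ).comap (algebraMap A Λ))
      (algebraMap R A π)) Λ := IsScalarTower.of_algebraMap_eq (fun r => by
    rw [IsScalarTower.algebraMap_apply R A Λ,
      IsScalarTower.algebraMap_apply R A (affineAlgebra A ((maximalIdeal Λ).comap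
        (algebraMap A Λ)) (algebraMap R A π)),
      ← IsScalarTower.algebraMap_apply A (affineAlgebra A ((maximalIdeal Λ).comap
        (algebraMap A Λ)) (algebraMap R A π)) Λ])
  -- separability
  haveI := formallySmooth_residueField (R := R) (Λ := Λ) (A := A) hsep
  obtain ⟨c, x, hxp, hgenT, hD⟩ := exists_minimal_generators π hπ
    ((maximalIdeal Λ).comap (algebraMap A Λ)) hπΛ
  have hgen := fun y hy => exists_mul_eq_of_mem ((maximalIdeal Λ).comap (algebraMap A Λ)) x
    (algebraMap R A π) hgenT y hy
  -- the basis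
  obtain ⟨hVfree, hVfin⟩ := free_tensor_kaehler (R := R) (Λ := Λ) (A := A) hsm
  haveI := hVfree
  haveI := hVfin
  obtain ⟨ι₂, hι₂, e, heb⟩ := exists_basis_extending (Λ := Λ)
    (fun i => (1 : Λ) ⊗ₜ[A] D R A (x i)) (fun i₀ => by
      obtain ⟨D₀, hD1, hD0⟩ := hD i₀
      refine ⟨LinearMap.liftBaseChange Λ
        (chiL (R := R) (Λ := Λ) (A := A) ∘ₗ D₀.liftKaehlerDifferential), ?_, fun i hi => ?_⟩
      · simp only [LinearMap.liftBaseChange_tmul, LinearMap.comp_apply,
          Derivation.liftKaehlerDifferential_comp_D, hD1, one_smul]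
        exact chiL_one
      · simp only [LinearMap.liftBaseChange_tmul, LinearMap.comp_apply,
          Derivation.liftKaehlerDifferential_comp_D, hD0 i hi, map_zero, smul_zero])
  -- finiteness for the blow-up
  haveI : Algebra.FiniteType A (affineAlgebra A ((maximalIdeal Λ).comap (algebraMap A Λ))
      (algebraMap R A π)) :=
    finiteType _ _ ((isNoetherianRing_iff_ideal_fg A).mp inferInstance _)
  haveI : Algebra.FiniteType R (affineAlgebra A ((maximalIdeal Λ).comap (algebraMap A Λ))
      (algebraMap R A π)) := Algebra.FiniteType.trans (S := A) inferInstance inferInstance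
  haveI : Module.Finite Λ (Λ ⊗[affineAlgebra A ((maximalIdeal Λ).comap (algebraMap A Λ))
      (algebraMap R A π)] Ω[affineAlgebra A ((maximalIdeal Λ).comap (algebraMap A Λ))
      (algebraMap R A π)⁄R]) := inferInstance
  have hDϖ : D R (affineAlgebra A ((maximalIdeal Λ).comap (algebraMap A Λ))
      (algebraMap R A π)) (algebraMap A _ (algebraMap R A π)) = 0 := by
    rw [← IsScalarTower.algebraMap_apply]
    exact Derivation.map_algebraMap _ _
  -- the localizations
  letI algAϖΛϖ : Algebra (Localization.Away (algebraMap R A π))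
      (Localization.Away (algebraMap A Λ (algebraMap R A π))) :=
    (Localization.awayMap (algebraMap A Λ) (algebraMap R A π)).toAlgebra
  haveI tower3 : IsScalarTower A (Localization.Away (algebraMap R A π))
      (Localization.Away (algebraMap A Λ (algebraMap R A π))) :=
    IsScalarTower.of_algebraMap_eq (fun a => by
      change _ = Localization.awayMap (algebraMap A Λ) (algebraMap R A π) (algebraMap A _ a)
      rw [Localization.awayMap, IsLocalization.Away.map, IsLocalization.map_eq]
      exact IsScalarTower.algebraMap_apply A Λ _ a)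
  haveI tower4 : IsScalarTower (affineAlgebra A ((maximalIdeal Λ).comap (algebraMap A Λ))
      (algebraMap R A π)) Λ (Localization.Away (algebraMap A Λ (algebraMap R A π))) :=
    IsScalarTower.of_algebraMap_eq (fun a' => (hφ' a').symm)
  haveI tower5 : IsScalarTower (affineAlgebra A ((maximalIdeal Λ).comap (algebraMap A Λ))
      (algebraMap R A π)) (Localization.Away (algebraMap R A π))
      (Localization.Away (algebraMap A Λ (algebraMap R A π))) := inferInstance
  haveI tower6 : IsScalarTower R A Λϖ :=
    IsScalarTower.of_algebraMap_eq (fun r =>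
      (IsScalarTower.algebraMap_apply R Λ Λϖ r).trans
        ((congrArg (algebraMap Λ Λϖ) (IsScalarTower.algebraMap_apply R A Λ r)).trans
          (IsScalarTower.algebraMap_apply A Λ Λϖ _).symm))
  haveI tower7 : IsScalarTower R 𝔸' Λϖ :=
    IsScalarTower.of_algebraMap_eq (fun r =>
      (IsScalarTower.algebraMap_apply R Λ Λϖ r).trans
        ((congrArg (algebraMap Λ Λϖ) (IsScalarTower.algebraMap_apply R 𝔸' Λ r)).trans
          (IsScalarTower.algebraMap_apply 𝔸' Λ Λϖ _).symm))
  haveI tower8 : IsScalarTower R 𝔸ϖ Λϖ :=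
    IsScalarTower.of_algebraMap_eq (fun r =>
      (IsScalarTower.algebraMap_apply R A Λϖ r).trans
        ((IsScalarTower.algebraMap_apply A 𝔸ϖ Λϖ _).trans
          (congrArg (algebraMap 𝔸ϖ Λϖ) (IsScalarTower.algebraMap_apply R A 𝔸ϖ r).symm)))
  haveI : Algebra.FormallyEtale A (Localization.Away (algebraMap R A π)) :=
    Algebra.FormallyEtale.of_isLocalization (Submonoid.powers (algebraMap R A π))
  have hinj : Function.Injective (algebraMap Λ
      (Localization.Away (algebraMap A Λ (algebraMap R A π)))) :=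
    IsLocalization.injective _ (powers_le_nonZeroDivisors_of_noZeroDivisors hπ0)
  have hαinj : Function.Injective (alpha R A (affineAlgebra A ((maximalIdeal Λ).comap
      (algebraMap A Λ)) (algebraMap R A π)) Λ) :=
    injective_alpha (Localization.Away (algebraMap R A π))
      (L := Localization.Away (algebraMap A Λ (algebraMap R A π))) hinj
  -- freeness
  have hfree : Module.Free Λ (Λ ⊗[𝔸'] Ω[𝔸'⁄R]) :=
    free_of_injective_alpha hαinj 𝔭 hunit ϖ hπ0 hDϖ hπΛ (fun x hx => frac 𝔭 ϖ x hx)
      (fun x hx => algebraMap_mul_frac 𝔭 ϖ x hx) (fun y z h => algebraMap_mul_cancel 𝔭 ϖ h)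
      (fun P h1 h2 h3 h4 y => induction_on 𝔭 ϖ h1 h2 h3 h4 y) x hxp hgen e heb
  -- smoothness at the generic point
  haveI hq'prime : (RingHom.ker (algebraMap 𝔸' Λ)).IsPrime := RingHom.ker_isPrime _
  haveI hqprime : (RingHom.ker (algebraMap A Λ)).IsPrime := RingHom.ker_isPrime _
  have hqp : RingHom.ker (algebraMap A Λ) ≤ 𝔭 := by
    intro a ha
    rw [RingHom.mem_ker] at ha
    rw [Ideal.mem_comap, ha]
    exact Ideal.zero_mem _
  have hq' : Algebra.IsSmoothAt R (RingHom.ker (algebraMap 𝔸' Λ)) := by
    refine formallySmooth_atPrime_blowup 𝔭 ϖ (RingHom.ker (algebraMap 𝔸' Λ)) ?_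
      (RingHom.ker (algebraMap A Λ)) ?_ (formallySmooth_atPrime_of_le 𝔭 _ hqp hsm)
    · rw [RingHom.mem_ker, ← IsScalarTower.algebraMap_apply A 𝔸' Λ]
      exact hπ0
    · ext a
      rw [Ideal.mem_comap, RingHom.mem_ker, RingHom.mem_ker,
        ← IsScalarTower.algebraMap_apply A 𝔸' Λ]
  have hloc : ∀ r ∈ maximalIdeal R, algebraMap R Λ r ∈ maximalIdeal Λ := by
    intro r hr
    rw [← he]
    exact Ideal.mem_map_of_mem _ hr
  exact Groth.Agent.Helper8.NerD.isSmoothAt_comap_maximalIdeal_of_projective (Λ := Λ) (A := 𝔸')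
    hloc hq' (Module.Projective.of_free)

end Groth.Agent.Helper8.NerB
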