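import Mathlib
import Groth.Agent.Lib.Helper8.PSeries1

/-!
# Cotangent computation at the singular point of a type II Weierstrass cubic in residue
characteristic two (S14909)

`gen`: generation `M^(i+1) + I = (y^(i+1), x y^i) + I` (Nakayama).
`test`: a test homomorphism to `R₀[Y, ε]/(Y² - c, ε²)` detecting the coefficients.
-/

namespace Groth.Agent.Helper8.NerII

open MvPowerSeries

universe u

section Quad

variable {R₀ : Type*} [CommRing R₀] (c : R₀)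

/-- the element `A + B·Y + E·ε + D·εY` of `R₀[Y,ε]/(Y² - c, ε²)` -/
def mk4 (A B E D : R₀) : QuadraticAlgebra (QuadraticAlgebra R₀ c 0) 0 0 := ⟨⟨A, B⟩, ⟨E, D⟩⟩

theorem mk4_congr {A B E D A' B' E' D' : R₀} (h1 : A = A') (h2 : B = B') (h3 : E = E')
    (h4 : D = D') : mk4 c A B E D = mk4 c A' B' E' D' := by
  rw [h1, h2, h3, h4]

theorem mk4_mul (A B E D A' B' E' D' : R₀) :
    mk4 c A B E D * mk4 c A' B' E' D' =
      mk4 c (A * A' + c * B * B') (A * B' + B * A')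
        (A * E' + c * B * D' + E * A' + c * D * B') (A * D' + B * E' + E * B' + D * A') := by
  apply QuadraticAlgebra.ext <;> apply QuadraticAlgebra.ext <;> simp [mk4] <;> ring

/-- constants -/
def gHom : R₀ →+* QuadraticAlgebra (QuadraticAlgebra R₀ c 0) 0 0 :=
  (algebraMap (QuadraticAlgebra R₀ c 0) (QuadraticAlgebra (QuadraticAlgebra R₀ c 0) 0 0)).comp
    (algebraMap R₀ (QuadraticAlgebra R₀ c 0))

theorem gHom_apply (p : R₀) : gHom c p = mk4 c p 0 0 0 := rfl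

/-- the class of `Y` -/
def Yv : QuadraticAlgebra (QuadraticAlgebra R₀ c 0) 0 0 := mk4 c 0 1 0 0

/-- the class of `ε` -/
def ev : QuadraticAlgebra (QuadraticAlgebra R₀ c 0) 0 0 := mk4 c 0 0 1 0

theorem Yv_mul_Yv : Yv c * Yv c = gHom c c := by
  rw [Yv, mk4_mul, gHom_apply]
  exact mk4_congr c (by ring) (by ring) (by ring) (by ring)

theorem ev_mul_ev : ev c * ev c = 0 := by
  rw [ev, mk4_mul]
  exact mk4_congr c (A' := 0) (B' := 0) (E' := 0) (D' := 0) (by ring) (by ring) (by ring)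
    (by ring)

theorem gY (p : R₀) : gHom c p * Yv c = mk4 c 0 p 0 0 := by
  rw [gHom_apply, Yv, mk4_mul]
  exact mk4_congr c (by ring) (by ring) (by ring) (by ring)

theorem ge (p : R₀) : gHom c p * ev c = mk4 c 0 0 p 0 := by
  rw [gHom_apply, ev, mk4_mul]
  exact mk4_congr c (by ring) (by ring) (by ring) (by ring)

theorem geY (p : R₀) : gHom c p * (ev c * Yv c) = mk4 c 0 0 0 p := by
  rw [gHom_apply, ev, Yv, mk4_mul, mk4_mul]
  exact mk4_congr c (by ring) (by ring) (by ring) (by ring)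

/-- the ideal `{A = 0, B, E, D ∈ P}` -/
def bI (P : Ideal R₀) (hP : ∀ p ∈ P, c * p = 0) :
    Ideal (QuadraticAlgebra (QuadraticAlgebra R₀ c 0) 0 0) where
  carrier := {z | z.re.re = 0 ∧ z.re.im ∈ P ∧ z.im.re ∈ P ∧ z.im.im ∈ P}
  add_mem' := by
    rintro z w ⟨h1, h2, h3, h4⟩ ⟨k1, k2, k3, k4⟩
    refine ⟨?_, ?_, ?_, ?_⟩
    · show z.re.re + w.re.re = 0
      rw [h1, k1, add_zero]
    · show z.re.im + w.re.im ∈ P
      exact P.add_mem h2 k2
    · show z.im.re + w.im.re ∈ P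
      exact P.add_mem h3 k3
    · show z.im.im + w.im.im ∈ P
      exact P.add_mem h4 k4
  zero_mem' := ⟨rfl, P.zero_mem, P.zero_mem, P.zero_mem⟩
  smul_mem' := by
    rintro t z ⟨h1, h2, h3, h4⟩
    have e : t * z = mk4 c (t.re.re * z.re.re + c * t.re.im * z.re.im)
        (t.re.re * z.re.im + t.re.im * z.re.re)
        (t.re.re * z.im.re + c * t.re.im * z.im.im + t.im.re * z.re.re + c * t.im.im * z.re.im)
        (t.re.re * z.im.im + t.re.im * z.im.re + t.im.re * z.re.im + t.im.im * z.re.re) :=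
      mk4_mul c t.re.re t.re.im t.im.re t.im.im z.re.re z.re.im z.im.re z.im.im
    show t * z ∈ _
    rw [e]
    refine ⟨?_, ?_, ?_, ?_⟩
    · show t.re.re * z.re.re + c * t.re.im * z.re.im = 0
      rw [h1, mul_zero, zero_add, mul_assoc, mul_left_comm, hP _ h2, mul_zero]
    · show t.re.re * z.re.im + t.re.im * z.re.re ∈ P
      rw [h1, mul_zero, add_zero]
      exact P.mul_mem_left _ h2
    · show t.re.re * z.im.re + c * t.re.im * z.im.im + t.im.re * z.re.re +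
        c * t.im.im * z.re.im ∈ P
      rw [h1, mul_zero, add_zero]
      exact P.add_mem (P.add_mem (P.mul_mem_left _ h3) (P.mul_mem_left _ h4))
        (P.mul_mem_left _ h2)
    · show t.re.re * z.im.im + t.re.im * z.im.re + t.im.re * z.re.im + t.im.im * z.re.re ∈ P
      rw [h1, mul_zero, add_zero]
      exact P.add_mem (P.add_mem (P.mul_mem_left _ h4) (P.mul_mem_left _ h3))
        (P.mul_mem_left _ h2)

end Quad

section Test

theorem test {R : Type u} [CommRing R] (ϖ u₆ a₁ a₆ : R) (k : ℕ)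
    (hP1 : a₁ ∈ Ideal.span {ϖ ^ (k + 1)})
    (ha₆ : a₆ = u₆ * ϖ) (h2 : (2 : R) ∈ Ideal.span {ϖ ^ (k + 1)}) (a b : R)
    (hmem : C a * (X 1 : MvPowerSeries (Fin 2) R) ^ (2 * k + 2) +
        C b * (X 0 * X 1 ^ (2 * k + 1)) ∈
      Ideal.span {(X 1 : MvPowerSeries (Fin 2) R) ^ (2 * k + 3), X 0 * X 1 ^ (2 * k + 2)} ⊔
      Ideal.span {(X 1 : MvPowerSeries (Fin 2) R) ^ 2 + C a₁ * (X 0 * X 1) - X 0 ^ 3 - C a₆,
        2 * X 1 + C a₁ * X 0, 3 * X 0 ^ 2 - C a₁ * X 1}) :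
    a * a₆ ^ (k + 1) ∈ Ideal.span {ϖ ^ (k + 2)} ∧
      ∃ s, b * a₆ ^ k - ϖ ^ (k + 1) * s ∈ Ideal.span {ϖ ^ (k + 2)} := by
  classical
  obtain ⟨q, hq⟩ : ∃ q : R →+* R ⧸ Ideal.span {ϖ ^ (k + 2)}, q = Ideal.Quotient.mk _ :=
    ⟨_, rfl⟩
  have hqsurj : Function.Surjective q := by rw [hq]; exact Ideal.Quotient.mk_surjective
  have hqker : ∀ z : R, q z = 0 → z ∈ Ideal.span {ϖ ^ (k + 2)} := fun z hz => by
    rw [hq] at hz; exact Ideal.Quotient.eq_zero_iff_mem.mp hz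
  have hqϖ : q ϖ ^ (k + 2) = 0 := by
    rw [hq, ← map_pow]
    exact Ideal.Quotient.eq_zero_iff_mem.mpr (Ideal.subset_span rfl)
  have hP : ∀ p ∈ Ideal.span {q ϖ ^ (k + 1)}, q a₆ * p = 0 := by
    intro p hp
    obtain ⟨t, rfl⟩ := Ideal.mem_span_singleton'.mp hp
    rw [ha₆, map_mul]
    calc q u₆ * q ϖ * (t * q ϖ ^ (k + 1)) = q u₆ * t * q ϖ ^ (k + 2) := by ring
      _ = 0 := by rw [hqϖ, mul_zero]
  obtain ⟨χ, hχC, hχX⟩ := Groth.Agent.Helper8.PSeries.exists_eval_nilpotent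
    ((gHom (q a₆)).comp q) (![ev (q a₆), Yv (q a₆)]) (by
      intro i
      fin_cases i
      · show IsNilpotent (ev (q a₆))
        exact ⟨2, by rw [pow_two]; exact ev_mul_ev _⟩
      · show IsNilpotent (Yv (q a₆))
        refine ⟨2 * (k + 2), ?_⟩
        rw [pow_mul, pow_two, Yv_mul_Yv, ← map_pow, ha₆, map_mul, mul_pow, hqϖ, mul_zero,
          map_zero])
  have hx0 : χ (X 0) = ev (q a₆) := hχX 0
  have hx1 : χ (X 1) = Yv (q a₆) := hχX 1
  have hχC' : ∀ r : R, χ (C r) = gHom (q a₆) (q r) := fun r => hχC r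
  obtain ⟨B, hB⟩ : ∃ B : Ideal (QuadraticAlgebra (QuadraticAlgebra (R ⧸ Ideal.span {ϖ ^ (k + 2)})
      (q a₆) 0) 0 0), B = bI (q a₆) (Ideal.span {q ϖ ^ (k + 1)}) hP := ⟨_, rfl⟩
  have hmemB : ∀ A B' E D : R ⧸ Ideal.span {ϖ ^ (k + 2)}, A = 0 →
      B' ∈ Ideal.span {q ϖ ^ (k + 1)} → E ∈ Ideal.span {q ϖ ^ (k + 1)} →
      D ∈ Ideal.span {q ϖ ^ (k + 1)} → mk4 (q a₆) A B' E D ∈ B := by
    intro A B' E D h1 h2' h3 h4
    rw [hB]
    exact ⟨h1, h2', h3, h4⟩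
  have hPa₁ : q a₁ ∈ Ideal.span {q ϖ ^ (k + 1)} := by
    obtain ⟨t, ht⟩ := Ideal.mem_span_singleton'.mp hP1
    rw [← ht, map_mul, map_pow]
    exact Ideal.mul_mem_left _ _ (Ideal.subset_span rfl)
  have hP2 : q 2 ∈ Ideal.span {q ϖ ^ (k + 1)} := by
    obtain ⟨t, ht⟩ := Ideal.mem_span_singleton'.mp h2
    rw [← ht, map_mul, map_pow]
    exact Ideal.mul_mem_left _ _ (Ideal.subset_span rfl)
  have hPc : q a₆ ^ (k + 1) ∈ Ideal.span {q ϖ ^ (k + 1)} := by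
    rw [ha₆, map_mul, mul_pow]
    exact Ideal.mul_mem_left _ _ (Ideal.subset_span rfl)
  have hz0 : (0 : R ⧸ Ideal.span {ϖ ^ (k + 2)}) ∈ Ideal.span {q ϖ ^ (k + 1)} := Ideal.zero_mem _
  have hY2 : ∀ j : ℕ, χ (X 1) ^ (2 * j) = gHom (q a₆) (q a₆ ^ j) := by
    intro j
    rw [hx1, pow_mul, pow_two, Yv_mul_Yv, map_pow]
  have e2 : (2 : MvPowerSeries (Fin 2) R) = C 2 := (map_ofNat C 2).symm
  have hF : χ ((X 1 : MvPowerSeries (Fin 2) R) ^ 2 + C a₁ * (X 0 * X 1) - X 0 ^ 3 - C a₆) ∈ B := by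
    have e : χ ((X 1 : MvPowerSeries (Fin 2) R) ^ 2 + C a₁ * (X 0 * X 1) - X 0 ^ 3 - C a₆) =
        mk4 (q a₆) 0 0 0 (q a₁) := by
      rw [map_sub, map_sub, map_add, map_mul, map_mul, map_pow, map_pow, hχC', hχC', hx0, hx1]
      rw [pow_two, Yv_mul_Yv]
      rw [show ev (q a₆) ^ 3 = ev (q a₆) * ev (q a₆) * ev (q a₆) by ring, ev_mul_ev, zero_mul]
      rw [geY, sub_zero, add_sub_cancel_left]
    rw [e]
    exact hmemB _ _ _ _ rfl hz0 hz0 hPa₁
  have hFy : χ (2 * (X 1 : MvPowerSeries (Fin 2) R) + C a₁ * X 0) ∈ B := by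
    have e : χ (2 * (X 1 : MvPowerSeries (Fin 2) R) + C a₁ * X 0) =
        mk4 (q a₆) 0 (q 2) 0 0 + mk4 (q a₆) 0 0 (q a₁) 0 := by
      rw [e2, map_add, map_mul, map_mul, hχC', hχC', hx0, hx1, gY, ge]
    rw [e]
    exact B.add_mem (hmemB _ _ _ _ rfl hP2 hz0 hz0) (hmemB _ _ _ _ rfl hz0 hPa₁ hz0)
  have hFx : χ (3 * (X 0 : MvPowerSeries (Fin 2) R) ^ 2 - C a₁ * X 1) ∈ B := by
    have e : χ (3 * (X 0 : MvPowerSeries (Fin 2) R) ^ 2 - C a₁ * X 1) =
        -mk4 (q a₆) 0 (q a₁) 0 0 := by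
      rw [map_sub, map_mul, map_mul, map_pow, hχC', hx0, hx1, pow_two, ev_mul_ev, mul_zero,
        zero_sub, gY]
    rw [e]
    exact B.neg_mem (hmemB _ _ _ _ rfl hPa₁ hz0 hz0)
  have hy : χ ((X 1 : MvPowerSeries (Fin 2) R) ^ (2 * k + 3)) ∈ B := by
    have e : χ ((X 1 : MvPowerSeries (Fin 2) R) ^ (2 * k + 3)) =
        mk4 (q a₆) 0 (q a₆ ^ (k + 1)) 0 0 := by
      rw [show 2 * k + 3 = 2 * (k + 1) + 1 by ring,
        pow_succ (X 1 : MvPowerSeries (Fin 2) R) (2 * (k + 1)), map_mul, map_pow, hY2, hx1, gY]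
    rw [e]
    exact hmemB _ _ _ _ rfl hPc hz0 hz0
  have hxy : χ ((X 0 : MvPowerSeries (Fin 2) R) * X 1 ^ (2 * k + 2)) ∈ B := by
    have e : χ ((X 0 : MvPowerSeries (Fin 2) R) * X 1 ^ (2 * k + 2)) =
        mk4 (q a₆) 0 0 (q a₆ ^ (k + 1)) 0 := by
      rw [show 2 * k + 2 = 2 * (k + 1) by ring, map_mul, map_pow, hY2, hx0, mul_comm, ge]
    rw [e]
    exact hmemB _ _ _ _ rfl hz0 hPc hz0
  have hJ : Ideal.span {(X 1 : MvPowerSeries (Fin 2) R) ^ (2 * k + 3), X 0 * X 1 ^ (2 * k + 2)} ⊔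
      Ideal.span {(X 1 : MvPowerSeries (Fin 2) R) ^ 2 + C a₁ * (X 0 * X 1) - X 0 ^ 3 - C a₆,
        2 * X 1 + C a₁ * X 0, 3 * X 0 ^ 2 - C a₁ * X 1} ≤ Ideal.comap χ B := by
    refine sup_le (Ideal.span_le.mpr ?_) (Ideal.span_le.mpr ?_)
    · intro z hz
      simp only [Set.mem_insert_iff, Set.mem_singleton_iff] at hz
      rcases hz with rfl | rfl
      · exact hy
      · exact hxy
    · intro z hz
      simp only [Set.mem_insert_iff, Set.mem_singleton_iff] at hz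
      rcases hz with rfl | rfl | rfl
      · exact hF
      · exact hFy
      · exact hFx
  have hh : χ (C a * (X 1 : MvPowerSeries (Fin 2) R) ^ (2 * k + 2) +
      C b * (X 0 * X 1 ^ (2 * k + 1))) ∈ B := hJ hmem
  have t1 : χ (C a * (X 1 : MvPowerSeries (Fin 2) R) ^ (2 * k + 2)) =
      mk4 (q a₆) (q a * q a₆ ^ (k + 1)) 0 0 0 := by
    rw [map_mul, map_pow, hχC', show 2 * k + 2 = 2 * (k + 1) by ring, hY2, ← map_mul,
      gHom_apply]
  have t2 : χ (C b * ((X 0 : MvPowerSeries (Fin 2) R) * X 1 ^ (2 * k + 1))) =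
      mk4 (q a₆) 0 0 0 (q b * q a₆ ^ k) := by
    rw [map_mul, map_mul, map_pow, hχC', pow_succ (χ (X 1)) (2 * k), hY2, hx0, hx1]
    rw [show gHom (q a₆) (q b) * (ev (q a₆) * (gHom (q a₆) (q a₆ ^ k) * Yv (q a₆))) =
      gHom (q a₆) (q b * q a₆ ^ k) * (ev (q a₆) * Yv (q a₆)) by rw [map_mul]; ring]
    rw [geY]
  rw [map_add, t1, t2, hB] at hh
  obtain ⟨k1, _, _, k4⟩ := hh
  have k1' : q a * q a₆ ^ (k + 1) + 0 = 0 := k1
  have k4' : 0 + q b * q a₆ ^ k ∈ Ideal.span {q ϖ ^ (k + 1)} := k4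
  rw [add_zero] at k1'
  rw [zero_add] at k4'
  refine ⟨hqker _ (by rw [map_mul, map_pow]; exact k1'), ?_⟩
  obtain ⟨t, ht⟩ := Ideal.mem_span_singleton'.mp k4'
  obtain ⟨s, rfl⟩ := hqsurj t
  refine ⟨s, hqker _ ?_⟩
  rw [map_sub, map_mul, map_mul, map_pow, map_pow, ← ht]
  ring

end Test

section Gen

theorem gen {R : Type u} [CommRing R] [IsLocalRing R] (ϖ u₁ a₁ a₆ : R) (u₆ w3 : Rˣ) (k : ℕ)
    (hϖ : ϖ ∈ IsLocalRing.maximalIdeal R)
    (ha₁ : a₁ = u₁ * ϖ ^ (k + 1)) (ha₆ : a₆ = u₆ * ϖ) (hw3 : (w3 : R) = 3) (i : ℕ) :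
    Ideal.span {(C ϖ : MvPowerSeries (Fin 2) R), X 0, X 1} ^ (i + 1) ⊔
      Ideal.span {(X 1 : MvPowerSeries (Fin 2) R) ^ 2 + C a₁ * (X 0 * X 1) - X 0 ^ 3 - C a₆,
        2 * X 1 + C a₁ * X 0, 3 * X 0 ^ 2 - C a₁ * X 1} =
    Ideal.span {(X 1 : MvPowerSeries (Fin 2) R) ^ (i + 1), X 0 * X 1 ^ i} ⊔
      Ideal.span {(X 1 : MvPowerSeries (Fin 2) R) ^ 2 + C a₁ * (X 0 * X 1) - X 0 ^ 3 - C a₆,
        2 * X 1 + C a₁ * X 0, 3 * X 0 ^ 2 - C a₁ * X 1} := by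
  classical
  obtain ⟨x, hx⟩ : ∃ x : MvPowerSeries (Fin 2) R, x = X 0 := ⟨_, rfl⟩
  obtain ⟨y, hy⟩ : ∃ y : MvPowerSeries (Fin 2) R, y = X 1 := ⟨_, rfl⟩
  rw [← hx, ← hy]
  obtain ⟨F, hF⟩ : ∃ F : MvPowerSeries (Fin 2) R,
      F = y ^ 2 + C a₁ * (x * y) - x ^ 3 - C a₆ := ⟨_, rfl⟩
  obtain ⟨Fy, hFy⟩ : ∃ Fy : MvPowerSeries (Fin 2) R, Fy = 2 * y + C a₁ * x := ⟨_, rfl⟩
  obtain ⟨Fx, hFx⟩ : ∃ Fx : MvPowerSeries (Fin 2) R, Fx = 3 * x ^ 2 - C a₁ * y := ⟨_, rfl⟩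
  rw [← hF, ← hFy, ← hFx]
  obtain ⟨I, hI⟩ : ∃ I : Ideal (MvPowerSeries (Fin 2) R), I = Ideal.span {F, Fy, Fx} :=
    ⟨_, rfl⟩
  obtain ⟨M, hM⟩ : ∃ M : Ideal (MvPowerSeries (Fin 2) R),
      M = Ideal.span {(C ϖ : MvPowerSeries (Fin 2) R), x, y} := ⟨_, rfl⟩
  rw [← hI, ← hM]
  have hFI : F ∈ I := by rw [hI]; exact Ideal.subset_span (by simp)
  have hFxI : Fx ∈ I := by rw [hI]; exact Ideal.subset_span (by simp)
  have hcM : (C ϖ : MvPowerSeries (Fin 2) R) ∈ M := by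
    rw [hM]; exact Ideal.subset_span (by simp)
  have hxM : x ∈ M := by rw [hM]; exact Ideal.subset_span (by simp)
  have hyM : y ∈ M := by rw [hM]; exact Ideal.subset_span (by simp)
  have hMfg : M.FG := by rw [hM]; exact Submodule.fg_span (Set.toFinite _)
  have hIfg : I.FG := by rw [hI]; exact Submodule.fg_span (Set.toFinite _)
  have hMjac : M ≤ Ideal.jacobson ⊥ := by
    have hcc : M ≤ Ideal.comap (constantCoeff (σ := Fin 2) (R := R))
        (IsLocalRing.maximalIdeal R) := by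
      rw [hM, Ideal.span_le]
      intro z hz
      simp only [Set.mem_insert_iff, Set.mem_singleton_iff] at hz
      rcases hz with h | h | h
      · rw [h]
        show constantCoeff (C ϖ : MvPowerSeries (Fin 2) R) ∈ IsLocalRing.maximalIdeal R
        rw [constantCoeff_C]; exact hϖ
      · rw [h, hx]
        show constantCoeff (X 0 : MvPowerSeries (Fin 2) R) ∈ IsLocalRing.maximalIdeal R
        rw [constantCoeff_X]; exact Ideal.zero_mem _
      · rw [h, hy]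
        show constantCoeff (X 1 : MvPowerSeries (Fin 2) R) ∈ IsLocalRing.maximalIdeal R
        rw [constantCoeff_X]; exact Ideal.zero_mem _
    intro f hf
    rw [Ideal.mem_jacobson_bot]
    intro g
    rw [MvPowerSeries.isUnit_iff_constantCoeff, map_add, map_mul, map_one]
    have h1 : constantCoeff f ∈ Ideal.jacobson (⊥ : Ideal R) := by
      rw [IsLocalRing.jacobson_eq_maximalIdeal ⊥ bot_ne_top]; exact hcc hf
    exact Ideal.mem_jacobson_bot.mp h1 _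
  -- ϖ ∈ I + M²
  have hK1 : (C ϖ : MvPowerSeries (Fin 2) R) ∈ I ⊔ M ^ 2 := by
    have hu : (C (↑u₆⁻¹ : R) : MvPowerSeries (Fin 2) R) * C (↑u₆ : R) = 1 := by
      rw [← map_mul, Units.inv_mul, map_one]
    have ha₆' : (C a₆ : MvPowerSeries (Fin 2) R) = C (↑u₆ : R) * C ϖ := by
      rw [← map_mul, ha₆]
    have e : (C ϖ : MvPowerSeries (Fin 2) R) =
        C (↑u₆⁻¹ : R) * (y ^ 2 + C a₁ * (x * y) - x ^ 3) - C (↑u₆⁻¹ : R) * F := by
      rw [hF]
      linear_combination (-(C ϖ : MvPowerSeries (Fin 2) R)) * hu -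
        (C (↑u₆⁻¹ : R) : MvPowerSeries (Fin 2) R) * ha₆'
    have hG : y ^ 2 + C a₁ * (x * y) - x ^ 3 ∈ M ^ 2 := by
      have hxy2 : x * y ∈ M ^ 2 := by rw [pow_two]; exact Ideal.mul_mem_mul hxM hyM
      have hxx2 : x * x ∈ M ^ 2 := by rw [pow_two]; exact Ideal.mul_mem_mul hxM hxM
      have hx3 : x ^ 3 ∈ M ^ 2 := by
        rw [show x ^ 3 = x * (x * x) by ring]
        exact (M ^ 2).mul_mem_left _ hxx2
      exact (M ^ 2).sub_mem ((M ^ 2).add_mem (Ideal.pow_mem_pow hyM 2)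
        ((M ^ 2).mul_mem_left _ hxy2)) hx3
    rw [e]
    exact Ideal.sub_mem _ (Ideal.mem_sup_right (Ideal.mul_mem_left _ _ hG))
      (Ideal.mem_sup_left (Ideal.mul_mem_left _ _ hFI))
  have hK3 : ∀ (j : ℕ) (g : MvPowerSeries (Fin 2) R), g ∈ M ^ j →
      C ϖ * g ∈ I ⊔ M ^ (j + 2) := by
    intro j g hg
    obtain ⟨p, hp, r, hr, hpr⟩ := Submodule.mem_sup.mp hK1
    rw [← hpr, add_mul]
    refine Ideal.add_mem _ (Ideal.mem_sup_left (Ideal.mul_mem_right _ _ hp))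
      (Ideal.mem_sup_right ?_)
    rw [show j + 2 = 2 + j by ring, pow_add]
    exact Ideal.mul_mem_mul hr hg
  have hxyi : ∀ j : ℕ, x * y ^ j ∈ M ^ (j + 1) := by
    intro j
    rw [pow_succ']
    exact Ideal.mul_mem_mul hxM (Ideal.pow_mem_pow hyM j)
  have hK2 : ∀ j : ℕ, x * (x * y ^ j) ∈ I ⊔ M ^ (j + 1 + 2) := by
    intro j
    have h3 : (C (↑w3⁻¹ : R) : MvPowerSeries (Fin 2) R) * 3 = 1 := by
      rw [show (3 : MvPowerSeries (Fin 2) R) = C 3 from (map_ofNat C 3).symm, ← map_mul, ← hw3,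
        Units.inv_mul, map_one]
    have ha₁' : (C a₁ : MvPowerSeries (Fin 2) R) = C (u₁ * ϖ ^ k) * C ϖ := by
      rw [← map_mul, ha₁, pow_succ, mul_assoc]
    have e : x * (x * y ^ j) = (C (↑w3⁻¹ : R) * y ^ j) * Fx +
        (C (↑w3⁻¹ : R) * C (u₁ * ϖ ^ k)) * (C ϖ * y ^ (j + 1)) := by
      rw [hFx]
      linear_combination (-(x ^ 2 * y ^ j)) * h3 +
        ((C (↑w3⁻¹ : R) : MvPowerSeries (Fin 2) R) * y ^ (j + 1)) * ha₁'
    rw [e]
    exact Ideal.add_mem _ (Ideal.mem_sup_left (Ideal.mul_mem_left _ _ hFxI))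
      (Ideal.mul_mem_left _ _ (hK3 (j + 1) _ (Ideal.pow_mem_pow hyM _)))
  have hgensmul : ∀ (T : Ideal (MvPowerSeries (Fin 2) R)) (g0 : MvPowerSeries (Fin 2) R),
      C ϖ * g0 ∈ T → x * g0 ∈ T → y * g0 ∈ T → ∀ r ∈ M, r * g0 ∈ T := by
    intro T g0 h1 h2 h3 r hr
    rw [hM] at hr
    induction hr using Submodule.span_induction with
    | mem z hz =>
      simp only [Set.mem_insert_iff, Set.mem_singleton_iff] at hz
      rcases hz with rfl | rfl | rfl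
      · exact h1
      · exact h2
      · exact h3
    | zero => rw [zero_mul]; exact T.zero_mem
    | add a b _ _ ha hb => rw [add_mul]; exact T.add_mem ha hb
    | smul a b _ hb => rw [smul_eq_mul, mul_assoc]; exact T.mul_mem_left _ hb
  have hQ : ∀ j : ℕ, M ^ (j + 1) ≤ Ideal.span {y ^ (j + 1), x * y ^ j} ⊔ I ⊔ M ^ (j + 2) := by
    intro j
    induction j with
    | zero =>
      intro z hz
      rw [zero_add, pow_one] at hz
      have h := hgensmul (Ideal.span {y ^ (0 + 1), x * y ^ 0} ⊔ I ⊔ M ^ (0 + 2)) 1 ?_ ?_ ?_ z hz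
      · rwa [mul_one] at h
      · rw [mul_one]
        exact (sup_le (le_sup_of_le_left le_sup_right) le_sup_right :
          I ⊔ M ^ 2 ≤ Ideal.span {y ^ (0 + 1), x * y ^ 0} ⊔ I ⊔ M ^ (0 + 2)) hK1
      · rw [mul_one]
        exact Ideal.mem_sup_left (Ideal.mem_sup_left (Ideal.subset_span (by simp)))
      · rw [mul_one]
        exact Ideal.mem_sup_left (Ideal.mem_sup_left (Ideal.subset_span (by simp)))
    | succ j ih =>
      obtain ⟨T, hT⟩ : ∃ T : Ideal (MvPowerSeries (Fin 2) R),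
          T = Ideal.span {y ^ (j + 1 + 1), x * y ^ (j + 1)} ⊔ I ⊔ M ^ (j + 1 + 2) := ⟨_, rfl⟩
      rw [← hT]
      have hGT : Ideal.span {y ^ (j + 1 + 1), x * y ^ (j + 1)} ≤ T := by
        rw [hT]; exact le_sup_of_le_left le_sup_left
      have hIT : I ≤ T := by rw [hT]; exact le_sup_of_le_left le_sup_right
      have hMT : M ^ (j + 1 + 2) ≤ T := by rw [hT]; exact le_sup_right
      have hIMT : I ⊔ M ^ (j + 1 + 2) ≤ T := sup_le hIT hMT
      have hy1 : y ^ (j + 1 + 1) ∈ T := hGT (Ideal.subset_span (by simp))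
      have hxy1 : x * y ^ (j + 1) ∈ T := hGT (Ideal.subset_span (by simp))
      rw [pow_succ', Ideal.mul_le]
      intro r hr s hs
      obtain ⟨gp, hgp, t, ht, rfl⟩ := Submodule.mem_sup.mp (ih hs)
      obtain ⟨g, hg, p, hp, rfl⟩ := Submodule.mem_sup.mp hgp
      obtain ⟨α, β, rfl⟩ := Ideal.mem_span_pair.mp hg
      have e : r * (α * y ^ (j + 1) + β * (x * y ^ j) + p + t) =
          α * (r * y ^ (j + 1)) + β * (r * (x * y ^ j)) + r * p + r * t := by ring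
      rw [e]
      refine Ideal.add_mem _ (Ideal.add_mem _ (Ideal.add_mem _ (Ideal.mul_mem_left _ _ ?_)
        (Ideal.mul_mem_left _ _ ?_)) ?_) ?_
      · refine hgensmul T _ ?_ ?_ ?_ r hr
        · exact hIMT (hK3 (j + 1) _ (Ideal.pow_mem_pow hyM _))
        · exact hxy1
        · rw [← pow_succ']; exact hy1
      · refine hgensmul T _ ?_ ?_ ?_ r hr
        · exact hIMT (hK3 (j + 1) _ (hxyi j))
        · exact hIMT (hK2 j)
        · rw [show y * (x * y ^ j) = x * y ^ (j + 1) by ring]; exact hxy1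
      · exact hIT (Ideal.mul_mem_left _ _ hp)
      · refine hMT ?_
        rw [show j + 1 + 2 = (j + 2) + 1 by ring, pow_succ']
        exact Ideal.mul_mem_mul hr ht
  apply le_antisymm
  · have hfg : (M ^ (i + 1) ⊔ I).FG := Submodule.FG.sup (Ideal.FG.pow hMfg) hIfg
    apply Submodule.le_of_le_smul_of_le_jacobson_bot (I := M) hfg hMjac
    refine sup_le ?_ (le_sup_of_le_left le_sup_right)
    refine (hQ i).trans (sup_le le_sup_left ?_)
    refine le_sup_of_le_right ?_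
    rw [Ideal.smul_eq_mul, show i + 2 = (i + 1) + 1 from rfl, pow_succ']
    exact Ideal.mul_mono_right le_sup_left
  · refine sup_le ?_ le_sup_right
    refine le_sup_of_le_left (Ideal.span_le.mpr ?_)
    intro z hz
    simp only [Set.mem_insert_iff, Set.mem_singleton_iff] at hz
    rcases hz with rfl | rfl
    · exact Ideal.pow_mem_pow hyM _
    · exact hxyi i

end Gen

end Groth.Agent.Helper8.NerII
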