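import Mathlib
import Groth.Agent.Lib.Helper8.NerII

/-!
# S14909: assembly
-/

namespace Groth.Agent.Helper8.NerII

open MvPowerSeries

universe u

theorem main (R : Type u) [CommRing R] [IsDomain R] [IsDiscreteValuationRing R]
    (ϖ a₁ a₆ : R) (hϖ : Irreducible ϖ) (v : ℕ) (hv : 1 ≤ v) (u₁ u₆ : Rˣ)
    (ha₁ : a₁ = u₁ * ϖ ^ v) (ha₆ : a₆ = u₆ * ϖ)
    (h2 : (2 : R) ∈ IsLocalRing.maximalIdeal R ^ v)
    (x y : MvPowerSeries (Fin 2) R) (hx : x = MvPowerSeries.X 0) (hy : y = MvPowerSeries.X 1)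
    (I M : Ideal (MvPowerSeries (Fin 2) R))
    (hI : I = Ideal.span {y ^ 2 + a₁ • (x * y) - x ^ 3 - algebraMap R (MvPowerSeries (Fin 2) R) a₆,
      2 * y + a₁ • x, 3 * x ^ 2 - a₁ • y})
    (hM : M = Ideal.span {algebraMap R (MvPowerSeries (Fin 2) R) ϖ, x, y}) :
    M ^ (2 * v) ⊔ I = Ideal.span {y ^ (2 * v), x * y ^ (2 * v - 1)} ⊔ I ∧
      ∀ a b : R, a • y ^ (2 * v) + b • (x * y ^ (2 * v - 1)) ∈ M ^ (2 * v + 1) ⊔ I →
        a ∈ IsLocalRing.maximalIdeal R ∧ b ∈ IsLocalRing.maximalIdeal R := by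
  classical
  obtain ⟨k, rfl⟩ : ∃ k, v = k + 1 := ⟨v - 1, by omega⟩
  subst hx hy
  have eI : I = Ideal.span {(X 1 : MvPowerSeries (Fin 2) R) ^ 2 + C a₁ * (X 0 * X 1) - X 0 ^ 3 -
      C a₆, 2 * X 1 + C a₁ * X 0, 3 * X 0 ^ 2 - C a₁ * X 1} := by
    rw [hI, MvPowerSeries.smul_eq_C_mul, MvPowerSeries.smul_eq_C_mul,
      MvPowerSeries.smul_eq_C_mul]
    rfl
  have eM : M = Ideal.span {(C ϖ : MvPowerSeries (Fin 2) R), X 0, X 1} := by rw [hM]; rfl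
  have hmax : IsLocalRing.maximalIdeal R = Ideal.span {ϖ} := hϖ.maximalIdeal_eq
  have hϖm : ϖ ∈ IsLocalRing.maximalIdeal R := by rw [hmax]; exact Ideal.subset_span rfl
  have h2' : (2 : R) ∈ Ideal.span {ϖ ^ (k + 1)} := by
    rw [hmax, Ideal.span_singleton_pow] at h2; exact h2
  have h2m : (2 : R) ∈ IsLocalRing.maximalIdeal R := by
    obtain ⟨t, ht⟩ := Ideal.mem_span_singleton'.mp h2'
    rw [← ht, pow_succ, ← mul_assoc]
    exact Ideal.mul_mem_left _ _ hϖm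
  have h3u : IsUnit (3 : R) := by
    rw [← IsLocalRing.notMem_maximalIdeal]
    intro h3
    have h1 : (1 : R) ∈ IsLocalRing.maximalIdeal R := by
      have h := Ideal.sub_mem _ h3 h2m
      have e : (3 : R) - 2 = 1 := by norm_num
      rwa [e] at h
    exact (Ideal.ne_top_iff_one _).mp (IsLocalRing.maximalIdeal.isMaximal R).ne_top h1
  obtain ⟨w3, hw3⟩ := h3u
  have G := fun i : ℕ => gen ϖ (u₁ : R) a₁ a₆ u₆ w3 k hϖm ha₁ ha₆ hw3 i
  have hP1 : a₁ ∈ Ideal.span {ϖ ^ (k + 1)} := by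
    rw [ha₁]; exact Ideal.mul_mem_left _ _ (Ideal.subset_span rfl)
  have e3 : 2 * (k + 1) + 1 = (2 * k + 2) + 1 := by ring
  have e4 : 2 * (k + 1) = (2 * k + 1) + 1 := by ring
  have e5 : 2 * (k + 1) - 1 = 2 * k + 1 := by omega
  subst eI eM
  refine ⟨?_, ?_⟩
  · rw [e5, e4]
    exact G (2 * k + 1)
  · intro a b hab
    rw [e3, e5, e4, MvPowerSeries.smul_eq_C_mul, MvPowerSeries.smul_eq_C_mul, G (2 * k + 2)] at hab
    obtain ⟨r1, s, r2⟩ := test ϖ (u₆ : R) a₁ a₆ k hP1 ha₆ h2' a b hab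
    have hinv : ∀ j : ℕ, (↑u₆ : R) ^ j * (↑u₆⁻¹ : R) ^ j = 1 := fun j => by
      rw [← mul_pow, Units.mul_inv, one_pow]
    constructor
    · obtain ⟨t, ht⟩ := Ideal.mem_span_singleton'.mp r1
      have e' : a * (↑u₆ : R) ^ (k + 1) = t * ϖ := by
        apply mul_left_cancel₀ (pow_ne_zero (k + 1) hϖ.ne_zero)
        rw [ha₆, mul_pow] at ht
        linear_combination -ht
      have ea : a = (t * (↑u₆⁻¹ : R) ^ (k + 1)) * ϖ := by
        linear_combination (-a) * hinv (k + 1) + ((↑u₆⁻¹ : R) ^ (k + 1)) * e'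
      rw [ea]
      exact Ideal.mul_mem_left _ _ hϖm
    · obtain ⟨t, ht⟩ := Ideal.mem_span_singleton'.mp r2
      have e' : b * (↑u₆ : R) ^ k = (s + t * ϖ) * ϖ := by
        apply mul_left_cancel₀ (pow_ne_zero k hϖ.ne_zero)
        rw [ha₆, mul_pow] at ht
        linear_combination -ht
      have eb : b = ((s + t * ϖ) * (↑u₆⁻¹ : R) ^ k) * ϖ := by
        linear_combination (-b) * hinv k + ((↑u₆⁻¹ : R) ^ k) * e'
      rw [eb]
      exact Ideal.mul_mem_left _ _ hϖm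

end Groth.Agent.Helper8.NerII
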