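import Mathlib

/-! One-dimensional Noetherian local rings: powers of `i + a` in the product of the
localizations at the minimal primes. -/

namespace Groth.Agent.Helper8.NilAdd

open IsLocalRing

variable {A : Type*} [CommRing A]

lemma exists_pow_map_eq_zero (p : Ideal A) [p.IsPrime] (hp : p ∈ minimalPrimes A) {y : A}
    (hy : y ∈ p) : ∃ k : ℕ, algebraMap A (Localization.AtPrime p) (y ^ k) = 0 := by
  have h := IsLocalization.AtPrime.radical_map_of_mem_minimalPrimes
    (A := Localization.AtPrime p) p ⊥ hp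
  have h2 : algebraMap A (Localization.AtPrime p) y ∈
      (Ideal.map (algebraMap A (Localization.AtPrime p)) (⊥ : Ideal A)).radical := by
    rw [h]; exact Ideal.mem_map_of_mem _ hy
  rw [Ideal.map_bot] at h2
  obtain ⟨k, hk⟩ := h2
  exact ⟨k, by rw [map_pow]; simpa using hk⟩

lemma eq_maximalIdeal_of_not_minimal [IsLocalRing A] [IsNoetherianRing A]
    (hdim : ringKrullDim A = 1) (P : Ideal A) [P.IsPrime] (hP : P ∉ minimalPrimes A) :
    P = maximalIdeal A := by
  by_contra hne
  have hlt : P < maximalIdeal A :=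
    lt_of_le_of_ne (IsLocalRing.le_maximalIdeal Ideal.IsPrime.ne_top') hne
  obtain ⟨p, hp, hpP⟩ := Ideal.exists_minimalPrimes_le (bot_le : (⊥ : Ideal A) ≤ P)
  have hpprime : p.IsPrime := hp.isPrime
  have hpP' : p < P := lt_of_le_of_ne hpP (by rintro rfl; exact hP hp)
  have h1 : p.height < P.height := Ideal.height_strict_mono_of_isPrime_of_isPrime hpP'
  have h2 : P.height < (maximalIdeal A).height :=
    Ideal.height_strict_mono_of_isPrime_of_isPrime hlt
  have h3 : ((maximalIdeal A).height : WithBot ℕ∞) ≤ 1 :=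
    hdim ▸ Ideal.height_le_ringKrullDim_of_ne_top Ideal.IsPrime.ne_top'
  have h4 : (1 : ℕ∞) ≤ P.height := Order.one_le_iff_pos.mpr (lt_of_le_of_lt zero_le h1)
  have h5 : (2 : ℕ∞) ≤ (maximalIdeal A).height := by
    have := Order.add_one_le_of_lt h2
    calc (2 : ℕ∞) = 1 + 1 := by norm_num
      _ ≤ P.height + 1 := by gcongr
      _ ≤ _ := this
  have h6 : ((2 : ℕ∞) : WithBot ℕ∞) ≤ ((1 : ℕ∞) : WithBot ℕ∞) :=
    (WithBot.coe_le_coe.mpr h5).trans h3
  have h7 : (2 : ℕ∞) ≤ 1 := WithBot.coe_le_coe.mp h6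
  exact absurd h7 (by decide)

/-- The index type: minimal primes as points of the spectrum. -/
abbrev MinP (A : Type*) [CommRing A] := {p : PrimeSpectrum A // p.asIdeal ∈ minimalPrimes A}

/-- The product of the localizations at minimal primes. -/
abbrev L (A : Type*) [CommRing A] := ∀ p : MinP A, Localization.AtPrime p.1.asIdeal

instance [IsNoetherianRing A] : Finite (MinP A) := by
  have hfin : (minimalPrimes A).Finite := minimalPrimes.finite_of_isNoetherianRing A
  haveI : Finite ↥(minimalPrimes A) := hfin.to_subtype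
  refine Finite.of_injective (fun p : MinP A => (⟨p.1.asIdeal, p.2⟩ : ↥(minimalPrimes A))) ?_
  intro p q h
  have h' : p.1.asIdeal = q.1.asIdeal := congrArg Subtype.val h
  exact Subtype.ext (PrimeSpectrum.ext h')

variable [IsLocalRing A] [IsNoetherianRing A]

lemma key (hdim : ringKrullDim A = 1) (a : A) (ha : a ∈ maximalIdeal A) (ℓ : L A) :
    ∃ r : ℕ, (algebraMap A (L A) a) ^ r * ℓ ∈ (algebraMap A (L A)).range := by
  classical
  haveI : Fintype (MinP A) := Fintype.ofFinite _
  let J : Ideal A :=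
    { carrier := {c | algebraMap A (L A) c * ℓ ∈ (algebraMap A (L A)).range}
      add_mem' := by
        intro c d hc hd
        simp only [Set.mem_setOf_eq] at hc hd ⊢
        rw [map_add, add_mul]
        exact Subring.add_mem _ hc hd
      zero_mem' := by
        simp only [Set.mem_setOf_eq]
        rw [map_zero, zero_mul]
        exact Subring.zero_mem _
      smul_mem' := by
        intro c x hx
        simp only [Set.mem_setOf_eq] at hx ⊢
        rw [smul_eq_mul, map_mul, mul_assoc]
        exact Subring.mul_mem _ ⟨c, rfl⟩ hx }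
  have hJmem : ∀ c, c ∈ J ↔ algebraMap A (L A) c * ℓ ∈ (algebraMap A (L A)).range := fun c =>
    Iff.rfl
  -- Claim A
  have hA : ∀ q : MinP A, ∃ c ∈ J, c ∉ q.1.asIdeal := by
    intro q
    have hq := q.2
    have hcp : ∀ p : MinP A, ∃ c : A, c ∉ q.1.asIdeal ∧
        (p ≠ q → algebraMap A (Localization.AtPrime p.1.asIdeal) c = 0) := by
      intro p
      by_cases hpq : p = q
      · exact ⟨1, fun h => q.1.isPrime.ne_top ((Ideal.eq_top_iff_one _).mpr h),
          fun h => absurd hpq h⟩
      · have hnle : ¬ p.1.asIdeal ≤ q.1.asIdeal := by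
          intro hle
          have h2 : q.1.asIdeal ≤ p.1.asIdeal := hq.2 ⟨p.1.isPrime, bot_le⟩ hle
          exact hpq (Subtype.ext (PrimeSpectrum.ext (le_antisymm hle h2)))
        obtain ⟨y, hyp, hyq⟩ := SetLike.not_le_iff_exists.mp hnle
        obtain ⟨k, hk⟩ := exists_pow_map_eq_zero p.1.asIdeal p.2 hyp
        exact ⟨y ^ k, fun h => hyq (q.1.isPrime.mem_of_pow_mem k h), fun _ => hk⟩
    choose c hc1 hc2 using hcp
    obtain ⟨⟨x, s⟩, hxs⟩ := IsLocalization.surj q.1.asIdeal.primeCompl (ℓ q)
    have hC : (∏ p, c p) ∉ q.1.asIdeal := by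
      intro h
      obtain ⟨p, _, hp⟩ := (q.1.isPrime.prod_mem_iff).mp h
      exact hc1 p hp
    have hC0 : ∀ p : MinP A, p ≠ q →
        algebraMap A (Localization.AtPrime p.1.asIdeal) (∏ p, c p) = 0 := by
      intro p hp
      rw [map_prod]
      exact Finset.prod_eq_zero (Finset.mem_univ p) (hc2 p hp)
    refine ⟨(s : A) * ∏ p, c p, ?_, ?_⟩
    · rw [hJmem]
      refine ⟨x * ∏ p, c p, ?_⟩
      funext p
      rw [Pi.mul_apply, Pi.algebraMap_apply, Pi.algebraMap_apply]
      by_cases hpq : p = q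
      · subst hpq
        rw [map_mul, map_mul, ← hxs]
        ring
      · rw [map_mul, map_mul, hC0 p hpq]
        ring
    · intro h
      rcases q.1.isPrime.mem_or_mem h with h | h
      · exact s.2 h
      · exact hC h
  have harad : a ∈ J.radical := by
    rw [Ideal.radical_eq_sInf, Ideal.mem_sInf]
    rintro P ⟨hJP, hPprime⟩
    haveI := hPprime
    have hPmin : P ∉ minimalPrimes A := by
      intro hP
      obtain ⟨c, hcJ, hcP⟩ := hA ⟨⟨P, hPprime⟩, hP⟩
      exact hcP (hJP hcJ)
    rw [eq_maximalIdeal_of_not_minimal hdim P hPmin]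
    exact ha
  obtain ⟨r, hr⟩ := harad
  refine ⟨r, ?_⟩
  rw [← map_pow]
  exact (hJmem _).mp hr

theorem main (hdim : ringKrullDim A = 1) (a : A) (ha : a ∈ maximalIdeal A) (i : L A)
    (hi : i ∈ (nilradical A).map (algebraMap A (L A))) :
    ∃ n : ℕ, 0 < n ∧ (i + algebraMap A (L A) a) ^ n ∈ (algebraMap A (L A)).range := by
  classical
  obtain ⟨e, he⟩ := IsNoetherianRing.isNilpotent_nilradical A
  have hie : i ^ e = 0 := by
    have h1 := Ideal.pow_mem_pow hi e
    rw [← Ideal.map_pow, he, Ideal.zero_eq_bot, Ideal.map_bot] at h1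
    simpa using h1
  have hk : ∀ k : ℕ, ∃ r : ℕ, (algebraMap A (L A) a) ^ r * i ^ k ∈ (algebraMap A (L A)).range :=
    fun k => key hdim a ha (i ^ k)
  choose r hr using hk
  let R := ∑ k ∈ Finset.range e, r k
  refine ⟨R + e + 1, by omega, ?_⟩
  rw [add_pow]
  refine Subring.sum_mem _ ?_
  intro m hm
  by_cases hme : e ≤ m
  · have : i ^ m = 0 := by
      rw [← Nat.sub_add_cancel hme, pow_add, hie, mul_zero]
    rw [this, zero_mul, zero_mul]
    exact Subring.zero_mem _
  · push_neg at hme
    have hrm : r m ≤ R := Finset.single_le_sum (f := r) (fun _ _ => Nat.zero_le _)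
      (Finset.mem_range.mpr hme)
    have hle : r m ≤ R + e + 1 - m := by omega
    have h1 : (algebraMap A (L A) a) ^ (R + e + 1 - m) =
        (algebraMap A (L A) a) ^ (R + e + 1 - m - r m) * (algebraMap A (L A) a) ^ r m := by
      rw [← pow_add, Nat.sub_add_cancel hle]
    have h2 : i ^ m * (algebraMap A (L A) a) ^ (R + e + 1 - m) * ((R + e + 1).choose m : L A) =
        (algebraMap A (L A) a) ^ (R + e + 1 - m - r m) *
          ((algebraMap A (L A) a) ^ r m * i ^ m) * ((R + e + 1).choose m : L A) := by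
      rw [h1]; ring
    rw [h2]
    refine Subring.mul_mem _ (Subring.mul_mem _ ?_ (hr m)) (natCast_mem _ _)
    rw [← map_pow]
    exact ⟨_, rfl⟩

end Groth.Agent.Helper8.NilAdd
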