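import Mathlib
import Groth.Agent.Lib.Helper8.MM4

/-!
# The nilpotent cone is irreducible (for S14377)
-/

namespace Groth.Agent.Helper8.NilC1

open Matrix Module

universe u

variable {k : Type u} [Field k] {n : ℕ}

theorem aeval_eq_eval' {σ : Type*} (x : σ → k) (p : MvPolynomial σ k) :
    MvPolynomial.aeval x p = MvPolynomial.eval x p := rfl

theorem aeval_aeval' {σ τ : Type*} (pt : τ → k) (g : σ → MvPolynomial τ k)
    (f : MvPolynomial σ k) :
    MvPolynomial.aeval pt (MvPolynomial.aeval g f) =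
      MvPolynomial.aeval (fun i => MvPolynomial.aeval pt (g i)) f := by
  have h : (MvPolynomial.aeval pt : MvPolynomial τ k →ₐ[k] k).comp (MvPolynomial.aeval g) =
      (MvPolynomial.aeval (fun i => MvPolynomial.aeval pt (g i)) : MvPolynomial σ k →ₐ[k] k) := by
    apply MvPolynomial.algHom_ext
    intro i
    simp
  exact DFunLike.congr_fun h f

theorem aeval_coeff (x : Fin n × Fin n → k) (l : ℕ) :
    MvPolynomial.aeval x ((Matrix.charpoly (Matrix.mvPolynomialX (Fin n) (Fin n) k)).coeff l) =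
      (Matrix.charpoly (Matrix.of fun i j => x (i, j))).coeff l := by
  have h1 : (Matrix.mvPolynomialX (Fin n) (Fin n) k).map
      ((MvPolynomial.aeval x : MvPolynomial (Fin n × Fin n) k →ₐ[k] k).toRingHom)
      = Matrix.of fun i j => x (i, j) := by
    ext i j
    simp [Matrix.mvPolynomialX_apply]
  rw [← h1, Matrix.charpoly_map, Polynomial.coeff_map]
  rfl

theorem charpoly_eq_pow_of_coeff {M : Matrix (Fin n) (Fin n) k}
    (h : ∀ l < n, M.charpoly.coeff l = 0) : M.charpoly = Polynomial.X ^ n := by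
  have hm := Matrix.charpoly_monic M
  have hd : M.charpoly.natDegree = n := by
    rw [Matrix.charpoly_natDegree_eq_dim, Fintype.card_fin]
  ext l
  rw [Polynomial.coeff_X_pow]
  rcases lt_trichotomy l n with hl | hl | hl
  · rw [h l hl, if_neg hl.ne]
  · rw [if_pos hl, hl]
    have := hm.coeff_natDegree
    rw [hd] at this
    exact this
  · rw [if_neg hl.ne', Polynomial.coeff_eq_zero_of_natDegree_lt (by rw [hd]; exact hl)]

theorem coeff_pow_lt {l : ℕ} (hl : l < n) :
    ((Polynomial.X : Polynomial k) ^ n).coeff l = 0 := by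
  rw [Polynomial.coeff_X_pow, if_neg hl.ne]

theorem mem_zeroLocus_iff' (I : Ideal (MvPolynomial (Fin n × Fin n) k))
    (hI : I = Ideal.span (Set.range fun i : Fin n =>
      (Matrix.charpoly (Matrix.mvPolynomialX (Fin n) (Fin n) k)).coeff (i : ℕ)))
    (x : Fin n × Fin n → k) :
    (∀ p ∈ I, MvPolynomial.aeval x p = 0) ↔
      (Matrix.charpoly (Matrix.of fun i j => x (i, j))) = Polynomial.X ^ n := by
  constructor
  · intro h
    apply charpoly_eq_pow_of_coeff
    intro l hl
    rw [← aeval_coeff x l]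
    apply h
    rw [hI]
    exact Ideal.subset_span ⟨⟨l, hl⟩, rfl⟩
  · intro h p hp
    have hle : I ≤ RingHom.ker
        (MvPolynomial.aeval x : MvPolynomial (Fin n × Fin n) k →ₐ[k] k) := by
      rw [hI, Ideal.span_le]
      rintro _ ⟨i, rfl⟩
      rw [SetLike.mem_coe, RingHom.mem_ker, aeval_coeff, h, coeff_pow_lt i.2]
    exact (RingHom.mem_ker).1 (hle hp)

theorem charpoly_strictLower (N : Matrix (Fin n) (Fin n) k) (hN : ∀ i j, i ≤ j → N i j = 0) :
    N.charpoly = Polynomial.X ^ n := by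
  rw [← Matrix.charpoly_transpose, Matrix.charpoly_of_isUpperTriangular]
  · have : ∀ i : Fin n, (Polynomial.X : Polynomial k) - Polynomial.C (Nᵀ i i) = Polynomial.X := by
      intro i
      rw [Matrix.transpose_apply, hN i i le_rfl, map_zero, sub_zero]
    simp only [this, Finset.prod_const, Finset.card_univ, Fintype.card_fin]
  · intro i j hij
    exact hN j i (le_of_lt hij)

theorem param_mem (P N : Matrix (Fin n) (Fin n) k) (hN : ∀ i j, i ≤ j → N i j = 0) :
    (P * N * Matrix.adjugate P).charpoly = Polynomial.X ^ n := by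
  rw [Matrix.mul_assoc, Matrix.charpoly_mul_comm, Matrix.mul_assoc, Matrix.adjugate_mul,
    Matrix.mul_smul, Matrix.mul_one]
  apply charpoly_strictLower
  intro i j hij
  rw [Matrix.smul_apply, hN i j hij, smul_zero]

theorem cone_param [IsAlgClosed k] (M : Matrix (Fin n) (Fin n) k)
    (hM : M.charpoly = Polynomial.X ^ n) :
    ∃ P N : Matrix (Fin n) (Fin n) k, (∀ i j, i ≤ j → N i j = 0) ∧
      M = P * N * Matrix.adjugate P := by
  obtain ⟨b, hb⟩ := Groth.Agent.Helper8.MM4.tri k n (Fin n → k) (Module.finrank_fin_fun k)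
    (Matrix.toLin' M)
  obtain ⟨L, hL⟩ : ∃ L, L = LinearMap.toMatrix b b (Matrix.toLin' M) := ⟨_, rfl⟩
  obtain ⟨P, hP⟩ : ∃ P, P = (Pi.basisFun k (Fin n)).toMatrix b := ⟨_, rfl⟩
  obtain ⟨P', hP'⟩ : ∃ P', P' = b.toMatrix (Pi.basisFun k (Fin n)) := ⟨_, rfl⟩
  have hb' : ∀ i j, i < j → L i j = 0 := by
    intro i j hij
    rw [hL]
    exact hb i j hij
  have h1 : P * L * P' = M := by
    rw [hP, hL, hP', basis_toMatrix_mul_linearMap_toMatrix_mul_basis_toMatrix,
      LinearMap.toMatrix_eq_toMatrix', LinearMap.toMatrix'_toLin']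
  have h2 : P * P' = 1 := by
    rw [hP, hP']
    exact Basis.toMatrix_mul_toMatrix_flip _ _
  have h3 : P' * P = 1 := mul_eq_one_comm.1 h2
  have h4 : Matrix.adjugate P = P.det • P' := by
    calc Matrix.adjugate P = Matrix.adjugate P * (P * P') := by rw [h2, Matrix.mul_one]
      _ = (Matrix.adjugate P * P) * P' := by rw [Matrix.mul_assoc]
      _ = P.det • P' := by rw [Matrix.adjugate_mul, Matrix.smul_mul, Matrix.one_mul]
  have h5 : P.det * P'.det = 1 := by rw [← Matrix.det_mul, h2, Matrix.det_one]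
  have h6 : P' = P'.det • Matrix.adjugate P := by
    rw [h4, smul_smul, mul_comm P'.det P.det, h5, one_smul]
  have h7 : L.charpoly = Polynomial.X ^ n := by
    rw [← hM, ← h1, Matrix.mul_assoc, Matrix.charpoly_mul_comm, Matrix.mul_assoc, h3,
      Matrix.mul_one]
  have h8 : ∀ i, L i i = 0 := by
    intro i
    have hT : Lᵀ.charpoly = ∏ j : Fin n, (Polynomial.X - Polynomial.C (Lᵀ j j)) :=
      Matrix.charpoly_of_isUpperTriangular Lᵀ (fun a c hac => hb' c a hac)
    rw [Matrix.charpoly_transpose, h7] at hT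
    have hE := congrArg (Polynomial.eval (L i i)) hT
    rw [Polynomial.eval_pow, Polynomial.eval_X, Polynomial.eval_prod] at hE
    have hz : ∏ j : Fin n, Polynomial.eval (L i i) (Polynomial.X - Polynomial.C (Lᵀ j j)) = 0 := by
      apply Finset.prod_eq_zero (Finset.mem_univ i)
      simp
    rw [hz] at hE
    by_contra hne
    exact pow_ne_zero n hne hE
  refine ⟨P, P'.det • L, ?_, ?_⟩
  · intro i j hij
    rw [Matrix.smul_apply]
    rcases lt_or_eq_of_le hij with h | h
    · rw [hb' i j h, smul_zero]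
    · subst h
      rw [h8 i, smul_zero]
  · rw [← h1]
    conv_lhs => rw [h6]
    simp only [Matrix.mul_smul, Matrix.smul_mul]

/-! ### The parametrisation as a polynomial map -/

/-- the parameter ring -/
abbrev Q (k : Type u) [Field k] (n : ℕ) : Type u :=
  MvPolynomial ((Fin n × Fin n) ⊕ (Fin n × Fin n)) k

noncomputable def Pm (k : Type u) [Field k] (n : ℕ) : Matrix (Fin n) (Fin n) (Q k n) :=
  Matrix.of fun i j => MvPolynomial.X (Sum.inl (i, j))

noncomputable def Nm (k : Type u) [Field k] (n : ℕ) : Matrix (Fin n) (Fin n) (Q k n) :=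
  Matrix.of fun i j => if j < i then MvPolynomial.X (Sum.inr (i, j)) else 0

noncomputable def Phim (k : Type u) [Field k] (n : ℕ) : Matrix (Fin n) (Fin n) (Q k n) :=
  Pm k n * Nm k n * Matrix.adjugate (Pm k n)

noncomputable def pull (f : MvPolynomial (Fin n × Fin n) k) : Q k n :=
  MvPolynomial.aeval (fun p : Fin n × Fin n => Phim k n p.1 p.2) f

def P0 (pt : (Fin n × Fin n) ⊕ (Fin n × Fin n) → k) : Matrix (Fin n) (Fin n) k :=
  Matrix.of fun i j => pt (Sum.inl (i, j))

def N0 (pt : (Fin n × Fin n) ⊕ (Fin n × Fin n) → k) : Matrix (Fin n) (Fin n) k :=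
  Matrix.of fun i j => if j < i then pt (Sum.inr (i, j)) else 0

theorem N0_strict (pt : (Fin n × Fin n) ⊕ (Fin n × Fin n) → k) :
    ∀ i j, i ≤ j → N0 pt i j = 0 := by
  intro i j hij
  simp [N0, not_lt.2 hij]

theorem aeval_Phim (pt : (Fin n × Fin n) ⊕ (Fin n × Fin n) → k) (i j : Fin n) :
    MvPolynomial.aeval pt (Phim k n i j) =
      (P0 pt * N0 pt * Matrix.adjugate (P0 pt)) i j := by
  have hP : (MvPolynomial.aeval pt : Q k n →ₐ[k] k).mapMatrix (Pm k n) = P0 pt := by
    ext a b
    simp [Pm, P0]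
  have hN : (MvPolynomial.aeval pt : Q k n →ₐ[k] k).mapMatrix (Nm k n) = N0 pt := by
    ext a b
    simp only [AlgHom.mapMatrix_apply, Matrix.map_apply, Nm, N0, Matrix.of_apply]
    split_ifs
    · simp
    · simp
  have h : (MvPolynomial.aeval pt : Q k n →ₐ[k] k).mapMatrix (Phim k n) =
      P0 pt * N0 pt * Matrix.adjugate (P0 pt) := by
    rw [Phim, map_mul, map_mul, AlgHom.map_adjugate, hP, hN]
  rw [← h, AlgHom.mapMatrix_apply, Matrix.map_apply]

theorem aeval_pull (pt : (Fin n × Fin n) ⊕ (Fin n × Fin n) → k)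
    (f : MvPolynomial (Fin n × Fin n) k) :
    MvPolynomial.aeval pt (pull f) =
      MvPolynomial.aeval
        (fun p : Fin n × Fin n => (P0 pt * N0 pt * Matrix.adjugate (P0 pt)) p.1 p.2) f := by
  rw [pull, aeval_aeval']
  refine congrArg (fun g => MvPolynomial.aeval g f) (funext fun p => ?_)
  exact aeval_Phim pt p.1 p.2

theorem cone_irred [IsAlgClosed k] (f g : MvPolynomial (Fin n × Fin n) k)
    (h : ∀ M : Matrix (Fin n) (Fin n) k, M.charpoly = Polynomial.X ^ n →
      MvPolynomial.aeval (fun p : Fin n × Fin n => M p.1 p.2) (f * g) = 0) :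
    (∀ M : Matrix (Fin n) (Fin n) k, M.charpoly = Polynomial.X ^ n →
      MvPolynomial.aeval (fun p : Fin n × Fin n => M p.1 p.2) f = 0) ∨
    (∀ M : Matrix (Fin n) (Fin n) k, M.charpoly = Polynomial.X ^ n →
      MvPolynomial.aeval (fun p : Fin n × Fin n => M p.1 p.2) g = 0) := by
  have hFG : pull f * pull g = 0 := by
    apply MvPolynomial.funext
    intro pt
    rw [← aeval_eq_eval', ← aeval_eq_eval', map_mul, aeval_pull, aeval_pull, map_zero]
    have h2 := h _ (param_mem (P0 pt) (N0 pt) (N0_strict pt))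
    rw [map_mul] at h2
    exact h2
  have key : ∀ f' : MvPolynomial (Fin n × Fin n) k, pull f' = 0 →
      ∀ M : Matrix (Fin n) (Fin n) k, M.charpoly = Polynomial.X ^ n →
      MvPolynomial.aeval (fun p : Fin n × Fin n => M p.1 p.2) f' = 0 := by
    intro f' hf' M hM
    obtain ⟨P, N, hN, rfl⟩ := cone_param M hM
    have h1 := aeval_pull (Sum.elim (fun p : Fin n × Fin n => P p.1 p.2)
      (fun p : Fin n × Fin n => N p.1 p.2)) f'
    rw [hf', map_zero] at h1
    have hP0 : P0 (Sum.elim (fun p : Fin n × Fin n => P p.1 p.2)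
        (fun p : Fin n × Fin n => N p.1 p.2)) = P := by
      ext i j
      simp [P0]
    have hN0 : N0 (Sum.elim (fun p : Fin n × Fin n => P p.1 p.2)
        (fun p : Fin n × Fin n => N p.1 p.2)) = N := by
      ext i j
      simp only [N0, Matrix.of_apply, Sum.elim_inr]
      split_ifs with hji
      · rfl
      · exact (hN i j (not_lt.1 hji)).symm
    rw [hP0, hN0] at h1
    exact h1.symm
  rcases mul_eq_zero.1 hFG with h0 | h0
  · exact Or.inl (key f h0)
  · exact Or.inr (key g h0)

theorem ne_top (I : Ideal (MvPolynomial (Fin n × Fin n) k))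
    (hI : I = Ideal.span (Set.range fun i : Fin n =>
      (Matrix.charpoly (Matrix.mvPolynomialX (Fin n) (Fin n) k)).coeff (i : ℕ))) : I ≠ ⊤ := by
  intro htop
  have h1 : (1 : MvPolynomial (Fin n × Fin n) k) ∈ I := by
    rw [htop]
    trivial
  have h0 : (Matrix.charpoly (Matrix.of fun i j : Fin n =>
      (fun _ : Fin n × Fin n => (0 : k)) (i, j))) = Polynomial.X ^ n := by
    apply charpoly_strictLower
    intro i j _
    rfl
  have := (mem_zeroLocus_iff' I hI (fun _ => 0)).2 h0 1 h1
  rw [map_one] at this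
  exact one_ne_zero this

theorem irreducibleSpace [IsAlgClosed k] (I : Ideal (MvPolynomial (Fin n × Fin n) k))
    (hI : I = Ideal.span (Set.range fun i : Fin n =>
      (Matrix.charpoly (Matrix.mvPolynomialX (Fin n) (Fin n) k)).coeff (i : ℕ))) :
    IrreducibleSpace (PrimeSpectrum (MvPolynomial (Fin n × Fin n) k ⧸ I)) := by
  have hrad : ∀ f : MvPolynomial (Fin n × Fin n) k,
      (∀ M : Matrix (Fin n) (Fin n) k, M.charpoly = Polynomial.X ^ n →
        MvPolynomial.aeval (fun p : Fin n × Fin n => M p.1 p.2) f = 0) → f ∈ I.radical := by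
    intro f hf
    rw [← MvPolynomial.vanishingIdeal_zeroLocus_eq_radical (K := k) I,
      MvPolynomial.mem_vanishingIdeal_iff]
    intro x hx
    have hx' := (mem_zeroLocus_iff' I hI x).1 hx
    have hx2 : (fun p : Fin n × Fin n => (Matrix.of fun i j => x (i, j)) p.1 p.2) = x := by
      funext p
      rfl
    have := hf _ hx'
    rw [hx2] at this
    exact this
  have hvan : ∀ (f : MvPolynomial (Fin n × Fin n) k) (m : ℕ), f ^ m ∈ I →
      ∀ M : Matrix (Fin n) (Fin n) k, M.charpoly = Polynomial.X ^ n →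
        MvPolynomial.aeval (fun p : Fin n × Fin n => M p.1 p.2) f = 0 := by
    intro f m hfm M hM
    have hM' : (Matrix.charpoly (Matrix.of fun i j =>
        (fun p : Fin n × Fin n => M p.1 p.2) (i, j))) = Polynomial.X ^ n := hM
    have h1 := (mem_zeroLocus_iff' I hI (fun p : Fin n × Fin n => M p.1 p.2)).2 hM' _ hfm
    rw [map_pow] at h1
    by_contra hne
    exact pow_ne_zero m hne h1
  haveI : Nontrivial (MvPolynomial (Fin n × Fin n) k ⧸ I) :=
    Ideal.Quotient.nontrivial_iff.2 (ne_top I hI)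
  rw [PrimeSpectrum.irreducibleSpace_iff_isPrime_nilradical, Ideal.isPrime_iff]
  refine ⟨?_, ?_⟩
  · intro htop
    have h1 : (1 : MvPolynomial (Fin n × Fin n) k ⧸ I) ∈ nilradical _ := by
      rw [htop]
      trivial
    rw [mem_nilradical] at h1
    obtain ⟨m, hm⟩ := h1
    rw [one_pow] at hm
    exact one_ne_zero hm
  · intro a b hab
    obtain ⟨f, rfl⟩ := Ideal.Quotient.mk_surjective a
    obtain ⟨g, rfl⟩ := Ideal.Quotient.mk_surjective b
    rw [mem_nilradical] at hab
    obtain ⟨m, hm⟩ := hab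
    rw [← map_mul, ← map_pow, Ideal.Quotient.eq_zero_iff_mem] at hm
    have hcone := cone_irred f g (hvan (f * g) m hm)
    have hnil : ∀ f' : MvPolynomial (Fin n × Fin n) k, f' ∈ I.radical →
        Ideal.Quotient.mk I f' ∈ nilradical (MvPolynomial (Fin n × Fin n) k ⧸ I) := by
      intro f' hf'
      obtain ⟨m', hm'⟩ := Ideal.mem_radical_iff.1 hf'
      rw [mem_nilradical]
      refine ⟨m', ?_⟩
      rw [← map_pow, Ideal.Quotient.eq_zero_iff_mem]
      exact hm'
    rcases hcone with h1 | h1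
    · exact Or.inl (hnil f (hrad f h1))
    · exact Or.inr (hnil g (hrad g h1))

end Groth.Agent.Helper8.NilC1
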