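import Mathlib
import Groth.Agent.Lib.Helper9.IdealRed.Dim

/-!
# The coordinate ring of the nilpotent cone is finite over the off-diagonal coordinates (S14377)
-/

namespace Groth.Agent.Helper8.NilC2

open Matrix

universe u

variable {k : Type u} [Field k] {n : ℕ}

section
variable (I : Ideal (MvPolynomial (Fin n × Fin n) k))

/-- image of a variable -/
noncomputable def xb (p : Fin n × Fin n) : MvPolynomial (Fin n × Fin n) k ⧸ I :=
  Ideal.Quotient.mk I (MvPolynomial.X p)

/-- the off-diagonal generators -/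
def offSet : Set (MvPolynomial (Fin n × Fin n) k ⧸ I) :=
  {b | ∃ p : Fin n × Fin n, p.1 ≠ p.2 ∧ b = xb I p}

/-- the base subalgebra -/
noncomputable def A0 : Subalgebra k (MvPolynomial (Fin n × Fin n) k ⧸ I) :=
  Algebra.adjoin k (offSet I)

/-- monomials in the diagonal variables -/
noncomputable def mon (α : Fin n → ℕ) : MvPolynomial (Fin n × Fin n) k ⧸ I :=
  ∏ i, xb I (i, i) ^ α i

def monSet (e : ℕ) : Set (MvPolynomial (Fin n × Fin n) k ⧸ I) :=
  {b | ∃ α : Fin n → ℕ, (∑ i, α i) ≤ e ∧ b = mon I α}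

/-- the degree filtration -/
noncomputable def F (e : ℕ) : Submodule (A0 I) (MvPolynomial (Fin n × Fin n) k ⧸ I) :=
  Submodule.span (A0 I) (monSet I e)

theorem mon_add (α β : Fin n → ℕ) : mon I (α + β) = mon I α * mon I β := by
  simp only [mon, Pi.add_apply, pow_add, Finset.prod_mul_distrib]

theorem mon_zero : mon I (0 : Fin n → ℕ) = 1 := by
  simp [mon]

theorem mon_single (i : Fin n) (m : ℕ) :
    mon I (fun j => if j = i then m else 0) = xb I (i, i) ^ m := by
  simp only [mon]
  rw [Finset.prod_eq_single i]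
  · simp
  · intro j _ hji
    simp [hji]
  · intro h
    exact absurd (Finset.mem_univ i) h

theorem sum_single (i : Fin n) (m : ℕ) : (∑ j : Fin n, (if j = i then m else 0)) = m := by
  simp

theorem F_mono {e f : ℕ} (h : e ≤ f) : F I e ≤ F I f := by
  apply Submodule.span_mono
  rintro b ⟨α, hα, rfl⟩
  exact ⟨α, hα.trans h, rfl⟩

theorem F_mul {e f : ℕ} {a b : MvPolynomial (Fin n × Fin n) k ⧸ I}
    (ha : a ∈ F I e) (hb : b ∈ F I f) : a * b ∈ F I (e + f) := by
  have h : F I e * F I f ≤ F I (e + f) := by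
    unfold F
    rw [Submodule.span_mul_span]
    apply Submodule.span_le.2
    rintro _ ⟨a, ⟨α, hα, rfl⟩, b, ⟨β, hβ, rfl⟩, rfl⟩
    apply Submodule.subset_span
    refine ⟨α + β, ?_, (mon_add I α β).symm⟩
    simp only [Pi.add_apply, Finset.sum_add_distrib]
    omega
  exact h (Submodule.mul_mem_mul ha hb)

theorem one_mem_F : (1 : MvPolynomial (Fin n × Fin n) k ⧸ I) ∈ F I 0 := by
  apply Submodule.subset_span
  exact ⟨0, by simp, (mon_zero I).symm⟩

theorem A0_mem_F {a : MvPolynomial (Fin n × Fin n) k ⧸ I} (ha : a ∈ A0 I) : a ∈ F I 0 := by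
  have h := Submodule.smul_mem (F I 0) (⟨a, ha⟩ : A0 I) (one_mem_F I)
  rw [Subalgebra.smul_def, smul_eq_mul, mul_one] at h
  exact h

theorem diag_mem_F (i : Fin n) : xb I (i, i) ∈ F I 1 := by
  apply Submodule.subset_span
  refine ⟨fun j => if j = i then 1 else 0, ?_, ?_⟩
  · simp
  · rw [mon_single, pow_one]

theorem off_mem_A0 {p : Fin n × Fin n} (hp : p.1 ≠ p.2) : xb I p ∈ A0 I :=
  Algebra.subset_adjoin ⟨p, hp, rfl⟩

theorem xb_mem_F (p : Fin n × Fin n) : xb I p ∈ F I 1 := by
  by_cases hp : p.1 = p.2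
  · obtain ⟨i, j⟩ := p
    simp only at hp
    subst hp
    exact diag_mem_F I i
  · exact F_mono I (Nat.zero_le 1) (A0_mem_F I (off_mem_A0 I hp))

theorem exists_mem_F (b : MvPolynomial (Fin n × Fin n) k ⧸ I) : ∃ e, b ∈ F I e := by
  obtain ⟨f, rfl⟩ := Ideal.Quotient.mk_surjective b
  apply MvPolynomial.induction_on
    (motive := fun f => ∃ e, (Ideal.Quotient.mk I) f ∈ F I e) f
  · intro a
    refine ⟨0, A0_mem_F I ?_⟩
    rw [← MvPolynomial.algebraMap_eq, Ideal.Quotient.mk_algebraMap]
    exact Subalgebra.algebraMap_mem _ a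
  · intro p q hp hq
    obtain ⟨e₁, h₁⟩ := hp
    obtain ⟨e₂, h₂⟩ := hq
    refine ⟨max e₁ e₂, ?_⟩
    rw [map_add]
    exact Submodule.add_mem _ (F_mono I (le_max_left _ _) h₁) (F_mono I (le_max_right _ _) h₂)
  · intro p i hp
    obtain ⟨e, he⟩ := hp
    refine ⟨e + 1, ?_⟩
    rw [map_mul]
    exact F_mul I he (xb_mem_F I i)

theorem charpoly_quot (hI : I = Ideal.span (Set.range fun i : Fin n =>
      (Matrix.charpoly (Matrix.mvPolynomialX (Fin n) (Fin n) k)).coeff (i : ℕ))) :
    Matrix.charpoly ((Matrix.mvPolynomialX (Fin n) (Fin n) k).map (Ideal.Quotient.mk I)) =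
      Polynomial.X ^ n := by
  rw [Matrix.charpoly_map]
  have h0 := (Matrix.charpoly_monic (Matrix.mvPolynomialX (Fin n) (Fin n) k)).as_sum
  rw [Matrix.charpoly_natDegree_eq_dim, Fintype.card_fin] at h0
  rw [h0]
  simp only [Polynomial.map_add, Polynomial.map_pow, Polynomial.map_X, Polynomial.map_sum,
    Polynomial.map_mul, Polynomial.map_C]
  rw [Finset.sum_eq_zero, add_zero]
  intro l hl
  have hmem : (Matrix.charpoly (Matrix.mvPolynomialX (Fin n) (Fin n) k)).coeff l ∈ I := by
    rw [hI]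
    exact Ideal.subset_span ⟨⟨l, Finset.mem_range.1 hl⟩, rfl⟩
  rw [Ideal.Quotient.eq_zero_iff_mem.2 hmem, map_zero, zero_mul]

/-- the matrix `δ_i - X̄` -/
noncomputable def Md (i : Fin n) : Matrix (Fin n) (Fin n) (MvPolynomial (Fin n × Fin n) k ⧸ I) :=
  fun a b => if a = b then xb I (i, i) - xb I (a, b) else - xb I (a, b)

theorem Md_apply (i a b : Fin n) :
    Md I i a b = if a = b then xb I (i, i) - xb I (a, b) else - xb I (a, b) := rfl

theorem det_Md (hI : I = Ideal.span (Set.range fun i : Fin n =>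
      (Matrix.charpoly (Matrix.mvPolynomialX (Fin n) (Fin n) k)).coeff (i : ℕ))) (i : Fin n) :
    (Md I i).det = xb I (i, i) ^ n := by
  have h1 := congrArg (Polynomial.eval (xb I (i, i))) (charpoly_quot I hI)
  rw [Polynomial.eval_pow, Polynomial.eval_X] at h1
  have h2 := RingHom.map_det (Polynomial.evalRingHom (xb I (i, i)))
    (Matrix.charmatrix ((Matrix.mvPolynomialX (Fin n) (Fin n) k).map (Ideal.Quotient.mk I)))
  rw [Polynomial.coe_evalRingHom] at h2
  rw [← h1, Matrix.charpoly]
  refine Eq.trans ?_ h2.symm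
  congr 1
  ext a b
  rw [RingHom.mapMatrix_apply, Matrix.map_apply, Polynomial.coe_evalRingHom, Md_apply]
  by_cases hab : a = b
  · subst hab
    rw [Matrix.charmatrix_apply_eq, if_pos rfl]
    simp [xb, Matrix.mvPolynomialX_apply]
  · rw [Matrix.charmatrix_apply_ne _ _ _ hab, if_neg hab]
    simp [xb, Matrix.mvPolynomialX_apply]

theorem prod_mem_F (s : Finset (Fin n)) (g : Fin n → MvPolynomial (Fin n × Fin n) k ⧸ I)
    (hg : ∀ a ∈ s, g a ∈ F I 1) : ∏ a ∈ s, g a ∈ F I s.card := by
  classical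
  induction s using Finset.induction_on with
  | empty => simpa using one_mem_F I
  | insert a s ha ih =>
    rw [Finset.prod_insert ha, Finset.card_insert_of_notMem ha, add_comm]
    exact F_mul I (hg a (Finset.mem_insert_self a s))
      (ih fun b hb => hg b (Finset.mem_insert_of_mem hb))

theorem pow_mem_F (hI : I = Ideal.span (Set.range fun i : Fin n =>
      (Matrix.charpoly (Matrix.mvPolynomialX (Fin n) (Fin n) k)).coeff (i : ℕ))) (i : Fin n) :
    xb I (i, i) ^ n ∈ F I (n - 1) := by
  classical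
  rw [← det_Md I hI i, Matrix.det_apply]
  apply Submodule.sum_mem
  intro τ _
  rw [Units.smul_def]
  apply zsmul_mem
  by_cases hτ : τ i = i
  · have : ∏ a, Md I i (τ a) a = 0 := by
      apply Finset.prod_eq_zero (Finset.mem_univ i)
      rw [hτ, Md_apply, if_pos rfl, sub_self]
    rw [this]
    exact Submodule.zero_mem _
  · rw [← Finset.mul_prod_erase Finset.univ _ (Finset.mem_univ i)]
    have hc : (Finset.univ.erase i).card = n - 1 := by
      rw [Finset.card_erase_of_mem (Finset.mem_univ i), Finset.card_univ, Fintype.card_fin]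
    have h1 : Md I i (τ i) i ∈ F I 0 := by
      rw [Md_apply, if_neg hτ]
      exact Submodule.neg_mem _ (A0_mem_F I (off_mem_A0 I hτ))
    have h2 : ∏ a ∈ Finset.univ.erase i, Md I i (τ a) a ∈ F I (Finset.univ.erase i).card := by
      apply prod_mem_F
      intro a _
      rw [Md_apply]
      split_ifs
      · exact Submodule.sub_mem _ (diag_mem_F I i) (xb_mem_F I _)
      · exact Submodule.neg_mem _ (xb_mem_F I _)
    rw [hc] at h2
    have := F_mul I h1 h2
    rwa [zero_add] at this

def smallSet : Set (MvPolynomial (Fin n × Fin n) k ⧸ I) :=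
  {b | ∃ α : Fin n → ℕ, (∀ i, α i < n) ∧ b = mon I α}

theorem F_le_small (hI : I = Ideal.span (Set.range fun i : Fin n =>
      (Matrix.charpoly (Matrix.mvPolynomialX (Fin n) (Fin n) k)).coeff (i : ℕ))) :
    ∀ e, F I e ≤ Submodule.span (A0 I) (smallSet I) := by
  intro e
  induction e using Nat.strong_induction_on with
  | _ e ih =>
    apply Submodule.span_le.2
    rintro _ ⟨α, hα, rfl⟩
    by_cases hsmall : ∀ i, α i < n
    · exact Submodule.subset_span ⟨α, hsmall, rfl⟩
    · rw [not_forall] at hsmall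
      obtain ⟨i, hi⟩ := hsmall
      rw [not_lt] at hi
      obtain ⟨α', hα'⟩ : ∃ α' : Fin n → ℕ, α = α' + fun j => if j = i then n else 0 := by
        refine ⟨fun j => if j = i then α j - n else α j, ?_⟩
        funext j
        simp only [Pi.add_apply]
        split_ifs with hj
        · subst hj
          omega
        · omega
      have hdeg : (∑ j, α j) = (∑ j, α' j) + n := by
        rw [hα']
        simp only [Pi.add_apply, Finset.sum_add_distrib]
        rw [sum_single]
      have hmon : mon I α = mon I α' * xb I (i, i) ^ n := by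
        rw [hα', mon_add, mon_single]
      have hn : 1 ≤ n := Fin.pos i
      have h1 : mon I α' ∈ F I (∑ j, α' j) := Submodule.subset_span ⟨α', le_rfl, rfl⟩
      have h2 := F_mul I h1 (pow_mem_F I hI i)
      rw [← hmon] at h2
      have hlt : (∑ j, α' j) + (n - 1) < e := by omega
      exact ih _ hlt h2

theorem finite_over_A0 (hI : I = Ideal.span (Set.range fun i : Fin n =>
      (Matrix.charpoly (Matrix.mvPolynomialX (Fin n) (Fin n) k)).coeff (i : ℕ))) :
    Module.Finite (A0 I) (MvPolynomial (Fin n × Fin n) k ⧸ I) := by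
  have hfin : (smallSet I).Finite := by
    have h1 : {α : Fin n → ℕ | ∀ i, α i < n}.Finite := by
      apply Set.Finite.subset (Set.Finite.pi fun _ : Fin n => Set.finite_Iio n)
      intro α hα i _
      exact hα i
    apply (h1.image (mon I)).subset
    rintro _ ⟨α, hα, rfl⟩
    exact ⟨α, hα, rfl⟩
  have htop : Submodule.span (A0 I) (smallSet I) = ⊤ := by
    rw [eq_top_iff]
    intro b _
    obtain ⟨e, he⟩ := exists_mem_F I b
    exact F_le_small I hI e he
  exact ⟨⟨hfin.toFinset, by rw [Set.Finite.coe_toFinset]; exact htop⟩⟩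

theorem integral_over_A0 (hI : I = Ideal.span (Set.range fun i : Fin n =>
      (Matrix.charpoly (Matrix.mvPolynomialX (Fin n) (Fin n) k)).coeff (i : ℕ))) :
    Algebra.IsIntegral (A0 I) (MvPolynomial (Fin n × Fin n) k ⧸ I) := by
  haveI := finite_over_A0 I hI
  exact Algebra.IsIntegral.of_finite _ _

theorem dim_le (hI : I = Ideal.span (Set.range fun i : Fin n =>
      (Matrix.charpoly (Matrix.mvPolynomialX (Fin n) (Fin n) k)).coeff (i : ℕ))) :
    ringKrullDim (MvPolynomial (Fin n × Fin n) k ⧸ I) ≤ ((n ^ 2 - n : ℕ) : WithBot ℕ∞) := by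
  have hcard : Fintype.card {p : Fin n × Fin n // p.1 ≠ p.2} = n ^ 2 - n := by
    rw [Fintype.card_subtype]
    have : (Finset.univ.filter fun p : Fin n × Fin n => p.1 ≠ p.2) =
        (Finset.univ : Finset (Fin n)).offDiag := by
      ext p
      simp [Finset.mem_offDiag]
    rw [this, Finset.offDiag_card, Finset.card_univ, Fintype.card_fin, sq]
  obtain ⟨ε, -⟩ : ∃ ε : Fin (n ^ 2 - n) ≃ {p : Fin n × Fin n // p.1 ≠ p.2}, True :=
    ⟨(Fintype.equivFinOfCardEq hcard).symm, trivial⟩
  obtain ⟨x, hx⟩ : ∃ x : Fin (n ^ 2 - n) → (MvPolynomial (Fin n × Fin n) k ⧸ I),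
      x = fun j => xb I (ε j).1 := ⟨_, rfl⟩
  have hr : Set.range x = offSet I := by
    ext b
    constructor
    · rintro ⟨j, rfl⟩
      rw [hx]
      exact ⟨(ε j).1, (ε j).2, rfl⟩
    · rintro ⟨p, hp, rfl⟩
      refine ⟨ε.symm ⟨p, hp⟩, ?_⟩
      rw [hx]
      simp
  have hint := integral_over_A0 I hI
  unfold A0 at hint
  rw [← hr] at hint
  exact Groth.Agent.Helper9.IdealRed.ringKrullDim_le_of_isIntegral_adjoin x hint

end

end Groth.Agent.Helper8.NilC2
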