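import Mathlib
import Groth.Agent.Lib.Helper4.DimFT1
import Groth.Agent.Lib.Helper8.NilC1
import Groth.Agent.Lib.Helper8.NilC2

/-!
# Dimension of the nilpotent cone (S14377)
-/

namespace Groth.Agent.Helper8.NilC3

open Matrix

universe u

theorem arith (h₀ N m : ℕ) (D : WithBot ℕ∞)
    (hs : ((h₀ : ℕ∞) : WithBot ℕ∞) + D = ((N : ℕ∞) : WithBot ℕ∞))
    (hle : h₀ ≤ m) : (((N - m : ℕ) : ℕ∞) : WithBot ℕ∞) ≤ D := by
  induction D using WithBot.recBotCoe with
  | bot => simp at hs
  | coe D' =>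
    have hs' : (h₀ : ℕ∞) + D' = (N : ℕ∞) := by exact_mod_cast hs
    induction D' using ENat.recTopCoe with
    | top => simp at hs'
    | coe d =>
      have h3 : h₀ + d = N := by exact_mod_cast hs'
      have h4 : N - m ≤ d := by omega
      exact_mod_cast h4

variable {k : Type u} [Field k] {n : ℕ}

theorem le_dim (I : Ideal (MvPolynomial (Fin n × Fin n) k))
    (hI : I = Ideal.span (Set.range fun i : Fin n =>
      (Matrix.charpoly (Matrix.mvPolynomialX (Fin n) (Fin n) k)).coeff (i : ℕ)))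
    (hne : I ≠ ⊤) :
    ((n ^ 2 - n : ℕ) : WithBot ℕ∞) ≤ ringKrullDim (MvPolynomial (Fin n × Fin n) k ⧸ I) := by
  classical
  obtain ⟨⟨p, hp⟩⟩ := Ideal.nonempty_minimalPrimes hne
  haveI : p.IsPrime := hp.1.1
  have hIp : I ≤ p := hp.1.2
  have hht : p.height ≤ (n : ℕ∞) := by
    have h1 : p ∈ (Ideal.span ((Finset.univ.image fun i : Fin n =>
        (Matrix.charpoly (Matrix.mvPolynomialX (Fin n) (Fin n) k)).coeff (i : ℕ) :
          Finset (MvPolynomial (Fin n × Fin n) k)) :
          Set (MvPolynomial (Fin n × Fin n) k))).minimalPrimes := by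
      rw [Finset.coe_image, Finset.coe_univ, Set.image_univ, ← hI]
      exact hp
    refine (Ideal.height_le_card_of_mem_minimalPrimes_span_finset h1).trans ?_
    have := Finset.card_image_le (s := (Finset.univ : Finset (Fin n))) (f := fun i : Fin n =>
        (Matrix.charpoly (Matrix.mvPolynomialX (Fin n) (Fin n) k)).coeff (i : ℕ))
    rw [Finset.card_univ, Fintype.card_fin] at this
    exact_mod_cast this
  have hsum := Groth.Agent.Lib.Helper4.DimFT1.height_add_dim_quotient k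
    (MvPolynomial (Fin n × Fin n) k) p
  have hdimA : ringKrullDim (MvPolynomial (Fin n × Fin n) k) = ((n ^ 2 : ℕ) : WithBot ℕ∞) := by
    rw [MvPolynomial.ringKrullDim_of_isNoetherianRing, ringKrullDim_eq_zero_of_field, zero_add,
      Nat.card_eq_fintype_card, Fintype.card_prod, Fintype.card_fin, sq]
  rw [hdimA] at hsum
  obtain ⟨h₀, hh₀, hle⟩ := ENat.le_natCast_iff.1 hht
  rw [hh₀] at hsum
  have h1 := arith h₀ (n ^ 2) n _ (by exact_mod_cast hsum) hle
  have h2 : ringKrullDim (MvPolynomial (Fin n × Fin n) k ⧸ p) ≤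
      ringKrullDim (MvPolynomial (Fin n × Fin n) k ⧸ I) :=
    ringKrullDim_le_of_surjective (Ideal.Quotient.factor hIp)
      (Ideal.Quotient.factor_surjective hIp)
  exact (by exact_mod_cast h1 :
    ((n ^ 2 - n : ℕ) : WithBot ℕ∞) ≤ ringKrullDim (MvPolynomial (Fin n × Fin n) k ⧸ p)).trans h2

theorem main (k : Type u) [Field k] [IsAlgClosed k] (n : ℕ)
    (I : Ideal (MvPolynomial (Fin n × Fin n) k))
    (hI : I = Ideal.span (Set.range (fun i : Fin n =>
      (Matrix.charpoly (Matrix.mvPolynomialX (Fin n) (Fin n) k)).coeff (i : ℕ)))) :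
    IrreducibleSpace (PrimeSpectrum (MvPolynomial (Fin n × Fin n) k ⧸ I)) ∧
      ringKrullDim (MvPolynomial (Fin n × Fin n) k ⧸ I) = ((n ^ 2 - n : ℕ) : WithBot ℕ∞) :=
  ⟨Groth.Agent.Helper8.NilC1.irreducibleSpace I hI,
    le_antisymm (Groth.Agent.Helper8.NilC2.dim_le I hI)
      (le_dim I hI (Groth.Agent.Helper8.NilC1.ne_top I hI))⟩

end Groth.Agent.Helper8.NilC3
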