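import Mathlib

/-!
# Nakayama's lemma for nilpotent ideals (no finiteness needed)
-/

set_option autoImplicit false

namespace Groth.Agent.Helper8

theorem eq_top_of_sup_smul_eq_top_of_pow_eq_bot {A M : Type*} [CommRing A] [AddCommGroup M]
    [Module A M] (I : Ideal A) (n : ℕ) (hI : I ^ n = ⊥) (N : Submodule A M)
    (h : N ⊔ I • (⊤ : Submodule A M) = ⊤) : N = ⊤ := by
  have key : ∀ k : ℕ, N ⊔ (I ^ k) • (⊤ : Submodule A M) = ⊤ := by
    intro k
    induction k with
    | zero => simp
    | succ k ih =>
      rw [eq_top_iff]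
      calc (⊤ : Submodule A M) = N ⊔ I • (⊤ : Submodule A M) := h.symm
        _ = N ⊔ I • (N ⊔ (I ^ k) • (⊤ : Submodule A M)) := by rw [ih]
        _ = N ⊔ (I • N ⊔ I • ((I ^ k) • (⊤ : Submodule A M))) := by rw [Submodule.smul_sup]
        _ ≤ N ⊔ (I ^ (k + 1)) • (⊤ : Submodule A M) := by
          refine sup_le le_sup_left (sup_le ?_ ?_)
          · exact le_sup_of_le_left Submodule.smul_le_right
          · rw [← Submodule.mul_smul, ← pow_succ']
            exact le_sup_right
  have := key n
  rw [hI, Submodule.bot_smul, sup_bot_eq] at this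
  exact this

end Groth.Agent.Helper8
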