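import Mathlib
import Groth.Agent.S0596

/-!
# Artin approximation for algebra homomorphisms out of a finite type algebra
-/

set_option autoImplicit false
universe u

namespace Groth.Agent.Helper8.Node

open IsLocalRing

/-- **Artin approximation, algebra form.** Over a henselian local G-ring `R`, an `R`-algebra
homomorphism from a finite type algebra `E` to the completion of `R` is approximated to any
order by an `R`-algebra homomorphism `E → R`. -/
theorem exists_algHom_approx (R : Type u) [CommRing R] [HenselianLocalRing R]
    (hG : CAlg.IsGRing R) (E : Type u) [CommRing E] [Algebra R E] [Algebra.FiniteType R E]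
    (φ : E →ₐ[R] AdicCompletion (maximalIdeal R) R) (N : ℕ) :
    ∃ g : E →ₐ[R] R, ∀ x : E,
      φ x - algebraMap R (AdicCompletion (maximalIdeal R) R) (g x) ∈
        (maximalIdeal R ^ N).map (algebraMap R (AdicCompletion (maximalIdeal R) R)) := by
  haveI : IsNoetherianRing R := hG.1
  have hfp : Algebra.FinitePresentation R E :=
    Algebra.FinitePresentation.of_finiteType.mp inferInstance
  obtain ⟨n, π, hπ, hker⟩ := hfp.out
  obtain ⟨m, F, hF⟩ := Submodule.fg_iff_exists_fin_generating_family.1 hker
  have hFker : ∀ j, π (F j) = 0 := fun j => by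
    have h1 : F j ∈ RingHom.ker π.toRingHom := by
      rw [← hF]; exact Submodule.subset_span ⟨j, rfl⟩
    exact h1
  have haeval : ∀ p : MvPolynomial (Fin n) R,
      MvPolynomial.aeval (fun i => φ (π (MvPolynomial.X i))) p = φ (π p) := by
    intro p
    have h1 : MvPolynomial.aeval (fun i => φ (π (MvPolynomial.X i))) = φ.comp π := by
      refine MvPolynomial.algHom_ext fun i => ?_
      rw [MvPolynomial.aeval_X, AlgHom.comp_apply]
    rw [h1, AlgHom.comp_apply]
  obtain ⟨b, hb, hab⟩ := Groth.Agent.S0596.result R hG n m F
    (fun i => φ (π (MvPolynomial.X i)))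
    (fun j => by
      rw [MvPolynomial.eval_map, ← MvPolynomial.aeval_def, haeval, hFker, map_zero]) N
  have hle : RingHom.ker π.toRingHom ≤ RingHom.ker (MvPolynomial.aeval b : _ →ₐ[R] R).toRingHom := by
    rw [← hF]
    change Ideal.span _ ≤ _
    rw [Ideal.span_le]
    rintro _ ⟨j, rfl⟩
    change MvPolynomial.aeval b (F j) = 0
    exact hb j
  refine ⟨AlgHom.liftOfSurjective π hπ (MvPolynomial.aeval b) hle, fun x => ?_⟩
  obtain ⟨p, rfl⟩ := hπ x
  rw [AlgHom.liftOfSurjective_apply, ← haeval]
  rw [← Ideal.Quotient.eq]
  -- two ring homs into the quotient agree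
  have hext : (Ideal.Quotient.mk ((maximalIdeal R ^ N).map
        (algebraMap R (AdicCompletion (maximalIdeal R) R)))).comp
        (MvPolynomial.aeval (fun i => φ (π (MvPolynomial.X i))) :
          MvPolynomial (Fin n) R →ₐ[R] AdicCompletion (maximalIdeal R) R).toRingHom =
      (Ideal.Quotient.mk ((maximalIdeal R ^ N).map
        (algebraMap R (AdicCompletion (maximalIdeal R) R)))).comp
        ((algebraMap R (AdicCompletion (maximalIdeal R) R)).comp
          (MvPolynomial.aeval b : MvPolynomial (Fin n) R →ₐ[R] R).toRingHom) := by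
    refine MvPolynomial.ringHom_ext (fun r => ?_) (fun i => ?_)
    · simp only [RingHom.comp_apply, AlgHom.toRingHom_eq_coe, RingHom.coe_coe,
        MvPolynomial.aeval_C]
      rfl
    · simp only [RingHom.comp_apply, AlgHom.toRingHom_eq_coe, RingHom.coe_coe,
        MvPolynomial.aeval_X]
      rw [Ideal.Quotient.eq]
      exact hab i
  exact RingHom.congr_fun hext p

end Groth.Agent.Helper8.Node
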