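import Mathlib
import Groth.Agent.Lib.Helper8.Node1
import Groth.Agent.Lib.Helper8.Node2
import Groth.Agent.Lib.Helper8.CohenStr1
import Groth.Agent.Lib.Helper8.AppU5
import Groth.Agent.Lib.Helper8.AppB2
import Groth.Agent.Lib.Helper8.AdicReg1

/-!
# A retraction realizing a node factorization
-/

set_option autoImplicit false
universe u

namespace Groth.Agent.Helper8.Node

open IsLocalRing Groth.Agent.Helper8.AppS Groth.Agent.Helper8.AppU

open MvPowerSeries in
set_option maxHeartbeats 1600000 in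
theorem exists_retraction
    (R : Type u) [CommRing R] [IsNoetherianRing R] [HenselianLocalRing R]
    (hG : CAlg.IsGRing R)
    [IsDomain (AdicCompletion (maximalIdeal R) R)]
    [UniqueFactorizationMonoid (AdicCompletion (maximalIdeal R) R)]
    (Δ t₁ t₂ : R) (hΔ : Δ ≠ 0) (ht₁ : t₁ ∈ maximalIdeal R) (ht₂ : t₂ ∈ maximalIdeal R)
    (ht : t₁ * t₂ = Δ)
    (C : Type u) [CommRing C] [IsLocalRing C] [Algebra R C] [IsLocalHom (algebraMap R C)]
    [Algebra.EssFiniteType R C]
    (ψ : AdicCompletion (maximalIdeal C) C ≃+*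
      (MvPowerSeries (Fin 2) (AdicCompletion (maximalIdeal R) R) ⧸
        Ideal.span {(X 0 * X 1 - MvPowerSeries.C (algebraMap R (AdicCompletion (maximalIdeal R) R) Δ) :
          MvPowerSeries (Fin 2) (AdicCompletion (maximalIdeal R) R))}))
    (hψ : ψ.toRingHom.comp ((algebraMap C (AdicCompletion (maximalIdeal C) C)).comp (algebraMap R C)) =
      (Ideal.Quotient.mk _).comp ((MvPowerSeries.C : AdicCompletion (maximalIdeal R) R →+*
        MvPowerSeries (Fin 2) (AdicCompletion (maximalIdeal R) R)).comp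
          (algebraMap R (AdicCompletion (maximalIdeal R) R)))) :
    ∃ (g : C →ₐ[R] R) (ĝ : AdicCompletion (maximalIdeal C) C →+* AdicCompletion (maximalIdeal R) R),
      ĝ.comp (algebraMap C (AdicCompletion (maximalIdeal C) C)) =
        (algebraMap R (AdicCompletion (maximalIdeal R) R)).comp g.toRingHom ∧
      Ideal.span {ĝ (ψ.symm (Ideal.Quotient.mk _ (X 0)))} =
        Ideal.span {algebraMap R (AdicCompletion (maximalIdeal R) R) t₁} ∧
      Ideal.span {ĝ (ψ.symm (Ideal.Quotient.mk _ (X 1)))} =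
        Ideal.span {algebraMap R (AdicCompletion (maximalIdeal R) R) t₂} := by
  classical
  haveI : IsNoetherianRing C := Algebra.EssFiniteType.isNoetherianRing R C
  haveI : IsNoetherianRing (Cpl R) := Groth.Agent.Helper8.AdicReg.isNoetherianRing _ _
  haveI : IsNoetherianRing (Cpl C) := Groth.Agent.Helper8.AdicReg.isNoetherianRing _ _
  have hmaxR : maximalIdeal (Cpl R) = (maximalIdeal R).map (algebraMap R (Cpl R)) :=
    AdicCompletion.maximalIdeal_eq_map
  have hmaxC : maximalIdeal (Cpl C) = (maximalIdeal C).map (algebraMap C (Cpl C)) :=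
    AdicCompletion.maximalIdeal_eq_map
  have hιinj : Function.Injective (algebraMap R (Cpl R)) :=
    AdicCompletion.of_injective (maximalIdeal R) R
  -- Step 0: the order of approximation
  have h0 : algebraMap R (Cpl R) t₁ * algebraMap R (Cpl R) t₂ ≠ 0 := by
    rw [← map_mul, ht]
    exact fun h => hΔ (hιinj (by rw [h, map_zero]))
  obtain ⟨N₀, hN₀⟩ := exists_pow_forall_span_eq (algebraMap R (Cpl R) t₁)
    (algebraMap R (Cpl R) t₂) h0
  -- Step 1: evaluation of power series
  have hb : ∀ i, (![algebraMap R (Cpl R) t₁, algebraMap R (Cpl R) t₂] : Fin 2 → Cpl R) i ∈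
      maximalIdeal (Cpl R) := by
    intro i
    rw [hmaxR]
    fin_cases i
    · exact Ideal.mem_map_of_mem _ ht₁
    · exact Ideal.mem_map_of_mem _ ht₂
  obtain ⟨ev, hev⟩ := Groth.Agent.Helper8.CohenStr.exists_algHom (Cpl R) (Cpl R) 2 _ hb
  have hevC : ∀ r : Cpl R, ev (MvPowerSeries.C r) = r := fun r => ev.commutes r
  have hev0 : ev (X 0) = algebraMap R (Cpl R) t₁ := hev 0
  have hev1 : ev (X 1) = algebraMap R (Cpl R) t₂ := hev 1
  have hgen : ev (X 0 * X 1 - MvPowerSeries.C (algebraMap R (Cpl R) Δ)) = 0 := by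
    rw [map_sub, map_mul, hev0, hev1, hevC, ← map_mul, ht, sub_self]
  have hkill : ∀ a ∈ Ideal.span {(X 0 * X 1 - MvPowerSeries.C (algebraMap R (Cpl R) Δ) :
      MvPowerSeries (Fin 2) (Cpl R))}, ev.toRingHom a = 0 := by
    intro a ha
    have h1 : Ideal.span {(X 0 * X 1 - MvPowerSeries.C (algebraMap R (Cpl R) Δ) :
      MvPowerSeries (Fin 2) (Cpl R))} ≤ RingHom.ker ev.toRingHom := by
      rw [Ideal.span_le, Set.singleton_subset_iff]
      exact hgen
    exact h1 ha
  -- the evaluation on the quotient and the formal retraction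
  obtain ⟨ev', hev'⟩ : ∃ ev' : (MvPowerSeries (Fin 2) (Cpl R) ⧸
      Ideal.span {(X 0 * X 1 - MvPowerSeries.C (algebraMap R (Cpl R) Δ) :
        MvPowerSeries (Fin 2) (Cpl R))}) →+* Cpl R,
      ∀ p, ev' (Ideal.Quotient.mk _ p) = ev p :=
    ⟨Ideal.Quotient.lift _ ev.toRingHom hkill, fun p => Ideal.Quotient.lift_mk _ _ _⟩
  obtain ⟨g₀h, hg₀h⟩ : ∃ g₀h : Cpl C →+* Cpl R, ∀ z, g₀h z = ev' (ψ z) :=
    ⟨ev'.comp ψ.toRingHom, fun z => rfl⟩
  have hg₀surj : Function.Surjective g₀h := by
    intro r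
    refine ⟨ψ.symm (Ideal.Quotient.mk _ (MvPowerSeries.C r)), ?_⟩
    rw [hg₀h, RingEquiv.apply_symm_apply, hev', hevC]
  haveI : IsLocalHom g₀h := IsLocalHom.of_surjective g₀h hg₀surj
  have hψR : ∀ r : R, ψ (algebraMap C (Cpl C) (algebraMap R C r)) =
      Ideal.Quotient.mk _ (MvPowerSeries.C (algebraMap R (Cpl R) r)) :=
    fun r => RingHom.congr_fun hψ r
  have hg₀R : ∀ r : R, g₀h (algebraMap C (Cpl C) (algebraMap R C r)) = algebraMap R (Cpl R) r := by
    intro r
    rw [hg₀h, hψR, hev', hevC]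
  -- Step 2: Artin approximation on the finite type subalgebra
  let φ : Algebra.EssFiniteType.subalgebra R C →ₐ[R] Cpl R :=
    { toRingHom := (g₀h.comp (algebraMap C (Cpl C))).comp
        (algebraMap (Algebra.EssFiniteType.subalgebra R C) C)
      commutes' := fun r => by
        change g₀h (algebraMap C (Cpl C) (algebraMap (Algebra.EssFiniteType.subalgebra R C) C
          (algebraMap R (Algebra.EssFiniteType.subalgebra R C) r))) = _
        rw [← IsScalarTower.algebraMap_apply R (Algebra.EssFiniteType.subalgebra R C) C]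
        exact hg₀R r }
  have hφ : ∀ e : Algebra.EssFiniteType.subalgebra R C,
      φ e = g₀h (algebraMap C (Cpl C) (algebraMap (Algebra.EssFiniteType.subalgebra R C) C e)) :=
    fun e => rfl
  obtain ⟨g₁, hg₁⟩ := exists_algHom_approx R hG (Algebra.EssFiniteType.subalgebra R C) φ (N₀ + 1)
  have hJle : (maximalIdeal R ^ (N₀ + 1)).map (algebraMap R (Cpl R)) ≤ maximalIdeal (Cpl R) := by
    rw [hmaxR]
    exact Ideal.map_mono (Ideal.pow_le_self (Nat.succ_ne_zero N₀))
  have hunit : ∀ y : Algebra.EssFiniteType.submonoid R C, IsUnit (g₁ y) := by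
    intro y
    have hy : IsUnit (algebraMap (Algebra.EssFiniteType.subalgebra R C) C y.1) := y.2
    have h1 : IsUnit (φ y.1) := by
      rw [hφ]
      exact (hy.map (algebraMap C (Cpl C))).map g₀h
    have h2 : IsUnit (algebraMap R (Cpl R) (g₁ y.1)) := by
      by_contra hnu
      have h3 : algebraMap R (Cpl R) (g₁ y.1) ∈ maximalIdeal (Cpl R) := hnu
      have h4 : φ y.1 ∈ maximalIdeal (Cpl R) := by
        have h5 : φ y.1 = (φ y.1 - algebraMap R (Cpl R) (g₁ y.1)) +
            algebraMap R (Cpl R) (g₁ y.1) := by ring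
        rw [h5]
        exact Ideal.add_mem _ (hJle (hg₁ y.1)) h3
      exact h4 h1
    exact isUnit_of_map_unit (algebraMap R (Cpl R)) _ h2
  obtain ⟨g, hg⟩ : ∃ g : C →ₐ[R] R, ∀ e : Algebra.EssFiniteType.subalgebra R C,
      g (algebraMap (Algebra.EssFiniteType.subalgebra R C) C e) = g₁ e :=
    ⟨IsLocalization.liftAlgHom (M := Algebra.EssFiniteType.submonoid R C) (f := g₁) hunit,
      fun e => by
        rw [IsLocalization.liftAlgHom_apply]
        exact IsLocalization.lift_eq _ _⟩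
  have hgsurj : Function.Surjective g.toRingHom := fun r =>
    ⟨algebraMap R C r, g.commutes r⟩
  haveI : IsLocalHom g.toRingHom := IsLocalHom.of_surjective g.toRingHom hgsurj
  -- Step 3: the completed retraction
  refine ⟨g, cplMap g.toRingHom, ?_, ?_⟩
  · exact RingHom.ext fun c => cplMap_algebraMap g.toRingHom c
  -- congruence on `C`
  have hcongC : ∀ c : C, g₀h (algebraMap C (Cpl C) c) - algebraMap R (Cpl R) (g c) ∈
      (maximalIdeal R ^ (N₀ + 1)).map (algebraMap R (Cpl R)) := by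
    intro c
    rw [← Ideal.Quotient.eq]
    have hext : (Ideal.Quotient.mk ((maximalIdeal R ^ (N₀ + 1)).map (algebraMap R (Cpl R)))).comp
          (g₀h.comp (algebraMap C (Cpl C))) =
        (Ideal.Quotient.mk ((maximalIdeal R ^ (N₀ + 1)).map (algebraMap R (Cpl R)))).comp
          ((algebraMap R (Cpl R)).comp g.toRingHom) := by
      refine IsLocalization.ringHom_ext (Algebra.EssFiniteType.submonoid R C) ?_
      refine RingHom.ext fun e => ?_
      simp only [RingHom.comp_apply]
      rw [Ideal.Quotient.eq]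
      have h1 : g.toRingHom (algebraMap (Algebra.EssFiniteType.subalgebra R C) C e) = g₁ e := hg e
      rw [h1, ← hφ]
      exact hg₁ e
    exact RingHom.congr_fun hext c
  have hpowmap : ∀ (f : Cpl C →+* Cpl R) [IsLocalHom f] (w : Cpl C),
      w ∈ (maximalIdeal C ^ (N₀ + 1)).map (algebraMap C (Cpl C)) →
      f w ∈ maximalIdeal (Cpl R) ^ (N₀ + 1) := by
    intro f _ w hw
    have h1 : ((maximalIdeal C ^ (N₀ + 1)).map (algebraMap C (Cpl C))).map f ≤
        maximalIdeal (Cpl R) ^ (N₀ + 1) := by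
      rw [Ideal.map_pow, ← hmaxC, Ideal.map_pow]
      exact Ideal.pow_right_mono (IsLocalRing.map_maximalIdeal_le f) _
    exact h1 (Ideal.mem_map_of_mem f hw)
  have hJeq : (maximalIdeal R ^ (N₀ + 1)).map (algebraMap R (Cpl R)) =
      maximalIdeal (Cpl R) ^ (N₀ + 1) := by
    rw [Ideal.map_pow, ← hmaxR]
  have hcong : ∀ z : Cpl C, cplMap g.toRingHom z - g₀h z ∈ maximalIdeal (Cpl R) ^ N₀ := by
    intro z
    have fg : (maximalIdeal C).FG := IsNoetherian.noetherian _
    obtain ⟨c, hc⟩ := Groth.Agent.Helper8.AppB.exists_sub_mem_map_pow (maximalIdeal C) fg z (N₀ + 1)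
    have h1 := hpowmap (cplMap g.toRingHom) _ hc
    have h2 := hpowmap g₀h _ hc
    have h3 := hcongC c
    rw [hJeq] at h3
    have h4 : cplMap g.toRingHom z - g₀h z =
        cplMap g.toRingHom (z - algebraMap C (Cpl C) c) - g₀h (z - algebraMap C (Cpl C) c) -
          (g₀h (algebraMap C (Cpl C) c) - algebraMap R (Cpl R) (g c)) := by
      have hgc : cplMap g.toRingHom (algebraMap C (Cpl C) c) = algebraMap R (Cpl R) (g c) :=
        cplMap_algebraMap g.toRingHom c
      rw [map_sub, map_sub, hgc]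
      ring
    rw [h4]
    exact Ideal.pow_le_pow_right (Nat.le_succ N₀)
      (Ideal.sub_mem _ (Ideal.sub_mem _ h1 h2) h3)
  -- linearity over the completion
  have hlinR : ∀ r : R, cplMap g.toRingHom (ψ.symm (Ideal.Quotient.mk _
      (MvPowerSeries.C (algebraMap R (Cpl R) r)))) = algebraMap R (Cpl R) r := by
    intro r
    rw [← hψR, RingEquiv.symm_apply_apply, cplMap_algebraMap]
    exact congrArg _ (g.commutes r)
  obtain ⟨f₁, hf₁⟩ : ∃ f₁ : Cpl R →+* Cpl R, ∀ r, f₁ r = cplMap g.toRingHom (ψ.symm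
      (Ideal.Quotient.mk _ (MvPowerSeries.C r))) :=
    ⟨(cplMap g.toRingHom).comp (ψ.symm.toRingHom.comp ((Ideal.Quotient.mk _).comp
      (MvPowerSeries.C : Cpl R →+* MvPowerSeries (Fin 2) (Cpl R)))), fun r => rfl⟩
  have hf₁ι : f₁.comp (algebraMap R (Cpl R)) = algebraMap R (Cpl R) :=
    RingHom.ext fun r => by rw [RingHom.comp_apply, hf₁, hlinR]
  haveI : IsLocalHom f₁ := by
    refine ((IsLocalRing.local_hom_TFAE f₁).out 2 0).mp ?_
    rw [hmaxR, Ideal.map_map, hf₁ι]
  have hf₁id : f₁ = RingHom.id (Cpl R) := by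
    refine ringHom_ext_of_algebraMap f₁ (RingHom.id (Cpl R)) fun r => ?_
    rw [RingHom.id_apply]
    exact RingHom.congr_fun hf₁ι r
  have hlin : ∀ r : Cpl R, cplMap g.toRingHom (ψ.symm (Ideal.Quotient.mk _
      (MvPowerSeries.C r))) = r := by
    intro r
    rw [← hf₁, hf₁id, RingHom.id_apply]
  -- the product
  have hmkrel : (Ideal.Quotient.mk (Ideal.span {(X 0 * X 1 -
      MvPowerSeries.C (algebraMap R (Cpl R) Δ) : MvPowerSeries (Fin 2) (Cpl R))}))
      (X 0 * X 1) = Ideal.Quotient.mk _ (MvPowerSeries.C (algebraMap R (Cpl R) Δ)) := by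
    rw [Ideal.Quotient.eq]
    exact Ideal.mem_span_singleton_self _
  have hab : cplMap g.toRingHom (ψ.symm (Ideal.Quotient.mk _ (X 0))) *
      cplMap g.toRingHom (ψ.symm (Ideal.Quotient.mk _ (X 1))) =
      algebraMap R (Cpl R) t₁ * algebraMap R (Cpl R) t₂ := by
    rw [← map_mul, ← map_mul, ← map_mul, hmkrel, hlin, ← map_mul, ht]
  have ha : cplMap g.toRingHom (ψ.symm (Ideal.Quotient.mk _ (X 0))) - algebraMap R (Cpl R) t₁ ∈
      maximalIdeal (Cpl R) ^ N₀ := by
    have h1 : g₀h (ψ.symm (Ideal.Quotient.mk _ (X 0))) = algebraMap R (Cpl R) t₁ := by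
      rw [hg₀h, RingEquiv.apply_symm_apply, hev', hev0]
    rw [← h1]
    exact hcong _
  have hb' : cplMap g.toRingHom (ψ.symm (Ideal.Quotient.mk _ (X 1))) - algebraMap R (Cpl R) t₂ ∈
      maximalIdeal (Cpl R) ^ N₀ := by
    have h1 : g₀h (ψ.symm (Ideal.Quotient.mk _ (X 1))) = algebraMap R (Cpl R) t₂ := by
      rw [hg₀h, RingEquiv.apply_symm_apply, hev', hev1]
    rw [← h1]
    exact hcong _
  exact hN₀ _ _ hab ha hb'

end Groth.Agent.Helper8.Node
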