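import Mathlib
import Groth.Prelude

/-!
# A Noetherian ring with connected spectrum all of whose local rings are domains is a domain
-/

set_option autoImplicit false
universe u

namespace Groth.Agent.Helper8.NormConn

variable (R : Type u) [CommRing R]

/-- If `R_x` is a domain, every prime contained in `x` contains the kernel of `R → R_x`, which is
prime; hence there is exactly one minimal prime contained in `x`. -/
theorem minimalPrime_eq_ker_of_le (x : Ideal R) [x.IsPrime]
    [IsDomain (Localization.AtPrime x)] (p : Ideal R) (hp : p ∈ minimalPrimes R) (hpx : p ≤ x) :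
    p = RingHom.ker (algebraMap R (Localization.AtPrime x)) := by
  haveI : p.IsPrime := hp.1.1
  have hK : (RingHom.ker (algebraMap R (Localization.AtPrime x))).IsPrime := RingHom.ker_isPrime _
  have hKp : RingHom.ker (algebraMap R (Localization.AtPrime x)) ≤ p := by
    intro r hr
    rw [RingHom.mem_ker, IsLocalization.map_eq_zero_iff x.primeCompl] at hr
    obtain ⟨s, hs⟩ := hr
    have h1 : (s : R) * r ∈ p := by rw [hs]; exact p.zero_mem
    rcases Ideal.IsPrime.mem_or_mem inferInstance h1 with h | h
    · exact absurd (hpx h) s.2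
    · exact h
  exact le_antisymm (hp.2 ⟨hK, bot_le⟩ hKp) hKp

theorem isDomain_of_connected [IsNoetherianRing R] [ConnectedSpace (PrimeSpectrum R)]
    (h : ∀ (x : Ideal R) [x.IsPrime], IsDomain (Localization.AtPrime x)) : IsDomain R := by
  haveI : Nontrivial R := by
    have : Nonempty (PrimeSpectrum R) := inferInstance
    exact PrimeSpectrum.nonempty_iff_nontrivial.mp this
  haveI : IsReduced R := isReduced_ofLocalizationMaximal R (fun x hx => by
    haveI : x.IsPrime := hx.isPrime
    haveI := h x
    infer_instance)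
  obtain ⟨p, hp⟩ : ∃ p, p ∈ minimalPrimes R := by
    obtain ⟨m, hm⟩ := Ideal.exists_maximal R
    haveI : m.IsPrime := hm.isPrime
    obtain ⟨p, hp, -⟩ := Ideal.exists_minimalPrimes_le (I := (⊥ : Ideal R)) (J := m) bot_le
    exact ⟨p, hp⟩
  haveI : p.IsPrime := hp.1.1
  have hfin : (minimalPrimes R).Finite := minimalPrimes.finite_of_isNoetherianRing R
  have hcompl : (PrimeSpectrum.zeroLocus (p : Set R))ᶜ =
      ⋃ q ∈ (minimalPrimes R) \ {p}, PrimeSpectrum.zeroLocus (q : Set R) := by
    ext x
    simp only [Set.mem_compl_iff, PrimeSpectrum.mem_zeroLocus, SetLike.coe_subset_coe,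
      Set.mem_iUnion, exists_prop, Set.mem_sdiff, Set.mem_singleton_iff]
    constructor
    · intro hx
      obtain ⟨q, hq, hqx⟩ := Ideal.exists_minimalPrimes_le (I := (⊥ : Ideal R))
        (J := x.asIdeal) bot_le
      refine ⟨q, ⟨hq, ?_⟩, hqx⟩
      rintro rfl
      exact hx hqx
    · rintro ⟨q, ⟨hq, hqp⟩, hqx⟩ hpx
      haveI := h x.asIdeal
      exact hqp ((minimalPrime_eq_ker_of_le R x.asIdeal q hq hqx).trans
        (minimalPrime_eq_ker_of_le R x.asIdeal p hp hpx).symm)
  have hclopen : IsClopen (PrimeSpectrum.zeroLocus (p : Set R)) := by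
    refine ⟨PrimeSpectrum.isClosed_zeroLocus _, ?_⟩
    rw [← isClosed_compl_iff, hcompl]
    exact (hfin.subset Set.sdiff_subset).isClosed_biUnion
      (fun q _ => PrimeSpectrum.isClosed_zeroLocus _)
  have huniv : PrimeSpectrum.zeroLocus (p : Set R) = Set.univ := by
    rcases isClopen_iff.mp hclopen with h0 | h1
    · exfalso
      have : (⟨p, inferInstance⟩ : PrimeSpectrum R) ∈ PrimeSpectrum.zeroLocus (p : Set R) := by
        rw [PrimeSpectrum.mem_zeroLocus]
      rw [h0] at this
      exact this
    · exact h1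
  have hbot : p = ⊥ := by
    rw [eq_bot_iff, ← Ideal.zero_eq_bot, ← nilradical_eq_zero R, nilradical_eq_sInf]
    refine le_sInf fun q hq => ?_
    have : (⟨q, hq⟩ : PrimeSpectrum R) ∈ PrimeSpectrum.zeroLocus (p : Set R) := by
      rw [huniv]; exact Set.mem_univ _
    rw [PrimeSpectrum.mem_zeroLocus] at this
    exact this
  haveI : (⊥ : Ideal R).IsPrime := hbot ▸ inferInstance
  exact IsDomain.of_bot_isPrime R

end Groth.Agent.Helper8.NormConn
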