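import Groth.Agent.Lib.Helper8.OD4

/-!
# The one-dimensional associativity formula over a local ring (support form)
-/

set_option autoImplicit false
universe u v

namespace Groth.Agent.Helper8.OD

open Function IsLocalRing
open scoped Pointwise

variable {R : Type u} [CommRing R] [IsNoetherianRing R] [IsLocalRing R]

theorem length_quot_eq_finsum_support (M : Type v) [AddCommGroup M] [Module R M]
    [Module.Finite R M] (x : R) (h1 : Module.supportDim R M ≤ 1)
    (h0 : Module.supportDim R (M ⧸ x • (⊤ : Submodule R M)) ≤ 0) :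
    Module.length R (M ⧸ x • (⊤ : Submodule R M)) =
      Module.length R (LinearMap.ker (LinearMap.lsmul R M x)) +
        ∑ᶠ (p : PrimeSpectrum R)
          (_ : p ∈ Module.support R M ∧ p.asIdeal ≠ IsLocalRing.maximalIdeal R),
          Ring.ord (R ⧸ p.asIdeal) (Ideal.Quotient.mk p.asIdeal x) *
            Module.length (Localization.AtPrime p.asIdeal)
              (LocalizedModule p.asIdeal.primeCompl M) := by
  classical
  have hminmax : ∀ a : Module.support R M, IsMin a ∨ IsMax a :=
    Order.krullDim_le_one_iff.mp h1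
  have hlem : ∀ p : PrimeSpectrum R, p.asIdeal ≤ maximalIdeal R :=
    fun p => IsLocalRing.le_maximalIdeal p.2.ne_top
  -- non-maximal primes of the support are minimal in the support
  have hmin : ∀ (p : PrimeSpectrum R) (hp : p ∈ Module.support R M),
      p.asIdeal ≠ maximalIdeal R → IsMin (⟨p, hp⟩ : Module.support R M) := by
    intro p hp hne
    rcases hminmax ⟨p, hp⟩ with h | h
    · exact h
    · exfalso
      have hm : IsLocalRing.closedPoint R ∈ Module.support R M :=
        Module.mem_support_mono (hlem p) hp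
      have hle : (⟨p, hp⟩ : Module.support R M) ≤ ⟨IsLocalRing.closedPoint R, hm⟩ := hlem p
      have h2 := h hle
      exact hne (le_antisymm (hlem p) h2)
  set S : Set (PrimeSpectrum R) :=
    {p | p ∈ Module.support R M ∧ p.asIdeal ≠ maximalIdeal R} with hS
  have hSfin : S.Finite := by
    apply Set.Finite.of_finite_image (f := fun p : PrimeSpectrum R => p.asIdeal)
    · refine (Ideal.finite_minimalPrimes_of_isNoetherianRing R
        (Module.annihilator R M)).subset ?_
      rintro _ ⟨p, ⟨hp, hne⟩, rfl⟩
      refine ⟨⟨p.2, Module.mem_support_iff_of_finite.mp hp⟩, ?_⟩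
      rintro q' ⟨hq'prime, hq'le⟩ hq'p
      have hq' : (⟨q', hq'prime⟩ : PrimeSpectrum R) ∈ Module.support R M :=
        Module.mem_support_iff_of_finite.mpr hq'le
      have := hmin p hp hne (b := ⟨⟨q', hq'prime⟩, hq'⟩) hq'p
      exact this
    · intro p _ q _ hpq
      exact PrimeSpectrum.ext hpq
  have hT : ∀ p ∈ hSfin.toFinset, ∀ q ∈ hSfin.toFinset, p.asIdeal ≤ q.asIdeal → p = q := by
    intro p hp q hq hpq
    rw [Set.Finite.mem_toFinset] at hp hq
    have h2 := hmin q hq.1 hq.2 (b := ⟨p, hp.1⟩) hpq
    exact PrimeSpectrum.ext (le_antisymm hpq h2)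
  have hfl : IsFiniteLength R (QuotSMulTop x M) :=
    KoszulLib.isFiniteLength_of_supportDim_le_zero _ h0
  have hAdm : ∀ p ∈ Module.support R M, Adm x hSfin.toFinset p := by
    intro p hp
    by_cases hpm : p.asIdeal = maximalIdeal R
    · right
      refine ⟨hpm ▸ maximalIdeal.isMaximal R, ?_⟩
      intro q hq hle
      rw [Set.Finite.mem_toFinset] at hq
      exact hq.2 (le_antisymm (hlem q) (hpm ▸ hle))
    · left
      refine ⟨(Set.Finite.mem_toFinset _).mpr ⟨hp, hpm⟩, ?_⟩
      intro hx
      have hpq : p ∈ Module.support R (QuotSMulTop x M) := by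
        rw [Module.support_quotSMulTop]
        refine ⟨hp, ?_⟩
        rw [PrimeSpectrum.mem_zeroLocus, Set.singleton_subset_iff]
        exact hx
      have hmax := KoszulLib.isMaximal_of_mem_support_of_isFiniteLength hfl p hpq
      exact hpm (IsLocalRing.eq_maximalIdeal hmax)
  have key := length_quot_eq x hSfin.toFinset hT M hAdm
  refine key.trans ?_
  congr 1
  unfold locSum
  rw [show (∑ᶠ (p : PrimeSpectrum R)
      (_ : p ∈ Module.support R M ∧ p.asIdeal ≠ IsLocalRing.maximalIdeal R),
      Ring.ord (R ⧸ p.asIdeal) (Ideal.Quotient.mk p.asIdeal x) *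
        Module.length (Localization.AtPrime p.asIdeal)
          (LocalizedModule p.asIdeal.primeCompl M)) =
      ∑ᶠ p ∈ S, Ring.ord (R ⧸ p.asIdeal) (Ideal.Quotient.mk p.asIdeal x) *
        Module.length (Localization.AtPrime p.asIdeal)
          (LocalizedModule p.asIdeal.primeCompl M) from rfl]
  rw [finsum_mem_eq_finite_toFinset_sum _ hSfin]
  refine Finset.sum_congr rfl fun q _ => ?_
  rw [wt_eq_ord]

end Groth.Agent.Helper8.OD
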