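import Groth.Agent.Lib.Helper8.OD8

/-!
# The length inequality for `M/tM` relative to the support of `M` (S12132)
-/

set_option autoImplicit false
universe u v

namespace Groth.Agent.Helper8.OD

open Function IsLocalRing
open scoped Pointwise

section general

variable {A : Type u} [CommRing A] [IsLocalRing A]

/-- The numerical consequences of the dévissage formula. -/
theorem le_and_eq_iff_of_formula (t : A) (ht : t ∈ maximalIdeal A)
    (M : Type v) [AddCommGroup M] [Module A M] (S : Finset (PrimeSpectrum A))
    (hform : Module.length A (M ⧸ (Ideal.span {t} • (⊤ : Submodule A M))) =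
      Module.length A (LinearMap.ker (LinearMap.lsmul A M t)) +
        ∑ q ∈ S, wt t q * Module.length (Localization.AtPrime q.asIdeal)
          (LocalizedModule q.asIdeal.primeCompl M))
    (hfin : Module.length A (M ⧸ (Ideal.span {t} • (⊤ : Submodule A M))) ≠ ⊤) :
    (∑ q ∈ S, Module.length (Localization.AtPrime q.asIdeal)
        (LocalizedModule q.asIdeal.primeCompl M)) ≤
      Module.length A (M ⧸ (Ideal.span {t} • (⊤ : Submodule A M))) ∧
    ((∑ q ∈ S, Module.length (Localization.AtPrime q.asIdeal)
        (LocalizedModule q.asIdeal.primeCompl M)) =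
      Module.length A (M ⧸ (Ideal.span {t} • (⊤ : Submodule A M))) ↔
    IsSMulRegular M t ∧ ∀ q ∈ S, Nontrivial (LocalizedModule q.asIdeal.primeCompl M) →
      Ideal.map (Ideal.Quotient.mk q.asIdeal) (maximalIdeal A) =
        Ideal.span {Ideal.Quotient.mk q.asIdeal t}) := by
  classical
  rw [hform] at hfin
  have hkfin : Module.length A (LinearMap.ker (LinearMap.lsmul A M t)) ≠ ⊤ :=
    (WithTop.add_ne_top.mp hfin).1
  have hsfin := (WithTop.add_ne_top.mp hfin).2
  obtain ⟨L, hL⟩ : ∃ L : PrimeSpectrum A → ℕ∞, L = fun q =>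
    Module.length (Localization.AtPrime q.asIdeal) (LocalizedModule q.asIdeal.primeCompl M) :=
    ⟨_, rfl⟩
  have hLq : ∀ q, Module.length (Localization.AtPrime q.asIdeal)
      (LocalizedModule q.asIdeal.primeCompl M) = L q := fun q => by rw [hL]
  simp only [hLq] at hform hsfin ⊢
  have hle : ∀ q ∈ S, L q ≤ wt t q * L q := fun q _ => by
    calc L q = 1 * L q := (one_mul _).symm
      _ ≤ _ := mul_le_mul_left (one_le_wt t ht q) _
  have hsle : ∑ q ∈ S, L q ≤ ∑ q ∈ S, wt t q * L q := Finset.sum_le_sum hle
  have hker : Module.length A (LinearMap.ker (LinearMap.lsmul A M t)) = 0 ↔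
      IsSMulRegular M t := by
    rw [Module.length_eq_zero_iff, Submodule.subsingleton_iff_eq_bot, LinearMap.ker_eq_bot]
    rfl
  have hterm : ∀ q ∈ S, (L q = wt t q * L q ↔
      (Nontrivial (LocalizedModule q.asIdeal.primeCompl M) →
        Ideal.map (Ideal.Quotient.mk q.asIdeal) (maximalIdeal A) =
          Ideal.span {Ideal.Quotient.mk q.asIdeal t})) := by
    intro q hq
    have hqfin : wt t q * L q ≠ ⊤ := by
      intro htop
      apply hsfin
      have := Finset.single_le_sum (f := fun q => wt t q * L q) (fun _ _ => zero_le) hq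
      exact eq_top_iff.mpr (le_trans (le_of_eq htop.symm) this)
    have hLfin : L q ≠ ⊤ := ne_top_of_le_ne_top hqfin (hle q hq)
    rw [← wt_eq_one_iff t ht q]
    by_cases h0 : L q = 0
    · rw [h0, mul_zero]
      simp only [true_iff]
      intro hnt
      rw [← hLq, Module.length_eq_zero_iff] at h0
      exact absurd hnt (not_nontrivial_iff_subsingleton.mpr h0)
    · have hnt : Nontrivial (LocalizedModule q.asIdeal.primeCompl M) := by
        rw [← hLq, Module.length_eq_zero_iff, not_subsingleton_iff_nontrivial] at h0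
        exact h0
      constructor
      · intro h _
        have h' : 1 * L q = wt t q * L q := by rw [one_mul]; exact h
        exact ((ENat.mul_left_strictMono h0 hLfin).injective h').symm
      · intro h
        rw [h hnt, one_mul]
  rw [hform]
  refine ⟨le_trans hsle le_add_self, ?_⟩
  constructor
  · intro h
    have h1 : ∑ q ∈ S, wt t q * L q ≤ ∑ q ∈ S, L q := by
      rw [h]; exact le_add_self
    have h2 : ∑ q ∈ S, L q = ∑ q ∈ S, wt t q * L q := le_antisymm hsle h1
    have h3 : Module.length A (LinearMap.ker (LinearMap.lsmul A M t)) = 0 := by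
      rw [h2] at h
      have h' : 0 + ∑ q ∈ S, wt t q * L q =
          Module.length A (LinearMap.ker (LinearMap.lsmul A M t)) + ∑ q ∈ S, wt t q * L q := by
        rw [zero_add]; exact h
      exact ((ENat.add_left_injective_of_ne_top hsfin) h').symm
    refine ⟨hker.mp h3, fun q hq => ?_⟩
    have := (enat_sum_eq_iff S L (fun q => wt t q * L q) hle hsfin).mp h2 _ hq
    exact (hterm _ hq).mp this
  · rintro ⟨hreg, hp⟩
    rw [hker.mpr hreg, zero_add]
    refine Finset.sum_congr rfl fun q hq => ?_
    exact (hterm q hq).mpr (hp q hq)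

/-- A Noetherian local ring in which every prime containing `t` is maximal has dimension at
most one. -/
theorem dim_le_one_of_forall_isMaximal [IsNoetherianRing A] (t : A) (ht : t ∈ maximalIdeal A)
    (h : ∀ q : Ideal A, q.IsPrime → t ∈ q → q.IsMaximal) : ringKrullDim A ≤ 1 := by
  rw [← IsLocalRing.maximalIdeal_height_eq_ringKrullDim]
  have hmin : maximalIdeal A ∈ (Ideal.span {t}).minimalPrimes := by
    refine ⟨⟨inferInstance, (Ideal.span_singleton_le_iff_mem _).mpr ht⟩, ?_⟩
    rintro q ⟨hq, hle⟩ _
    have hmax := h q hq ((Ideal.span_singleton_le_iff_mem q).mp hle)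
    exact (IsLocalRing.eq_maximalIdeal hmax).ge
  have := Ideal.height_le_one_of_isPrincipal_of_mem_minimalPrimes (Ideal.span {t})
    (maximalIdeal A) hmin
  exact_mod_cast this

end general

section support

variable {B : Type u} [CommRing B] [IsNoetherianRing B]

/-- The set of primes minimal over an ideal, in the prime spectrum. -/
def minSetOf (I : Ideal B) : Set (PrimeSpectrum B) :=
  {p | p.asIdeal ∈ I.minimalPrimes}

theorem minSetOf_finite (I : Ideal B) : (minSetOf I).Finite := by
  apply Set.Finite.of_finite_image (f := fun p : PrimeSpectrum B => p.asIdeal)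
  · refine (Ideal.finite_minimalPrimes_of_isNoetherianRing B I).subset ?_
    rintro _ ⟨p, hp, rfl⟩
    exact hp
  · intro p _ q _ hpq
    exact PrimeSpectrum.ext hpq

theorem minSetOf_incomparable (I : Ideal B) : ∀ p ∈ (minSetOf_finite I).toFinset,
    ∀ q ∈ (minSetOf_finite I).toFinset, p.asIdeal ≤ q.asIdeal → p = q := by
  intro p hp q hq hpq
  rw [Set.Finite.mem_toFinset] at hp hq
  have hq' : q.asIdeal ∈ I.minimalPrimes := hq
  have hp' : p.asIdeal ∈ I.minimalPrimes := hp
  have := hq'.2 hp'.1 hpq
  exact PrimeSpectrum.ext (le_antisymm hpq this)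

theorem finsum_minimalPrimes_of_eq (I : Ideal B) (F : PrimeSpectrum B → ℕ∞) :
    (∑ᶠ p : I.minimalPrimes, F ⟨p.1, p.2.1.1⟩) =
      ∑ q ∈ (minSetOf_finite I).toFinset, F q := by
  rw [← finsum_mem_eq_finite_toFinset_sum _ (minSetOf_finite I), ← finsum_set_coe_eq_finsum_mem]
  refine finsum_eq_of_bijective (fun p : I.minimalPrimes =>
    (⟨⟨p.1, p.2.1.1⟩, p.2⟩ : minSetOf I)) ⟨?_, ?_⟩ (fun p => rfl)
  · intro p p' h
    apply Subtype.ext
    have := congrArg (fun z : minSetOf I => z.1.asIdeal) h
    exact this
  · rintro ⟨q, hq⟩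
    exact ⟨⟨q.asIdeal, hq⟩, rfl⟩

variable [IsLocalRing B]

/-- Admissibility in the situation of S12132. -/
theorem adm_of_support (t : B) (ht : t ∈ maximalIdeal B)
    (M : Type v) [AddCommGroup M] [Module B M] [Module.Finite B M]
    (hdim : 0 < Module.supportDim B M)
    (hfin : Module.length B (M ⧸ (Ideal.span {t} • (⊤ : Submodule B M))) ≠ ⊤) :
    ∀ p ∈ Module.support B M, Adm t (minSetOf_finite (Module.annihilator B M)).toFinset p := by
  -- primes of the support containing `t` are maximal
  have hF : ∀ P : Ideal B, P.IsPrime → Module.annihilator B M ≤ P → t ∈ P → P.IsMaximal := by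
    intro P hP hle htP
    have hmem : (⟨P, hP⟩ : PrimeSpectrum B) ∈
        Module.support B (M ⧸ (Ideal.span {t} • (⊤ : Submodule B M))) := by
      rw [Module.support_quotient]
      refine ⟨Module.mem_support_iff_of_finite.mpr hle, ?_⟩
      rw [PrimeSpectrum.mem_zeroLocus]
      exact (Ideal.span_singleton_le_iff_mem P).mpr htP
    exact KoszulLib.isMaximal_of_mem_support_of_isFiniteLength
      (Module.length_ne_top_iff.mp hfin) _ hmem
  -- the maximal ideal is not minimal over the annihilator
  have hm : maximalIdeal B ∉ (Module.annihilator B M).minimalPrimes := by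
    intro hmin
    unfold Module.supportDim at hdim
    rw [Order.krullDim_pos_iff] at hdim
    obtain ⟨⟨x, hx⟩, ⟨y, hy⟩, hxy⟩ := hdim
    have hxy' : x.asIdeal < y.asIdeal := hxy
    have hxle := Module.mem_support_iff_of_finite.mp hx
    have h1 : maximalIdeal B ≤ x.asIdeal :=
      hmin.2 ⟨x.2, hxle⟩ (IsLocalRing.le_maximalIdeal x.2.ne_top)
    have h2 : y.asIdeal ≤ maximalIdeal B := IsLocalRing.le_maximalIdeal y.2.ne_top
    exact absurd (lt_of_lt_of_le hxy' (h2.trans h1)) (lt_irrefl _)
  intro p hp
  have hple := Module.mem_support_iff_of_finite.mp hp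
  by_cases htp : t ∈ p.asIdeal
  · right
    have hmax := hF p.asIdeal p.2 hple htp
    refine ⟨hmax, fun q hq hle => ?_⟩
    rw [Set.Finite.mem_toFinset] at hq
    have hq' : q.asIdeal ∈ (Module.annihilator B M).minimalPrimes := hq
    have : p.asIdeal = q.asIdeal := hmax.eq_of_le q.2.ne_top hle
    rw [← this, IsLocalRing.eq_maximalIdeal hmax] at hq'
    exact hm hq'
  · left
    refine ⟨?_, htp⟩
    rw [Set.Finite.mem_toFinset]
    obtain ⟨q, hq, hqp⟩ := Ideal.exists_minimalPrimes_le hple
    have hqprime : q.IsPrime := hq.1.1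
    suffices q = p.asIdeal by
      have h : p.asIdeal ∈ (Module.annihilator B M).minimalPrimes := this ▸ hq
      exact h
    -- work in `B ⧸ q`
    haveI : Nontrivial (B ⧸ q) := Ideal.Quotient.nontrivial_iff.mpr hqprime.ne_top
    haveI : IsLocalRing (B ⧸ q) :=
      IsLocalRing.of_surjective' (Ideal.Quotient.mk q) Ideal.Quotient.mk_surjective
    haveI : IsDomain (B ⧸ q) := Ideal.Quotient.isDomain q
    have hker : RingHom.ker (Ideal.Quotient.mk q) = q := Ideal.mk_ker
    have hqle : ∀ P : Ideal (B ⧸ q), q ≤ P.comap (Ideal.Quotient.mk q) := by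
      intro P x hx
      rw [Ideal.mem_comap, Ideal.Quotient.eq_zero_iff_mem.mpr hx]
      exact P.zero_mem
    have hdim1 : ringKrullDim (B ⧸ q) ≤ 1 := by
      refine dim_le_one_of_forall_isMaximal (Ideal.Quotient.mk q t) ?_ ?_
      · have := ((IsLocalRing.local_hom_TFAE (Ideal.Quotient.mk q)).out 0 2).mp
          (Ideal.Quotient.mk_surjective.isLocalHom _)
        exact this (Ideal.mem_map_of_mem _ ht)
      · intro P hP htP
        haveI := hP
        have hcomap : (P.comap (Ideal.Quotient.mk q)).IsMaximal := by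
          exact hF _ (Ideal.comap_isPrime _ P) (hq.1.2.trans (hqle P)) htP
        haveI := hcomap
        have := Ideal.IsMaximal.map_of_surjective_of_ker_le (f := Ideal.Quotient.mk q)
          Ideal.Quotient.mk_surjective (m := P.comap (Ideal.Quotient.mk q))
          (by rw [hker]; exact hqle P)
        rwa [Ideal.map_comap_of_surjective _ Ideal.Quotient.mk_surjective] at this
    have h1 : Ring.KrullDimLE 1 (B ⧸ q) := ⟨hdim1⟩
    haveI : (p.asIdeal.map (Ideal.Quotient.mk q)).IsPrime :=
      Ideal.map_isPrime_of_surjective Ideal.Quotient.mk_surjective (by rw [hker]; exact hqp)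
    have hcm : (p.asIdeal.map (Ideal.Quotient.mk q)).comap (Ideal.Quotient.mk q) = p.asIdeal := by
      rw [Ideal.comap_map_of_surjective _ Ideal.Quotient.mk_surjective,
        ← RingHom.ker_eq_comap_bot, hker]
      exact sup_eq_left.mpr hqp
    rcases Ring.krullDimLE_one_iff.mp h1 _ ‹(p.asIdeal.map (Ideal.Quotient.mk q)).IsPrime›
      with h | h
    · rw [IsDomain.minimalPrimes_eq_singleton_bot, Set.mem_singleton_iff,
        Ideal.map_eq_bot_iff_le_ker, hker] at h
      exact le_antisymm hqp h
    · exfalso
      have := Ideal.comap_isMaximal_of_surjective (Ideal.Quotient.mk q)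
        Ideal.Quotient.mk_surjective (K := p.asIdeal.map (Ideal.Quotient.mk q))
      rw [hcm] at this
      apply htp
      rw [IsLocalRing.eq_maximalIdeal this]
      exact ht

/-- **S12132.** -/
theorem length_quotient_ge_sum_of_support (t : B) (ht : t ∈ maximalIdeal B)
    (M : Type v) [AddCommGroup M] [Module B M] [Module.Finite B M]
    (hdim : 0 < Module.supportDim B M)
    (hfin : Module.length B (M ⧸ (Ideal.span {t} • (⊤ : Submodule B M))) ≠ ⊤) :
    (∑ᶠ p : (Module.annihilator B M).minimalPrimes,
        haveI : p.1.IsPrime := p.2.1.1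
        Module.length (Localization.AtPrime p.1) (LocalizedModule p.1.primeCompl M)) ≤
      Module.length B (M ⧸ (Ideal.span {t} • (⊤ : Submodule B M))) ∧
    ((∑ᶠ p : (Module.annihilator B M).minimalPrimes,
        haveI : p.1.IsPrime := p.2.1.1
        Module.length (Localization.AtPrime p.1) (LocalizedModule p.1.primeCompl M)) =
      Module.length B (M ⧸ (Ideal.span {t} • (⊤ : Submodule B M))) ↔
    IsSMulRegular M t ∧
      ∀ p : (Module.annihilator B M).minimalPrimes,
        Ideal.map (Ideal.Quotient.mk p.1) (maximalIdeal B) =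
          Ideal.span {Ideal.Quotient.mk p.1 t}) := by
  have key := length_quot_eq t (minSetOf_finite (Module.annihilator B M)).toFinset
    (minSetOf_incomparable _) M (adm_of_support t ht M hdim hfin)
  have e : Module.length B (M ⧸ (Ideal.span {t} • (⊤ : Submodule B M))) =
      Module.length B (QuotSMulTop t M) :=
    (Submodule.quotEquivOfEq _ _ (Submodule.ideal_span_singleton_smul t ⊤)).length_eq
  have hform : Module.length B (M ⧸ (Ideal.span {t} • (⊤ : Submodule B M))) =
      Module.length B (LinearMap.ker (LinearMap.lsmul B M t)) +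
        ∑ q ∈ (minSetOf_finite (Module.annihilator B M)).toFinset,
          wt t q * Module.length (Localization.AtPrime q.asIdeal)
            (LocalizedModule q.asIdeal.primeCompl M) := by
    rw [e, key]; rfl
  have main := le_and_eq_iff_of_formula t ht M _ hform hfin
  have es := finsum_minimalPrimes_of_eq (Module.annihilator B M) (fun q =>
    Module.length (Localization.AtPrime q.asIdeal) (LocalizedModule q.asIdeal.primeCompl M))
  rw [es]
  obtain ⟨P, hP⟩ : ∃ P : Ideal B → Prop, P = fun I =>
    Ideal.map (Ideal.Quotient.mk I) (maximalIdeal B) = Ideal.span {Ideal.Quotient.mk I t} :=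
    ⟨_, rfl⟩
  have hPI : ∀ I : Ideal B, (Ideal.map (Ideal.Quotient.mk I) (maximalIdeal B) =
      Ideal.span {Ideal.Quotient.mk I t}) = P I := fun I => by rw [hP]
  have main2 := main.2
  simp only [hPI] at main2 ⊢
  refine ⟨main.1, main2.trans (and_congr Iff.rfl ?_)⟩
  constructor
  · intro h p
    have hpS : (⟨p.1, p.2.1.1⟩ : PrimeSpectrum B) ∈
        (minSetOf_finite (Module.annihilator B M)).toFinset :=
      (Set.Finite.mem_toFinset _).mpr p.2
    obtain ⟨q, hq⟩ : ∃ q : PrimeSpectrum B, q = ⟨p.1, p.2.1.1⟩ := ⟨_, rfl⟩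
    have hqp : q.asIdeal = p.1 := by rw [hq]
    rw [← hq] at hpS
    have hnt : Nontrivial (LocalizedModule q.asIdeal.primeCompl M) := by
      rw [← Module.mem_support_iff]
      apply Module.mem_support_iff_of_finite.mpr
      rw [hqp]
      exact p.2.1.2
    have := h q hpS hnt
    rwa [hqp] at this
  · intro h q hq _
    rw [Set.Finite.mem_toFinset] at hq
    exact h ⟨q.asIdeal, hq⟩

end support

end Groth.Agent.Helper8.OD
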