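import Mathlib
import Groth.Prelude
import Groth.Agent.Lib.Helper8.NilAdd
import Groth.Agent.Lib.Helper8.SopChain
import Groth.Agent.Lib.Helper8.Depth3

/-!
# One-dimensional Noetherian local rings: parameters (helper8)
-/

set_option autoImplicit false
universe u

namespace Groth.Agent.Helper8.OneDim

open IsLocalRing Groth.Agent.Helper8.NilAdd

variable {A : Type u} [CommRing A] [IsLocalRing A] [IsNoetherianRing A]

theorem maximalIdeal_notMem_minimalPrimes (hdim : ringKrullDim A = 1) :
    maximalIdeal A ∉ minimalPrimes A := by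
  intro hp
  have h0 : (maximalIdeal A).height = 0 := Ideal.height_eq_zero_iff.mpr hp
  have h1 := IsLocalRing.maximalIdeal_height_eq_ringKrullDim (R := A)
  rw [h0, hdim] at h1
  exact absurd h1 (by norm_cast)

theorem exists_notMem_minimalPrimes (hdim : ringKrullDim A = 1) :
    ∃ f ∈ maximalIdeal A, ∀ p ∈ minimalPrimes A, f ∉ p :=
  Groth.Agent.Helper8.SopChain.exists_mem_maximalIdeal_notMem
    (minimalPrimes A) (minimalPrimes.finite_of_isNoetherianRing A) (by
      intro p hp
      refine ⟨hp.1.1, ?_⟩
      rintro rfl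
      exact maximalIdeal_notMem_minimalPrimes hdim hp)

theorem radical_iff (hdim : ringKrullDim A = 1) (f : A) (hf : f ∈ maximalIdeal A) :
    maximalIdeal A = (Ideal.span {f}).radical ↔ ∀ p ∈ minimalPrimes A, f ∉ p := by
  constructor
  · intro h p hp hfp
    haveI : p.IsPrime := hp.1.1
    have h1 : (Ideal.span {f}).radical ≤ p := by
      rw [Ideal.IsPrime.radical_le_iff ‹_›, Ideal.span_singleton_le_iff_mem]
      exact hfp
    rw [← h] at h1
    have h2 : p = maximalIdeal A :=
      le_antisymm (IsLocalRing.le_maximalIdeal Ideal.IsPrime.ne_top') h1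
    exact maximalIdeal_notMem_minimalPrimes hdim (h2 ▸ hp)
  · intro h
    apply le_antisymm
    · rw [Ideal.radical_eq_sInf]
      refine le_sInf ?_
      rintro P ⟨hP1, hP2⟩
      haveI := hP2
      have hfP : f ∈ P := hP1 (Ideal.mem_span_singleton_self f)
      have : P ∉ minimalPrimes A := fun hm => h P hm hfP
      rw [eq_maximalIdeal_of_not_minimal hdim P this]
    · rw [Ideal.IsPrime.radical_le_iff inferInstance, Ideal.span_singleton_le_iff_mem]
      exact hf

section Away

theorem comap_mem_minimalPrimes (hdim : ringKrullDim A = 1) (f : A) (hf : f ∈ maximalIdeal A)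
    (q : Ideal (Localization.Away f)) [q.IsPrime] :
    q.comap (algebraMap A (Localization.Away f)) ∈ minimalPrimes A := by
  by_contra hq
  have h1 := eq_maximalIdeal_of_not_minimal hdim (q.comap (algebraMap A (Localization.Away f))) hq
  have h2 : f ∈ q.comap (algebraMap A (Localization.Away f)) := h1 ▸ hf
  rw [Ideal.mem_comap] at h2
  exact Ideal.IsPrime.ne_top' (q.eq_top_of_isUnit_mem h2
    (IsLocalization.Away.algebraMap_isUnit f))

theorem krullDimLE_zero_away (hdim : ringKrullDim A = 1) (f : A) (hf : f ∈ maximalIdeal A) :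
    Ring.KrullDimLE 0 (Localization.Away f) := by
  rw [Ring.krullDimLE_zero_iff]
  intro q hq
  obtain ⟨q', hq'max, hle⟩ := Ideal.exists_le_maximal q hq.ne_top
  haveI := hq'max.isPrime
  have h1 := comap_mem_minimalPrimes hdim f hf q
  have h2 := comap_mem_minimalPrimes hdim f hf q'
  have h3 : q'.comap (algebraMap A (Localization.Away f)) ≤
      q.comap (algebraMap A (Localization.Away f)) :=
    h2.2 ⟨Ideal.IsPrime.comap _, bot_le⟩ (Ideal.comap_mono hle)
  have h4 : q' ≤ q := by
    rw [← IsLocalization.map_comap (Submonoid.powers f) (Localization.Away f) q',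
      ← IsLocalization.map_comap (Submonoid.powers f) (Localization.Away f) q]
    exact Ideal.map_mono h3
  rw [le_antisymm hle h4]
  exact hq'max

/-- The minimal prime of `A` below a prime of `A_f`. -/
noncomputable def pq (hdim : ringKrullDim A = 1) (f : A) (hf : f ∈ maximalIdeal A)
    (q : PrimeSpectrum (Localization.Away f)) : MinP A :=
  ⟨⟨q.asIdeal.comap (algebraMap A (Localization.Away f)), Ideal.IsPrime.comap _⟩,
    comap_mem_minimalPrimes hdim f hf q.asIdeal⟩

theorem pq_surjective (hdim : ringKrullDim A = 1) (f : A) (hf : f ∈ maximalIdeal A)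
    (hmin : ∀ p ∈ minimalPrimes A, f ∉ p) : Function.Surjective (pq hdim f hf) := by
  intro p
  haveI : p.1.asIdeal.IsPrime := p.1.2
  have hdisj : Disjoint (Submonoid.powers f : Set A) (p.1.asIdeal : Set A) := by
    rw [Set.disjoint_left]
    rintro _ ⟨n, rfl⟩ hmem
    exact hmin _ p.2 (Ideal.IsPrime.mem_of_pow_mem inferInstance n hmem)
  refine ⟨⟨Ideal.map (algebraMap A (Localization.Away f)) p.1.asIdeal,
    IsLocalization.isPrime_of_isPrime_disjoint (Submonoid.powers f) _ _ inferInstance hdisj⟩, ?_⟩
  apply Subtype.ext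
  apply PrimeSpectrum.ext
  exact IsLocalization.comap_map_of_isPrime_disjoint (Submonoid.powers f) _ inferInstance hdisj

/-- The comparison map `A_f → ∏ A_p`. -/
noncomputable def awayToPi (f : A) (hmin : ∀ p ∈ minimalPrimes A, f ∉ p) :
    Localization.Away f →ₐ[A] L A :=
  Pi.algHom A _ (fun p : MinP A =>
    haveI : p.1.asIdeal.IsPrime := p.1.2
    IsLocalization.liftAlgHom (M := Submonoid.powers f)
      (f := Algebra.ofId A (Localization.AtPrime p.1.asIdeal)) (by
        rintro ⟨_, n, rfl⟩
        change IsUnit (algebraMap A (Localization.AtPrime p.1.asIdeal) (f ^ n))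
        rw [map_pow]
        refine IsUnit.pow n ?_
        rw [IsLocalization.AtPrime.isUnit_to_map_iff (Localization.AtPrime p.1.asIdeal) p.1.asIdeal]
        exact hmin _ p.2))

theorem awayToPi_bijective (hdim : ringKrullDim A = 1) (f : A) (hf : f ∈ maximalIdeal A)
    (hmin : ∀ p ∈ minimalPrimes A, f ∉ p) : Function.Bijective (awayToPi f hmin) := by
  haveI : IsNoetherianRing (Localization.Away f) :=
    IsLocalization.isNoetherianRing (Submonoid.powers f) _ inferInstance
  haveI : Ring.KrullDimLE 0 (Localization.Away f) := krullDimLE_zero_away hdim f hf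
  haveI : IsArtinianRing (Localization.Away f) := isArtinianRing_iff_krullDimLE_zero.mpr inferInstance
  have hbij := PrimeSpectrum.toPiLocalization_bijective (R := Localization.Away f)
  -- the local isomorphisms
  have key : ∀ (q : PrimeSpectrum (Localization.Away f)),
      ∃ e : Localization.AtPrime (pq hdim f hf q).1.asIdeal ≃ₐ[A] Localization.AtPrime q.asIdeal,
        ∀ b : Localization.Away f,
          e (awayToPi f hmin b (pq hdim f hf q)) = algebraMap _ (Localization.AtPrime q.asIdeal) b := by
    intro q
    haveI : (pq hdim f hf q).1.asIdeal.IsPrime := (pq hdim f hf q).1.2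
    haveI : IsLocalization.AtPrime (Localization.AtPrime q.asIdeal) (pq hdim f hf q).1.asIdeal :=
      IsLocalization.isLocalization_atPrime_localization_atPrime (Submonoid.powers f) q.asIdeal
    let e : Localization.AtPrime (pq hdim f hf q).1.asIdeal ≃ₐ[A] Localization.AtPrime q.asIdeal :=
      IsLocalization.algEquiv (pq hdim f hf q).1.asIdeal.primeCompl _ _
    refine ⟨e, fun b => ?_⟩
    have hsub : Subsingleton (Localization.Away f →ₐ[A] Localization.AtPrime q.asIdeal) :=
      IsLocalization.algHom_subsingleton (Submonoid.powers f)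
    have := hsub.elim
      ((e.toAlgHom.comp (Pi.evalAlgHom A _ (pq hdim f hf q))).comp (awayToPi f hmin))
      (IsScalarTower.toAlgHom A (Localization.Away f) (Localization.AtPrime q.asIdeal))
    exact DFunLike.congr_fun this b
  choose e he using key
  constructor
  · rw [injective_iff_map_eq_zero]
    intro b hb
    apply hbij.1
    funext q
    rw [map_zero]
    change algebraMap _ (Localization.AtPrime q.asIdeal) b = 0
    rw [← he q b, hb]
    simp
  · intro x
    obtain ⟨b, hb⟩ := hbij.2 (fun q => e q (x (pq hdim f hf q)))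
    refine ⟨b, ?_⟩
    funext p
    obtain ⟨q, rfl⟩ := pq_surjective hdim f hf hmin p
    apply (e q).injective
    rw [he q b]
    exact congrFun hb q

theorem nonempty_away_equiv (hdim : ringKrullDim A = 1) (f : A) (hf : f ∈ maximalIdeal A)
    (hmin : ∀ p ∈ minimalPrimes A, f ∉ p) : Nonempty (Localization.Away f ≃ₐ[A] L A) :=
  ⟨AlgEquiv.ofBijective (awayToPi f hmin) (awayToPi_bijective hdim f hf hmin)⟩

theorem notMem_of_away_equiv (f : A) (e : Localization.Away f ≃ₐ[A] L A) :
    ∀ p ∈ minimalPrimes A, f ∉ p := by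
  intro p hp
  haveI : p.IsPrime := hp.1.1
  have h1 : IsUnit (algebraMap A (Localization.Away f) f) :=
    IsLocalization.Away.algebraMap_isUnit f
  have h2 : IsUnit (algebraMap A (L A) f) := by
    have := h1.map e
    rwa [AlgEquiv.commutes] at this
  have h3 : IsUnit (algebraMap A (Localization.AtPrime p) f) :=
    h2.map (Pi.evalRingHom _ (⟨⟨p, inferInstance⟩, hp⟩ : MinP A))
  exact (IsLocalization.AtPrime.isUnit_to_map_iff (Localization.AtPrime p) p f).mp h3

end Away

section NZD

theorem notMem_minimalPrimes_of_mem_nonZeroDivisors (f : A) (hf : f ∈ nonZeroDivisors A) :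
    ∀ p ∈ minimalPrimes A, f ∉ p := fun _ hp hfp =>
  _root_.notMem_nonZeroDivisors_of_mem_mem_minimalPrimes hfp hp hf

/-- If some element of the maximal ideal is a nonzerodivisor, every parameter is. -/
theorem mem_nonZeroDivisors_of_exists (hdim : ringKrullDim A = 1) (f : A)
    (hf : f ∈ maximalIdeal A) (hmin : ∀ p ∈ minimalPrimes A, f ∉ p)
    (g : A) (hg : g ∈ maximalIdeal A) (hgreg : g ∈ nonZeroDivisors A) :
    f ∈ nonZeroDivisors A := by
  have hrad := (radical_iff hdim f hf).mpr hmin
  have hg' : g ∈ (Ideal.span {f}).radical := hrad ▸ hg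
  obtain ⟨n, hn⟩ := hg'
  rw [Ideal.mem_span_singleton'] at hn
  obtain ⟨h, hh⟩ := hn
  have h1 : h * f ∈ nonZeroDivisors A := hh ▸ pow_mem hgreg n
  exact (mul_mem_nonZeroDivisors.mp h1).2

theorem exists_regular_of_depth_or_reduced (hdim : ringKrullDim A = 1)
    (h : LocCoh.depth A A = 1 ∨ IsReduced A) :
    ∃ g ∈ maximalIdeal A, g ∈ nonZeroDivisors A := by
  rcases h with h | h
  · have h0 : LocCoh.depth A A ≠ 0 := by rw [h]; exact one_ne_zero
    rw [Ne, Groth.Agent.Helper8.Depth.depth_eq_zero_iff,
      ← Groth.Agent.Helper8.Depth.forall_not_isSMulRegular_iff] at h0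
    push Not at h0
    obtain ⟨g, hg, hreg⟩ := h0
    refine ⟨g, hg, ?_⟩
    rw [mem_nonZeroDivisors_iff_right]
    intro x hx
    apply hreg
    change g * x = g * 0
    rw [mul_comm, hx, mul_zero]
  · obtain ⟨g, hg, hgp⟩ := exists_notMem_minimalPrimes hdim (A := A)
    refine ⟨g, hg, ?_⟩
    rw [mem_nonZeroDivisors_iff_right]
    intro x hx
    have hx' : x ∈ nilradical A := by
      rw [nilradical_eq_sInf, Ideal.mem_sInf]
      intro q hq
      haveI : q.IsPrime := hq
      obtain ⟨p, hpmin, hpq⟩ := Ideal.exists_minimalPrimes_le (bot_le : (⊥ : Ideal A) ≤ q)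
      apply hpq
      have hmem : x * g ∈ p := by rw [hx]; exact p.zero_mem
      exact (hpmin.1.1.mem_or_mem hmem).resolve_right (hgp p hpmin)
    rw [nilradical_eq_zero A] at hx'
    exact hx'

theorem nzd_iff (hdim : ringKrullDim A = 1) (f : A) (hf : f ∈ maximalIdeal A)
    (h : LocCoh.depth A A = 1 ∨ IsReduced A) :
    (∀ p ∈ minimalPrimes A, f ∉ p) ↔ f ∈ nonZeroDivisors A := by
  constructor
  · intro hmin
    obtain ⟨g, hg, hgreg⟩ := exists_regular_of_depth_or_reduced hdim h
    exact mem_nonZeroDivisors_of_exists hdim f hf hmin g hg hgreg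
  · exact notMem_minimalPrimes_of_mem_nonZeroDivisors f

theorem isLocalization_iff (hdim : ringKrullDim A = 1) (f : A) (hf : f ∈ maximalIdeal A)
    (h : LocCoh.depth A A = 1 ∨ IsReduced A) :
    (∀ p ∈ minimalPrimes A, f ∉ p) ↔
      IsLocalization (nonZeroDivisors A) (Localization.Away f) := by
  constructor
  · intro hmin
    have hfreg := (nzd_iff hdim f hf h).mp hmin
    refine IsLocalization.of_le (Submonoid.powers f) (nonZeroDivisors A)
      (Submonoid.powers_le.mpr hfreg) ?_
    intro s hs
    by_cases hsm : s ∈ maximalIdeal A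
    · have hsmin := notMem_minimalPrimes_of_mem_nonZeroDivisors s hs
      have hrad := (radical_iff hdim s hsm).mpr hsmin
      have hf' : f ∈ (Ideal.span {s}).radical := hrad ▸ hf
      obtain ⟨n, hn⟩ := hf'
      rw [Ideal.mem_span_singleton'] at hn
      obtain ⟨t, ht⟩ := hn
      have h1 : IsUnit (algebraMap A (Localization.Away f) (t * s)) := by
        rw [ht, map_pow]
        exact (IsLocalization.Away.algebraMap_isUnit f).pow n
      rw [map_mul] at h1
      exact isUnit_of_mul_isUnit_right h1
    · have : IsUnit s := by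
        by_contra hns
        exact hsm ((IsLocalRing.mem_maximalIdeal s).mpr hns)
      exact this.map _
  · intro hloc
    apply notMem_minimalPrimes_of_mem_nonZeroDivisors
    rw [mem_nonZeroDivisors_iff_right]
    intro x hx
    have hinj : Function.Injective (algebraMap A (Localization.Away f)) :=
      IsLocalization.injective (Localization.Away f) (le_refl (nonZeroDivisors A))
    apply hinj
    rw [map_zero]
    have h1 : algebraMap A (Localization.Away f) x * algebraMap A (Localization.Away f) f = 0 := by
      rw [← map_mul, hx, map_zero]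
    exact (IsLocalization.Away.algebraMap_isUnit f).mul_left_eq_zero.mp h1

end NZD

section Reduced

omit [IsLocalRing A] [IsNoetherianRing A] in
theorem residue_bijective_of_minimal [IsReduced A] (p : Ideal A) [p.IsPrime]
    (hp : p ∈ minimalPrimes A) :
    Function.Bijective (IsScalarTower.toAlgHom A (Localization.AtPrime p) p.ResidueField) := by
  constructor
  · rw [injective_iff_map_eq_zero]
    intro x hx
    have hx' : x ∈ maximalIdeal (Localization.AtPrime p) := by
      rw [← IsLocalRing.residue_eq_zero_iff]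
      exact hx
    rw [← Localization.AtPrime.map_eq_maximalIdeal] at hx'
    have h := IsLocalization.AtPrime.radical_map_of_mem_minimalPrimes
      (A := Localization.AtPrime p) p ⊥ hp
    rw [Ideal.map_bot] at h
    rw [← h] at hx'
    haveI : IsReduced (Localization.AtPrime p) := inferInstance
    have h0 : (⊥ : Ideal (Localization.AtPrime p)).radical = ⊥ := by
      change nilradical _ = ⊥
      exact nilradical_eq_zero _
    rw [h0] at hx'
    exact hx'
  · exact IsLocalRing.residue_surjective

theorem nonempty_away_equiv_residue [IsReduced A] (hdim : ringKrullDim A = 1) (f : A)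
    (hf : f ∈ maximalIdeal A) (hmin : ∀ p ∈ minimalPrimes A, f ∉ p) :
    Nonempty (Localization.Away f ≃ₐ[A] (∀ p : MinP A, p.1.asIdeal.ResidueField)) := by
  obtain ⟨e⟩ := nonempty_away_equiv hdim f hf hmin
  refine ⟨e.trans (AlgEquiv.piCongrRight (fun p : MinP A => ?_))⟩
  haveI : p.1.asIdeal.IsPrime := p.1.2
  exact AlgEquiv.ofBijective _ (residue_bijective_of_minimal p.1.asIdeal p.2)

theorem notMem_of_away_equiv_residue (f : A)
    (e : Localization.Away f ≃ₐ[A] (∀ p : MinP A, p.1.asIdeal.ResidueField)) :
    ∀ p ∈ minimalPrimes A, f ∉ p := by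
  intro p hp
  haveI : p.IsPrime := hp.1.1
  have h1 : IsUnit (algebraMap A (Localization.Away f) f) :=
    IsLocalization.Away.algebraMap_isUnit f
  have h2 : IsUnit (algebraMap A (∀ p : MinP A, p.1.asIdeal.ResidueField) f) := by
    have := h1.map e
    rwa [AlgEquiv.commutes] at this
  have h3 : IsUnit (algebraMap A p.ResidueField f) :=
    h2.map (Pi.evalRingHom _ (⟨⟨p, inferInstance⟩, hp⟩ : MinP A))
  intro hfp
  rw [Ideal.algebraMap_residueField_eq_zero.mpr hfp] at h3
  exact not_isUnit_zero h3

end Reduced

end Groth.Agent.Helper8.OneDim
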