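import Mathlib
import Groth.Prelude
import Groth.Agent.Lib.Helper8.LocHom1
import Groth.Agent.Lib.Helper8.AdicReg1

/-!
# The localization at `1 + J` and the `J`-adic completion
-/

set_option autoImplicit false
universe u

namespace Groth.Agent.Helper8.OnePlus

open TensorProduct

variable (A : Type u) [CommRing A] (J : Ideal A)

/-- Elements of `1 + J` become units in the `J`-adic completion. -/
theorem isUnit_algebraMap (hfg : J.FG) {t : A} (ht : t ∈ MonoidHom.mker (Ideal.Quotient.mk J)) :
    IsUnit (algebraMap A (AdicCompletion J A) t) := by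
  have h1 : t - 1 ∈ J := by
    rw [← Ideal.Quotient.eq_zero_iff_mem, map_sub, map_one, sub_eq_zero]
    exact ht
  haveI := AdicCompletion.isAdicComplete_self J hfg
  have h2 : algebraMap A (AdicCompletion J A) (t - 1) ∈
      (⊥ : Ideal (AdicCompletion J A)).jacobson :=
    IsAdicComplete.le_jacobson_bot (J.map (algebraMap A (AdicCompletion J A)))
      (Ideal.mem_map_of_mem _ h1)
  have h3 := Ideal.mem_jacobson_bot.mp h2 1
  rw [mul_one, ← map_one (algebraMap A (AdicCompletion J A)), ← map_add, sub_add_cancel] at h3
  exact h3

variable {A} in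
/-- The submonoid `1 + J`. -/
abbrev T : Submonoid A := MonoidHom.mker (Ideal.Quotient.mk J)

theorem le_isUnit_submonoid (hfg : J.FG) :
    Algebra.algebraMapSubmonoid (AdicCompletion J A) (T J) ≤
      IsUnit.submonoid (AdicCompletion J A) := by
  rintro _ ⟨t, ht, rfl⟩
  exact isUnit_algebraMap A J hfg ht

/-- The algebra structure of the completion over the localization at `1 + J`. -/
@[reducible] noncomputable def algebraLoc (hfg : J.FG) : Algebra (Localization (T J)) (AdicCompletion J A) :=
  (IsLocalization.lift (M := T J) (g := algebraMap A (AdicCompletion J A))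
    (fun t => isUnit_algebraMap A J hfg t.2)).toAlgebra

theorem isScalarTower_loc (hfg : J.FG) :
    letI := algebraLoc A J hfg
    IsScalarTower A (Localization (T J)) (AdicCompletion J A) := by
  letI := algebraLoc A J hfg
  refine IsScalarTower.of_algebraMap_eq fun x => ?_
  exact (IsLocalization.lift_eq (M := T J) (fun t => isUnit_algebraMap A J hfg t.2) x).symm

/-- The image of `J` lies in every maximal ideal of the localization at `1 + J`. -/
theorem map_le_of_isMaximal (n : Ideal (Localization (T J))) [hn : n.IsMaximal] :
    J.map (algebraMap A (Localization (T J))) ≤ n := by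
  rw [Ideal.map_le_iff_le_comap]
  intro j hj
  rw [Ideal.mem_comap]
  by_contra hjn
  have h1 : n ⊔ Ideal.span {algebraMap A (Localization (T J)) j} = ⊤ :=
    hn.1.2 _ (lt_of_le_of_ne le_sup_left fun h =>
      hjn (h ▸ Ideal.mem_sup_right (Ideal.subset_span rfl)))
  have h2 : (1 : Localization (T J)) ∈ n ⊔ Ideal.span {algebraMap A (Localization (T J)) j} :=
    h1 ▸ Submodule.mem_top
  obtain ⟨x, hx, y, hy, hxy⟩ := Submodule.mem_sup.mp h2
  obtain ⟨c, rfl⟩ := Ideal.mem_span_singleton'.mp hy
  obtain ⟨a, t, rfl⟩ := IsLocalization.exists_mk'_eq (T J) c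
  -- `x * t = t - a j`
  have h3 : x * algebraMap A (Localization (T J)) t =
      algebraMap A (Localization (T J)) (t - a * j) := by
    have : x = 1 - IsLocalization.mk' (Localization (T J)) a t *
        algebraMap A (Localization (T J)) j := by
      rw [← hxy]; ring
    rw [this, sub_mul, one_mul, mul_right_comm, IsLocalization.mk'_spec, map_sub, map_mul]
  have h4 : (t : A) - a * j ∈ T J := by
    change Ideal.Quotient.mk J (t - a * j) = 1
    have htt : Ideal.Quotient.mk J (t : A) = 1 := t.2
    rw [map_sub, map_mul, Ideal.Quotient.eq_zero_iff_mem.mpr hj, mul_zero, sub_zero, htt]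
  have h5 : IsUnit (algebraMap A (Localization (T J)) (t - a * j)) :=
    IsLocalization.map_units _ (⟨_, h4⟩ : T J)
  have h6 : IsUnit x := by
    rw [← h3] at h5
    exact isUnit_of_mul_isUnit_left h5
  exact hn.ne_top (Ideal.eq_top_of_isUnit_mem _ hx h6)

theorem flat_loc (hfg : J.FG) [Module.Flat A (AdicCompletion J A)] :
    letI := algebraLoc A J hfg
    Module.Flat (Localization (T J)) (AdicCompletion J A) := by
  letI := algebraLoc A J hfg
  haveI := isScalarTower_loc A J hfg
  exact (Module.flat_iff_of_isLocalization (Localization (T J)) (T J) (AdicCompletion J A)).mpr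
    inferInstance

theorem faithfullyFlat_loc (hfg : J.FG) [Module.Flat A (AdicCompletion J A)] :
    letI := algebraLoc A J hfg
    Module.FaithfullyFlat (Localization (T J)) (AdicCompletion J A) := by
  letI := algebraLoc A J hfg
  haveI := isScalarTower_loc A J hfg
  haveI := flat_loc A J hfg
  refine ⟨fun n hn htop => ?_⟩
  haveI := hn
  have hJn : ∀ j ∈ J, (Ideal.Quotient.mk n).comp (algebraMap A (Localization (T J))) j = 0 := by
    intro j hj
    rw [RingHom.comp_apply, Ideal.Quotient.eq_zero_iff_mem]
    exact map_le_of_isMaximal A J n (Ideal.mem_map_of_mem _ hj)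
  let ψ : AdicCompletion J A →+* Localization (T J) ⧸ n :=
    (Ideal.Quotient.lift J ((Ideal.Quotient.mk n).comp (algebraMap A (Localization (T J))))
      hJn).comp (AdicCompletion.evalOneₐ J).toRingHom
  have hψ : ψ.comp (algebraMap (Localization (T J)) (AdicCompletion J A)) =
      Ideal.Quotient.mk n := by
    refine IsLocalization.ringHom_ext (T J) (RingHom.ext fun a => ?_)
    rw [RingHom.comp_apply, RingHom.comp_apply,
      ← IsScalarTower.algebraMap_apply A (Localization (T J)) (AdicCompletion J A)]
    change Ideal.Quotient.lift J _ hJn (AdicCompletion.evalOneₐ J (algebraMap A _ a)) = _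
    rw [AlgHom.commutes, Ideal.Quotient.algebraMap_eq, Ideal.Quotient.lift_mk]
  have hzero : ∀ x ∈ n • (⊤ : Submodule (Localization (T J)) (AdicCompletion J A)), ψ x = 0 := by
    intro x hx
    refine Submodule.smul_induction_on hx ?_ ?_
    · intro r hr y _
      rw [Algebra.smul_def, map_mul]
      have : ψ (algebraMap (Localization (T J)) (AdicCompletion J A) r) = 0 := by
        have := RingHom.congr_fun hψ r
        rw [RingHom.comp_apply] at this
        rw [this, Ideal.Quotient.eq_zero_iff_mem]
        exact hr
      rw [this, zero_mul]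
    · intro x y hx hy
      rw [map_add, hx, hy, add_zero]
  have h1 : ψ 1 = 0 := hzero 1 (by rw [htop]; exact Submodule.mem_top)
  rw [map_one] at h1
  haveI : Nontrivial (Localization (T J) ⧸ n) := Ideal.Quotient.nontrivial_iff.mpr hn.ne_top
  exact one_ne_zero h1

/-- The fibres of the completion over the localization at `1 + J` are those over `A`. -/
theorem exists_fibre_equiv (hfg : J.FG) (P : Ideal (Localization (T J))) [P.IsPrime] (K : Type u)
    [Field K] [Algebra P.ResidueField K] :
    letI := algebraLoc A J hfg
    ∃ (_ : Algebra (P.under A).ResidueField K),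
      (Module.Finite P.ResidueField K → Module.Finite (P.under A).ResidueField K) ∧
      (Algebra.IsAlgebraic P.ResidueField K →
        Algebra.IsAlgebraic (P.under A).ResidueField K) ∧
      Nonempty (K ⊗[P.ResidueField] P.Fiber (AdicCompletion J A) ≃+*
        K ⊗[(P.under A).ResidueField] (P.under A).Fiber (AdicCompletion J A)) := by
  letI := algebraLoc A J hfg
  haveI := isScalarTower_loc A J hfg
  haveI : IsLocalization (Algebra.algebraMapSubmonoid (AdicCompletion J A) (T J))
      (AdicCompletion J A) := IsLocalization.self (le_isUnit_submonoid A J hfg)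
  exact Groth.Agent.Helper8.LocHom.exists_fibre_equiv A (AdicCompletion J A) (T J)
    (Localization (T J)) (AdicCompletion J A) P K

end Groth.Agent.Helper8.OnePlus
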