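import Mathlib
import Groth.Prelude
import Groth.Agent.Lib.Helper8.OnePlus1
import Groth.Agent.Lib.Helper8.Cpl2
import Groth.Agent.Lib.Helper8.CompFib2
import Groth.Agent.Lib.Helper8.DescFib2

/-!
# Normality and regularity of the localization at `1 + J` versus the `J`-adic completion
-/

set_option autoImplicit false
universe u

namespace Groth.Agent.Helper8.OnePlus

open TensorProduct

variable (A : Type u) [CommRing A] [IsNoetherianRing A] (J : Ideal A)

theorem isNormalHom_loc (hf : EGA4.IsNormalHom A (AdicCompletion J A)) :
    letI := algebraLoc A J (IsNoetherian.noetherian J)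
    EGA4.IsNormalHom (Localization (T J)) (AdicCompletion J A) := by
  letI := algebraLoc A J (IsNoetherian.noetherian J)
  haveI : Module.Flat A (AdicCompletion J A) := hf.1
  refine ⟨flat_loc A J _, fun P _ K _ _ hfin => ?_⟩
  obtain ⟨i, hfin', -, ⟨e⟩⟩ := exists_fibre_equiv A J (IsNoetherian.noetherian J) P K
  letI := i
  exact Groth.Agent.Helper8.Cpl.isNormalRing_of_ringEquiv e.symm
    (hf.2 (P.under A) K (hfin' hfin))

/-- **S19378.** -/
theorem isNormalRing_loc_iff (hf : EGA4.IsNormalHom A (AdicCompletion J A)) :
    EGA4.IsNormalRing (Localization (T J)) ↔ EGA4.IsNormalRing (AdicCompletion J A) := by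
  letI := algebraLoc A J (IsNoetherian.noetherian J)
  haveI : Module.Flat A (AdicCompletion J A) := hf.1
  haveI := flat_loc A J (IsNoetherian.noetherian J)
  haveI := faithfullyFlat_loc A J (IsNoetherian.noetherian J)
  haveI : IsNoetherianRing (AdicCompletion J A) :=
    Groth.Agent.Helper8.AdicReg.isNoetherianRing A J
  haveI : IsNoetherianRing (Localization (T J)) := IsLocalization.isNoetherianRing (T J) _ inferInstance
  have hN := isNormalHom_loc A J hf
  constructor
  · intro h
    exact Groth.Agent.Helper8.Cpl.isNormalRing_of_flat_of_fibres (Localization (T J))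
      (AdicCompletion J A) h
      (fun P _ => Groth.Agent.Helper8.Cpl.isNormalRing_of_isGeomNormal P.ResidueField _ (hN.2 P))
  · intro h
    exact Groth.Agent.Helper8.Cpl.isNormalRing_of_faithfullyFlat (Localization (T J))
      (AdicCompletion J A) h

theorem isRegularHom_loc (hf : CAlg.IsRegularHom A (AdicCompletion J A)) :
    letI := algebraLoc A J (IsNoetherian.noetherian J)
    CAlg.IsRegularHom (Localization (T J)) (AdicCompletion J A) := by
  letI := algebraLoc A J (IsNoetherian.noetherian J)
  haveI : Module.Flat A (AdicCompletion J A) := hf.1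
  haveI : IsNoetherianRing (AdicCompletion J A) :=
    Groth.Agent.Helper8.AdicReg.isNoetherianRing A J
  refine ⟨flat_loc A J _, fun P _ => ⟨Groth.Agent.Helper8.Fib.isNoetherianRing_fiber P, ?_⟩⟩
  intro K _ _ hfin
  obtain ⟨i, hfin', -, ⟨e⟩⟩ := exists_fibre_equiv A J (IsNoetherian.noetherian J) P K
  letI := i
  exact @IsRegularRing.of_ringEquiv _ _ _ _ e.symm ((hf.2 (P.under A)).2 K (hfin' hfin))

/-- **S19863.** -/
theorem isRegularRing_loc_iff (hf : CAlg.IsRegularHom A (AdicCompletion J A)) :
    IsRegularRing (Localization (T J)) ↔ IsRegularRing (AdicCompletion J A) := by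
  letI := algebraLoc A J (IsNoetherian.noetherian J)
  haveI : Module.Flat A (AdicCompletion J A) := hf.1
  haveI := flat_loc A J (IsNoetherian.noetherian J)
  haveI := faithfullyFlat_loc A J (IsNoetherian.noetherian J)
  haveI : IsNoetherianRing (AdicCompletion J A) :=
    Groth.Agent.Helper8.AdicReg.isNoetherianRing A J
  haveI : IsNoetherianRing (Localization (T J)) := IsLocalization.isNoetherianRing (T J) _ inferInstance
  have hN := isRegularHom_loc A J hf
  constructor
  · intro h
    refine Groth.Agent.Helper8.CompFib.isRegularRing_of_flat_of_fibres (Localization (T J))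
      (AdicCompletion J A) h (fun P _ => ?_)
    have h1 := (hN.2 P).2 P.ResidueField inferInstance
    exact @IsRegularRing.of_ringEquiv _ _ _ _
      (Algebra.TensorProduct.lid P.ResidueField _).toRingEquiv h1
  · intro h
    exact Groth.Agent.Helper8.DescFib.isRegularRing_of_faithfullyFlat (Localization (T J))
      (AdicCompletion J A) h

end Groth.Agent.Helper8.OnePlus
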