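import Mathlib
import Groth.Prelude
import Groth.Agent.Lib.Helper8.OnePlus2
import Groth.Agent.Lib.Helper8.NormConn1
import Groth.Agent.Lib.Helper8.SpecConn
import Groth.Agent.Lib.Helper6.Normal.IntClosedIn

/-!
# Integrally closed domains: the localization at `1 + J` versus the `J`-adic completion
-/

set_option autoImplicit false
universe u

namespace Groth.Agent.Helper8.OnePlus

open TensorProduct Polynomial

variable (A : Type u) [CommRing A] [IsNoetherianRing A] (J : Ideal A)

/-- Idempotents of `A/J` lift to idempotents of the completion. -/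
theorem exists_idempotent_lift (e : A ⧸ J) (he : IsIdempotentElem e) :
    ∃ a : AdicCompletion J A, IsIdempotentElem a ∧ AdicCompletion.evalOneₐ J a = e := by
  rcases subsingleton_or_nontrivial (AdicCompletion J A) with hss | hnt
  · obtain ⟨x, rfl⟩ := AdicCompletion.evalOneₐ_surjective J e
    exact ⟨0, IsIdempotentElem.zero, by rw [Subsingleton.elim x 0]⟩
  haveI := AdicCompletion.isAdicComplete_self J (IsNoetherian.noetherian J)
  haveI hH : HenselianRing (AdicCompletion J A) (J.map (algebraMap A (AdicCompletion J A))) :=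
    inferInstance
  obtain ⟨a₀, rfl⟩ := Ideal.Quotient.mk_surjective e
  have ha₀ : a₀ ^ 2 - a₀ ∈ J := by
    rw [← Ideal.Quotient.eq_zero_iff_mem, map_sub, map_pow, sq, he.eq, sub_self]
  set b := algebraMap A (AdicCompletion J A) a₀ with hb
  have hb2 : b ^ 2 - b ∈ J.map (algebraMap A (AdicCompletion J A)) := by
    rw [hb, ← map_pow, ← map_sub]
    exact Ideal.mem_map_of_mem _ ha₀
  let f : (AdicCompletion J A)[X] := X ^ 2 - X
  have hfm : f.Monic := by
    apply Polynomial.monic_X_pow_sub
    rw [Polynomial.degree_X]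
    norm_num
  have hfe : f.eval b ∈ J.map (algebraMap A (AdicCompletion J A)) := by
    simp only [f, eval_sub, eval_pow, eval_X]
    exact hb2
  have hfd : IsUnit (Ideal.Quotient.mk (J.map (algebraMap A (AdicCompletion J A)))
      (f.derivative.eval b)) := by
    have h1 : f.derivative.eval b = 2 * b - 1 := by
      simp only [f, derivative_sub, derivative_X_pow, derivative_X, eval_sub, eval_mul, eval_pow,
        eval_X, eval_one]
      simp
    rw [h1]
    refine IsUnit.of_mul_eq_one (Ideal.Quotient.mk _ (2 * b - 1)) ?_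
    rw [← map_mul, ← map_one (Ideal.Quotient.mk _), Ideal.Quotient.eq]
    have : (2 * b - 1) * (2 * b - 1) - 1 = 4 * (b ^ 2 - b) := by ring
    rw [this]
    exact Ideal.mul_mem_left _ _ hb2
  obtain ⟨a, hroot, ha⟩ := hH.is_henselian f hfm b hfe hfd
  refine ⟨a, ?_, ?_⟩
  · have h1 : a ^ 2 - a = 0 := by
      have := hroot
      simp only [f, IsRoot.def, eval_sub, eval_pow, eval_X] at this
      exact this
    show a * a = a
    rw [← sq]
    exact sub_eq_zero.mp h1
  · have h1 : a - b ∈ RingHom.ker (AdicCompletion.evalOneₐ J).toRingHom := by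
      rw [AdicCompletion.ker_evalOneₐ_eq_map J (IsNoetherian.noetherian J)]
      exact ha
    have h2 : AdicCompletion.evalOneₐ J a = AdicCompletion.evalOneₐ J b := by
      have := (RingHom.mem_ker).mp h1
      rw [map_sub, sub_eq_zero] at this
      exact this
    rw [h2, hb, AlgHom.commutes]
    rfl

/-- An idempotent of the completion whose image in `A/J` vanishes is zero. -/
theorem eq_zero_of_idempotent_of_evalOne_eq_zero (a : AdicCompletion J A)
    (ha : IsIdempotentElem a) (h0 : AdicCompletion.evalOneₐ J a = 0) : a = 0 := by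
  haveI := AdicCompletion.isAdicComplete_self J (IsNoetherian.noetherian J)
  have h1 : a ∈ J.map (algebraMap A (AdicCompletion J A)) := by
    rw [← AdicCompletion.ker_evalOneₐ_eq_map J (IsNoetherian.noetherian J)]
    exact h0
  have h2 : a ∈ (⊥ : Ideal (AdicCompletion J A)).jacobson :=
    IsAdicComplete.le_jacobson_bot (J.map (algebraMap A (AdicCompletion J A))) h1
  have h3 : IsUnit (a * (-1) + 1) := Ideal.mem_jacobson_bot.mp h2 (-1)
  have h4 : a * (a * (-1) + 1) = 0 := by
    have : a * (a * (-1) + 1) = a - a * a := by ring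
    rw [this, ha.eq, sub_self]
  exact (h3.mul_left_eq_zero).mp h4

theorem connectedSpace_adicCompletion [ConnectedSpace (PrimeSpectrum (A ⧸ J))] :
    ConnectedSpace (PrimeSpectrum (AdicCompletion J A)) := by
  obtain ⟨hnt, hid⟩ := (Groth.Agent.Helper8.connectedSpace_primeSpectrum_iff (A ⧸ J)).mp
    inferInstance
  rw [Groth.Agent.Helper8.connectedSpace_primeSpectrum_iff]
  refine ⟨(AdicCompletion.evalOneₐ J).toRingHom.domain_nontrivial, fun a ha => ?_⟩
  rcases hid (AdicCompletion.evalOneₐ J a) (ha.map (AdicCompletion.evalOneₐ J)) with h | h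
  · exact Or.inl (eq_zero_of_idempotent_of_evalOne_eq_zero A J a ha h)
  · right
    have h1 : AdicCompletion.evalOneₐ J (1 - a) = 0 := by rw [map_sub, map_one, h, sub_self]
    have := eq_zero_of_idempotent_of_evalOne_eq_zero A J (1 - a) ha.one_sub h1
    exact (sub_eq_zero.mp this).symm

theorem connectedSpace_quotient_of_isDomain (hJ : J ≠ ⊤) [IsDomain (AdicCompletion J A)] :
    ConnectedSpace (PrimeSpectrum (A ⧸ J)) := by
  rw [Groth.Agent.Helper8.connectedSpace_primeSpectrum_iff]
  refine ⟨Ideal.Quotient.nontrivial_iff.mpr hJ, fun e he => ?_⟩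
  obtain ⟨a, ha, rfl⟩ := exists_idempotent_lift A J e he
  have h1 : a * (a - 1) = 0 := by rw [mul_sub, ha.eq, mul_one, sub_self]
  rcases mul_eq_zero.mp h1 with h | h
  · left; rw [h, map_zero]
  · right; rw [sub_eq_zero.mp h, map_one]

/-- **S19375.** -/
theorem isDomain_isIntegrallyClosed_iff (hJ : J ≠ ⊤)
    (hf : EGA4.IsNormalHom A (AdicCompletion J A)) :
    (IsDomain (AdicCompletion J A) ∧ IsIntegrallyClosed (AdicCompletion J A)) ↔
      ((IsDomain (Localization (T J)) ∧ IsIntegrallyClosed (Localization (T J))) ∧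
        ConnectedSpace (PrimeSpectrum (A ⧸ J))) := by
  letI := algebraLoc A J (IsNoetherian.noetherian J)
  haveI : Module.Flat A (AdicCompletion J A) := hf.1
  haveI := faithfullyFlat_loc A J (IsNoetherian.noetherian J)
  haveI : IsNoetherianRing (AdicCompletion J A) :=
    Groth.Agent.Helper8.AdicReg.isNoetherianRing A J
  constructor
  · rintro ⟨hd, hic⟩
    haveI := hd
    haveI := hic
    exact ⟨Groth.Agent.Helper8.Cpl.normal_of_faithfullyFlat (Localization (T J))
      (AdicCompletion J A), connectedSpace_quotient_of_isDomain A J hJ⟩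
  · rintro ⟨⟨hd, hic⟩, hconn⟩
    haveI := hd
    haveI := hic
    haveI := hconn
    have h1 : EGA4.IsNormalRing (Localization (T J)) :=
      Groth.Agent.Lib.Helper6.Normal.isNormalRing_of_isIntegrallyClosed _
    have h2 : EGA4.IsNormalRing (AdicCompletion J A) := (isNormalRing_loc_iff A J hf).mp h1
    haveI := connectedSpace_adicCompletion A J
    haveI : IsDomain (AdicCompletion J A) :=
      Groth.Agent.Helper8.NormConn.isDomain_of_connected _ (fun x _ => (h2 x).1)
    exact ⟨inferInstance, Groth.Agent.Lib.Helper6.Normal.isIntegrallyClosed_of_isNormalRing _ h2⟩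

end Groth.Agent.Helper8.OnePlus
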