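import Mathlib
import Groth.Agent.Lib.Helper8.PRad6

/-!
# `K[T_1, …, T_r]/(T_i^p - a_i)` is a field when the `a_i` are `p`-independent
-/

set_option autoImplicit false

namespace Groth.Agent.Helper8.PField

open Groth.Agent.Helper8.PRad

universe u

variable {K : Type u} [Field K] (p : ℕ) [hp : Fact p.Prime] [CharP K p] {r : ℕ} (a : Fin r → K)

/-- The reduced monomials in the roots. -/
noncomputable def mono (e : Fin r → Fin p) : RootAlg p a := ∏ i, root p a i ^ (e i : ℕ)

/-- The reduced monomials in the `a_i`. -/
noncomputable def amono (e : Fin r → Fin p) : K := ∏ i, a i ^ (e i : ℕ)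

omit hp [CharP K p] in
theorem smul_eq (k : K) (x : RootAlg p a) : k • x = algebraMap K (RootAlg p a) k * x :=
  Algebra.smul_def k x

omit hp [CharP K p] in
theorem mono_pow (e : Fin r → Fin p) :
    mono p a e ^ p = algebraMap K (RootAlg p a) (amono p a e) := by
  rw [mono, amono, ← Finset.prod_pow, map_prod]
  refine Finset.prod_congr rfl (fun i _ => ?_)
  rw [← pow_mul, mul_comm, pow_mul, root_pow, map_pow]

omit [CharP K p] in
theorem mono_mul_root_mem (e : Fin r → Fin p) (j : Fin r) :
    mono p a e * root p a j ∈ Submodule.span K (Set.range (mono p a)) := by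
  have hsplit : ∀ e' : Fin r → Fin p, mono p a e' =
      root p a j ^ (e' j : ℕ) * ∏ i ∈ Finset.univ.erase j, root p a i ^ (e' i : ℕ) := fun e' =>
    (Finset.mul_prod_erase Finset.univ (fun i => root p a i ^ (e' i : ℕ))
      (Finset.mem_univ j)).symm
  by_cases hlt : (e j : ℕ) + 1 < p
  · let e' : Fin r → Fin p := Function.update e j ⟨(e j : ℕ) + 1, hlt⟩
    have h : mono p a e * root p a j = mono p a e' := by
      rw [hsplit e, hsplit e']
      have h1 : ((e' j : Fin p) : ℕ) = (e j : ℕ) + 1 := by
        simp [e']
      have h2 : ∏ i ∈ Finset.univ.erase j, root p a i ^ (e' i : ℕ) =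
          ∏ i ∈ Finset.univ.erase j, root p a i ^ (e i : ℕ) := by
        refine Finset.prod_congr rfl (fun i hi => ?_)
        have hij : i ≠ j := Finset.ne_of_mem_erase hi
        simp [e', Function.update_of_ne hij]
      rw [h1, h2, pow_succ]
      ring
    rw [h]
    exact Submodule.subset_span ⟨e', rfl⟩
  · have hej : (e j : ℕ) + 1 = p := by
      have := (e j).2
      omega
    let e' : Fin r → Fin p := Function.update e j ⟨0, hp.out.pos⟩
    have h : mono p a e * root p a j = a j • mono p a e' := by
      rw [hsplit e, hsplit e', smul_eq]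
      have h1 : ((e' j : Fin p) : ℕ) = 0 := by
        simp [e']
      have h2 : ∏ i ∈ Finset.univ.erase j, root p a i ^ (e' i : ℕ) =
          ∏ i ∈ Finset.univ.erase j, root p a i ^ (e i : ℕ) := by
        refine Finset.prod_congr rfl (fun i hi => ?_)
        have hij : i ≠ j := Finset.ne_of_mem_erase hi
        simp [e', Function.update_of_ne hij]
      have h3 : root p a j ^ p = root p a j ^ (e j : ℕ) * root p a j := by
        rw [← pow_succ]
        exact congrArg (fun m => root p a j ^ m) hej.symm
      rw [h1, h2, pow_zero, one_mul, ← root_pow p a j, h3]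
      ring
    rw [h]
    exact Submodule.smul_mem _ _ (Submodule.subset_span ⟨e', rfl⟩)

omit [CharP K p] in
/-- The reduced monomials span. -/
theorem span_mono : Submodule.span K (Set.range (mono p a)) = ⊤ := by
  rw [eq_top_iff]
  rintro x -
  refine rootAlg_induction p a (P := fun x => x ∈ Submodule.span K (Set.range (mono p a)))
    (fun k => ?_) (fun x y hx hy => Submodule.add_mem _ hx hy) (fun x j hx => ?_) x
  · have h1 : mono p a (fun _ => ⟨0, hp.out.pos⟩) = 1 := by
      simp [mono]
    have h2 : algebraMap K (RootAlg p a) k = k • mono p a (fun _ => ⟨0, hp.out.pos⟩) := by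
      rw [h1, smul_eq, mul_one]
    rw [h2]
    exact Submodule.smul_mem _ _ (Submodule.subset_span ⟨_, rfl⟩)
  · induction hx using Submodule.span_induction with
    | mem y hy =>
      obtain ⟨e, rfl⟩ := hy
      exact mono_mul_root_mem p a e j
    | zero => rw [zero_mul]; exact Submodule.zero_mem _
    | add y z _ _ hy hz => rw [add_mul]; exact Submodule.add_mem _ hy hz
    | smul k y _ hy => rw [smul_mul_assoc]; exact Submodule.smul_mem _ _ hy

/-- The `p`-th power of a combination of reduced monomials. -/
theorem sum_pow (c : (Fin r → Fin p) → K) :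
    (∑ e, c e • mono p a e) ^ p =
      algebraMap K (RootAlg p a) (∑ e, c e ^ p * amono p a e) := by
  have h := map_sum (frobenius (RootAlg p a) p) (fun e => c e • mono p a e) Finset.univ
  rw [frobenius_def] at h
  rw [h, map_sum]
  refine Finset.sum_congr rfl (fun e _ => ?_)
  rw [frobenius_def, smul_eq, mul_pow, mono_pow, ← map_pow, ← map_mul]

variable (hLI : LinearIndependent (↥(frobenius K p).fieldRange) (amono p a))

include hLI in
theorem isUnit_of_ne_zero (x : RootAlg p a) (hx : x ≠ 0) : IsUnit x := by
  have hmem : x ∈ Submodule.span K (Set.range (mono p a)) := by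
    rw [span_mono]
    exact Submodule.mem_top
  obtain ⟨c, rfl⟩ := (Submodule.mem_span_range_iff_exists_fun K).1 hmem
  have hpow := sum_pow p a c
  have hy : (∑ e, c e ^ p * amono p a e) ≠ 0 := by
    intro h0
    apply hx
    have h1 : ∑ e, (⟨c e ^ p, ⟨c e, frobenius_def p (c e)⟩⟩ : ↥(frobenius K p).fieldRange) •
        amono p a e = 0 := by
      rw [← h0]
      rfl
    have h2 := Fintype.linearIndependent_iff.1 hLI _ h1
    refine Finset.sum_eq_zero (fun e _ => ?_)
    have h3 : c e ^ p = 0 := congrArg Subtype.val (h2 e)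
    rw [pow_eq_zero_iff hp.out.ne_zero] at h3
    rw [h3, zero_smul]
  have hu : IsUnit ((∑ e, c e • mono p a e) ^ p) := by
    rw [hpow]
    exact (isUnit_iff_ne_zero.2 hy).map _
  exact (isUnit_pow_iff hp.out.ne_zero).1 hu

include hLI in
/-- If the `a_i` are `p`-independent then `K[T]/(T_i^p - a_i)` is a field. -/
theorem isField_rootAlg : IsField (RootAlg p a) where
  exists_pair_ne := ⟨0, 1, zero_ne_one⟩
  mul_comm := mul_comm
  mul_inv_cancel := fun {x} hx => (isUnit_of_ne_zero p a hLI x hx).exists_right_inv

end Groth.Agent.Helper8.PField
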