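import Mathlib

/-!
# Quotients of polynomial rings by `p`-polynomials `T_i^p + p * (…) - f_i`
-/

set_option autoImplicit false

namespace Groth.Agent.Helper8.PPoly

open MvPolynomial IsLocalRing

universe u

section general

variable {A : Type u} [CommRing A] (p : ℕ) {r : ℕ} (c : Fin r → Fin p → A) (f : Fin r → A)

/-- The polynomial `T_i^p + p Σ_{j=1}^{p-1} c_{ij} T_i^{p-j} - f_i`. -/
noncomputable def pPoly (i : Fin r) : MvPolynomial (Fin r) A :=
  X i ^ p + (p : MvPolynomial (Fin r) A) * (Finset.univ.sum fun j : Fin p =>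
    if (j : ℕ) = 0 then 0 else C (c i j) * X i ^ (p - (j : ℕ))) - C (f i)

/-- `A[T_1, …, T_r]/(F_1, …, F_r)`. -/
abbrev PAlg : Type u :=
  MvPolynomial (Fin r) A ⧸ Ideal.span (Set.range (pPoly p c f))

/-- The quotient map. -/
noncomputable def mkP : MvPolynomial (Fin r) A →+* PAlg p c f :=
  Ideal.Quotient.mk (Ideal.span (Set.range (pPoly p c f)))

theorem mkP_surjective : Function.Surjective (mkP p c f) := Ideal.Quotient.mk_surjective

/-- The class of `T_i`. -/
noncomputable def tee (i : Fin r) : PAlg p c f := mkP p c f (X i)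

theorem algebraMap_eq_mkP_C (a : A) : algebraMap A (PAlg p c f) a = mkP p c f (C a) := rfl

/-- The lower order part of the relation. -/
noncomputable def low (i : Fin r) : PAlg p c f :=
  Finset.univ.sum fun j : Fin p =>
    if (j : ℕ) = 0 then 0 else algebraMap A (PAlg p c f) (c i j) * tee p c f i ^ (p - (j : ℕ))

theorem tee_relation (i : Fin r) :
    tee p c f i ^ p + (p : PAlg p c f) * low p c f i - algebraMap A (PAlg p c f) (f i) = 0 := by
  have h : pPoly p c f i ∈ Ideal.span (Set.range (pPoly p c f)) := Ideal.subset_span ⟨i, rfl⟩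
  have h2 : mkP p c f (pPoly p c f i) = 0 := Ideal.Quotient.eq_zero_iff_mem.2 h
  rw [pPoly, map_sub, map_add, map_mul, map_pow, map_natCast, map_sum] at h2
  rw [← h2, low, tee, algebraMap_eq_mkP_C]
  congr 3
  refine Finset.sum_congr rfl (fun j _ => ?_)
  split_ifs with hj
  · rw [map_zero]
  · rw [map_mul, map_pow, algebraMap_eq_mkP_C]

/-- Induction principle. -/
theorem pAlg_induction {P : PAlg p c f → Prop}
    (h0 : ∀ a, P (algebraMap A _ a)) (hadd : ∀ x y, P x → P y → P (x + y))
    (hmul : ∀ x i, P x → P (x * tee p c f i)) (b : PAlg p c f) : P b := by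
  obtain ⟨g, rfl⟩ := mkP_surjective p c f b
  induction g using MvPolynomial.induction_on with
  | C a => exact h0 a
  | add x y hx hy => rw [map_add]; exact hadd _ _ hx hy
  | mul_X x i hx => rw [map_mul]; exact hmul _ i hx

/-- Ring homomorphisms out of `PAlg` are determined by their values on `A` and the `T_i`. -/
theorem pAlg_hom_ext {S : Type*} [CommRing S] {φ ψ : PAlg p c f →+* S}
    (h1 : ∀ a, φ (algebraMap A _ a) = ψ (algebraMap A _ a))
    (h2 : ∀ i, φ (tee p c f i) = ψ (tee p c f i)) : φ = ψ := by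
  refine RingHom.ext fun b => ?_
  refine pAlg_induction p c f (P := fun b => φ b = ψ b) h1 (fun x y hx hy => ?_)
    (fun x i hx => ?_) b
  · rw [map_add, map_add, hx, hy]
  · rw [map_mul, map_mul, hx, h2]

/-- The universal property. -/
noncomputable def liftP {S : Type*} [CommRing S] (φ : A →+* S) (s : Fin r → S)
    (hs : ∀ i, s i ^ p + (p : S) * (Finset.univ.sum fun j : Fin p =>
      if (j : ℕ) = 0 then 0 else φ (c i j) * s i ^ (p - (j : ℕ))) - φ (f i) = 0) :
    PAlg p c f →+* S :=
  Ideal.Quotient.lift (Ideal.span (Set.range (pPoly p c f))) (eval₂Hom φ s) (by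
    have hle : Ideal.span (Set.range (pPoly p c f)) ≤ RingHom.ker (eval₂Hom φ s) := by
      rw [Ideal.span_le]
      rintro _ ⟨i, rfl⟩
      show eval₂Hom φ s (pPoly p c f i) = 0
      rw [pPoly, map_sub, map_add, map_mul, map_pow, map_natCast, map_sum, eval₂Hom_X',
        eval₂Hom_C, ← hs i]
      congr 3
      refine Finset.sum_congr rfl (fun j _ => ?_)
      split_ifs with hj
      · rw [map_zero]
      · rw [map_mul, map_pow, eval₂Hom_X', eval₂Hom_C]
    exact fun x hx => hle hx)

@[simp]
theorem liftP_algebraMap {S : Type*} [CommRing S] (φ : A →+* S) (s : Fin r → S)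
    (hs : ∀ i, s i ^ p + (p : S) * (Finset.univ.sum fun j : Fin p =>
      if (j : ℕ) = 0 then 0 else φ (c i j) * s i ^ (p - (j : ℕ))) - φ (f i) = 0) (a : A) :
    liftP p c f φ s hs (algebraMap A (PAlg p c f) a) = φ a := by
  show eval₂Hom φ s (C a) = φ a
  rw [eval₂Hom_C]

@[simp]
theorem liftP_tee {S : Type*} [CommRing S] (φ : A →+* S) (s : Fin r → S)
    (hs : ∀ i, s i ^ p + (p : S) * (Finset.univ.sum fun j : Fin p =>
      if (j : ℕ) = 0 then 0 else φ (c i j) * s i ^ (p - (j : ℕ))) - φ (f i) = 0) (i : Fin r) :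
    liftP p c f φ s hs (tee p c f i) = s i := by
  show eval₂Hom φ s (X i) = s i
  rw [eval₂Hom_X']

end general

end Groth.Agent.Helper8.PPoly
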