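import Mathlib
import Groth.Agent.Lib.Helper8.PPoly1
import Groth.Agent.Lib.Helper8.IntegralDim

/-!
# `PAlg` is integral over the base, and faithful over a domain
-/

set_option autoImplicit false

namespace Groth.Agent.Helper8.PPoly

open IsLocalRing

universe u

section general

variable {A : Type u} [CommRing A] (p : ℕ) {r : ℕ} (c : Fin r → Fin p → A) (f : Fin r → A)

/-- The one-variable polynomial satisfied by `T_i`. -/
noncomputable def onePoly (i : Fin r) : Polynomial A :=
  Polynomial.X ^ p + ((p : Polynomial A) * (Finset.univ.sum fun j : Fin p =>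
    if (j : ℕ) = 0 then 0 else Polynomial.C (c i j) * Polynomial.X ^ (p - (j : ℕ))) -
      Polynomial.C (f i))

theorem onePoly_tail_degree_lt (hp : 2 ≤ p) (i : Fin r) :
    ((p : Polynomial A) * (Finset.univ.sum fun j : Fin p =>
      if (j : ℕ) = 0 then (0 : Polynomial A)
        else Polynomial.C (c i j) * Polynomial.X ^ (p - (j : ℕ))) -
      Polynomial.C (f i)).degree < (p : WithBot ℕ) := by
  have h1 : (Finset.univ.sum fun j : Fin p =>
      if (j : ℕ) = 0 then (0 : Polynomial A)
        else Polynomial.C (c i j) * Polynomial.X ^ (p - (j : ℕ))).degree ≤ ((p - 1 : ℕ) : WithBot ℕ) := by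
    refine (Polynomial.degree_sum_le _ _).trans (Finset.sup_le (fun j _ => ?_))
    split_ifs with hj
    · rw [Polynomial.degree_zero]; exact bot_le
    · refine (Polynomial.degree_C_mul_X_pow_le _ _).trans ?_
      exact_mod_cast (by omega : p - (j : ℕ) ≤ p - 1)
  have h2 : ((p : Polynomial A) * (Finset.univ.sum fun j : Fin p =>
      if (j : ℕ) = 0 then (0 : Polynomial A)
        else Polynomial.C (c i j) * Polynomial.X ^ (p - (j : ℕ)))).degree ≤
        ((p - 1 : ℕ) : WithBot ℕ) := by
    rw [← Polynomial.C_eq_natCast]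
    refine (Polynomial.degree_mul_le _ _).trans ?_
    calc (Polynomial.C (p : A)).degree + _ ≤ 0 + ((p - 1 : ℕ) : WithBot ℕ) :=
          add_le_add Polynomial.degree_C_le h1
      _ = ((p - 1 : ℕ) : WithBot ℕ) := zero_add _
  have h3 : (Polynomial.C (f i)).degree ≤ ((p - 1 : ℕ) : WithBot ℕ) :=
    Polynomial.degree_C_le.trans (by exact_mod_cast Nat.zero_le _)
  refine lt_of_le_of_lt ((Polynomial.degree_sub_le _ _).trans (max_le h2 h3)) ?_
  exact_mod_cast (by omega : p - 1 < p)

theorem onePoly_monic (hp : 2 ≤ p) (i : Fin r) : (onePoly p c f i).Monic :=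
  Polynomial.monic_X_pow_add (onePoly_tail_degree_lt p c f hp i)

theorem onePoly_degree [Nontrivial A] (hp : 2 ≤ p) (i : Fin r) :
    (onePoly p c f i).degree = (p : WithBot ℕ) := by
  rw [onePoly, Polynomial.degree_add_eq_left_of_degree_lt, Polynomial.degree_X_pow]
  rw [Polynomial.degree_X_pow]
  exact onePoly_tail_degree_lt p c f hp i

theorem eval₂_onePoly {S : Type*} [CommRing S] (φ : A →+* S) (s : S) (i : Fin r) :
    Polynomial.eval₂ φ s (onePoly p c f i) =
      s ^ p + (p : S) * (Finset.univ.sum fun j : Fin p =>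
        if (j : ℕ) = 0 then 0 else φ (c i j) * s ^ (p - (j : ℕ))) - φ (f i) := by
  rw [onePoly, Polynomial.eval₂_add, Polynomial.eval₂_sub, Polynomial.eval₂_mul,
    Polynomial.eval₂_pow, Polynomial.eval₂_X, Polynomial.eval₂_C, Polynomial.eval₂_natCast,
    Polynomial.eval₂_finsetSum, add_sub_assoc]
  congr 3
  refine Finset.sum_congr rfl (fun j _ => ?_)
  split_ifs with hj
  · rw [Polynomial.eval₂_zero]
  · rw [Polynomial.eval₂_mul, Polynomial.eval₂_C, Polynomial.eval₂_pow, Polynomial.eval₂_X]

theorem isIntegral_tee (hp : 2 ≤ p) (i : Fin r) : IsIntegral A (tee p c f i) := by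
  refine ⟨onePoly p c f i, onePoly_monic p c f hp i, ?_⟩
  rw [eval₂_onePoly]
  exact tee_relation p c f i

theorem isIntegral_pAlg (hp : 2 ≤ p) : Algebra.IsIntegral A (PAlg p c f) := by
  refine ⟨fun b => ?_⟩
  refine pAlg_induction p c f (P := fun b => IsIntegral A b) (fun a => isIntegral_algebraMap)
    (fun x y hx hy => hx.add hy) (fun x i hx => hx.mul (isIntegral_tee p c f hp i)) b

instance : Algebra.FiniteType A (PAlg p c f) :=
  Algebra.FiniteType.of_surjective
    (Ideal.Quotient.mkₐ A (Ideal.span (Set.range (pPoly p c f))))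
    (Ideal.Quotient.mkₐ_surjective A _)

end general

section domain

variable {A : Type u} [CommRing A] [IsDomain A] (p : ℕ) {r : ℕ} (c : Fin r → Fin p → A)
  (f : Fin r → A)

/-- A point of `PAlg` in the algebraic closure of the fraction field. -/
theorem exists_point (hp : 2 ≤ p) :
    ∃ ev : PAlg p c f →+* AlgebraicClosure (FractionRing A),
      ∀ a, ev (algebraMap A _ a) = algebraMap A (AlgebraicClosure (FractionRing A)) a := by
  let φ : A →+* AlgebraicClosure (FractionRing A) :=
    algebraMap A (AlgebraicClosure (FractionRing A))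
  have h : ∀ i, ∃ z : AlgebraicClosure (FractionRing A),
      Polynomial.eval₂ φ z (onePoly p c f i) = 0 := by
    intro i
    have hdeg : ((onePoly p c f i).map φ).degree ≠ 0 := by
      rw [(onePoly_monic p c f hp i).degree_map, onePoly_degree p c f hp i]
      exact_mod_cast (by omega : p ≠ 0)
    obtain ⟨z, hz⟩ := IsAlgClosed.exists_root _ hdeg
    exact ⟨z, by rwa [Polynomial.IsRoot, Polynomial.eval_map] at hz⟩
  choose s hs using h
  refine ⟨liftP p c f φ s (fun i => ?_), fun a => liftP_algebraMap p c f φ s _ a⟩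
  rw [← eval₂_onePoly]
  exact hs i

theorem algebraMap_injective (hp : 2 ≤ p) : Function.Injective (algebraMap A (PAlg p c f)) := by
  obtain ⟨ev, hev⟩ := exists_point p c f hp
  intro a b hab
  have h1 : algebraMap A (AlgebraicClosure (FractionRing A)) a =
      algebraMap A (AlgebraicClosure (FractionRing A)) b := by
    rw [← hev, ← hev, hab]
  rw [IsScalarTower.algebraMap_apply A (FractionRing A) (AlgebraicClosure (FractionRing A)),
    IsScalarTower.algebraMap_apply A (FractionRing A) (AlgebraicClosure (FractionRing A))] at h1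
  exact IsFractionRing.injective A (FractionRing A)
    ((algebraMap (FractionRing A) (AlgebraicClosure (FractionRing A))).injective h1)

theorem ringKrullDim_pAlg (hp : 2 ≤ p) : ringKrullDim (PAlg p c f) = ringKrullDim A := by
  haveI := isIntegral_pAlg p c f hp
  rw [Groth.Agent.Helper8.Depth.ringKrullDim_eq_quotient_ker_of_isIntegral A (PAlg p c f),
    (RingHom.injective_iff_ker_eq_bot _).1 (algebraMap_injective p c f hp)]
  exact ringKrullDim_eq_of_ringEquiv (RingEquiv.quotientBot A)

end domain

end Groth.Agent.Helper8.PPoly
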