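import Mathlib
import Groth.Agent.Lib.Helper8.PPoly2
import Groth.Agent.Lib.Helper8.PRad2

/-!
# Reduction of `PAlg` modulo an ideal containing `p`
-/

set_option autoImplicit false

namespace Groth.Agent.Helper8.PPoly

open MvPolynomial IsLocalRing Groth.Agent.Helper8.PRad

universe u

section general

variable {A : Type u} [CommRing A] (p : ℕ) {r : ℕ} (c : Fin r → Fin p → A) (f : Fin r → A)
  (I : Ideal A)

/-- The reductions of the `f_i` modulo `I`. -/
noncomputable def fbar (i : Fin r) : A ⧸ I := Ideal.Quotient.mk I (f i)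

variable (hpI : (p : A) ∈ I)

include hpI in
theorem cast_p_rootAlg : ((p : ℕ) : RootAlg p (fbar f I)) = 0 := by
  have h : ((p : ℕ) : A ⧸ I) = 0 := by
    rw [← map_natCast (Ideal.Quotient.mk I), Ideal.Quotient.eq_zero_iff_mem]
    exact hpI
  rw [← map_natCast (algebraMap (A ⧸ I) (RootAlg p (fbar f I))), h, map_zero]

/-- The reduction map `B → (A/I)[T]/(T_i^p - f̄_i)`. -/
noncomputable def redMap : PAlg p c f →+* RootAlg p (fbar f I) :=
  liftP p c f ((algebraMap (A ⧸ I) (RootAlg p (fbar f I))).comp (Ideal.Quotient.mk I))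
    (root p (fbar f I)) (fun i => by
      rw [cast_p_rootAlg p f I hpI, zero_mul, add_zero, root_pow, RingHom.comp_apply, fbar,
        sub_self])

theorem redMap_algebraMap (a : A) :
    redMap p c f I hpI (algebraMap A (PAlg p c f) a) =
      algebraMap (A ⧸ I) (RootAlg p (fbar f I)) (Ideal.Quotient.mk I a) := by
  rw [redMap, liftP_algebraMap, RingHom.comp_apply]

theorem redMap_tee (i : Fin r) :
    redMap p c f I hpI (tee p c f i) = root p (fbar f I) i := by
  rw [redMap, liftP_tee]

theorem redMap_surjective : Function.Surjective (redMap p c f I hpI) := by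
  intro y
  refine rootAlg_induction p (fbar f I) (P := fun y => ∃ x, redMap p c f I hpI x = y)
    (fun a => ?_) (fun x y hx hy => ?_) (fun x i hx => ?_) y
  · obtain ⟨a, rfl⟩ := Ideal.Quotient.mk_surjective a
    exact ⟨algebraMap A _ a, redMap_algebraMap p c f I hpI a⟩
  · obtain ⟨x', rfl⟩ := hx
    obtain ⟨y', rfl⟩ := hy
    exact ⟨x' + y', map_add _ _ _⟩
  · obtain ⟨x', rfl⟩ := hx
    exact ⟨x' * tee p c f i, by rw [map_mul, redMap_tee]⟩

/-- The base ring homomorphism `A/I → B/IB`. -/
noncomputable def baseMap : A ⧸ I →+* PAlg p c f ⧸ I.map (algebraMap A (PAlg p c f)) :=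
  Ideal.Quotient.lift I ((Ideal.Quotient.mk _).comp (algebraMap A (PAlg p c f))) (fun a ha => by
    rw [RingHom.comp_apply, Ideal.Quotient.eq_zero_iff_mem]
    exact Ideal.mem_map_of_mem _ ha)

theorem baseMap_mk (a : A) :
    baseMap p c f I (Ideal.Quotient.mk I a) =
      Ideal.Quotient.mk _ (algebraMap A (PAlg p c f) a) := by
  rw [baseMap, Ideal.Quotient.lift_mk, RingHom.comp_apply]

include hpI in
theorem mk_cast_p : Ideal.Quotient.mk (I.map (algebraMap A (PAlg p c f))) ((p : ℕ) : PAlg p c f)
    = 0 := by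
  rw [Ideal.Quotient.eq_zero_iff_mem, ← map_natCast (algebraMap A (PAlg p c f))]
  exact Ideal.mem_map_of_mem _ hpI

/-- The inverse map `(A/I)[T]/(T_i^p - f̄_i) → B/IB`. -/
noncomputable def invMap : RootAlg p (fbar f I) →+* PAlg p c f ⧸ I.map (algebraMap A (PAlg p c f)) :=
  liftRoot p (fbar f I) (baseMap p c f I) (fun i => Ideal.Quotient.mk _ (tee p c f i)) (fun i => by
    have h1 : tee p c f i ^ p - algebraMap A (PAlg p c f) (f i) =
        -(((p : ℕ) : PAlg p c f) * low p c f i) := by
      linear_combination tee_relation p c f i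
    have h2 : ((p : ℕ) : PAlg p c f) ∈ I.map (algebraMap A (PAlg p c f)) := by
      rw [← map_natCast (algebraMap A (PAlg p c f))]
      exact Ideal.mem_map_of_mem _ hpI
    rw [fbar, baseMap_mk, ← map_pow, Ideal.Quotient.mk_eq_mk_iff_sub_mem, h1]
    exact neg_mem (Ideal.mul_mem_right _ _ h2))

theorem invMap_redMap (b : PAlg p c f) :
    invMap p c f I hpI (redMap p c f I hpI b) = Ideal.Quotient.mk _ b := by
  have h : (invMap p c f I hpI).comp (redMap p c f I hpI) =
      Ideal.Quotient.mk (I.map (algebraMap A (PAlg p c f))) := by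
    refine pAlg_hom_ext p c f (S := PAlg p c f ⧸ I.map (algebraMap A (PAlg p c f)))
      (fun a => ?_) (fun i => ?_)
    · rw [RingHom.comp_apply, redMap_algebraMap, invMap, liftRoot_algebraMap, baseMap_mk]
    · rw [RingHom.comp_apply, redMap_tee, invMap, liftRoot_root]
  exact congrArg (fun φ => φ b) h

theorem ker_redMap : RingHom.ker (redMap p c f I hpI) = I.map (algebraMap A (PAlg p c f)) := by
  apply le_antisymm
  · intro b hb
    rw [RingHom.mem_ker] at hb
    have h := invMap_redMap p c f I hpI b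
    rw [hb, map_zero] at h
    exact Ideal.Quotient.eq_zero_iff_mem.1 h.symm
  · rw [Ideal.map_le_iff_le_comap]
    intro a ha
    rw [Ideal.mem_comap, RingHom.mem_ker, redMap_algebraMap, Ideal.Quotient.eq_zero_iff_mem.2 ha,
      map_zero]

end general

end Groth.Agent.Helper8.PPoly
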