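import Mathlib
import Groth.Agent.Lib.Helper8.PField
import Groth.Agent.Lib.Helper8.PPoly3
import Groth.Agent.Lib.Helper8.LocalSurj

/-!
# Quotients by `p`-polynomials with `p`-independent constant terms over a local ring with `m² = 0`
-/

set_option autoImplicit false

namespace Groth.Agent.Helper8.PField

open IsLocalRing Groth.Agent.Helper8.PRad Groth.Agent.Helper8.PPoly

universe u

noncomputable section

section loc

variable {A : Type u} [CommRing A] [IsLocalRing A] (p : ℕ) [hp : Fact p.Prime]
  [hchar : CharP (ResidueField A) p] {r : ℕ} (c : Fin r → Fin p → A) (f : Fin r → A)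

omit hp in
theorem cast_p_mem : ((p : ℕ) : A) ∈ maximalIdeal A := by
  rw [← residue_eq_zero_iff, map_natCast]
  exact CharP.cast_eq_zero _ p

theorem exists_isLocalRing_pAlg (hm : maximalIdeal A ^ 2 = ⊥)
    (hLI : LinearIndependent (↥(frobenius (ResidueField A) p).fieldRange)
      (fun e : Fin r → Fin p => ∏ i, residue A (f i) ^ (e i : ℕ))) :
    ∃ _ : IsLocalRing (PAlg p c f),
      maximalIdeal (PAlg p c f) = (maximalIdeal A).map (algebraMap A (PAlg p c f)) := by
  letI : Field (A ⧸ maximalIdeal A) := inferInstanceAs (Field (ResidueField A))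
  haveI : CharP (A ⧸ maximalIdeal A) p := hchar
  have hF : IsField (RootAlg p (fbar f (maximalIdeal A))) :=
    isField_rootAlg p (fbar f (maximalIdeal A)) hLI
  have hsurj := redMap_surjective p c f (maximalIdeal A) (cast_p_mem p)
  have hker := ker_redMap p c f (maximalIdeal A) (cast_p_mem p)
  have hsq : (maximalIdeal A).map (algebraMap A (PAlg p c f)) ^ 2 = ⊥ := by
    rw [← Ideal.map_pow, hm, Ideal.map_bot]
  have hjac : RingHom.ker (redMap p c f (maximalIdeal A) (cast_p_mem p)) ≤ Ideal.jacobson ⊥ := by
    rw [hker]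
    intro x hx
    rw [Ideal.mem_jacobson_bot]
    intro y
    have hnil : IsNilpotent (x * y) := by
      refine ⟨2, ?_⟩
      have : (x * y) ^ 2 ∈ (maximalIdeal A).map (algebraMap A (PAlg p c f)) ^ 2 :=
        Ideal.pow_mem_pow (Ideal.mul_mem_right _ _ hx) 2
      rwa [hsq, Ideal.mem_bot] at this
    exact hnil.isUnit_add_one
  haveI hloc : IsLocalRing (PAlg p c f) :=
    LocalSurj.isLocalRing_of_surjective _ hsurj hjac
  refine ⟨hloc, ?_⟩
  letI := hF.toField
  haveI : (RingHom.ker (redMap p c f (maximalIdeal A) (cast_p_mem p))).IsMaximal :=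
    RingHom.ker_isMaximal_of_surjective _ hsurj
  rw [← hker]
  exact (IsLocalRing.eq_maximalIdeal inferInstance).symm

end loc

end

end Groth.Agent.Helper8.PField
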