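import Mathlib
import Groth.Prelude
import Groth.Agent.Lib.Helper8.PField2

/-!
# Quotients by `p`-polynomials with `p`-independent constant terms: general finite index types
-/

set_option autoImplicit false

namespace Groth.Agent.Helper8.PField

open IsLocalRing MvPolynomial Groth.Agent.Helper8.PPoly

universe u

section transport

variable {A : Type u} [CommRing A] (p : ℕ) {ι : Type u} {r : ℕ} (σ : ι ≃ Fin r)
  (c : ι → Fin p → A) (f : ι → A)

/-- The `p`-polynomial indexed by a general type. -/
noncomputable def pPolyι (i : ι) : MvPolynomial ι A :=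
  X i ^ p + (p : MvPolynomial ι A) * (Finset.univ.sum fun j : Fin p =>
    if (j : ℕ) = 0 then 0 else C (c i j) * X i ^ (p - (j : ℕ))) - C (f i)

theorem rename_pPolyι (i : ι) :
    rename σ (pPolyι p c f i) =
      pPoly p (fun j => c (σ.symm j)) (fun j => f (σ.symm j)) (σ i) := by
  rw [pPolyι, pPoly, map_sub, map_add, map_mul, map_pow, map_natCast, map_sum, rename_X,
    rename_C, Equiv.symm_apply_apply]
  congr 3
  refine Finset.sum_congr rfl (fun j _ => ?_)
  split_ifs with hj
  · rw [map_zero]
  · rw [map_mul, map_pow, rename_X, rename_C]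

theorem span_eq_map :
    Ideal.span (Set.range (pPoly p (fun j => c (σ.symm j)) (fun j => f (σ.symm j)))) =
      (Ideal.span (Set.range (pPolyι p c f))).map
        ((renameEquiv A σ : MvPolynomial ι A ≃ₐ[A] MvPolynomial (Fin r) A) :
          MvPolynomial ι A →+* MvPolynomial (Fin r) A) := by
  rw [Ideal.map_span, ← Set.range_comp]
  congr 1
  have h : (⇑((renameEquiv A σ : MvPolynomial ι A ≃ₐ[A] MvPolynomial (Fin r) A) :
      MvPolynomial ι A →+* MvPolynomial (Fin r) A) ∘ pPolyι p c f) =
      pPoly p (fun j => c (σ.symm j)) (fun j => f (σ.symm j)) ∘ σ := by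
    funext i
    exact rename_pPolyι p σ c f i
  rw [h, Set.range_comp, σ.surjective.range_eq, Set.image_univ]

/-- The comparison isomorphism. -/
noncomputable def quotEquiv :
    (MvPolynomial ι A ⧸ Ideal.span (Set.range (pPolyι p c f))) ≃ₐ[A]
      PAlg p (fun j => c (σ.symm j)) (fun j => f (σ.symm j)) :=
  Ideal.quotientEquivAlg _ _ (renameEquiv A σ) (span_eq_map p σ c f)

end transport

section ind

variable {K : Type u} [Field K] (p : ℕ) {ι : Type u} [Finite ι] {r : ℕ} (σ : ι ≃ Fin r)
  (a : ι → K)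

/-- The reindexing of exponent vectors. -/
noncomputable def reindex (e : Fin r → Fin p) : {e : ι →₀ ℕ // ∀ i, e i < p} :=
  ⟨Finsupp.equivFunOnFinite.symm (fun i => ((e (σ i) : Fin p) : ℕ)), fun i => (e (σ i)).2⟩

theorem reindex_injective : Function.Injective (reindex p σ) := by
  intro e e' h
  funext j
  have h1 := congrArg (fun z : {e : ι →₀ ℕ // ∀ i, e i < p} => z.1 (σ.symm j)) h
  simp only [reindex, Finsupp.coe_equivFunOnFinite_symm, Equiv.apply_symm_apply] at h1
  exact Fin.ext h1

theorem pMonomial_reindex (e : Fin r → Fin p) :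
    EGA41.pMonomial a (reindex p σ e).1 = ∏ j, a (σ.symm j) ^ ((e j : Fin p) : ℕ) := by
  classical
  haveI : Fintype ι := Fintype.ofFinite ι
  rw [EGA41.pMonomial, Finsupp.prod_fintype _ _ (fun i => pow_zero _)]
  rw [← Equiv.prod_comp σ (fun j => a (σ.symm j) ^ ((e j : Fin p) : ℕ))]
  refine Finset.prod_congr rfl (fun i _ => ?_)
  simp [reindex]

end ind

section final

theorem transport {A Q Q' : Type*} [CommRing A] [IsLocalRing A] [CommRing Q] [CommRing Q']
    [Algebra A Q] [Algebra A Q'] (Φ : Q ≃ₐ[A] Q')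
    (h : ∃ _ : IsLocalRing Q', maximalIdeal Q' = (maximalIdeal A).map (algebraMap A Q')) :
    ∃ _ : IsLocalRing Q, maximalIdeal Q = (maximalIdeal A).map (algebraMap A Q) := by
  obtain ⟨hloc, hmax⟩ := h
  haveI hlocQ : IsLocalRing Q := Φ.toRingEquiv.symm.isLocalRing
  refine ⟨hlocQ, ?_⟩
  have h1 : (maximalIdeal Q).map (Φ.toRingEquiv : Q →+* Q') = maximalIdeal Q' :=
    map_ringEquiv_maximalIdeal Φ.toRingEquiv
  have h2 : ((maximalIdeal A).map (algebraMap A Q)).map (Φ.toRingEquiv : Q →+* Q') =
      (maximalIdeal A).map (algebraMap A Q') := by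
    rw [Ideal.map_map]
    congr 1
    exact Φ.toAlgHom.comp_algebraMap
  have h3 := h1.trans (hmax.trans h2.symm)
  have h4 := congrArg (Ideal.comap (Φ.toRingEquiv : Q →+* Q')) h3
  rwa [Ideal.comap_map_of_bijective (Φ.toRingEquiv : Q →+* Q') Φ.toRingEquiv.bijective,
    Ideal.comap_map_of_bijective (Φ.toRingEquiv : Q →+* Q') Φ.toRingEquiv.bijective] at h4

variable {A : Type u} [CommRing A] [IsLocalRing A] (p : ℕ) [hp : Fact p.Prime]
  [CharP (ResidueField A) p] {ι : Type u} [Finite ι] (c : ι → Fin p → A) (f : ι → A)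

theorem exists_isLocalRing_quot (hm : maximalIdeal A ^ 2 = ⊥)
    (hind : LinearIndependent (↥(frobenius (ResidueField A) p).fieldRange)
      (fun e : {e : ι →₀ ℕ // ∀ i, e i < p} =>
        EGA41.pMonomial (fun i => residue A (f i)) e.1)) :
    ∃ _ : IsLocalRing (MvPolynomial ι A ⧸ Ideal.span (Set.range (pPolyι p c f))),
      maximalIdeal (MvPolynomial ι A ⧸ Ideal.span (Set.range (pPolyι p c f))) =
        (maximalIdeal A).map
          (algebraMap A (MvPolynomial ι A ⧸ Ideal.span (Set.range (pPolyι p c f)))) := by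
  let σ := Finite.equivFin ι
  have hLI : LinearIndependent (↥(frobenius (ResidueField A) p).fieldRange)
      (fun e : Fin (Nat.card ι) → Fin p =>
        ∏ j, residue A (f (σ.symm j)) ^ ((e j : Fin p) : ℕ)) := by
    have h := hind.comp (reindex p σ) (reindex_injective p σ)
    have h2 : (fun e : Fin (Nat.card ι) → Fin p =>
        ∏ j, residue A (f (σ.symm j)) ^ ((e j : Fin p) : ℕ)) =
        (fun e : {e : ι →₀ ℕ // ∀ i, e i < p} =>
          EGA41.pMonomial (fun i => residue A (f i)) e.1) ∘ reindex p σ := by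
      funext e
      exact (pMonomial_reindex p σ (fun i => residue A (f i)) e).symm
    rw [h2]
    exact h
  obtain ⟨hloc, hmax⟩ := exists_isLocalRing_pAlg p (fun j => c (σ.symm j))
    (fun j => f (σ.symm j)) hm hLI
  exact transport (quotEquiv p σ c f) ⟨hloc, hmax⟩

end final

end Groth.Agent.Helper8.PField
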