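import Mathlib
import Groth.Agent.Lib.Helper8.PPoly3
import Groth.Agent.Lib.Helper8.PRad7
import Groth.Agent.Lib.Helper8.LocalSurj
import Groth.Agent.Lib.Helper8.KaehlerQuot
import Groth.Agent.Lib.Helper8.RegularLocal
import Groth.Agent.Lib.Helper8.CohenFact1

/-!
# `PAlg` over a local ring: locality and regularity
-/

set_option autoImplicit false

namespace Groth.Agent.Helper8.PPoly

open MvPolynomial IsLocalRing TensorProduct KaehlerDifferential Groth.Agent.Helper8.PRad

universe u

section loc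

variable {A : Type u} [CommRing A] [IsLocalRing A] (p : ℕ) [hpp : Fact p.Prime] {r : ℕ}
  (c : Fin r → Fin p → A) (f : Fin r → A)

/-- Every maximal ideal of `B` lies over the maximal ideal of `A`. -/
theorem comap_eq_maximalIdeal (n : Ideal (PAlg p c f)) [n.IsMaximal] :
    n.comap (algebraMap A (PAlg p c f)) = maximalIdeal A := by
  haveI := isIntegral_pAlg p c f hpp.out.two_le
  exact IsLocalRing.eq_maximalIdeal (Ideal.isMaximal_comap_of_isIntegral_of_isMaximal n)

theorem map_maximalIdeal_le_jacobson :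
    (maximalIdeal A).map (algebraMap A (PAlg p c f)) ≤ Ideal.jacobson ⊥ := by
  rw [Ideal.jacobson]
  refine le_sInf (fun n hn => ?_)
  haveI := hn.2
  rw [Ideal.map_le_iff_le_comap, comap_eq_maximalIdeal]

variable (I : Ideal A) (hpI : (p : A) ∈ I)

include hpI in
/-- `B` is a local ring. -/
theorem isLocalRing_pAlg (hI : I ≤ maximalIdeal A) [IsLocalRing (A ⧸ I)] [CharP (A ⧸ I) p] :
    IsLocalRing (PAlg p c f) :=
  LocalSurj.isLocalRing_of_surjective (redMap p c f I hpI) (redMap_surjective p c f I hpI) (by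
    rw [ker_redMap]
    exact (Ideal.map_mono hI).trans (map_maximalIdeal_le_jacobson p c f))

theorem map_maximalIdeal_le [IsLocalRing (PAlg p c f)] :
    (maximalIdeal A).map (algebraMap A (PAlg p c f)) ≤ maximalIdeal (PAlg p c f) := by
  rw [Ideal.map_le_iff_le_comap, comap_eq_maximalIdeal]

include hpI in
theorem spanFinrank_rootAlg_eq [IsNoetherianRing A] [IsLocalRing (PAlg p c f)]
    (hI : I ≤ maximalIdeal A ^ 2) [IsLocalRing (A ⧸ I)] [CharP (A ⧸ I) p] :
    (maximalIdeal (RootAlg p (fbar f I))).spanFinrank =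
      (maximalIdeal (PAlg p c f)).spanFinrank := by
  haveI : IsNoetherianRing (PAlg p c f) := Algebra.FiniteType.isNoetherianRing A _
  refine LocalSurj.spanFinrank_maximalIdeal_eq (redMap p c f I hpI)
    (redMap_surjective p c f I hpI) ?_
  rw [ker_redMap]
  calc I.map (algebraMap A (PAlg p c f))
      ≤ (maximalIdeal A ^ 2).map (algebraMap A (PAlg p c f)) := Ideal.map_mono hI
    _ = ((maximalIdeal A).map (algebraMap A (PAlg p c f))) ^ 2 := Ideal.map_pow _ _ _
    _ ≤ maximalIdeal (PAlg p c f) ^ 2 := Ideal.pow_right_mono (map_maximalIdeal_le p c f) 2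

omit hpp in
theorem spanFinrank_quot_eq [IsNoetherianRing A] (hI : I ≤ maximalIdeal A ^ 2)
    [IsLocalRing (A ⧸ I)] :
    (maximalIdeal (A ⧸ I)).spanFinrank = (maximalIdeal A).spanFinrank :=
  LocalSurj.spanFinrank_maximalIdeal_eq (Ideal.Quotient.mk I) Ideal.Quotient.mk_surjective (by
    rw [Ideal.mk_ker]
    exact hI)

end loc

section reg

variable {A : Type u} [CommRing A] [IsRegularLocalRing A] (p : ℕ) [hpp : Fact p.Prime] {r : ℕ}
  (c : Fin r → Fin p → A) (f : Fin r → A) (I : Ideal A) (hpI : (p : A) ∈ I)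

include hpI in
theorem isRegularLocalRing_pAlg_iff_finrank [IsLocalRing (PAlg p c f)]
    (hI : I ≤ maximalIdeal A ^ 2) [IsLocalRing (A ⧸ I)] [CharP (A ⧸ I) p] :
    IsRegularLocalRing (PAlg p c f) ↔
      Module.finrank (ResidueField (A ⧸ I)) (CotangentSpace (A ⧸ I)) =
        Module.finrank (ResidueField (RootAlg p (fbar f I)))
          (CotangentSpace (RootAlg p (fbar f I))) := by
  haveI : IsDomain A := Groth.Agent.Helper8.RLR.isDomain A
  haveI : IsNoetherianRing (PAlg p c f) := Algebra.FiniteType.isNoetherianRing A _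
  haveI : IsNoetherianRing (RootAlg p (fbar f I)) :=
    Algebra.FiniteType.isNoetherianRing (A ⧸ I) _
  rw [isRegularLocalRing_iff, ringKrullDim_pAlg p c f hpp.out.two_le,
    ← IsRegularLocalRing.spanFinrank_maximalIdeal (R := A), Nat.cast_inj,
    ← spanFinrank_rootAlg_eq p c f I hpI hI, ← spanFinrank_quot_eq I hI,
    spanFinrank_maximalIdeal_eq_finrank_cotangentSpace,
    spanFinrank_maximalIdeal_eq_finrank_cotangentSpace]
  exact eq_comm

omit hpp in
theorem tmul_D_eq_zero_of_mem [IsLocalRing (A ⧸ I)] (hI : I ≤ maximalIdeal A ^ 2) (x : A)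
    (hx : x ∈ RingHom.ker (algebraMap A (A ⧸ I))) :
    (1 : ResidueField (A ⧸ I)) ⊗ₜ[A] D ℤ A x = 0 := by
  refine KaehlerQuot.tmul_D_eq_zero_of_mem_sq x ?_
  have hxI : x ∈ I := by
    rwa [Ideal.Quotient.algebraMap_eq, Ideal.mk_ker] at hx
  have hle : maximalIdeal A ≤ RingHom.ker (algebraMap A (ResidueField (A ⧸ I))) := by
    intro y hy
    rw [RingHom.mem_ker, IsScalarTower.algebraMap_apply A (A ⧸ I) (ResidueField (A ⧸ I)),
      ResidueField.algebraMap_eq, residue_eq_zero_iff, mem_maximalIdeal, mem_nonunits_iff]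
    intro hu
    haveI : IsLocalHom (algebraMap A (A ⧸ I)) :=
      Function.Surjective.isLocalHom _ Ideal.Quotient.mk_surjective
    exact hy (isUnit_of_map_unit (algebraMap A (A ⧸ I)) y hu)
  exact Ideal.pow_right_mono hle 2 (hI hxI)

include hpI in
/-- The main criterion. -/
theorem isRegularLocalRing_pAlg_iff [IsLocalRing (PAlg p c f)]
    (hI : I ≤ maximalIdeal A ^ 2) [IsLocalRing (A ⧸ I)] [CharP (A ⧸ I) p] :
    IsRegularLocalRing (PAlg p c f) ↔
      LinearIndependent (ResidueField A)
        (fun i => (1 : ResidueField A) ⊗ₜ[A] D ℤ A (f i)) := by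
  haveI : IsLocalHom (algebraMap A (A ⧸ I)) :=
    Function.Surjective.isLocalHom _ Ideal.Quotient.mk_surjective
  refine (isRegularLocalRing_pAlg_iff_finrank p c f I hpI hI).trans
    ((finrank_cotangentSpace_eq_iff p (fbar f I)).trans ?_)
  refine Iff.trans ?_ (linearIndependent_one_tmul_iff' (A := A) (K := ResidueField A)
    (K' := ResidueField (A ⧸ I)) (fun i => D ℤ A (f i)))
  exact KaehlerQuot.linearIndependent_iff (A := A) (A' := A ⧸ I) (L := ResidueField (A ⧸ I))
    Ideal.Quotient.mk_surjective (tmul_D_eq_zero_of_mem I hI) f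

end reg

end Groth.Agent.Helper8.PPoly
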