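import Mathlib
import Groth.Prelude.Def_CAlgX
import Groth.Prelude.Def_Found
import Groth.Agent.Lib.Helper8.PRad16

/-!
# Geometric regularity and formally étale changes of the base field
-/

set_option autoImplicit false

namespace Groth.Agent.Helper8.PRad

open IsLocalRing TensorProduct CAlgX

universe u

/-- Adic formal smoothness is insensitive to a formally étale change of the base. -/
theorem isAdicFormallySmooth_iff_of_formallyEtale {R R' S : Type u} [CommRing R] [CommRing R']
    [CommRing S] [Algebra R R'] [Algebra R' S] [Algebra R S] [IsScalarTower R R' S]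
    [Algebra.FormallyEtale R R'] (𝔫 : Ideal S) :
    IsAdicFormallySmooth R S 𝔫 ↔ IsAdicFormallySmooth R' S 𝔫 := by
  constructor
  · intro h C _ _ J hJ ψ hψ
    letI : Algebra R C := Algebra.compHom C (algebraMap R R')
    haveI : IsScalarTower R R' C := IsScalarTower.of_algebraMap_eq (fun _ => rfl)
    obtain ⟨χ, hχ⟩ := h C J hJ (ψ.restrictScalars R) hψ
    have hχ' : ∀ s, Ideal.Quotient.mk J (χ s) = ψ s := fun s => AlgHom.congr_fun hχ s
    have heq : (χ.comp (IsScalarTower.toAlgHom R R' S)) = IsScalarTower.toAlgHom R R' C := by
      apply Algebra.FormallyUnramified.ext J ⟨2, hJ⟩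
      intro x
      show Ideal.Quotient.mk J (χ (algebraMap R' S x)) = Ideal.Quotient.mk J (algebraMap R' C x)
      rw [hχ', ψ.commutes]
      rfl
    let χ' : S →ₐ[R'] C :=
      { (χ : S →+* C) with
        commutes' := fun x => AlgHom.congr_fun heq x }
    refine ⟨χ', ?_⟩
    ext s
    exact hχ' s
  · intro h
    exact Groth.Agent.Helper8.AdicFS.trans h

/-- Geometric regularity is insensitive to a separable algebraic change of the base field. -/
theorem isGeometricallyRegular_iff_of_isSeparable (k : Type u) [Field k] (k' : Type u)
    [Field k'] [Algebra k k'] [Algebra.IsSeparable k k'] (A : Type u) [CommRing A] [Algebra k' A]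
    [Algebra k A] [IsScalarTower k k' A] [IsNoetherianRing A] :
    CAlg.IsGeometricallyRegular k A ↔ CAlg.IsGeometricallyRegular k' A := by
  haveI : Algebra.FormallyEtale k k' := Algebra.FormallyEtale.of_isSeparable k k'
  rw [isGeometricallyRegular_iff_forall_isAdicFormallySmooth,
    isGeometricallyRegular_iff_forall_isAdicFormallySmooth]
  refine forall_congr' (fun p => forall_congr' (fun _ => ?_))
  exact isAdicFormallySmooth_iff_of_formallyEtale _

end Groth.Agent.Helper8.PRad
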