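import Mathlib
import Groth.Prelude.Def_CAlgX
import Groth.Prelude.Def_Found
import Groth.Agent.Lib.Helper8.PRad16

/-!
# The map `κ ⊗_k Ω_k → κ ⊗_B Ω_B` and directed unions of subfields
-/

set_option autoImplicit false

namespace Groth.Agent.Helper8.PRad

open IsLocalRing TensorProduct CAlgX KaehlerDifferential

universe u

section kappa

variable (k B κ : Type*) [CommRing k] [CommRing B] [CommRing κ] [Algebra k B] [Algebra B κ]
  [Algebra k κ] [IsScalarTower k B κ]

/-- The map `κ ⊗_k Ω_k → κ ⊗_B Ω_B`. -/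
noncomputable def kappaMap : κ ⊗[k] Ω[k⁄ℤ] →ₗ[κ] κ ⊗[B] Ω[B⁄ℤ] :=
  LinearMap.liftBaseChange κ
    (((TensorProduct.mk B κ Ω[B⁄ℤ] 1).restrictScalars k) ∘ₗ (KaehlerDifferential.map ℤ ℤ k B))

theorem kappaMap_tmul (c : κ) (ω : Ω[k⁄ℤ]) :
    kappaMap k B κ (c ⊗ₜ ω) = c ⊗ₜ[B] (KaehlerDifferential.map ℤ ℤ k B ω) := by
  rw [kappaMap, LinearMap.liftBaseChange_tmul]
  show c • ((1 : κ) ⊗ₜ[B] (KaehlerDifferential.map ℤ ℤ k B ω)) = _
  rw [smul_tmul', smul_eq_mul, mul_one]

theorem kappaMap_tmul_D (c : κ) (x : k) :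
    kappaMap k B κ (c ⊗ₜ D ℤ k x) = c ⊗ₜ[B] D ℤ B (algebraMap k B x) := by
  rw [kappaMap_tmul, KaehlerDifferential.map_D]

/-- Comparison with the doubly tensored form. -/
theorem lTensor_mapBaseChange_apply (z : κ ⊗[B] (B ⊗[k] Ω[k⁄ℤ])) :
    (mapBaseChange ℤ k B).lTensor κ z =
      kappaMap k B κ (TensorProduct.AlgebraTensorModule.cancelBaseChange k B κ κ Ω[k⁄ℤ] z) := by
  induction z using TensorProduct.induction_on with
  | zero => rw [map_zero, map_zero, map_zero]
  | add x y hx hy => rw [map_add, map_add, map_add, hx, hy]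
  | tmul c y =>
    induction y using TensorProduct.induction_on with
    | zero => rw [tmul_zero, map_zero, map_zero, map_zero]
    | add x y hx hy => rw [tmul_add, map_add, map_add, map_add, hx, hy]
    | tmul b ω =>
      rw [LinearMap.lTensor_tmul, mapBaseChange_tmul,
        TensorProduct.AlgebraTensorModule.cancelBaseChange_tmul, kappaMap_tmul, smul_tmul]

theorem injective_lTensor_iff :
    Function.Injective ((mapBaseChange ℤ k B).lTensor κ) ↔ Function.Injective (kappaMap k B κ) := by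
  have h : ⇑((mapBaseChange ℤ k B).lTensor κ) = ⇑(kappaMap k B κ) ∘
      ⇑(TensorProduct.AlgebraTensorModule.cancelBaseChange k B κ κ Ω[k⁄ℤ]) := by
    funext z
    exact lTensor_mapBaseChange_apply k B κ z
  rw [h]
  constructor
  · intro hinj
    intro x y hxy
    obtain ⟨x', rfl⟩ :=
      (TensorProduct.AlgebraTensorModule.cancelBaseChange k B κ κ Ω[k⁄ℤ]).surjective x
    obtain ⟨y', rfl⟩ :=
      (TensorProduct.AlgebraTensorModule.cancelBaseChange k B κ κ Ω[k⁄ℤ]).surjective y
    rw [hinj hxy]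
  · intro hinj
    exact hinj.comp (TensorProduct.AlgebraTensorModule.cancelBaseChange k B κ κ Ω[k⁄ℤ]).injective

end kappa

section directed

variable {k : Type u} [Field k] {ι : Type u} (K : ι → Type u) [∀ i, Field (K i)]
  [∀ i, Algebra (K i) k]

include K in
/-- Finitely many elements of a directed union lie in one member. -/
theorem exists_index_of_finset
    (hdir : ∀ i j, ∃ l, Set.range (algebraMap (K i) k) ⊆ Set.range (algebraMap (K l) k) ∧
      Set.range (algebraMap (K j) k) ⊆ Set.range (algebraMap (K l) k))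
    (hcov : ∀ x : k, ∃ i, x ∈ Set.range (algebraMap (K i) k)) (s : Finset k) :
    ∃ i, ∀ x ∈ s, x ∈ Set.range (algebraMap (K i) k) := by
  classical
  induction s using Finset.induction_on with
  | empty =>
    obtain ⟨i, -⟩ := hcov 0
    exact ⟨i, fun x hx => absurd hx (Finset.notMem_empty x)⟩
  | insert a s _ ih =>
    obtain ⟨i, hi⟩ := ih
    obtain ⟨j, hj⟩ := hcov a
    obtain ⟨l, hil, hjl⟩ := hdir i j
    refine ⟨l, fun x hx => ?_⟩
    rcases Finset.mem_insert.1 hx with rfl | hx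
    · exact hjl hj
    · exact hil (hi x hx)

variable {B κ : Type u} [CommRing B] [Field κ] [Algebra k B] [Algebra B κ] [Algebra k κ]
  [IsScalarTower k B κ] [∀ i, Algebra (K i) B] [∀ i, IsScalarTower (K i) k B]
  [∀ i, Algebra (K i) κ] [∀ i, IsScalarTower (K i) k κ] [∀ i, IsScalarTower (K i) B κ]

theorem kappaMap_comp (i : ι) :
    kappaMap (K i) B κ = kappaMap k B κ ∘ₗ kappaMap (K i) k κ := by
  apply linearMap_ext_D
  intro y
  rw [LinearMap.comp_apply, kappaMap_tmul_D, kappaMap_tmul_D, kappaMap_tmul_D,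
    ← IsScalarTower.algebraMap_apply]

/-- Injectivity of `κ ⊗ Ω_k → κ ⊗ Ω_B` can be tested on a directed family of subfields. -/
theorem injective_kappaMap_of_directed
    (hdir : ∀ i j, ∃ l, Set.range (algebraMap (K i) k) ⊆ Set.range (algebraMap (K l) k) ∧
      Set.range (algebraMap (K j) k) ⊆ Set.range (algebraMap (K l) k))
    (hcov : ∀ x : k, ∃ i, x ∈ Set.range (algebraMap (K i) k))
    (h : ∀ i, Function.Injective (kappaMap (K i) B κ)) :
    Function.Injective (kappaMap k B κ) := by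
  classical
  rw [injective_iff_map_eq_zero]
  intro z hz
  have hmem : z ∈ Submodule.span κ (Set.range fun x : k => (1 : κ) ⊗ₜ[k] D ℤ k x) := by
    rw [span_one_tmul_D]
    trivial
  obtain ⟨c, rfl⟩ := Finsupp.mem_span_range_iff_exists_finsupp.1 hmem
  obtain ⟨i, hi⟩ := exists_index_of_finset K hdir hcov c.support
  let y : k → K i := Function.invFun (algebraMap (K i) k)
  have hy : ∀ x ∈ c.support, algebraMap (K i) k (y x) = x :=
    fun x hx => Function.invFun_eq (hi x hx)
  let zi : κ ⊗[K i] Ω[K i⁄ℤ] := c.sum fun x a => a • ((1 : κ) ⊗ₜ[K i] D ℤ (K i) (y x))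
  have hzi : kappaMap (K i) k κ zi = c.sum fun x a => a • ((1 : κ) ⊗ₜ[k] D ℤ k x) := by
    show kappaMap (K i) k κ (c.sum fun x a => a • ((1 : κ) ⊗ₜ[K i] D ℤ (K i) (y x))) = _
    rw [Finsupp.sum, map_sum, Finsupp.sum]
    refine Finset.sum_congr rfl (fun x hx => ?_)
    rw [map_smul, kappaMap_tmul_D, hy x hx]
  have h0 : kappaMap (K i) B κ zi = 0 := by
    rw [kappaMap_comp (k := k) (B := B) (κ := κ) K i, LinearMap.comp_apply, hzi, hz]
  have h1 : zi = 0 := (injective_iff_map_eq_zero _).1 (h i) zi h0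
  rw [← hzi, h1, map_zero]

end directed

end Groth.Agent.Helper8.PRad
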