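import Mathlib
import Groth.Prelude.Def_CAlgX
import Groth.Prelude.Def_Found
import Groth.Agent.Lib.Helper8.PRad18

/-!
# Geometric regularity over a directed union of subfields
-/

set_option autoImplicit false

namespace Groth.Agent.Helper8.PRad

open IsLocalRing TensorProduct CAlgX KaehlerDifferential

universe u

theorem isGeometricallyRegular_of_directed (k : Type u) [Field k] {ι : Type u}
    (K : ι → Type u) [∀ i, Field (K i)] [∀ i, Algebra (K i) k]
    (hdir : ∀ i j, ∃ l, Set.range (algebraMap (K i) k) ⊆ Set.range (algebraMap (K l) k) ∧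
      Set.range (algebraMap (K j) k) ⊆ Set.range (algebraMap (K l) k))
    (hcov : ∀ x : k, ∃ i, x ∈ Set.range (algebraMap (K i) k))
    (A : Type u) [CommRing A] [Algebra k A] [IsNoetherianRing A] [∀ i, Algebra (K i) A]
    [∀ i, IsScalarTower (K i) k A] (h : ∀ i, CAlg.IsGeometricallyRegular (K i) A) :
    CAlg.IsGeometricallyRegular k A := by
  rw [isGeometricallyRegular_iff_forall_isAdicFormallySmooth]
  intro p _
  have hi : ∀ i, IsAdicFormallySmooth (K i) (Localization.AtPrime p)
      (maximalIdeal (Localization.AtPrime p)) :=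
    fun i => (isGeometricallyRegular_iff_forall_isAdicFormallySmooth.1 (h i)) p
  haveI : ∀ i, IsScalarTower (K i) k (Localization.AtPrime p) := fun i =>
    IsScalarTower.of_algebraMap_eq (fun x => by
      rw [IsScalarTower.algebraMap_apply (K i) A (Localization.AtPrime p),
        IsScalarTower.algebraMap_apply k A (Localization.AtPrime p),
        ← IsScalarTower.algebraMap_apply (K i) k A])
  rw [Groth.Agent.Helper8.Cartier.isAdicFormallySmooth_iff_regular_and_injective]
  obtain ⟨i₀, -⟩ := hcov 0
  refine ⟨((Groth.Agent.Helper8.Cartier.isAdicFormallySmooth_iff_regular_and_injective).1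
    (hi i₀)).1, ?_⟩
  rw [injective_lTensor_iff]
  apply injective_kappaMap_of_directed K hdir hcov
  intro i
  rw [← injective_lTensor_iff]
  exact ((Groth.Agent.Helper8.Cartier.isAdicFormallySmooth_iff_regular_and_injective).1 (hi i)).2

end Groth.Agent.Helper8.PRad
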