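import Mathlib
import Groth.Prelude
import Groth.Agent.Lib.Helper8.PS1
import Groth.Agent.Lib.Helper8.Tate2
import Groth.Agent.Lib.Helper8.Nag1
import Groth.Agent.Lib.Helper6.Japanese

/-!
# Power series rings over Noetherian N-2 domains are N-2
-/

set_option autoImplicit false
universe u

namespace Groth.Agent.Helper8.PS

open PowerSeries TensorProduct

/-- N-2 descends along finite injective extensions of domains with Noetherian base. -/
theorem isN2_of_finite_extension (A B : Type u) [CommRing A] [IsDomain A] [IsNoetherianRing A]
    [CommRing B] [IsDomain B] [Algebra A B] [Module.Finite A B]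
    (hinj : Function.Injective (algebraMap A B)) (hB : CAlg.IsN2 B) : CAlg.IsN2 A := by
  intro L _ _ _ _ hfin
  haveI := hfin
  haveI : FaithfulSMul A (FractionRing B) := by
    rw [faithfulSMul_iff_algebraMap_injective, IsScalarTower.algebraMap_eq A B (FractionRing B)]
    exact (IsFractionRing.injective B (FractionRing B)).comp hinj
  letI : Algebra (FractionRing A) (FractionRing B) := FractionRing.liftAlgebra A (FractionRing B)
  haveI : IsScalarTower A (FractionRing A) (FractionRing B) :=
    FractionRing.isScalarTower_liftAlgebra A (FractionRing B)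
  let T := FractionRing B ⊗[FractionRing A] L
  haveI : Nontrivial T := Algebra.TensorProduct.nontrivial_of_algebraMap_injective_of_flat_left
    (R := FractionRing A) (FractionRing B) L (algebraMap (FractionRing A) L).injective
  obtain ⟨m, hm⟩ := Ideal.exists_maximal T
  let L' := T ⧸ m
  letI : Field L' := Ideal.Quotient.field m
  haveI : Module.Finite (FractionRing B) T := inferInstance
  haveI : Module.Finite (FractionRing B) L' := inferInstance
  have h1 : Module.Finite B (integralClosure B L') := hB L' inferInstance
  haveI : Module.Finite A (integralClosure B L') := Module.Finite.trans B _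
  haveI : IsNoetherian A (integralClosure B L') := isNoetherian_of_isNoetherianRing_of_finite A _
  let φ : L →ₐ[A] L' := ((Ideal.Quotient.mkₐ (FractionRing A) m).comp
    (Algebra.TensorProduct.includeRight :
      L →ₐ[FractionRing A] FractionRing B ⊗[FractionRing A] L)).restrictScalars A
  have hφ : ∀ w : integralClosure A L, φ w.1 ∈ integralClosure B L' := fun w =>
    (w.2.map φ).tower_top
  let f : integralClosure A L →ₗ[A] integralClosure B L' :=
    (φ.toLinearMap.comp (Subalgebra.val _).toLinearMap).codRestrict
      (Subalgebra.toSubmodule ((integralClosure B L').restrictScalars A)) hφ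
  have hf : Function.Injective f := by
    intro w1 w2 h
    have h2 : φ w1.1 = φ w2.1 := congrArg Subtype.val h
    exact Subtype.ext (φ.toRingHom.injective h2)
  exact Module.Finite.of_injective f hf

section normal

variable (R : Type u) [CommRing R] [IsDomain R] [IsNoetherianRing R]

/-- `R⟦X⟧ ⧸ (X) ≃ R`. -/
noncomputable def quotXEquiv : (R⟦X⟧ ⧸ Ideal.span ({X} : Set R⟦X⟧)) ≃+* R :=
  (Ideal.quotEquivOfEq (Ideal.ext fun φ => by
    rw [RingHom.mem_ker, Ideal.mem_span_singleton, X_dvd_iff] :
      Ideal.span ({X} : Set R⟦X⟧) = RingHom.ker (constantCoeff (R := R)))).trans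
    (RingHom.quotientKerEquivOfSurjective constantCoeff_surj)

/-- The power series ring over a Noetherian normal N-2 domain is N-2. -/
theorem isN2_powerSeries_of_isIntegrallyClosed [IsIntegrallyClosed R] (h : CAlg.IsN2 R) :
    CAlg.IsN2 R⟦X⟧ := by
  haveI := isIntegrallyClosed_powerSeries R
  haveI : (Ideal.span ({X} : Set R⟦X⟧)).IsPrime := span_X_isPrime
  refine Groth.Agent.Helper8.Tate.isN2_of_complete_of_quotient_isN2 R⟦X⟧ X ?_
  exact Groth.Agent.Helper8.Tate.isN2_of_ringEquiv (quotXEquiv R).symm h

end normal

end Groth.Agent.Helper8.PS
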