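import Mathlib
import Groth.Prelude
import Groth.Agent.Lib.Helper8.PS2

/-!
# Power series rings over Noetherian N-2 domains are N-2 (general case)
-/

set_option autoImplicit false
universe u

namespace Groth.Agent.Helper8.PS

open PowerSeries

/-- `R'⟦X⟧` is a finite `R⟦X⟧`-module when `R'` is a finite `R`-module. -/
theorem finite_powerSeries (R R' : Type*) [CommRing R] [CommRing R'] [Algebra R R']
    [Module.Finite R R'] : Module.Finite R⟦X⟧ R'⟦X⟧ := by
  classical
  obtain ⟨s, hs⟩ := (Module.Finite.fg_top : (⊤ : Submodule R R').FG)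
  refine ⟨⟨s.image (C : R' →+* R'⟦X⟧), ?_⟩⟩
  rw [eq_top_iff]
  rintro f -
  have hc : ∀ i : ℕ, ∃ r : R' → R, ∑ b ∈ s, r b • b = coeff i f := by
    intro i
    have : coeff i f ∈ Submodule.span R (s : Set R') := by rw [hs]; trivial
    obtain ⟨r, -, hr⟩ := Submodule.mem_span_finset.mp this
    exact ⟨r, hr⟩
  choose r hr using hc
  have hf : f = ∑ b ∈ s, (mk fun i => r i b : R⟦X⟧) • (C b : R'⟦X⟧) := by
    ext i
    rw [map_sum, ← hr i]
    refine Finset.sum_congr rfl fun b _ => ?_
    rw [Algebra.smul_def (r i b) b, Algebra.smul_def (mk fun i => r i b : R⟦X⟧) (C b : R'⟦X⟧),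
      algebraMap_apply'', coeff_mul_C, coeff_map, coeff_mk]
  rw [hf]
  refine Submodule.sum_mem _ fun b hb => Submodule.smul_mem _ _ (Submodule.subset_span ?_)
  exact Finset.mem_coe.mpr (Finset.mem_image_of_mem _ hb)

/-- **S9396.** The power series ring over a Noetherian N-2 domain is N-2. -/
theorem isN2_powerSeries (R : Type u) [CommRing R] [IsDomain R] [IsNoetherianRing R]
    (h : CAlg.IsN2 R) : CAlg.IsN2 R⟦X⟧ := by
  let K := FractionRing R
  let R' := integralClosure R K
  haveI hfin : Module.Finite R R' := Groth.Agent.Lib.Helper6.Japanese.n2_apply h K K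
  haveI : IsNoetherianRing R' := IsNoetherianRing.of_finite R R'
  have hinj : Function.Injective (algebraMap R R') := by
    intro a b hab
    have : algebraMap R K a = algebraMap R K b := congrArg Subtype.val hab
    exact IsFractionRing.injective R K this
  have hN' : CAlg.IsN2 R' := Groth.Agent.Helper8.Nag.isN2_of_finite_injective R R' hinj h
  haveI : IsIntegrallyClosed R' := integralClosure.isIntegrallyClosedOfFiniteExtension K
  have h1 : CAlg.IsN2 R'⟦X⟧ := isN2_powerSeries_of_isIntegrallyClosed R' hN'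
  haveI : Module.Finite R⟦X⟧ R'⟦X⟧ := finite_powerSeries R R'
  exact isN2_of_finite_extension R⟦X⟧ R'⟦X⟧ (map_injective _ hinj) h1

end Groth.Agent.Helper8.PS
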