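import Mathlib
import Groth.Prelude
import Groth.Agent.Lib.Helper8.PS3

/-!
# Multivariate power series rings over Noetherian normal N-2 domains
-/

set_option autoImplicit false
universe u

namespace Groth.Agent.Helper8.PS

/-- Power series rings in finitely many variables over a Noetherian normal N-2 domain are
normal N-2 domains. -/
theorem mvPowerSeries_fin (A : Type u) [CommRing A] [IsDomain A] [IsNoetherianRing A]
    [IsIntegrallyClosed A] (hA : CAlg.IsN2 A) :
    ∀ r : ℕ, ∃ (_ : IsDomain (MvPowerSeries (Fin r) A)),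
      IsIntegrallyClosed (MvPowerSeries (Fin r) A) ∧ CAlg.IsN2 (MvPowerSeries (Fin r) A)
  | 0 => by
    let e : A ≃+* MvPowerSeries (Fin 0) A := (MvPowerSeries.isEmptyEquiv (Fin 0) A).toRingEquiv.symm
    haveI : IsDomain (MvPowerSeries (Fin 0) A) := MulEquiv.isDomain A e.symm.toMulEquiv
    exact ⟨inferInstance, IsIntegrallyClosed.of_equiv e,
      Groth.Agent.Helper8.Tate.isN2_of_ringEquiv e hA⟩
  | r + 1 => by
    obtain ⟨hd, hic, hn⟩ := mvPowerSeries_fin A hA r
    haveI := hd
    haveI := hic
    let e : PowerSeries (MvPowerSeries (Fin r) A) ≃+* MvPowerSeries (Fin (r + 1)) A :=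
      (MvPowerSeries.finSuccEquiv A r).toRingEquiv.symm
    haveI : IsDomain (MvPowerSeries (Fin (r + 1)) A) :=
      MulEquiv.isDomain (PowerSeries (MvPowerSeries (Fin r) A)) e.symm.toMulEquiv
    haveI := isIntegrallyClosed_powerSeries (MvPowerSeries (Fin r) A)
    exact ⟨inferInstance, IsIntegrallyClosed.of_equiv e,
      Groth.Agent.Helper8.Tate.isN2_of_ringEquiv e
        (isN2_powerSeries_of_isIntegrallyClosed (MvPowerSeries (Fin r) A) hn)⟩

end Groth.Agent.Helper8.PS
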