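import Mathlib
import Groth.Agent.Lib.Helper8.PSL1
import Groth.Agent.Lib.Helper8.AdicFS3
import Groth.Agent.Lib.Helper8.AdicFS7
import Groth.Agent.Lib.Helper8.MvPSLocal

/-!
# Twisting the algebra structure of a power series ring by derivations of the ground field
-/

set_option autoImplicit false
universe u

namespace Groth.Agent.Helper8.PSL

open IsLocalRing MvPowerSeries CAlgX

section prime

variable {k : Type u} [Field k] {M : Type*} [AddCommGroup M] [Module k M]

/-- Absolute derivations of a field kill the prime subfield. -/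
theorem derivation_bot_eq_zero (D : Derivation ℤ k M) (x : k) (hx : x ∈ (⊥ : Subfield k)) :
    D x = 0 := by
  rw [← Subfield.closure_empty] at hx
  induction hx using Subfield.closure_induction with
  | mem x hx => exact absurd hx (Set.notMem_empty x)
  | one => exact D.map_one_eq_zero
  | add x y _ _ hx hy => rw [map_add, hx, hy, add_zero]
  | neg x _ hx => rw [map_neg, hx, neg_zero]
  | inv x _ hx => rw [Derivation.leibniz_inv, hx, smul_zero]
  | mul x y _ _ hx hy => rw [Derivation.leibniz, hx, hy, smul_zero, smul_zero, add_zero]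

end prime

section sq

variable (K : Type u) [Field K] (n : ℕ)

theorem constantCoeff_eq_zero_of_mem_sq (g : MvPowerSeries (Fin n) K)
    (hg : g ∈ maximalIdeal (MvPowerSeries (Fin n) K) ^ 2) : constantCoeff g = 0 := by
  have h1 : g ∈ maximalIdeal (MvPowerSeries (Fin n) K) := Ideal.pow_le_self two_ne_zero hg
  exact (Groth.Agent.Helper8.mvPowerSeries_mem_maximalIdeal_iff (Fin n) K g).mp h1

theorem constantCoeff_pderiv_eq_zero_of_mem_sq (j : Fin n) (g : MvPowerSeries (Fin n) K)
    (hg : g ∈ maximalIdeal (MvPowerSeries (Fin n) K) ^ 2) :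
    constantCoeff (MvPowerSeries.pderiv K j g) = 0 := by
  rw [pow_two] at hg
  refine Submodule.mul_induction_on hg ?_ ?_
  · intro a ha b hb
    have ha' := (Groth.Agent.Helper8.mvPowerSeries_mem_maximalIdeal_iff (Fin n) K a).mp ha
    have hb' := (Groth.Agent.Helper8.mvPowerSeries_mem_maximalIdeal_iff (Fin n) K b).mp hb
    rw [Derivation.leibniz, map_add, smul_eq_mul, smul_eq_mul, map_mul, map_mul, ha', hb',
      zero_mul, zero_mul, add_zero]
  · intro x y hx hy
    rw [map_add, map_add, hx, hy, add_zero]

end sq

section twist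

variable {k K : Type u} [Field k] [Field K] [Algebra k K] (n : ℕ)

/-- The linear part of the twist. -/
noncomputable def lin (c : Fin n → Derivation ℤ k K) (a : k) : MvPowerSeries (Fin n) K :=
  ∑ j, C (c j a) * X j

theorem lin_add (c : Fin n → Derivation ℤ k K) (a b : k) : lin n c (a + b) = lin n c a + lin n c b := by
  unfold lin
  rw [← Finset.sum_add_distrib]
  exact Finset.sum_congr rfl fun j _ => by rw [map_add, map_add, add_mul]

theorem lin_mul (c : Fin n → Derivation ℤ k K) (a b : k) :
    lin n c (a * b) = C (algebraMap k K a) * lin n c b + C (algebraMap k K b) * lin n c a := by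
  unfold lin
  rw [Finset.mul_sum, Finset.mul_sum, ← Finset.sum_add_distrib]
  refine Finset.sum_congr rfl fun j _ => ?_
  rw [Derivation.leibniz, Algebra.smul_def, Algebra.smul_def, map_add, map_mul, map_mul]
  ring

theorem lin_mem (c : Fin n → Derivation ℤ k K) (a : k) :
    lin n c a ∈ maximalIdeal (MvPowerSeries (Fin n) K) := by
  unfold lin
  refine Ideal.sum_mem _ fun j _ => Ideal.mul_mem_left _ _ ?_
  rw [Groth.Agent.Helper8.mvPowerSeries_mem_maximalIdeal_iff]
  exact MvPowerSeries.constantCoeff_X j

theorem lin_one (c : Fin n → Derivation ℤ k K) : lin n c 1 = 0 := by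
  unfold lin
  exact Finset.sum_eq_zero fun j _ => by rw [Derivation.map_one_eq_zero, map_zero, zero_mul]

theorem lin_zero (c : Fin n → Derivation ℤ k K) : lin n c 0 = 0 := by
  unfold lin
  exact Finset.sum_eq_zero fun j _ => by rw [map_zero, map_zero, zero_mul]

/-- **Twisting.** For derivations `c_j : k → K` there is a ring homomorphism `k → K[[T]]`
congruent to `a ↦ a + ∑ c_j(a) T_j` modulo the square of the maximal ideal. -/
theorem exists_twist (c : Fin n → Derivation ℤ k K) :
    ∃ u : k →+* MvPowerSeries (Fin n) K, ∀ a, u a - (C (algebraMap k K a) + lin n c a) ∈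
      maximalIdeal (MvPowerSeries (Fin n) K) ^ 2 := by
  classical
  let w : k → MvPowerSeries (Fin n) K := fun a => C (algebraMap k K a) + lin n c a
  have hw : ∀ a, w a = C (algebraMap k K a) + lin n c a := fun a => rfl
  let ū₀ : k →+* MvPowerSeries (Fin n) K ⧸ maximalIdeal (MvPowerSeries (Fin n) K) ^ 2 :=
    { toFun := fun a => Ideal.Quotient.mk _ (w a)
      map_one' := by
        show Ideal.Quotient.mk _ (w 1) = 1
        rw [hw, lin_one, map_one, map_one, add_zero, map_one]
      map_mul' := fun a b => by
        show Ideal.Quotient.mk _ (w (a * b)) = Ideal.Quotient.mk _ (w a) * Ideal.Quotient.mk _ (w b)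
        rw [← map_mul, eq_comm, Ideal.Quotient.eq]
        have h1 : w a * w b - w (a * b) = lin n c a * lin n c b := by
          rw [hw, hw, hw, lin_mul, map_mul, map_mul]
          ring
        rw [h1, pow_two]
        exact Ideal.mul_mem_mul (lin_mem n c a) (lin_mem n c b)
      map_zero' := by
        show Ideal.Quotient.mk _ (w 0) = 0
        rw [hw, lin_zero, map_zero, map_zero, add_zero, map_zero]
      map_add' := fun a b => by
        show Ideal.Quotient.mk _ (w (a + b)) = Ideal.Quotient.mk _ (w a) + Ideal.Quotient.mk _ (w b)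
        have h1 : w (a + b) = w a + w b := by
          rw [hw, hw, hw, lin_add, map_add, map_add]
          ring
        rw [h1, map_add] }
  let ū : k →ₐ[(⊥ : Subfield k)] MvPowerSeries (Fin n) K ⧸
      maximalIdeal (MvPowerSeries (Fin n) K) ^ 2 :=
    { ū₀ with
      commutes' := fun x => by
        show Ideal.Quotient.mk _ (w (x : k)) = _
        have h1 : lin n c (x : k) = 0 := by
          unfold lin
          exact Finset.sum_eq_zero fun j _ => by
            rw [derivation_bot_eq_zero (c j) x x.2, map_zero, zero_mul]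
        rw [hw, h1, add_zero, IsScalarTower.algebraMap_apply (⊥ : Subfield k)
          (MvPowerSeries (Fin n) K)
          (MvPowerSeries (Fin n) K ⧸ maximalIdeal (MvPowerSeries (Fin n) K) ^ 2),
          MvPowerSeries.algebraMap_apply]
        rfl }
  haveI : Algebra.FormallySmooth (⊥ : Subfield k) k :=
    Groth.Agent.Helper8.Cartier.formallySmooth_bot_subfield k k
  have hfs := Groth.Agent.Helper8.AdicFS.of_formallySmooth (R := (⊥ : Subfield k)) (S := k)
    (⊥ : Ideal k)
  haveI := Groth.Agent.Helper8.AdicFS.isAdicComplete_sq_mvPowerSeries K n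
  obtain ⟨v, hv⟩ := Groth.Agent.Helper8.AdicFS.exists_lift_complete hfs
    (maximalIdeal (MvPowerSeries (Fin n) K) ^ 2) ū ⟨1, fun x hx => by
      rw [pow_one, Ideal.mem_bot] at hx
      rw [hx, map_zero]⟩
  refine ⟨v.toRingHom, fun a => ?_⟩
  rw [← Ideal.Quotient.eq]
  exact AlgHom.congr_fun hv a

end twist

end Groth.Agent.Helper8.PSL
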