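import Mathlib
import Groth.Agent.Lib.Helper8.PSL2
import Groth.Agent.Lib.Helper8.MvPSDim
import Groth.Agent.Lib.Helper8.EK4

/-!
# Existence of formally smooth complete local algebras with given residue field
(EGA 0_IV 22.2.6, sufficiency)
-/

set_option autoImplicit false
universe u

namespace Groth.Agent.Helper8.PSL

open IsLocalRing MvPowerSeries CAlgX KaehlerDifferential TensorProduct

/-- A copy of the power series ring, without its standard algebra structures. -/
def Tw (K : Type u) [Field K] (n : ℕ) : Type u := MvPowerSeries (Fin n) K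

namespace Tw

variable (K : Type u) [Field K] (n : ℕ)

noncomputable instance : CommRing (Tw K n) := inferInstanceAs (CommRing (MvPowerSeries (Fin n) K))

instance : IsLocalRing (Tw K n) := inferInstanceAs (IsLocalRing (MvPowerSeries (Fin n) K))

instance : IsNoetherianRing (Tw K n) :=
  inferInstanceAs (IsNoetherianRing (MvPowerSeries (Fin n) K))

instance : IsRegularLocalRing (Tw K n) :=
  inferInstanceAs (IsRegularLocalRing (MvPowerSeries (Fin n) K))

instance : IsAdicComplete (maximalIdeal (Tw K n)) (Tw K n) :=
  inferInstanceAs (IsAdicComplete (maximalIdeal (MvPowerSeries (Fin n) K))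
    (MvPowerSeries (Fin n) K))

theorem ringKrullDim_eq : ringKrullDim (Tw K n) = n :=
  Groth.Agent.Helper8.ringKrullDim_mvPowerSeries_fin K n

/-- The constant coefficient. -/
noncomputable def cc : Tw K n →+* K := MvPowerSeries.constantCoeff (σ := Fin n) (R := K)

/-- The partial derivatives. -/
noncomputable def pd (j : Fin n) : Tw K n →+ Tw K n :=
  (MvPowerSeries.pderiv K j).toLinearMap.toAddMonoidHom

theorem constantCoeff_pderiv_mul (j : Fin n) (f g : MvPowerSeries (Fin n) K) :
    MvPowerSeries.constantCoeff (MvPowerSeries.pderiv K j (f * g)) =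
      MvPowerSeries.constantCoeff f * MvPowerSeries.constantCoeff (MvPowerSeries.pderiv K j g) +
        MvPowerSeries.constantCoeff g *
          MvPowerSeries.constantCoeff (MvPowerSeries.pderiv K j f) := by
  rw [Derivation.leibniz, smul_eq_mul, smul_eq_mul, map_add, map_mul, map_mul]

theorem cc_pd_mul (j : Fin n) (f g : Tw K n) :
    cc K n (pd K n j (f * g)) =
      cc K n f * cc K n (pd K n j g) + cc K n g * cc K n (pd K n j f) :=
  constantCoeff_pderiv_mul K n j f g

end Tw

section functionals

variable {K V : Type u} [Field K] [AddCommGroup V] [Module K V]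

/-- Functionals separating the points of a finite-dimensional subspace. -/
theorem exists_separating_functionals (W : Submodule K V) [Module.Finite K W] (n : ℕ)
    (hn : Module.finrank K W ≤ n) :
    ∃ l : Fin n → (V →ₗ[K] K), ∀ ω ∈ W, (∀ j, l j ω = 0) → ω = 0 := by
  classical
  let b := Module.finBasis K W
  have hext : ∀ i, ∃ g : V →ₗ[K] K, g ∘ₗ W.subtype = b.coord i :=
    fun i => LinearMap.exists_extend (b.coord i)
  choose g hg using hext
  refine ⟨fun j => if h : (j : ℕ) < Module.finrank K W then g ⟨j, h⟩ else 0, ?_⟩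
  intro ω hω h0
  have h1 : (⟨ω, hω⟩ : W) = 0 := by
    apply b.repr.injective
    ext i
    have h2 : (if h : ((Fin.castLE hn i : Fin n) : ℕ) < Module.finrank K W then
        g ⟨((Fin.castLE hn i : Fin n) : ℕ), h⟩ else 0) ω = 0 := h0 (Fin.castLE hn i)
    have hlt : ((Fin.castLE hn i : Fin n) : ℕ) < Module.finrank K W := by
      rw [Fin.val_castLE]; exact i.2
    rw [dif_pos hlt] at h2
    have h3 := LinearMap.congr_fun (hg ⟨((Fin.castLE hn i : Fin n) : ℕ), hlt⟩) ⟨ω, hω⟩
    rw [LinearMap.comp_apply, Submodule.subtype_apply, h2] at h3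
    rw [map_zero, Finsupp.zero_apply]
    have h4 : (⟨((Fin.castLE hn i : Fin n) : ℕ), hlt⟩ : Fin (Module.finrank K W)) = i := by
      ext; simp
    rw [h4, Module.Basis.coord_apply] at h3
    exact h3.symm
  exact congrArg Subtype.val h1

end functionals

section exist

variable {k K : Type u} [Field k] [Field K] [Algebra k K]

set_option maxHeartbeats 800000 in
/-- **EGA 0_IV 22.2.6, sufficiency.** -/
theorem exists_formallySmooth_of_finite
    [hfin : Module.Finite K (LinearMap.ker (mapBaseChange ℤ k K))] (n : ℕ)
    (hn : Module.finrank K (LinearMap.ker (mapBaseChange ℤ k K)) ≤ n) :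
    ∃ (A : Type u) (_ : CommRing A) (_ : IsLocalRing A) (_ : IsNoetherianRing A)
      (_ : Algebra k A),
      IsAdicComplete (maximalIdeal A) A ∧ IsAdicFormallySmooth k A (maximalIdeal A) ∧
        Nonempty (ResidueField A ≃ₐ[k] K) ∧ ringKrullDim A = n := by
  classical
  obtain ⟨l, hl⟩ := exists_separating_functionals (LinearMap.ker (mapBaseChange ℤ k K)) n hn
  -- the derivations
  let μ : Fin n → (Ω[k⁄ℤ] →ₗ[k] K) := fun j => (LinearMap.liftBaseChangeEquiv K).symm (l j)
  let c : Fin n → Derivation ℤ k K := fun j => KaehlerDifferential.linearMapEquivDerivation ℤ k (μ j)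
  have hcl : ∀ j, (c j).liftKaehlerDifferential.liftBaseChange K = l j := by
    intro j
    have h1 : (c j).liftKaehlerDifferential = μ j :=
      (KaehlerDifferential.linearMapEquivDerivation ℤ k).symm_apply_apply (μ j)
    rw [h1]
    exact (LinearMap.liftBaseChangeEquiv K).apply_symm_apply (l j)
  obtain ⟨u, hu⟩ := exists_twist n c
  let u' : k →+* Tw K n := u
  letI algA : Algebra k (Tw K n) := u'.toAlgebra
  letI algK : Algebra (Tw K n) K := (Tw.cc K n).toAlgebra
  have hcc : ∀ a : k, Tw.cc K n (u' a) = algebraMap k K a := by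
    intro a
    have h1 := constantCoeff_eq_zero_of_mem_sq K n _ (hu a)
    rw [map_sub, sub_eq_zero, map_add] at h1
    have h2 := (Groth.Agent.Helper8.mvPowerSeries_mem_maximalIdeal_iff (Fin n) K _).mp
      (lin_mem n c a)
    rw [h2, add_zero, MvPowerSeries.constantCoeff_C] at h1
    exact h1
  haveI : IsScalarTower k (Tw K n) K := IsScalarTower.of_algebraMap_eq (fun a => (hcc a).symm)
  have hsurj : Function.Surjective (algebraMap (Tw K n) K) := by
    intro x
    exact ⟨(C x : MvPowerSeries (Fin n) K), MvPowerSeries.constantCoeff_C x⟩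
  -- the derivations of `A` into `K`
  have hsm : ∀ (f : Tw K n) (x : K), f • x = Tw.cc K n f * x := fun f x => rfl
  let δ : Fin n → Derivation ℤ (Tw K n) K := fun j =>
    Derivation.mk' ((Tw.cc K n : Tw K n →+ K).comp (Tw.pd K n j)).toIntLinearMap (fun f g => by
      show Tw.cc K n (Tw.pd K n j (f * g)) =
        f • Tw.cc K n (Tw.pd K n j g) + g • Tw.cc K n (Tw.pd K n j f)
      rw [hsm, hsm]
      exact Tw.cc_pd_mul K n j f g)
  have hδ : ∀ j (f : Tw K n), δ j f = Tw.cc K n (MvPowerSeries.pderiv K j f) := fun j f => rfl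
  have hc : ∀ j a, δ j (algebraMap k (Tw K n) a) = c j a := by
    intro j a
    show δ j (u' a) = c j a
    rw [hδ]
    have h1 := constantCoeff_pderiv_eq_zero_of_mem_sq K n j _ (hu a)
    rw [map_sub, map_sub, sub_eq_zero] at h1
    have h2 : MvPowerSeries.pderiv K j (C (algebraMap k K a) + lin n c a) = C (c j a) := by
      rw [map_add, MvPowerSeries.pderiv_C, zero_add]
      unfold lin
      rw [map_sum, Finset.sum_eq_single j]
      · rw [Derivation.leibniz, MvPowerSeries.pderiv_C, smul_zero, add_zero,
          MvPowerSeries.pderiv_X_self, smul_eq_mul, mul_one]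
      · intro i _ hij
        rw [Derivation.leibniz, MvPowerSeries.pderiv_C, smul_zero, add_zero,
          MvPowerSeries.pderiv_X_of_ne hij, smul_zero]
      · intro h; exact absurd (Finset.mem_univ j) h
    rw [h2] at h1
    show MvPowerSeries.constantCoeff (MvPowerSeries.pderiv K j (u a)) = c j a
    rw [h1, MvPowerSeries.constantCoeff_C]
  have hfs : IsAdicFormallySmooth k (Tw K n) (maximalIdeal (Tw K n)) :=
    isAdicFormallySmooth_of_derivations hsurj inferInstance δ c hc (fun ω hω h0 =>
      hl ω hω (fun j => by rw [← hcl j]; exact h0 j))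
  obtain ⟨e⟩ := nonempty_residueField_algEquiv K hsurj
  exact ⟨Tw K n, inferInstance, inferInstance, inferInstance, algA, inferInstance, hfs,
    ⟨e.restrictScalars k⟩, Tw.ringKrullDim_eq K n⟩

end exist

end Groth.Agent.Helper8.PSL
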