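import Mathlib

/-!
# A linear map which is bijective modulo all powers of `I` is bijective on completions
-/

namespace Groth.Agent.Helper8.PairNoeth

theorem adicCompletion_map_bijective {R : Type*} [CommRing R] (I : Ideal R) {M N : Type*}
    [AddCommGroup M] [Module R M] [AddCommGroup N] [Module R N] (f : M →ₗ[R] N)
    (hinj : ∀ (n : ℕ) (x : M), f x ∈ I ^ n • (⊤ : Submodule R N) →
      x ∈ I ^ n • (⊤ : Submodule R M))
    (hsurj : ∀ (n : ℕ) (y : N), ∃ x : M, y - f x ∈ I ^ n • (⊤ : Submodule R N)) :
    Function.Bijective (AdicCompletion.map I f) := by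
  have hg : ∀ n : ℕ, Function.Bijective (f.reduceModIdeal (I ^ n)) := by
    intro n
    constructor
    · rw [injective_iff_map_eq_zero]
      intro x hx
      obtain ⟨x, rfl⟩ := Submodule.Quotient.mk_surjective _ x
      rw [LinearMap.reduceModIdeal_apply, Submodule.Quotient.mk_eq_zero] at hx
      rw [Submodule.Quotient.mk_eq_zero]
      exact hinj n x hx
    · intro y
      obtain ⟨y, rfl⟩ := Submodule.Quotient.mk_surjective _ y
      obtain ⟨x, hx⟩ := hsurj n y
      refine ⟨Submodule.Quotient.mk x, ?_⟩
      rw [LinearMap.reduceModIdeal_apply, eq_comm, Submodule.Quotient.eq]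
      exact hx
  constructor
  · rw [injective_iff_map_eq_zero]
    intro x hx
    apply AdicCompletion.ext
    intro n
    have h1 : (AdicCompletion.map I f x).val n = 0 := by rw [hx]; rfl
    rw [AdicCompletion.map_val_apply] at h1
    have h2 : x.val n = 0 := (hg n).1 (by rw [h1, map_zero])
    rw [h2]
    rfl
  · intro y
    choose g hg' using fun n => (hg n).2 (y.val n)
    have hcompat : ∀ {m n : ℕ} (hmn : m ≤ n),
        AdicCompletion.transitionMap I M hmn (g n) = g m := by
      intro m n hmn
      apply (hg m).1
      have h1 := LinearMap.congr_fun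
        (AdicCompletion.transitionMap_comp_reduceModIdeal I f hmn) (g n)
      simp only [LinearMap.coe_comp, Function.comp_apply] at h1
      have h2 : (f.reduceModIdeal (I ^ m)) (AdicCompletion.transitionMap I M hmn (g n)) =
          AdicCompletion.transitionMap I N hmn ((f.reduceModIdeal (I ^ n)) (g n)) := h1.symm
      rw [h2, hg' n, hg' m]
      exact y.2 hmn
    let x : AdicCompletion I M := ⟨g, hcompat⟩
    refine ⟨x, ?_⟩
    apply AdicCompletion.ext
    intro n
    rw [AdicCompletion.map_val_apply]
    exact hg' n

end Groth.Agent.Helper8.PairNoeth
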