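import Mathlib
import Groth.Prelude.Def_W4c3degenlocivbPfaff

/-!
Sub-Pfaffians of a general skew matrix of binary linear forms span the binary forms of degree `r`
(for S16355).  Generic-determinant argument with an explicit tridiagonal witness.
-/

set_option autoImplicit false

namespace Groth.Agent.Lib.Helper8.PfSpan

open W4c3degenlocivb MvPolynomial

universe u v w

section general

variable {R : Type v} {S : Type w} [CommRing R] [CommRing S]

/-- ring homs commute with `pf`. -/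
theorem pf_map (f : R →+* S) :
    ∀ (n : ℕ) (T : Matrix (Fin n) (Fin n) R), f (pf n T) = pf n (T.map f) := by
  intro n
  induction n using Nat.twoStepInduction with
  | zero => intro T; simp [pf]
  | one => intro T; simp [pf]
  | more n ih0 _ =>
    intro T
    rw [pf, pf, map_sum]
    refine Finset.sum_congr rfl fun j _ => ?_
    rw [map_mul, map_mul, map_pow, map_neg, map_one, ih0]
    rfl

/-- `pf` of a matrix of linear forms is homogeneous of degree `n / 2`. -/
theorem pf_isHomogeneous {σ : Type*} :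
    ∀ (n : ℕ) (T : Matrix (Fin n) (Fin n) (MvPolynomial σ R)),
      (∀ i j, (T i j).IsHomogeneous 1) → (pf n T).IsHomogeneous (n / 2) := by
  intro n
  induction n using Nat.twoStepInduction with
  | zero =>
    intro T _
    rw [pf, Nat.zero_div]
    exact isHomogeneous_one σ R
  | one =>
    intro T _
    have h1 : (1 : ℕ) / 2 = 0 := by norm_num
    rw [pf, h1]
    exact isHomogeneous_zero σ R _
  | more n ih0 _ =>
    intro T hT
    rw [pf]
    have hn : (n + 2) / 2 = 1 + n / 2 := by omega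
    rw [hn]
    refine IsHomogeneous.sum _ _ _ fun j _ => ?_
    refine IsHomogeneous.mul ?_ (ih0 _ fun a b =>
      hT (Fin.castSucc (j.succAbove a)) (Fin.castSucc (j.succAbove b)))
    rcases neg_one_pow_eq_or (MvPolynomial σ R) ((j : ℕ) + 1) with h | h
    · rw [h, one_mul]; exact hT _ _
    · rw [h, neg_one_mul]; exact (hT _ _).neg

/-- `pf` of a lower-Hessenberg ("tridiagonal from below") matrix of even size. -/
theorem pf_tridiag (d : ℕ → R) :
    ∀ (n : ℕ) (T : Matrix (Fin n) (Fin n) R), Even n →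
      (∀ a b : Fin n, (b : ℕ) + 1 < (a : ℕ) → T a b = 0) →
      (∀ (l : ℕ) (h : 2 * l + 1 < n), T ⟨2 * l + 1, h⟩ ⟨2 * l, by omega⟩ = - d l) →
      pf n T = ∏ l ∈ Finset.range (n / 2), d l := by
  intro n
  induction n using Nat.twoStepInduction with
  | zero => intro T _ _ _; simp [pf]
  | one => intro T h1; exact absurd h1 Nat.not_even_one
  | more n ih0 _ =>
    intro T hev htri hd
    have hevn : Even n := by
      rcases hev with ⟨t, ht⟩
      exact ⟨t - 1, by omega⟩
    rw [pf, Finset.sum_eq_single (Fin.last n)]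
    · rw [Fin.succAbove_last]
      have hn2 : (n + 2) / 2 = n / 2 + 1 := by omega
      rw [hn2, Finset.prod_range_succ]
      rw [ih0 (T.submatrix (Fin.castSucc ∘ Fin.castSucc) (Fin.castSucc ∘ Fin.castSucc)) hevn
        (fun a b hab => htri (Fin.castSucc (Fin.castSucc a)) (Fin.castSucc (Fin.castSucc b))
          (by simpa using hab))
        (fun l h => hd l (by omega))]
      have h2 : 2 * (n / 2) = n := Nat.two_mul_div_two_of_even hevn
      have e1 : (⟨2 * (n / 2) + 1, by omega⟩ : Fin (n + 2)) = Fin.last (n + 1) := by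
        apply Fin.ext
        show 2 * (n / 2) + 1 = n + 1
        omega
      have e2 : (⟨2 * (n / 2), by omega⟩ : Fin (n + 2)) = Fin.castSucc (Fin.last n) := by
        apply Fin.ext
        show 2 * (n / 2) = n
        exact h2
      have hlast := hd (n / 2) (by omega)
      rw [e1, e2] at hlast
      rw [hlast, Fin.val_last, Odd.neg_one_pow (hevn.add_one)]
      ring
    · intro j _ hj
      have hjn : (j : ℕ) ≠ n := fun h => hj (by apply Fin.ext; simpa using h)
      have hjlt := j.isLt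
      have : T (Fin.last (n + 1)) (Fin.castSucc j) = 0 := by
        apply htri
        show (j : ℕ) + 1 < n + 1
        omega
      rw [this, mul_zero, zero_mul]
    · intro h; exact absurd (Finset.mem_univ _) h

theorem sA_val {n : ℕ} (i : Fin (n + 1)) (a : Fin n) :
    ((i.succAbove a : Fin (n + 1)) : ℕ) = if (a : ℕ) < (i : ℕ) then (a : ℕ) else (a : ℕ) + 1 := by
  by_cases h : (a : ℕ) < (i : ℕ)
  · rw [if_pos h, Fin.succAbove_of_castSucc_lt i a (Fin.lt_def.mpr (by simpa using h))]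
    simp
  · rw [if_neg h, Fin.succAbove_of_le_castSucc i a (Fin.le_def.mpr (by simpa using not_lt.mp h))]
    simp

theorem sA_val' {n : ℕ} (i : Fin (n + 1)) (a : ℕ) (ha : a < n) :
    ((i.succAbove ⟨a, ha⟩ : Fin (n + 1)) : ℕ) = if a < (i : ℕ) then a else a + 1 :=
  sA_val i ⟨a, ha⟩

theorem prod_split {M : Type*} [CommMonoid M] (x y : M) (s r : ℕ) (hs : s ≤ r) :
    ∏ l ∈ Finset.range r, (if l < s then x else y) = x ^ s * y ^ (r - s) := by
  obtain ⟨t, rfl⟩ := Nat.exists_eq_add_of_le hs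
  rw [Finset.prod_range_add, Nat.add_sub_cancel_left]
  have h1 : ∏ l ∈ Finset.range s, (if l < s then x else y) = ∏ _l ∈ Finset.range s, x :=
    Finset.prod_congr rfl (fun l hl => if_pos (Finset.mem_range.mp hl))
  have h2 : ∏ l ∈ Finset.range t, (if s + l < s then x else y) = ∏ _l ∈ Finset.range t, y :=
    Finset.prod_congr rfl (fun l _ => if_neg (by omega))
  rw [h1, h2, Finset.prod_const, Finset.prod_const, Finset.card_range, Finset.card_range]

/-! ### the matrices of linear forms -/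

/-- the matrix of binary linear forms with coefficient array `c`. -/
noncomputable def Nmat {m : ℕ} (c : Fin m → Fin m → Fin 2 → R) :
    Matrix (Fin m) (Fin m) (MvPolynomial (Fin 2) R) :=
  Matrix.of fun a b => ∑ l : Fin 2, C (c a b l) * X l

theorem Nmat_apply {m : ℕ} (c : Fin m → Fin m → Fin 2 → R) (a b : Fin m) :
    Nmat c a b = ∑ l : Fin 2, C (c a b l) * X l := rfl

theorem Nmat_isHomogeneous {m : ℕ} (c : Fin m → Fin m → Fin 2 → R) (a b : Fin m) :
    (Nmat c a b).IsHomogeneous 1 := by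
  rw [Nmat_apply]
  exact IsHomogeneous.sum _ _ _ fun l _ => isHomogeneous_C_mul_X _ _

theorem Nmat_map (f : R →+* S) {m : ℕ} (c : Fin m → Fin m → Fin 2 → R) :
    (Nmat c).map (MvPolynomial.map f) = Nmat (fun a b l => f (c a b l)) := by
  refine Matrix.ext fun a b => ?_
  simp only [Matrix.map_apply, Nmat_apply, map_sum, map_mul, MvPolynomial.map_C, MvPolynomial.map_X]

/-- the `i`-th principal sub-Pfaffian. -/
noncomputable def PfSub (r : ℕ) (c : Fin (2 * r + 1) → Fin (2 * r + 1) → Fin 2 → R)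
    (i : Fin (2 * r + 1)) : MvPolynomial (Fin 2) R :=
  pf (2 * r) ((Nmat c).submatrix i.succAbove i.succAbove)

theorem PfSub_map (f : R →+* S) (r : ℕ) (c : Fin (2 * r + 1) → Fin (2 * r + 1) → Fin 2 → R)
    (i : Fin (2 * r + 1)) :
    MvPolynomial.map f (PfSub r c i) = PfSub r (fun a b l => f (c a b l)) i := by
  unfold PfSub
  rw [pf_map, ← Nmat_map f c]
  rfl

theorem PfSub_isHomogeneous (r : ℕ) (c : Fin (2 * r + 1) → Fin (2 * r + 1) → Fin 2 → R)
    (i : Fin (2 * r + 1)) : (PfSub r c i).IsHomogeneous r := by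
  have h := pf_isHomogeneous (2 * r) ((Nmat c).submatrix i.succAbove i.succAbove)
    (fun a b => Nmat_isHomogeneous c _ _)
  rwa [Nat.mul_div_cancel_left r (by norm_num : 0 < 2)] at h

/-! ### binary monomials -/

/-- the exponent vector of `y₀^s y₁^(r-s)`. -/
noncomputable def mono (r s : ℕ) : Fin 2 →₀ ℕ := Finsupp.single 0 s + Finsupp.single 1 (r - s)

theorem mono_apply_zero (r s : ℕ) : (mono r s) 0 = s := by
  simp [mono, Finsupp.single_apply]

theorem mono_apply_one (r s : ℕ) : (mono r s) 1 = r - s := by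
  simp [mono, Finsupp.single_apply]

theorem mono_inj (r : ℕ) {s s' : Fin (r + 1)} (h : mono r s = mono r s') : s = s' := by
  apply Fin.ext
  have := DFunLike.congr_fun h 0
  rwa [mono_apply_zero, mono_apply_zero] at this

theorem monomial_mono (r s : ℕ) :
    (monomial (mono r s) (1 : R) : MvPolynomial (Fin 2) R) = X 0 ^ s * X 1 ^ (r - s) := by
  rw [X_pow_eq_monomial, X_pow_eq_monomial, monomial_mul, one_mul, mono]

theorem hom_ext2 (r : ℕ) {p q : MvPolynomial (Fin 2) R} (hp : p.IsHomogeneous r)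
    (hq : q.IsHomogeneous r)
    (h : ∀ t : Fin (r + 1), coeff (mono r t) p = coeff (mono r t) q) : p = q := by
  ext v
  by_cases hv : v 0 + v 1 = r
  · have hv0 : v 0 < r + 1 := by omega
    have e0 : (mono r (v 0)) 0 = v 0 := mono_apply_zero r (v 0)
    have e1 : (mono r (v 0)) 1 = v 1 := by rw [mono_apply_one]; omega
    have hvm : v = mono r (v 0) := by
      apply Finsupp.ext
      exact Fin.forall_fin_two.mpr ⟨e0.symm, e1.symm⟩
    rw [hvm]
    exact h ⟨v 0, hv0⟩
  · have hdeg : Finsupp.degree v ≠ r := by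
      rw [Finsupp.degree_eq_sum, Fin.sum_univ_two]; exact hv
    rw [hp.coeff_eq_zero hdeg, hq.coeff_eq_zero hdeg]

/-! ### the coefficient matrix of the even-indexed sub-Pfaffians -/

/-- the even index `2 s`. -/
def idx2 (r : ℕ) (s : Fin (r + 1)) : Fin (2 * r + 1) :=
  ⟨2 * (s : ℕ), by have := s.isLt; omega⟩

/-- coefficient matrix: row `s'` = coefficients of the sub-Pfaffian at index `2 s'`. -/
noncomputable def Mmat (r : ℕ) (c : Fin (2 * r + 1) → Fin (2 * r + 1) → Fin 2 → R) :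
    Matrix (Fin (r + 1)) (Fin (r + 1)) R :=
  Matrix.of fun s' s => coeff (mono r (s : ℕ)) (PfSub r c (idx2 r s'))

/-! ### the witness -/

/-- the tridiagonal witness: entry `(a, a+1)` is `y_{a mod 2}`. -/
def c0 (R : Type v) [CommRing R] (r : ℕ) : Fin (2 * r + 1) → Fin (2 * r + 1) → Fin 2 → R :=
  fun a b l => if (a : ℕ) + 1 = (b : ℕ) ∧ (a : ℕ) % 2 = (l : ℕ) then 1
    else if (b : ℕ) + 1 = (a : ℕ) ∧ (b : ℕ) % 2 = (l : ℕ) then -1 else 0

theorem c0_antisymm (r : ℕ) (i j : Fin (2 * r + 1)) (l : Fin 2) :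
    c0 R r j i l = - c0 R r i j l := by
  by_cases h1 : (i : ℕ) + 1 = (j : ℕ) ∧ (i : ℕ) % 2 = (l : ℕ)
  · have h2 : ¬ ((j : ℕ) + 1 = (i : ℕ) ∧ (j : ℕ) % 2 = (l : ℕ)) := fun h => by
      have := h.1; have := h1.1; omega
    simp only [c0, if_pos h1, if_neg h2]
  · by_cases h2 : (j : ℕ) + 1 = (i : ℕ) ∧ (j : ℕ) % 2 = (l : ℕ)
    · simp only [c0, if_neg h1, if_pos h2, neg_neg]
    · simp only [c0, if_neg h1, if_neg h2, neg_zero]

theorem c0_eq_zero (r : ℕ) (x y : Fin (2 * r + 1)) (l : Fin 2) (h1 : (x : ℕ) + 1 ≠ (y : ℕ))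
    (h2 : (y : ℕ) + 1 ≠ (x : ℕ)) : c0 R r x y l = 0 := by
  simp only [c0]
  rw [if_neg (fun h => h1 h.1), if_neg (fun h => h2 h.1)]

theorem c0_sub (r : ℕ) (x y : Fin (2 * r + 1)) (l : Fin 2) (h : (y : ℕ) + 1 = (x : ℕ)) :
    c0 R r x y l = if (y : ℕ) % 2 = (l : ℕ) then -1 else 0 := by
  have hn : ¬ ((x : ℕ) + 1 = (y : ℕ) ∧ (x : ℕ) % 2 = (l : ℕ)) := fun h' => by
    have := h'.1; omega
  simp only [c0]
  rw [if_neg hn]
  by_cases hl : (y : ℕ) % 2 = (l : ℕ)
  · rw [if_pos ⟨h, hl⟩, if_pos hl]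
  · rw [if_neg (fun h' => hl h'.2), if_neg hl]

theorem Nmat_c0_zero (r : ℕ) (x y : Fin (2 * r + 1)) (h1 : (x : ℕ) + 1 ≠ (y : ℕ))
    (h2 : (y : ℕ) + 1 ≠ (x : ℕ)) : Nmat (c0 R r) x y = 0 := by
  rw [Nmat_apply, Fin.sum_univ_two, c0_eq_zero r x y 0 h1 h2, c0_eq_zero r x y 1 h1 h2]
  simp

theorem Nmat_c0_even (r : ℕ) (x y : Fin (2 * r + 1)) (h : (y : ℕ) + 1 = (x : ℕ))
    (hy : (y : ℕ) % 2 = 0) : Nmat (c0 R r) x y = - X 0 := by
  have hc0 : (y : ℕ) % 2 = ((0 : Fin 2) : ℕ) := by rw [hy]; rfl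
  have hc1 : ¬ ((y : ℕ) % 2 = ((1 : Fin 2) : ℕ)) := by rw [hy]; decide
  have e0 : c0 R r x y 0 = -1 := by rw [c0_sub r x y 0 h, if_pos hc0]
  have e1 : c0 R r x y 1 = 0 := by rw [c0_sub r x y 1 h, if_neg hc1]
  rw [Nmat_apply, Fin.sum_univ_two, e0, e1]
  simp

theorem Nmat_c0_odd (r : ℕ) (x y : Fin (2 * r + 1)) (h : (y : ℕ) + 1 = (x : ℕ))
    (hy : (y : ℕ) % 2 = 1) : Nmat (c0 R r) x y = - X 1 := by
  have hc0 : ¬ ((y : ℕ) % 2 = ((0 : Fin 2) : ℕ)) := by rw [hy]; decide
  have hc1 : (y : ℕ) % 2 = ((1 : Fin 2) : ℕ) := by rw [hy]; rfl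
  have e0 : c0 R r x y 0 = 0 := by rw [c0_sub r x y 0 h, if_neg hc0]
  have e1 : c0 R r x y 1 = -1 := by rw [c0_sub r x y 1 h, if_pos hc1]
  rw [Nmat_apply, Fin.sum_univ_two, e0, e1]
  simp

theorem PfSub_c0 (r : ℕ) (s' : Fin (r + 1)) :
    PfSub r (c0 R r) (idx2 r s') = monomial (mono r (s' : ℕ)) 1 := by
  have hi0 : ((idx2 r s' : Fin (2 * r + 1)) : ℕ) = 2 * (s' : ℕ) := rfl
  obtain ⟨i, hi'⟩ : ∃ i, i = idx2 r s' := ⟨_, rfl⟩
  have hi : (i : ℕ) = 2 * (s' : ℕ) := by rw [hi']; exact hi0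
  rw [← hi']
  have hs : (s' : ℕ) ≤ r := Nat.lt_succ_iff.mp s'.isLt
  have htri : ∀ a b : Fin (2 * r), (b : ℕ) + 1 < (a : ℕ) →
      ((Nmat (c0 R r)).submatrix i.succAbove i.succAbove) a b = 0 := by
    intro a b hab
    show Nmat (c0 R r) (i.succAbove a) (i.succAbove b) = 0
    have ha := sA_val i a
    have hb := sA_val i b
    apply Nmat_c0_zero
    · split_ifs at ha hb <;> omega
    · split_ifs at ha hb <;> omega
  have hd : ∀ (l : ℕ) (h : 2 * l + 1 < 2 * r),
      ((Nmat (c0 R r)).submatrix i.succAbove i.succAbove) ⟨2 * l + 1, h⟩ ⟨2 * l, by omega⟩ =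
        - (if l < (s' : ℕ) then (X 0 : MvPolynomial (Fin 2) R) else X 1) := by
    intro l h
    show Nmat (c0 R r) (i.succAbove ⟨2 * l + 1, h⟩) (i.succAbove ⟨2 * l, by omega⟩) = _
    by_cases hl : l < (s' : ℕ)
    · rw [if_pos hl]
      apply Nmat_c0_even
      · rw [sA_val', sA_val', if_pos (by omega), if_pos (by omega)]
      · rw [sA_val', if_pos (by omega)]; omega
    · rw [if_neg hl]
      apply Nmat_c0_odd
      · rw [sA_val', sA_val', if_neg (by omega), if_neg (by omega)]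
      · rw [sA_val', if_neg (by omega)]; omega
  have key := pf_tridiag (fun l => if l < (s' : ℕ) then (X 0 : MvPolynomial (Fin 2) R) else X 1)
    (2 * r) _ (even_two_mul r) htri hd
  unfold PfSub
  rw [key, Nat.mul_div_cancel_left r (by norm_num : 0 < 2), prod_split _ _ _ _ hs, ← monomial_mono]

theorem Mmat_c0 (r : ℕ) : Mmat r (c0 R r) = 1 := by
  refine Matrix.ext fun s' s => ?_
  rw [Mmat, Matrix.of_apply, PfSub_c0, coeff_monomial, Matrix.one_apply]
  by_cases h : s' = s
  · rw [if_pos h, if_pos (by rw [h])]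
  · rw [if_neg h, if_neg (fun h' => h (mono_inj r h'))]

end general

/-! ### the generic matrix and the polynomial `Φ` -/

section field

variable (k : Type u) [Field k] (r : ℕ)

/-- the index type of the coefficient variables. -/
abbrev Idx (r : ℕ) := Fin (2 * r + 1) × Fin (2 * r + 1) × Fin 2

/-- the generic coefficient array. -/
noncomputable def cgen : Fin (2 * r + 1) → Fin (2 * r + 1) → Fin 2 → MvPolynomial (Idx r) k :=
  fun a b l => X (a, b, l)

variable {k r}

/-- evaluation at a coefficient array. -/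
noncomputable def ev (c : Fin (2 * r + 1) → Fin (2 * r + 1) → Fin 2 → k) :
    MvPolynomial (Idx r) k →+* k :=
  eval (fun p => c p.1 p.2.1 p.2.2)

theorem ev_cgen (c : Fin (2 * r + 1) → Fin (2 * r + 1) → Fin 2 → k) :
    (fun a b l => ev c (cgen k r a b l)) = c := by
  funext a b l
  simp [ev, cgen]

variable (k r)

/-- the discriminant-like polynomial: determinant of the generic coefficient matrix. -/
noncomputable def Phi : MvPolynomial (Idx r) k := (Mmat r (cgen k r)).det

variable {k r}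

theorem ev_Phi (c : Fin (2 * r + 1) → Fin (2 * r + 1) → Fin 2 → k) :
    ev c (Phi k r) = (Mmat r c).det := by
  unfold Phi
  rw [RingHom.map_det]
  congr 1
  refine Matrix.ext fun s' s => ?_
  rw [RingHom.mapMatrix_apply, Matrix.map_apply, Mmat, Mmat, Matrix.of_apply, Matrix.of_apply,
    ← coeff_map (ev c), PfSub_map, ev_cgen]

theorem span_eq_of_det_ne_zero (c : Fin (2 * r + 1) → Fin (2 * r + 1) → Fin 2 → k)
    (hdet : (Mmat r c).det ≠ 0) :
    Submodule.span k (Set.range fun i : Fin (2 * r + 1) => PfSub r c i) =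
      homogeneousSubmodule (Fin 2) k r := by
  have hmem : ∀ i, PfSub r c i ∈ homogeneousSubmodule (Fin 2) k r := fun i =>
    (mem_homogeneousSubmodule r _).mpr (PfSub_isHomogeneous r c i)
  apply le_antisymm
  · rw [Submodule.span_le]
    rintro _ ⟨i, rfl⟩
    exact hmem i
  · intro p hp
    have hp' : p.IsHomogeneous r := (mem_homogeneousSubmodule r p).mp hp
    obtain ⟨M, hM⟩ : ∃ M, M = Mmat r c := ⟨_, rfl⟩
    have hu : IsUnit M.det := by rw [hM]; exact isUnit_iff_ne_zero.mpr hdet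
    obtain ⟨pv, hpv⟩ : ∃ pv : Fin (r + 1) → k, pv = fun s : Fin (r + 1) => coeff (mono r (s : ℕ)) p := ⟨_, rfl⟩
    obtain ⟨a, ha⟩ : ∃ a : Fin (r + 1) → k, a = Matrix.vecMul pv M⁻¹ := ⟨_, rfl⟩
    have h2 : Matrix.vecMul a M = pv := by
      rw [ha, Matrix.vecMul_vecMul, Matrix.nonsing_inv_mul _ hu, Matrix.vecMul_one]
    have hq : (∑ s' : Fin (r + 1), a s' • PfSub r c (idx2 r s')) ∈
        homogeneousSubmodule (Fin 2) k r :=
      Submodule.sum_mem _ fun s' _ => Submodule.smul_mem _ _ (hmem _)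
    have key : p = ∑ s' : Fin (r + 1), a s' • PfSub r c (idx2 r s') := by
      apply hom_ext2 r hp' ((mem_homogeneousSubmodule r _).mp hq)
      intro t
      rw [coeff_sum]
      simp only [coeff_smul, smul_eq_mul]
      have hMt : ∀ s', coeff (mono r (t : ℕ)) (PfSub r c (idx2 r s')) = M s' t := by
        intro s'; rw [hM]; rfl
      simp only [hMt]
      have h3 := congrFun h2 t
      rw [hpv] at h3
      exact h3.symm
    rw [key]
    exact Submodule.sum_mem _ fun s' _ =>
      Submodule.smul_mem _ _ (Submodule.subset_span ⟨idx2 r s', rfl⟩)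

theorem main (k : Type u) [Field k] (r : ℕ) :
    ∃ Φ : MvPolynomial (Fin (2 * r + 1) × Fin (2 * r + 1) × Fin 2) k,
      (∃ c : Fin (2 * r + 1) → Fin (2 * r + 1) → Fin 2 → k, (∀ i j l, c j i l = -c i j l) ∧
        MvPolynomial.eval (fun p => c p.1 p.2.1 p.2.2) Φ ≠ 0) ∧
      ∀ c : Fin (2 * r + 1) → Fin (2 * r + 1) → Fin 2 → k, (∀ i j l, c j i l = -c i j l) →
        MvPolynomial.eval (fun p => c p.1 p.2.1 p.2.2) Φ ≠ 0 →
        Submodule.span k (Set.range fun i : Fin (2 * r + 1) =>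
            W4c3degenlocivb.pf (2 * r) ((Matrix.of fun a b => ∑ l : Fin 2,
              MvPolynomial.C (c a b l) * MvPolynomial.X l).submatrix i.succAbove i.succAbove)) =
          MvPolynomial.homogeneousSubmodule (Fin 2) k r := by
  refine ⟨Phi k r, ⟨c0 k r, c0_antisymm r, ?_⟩, ?_⟩
  · change ev (c0 k r) (Phi k r) ≠ 0
    rw [ev_Phi, Mmat_c0, Matrix.det_one]
    exact one_ne_zero
  · intro c _ hc
    change ev c (Phi k r) ≠ 0 at hc
    rw [ev_Phi] at hc
    exact span_eq_of_det_ne_zero c hc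

end field

end Groth.Agent.Lib.Helper8.PfSpan
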