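import Mathlib
import Groth.Agent.Lib.Helper1.TorL

/-!
# Vanishing of `Tor₁` from a presentation with a contracting homotopy on an ideal

If `φ : P₁ → P₀` is a map from a flat module such that every `b ∈ J` admits `h` with
`h ∘ φ = b • id`, and `M` is killed by `I`, has a regular element `x` with `x ^ n ∈ I ⊔ J`, then
`M ⊗ φ` is injective.  We also provide the base-change construction of such a `φ`.
-/

set_option autoImplicit false
universe u

namespace Groth.Agent.Helper8.Planar

open CategoryTheory Limits TensorProduct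

section A

variable {R : Type u} [CommRing R] {P₁ P₀ M X : Type u} [AddCommGroup P₁] [Module R P₁]
  [AddCommGroup P₀] [Module R P₀] [AddCommGroup M] [Module R M] [AddCommGroup X] [Module R X]

theorem smul_tensor_eq_zero_of_mem_annihilator {a : R} (ha : a ∈ Module.annihilator R M)
    (z : M ⊗[R] P₁) : a • z = 0 := by
  induction z using TensorProduct.induction_on with
  | zero => simp
  | tmul m p =>
    rw [TensorProduct.smul_tmul', Module.mem_annihilator.mp ha m, TensorProduct.zero_tmul]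
  | add z w hz hw => rw [smul_add, hz, hw, add_zero]

theorem lTensor_injective_of_homotopy [Module.Flat R P₁] (φ : P₁ →ₗ[R] P₀) (I J : Ideal R)
    (hJ : ∀ b ∈ J, ∃ h : P₀ →ₗ[R] P₁, ∀ p, h (φ p) = b • p)
    (hI : I ≤ Module.annihilator R M) (x : R) (n : ℕ) (hx : x ^ n ∈ I ⊔ J)
    (hxM : IsSMulRegular M x) : Function.Injective (φ.lTensor M) := by
  rw [injective_iff_map_eq_zero]
  intro z hz
  have hreg : IsSMulRegular (M ⊗[R] P₁) (x ^ n) := IsSMulRegular.rTensor (M := P₁) (hxM.pow n)
  obtain ⟨a, ha, b, hb, hab⟩ := Submodule.mem_sup.mp hx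
  have h1 : a • z = 0 := smul_tensor_eq_zero_of_mem_annihilator (hI ha) z
  have h2 : b • z = 0 := by
    obtain ⟨h, hh⟩ := hJ b hb
    have h3 : (h.lTensor M) ((φ.lTensor M) z) = b • z := by
      rw [← LinearMap.comp_apply, ← LinearMap.lTensor_comp]
      have : h ∘ₗ φ = b • LinearMap.id := by
        ext p; simp [hh]
      rw [this, LinearMap.lTensor_smul, LinearMap.lTensor_id]
      simp
    rw [← h3, hz, map_zero]
  have h4 : x ^ n • z = 0 := by rw [← hab, add_smul, h1, h2, add_zero]
  exact hreg (by change x ^ n • z = x ^ n • (0 : M ⊗[R] P₁); rw [h4, smul_zero])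

theorem isZero_tor_one_of_lTensor_injective [Module.Flat R P₀] (φ : P₁ →ₗ[R] P₀)
    (g : P₀ →ₗ[R] X) (hg : Function.Surjective g) (hex : Function.Exact φ g)
    (hinj : Function.Injective (φ.lTensor M)) :
    IsZero (((Tor (ModuleCat.{u} R) 1).obj (ModuleCat.of R M)).obj (ModuleCat.of R X)) := by
  have key := (Groth.Agent.Helper1.TorL.isZero_tor_one_iff_lTensor_injective
    (LinearMap.ker g).subtype g (Submodule.injective_subtype _) hg
    (LinearMap.exact_subtype_ker_map g) M).mpr
  apply key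
  have hmem : ∀ p, φ p ∈ LinearMap.ker g := fun p => (hex (φ p)).mpr ⟨p, rfl⟩
  let φ' : P₁ →ₗ[R] LinearMap.ker g := φ.codRestrict (LinearMap.ker g) hmem
  have hφ' : Function.Surjective φ' := by
    rintro ⟨q, hq⟩
    obtain ⟨p, hp⟩ := (hex q).mp hq
    exact ⟨p, Subtype.ext hp⟩
  have hcomp : (LinearMap.ker g).subtype ∘ₗ φ' = φ := by
    ext p; rfl
  have hsurj : Function.Surjective (φ'.lTensor M) := LinearMap.lTensor_surjective M hφ'
  rw [injective_iff_map_eq_zero]
  intro z hz
  obtain ⟨w, rfl⟩ := hsurj z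
  rw [← LinearMap.comp_apply, ← LinearMap.lTensor_comp, hcomp] at hz
  have hw : w = 0 := (injective_iff_map_eq_zero _).mp hinj w hz
  rw [hw, map_zero]

end A

section B

variable {S R : Type u} [CommRing S] [CommRing R] [Algebra S R]
  (hπ : Function.Surjective (algebraMap S R))
  {Q₀ X : Type u} [AddCommGroup Q₀] [Module S Q₀] [AddCommGroup X] [Module R X] [Module S X]
  [IsScalarTower S R X] (g₀ : Q₀ →ₗ[S] X)

include hπ in
theorem exists_one_tmul (Q : Type u) [AddCommGroup Q] [Module S Q] (z : R ⊗[S] Q) :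
    ∃ q : Q, z = (1 : R) ⊗ₜ[S] q := by
  induction z using TensorProduct.induction_on with
  | zero => exact ⟨0, by simp⟩
  | tmul r q =>
    obtain ⟨s, rfl⟩ := hπ r
    refine ⟨s • q, ?_⟩
    rw [← TensorProduct.smul_tmul, Algebra.smul_def, mul_one]
  | add z w hz hw =>
    obtain ⟨q, rfl⟩ := hz
    obtain ⟨q', rfl⟩ := hw
    exact ⟨q + q', by rw [TensorProduct.tmul_add]⟩

/-- The base-changed inclusion of the kernel. -/
noncomputable def φB : R ⊗[S] (LinearMap.ker g₀) →ₗ[R] R ⊗[S] Q₀ :=
  (LinearMap.ker g₀).subtype.baseChange R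

/-- The base-changed augmentation. -/
noncomputable def gB : R ⊗[S] Q₀ →ₗ[R] X := g₀.liftBaseChange R

theorem gB_surjective (hg₀ : Function.Surjective g₀) : Function.Surjective (gB (R := R) g₀) := by
  intro x
  obtain ⟨q, rfl⟩ := hg₀ x
  exact ⟨1 ⊗ₜ q, by simp [gB]⟩

include hπ in
theorem exact_φB_gB : Function.Exact (φB (R := R) g₀) (gB (R := R) g₀) := by
  intro z
  constructor
  · intro hz
    obtain ⟨q, rfl⟩ := exists_one_tmul hπ Q₀ z
    have hq : g₀ q = 0 := by simpa [gB] using hz
    exact ⟨1 ⊗ₜ ⟨q, hq⟩, by simp [φB]⟩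
  · rintro ⟨w, rfl⟩
    obtain ⟨q, rfl⟩ := exists_one_tmul hπ _ w
    have : g₀ q.1 = 0 := q.2
    simp [φB, gB, this]

include hπ in
theorem exists_homotopy (b : R) (hb : ∀ x : X, b • x = 0) :
    ∃ h : R ⊗[S] Q₀ →ₗ[R] R ⊗[S] (LinearMap.ker g₀), ∀ p, h (φB (R := R) g₀ p) = b • p := by
  obtain ⟨s, rfl⟩ := hπ b
  have hmem : ∀ q : Q₀, (s • LinearMap.id : Q₀ →ₗ[S] Q₀) q ∈ LinearMap.ker g₀ := by
    intro q
    rw [LinearMap.mem_ker, LinearMap.smul_apply, LinearMap.id_apply, map_smul,
      ← algebraMap_smul R s (g₀ q)]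
    exact hb _
  let h₀ : Q₀ →ₗ[S] LinearMap.ker g₀ := (s • LinearMap.id).codRestrict (LinearMap.ker g₀) hmem
  have hcomp : h₀ ∘ₗ (LinearMap.ker g₀).subtype = s • LinearMap.id := by
    ext q; rfl
  refine ⟨h₀.baseChange R, fun p => ?_⟩
  unfold φB
  rw [← LinearMap.comp_apply, ← LinearMap.baseChange_comp, hcomp, LinearMap.baseChange_smul,
    LinearMap.baseChange_id, LinearMap.smul_apply, LinearMap.id_apply, algebraMap_smul]

include hπ in
/-- Main vanishing statement over `R`, given a presentation over `S` whose kernel is flat. -/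
theorem isZero_tor_one_of_presentation [Module.Flat S Q₀] [Module.Flat S (LinearMap.ker g₀)]
    (hg₀ : Function.Surjective g₀) {M : Type u} [AddCommGroup M] [Module R M] (I J : Ideal R)
    (hI : I ≤ Module.annihilator R M) (hJ : J ≤ Module.annihilator R X) (x : R) (n : ℕ)
    (hx : x ^ n ∈ I ⊔ J) (hxM : IsSMulRegular M x) :
    IsZero (((Tor (ModuleCat.{u} R) 1).obj (ModuleCat.of R M)).obj (ModuleCat.of R X)) := by
  refine isZero_tor_one_of_lTensor_injective (φB (R := R) g₀) (gB (R := R) g₀)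
    (gB_surjective g₀ hg₀) (exact_φB_gB hπ g₀) ?_
  refine lTensor_injective_of_homotopy (φB (R := R) g₀) I J ?_ hI x n hx hxM
  intro b hb
  exact exists_homotopy hπ g₀ b (fun x => Module.mem_annihilator.mp (hJ hb) x)

end B

end Groth.Agent.Helper8.Planar
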