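import Mathlib
import Groth.Prelude

/-!
# Kernels in four-term exact sequences of projective modules, and their localizations
-/

set_option autoImplicit false
universe u

namespace Groth.Agent.Helper8.QGorBC

section proj

variable {R : Type u} [CommRing R] {P0 P1 G : Type u} [AddCommGroup P0] [Module R P0]
  [AddCommGroup P1] [Module R P1] [AddCommGroup G] [Module R G]

/-- The kernel of a surjection onto a projective module is a direct summand. -/
theorem projective_ker_of_surjective [Module.Projective R P1] [Module.Projective R G]
    (v : P1 →ₗ[R] G) (hv : Function.Surjective v) : Module.Projective R (LinearMap.ker v) := by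
  obtain ⟨s, hs⟩ := Module.projective_lifting_property v LinearMap.id hv
  have hs' : ∀ g, v (s g) = g := fun g => LinearMap.congr_fun hs g
  let r : P1 →ₗ[R] LinearMap.ker v :=
    LinearMap.codRestrict (LinearMap.ker v) (LinearMap.id - s ∘ₗ v) (fun x => by
      rw [LinearMap.mem_ker, LinearMap.sub_apply, map_sub, LinearMap.id_apply,
        LinearMap.comp_apply, hs', sub_self])
  refine Module.Projective.of_split (LinearMap.ker v).subtype r ?_
  ext x
  have hx : v x = 0 := x.2
  simp only [LinearMap.comp_apply, Submodule.subtype_apply, LinearMap.id_apply]
  change (x : P1) - s (v x) = x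
  rw [hx, map_zero, sub_zero]

/-- In an exact sequence `0 → K → P⁰ → P¹ → G → 0` with `P⁰, P¹, G` projective the kernel `K`
is projective. -/
theorem projective_ker_of_exact [Module.Projective R P0] [Module.Projective R P1]
    [Module.Projective R G] (u : P0 →ₗ[R] P1) (v : P1 →ₗ[R] G) (huv : Function.Exact u v)
    (hv : Function.Surjective v) : Module.Projective R (LinearMap.ker u) := by
  haveI : Module.Projective R (LinearMap.ker v) := projective_ker_of_surjective v hv
  have hrange : LinearMap.range u = LinearMap.ker v := (LinearMap.exact_iff.mp huv).symm
  haveI : Module.Projective R (LinearMap.range u) := by rw [hrange]; infer_instance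
  have h := projective_ker_of_surjective u.rangeRestrict u.surjective_rangeRestrict
  rwa [LinearMap.ker_rangeRestrict] at h

end proj

section loc

variable {B : Type u} [CommRing B] (S : Submonoid B) {E0 E1 G : Type u}
  [AddCommGroup E0] [Module B E0] [AddCommGroup E1] [Module B E1] [AddCommGroup G] [Module B G]

/-- The localized map, as a map over the localization. -/
noncomputable def locMap (u : E0 →ₗ[B] E1) :
    LocalizedModule S E0 →ₗ[Localization S] LocalizedModule S E1 :=
  (IsLocalizedModule.map S (LocalizedModule.mkLinearMap S E0) (LocalizedModule.mkLinearMap S E1)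
    u).extendScalarsOfIsLocalization S (Localization S)

theorem locMap_apply (u : E0 →ₗ[B] E1) (x : LocalizedModule S E0) :
    locMap S u x = IsLocalizedModule.map S (LocalizedModule.mkLinearMap S E0)
      (LocalizedModule.mkLinearMap S E1) u x := rfl

theorem locMap_exact (u : E0 →ₗ[B] E1) (v : E1 →ₗ[B] G) (huv : Function.Exact u v) :
    Function.Exact (locMap S u) (locMap S v) :=
  IsLocalizedModule.map_exact S (LocalizedModule.mkLinearMap S E0)
    (LocalizedModule.mkLinearMap S E1) (LocalizedModule.mkLinearMap S G) u v huv

theorem locMap_surjective (v : E1 →ₗ[B] G) (hv : Function.Surjective v) :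
    Function.Surjective (locMap S v) :=
  IsLocalizedModule.map_surjective S (LocalizedModule.mkLinearMap S E1)
    (LocalizedModule.mkLinearMap S G) v hv

theorem locMap_injective (u : E0 →ₗ[B] E1) (hu : Function.Injective u) :
    Function.Injective (locMap S u) :=
  IsLocalizedModule.map_injective S (LocalizedModule.mkLinearMap S E0)
    (LocalizedModule.mkLinearMap S E1) u hu

/-- Localization commutes with kernels. -/
noncomputable def locKerEquiv (u : E0 →ₗ[B] E1) :
    LocalizedModule S (LinearMap.ker u) ≃ₗ[Localization S] LinearMap.ker (locMap S u) :=
  (Submodule.localizedEquiv S (LinearMap.ker u)).symm ≪≫ₗ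
    LinearEquiv.ofEq _ _ (LinearMap.localized'_ker_eq_ker_localizedMap (Localization S) S
      (LocalizedModule.mkLinearMap S E0) (LocalizedModule.mkLinearMap S E1) u)

/-- The stalk of the kernel in a four-term exact sequence with projective terms is projective
where the stalk of the cokernel is. -/
theorem projective_localizedModule_ker [Module.Projective B E0] [Module.Projective B E1]
    (u : E0 →ₗ[B] E1) (v : E1 →ₗ[B] G) (huv : Function.Exact u v) (hv : Function.Surjective v)
    [Module.Projective (Localization S) (LocalizedModule S G)] :
    Module.Projective (Localization S) (LocalizedModule S (LinearMap.ker u)) := by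
  haveI := projective_ker_of_exact (locMap S u) (locMap S v) (locMap_exact S u v huv)
    (locMap_surjective S v hv)
  exact Module.Projective.of_equiv (locKerEquiv S u).symm

end loc

end Groth.Agent.Helper8.QGorBC
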