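import Mathlib
import Groth.Agent.Lib.Helper8.Planar1
import Groth.Agent.Lib.Helper8.ABS24
import Groth.Agent.Lib.Helper8.QGorBC1

/-!
# Syzygies over a two-dimensional regular local ring and the planar `Tor₁` vanishing
-/

set_option autoImplicit false
universe u

namespace Groth.Agent.Helper8.Planar

open CategoryTheory Abelian Limits IsLocalRing LocCoh Depth Groth.Agent.Helper8.ABS

theorem projective_ker_of_regular_dim_two (S : Type u) [CommRing S] [IsRegularLocalRing S]
    (hS : ringKrullDim S = 2) (X : Type u) [AddCommGroup X] [Module S X] [Module.Finite S X]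
    (s : S) (hs : s ∈ maximalIdeal S) (hsX : IsSMulRegular X s)
    {Q₀ : Type u} [AddCommGroup Q₀] [Module S Q₀] [Module.Projective S Q₀]
    (g₀ : Q₀ →ₗ[S] X) (hg₀ : Function.Surjective g₀) :
    Module.Projective S (LinearMap.ker g₀) := by
  rcases subsingleton_or_nontrivial X with hX | hX
  · haveI : Module.Free S X := Module.Free.of_subsingleton S X
    exact Groth.Agent.Helper8.QGorBC.projective_ker_of_surjective g₀ hg₀
  · have hdepth : 1 ≤ depth S X := by
      rw [Order.one_le_iff_ne_zero]
      intro h0
      rw [depth_eq_zero_iff] at h0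
      exact notMem_associatedPrime_of_isSMulRegular h0 hsX hs
    obtain ⟨N, hN, hpd⟩ := exists_hasProjectiveDimensionLT_of_regular S X
    obtain ⟨e, -, he⟩ := exists_projectiveDimension_eq X N hpd
    have hab := auslander_buchsbaum S X e he
    have hdA : ((depth S S : ℕ∞) : WithBot ℕ∞) = 2 := by rw [depth_eq_dim_of_regular, hS]
    have hdA' : depth S S = 2 := by
      have : ((depth S S : ℕ∞) : WithBot ℕ∞) = ((2 : ℕ∞) : WithBot ℕ∞) := hdA
      exact WithBot.coe_injective this
    have he1 : e ≤ 1 := by
      rw [hdA'] at hab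
      have h2 : (e : ℕ∞) + 1 ≤ 2 := by
        rw [hab]; exact add_le_add_right hdepth _
      have h3 : ((e + 1 : ℕ) : ℕ∞) ≤ ((2 : ℕ) : ℕ∞) := by exact_mod_cast h2
      have := Nat.cast_le.mp h3
      omega
    have hpd2 : HasProjectiveDimensionLT (ModuleCat.of S X) 2 := by
      have hle : projectiveDimension (ModuleCat.of S X) ≤ (1 : ℕ) := by
        rw [he]; exact_mod_cast he1
      exact (projectiveDimension_le_iff _ 1).mp hle
    let SC : ShortComplex (ModuleCat.{u} S) :=
      ShortComplex.mk (ModuleCat.ofHom (LinearMap.ker g₀).subtype) (ModuleCat.ofHom g₀) (by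
        ext x
        exact x.2)
    have hSC : SC.ShortExact :=
      ModuleCat.shortComplex_shortExact _ (LinearMap.exact_subtype_ker_map g₀)
        (Submodule.injective_subtype _) hg₀
    have h2 : HasProjectiveDimensionLT SC.X₂ 1 := by
      have : Projective (ModuleCat.of S Q₀) :=
        (IsProjective.iff_projective _).mp (inferInstance : Module.Projective S Q₀)
      exact projective_iff_hasProjectiveDimensionLT_one.mp this
    have h3 : HasProjectiveDimensionLT SC.X₃ (1 + 1) := hpd2
    have h1 : HasProjectiveDimensionLT (ModuleCat.of S (LinearMap.ker g₀)) 1 :=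
      hSC.hasProjectiveDimensionLT_X₁ 1 h2 h3
    have h1' : Projective (ModuleCat.of S (LinearMap.ker g₀)) :=
      projective_iff_hasProjectiveDimensionLT_one.mpr h1
    exact (IsProjective.iff_projective _).mpr h1'

theorem exists_regular_of_reduced_quotient (S : Type u) [CommRing S] [IsRegularLocalRing S]
    (hS : ringKrullDim S = 2) (R : Type u) [CommRing R] [IsLocalRing R] [IsReduced R]
    [Algebra S R] (hπ : Function.Surjective (algebraMap S R)) (f : S)
    (hker : RingHom.ker (algebraMap S R) = Ideal.span {f}) :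
    ∃ s ∈ maximalIdeal S, IsSMulRegular R (algebraMap S R s) := by
  obtain ⟨K, hK⟩ : ∃ K : Ideal S, K = RingHom.ker (algebraMap S R) := ⟨_, rfl⟩
  have hmemK : ∀ a : S, a ∈ K ↔ algebraMap S R a = 0 := by
    intro a; rw [hK]; exact RingHom.mem_ker
  let e : S ⧸ RingHom.ker (algebraMap S R) ≃+* R := RingHom.quotientKerEquivOfSurjective hπ
  haveI : IsReduced (S ⧸ K) := by
    rw [hK]
    exact isReduced_of_injective e.toRingHom e.injective
  have hKtop : K ≠ ⊤ := by rw [hK]; exact RingHom.ker_ne_top _
  have hle : K ≤ maximalIdeal S := le_maximalIdeal hKtop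
  have hne : K ≠ maximalIdeal S := by
    intro h
    have h1 : ((maximalIdeal S).spanFinrank : WithBot ℕ∞) = ringKrullDim S :=
      IsRegularLocalRing.spanFinrank_maximalIdeal (R := S)
    rw [hS, ← h, hK, hker] at h1
    have h2 : (Ideal.span {f}).spanFinrank ≤ 1 := by
      have := Submodule.spanFinrank_span_le_ncard_of_finite (R := S) (Set.finite_singleton f)
      simpa using this
    have h3 : (Ideal.span {f}).spanFinrank = 2 := by exact_mod_cast h1
    omega
  have hdepth := one_le_depth_quotient_of_isReduced S K hle hne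
  have hnot : maximalIdeal S ∉ associatedPrimes S (S ⧸ K) := by
    intro h
    rw [← depth_eq_zero_iff] at h
    rw [h] at hdepth
    simp at hdepth
  rw [← forall_not_isSMulRegular_iff] at hnot
  push Not at hnot
  obtain ⟨s, hs, hreg⟩ := hnot
  refine ⟨s, hs, ?_⟩
  intro a b hab
  obtain ⟨a', rfl⟩ := hπ a
  obtain ⟨b', rfl⟩ := hπ b
  have hab' : algebraMap S R s * algebraMap S R a' = algebraMap S R s * algebraMap S R b' := hab
  have h1 : algebraMap S R (s * a' - s * b') = 0 := by
    rw [map_sub, map_mul, map_mul]; exact sub_eq_zero.mpr hab'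
  have h2 : s * a' - s * b' ∈ K := (hmemK _).mpr h1
  have h3 : s • (Ideal.Quotient.mk K a') = s • (Ideal.Quotient.mk K b') := by
    have e1 : ∀ c : S, s • (Ideal.Quotient.mk K c) = Ideal.Quotient.mk K (s * c) := by
      intro c; rw [map_mul]; rfl
    rw [e1, e1]
    exact Ideal.Quotient.eq.mpr h2
  have h4 := hreg h3
  have h5 : a' - b' ∈ K := Ideal.Quotient.eq.mp h4
  have h6 := (hmemK _).mp h5
  rw [map_sub] at h6
  exact sub_eq_zero.mp h6

theorem main (S : Type u) [CommRing S] [IsRegularLocalRing S] (hS : ringKrullDim S = 2)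
    (R : Type u) [CommRing R] [IsLocalRing R] [IsReduced R] [Algebra S R]
    (hπ : Function.Surjective (algebraMap S R)) (f : S)
    (hker : RingHom.ker (algebraMap S R) = Ideal.span {f})
    (I J : Ideal R) (n : ℕ) (hIJ : maximalIdeal R ^ n ≤ I ⊔ J)
    (M X : Type u) [AddCommGroup M] [Module R M] [AddCommGroup X] [Module R X]
    [Module.Finite R X]
    (hI : I ≤ Module.annihilator R M) (hJ : J ≤ Module.annihilator R X)
    (x : R) (hx : x ∈ maximalIdeal R) (hxM : IsSMulRegular M x)
    (htf : ∀ r : R, IsSMulRegular R r → IsSMulRegular X r) :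
    IsZero (((Tor (ModuleCat.{u} R) 1).obj (ModuleCat.of R M)).obj (ModuleCat.of R X)) := by
  letI : Module S X := Module.compHom X (algebraMap S R)
  haveI : IsScalarTower S R X := ⟨fun s r x => by
    change (s • r) • x = algebraMap S R s • (r • x)
    rw [Algebra.smul_def, mul_smul]⟩
  haveI : Module.Finite S R := Module.Finite.of_surjective (Algebra.linearMap S R) hπ
  haveI : Module.Finite S X := Module.Finite.trans R X
  obtain ⟨s, hs, hsR⟩ := exists_regular_of_reduced_quotient S hS R hπ f hker
  have hsX : IsSMulRegular X s := by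
    have h1 := htf _ hsR
    intro a b hab
    exact h1 hab
  obtain ⟨k, g₀, hg₀⟩ := Module.Finite.exists_fin' S X
  haveI := projective_ker_of_regular_dim_two S hS X s hs hsX g₀ hg₀
  have hxn : x ^ n ∈ I ⊔ J := hIJ (Ideal.pow_mem_pow hx n)
  exact isZero_tor_one_of_presentation hπ g₀ hg₀ I J hI hJ x n hxn hxM

end Groth.Agent.Helper8.Planar
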