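import Mathlib
import Groth.Agent.Lib.Helper8.Planar2

/-!
# The planar `Ext²` vanishing
-/

set_option autoImplicit false
universe u

namespace Groth.Agent.Helper8.Planar

open CategoryTheory Abelian Limits IsLocalRing TensorProduct

section A

variable {R : Type u} [CommRing R] {P₁ P₀ M N : Type u} [AddCommGroup P₁] [Module R P₁]
  [AddCommGroup P₀] [Module R P₀] [AddCommGroup M] [Module R M] [AddCommGroup N] [Module R N]

theorem subsingleton_ext_two_of_presentation [Module.Projective R P₁] [Module.Projective R P₀]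
    (φ : P₁ →ₗ[R] P₀) (g : P₀ →ₗ[R] M) (hg : Function.Surjective g)
    (hex : Function.Exact φ g)
    (hHom : ∀ ψ : LinearMap.ker φ →ₗ[R] N, ψ = 0) :
    Subsingleton (Ext (ModuleCat.of R M) (ModuleCat.of R N) 2) := by
  have hmem : ∀ p, φ p ∈ LinearMap.ker g := fun p => (hex (φ p)).mpr ⟨p, rfl⟩
  let φ' : P₁ →ₗ[R] LinearMap.ker g := φ.codRestrict (LinearMap.ker g) hmem
  have hφ' : Function.Surjective φ' := by
    rintro ⟨q, hq⟩
    obtain ⟨p, hp⟩ := (hex q).mp hq
    exact ⟨p, Subtype.ext hp⟩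
  have hkerφ' : LinearMap.ker φ' = LinearMap.ker φ := by
    ext p
    rw [LinearMap.mem_ker, LinearMap.mem_ker]
    constructor
    · intro h
      have := congrArg Subtype.val h
      exact this
    · intro h
      exact Subtype.ext h
  let SC1 : ShortComplex (ModuleCat.{u} R) :=
    ShortComplex.mk (ModuleCat.ofHom (LinearMap.ker g).subtype) (ModuleCat.ofHom g) (by
      ext x
      exact x.2)
  have hSC1 : SC1.ShortExact :=
    ModuleCat.shortComplex_shortExact _ (LinearMap.exact_subtype_ker_map g)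
      (Submodule.injective_subtype _) hg
  let SC2 : ShortComplex (ModuleCat.{u} R) :=
    ShortComplex.mk (ModuleCat.ofHom (LinearMap.ker φ').subtype) (ModuleCat.ofHom φ') (by
      ext x
      exact congrArg Subtype.val (x.2 : φ' x.1 = 0))
  have hSC2 : SC2.ShortExact :=
    ModuleCat.shortComplex_shortExact _ (LinearMap.exact_subtype_ker_map φ')
      (Submodule.injective_subtype _) hφ'
  haveI : Projective SC1.X₂ :=
    (IsProjective.iff_projective _).mp (inferInstance : Module.Projective R P₀)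
  haveI : Projective SC2.X₂ :=
    (IsProjective.iff_projective _).mp (inferInstance : Module.Projective R P₁)
  refine subsingleton_of_forall_eq 0 fun x₃ => ?_
  have x₃' : Ext SC1.X₃ (ModuleCat.of R N) 2 := x₃
  obtain ⟨x₁, hx₁⟩ := Ext.contravariant_sequence_exact₃ hSC1 (ModuleCat.of R N) (n₁ := 2)
    (x₃ : Ext SC1.X₃ (ModuleCat.of R N) 2) (Ext.eq_zero_of_projective _) (n₀ := 1) rfl
  obtain ⟨x₀, hx₀⟩ := Ext.contravariant_sequence_exact₃ hSC2 (ModuleCat.of R N) (n₁ := 1)
    (x₁ : Ext SC2.X₃ (ModuleCat.of R N) 1) (Ext.eq_zero_of_projective _) (n₀ := 0) rfl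
  have hx₀0 : x₀ = 0 := by
    obtain ⟨ψ, rfl⟩ := (Ext.mk₀_bijective _ _).2 x₀
    have hψ : ψ = 0 := by
      ext k
      let e : LinearMap.ker φ ≃ₗ[R] LinearMap.ker φ' := LinearEquiv.ofEq _ _ hkerφ'.symm
      have h1 := hHom (ψ.hom ∘ₗ e.toLinearMap)
      have h2 := LinearMap.congr_fun h1 (e.symm k)
      simpa using h2
    rw [hψ, Ext.mk₀_zero]
  rw [hx₀0, Ext.comp_zero] at hx₀
  rw [← hx₀, Ext.comp_zero] at hx₁
  exact hx₁.symm

end A

section B

variable {S R : Type u} [CommRing S] [CommRing R] [Algebra S R]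
  (hπ : Function.Surjective (algebraMap S R))
  {Q₀ M : Type u} [AddCommGroup Q₀] [Module S Q₀] [AddCommGroup M] [Module R M] [Module S M]
  [IsScalarTower S R M] (g₀ : Q₀ →ₗ[S] M)

include hπ in
theorem subsingleton_ext_two_of_presentation_base [Module.Projective S Q₀]
    [Module.Projective S (LinearMap.ker g₀)]
    (hg₀ : Function.Surjective g₀) {N : Type u} [AddCommGroup N] [Module R N] (I J : Ideal R)
    (hI : I ≤ Module.annihilator R M) (hJ : J ≤ Module.annihilator R N) (y : R) (n : ℕ)
    (hy : y ^ n ∈ I ⊔ J) (hyN : IsSMulRegular N y) :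
    Subsingleton (Ext (ModuleCat.of R M) (ModuleCat.of R N) 2) := by
  refine subsingleton_ext_two_of_presentation (φB (R := R) g₀) (gB (R := R) g₀)
    (gB_surjective g₀ hg₀) (exact_φB_gB hπ g₀) ?_
  intro ψ
  apply LinearMap.ext
  intro k
  rw [LinearMap.zero_apply]
  have hreg : IsSMulRegular N (y ^ n) := hyN.pow n
  obtain ⟨a, ha, b, hb, hab⟩ := Submodule.mem_sup.mp hy
  have h1 : a • ψ k = 0 := by
    obtain ⟨h, hh⟩ := exists_homotopy hπ g₀ a (fun m => Module.mem_annihilator.mp (hI ha) m)
    have hk : a • (k : R ⊗[S] (LinearMap.ker g₀)) = 0 := by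
      rw [← hh k.1, k.2, map_zero]
    have hk' : a • k = 0 := Subtype.ext hk
    rw [← map_smul, hk', map_zero]
  have h2 : b • ψ k = 0 := Module.mem_annihilator.mp (hJ hb) _
  have h3 : y ^ n • ψ k = 0 := by rw [← hab, add_smul, h1, h2, add_zero]
  exact hreg (by change y ^ n • ψ k = y ^ n • (0 : N); rw [h3, smul_zero])

end B

theorem main_ext (S : Type u) [CommRing S] [IsRegularLocalRing S] (hS : ringKrullDim S = 2)
    (R : Type u) [CommRing R] [IsLocalRing R] [Algebra S R]
    (hπ : Function.Surjective (algebraMap S R))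
    (I J : Ideal R) (n : ℕ) (hIJ : maximalIdeal R ^ n ≤ I ⊔ J)
    (M N : Type u) [AddCommGroup M] [Module R M] [Module.Finite R M] [AddCommGroup N] [Module R N]
    (hI : I ≤ Module.annihilator R M) (hJ : J ≤ Module.annihilator R N)
    (x : R) (hx : x ∈ maximalIdeal R) (hxM : IsSMulRegular M x)
    (y : R) (hy : y ∈ maximalIdeal R) (hyN : IsSMulRegular N y) :
    Subsingleton (Ext (ModuleCat.of R M) (ModuleCat.of R N) 2) := by
  letI : Module S M := Module.compHom M (algebraMap S R)
  haveI : IsScalarTower S R M := ⟨fun s r x => by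
    change (s • r) • x = algebraMap S R s • (r • x)
    rw [Algebra.smul_def, mul_smul]⟩
  haveI : Module.Finite S R := Module.Finite.of_surjective (Algebra.linearMap S R) hπ
  haveI : Module.Finite S M := Module.Finite.trans R M
  obtain ⟨s, rfl⟩ := hπ x
  have hs : s ∈ maximalIdeal S := by
    rw [mem_maximalIdeal, mem_nonunits_iff] at hx ⊢
    intro hu
    exact hx (hu.map _)
  have hsM : IsSMulRegular M s := by
    intro a b hab
    exact hxM hab
  obtain ⟨k, g₀, hg₀⟩ := Module.Finite.exists_fin' S M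
  haveI := projective_ker_of_regular_dim_two S hS M s hs hsM g₀ hg₀
  have hyn : y ^ n ∈ I ⊔ J := hIJ (Ideal.pow_mem_pow hy n)
  exact subsingleton_ext_two_of_presentation_base hπ g₀ hg₀ I J hI hJ y n hyn hyN

end Groth.Agent.Helper8.Planar
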