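import Mathlib
import Groth.Prelude
import Groth.Agent.Lib.Helper8.PolyG4
import Groth.Agent.Lib.Helper8.GRing9
import Groth.Agent.Lib.Helper8.MvPSLocal

/-!
# Formal fibres of local rings of polynomial rings over complete local rings
-/

set_option autoImplicit false

universe u

namespace Groth.Agent.Helper8.PolyG

open IsLocalRing TensorProduct CAlgX Polynomial

/-- Formal fibres of the local rings of `A[X]`, `A` complete local. -/
theorem formalFibre_polynomial_of_complete (A : Type u) [CommRing A] [IsLocalRing A]
    [IsNoetherianRing A] [IsAdicComplete (maximalIdeal A) A] (q : Ideal A[X]) [q.IsPrime]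
    (R : Ideal (Localization.AtPrime q)) [R.IsPrime] :
    CAlg.IsGeometricallyRegular R.ResidueField (EGA4.formalFibre (Localization.AtPrime q) R) :=
  ((isRegularHom_cpl_polynomial_atPrime A
    (Groth.Agent.Helper8.GRing.isGRing_of_isAdicComplete A) q).2 R).2

/-- Formal fibres of the local rings of `k[[x]][y]`. -/
theorem formalFibre_mvPolynomial_mvPowerSeries (k : Type u) [Field k] (n m : ℕ)
    (P : Ideal (MvPolynomial (Fin m) (MvPowerSeries (Fin n) k))) [P.IsPrime]
    (R : Ideal (Localization.AtPrime P)) [R.IsPrime] :
    CAlg.IsGeometricallyRegular (@Ideal.ResidueField (Localization.AtPrime P) _ R _)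
      (EGA4.formalFibre (Localization.AtPrime P) R) := by
  haveI : IsNoetherianRing (MvPowerSeries (Fin n) k) := inferInstance
  have h1 : CAlg.IsGRing (MvPowerSeries (Fin n) k) :=
    Groth.Agent.Helper8.GRing.isGRing_of_isAdicComplete _
  have h2 := isGRing_mvPolynomial _ h1 m
  exact ((h2.2 P).2 R).2

end Groth.Agent.Helper8.PolyG
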