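import Mathlib
import Groth.Prelude.Def_W4sga6xxiiiPolyMap

/-!
# Integer-valued polynomial maps on groups with a `p`-divisible subgroup of torsion cokernel
-/

set_option autoImplicit false

namespace Groth.Agent.Helper8.PolyMapConst

open Polynomial Finset

/-- the binomial polynomial `X(X-1)⋯(X-j+1)/j!` -/
noncomputable def binomPoly (j : ℕ) : ℚ[X] := C ((j.factorial : ℚ)⁻¹) * descPochhammer ℚ j

lemma binomPoly_eval_natCast (j n : ℕ) : (binomPoly j).eval (n : ℚ) = (n.choose j : ℚ) := by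
  unfold binomPoly
  rw [eval_mul, eval_C, descPochhammer_eval_eq_descFactorial, Nat.descFactorial_eq_factorial_mul_choose]
  push_cast
  have : (j.factorial : ℚ) ≠ 0 := by exact_mod_cast j.factorial_ne_zero
  field_simp

/-- polynomial representation along one element -/
theorem exists_poly {G : Type*} [AddCommGroup G] (f : G → ℚ) (hf : W4sga6xxiii.IsPolyMap f)
    (x : G) : ∃ P : ℚ[X], ∀ n : ℕ, f (n • x) = P.eval (n : ℚ) := by
  obtain ⟨m, y, -, hy⟩ := hf 1 (fun _ => x)
  refine ⟨∑ k : Fin 1 → Fin (m + 1), C (y k) * binomPoly (k 0 : ℕ), fun n => ?_⟩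
  have h := hy (fun _ => (n : ℤ))
  simp only [Fin.sum_univ_one, Fin.prod_univ_one] at h
  rw [natCast_zsmul] at h
  rw [h, eval_finsetSum]
  refine Finset.sum_congr rfl fun k _ => ?_
  rw [eval_mul, eval_C, binomPoly_eval_natCast, Ring.choose_natCast, zsmul_eq_mul]
  push_cast
  ring

/-- Newton divisibility for integer valued polynomial functions of bounded degree -/
theorem newton_dvd (P : ℚ[X]) (F : ℕ → ℤ) (hF : ∀ n : ℕ, P.eval (n : ℚ) = F n) (d : ℕ)
    (hd : P.natDegree ≤ d) (n : ℕ) : (n : ℤ) ∣ (d.factorial : ℤ) * (F n - F 0) := by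
  -- integer finite differences
  set c : ℕ → ℤ := fun k => ∑ i ∈ range (k + 1), ((-1) ^ (k - i) * (k.choose i : ℤ)) * F i with hc
  have hcQ : ∀ k, ((fwdDiff (1 : ℚ))^[k] (fun r => P.eval r) 0) = (c k : ℚ) := by
    intro k
    rw [fwdDiff_iter_eq_sum_shift]
    simp only [hc]
    push_cast
    refine Finset.sum_congr rfl fun i _ => ?_
    rw [zero_add, nsmul_eq_mul, mul_one, hF i, zsmul_eq_mul]
    push_cast
    ring
  have hc0 : ∀ k, d < k → c k = 0 := by
    intro k hk
    have h1 := Polynomial.fwdDiff_iter_eq_zero_of_degree_lt (P := P) (lt_of_le_of_lt hd hk)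
    have h2 : ((c k : ℤ) : ℚ) = 0 := by
      rw [← hcQ k, h1]
      rfl
    exact_mod_cast h2
  have hnewton : ∀ n : ℕ, F n = ∑ k ∈ range (n + 1), (n.choose k : ℤ) * c k := by
    intro n
    have h := shift_eq_sum_fwdDiff_iter (1 : ℚ) (fun r => P.eval r) n 0
    simp only [zero_add, nsmul_eq_mul, mul_one] at h
    rw [hF n] at h
    have : ((F n : ℤ) : ℚ) = ((∑ k ∈ range (n + 1), (n.choose k : ℤ) * c k : ℤ) : ℚ) := by
      rw [h]
      push_cast
      refine Finset.sum_congr rfl fun k _ => ?_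
      rw [hcQ k]
    exact_mod_cast this
  have hF0 : F 0 = c 0 := by
    rw [hnewton 0]
    simp
  rw [hnewton n, Finset.sum_range_succ' _ n]
  simp only [Nat.choose_zero_right, Nat.cast_one, one_mul]
  rw [hF0, add_sub_cancel_right, Finset.mul_sum]
  refine Finset.dvd_sum fun k _ => ?_
  by_cases hk : d < k + 1
  · rw [hc0 (k + 1) hk, mul_zero, mul_zero]
    exact dvd_zero _
  · push Not at hk
    -- d! * C(n,k+1) = (d!/(k+1)!) * descFactorial n (k+1), divisible by n
    obtain ⟨q, hq⟩ := Nat.factorial_dvd_factorial hk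
    have h1 : (d.factorial : ℤ) * ((n.choose (k + 1) : ℤ) * c (k + 1)) =
        (q : ℤ) * ((n.descFactorial (k + 1) : ℕ) : ℤ) * c (k + 1) := by
      rw [Nat.descFactorial_eq_factorial_mul_choose, hq]
      push_cast
      ring
    rw [h1]
    rcases n with _ | n
    · simp
    · rw [Nat.succ_descFactorial_succ]
      push_cast
      exact ⟨(q : ℤ) * (n.descFactorial k : ℤ) * c (k + 1), by ring⟩

theorem main {G : Type*} [AddCommGroup G] (G' : AddSubgroup G)
    (p : ℕ) (hp : p.Prime) (hdiv : ∀ x ∈ G', ∃ y ∈ G', p • y = x)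
    (htor : ∀ x : G, ∃ n : ℤ, n ≠ 0 ∧ n • x ∈ G')
    (f : G → ℚ) (hf : W4sga6xxiii.IsPolyMap f) (hint : ∀ x, ∃ z : ℤ, f x = z) (x : G) :
    f x = f 0 := by
  choose fz hfz using hint
  -- iterated divisibility
  have hdivj : ∀ (j : ℕ) (x' : G), x' ∈ G' → ∃ y ∈ G', (p ^ j) • y = x' := by
    intro j
    induction j with
    | zero => intro x' hx'; exact ⟨x', hx', by simp⟩
    | succ j ih =>
      intro x' hx'
      obtain ⟨y, hy, hyx⟩ := ih x' hx'
      obtain ⟨w, hw, hwy⟩ := hdiv y hy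
      refine ⟨w, hw, ?_⟩
      rw [pow_succ, mul_smul, hwy, hyx]
  -- Step (b)
  have hb : ∀ x' ∈ G', ∀ t : ℕ, f (t • x') = f 0 := by
    intro x' hx' t
    obtain ⟨Qp, hQp⟩ := exists_poly f hf x'
    set d := Qp.natDegree with hd
    have key : ∀ j : ℕ, ((p ^ j : ℕ) : ℤ) ∣ (d.factorial : ℤ) * (fz (t • x') - fz 0) := by
      intro j
      obtain ⟨y, hy, hyx⟩ := hdivj j x' hx'
      obtain ⟨Pj, hPj⟩ := exists_poly f hf y
      have hpj : ((p ^ j : ℕ) : ℚ) ≠ 0 := by
        exact_mod_cast (pow_pos hp.pos j).ne'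
      have hcomp : Pj.comp (C ((p ^ j : ℕ) : ℚ) * X) = Qp := by
        apply Polynomial.eq_of_infinite_eval_eq
        apply Set.infinite_of_injective_forall_mem (f := fun s : ℕ => (s : ℚ)) Nat.cast_injective
        intro s
        show eval (s : ℚ) (Pj.comp (C ((p ^ j : ℕ) : ℚ) * X)) = eval (s : ℚ) Qp
        rw [eval_comp, eval_mul, eval_C, eval_X, ← hQp s, ← hyx]
        have := hPj (p ^ j * s)
        rw [mul_comm, mul_smul] at this
        rw [this]
        push_cast
        ring_nf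
      have hdeg : Pj.natDegree = d := by
        rw [hd, ← hcomp, natDegree_comp, natDegree_C_mul_X _ hpj, mul_one]
      have hN := newton_dvd Pj (fun n => fz (n • y)) (fun n => by rw [← hPj n, hfz]) d
        hdeg.le (p ^ j * t)
      simp only [zero_smul] at hN
      rw [mul_comm (p ^ j) t, mul_smul, hyx] at hN
      exact (show ((p ^ j : ℕ) : ℤ) ∣ ((t * p ^ j : ℕ) : ℤ) from
        ⟨(t : ℤ), by push_cast; ring⟩).trans hN
    -- an integer divisible by all powers of p vanishes
    set D : ℤ := (d.factorial : ℤ) * (fz (t • x') - fz 0) with hD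
    have hD0 : D = 0 := by
      by_contra hne
      have h1 := key D.natAbs
      have h2 : (p ^ D.natAbs) ∣ D.natAbs := Int.natCast_dvd.mp h1
      have h3 : p ^ D.natAbs ≤ D.natAbs :=
        Nat.le_of_dvd (Int.natAbs_pos.mpr hne) h2
      exact absurd h3 (not_le.mpr (Nat.lt_pow_self hp.one_lt))
    have hfac : (d.factorial : ℤ) ≠ 0 := by exact_mod_cast d.factorial_ne_zero
    have h4 : fz (t • x') - fz 0 = 0 := by
      rcases mul_eq_zero.mp hD0 with h | h
      · exact absurd h hfac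
      · exact h
    rw [hfz (t • x'), hfz 0, sub_eq_zero.mp h4]
  -- Step (a), (c)
  obtain ⟨n, hn0, hn⟩ := htor x
  obtain ⟨N, hNpos, hNx⟩ : ∃ N : ℕ, 0 < N ∧ N • x ∈ G' := by
    refine ⟨n.natAbs, Int.natAbs_pos.mpr hn0, ?_⟩
    rcases Int.natAbs_eq n with h | h
    · rw [← natCast_zsmul, ← h]
      exact hn
    · have : (n.natAbs : ℤ) = -n := by omega
      rw [← natCast_zsmul, this, neg_smul]
      exact G'.neg_mem hn
  obtain ⟨Rp, hRp⟩ := exists_poly f hf x
  have hconst : Rp = C (f 0) := by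
    apply Polynomial.eq_of_infinite_eval_eq
    apply Set.infinite_of_injective_forall_mem (f := fun s : ℕ => ((N * s : ℕ) : ℚ))
    · intro a b hab
      have h0 : ((N * a : ℕ) : ℚ) = ((N * b : ℕ) : ℚ) := hab
      have h1 : N * a = N * b := by exact_mod_cast h0
      exact Nat.eq_of_mul_eq_mul_left hNpos h1
    · intro s
      show eval ((N * s : ℕ) : ℚ) Rp = eval ((N * s : ℕ) : ℚ) (C (f 0))
      rw [eval_C, ← hRp (N * s), mul_comm, mul_smul]
      exact hb _ hNx s
  have h1 := hRp 1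
  rw [one_smul, hconst, eval_C] at h1
  exact h1

end Groth.Agent.Helper8.PolyMapConst
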