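import Mathlib
import Groth.Prelude.Def_DualLC

/-!
# Projective covers
-/

set_option autoImplicit false
universe u

namespace Groth.Agent.Helper8.ProjCover

open IsLocalRing TensorProduct

theorem projectiveCover_unique (R : Type u) [CommRing R] (M P P' : Type u) [AddCommGroup M]
    [Module R M] [AddCommGroup P] [Module R P] [AddCommGroup P'] [Module R P']
    (f : P →ₗ[R] M) (f' : P' →ₗ[R] M) (hf : Dual2.IsProjectiveCover f)
    (hf' : Dual2.IsProjectiveCover f') : ∃ e : P ≃ₗ[R] P', f' ∘ₗ e.toLinearMap = f := by
  haveI := hf.projective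
  haveI := hf'.projective
  obtain ⟨g, hg⟩ := Module.projective_lifting_property f' f hf'.surjective
  have hgsurj : Function.Surjective g := by
    rw [← LinearMap.range_eq_top]
    apply hf'.essential
    rw [← LinearMap.range_comp, hg, LinearMap.range_eq_top]
    exact hf.surjective
  obtain ⟨h, hh⟩ := Module.projective_lifting_property g LinearMap.id hgsurj
  have hfh : f ∘ₗ h = f' := by
    rw [← hg, LinearMap.comp_assoc, hh, LinearMap.comp_id]
  have hhsurj : Function.Surjective h := by
    rw [← LinearMap.range_eq_top]
    apply hf.essential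
    rw [← LinearMap.range_comp, hfh, LinearMap.range_eq_top]
    exact hf'.surjective
  have hginj : Function.Injective g := by
    intro x y hxy
    obtain ⟨x', rfl⟩ := hhsurj x
    obtain ⟨y', rfl⟩ := hhsurj y
    have hx : g (h x') = x' := LinearMap.congr_fun hh x'
    have hy : g (h y') = y' := LinearMap.congr_fun hh y'
    rw [hx, hy] at hxy
    rw [hxy]
  refine ⟨LinearEquiv.ofBijective g ⟨hginj, hgsurj⟩, ?_⟩
  ext x
  exact LinearMap.congr_fun hg x

theorem exists_projectiveCover_of_isLocalRing (R : Type u) [CommRing R] [IsLocalRing R]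
    (M : Type u) [AddCommGroup M] [Module R M] [Module.Finite R M] :
    ∃ (P : Type u) (_ : AddCommGroup P) (_ : Module R P) (f : P →ₗ[R] M),
      Dual2.IsProjectiveCover f := by
  classical
  let k := ResidueField R
  set n := Module.finrank k (k ⊗[R] M) with hn
  let b : Module.Basis (Fin n) k (k ⊗[R] M) := Module.finBasis k (k ⊗[R] M)
  have hsurj : Function.Surjective (TensorProduct.mk R k M 1) :=
    TensorProduct.mk_surjective R M k Ideal.Quotient.mk_surjective
  choose m hm using fun i => hsurj (b i)
  let f : (Fin n → R) →ₗ[R] M := Fintype.linearCombination R m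
  have hfsurj : Function.Surjective f := by
    rw [← LinearMap.range_eq_top, Fintype.range_linearCombination]
    exact IsLocalRing.span_eq_top_of_tmul_eq_basis m b hm
  refine ⟨Fin n → R, inferInstance, inferInstance, f, inferInstance, hfsurj, ?_⟩
  intro N hN
  rw [← IsLocalRing.map_tensorProduct_mk_eq_top]
  -- the base change of `f` is bijective
  let F : k ⊗[R] (Fin n → R) →ₗ[k] k ⊗[R] M := LinearMap.baseChange k f
  have hFsurj : Function.Surjective F := LinearMap.lTensor_surjective k hfsurj
  have hrank : Module.finrank k (k ⊗[R] (Fin n → R)) = Module.finrank k (k ⊗[R] M) := by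
    rw [Module.finrank_baseChange, Module.finrank_pi, Fintype.card_fin]
  have hFinj : Function.Injective F :=
    (LinearMap.injective_iff_surjective_of_finrank_eq_finrank hrank).mpr hFsurj
  have hcomm : ∀ x : Fin n → R, F (TensorProduct.mk R k (Fin n → R) 1 x) =
      TensorProduct.mk R k M 1 (f x) := fun x => by simp [F]
  rw [eq_top_iff]
  intro z _
  have h1 : F z ∈ (Submodule.map f N).map (TensorProduct.mk R k M 1) := by
    rw [hN, Submodule.map_top, LinearMap.range_eq_top.mpr hsurj]
    trivial
  obtain ⟨y, ⟨x, hxN, rfl⟩, hy⟩ := h1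
  refine ⟨x, hxN, hFinj ?_⟩
  rw [hcomm]
  exact hy

end Groth.Agent.Helper8.ProjCover
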