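import Mathlib
import Groth.Agent.Lib.Helper9.IdemLift

set_option autoImplicit false
universe u v w

namespace Groth.Agent.Helper8.ProjLift

open Groth.Agent.Lib.Helper9.IdemLift
open Groth.Agent.Helper9.AdicLim9 (mem_smul_top_pi map_mem_smul_top')

section newton
variable {A : Type u} [CommRing A] {I : Ideal A}
variable {M : Type v} [AddCommGroup M] [Module A M]

/-- Refined version of Helper9's `exists_idem_lift`: the idempotent is the limit of the Newton
sequence. -/
theorem exists_idem_lift_seq [IsHausdorff I M] [IsPrecomplete I M] (f : Module.End A M)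
    (hf : ∀ m, f (f m) - f m ∈ I • (⊤ : Submodule A M)) :
    ∃ e : Module.End A M, (∀ m, e (e m) = e m) ∧
      ∀ n m, seq f n m - e m ∈ I ^ n • (⊤ : Submodule A M) := by
  have hf' : Small I 1 (f ^ 2 - f) := by
    intro m
    rw [pow_one, LinearMap.sub_apply, pow_two, Module.End.mul_apply]
    exact hf m
  have hlim : ∀ m : M, ∃ L : M, ∀ n, seq f n m ≡ L [SMOD (I ^ n • ⊤ : Submodule A M)] := by
    intro m
    apply IsPrecomplete.prec (inferInstance : IsPrecomplete I M)
    intro a b hab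
    rw [SModEq.sub_mem]
    have h1 := (seq_sub_of_le f hf' hab).mono (Nat.le_succ a) m
    rw [LinearMap.sub_apply] at h1
    have h2 : seq f a m - seq f b m = -(seq f b m - seq f a m) := by abel
    rw [h2]
    exact Submodule.neg_mem _ h1
  choose E hE using hlim
  have hE' : ∀ m n, seq f n m - E m ∈ I ^ n • (⊤ : Submodule A M) := fun m n => by
    have := hE m n; rwa [SModEq.sub_mem] at this
  have haus : ∀ x : M, (∀ n, x ∈ I ^ n • (⊤ : Submodule A M)) → x = 0 := by
    intro x hx
    apply IsHausdorff.haus (inferInstance : IsHausdorff I M)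
    intro n; rw [SModEq.zero]; exact hx n
  have hadd : ∀ x y, E (x + y) = E x + E y := by
    intro x y
    rw [← sub_eq_zero]
    apply haus
    intro n
    have h1 : E (x + y) - (E x + E y) =
        (seq f n x - E x) + (seq f n y - E y) - (seq f n (x + y) - E (x + y)) := by
      rw [map_add]; abel
    rw [h1]
    exact Submodule.sub_mem _ (Submodule.add_mem _ (hE' x n) (hE' y n)) (hE' _ n)
  have hsmul : ∀ (c : A) x, E (c • x) = c • E x := by
    intro c x
    rw [← sub_eq_zero]
    apply haus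
    intro n
    have h1 : E (c • x) - c • E x = c • (seq f n x - E x) - (seq f n (c • x) - E (c • x)) := by
      rw [map_smul, smul_sub]; abel
    rw [h1]
    exact Submodule.sub_mem _ (Submodule.smul_mem _ c (hE' x n)) (hE' _ n)
  let e : Module.End A M :=
    { toFun := E
      map_add' := hadd
      map_smul' := hsmul }
  have he : ∀ m, e m = E m := fun m => rfl
  refine ⟨e, ?_, fun n m => hE' m n⟩
  intro m
  rw [← sub_eq_zero]
  apply haus
  intro n
  have h1 : e (e m) - e m = -(seq f n (E m) - E (E m)) - seq f n (seq f n m - E m)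
      + (seq f n (seq f n m) - seq f n m) + (seq f n m - E m) := by
    rw [he, he, map_sub]; abel
  rw [h1]
  refine Submodule.add_mem _ (Submodule.add_mem _ (Submodule.sub_mem _
    (Submodule.neg_mem _ (hE' _ n)) ?_) ?_) (hE' m n)
  · exact map_mem_smul_top' (I ^ n) _ (hE' m n)
  · have h2 := (seq_small f hf' n).mono (Nat.le_succ n) m
    rw [LinearMap.sub_apply, pow_two, Module.End.mul_apply] at h2
    exact h2

end newton

section matrix
variable {B : Type u} [CommRing B]

theorem matrix_pow_entries_mem {r : ℕ} (𝔟 : Ideal B)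
    (d : Matrix (Fin r) (Fin r) B) (hd : ∀ i j, d i j ∈ 𝔟) :
    ∀ n : ℕ, ∀ i j, (d ^ (n + 1)) i j ∈ 𝔟 ^ (n + 1) := by
  intro n
  induction n with
  | zero => intro i j; simpa using hd i j
  | succ n ih =>
    intro i j
    rw [pow_succ d, Matrix.mul_apply, pow_succ 𝔟]
    exact Ideal.sum_mem _ fun k _ => Ideal.mul_mem_mul (ih i k) (hd k j)

theorem exists_pow_le_of_finite_gen (I : Ideal B) (s : Set B) (hs : s.Finite)
    (h : ∀ x ∈ s, ∃ n : ℕ, x ^ n ∈ I) : ∃ N : ℕ, Ideal.span s ^ N ≤ I := by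
  have hfg : ((Ideal.span s).map (Ideal.Quotient.mk I)).FG :=
    Ideal.FG.map (Submodule.fg_span hs) _
  have hle : (Ideal.span s).map (Ideal.Quotient.mk I) ≤ nilradical (B ⧸ I) := by
    rw [Ideal.map_le_iff_le_comap, Ideal.span_le]
    intro x hx
    obtain ⟨n, hn⟩ := h x hx
    show Ideal.Quotient.mk I x ∈ nilradical (B ⧸ I)
    rw [mem_nilradical]
    exact ⟨n, by rw [← map_pow]; exact Ideal.Quotient.eq_zero_iff_mem.mpr hn⟩
  obtain ⟨N, hN⟩ := (Ideal.FG.isNilpotent_iff_le_nilradical hfg).mpr hle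
  refine ⟨N, ?_⟩
  rw [← Ideal.map_pow, Ideal.zero_eq_bot, Ideal.map_eq_bot_iff_le_ker, Ideal.mk_ker] at hN
  exact hN

theorem exists_pow_entries_mem {r : ℕ} (I : Ideal B)
    (d : Matrix (Fin r) (Fin r) B) (hd : ∀ i j, ∃ n : ℕ, (d i j) ^ n ∈ I) :
    ∃ N : ℕ, ∀ i j, (d ^ (N + 1)) i j ∈ I := by
  obtain ⟨N, hN⟩ := exists_pow_le_of_finite_gen I
    (Set.range fun ij : Fin r × Fin r => d ij.1 ij.2) (Set.finite_range _) (by
      rintro _ ⟨ij, rfl⟩
      exact hd ij.1 ij.2)
  refine ⟨N, fun i j => hN ?_⟩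
  have h1 := matrix_pow_entries_mem
    (Ideal.span (Set.range fun ij : Fin r × Fin r => d ij.1 ij.2)) d
    (fun i j => Ideal.subset_span ⟨(i, j), rfl⟩) N i j
  exact Ideal.pow_le_pow_right (Nat.le_succ N) h1

theorem idem_poly_dvd (n : ℕ) :
    ((Polynomial.X : Polynomial ℤ) - Polynomial.X ^ 2) ^ n ∣
      (1 - (1 - (Polynomial.X : Polynomial ℤ) ^ n) ^ n) -
        (1 - (1 - (Polynomial.X : Polynomial ℤ) ^ n) ^ n) ^ 2 := by
  set X : Polynomial ℤ := Polynomial.X
  have h1 : (1 - X) ^ n ∣ (1 - X ^ n) ^ n := by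
    apply pow_dvd_pow_of_dvd
    have := sub_dvd_pow_sub_pow (1 : Polynomial ℤ) X n
    rwa [one_pow] at this
  have h2 : X ^ n ∣ 1 - (1 - X ^ n) ^ n := by
    have := sub_dvd_pow_sub_pow (1 : Polynomial ℤ) (1 - X ^ n) n
    rwa [one_pow, sub_sub_cancel] at this
  have h3 : (1 - (1 - X ^ n) ^ n) - (1 - (1 - X ^ n) ^ n) ^ 2
      = (1 - (1 - X ^ n) ^ n) * (1 - X ^ n) ^ n := by ring
  have h4 : (X - X ^ 2) ^ n = X ^ n * (1 - X) ^ n := by
    rw [← mul_pow]; congr 1; ring
  rw [h3, h4]
  exact mul_dvd_mul h2 h1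

theorem idem_poly_eval {E : Type*} [Ring E] (x : E) (n : ℕ) :
    ∃ q : E, (1 - (1 - x ^ n) ^ n) - (1 - (1 - x ^ n) ^ n) ^ 2 = (x - x ^ 2) ^ n * q := by
  obtain ⟨q, hq⟩ := idem_poly_dvd n
  refine ⟨Polynomial.aeval x q, ?_⟩
  have := congrArg (Polynomial.aeval (R := ℤ) x) hq
  simpa only [map_sub, map_mul, map_pow, map_one, Polynomial.aeval_X] using this

end matrix

section lift
variable {B : Type u} [CommRing B] {R' : Type v} [CommRing R']

/-- coordinatewise map -/
def kap (ψ : B →+* R') (r : ℕ) (m : Fin r → B) : Fin r → R' := fun j => ψ (m j)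

theorem exists_lift_projective (ψ : B →+* R') (hψ : Function.Surjective ψ) (I : Ideal B)
    [IsHausdorff I B] [IsPrecomplete I B]
    (hnil : ∀ x : B, ψ x = 0 → ∃ n : ℕ, x ^ n ∈ I)
    (hcl : ∀ y : R', (∀ k : ℕ, ∃ x ∈ I ^ k, ψ x = y) → y = 0)
    (P' : Type w) [AddCommGroup P'] [Module R' P'] [Module.Finite R' P']
    [Module.Projective R' P'] :
    ∃ (Pt : Type u) (_ : AddCommGroup Pt) (_ : Module B Pt),
      Module.Finite B Pt ∧ Module.Projective B Pt ∧
        ∃ π : Pt →ₛₗ[ψ] P', Function.Surjective π ∧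
          LinearMap.ker π = RingHom.ker ψ • (⊤ : Submodule B Pt) := by
  classical
  obtain ⟨r, f', g', -, -, hfg⟩ := Module.Finite.exists_comp_eq_id_of_projective R' P'
  have hfg' : ∀ y, f' (g' y) = y := fun y => by
    have := LinearMap.congr_fun hfg y; simpa using this
  let eb : (Fin r → R') →ₗ[R'] (Fin r → R') := g' ∘ₗ f'
  have heb : ∀ x, eb (eb x) = eb x := fun x => by
    show g' (f' (g' (f' x))) = g' (f' x)
    rw [hfg']
  let Eb : Matrix (Fin r) (Fin r) R' := LinearMap.toMatrix' eb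
  have hEb : Eb * Eb = Eb := by
    have h1 : eb ∘ₗ eb = eb := LinearMap.ext heb
    show LinearMap.toMatrix' eb * LinearMap.toMatrix' eb = LinearMap.toMatrix' eb
    rw [← LinearMap.toMatrix'_comp, h1]
  let lift : R' → B := Function.surjInv hψ
  have hlift : ∀ y, ψ (lift y) = y := Function.surjInv_eq hψ
  let F0 : Matrix (Fin r) (Fin r) B := Matrix.of fun i j => lift (Eb i j)
  have hF0 : F0.map ψ = Eb := by
    ext i j
    show ψ (lift (Eb i j)) = Eb i j
    exact hlift _
  let Ψ : Matrix (Fin r) (Fin r) B →+* Matrix (Fin r) (Fin r) R' := ψ.mapMatrix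
  have hΨ : ∀ X, Ψ X = X.map ψ := fun X => rfl
  have hD : ∀ i j, ∃ n : ℕ, ((F0 - F0 ^ 2) i j) ^ n ∈ I := by
    intro i j
    apply hnil
    have h1 : Ψ (F0 - F0 ^ 2) = 0 := by
      rw [map_sub, map_pow, hΨ, hF0, pow_two, hEb, sub_self]
    have h2 := congrFun (congrFun h1 i) j
    rw [hΨ] at h2
    exact h2
  obtain ⟨N, hN⟩ := exists_pow_entries_mem I (F0 - F0 ^ 2) hD
  have hidE : IsIdempotentElem Eb := hEb
  obtain ⟨F, hFdef⟩ : ∃ F : Matrix (Fin r) (Fin r) B,
      F = 1 - (1 - F0 ^ (N + 1)) ^ (N + 1) := ⟨_, rfl⟩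
  have hFE : Ψ F = Eb := by
    rw [hFdef, map_sub, map_one, map_pow, map_sub, map_one, map_pow, hΨ F0, hF0,
      hidE.pow_succ_eq N, hidE.one_sub.pow_succ_eq N, sub_sub_cancel]
  obtain ⟨q, hq⟩ := idem_poly_eval F0 (N + 1)
  have hFI : ∀ i j, (F * F - F) i j ∈ I := by
    intro i j
    have h1 : F * F - F = - ((F0 - F0 ^ 2) ^ (N + 1) * q) := by
      rw [← hq, ← hFdef, pow_two]; abel
    rw [h1, Matrix.neg_apply, Matrix.mul_apply]
    exact neg_mem (Ideal.sum_mem _ fun k _ => I.mul_mem_right _ (hN i k))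
  let f : Module.End B (Fin r → B) := Matrix.toLin' F
  have hf : ∀ m, f (f m) - f m ∈ I • (⊤ : Submodule B (Fin r → B)) := by
    intro m
    rw [mem_smul_top_pi]
    intro j
    have h1 : f (f m) - f m = (F * F - F).mulVec m := by
      show Matrix.toLin' F (Matrix.toLin' F m) - Matrix.toLin' F m = _
      rw [Matrix.toLin'_apply, Matrix.toLin'_apply, Matrix.mulVec_mulVec, ← Matrix.sub_mulVec]
    rw [h1]
    show (∑ k, (F * F - F) j k * m k) ∈ I
    exact Ideal.sum_mem _ fun k _ => I.mul_mem_right _ (hFI j k)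
  have : IsHausdorff I (Fin r → B) := isHausdorff_of_projective I _
  have : IsPrecomplete I (Fin r → B) := isPrecomplete_of_projective I _
  obtain ⟨e, he, hseq⟩ := exists_idem_lift_seq (I := I) f hf
  have hkF : ∀ (G : Matrix (Fin r) (Fin r) B) (m : Fin r → B),
      kap ψ r (Matrix.toLin' G m) = Matrix.toLin' (G.map ψ) (kap ψ r m) := by
    intro G m
    funext j
    rw [Matrix.toLin'_apply, Matrix.toLin'_apply]
    exact RingHom.map_mulVec ψ G m j
  have hkap_add : ∀ x y, kap ψ r (x + y) = kap ψ r x + kap ψ r y := fun x y => by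
    funext j; exact map_add ψ _ _
  have hkap_sub : ∀ x y, kap ψ r (x - y) = kap ψ r x - kap ψ r y := fun x y => by
    funext j; exact map_sub ψ _ _
  have hRel0 : ∀ m, kap ψ r (f m) = eb (kap ψ r m) := by
    intro m
    rw [show f m = Matrix.toLin' F m from rfl, hkF, ← hΨ F, hFE]
    show Matrix.toLin' (LinearMap.toMatrix' eb) _ = _
    rw [Matrix.toLin'_toMatrix']
  have hstep : ∀ g : Module.End B (Fin r → B), (∀ m, kap ψ r (g m) = eb (kap ψ r m)) →
      ∀ m, kap ψ r (step g m) = eb (kap ψ r m) := by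
    intro g hg m
    have h1 : step g = g * g + g * g + g * g - (g * g * g + g * g * g) := by
      unfold step; noncomm_ring
    rw [h1]
    simp only [LinearMap.sub_apply, LinearMap.add_apply, Module.End.mul_apply, hkap_add,
      hkap_sub, hg, heb]
    abel
  have hRel : ∀ k m, kap ψ r (seq f k m) = eb (kap ψ r m) := by
    intro k
    induction k with
    | zero => exact hRel0
    | succ k ih => exact hstep _ ih
  have hRele : ∀ m, kap ψ r (e m) = eb (kap ψ r m) := by
    intro m
    funext j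
    rw [← sub_eq_zero]
    apply hcl
    intro k
    refine ⟨(e m - seq f k m) j, ?_, ?_⟩
    · have h1 := hseq k m
      have h2 : e m - seq f k m ∈ I ^ k • (⊤ : Submodule B (Fin r → B)) := by
        rw [← neg_sub]; exact Submodule.neg_mem _ h1
      exact (mem_smul_top_pi _ _).mp h2 j
    · have h3 := congrFun (hRel k m) j
      rw [← h3]
      show ψ (e m j - seq f k m j) = ψ (e m j) - ψ (seq f k m j)
      exact map_sub ψ _ _
  let Pt : Submodule B (Fin r → B) := LinearMap.range e
  have heid : ∀ x : Pt, e x.1 = x.1 := by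
    rintro ⟨_, m, rfl⟩; exact he m
  let s : (Fin r → B) →ₗ[B] Pt := e.rangeRestrict
  have hs : ∀ x : Pt, s x.1 = x := fun x => Subtype.ext (heid x)
  have hproj : Module.Projective B Pt :=
    Module.Projective.of_split Pt.subtype s (LinearMap.ext fun x => hs x)
  have hfin : Module.Finite B Pt := Module.Finite.range e
  let π : Pt →ₛₗ[ψ] P' :=
    { toFun := fun x => f' (kap ψ r x.1)
      map_add' := fun x y => by
        show f' (kap ψ r (x.1 + y.1)) = _
        rw [hkap_add, map_add]
      map_smul' := fun c x => by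
        show f' (kap ψ r (c • x.1)) = ψ c • f' (kap ψ r x.1)
        rw [← map_smul]
        congr 1
        funext j
        show ψ (c * x.1 j) = ψ c * ψ (x.1 j)
        exact map_mul ψ _ _ }
  have hπ : ∀ x : Pt, π x = f' (kap ψ r x.1) := fun x => rfl
  refine ⟨Pt, inferInstance, inferInstance, hfin, hproj, π, ?_, ?_⟩
  · intro y
    let m : Fin r → B := fun j => lift (g' y j)
    have hkm : kap ψ r m = g' y := funext fun j => hlift _
    refine ⟨⟨e m, m, rfl⟩, ?_⟩
    rw [hπ]
    show f' (kap ψ r (e m)) = y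
    rw [hRele, hkm]
    show f' (g' (f' (g' y))) = y
    rw [hfg', hfg']
  · apply le_antisymm
    · intro x hx
      have hx' : f' (kap ψ r x.1) = 0 := hx
      have h1 : kap ψ r x.1 = 0 := by
        have h0 : kap ψ r x.1 = eb (kap ψ r x.1) := by
          conv_lhs => rw [← heid x]
          exact hRele _
        rw [h0]
        show g' (f' (kap ψ r x.1)) = 0
        rw [hx', map_zero]
      have h2 : ∀ j, x.1 j ∈ RingHom.ker ψ := fun j => congrFun h1 j
      rw [← hs x, LinearMap.pi_apply_eq_sum_univ s x.1]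
      exact Submodule.sum_mem _ fun j _ => Submodule.smul_mem_smul (h2 j) Submodule.mem_top
    · rw [Submodule.smul_le]
      intro c hc x _
      rw [LinearMap.mem_ker, map_smulₛₗ, (RingHom.mem_ker).mp hc, zero_smul]

end lift

section uniq

theorem exists_equiv_of_ker_eq {B : Type u} [CommRing B] (J : Ideal B)
    (hJ : J ≤ Ideal.jacobson (⊥ : Ideal B))
    {P₁ : Type v} [AddCommGroup P₁] [Module B P₁] [Module.Finite B P₁] [Module.Projective B P₁]
    {P₂ : Type v} [AddCommGroup P₂] [Module B P₂] [Module.Finite B P₂] [Module.Projective B P₂]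
    {N : Type w} [AddCommGroup N] [Module B N]
    (π₁ : P₁ →ₗ[B] N) (π₂ : P₂ →ₗ[B] N) (h₁ : Function.Surjective π₁)
    (k₁ : LinearMap.ker π₁ = J • (⊤ : Submodule B P₁)) (h₂ : Function.Surjective π₂)
    (k₂ : LinearMap.ker π₂ = J • (⊤ : Submodule B P₂)) :
    ∃ e : P₁ ≃ₗ[B] P₂, ∀ x, π₂ (e x) = π₁ x := by
  obtain ⟨a, ha⟩ := Module.projective_lifting_property π₂ π₁ h₂
  obtain ⟨b, hb⟩ := Module.projective_lifting_property π₁ π₂ h₁
  have ha' : ∀ x, π₂ (a x) = π₁ x := fun x => LinearMap.congr_fun ha x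
  have hb' : ∀ x, π₁ (b x) = π₂ x := fun x => LinearMap.congr_fun hb x
  have hsa : Function.Surjective a := by
    rw [← LinearMap.range_eq_top, eq_top_iff]
    apply Submodule.le_of_le_smul_of_le_jacobson_bot (Module.Finite.fg_top) hJ
    intro y _
    obtain ⟨x, hx⟩ := h₁ (π₂ y)
    have h3 : y - a x ∈ LinearMap.ker π₂ := by
      rw [LinearMap.mem_ker, map_sub, ha', hx, sub_self]
    rw [k₂] at h3
    have h4 : y = a x + (y - a x) := by abel
    rw [h4]
    exact Submodule.add_mem_sup (LinearMap.mem_range_self a x) h3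
  have hsb : Function.Surjective b := by
    rw [← LinearMap.range_eq_top, eq_top_iff]
    apply Submodule.le_of_le_smul_of_le_jacobson_bot (Module.Finite.fg_top) hJ
    intro y _
    obtain ⟨x, hx⟩ := h₂ (π₁ y)
    have h3 : y - b x ∈ LinearMap.ker π₁ := by
      rw [LinearMap.mem_ker, map_sub, hb', hx, sub_self]
    rw [k₁] at h3
    have h4 : y = b x + (y - b x) := by abel
    rw [h4]
    exact Submodule.add_mem_sup (LinearMap.mem_range_self b x) h3
  have hinj : Function.Injective a := by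
    have h5 : Function.Surjective (b ∘ₗ a) := hsb.comp hsa
    have h6 := OrzechProperty.injective_of_surjective_endomorphism (b ∘ₗ a) h5
    exact Function.Injective.of_comp h6
  exact ⟨LinearEquiv.ofBijective a ⟨hinj, hsa⟩, fun x => ha' x⟩

end uniq

section misc

theorem isAdicComplete_of_pow_eq_bot {A : Type*} [CommRing A] (I : Ideal A) (N : ℕ)
    (h : I ^ N = ⊥) : IsAdicComplete I A := by
  have hbot : (I ^ N • ⊤ : Submodule A A) = ⊥ := by rw [h, Submodule.bot_smul]
  refine { toIsHausdorff := ⟨fun x hx => ?_⟩,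
           toIsPrecomplete := ⟨fun f hf => ⟨f N, fun n => ?_⟩⟩ }
  · have := hx N
    rw [hbot, SModEq.bot] at this
    exact this
  · rcases le_total n N with h1 | h1
    · exact hf h1
    · have := hf h1
      rw [hbot, SModEq.bot] at this
      rw [this]

end misc

end Groth.Agent.Helper8.ProjLift
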