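import Mathlib
import Groth.Agent.Lib.Helper8.ProjLift1

set_option autoImplicit false
universe u v w

namespace Groth.Agent.Helper8.ProjLift

open Groth.Agent.Helper9.AdicLim9 (mem_smul_top_pi map_mem_smul_top')
open TensorProduct

section basics
variable {A : Type u} [CommRing A]

lemma top_le_sup_pow (I : Ideal A) {M : Type v} [AddCommGroup M]
    [Module A M] (N : Submodule A M) (h : ⊤ ≤ N ⊔ I • (⊤ : Submodule A M)) (k : ℕ) :
    ⊤ ≤ N ⊔ I ^ k • (⊤ : Submodule A M) := by
  induction k with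
  | zero => simp
  | succ k ih =>
    calc (⊤ : Submodule A M) ≤ N ⊔ I ^ k • (⊤ : Submodule A M) := ih
      _ ≤ N ⊔ I ^ k • (N ⊔ I • (⊤ : Submodule A M)) :=
        sup_le_sup le_rfl (Submodule.smul_mono le_rfl h)
      _ = N ⊔ (I ^ k • N ⊔ I ^ k • (I • (⊤ : Submodule A M))) := by rw [Submodule.smul_sup]
      _ ≤ N ⊔ I ^ (k + 1) • (⊤ : Submodule A M) := by
        rw [← Submodule.mul_smul, ← pow_succ]
        exact sup_le le_sup_left (sup_le (Submodule.smul_le_right.trans le_sup_left) le_sup_right)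

theorem quot_facts (I : Ideal A) (P : Type v) [AddCommGroup P] [Module A P]
    [Module.Finite A P] [Module.Projective A P] :
    Module.Finite (A ⧸ I) (P ⧸ I • (⊤ : Submodule A P)) ∧
      Module.Projective (A ⧸ I) (P ⧸ I • (⊤ : Submodule A P)) := by
  constructor
  · exact Module.Finite.of_restrictScalars_finite A (A ⧸ I) _
  · let e : (A ⧸ I) ⊗[A] P ≃ₗ[A ⧸ I] P ⧸ I • (⊤ : Submodule A P) :=
      (TensorProduct.quotTensorEquivQuotSMul P I).extendScalarsOfSurjective
        Ideal.Quotient.mk_surjective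
    exact Module.Projective.of_equiv e

theorem sep_of_projective (In : ℕ → Ideal A) (hA : ∀ a : A, (∀ n, a ∈ In n) → a = 0)
    (Pt : Type v) [AddCommGroup Pt] [Module A Pt] [Module.Finite A Pt] [Module.Projective A Pt] :
    ∀ x : Pt, (∀ n, x ∈ In n • (⊤ : Submodule A Pt)) → x = 0 := by
  obtain ⟨r, f, g, -, -, hfg⟩ := Module.Finite.exists_comp_eq_id_of_projective A Pt
  intro x hx
  have h1 : g x = 0 := by
    funext j
    apply hA
    intro n
    exact (mem_smul_top_pi _ _).mp (map_mem_smul_top' (In n) g (hx n)) j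
  have h2 : f (g x) = x := by
    have := LinearMap.congr_fun hfg x; simpa using this
  rw [← h2, h1, map_zero]

theorem compl_of_projective (In : ℕ → Ideal A)
    (hA : ∀ a : ℕ → A, (∀ n, a (n + 1) - a n ∈ In n) → ∃ b, ∀ n, b - a n ∈ In n)
    (Pt : Type v) [AddCommGroup Pt] [Module A Pt] [Module.Finite A Pt] [Module.Projective A Pt] :
    ∀ y : ℕ → Pt, (∀ n, y (n + 1) - y n ∈ In n • (⊤ : Submodule A Pt)) →
      ∃ z, ∀ n, z - y n ∈ In n • (⊤ : Submodule A Pt) := by
  obtain ⟨r, f, g, -, -, hfg⟩ := Module.Finite.exists_comp_eq_id_of_projective A Pt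
  have hfg' : ∀ x, f (g x) = x := fun x => by
    have := LinearMap.congr_fun hfg x; simpa using this
  intro y hy
  have h1 : ∀ j : Fin r, ∃ b : A, ∀ n, b - g (y n) j ∈ In n := by
    intro j
    apply hA (fun n => g (y n) j)
    intro n
    have h2 := (mem_smul_top_pi _ _).mp (map_mem_smul_top' (In n) g (hy n)) j
    rw [map_sub] at h2
    exact h2
  choose b hb using h1
  refine ⟨f b, fun n => ?_⟩
  have h3 : f b - y n = f (b - g (y n)) := by rw [map_sub, hfg']
  rw [h3]
  apply map_mem_smul_top' (In n) f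
  rw [mem_smul_top_pi]
  intro j
  exact hb j n

end basics

section compare
variable {A : Type u} [CommRing A] (I : Ideal A) (In : ℕ → Ideal A)
variable {Pt : Type v} [AddCommGroup Pt] [Module A Pt]
variable {P : Type w} [AddCommGroup P] [Module A P]

theorem strict_of_projective [Module.Projective A Pt]
    (α : Pt →ₗ[A] P) (J : Ideal A) (hle : J ≤ I) (hpow : ∃ m, I ^ m ≤ J)
    (hproj : Module.Projective (A ⧸ J) (P ⧸ J • (⊤ : Submodule A P)))
    (hα1 : ∀ z, α z ∈ I • (⊤ : Submodule A P) → z ∈ I • (⊤ : Submodule A Pt))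
    (hα2 : ⊤ ≤ LinearMap.range α ⊔ I • (⊤ : Submodule A P)) :
    ∀ z, α z ∈ J • (⊤ : Submodule A P) → z ∈ J • (⊤ : Submodule A Pt) := by
  obtain ⟨m, hm⟩ := hpow
  have hsurjJ : ⊤ ≤ LinearMap.range α ⊔ J • (⊤ : Submodule A P) :=
    (top_le_sup_pow I _ hα2 m).trans (sup_le_sup le_rfl (Submodule.smul_mono hm le_rfl))
  have hcomap : J • (⊤ : Submodule A Pt) ≤ (J • (⊤ : Submodule A P)).comap α := by
    intro z hz
    exact map_mem_smul_top' J α hz
  let αb : (Pt ⧸ J • (⊤ : Submodule A Pt)) →ₗ[A] (P ⧸ J • (⊤ : Submodule A P)) :=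
    Submodule.mapQ _ _ α hcomap
  have hαb : ∀ z : Pt, αb (Submodule.Quotient.mk z) = Submodule.Quotient.mk (α z) :=
    fun z => rfl
  have hαbsurj : Function.Surjective αb := by
    intro y
    obtain ⟨y, rfl⟩ := Submodule.Quotient.mk_surjective _ y
    have h0 : y ∈ LinearMap.range α ⊔ J • (⊤ : Submodule A P) := hsurjJ Submodule.mem_top
    obtain ⟨u, ⟨z, rfl⟩, v, hv, rfl⟩ := Submodule.mem_sup.mp h0
    refine ⟨Submodule.Quotient.mk z, ?_⟩
    rw [hαb, Submodule.Quotient.mk_add, (Submodule.Quotient.mk_eq_zero _).mpr hv, add_zero]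
  let αb' : (Pt ⧸ J • (⊤ : Submodule A Pt)) →ₗ[A ⧸ J] (P ⧸ J • (⊤ : Submodule A P)) :=
    αb.extendScalarsOfSurjective Ideal.Quotient.mk_surjective
  obtain ⟨σ, hσ⟩ := Module.projective_lifting_property αb' LinearMap.id hαbsurj
  have hσ' : ∀ y, αb (σ y) = y := fun y => LinearMap.congr_fun hσ y
  let σ₀ : (P ⧸ J • (⊤ : Submodule A P)) →ₗ[A] (Pt ⧸ J • (⊤ : Submodule A Pt)) :=
    σ.restrictScalars A
  have hσ₀ : ∀ y, σ₀ y = σ y := fun y => rfl
  obtain ⟨t, ht⟩ := Module.projective_lifting_property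
    (Submodule.mkQ (J • (⊤ : Submodule A Pt)))
    ((LinearMap.id - σ₀ ∘ₗ αb) ∘ₗ Submodule.mkQ (J • (⊤ : Submodule A Pt)))
    (Submodule.mkQ_surjective _)
  have ht' : ∀ z, (Submodule.Quotient.mk (t z) : Pt ⧸ J • (⊤ : Submodule A Pt)) =
      Submodule.Quotient.mk z - σ₀ (αb (Submodule.Quotient.mk z)) :=
    fun z => LinearMap.congr_fun ht z
  have t1 : ∀ z, α (t z) ∈ J • (⊤ : Submodule A P) := by
    intro z
    rw [← Submodule.Quotient.mk_eq_zero, ← hαb, ht', map_sub, hσ₀, hσ', sub_self]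
  have t2 : ∀ z, α z ∈ J • (⊤ : Submodule A P) → z - t z ∈ J • (⊤ : Submodule A Pt) := by
    intro z hz
    rw [← Submodule.Quotient.mk_eq_zero, Submodule.Quotient.mk_sub, ht', hαb,
      (Submodule.Quotient.mk_eq_zero _).mpr hz, map_zero, sub_zero, sub_self]
  have h3 : ∀ x : Pt, t x ∈ I • (⊤ : Submodule A Pt) := fun x =>
    hα1 _ (Submodule.smul_mono hle le_rfl (t1 x))
  have key : ∀ k : ℕ, ∀ z, α z ∈ J • (⊤ : Submodule A P) →
      z ∈ I ^ (k + 1) • (⊤ : Submodule A Pt) ⊔ J • (⊤ : Submodule A Pt) := by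
    intro k
    induction k with
    | zero =>
      intro z hz
      rw [zero_add, pow_one]
      exact Submodule.mem_sup_left (hα1 z (Submodule.smul_mono hle le_rfl hz))
    | succ k ih =>
      intro z hz
      have h1 := ih z hz
      obtain ⟨u, hu, v, hv, huv⟩ := Submodule.mem_sup.mp h1
      have h2 : t u ∈ I ^ (k + 1 + 1) • (⊤ : Submodule A Pt) := by
        refine Submodule.smul_induction_on
          (p := fun x => t x ∈ I ^ (k + 1 + 1) • (⊤ : Submodule A Pt)) hu ?_ ?_
        · intro a ha x _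
          show t (a • x) ∈ _
          rw [map_smul, pow_succ, Submodule.mul_smul]
          exact Submodule.smul_mem_smul ha (h3 x)
        · intro x y hx hy
          show t (x + y) ∈ _
          rw [map_add]; exact Submodule.add_mem _ hx hy
      have h4 : t v ∈ J • (⊤ : Submodule A Pt) := map_mem_smul_top' J t hv
      have h5 : t z = t u + t v := by rw [← map_add, huv]
      have h6 : z = (z - t z) + (t u + t v) := by rw [← h5]; abel
      rw [h6]
      exact Submodule.add_mem _ (Submodule.mem_sup_right (t2 z hz))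
        (Submodule.add_mem _ (Submodule.mem_sup_left h2) (Submodule.mem_sup_right h4))
  intro z hz
  have h6 := key m z hz
  have h7 : I ^ (m + 1) • (⊤ : Submodule A Pt) ≤ J • (⊤ : Submodule A Pt) :=
    Submodule.smul_mono ((Ideal.pow_le_pow_right (Nat.le_succ m)).trans hm) le_rfl
  exact (sup_le h7 le_rfl) h6

theorem bijective_of_filtration [Module.Projective A Pt]
    (α : Pt →ₗ[A] P)
    (hle : ∀ n, In n ≤ I) (hanti : ∀ n, In (n + 1) ≤ In n) (hpow : ∀ n, ∃ m, I ^ m ≤ In n)
    (hproj : ∀ n, Module.Projective (A ⧸ In n) (P ⧸ In n • (⊤ : Submodule A P)))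
    (hsepP : ∀ x : P, (∀ n, x ∈ In n • (⊤ : Submodule A P)) → x = 0)
    (hsepPt : ∀ x : Pt, (∀ n, x ∈ In n • (⊤ : Submodule A Pt)) → x = 0)
    (hcompl : ∀ y : ℕ → Pt, (∀ n, y (n + 1) - y n ∈ In n • (⊤ : Submodule A Pt)) →
      ∃ z, ∀ n, z - y n ∈ In n • (⊤ : Submodule A Pt))
    (hα1 : ∀ z, α z ∈ I • (⊤ : Submodule A P) → z ∈ I • (⊤ : Submodule A Pt))
    (hα2 : ⊤ ≤ LinearMap.range α ⊔ I • (⊤ : Submodule A P)) :
    Function.Bijective α := by
  have hstrict := fun n =>
    strict_of_projective I α (In n) (hle n) (hpow n) (hproj n) hα1 hα2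
  constructor
  · rw [injective_iff_map_eq_zero]
    intro z hz
    apply hsepPt
    intro n
    apply hstrict n
    rw [hz]; exact Submodule.zero_mem _
  · intro x
    have hd : ∀ n, ∃ y : Pt, x - α y ∈ In n • (⊤ : Submodule A P) := by
      intro n
      obtain ⟨m, hm⟩ := hpow n
      have h1 : x ∈ LinearMap.range α ⊔ In n • (⊤ : Submodule A P) :=
        ((top_le_sup_pow I _ hα2 m).trans
          (sup_le_sup le_rfl (Submodule.smul_mono hm le_rfl))) Submodule.mem_top
      obtain ⟨u, ⟨y, rfl⟩, v, hv, rfl⟩ := Submodule.mem_sup.mp h1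
      exact ⟨y, by rw [add_sub_cancel_left]; exact hv⟩
    choose y hy using hd
    have hcau : ∀ n, y (n + 1) - y n ∈ In n • (⊤ : Submodule A Pt) := by
      intro n
      apply hstrict n
      have h2 : α (y (n + 1) - y n) = (x - α (y n)) - (x - α (y (n + 1))) := by
        rw [map_sub]; abel
      rw [h2]
      exact Submodule.sub_mem _ (hy n) (Submodule.smul_mono (hanti n) le_rfl (hy (n + 1)))
    obtain ⟨z, hz⟩ := hcompl y hcau
    refine ⟨z, ?_⟩
    rw [← sub_eq_zero]
    apply hsepP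
    intro n
    have h3 : α z - x = α (z - y n) - (x - α (y n)) := by rw [map_sub]; abel
    rw [h3]
    exact Submodule.sub_mem _ (map_mem_smul_top' _ α (hz n)) (hy n)

end compare

end Groth.Agent.Helper8.ProjLift
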