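import Mathlib
import Groth.Prelude

/-!
# Connectedness of the punctured spectrum of a local ring in terms of ideals
-/

set_option autoImplicit false

universe u

namespace Groth.Agent.Helper8.PuncConn

open IsLocalRing PrimeSpectrum

section topo

variable {R : Type*} [CommRing R] [IsLocalRing R]

theorem mem_punct_iff (P : PrimeSpectrum R) :
    P ∈ ({closedPoint R}ᶜ : Set (PrimeSpectrum R)) ↔ P.asIdeal ≠ maximalIdeal R := by
  rw [Set.mem_compl_iff, Set.mem_singleton_iff, not_iff_not, PrimeSpectrum.ext_iff]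
  rfl

/-- Ideal data disconnecting the punctured spectrum. -/
theorem not_isPreconnected_of_split (𝔞₁ 𝔞₂ : Ideal R)
    (hprod : ∀ P : Ideal R, P.IsPrime → P ≠ maximalIdeal R → 𝔞₁ * 𝔞₂ ≤ P)
    (M : ℕ) (hM : maximalIdeal R ^ M ≤ 𝔞₁ ⊔ 𝔞₂)
    (P₁ : Ideal R) (hP₁prime : P₁.IsPrime) (hP₁ : P₁ ≠ maximalIdeal R) (h1 : ¬ 𝔞₂ ≤ P₁)
    (P₂ : Ideal R) (hP₂prime : P₂.IsPrime) (hP₂ : P₂ ≠ maximalIdeal R) (h2 : ¬ 𝔞₁ ≤ P₂) :
    ¬ IsPreconnected ({closedPoint R}ᶜ : Set (PrimeSpectrum R)) := by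
  intro hpre
  have hcover : ({closedPoint R}ᶜ : Set (PrimeSpectrum R)) ⊆
      (zeroLocus (𝔞₂ : Set R))ᶜ ∪ (zeroLocus (𝔞₁ : Set R))ᶜ := by
    intro P hP
    rw [mem_punct_iff] at hP
    by_contra hcon
    rw [Set.mem_union, not_or, Set.mem_compl_iff, Set.mem_compl_iff, not_not, not_not,
      mem_zeroLocus, mem_zeroLocus, SetLike.coe_subset_coe, SetLike.coe_subset_coe] at hcon
    haveI := P.isPrime
    have h3 : maximalIdeal R ^ M ≤ P.asIdeal := hM.trans (sup_le hcon.2 hcon.1)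
    have h4 : maximalIdeal R ≤ P.asIdeal := Ideal.IsPrime.le_of_pow_le h3
    exact hP (le_antisymm (IsLocalRing.le_maximalIdeal P.isPrime.ne_top) h4)
  have hne1 : (({closedPoint R}ᶜ : Set (PrimeSpectrum R)) ∩
      (zeroLocus (𝔞₂ : Set R))ᶜ).Nonempty := by
    refine ⟨⟨P₁, hP₁prime⟩, (mem_punct_iff _).mpr hP₁, ?_⟩
    rw [Set.mem_compl_iff, mem_zeroLocus, SetLike.coe_subset_coe]
    exact h1
  have hne2 : (({closedPoint R}ᶜ : Set (PrimeSpectrum R)) ∩
      (zeroLocus (𝔞₁ : Set R))ᶜ).Nonempty := by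
    refine ⟨⟨P₂, hP₂prime⟩, (mem_punct_iff _).mpr hP₂, ?_⟩
    rw [Set.mem_compl_iff, mem_zeroLocus, SetLike.coe_subset_coe]
    exact h2
  obtain ⟨P, hPU, hPu, hPv⟩ := hpre _ _ (isClosed_zeroLocus _).isOpen_compl
    (isClosed_zeroLocus _).isOpen_compl hcover hne1 hne2
  rw [mem_punct_iff] at hPU
  rw [Set.mem_compl_iff, mem_zeroLocus, SetLike.coe_subset_coe] at hPu hPv
  rcases (Ideal.IsPrime.mul_le P.isPrime).mp (hprod P.asIdeal P.isPrime hPU) with h | h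
  · exact hPv h
  · exact hPu h

/-- A disconnection of the punctured spectrum of a Noetherian local ring gives ideal data. -/
theorem exists_split_of_not_isPreconnected [IsNoetherianRing R]
    (h : ¬ IsPreconnected ({closedPoint R}ᶜ : Set (PrimeSpectrum R))) :
    ∃ (𝔞₁ 𝔞₂ : Ideal R) (M : ℕ), 𝔞₁ * 𝔞₂ = ⊥ ∧ maximalIdeal R ^ M ≤ 𝔞₁ ⊔ 𝔞₂ ∧
      (∃ P₁ : Ideal R, P₁.IsPrime ∧ P₁ ≠ maximalIdeal R ∧ ¬ 𝔞₂ ≤ P₁) ∧
      (∃ P₂ : Ideal R, P₂.IsPrime ∧ P₂ ≠ maximalIdeal R ∧ ¬ 𝔞₁ ≤ P₂) := by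
  unfold IsPreconnected at h
  push Not at h
  obtain ⟨u, v, hu, hv, hcover, ⟨Q₁, hQ₁U, hQ₁u⟩, ⟨Q₂, hQ₂U, hQ₂v⟩, hempty⟩ := h
  obtain ⟨Iu, hIu⟩ := (isClosed_iff_zeroLocus_ideal _).mp hu.isClosed_compl
  obtain ⟨Iv, hIv⟩ := (isClosed_iff_zeroLocus_ideal _).mp hv.isClosed_compl
  have hmemu : ∀ P : PrimeSpectrum R, P ∈ u ↔ ¬ Iu ≤ P.asIdeal := by
    intro P
    rw [← not_iff_not, not_not, ← SetLike.coe_subset_coe, ← mem_zeroLocus, ← hIu,
      Set.mem_compl_iff]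
  have hmemv : ∀ P : PrimeSpectrum R, P ∈ v ↔ ¬ Iv ≤ P.asIdeal := by
    intro P
    rw [← not_iff_not, not_not, ← SetLike.coe_subset_coe, ← mem_zeroLocus, ← hIv,
      Set.mem_compl_iff]
  -- (1) every non-maximal prime contains `Iu` or `Iv`
  have h1 : ∀ P : Ideal R, P.IsPrime → P ≠ maximalIdeal R → Iu ≤ P ∨ Iv ≤ P := by
    intro P hP hPm
    by_contra hcon
    rw [not_or] at hcon
    have hmem : (⟨P, hP⟩ : PrimeSpectrum R) ∈
        ({closedPoint R}ᶜ : Set (PrimeSpectrum R)) ∩ (u ∩ v) :=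
      ⟨(mem_punct_iff _).mpr hPm, (hmemu _).mpr hcon.1, (hmemv _).mpr hcon.2⟩
    rw [hempty] at hmem
    exact Set.notMem_empty _ hmem
  -- (2) no non-maximal prime contains both
  have h2 : ∀ P : Ideal R, P.IsPrime → Iu ≤ P → Iv ≤ P → P = maximalIdeal R := by
    intro P hP hPu hPv
    by_contra hPm
    have hmem := hcover ((mem_punct_iff (⟨P, hP⟩ : PrimeSpectrum R)).mpr hPm)
    rcases hmem with hm | hm
    · exact (hmemu _).mp hm hPu
    · exact (hmemv _).mp hm hPv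
  have hQ₁m : Q₁.asIdeal ≠ maximalIdeal R := (mem_punct_iff _).mp hQ₁U
  have hQ₂m : Q₂.asIdeal ≠ maximalIdeal R := (mem_punct_iff _).mp hQ₂U
  have hQ₁u' : ¬ Iu ≤ Q₁.asIdeal := (hmemu _).mp hQ₁u
  have hQ₂v' : ¬ Iv ≤ Q₂.asIdeal := (hmemv _).mp hQ₂v
  -- the product is nilpotent
  have hnil : Iv * Iu ≤ nilradical R := by
    rw [nilradical_eq_sInf]
    refine le_sInf fun P hP => ?_
    have hP' : P.IsPrime := hP
    by_cases hPm : P = maximalIdeal R
    · rcases h1 Q₁.asIdeal Q₁.isPrime hQ₁m with hh | hh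
      · exact absurd hh hQ₁u'
      · rw [hPm]
        exact (Ideal.mul_le_left.trans hh).trans
          (IsLocalRing.le_maximalIdeal Q₁.isPrime.ne_top)
    · rcases h1 P hP' hPm with hh | hh
      · exact Ideal.mul_le_right.trans hh
      · exact Ideal.mul_le_left.trans hh
  obtain ⟨r, hr⟩ := IsNoetherianRing.isNilpotent_nilradical R
  have hprod : Iv ^ (r + 1) * Iu ^ (r + 1) = ⊥ := by
    rw [eq_bot_iff, ← mul_pow]
    calc (Iv * Iu) ^ (r + 1) ≤ (nilradical R) ^ (r + 1) := Ideal.pow_right_mono hnil _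
      _ = ⊥ := by rw [pow_succ, hr, zero_mul, Ideal.zero_eq_bot]
  have hrad : maximalIdeal R ≤ (Iv ⊔ Iu).radical := by
    rw [Ideal.radical_eq_sInf]
    refine le_sInf fun P hP => ?_
    obtain ⟨hle, hPprime⟩ := hP
    rw [h2 P hPprime (le_sup_right.trans hle) (le_sup_left.trans hle)]
  obtain ⟨N, hN⟩ := Ideal.exists_pow_le_of_le_radical_of_fg hrad
    (maximalIdeal R).fg_of_isNoetherianRing
  refine ⟨Iv ^ (r + 1), Iu ^ (r + 1), N * ((r + 1) + (r + 1)), hprod, ?_, ?_, ?_⟩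
  · rw [pow_mul]
    exact (Ideal.pow_right_mono hN _).trans Ideal.sup_pow_add_le_pow_sup_pow
  · refine ⟨Q₁.asIdeal, Q₁.isPrime, hQ₁m, fun hle => hQ₁u' ?_⟩
    haveI := Q₁.isPrime
    exact Ideal.IsPrime.le_of_pow_le hle
  · refine ⟨Q₂.asIdeal, Q₂.isPrime, hQ₂m, fun hle => hQ₂v' ?_⟩
    haveI := Q₂.isPrime
    exact Ideal.IsPrime.le_of_pow_le hle

end topo

section image

variable {D C : Type*} [CommRing D] [IsLocalRing D] [CommRing C] [IsLocalRing C]
  [Algebra D C] [Module.FaithfullyFlat D C] [IsLocalHom (algebraMap D C)]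

/-- The punctured spectrum of `D` is the image of that of a faithfully flat local `D`-algebra
`C` with `𝔪_D C = 𝔪_C`; so connectedness descends. -/
theorem isPreconnected_punct_of_faithfullyFlat
    (hmC : (maximalIdeal D).map (algebraMap D C) = maximalIdeal C)
    (h : IsPreconnected ({closedPoint C}ᶜ : Set (PrimeSpectrum C))) :
    IsPreconnected ({closedPoint D}ᶜ : Set (PrimeSpectrum D)) := by
  have himg : PrimeSpectrum.comap (algebraMap D C) '' ({closedPoint C}ᶜ : Set (PrimeSpectrum C)) =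
      ({closedPoint D}ᶜ : Set (PrimeSpectrum D)) := by
    have hcomapm : (maximalIdeal C).comap (algebraMap D C) = maximalIdeal D :=
      ((IsLocalRing.local_hom_TFAE (algebraMap D C)).out 0 4).mp ‹_›
    ext P
    constructor
    · rintro ⟨Q, hQ, rfl⟩
      rw [mem_punct_iff] at hQ ⊢
      intro hcon
      apply hQ
      rw [PrimeSpectrum.comap_asIdeal] at hcon
      have h1 : maximalIdeal C ≤ Q.asIdeal := by
        rw [← hmC, Ideal.map_le_iff_le_comap, hcon]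
      exact le_antisymm (IsLocalRing.le_maximalIdeal Q.isPrime.ne_top) h1
    · intro hP
      obtain ⟨Q, rfl⟩ := PrimeSpectrum.comap_surjective_of_faithfullyFlat (B := C) P
      refine ⟨Q, ?_, rfl⟩
      rw [mem_punct_iff] at hP ⊢
      intro hcon
      apply hP
      rw [PrimeSpectrum.comap_asIdeal, hcon, hcomapm]
  rw [← himg]
  exact h.image _ (PrimeSpectrum.continuous_comap _).continuousOn

end image

end Groth.Agent.Helper8.PuncConn
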