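import Mathlib
import Groth.Prelude
import Groth.Agent.Lib.Helper8.UnivCpl3

/-!
# Universal injectivity of a map which is an isomorphism modulo all powers of an ideal
-/

set_option autoImplicit false

universe u

namespace Groth.Agent.Helper8.UnivCpl

open TensorProduct

section general

variable {R S : Type u} [CommRing R] [CommRing S] [Algebra R S] [IsNoetherianRing R]
  [IsNoetherianRing S] (J : Ideal S)
  (N : Type u) [AddCommGroup N] [Module S N] [Module R N] [IsScalarTower R S N]
  [Module.Finite S N]
  (P : Type u) [AddCommGroup P] [Module S P] [Module R P] [IsScalarTower R S P]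
  (φ : N →ₗ[S] P)

omit [IsNoetherianRing R] [IsNoetherianRing S] [Module.Finite S N] in
theorem tmul_mem_pow_smul_top' (Q : Type u) [AddCommGroup Q] [Module R Q] {k : ℕ} {d : N}
    (hd : d ∈ J ^ k • (⊤ : Submodule S N)) (q : Q) :
    d ⊗ₜ[R] q ∈ J ^ k • (⊤ : Submodule S (N ⊗[R] Q)) := by
  refine Submodule.smul_induction_on hd (fun s hs x _ => ?_) (fun x y hx hy => ?_)
  · rw [← TensorProduct.smul_tmul']
    exact Submodule.smul_mem_smul hs Submodule.mem_top
  · rw [TensorProduct.add_tmul]
    exact Submodule.add_mem _ hx hy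

variable (hinj : ∀ (k : ℕ) (x : N), φ x ∈ J ^ k • (⊤ : Submodule S P) →
    x ∈ J ^ k • (⊤ : Submodule S N))
  (hsurj : ∀ (k : ℕ) (y : P), ∃ w : N, y - φ w ∈ J ^ k • (⊤ : Submodule S P))
  (h : ∀ (Q : Type u) [AddCommGroup Q] [Module R Q], Module.Finite R Q →
      ∀ q ∈ associatedPrimes S (N ⊗[R] Q), J ⊔ q ≠ ⊤)

include hinj h in
theorem injective_general : Function.Injective φ := by
  rw [injective_iff_map_eq_zero]
  intro x hx
  have hass : ∀ q ∈ associatedPrimes S N, J ⊔ q ≠ ⊤ := by
    intro q hq
    apply h R inferInstance q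
    rw [LinearEquiv.AssociatedPrimes.eq (TensorProduct.AlgebraTensorModule.rid R S N)]
    exact hq
  apply eq_zero_of_mem_iInf J hass x
  intro k
  apply hinj k x
  rw [hx]
  exact Submodule.zero_mem _

include hinj hsurj h in
theorem univInj_general : FlatCA.UnivInj R (φ.restrictScalars R) := by
  have key : CAlgX.UniversallyInjective R (φ.restrictScalars R) := by
    have hinj0 : Function.Injective (φ.restrictScalars R) := injective_general J N P φ hinj h
    rw [Groth.Agent.S2057.result _ hinj0]
    intro n m x y a hxy
    classical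
    set A := matMap a with hA
    let Q := (Fin n → R) ⧸ LinearMap.range A
    let e : Fin n → (Fin n → R) := fun i => Pi.single i 1
    set t : N ⊗[R] Q := ∑ i, x i ⊗ₜ[R] (Submodule.mkQ (LinearMap.range A) (e i)) with ht
    -- Claim 1
    have h1 : ∀ k : ℕ, t ∈ J ^ k • (⊤ : Submodule S (N ⊗[R] Q)) := by
      intro k
      choose w hw using fun j => hsurj k (y j)
      have hd : ∀ i, x i - ∑ j, a i j • w j ∈ J ^ k • (⊤ : Submodule S N) := by
        intro i
        apply hinj k
        have h2 : φ (x i - ∑ j, a i j • w j) = ∑ j, a i j • (y j - φ (w j)) := by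
          have h3 : φ (x i) = ∑ j, a i j • y j := hxy i
          rw [map_sub, h3, map_sum, ← Finset.sum_sub_distrib]
          refine Finset.sum_congr rfl fun j _ => ?_
          rw [smul_sub]
          congr 1
          exact (φ.restrictScalars R).map_smul (a i j) (w j)
        rw [h2]
        refine Submodule.sum_mem _ fun j _ => ?_
        rw [← algebraMap_smul S (a i j)]
        exact Submodule.smul_mem _ _ (hw j)
      have hzero : ∀ j, ∑ i, a i j • Submodule.mkQ (LinearMap.range A) (e i) = 0 := by
        intro j
        have h5 : ∑ i, a i j • Submodule.mkQ (LinearMap.range A) (e i) =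
            Submodule.mkQ _ (A (Pi.single j 1)) := by
          rw [hA, matMap_single, map_sum]
          simp only [map_smul]
          rfl
        rw [h5, Submodule.mkQ_apply, Submodule.Quotient.mk_eq_zero]
        exact LinearMap.mem_range_self _ _
      have ht' : t = ∑ i, (x i - ∑ j, a i j • w j) ⊗ₜ[R]
          (Submodule.mkQ (LinearMap.range A) (e i)) := by
        have h4 : ∑ i, (∑ j, a i j • w j) ⊗ₜ[R] (Submodule.mkQ (LinearMap.range A) (e i)) = 0 := by
          simp only [TensorProduct.sum_tmul, TensorProduct.smul_tmul]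
          rw [Finset.sum_comm]
          simp only [← TensorProduct.tmul_sum, hzero, TensorProduct.tmul_zero,
            Finset.sum_const_zero]
        simp only [TensorProduct.sub_tmul, Finset.sum_sub_distrib]
        rw [h4, sub_zero]
      rw [ht']
      exact Submodule.sum_mem _ fun i _ => tmul_mem_pow_smul_top' J N Q (hd i) _
    haveI : Module.Finite S (N ⊗[R] Q) := finite_tensor N Q
    have ht0 : t = 0 :=
      eq_zero_of_mem_iInf J (h Q inferInstance) t h1
    have hex := lTensor_exact N (LinearMap.exact_map_mkQ_range A) (Submodule.mkQ_surjective _)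
    set X : N ⊗[R] (Fin n → R) := ∑ i, x i ⊗ₜ[R] e i with hX
    have hXt : (Submodule.mkQ (LinearMap.range A)).lTensor N X = t := by
      rw [hX, map_sum]
      simp only [LinearMap.lTensor_tmul]
      rfl
    obtain ⟨ζ, hζ⟩ := (hex X).mp (by rw [hXt, ht0])
    refine ⟨TensorProduct.piScalarRight R R N (Fin m) ζ, fun i => ?_⟩
    rw [← piScalarRight_lTensor_matMap, ← hA, hζ, hX, map_sum, Finset.sum_apply]
    simp only [TensorProduct.piScalarRight_apply, TensorProduct.piScalarRightHom_tmul, e,
      Pi.single_apply]
    simp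
  intro Q _ _
  exact (LinearMap.lTensor_inj_iff_rTensor_inj _ _).mpr (key Q)

end general

end Groth.Agent.Helper8.UnivCpl
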