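import Mathlib
import Groth.Prelude
import Groth.Agent.Lib.Helper8.UnivCpl5

/-!
# Universal injectivity of the completion of a smooth algebra along a section
-/

set_option autoImplicit false

universe u

namespace Groth.Agent.Helper8.UnivCpl

open TensorProduct

attribute [local instance] Algebra.TensorProduct.rightAlgebra

theorem isDomain_fiber_of_geomIntegralFibres (A B : Type u) [CommRing A] [CommRing B]
    [Algebra A B] (hfib : FlatCA.GeomIntegralFibres A B) (p : Ideal A) [p.IsPrime] :
    IsDomain (p.Fiber B) := by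
  have hpush := CommRingCat.isPushout_tensorProduct A p.ResidueField B
  have hpull := AlgebraicGeometry.isPullback_SpecMap_of_isPushout _ _ _ _ hpush
  have h1 := hfib.geometrically_isIntegral
    (AlgebraicGeometry.Spec.map (CommRingCat.ofHom (algebraMap A p.ResidueField))) _ _ hpull.flip
  exact (AlgebraicGeometry.affine_isIntegral_iff _).mp h1

section main

variable (A : Type u) [CommRing A] [IsNoetherianRing A] (B : Type u) [CommRing B] [Algebra A B]
  [Algebra.Smooth A B] (hfib : FlatCA.GeomIntegralFibres A B) (u : B →ₐ[A] A)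

include hfib in
theorem sup_ne_top_of_fiberIdeal_mem (p : Ideal A) (q : Ideal B) [p.IsPrime]
    (hass : FlatCA.fiberIdeal p q ∈ associatedPrimes (p.Fiber B) (FlatCA.fiberMod p B B)) :
    RingHom.ker u ⊔ q ≠ ⊤ := by
  haveI : IsDomain (p.Fiber B) := isDomain_fiber_of_geomIntegralFibres A B hfib p
  have hass' : FlatCA.fiberIdeal p q ∈ associatedPrimes (p.Fiber B) (p.Fiber B) := by
    have : associatedPrimes (p.Fiber B) (FlatCA.fiberMod p B B) =
        associatedPrimes (p.Fiber B) (p.Fiber B) :=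
      LinearEquiv.AssociatedPrimes.eq
        (TensorProduct.AlgebraTensorModule.rid B (p.Fiber B) (p.Fiber B))
    rw [← this]
    exact hass
  obtain ⟨hP, x, hx⟩ := hass'
  have hx0 : x ≠ 0 := by
    rintro rfl
    apply hP.ne_top
    rw [hx, Ideal.eq_top_iff_one]
    apply Ideal.le_radical
    rw [Submodule.mem_colon_singleton, smul_zero]
    exact Submodule.zero_mem _
  have hbot : FlatCA.fiberIdeal p q = ⊥ := by
    rw [eq_bot_iff]
    intro f hf
    rw [hx] at hf
    obtain ⟨n, hn⟩ := hf
    rw [Submodule.mem_colon_singleton, Submodule.mem_bot, smul_eq_mul] at hn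
    rcases mul_eq_zero.mp hn with h0 | h0
    · exact (Submodule.mem_bot _).mpr (IsReduced.eq_zero _ ⟨n, h0⟩)
    · exact absurd h0 hx0
  intro htop
  have h1 : (1 : B) ∈ RingHom.ker u ⊔ q := by rw [htop]; exact Submodule.mem_top
  obtain ⟨j, hj, y, hy, hjy⟩ := Submodule.mem_sup.mp h1
  let ψ : p.Fiber B →ₐ[A] p.ResidueField :=
    Algebra.TensorProduct.lift (AlgHom.id A p.ResidueField)
      ((Algebra.ofId A p.ResidueField).comp u) fun _ _ => Commute.all _ _
  have hψ : ∀ b : B, ψ ((1 : p.ResidueField) ⊗ₜ[A] b) = algebraMap A p.ResidueField (u b) := by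
    intro b
    simp [ψ, Algebra.ofId_apply]
  have hy0 : ((1 : p.ResidueField) ⊗ₜ[A] y : p.Fiber B) = 0 := by
    have : ((1 : p.ResidueField) ⊗ₜ[A] y : p.Fiber B) ∈ FlatCA.fiberIdeal p q :=
      Ideal.mem_map_of_mem _ hy
    rw [hbot] at this
    exact (Submodule.mem_bot _).mp this
  have h2 : algebraMap A p.ResidueField (u 1) = 0 := by
    rw [← hjy, map_add, (RingHom.mem_ker).mp hj, zero_add, ← hψ, hy0, map_zero]
  rw [map_one, map_one] at h2
  exact one_ne_zero h2

variable (Bh : Type u) [CommRing Bh] [Algebra B Bh] [Algebra A Bh] [IsScalarTower A B Bh]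
  (hq : ∀ n : ℕ, Function.Bijective (Ideal.quotientMap
    ((RingHom.ker u ^ n).map (algebraMap B Bh)) (algebraMap B Bh) Ideal.le_comap_map))

include hfib hq in
theorem univInj_of_smooth_section :
    FlatCA.UnivInj A (IsScalarTower.toAlgHom A B Bh).toLinearMap := by
  haveI : IsNoetherianRing B := Algebra.FiniteType.isNoetherianRing A B
  set J : Ideal B := RingHom.ker u with hJ
  have hmemP : ∀ (k : ℕ) (y : Bh), y ∈ J ^ k • (⊤ : Submodule B Bh) ↔
      y ∈ (J ^ k).map (algebraMap B Bh) := by
    intro k y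
    rw [Ideal.smul_top_eq_map]
    rfl
  have hmemN : ∀ (k : ℕ) (x : B), x ∈ J ^ k • (⊤ : Submodule B B) ↔ x ∈ J ^ k := by
    intro k x
    rw [smul_eq_mul, Ideal.mul_top]
  have hinj : ∀ (k : ℕ) (x : B), Algebra.linearMap B Bh x ∈ J ^ k • (⊤ : Submodule B Bh) →
      x ∈ J ^ k • (⊤ : Submodule B B) := by
    intro k x hx
    rw [hmemP] at hx
    rw [hmemN]
    have h1 : Ideal.quotientMap ((J ^ k).map (algebraMap B Bh)) (algebraMap B Bh)
        Ideal.le_comap_map (Ideal.Quotient.mk (J ^ k) x) = 0 := by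
      rw [Ideal.quotientMap_mk]
      exact Ideal.Quotient.eq_zero_iff_mem.mpr hx
    have h2 := (hq k).1 (h1.trans (map_zero _).symm)
    exact Ideal.Quotient.eq_zero_iff_mem.mp h2
  have hsurj : ∀ (k : ℕ) (y : Bh), ∃ w : B,
      y - Algebra.linearMap B Bh w ∈ J ^ k • (⊤ : Submodule B Bh) := by
    intro k y
    obtain ⟨wbar, hw⟩ := (hq k).2 (Ideal.Quotient.mk _ y)
    obtain ⟨w, rfl⟩ := Ideal.Quotient.mk_surjective wbar
    refine ⟨w, ?_⟩
    rw [hmemP]
    rw [Ideal.quotientMap_mk] at hw
    rw [← Ideal.Quotient.eq_zero_iff_mem, map_sub, sub_eq_zero]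
    exact hw.symm
  have h := univInj_general (R := A) J B Bh (Algebra.linearMap B Bh) hinj hsurj
    (fun Q _ _ hQ => ass_tensor B J
      (fun p q _ _ _ hass => sup_ne_top_of_fiberIdeal_mem A B hfib u p q hass) Q hQ)
  exact h

end main

end Groth.Agent.Helper8.UnivCpl
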