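import Mathlib
import Groth.Prelude
import Groth.Agent.Lib.Helper8.UnivCpl6

/-! helper8: a flat finite type algebra with geometrically integral fibres is universally pure. -/

set_option autoImplicit false
universe u

namespace Groth.Agent.Helper8.PureGI

open FlatCA TensorProduct

attribute [local instance] Algebra.TensorProduct.rightAlgebra

theorem geomIntegralFibres_of_isPushout (A B A' B' : Type u) [CommRing A] [CommRing B]
    [CommRing A'] [CommRing B'] [Algebra A B] [Algebra A A'] [Algebra B B'] [Algebra A' B']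
    [Algebra A B'] [IsScalarTower A B B'] [IsScalarTower A A' B'] [Algebra.IsPushout A B A' B']
    (h : GeomIntegralFibres A B) : GeomIntegralFibres A' B' := by
  have hpush := CommRingCat.isPushout_of_isPushout A B A' B'
  have hpull := AlgebraicGeometry.isPullback_SpecMap_of_isPushout _ _ _ _ hpush
  exact CategoryTheory.MorphismProperty.of_isPullback
    (P := @AlgebraicGeometry.GeometricallyIntegral) hpull h

theorem flat_of_isPushout (A B A' B' : Type u) [CommRing A] [CommRing B]
    [CommRing A'] [CommRing B'] [Algebra A B] [Algebra A A'] [Algebra B B'] [Algebra A' B']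
    [Algebra A B'] [IsScalarTower A B B'] [IsScalarTower A A' B'] [Algebra.IsPushout A B A' B']
    [Module.Flat A B] : Module.Flat A' B' := by
  have h : Algebra.IsPushout A A' B B' := Algebra.IsPushout.symm inferInstance
  exact Module.Flat.isBaseChange A A' B B' h.out

/-- In a domain fibre, every prime over `p` contains the contraction of zero. -/
theorem comap_bot_le_of_liesOver {R S : Type u} [CommRing R] [CommRing S] [Algebra R S]
    (p : Ideal R) [p.IsPrime] (Q : Ideal S) [Q.IsPrime] [Q.LiesOver p] :
    (⊥ : Ideal (p.Fiber S)).comap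
      (Algebra.TensorProduct.includeRight (R := R) (A := p.ResidueField) (B := S)).toRingHom ≤ Q := by
  let q : p.primesOver S := ⟨Q, ⟨inferInstance, inferInstance⟩⟩
  have h := (PrimeSpectrum.primesOverOrderIsoFiber R S p).symm_apply_apply q
  have h' : ((PrimeSpectrum.primesOverOrderIsoFiber R S p) q).asIdeal.comap
      (Algebra.TensorProduct.includeRight (R := R) (A := p.ResidueField) (B := S)) = Q := by
    have := congrArg Subtype.val h
    rw [PrimeSpectrum.coe_primesOverOrderIsoFiber_symm_apply] at this
    exact this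
  rw [← h']
  exact Ideal.comap_mono bot_le

/-- A nontrivial fibre has a point. -/
theorem exists_liesOver_of_nontrivial_fiber {R S : Type u} [CommRing R] [CommRing S] [Algebra R S]
    (p : Ideal R) [p.IsPrime] [Nontrivial (p.Fiber S)] :
    ∃ Q : Ideal S, Q.IsPrime ∧ Q.LiesOver p := by
  obtain ⟨m, hm⟩ := Ideal.exists_maximal (p.Fiber S)
  haveI := hm.isPrime
  let q := (PrimeSpectrum.primesOverOrderIsoFiber R S p).symm ⟨m, inferInstance⟩
  exact ⟨q.1, q.2.1, q.2.2⟩

/-- An associated prime of a domain is zero. -/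
theorem eq_bot_of_mem_associatedPrimes_self {F : Type u} [CommRing F] [IsDomain F] (I : Ideal F)
    (hI : I ∈ associatedPrimes F F) : I = ⊥ := by
  obtain ⟨hP, x, hx⟩ := hI
  have hx0 : x ≠ 0 := by
    rintro rfl
    apply hP.ne_top
    rw [hx, Ideal.eq_top_iff_one]
    apply Ideal.le_radical
    rw [Submodule.mem_colon_singleton, smul_zero]
    exact Submodule.zero_mem _
  rw [eq_bot_iff]
  intro f hf
  rw [hx] at hf
  obtain ⟨n, hn⟩ := hf
  rw [Submodule.mem_colon_singleton, Submodule.mem_bot, smul_eq_mul] at hn
  rcases mul_eq_zero.mp hn with h0 | h0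
  · exact (Submodule.mem_bot _).mpr (IsReduced.eq_zero _ ⟨n, h0⟩)
  · exact absurd h0 hx0

theorem not_isImpurity {A B : Type u} [CommRing A] [CommRing B] [Algebra A B] [Module.Flat A B]
    (h : GeomIntegralFibres A B) (p : Ideal A) [p.IsPrime]
    (A' B' N' : Type u) [CommRing A'] [CommRing B'] [Algebra A A'] [Algebra B B'] [Algebra A' B']
    [Algebra A B'] [IsScalarTower A B B'] [IsScalarTower A A' B']
    [AddCommGroup N'] [Module B' N'] [Module B N'] [IsScalarTower B B' N'] [Module A' N']
    [IsScalarTower A' B' N'] (f : B →ₗ[B] N') (t' t : Ideal A') [t'.IsPrime] [t.IsPrime]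
    (P : Ideal B') [P.IsPrime] : ¬ IsImpurity A B B p A' B' N' f t' t P := by
  rintro ⟨h1, h2, h3, h4, h5, h6, h7⟩
  haveI := h1
  have hfib' : GeomIntegralFibres A' B' := geomIntegralFibres_of_isPushout A B A' B' h
  haveI : Module.Flat A' B' := flat_of_isPushout A B A' B'
  haveI : IsDomain (t'.Fiber B') :=
    Groth.Agent.Helper8.UnivCpl.isDomain_fiber_of_geomIntegralFibres A' B' hfib' t'
  haveI : IsDomain (t.Fiber B') :=
    Groth.Agent.Helper8.UnivCpl.isDomain_fiber_of_geomIntegralFibres A' B' hfib' t
  -- the module is free of rank one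
  let e : N' ≃ₗ[B'] B' := h2.equiv.symm.trans (TensorProduct.AlgebraTensorModule.rid B B' B')
  let e2 : fiberMod t' B' N' ≃ₗ[t'.Fiber B'] t'.Fiber B' :=
    (TensorProduct.AlgebraTensorModule.congr (LinearEquiv.refl (t'.Fiber B') (t'.Fiber B')) e).trans
      (TensorProduct.AlgebraTensorModule.rid B' (t'.Fiber B') (t'.Fiber B'))
  have hass : fiberIdeal t' P ∈ associatedPrimes (t'.Fiber B') (t'.Fiber B') := by
    rw [← LinearEquiv.AssociatedPrimes.eq e2]
    exact h6
  have hbot := eq_bot_of_mem_associatedPrimes_self _ hass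
  have hP0 : P ≤ (⊥ : Ideal (t'.Fiber B')).comap
      (Algebra.TensorProduct.includeRight (R := A') (A := t'.ResidueField) (B := B')).toRingHom := by
    rw [← hbot]
    exact Ideal.le_comap_map
  -- a point of the fibre over `t` and going down
  obtain ⟨Q, hQ, hQt⟩ := exists_liesOver_of_nontrivial_fiber (S := B') t
  haveI : Algebra.HasGoingDown A' B' := Algebra.HasGoingDown.of_flat
  obtain ⟨Q', hQ'Q, hQ', hQ't'⟩ := Ideal.exists_ideal_le_liesOver_of_le (p := t') (q := t) Q h3
  have h8 := comap_bot_le_of_liesOver t' Q'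
  exact h7 Q ((hP0.trans h8).trans hQ'Q) hQt

end Groth.Agent.Helper8.PureGI
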