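import Mathlib

/-!
# Ring maps with purely inseparable residue field extensions

Elementary reformulation of "the residue field extension `κ(p) → κ(q)` is purely inseparable"
and its stability under base change.
-/

set_option autoImplicit false

namespace Groth.Agent.Helper8

open TensorProduct

section Basic

variable {R S : Type*} [CommRing R] [CommRing S]

theorem residueField_exists_mul_eq (I : Ideal R) [I.IsPrime] (x : I.ResidueField) :
    ∃ a b : R, b ∉ I ∧ x * algebraMap R I.ResidueField b = algebraMap R I.ResidueField a := by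
  obtain ⟨a, b, hb, rfl⟩ := IsFractionRing.div_surjective (A := R ⧸ I) x
  obtain ⟨a, rfl⟩ := Ideal.Quotient.mk_surjective a
  obtain ⟨b, rfl⟩ := Ideal.Quotient.mk_surjective b
  have hbI : b ∉ I := by
    intro h
    rw [mem_nonZeroDivisors_iff_ne_zero] at hb
    exact hb (Ideal.Quotient.eq_zero_iff_mem.mpr h)
  refine ⟨a, b, hbI, ?_⟩
  simp only [Ideal.algebraMap_quotient_residueField_mk]
  rw [div_mul_cancel₀]
  intro h
  exact hbI (Ideal.algebraMap_residueField_eq_zero.mp h)

theorem expChar_residueField_of_comap (f : R →+* S) (p : Ideal R) [p.IsPrime] (q : Ideal S)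
    [q.IsPrime] (hp : p = q.comap f) :
    ExpChar q.ResidueField (ringExpChar p.ResidueField) :=
  expChar_of_injective_ringHom (Ideal.ResidueField.map p q f hp).injective _

theorem expChar_quotient_of_comap (f : R →+* S) (p : Ideal R) [p.IsPrime] (q : Ideal S)
    [q.IsPrime] (hp : p = q.comap f) :
    ExpChar (S ⧸ q) (ringExpChar p.ResidueField) :=
  haveI := expChar_residueField_of_comap f p q hp
  (algebraMap (S ⧸ q) q.ResidueField).expChar (Ideal.injective_algebraMap_quotient_residueField q) _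

/-- From the residue-field formulation to the elementary one. -/
theorem piElem_of_piResidue (f : R →+* S) (p : Ideal R) [p.IsPrime] (q : Ideal S)
    [q.IsPrime] (hp : p = q.comap f)
    (h : ∀ x : q.ResidueField, ∃ n : ℕ, x ^ (ringExpChar p.ResidueField) ^ n ∈
      Set.range (Ideal.ResidueField.map p q f hp)) (s : S) :
    ∃ (n : ℕ) (a b : R), b ∉ p ∧ f b * s ^ (ringExpChar p.ResidueField) ^ n - f a ∈ q := by
  obtain ⟨n, y, hy⟩ := h (algebraMap S q.ResidueField s)
  obtain ⟨a, b, hb, hab⟩ := residueField_exists_mul_eq p y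
  refine ⟨n, a, b, hb, ?_⟩
  rw [← Ideal.algebraMap_residueField_eq_zero, map_sub, map_mul, map_pow, ← hy,
    ← Ideal.ResidueField.map_algebraMap p q f hp, ← Ideal.ResidueField.map_algebraMap p q f hp,
    ← hab, map_mul]
  ring

/-- From the elementary formulation to the residue-field one. -/
theorem piResidue_of_piElem (f : R →+* S) (p : Ideal R) [p.IsPrime] (q : Ideal S)
    [q.IsPrime] (hp : p = q.comap f)
    (h : ∀ s : S, ∃ (n : ℕ) (a b : R), b ∉ p ∧
      f b * s ^ (ringExpChar p.ResidueField) ^ n - f a ∈ q) (x : q.ResidueField) :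
    ∃ n : ℕ, x ^ (ringExpChar p.ResidueField) ^ n ∈
      Set.range (Ideal.ResidueField.map p q f hp) := by
  set e := ringExpChar p.ResidueField with he
  set F := (Ideal.ResidueField.map p q f hp).fieldRange with hF
  have hmem : ∀ r : R, algebraMap S q.ResidueField (f r) ∈ F := by
    intro r
    rw [← Ideal.ResidueField.map_algebraMap p q f hp]
    exact ⟨_, rfl⟩
  have key : ∀ s : S, ∃ n : ℕ, ∀ m : ℕ, (algebraMap S q.ResidueField s) ^ e ^ (n + m) ∈ F := by
    intro s
    obtain ⟨n, a, b, hb, hab⟩ := h s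
    refine ⟨n, fun m => ?_⟩
    rw [← Ideal.algebraMap_residueField_eq_zero, map_sub, map_mul, map_pow, sub_eq_zero] at hab
    have hb0 : algebraMap S q.ResidueField (f b) ≠ 0 := by
      intro h0
      rw [Ideal.algebraMap_residueField_eq_zero] at h0
      exact hb (hp ▸ (Ideal.mem_comap.mpr h0))
    have h1 : (algebraMap S q.ResidueField s) ^ e ^ n =
        algebraMap S q.ResidueField (f a) / algebraMap S q.ResidueField (f b) := by
      rw [eq_div_iff hb0, mul_comm]
      exact hab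
    rw [pow_add, pow_mul, h1]
    exact pow_mem (div_mem (hmem a) (hmem b)) _
  obtain ⟨s, t, ht, hst⟩ := residueField_exists_mul_eq q x
  obtain ⟨n1, h1⟩ := key s
  obtain ⟨n2, h2⟩ := key t
  refine ⟨n1 + n2, ?_⟩
  have ht0 : algebraMap S q.ResidueField t ≠ 0 := by
    intro h0
    exact ht (Ideal.algebraMap_residueField_eq_zero.mp h0)
  have hx : x = algebraMap S q.ResidueField s / algebraMap S q.ResidueField t := by
    rw [eq_div_iff ht0]
    exact hst
  have : x ^ e ^ (n1 + n2) ∈ F := by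
    rw [hx, div_pow]
    refine div_mem (h1 n2) ?_
    rw [add_comm]
    exact h2 n1
  exact this

end Basic

section BaseChange

variable {R S R' : Type*} [CommRing R] [CommRing S] [CommRing R'] [Algebra R S] [Algebra R R']

theorem comap_includeRight_comap (q' : Ideal (R' ⊗[R] S)) :
    (q'.comap (Algebra.TensorProduct.includeRight : S →ₐ[R] R' ⊗[R] S).toRingHom).comap
      (algebraMap R S) = q'.comap (algebraMap R (R' ⊗[R] S)) := by
  rw [Ideal.comap_comap]
  congr 1
  ext r
  simp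

theorem comap_algebraMap_comap (q' : Ideal (R' ⊗[R] S)) :
    (q'.comap (algebraMap R' (R' ⊗[R] S))).comap (algebraMap R R') =
      q'.comap (algebraMap R (R' ⊗[R] S)) := by
  rw [Ideal.comap_comap]
  congr 1

/-- Uniform purely inseparable descent of elements of `R' ⊗ S` to `R'`. -/
theorem exists_pow_sub_tmul_mem (p : Ideal R) [p.IsPrime] (q : Ideal S) [q.IsPrime]
    (hp : p = q.comap (algebraMap R S))
    (h : ∀ s : S, ∃ (n : ℕ) (a b : R), b ∉ p ∧
      algebraMap R S b * s ^ (ringExpChar p.ResidueField) ^ n - algebraMap R S a ∈ q)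
    (z : R' ⊗[R] S) :
    ∃ (n : ℕ) (w : R') (b : R), b ∉ p ∧ ∀ q' : Ideal (R' ⊗[R] S), q'.IsPrime →
      q'.comap (Algebra.TensorProduct.includeRight : S →ₐ[R] R' ⊗[R] S).toRingHom = q →
      algebraMap R (R' ⊗[R] S) b * z ^ (ringExpChar p.ResidueField) ^ n - w ⊗ₜ[R] (1 : S) ∈ q' := by
  set e := ringExpChar p.ResidueField with he
  induction z using TensorProduct.induction_on with
  | zero =>
    refine ⟨0, 0, 1, ?_, ?_⟩
    · exact fun h1 => (Ideal.ne_top_iff_one p).mp (Ideal.IsPrime.ne_top') h1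
    · intro q' _ _
      simp
  | tmul r' s =>
    obtain ⟨n, a, b, hb, hab⟩ := h s
    refine ⟨n, r' ^ e ^ n * algebraMap R R' a, b, hb, ?_⟩
    intro q' _ hq'
    have h1 : (1 : R') ⊗ₜ[R] (algebraMap R S b * s ^ e ^ n - algebraMap R S a) ∈ q' := by
      have : (algebraMap R S b * s ^ e ^ n - algebraMap R S a) ∈
          q'.comap (Algebra.TensorProduct.includeRight : S →ₐ[R] R' ⊗[R] S).toRingHom := by
        rw [hq']; exact hab
      exact this
    have e1 : algebraMap R (R' ⊗[R] S) b * ((r' ^ e ^ n) ⊗ₜ[R] (s ^ e ^ n)) =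
        (r' ^ e ^ n) ⊗ₜ[R] (algebraMap R S b * s ^ e ^ n) := by
      rw [← Algebra.smul_def, ← Algebra.smul_def, TensorProduct.tmul_smul]
    have e2 : (r' ^ e ^ n * algebraMap R R' a) ⊗ₜ[R] (1 : S) =
        (r' ^ e ^ n) ⊗ₜ[R] (algebraMap R S a) := by
      rw [mul_comm, ← Algebra.smul_def, Algebra.algebraMap_eq_smul_one a, TensorProduct.tmul_smul,
        TensorProduct.smul_tmul']
    have h2 : algebraMap R (R' ⊗[R] S) b * (r' ⊗ₜ[R] s) ^ e ^ n -
        (r' ^ e ^ n * algebraMap R R' a) ⊗ₜ[R] (1 : S) =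
        ((r' ^ e ^ n) ⊗ₜ[R] (1 : S)) *
          ((1 : R') ⊗ₜ[R] (algebraMap R S b * s ^ e ^ n - algebraMap R S a)) := by
      rw [Algebra.TensorProduct.tmul_pow, Algebra.TensorProduct.tmul_mul_tmul, mul_one, one_mul,
        TensorProduct.tmul_sub, e1, e2]
    rw [h2]
    exact Ideal.mul_mem_left _ _ h1
  | add z1 z2 ih1 ih2 =>
    obtain ⟨n1, w1, b1, hb1, h1⟩ := ih1
    obtain ⟨n2, w2, b2, hb2, h2⟩ := ih2
    refine ⟨n1 + n2, algebraMap R R' (b2 ^ e ^ n1) * w1 ^ e ^ n2 +
      algebraMap R R' (b1 ^ e ^ n2) * w2 ^ e ^ n1, b1 ^ e ^ n2 * b2 ^ e ^ n1, ?_, ?_⟩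
    · intro hmem
      rcases Ideal.IsPrime.mem_or_mem ‹p.IsPrime› hmem with h' | h'
      · exact hb1 (Ideal.IsPrime.mem_of_pow_mem ‹p.IsPrime› _ h')
      · exact hb2 (Ideal.IsPrime.mem_of_pow_mem ‹p.IsPrime› _ h')
    · intro q' hq'prime hq'
      haveI := hq'prime
      have hp' : p = q'.comap (algebraMap R (R' ⊗[R] S)) := by
        rw [hp, ← hq', comap_includeRight_comap]
      haveI : ExpChar ((R' ⊗[R] S) ⧸ q') e :=
        expChar_quotient_of_comap (algebraMap R (R' ⊗[R] S)) p q' hp'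
      have h1' := h1 q' hq'prime hq'
      have h2' := h2 q' hq'prime hq'
      rw [← Ideal.Quotient.eq_zero_iff_mem, map_sub, sub_eq_zero, map_mul, map_pow] at h1' h2' ⊢
      have t1 : ((algebraMap R R' (b2 ^ e ^ n1) * w1 ^ e ^ n2 +
          algebraMap R R' (b1 ^ e ^ n2) * w2 ^ e ^ n1) ⊗ₜ[R] (1 : S) : R' ⊗[R] S) =
          algebraMap R (R' ⊗[R] S) b2 ^ e ^ n1 * (w1 ⊗ₜ[R] (1 : S)) ^ e ^ n2 +
          algebraMap R (R' ⊗[R] S) b1 ^ e ^ n2 * (w2 ⊗ₜ[R] (1 : S)) ^ e ^ n1 := by
        rw [TensorProduct.add_tmul, Algebra.TensorProduct.tmul_pow, Algebra.TensorProduct.tmul_pow,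
          one_pow, one_pow, ← map_pow, ← map_pow, Algebra.TensorProduct.algebraMap_apply,
          Algebra.TensorProduct.algebraMap_apply, Algebra.TensorProduct.tmul_mul_tmul,
          Algebra.TensorProduct.tmul_mul_tmul, mul_one]
      set π := Ideal.Quotient.mk q' with hπ
      have hL : π (algebraMap R (R' ⊗[R] S) (b1 ^ e ^ n2 * b2 ^ e ^ n1)) =
          π (algebraMap R (R' ⊗[R] S) b1) ^ e ^ n2 * π (algebraMap R (R' ⊗[R] S) b2) ^ e ^ n1 := by
        simp only [map_mul, map_pow]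
      have hR : π ((algebraMap R R' (b2 ^ e ^ n1) * w1 ^ e ^ n2 +
          algebraMap R R' (b1 ^ e ^ n2) * w2 ^ e ^ n1) ⊗ₜ[R] (1 : S)) =
          π (algebraMap R (R' ⊗[R] S) b2) ^ e ^ n1 * π (w1 ⊗ₜ[R] (1 : S)) ^ e ^ n2 +
          π (algebraMap R (R' ⊗[R] S) b1) ^ e ^ n2 * π (w2 ⊗ₜ[R] (1 : S)) ^ e ^ n1 := by
        rw [t1]
        simp only [map_add, map_mul, map_pow]
      rw [hL, hR, ← h1', ← h2', map_add, add_pow_expChar_pow]
      have x1 : π z1 ^ e ^ (n1 + n2) = (π z1 ^ e ^ n1) ^ e ^ n2 := by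
        rw [pow_add, pow_mul]
      have x2 : π z2 ^ e ^ (n1 + n2) = (π z2 ^ e ^ n2) ^ e ^ n1 := by
        rw [add_comm, pow_add, pow_mul]
      rw [x1, x2]
      ring

end BaseChange

end Groth.Agent.Helper8
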