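import Mathlib
import Groth.Prelude
import Groth.Agent.Lib.Helper4.Hartogs1
import Groth.Agent.Lib.Helper8.FinH1_1

/-!
# Sections of `M~` over the complement of `V(J)`: torsion kernel and cokernel of `M → Γ(U, M~)`
-/

set_option backward.isDefEq.respectTransparency.types false
set_option synthInstance.maxHeartbeats 400000
set_option autoImplicit false
set_option linter.unusedSectionVars false
set_option linter.style.haveILetI false
universe u
open CategoryTheory CategoryTheory.Limits AlgebraicGeometry TopologicalSpace Opposite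

namespace Groth.Agent.Helper8.PushCoh

open Groth.Agent.Lib.Helper4.Hartogs1 LocCoh

variable {A : Type u} [CommRing A] {J : Ideal A} {M : Type u} [AddCommGroup M] [Module A M]

/-- Multiplication by an element outside a prime is injective on the localization. -/
theorem smul_injective_localized {p : Ideal A} [p.IsPrime] {a : A} (ha : a ∉ p)
    {v : LocalizedModule p.primeCompl M} (h : a • v = 0) : v = 0 := by
  have hu := IsLocalizedModule.map_units (LocalizedModule.mkLinearMap p.primeCompl M)
    ⟨a, show a ∈ p.primeCompl from ha⟩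
  rw [Module.End.isUnit_iff] at hu
  apply hu.injective
  rw [map_zero]
  exact h

/-- For a point of the complement of `V(J)`, some element of `J^n` is outside it. -/
theorem exists_pow_notMem (z : oc A J) (n : ℕ) : ∃ a ∈ J ^ n, a ∉ z.1.asIdeal := by
  have h1 : ¬ J ≤ z.1.asIdeal := mem_oc.1 z.2
  have h2 : ¬ J ^ n ≤ z.1.asIdeal := fun hle => h1 (z.1.2.le_of_pow_le hle)
  exact SetLike.not_le_iff_exists.mp h2

/-- (c) sections over the complement of `V(J)` have no `J`-power torsion. -/
theorem sec_eq_zero_of_pow_smul (s : Sec A M (oc A J)) (n : ℕ) (h : ∀ a ∈ J ^ n, a • s = 0) :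
    s = 0 := by
  apply sec_ext
  intro z
  rw [Lib.Helper4.Hartogs1.zero_apply]
  obtain ⟨a, ha, haz⟩ := exists_pow_notMem z n
  have h1 := congrArg (fun t => t.1 z) (h a ha)
  simp only [structureSheafInType.smul_apply, Lib.Helper4.Hartogs1.zero_apply] at h1
  exact smul_injective_localized haz h1

variable [IsNoetherianRing A]

/-- A section over the complement of `V(J)` vanishing on `D(x)` is killed by a power of `x`. -/
theorem exists_pow_smul_eq_zero_of_vanish {x : A} (t : Sec A M (oc A J))
    (h : ∀ z : oc A J, x ∉ z.1.asIdeal → t.1 z = 0) : ∃ l : ℕ, x ^ l • t = 0 := by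
  classical
  -- the claim for one element of `J`
  have hone : ∀ a ∈ J, ∃ N : ℕ, ∀ z : oc A J, a ∉ z.1.asIdeal → (x ^ N • t).1 z = 0 := by
    intro a haJ
    have hle := basicOpen_le_oc (J := J) haJ
    let t' : Sec A M (PrimeSpectrum.basicOpen a) :=
      (structureSheafInType A M).obj.map hle.hom.op t
    obtain ⟨⟨n₀, ⟨c, k, rfl⟩⟩, hn₀⟩ := IsLocalizedModule.surj (Submonoid.powers a)
      (StructureSheaf.toOpenₗ A M (PrimeSpectrum.basicOpen a)) t'
    have hval : ∀ z : oc A J, ∀ hz : a ∉ z.1.asIdeal,
        a ^ k • t.1 z = LocalizedModule.mk n₀ 1 := by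
      intro z hz
      have := congrArg (fun u => u.1 ⟨z.1, hz⟩) hn₀
      simp only [Submonoid.smul_def, structureSheafInType.smul_apply, toOpen_apply] at this
      exact this
    have h0 : StructureSheaf.toOpenₗ A M (PrimeSpectrum.basicOpen (a * x)) n₀ = 0 := by
      apply sec_ext
      intro w
      rw [toOpen_apply, Lib.Helper4.Hartogs1.zero_apply]
      have hw : w.1 ∈ PrimeSpectrum.basicOpen a ⊓ PrimeSpectrum.basicOpen x := by
        rw [← PrimeSpectrum.basicOpen_mul]; exact w.2
      have h1 := hval ⟨w.1, hle hw.1⟩ hw.1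
      rw [h ⟨w.1, hle hw.1⟩ hw.2, smul_zero] at h1
      exact h1.symm
    obtain ⟨⟨c, N, rfl⟩, hc⟩ := (IsLocalizedModule.eq_zero_iff (Submonoid.powers (a * x))
      (StructureSheaf.toOpenₗ A M (PrimeSpectrum.basicOpen (a * x)))).1 h0
    simp only [Submonoid.smul_def] at hc
    refine ⟨N, fun z hz => ?_⟩
    rw [structureSheafInType.smul_apply]
    have h2 : a ^ (N + k) • (x ^ N • t.1 z) = 0 := by
      rw [pow_add, mul_smul, smul_comm (a ^ k), hval z hz, ← mul_smul, ← mul_pow,
        LocalizedModule.smul'_mk, hc, LocalizedModule.zero_mk]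
    exact smul_injective_localized (fun hmem => hz (z.1.2.mem_of_pow_mem _ hmem)) h2
  obtain ⟨T, hT⟩ := (isNoetherianRing_iff_ideal_fg A).mp inferInstance J
  have hTJ : ∀ a ∈ T, a ∈ J := fun a ha => hT ▸ Ideal.subset_span ha
  choose! N hN using hone
  refine ⟨T.sup N, ?_⟩
  apply sec_ext
  intro z
  rw [Lib.Helper4.Hartogs1.zero_apply]
  have hex : ∃ a ∈ T, a ∉ z.1.asIdeal := by
    by_contra hcon
    push Not at hcon
    have hsp : Ideal.span (T : Set A) ≤ z.1.asIdeal := Ideal.span_le.mpr (fun a ha => hcon a ha)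
    exact mem_oc.1 z.2 (hT.symm.le.trans hsp)
  obtain ⟨a, haT, haz⟩ := hex
  have h1 := hN a (hTJ a haT) z haz
  have hle : N a ≤ T.sup N := Finset.le_sup haT
  obtain ⟨d, hd⟩ := Nat.exists_eq_add_of_le hle
  rw [structureSheafInType.smul_apply] at h1 ⊢
  rw [hd, pow_add, mul_comm, mul_smul, h1, smul_zero]

end Groth.Agent.Helper8.PushCoh
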