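import Groth.Agent.Lib.Helper8.PushCoh7

/-!
# Finiteness of ideal transforms from the local criterion at primes containing a fixed ideal
-/

set_option autoImplicit false
set_option linter.unusedSectionVars false
set_option linter.style.haveILetI false
universe u

namespace Groth.Agent.Helper8.PushCoh

open LocCoh Groth.Agent.Helper8.DT Groth.Agent.Helper8.FinH1 IsLocalRing TensorProduct

/-- The local criterion at the primes containing a fixed ideal `I₀`. -/
def LocalCritOn {B : Type u} [CommRing B] (I₀ : Ideal B) : Prop :=
  ∀ (p : Ideal B) [p.IsPrime], I₀ ≤ p →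
    ∀ r ∈ associatedPrimes (EGA4.Cpl (Localization.AtPrime p))
        (EGA4.Cpl (Localization.AtPrime p)),
      (2 : WithBot ℕ∞) ≤ ringKrullDim (EGA4.Cpl (Localization.AtPrime p) ⧸ r)

variable {B : Type u} [CommRing B] [IsNoetherianRing B] [IsDomain B]

/-- **Noetherian induction**: under the local criterion at primes containing `I₀ ≠ ⊥`, transforms
with respect to ideals containing `I₀` of modules embedded in `B` are finite. -/
theorem finDT_of_localCritOn (I₀ : Ideal B) (hI₀ : I₀ ≠ ⊥) (hP : LocalCritOn I₀) (J : Ideal B) :
    I₀ ≤ J → ∀ (E : Type u) [AddCommGroup E] [Module B E] [Module.Finite B E]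
      (ι : E →ₗ[B] B), Function.Injective ι → FinDT J E := by
  induction J using IsNoetherian.induction with
  | hgt J ih =>
    intro hJ E _ _ _ ι hι
    by_cases htop : J = ⊤
    · subst htop
      exact finDT_top E
    obtain ⟨p, hp⟩ := Ideal.nonempty_minimalPrimes htop
    haveI : p.IsPrime := hp.1.1
    have hloc := finite_localized_H_one J p hp (hP p (hJ.trans hp.1.2)) E ι hι
    obtain ⟨f, E', hfp, hE'fg, htors⟩ := exists_submodule_of_localized_finite J E p hloc
    have hJ0 : J ≠ ⊥ := by
      rintro rfl
      exact hI₀ (le_bot_iff.mp hJ)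
    obtain ⟨ι', hι'⟩ := exists_embedding_of_submodule_DT J hJ0 E ι hι E' hE'fg
    have hlt : J < J ⊔ Ideal.span {f} := by
      refine lt_of_le_of_ne le_sup_left (fun heq => hfp (hp.1.2 ?_))
      rw [heq]
      exact Ideal.mem_sup_right (Ideal.mem_span_singleton_self f)
    haveI : Module.Finite B E' := Module.Finite.iff_fg.mpr hE'fg
    have h' := ih (J ⊔ Ideal.span {f}) hlt (hJ.trans le_sup_left) E' ι' hι'
    exact finDT_of_submodule J _ le_sup_left E E' htors h'

/-- Finiteness of `H¹_I(B)` from the criterion on completions of the local rings at primes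
containing `I`. -/
theorem finite_H_one_of_localCritOn (I : Ideal B) (hI : I ≠ ⊥) (hP : LocalCritOn I) :
    Module.Finite B (H I 1 B) :=
  finite_H_one I (finDT_of_localCritOn I hI hP I le_rfl B LinearMap.id Function.injective_id)

end Groth.Agent.Helper8.PushCoh
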