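import Groth.Agent.Lib.Helper8.PushCoh10
import Groth.Agent.Lib.Helper8.CplSurj1

/-!
# Transport of the completion criterion along ring isomorphisms; Kollár's criterion (sufficiency)
-/

set_option autoImplicit false
set_option linter.unusedSectionVars false
set_option linter.style.haveILetI false
universe u

namespace Groth.Agent.Helper8.PushCoh

open LocCoh Groth.Agent.Helper8.DT Groth.Agent.Helper8.FinH1 IsLocalRing TensorProduct

/-- Completions of isomorphic Noetherian local rings are isomorphic. -/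
theorem nonempty_cpl_ringEquiv (C₁ C₂ : Type u) [CommRing C₁] [CommRing C₂] [IsNoetherianRing C₁]
    [IsLocalRing C₁] [IsNoetherianRing C₂] [IsLocalRing C₂] (e : C₁ ≃+* C₂) :
    Nonempty (EGA4.Cpl C₁ ≃+* EGA4.Cpl C₂) := by
  letI : Algebra C₁ C₂ := e.toRingHom.toAlgebra
  have hs : Function.Surjective (algebraMap C₁ C₂) := e.surjective
  have hk : RingHom.ker (algebraMap C₁ C₂) = ⊥ :=
    (RingHom.injective_iff_ker_eq_bot _).mp e.injective
  have hb : (RingHom.ker (algebraMap C₁ C₂)).map (algebraMap C₁ (EGA4.Cpl C₁)) = ⊥ := by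
    rw [hk, Ideal.map_bot]
  exact ⟨(RingEquiv.quotientBot _).symm.trans
    ((Ideal.quotEquivOfEq hb.symm).trans
      (Groth.Agent.Helper8.CplSurj.quotEquiv hs).toRingEquiv)⟩

/-- Associated primes of a ring over itself are transported along ring isomorphisms. -/
theorem comap_mem_associatedPrimes_of_ringEquiv {R₁ R₂ : Type u} [CommRing R₁] [CommRing R₂]
    [IsNoetherianRing R₁] [IsNoetherianRing R₂] (E : R₁ ≃+* R₂) (r : Ideal R₂)
    (hr : r ∈ associatedPrimes R₂ R₂) :
    r.comap (E : R₁ →+* R₂) ∈ associatedPrimes R₁ R₁ := by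
  obtain ⟨hpr, x, hx⟩ := isAssociatedPrime_iff.mp hr
  refine isAssociatedPrime_iff.mpr ⟨Ideal.comap_isPrime _ _, E.symm x, ?_⟩
  ext a
  rw [Ideal.mem_comap, hx, Submodule.mem_colon_singleton, Submodule.mem_colon_singleton,
    Submodule.mem_bot, Submodule.mem_bot, smul_eq_mul, smul_eq_mul]
  constructor
  · intro h
    apply E.injective
    rw [map_mul, map_zero, RingEquiv.apply_symm_apply]
    exact h
  · intro h
    have := congrArg E h
    rwa [map_mul, map_zero, RingEquiv.apply_symm_apply] at this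

/-- The criterion is transported along ring isomorphisms. -/
theorem crit_of_ringEquiv {R₁ R₂ : Type u} [CommRing R₁] [CommRing R₂]
    [IsNoetherianRing R₁] [IsNoetherianRing R₂] (E : R₁ ≃+* R₂)
    (h : ∀ P ∈ associatedPrimes R₁ R₁, (2 : WithBot ℕ∞) ≤ ringKrullDim (R₁ ⧸ P)) :
    ∀ r ∈ associatedPrimes R₂ R₂, (2 : WithBot ℕ∞) ≤ ringKrullDim (R₂ ⧸ r) := by
  intro r hr
  have h1 := h _ (comap_mem_associatedPrimes_of_ringEquiv E r hr)
  have e : (R₁ ⧸ r.comap (E : R₁ →+* R₂)) ≃+* (R₂ ⧸ r) :=
    Ideal.quotientEquiv _ _ E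
      (Ideal.map_comap_of_surjective (E : R₁ →+* R₂) E.surjective r).symm
  rwa [ringKrullDim_eq_of_ringEquiv e] at h1

/-- The criterion for the completion with respect to an ideal equal to the maximal ideal,
transported along a ring isomorphism of Noetherian local rings. -/
theorem crit_cpl_of_ringEquiv (C₁ C₂ : Type u) [CommRing C₁] [CommRing C₂] [IsNoetherianRing C₁]
    [IsLocalRing C₁] [IsNoetherianRing C₂] [IsLocalRing C₂] (e : C₁ ≃+* C₂) (𝔞 : Ideal C₁)
    (h𝔞 : 𝔞 = maximalIdeal C₁)
    (h : ∀ P ∈ associatedPrimes (AdicCompletion 𝔞 C₁) (AdicCompletion 𝔞 C₁),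
      (2 : WithBot ℕ∞) ≤ ringKrullDim (AdicCompletion 𝔞 C₁ ⧸ P)) :
    ∀ r ∈ associatedPrimes (EGA4.Cpl C₂) (EGA4.Cpl C₂),
      (2 : WithBot ℕ∞) ≤ ringKrullDim (EGA4.Cpl C₂ ⧸ r) := by
  subst h𝔞
  obtain ⟨E⟩ := nonempty_cpl_ringEquiv C₁ C₂ e
  haveI : IsNoetherianRing (EGA4.Cpl C₁) := Groth.Agent.Helper8.AdicReg.isNoetherianRing C₁ _
  haveI : IsNoetherianRing (EGA4.Cpl C₂) := Groth.Agent.Helper8.AdicReg.isNoetherianRing C₂ _
  exact crit_of_ringEquiv E h

/-- The hypothesis of Kollár's criterion at an associated prime `p` gives the local criterion for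
the domain `A ⧸ p` at the primes containing the image of `I`. -/
theorem localCritOn_quotient {A : Type u} [CommRing A] [IsNoetherianRing A] (I p : Ideal A)
    [p.IsPrime]
    (h : ∀ (q : PrimeSpectrum A), p ≤ q.asIdeal → I ≤ q.asIdeal →
      ∀ P ∈ associatedPrimes
        (AdicCompletion ((IsLocalRing.maximalIdeal (Localization.AtPrime q.asIdeal)).map
          (Ideal.Quotient.mk (p.map (algebraMap A (Localization.AtPrime q.asIdeal)))))
          (Localization.AtPrime q.asIdeal ⧸ p.map (algebraMap A (Localization.AtPrime q.asIdeal))))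
        (AdicCompletion ((IsLocalRing.maximalIdeal (Localization.AtPrime q.asIdeal)).map
          (Ideal.Quotient.mk (p.map (algebraMap A (Localization.AtPrime q.asIdeal)))))
          (Localization.AtPrime q.asIdeal ⧸ p.map (algebraMap A (Localization.AtPrime q.asIdeal)))),
        (2 : WithBot ℕ∞) ≤ ringKrullDim
          (AdicCompletion ((IsLocalRing.maximalIdeal (Localization.AtPrime q.asIdeal)).map
            (Ideal.Quotient.mk (p.map (algebraMap A (Localization.AtPrime q.asIdeal)))))
            (Localization.AtPrime q.asIdeal ⧸ p.map (algebraMap A (Localization.AtPrime q.asIdeal)))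
            ⧸ P)) :
    LocalCritOn (I.map (algebraMap A (A ⧸ p))) := by
  intro P hP hJP
  let q : Ideal A := P.comap (Ideal.Quotient.mk p)
  haveI hq : q.IsPrime := Ideal.comap_isPrime _ _
  have hpq : p ≤ q := fun a ha => by
    change Ideal.Quotient.mk p a ∈ P
    rw [Ideal.Quotient.eq_zero_iff_mem.mpr ha]
    exact P.zero_mem
  have hIq : I ≤ q := Ideal.map_le_iff_le_comap.mp hJP
  let Aq := Localization.AtPrime q
  let C₁ := Aq ⧸ p.map (algebraMap A Aq)
  have hM : Algebra.algebraMapSubmonoid (A ⧸ p) q.primeCompl = P.primeCompl := by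
    ext b
    constructor
    · rintro ⟨a, ha, rfl⟩
      exact ha
    · intro hb
      obtain ⟨a, rfl⟩ := Ideal.Quotient.mk_surjective b
      exact ⟨a, hb, rfl⟩
  haveI hloc : IsLocalization.AtPrime C₁ P := by
    change IsLocalization P.primeCompl C₁
    rw [← hM]
    infer_instance
  haveI : IsLocalRing C₁ := IsLocalization.AtPrime.isLocalRing C₁ P
  let e : C₁ ≃+* Localization.AtPrime P :=
    (IsLocalization.algEquiv P.primeCompl C₁ (Localization.AtPrime P)).toRingEquiv
  exact crit_cpl_of_ringEquiv C₁ (Localization.AtPrime P) e _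
    (IsLocalRing.map_maximalIdeal_of_surjective _ Ideal.Quotient.mk_surjective)
    (h ⟨q, hq⟩ hpq hIq)

/-- **Kollár's criterion, sufficiency.** -/
theorem finite_H_one_of_kollar {A : Type u} [CommRing A] [IsNoetherianRing A] (I : Ideal A)
    (M : Type u) [AddCommGroup M] [Module A M] [Module.Finite A M]
    (h : ∀ p : Ideal A, p ∈ associatedPrimes A M → ¬ I ≤ p →
      ∀ (q : PrimeSpectrum A), p ≤ q.asIdeal → I ≤ q.asIdeal →
      ∀ P ∈ associatedPrimes
        (AdicCompletion ((IsLocalRing.maximalIdeal (Localization.AtPrime q.asIdeal)).map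
          (Ideal.Quotient.mk (p.map (algebraMap A (Localization.AtPrime q.asIdeal)))))
          (Localization.AtPrime q.asIdeal ⧸ p.map (algebraMap A (Localization.AtPrime q.asIdeal))))
        (AdicCompletion ((IsLocalRing.maximalIdeal (Localization.AtPrime q.asIdeal)).map
          (Ideal.Quotient.mk (p.map (algebraMap A (Localization.AtPrime q.asIdeal)))))
          (Localization.AtPrime q.asIdeal ⧸ p.map (algebraMap A (Localization.AtPrime q.asIdeal)))),
        (2 : WithBot ℕ∞) ≤ ringKrullDim
          (AdicCompletion ((IsLocalRing.maximalIdeal (Localization.AtPrime q.asIdeal)).map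
            (Ideal.Quotient.mk (p.map (algebraMap A (Localization.AtPrime q.asIdeal)))))
            (Localization.AtPrime q.asIdeal ⧸ p.map (algebraMap A (Localization.AtPrime q.asIdeal)))
            ⧸ P)) :
    Module.Finite A (H I 1 M) := by
  apply finite_H_one
  apply finDT_of_forall_good
  intro p hp
  haveI hpp : p.IsPrime := hp.isPrime
  by_cases hIp : I ≤ p
  · exact Or.inl hIp
  refine Or.inr ?_
  apply finDT_quotient_of_finDT_map
  have hJ0 : I.map (algebraMap A (A ⧸ p)) ≠ ⊥ := by
    intro h0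
    apply hIp
    intro a ha
    have : algebraMap A (A ⧸ p) a ∈ I.map (algebraMap A (A ⧸ p)) := Ideal.mem_map_of_mem _ ha
    rw [h0] at this
    exact Ideal.Quotient.eq_zero_iff_mem.mp this
  exact finDT_of_localCritOn _ hJ0 (localCritOn_quotient I p (h p hp hIp)) _ le_rfl (A ⧸ p)
    LinearMap.id Function.injective_id

end Groth.Agent.Helper8.PushCoh
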