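import Groth.Agent.Lib.Helper8.PushCoh7
import Groth.Agent.Lib.Helper8.FormalCM2
import Groth.Agent.Lib.Helper8.FC3

/-!
# The local criterion for quotients of regular rings
-/

set_option autoImplicit false
set_option linter.unusedSectionVars false
set_option linter.style.haveILetI false
universe u

namespace Groth.Agent.Helper8.PushCoh

open LocCoh Groth.Agent.Helper8.DT Groth.Agent.Helper8.FinH1 IsLocalRing TensorProduct
open Groth.Agent.Helper8.FormalCM Groth.Agent.Helper8.Depth Groth.Agent.Helper8.Fib

/-- The completion of a local domain which is a quotient of a local ring carrying a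
Cohen–Macaulay module of full support is strictly equidimensional. -/
theorem isStrictlyEquidim_cpl_of_surjective (A : Type u) [CommRing A] [IsNoetherianRing A]
    [IsLocalRing A] (M : Type u) [AddCommGroup M] [Module A M] [Module.Finite A M]
    (hCM : IsCohenMacaulayModule A M) (hsupp : Module.support A M = Set.univ)
    (C : Type u) [CommRing C] [IsNoetherianRing C] [IsLocalRing C] [IsDomain C] [Algebra A C]
    (hs : Function.Surjective (algebraMap A C)) :
    EGA4.IsStrictlyEquidim (AdicCompletion (maximalIdeal C) C) := by
  have hfe : EGA4.IsFormallyEquidim C :=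
    Groth.Agent.Helper8.FC.isFormallyEquidim_of_surjective A M hCM hsupp C hs
  haveI : IsNoetherianRing (AdicCompletion (maximalIdeal C) C) :=
    Groth.Agent.Helper8.AdicReg.isNoetherianRing C _
  have hS1B : HasSk 1 C C := hasSk_one_of_isDomain C
  have hfib : ∀ (q : Ideal C) [q.IsPrime],
      HasSk 1 (q.Fiber (AdicCompletion (maximalIdeal C) C))
        (q.Fiber (AdicCompletion (maximalIdeal C) C)) := fun q _ => by
    have h1 := isCohenMacaulayRing_formalFibre_of_surjective A M hCM hsupp C hs q
    haveI := isNoetherianRing_fiber (S := AdicCompletion (maximalIdeal C) C) q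
    exact (isCohenMacaulayRing_iff_forall_hasSk _).mp h1 1
  have hS1 : HasSk 1 (AdicCompletion (maximalIdeal C) C)
      (AdicCompletion (maximalIdeal C) C) :=
    hasSk_of_flat_of_fibres 1 hS1B hfib
  have hemb := (noEmbeddedPrimes_iff_hasSk_one).mpr hS1
  intro P hP
  have hmin := hemb P hP
  have hann : Module.annihilator (AdicCompletion (maximalIdeal C) C)
      (AdicCompletion (maximalIdeal C) C) = ⊥ :=
    Module.annihilator_eq_bot.mpr inferInstance
  rw [hann] at hmin
  exact hfe P hmin

/-- **The local criterion holds for domains which are quotients of regular rings.** -/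
theorem localCrit_of_surjective_of_isRegularRing (R : Type u) [CommRing R] [IsRegularRing R]
    (B : Type u) [CommRing B] [IsDomain B] (g : R →+* B) (hg : Function.Surjective g) :
    LocalCrit B := by
  haveI : IsNoetherianRing B := isNoetherianRing_of_surjective R B g hg
  intro p hp hp2 r hr
  let P : Ideal R := p.comap g
  haveI : P.IsPrime := Ideal.comap_isPrime g p
  let S := Localization.AtPrime P
  let C := Localization.AtPrime p
  haveI : IsDomain C := IsLocalization.isDomain_localization p.primeCompl_le_nonZeroDivisors
  let φ : S →+* C := Localization.localRingHom P p g rfl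
  have hφ : Function.Surjective φ := RingHom.surjective_localRingHom_of_surjective g hg p
  letI : Algebra S C := φ.toAlgebra
  have hCM : IsCohenMacaulayLocalRing S :=
    Groth.Agent.Helper8.FlatReg.isCohenMacaulayLocalRing_of_isRegularLocalRing S
  have hsupp : Module.support S S = Set.univ := by
    rw [Module.support_eq_zeroLocus, Module.annihilator_eq_bot.mpr inferInstance]
    simp
  have hse := isStrictlyEquidim_cpl_of_surjective S S hCM.supportDim_eq_depth hsupp C hφ
  have h1 := hse r hr
  rw [h1]
  have h2 : ringKrullDim (EGA4.Cpl C) = ringKrullDim C := Groth.Agent.Helper8.FC.ringKrullDim_cpl C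
  change (2 : WithBot ℕ∞) ≤ ringKrullDim (EGA4.Cpl C)
  rw [h2, IsLocalization.AtPrime.ringKrullDim_eq_height p C]
  exact WithBot.coe_le_coe.mpr hp2

end Groth.Agent.Helper8.PushCoh
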