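import Groth.Agent.Lib.Helper8.PushCoh11
import Groth.Agent.Lib.Helper8.PushCoh8
import Groth.Agent.Lib.Helper8.Ratliff3
import Groth.Agent.Lib.Helper8.CplQuot2
import Groth.Agent.Lib.Helper8.GRing7
import Groth.Agent.S9126

/-!
# Finiteness of `H^1_I(M)` over universally catenary rings with `(S_1)` formal fibres
-/

set_option autoImplicit false
set_option linter.unusedSectionVars false
set_option linter.style.haveILetI false
universe u

namespace Groth.Agent.Helper8.PushCoh

open LocCoh Groth.Agent.Helper8.DT Groth.Agent.Helper8.FinH1 IsLocalRing TensorProduct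
open Groth.Agent.Helper8.FormalCM Groth.Agent.Helper8.Depth Groth.Agent.Helper8.Fib

/-- The completion of a universally catenary Noetherian local domain whose formal fibres are
`(S_1)` is strictly equidimensional. -/
theorem isStrictlyEquidim_cpl_of_uc (C : Type u) [CommRing C] [IsNoetherianRing C]
    [IsLocalRing C] [IsDomain C] (hUC : CAlg.IsUniversallyCatenary C)
    (hS : EGA4.HasSnFormalFibres 1 C) :
    EGA4.IsStrictlyEquidim (AdicCompletion (maximalIdeal C) C) := by
  have hfe : EGA4.IsFormallyEquidim C :=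
    Groth.Agent.Helper8.Ratliff.isFormallyEquidim_of_isUniversallyCatenary C hUC
  haveI : IsNoetherianRing (AdicCompletion (maximalIdeal C) C) :=
    Groth.Agent.Helper8.AdicReg.isNoetherianRing C _
  have hS1B : HasSk 1 C C := hasSk_one_of_isDomain C
  have hfib : ∀ (q : Ideal C) [q.IsPrime],
      HasSk 1 (q.Fiber (AdicCompletion (maximalIdeal C) C))
        (q.Fiber (AdicCompletion (maximalIdeal C) C)) := fun q _ => hS q
  have hS1 : HasSk 1 (AdicCompletion (maximalIdeal C) C)
      (AdicCompletion (maximalIdeal C) C) :=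
    hasSk_of_flat_of_fibres 1 hS1B hfib
  have hemb := (noEmbeddedPrimes_iff_hasSk_one).mpr hS1
  intro P hP
  have hmin := hemb P hP
  have hann : Module.annihilator (AdicCompletion (maximalIdeal C) C)
      (AdicCompletion (maximalIdeal C) C) = ⊥ :=
    Module.annihilator_eq_bot.mpr inferInstance
  rw [hann] at hmin
  exact hfe P hmin

/-- `(S_1)` formal fibres pass to quotients. -/
theorem hasSnFormalFibres_one_quotient (B : Type u) [CommRing B] [IsNoetherianRing B]
    [IsLocalRing B] (hS : EGA4.HasSnFormalFibres 1 B) (s : Ideal B) [Nontrivial (B ⧸ s)] :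
    EGA4.HasSnFormalFibres 1 (B ⧸ s) := by
  intro q _
  obtain ⟨e⟩ := Groth.Agent.Helper8.CplQuot.nonempty_formalFibre_ringEquiv B s q
  haveI : (q.under B).IsPrime := Ideal.comap_isPrime _ _
  exact Groth.Agent.Helper8.CplQuot.hasSk_of_ringEquiv e.symm 1 (hS (q.under B))

/-- The local statement: every associated prime of the completion of `B/s` has dimension equal to
`dim B/s`. -/
theorem ringKrullDim_cpl_quotient_of_uc (B : Type u) [CommRing B] [IsNoetherianRing B]
    [IsLocalRing B] (hUC : CAlg.IsUniversallyCatenary B) (hS : EGA4.HasSnFormalFibres 1 B)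
    (s : Ideal B) [s.IsPrime] :
    ∀ P ∈ associatedPrimes
        (AdicCompletion ((maximalIdeal B).map (Ideal.Quotient.mk s)) (B ⧸ s))
        (AdicCompletion ((maximalIdeal B).map (Ideal.Quotient.mk s)) (B ⧸ s)),
      ringKrullDim (AdicCompletion ((maximalIdeal B).map (Ideal.Quotient.mk s)) (B ⧸ s) ⧸ P) =
        ringKrullDim (B ⧸ s) := by
  haveI : IsDomain (B ⧸ s) := Ideal.Quotient.isDomain s
  have hm : (maximalIdeal B).map (Ideal.Quotient.mk s) = maximalIdeal (B ⧸ s) :=
    IsLocalRing.map_maximalIdeal_of_surjective _ Ideal.Quotient.mk_surjective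
  have key : ∀ 𝔞 : Ideal (B ⧸ s), 𝔞 = maximalIdeal (B ⧸ s) →
      ∀ P ∈ associatedPrimes (AdicCompletion 𝔞 (B ⧸ s)) (AdicCompletion 𝔞 (B ⧸ s)),
      ringKrullDim (AdicCompletion 𝔞 (B ⧸ s) ⧸ P) = ringKrullDim (B ⧸ s) := by
    intro 𝔞 h𝔞
    subst h𝔞
    have hUC' : CAlg.IsUniversallyCatenary (B ⧸ s) :=
      Groth.Agent.Helper8.HensEq.isUniversallyCatenary_of_finiteType B (B ⧸ s) hUC
    have hS' := hasSnFormalFibres_one_quotient B hS s
    have hse := isStrictlyEquidim_cpl_of_uc (B ⧸ s) hUC' hS'
    intro P hP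
    rw [hse P hP]
    exact Groth.Agent.Helper8.FC.ringKrullDim_cpl (B ⧸ s)
  exact key _ hm

end Groth.Agent.Helper8.PushCoh
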