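import Groth.Agent.Lib.Helper8.PushCoh12
import Groth.Agent.Lib.Helper8.HensEq1
import Groth.Agent.Lib.Helper4.DimEq2

/-!
# Finiteness of `H^1_I(M)` over universally catenary rings with `(S_1)` formal fibres: global form
-/

set_option autoImplicit false
set_option linter.unusedSectionVars false
set_option linter.style.haveILetI false
universe u

namespace Groth.Agent.Helper8.PushCoh

open LocCoh Groth.Agent.Helper8.DT Groth.Agent.Helper8.FinH1 IsLocalRing TensorProduct

/-- The dimension of `A_q / p A_q` is the height of `q / p`. -/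
theorem ringKrullDim_localization_quotient_map {A : Type u} [CommRing A] [IsNoetherianRing A]
    (p q : Ideal A) [hp : p.IsPrime] [hq : q.IsPrime] (hpq : p ≤ q) :
    ringKrullDim (Localization.AtPrime q ⧸ p.map (algebraMap A (Localization.AtPrime q))) =
      ((q.map (Ideal.Quotient.mk p)).height : WithBot ℕ∞) := by
  have hdisj : Disjoint (q.primeCompl : Set A) (p : Set A) := by
    rw [Set.disjoint_left]
    intro a ha hap
    exact ha (hpq hap)
  haveI hs : (p.map (algebraMap A (Localization.AtPrime q))).IsPrime :=
    IsLocalization.isPrime_of_isPrime_disjoint q.primeCompl _ p hp hdisj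
  have hunder : (p.map (algebraMap A (Localization.AtPrime q))).under A = p :=
    IsLocalization.comap_map_of_isPrime_disjoint q.primeCompl _ hp hdisj
  have key : ∀ p0 : Ideal A, p0 = (p.map (algebraMap A (Localization.AtPrime q))).under A →
      ringKrullDim (Localization.AtPrime q ⧸ p.map (algebraMap A (Localization.AtPrime q))) =
      ((q.map (Ideal.Quotient.mk p0)).height : WithBot ℕ∞) := by
    intro p0 hp0
    subst hp0
    have hle : (p.map (algebraMap A (Localization.AtPrime q))).under A ≤ q :=
      Groth.Agent.Helper8.GRing.under_le A q _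
    haveI : ((p.map (algebraMap A (Localization.AtPrime q))).under A).IsPrime :=
      Ideal.comap_isPrime _ _
    haveI hp'prime := Groth.Agent.Helper8.Equidim.isPrime_map_mk _ q hle
    have hp' := Groth.Agent.Helper8.Equidim.comap_map_mk _ q hle
    haveI := Groth.Agent.Helper8.GRing.isLocalization_quotient A q
      (p.map (algebraMap A (Localization.AtPrime q)))
      (q.map (Ideal.Quotient.mk ((p.map (algebraMap A (Localization.AtPrime q))).under A))) hp'
    exact IsLocalization.AtPrime.ringKrullDim_eq_height
      (q.map (Ideal.Quotient.mk ((p.map (algebraMap A (Localization.AtPrime q))).under A))) _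
  exact key p hunder.symm

/-- **S1756.** -/
theorem finite_H_one_of_uc_of_formalFibres {A : Type u} [CommRing A] [IsNoetherianRing A]
    (hA : CAlg.IsUniversallyCatenary A) (I : Ideal A)
    (hF : ∀ q : PrimeSpectrum A, I ≤ q.asIdeal →
      EGA4.HasSnFormalFibres 1 (Localization.AtPrime q.asIdeal))
    (M : Type u) [AddCommGroup M] [Module A M] [Module.Finite A M]
    (h : ∀ (p q : PrimeSpectrum A) (hpq : p ≤ q), p.asIdeal ∈ associatedPrimes A M →
      ¬ I ≤ p.asIdeal → I ≤ q.asIdeal → (2 : ℕ∞) ≤ Order.height (⟨q, hpq⟩ : Set.Ici p)) :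
    Module.Finite A (H I 1 M) := by
  apply finite_H_one_of_kollar I M
  intro p hp hIp q hpq hIq
  haveI hpp : p.IsPrime := hp.isPrime
  have hdisj : Disjoint (q.asIdeal.primeCompl : Set A) (p : Set A) := by
    rw [Set.disjoint_left]
    intro a ha hap
    exact ha (hpq hap)
  haveI hs : (p.map (algebraMap A (Localization.AtPrime q.asIdeal))).IsPrime :=
    IsLocalization.isPrime_of_isPrime_disjoint q.asIdeal.primeCompl _ p hpp hdisj
  have hUC : CAlg.IsUniversallyCatenary (Localization.AtPrime q.asIdeal) :=
    Groth.Agent.S9126.result A (Localization.AtPrime q.asIdeal) hA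
  intro P hP
  rw [ringKrullDim_cpl_quotient_of_uc (Localization.AtPrime q.asIdeal) hUC (hF q hIq)
    (p.map (algebraMap A (Localization.AtPrime q.asIdeal))) P hP,
    ringKrullDim_localization_quotient_map p q.asIdeal hpq]
  have h2 := h ⟨p, hpp⟩ q hpq hp hIp hIq
  rw [Groth.Agent.Lib.Helper4.DimEq2.height_Ici_eq p q.asIdeal hpq] at h2
  exact WithBot.coe_le_coe.mpr h2

end Groth.Agent.Helper8.PushCoh
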