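import Groth.Agent.Lib.Helper8.PushCoh1

/-!
# `Γ(U, M~)` versus the ideal transform, part 2: the comparison `Γ(U, M~) ↪ D_J(M)`
-/

set_option backward.isDefEq.respectTransparency.types false
set_option synthInstance.maxHeartbeats 400000
set_option autoImplicit false
set_option linter.unusedSectionVars false
set_option linter.style.haveILetI false
universe u
open CategoryTheory CategoryTheory.Limits AlgebraicGeometry TopologicalSpace Opposite

namespace Groth.Agent.Helper8.PushCoh

open Groth.Agent.Lib.Helper4.Hartogs1 LocCoh Groth.Agent.Helper8.DT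

variable {A : Type u} [CommRing A] [IsNoetherianRing A] {J : Ideal A}
  {M : Type u} [AddCommGroup M] [Module A M]

/-- (b1) a power of an element of `J` moves a section into the image of `M`. -/
theorem exists_pow_smul_eq_toOpen {x : A} (hxJ : x ∈ J) (s : Sec A M (oc A J)) :
    ∃ (k : ℕ) (m : M), x ^ k • s = StructureSheaf.toOpenₗ A M (oc A J) m := by
  have hle := basicOpen_le_oc (J := J) hxJ
  let s' : Sec A M (PrimeSpectrum.basicOpen x) := (structureSheafInType A M).obj.map hle.hom.op s
  obtain ⟨⟨m, ⟨c, k, rfl⟩⟩, hm⟩ := IsLocalizedModule.surj (Submonoid.powers x)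
    (StructureSheaf.toOpenₗ A M (PrimeSpectrum.basicOpen x)) s'
  obtain ⟨l, hl⟩ := exists_pow_smul_eq_zero_of_vanish (x := x)
    (x ^ k • s - StructureSheaf.toOpenₗ A M (oc A J) m) (by
      intro z hz
      rw [sub_apply', structureSheafInType.smul_apply, toOpen_apply, sub_eq_zero]
      have := congrArg (fun t => t.1 ⟨z.1, hz⟩) hm
      simp only [Submonoid.smul_def, structureSheafInType.smul_apply, toOpen_apply] at this
      exact this)
  refine ⟨l + k, x ^ l • m, ?_⟩
  rw [smul_sub, sub_eq_zero] at hl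
  rw [pow_add, mul_smul, hl, map_smul]

/-- (b) a power of `J` moves a section into the image of `M`. -/
theorem exists_pow_smul_mem_range (s : Sec A M (oc A J)) :
    ∃ n : ℕ, ∀ a ∈ J ^ n, a • s ∈ LinearMap.range (StructureSheaf.toOpenₗ A M (oc A J)) := by
  let 𝔞 : Ideal A := (LinearMap.range (StructureSheaf.toOpenₗ A M (oc A J))).colon {s}
  have hle : J ≤ 𝔞.radical := by
    intro x hx
    obtain ⟨k, m, hk⟩ := exists_pow_smul_eq_toOpen hx s
    refine ⟨k, ?_⟩
    rw [Submodule.mem_colon_singleton]
    exact ⟨m, hk.symm⟩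
  obtain ⟨n, hn⟩ := Ideal.exists_pow_le_of_le_radical_of_fg hle
    ((isNoetherianRing_iff_ideal_fg A).mp inferInstance J)
  exact ⟨n, fun a ha => Submodule.mem_colon_singleton.mp (hn ha)⟩

theorem isPowerTorsion_coker_toOpen :
    IsPowerTorsion J (Sec A M (oc A J) ⧸ LinearMap.range (StructureSheaf.toOpenₗ A M (oc A J))) := by
  intro x
  obtain ⟨s, rfl⟩ := Submodule.Quotient.mk_surjective _ x
  obtain ⟨n, hn⟩ := exists_pow_smul_mem_range s
  refine ⟨n, fun a ha => ?_⟩
  rw [← Submodule.Quotient.mk_smul, Submodule.Quotient.mk_eq_zero]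
  exact hn a ha

/-- (a) the kernel of `M → Γ(U, M~)` is `J`-power torsion. -/
theorem ker_toOpen_le :
    LinearMap.ker (StructureSheaf.toOpenₗ A M (oc A J)) ≤ DRing.torsionSub J M := by
  intro m hm
  rw [LinearMap.mem_ker, toOpen_oc_eq_zero_iff] at hm
  have hle : J ≤ ((⊥ : Submodule A M).colon {m}).radical := by
    rw [Ideal.radical_eq_sInf]
    exact le_sInf (fun p hp => hm p hp.2 hp.1)
  obtain ⟨n, hn⟩ := Ideal.exists_pow_le_of_le_radical_of_fg hle
    ((isNoetherianRing_iff_ideal_fg A).mp inferInstance J)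
  refine ⟨n, fun a ha => ?_⟩
  have := Submodule.mem_colon_singleton.mp (hn ha)
  exact (Submodule.mem_bot A).mp this

/-- the comparison map `Γ(U, M~) → D_J(M)`. -/
noncomputable def secToDT (A : Type u) [CommRing A] [IsNoetherianRing A] (J : Ideal A)
    (M : Type u) [AddCommGroup M] [Module A M] : Sec A M (oc A J) →ₗ[A] DT J M :=
  factor J (StructureSheaf.toOpenₗ A M (oc A J)) ker_toOpen_le isPowerTorsion_coker_toOpen
    (LinearMap.id : M →ₗ[A] M)

theorem secToDT_toOpen (m : M) :
    secToDT A J M (StructureSheaf.toOpenₗ A M (oc A J) m) = toDT J M m :=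
  LinearMap.congr_fun (factor_comp J (StructureSheaf.toOpenₗ A M (oc A J)) ker_toOpen_le
    isPowerTorsion_coker_toOpen (LinearMap.id : M →ₗ[A] M)) m

theorem secToDT_injective : Function.Injective (secToDT A J M) := by
  rw [injective_iff_map_eq_zero]
  intro s hs
  obtain ⟨n, hn⟩ := exists_pow_smul_mem_range s
  apply sec_eq_zero_of_pow_smul s n
  intro a ha
  obtain ⟨m, hm⟩ := hn a ha
  have h1 : toDT J M m = 0 := by
    rw [← secToDT_toOpen, hm, map_smul, hs, smul_zero]
  rw [toDT_eq_zero_iff] at h1
  obtain ⟨k, hk⟩ := h1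
  apply sec_eq_zero_of_pow_smul (a • s) k
  intro b hb
  rw [← hm, ← map_smul, hk b hb, map_zero]

/-- If the ideal transform is finite, so is the module of sections over `U`. -/
theorem finite_sec_of_finDT (h : Groth.Agent.Helper8.FinH1.FinDT J M) :
    Module.Finite A (Sec A M (oc A J)) := by
  haveI : Module.Finite A (DT J M) := h
  exact Module.Finite.of_injective (secToDT A J M) secToDT_injective

end Groth.Agent.Helper8.PushCoh
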