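import Groth.Agent.Lib.Helper8.PushCoh2

/-!
# `Γ(U, M~)` versus the ideal transform, part 3: `D_J(M) ↪ Γ(U, M~)` and the bridge
-/

set_option backward.isDefEq.respectTransparency.types false
set_option synthInstance.maxHeartbeats 400000
set_option autoImplicit false
set_option linter.unusedSectionVars false
set_option linter.style.haveILetI false
universe u
open CategoryTheory CategoryTheory.Limits AlgebraicGeometry TopologicalSpace Opposite

namespace Groth.Agent.Helper8.PushCoh

open Groth.Agent.Lib.Helper4.Hartogs1 LocCoh Groth.Agent.Helper8.DT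

/-- transfer of finiteness along a surjective ring map. -/
theorem finite_iff_of_surjective {A R₀ : Type*} [CommRing A] [Ring R₀] (f : A →+* R₀)
    (hf : Function.Surjective f) (N : Type*) [AddCommGroup N] [Module R₀ N] [Module A N]
    (h : ∀ (a : A) (n : N), f a • n = a • n) : Module.Finite R₀ N ↔ Module.Finite A N := by
  have key : ∀ S : Set N, ((Submodule.span R₀ S : Set N) = (Submodule.span A S : Set N)) := by
    intro S
    apply Set.Subset.antisymm
    · intro n hn
      induction hn using Submodule.span_induction with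
      | mem x hx => exact Submodule.subset_span hx
      | zero => exact Submodule.zero_mem _
      | add x y _ _ hx hy => exact Submodule.add_mem _ hx hy
      | smul r x _ hx =>
        obtain ⟨a, rfl⟩ := hf r
        rw [h]
        exact Submodule.smul_mem _ a hx
    · intro n hn
      induction hn using Submodule.span_induction with
      | mem x hx => exact Submodule.subset_span hx
      | zero => exact Submodule.zero_mem _
      | add x y _ _ hx hy => exact Submodule.add_mem _ hx hy
      | smul a x _ hx =>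
        rw [← h]
        exact Submodule.smul_mem _ (f a) hx
  rw [Module.finite_def, Module.finite_def, Submodule.fg_def, Submodule.fg_def]
  constructor
  · rintro ⟨S, hS, hS'⟩
    refine ⟨S, hS, ?_⟩
    apply SetLike.coe_injective
    rw [← key, hS']
    rfl
  · rintro ⟨S, hS, hS'⟩
    refine ⟨S, hS, ?_⟩
    apply SetLike.coe_injective
    rw [key, hS']
    rfl

section E

variable (A : Type u) [CommRing A] (J : Ideal A) (M : Type u) [AddCommGroup M] [Module A M]

/-- (e) coherence of the direct image is finiteness of `Γ(U, M~)` over `A`. -/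
theorem isCoherentPushCompl_iff :
    EGA4.IsCoherentPushCompl A J M ↔ Module.Finite A (Sec A M (oc A J)) := by
  unfold EGA4.IsCoherentPushCompl
  let f : A →+* ((Spec (CommRingCat.of A)).ringCatSheaf.obj.obj (op ⊤)) :=
    algebraMap A ((structureSheafInType A A).obj.obj (op ⊤))
  have hf : Function.Surjective f := by
    intro r
    obtain ⟨a, ha⟩ := (StructureSheaf.toOpenₗ_top_bijective (R := A) (M := A)).2 r
    refine ⟨a, ?_⟩
    rw [← ha]
    apply Subtype.ext
    funext x
    rfl
  letI : Module A (((ModuleCat.restrictScalars ((Spec (CommRingCat.of A)).ringCatSheaf.obj.map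
        (homOfLE (le_top : EGA4.openCompl A J ≤ ⊤)).op).hom).obj
      ((EGA4.tildeOf A M).val.obj (op (EGA4.openCompl A J)))) : Type u) :=
    inferInstanceAs (Module A (Sec A M (oc A J)))
  exact finite_iff_of_surjective f hf _ (by
    intro a n
    apply Subtype.ext
    funext x
    exact IsScalarTower.algebraMap_smul (StructureSheaf.Localizations A x.1) a
      ((n : Sec A M (oc A J)).1 x))

end E

variable {A : Type u} [CommRing A] {J : Ideal A} {M : Type u} [AddCommGroup M] [Module A M]

/-- the section `z ↦ φ(d)/d` over the complement of `V(J)` attached to `φ : J^n → M`. -/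
theorem exists_fracSec (n : ℕ) (φ : (J ^ n : Ideal A) →ₗ[A] M) :
    ∃ s : Sec A M (oc A J), ∀ (z : oc A J) (a : A) (ha : a ∈ J ^ n),
      a • s.1 z = LocalizedModule.mkLinearMap z.1.asIdeal.primeCompl M (φ ⟨a, ha⟩) := by
  have h1 : ∀ z : oc A J, ∃ a ∈ J ^ n, a ∉ z.1.asIdeal := fun z => exists_pow_notMem z n
  choose f hfp hfz using h1
  have hcompat : ∀ (a b : A) (ha : a ∈ J ^ n) (hb : b ∈ J ^ n),
      a • φ ⟨b, hb⟩ = b • φ ⟨a, ha⟩ := by
    intro a b ha hb
    rw [← map_smul, ← map_smul]
    congr 1
    apply Subtype.ext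
    simp [mul_comm]
  let sf : ∀ z : oc A J, StructureSheaf.Localizations M z.1 := fun z =>
    LocalizedModule.mk (φ ⟨f z, hfp z⟩) ⟨f z, hfz z⟩
  have hsf : (StructureSheaf.isLocallyFraction A M).pred sf := by
    intro z
    refine ⟨PrimeSpectrum.basicOpen (f z) ⊓ oc A J, ⟨hfz z, z.2⟩, homOfLE inf_le_right,
      φ ⟨f z, hfp z⟩, f z, ?_⟩
    intro w
    refine ⟨w.2.1, ?_⟩
    change LocalizedModule.mk (φ ⟨f ⟨w.1, _⟩, _⟩) ⟨f ⟨w.1, _⟩, _⟩ = _
    rw [LocalizedModule.mk_eq]
    refine ⟨1, ?_⟩
    simp only [one_smul, Submonoid.smul_def]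
    exact hcompat _ _ _ _
  refine ⟨⟨sf, hsf⟩, ?_⟩
  intro z a ha
  change a • LocalizedModule.mk (φ ⟨f z, hfp z⟩) ⟨f z, hfz z⟩ = _
  rw [LocalizedModule.smul'_mk, LocalizedModule.mkLinearMap_apply, LocalizedModule.mk_eq]
  refine ⟨1, ?_⟩
  simp only [one_smul, Submonoid.smul_def]
  exact (hcompat _ _ _ _).symm

/-- the section attached to `φ : J^n → M`. -/
noncomputable def fracSec (n : ℕ) (φ : (J ^ n : Ideal A) →ₗ[A] M) : Sec A M (oc A J) :=
  (exists_fracSec n φ).choose

theorem fracSec_spec (n : ℕ) (φ : (J ^ n : Ideal A) →ₗ[A] M) (z : oc A J) (a : A)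
    (ha : a ∈ J ^ n) :
    a • (fracSec n φ).1 z = LocalizedModule.mkLinearMap z.1.asIdeal.primeCompl M (φ ⟨a, ha⟩) :=
  (exists_fracSec n φ).choose_spec z a ha

/-- uniqueness of the section attached to `φ`. -/
theorem eq_fracSec (n : ℕ) (φ : (J ^ n : Ideal A) →ₗ[A] M) (s : Sec A M (oc A J))
    (h : ∀ (z : oc A J) (a : A) (ha : a ∈ J ^ n),
      a • s.1 z = LocalizedModule.mkLinearMap z.1.asIdeal.primeCompl M (φ ⟨a, ha⟩)) :
    s = fracSec n φ := by
  apply sec_ext
  intro z
  obtain ⟨a, ha, haz⟩ := exists_pow_notMem z n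
  have h1 : a • (s.1 z - (fracSec n φ).1 z) = 0 := by
    rw [smul_sub, h z a ha, fracSec_spec n φ z a ha, sub_self]
  exact sub_eq_zero.mp (smul_injective_localized haz h1)

/-- the linear map `Hom(J^n, M) → Γ(U, M~)`. -/
noncomputable def fracSecₗ (n : ℕ) : ((J ^ n : Ideal A) →ₗ[A] M) →ₗ[A] Sec A M (oc A J) where
  toFun := fracSec n
  map_add' φ ψ := by
    symm
    apply eq_fracSec
    intro z a ha
    rw [structureSheafInType.add_apply, smul_add, fracSec_spec n φ z a ha,
      fracSec_spec n ψ z a ha, LinearMap.add_apply, map_add]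
  map_smul' r φ := by
    symm
    apply eq_fracSec
    intro z a ha
    rw [RingHom.id_apply, structureSheafInType.smul_apply, smul_comm, fracSec_spec n φ z a ha,
      LinearMap.smul_apply, map_smul]

theorem fracSecₗ_incl {n k : ℕ} (h : n ≤ k) (φ : (J ^ n : Ideal A) →ₗ[A] M) :
    fracSecₗ k (φ ∘ₗ incl J h) = fracSecₗ n φ := by
  symm
  apply eq_fracSec
  intro z a ha
  exact fracSec_spec n φ z a (Ideal.pow_le_pow_right h ha)

/-- the comparison map `D_J(M) → Γ(U, M~)`. -/
noncomputable def dtToSec (A : Type u) [CommRing A] (J : Ideal A) (M : Type u) [AddCommGroup M]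
    [Module A M] : DT J M →ₗ[A] Sec A M (oc A J) :=
  descD J (M := ModuleCat.of A M) (fun n => fracSecₗ n) (fun n k h φ => fracSecₗ_incl h φ)

theorem dtToSec_ι (n : ℕ) (φ : (J ^ n : Ideal A) →ₗ[A] M) :
    dtToSec A J M (ιD J n (ModuleCat.of A M) φ) = fracSec n φ :=
  descD_ι J (M := ModuleCat.of A M) (fun n => fracSecₗ n) (fun n k h φ => fracSecₗ_incl h φ) φ

/-- uniform torsion exponent for a finitely generated submodule of the torsion. -/
theorem exists_pow_smul_eq_zero_of_fg (N : Submodule A M) (hN : N.FG)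
    (h : N ≤ DRing.torsionSub J M) : ∃ k : ℕ, ∀ r ∈ J ^ k, ∀ x ∈ N, r • x = 0 := by
  classical
  obtain ⟨S, rfl⟩ := hN
  have h1 : ∀ x ∈ S, ∃ k : ℕ, ∀ r ∈ J ^ k, r • x = 0 := fun x hx => h (Submodule.subset_span hx)
  choose! k hk using h1
  refine ⟨S.sup k, fun r hr x hx => ?_⟩
  induction hx using Submodule.span_induction with
  | mem x hx => exact hk x hx r (Ideal.pow_le_pow_right (Finset.le_sup hx) hr)
  | zero => exact smul_zero r
  | add x y _ _ hx hy => rw [smul_add, hx, hy, add_zero]
  | smul a x _ hx => rw [smul_comm, hx, smul_zero]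

variable [IsNoetherianRing A]

theorem dtToSec_injective : Function.Injective (dtToSec A J M) := by
  rw [injective_iff_map_eq_zero]
  intro x hx
  obtain ⟨n, φ, rfl⟩ := ιD_rep J (ModuleCat.of A M) x
  rw [dtToSec_ι] at hx
  -- every value of `φ` dies on `U`
  have h1 : ∀ b : (J ^ n : Ideal A), φ b ∈ DRing.torsionSub J M := by
    intro b
    apply ker_toOpen_le
    rw [LinearMap.mem_ker]
    apply sec_ext
    intro z
    rw [toOpen_apply, Lib.Helper4.Hartogs1.zero_apply]
    obtain ⟨a, ha, haz⟩ := exists_pow_notMem z n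
    have h2 := fracSec_spec n φ z a ha
    rw [hx, Lib.Helper4.Hartogs1.zero_apply, smul_zero] at h2
    have h3 : a • (LocalizedModule.mk (φ b) 1 : LocalizedModule z.1.asIdeal.primeCompl M) = 0 := by
      rw [← LocalizedModule.mkLinearMap_apply, ← map_smul]
      have h4 : a • φ b = (b : A) • φ ⟨a, ha⟩ := by
        rw [← map_smul, ← map_smul]
        congr 1
        apply Subtype.ext
        simp [mul_comm]
      rw [h4, map_smul, ← h2, smul_zero]
    exact smul_injective_localized haz h3
  have hfg : (LinearMap.range φ).FG := by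
    rw [LinearMap.range_eq_map]
    exact Submodule.FG.map φ (Module.Finite.fg_top)
  obtain ⟨k, hk⟩ := exists_pow_smul_eq_zero_of_fg (J := J) (LinearMap.range φ) hfg (by
    rintro _ ⟨b, rfl⟩
    exact h1 b)
  rw [ιD_eq_zero_iff]
  refine ⟨k + n, by omega, ?_⟩
  exact comp_incl_eq_zero_of_mul J (le_refl n) (ModuleCat.of A M) φ
    (fun r hr s hs => hk r hr _ ⟨_, rfl⟩)

/-- If the module of sections over `U` is finite, so is the ideal transform. -/
theorem finDT_of_finite_sec (h : Module.Finite A (Sec A M (oc A J))) :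
    Groth.Agent.Helper8.FinH1.FinDT J M :=
  Module.Finite.of_injective (dtToSec A J M) dtToSec_injective

/-- **The bridge**: coherence of `i_*(M~|U)` is finiteness of the ideal transform. -/
theorem isCoherentPushCompl_iff_finDT :
    EGA4.IsCoherentPushCompl A J M ↔ Groth.Agent.Helper8.FinH1.FinDT J M := by
  rw [isCoherentPushCompl_iff]
  exact ⟨finDT_of_finite_sec, finite_sec_of_finDT⟩

end Groth.Agent.Helper8.PushCoh
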