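import Groth.Agent.Lib.Helper8.PushCoh3
import Groth.Agent.Lib.Helper8.FinH1_4

/-!
# Base independence of finiteness of ideal transforms for `A/p`, and embedding `A/p ↪ M`
-/

set_option autoImplicit false
set_option linter.unusedSectionVars false
set_option linter.style.haveILetI false
universe u

namespace Groth.Agent.Helper8.PushCoh

open LocCoh Groth.Agent.Helper8.DT Groth.Agent.Helper8.FinH1

variable {A : Type u} [CommRing A] [IsNoetherianRing A] (I : Ideal A)

/-- converse of `finDT_quotient_of_finDT_map`. -/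
theorem finDT_map_of_finDT_quotient (p : Ideal A) (h : FinDT I (A ⧸ p)) :
    FinDT (I.map (algebraMap A (A ⧸ p))) (A ⧸ p) := by
  obtain ⟨ε, hε, -⟩ := exists_DT_semilinear_equiv (R := A) (R' := A ⧸ p) I (A ⧸ p)
  let D' := DT (I.map (algebraMap A (A ⧸ p))) (A ⧸ p)
  letI : Module A D' := Module.compHom D' (algebraMap A (A ⧸ p))
  haveI : IsScalarTower A (A ⧸ p) D' := IsScalarTower.of_algebraMap_smul (fun r x => rfl)
  let e : D' ≃ₗ[A] DT I (A ⧸ p) := { ε with map_smul' := fun r x => hε r x }
  haveI : Module.Finite A (DT I (A ⧸ p)) := h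
  haveI : Module.Finite A D' := Module.Finite.equiv e.symm
  exact Module.Finite.of_restrictScalars_finite A (A ⧸ p) D'

theorem finDT_quotient_iff (p : Ideal A) :
    FinDT I (A ⧸ p) ↔ FinDT (I.map (algebraMap A (A ⧸ p))) (A ⧸ p) :=
  ⟨finDT_map_of_finDT_quotient I p, finDT_quotient_of_finDT_map I p⟩

variable {M : Type u} [AddCommGroup M] [Module A M]

/-- finiteness of the transform passes to `A/p` for an associated prime `p`. -/
theorem finDT_quotient_of_mem_associatedPrimes {p : Ideal A} (hp : p ∈ associatedPrimes A M)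
    (h : FinDT I M) : FinDT I (A ⧸ p) := by
  obtain ⟨-, f, hf⟩ := (isAssociatedPrime_iff_exists_injective_linearMap p M).mp hp
  exact finDT_of_injective I f hf h

end Groth.Agent.Helper8.PushCoh
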