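import Groth.Agent.Lib.Helper8.PushCoh4

/-!
# Necessity: a finite ideal transform of a domain forces height at least two
-/

set_option autoImplicit false
set_option linter.unusedSectionVars false
set_option linter.style.haveILetI false
universe u

namespace Groth.Agent.Helper8.PushCoh

open LocCoh Groth.Agent.Helper8.DT Groth.Agent.Helper8.FinH1

/-- For a minimal prime `P` over `I` in a Noetherian ring, some `s ∉ P` satisfies
`s • P^n ⊆ I`. -/
theorem exists_pow_mul_le_of_mem_minimalPrimes {R : Type*} [CommRing R] [IsNoetherianRing R]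
    {I P : Ideal R} (hP : P ∈ I.minimalPrimes) :
    ∃ n : ℕ, ∃ s : R, s ∉ P ∧ ∀ x ∈ P ^ n, s * x ∈ I := by
  classical
  obtain ⟨n, hn⟩ := I.exists_radical_pow_le_of_fg I.radical.fg_of_isNoetherianRing
  have h := I.finite_minimalPrimes_of_isNoetherianRing R
  rw [← I.sInf_minimalPrimes, ← h.coe_toFinset, ← h.toFinset.inf_id_eq_sInf,
    ← Finset.insert_erase (h.mem_toFinset.mpr hP), Finset.inf_insert, id_eq] at hn
  have hn' : P ^ n * (((h.toFinset.erase P).inf id) ^ n : Ideal R) ≤ I := by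
    rw [← mul_pow]
    exact (Ideal.pow_right_mono Ideal.mul_le_inf n).trans hn
  have hnot : ¬ ((h.toFinset.erase P).inf id) ^ n ≤ P := by
    intro hle
    have h1 := hP.1.1.le_of_pow_le hle
    rw [hP.1.1.inf_le'] at h1
    obtain ⟨K, hK, hKP⟩ := h1
    rw [Finset.mem_erase, h.mem_toFinset] at hK
    exact hK.1 (le_antisymm hKP (hP.2 hK.2.1 hKP))
  obtain ⟨s, hs, hsP⟩ := SetLike.not_le_iff_exists.mp hnot
  refine ⟨n, s, hsP, fun x hx => hn' ?_⟩
  rw [show s * x = x * s from mul_comm s x]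
  exact Ideal.mul_mem_mul hx hs

section domain

variable {B : Type u} [CommRing B] [IsDomain B] [IsNoetherianRing B] (J : Ideal B)

/-- a finitely generated ideal transform lives at a finite level. -/
theorem exists_level_of_finDT {M : Type u} [AddCommGroup M] [Module B M] (h : FinDT J M) :
    ∃ n : ℕ, ∀ x : DT J M, ∃ ψ : (J ^ n : Ideal B) →ₗ[B] (ModuleCat.of B M),
      ιD J n (ModuleCat.of B M) ψ = x := by
  classical
  haveI : Module.Finite B (DT J M) := h
  obtain ⟨S, hS⟩ := (Module.finite_def.mp (inferInstance : Module.Finite B (DT J M)))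
  have h1 : ∀ x : DT J M, ∃ (n : ℕ) (φ : (J ^ n : Ideal B) →ₗ[B] (ModuleCat.of B M)),
      ιD J n (ModuleCat.of B M) φ = x := fun x => ιD_rep J (ModuleCat.of B M) x
  choose N φ hφ using h1
  refine ⟨S.sup N, fun x => ?_⟩
  have hx : x ∈ Submodule.span B (S : Set (DT J M)) := by rw [hS]; trivial
  induction hx using Submodule.span_induction with
  | mem y hy =>
    refine ⟨φ y ∘ₗ incl J (Finset.le_sup hy), ?_⟩
    rw [ιD_trans, hφ]
  | zero => exact ⟨0, map_zero _⟩
  | add y z _ _ hy hz =>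
    obtain ⟨ψ₁, h₁⟩ := hy
    obtain ⟨ψ₂, h₂⟩ := hz
    exact ⟨ψ₁ + ψ₂, by rw [map_add, h₁, h₂]⟩
  | smul a y _ hy =>
    obtain ⟨ψ₁, h₁⟩ := hy
    exact ⟨a • ψ₁, by rw [← smul_ιD, h₁]⟩

/-- **Necessity in the domain case**: if the ideal transform of a Noetherian domain with respect
to a nonzero ideal `J` is finite, no height-one prime contains `J`. -/
theorem not_le_of_height_eq_one (hJ0 : J ≠ ⊥) (hfin : FinDT J B) (P : Ideal B) [hPp : P.IsPrime]
    (hP1 : P.height = 1) : ¬ J ≤ P := by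
  intro hJP
  obtain ⟨t, htJ, ht0⟩ := Submodule.exists_mem_ne_zero_of_ne_bot hJ0
  have htP : t ∈ P := hJP htJ
  -- `P` is minimal over `(t)`
  have hmin : P ∈ (Ideal.span {t}).minimalPrimes := by
    refine ⟨⟨hPp, (Ideal.span_singleton_le_iff_mem P).mpr htP⟩, ?_⟩
    rintro Q ⟨hQp, hQt⟩ hQP
    by_contra hPQ
    have hlt : Q < P := lt_of_le_not_ge hQP hPQ
    haveI := hQp
    haveI : P.FiniteHeight := ⟨Or.inr (by rw [hP1]; simp)⟩
    have h1 : Q.height < P.height := Ideal.height_strict_mono_of_isPrime_of_isPrime hlt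
    rw [hP1, Order.lt_one_iff, Ideal.height_eq_zero_iff_eq_bot] at h1
    rw [h1, Ideal.span_singleton_le_iff_mem] at hQt
    exact ht0 ((Submodule.mem_bot B).mp hQt)
  obtain ⟨N, s, hsP, hs⟩ := exists_pow_mul_le_of_mem_minimalPrimes hmin
  obtain ⟨n, hn⟩ := exists_level_of_finDT J hfin
  -- the fraction `s^k / t^k` with `k = n + 1`
  obtain ⟨k, hk⟩ : ∃ k : ℕ, k = n + 1 := ⟨_, rfl⟩
  have hdiv : ∀ a ∈ J ^ (N * k), ∃ b : B, t ^ k * b = s ^ k * a := by
    intro a ha
    have h1 : Ideal.span {s} * P ^ N ≤ Ideal.span {t} := by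
      rw [Ideal.mul_le]
      intro r hr x hx
      obtain ⟨c, rfl⟩ := Ideal.mem_span_singleton'.mp hr
      rw [mul_assoc]
      exact Ideal.mul_mem_left _ c (hs x hx)
    have h2 : Ideal.span {s ^ k} * P ^ (N * k) ≤ Ideal.span {t ^ k} := by
      rw [← Ideal.span_singleton_pow, ← Ideal.span_singleton_pow, pow_mul, ← mul_pow]
      exact Ideal.pow_right_mono h1 k
    have h3 : s ^ k * a ∈ Ideal.span {t ^ k} :=
      h2 (Ideal.mul_mem_mul (Ideal.mem_span_singleton_self _)
        (Ideal.pow_right_mono hJP (N * k) ha))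
    obtain ⟨b, hb⟩ := Ideal.mem_span_singleton'.mp h3
    exact ⟨b, by rw [mul_comm, hb]⟩
  choose! g hg using hdiv
  have htk : t ^ k ≠ 0 := pow_ne_zero k ht0
  let φ : (J ^ (N * k) : Ideal B) →ₗ[B] (ModuleCat.of B B) :=
    { toFun := fun a => g a.1
      map_add' := fun a a' => by
        apply mul_left_cancel₀ htk
        change t ^ k * g ((a + a' : (J ^ (N * k) : Ideal B)) : B) = t ^ k * (g a.1 + g a'.1)
        have e1 := hg _ a.2
        have e2 := hg _ a'.2
        have e3 := hg _ (a + a').2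
        rw [mul_add, e1, e2, e3, ← mul_add]
        rfl
      map_smul' := fun r a => by
        apply mul_left_cancel₀ htk
        change t ^ k * g ((r • a : (J ^ (N * k) : Ideal B)) : B) = t ^ k * (r * g a.1)
        have e1 := hg _ a.2
        have e3 := hg _ (r • a).2
        rw [e3, mul_left_comm, e1]
        change s ^ k * (r * a.1) = _
        ring }
  obtain ⟨ψ, hψ⟩ := hn (ιD J (N * k) (ModuleCat.of B B) φ)
  obtain ⟨m, hm1, hm2, hm⟩ := (ιD_eq_iff J (ModuleCat.of B B) ψ φ).mp hψ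
  -- evaluate at `t^m`
  have htm : t ^ m ∈ J ^ m := Ideal.pow_mem_pow htJ m
  have h1 : ψ ⟨t ^ m, Ideal.pow_le_pow_right hm1 htm⟩ = g (t ^ m) :=
    LinearMap.congr_fun hm ⟨t ^ m, htm⟩
  have h2 : t ^ k * g (t ^ m) = s ^ k * t ^ m := hg _ (Ideal.pow_le_pow_right hm2 htm)
  obtain ⟨d, rfl⟩ := Nat.exists_eq_add_of_le hm1
  have h3 : ψ ⟨t ^ (n + d), Ideal.pow_le_pow_right hm1 htm⟩ =
      t ^ d * ψ ⟨t ^ n, Ideal.pow_mem_pow htJ n⟩ := by
    have : (⟨t ^ (n + d), Ideal.pow_le_pow_right hm1 htm⟩ : (J ^ n : Ideal B)) =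
        t ^ d • ⟨t ^ n, Ideal.pow_mem_pow htJ n⟩ := by
      apply Subtype.ext
      change t ^ (n + d) = t ^ d * t ^ n
      ring
    rw [this, map_smul]
    rfl
  rw [← h1, h3] at h2
  -- cancel `t^d` and `t^n`
  have h4 : t * ψ ⟨t ^ n, Ideal.pow_mem_pow htJ n⟩ = s ^ k := by
    apply mul_left_cancel₀ (pow_ne_zero (n + d) ht0)
    rw [mul_comm (t ^ (n + d)) (s ^ k), ← h2, hk]
    ring
  have h5 : s ^ k ∈ P := h4 ▸ Ideal.mul_mem_right _ P htP
  exact hsP (hPp.mem_of_pow_mem k h5)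

/-- If the ideal transform of a Noetherian domain with respect to a nonzero ideal `J` is finite
then `J` has height at least two. -/
theorem two_le_height_of_finDT (hJ0 : J ≠ ⊥) (hfin : FinDT J B) : (2 : ℕ∞) ≤ J.height := by
  rw [Ideal.height_eq_inf_minimalPrimes]
  refine le_iInf₂ (fun P hP => ?_)
  haveI : P.IsPrime := hP.1.1
  have h0 : P.height ≠ 0 := by
    rw [Ne, Ideal.height_eq_zero_iff_eq_bot]
    intro hP0
    exact hJ0 (le_bot_iff.mp (hP0 ▸ hP.1.2))
  have h1 : P.height ≠ 1 := fun h => not_le_of_height_eq_one J hJ0 hfin P h hP.1.2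
  by_contra hlt
  push Not at hlt
  have h2 : P.height ≤ 1 := by
    rw [← one_add_one_eq_two] at hlt
    exact (ENat.lt_add_one_iff (by simp)).mp hlt
  rcases h2.lt_or_eq with h3 | h3
  · exact h0 (Order.lt_one_iff.mp h3)
  · exact h1 h3

end domain

end Groth.Agent.Helper8.PushCoh
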