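import Groth.Agent.Lib.Helper8.PushCoh6
import Groth.Agent.Lib.Helper8.LC56
import Groth.Agent.Lib.Helper8.LC51

/-!
# Finiteness of ideal transforms from a local criterion on completions (Noetherian induction)
-/

set_option autoImplicit false
set_option linter.unusedSectionVars false
set_option linter.style.haveILetI false
universe u

namespace Groth.Agent.Helper8.PushCoh

open LocCoh Groth.Agent.Helper8.DT Groth.Agent.Helper8.FinH1 IsLocalRing TensorProduct
open CategoryTheory

/-- The criterion over the completion, for a finite module over a Noetherian local ring. -/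
theorem finDT_maximalIdeal_iff_cpl (A : Type u) [CommRing A] [IsNoetherianRing A]
    [IsLocalRing A] (M : Type u) [AddCommGroup M] [Module A M] [Module.Finite A M] :
    FinDT (maximalIdeal A) M ↔
      ∀ p' ∈ associatedPrimes (EGA4.Cpl A) ((EGA4.Cpl A) ⊗[A] M),
        p' ≠ maximalIdeal (EGA4.Cpl A) → (2 : WithBot ℕ∞) ≤ ringKrullDim (EGA4.Cpl A ⧸ p') := by
  haveI : IsNoetherianRing (EGA4.Cpl A) := Groth.Agent.Helper8.AdicReg.isNoetherianRing A _
  haveI : Module.FaithfullyFlat A (EGA4.Cpl A) := Module.FaithfullyFlat.of_flat_of_isLocalHom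
  have hmax : (maximalIdeal A).map (algebraMap A (EGA4.Cpl A)) = maximalIdeal (EGA4.Cpl A) :=
    (AdicCompletion.maximalIdeal_eq_map).symm
  rw [finDT_iff_finite_H_one,
    ← finite_H_baseChange_iff (maximalIdeal A) (EGA4.Cpl A) 1 M, hmax, ← finDT_iff_finite_H_one]
  exact finDT_maximalIdeal_iff (EGA4.Cpl A) (isUniversallyCatenary_of_complete _)
    (Groth.Agent.Helper8.Nag.isNagata_of_isAdicComplete _) _

section general

variable {B : Type u} [CommRing B] [IsNoetherianRing B]

/-- The transform with respect to the unit ideal is the module itself. -/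
theorem finDT_top (E : Type u) [AddCommGroup E] [Module B E] [Module.Finite B E] :
    FinDT (⊤ : Ideal B) E := by
  have hsurj : Function.Surjective (toDT (⊤ : Ideal B) E) := by
    intro x
    obtain ⟨n, φ, rfl⟩ := ιD_rep (⊤ : Ideal B) (ModuleCat.of B E) x
    have h1 : (1 : B) ∈ (⊤ : Ideal B) ^ n := by rw [Ideal.top_pow]; trivial
    refine ⟨φ ⟨1, h1⟩, ?_⟩
    rw [toDT_eq' (⊤ : Ideal B) E _ n]
    congr 1
    apply LinearMap.ext
    intro a
    rw [smulMap_apply, ← map_smul]
    congr 1
    apply Subtype.ext
    change (a : B) * 1 = a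
    rw [mul_one]
  exact Module.Finite.of_surjective (toDT (⊤ : Ideal B) E) hsurj

end general

section secA

variable {B : Type u} [CommRing B] [IsNoetherianRing B]

/-- a finite localization is generated, up to denominators, by a finite submodule. -/
theorem exists_fg_submodule_of_localized_finite (p : Ideal B) [p.IsPrime] (Hm : Type u)
    [AddCommGroup Hm] [Module B Hm]
    (hloc : Module.Finite (Localization.AtPrime p) (LocalizedModule p.primeCompl Hm)) :
    ∃ F : Submodule B Hm, F.FG ∧ ∀ h₀ : Hm, ∃ s : B, s ∉ p ∧ s • h₀ ∈ F := by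
  classical
  let S := p.primeCompl
  let mkH := LocalizedModule.mkLinearMap S Hm
  obtain ⟨T, hT⟩ := (Module.finite_def.mp hloc)
  have hrep : ∀ t : LocalizedModule S Hm, ∃ (h : Hm) (s : S), t = LocalizedModule.mk h s := by
    intro t
    induction t using LocalizedModule.induction_on with
    | h m s => exact ⟨m, s, rfl⟩
  choose hh ss hhs using hrep
  refine ⟨Submodule.span B ((T.image hh : Finset Hm) : Set Hm), ⟨T.image hh, rfl⟩, ?_⟩
  intro h₀
  have htop : Submodule.span (Localization.AtPrime p)
      (mkH '' ((T.image hh : Finset Hm) : Set Hm)) = ⊤ := by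
    rw [eq_top_iff, ← hT, Submodule.span_le]
    intro t ht
    have h1 : t = (Localization.mk 1 (ss t) : Localization.AtPrime p) • mkH (hh t) := by
      conv_lhs => rw [hhs t]
      rw [LocalizedModule.mkLinearMap_apply, LocalizedModule.mk_smul_mk, one_smul, mul_one]
    rw [h1]
    refine Submodule.smul_mem _ _ (Submodule.subset_span ⟨hh t, ?_, rfl⟩)
    exact Finset.mem_coe.mpr (Finset.mem_image_of_mem hh ht)
  obtain ⟨t, ht⟩ := multiple_mem_span_of_mem_localization_span S (Localization.AtPrime p)
    (mkH '' ((T.image hh : Finset Hm) : Set Hm)) (mkH h₀) (by rw [htop]; trivial)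
  rw [← Submodule.map_span] at ht
  obtain ⟨x, hx, hxe⟩ := ht
  have h2 : mkH x = mkH ((t : B) • h₀) := by
    rw [hxe, map_smul]; rfl
  rw [LocalizedModule.mkLinearMap_apply, LocalizedModule.mkLinearMap_apply,
    LocalizedModule.mk_eq] at h2
  obtain ⟨u, hu⟩ := h2
  simp only [one_smul] at hu
  refine ⟨(u : B) * (t : B), ?_, ?_⟩
  · exact p.primeCompl.mul_mem u.2 t.2
  · rw [mul_smul]
    have : (u : B) • (t : B) • h₀ = u • x := hu.symm
    rw [this]
    exact Submodule.smul_mem _ _ hx

end secA

section secB

variable {B : Type u} [CommRing B] [IsNoetherianRing B]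
variable (J : Ideal B) (E : Type u) [AddCommGroup E] [Module B E] [Module.Finite B E]

theorem exists_submodule_of_localized_finite (p : Ideal B) [p.IsPrime]
    (hloc : Module.Finite (Localization.AtPrime p) (LocalizedModule p.primeCompl (H J 1 E))) :
    ∃ (f : B) (E' : Submodule B (DT J E)), f ∉ p ∧ E'.FG ∧
      IsPowerTorsion (J ⊔ Ideal.span {f}) (DT J E ⧸ E') := by
  classical
  let D := DT J E
  let q : D →ₗ[B] H J 1 E := toH1 J (ModuleCat.of B E)
  have hq : Function.Surjective q := toH1_surjective J E
  have hker : LinearMap.ker q = LinearMap.range (toDT J E) := ker_toH1 J E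
  obtain ⟨F, hFfg, hF⟩ := exists_fg_submodule_of_localized_finite p (H J 1 E) hloc
  let E' : Submodule B D := F.comap q
  have hkerle : LinearMap.ker q ≤ E' := fun x hx => by
    change q x ∈ F
    rw [LinearMap.mem_ker.mp hx]
    exact F.zero_mem
  have hE'fg : E'.FG := by
    apply Submodule.fg_of_fg_map_of_fg_inf_ker q
    · rw [Submodule.map_comap_eq_of_surjective hq]
      exact hFfg
    · rw [inf_eq_right.mpr hkerle, hker, LinearMap.range_eq_map]
      exact Submodule.FG.map _ Module.Finite.fg_top
  have hloc' : ∀ x : D, ∃ s : B, s ∉ p ∧ s • x ∈ E' := by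
    intro x
    obtain ⟨s, hs, hsF⟩ := hF (q x)
    refine ⟨s, hs, ?_⟩
    change q (s • x) ∈ F
    rw [map_smul]
    exact hsF
  have hrange : LinearMap.range (toDT J E) ≤ E' := hker ▸ hkerle
  let N : Submodule B D :=
    { carrier := {x | ∀ a ∈ J, a • x ∈ E'}
      add_mem' := fun {x y} hx hy a ha => by
        rw [smul_add]; exact E'.add_mem (hx a ha) (hy a ha)
      zero_mem' := fun a _ => by rw [smul_zero]; exact E'.zero_mem
      smul_mem' := fun c x hx a ha => by
        rw [smul_comm]; exact E'.smul_mem c (hx a ha) }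
  have hNfg : N.FG := by
    haveI : Module.Finite B E' := Module.Finite.iff_fg.mpr hE'fg
    haveI : IsNoetherian B E' := isNoetherian_of_isNoetherianRing_of_finite B E'
    let g : N →ₗ[B] (J →ₗ[B] E') :=
      { toFun := fun x =>
          { toFun := fun a => ⟨(a : B) • (x : D), x.2 a a.2⟩
            map_add' := fun a b => by
              apply Subtype.ext
              change ((a + b : J) : B) • (x : D) = (a : B) • (x : D) + (b : B) • (x : D)
              rw [Submodule.coe_add, add_smul]
            map_smul' := fun c a => by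
              apply Subtype.ext
              change ((c • a : J) : B) • (x : D) = c • ((a : B) • (x : D))
              rw [Submodule.coe_smul, smul_eq_mul, mul_smul] }
        map_add' := fun x y => by
          apply LinearMap.ext
          intro a
          apply Subtype.ext
          change (a : B) • ((x + y : N) : D) = (a : B) • (x : D) + (a : B) • (y : D)
          rw [Submodule.coe_add, smul_add]
        map_smul' := fun c x => by
          apply LinearMap.ext
          intro a
          apply Subtype.ext
          change (a : B) • ((c • x : N) : D) = c • ((a : B) • (x : D))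
          rw [Submodule.coe_smul, smul_comm] }
    have hg : Function.Injective g := by
      rw [injective_iff_map_eq_zero]
      intro x hx
      have h0 : (x : D) ∈ DRing.torsionSub J D := by
        refine ⟨1, fun a ha => ?_⟩
        rw [pow_one] at ha
        have := LinearMap.congr_fun hx ⟨a, ha⟩
        exact congrArg Subtype.val this
      rw [torsionSub_DT_eq_bot] at h0
      exact Subtype.ext ((Submodule.mem_bot B).mp h0)
    haveI : Module.Finite B N := Module.Finite.of_injective g hg
    exact Module.Finite.iff_fg.mp inferInstance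
  obtain ⟨T, hT⟩ := hNfg
  choose sx hsx hsx' using hloc'
  let f : B := ∏ t ∈ T, sx t
  have hfp : f ∉ p := fun hmem => by
    obtain ⟨t, -, ht⟩ := (Ideal.IsPrime.prod_mem_iff).mp hmem
    exact hsx t ht
  have hfN : ∀ x ∈ N, f • x ∈ E' := by
    intro x hx
    rw [← hT] at hx
    induction hx using Submodule.span_induction with
    | mem t ht =>
      obtain ⟨c, hc⟩ : sx t ∣ f := Finset.dvd_prod_of_mem sx ht
      rw [hc, mul_comm, mul_smul]
      exact E'.smul_mem c (hsx' t)
    | zero => rw [smul_zero]; exact E'.zero_mem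
    | add x y _ _ hx hy => rw [smul_add]; exact E'.add_mem hx hy
    | smul a x _ hx => rw [smul_comm]; exact E'.smul_mem a hx
  have hC : ∀ a : ℕ, ∀ x : D, (∀ r ∈ J ^ a, r • x ∈ E') → ∃ k : ℕ, f ^ k • x ∈ E' := by
    intro a
    induction a with
    | zero =>
      intro x hx
      refine ⟨0, ?_⟩
      rw [pow_zero, one_smul]
      have := hx 1 (by rw [pow_zero, Ideal.one_eq_top]; exact Submodule.mem_top)
      rwa [one_smul] at this
    | succ a ih =>
      intro x hx
      have h2 : ∀ r ∈ J ^ a, r • (f • x) ∈ E' := by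
        intro r hr
        have hrN : r • x ∈ N := fun c hc => by
          rw [← mul_smul]
          exact hx (c * r) (by rw [pow_succ']; exact Ideal.mul_mem_mul hc hr)
        rw [smul_comm]
        exact hfN _ hrN
      obtain ⟨k, hk⟩ := ih (f • x) h2
      exact ⟨k + 1, by rw [pow_succ, mul_smul]; exact hk⟩
  refine ⟨f, E', hfp, hE'fg, ?_⟩
  intro y
  obtain ⟨x, rfl⟩ := Submodule.Quotient.mk_surjective _ y
  obtain ⟨a, ha⟩ := isPowerTorsion_coker_toDT J E (Submodule.Quotient.mk x)
  have ha' : ∀ r ∈ J ^ a, r • x ∈ E' := fun r hr => by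
    have := ha r hr
    rw [← Submodule.Quotient.mk_smul, Submodule.Quotient.mk_eq_zero] at this
    exact hrange this
  obtain ⟨k, hk⟩ := hC a x ha'
  refine ⟨a + k, fun r hr => ?_⟩
  rw [← Submodule.Quotient.mk_smul, Submodule.Quotient.mk_eq_zero]
  have h3 := Ideal.sup_pow_add_le_pow_sup_pow hr
  obtain ⟨r₁, hr₁, r₂, hr₂, rfl⟩ := Submodule.mem_sup.mp h3
  rw [add_smul]
  refine E'.add_mem (ha' r₁ hr₁) ?_
  rw [Ideal.span_singleton_pow, Ideal.mem_span_singleton'] at hr₂
  obtain ⟨c, rfl⟩ := hr₂
  rw [mul_smul]
  exact E'.smul_mem c hk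

end secB

section secC

variable {B : Type u} [CommRing B] [IsNoetherianRing B]

/-- Passing to a larger ideal and a finite submodule of the transform with torsion cokernel. -/
theorem finDT_of_submodule (J J' : Ideal B) (hJJ' : J ≤ J') (E : Type u) [AddCommGroup E]
    [Module B E] (E' : Submodule B (DT J E))
    (hcoker : IsPowerTorsion J' (DT J E ⧸ E')) (hfin : FinDT J' E') : FinDT J E := by
  let D := DT J E
  let e : E' →ₗ[B] D := E'.subtype
  have hker : LinearMap.ker e ≤ DRing.torsionSub J' E' := by
    rw [Submodule.ker_subtype]; exact bot_le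
  have hcoker' : IsPowerTorsion J' (D ⧸ LinearMap.range e) := by
    rw [Submodule.range_subtype]; exact hcoker
  have hbij := DT_map_bijective J' e hker hcoker'
  have hinj : Function.Injective (toDT J' D) := by
    rw [← LinearMap.ker_eq_bot, ker_toDT, eq_bot_iff]
    intro x hx
    obtain ⟨n, hn⟩ := hx
    have h1 : x ∈ DRing.torsionSub J D :=
      ⟨n, fun a ha => hn a (Ideal.pow_right_mono hJJ' n ha)⟩
    rw [torsionSub_DT_eq_bot] at h1
    exact h1
  haveI : Module.Finite B (DT J' E') := hfin
  haveI : Module.Finite B (DT J' D) := Module.Finite.of_surjective _ hbij.2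
  exact Module.Finite.of_injective (toDT J' D) hinj

/-- **Local finiteness** at a minimal prime of `J`, from the criterion on the completion. -/
theorem finite_localized_H_one (J p : Ideal B) [p.IsPrime] (hp : p ∈ J.minimalPrimes)
    (hcrit : ∀ r ∈ associatedPrimes (EGA4.Cpl (Localization.AtPrime p))
        (EGA4.Cpl (Localization.AtPrime p)),
      (2 : WithBot ℕ∞) ≤ ringKrullDim (EGA4.Cpl (Localization.AtPrime p) ⧸ r))
    (E : Type u) [AddCommGroup E] [Module B E] [Module.Finite B E] (ι : E →ₗ[B] B)
    (hι : Function.Injective ι) :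
    Module.Finite (Localization.AtPrime p) (LocalizedModule p.primeCompl (H J 1 E)) := by
  let S := p.primeCompl
  let C := Localization.AtPrime p
  let Ep := LocalizedModule S E
  let Ĉ := EGA4.Cpl C
  haveI : IsNoetherianRing Ĉ := Groth.Agent.Helper8.AdicReg.isNoetherianRing C _
  haveI : Module.Finite C Ep :=
    Module.Finite.of_isLocalizedModule S (LocalizedModule.mkLinearMap S E)
  -- the localized embedding
  let ιp₀ : Ep →ₗ[B] C :=
    IsLocalizedModule.map S (LocalizedModule.mkLinearMap S E) (Algebra.linearMap B C) ι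
  have hιp₀ : Function.Injective ιp₀ :=
    IsLocalizedModule.map_injective S (LocalizedModule.mkLinearMap S E) (Algebra.linearMap B C) ι hι
  let ιp : Ep →ₗ[C] C := ιp₀.extendScalarsOfIsLocalization S C
  have hιp : Function.Injective ιp := hιp₀
  -- associated primes of the completed module
  have hass : associatedPrimes Ĉ (Ĉ ⊗[C] Ep) ⊆ associatedPrimes Ĉ Ĉ := by
    have h1 : Function.Injective (ιp.baseChange Ĉ) := by
      have := Module.Flat.lTensor_preserves_injective_linearMap (M := Ĉ) ιp hιp
      exact this
    have h2 := associatedPrimes.subset_of_injective h1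
    have h3 := LinearEquiv.AssociatedPrimes.eq (TensorProduct.AlgebraTensorModule.rid C Ĉ Ĉ)
    rw [h3] at h2
    exact h2
  have hfin : FinDT (maximalIdeal C) Ep := by
    rw [finDT_maximalIdeal_iff_cpl]
    intro r hr _
    exact hcrit r (hass hr)
  have h1 : Module.Finite C (H (maximalIdeal C) 1 Ep) := finite_H_one _ hfin
  -- change of ideal
  have hrad := Groth.Agent.Helper8.LC.radical_map_eq_of_mem_minimalPrimes J p hp
  obtain ⟨φ, hφ⟩ := Groth.Agent.Helper8.LC.exists_equiv_of_radical_eq
    (J.map (algebraMap B C)) (maximalIdeal C) hrad 1 Ep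
  have h2 : Module.Finite C (H (J.map (algebraMap B C)) 1 Ep) :=
    Module.Finite.equiv (φ.toLinearEquiv hφ)
  obtain ⟨ψ⟩ := Groth.Agent.Helper8.LC.nonempty_localizedModule_H_equiv J S E 1
  exact Module.Finite.equiv ψ.symm

end secC

section secD

variable {B : Type u} [CommRing B] [IsNoetherianRing B] [IsDomain B]

/-- finite submodules of the transform of a module embedded in `B` again embed in `B`. -/
theorem exists_embedding_of_submodule_DT (J : Ideal B) (hJ0 : J ≠ ⊥) (E : Type u)
    [AddCommGroup E] [Module B E] (ι : E →ₗ[B] B) (hι : Function.Injective ι)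
    (E' : Submodule B (DT J E)) (hfg : E'.FG) :
    ∃ ι' : E' →ₗ[B] B, Function.Injective ι' := by
  classical
  obtain ⟨t, htJ, ht0⟩ := Submodule.exists_mem_ne_zero_of_ne_bot hJ0
  let K := FractionRing B
  let g₀ : DT J E →ₗ[B] K :=
    toFrac J t htJ ht0 ∘ₗ ((idealTransform J).map (ModuleCat.ofHom ι)).hom
  have hg₀ : Function.Injective g₀ :=
    (toFrac_injective J t htJ ht0).comp (DT_map_injective J ι hι)
  obtain ⟨T, hT⟩ := hfg
  obtain ⟨d, hd⟩ := IsLocalization.exist_integer_multiples_of_finset (nonZeroDivisors B)
    (T.image g₀)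
  have hd0 : (d : B) ≠ 0 := nonZeroDivisors.ne_zero d.2
  let W : Submodule B K := LinearMap.range (Algebra.linearMap B K)
  have hW : ∀ x ∈ E', (d : B) • g₀ x ∈ W := by
    intro x hx
    rw [← hT] at hx
    induction hx using Submodule.span_induction with
    | mem y hy =>
      obtain ⟨b, hb⟩ := hd (g₀ y) (Finset.mem_image_of_mem g₀ hy)
      exact ⟨b, hb⟩
    | zero => rw [map_zero, smul_zero]; exact W.zero_mem
    | add x y _ _ hx hy => rw [map_add, smul_add]; exact W.add_mem hx hy
    | smul a x _ hx => rw [map_smul, smul_comm]; exact W.smul_mem a hx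
  have hinj : Function.Injective (Algebra.linearMap B K) := IsFractionRing.injective B K
  let g : E' →ₗ[B] K := (d : B) • (g₀ ∘ₗ E'.subtype)
  let g' : E' →ₗ[B] W := LinearMap.codRestrict W g (fun x => hW x.1 x.2)
  refine ⟨(LinearEquiv.ofInjective (Algebra.linearMap B K) hinj).symm.toLinearMap ∘ₗ g', ?_⟩
  rw [LinearMap.coe_comp]
  apply (LinearEquiv.injective _).comp
  rw [injective_iff_map_eq_zero]
  intro x hx
  have h1 : (d : B) • g₀ (x : DT J E) = 0 := congrArg Subtype.val hx
  rw [Algebra.smul_def, mul_eq_zero] at h1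
  rcases h1 with h1 | h1
  · exact absurd ((map_eq_zero_iff _ (IsFractionRing.injective B K)).mp h1) hd0
  · exact Subtype.ext (hg₀ (h1.trans (map_zero g₀).symm))

end secD

section secE

/-- the local criterion on the completions of the local rings of height at least two. -/
def LocalCrit (B : Type u) [CommRing B] : Prop :=
  ∀ (p : Ideal B) [p.IsPrime], (2 : ℕ∞) ≤ p.height →
    ∀ r ∈ associatedPrimes (EGA4.Cpl (Localization.AtPrime p))
        (EGA4.Cpl (Localization.AtPrime p)),
      (2 : WithBot ℕ∞) ≤ ringKrullDim (EGA4.Cpl (Localization.AtPrime p) ⧸ r)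

variable {B : Type u} [CommRing B] [IsNoetherianRing B] [IsDomain B]

/-- **Noetherian induction**: under the local criterion, transforms of ideals of height at least
two of modules embedded in `B` are finite. -/
theorem finDT_of_localCrit (hP : LocalCrit B) (J : Ideal B) :
    (2 : ℕ∞) ≤ J.height → ∀ (E : Type u) [AddCommGroup E] [Module B E] [Module.Finite B E]
      (ι : E →ₗ[B] B), Function.Injective ι → FinDT J E := by
  induction J using IsNoetherian.induction with
  | hgt J ih =>
    intro hJ E _ _ _ ι hι
    by_cases htop : J = ⊤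
    · subst htop
      exact finDT_top E
    obtain ⟨p, hp⟩ := Ideal.nonempty_minimalPrimes htop
    haveI : p.IsPrime := hp.1.1
    have hp2 : (2 : ℕ∞) ≤ p.height := hJ.trans (Ideal.height_mono hp.1.2)
    have hloc := finite_localized_H_one J p hp (hP p hp2) E ι hι
    obtain ⟨f, E', hfp, hE'fg, htors⟩ := exists_submodule_of_localized_finite J E p hloc
    have hJ0 : J ≠ ⊥ := by
      rintro rfl
      rw [Ideal.height_bot] at hJ
      norm_num at hJ
    obtain ⟨ι', hι'⟩ := exists_embedding_of_submodule_DT J hJ0 E ι hι E' hE'fg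
    have hlt : J < J ⊔ Ideal.span {f} := by
      refine lt_of_le_of_ne le_sup_left (fun heq => hfp (hp.1.2 ?_))
      rw [heq]
      exact Ideal.mem_sup_right (Ideal.mem_span_singleton_self f)
    haveI : Module.Finite B E' := Module.Finite.iff_fg.mpr hE'fg
    have h' := ih (J ⊔ Ideal.span {f}) hlt (hJ.trans (Ideal.height_mono le_sup_left)) E' ι' hι'
    exact finDT_of_submodule J _ le_sup_left E E' htors h'

end secE

end Groth.Agent.Helper8.PushCoh
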