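import Groth.Agent.Lib.Helper8.PushCoh8

/-!
# The ring of sections over the complement of `V(J)` in a domain, as a subalgebra of the
fraction field
-/

set_option autoImplicit false
set_option linter.unusedSectionVars false
set_option linter.style.haveILetI false
universe u

namespace Groth.Agent.Helper8.PushCoh

open LocCoh Groth.Agent.Helper8.DT Groth.Agent.Helper8.FinH1 IsLocalRing TensorProduct

variable (B : Type u) [CommRing B] [IsDomain B] [IsNoetherianRing B] (J : Ideal B)

local notation "K" => FractionRing B

/-- the set of elements of the fraction field regular at all points outside `V(J)`. -/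
def secSet : Set K :=
  {x | ∀ (p : Ideal B) [p.IsPrime], ¬ J ≤ p →
    ∃ s : B, s ∉ p ∧ ∃ a : B, algebraMap B K a = algebraMap B K s * x}

/-- it is a subalgebra. -/
def secSubalgebra : Subalgebra B K where
  carrier := secSet B J
  mul_mem' := by
    intro x y hx hy p _ hp
    obtain ⟨s, hs, a, ha⟩ := hx p hp
    obtain ⟨s', hs', a', ha'⟩ := hy p hp
    refine ⟨s * s', Ideal.IsPrime.mul_notMem ‹_› hs hs', a * a', ?_⟩
    rw [map_mul, map_mul, ha, ha']
    ring
  one_mem' := by
    intro p _ hp
    exact ⟨1, Ideal.IsPrime.one_notMem ‹_›, 1, by rw [map_one, one_mul]⟩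
  add_mem' := by
    intro x y hx hy p _ hp
    obtain ⟨s, hs, a, ha⟩ := hx p hp
    obtain ⟨s', hs', a', ha'⟩ := hy p hp
    refine ⟨s * s', Ideal.IsPrime.mul_notMem ‹_› hs hs', s' * a + s * a', ?_⟩
    rw [map_add, map_mul, map_mul, map_mul, ha, ha']
    ring
  zero_mem' := by
    intro p _ hp
    exact ⟨1, Ideal.IsPrime.one_notMem ‹_›, 0, by rw [map_zero, mul_zero]⟩
  algebraMap_mem' := by
    intro b p _ hp
    exact ⟨1, Ideal.IsPrime.one_notMem ‹_›, b, by rw [map_one, one_mul]⟩

theorem coe_secSubalgebra : (secSubalgebra B J : Set K) = secSet B J := rfl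

variable {B J}

/-- every element of `secSet` lies in the image of the ideal transform. -/
theorem mem_range_toFrac (t : B) (htJ : t ∈ J) (ht0 : t ≠ 0) {x : K} (hx : x ∈ secSet B J) :
    x ∈ LinearMap.range (toFrac J t htJ ht0) := by
  classical
  have hinj : Function.Injective (algebraMap B K) := IsFractionRing.injective B K
  let 𝔞 : Ideal B :=
    { carrier := {b | ∃ a : B, algebraMap B K a = algebraMap B K b * x}
      add_mem' := by
        rintro b b' ⟨a, ha⟩ ⟨a', ha'⟩
        exact ⟨a + a', by rw [map_add, map_add, ha, ha', add_mul]⟩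
      zero_mem' := ⟨0, by rw [map_zero, zero_mul]⟩
      smul_mem' := by
        rintro c b ⟨a, ha⟩
        exact ⟨c * a, by rw [smul_eq_mul, map_mul, map_mul, ha, mul_assoc]⟩ }
  have hle : J ≤ 𝔞.radical := by
    rw [Ideal.radical_eq_sInf]
    refine le_sInf (fun p hp => ?_)
    haveI := hp.2
    by_contra hJp
    obtain ⟨s, hs, a, ha⟩ := hx p hJp
    exact hs (hp.1 ⟨a, ha⟩)
  obtain ⟨n, hn⟩ := Ideal.exists_pow_le_of_le_radical_of_fg hle
    ((isNoetherianRing_iff_ideal_fg B).mp inferInstance J)
  have hex : ∀ b : (J ^ n : Ideal B), ∃ a : B, algebraMap B K a = algebraMap B K b * x :=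
    fun b => hn b.2
  choose g hg using hex
  let φ : (J ^ n : Ideal B) →ₗ[B] (ModuleCat.of B B) :=
    { toFun := g
      map_add' := fun b b' => by
        apply hinj
        change algebraMap B K (g (b + b')) = algebraMap B K (g b + g b')
        rw [hg, map_add, hg, hg, Submodule.coe_add, map_add, add_mul]
      map_smul' := fun c b => by
        apply hinj
        change algebraMap B K (g (c • b)) = algebraMap B K (c * g b)
        rw [hg, map_mul, hg, Submodule.coe_smul, smul_eq_mul, map_mul, mul_assoc] }
  refine ⟨ιD J n (ModuleCat.of B B) φ, ?_⟩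
  rw [toFrac_ι, evalFrac_apply]
  have htn : algebraMap B K (t ^ n) ≠ 0 := by
    rw [Ne, map_eq_zero_iff _ hinj]
    exact pow_ne_zero n ht0
  rw [div_eq_iff htn]
  change algebraMap B K (g ⟨t ^ n, _⟩) = _
  rw [hg, mul_comm]

/-- **Finiteness of the ring of sections** from finiteness of the ideal transform. -/
theorem finite_secSubalgebra (hJ0 : J ≠ ⊥) (hfin : FinDT J B) :
    Module.Finite B (secSubalgebra B J) := by
  obtain ⟨t, htJ, ht0⟩ := Submodule.exists_mem_ne_zero_of_ne_bot hJ0
  haveI : Module.Finite B (DT J B) := hfin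
  haveI : Module.Finite B (LinearMap.range (toFrac J t htJ ht0)) :=
    Module.Finite.range (toFrac J t htJ ht0)
  haveI : IsNoetherian B (LinearMap.range (toFrac J t htJ ht0)) :=
    isNoetherian_of_isNoetherianRing_of_finite B _
  have hle : Subalgebra.toSubmodule (secSubalgebra B J) ≤ LinearMap.range (toFrac J t htJ ht0) :=
    fun x hx => mem_range_toFrac t htJ ht0 hx
  haveI : Module.Finite B (Subalgebra.toSubmodule (secSubalgebra B J)) :=
    Module.Finite.of_injective (Submodule.inclusion hle) (Submodule.inclusion_injective hle)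
  exact Module.Finite.equiv (Subalgebra.toSubmoduleEquiv (secSubalgebra B J))

end Groth.Agent.Helper8.PushCoh
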