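import Mathlib
import Groth.Prelude
import Groth.Agent.Lib.Helper8.QGorBC1
import Groth.Agent.Lib.Helper8.FibBC3
import Groth.Agent.S18708
import Groth.Agent.Lib.Helper8.Refl3

/-!
# The local four-term criterion at a prime of a non-local ring
-/

set_option autoImplicit false
universe u

namespace Groth.Agent.Helper8.QGorBC

open TensorProduct LocCoh

section DL

variable (B : Type u) [CommRing B] (q : Ideal B) [q.IsPrime]
  (𝔮 : Ideal (Localization.AtPrime q)) [𝔮.IsPrime] (X : Type u) [AddCommGroup X] [Module B X]

/-- A localization of a localization at a prime is the localization at the contracted prime. -/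
theorem isLocalizedModule_comp :
    IsLocalizedModule (𝔮.comap (algebraMap B (Localization.AtPrime q))).primeCompl
      (((LocalizedModule.mkLinearMap 𝔮.primeCompl
        (LocalizedModule q.primeCompl X)).restrictScalars B) ∘ₗ
        (LocalizedModule.mkLinearMap q.primeCompl X)) := by
  have hb1 : IsBaseChange (Localization.AtPrime q) (LocalizedModule.mkLinearMap q.primeCompl X) :=
    IsLocalizedModule.isBaseChange q.primeCompl _ _
  have hb2 : IsBaseChange (Localization.AtPrime 𝔮)
      (LocalizedModule.mkLinearMap 𝔮.primeCompl (LocalizedModule q.primeCompl X)) :=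
    IsLocalizedModule.isBaseChange 𝔮.primeCompl _ _
  have hb := IsBaseChange.comp hb1 hb2
  haveI : IsLocalization.AtPrime (Localization.AtPrime 𝔮)
      (𝔮.comap (algebraMap B (Localization.AtPrime q))) :=
    IsLocalization.isLocalization_isLocalization_atPrime_isLocalization q.primeCompl
      (Localization.AtPrime 𝔮) 𝔮
  exact (isLocalizedModule_iff_isBaseChange
    (𝔮.comap (algebraMap B (Localization.AtPrime q))).primeCompl (Localization.AtPrime 𝔮) _).mpr hb

/-- The double localization is the localization at the contracted prime. -/
noncomputable def doubleLocEquiv :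
    LocalizedModule (𝔮.comap (algebraMap B (Localization.AtPrime q))).primeCompl X ≃ₗ[B]
      LocalizedModule 𝔮.primeCompl (LocalizedModule q.primeCompl X) :=
  haveI := isLocalizedModule_comp B q 𝔮 X
  IsLocalizedModule.iso (𝔮.comap (algebraMap B (Localization.AtPrime q))).primeCompl
    (((LocalizedModule.mkLinearMap 𝔮.primeCompl
        (LocalizedModule q.primeCompl X)).restrictScalars B) ∘ₗ
        (LocalizedModule.mkLinearMap q.primeCompl X))

end DL

section LOC

variable (A B : Type u) [CommRing A] [CommRing B] [Algebra A B] (q : Ideal B) [q.IsPrime]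

/-- The local algebra structure `A_p → B_q`. -/
@[reducible] noncomputable def algLoc : Algebra (Localization.AtPrime (q.comap (algebraMap A B)))
    (Localization.AtPrime q) :=
  (Localization.localRingHom (q.comap (algebraMap A B)) q (algebraMap A B) rfl).toAlgebra

attribute [local instance] algLoc

instance isScalarTower_algLoc : IsScalarTower A (Localization.AtPrime (q.comap (algebraMap A B)))
    (Localization.AtPrime q) :=
  .of_algebraMap_eq (fun a => by
    have h1 : algebraMap (Localization.AtPrime (q.comap (algebraMap A B)))
        (Localization.AtPrime q) (algebraMap A _ a) =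
        algebraMap B (Localization.AtPrime q) (algebraMap A B a) :=
      Localization.localRingHom_to_map _ _ _ rfl a
    rw [h1, ← IsScalarTower.algebraMap_apply])

instance isLocalHom_algLoc : IsLocalHom (algebraMap
    (Localization.AtPrime (q.comap (algebraMap A B))) (Localization.AtPrime q)) :=
  Localization.isLocalHom_localRingHom _ q (algebraMap A B) rfl

variable (X : Type u) [AddCommGroup X] [Module B X]

/-- The `A_p`-module structure on a stalk `X_q`. -/
@[reducible] noncomputable def modLoc : Module (Localization.AtPrime (q.comap (algebraMap A B)))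
    (LocalizedModule q.primeCompl X) :=
  Module.compHom (LocalizedModule q.primeCompl X)
    (algebraMap (Localization.AtPrime (q.comap (algebraMap A B))) (Localization.AtPrime q))

attribute [local instance] modLoc

instance isScalarTower_modLoc : IsScalarTower (Localization.AtPrime (q.comap (algebraMap A B)))
    (Localization.AtPrime q) (LocalizedModule q.primeCompl X) :=
  ⟨fun a b x => by
    change (a • b) • x = algebraMap (Localization.AtPrime (q.comap (algebraMap A B)))
      (Localization.AtPrime q) a • (b • x)
    rw [Algebra.smul_def, mul_smul]⟩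

instance isScalarTower_modLoc' [Module A X] [IsScalarTower A B X] :
    IsScalarTower A (Localization.AtPrime (q.comap (algebraMap A B)))
      (LocalizedModule q.primeCompl X) :=
  ⟨fun a b x => by
    change algebraMap (Localization.AtPrime (q.comap (algebraMap A B)))
      (Localization.AtPrime q) (a • b) • x =
      a • (algebraMap (Localization.AtPrime (q.comap (algebraMap A B)))
        (Localization.AtPrime q) b • x)
    rw [Algebra.smul_def, map_mul, mul_smul,
      ← IsScalarTower.algebraMap_apply A (Localization.AtPrime (q.comap (algebraMap A B)))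
        (Localization.AtPrime q), algebraMap_smul]⟩

/-- Flatness of a stalk over `A_p` and over `A` agree. -/
theorem flat_modLoc_iff [Module A X] [IsScalarTower A B X] :
    Module.Flat (Localization.AtPrime (q.comap (algebraMap A B)))
      (LocalizedModule q.primeCompl X) ↔ Module.Flat A (LocalizedModule q.primeCompl X) :=
  Module.flat_iff_of_isLocalization (Localization.AtPrime (q.comap (algebraMap A B)))
    (q.comap (algebraMap A B)).primeCompl (LocalizedModule q.primeCompl X)

/-- The ideal `m_{A_p} B_q` is `p B_q`. -/
theorem mB_eq : EGA4.mB (Localization.AtPrime (q.comap (algebraMap A B)))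
    (Localization.AtPrime q) =
    (q.comap (algebraMap A B)).map (algebraMap A (Localization.AtPrime q)) := by
  unfold EGA4.mB
  rw [← Localization.AtPrime.map_eq_maximalIdeal, Ideal.map_map, ← IsScalarTower.algebraMap_eq]

/-- The closed fibre of the stalk is the fibre module. -/
noncomputable def fibModEquiv :
    EGA4.FibMod (Localization.AtPrime (q.comap (algebraMap A B))) (Localization.AtPrime q)
      (LocalizedModule q.primeCompl X) ≃ₗ[Localization.AtPrime q] EGA4.FibLocMod A B q X :=
  Submodule.quotEquivOfEq _ _ (by rw [mB_eq])

/-- Flatness at a prime of the localized ring in terms of flatness at the contracted prime. -/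
theorem flatAt_doubleLoc [Module A X] [IsScalarTower A B X]
    (𝔮 : Ideal (Localization.AtPrime q)) [𝔮.IsPrime]
    (h : FlatCA.FlatAt A (𝔮.comap (algebraMap B (Localization.AtPrime q))) X) :
    FlatCA.FlatAt (Localization.AtPrime (q.comap (algebraMap A B))) 𝔮
      (LocalizedModule q.primeCompl X) := by
  unfold FlatCA.FlatAt at h ⊢
  haveI := h
  have h1 : Module.Flat A (LocalizedModule 𝔮.primeCompl (LocalizedModule q.primeCompl X)) :=
    Module.Flat.of_linearEquiv ((doubleLocEquiv B q 𝔮 X).restrictScalars A).symm
  exact (Module.flat_iff_of_isLocalization (Localization.AtPrime (q.comap (algebraMap A B)))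
    (q.comap (algebraMap A B)).primeCompl _).mpr h1

omit [q.IsPrime] in
theorem comap_le_of_prime [q.IsPrime] (𝔮 : Ideal (Localization.AtPrime q)) [𝔮.IsPrime] :
    𝔮.comap (algebraMap B (Localization.AtPrime q)) ≤ q := by
  intro x hx
  by_contra hxq
  have hu : IsUnit (algebraMap B (Localization.AtPrime q) x) :=
    IsLocalization.map_units (Localization.AtPrime q) (⟨x, hxq⟩ : q.primeCompl)
  exact (inferInstance : 𝔮.IsPrime).ne_top (Ideal.eq_top_of_isUnit_mem _ hx hu)

/-- The local four-term criterion (S18708) applied at a prime `q` of `B`. -/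
theorem fourTerm_at_prime [IsNoetherianRing A] [IsNoetherianRing B] (J : Ideal B)
    (F E0 E1 G : Type u) [AddCommGroup F] [Module B F] [Module A F] [IsScalarTower A B F]
    [Module.Finite B F]
    [AddCommGroup E0] [Module B E0] [Module A E0] [IsScalarTower A B E0] [Module.Finite B E0]
    [Module.Flat A E0]
    [AddCommGroup E1] [Module B E1] [Module A E1] [IsScalarTower A B E1] [Module.Finite B E1]
    [Module.Flat A E1]
    [AddCommGroup G] [Module B G] [Module A G] [IsScalarTower A B G] [Module.Finite B G]
    (f : F →ₗ[B] E0) (u : E0 →ₗ[B] E1) (v : E1 →ₗ[B] G)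
    (hf : Function.Injective f) (hfu : Function.Exact f u) (huv : Function.Exact u v)
    (hv : Function.Surjective v)
    (hGU : ∀ q'' : PrimeSpectrum B, q''.asIdeal ≤ q → ¬ J ≤ q''.asIdeal →
      FlatCA.FlatAt A q''.asIdeal G)
    (h0 : 2 ≤ idealDepth (J.map (algebraMap B (Localization.AtPrime q)))
      (EGA4.FibLocMod A B q E0))
    (h1 : 1 ≤ idealDepth (J.map (algebraMap B (Localization.AtPrime q)))
      (EGA4.FibLocMod A B q E1)) :
    (2 ≤ idealDepth (J.map (algebraMap B (Localization.AtPrime q))) (EGA4.FibLocMod A B q F) ↔
      FlatCA.FlatAt A q G) ∧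
    (FlatCA.FlatAt A q G → FlatCA.FlatAt A q F) := by
  haveI : Module.Flat (Localization.AtPrime (q.comap (algebraMap A B)))
      (LocalizedModule q.primeCompl E0) :=
    (flat_modLoc_iff A B q E0).mpr (FibMod.flat_of_isLocalizedModule q.primeCompl
      (LocalizedModule.mkLinearMap q.primeCompl E0))
  haveI : Module.Flat (Localization.AtPrime (q.comap (algebraMap A B)))
      (LocalizedModule q.primeCompl E1) :=
    (flat_modLoc_iff A B q E1).mpr (FibMod.flat_of_isLocalizedModule q.primeCompl
      (LocalizedModule.mkLinearMap q.primeCompl E1))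
  have hGU' : ∀ 𝔮 : PrimeSpectrum (Localization.AtPrime q),
      ¬ J.map (algebraMap B (Localization.AtPrime q)) ≤ 𝔮.asIdeal →
      FlatCA.FlatAt (Localization.AtPrime (q.comap (algebraMap A B))) 𝔮.asIdeal
        (LocalizedModule q.primeCompl G) := by
    intro 𝔮 h𝔮
    apply flatAt_doubleLoc
    apply hGU ⟨𝔮.asIdeal.comap (algebraMap B (Localization.AtPrime q)), inferInstance⟩
    · exact comap_le_of_prime B q 𝔮.asIdeal
    · intro hJ
      exact h𝔮 (Ideal.map_le_iff_le_comap.mpr hJ)
  have h0' : 2 ≤ idealDepth (J.map (algebraMap B (Localization.AtPrime q)))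
      (EGA4.FibMod (Localization.AtPrime (q.comap (algebraMap A B))) (Localization.AtPrime q)
        (LocalizedModule q.primeCompl E0)) := by
    rw [Depth.idealDepth_congr (fibModEquiv A B q E0)]
    exact h0
  have h1' : 1 ≤ idealDepth (J.map (algebraMap B (Localization.AtPrime q)))
      (EGA4.FibMod (Localization.AtPrime (q.comap (algebraMap A B))) (Localization.AtPrime q)
        (LocalizedModule q.primeCompl E1)) := by
    rw [Depth.idealDepth_congr (fibModEquiv A B q E1)]
    exact h1
  obtain ⟨k1, -, k3⟩ := Groth.Agent.S18708.result
    (Localization.AtPrime (q.comap (algebraMap A B))) (Localization.AtPrime q)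
    (J.map (algebraMap B (Localization.AtPrime q)))
    (LocalizedModule q.primeCompl F) (LocalizedModule q.primeCompl E0)
    (LocalizedModule q.primeCompl E1) (LocalizedModule q.primeCompl G)
    (locMap q.primeCompl f) (locMap q.primeCompl u) (locMap q.primeCompl v)
    (locMap_injective q.primeCompl f hf) (locMap_exact q.primeCompl f u hfu)
    (locMap_exact q.primeCompl u v huv) (locMap_surjective q.primeCompl v hv) hGU' h0' h1'
  rw [Depth.idealDepth_congr (fibModEquiv A B q F), flat_modLoc_iff] at k1
  refine ⟨k1, ?_⟩
  intro hG
  exact (flat_modLoc_iff A B q F).mp (k3 ((flat_modLoc_iff A B q G).mpr hG))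

end LOC

section free

variable (A B : Type u) [CommRing A] [CommRing B] [IsNoetherianRing B] [Algebra A B]
  (q : Ideal B) [q.IsPrime]

/-- The fibre module of a module whose stalk is free has at least the depth of the fibre local
ring (along any ideal). -/
theorem idealDepth_fibLocRing_le_fibLocMod_of_free (X : Type u) [AddCommGroup X] [Module B X]
    [Module.Finite B X]
    [Module.Free (Localization.AtPrime q) (LocalizedModule q.primeCompl X)]
    (I : Ideal (Localization.AtPrime q)) :
    idealDepth I (EGA4.FibLocRing A B q) ≤ idealDepth I (EGA4.FibLocMod A B q X) := by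
  let b := Module.finBasis (Localization.AtPrime q) (LocalizedModule q.primeCompl X)
  let e : EGA4.FibLocMod A B q X ≃ₗ[Localization.AtPrime q]
      (Fin (Module.finrank (Localization.AtPrime q) (LocalizedModule q.primeCompl X)) →
        EGA4.FibLocRing A B q) :=
    (quotTensorEquivQuotSMul (LocalizedModule q.primeCompl X)
      ((q.comap (algebraMap A B)).map (algebraMap A (Localization.AtPrime q)))).symm ≪≫ₗ
    (TensorProduct.congr (LinearEquiv.refl (Localization.AtPrime q) (EGA4.FibLocRing A B q))
      b.equivFun) ≪≫ₗ
    (TensorProduct.piScalarRight (Localization.AtPrime q) (Localization.AtPrime q)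
      (EGA4.FibLocRing A B q) _)
  rw [Depth.idealDepth_congr e]
  exact Groth.Agent.Helper8.Refl.idealDepth_le_pi I (EGA4.FibLocRing A B q) _

end free

end Groth.Agent.Helper8.QGorBC
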