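import Mathlib
import Groth.Prelude
import Groth.Agent.Lib.Helper8.MvPSLocal
import Groth.Agent.Lib.Helper8.PSeries1

/-!
# Power series basics for non-degenerate quadratic singularities

Linear coefficients, the Jacobian ideal of a series without low-order terms, and two
"extension by continuity" principles for maps out of a power series ring over a field.
-/

set_option autoImplicit false
universe u

namespace Groth.Agent.Helper8.QSing

open MvPowerSeries Groth.Agent.Helper8

section aux

variable {k : Type u} [Field k] {N : ℕ}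

theorem coeff_single_mul_X (h : MvPowerSeries (Fin N) k) (i l : Fin N) :
    coeff (Finsupp.single l 1) (h * X i) = if i = l then constantCoeff h else 0 := by
  classical
  split_ifs with hil
  · subst hil
    have := coeff_add_mul_monomial (R := k) (m := (0 : Fin N →₀ ℕ)) (n := Finsupp.single i 1)
      (φ := h) (1 : k)
    rw [zero_add, mul_one, ← X_def] at this
    rw [this, coeff_zero_eq_constantCoeff_apply]
  · have hd : (X i : MvPowerSeries (Fin N) k) ∣ h * X i := Dvd.intro_left h rfl
    exact (X_dvd_iff.mp hd) _ (by simp [Finsupp.single_apply, Ne.symm hil])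

theorem mem_sq_of_coeff (g : MvPowerSeries (Fin N) k) (h0 : constantCoeff g = 0)
    (h1 : ∀ l : Fin N, coeff (Finsupp.single l 1) g = 0) :
    g ∈ IsLocalRing.maximalIdeal (MvPowerSeries (Fin N) k) *
      IsLocalRing.maximalIdeal (MvPowerSeries (Fin N) k) := by
  classical
  have hg := mvPowerSeries_mem_span_range_X g h0
  rw [Ideal.mem_span_range_iff_exists_fun] at hg
  obtain ⟨h, hh⟩ := hg
  have hh' : ∑ i, h i * (X i : MvPowerSeries (Fin N) k) = g := hh
  rw [← hh']
  refine Ideal.sum_mem _ fun i _ => ?_
  refine Ideal.mul_mem_mul ?_ ?_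
  · rw [mvPowerSeries_mem_maximalIdeal_iff (Fin N) k]
    have := h1 i
    rw [← hh', map_sum, Finset.sum_eq_single i] at this
    · rwa [coeff_single_mul_X, if_pos rfl] at this
    · intro j _ hj
      rw [coeff_single_mul_X, if_neg hj]
    · intro hi
      exact absurd (Finset.mem_univ i) hi
  · rw [mvPowerSeries_mem_maximalIdeal_iff (Fin N) k, constantCoeff_X]

theorem coeff_single_pderiv (f : MvPowerSeries (Fin N) k) (i l : Fin N) :
    coeff (Finsupp.single l 1) (pderiv k i f) =
      VanCyc.polarMatrix (VanCyc.quadPart f) i l := by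
  classical
  rw [coeff_pderiv]
  unfold VanCyc.polarMatrix VanCyc.quadPart
  rcases lt_trichotomy i l with h | h | h
  · have hne : i ≠ l := ne_of_lt h
    have hne' : l ≠ i := Ne.symm hne
    simp only [if_neg hne, if_pos h, Finsupp.single_apply, if_neg hne']
    rw [add_comm (Finsupp.single l 1)]
    simp
  · subst h
    simp only [if_pos rfl, Finsupp.single_apply]
    rw [← Finsupp.single_add]
    norm_num
    ring
  · have hne : i ≠ l := ne_of_gt h
    have hne' : l ≠ i := Ne.symm hne
    have hnl : ¬ i < l := not_lt.mpr h.le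
    simp only [if_neg hne, if_neg hnl, if_pos h, if_neg hne', Finsupp.single_apply]
    simp

theorem cc_pderiv (f : MvPowerSeries (Fin N) k) (i : Fin N) :
    constantCoeff (pderiv k i f) = coeff (Finsupp.single i 1) f := by
  rw [← coeff_zero_eq_constantCoeff_apply, coeff_pderiv]
  simp

theorem coeff_single_mul (a b : MvPowerSeries (Fin N) k) (l : Fin N) :
    coeff (Finsupp.single l 1) (a * b) =
      constantCoeff a * coeff (Finsupp.single l 1) b +
        constantCoeff b * coeff (Finsupp.single l 1) a := by
  rw [← cc_pderiv, ← cc_pderiv, ← cc_pderiv, Derivation.leibniz, map_add, smul_eq_mul,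
    smul_eq_mul, map_mul, map_mul]

theorem sub_lin_mem_sq (f : MvPowerSeries (Fin N) k) (hf : VanCyc.NoLowTerms f) (i : Fin N) :
    pderiv k i f - ∑ l, C (VanCyc.polarMatrix (VanCyc.quadPart f) i l) *
        (X l : MvPowerSeries (Fin N) k) ∈
      IsLocalRing.maximalIdeal (MvPowerSeries (Fin N) k) *
        IsLocalRing.maximalIdeal (MvPowerSeries (Fin N) k) := by
  classical
  apply mem_sq_of_coeff
  · rw [map_sub, map_sum]
    have h1 : constantCoeff (pderiv k i f) = 0 := by
      rw [cc_pderiv, hf.2 i]
    rw [h1, zero_sub, neg_eq_zero]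
    refine Finset.sum_eq_zero fun l _ => ?_
    rw [map_mul, constantCoeff_X, mul_zero]
  · intro l'
    rw [map_sub, map_sum, coeff_single_pderiv, sub_eq_zero, Finset.sum_eq_single l']
    · rw [coeff_single_mul_X, if_pos rfl, constantCoeff_C]
    · intro j _ hj
      rw [coeff_single_mul_X, if_neg hj]
    · intro h
      exact absurd (Finset.mem_univ _) h

theorem maximalIdeal_fg :
    (IsLocalRing.maximalIdeal (MvPowerSeries (Fin N) k)).FG := by
  rw [mvPowerSeries_maximalIdeal_eq (Fin N) k]
  exact Submodule.fg_span (Set.finite_range _)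

theorem span_pderiv_le (f : MvPowerSeries (Fin N) k) (hlow : VanCyc.NoLowTerms f) :
    Ideal.span (Set.range fun i : Fin N => pderiv k i f) ≤
      IsLocalRing.maximalIdeal (MvPowerSeries (Fin N) k) := by
  rw [Ideal.span_le]
  rintro _ ⟨i, rfl⟩
  rw [SetLike.mem_coe, mvPowerSeries_mem_maximalIdeal_iff (Fin N) k, cc_pderiv, hlow.2 i]

/-- Non-degenerate quadratic part: the partial derivatives generate the maximal ideal. -/
theorem le_span_pderiv_of_nondeg (f : MvPowerSeries (Fin N) k) (hf : VanCyc.NondegQuadSeries f) :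
    IsLocalRing.maximalIdeal (MvPowerSeries (Fin N) k) ≤
      Ideal.span (Set.range fun i : Fin N => pderiv k i f) := by
  classical
  obtain ⟨hlow, hnd⟩ := hf
  have hdet : IsUnit (VanCyc.polarMatrix (VanCyc.quadPart f)).det := hnd
  have hQP : (VanCyc.polarMatrix (VanCyc.quadPart f))⁻¹ * VanCyc.polarMatrix (VanCyc.quadPart f) = 1 :=
    Matrix.nonsing_inv_mul _ hdet
  generalize hPdef : VanCyc.polarMatrix (VanCyc.quadPart f) = P at hQP
  have hsq : ∀ i, pderiv k i f - ∑ l, C (P i l) * (X l : MvPowerSeries (Fin N) k) ∈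
      IsLocalRing.maximalIdeal (MvPowerSeries (Fin N) k) *
        IsLocalRing.maximalIdeal (MvPowerSeries (Fin N) k) := by
    intro i
    rw [← hPdef]
    exact sub_lin_mem_sq f hlow i
  have hm := mvPowerSeries_maximalIdeal_eq (Fin N) k
  refine Submodule.le_of_le_smul_of_le_jacobson_bot maximalIdeal_fg
    (IsLocalRing.maximalIdeal_le_jacobson ⊥) ?_
  refine hm.le.trans ?_
  rw [Ideal.span_le]
  rintro _ ⟨j, rfl⟩
  have h2 : ∑ i, C (P⁻¹ j i) * (∑ l, C (P i l) * (X l : MvPowerSeries (Fin N) k)) = X j := by
    simp only [Finset.mul_sum]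
    rw [Finset.sum_comm]
    have h3 : ∀ l, ∑ i, C (P⁻¹ j i) * (C (P i l) * (X l : MvPowerSeries (Fin N) k)) =
        C ((P⁻¹ * P) j l) * X l := by
      intro l
      rw [Matrix.mul_apply, map_sum, Finset.sum_mul]
      refine Finset.sum_congr rfl fun i _ => ?_
      rw [map_mul, mul_assoc]
    simp only [h3, hQP, Matrix.one_apply]
    rw [Finset.sum_eq_single j]
    · simp
    · intro l _ hl
      simp [Ne.symm hl]
    · intro h
      exact absurd (Finset.mem_univ _) h
  have key : (X j : MvPowerSeries (Fin N) k) = ∑ i, C (P⁻¹ j i) * pderiv k i f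
      + -(∑ i, C (P⁻¹ j i) * (pderiv k i f - ∑ l, C (P i l) * (X l : MvPowerSeries (Fin N) k))) := by
    simp only [mul_sub, Finset.sum_sub_distrib]
    rw [h2]
    ring
  show (X j : MvPowerSeries (Fin N) k) ∈ _
  rw [key]
  refine Submodule.add_mem_sup ?_ (neg_mem ?_)
  · exact Ideal.sum_mem _ fun i _ => Ideal.mul_mem_left _ _ (Ideal.subset_span ⟨i, rfl⟩)
  · rw [smul_eq_mul]
    exact Ideal.sum_mem _ fun i _ => Ideal.mul_mem_left _ _ (hsq i)

/-- Conversely, if the partial derivatives of a series without low-order terms generate the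
maximal ideal then its quadratic part is non-degenerate. -/
theorem nondeg_of_le_span_pderiv (f : MvPowerSeries (Fin N) k) (hlow : VanCyc.NoLowTerms f)
    (h : IsLocalRing.maximalIdeal (MvPowerSeries (Fin N) k) ≤
      Ideal.span (Set.range fun i : Fin N => pderiv k i f)) :
    VanCyc.QuadNondeg (VanCyc.quadPart f) := by
  classical
  have hX : ∀ j : Fin N, ∃ c : Fin N → MvPowerSeries (Fin N) k,
      ∑ i, c i * pderiv k i f = X j := by
    intro j
    have hj : (X j : MvPowerSeries (Fin N) k) ∈
        Ideal.span (Set.range fun i : Fin N => pderiv k i f) := by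
      apply h
      rw [mvPowerSeries_mem_maximalIdeal_iff (Fin N) k, constantCoeff_X]
    rw [Ideal.mem_span_range_iff_exists_fun] at hj
    exact hj
  choose c hc using hX
  have hM : (Matrix.of fun j i => constantCoeff (c j i)) *
      VanCyc.polarMatrix (VanCyc.quadPart f) = 1 := by
    ext j l
    rw [Matrix.mul_apply]
    have h1 := congrArg (coeff (Finsupp.single l 1)) (hc j)
    rw [map_sum] at h1
    have h2 : ∀ i, coeff (Finsupp.single l 1) (c j i * pderiv k i f) =
        constantCoeff (c j i) * VanCyc.polarMatrix (VanCyc.quadPart f) i l := by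
      intro i
      rw [coeff_single_mul, coeff_single_pderiv, cc_pderiv, hlow.2 i, zero_mul, add_zero]
    simp only [h2] at h1
    have h3 : coeff (Finsupp.single l 1) (X j : MvPowerSeries (Fin N) k) =
        if j = l then 1 else 0 := by
      have := coeff_single_mul_X (1 : MvPowerSeries (Fin N) k) j l
      rwa [one_mul, map_one] at this
    rw [Matrix.one_apply, ← h3, ← h1]
    rfl
  exact Matrix.isUnit_det_of_left_inverse hM

/-- An additive map out of the power series ring which kills constants and is "semilinear"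
for multiplication by the variables, with multipliers in an ideal `𝔞`, has values in all
powers of `𝔞`. -/
theorem addHom_mem_pow {D : Type*} [CommRing D] (Δ : MvPowerSeries (Fin N) k →+ D)
    (𝔞 : Ideal D) (α : Fin N → D) (hα : ∀ i, α i ∈ 𝔞) (hC : ∀ c : k, Δ (C c) = 0)
    (hX : ∀ (h : MvPowerSeries (Fin N) k) (i : Fin N), Δ (h * X i) = α i * Δ h) :
    ∀ (n : ℕ) (G : MvPowerSeries (Fin N) k), Δ G ∈ 𝔞 ^ n := by
  intro n
  induction n with
  | zero =>
    intro G
    rw [pow_zero, Ideal.one_eq_top]
    trivial
  | succ n ih =>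
    intro G
    have h0 : constantCoeff (G - C (constantCoeff G)) = 0 := by
      rw [map_sub, constantCoeff_C, sub_self]
    have hG := mvPowerSeries_mem_span_range_X _ h0
    rw [Ideal.mem_span_range_iff_exists_fun] at hG
    obtain ⟨h, hh⟩ := hG
    have hG' : G = C (constantCoeff G) + ∑ i, h i * (X i : MvPowerSeries (Fin N) k) := by
      rw [hh]
      ring
    rw [hG', map_add, hC, zero_add, map_sum]
    refine Ideal.sum_mem _ fun i _ => ?_
    rw [hX, pow_succ']
    exact Ideal.mul_mem_mul (hα i) (ih (h i))

/-- Two ring homomorphisms from a power series ring to a Noetherian local ring which agree on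
constants and variables and send the variables into the maximal ideal are equal. -/
theorem ringHom_ext_of_local {D : Type*} [CommRing D] [IsLocalRing D] [IsNoetherianRing D]
    (χ₁ χ₂ : MvPowerSeries (Fin N) k →+* D) (hC : ∀ c, χ₁ (C c) = χ₂ (C c))
    (hX : ∀ i, χ₁ (X i) = χ₂ (X i)) (hm : ∀ i, χ₁ (X i) ∈ IsLocalRing.maximalIdeal D) :
    χ₁ = χ₂ := by
  refine RingHom.ext fun G => ?_
  have hmem : ∀ n : ℕ, χ₁ G - χ₂ G ∈ IsLocalRing.maximalIdeal D ^ n := by
    intro n
    have := PSeries.ringHom_ext_of_X_pow
      ((Ideal.Quotient.mk (IsLocalRing.maximalIdeal D ^ n)).comp χ₁)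
      ((Ideal.Quotient.mk (IsLocalRing.maximalIdeal D ^ n)).comp χ₂) n
      (fun r => by simp only [RingHom.comp_apply, hC])
      (fun i => by simp only [RingHom.comp_apply, hX])
      (fun i => by
        rw [RingHom.comp_apply, ← map_pow, Ideal.Quotient.eq_zero_iff_mem]
        exact Ideal.pow_mem_pow (hm i) n)
    have h2 := RingHom.congr_fun this G
    rw [RingHom.comp_apply, RingHom.comp_apply, Ideal.Quotient.eq] at h2
    exact h2
  have hbot : (⨅ n : ℕ, IsLocalRing.maximalIdeal D ^ n) = ⊥ :=
    Ideal.iInf_pow_eq_bot_of_isLocalRing _ Ideal.IsPrime.ne_top'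
  have h3 : χ₁ G - χ₂ G ∈ (⊥ : Ideal D) := by
    rw [← hbot, Ideal.mem_iInf]
    exact hmem
  exact sub_eq_zero.mp (Ideal.mem_bot.mp h3)

end aux

end Groth.Agent.Helper8.QSing
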