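import Mathlib
import Groth.Prelude
import Groth.Agent.Lib.Helper8.QSing1
import Groth.Agent.Lib.Helper8.CoeffField2
import Groth.Agent.Lib.Helper8.PSeries3

/-!
# The Jacobian ideal being maximal is invariant under isomorphisms of hypersurface germs
-/

set_option autoImplicit false
universe u

namespace Groth.Agent.Helper8.QSing

open MvPowerSeries Groth.Agent.Helper8

section tj

variable {k : Type u} [Field k] {N : ℕ}

theorem mk_C (I : Ideal (MvPowerSeries (Fin N) k)) (c : k) :
    Ideal.Quotient.mk I (C c) = algebraMap k (MvPowerSeries (Fin N) k ⧸ I) c := by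
  rw [IsScalarTower.algebraMap_apply k (MvPowerSeries (Fin N) k) (MvPowerSeries (Fin N) k ⧸ I),
    Ideal.Quotient.algebraMap_eq, MvPowerSeries.algebraMap_apply, Algebra.algebraMap_self,
    RingHom.id_apply]

theorem span_le_maximalIdeal (F : MvPowerSeries (Fin N) k) (hF : constantCoeff F = 0) :
    Ideal.span {F} ≤ IsLocalRing.maximalIdeal (MvPowerSeries (Fin N) k) := by
  rw [Ideal.span_singleton_le_iff_mem]
  exact (mvPowerSeries_mem_maximalIdeal_iff (Fin N) k F).mpr hF

theorem span_ne_top (F : MvPowerSeries (Fin N) k) (hF : constantCoeff F = 0) :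
    Ideal.span {F} ≠ (⊤ : Ideal (MvPowerSeries (Fin N) k)) := by
  intro h
  have h1 := span_le_maximalIdeal F hF
  rw [h] at h1
  exact (IsLocalRing.maximalIdeal.isMaximal (MvPowerSeries (Fin N) k)).ne_top (top_le_iff.mp h1)

theorem quotient_isLocalRing (F : MvPowerSeries (Fin N) k) (hF : constantCoeff F = 0) :
    IsLocalRing (MvPowerSeries (Fin N) k ⧸ Ideal.span {F}) := by
  haveI : Nontrivial (MvPowerSeries (Fin N) k ⧸ Ideal.span {F}) :=
    Ideal.Quotient.nontrivial_iff.mpr (span_ne_top F hF)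
  exact IsLocalRing.of_surjective' (Ideal.Quotient.mk _) Ideal.Quotient.mk_surjective

/-- A `k`-endomorphism of the power series ring sending the variables into the maximal ideal
preserves constant coefficients. -/
theorem constantCoeff_comp (Φ : MvPowerSeries (Fin N) k →+* MvPowerSeries (Fin N) k)
    (hΦC : ∀ c, Φ (C c) = C c)
    (hΦX : ∀ i, Φ (X i) ∈ IsLocalRing.maximalIdeal (MvPowerSeries (Fin N) k))
    (G : MvPowerSeries (Fin N) k) : constantCoeff (Φ G) = constantCoeff G := by
  have hx : ∀ i, constantCoeff (Φ (X i)) = 0 := fun i =>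
    (mvPowerSeries_mem_maximalIdeal_iff (Fin N) k _).mp (hΦX i)
  have := PSeries.ringHom_ext_of_X_pow
    ((constantCoeff (σ := Fin N) (R := k)).comp Φ) (constantCoeff (σ := Fin N) (R := k)) 1
    (fun r => by rw [RingHom.comp_apply, hΦC])
    (fun i => by rw [RingHom.comp_apply, constantCoeff_X, hx])
    (fun i => by rw [pow_one, RingHom.comp_apply, hx])
  exact RingHom.congr_fun this G

/-- The chain rule. -/
theorem pderiv_comp (Φ : MvPowerSeries (Fin N) k →+* MvPowerSeries (Fin N) k)
    (hΦC : ∀ c, Φ (C c) = C c)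
    (hΦX : ∀ i, Φ (X i) ∈ IsLocalRing.maximalIdeal (MvPowerSeries (Fin N) k))
    (j : Fin N) (G : MvPowerSeries (Fin N) k) :
    pderiv k j (Φ G) = ∑ l, Φ (pderiv k l G) * pderiv k j (Φ (X l)) := by
  classical
  obtain ⟨E, hE⟩ : ∃ E : MvPowerSeries (Fin N) k →+ MvPowerSeries (Fin N) k,
      ∀ G, E G = pderiv k j (Φ G) - ∑ l, Φ (pderiv k l G) * pderiv k j (Φ (X l)) :=
    ⟨AddMonoidHom.mk' (fun G => pderiv k j (Φ G) - ∑ l, Φ (pderiv k l G) * pderiv k j (Φ (X l)))
      (by
        intro a b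
        simp only [map_add, add_mul, Finset.sum_add_distrib]
        ring), fun _ => rfl⟩
  have key := addHom_mem_pow E (IsLocalRing.maximalIdeal (MvPowerSeries (Fin N) k))
    (fun i => Φ (X i)) hΦX
    (by
      intro c
      rw [hE, hΦC]
      simp)
    (by
      intro h i
      rw [hE (h * X i), hE h, map_mul, Derivation.leibniz, smul_eq_mul, smul_eq_mul]
      have h1 : ∀ l, Φ (pderiv k l (h * X i)) * pderiv k j (Φ (X l)) =
          Φ (X i) * (Φ (pderiv k l h) * pderiv k j (Φ (X l))) +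
            (if l = i then Φ h * pderiv k j (Φ (X i)) else 0) := by
        intro l
        rw [Derivation.leibniz, smul_eq_mul, smul_eq_mul, map_add, map_mul, map_mul]
        by_cases hl : l = i
        · subst hl
          rw [pderiv_X_self, map_one, if_pos rfl]
          ring
        · rw [pderiv_X_of_ne (Ne.symm hl), map_zero, if_neg hl]
          ring
      simp only [h1, Finset.sum_add_distrib, ← Finset.mul_sum, Finset.sum_ite_eq',
        Finset.mem_univ, if_true]
      ring)
  have hbot : (⨅ n : ℕ, IsLocalRing.maximalIdeal (MvPowerSeries (Fin N) k) ^ n) = ⊥ :=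
    Ideal.iInf_pow_eq_bot_of_isLocalRing _ Ideal.IsPrime.ne_top'
  have h3 : E G ∈ (⊥ : Ideal (MvPowerSeries (Fin N) k)) := by
    rw [← hbot, Ideal.mem_iInf]
    exact fun n => key n G
  have h4 := Ideal.mem_bot.mp h3
  rw [hE] at h4
  exact sub_eq_zero.mp h4

/-- Lifting an isomorphism of hypersurface germs to the power series ring. -/
theorem exists_lift (F g : MvPowerSeries (Fin N) k) (hF : constantCoeff F = 0)
    (hg : constantCoeff g = 0)
    (φ : (MvPowerSeries (Fin N) k ⧸ Ideal.span {F}) ≃ₐ[k]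
      (MvPowerSeries (Fin N) k ⧸ Ideal.span {g})) :
    ∃ Φ : MvPowerSeries (Fin N) k →+* MvPowerSeries (Fin N) k, (∀ c, Φ (C c) = C c) ∧
      (∀ i, Φ (X i) ∈ IsLocalRing.maximalIdeal (MvPowerSeries (Fin N) k)) ∧
      ∀ G, Ideal.Quotient.mk (Ideal.span {g}) (Φ G) =
        φ (Ideal.Quotient.mk (Ideal.span {F}) G) := by
  classical
  haveI := quotient_isLocalRing F hF
  haveI := quotient_isLocalRing g hg
  haveI : IsLocalHom (Ideal.Quotient.mk (Ideal.span {F})) :=
    IsLocalHom.of_surjective _ Ideal.Quotient.mk_surjective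
  have hex : ∀ i : Fin N, ∃ a : MvPowerSeries (Fin N) k,
      Ideal.Quotient.mk (Ideal.span {g}) a = φ (Ideal.Quotient.mk (Ideal.span {F}) (X i)) :=
    fun i => Ideal.Quotient.mk_surjective _
  choose a ha using hex
  have ham : ∀ i, a i ∈ IsLocalRing.maximalIdeal (MvPowerSeries (Fin N) k) := by
    intro i
    by_contra hni
    have hu : IsUnit (a i) := by
      by_contra h
      exact hni ((IsLocalRing.mem_maximalIdeal _).mpr h)
    have h1 : IsUnit (φ (Ideal.Quotient.mk (Ideal.span {F}) (X i))) := by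
      rw [← ha]
      exact hu.map _
    have h2 : IsUnit (Ideal.Quotient.mk (Ideal.span {F}) (X i : MvPowerSeries (Fin N) k)) := by
      have := h1.map φ.symm
      rwa [AlgEquiv.symm_apply_apply] at this
    have h3 : IsUnit (X i : MvPowerSeries (Fin N) k) :=
      IsUnit.of_map (Ideal.Quotient.mk (Ideal.span {F})) _ h2
    rw [isUnit_iff_constantCoeff, constantCoeff_X] at h3
    exact not_isUnit_zero h3
  obtain ⟨Φ, hΦC, hΦX⟩ := CoeffField.exists_ringHom_eval
    (C : k →+* MvPowerSeries (Fin N) k) N a ham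
  refine ⟨Φ, hΦC, fun i => by rw [hΦX]; exact ham i, ?_⟩
  have heq : (Ideal.Quotient.mk (Ideal.span {g})).comp Φ =
      (φ.toAlgHom.toRingHom).comp (Ideal.Quotient.mk (Ideal.span {F})) := by
    apply ringHom_ext_of_local
    · intro c
      rw [RingHom.comp_apply, RingHom.comp_apply, hΦC]
      change _ = φ (Ideal.Quotient.mk (Ideal.span {F}) (C c))
      rw [mk_C, mk_C, φ.commutes]
    · intro i
      rw [RingHom.comp_apply, RingHom.comp_apply, hΦX, ha]
      rfl
    · intro i
      rw [RingHom.comp_apply, hΦX,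
        ← IsLocalRing.map_maximalIdeal_of_surjective (Ideal.Quotient.mk (Ideal.span {g}))
          Ideal.Quotient.mk_surjective]
      exact Ideal.mem_map_of_mem _ (ham i)
  intro G
  exact RingHom.congr_fun heq G

theorem bijective_of_lift (F g : MvPowerSeries (Fin N) k)
    (hg2 : g ∈ IsLocalRing.maximalIdeal (MvPowerSeries (Fin N) k) *
      IsLocalRing.maximalIdeal (MvPowerSeries (Fin N) k))
    (φ : (MvPowerSeries (Fin N) k ⧸ Ideal.span {F}) ≃ₐ[k]
      (MvPowerSeries (Fin N) k ⧸ Ideal.span {g}))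
    (Φ : MvPowerSeries (Fin N) k →+* MvPowerSeries (Fin N) k) (hΦC : ∀ c, Φ (C c) = C c)
    (hΦX : ∀ i, Φ (X i) ∈ IsLocalRing.maximalIdeal (MvPowerSeries (Fin N) k))
    (hΦ : ∀ G, Ideal.Quotient.mk (Ideal.span {g}) (Φ G) =
        φ (Ideal.Quotient.mk (Ideal.span {F}) G)) :
    Function.Bijective Φ := by
  let Φa : MvPowerSeries (Fin N) k →ₐ[k] MvPowerSeries (Fin N) k :=
    { Φ with
      commutes' := fun c => by
        show Φ (algebraMap k (MvPowerSeries (Fin N) k) c) = algebraMap k _ c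
        rw [MvPowerSeries.algebraMap_apply, Algebra.algebraMap_self, RingHom.id_apply]
        exact hΦC c }
  haveI : IsAdicComplete (IsLocalRing.maximalIdeal k) k := by
    rw [IsLocalRing.maximalIdeal_eq_bot]
    infer_instance
  have hmem : ∀ x : MvPowerSeries (Fin N) k, x ∈ IsLocalRing.maximalIdeal (MvPowerSeries (Fin N) k) ↔
      constantCoeff x = 0 := mvPowerSeries_mem_maximalIdeal_iff (Fin N) k
  have hmap : (IsLocalRing.maximalIdeal (MvPowerSeries (Fin N) k)).map Φ =
      IsLocalRing.maximalIdeal (MvPowerSeries (Fin N) k) := by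
    apply le_antisymm
    · rw [Ideal.map_le_iff_le_comap]
      intro x hx
      rw [Ideal.mem_comap, hmem, constantCoeff_comp Φ hΦC hΦX]
      exact (hmem x).mp hx
    · refine Submodule.le_of_le_smul_of_le_jacobson_bot maximalIdeal_fg
        (IsLocalRing.maximalIdeal_le_jacobson ⊥) ?_
      intro x hx
      obtain ⟨y, hy⟩ := Ideal.Quotient.mk_surjective (φ.symm (Ideal.Quotient.mk (Ideal.span {g}) x))
      have h1 : Ideal.Quotient.mk (Ideal.span {g}) (Φ y) = Ideal.Quotient.mk (Ideal.span {g}) x := by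
        rw [hΦ, hy, AlgEquiv.apply_symm_apply]
      rw [Ideal.Quotient.eq] at h1
      have h2 : Φ y - x ∈ IsLocalRing.maximalIdeal (MvPowerSeries (Fin N) k) *
          IsLocalRing.maximalIdeal (MvPowerSeries (Fin N) k) :=
        ((Ideal.span_singleton_le_iff_mem _).mpr hg2) h1
      have h3 : constantCoeff (Φ y - x) = 0 := (hmem _).mp (Ideal.mul_le_left h2)
      have hy0 : y ∈ IsLocalRing.maximalIdeal (MvPowerSeries (Fin N) k) := by
        rw [hmem, ← constantCoeff_comp Φ hΦC hΦX]
        rw [map_sub, (hmem x).mp hx, sub_zero] at h3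
        exact h3
      have h4 : x = Φ y + -(Φ y - x) := by ring
      rw [h4]
      refine Submodule.add_mem_sup (Ideal.mem_map_of_mem _ hy0) (neg_mem ?_)
      rw [smul_eq_mul]
      exact h2
  exact PSeries.bijective_of_map_maximalIdeal Φa hmap

/-- If `k[[x]]/(F) ≅ k[[x]]/(g)` over `k`, `g ∈ 𝔪²`, and the partial derivatives of `g`
generate `𝔪`, then so do the partial derivatives of `F`. -/
theorem le_span_pderiv_of_algEquiv (F g : MvPowerSeries (Fin N) k) (hF : constantCoeff F = 0)
    (hg2 : g ∈ IsLocalRing.maximalIdeal (MvPowerSeries (Fin N) k) *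
      IsLocalRing.maximalIdeal (MvPowerSeries (Fin N) k))
    (φ : (MvPowerSeries (Fin N) k ⧸ Ideal.span {F}) ≃ₐ[k]
      (MvPowerSeries (Fin N) k ⧸ Ideal.span {g}))
    (hJg : IsLocalRing.maximalIdeal (MvPowerSeries (Fin N) k) ≤
      Ideal.span (Set.range fun i : Fin N => pderiv k i g)) :
    IsLocalRing.maximalIdeal (MvPowerSeries (Fin N) k) ≤
      Ideal.span (Set.range fun i : Fin N => pderiv k i F) := by
  have hmem : ∀ x : MvPowerSeries (Fin N) k, x ∈ IsLocalRing.maximalIdeal (MvPowerSeries (Fin N) k) ↔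
      constantCoeff x = 0 := mvPowerSeries_mem_maximalIdeal_iff (Fin N) k
  have hg : constantCoeff g = 0 := (hmem g).mp (Ideal.mul_le_left hg2)
  obtain ⟨Φ, hΦC, hΦX, hΦ⟩ := exists_lift F g hF hg φ
  have hbij := bijective_of_lift F g hg2 φ Φ hΦC hΦX hΦ
  have hΦF : Φ F ∈ Ideal.span {g} := by
    rw [← Ideal.Quotient.eq_zero_iff_mem, hΦ]
    have : Ideal.Quotient.mk (Ideal.span {F}) F = 0 :=
      Ideal.Quotient.eq_zero_iff_mem.mpr (Ideal.mem_span_singleton_self F)
    rw [this, map_zero]
  obtain ⟨g', hg'⟩ := hbij.2 g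
  have hg'F : g' ∈ Ideal.span {F} := by
    rw [← Ideal.Quotient.eq_zero_iff_mem]
    apply φ.injective
    rw [← hΦ, hg', map_zero]
    exact Ideal.Quotient.eq_zero_iff_mem.mpr (Ideal.mem_span_singleton_self g)
  obtain ⟨z, hz⟩ := Ideal.mem_span_singleton'.mp hg'F
  have hJ : Ideal.span (Set.range fun i : Fin N => pderiv k i g) ≤
      (Ideal.span (Set.range fun i : Fin N => pderiv k i F)).map Φ ⊔
        IsLocalRing.maximalIdeal (MvPowerSeries (Fin N) k) •
          IsLocalRing.maximalIdeal (MvPowerSeries (Fin N) k) := by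
    rw [Ideal.span_le]
    rintro _ ⟨j, rfl⟩
    have e1 : g = Φ z * Φ F := by rw [← map_mul, hz, hg']
    have e2 : pderiv k j g = Φ z * pderiv k j (Φ F) + Φ F * pderiv k j (Φ z) := by
      conv_lhs => rw [e1]
      rw [Derivation.leibniz, smul_eq_mul, smul_eq_mul]
    show pderiv k j g ∈ _
    rw [e2]
    refine Submodule.add_mem_sup ?_ ?_
    · refine Ideal.mul_mem_left _ _ ?_
      rw [pderiv_comp Φ hΦC hΦX]
      exact Ideal.sum_mem _ fun l _ => Ideal.mul_mem_right _ _
        (Ideal.mem_map_of_mem _ (Ideal.subset_span ⟨l, rfl⟩))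
    · rw [smul_eq_mul]
      refine Ideal.mul_mem_right _ _ ?_
      exact ((Ideal.span_singleton_le_iff_mem _).mpr hg2) hΦF
  have h1 : IsLocalRing.maximalIdeal (MvPowerSeries (Fin N) k) ≤
      (Ideal.span (Set.range fun i : Fin N => pderiv k i F)).map Φ :=
    Submodule.le_of_le_smul_of_le_jacobson_bot maximalIdeal_fg
      (IsLocalRing.maximalIdeal_le_jacobson ⊥) (hJg.trans hJ)
  intro x hx
  have hΦx : Φ x ∈ IsLocalRing.maximalIdeal (MvPowerSeries (Fin N) k) := by
    rw [hmem, constantCoeff_comp Φ hΦC hΦX]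
    exact (hmem x).mp hx
  obtain ⟨y, hy, hyx⟩ := (Ideal.mem_map_iff_of_surjective Φ hbij.2).mp (h1 hΦx)
  rw [← hbij.1 hyx]
  exact hy

end tj

end Groth.Agent.Helper8.QSing
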