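import Mathlib
import Groth.Prelude
import Groth.Agent.Lib.Helper8.QSing2
import Groth.Agent.Lib.Helper8.AdicNoeth1
import Groth.Agent.Lib.Helper8.Nag12

/-!
# The completed local ring of an affine hypersurface at a rational point
-/

set_option autoImplicit false
universe u

namespace Groth.Agent.Helper8.QSing

open MvPowerSeries Groth.Agent.Helper8

section tau

variable {k : Type u} [Field k] {N : ℕ} (p : Fin N → k)

/-- Taylor expansion at the point `p`. -/
noncomputable def tau : MvPolynomial (Fin N) k →ₐ[k] MvPowerSeries (Fin N) k :=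
  MvPolynomial.aeval (fun i => C (p i) + X i)

theorem tau_X (i : Fin N) : tau p (MvPolynomial.X i) = C (p i) + X i :=
  MvPolynomial.aeval_X _ _

theorem tau_C (c : k) : tau p (MvPolynomial.C c) = C c := by
  rw [tau, MvPolynomial.aeval_C, MvPowerSeries.algebraMap_apply, Algebra.algebraMap_self,
    RingHom.id_apply]

theorem constantCoeff_tau (s : MvPolynomial (Fin N) k) :
    constantCoeff (tau p s) = MvPolynomial.eval p s := by
  have : (constantCoeff (σ := Fin N) (R := k)).comp (tau p).toRingHom = MvPolynomial.eval p := by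
    apply MvPolynomial.ringHom_ext
    · intro c
      rw [RingHom.comp_apply]
      show constantCoeff (tau p (MvPolynomial.C c)) = _
      rw [tau_C, constantCoeff_C, MvPolynomial.eval_C]
    · intro i
      rw [RingHom.comp_apply]
      show constantCoeff (tau p (MvPolynomial.X i)) = _
      rw [tau_X, map_add, constantCoeff_C, constantCoeff_X, add_zero, MvPolynomial.eval_X]
  exact RingHom.congr_fun this s

theorem pderiv_tau (j : Fin N) (s : MvPolynomial (Fin N) k) :
    tau p (MvPolynomial.pderiv j s) = pderiv k j (tau p s) := by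
  classical
  induction s using MvPolynomial.induction_on with
  | C a => rw [MvPolynomial.pderiv_C, map_zero, tau_C, pderiv_C]
  | add a b ha hb => rw [map_add, map_add, map_add, map_add, ha, hb]
  | mul_X a i ha =>
    rw [Derivation.leibniz, map_mul, Derivation.leibniz, map_add, smul_eq_mul, smul_eq_mul,
      smul_eq_mul, smul_eq_mul, map_mul, map_mul, ha, tau_X, map_add, pderiv_C, zero_add]
    by_cases hji : j = i
    · subst hji
      rw [MvPolynomial.pderiv_X_self, pderiv_X_self, map_one]
    · rw [MvPolynomial.pderiv_X_of_ne (Ne.symm hji), pderiv_X_of_ne (Ne.symm hji), map_zero]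

theorem exists_poly_approx (n : ℕ) : ∀ G : MvPowerSeries (Fin N) k,
    ∃ s : MvPolynomial (Fin N) k,
      G - tau p s ∈ IsLocalRing.maximalIdeal (MvPowerSeries (Fin N) k) ^ n := by
  classical
  induction n with
  | zero =>
    intro G
    exact ⟨0, by rw [pow_zero, Ideal.one_eq_top]; trivial⟩
  | succ n ih =>
    intro G
    have h0 : constantCoeff (G - C (constantCoeff G)) = 0 := by
      rw [map_sub, constantCoeff_C, sub_self]
    have hG := mvPowerSeries_mem_span_range_X _ h0
    rw [Ideal.mem_span_range_iff_exists_fun] at hG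
    obtain ⟨h, hh⟩ := hG
    choose s hs using fun i => ih (h i)
    refine ⟨MvPolynomial.C (constantCoeff G) +
      ∑ i, s i * (MvPolynomial.X i - MvPolynomial.C (p i)), ?_⟩
    have e : G - tau p (MvPolynomial.C (constantCoeff G) +
        ∑ i, s i * (MvPolynomial.X i - MvPolynomial.C (p i))) =
        ∑ i, (h i - tau p (s i)) * X i := by
      rw [map_add, map_sum, tau_C]
      simp only [map_mul, map_sub, tau_X, tau_C, add_sub_cancel_left, sub_mul,
        Finset.sum_sub_distrib]
      rw [hh]
      ring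
    rw [e]
    refine Ideal.sum_mem _ fun i _ => ?_
    rw [pow_succ]
    exact Ideal.mul_mem_mul (hs i)
      (by rw [mvPowerSeries_mem_maximalIdeal_iff (Fin N) k, constantCoeff_X])

end tau

section main

variable {k : Type u} [Field k] {N : ℕ} (f : MvPolynomial (Fin N) k)
  (P : Ideal (MvPolynomial (Fin N) k ⧸ Ideal.span {f})) [P.IsMaximal] (p : Fin N → k)
  (hp : ∀ s : MvPolynomial (Fin N) k,
    Ideal.Quotient.mk (Ideal.span {f}) s ∈ P ↔ MvPolynomial.eval p s = 0)
  (A : Type u) [CommRing A] [Algebra (MvPolynomial (Fin N) k ⧸ Ideal.span {f}) A]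
  [IsLocalization.AtPrime A P] [IsLocalRing A] [Algebra k A]
  [IsScalarTower k (MvPolynomial (Fin N) k ⧸ Ideal.span {f}) A]

/-- The map `k[x]/(f) → k[[x]]/(τ f)`. -/
noncomputable def psiB : (MvPolynomial (Fin N) k ⧸ Ideal.span {f}) →+*
    (MvPowerSeries (Fin N) k ⧸ Ideal.span {tau p f}) :=
  Ideal.Quotient.lift (Ideal.span {f})
    ((Ideal.Quotient.mk (Ideal.span {tau p f})).comp (tau p).toRingHom)
    (by
      intro a ha
      obtain ⟨c, rfl⟩ := Ideal.mem_span_singleton'.mp ha
      rw [RingHom.comp_apply]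
      show Ideal.Quotient.mk _ (tau p (c * f)) = 0
      rw [map_mul, Ideal.Quotient.eq_zero_iff_mem]
      exact Ideal.mul_mem_left _ _ (Ideal.mem_span_singleton_self _))

theorem psiB_mk (s : MvPolynomial (Fin N) k) :
    psiB f p (Ideal.Quotient.mk _ s) = Ideal.Quotient.mk _ (tau p s) := rfl

include hp in
theorem eval_f : MvPolynomial.eval p f = 0 := by
  rw [← hp, Ideal.Quotient.eq_zero_iff_mem.mpr (Ideal.mem_span_singleton_self f)]
  exact P.zero_mem

include hp in
theorem constantCoeff_tau_f : constantCoeff (tau p f) = 0 := by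
  rw [constantCoeff_tau, eval_f f P p hp]

include hp in
theorem isUnit_psiB (b : MvPolynomial (Fin N) k ⧸ Ideal.span {f}) (hb : b ∉ P) :
    IsUnit (psiB f p b) := by
  obtain ⟨s, rfl⟩ := Ideal.Quotient.mk_surjective b
  rw [psiB_mk]
  apply IsUnit.map
  rw [isUnit_iff_constantCoeff, constantCoeff_tau]
  rw [hp] at hb
  exact Ne.isUnit hb

/-- The map `(k[x]/(f))_P → k[[x]]/(τ f)`. -/
noncomputable def psiA : A →+*
    (MvPowerSeries (Fin N) k ⧸ Ideal.span {tau p f}) :=
  IsLocalization.lift (M := P.primeCompl) (g := psiB f p)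
    (fun y => isUnit_psiB f P p hp y (Ideal.mem_primeCompl_iff.mp y.2))

theorem psiA_algebraMap (b : MvPolynomial (Fin N) k ⧸ Ideal.span {f}) :
    psiA f P p hp A (algebraMap _ A b) = psiB f p b :=
  IsLocalization.lift_eq _ _

theorem psiA_comp : (psiA f P p hp A).comp (algebraMap _ A) = psiB f p :=
  RingHom.ext (psiA_algebraMap f P p hp A)

/-- The map `k[x] → (k[x]/(f))_P`. -/
noncomputable def iota : MvPolynomial (Fin N) k →+* A :=
  (algebraMap _ A).comp (Ideal.Quotient.mk (Ideal.span {f}))

theorem psiA_iota (s : MvPolynomial (Fin N) k) :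
    psiA f P p hp A (iota f A s) = Ideal.Quotient.mk _ (tau p s) := by
  rw [iota, RingHom.comp_apply, psiA_algebraMap, psiB_mk]

include hp in
theorem iota_mem (s : MvPolynomial (Fin N) k) (hs : MvPolynomial.eval p s = 0) :
    iota f A s ∈ IsLocalRing.maximalIdeal A := by
  rw [← IsLocalization.AtPrime.map_eq_maximalIdeal P A, iota, RingHom.comp_apply]
  exact Ideal.mem_map_of_mem _ ((hp s).mpr hs)

theorem map_psiA_maximalIdeal :
    (IsLocalRing.maximalIdeal A).map (psiA f P p hp A) =
      (IsLocalRing.maximalIdeal (MvPowerSeries (Fin N) k)).map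
        (Ideal.Quotient.mk (Ideal.span {tau p f})) := by
  rw [← IsLocalization.AtPrime.map_eq_maximalIdeal P A, Ideal.map_map, psiA_comp]
  apply le_antisymm
  · rw [Ideal.map_le_iff_le_comap]
    intro b hb
    obtain ⟨s, rfl⟩ := Ideal.Quotient.mk_surjective b
    rw [Ideal.mem_comap, psiB_mk]
    apply Ideal.mem_map_of_mem
    rw [mvPowerSeries_mem_maximalIdeal_iff (Fin N) k, constantCoeff_tau]
    exact (hp s).mp hb
  · rw [mvPowerSeries_maximalIdeal_eq (Fin N) k, Ideal.map_span, Ideal.span_le]
    rintro _ ⟨_, ⟨i, rfl⟩, rfl⟩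
    have h1 : Ideal.Quotient.mk (Ideal.span {tau p f}) (X i) =
        psiB f p (Ideal.Quotient.mk _ (MvPolynomial.X i - MvPolynomial.C (p i))) := by
      rw [psiB_mk, map_sub, tau_X, tau_C, add_sub_cancel_left]
    rw [SetLike.mem_coe, h1]
    apply Ideal.mem_map_of_mem
    rw [hp, map_sub, MvPolynomial.eval_X, MvPolynomial.eval_C, sub_self]

/-- Retractions modulo powers of the maximal ideal. -/
theorem exists_chi (n : ℕ) :
    ∃ χ : (MvPowerSeries (Fin N) k ⧸ Ideal.span {tau p f}) →+*
        (A ⧸ IsLocalRing.maximalIdeal A ^ n),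
      ∀ a, χ (psiA f P p hp A a) = Ideal.Quotient.mk _ a := by
  classical
  have hnil : ∀ i : Fin N, IsNilpotent
      (Ideal.Quotient.mk (IsLocalRing.maximalIdeal A ^ n)
        (iota f A (MvPolynomial.X i - MvPolynomial.C (p i)))) := by
    intro i
    refine ⟨n, ?_⟩
    rw [← map_pow, Ideal.Quotient.eq_zero_iff_mem]
    apply Ideal.pow_mem_pow
    apply iota_mem f P p hp A
    rw [map_sub, MvPolynomial.eval_X, MvPolynomial.eval_C, sub_self]
  obtain ⟨χ', hχC, hχX⟩ := PSeries.exists_eval_nilpotent
    (((Ideal.Quotient.mk (IsLocalRing.maximalIdeal A ^ n)).comp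
      (iota f A)).comp MvPolynomial.C)
    (fun i => Ideal.Quotient.mk (IsLocalRing.maximalIdeal A ^ n)
        (iota f A (MvPolynomial.X i - MvPolynomial.C (p i)))) hnil
  have hcomp : χ'.comp (tau p).toRingHom =
      (Ideal.Quotient.mk (IsLocalRing.maximalIdeal A ^ n)).comp
        (iota f A) := by
    apply MvPolynomial.ringHom_ext
    · intro r
      rw [RingHom.comp_apply]
      show χ' (tau p (MvPolynomial.C r)) = _
      rw [tau_C, hχC]
      rfl
    · intro i
      rw [RingHom.comp_apply]
      show χ' (tau p (MvPolynomial.X i)) = _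
      rw [tau_X, map_add, hχC, hχX, RingHom.comp_apply, RingHom.comp_apply, RingHom.comp_apply,
        ← map_add, ← map_add, add_sub_cancel]
  have hχ' : ∀ s, χ' (tau p s) = Ideal.Quotient.mk _ (iota f A s) :=
    fun s => RingHom.congr_fun hcomp s
  have hkill : ∀ a ∈ Ideal.span {tau p f}, χ' a = 0 := by
    intro a ha
    obtain ⟨c, rfl⟩ := Ideal.mem_span_singleton'.mp ha
    rw [map_mul, hχ', iota, RingHom.comp_apply,
      Ideal.Quotient.eq_zero_iff_mem.mpr (Ideal.mem_span_singleton_self f), map_zero, map_zero,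
      mul_zero]
  refine ⟨Ideal.Quotient.lift _ χ' hkill, ?_⟩
  have hcomp2 : (Ideal.Quotient.lift _ χ' hkill).comp (psiA f P p hp A) =
      Ideal.Quotient.mk (IsLocalRing.maximalIdeal A ^ n) := by
    apply IsLocalization.ringHom_ext P.primeCompl
    apply Ideal.Quotient.ringHom_ext
    ext s
    · simp only [RingHom.comp_apply]
      rw [psiA_algebraMap, psiB_mk, Ideal.Quotient.lift_mk, tau_C, hχC]
      rfl
    · simp only [RingHom.comp_apply]
      rw [psiA_algebraMap, psiB_mk, Ideal.Quotient.lift_mk, hχ']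
      rfl
  intro a
  exact RingHom.congr_fun hcomp2 a

theorem psiA_injective_level (n : ℕ) (a : A)
    (ha : psiA f P p hp A a ∈
      ((IsLocalRing.maximalIdeal A).map (psiA f P p hp A)) ^ n) :
    a ∈ IsLocalRing.maximalIdeal A ^ n := by
  obtain ⟨χ, hχ⟩ := exists_chi f P p hp A n
  have h1 := Ideal.mem_map_of_mem χ ha
  have h2 : χ.comp (psiA f P p hp A) =
      Ideal.Quotient.mk (IsLocalRing.maximalIdeal A ^ n) :=
    RingHom.ext hχ
  rw [hχ, Ideal.map_pow, Ideal.map_map, h2, ← Ideal.map_pow, Ideal.map_quotient_self] at h1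
  exact Ideal.Quotient.eq_zero_iff_mem.mp (Ideal.mem_bot.mp h1)

theorem psiA_surjective_level (n : ℕ) (t : MvPowerSeries (Fin N) k ⧸ Ideal.span {tau p f}) :
    ∃ a : A, t - psiA f P p hp A a ∈
      ((IsLocalRing.maximalIdeal A).map (psiA f P p hp A)) ^ n := by
  obtain ⟨G, rfl⟩ := Ideal.Quotient.mk_surjective t
  obtain ⟨s, hs⟩ := exists_poly_approx p n G
  refine ⟨iota f A s, ?_⟩
  rw [psiA_iota, ← map_sub, map_psiA_maximalIdeal, ← Ideal.map_pow]
  exact Ideal.mem_map_of_mem _ hs

theorem algebraMap_eq_psiA (c : k) :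
    algebraMap k (MvPowerSeries (Fin N) k ⧸ Ideal.span {tau p f}) c =
      psiA f P p hp A (algebraMap k A c) := by
  rw [IsScalarTower.algebraMap_apply k (MvPolynomial (Fin N) k ⧸ Ideal.span {f})
    A, psiA_algebraMap,
    IsScalarTower.algebraMap_apply k (MvPolynomial (Fin N) k)
      (MvPolynomial (Fin N) k ⧸ Ideal.span {f}), Ideal.Quotient.algebraMap_eq, psiB_mk,
    MvPolynomial.algebraMap_eq, tau_C, mk_C]

include hp in
/-- The completion of the local ring of the hypersurface `f = 0` at the rational point `p` is the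
quotient of the power series ring by the Taylor expansion of `f` at `p`. -/
theorem exists_completion_algEquiv :
    Nonempty (AdicCompletion (IsLocalRing.maximalIdeal A)
      A ≃ₐ[k] (MvPowerSeries (Fin N) k ⧸ Ideal.span {tau p f})) := by
  let _ : Algebra A (MvPowerSeries (Fin N) k ⧸ Ideal.span {tau p f}) :=
    (psiA f P p hp A).toAlgebra
  have halg : algebraMap A
      (MvPowerSeries (Fin N) k ⧸ Ideal.span {tau p f}) = psiA f P p hp A := rfl
  haveI : IsAdicComplete ((IsLocalRing.maximalIdeal A).map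
      (algebraMap A (MvPowerSeries (Fin N) k ⧸ Ideal.span {tau p f})))
      (MvPowerSeries (Fin N) k ⧸ Ideal.span {tau p f}) := by
    rw [halg, map_psiA_maximalIdeal]
    have := AdicNoeth.isAdicComplete_quotient (MvPowerSeries (Fin N) k)
      (IsLocalRing.maximalIdeal (MvPowerSeries (Fin N) k)) (Ideal.span {tau p f})
    rwa [Ideal.Quotient.algebraMap_eq] at this
  have hinj : ∀ (n : ℕ) (c : A),
      algebraMap A (MvPowerSeries (Fin N) k ⧸ Ideal.span {tau p f}) c ∈
        ((IsLocalRing.maximalIdeal A).map (algebraMap A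
          (MvPowerSeries (Fin N) k ⧸ Ideal.span {tau p f}))) ^ n →
        c ∈ IsLocalRing.maximalIdeal A ^ n := by
    intro n c hc
    rw [halg] at hc
    exact psiA_injective_level f P p hp A n c hc
  have hsurj : ∀ (n : ℕ) (t : MvPowerSeries (Fin N) k ⧸ Ideal.span {tau p f}),
      ∃ c : A, t - algebraMap A
        (MvPowerSeries (Fin N) k ⧸ Ideal.span {tau p f}) c ∈
        ((IsLocalRing.maximalIdeal A).map (algebraMap A
          (MvPowerSeries (Fin N) k ⧸ Ideal.span {tau p f}))) ^ n := by
    intro n t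
    rw [halg]
    exact psiA_surjective_level f P p hp A n t
  have he₀ : ∀ a : A,
      Nag.completionEquiv (IsLocalRing.maximalIdeal A) hinj hsurj
        (psiA f P p hp A a) = AdicCompletion.of _ _ a := by
    intro a
    apply AdicCompletion.ext_evalₐ
    intro n
    show AdicCompletion.evalₐ _ n (Nag.toCompletion _ hinj hsurj (psiA f P p hp A a)) = _
    rw [Nag.evalₐ_toCompletion, AdicCompletion.evalₐ_of]
    apply Nag.toLevel_eq
    rw [halg, sub_self]
    exact Ideal.zero_mem _
  refine ⟨AlgEquiv.symm (AlgEquiv.ofRingEquiv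
    (f := Nag.completionEquiv (IsLocalRing.maximalIdeal A) hinj hsurj) ?_)⟩
  intro c
  rw [AdicCompletion.algebraMap_apply, ← he₀, algebraMap_eq_psiA f P p hp A]

end main

end Groth.Agent.Helper8.QSing
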