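import Mathlib
import Groth.Prelude
import Groth.Agent.Lib.Helper8.QSing3

/-!
# Jacobian criterion for non-degenerate quadratic singularities of affine hypersurfaces
-/

set_option autoImplicit false
universe u

namespace Groth.Agent.Helper8.QSing

open MvPowerSeries Groth.Agent.Helper8

section jac

variable {k : Type u} [Field k] {N : ℕ} (f : MvPolynomial (Fin N) k)
  (P : Ideal (MvPolynomial (Fin N) k ⧸ Ideal.span {f})) [P.IsMaximal] (p : Fin N → k)
  (hp : ∀ s : MvPolynomial (Fin N) k,
    Ideal.Quotient.mk (Ideal.span {f}) s ∈ P ↔ MvPolynomial.eval p s = 0)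
  (hP : ∀ j : Fin N, Ideal.Quotient.mk (Ideal.span {f}) (MvPolynomial.pderiv j f) ∈ P)
  (A : Type u) [CommRing A] [Algebra (MvPolynomial (Fin N) k ⧸ Ideal.span {f}) A]
  [IsLocalization.AtPrime A P] [IsLocalRing A] [Algebra k A]
  [IsScalarTower k (MvPolynomial (Fin N) k ⧸ Ideal.span {f}) A]

include hp hP in
theorem noLowTerms_tau : VanCyc.NoLowTerms (tau p f) := by
  refine ⟨constantCoeff_tau_f f P p hp, fun i => ?_⟩
  rw [← cc_pderiv, ← pderiv_tau, constantCoeff_tau]
  exact (hp _).mp (hP i)

theorem map_psiA_jac :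
    (Ideal.map (algebraMap (MvPolynomial (Fin N) k ⧸ Ideal.span {f}) A)
      (Ideal.span (Set.range fun j : Fin N =>
        Ideal.Quotient.mk (Ideal.span {f}) (MvPolynomial.pderiv j f)))).map (psiA f P p hp A) =
    (Ideal.span (Set.range fun j : Fin N => pderiv k j (tau p f))).map
      (Ideal.Quotient.mk (Ideal.span {tau p f})) := by
  rw [Ideal.map_map, psiA_comp, Ideal.map_span, Ideal.map_span, ← Set.range_comp,
    ← Set.range_comp]
  have h2 : (psiB f p) ∘ (fun j : Fin N =>
        Ideal.Quotient.mk (Ideal.span {f}) (MvPolynomial.pderiv j f)) =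
      (Ideal.Quotient.mk (Ideal.span {tau p f})) ∘ (fun j : Fin N => pderiv k j (tau p f)) := by
    funext j
    show psiB f p (Ideal.Quotient.mk _ (MvPolynomial.pderiv j f)) =
      Ideal.Quotient.mk _ (pderiv k j (tau p f))
    rw [psiB_mk, pderiv_tau]
  rw [h2]

include hp hP in
theorem jac_iff :
    Ideal.map (algebraMap (MvPolynomial (Fin N) k ⧸ Ideal.span {f}) A)
      (Ideal.span (Set.range fun j : Fin N =>
        Ideal.Quotient.mk (Ideal.span {f}) (MvPolynomial.pderiv j f))) =
        IsLocalRing.maximalIdeal A ↔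
    IsLocalRing.maximalIdeal (MvPowerSeries (Fin N) k) ≤
      Ideal.span (Set.range fun j : Fin N => pderiv k j (tau p f)) := by
  have hlow := noLowTerms_tau f P p hp hP
  have hF2 : tau p f ∈ IsLocalRing.maximalIdeal (MvPowerSeries (Fin N) k) *
      IsLocalRing.maximalIdeal (MvPowerSeries (Fin N) k) := mem_sq_of_coeff _ hlow.1 hlow.2
  constructor
  · intro h
    refine Submodule.le_of_le_smul_of_le_jacobson_bot maximalIdeal_fg
      (IsLocalRing.maximalIdeal_le_jacobson ⊥) ?_
    intro x hx
    have h1 : Ideal.Quotient.mk (Ideal.span {tau p f}) x ∈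
        (Ideal.span (Set.range fun j : Fin N => pderiv k j (tau p f))).map
          (Ideal.Quotient.mk (Ideal.span {tau p f})) := by
      rw [← map_psiA_jac f P p hp A, h, map_psiA_maximalIdeal]
      exact Ideal.mem_map_of_mem _ hx
    obtain ⟨y, hy, hyx⟩ := (Ideal.mem_map_iff_of_surjective _ Ideal.Quotient.mk_surjective).mp h1
    rw [Ideal.Quotient.eq] at hyx
    have h4 : x = y + -(y - x) := by ring
    rw [h4]
    refine Submodule.add_mem_sup hy (neg_mem ?_)
    rw [smul_eq_mul]
    exact ((Ideal.span_singleton_le_iff_mem _).mpr hF2) hyx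
  · intro h
    apply le_antisymm
    · rw [← IsLocalization.AtPrime.map_eq_maximalIdeal P A]
      apply Ideal.map_mono
      rw [Ideal.span_le]
      rintro _ ⟨j, rfl⟩
      exact hP j
    · have hfg : (IsLocalRing.maximalIdeal A).FG := by
        haveI : IsNoetherianRing A := IsLocalization.isNoetherianRing P.primeCompl A inferInstance
        exact IsNoetherian.noetherian _
      refine Submodule.le_of_le_smul_of_le_jacobson_bot hfg
        (IsLocalRing.maximalIdeal_le_jacobson ⊥) ?_
      intro a ha
      obtain ⟨χ, hχ⟩ := exists_chi f P p hp A 2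
      have h1 : psiA f P p hp A a ∈ (Ideal.map (algebraMap _ A)
          (Ideal.span (Set.range fun j : Fin N =>
            Ideal.Quotient.mk (Ideal.span {f}) (MvPolynomial.pderiv j f)))).map
              (psiA f P p hp A) := by
        rw [map_psiA_jac]
        have h0 : psiA f P p hp A a ∈ (IsLocalRing.maximalIdeal A).map (psiA f P p hp A) :=
          Ideal.mem_map_of_mem _ ha
        rw [map_psiA_maximalIdeal] at h0
        exact Ideal.map_mono h h0
      have h2 := Ideal.mem_map_of_mem χ h1
      have h3 : χ.comp (psiA f P p hp A) =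
          Ideal.Quotient.mk (IsLocalRing.maximalIdeal A ^ 2) := RingHom.ext hχ
      rw [hχ, Ideal.map_map, h3] at h2
      obtain ⟨y, hy, hya⟩ :=
        (Ideal.mem_map_iff_of_surjective _ Ideal.Quotient.mk_surjective).mp h2
      rw [Ideal.Quotient.eq] at hya
      have h4 : a = y + -(y - a) := by ring
      rw [h4]
      refine Submodule.add_mem_sup hy (neg_mem ?_)
      rw [smul_eq_mul, ← pow_two]
      exact hya

include hp hP in
/-- Jacobian criterion: at a rational singular point `p` of the affine hypersurface `f = 0`, the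
classes of the partial derivatives generate the maximal ideal of the local ring iff the completed
local ring is `k[[x]]/(g)` with `g` a non-degenerate quadratic series. -/
theorem main_iff :
    Ideal.map (algebraMap (MvPolynomial (Fin N) k ⧸ Ideal.span {f}) A)
      (Ideal.span (Set.range fun j : Fin N =>
        Ideal.Quotient.mk (Ideal.span {f}) (MvPolynomial.pderiv j f))) =
        IsLocalRing.maximalIdeal A ↔
    ∃ g : MvPowerSeries (Fin N) k, VanCyc.NondegQuadSeries g ∧
      Nonempty (AdicCompletion (IsLocalRing.maximalIdeal A) A ≃ₐ[k]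
        (MvPowerSeries (Fin N) k ⧸ Ideal.span {g})) := by
  rw [jac_iff f P p hp hP A]
  constructor
  · intro h
    exact ⟨tau p f, ⟨noLowTerms_tau f P p hp hP,
      nondeg_of_le_span_pderiv _ (noLowTerms_tau f P p hp hP) h⟩,
      exists_completion_algEquiv f P p hp A⟩
  · rintro ⟨g, hg, ⟨e₂⟩⟩
    obtain ⟨e₁⟩ := exists_completion_algEquiv f P p hp A
    exact le_span_pderiv_of_algEquiv (tau p f) g (constantCoeff_tau_f f P p hp)
      (mem_sq_of_coeff g hg.1.1 hg.1.2) (e₁.symm.trans e₂) (le_span_pderiv_of_nondeg g hg)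

end jac

end Groth.Agent.Helper8.QSing
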