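import Mathlib

/-!
General tools for plane curves `g = 0` in `P^2` over an infinite field (for S14312):
singular vectors, linear substitutions, divisibility by a coordinate from vanishing.
-/

set_option autoImplicit false

namespace Groth.Agent.Lib.Helper8.Quartic6

open MvPolynomial

universe u

variable {k : Type u} [Field k]

/-- a singular point (given by a vector) of the curve `g = 0` -/
def Sg (g : MvPolynomial (Fin 3) k) (v : Fin 3 → k) : Prop :=
  eval v g = 0 ∧ ∀ i, eval v (pderiv i g) = 0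

theorem eval_smul_hom {g : MvPolynomial (Fin 3) k} {d : ℕ} (hg : g.IsHomogeneous d) (c : k)
    (v : Fin 3 → k) : eval (c • v) g = c ^ d * eval v g := by
  rw [eval_eq', eval_eq', Finset.mul_sum]
  refine Finset.sum_congr rfl fun m hm => ?_
  have hdeg : m.degree = d := by
    by_contra h
    exact (mem_support_iff.mp hm) (hg.coeff_eq_zero h)
  rw [Finsupp.degree_eq_sum] at hdeg
  simp only [Pi.smul_apply, smul_eq_mul, mul_pow, Finset.prod_mul_distrib,
    Finset.prod_pow_eq_pow_sum, hdeg]
  ring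

theorem Sg_smul {g : MvPolynomial (Fin 3) k} {d : ℕ} (hg : g.IsHomogeneous d) (c : k)
    {v : Fin 3 → k} (h : Sg g v) : Sg g (c • v) := by
  refine ⟨by rw [eval_smul_hom hg, h.1, mul_zero], fun i => ?_⟩
  rw [eval_smul_hom (hg.pderiv (i := i)), h.2 i, mul_zero]

theorem eval_aeval' (h : Fin 3 → MvPolynomial (Fin 3) k) (v : Fin 3 → k)
    (g : MvPolynomial (Fin 3) k) :
    eval v (aeval h g) = eval (fun i => eval v (h i)) g := by
  induction g using MvPolynomial.induction_on with
  | C c => simp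
  | add p q hp hq => simp only [map_add, hp, hq]
  | mul_X p n hp => simp only [map_mul, hp, aeval_X, eval_X]

theorem pderiv_aeval' (h : Fin 3 → MvPolynomial (Fin 3) k) (i : Fin 3)
    (g : MvPolynomial (Fin 3) k) :
    pderiv i (aeval h g) = ∑ j, aeval h (pderiv j g) * pderiv i (h j) := by
  induction g using MvPolynomial.induction_on with
  | C c => simp
  | add p q hp hq => simp only [map_add, hp, hq, add_mul, Finset.sum_add_distrib]
  | mul_X p n hp =>
    rw [map_mul, aeval_X, pderiv_mul, hp]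
    simp only [Fin.sum_univ_three, pderiv_mul, map_add, map_mul, aeval_X]
    fin_cases n <;> simp [pderiv_X, Pi.single_apply] <;> ring

theorem polyEval_aeval (f : Fin 3 → Polynomial k) (τ : k) (g : MvPolynomial (Fin 3) k) :
    Polynomial.eval τ (aeval f g) = eval (fun i => Polynomial.eval τ (f i)) g := by
  induction g using MvPolynomial.induction_on with
  | C c => simp
  | add p q hp hq => simp only [map_add, Polynomial.eval_add, hp, hq]
  | mul_X p n hp => simp only [map_mul, Polynomial.eval_mul, hp, aeval_X, eval_X]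

/-! ### linear substitutions -/

/-- linear substitution `x ↦ M x` -/
noncomputable def sub (M : Matrix (Fin 3) (Fin 3) k) :
    MvPolynomial (Fin 3) k →ₐ[k] MvPolynomial (Fin 3) k :=
  aeval (fun j => ∑ i, C (M j i) * X i)

theorem eval_sub (M : Matrix (Fin 3) (Fin 3) k) (a : Fin 3 → k) (g : MvPolynomial (Fin 3) k) :
    eval a (sub M g) = eval (M.mulVec a) g := by
  have : (fun j => eval a (∑ i, C (M j i) * X i)) = M.mulVec a := by
    funext j
    simp [Matrix.mulVec, dotProduct]
  rw [sub, eval_aeval', this]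

theorem pderiv_sub (M : Matrix (Fin 3) (Fin 3) k) (i : Fin 3) (g : MvPolynomial (Fin 3) k) :
    pderiv i (sub M g) = ∑ j, C (M j i) * sub M (pderiv j g) := by
  have key : ∀ j, pderiv i (∑ l, C (M j l) * X l) = C (M j i) := by
    intro j
    fin_cases i <;> simp [Fin.sum_univ_three, pderiv_X, Pi.single_apply]
  simp only [sub]
  rw [pderiv_aeval']
  refine Finset.sum_congr rfl fun j _ => ?_
  rw [key j, mul_comm]

theorem Sg_sub {M : Matrix (Fin 3) (Fin 3) k} {g : MvPolynomial (Fin 3) k} {a : Fin 3 → k}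
    (h : Sg g (M.mulVec a)) : Sg (sub M g) a := by
  refine ⟨by rw [eval_sub]; exact h.1, fun i => ?_⟩
  rw [pderiv_sub, map_sum]
  refine Finset.sum_eq_zero fun j _ => ?_
  rw [map_mul, eval_sub, h.2 j, mul_zero]

theorem sub_hom (M : Matrix (Fin 3) (Fin 3) k) {g : MvPolynomial (Fin 3) k} {d : ℕ}
    (hg : g.IsHomogeneous d) : (sub M g).IsHomogeneous d := by
  have := hg.aeval (fun j => ∑ i, C (M j i) * X i) (n := 1) (fun j =>
    IsHomogeneous.sum _ _ _ fun i _ => isHomogeneous_C_mul_X (M j i) i)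
  rwa [one_mul] at this

theorem sub_sub_of_mul_eq_one [Infinite k] {M N : Matrix (Fin 3) (Fin 3) k} (h : M * N = 1)
    (g : MvPolynomial (Fin 3) k) : sub N (sub M g) = g := by
  apply MvPolynomial.funext
  intro a
  rw [eval_sub, eval_sub, Matrix.mulVec_mulVec, h, Matrix.one_mulVec]

theorem squarefree_sub [Infinite k] {M N : Matrix (Fin 3) (Fin 3) k} (h1 : M * N = 1)
    (h2 : N * M = 1) {g : MvPolynomial (Fin 3) k} (hg : Squarefree g) :
    Squarefree (sub M g) := by
  intro w hw
  obtain ⟨c, hc⟩ := hw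
  have hd : sub N w * sub N w ∣ g :=
    ⟨sub N c, by rw [← map_mul, ← map_mul, ← hc, sub_sub_of_mul_eq_one h1]⟩
  have hu := (hg _ hd).map (sub M)
  rwa [sub_sub_of_mul_eq_one h2] at hu

theorem not_isUnit_of_eval_zero {w : MvPolynomial (Fin 3) k} (h : eval 0 w = 0) :
    ¬ IsUnit w := by
  intro hu
  have := hu.map (eval (0 : Fin 3 → k))
  rw [h] at this
  exact not_isUnit_zero this

/-! ### divisibility by a coordinate -/

theorem X0_dvd [Infinite k] (g : MvPolynomial (Fin 3) k)
    (h : ∀ v : Fin 3 → k, v 0 = 0 → eval v g = 0) : X 0 ∣ g := by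
  obtain ⟨hh, hhdef⟩ : ∃ hh : Fin 3 → MvPolynomial (Fin 3) k, hh = ![0, X 1, X 2] := ⟨_, rfl⟩
  have hX : ∀ n, (X 0 : MvPolynomial (Fin 3) k) ∣ X n - hh n := by
    intro n
    rw [hhdef]
    fin_cases n <;> simp
  have h1 : ∀ p : MvPolynomial (Fin 3) k, (X 0 : MvPolynomial (Fin 3) k) ∣ p - aeval hh p := by
    intro p
    induction p using MvPolynomial.induction_on with
    | C a => simp
    | add p q hp hq =>
      have : p + q - aeval hh (p + q) = (p - aeval hh p) + (q - aeval hh q) := by
        rw [map_add]; ring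
      rw [this]; exact dvd_add hp hq
    | mul_X p n hp =>
      have : p * X n - aeval hh (p * X n) =
          (p - aeval hh p) * X n + aeval hh p * (X n - hh n) := by
        rw [map_mul, aeval_X]; ring
      rw [this]
      exact dvd_add (Dvd.dvd.mul_right hp _) (Dvd.dvd.mul_left (hX n) _)
  have h2 : aeval hh g = 0 := by
    apply MvPolynomial.funext
    intro v
    rw [map_zero, eval_aeval']
    apply h
    rw [hhdef]
    simp
  have := h1 g
  rwa [h2, sub_zero] at this

theorem sq_dvd_of_sing_plane [Infinite k] (g : MvPolynomial (Fin 3) k)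
    (h : ∀ s t : k, Sg g ![0, s, t]) : X 0 * X 0 ∣ g := by
  have hv : ∀ v : Fin 3 → k, v 0 = 0 → Sg g v := by
    intro v hv0
    have : v = ![0, v 1, v 2] := by
      funext i
      fin_cases i <;> simp [hv0]
    rw [this]; exact h _ _
  obtain ⟨q, hq⟩ := X0_dvd g (fun v hv0 => (hv v hv0).1)
  have hq0 : X 0 ∣ q := by
    apply X0_dvd
    intro v hv0
    have h1 := (hv v hv0).2 0
    rw [hq, pderiv_mul, pderiv_X_self, one_mul, map_add, map_mul, eval_X, hv0, zero_mul,
      add_zero] at h1
    exact h1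
  obtain ⟨r, hr⟩ := hq0
  exact ⟨r, by rw [hq, hr]; ring⟩

/-! ### bases -/

theorem exists_notMem_span2 (u w : Fin 3 → k) :
    ∃ t : Fin 3 → k, t ∉ Submodule.span k (Set.range ![u, w]) := by
  by_contra hcon
  have hall : ∀ t : Fin 3 → k, t ∈ Submodule.span k (Set.range ![u, w]) := by
    intro t
    by_contra ht
    exact hcon ⟨t, ht⟩
  have htop : Submodule.span k (Set.range ![u, w]) = ⊤ := Submodule.eq_top_iff'.mpr hall
  have h1 : Module.finrank k ↥(Submodule.span k (Set.range ![u, w])) ≤ 2 := by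
    have := finrank_range_le_card (R := k) ![u, w]
    simpa [Set.finrank] using this
  rw [htop, finrank_top, Module.finrank_fin_fun] at h1
  omega

theorem exists_matrix (t u w : Fin 3 → k) (hli : LinearIndependent k ![u, w])
    (ht : t ∉ Submodule.span k (Set.range ![u, w])) :
    ∃ M N : Matrix (Fin 3) (Fin 3) k, M * N = 1 ∧ N * M = 1 ∧
      M.mulVec (Pi.single 0 1) = t ∧ M.mulVec (Pi.single 1 1) = u ∧
      M.mulVec (Pi.single 2 1) = w := by
  classical
  have h3 : LinearIndependent k ![t, u, w] := linearIndependent_finCons.mpr ⟨hli, ht⟩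
  obtain ⟨A, hA⟩ : ∃ A : Matrix (Fin 3) (Fin 3) k, A = Matrix.of ![t, u, w] := ⟨_, rfl⟩
  have hAu : IsUnit A := by
    rw [← Matrix.linearIndependent_rows_iff_isUnit, hA]
    exact h3
  have hMu : IsUnit A.transpose := (Matrix.isUnit_transpose A).mpr hAu
  have hdet : IsUnit A.transpose.det := (Matrix.isUnit_iff_isUnit_det _).mp hMu
  refine ⟨A.transpose, A.transpose⁻¹, Matrix.mul_nonsing_inv _ hdet,
    Matrix.nonsing_inv_mul _ hdet, ?_, ?_, ?_⟩
  · rw [Matrix.mulVec_single_one, hA]; rfl
  · rw [Matrix.mulVec_single_one, hA]; rfl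
  · rw [Matrix.mulVec_single_one, hA]; rfl

theorem vec_eq (s t : k) :
    (![0, s, t] : Fin 3 → k) = s • Pi.single 1 1 + t • Pi.single 2 1 := by
  funext i
  fin_cases i <;> simp

theorem sq_dvd_of_sing_line [Infinite k] (g : MvPolynomial (Fin 3) k) (u w : Fin 3 → k)
    (hli : LinearIndependent k ![u, w]) (h : ∀ s t : k, Sg g (s • u + t • w)) :
    ∃ ℓ : MvPolynomial (Fin 3) k, ℓ * ℓ ∣ g ∧ eval 0 ℓ = 0 := by
  obtain ⟨t₀, ht₀⟩ := exists_notMem_span2 u w
  obtain ⟨M, N, hMN, hNM, h0, h1, h2⟩ := exists_matrix t₀ u w hli ht₀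
  have hS : ∀ s t : k, Sg (sub M g) ![0, s, t] := by
    intro s t
    apply Sg_sub
    have : M.mulVec ![0, s, t] = s • u + t • w := by
      rw [vec_eq, Matrix.mulVec_add, Matrix.mulVec_smul, Matrix.mulVec_smul, h1, h2]
    rw [this]; exact h s t
  obtain ⟨c, hc⟩ := sq_dvd_of_sing_plane (sub M g) hS
  refine ⟨sub N (X 0), ⟨sub N c, ?_⟩, ?_⟩
  · rw [← map_mul, ← map_mul, ← hc, sub_sub_of_mul_eq_one hMN]
  · rw [eval_sub, eval_X, Matrix.mulVec_zero]; rfl

/-! ### roots on a line -/

theorem vanish_on_line [Infinite k] {g : MvPolynomial (Fin 3) k} {d : ℕ}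
    (hg : g.IsHomogeneous d) (S : Finset k) (hS : d < S.card)
    (h1 : ∀ τ ∈ S, eval ![0, 1, τ] g = 0) (h2 : eval ![0, 0, 1] g = 0) :
    ∀ s t : k, eval ![0, s, t] g = 0 := by
  obtain ⟨fp, hfp⟩ : ∃ fp : Fin 3 → Polynomial k, fp = ![0, 1, Polynomial.X] := ⟨_, rfl⟩
  have hdeg : (aeval fp g).natDegree ≤ d := by
    have := MvPolynomial.aeval_natDegree_le (m := d) (n := 1) g hg.totalDegree_le fp (by
      intro i; rw [hfp]; fin_cases i <;> simp)
    rwa [mul_one] at this
  have heval : ∀ τ, Polynomial.eval τ (aeval fp g) = eval ![0, 1, τ] g := by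
    intro τ
    have : (fun i => Polynomial.eval τ (fp i)) = ![0, 1, τ] := by
      funext i; rw [hfp]; fin_cases i <;> simp
    rw [polyEval_aeval, this]
  have hP : aeval fp g = 0 :=
    Polynomial.eq_zero_of_natDegree_lt_card_of_eval_eq_zero' _ S
      (fun τ hτ => by rw [heval]; exact h1 τ hτ) (lt_of_le_of_lt hdeg hS)
  intro s t
  by_cases hs : s = 0
  · subst hs
    have : (![0, 0, t] : Fin 3 → k) = t • ![0, 0, 1] := by
      funext i; fin_cases i <;> simp
    rw [this, eval_smul_hom hg, h2, mul_zero]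
  · have : (![0, s, t] : Fin 3 → k) = s • ![0, 1, t / s] := by
      funext i; fin_cases i <;> simp <;> field_simp
    rw [this, eval_smul_hom hg, ← heval, hP, Polynomial.eval_zero, mul_zero]

end Groth.Agent.Lib.Helper8.Quartic6
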