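import Mathlib
import Groth.Agent.Lib.Helper8.Quartic6a

/-!
Plane quartics with double points at the three coordinate points (for S14312):
explicit form, the quadratic (Cremona) transformation to a conic, capacity lemmas.
-/

set_option autoImplicit false

namespace Groth.Agent.Lib.Helper8.Quartic6

open MvPolynomial

universe u

variable {k : Type u} [Field k]

theorem fin3_cases (i : Fin 3) : i = 0 ∨ i = 1 ∨ i = 2 := by
  fin_cases i <;> simp

/-! ### exponent vectors -/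

/-- the exponent vector `(a, b, c)` -/
noncomputable def mk3 (a b c : ℕ) : Fin 3 →₀ ℕ :=
  Finsupp.single 0 a + Finsupp.single 1 b + Finsupp.single 2 c

@[simp] theorem mk3_zero (a b c : ℕ) : mk3 a b c 0 = a := by
  simp [mk3, Finsupp.single_apply]

@[simp] theorem mk3_one (a b c : ℕ) : mk3 a b c 1 = b := by
  simp [mk3, Finsupp.single_apply]

@[simp] theorem mk3_two (a b c : ℕ) : mk3 a b c 2 = c := by
  simp [mk3, Finsupp.single_apply]

theorem eq_mk3 (m : Fin 3 →₀ ℕ) : m = mk3 (m 0) (m 1) (m 2) := by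
  ext i
  rcases fin3_cases i with rfl | rfl | rfl <;> simp

theorem mk3_inj {a b c a' b' c' : ℕ} :
    mk3 a b c = mk3 a' b' c' ↔ a = a' ∧ b = b' ∧ c = c' := by
  constructor
  · intro h
    have h0 := DFunLike.congr_fun h 0
    have h1 := DFunLike.congr_fun h 1
    have h2 := DFunLike.congr_fun h 2
    simp only [mk3_zero, mk3_one, mk3_two] at h0 h1 h2
    exact ⟨h0, h1, h2⟩
  · rintro ⟨rfl, rfl, rfl⟩; rfl

theorem mk3_degree (a b c : ℕ) : (mk3 a b c).degree = a + b + c := by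
  rw [Finsupp.degree_eq_sum, Fin.sum_univ_three]; simp

theorem add_mk3 (a b c a' b' c' : ℕ) :
    mk3 a b c + mk3 a' b' c' = mk3 (a + a') (b + b') (c + c') := by
  ext i
  rcases fin3_cases i with rfl | rfl | rfl <;> simp

theorem single0 (n : ℕ) : Finsupp.single (0 : Fin 3) n = mk3 n 0 0 := by
  ext i
  rcases fin3_cases i with rfl | rfl | rfl <;> simp [Finsupp.single_apply]

theorem single1 (n : ℕ) : Finsupp.single (1 : Fin 3) n = mk3 0 n 0 := by
  ext i
  rcases fin3_cases i with rfl | rfl | rfl <;> simp [Finsupp.single_apply]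

theorem single2 (n : ℕ) : Finsupp.single (2 : Fin 3) n = mk3 0 0 n := by
  ext i
  rcases fin3_cases i with rfl | rfl | rfl <;> simp [Finsupp.single_apply]

theorem monomial_mk3 (a b c : ℕ) (r : k) :
    monomial (mk3 a b c) r = C r * X 0 ^ a * X 1 ^ b * X 2 ^ c := by
  simp only [X_pow_eq_monomial, C_mul_monomial, monomial_mul, mul_one, mk3]

/-! ### the explicit quartics and conics -/

/-- the quartics with double points at the three coordinate points -/
noncomputable def Q6 (A B C' D E F : k) : MvPolynomial (Fin 3) k :=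
  C A * X 1 ^ 2 * X 2 ^ 2 + C B * X 0 ^ 2 * X 2 ^ 2 + C C' * X 0 ^ 2 * X 1 ^ 2 +
  C D * X 0 ^ 2 * X 1 * X 2 + C E * X 0 * X 1 ^ 2 * X 2 + C F * X 0 * X 1 * X 2 ^ 2

/-- the conics -/
noncomputable def Q3 (A B C' D E F : k) : MvPolynomial (Fin 3) k :=
  C A * X 0 ^ 2 + C B * X 1 ^ 2 + C C' * X 2 ^ 2 +
  C D * X 1 * X 2 + C E * X 0 * X 2 + C F * X 0 * X 1

theorem Q6_eq (A B C' D E F : k) : Q6 A B C' D E F =
    monomial (mk3 0 2 2) A + monomial (mk3 2 0 2) B + monomial (mk3 2 2 0) C' +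
    monomial (mk3 2 1 1) D + monomial (mk3 1 2 1) E + monomial (mk3 1 1 2) F := by
  simp only [monomial_mk3, Q6, pow_zero, pow_one, mul_one]

theorem eval_Q6 (A B C' D E F : k) (v : Fin 3 → k) : eval v (Q6 A B C' D E F) =
    A * v 1 ^ 2 * v 2 ^ 2 + B * v 0 ^ 2 * v 2 ^ 2 + C' * v 0 ^ 2 * v 1 ^ 2 +
    D * v 0 ^ 2 * v 1 * v 2 + E * v 0 * v 1 ^ 2 * v 2 + F * v 0 * v 1 * v 2 ^ 2 := by
  simp [Q6]

theorem eval_pd0_Q6 (A B C' D E F : k) (v : Fin 3 → k) :
    eval v (pderiv 0 (Q6 A B C' D E F)) =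
    2 * B * v 0 * v 2 ^ 2 + 2 * C' * v 0 * v 1 ^ 2 + 2 * D * v 0 * v 1 * v 2 +
    E * v 1 ^ 2 * v 2 + F * v 1 * v 2 ^ 2 := by
  simp [Q6, pderiv_X, Pi.single_apply]
  ring

theorem eval_pd1_Q6 (A B C' D E F : k) (v : Fin 3 → k) :
    eval v (pderiv 1 (Q6 A B C' D E F)) =
    2 * A * v 1 * v 2 ^ 2 + 2 * C' * v 0 ^ 2 * v 1 + D * v 0 ^ 2 * v 2 +
    2 * E * v 0 * v 1 * v 2 + F * v 0 * v 2 ^ 2 := by
  simp [Q6, pderiv_X, Pi.single_apply]
  ring

theorem eval_pd2_Q6 (A B C' D E F : k) (v : Fin 3 → k) :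
    eval v (pderiv 2 (Q6 A B C' D E F)) =
    2 * A * v 1 ^ 2 * v 2 + 2 * B * v 0 ^ 2 * v 2 + D * v 0 ^ 2 * v 1 +
    E * v 0 * v 1 ^ 2 + 2 * F * v 0 * v 1 * v 2 := by
  simp [Q6, pderiv_X, Pi.single_apply]
  ring

theorem eval_Q3 (A B C' D E F : k) (v : Fin 3 → k) : eval v (Q3 A B C' D E F) =
    A * v 0 ^ 2 + B * v 1 ^ 2 + C' * v 2 ^ 2 + D * v 1 * v 2 + E * v 0 * v 2 + F * v 0 * v 1 := by
  simp [Q3]

theorem eval_pd0_Q3 (A B C' D E F : k) (v : Fin 3 → k) :
    eval v (pderiv 0 (Q3 A B C' D E F)) = 2 * A * v 0 + E * v 2 + F * v 1 := by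
  simp [Q3, pderiv_X, Pi.single_apply]
  ring

theorem eval_pd1_Q3 (A B C' D E F : k) (v : Fin 3 → k) :
    eval v (pderiv 1 (Q3 A B C' D E F)) = 2 * B * v 1 + D * v 2 + F * v 0 := by
  simp [Q3, pderiv_X, Pi.single_apply]
  ring

theorem eval_pd2_Q3 (A B C' D E F : k) (v : Fin 3 → k) :
    eval v (pderiv 2 (Q3 A B C' D E F)) = 2 * C' * v 2 + D * v 1 + E * v 0 := by
  simp [Q3, pderiv_X, Pi.single_apply]
  ring

/-- the quadratic transformation -/
noncomputable def psi : MvPolynomial (Fin 3) k →ₐ[k] MvPolynomial (Fin 3) k :=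
  aeval ![X 1 * X 2, X 0 * X 2, X 0 * X 1]

theorem psi_Q3 (A B C' D E F : k) : psi (Q3 A B C' D E F) = Q6 A B C' D E F := by
  simp [psi, Q3, Q6]
  ring

theorem eval_zero_psi (ℓ : MvPolynomial (Fin 3) k) : eval 0 (psi ℓ) = eval 0 ℓ := by
  have : (fun i => eval (0 : Fin 3 → k)
      ((![X 1 * X 2, X 0 * X 2, X 0 * X 1] : Fin 3 → MvPolynomial (Fin 3) k) i)) = 0 := by
    funext i
    rcases fin3_cases i with rfl | rfl | rfl <;> simp
  rw [psi, eval_aeval', this]

/-! ### coefficients of a quartic singular at the coordinate points -/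

theorem eval_single_eq_coeff {g : MvPolynomial (Fin 3) k} {d : ℕ} (hg : g.IsHomogeneous d)
    (j : Fin 3) : eval (Pi.single j (1 : k)) g = coeff (Finsupp.single j d) g := by
  classical
  rw [eval_eq', Finset.sum_eq_single (Finsupp.single j d)]
  · have : ∏ i, ((Pi.single j (1 : k) : Fin 3 → k) i) ^ (Finsupp.single j d i) = 1 := by
      refine Finset.prod_eq_one fun i _ => ?_
      by_cases hij : i = j
      · subst hij; simp
      · have : (Finsupp.single j d) i = 0 := by simp [Finsupp.single_apply, Ne.symm hij]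
        rw [this, pow_zero]
    rw [this, mul_one]
  · intro m hm hne
    have hdeg : m.degree = d := by
      by_contra h
      exact (mem_support_iff.mp hm) (hg.coeff_eq_zero h)
    have hex : ∃ i, i ≠ j ∧ m i ≠ 0 := by
      by_contra hcon
      have hcon' : ∀ i, i ≠ j → m i = 0 := by
        intro i hij
        by_contra hmi
        exact hcon ⟨i, hij, hmi⟩
      apply hne
      ext i
      by_cases hij : i = j
      · subst hij
        rw [Finsupp.single_eq_same, ← hdeg, Finsupp.degree_eq_sum]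
        symm
        exact Finset.sum_eq_single i (fun l _ hl => hcon' l hl)
          (fun h => absurd (Finset.mem_univ _) h)
      · have : (Finsupp.single j d) i = 0 := by simp [Finsupp.single_apply, Ne.symm hij]
        rw [this]; exact hcon' i hij
    obtain ⟨i, hij, hmi⟩ := hex
    rw [Finset.prod_eq_zero (Finset.mem_univ i), mul_zero]
    rw [Pi.single_eq_of_ne hij, zero_pow hmi]
  · intro hns
    rw [notMem_support_iff.mp hns, zero_mul]

theorem coeff_of_Sg {g : MvPolynomial (Fin 3) k} (hg : g.IsHomogeneous 4) (j : Fin 3)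
    (h : Sg g (Pi.single j 1)) :
    coeff (Finsupp.single j 4) g = 0 ∧
      ∀ i, i ≠ j → coeff (Finsupp.single j 3 + Finsupp.single i 1) g = 0 := by
  refine ⟨?_, fun i hij => ?_⟩
  · rw [← eval_single_eq_coeff hg j]; exact h.1
  · have h1 := h.2 i
    rw [eval_single_eq_coeff (hg.pderiv (i := i)) j, coeff_pderiv] at h1
    simpa [Finsupp.single_apply, hij, Ne.symm hij] using h1

theorem coef_lemma {g : MvPolynomial (Fin 3) k} (hg : g.IsHomogeneous 4)
    (h0 : Sg g (Pi.single 0 1)) (h1 : Sg g (Pi.single 1 1)) (h2 : Sg g (Pi.single 2 1)) :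
    g = Q6 (coeff (mk3 0 2 2) g) (coeff (mk3 2 0 2) g) (coeff (mk3 2 2 0) g)
      (coeff (mk3 2 1 1) g) (coeff (mk3 1 2 1) g) (coeff (mk3 1 1 2) g) := by
  classical
  have s0 := coeff_of_Sg hg 0 h0
  have s1 := coeff_of_Sg hg 1 h1
  have s2 := coeff_of_Sg hg 2 h2
  have z400 : coeff (mk3 4 0 0) g = 0 := by simpa [single0] using s0.1
  have z310 : coeff (mk3 3 1 0) g = 0 := by
    simpa [single0, single1, add_mk3] using s0.2 1 (by decide)
  have z301 : coeff (mk3 3 0 1) g = 0 := by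
    simpa [single0, single2, add_mk3] using s0.2 2 (by decide)
  have z040 : coeff (mk3 0 4 0) g = 0 := by simpa [single1] using s1.1
  have z130 : coeff (mk3 1 3 0) g = 0 := by
    simpa [single0, single1, add_mk3] using s1.2 0 (by decide)
  have z031 : coeff (mk3 0 3 1) g = 0 := by
    simpa [single1, single2, add_mk3] using s1.2 2 (by decide)
  have z004 : coeff (mk3 0 0 4) g = 0 := by simpa [single2] using s2.1
  have z103 : coeff (mk3 1 0 3) g = 0 := by
    simpa [single0, single2, add_mk3] using s2.2 0 (by decide)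
  have z013 : coeff (mk3 0 1 3) g = 0 := by
    simpa [single1, single2, add_mk3] using s2.2 1 (by decide)
  rw [Q6_eq]
  ext m
  obtain ⟨a, b, c, rfl⟩ : ∃ a b c, m = mk3 a b c := ⟨_, _, _, eq_mk3 m⟩
  simp only [coeff_add, coeff_monomial, mk3_inj]
  by_cases hd : a + b + c = 4
  · have ha : a ≤ 4 := by omega
    have hb : b ≤ 4 := by omega
    obtain rfl : c = 4 - a - b := by omega
    interval_cases a <;> interval_cases b <;>
      first
      | omega
      | simp [z400, z310, z301, z040, z130, z031, z004, z103, z013]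
  · rw [hg.coeff_eq_zero (by rw [mk3_degree]; exact hd)]
    split_ifs <;> first | (exfalso; omega) | simp

/-! ### the scalar equations of a singular point -/

/-- the four equations of a singular point of `Q6` -/
def Sing6 (A B C' D E F x y z : k) : Prop :=
  (A * y ^ 2 * z ^ 2 + B * x ^ 2 * z ^ 2 + C' * x ^ 2 * y ^ 2 + D * x ^ 2 * y * z +
    E * x * y ^ 2 * z + F * x * y * z ^ 2 = 0) ∧
  (2 * B * x * z ^ 2 + 2 * C' * x * y ^ 2 + 2 * D * x * y * z + E * y ^ 2 * z +
    F * y * z ^ 2 = 0) ∧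
  (2 * A * y * z ^ 2 + 2 * C' * x ^ 2 * y + D * x ^ 2 * z + 2 * E * x * y * z +
    F * x * z ^ 2 = 0) ∧
  (2 * A * y ^ 2 * z + 2 * B * x ^ 2 * z + D * x ^ 2 * y + E * x * y ^ 2 +
    2 * F * x * y * z = 0)

theorem Sing6_of_Sg {A B C' D E F : k} {v : Fin 3 → k} (h : Sg (Q6 A B C' D E F) v) :
    Sing6 A B C' D E F (v 0) (v 1) (v 2) :=
  ⟨by rw [← eval_Q6]; exact h.1, by rw [← eval_pd0_Q6]; exact h.2 0,
    by rw [← eval_pd1_Q6]; exact h.2 1, by rw [← eval_pd2_Q6]; exact h.2 2⟩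

theorem edge_scalar (A E F y z y' z' : k) (hy : y ≠ 0) (hz : z ≠ 0) (hy' : y' ≠ 0)
    (hz' : z' ≠ 0) (hd : y * z' - y' * z ≠ 0) (h0 : A * y ^ 2 * z ^ 2 = 0)
    (h1 : E * y ^ 2 * z + F * y * z ^ 2 = 0) (h1' : E * y' ^ 2 * z' + F * y' * z' ^ 2 = 0) :
    A = 0 ∧ E = 0 ∧ F = 0 := by
  have hA : A = 0 := by
    have : A * (y ^ 2 * z ^ 2) = 0 := by linear_combination h0
    rcases mul_eq_zero.mp this with h | h
    · exact h
    · exact absurd h (mul_ne_zero (pow_ne_zero 2 hy) (pow_ne_zero 2 hz))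
  have e1 : E * y + F * z = 0 := by
    have : (y * z) * (E * y + F * z) = 0 := by linear_combination h1
    exact (mul_eq_zero.mp this).resolve_left (mul_ne_zero hy hz)
  have e1' : E * y' + F * z' = 0 := by
    have : (y' * z') * (E * y' + F * z') = 0 := by linear_combination h1'
    exact (mul_eq_zero.mp this).resolve_left (mul_ne_zero hy' hz')
  have hE : E = 0 := by
    have : E * (y * z' - y' * z) = 0 := by linear_combination z' * e1 - z * e1'
    exact (mul_eq_zero.mp this).resolve_right hd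
  have hF : F = 0 := by
    have : F * (y * z' - y' * z) = 0 := by linear_combination y * e1' - y' * e1
    exact (mul_eq_zero.mp this).resolve_right hd
  exact ⟨hA, hE, hF⟩

theorem edge_one (A y z : k) (hy : y ≠ 0) (hz : z ≠ 0) (h0 : A * y ^ 2 * z ^ 2 = 0) : A = 0 := by
  have : A * (y ^ 2 * z ^ 2) = 0 := by linear_combination h0
  rcases mul_eq_zero.mp this with h | h
  · exact h
  · exact absurd h (mul_ne_zero (pow_ne_zero 2 hy) (pow_ne_zero 2 hz))

theorem torus_sing {A B C' D E F x y z : k} (hx : x ≠ 0) (hy : y ≠ 0) (hz : z ≠ 0)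
    (h : Sing6 A B C' D E F x y z) :
    (2 * A * (y * z) + F * (x * z) + E * (x * y) = 0) ∧
    (F * (y * z) + 2 * B * (x * z) + D * (x * y) = 0) ∧
    (E * (y * z) + D * (x * z) + 2 * C' * (x * y) = 0) := by
  obtain ⟨h0, h1, h2, h3⟩ := h
  refine ⟨?_, ?_, ?_⟩
  · have : (y * z) * (2 * A * (y * z) + F * (x * z) + E * (x * y)) = 0 := by
      linear_combination y * h2 + z * h3 - 2 * h0
    exact (mul_eq_zero.mp this).resolve_left (mul_ne_zero hy hz)
  · have : (x * z) * (F * (y * z) + 2 * B * (x * z) + D * (x * y)) = 0 := by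
      linear_combination x * h1 + z * h3 - 2 * h0
    exact (mul_eq_zero.mp this).resolve_left (mul_ne_zero hx hz)
  · have : (x * y) * (E * (y * z) + D * (x * z) + 2 * C' * (x * y)) = 0 := by
      linear_combination x * h1 + y * h2 - 2 * h0
    exact (mul_eq_zero.mp this).resolve_left (mul_ne_zero hx hy)

theorem all4 {D E F x y z : k} (hx : x ≠ 0) (hy : y ≠ 0) (hz : z ≠ 0)
    (h : Sing6 0 0 0 D E F x y z) : D = 0 ∧ E = 0 ∧ F = 0 := by
  obtain ⟨h0, h1, h2, h3⟩ := h
  have e0 : D * x + E * y + F * z = 0 := by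
    have : (x * y * z) * (D * x + E * y + F * z) = 0 := by linear_combination h0
    exact (mul_eq_zero.mp this).resolve_left (mul_ne_zero (mul_ne_zero hx hy) hz)
  have e1 : 2 * D * x + E * y + F * z = 0 := by
    have : (y * z) * (2 * D * x + E * y + F * z) = 0 := by linear_combination h1
    exact (mul_eq_zero.mp this).resolve_left (mul_ne_zero hy hz)
  have e2 : D * x + 2 * E * y + F * z = 0 := by
    have : (x * z) * (D * x + 2 * E * y + F * z) = 0 := by linear_combination h2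
    exact (mul_eq_zero.mp this).resolve_left (mul_ne_zero hx hz)
  have e3 : D * x + E * y + 2 * F * z = 0 := by
    have : (x * y) * (D * x + E * y + 2 * F * z) = 0 := by linear_combination h3
    exact (mul_eq_zero.mp this).resolve_left (mul_ne_zero hx hy)
  refine ⟨?_, ?_, ?_⟩
  · have : D * x = 0 := by linear_combination e1 - e0
    exact (mul_eq_zero.mp this).resolve_right hx
  · have : E * y = 0 := by linear_combination e2 - e0
    exact (mul_eq_zero.mp this).resolve_right hy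
  · have : F * z = 0 := by linear_combination e3 - e0
    exact (mul_eq_zero.mp this).resolve_right hz

/-! ### capacity lemmas -/

/-- a singular point of `Q6` which is not one of the three coordinate points -/
structure Good (A B C' D E F : k) (b : Fin 3 → k) : Prop where
  sing : Sing6 A B C' D E F (b 0) (b 1) (b 2)
  nv : ∀ (j : Fin 3) (c : k), b ≠ c • Pi.single j 1

theorem Good.ne12 {A B C' D E F : k} {b : Fin 3 → k} (h : Good A B C' D E F b)
    (h0 : b 0 = 0) : b 1 ≠ 0 ∧ b 2 ≠ 0 := by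
  constructor
  · intro h1
    apply h.nv 2 (b 2)
    funext i
    rcases fin3_cases i with rfl | rfl | rfl <;> simp [h0, h1, Pi.single_apply]
  · intro h2
    apply h.nv 1 (b 1)
    funext i
    rcases fin3_cases i with rfl | rfl | rfl <;> simp [h0, h2, Pi.single_apply]

theorem Good.ne02 {A B C' D E F : k} {b : Fin 3 → k} (h : Good A B C' D E F b)
    (h1 : b 1 = 0) : b 0 ≠ 0 ∧ b 2 ≠ 0 := by
  constructor
  · intro h0
    apply h.nv 2 (b 2)
    funext i
    rcases fin3_cases i with rfl | rfl | rfl <;> simp [h0, h1, Pi.single_apply]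
  · intro h2
    apply h.nv 0 (b 0)
    funext i
    rcases fin3_cases i with rfl | rfl | rfl <;> simp [h1, h2, Pi.single_apply]

theorem Good.ne01 {A B C' D E F : k} {b : Fin 3 → k} (h : Good A B C' D E F b)
    (h2 : b 2 = 0) : b 0 ≠ 0 ∧ b 1 ≠ 0 := by
  constructor
  · intro h0
    apply h.nv 1 (b 1)
    funext i
    rcases fin3_cases i with rfl | rfl | rfl <;> simp [h0, h2, Pi.single_apply]
  · intro h1
    apply h.nv 0 (b 0)
    funext i
    rcases fin3_cases i with rfl | rfl | rfl <;> simp [h1, h2, Pi.single_apply]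

theorem cap_x {A B C' D E F : k} (hsq : Squarefree (Q6 A B C' D E F)) {b b' : Fin 3 → k}
    (hb : Good A B C' D E F b) (hb' : Good A B C' D E F b') (hnp : ∀ c : k, b ≠ c • b')
    (h0 : b 0 = 0) (h0' : b' 0 = 0) : False := by
  obtain ⟨hy, hz⟩ := hb.ne12 h0
  obtain ⟨hy', hz'⟩ := hb'.ne12 h0'
  have hd : b 1 * b' 2 - b' 1 * b 2 ≠ 0 := by
    intro hd
    apply hnp (b 1 / b' 1)
    funext i
    rcases fin3_cases i with rfl | rfl | rfl
    · show b 0 = b 1 / b' 1 * b' 0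
      rw [h0, h0', mul_zero]
    · show b 1 = b 1 / b' 1 * b' 1
      field_simp
    · show b 2 = b 1 / b' 1 * b' 2
      rw [div_mul_eq_mul_div, eq_div_iff hy']; linear_combination -hd
  obtain ⟨s0, s1, -, -⟩ := hb.sing
  obtain ⟨-, s1', -, -⟩ := hb'.sing
  rw [h0] at s0 s1
  rw [h0'] at s1'
  obtain ⟨rfl, rfl, rfl⟩ := edge_scalar A E F (b 1) (b 2) (b' 1) (b' 2) hy hz hy' hz' hd
    (by linear_combination s0) (by linear_combination s1) (by linear_combination s1')
  have hdvd : (X 0 * X 0 : MvPolynomial (Fin 3) k) ∣ Q6 0 B C' D 0 0 :=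
    ⟨C B * X 2 ^ 2 + C C' * X 1 ^ 2 + C D * X 1 * X 2, by simp [Q6]; ring⟩
  exact not_isUnit_of_eval_zero (by simp) (hsq _ hdvd)

theorem cap_y {A B C' D E F : k} (hsq : Squarefree (Q6 A B C' D E F)) {b b' : Fin 3 → k}
    (hb : Good A B C' D E F b) (hb' : Good A B C' D E F b') (hnp : ∀ c : k, b ≠ c • b')
    (h1 : b 1 = 0) (h1' : b' 1 = 0) : False := by
  obtain ⟨hx, hz⟩ := hb.ne02 h1
  obtain ⟨hx', hz'⟩ := hb'.ne02 h1'
  have hd : b 0 * b' 2 - b' 0 * b 2 ≠ 0 := by
    intro hd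
    apply hnp (b 0 / b' 0)
    funext i
    rcases fin3_cases i with rfl | rfl | rfl
    · show b 0 = b 0 / b' 0 * b' 0
      field_simp
    · show b 1 = b 0 / b' 0 * b' 1
      rw [h1, h1', mul_zero]
    · show b 2 = b 0 / b' 0 * b' 2
      rw [div_mul_eq_mul_div, eq_div_iff hx']; linear_combination -hd
  obtain ⟨s0, -, s2, -⟩ := hb.sing
  obtain ⟨-, -, s2', -⟩ := hb'.sing
  rw [h1] at s0 s2
  rw [h1'] at s2'
  obtain ⟨rfl, rfl, rfl⟩ := edge_scalar B D F (b 0) (b 2) (b' 0) (b' 2) hx hz hx' hz' hd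
    (by linear_combination s0) (by linear_combination s2) (by linear_combination s2')
  have hdvd : (X 1 * X 1 : MvPolynomial (Fin 3) k) ∣ Q6 A 0 C' 0 E 0 :=
    ⟨C A * X 2 ^ 2 + C C' * X 0 ^ 2 + C E * X 0 * X 2, by simp [Q6]; ring⟩
  exact not_isUnit_of_eval_zero (by simp) (hsq _ hdvd)

theorem cap_z {A B C' D E F : k} (hsq : Squarefree (Q6 A B C' D E F)) {b b' : Fin 3 → k}
    (hb : Good A B C' D E F b) (hb' : Good A B C' D E F b') (hnp : ∀ c : k, b ≠ c • b')
    (h2 : b 2 = 0) (h2' : b' 2 = 0) : False := by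
  obtain ⟨hx, hy⟩ := hb.ne01 h2
  obtain ⟨hx', hy'⟩ := hb'.ne01 h2'
  have hd : b 0 * b' 1 - b' 0 * b 1 ≠ 0 := by
    intro hd
    apply hnp (b 0 / b' 0)
    funext i
    rcases fin3_cases i with rfl | rfl | rfl
    · show b 0 = b 0 / b' 0 * b' 0
      field_simp
    · show b 1 = b 0 / b' 0 * b' 1
      rw [div_mul_eq_mul_div, eq_div_iff hx']; linear_combination -hd
    · show b 2 = b 0 / b' 0 * b' 2
      rw [h2, h2', mul_zero]
  obtain ⟨s0, -, -, s3⟩ := hb.sing
  obtain ⟨-, -, -, s3'⟩ := hb'.sing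
  rw [h2] at s0 s3
  rw [h2'] at s3'
  obtain ⟨rfl, rfl, rfl⟩ := edge_scalar C' D E (b 0) (b 1) (b' 0) (b' 1) hx hy hx' hy' hd
    (by linear_combination s0) (by linear_combination s3) (by linear_combination s3')
  have hdvd : (X 2 * X 2 : MvPolynomial (Fin 3) k) ∣ Q6 A B 0 0 0 F :=
    ⟨C A * X 1 ^ 2 + C B * X 0 ^ 2 + C F * X 0 * X 1, by simp [Q6]; ring⟩
  exact not_isUnit_of_eval_zero (by simp) (hsq _ hdvd)

theorem cap_t [Infinite k] {A B C' D E F : k} (hsq : Squarefree (Q6 A B C' D E F))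
    {b b' : Fin 3 → k} (hb : Good A B C' D E F b) (hb' : Good A B C' D E F b')
    (hnp : ∀ c : k, b ≠ c • b')
    (hx : b 0 ≠ 0) (hy : b 1 ≠ 0) (hz : b 2 ≠ 0)
    (hx' : b' 0 ≠ 0) (hy' : b' 1 ≠ 0) (hz' : b' 2 ≠ 0) : False := by
  obtain ⟨g1, g2, g3⟩ := torus_sing hx hy hz hb.sing
  obtain ⟨g1', g2', g3'⟩ := torus_sing hx' hy' hz' hb'.sing
  have q0 := hb.sing.1
  have q0' := hb'.sing.1
  obtain ⟨P, hP⟩ : ∃ P : Fin 3 → k, P = ![b 1 * b 2, b 0 * b 2, b 0 * b 1] := ⟨_, rfl⟩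
  obtain ⟨P', hP'⟩ : ∃ P' : Fin 3 → k, P' = ![b' 1 * b' 2, b' 0 * b' 2, b' 0 * b' 1] :=
    ⟨_, rfl⟩
  have hli : LinearIndependent k ![P, P'] := by
    have hP0 : P ≠ 0 := by
      intro h0
      have := congrFun h0 0
      rw [hP] at this
      exact mul_ne_zero hy hz this
    rw [LinearIndependent.pair_iff' hP0]
    intro a ha
    have e1 : a * (b 1 * b 2) = b' 1 * b' 2 := by
      have := congrFun ha 0; rw [hP, hP'] at this; exact this
    have e2 : a * (b 0 * b 2) = b' 0 * b' 2 := by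
      have := congrFun ha 1; rw [hP, hP'] at this; exact this
    have e3 : a * (b 0 * b 1) = b' 0 * b' 1 := by
      have := congrFun ha 2; rw [hP, hP'] at this; exact this
    have ha0 : a ≠ 0 := by
      intro h0; rw [h0, zero_mul] at e1
      exact mul_ne_zero hy' hz' e1.symm
    have c1 : b 0 * b' 1 = b' 0 * b 1 := by
      have : a * b 2 * b' 2 * (b 0 * b' 1 - b' 0 * b 1) = 0 := by
        linear_combination (b' 1 * b' 2) * e2 - (b' 0 * b' 2) * e1
      have h3 := (mul_eq_zero.mp this).resolve_left (mul_ne_zero (mul_ne_zero ha0 hz) hz')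
      linear_combination h3
    have c2 : b 0 * b' 2 = b' 0 * b 2 := by
      have : a * b 1 * b' 1 * (b 0 * b' 2 - b' 0 * b 2) = 0 := by
        linear_combination (b' 1 * b' 2) * e3 - (b' 0 * b' 1) * e1
      have h3 := (mul_eq_zero.mp this).resolve_left (mul_ne_zero (mul_ne_zero ha0 hy) hy')
      linear_combination h3
    apply hnp (b 0 / b' 0)
    funext i
    rcases fin3_cases i with rfl | rfl | rfl
    · show b 0 = b 0 / b' 0 * b' 0
      field_simp
    · show b 1 = b 0 / b' 0 * b' 1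
      rw [div_mul_eq_mul_div, eq_div_iff hx']; linear_combination -c1
    · show b 2 = b 0 / b' 0 * b' 2
      rw [div_mul_eq_mul_div, eq_div_iff hx']; linear_combination -c2
  have hS : ∀ s t : k, Sg (Q3 A B C' D E F) (s • P + t • P') := by
    intro s t
    have r0 : (s • P + t • P') 0 = s * (b 1 * b 2) + t * (b' 1 * b' 2) := by
      rw [hP, hP']; rfl
    have r1 : (s • P + t • P') 1 = s * (b 0 * b 2) + t * (b' 0 * b' 2) := by
      rw [hP, hP']; rfl
    have r2 : (s • P + t • P') 2 = s * (b 0 * b 1) + t * (b' 0 * b' 1) := by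
      rw [hP, hP']; rfl
    refine ⟨?_, ?_⟩
    · rw [eval_Q3, r0, r1, r2]
      linear_combination s ^ 2 * q0 + t ^ 2 * q0' +
        s * t * ((b' 1 * b' 2) * g1 + (b' 0 * b' 2) * g2 + (b' 0 * b' 1) * g3)
    · intro i
      rcases fin3_cases i with rfl | rfl | rfl
      · rw [eval_pd0_Q3, r0, r1, r2]; linear_combination s * g1 + t * g1'
      · rw [eval_pd1_Q3, r0, r1, r2]; linear_combination s * g2 + t * g2'
      · rw [eval_pd2_Q3, r0, r1, r2]; linear_combination s * g3 + t * g3'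
  obtain ⟨ℓ, ⟨c, hc⟩, hℓ0⟩ := sq_dvd_of_sing_line (Q3 A B C' D E F) P P' hli hS
  have hdvd : psi ℓ * psi ℓ ∣ Q6 A B C' D E F :=
    ⟨psi c, by rw [← psi_Q3, hc, map_mul, map_mul]⟩
  exact not_isUnit_of_eval_zero (by rw [eval_zero_psi]; exact hℓ0) (hsq _ hdvd)

/-! ### slots -/

open Classical in
/-- position of a point relative to the coordinate triangle -/
noncomputable def slotv (b : Fin 3 → k) : Fin 4 :=
  if b 0 = 0 then 0 else if b 1 = 0 then 1 else if b 2 = 0 then 2 else 3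

theorem slotv_cases (b : Fin 3 → k) :
    (b 0 = 0 ∧ slotv b = 0) ∨ (b 0 ≠ 0 ∧ b 1 = 0 ∧ slotv b = 1) ∨
    (b 0 ≠ 0 ∧ b 1 ≠ 0 ∧ b 2 = 0 ∧ slotv b = 2) ∨
    (b 0 ≠ 0 ∧ b 1 ≠ 0 ∧ b 2 ≠ 0 ∧ slotv b = 3) := by
  unfold slotv
  by_cases h0 : b 0 = 0
  · left; exact ⟨h0, by simp [h0]⟩
  · by_cases h1 : b 1 = 0
    · right; left; exact ⟨h0, h1, by simp [h0, h1]⟩
    · by_cases h2 : b 2 = 0
      · right; right; left; exact ⟨h0, h1, h2, by simp [h0, h1, h2]⟩
      · right; right; right; exact ⟨h0, h1, h2, by simp [h0, h1, h2]⟩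

theorem slotv_eq0 {b : Fin 3 → k} (h : slotv b = 0) : b 0 = 0 := by
  rcases slotv_cases b with ⟨h0, -⟩ | ⟨-, -, e⟩ | ⟨-, -, -, e⟩ | ⟨-, -, -, e⟩
  · exact h0
  all_goals (rw [e] at h; exact absurd h (by decide))

theorem slotv_eq1 {b : Fin 3 → k} (h : slotv b = 1) : b 1 = 0 := by
  rcases slotv_cases b with ⟨-, e⟩ | ⟨-, h1, -⟩ | ⟨-, -, -, e⟩ | ⟨-, -, -, e⟩
  · rw [e] at h; exact absurd h (by decide)
  · exact h1
  all_goals (rw [e] at h; exact absurd h (by decide))

theorem slotv_eq2 {b : Fin 3 → k} (h : slotv b = 2) : b 2 = 0 := by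
  rcases slotv_cases b with ⟨-, e⟩ | ⟨-, -, e⟩ | ⟨-, -, h2, -⟩ | ⟨-, -, -, e⟩
  · rw [e] at h; exact absurd h (by decide)
  · rw [e] at h; exact absurd h (by decide)
  · exact h2
  · rw [e] at h; exact absurd h (by decide)

theorem slotv_eq3 {b : Fin 3 → k} (h : slotv b = 3) : b 0 ≠ 0 ∧ b 1 ≠ 0 ∧ b 2 ≠ 0 := by
  rcases slotv_cases b with ⟨-, e⟩ | ⟨-, -, e⟩ | ⟨-, -, -, e⟩ | ⟨h0, h1, h2, -⟩
  · rw [e] at h; exact absurd h (by decide)
  · rw [e] at h; exact absurd h (by decide)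
  · rw [e] at h; exact absurd h (by decide)
  · exact ⟨h0, h1, h2⟩

theorem slot_inj [Infinite k] {A B C' D E F : k} (hsq : Squarefree (Q6 A B C' D E F))
    {b b' : Fin 3 → k} (hb : Good A B C' D E F b) (hb' : Good A B C' D E F b')
    (hnp : ∀ c : k, b ≠ c • b') (hs : slotv b = slotv b') : False := by
  rcases slotv_cases b with ⟨h0, e⟩ | ⟨h0, h1, e⟩ | ⟨h0, h1, h2, e⟩ | ⟨h0, h1, h2, e⟩
  · rw [e] at hs
    exact cap_x hsq hb hb' hnp h0 (slotv_eq0 hs.symm)
  · rw [e] at hs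
    exact cap_y hsq hb hb' hnp h1 (slotv_eq1 hs.symm)
  · rw [e] at hs
    exact cap_z hsq hb hb' hnp h2 (slotv_eq2 hs.symm)
  · rw [e] at hs
    obtain ⟨h0', h1', h2'⟩ := slotv_eq3 hs.symm
    exact cap_t hsq hb hb' hnp h0 h1 h2 h0' h1' h2'

theorem final_four {A B C' D E F : k} (hsq : Squarefree (Q6 A B C' D E F))
    {b0 b1 b2 b3 : Fin 3 → k} (g0 : Good A B C' D E F b0) (g1 : Good A B C' D E F b1)
    (g2 : Good A B C' D E F b2) (g3 : Good A B C' D E F b3)
    (h0 : b0 0 = 0) (h1 : b1 1 = 0) (h2 : b2 2 = 0)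
    (h3 : b3 0 ≠ 0 ∧ b3 1 ≠ 0 ∧ b3 2 ≠ 0) : False := by
  have hA : A = 0 := by
    obtain ⟨hy, hz⟩ := g0.ne12 h0
    have s0 := g0.sing.1
    rw [h0] at s0
    exact edge_one A (b0 1) (b0 2) hy hz (by linear_combination s0)
  have hB : B = 0 := by
    obtain ⟨hx, hz⟩ := g1.ne02 h1
    have s0 := g1.sing.1
    rw [h1] at s0
    exact edge_one B (b1 0) (b1 2) hx hz (by linear_combination s0)
  have hC : C' = 0 := by
    obtain ⟨hx, hy⟩ := g2.ne01 h2
    have s0 := g2.sing.1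
    rw [h2] at s0
    exact edge_one C' (b2 0) (b2 1) hx hy (by linear_combination s0)
  subst hA hB hC
  obtain ⟨rfl, rfl, rfl⟩ := all4 h3.1 h3.2.1 h3.2.2 g3.sing
  have : Q6 (0 : k) 0 0 0 0 0 = 0 := by simp [Q6]
  rw [this] at hsq
  exact not_squarefree_zero hsq

end Groth.Agent.Lib.Helper8.Quartic6
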