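import Mathlib
import Groth.Agent.Lib.Helper8.Quartic6b

/-!
A reduced plane quartic has at most six singular points (for S14312): assembling the argument.
Given seven singular points, either three of them are not collinear (move them to the coordinate
points, the quartic becomes `Q6`, and the remaining four points contradict the capacity lemmas),
or all seven lie on a line, which then is a double component.
-/

set_option autoImplicit false

namespace Groth.Agent.Lib.Helper8.Quartic6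

open MvPolynomial

universe u

variable {k : Type u} [Field k]

theorem rep_nonprop {p q : Projectivization k (Fin 3 → k)} (hpq : p ≠ q) (c : k) :
    p.rep ≠ c • q.rep := by
  intro h
  apply hpq
  have : Projectivization.mk k p.rep p.rep_nonzero = Projectivization.mk k q.rep q.rep_nonzero :=
    (Projectivization.mk_eq_mk_iff' k _ _ p.rep_nonzero q.rep_nonzero).mpr ⟨c, h.symm⟩
  rwa [p.mk_rep, q.mk_rep] at this

theorem vec_eq_smul_single2 {v : Fin 3 → k} (h0 : v 0 = 0) (h1 : v 1 = 0) :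
    v = v 2 • Pi.single 2 1 := by
  funext i
  rcases fin3_cases i with rfl | rfl | rfl <;> simp [h0, h1, Pi.single_apply]

theorem vec_normalize {v : Fin 3 → k} (h0 : v 0 = 0) (h1 : v 1 ≠ 0) :
    (v 1)⁻¹ • v = ![0, 1, v 2 / v 1] := by
  funext i
  rcases fin3_cases i with rfl | rfl | rfl
  · simp [h0]
  · simp [h1]
  · simp [div_eq_inv_mul]

theorem vec_prop_of_ratio {v w : Fin 3 → k} (hv0 : v 0 = 0) (hw0 : w 0 = 0) (hv1 : v 1 ≠ 0)
    (hw1 : w 1 ≠ 0) (h : v 2 / v 1 = w 2 / w 1) : v = (v 1 / w 1) • w := by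
  funext i
  rcases fin3_cases i with rfl | rfl | rfl
  · show v 0 = v 1 / w 1 * w 0
    rw [hv0, hw0, mul_zero]
  · show v 1 = v 1 / w 1 * w 1
    exact (div_mul_cancel₀ (v 1) hw1).symm
  · show v 2 = v 1 / w 1 * w 2
    calc v 2 = v 2 / v 1 * v 1 := (div_mul_cancel₀ (v 2) hv1).symm
      _ = w 2 / w 1 * v 1 := by rw [h]
      _ = v 1 / w 1 * w 2 := by ring

theorem single2_eq : (Pi.single 2 1 : Fin 3 → k) = ![0, 0, 1] := by
  funext i
  rcases fin3_cases i with rfl | rfl | rfl <;> simp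

/-- seven singular points, three of which are not collinear -/
theorem caseA [Infinite k] {f : MvPolynomial (Fin 3) k} (hf : f.IsHomogeneous 4)
    (hred : Squarefree f) (T : Finset (Projectivization k (Fin 3 → k))) (hT : T.card = 7)
    (hS : ∀ p ∈ T, Sg f p.rep) {p₁ p₂ p₃ : Projectivization k (Fin 3 → k)}
    (h1 : p₁ ∈ T) (h2 : p₂ ∈ T) (h3 : p₃ ∈ T) (h12 : p₁ ≠ p₂)
    (hli : LinearIndependent k ![p₁.rep, p₂.rep])
    (hns : p₃.rep ∉ Submodule.span k (Set.range ![p₁.rep, p₂.rep])) : False := by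
  classical
  obtain ⟨M, N, hMN, hNM, e0, e1, e2⟩ := exists_matrix p₃.rep p₁.rep p₂.rep hli hns
  obtain ⟨g, hgdef⟩ : ∃ g, g = sub M f := ⟨_, rfl⟩
  have hg : g.IsHomogeneous 4 := by rw [hgdef]; exact sub_hom M hf
  have hgsq : Squarefree g := by rw [hgdef]; exact squarefree_sub hMN hNM hred
  have hMa : ∀ v : Fin 3 → k, M.mulVec (N.mulVec v) = v := by
    intro v; rw [Matrix.mulVec_mulVec, hMN, Matrix.one_mulVec]
  have hNa : ∀ v : Fin 3 → k, N.mulVec (M.mulVec v) = v := by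
    intro v; rw [Matrix.mulVec_mulVec, hNM, Matrix.one_mulVec]
  have hSg : ∀ p ∈ T, Sg g (N.mulVec p.rep) := by
    intro p hp
    rw [hgdef]
    apply Sg_sub
    rw [hMa]
    exact hS p hp
  have hN3 : N.mulVec p₃.rep = Pi.single 0 1 := by rw [← e0, hNa]
  have hN1 : N.mulVec p₁.rep = Pi.single 1 1 := by rw [← e1, hNa]
  have hN2 : N.mulVec p₂.rep = Pi.single 2 1 := by rw [← e2, hNa]
  have s0 : Sg g (Pi.single 0 1) := by rw [← hN3]; exact hSg p₃ h3
  have s1 : Sg g (Pi.single 1 1) := by rw [← hN1]; exact hSg p₁ h1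
  have s2 : Sg g (Pi.single 2 1) := by rw [← hN2]; exact hSg p₂ h2
  obtain ⟨A, B, C', D, E, F, hQ⟩ : ∃ A B C' D E F : k, g = Q6 A B C' D E F :=
    ⟨_, _, _, _, _, _, coef_lemma hg s0 s1 s2⟩
  have hsq : Squarefree (Q6 A B C' D E F) := by rw [← hQ]; exact hgsq
  have hSQ : ∀ p ∈ T, Sg (Q6 A B C' D E F) (N.mulVec p.rep) := by
    intro p hp; rw [← hQ]; exact hSg p hp
  have hgood : ∀ p ∈ T, p ≠ p₁ → p ≠ p₂ → p ≠ p₃ → Good A B C' D E F (N.mulVec p.rep) := by
    intro p hp n1 n2 n3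
    refine ⟨Sing6_of_Sg (hSQ p hp), fun j c hc => ?_⟩
    have hpc : p.rep = c • M.mulVec (Pi.single j 1) := by
      rw [← Matrix.mulVec_smul, ← hc, hMa]
    rcases fin3_cases j with rfl | rfl | rfl
    · rw [e0] at hpc; exact rep_nonprop n3 c hpc
    · rw [e1] at hpc; exact rep_nonprop n1 c hpc
    · rw [e2] at hpc; exact rep_nonprop n2 c hpc
  have hnp : ∀ p q : Projectivization k (Fin 3 → k), p ≠ q →
      ∀ c : k, N.mulVec p.rep ≠ c • N.mulVec q.rep := by
    intro p q hpq c hc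
    have : p.rep = c • q.rep := by
      calc p.rep = M.mulVec (N.mulVec p.rep) := (hMa _).symm
        _ = M.mulVec (c • N.mulVec q.rep) := by rw [hc]
        _ = c • M.mulVec (N.mulVec q.rep) := Matrix.mulVec_smul _ _ _
        _ = c • q.rep := by rw [hMa]
    exact rep_nonprop hpq c this
  have h31 : p₃ ≠ p₁ := by
    intro h
    apply hns
    rw [h]
    exact Submodule.subset_span ⟨0, rfl⟩
  have h32 : p₃ ≠ p₂ := by
    intro h
    apply hns
    rw [h]
    exact Submodule.subset_span ⟨1, rfl⟩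
  obtain ⟨T₄, hT₄⟩ : ∃ T₄, T₄ = ((T.erase p₁).erase p₂).erase p₃ := ⟨_, rfl⟩
  have hc1 : (T.erase p₁).card = 6 := by
    have := Finset.card_erase_of_mem h1
    omega
  have hm2 : p₂ ∈ T.erase p₁ := Finset.mem_erase.mpr ⟨h12.symm, h2⟩
  have hc2 : ((T.erase p₁).erase p₂).card = 5 := by
    have := Finset.card_erase_of_mem hm2
    omega
  have hm3 : p₃ ∈ (T.erase p₁).erase p₂ :=
    Finset.mem_erase.mpr ⟨h32, Finset.mem_erase.mpr ⟨h31, h3⟩⟩
  have hc4 : T₄.card = 4 := by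
    have := Finset.card_erase_of_mem hm3
    rw [hT₄]
    omega
  have hmem : ∀ p ∈ T₄, p ∈ T ∧ p ≠ p₁ ∧ p ≠ p₂ ∧ p ≠ p₃ := by
    intro p hp
    rw [hT₄] at hp
    obtain ⟨n3, hp⟩ := Finset.mem_erase.mp hp
    obtain ⟨n2, hp⟩ := Finset.mem_erase.mp hp
    obtain ⟨n1, hp⟩ := Finset.mem_erase.mp hp
    exact ⟨hp, n1, n2, n3⟩
  obtain ⟨sl, hsl⟩ : ∃ sl : Projectivization k (Fin 3 → k) → Fin 4,
      ∀ p, sl p = slotv (N.mulVec p.rep) := ⟨fun p => slotv (N.mulVec p.rep), fun _ => rfl⟩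
  have hinj : Set.InjOn sl (T₄ : Set (Projectivization k (Fin 3 → k))) := by
    intro p hp q hq hs
    by_contra hpq
    obtain ⟨hpT, p1, p2, p3⟩ := hmem p (Finset.mem_coe.mp hp)
    obtain ⟨hqT, q1, q2, q3⟩ := hmem q (Finset.mem_coe.mp hq)
    rw [hsl, hsl] at hs
    exact slot_inj hsq (hgood p hpT p1 p2 p3) (hgood q hqT q1 q2 q3) (hnp p q hpq) hs
  have himg : T₄.image sl = Finset.univ := by
    apply Finset.eq_univ_of_card
    rw [Finset.card_image_of_injOn hinj, hc4, Fintype.card_fin]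
  have hex : ∀ j : Fin 4, ∃ p ∈ T₄, slotv (N.mulVec p.rep) = j := by
    intro j
    have hj : j ∈ T₄.image sl := by rw [himg]; exact Finset.mem_univ j
    obtain ⟨p, hp, hpj⟩ := Finset.mem_image.mp hj
    rw [hsl] at hpj
    exact ⟨p, hp, hpj⟩
  obtain ⟨q0, hq0, e0'⟩ := hex 0
  obtain ⟨q1, hq1, e1'⟩ := hex 1
  obtain ⟨q2, hq2, e2'⟩ := hex 2
  obtain ⟨q3, hq3, e3'⟩ := hex 3
  obtain ⟨t0, a1, a2, a3⟩ := hmem q0 hq0
  obtain ⟨t1, b1, b2, b3⟩ := hmem q1 hq1
  obtain ⟨t2, c1, c2, c3⟩ := hmem q2 hq2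
  obtain ⟨t3, d1, d2, d3⟩ := hmem q3 hq3
  exact final_four hsq (hgood q0 t0 a1 a2 a3) (hgood q1 t1 b1 b2 b3) (hgood q2 t2 c1 c2 c3)
    (hgood q3 t3 d1 d2 d3) (slotv_eq0 e0') (slotv_eq1 e1') (slotv_eq2 e2') (slotv_eq3 e3')

/-- seven collinear singular points -/
theorem caseB [Infinite k] {f : MvPolynomial (Fin 3) k} (hf : f.IsHomogeneous 4)
    (hred : Squarefree f) (T : Finset (Projectivization k (Fin 3 → k))) (hT : T.card = 7)
    (hS : ∀ p ∈ T, Sg f p.rep) {p₁ p₂ : Projectivization k (Fin 3 → k)}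
    (h1 : p₁ ∈ T) (h2 : p₂ ∈ T) (h12 : p₁ ≠ p₂)
    (hli : LinearIndependent k ![p₁.rep, p₂.rep])
    (hall : ∀ p ∈ T, p.rep ∈ Submodule.span k (Set.range ![p₁.rep, p₂.rep])) : False := by
  classical
  obtain ⟨t₀, ht₀⟩ := exists_notMem_span2 p₁.rep p₂.rep
  obtain ⟨M, N, hMN, hNM, e0, e1, e2⟩ := exists_matrix t₀ p₁.rep p₂.rep hli ht₀
  obtain ⟨g, hgdef⟩ : ∃ g, g = sub M f := ⟨_, rfl⟩
  have hg : g.IsHomogeneous 4 := by rw [hgdef]; exact sub_hom M hf
  have hgsq : Squarefree g := by rw [hgdef]; exact squarefree_sub hMN hNM hred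
  have hMa : ∀ v : Fin 3 → k, M.mulVec (N.mulVec v) = v := by
    intro v; rw [Matrix.mulVec_mulVec, hMN, Matrix.one_mulVec]
  have hNa : ∀ v : Fin 3 → k, N.mulVec (M.mulVec v) = v := by
    intro v; rw [Matrix.mulVec_mulVec, hNM, Matrix.one_mulVec]
  have hSg : ∀ p ∈ T, Sg g (N.mulVec p.rep) := by
    intro p hp
    rw [hgdef]
    apply Sg_sub
    rw [hMa]
    exact hS p hp
  have hN1 : N.mulVec p₁.rep = Pi.single 1 1 := by rw [← e1, hNa]
  have hN2 : N.mulVec p₂.rep = Pi.single 2 1 := by rw [← e2, hNa]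
  have hnp : ∀ p q : Projectivization k (Fin 3 → k), p ≠ q →
      ∀ c : k, N.mulVec p.rep ≠ c • N.mulVec q.rep := by
    intro p q hpq c hc
    have : p.rep = c • q.rep := by
      calc p.rep = M.mulVec (N.mulVec p.rep) := (hMa _).symm
        _ = M.mulVec (c • N.mulVec q.rep) := by rw [hc]
        _ = c • M.mulVec (N.mulVec q.rep) := Matrix.mulVec_smul _ _ _
        _ = c • q.rep := by rw [hMa]
    exact rep_nonprop hpq c this
  have hcoord : ∀ p ∈ T, ∃ s t : k, N.mulVec p.rep = ![0, s, t] := by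
    intro p hp
    have hmem := hall p hp
    have hr : Set.range ![p₁.rep, p₂.rep] = {p₁.rep, p₂.rep} := by
      simp only [Matrix.range_cons, Matrix.range_empty, Set.union_empty, Set.singleton_union]
    rw [hr] at hmem
    obtain ⟨s, t, hst⟩ := Submodule.mem_span_pair.mp hmem
    refine ⟨s, t, ?_⟩
    rw [← hst, Matrix.mulVec_add, Matrix.mulVec_smul, Matrix.mulVec_smul, hN1, hN2, vec_eq]
  have hv0 : ∀ p ∈ T, (N.mulVec p.rep) 0 = 0 := by
    intro p hp
    obtain ⟨s, t, h⟩ := hcoord p hp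
    rw [h]
    rfl
  have hv1 : ∀ p ∈ T, p ≠ p₂ → (N.mulVec p.rep) 1 ≠ 0 := by
    intro p hp hne h1z
    have := vec_eq_smul_single2 (hv0 p hp) h1z
    rw [← hN2] at this
    exact hnp p p₂ hne _ this
  obtain ⟨tau, htau⟩ : ∃ tau : Projectivization k (Fin 3 → k) → k,
      ∀ p, tau p = (N.mulVec p.rep) 2 / (N.mulVec p.rep) 1 :=
    ⟨fun p => (N.mulVec p.rep) 2 / (N.mulVec p.rep) 1, fun _ => rfl⟩
  have hinj : Set.InjOn tau ((T.erase p₂ : Finset (Projectivization k (Fin 3 → k))) :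
      Set (Projectivization k (Fin 3 → k))) := by
    intro p hp q hq hpq
    by_contra hne
    obtain ⟨pn, hpT⟩ := Finset.mem_erase.mp (Finset.mem_coe.mp hp)
    obtain ⟨qn, hqT⟩ := Finset.mem_erase.mp (Finset.mem_coe.mp hq)
    rw [htau, htau] at hpq
    exact hnp p q hne _
      (vec_prop_of_ratio (hv0 p hpT) (hv0 q hqT) (hv1 p hpT pn) (hv1 q hqT qn) hpq)
  obtain ⟨S, hSdef⟩ : ∃ S, S = (T.erase p₂).image tau := ⟨_, rfl⟩
  have hScard : S.card = 6 := by
    rw [hSdef, Finset.card_image_of_injOn hinj]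
    have := Finset.card_erase_of_mem h2
    omega
  have hSgτ : ∀ τ ∈ S, Sg g ![0, 1, τ] := by
    intro τ hτ
    rw [hSdef] at hτ
    obtain ⟨p, hp, hpτ⟩ := Finset.mem_image.mp hτ
    obtain ⟨pn, hpT⟩ := Finset.mem_erase.mp hp
    rw [← hpτ, htau, ← vec_normalize (hv0 p hpT) (hv1 p hpT pn)]
    exact Sg_smul hg _ (hSg p hpT)
  have hSg2 : Sg g ![0, 0, 1] := by
    have := hSg p₂ h2
    rw [hN2, single2_eq] at this
    exact this
  have hplane : ∀ s t : k, Sg g ![0, s, t] := by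
    intro s t
    refine ⟨vanish_on_line hg S (by omega) (fun τ hτ => (hSgτ τ hτ).1) hSg2.1 s t, fun i => ?_⟩
    exact vanish_on_line (hg.pderiv (i := i)) S (by omega) (fun τ hτ => (hSgτ τ hτ).2 i)
      (hSg2.2 i) s t
  have hdvd := sq_dvd_of_sing_plane g hplane
  have hu : IsUnit (X 0 : MvPolynomial (Fin 3) k) := hgsq _ hdvd
  exact not_isUnit_of_eval_zero (by simp) hu

theorem no_seven [Infinite k] {f : MvPolynomial (Fin 3) k} (hf : f.IsHomogeneous 4)
    (hred : Squarefree f) (T : Finset (Projectivization k (Fin 3 → k))) (hT : T.card = 7)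
    (hS : ∀ p ∈ T, Sg f p.rep) : False := by
  classical
  have h1lt : 1 < T.card := by omega
  obtain ⟨p₁, h1, p₂, h2, h12⟩ := Finset.one_lt_card.mp h1lt
  have hli : LinearIndependent k ![p₁.rep, p₂.rep] := by
    rw [LinearIndependent.pair_iff' p₁.rep_nonzero]
    intro a ha
    exact rep_nonprop h12.symm a ha.symm
  by_cases hall : ∀ p ∈ T, p.rep ∈ Submodule.span k (Set.range ![p₁.rep, p₂.rep])
  · exact caseB hf hred T hT hS h1 h2 h12 hli hall
  · obtain ⟨p₃, hp₃⟩ := not_forall.mp hall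
    obtain ⟨h3, hns⟩ := Classical.not_imp.mp hp₃
    exact caseA hf hred T hT hS h1 h2 h3 h12 hli hns

theorem main [IsAlgClosed k] (f : MvPolynomial (Fin 3) k) (hf : f.IsHomogeneous 4)
    (hred : Squarefree f) :
    ∃ s : Finset (Projectivization k (Fin 3 → k)), s.card ≤ 6 ∧
      ∀ p : Projectivization k (Fin 3 → k),
        MvPolynomial.eval p.rep f = 0 →
          (∀ i : Fin 3, MvPolynomial.eval p.rep (MvPolynomial.pderiv i f) = 0) → p ∈ s := by
  classical
  haveI : Infinite k := inferInstance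
  by_contra hcon
  have hstep : ∀ n : ℕ, n ≤ 7 → ∃ T : Finset (Projectivization k (Fin 3 → k)),
      T.card = n ∧ ∀ p ∈ T, Sg f p.rep := by
    intro n
    induction n with
    | zero =>
      intro _
      exact ⟨∅, Finset.card_empty, fun p hp => by simp at hp⟩
    | succ n ih =>
      intro hn
      obtain ⟨T, hTc, hTs⟩ := ih (by omega)
      have hexp : ∃ p : Projectivization k (Fin 3 → k), Sg f p.rep ∧ p ∉ T := by
        by_contra hno
        apply hcon
        refine ⟨T, by omega, fun p hp0 hpd => ?_⟩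
        by_contra hpT
        exact hno ⟨p, ⟨hp0, hpd⟩, hpT⟩
      obtain ⟨p, hps, hpT⟩ := hexp
      refine ⟨insert p T, by rw [Finset.card_insert_of_notMem hpT, hTc], fun q hq => ?_⟩
      rcases Finset.mem_insert.mp hq with rfl | hq
      · exact hps
      · exact hTs q hq
  obtain ⟨T, hTc, hTs⟩ := hstep 7 le_rfl
  exact no_seven hf hred T hTc hTs

end Groth.Agent.Lib.Helper8.Quartic6
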