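import Groth.Agent.Lib.Helper8.HilbSam4
import Groth.Agent.Lib.Helper8.KG4

/-!
# Regular local rings and the Hilbert–Samuel function of the maximal ideal
-/

set_option autoImplicit false
universe u

namespace Groth.Agent.Helper8.RL1

open IsLocalRing Polynomial

theorem isRegularLocalRing_iff_length (A : Type u) [CommRing A] [IsLocalRing A]
    [IsNoetherianRing A] :
    IsRegularLocalRing A ↔
      ∀ s : ℕ, Module.length A (A ⧸ maximalIdeal A ^ (s + 1)) =
        ((s + Module.finrank (ResidueField A) (CotangentSpace A)).choose s : ℕ∞) := by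
  obtain ⟨r, hr⟩ : ∃ r : ℕ, r = Module.finrank (ResidueField A) (CotangentSpace A) := ⟨_, rfl⟩
  rw [← hr]
  constructor
  · intro hreg s
    have hd : ringKrullDim A = r := by
      rw [hr]; exact ((IsRegularLocalRing.iff_finrank_cotangentSpace A).mp hreg).symm
    rw [HilbSam.length_quotient_maximalIdeal_pow r hd (s + 1)]
    unfold HilbSam.F
    rw [if_neg (Nat.succ_ne_zero s)]
    have : s + 1 + r - 1 = s + r := by omega
    rw [this, Nat.choose_symm_add]
  · intro h
    rw [IsRegularLocalRing.iff_finrank_cotangentSpace, ← hr]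
    obtain ⟨P, ⟨N, hP⟩, hdeg⟩ := KoszulLib.exists_hilbertSamuel_polynomial (A := A) A
    rw [Module.supportDim_self_eq_ringKrullDim] at hdeg
    rw [← hdeg]
    congr 1
    have hjac : Ring.jacobson A = maximalIdeal A := IsLocalRing.ringJacobson_eq_maximalIdeal A
    have hval : ∀ n : ℕ, max N 1 ≤ n → P.eval (n : ℚ) = ((n - 1 + r).choose r : ℚ) := by
      intro n hn
      have hn1 : N ≤ n := le_trans (le_max_left _ _) hn
      have hn2 : 1 ≤ n := le_trans (le_max_right _ _) hn
      obtain ⟨ℓ, hℓ, hℓP⟩ := hP n hn1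
      rw [← hℓP]
      have e : (Ring.jacobson A ^ n • (⊤ : Submodule A A)) = maximalIdeal A ^ (n - 1 + 1) := by
        rw [hjac, smul_eq_mul, Ideal.mul_top, Nat.sub_add_cancel hn2]
      rw [e, h (n - 1), Nat.choose_symm_add] at hℓ
      have h3 : (n - 1 + r).choose r = ℓ := by exact_mod_cast hℓ
      rw [← h3]
    apply le_antisymm
    · apply KoszulLib.le_natDegree_of_le_eval P (1 / (r.factorial : ℚ)) (by positivity) r 1
        (max N 1) one_pos
      intro n hn
      have hn2 : 1 ≤ n := le_trans (le_max_right _ _) hn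
      rw [one_mul, hval n hn]
      have := Nat.pow_le_choose (α := ℚ) r (n - 1 + r)
      have e : n - 1 + r + 1 - r = n := by omega
      rw [e] at this
      calc 1 / (r.factorial : ℚ) * (n : ℚ) ^ r = (n : ℚ) ^ r / r.factorial := by ring
        _ ≤ _ := by exact_mod_cast this
    · apply KoszulLib.natDegree_le_of_abs_eval_le P (((r + 1 : ℕ) : ℚ) ^ r) r (max N 1)
      intro n hn
      have hn2 : 1 ≤ n := le_trans (le_max_right _ _) hn
      rw [hval n hn, abs_of_nonneg (by positivity)]
      have h1 : (n - 1 + r).choose r ≤ (n - 1 + r) ^ r := Nat.choose_le_pow _ _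
      have h2 : n - 1 + r ≤ (r + 1) * n := by
        have : (r + 1) * n = r * n + n := by ring
        have h5 : r ≤ r * n := Nat.le_mul_of_pos_right r hn2
        omega
      have h3 : (n - 1 + r).choose r ≤ ((r + 1) * n) ^ r :=
        h1.trans (Nat.pow_le_pow_left h2 r)
      calc (((n - 1 + r).choose r : ℕ) : ℚ) ≤ ((((r + 1) * n) ^ r : ℕ) : ℚ) := by exact_mod_cast h3
        _ = ((r + 1 : ℕ) : ℚ) ^ r * (n : ℚ) ^ r := by push_cast; rw [mul_pow]

end Groth.Agent.Helper8.RL1
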