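import Mathlib

/-!
# Regular sequences generating the same ideal (local Noetherian case)

If `l` is an `M`-regular sequence over a local ring and `l'` is a list of the same length
generating the same ideal modulo the annihilator of `M`, then `l'` is `M`-regular.
-/

set_option autoImplicit false
universe u v

namespace Groth.Agent.Helper8.RS1

open RingTheory.Sequence IsLocalRing
open scoped Pointwise

variable {A : Type u} [CommRing A]

/-- `Ideal.ofList` only depends on the list up to permutation. -/
theorem ofList_perm {l l' : List A} (h : l.Perm l') : Ideal.ofList l = Ideal.ofList l' :=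
  congrArg Ideal.span (Set.ext fun _ => h.mem_iff)

/-- An element of `I ⊔ Ann M` acts on `M ⧸ I M` as zero. -/
theorem smul_mk_eq_zero {M : Type v} [AddCommGroup M] [Module A M] {I : Ideal A} {y : A}
    (hy : y ∈ I ⊔ Module.annihilator A M) (n : M ⧸ (I • ⊤ : Submodule A M)) : y • n = 0 := by
  obtain ⟨m, rfl⟩ := Submodule.Quotient.mk_surjective _ n
  obtain ⟨x, hx, z, hz, rfl⟩ := Submodule.mem_sup.mp hy
  rw [← Submodule.Quotient.mk_smul, Submodule.Quotient.mk_eq_zero, add_smul,
    Module.mem_annihilator.mp hz m, add_zero]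
  exact Submodule.smul_mem_smul hx Submodule.mem_top

variable [IsLocalRing A]

theorem isRegular_of_ofList_sup_annihilator_eq :
    ∀ (l l' : List A) {M : Type v} [AddCommGroup M] [Module A M] [IsNoetherian A M],
      l.length = l'.length → IsRegular M l →
      Ideal.ofList l ⊔ Module.annihilator A M = Ideal.ofList l' ⊔ Module.annihilator A M →
      IsRegular M l' := by
  classical
  intro l
  induction l with
  | nil =>
    intro l' M _ _ _ hlen h _
    have : l' = [] := List.length_eq_zero_iff.mp hlen.symm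
    rw [this]; exact h
  | cons a₀ l₁ ih =>
    intro l' M _ _ _ hlen h hI
    have hntM : Nontrivial M := h.nontrivial
    -- notation
    have hI₁ : ∃ I₁ : Ideal A, I₁ = Ideal.ofList l₁ := ⟨_, rfl⟩
    obtain ⟨I₁, hI₁⟩ := hI₁
    have hZ : ∃ Z : Ideal A, Z = Module.annihilator A M := ⟨_, rfl⟩
    obtain ⟨Z, hZ⟩ := hZ
    rw [← hZ] at hI
    have hZm : Z ≤ maximalIdeal A := by
      apply IsLocalRing.le_maximalIdeal
      intro htop
      have h1 : (1 : A) ∈ Z := htop ▸ Submodule.mem_top
      rw [hZ] at h1
      obtain ⟨x, y, hxy⟩ := exists_pair_ne M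
      apply hxy
      have hx := Module.mem_annihilator.mp h1 x
      have hy := Module.mem_annihilator.mp h1 y
      rw [one_smul] at hx hy
      rw [hx, hy]
    -- all elements lie in the maximal ideal
    have hIm : Ideal.ofList (a₀ :: l₁) ≤ maximalIdeal A := by
      apply IsLocalRing.le_maximalIdeal
      intro htop
      apply h.top_ne_smul
      rw [htop, Submodule.top_smul]
    have hI'm : Ideal.ofList l' ≤ maximalIdeal A :=
      le_trans le_sup_left (hI ▸ sup_le hIm hZm)
    -- permuted sequence
    have hperm : IsRegular M (l₁ ++ [a₀]) :=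
      IsLocalRing.isRegular_of_perm h (List.perm_append_singleton a₀ l₁).symm
    have hw := (isWeaklyRegular_append_iff M l₁ [a₀]).mp hperm.toIsWeaklyRegular
    rw [← hI₁] at hw
    have hreg₀ : IsSMulRegular (M ⧸ (I₁ • ⊤ : Submodule A M)) a₀ :=
      (isWeaklyRegular_singleton_iff _ a₀).mp hw.2
    have hntN : Nontrivial (M ⧸ (I₁ • ⊤ : Submodule A M)) := by
      apply Submodule.Quotient.nontrivial_iff.mpr
      intro htop
      apply h.top_ne_smul
      have hle : I₁ ≤ Ideal.ofList (a₀ :: l₁) := by
        rw [hI₁]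
        exact Ideal.span_mono fun r hr => List.mem_cons_of_mem _ hr
      have h2 : (I₁ • ⊤ : Submodule A M) ≤ Ideal.ofList (a₀ :: l₁) • ⊤ :=
        Submodule.smul_mono_left hle
      rw [htop] at h2
      exact le_antisymm h2 le_top
    have hsm : ∀ {y : A}, y ∈ I₁ ⊔ Z → ∀ n : M ⧸ (I₁ • ⊤ : Submodule A M), y • n = 0 := by
      intro y hy n
      exact smul_mk_eq_zero (hZ ▸ hy) n
    -- Claim A
    have hA : a₀ ∉ I₁ ⊔ Z := by
      intro hmem
      obtain ⟨x, y, hxy⟩ := exists_pair_ne (M ⧸ (I₁ • ⊤ : Submodule A M))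
      apply hxy
      have hx : x = 0 := hreg₀ (by simp only [hsm hmem])
      have hy : y = 0 := hreg₀ (by simp only [hsm hmem])
      rw [hx, hy]
    have hcons : Ideal.ofList (a₀ :: l₁) = Ideal.span {a₀} ⊔ I₁ := hI₁ ▸ Ideal.ofList_cons a₀ l₁
    -- Claim B
    have hB : ∃ b ∈ l', b ∉ maximalIdeal A * Ideal.span {a₀} ⊔ (I₁ ⊔ Z) := by
      by_contra hcon
      push Not at hcon
      have hle : Ideal.ofList l' ≤ maximalIdeal A * Ideal.span {a₀} ⊔ (I₁ ⊔ Z) :=
        Ideal.span_le.mpr fun b hb => hcon b hb
      have ha₀ : a₀ ∈ maximalIdeal A * Ideal.span {a₀} ⊔ (I₁ ⊔ Z) := by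
        have h1 : a₀ ∈ Ideal.ofList (a₀ :: l₁) ⊔ Z :=
          Ideal.mem_sup_left (Ideal.subset_span List.mem_cons_self)
        rw [hI] at h1
        exact (sup_le hle (le_sup_of_le_right le_sup_right)) h1
      obtain ⟨x, hx, y, hy, hxy⟩ := Submodule.mem_sup.mp ha₀
      obtain ⟨c, hc, rfl⟩ := Ideal.mem_mul_span_singleton.mp hx
      have hu : IsUnit (1 - c) := by
        have := IsLocalRing.isUnit_one_sub_self_of_mem_nonunits c hc
        exact this
      apply hA
      have : (1 - c) * a₀ = y := by linear_combination (-1 : A) * hxy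
      have h2 : a₀ = ↑(hu.unit⁻¹) * y := by
        rw [← this, ← mul_assoc, IsUnit.val_inv_mul, one_mul]
      rw [h2]
      exact Ideal.mul_mem_left _ _ hy
    obtain ⟨b, hbl, hbK⟩ := hB
    -- write `b = u a₀ + y`
    have hb1 : b ∈ Ideal.span {a₀} ⊔ (I₁ ⊔ Z) := by
      have : b ∈ Ideal.ofList l' ⊔ Z := Ideal.mem_sup_left (Ideal.subset_span hbl)
      rw [← hI, hcons, sup_assoc] at this
      exact this
    obtain ⟨x, hx, y, hy, hxy⟩ := Submodule.mem_sup.mp hb1
    obtain ⟨u, rfl⟩ := Ideal.mem_span_singleton'.mp hx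
    have hu : IsUnit u := by
      by_contra hnu
      apply hbK
      rw [← hxy]
      exact Ideal.add_mem _
        (Ideal.mem_sup_left (Ideal.mul_mem_mul hnu (Ideal.mem_span_singleton_self a₀)))
        (Ideal.mem_sup_right hy)
    -- Claim C
    have hC : IsSMulRegular (M ⧸ (I₁ • ⊤ : Submodule A M)) b := by
      have h1 : IsSMulRegular (M ⧸ (I₁ • ⊤ : Submodule A M)) (u * a₀) :=
        IsSMulRegular.mul (hu.isSMulRegular _) hreg₀
      intro n₁ n₂ hn
      apply h1
      have e : ∀ n : M ⧸ (I₁ • ⊤ : Submodule A M), b • n = (u * a₀) • n := by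
        intro n
        rw [← hxy, add_smul, hsm hy, add_zero]
      simpa only [e] using hn
    have hbm : b ∈ maximalIdeal A := hI'm (Ideal.subset_span hbl)
    have hw' : IsWeaklyRegular M (l₁ ++ [b]) := by
      rw [isWeaklyRegular_append_iff M l₁ [b], ← hI₁]
      exact ⟨hw.1, (isWeaklyRegular_singleton_iff _ b).mpr hC⟩
    haveI : Module.Finite A M := inferInstance
    have hr' : IsRegular M (l₁ ++ [b]) := by
      apply IsRegular.of_isWeaklyRegular_of_mem_maximalIdeal M _ hw'
      intro r hr
      rcases List.mem_append.mp hr with hr | hr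
      · exact hIm (Ideal.subset_span (List.mem_cons_of_mem _ hr))
      · rw [List.mem_singleton.mp hr]; exact hbm
    have hr'' : IsRegular M (b :: l₁) :=
      IsLocalRing.isRegular_of_perm hr' (List.perm_append_singleton b l₁)
    obtain ⟨hbreg, hquot⟩ := (isRegular_cons_iff M b l₁).mp hr''
    -- apply the induction hypothesis
    have hpe : l'.Perm (b :: l'.erase b) := List.perm_cons_erase hbl
    have hlen' : l₁.length = (l'.erase b).length := by
      rw [List.length_erase_of_mem hbl, ← hlen, List.length_cons]; rfl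
    have hof : Ideal.ofList l' = Ideal.span {b} ⊔ Ideal.ofList (l'.erase b) := by
      rw [ofList_perm hpe, Ideal.ofList_cons]
    have hbZ' : Ideal.span {b} ≤ Module.annihilator A (QuotSMulTop b M) := by
      rw [Ideal.span_singleton_le_iff_mem, Module.mem_annihilator]
      intro n
      obtain ⟨m, rfl⟩ := Submodule.Quotient.mk_surjective _ n
      rw [← Submodule.Quotient.mk_smul, Submodule.Quotient.mk_eq_zero]
      exact Submodule.smul_mem_pointwise_smul m b ⊤ Submodule.mem_top
    have hZZ' : Z ≤ Module.annihilator A (QuotSMulTop b M) :=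
      hZ ▸ LinearMap.annihilator_le_of_surjective (Submodule.mkQ (b • ⊤ : Submodule A M))
        (Submodule.mkQ_surjective _)
    have ha₀' : Ideal.span {a₀} ≤ Ideal.span {b} ⊔ (I₁ ⊔ Z) := by
      rw [Ideal.span_singleton_le_iff_mem]
      have : a₀ = ↑(hu.unit⁻¹) * (b - y) := by
        rw [← hxy, add_sub_cancel_right, ← mul_assoc, IsUnit.val_inv_mul, one_mul]
      rw [this]
      apply Ideal.mul_mem_left
      exact Ideal.sub_mem _ (Ideal.mem_sup_left (Ideal.mem_span_singleton_self b))
        (Ideal.mem_sup_right hy)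
    have hcond : I₁ ⊔ Module.annihilator A (QuotSMulTop b M) =
        Ideal.ofList (l'.erase b) ⊔ Module.annihilator A (QuotSMulTop b M) := by
      apply le_antisymm
      · apply sup_le _ le_sup_right
        have h1 : I₁ ≤ Ideal.ofList l' ⊔ Z := by
          rw [← hI, hcons]; exact le_sup_of_le_left le_sup_right
        refine h1.trans ?_
        rw [hof]
        exact sup_le (sup_le (le_sup_of_le_right hbZ') le_sup_left) (le_sup_of_le_right hZZ')
      · apply sup_le _ le_sup_right
        have h1 : Ideal.ofList (l'.erase b) ≤ Ideal.span {a₀} ⊔ (I₁ ⊔ Z) := by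
          rw [← sup_assoc, ← hcons, hI, hof]
          exact le_sup_of_le_left le_sup_right
        refine h1.trans ?_
        have h2 : I₁ ⊔ Z ≤ I₁ ⊔ Module.annihilator A (QuotSMulTop b M) :=
          sup_le le_sup_left (le_sup_of_le_right hZZ')
        refine sup_le (ha₀'.trans (sup_le (le_sup_of_le_right hbZ') h2)) h2
    rw [hI₁] at hcond
    have hfin := ih (l'.erase b) (M := QuotSMulTop b M) hlen' hquot hcond
    have hfin' : IsRegular M (b :: l'.erase b) := (isRegular_cons_iff M b _).mpr ⟨hbreg, hfin⟩
    exact IsLocalRing.isRegular_of_perm hfin' hpe.symm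

/-- The ring case. -/
theorem isRegular_of_span_eq_span [IsNoetherianRing A] {n : ℕ} (a b : Fin n → A)
    (ha : IsRegular A (List.ofFn a))
    (hab : Ideal.span (Set.range a) = Ideal.span (Set.range b)) :
    IsRegular A (List.ofFn b) := by
  apply isRegular_of_ofList_sup_annihilator_eq (List.ofFn a) (List.ofFn b) (M := A)
    (by simp) ha
  have e : ∀ c : Fin n → A, Ideal.ofList (List.ofFn c) = Ideal.span (Set.range c) := by
    intro c
    apply congrArg Ideal.span
    ext r
    simp [List.mem_ofFn]
  rw [e a, e b, hab]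

end Groth.Agent.Helper8.RS1
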