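import Groth.Agent.Lib.Helper8.RS2

/-!
# The elements `f_i x_i` in a polynomial ring: coefficientwise description of the ideals
-/

set_option autoImplicit false
universe u

namespace Groth.Agent.Helper8.RS2

open RingTheory.Sequence MvPolynomial

variable {R : Type u} [CommRing R] {r : ℕ}

/-- The elements `f_i x_i`. -/
noncomputable def gx (f : Fin r → R) (i : Fin r) : MvPolynomial (Fin r) R := C (f i) * X i

theorem gx_eq_monomial (f : Fin r → R) (i : Fin r) :
    gx f i = monomial (Finsupp.single i 1) (f i) := C_mul_X_eq_monomial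

/-- The coefficientwise ideal. -/
def coeffIdeal (f : Fin r → R) (T : Set (Fin r)) : Ideal (MvPolynomial (Fin r) R) where
  carrier := {p | ∀ α, p.coeff α ∈ Ideal.span (f '' {i | i ∈ T ∧ α i ≠ 0})}
  zero_mem' := by intro α; simp
  add_mem' := by
    intro p q hp hq α
    rw [coeff_add]
    exact Ideal.add_mem _ (hp α) (hq α)
  smul_mem' := by
    intro q p hp
    induction q using MvPolynomial.induction_on' with
    | monomial s a =>
      intro α
      rw [smul_eq_mul, coeff_monomial_mul']
      split_ifs with hs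
      · apply Ideal.mul_mem_left
        refine Ideal.span_mono ?_ (hp (α - s))
        apply Set.image_mono
        rintro i ⟨hiT, hi⟩
        refine ⟨hiT, ?_⟩
        intro h0
        apply hi
        rw [Finsupp.tsub_apply, h0, zero_tsub]
      · exact Ideal.zero_mem _
    | add q₁ q₂ h₁ h₂ =>
      rw [add_smul]
      intro α
      rw [coeff_add]
      exact Ideal.add_mem _ (h₁ α) (h₂ α)

theorem mem_span_gx_iff (f : Fin r → R) (T : Set (Fin r)) (p : MvPolynomial (Fin r) R) :
    p ∈ Ideal.span (gx f '' T) ↔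
      ∀ α, p.coeff α ∈ Ideal.span (f '' {i | i ∈ T ∧ α i ≠ 0}) := by
  classical
  constructor
  · intro hp
    have hle : Ideal.span (gx f '' T) ≤ coeffIdeal f T := by
      rw [Ideal.span_le]
      rintro _ ⟨i, hi, rfl⟩ α
      rw [gx_eq_monomial, coeff_monomial]
      split_ifs with h
      · apply Ideal.subset_span
        refine ⟨i, ⟨hi, ?_⟩, rfl⟩
        rw [← h]; simp
      · exact Ideal.zero_mem _
    exact hle hp
  · intro h
    rw [← support_sum_monomial_coeff p]
    apply Ideal.sum_mem
    intro α _
    have key : ∀ c ∈ Ideal.span (f '' {i | i ∈ T ∧ α i ≠ 0}),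
        monomial α c ∈ Ideal.span (gx f '' T) := by
      intro c hc
      induction hc using Submodule.span_induction with
      | mem c hc =>
        obtain ⟨i, ⟨hiT, hi⟩, rfl⟩ := hc
        have e : monomial α (f i) = gx f i * monomial (α - Finsupp.single i 1) (1 : R) := by
          rw [gx_eq_monomial, monomial_mul, mul_one]
          congr 1
          rw [add_tsub_cancel_of_le]
          rw [Finsupp.single_le_iff]
          exact Nat.one_le_iff_ne_zero.mpr hi
        rw [e]
        exact Ideal.mul_mem_right _ _ (Ideal.subset_span ⟨i, hiT, rfl⟩)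
      | zero => simp
      | add c d _ _ hc hd => rw [map_add]; exact Ideal.add_mem _ hc hd
      | smul a c _ hc => rw [smul_eq_mul, ← C_mul_monomial]; exact Ideal.mul_mem_left _ _ hc
    exact key _ (h α)

theorem reg_gx_iff (f : Fin r → R) :
    (∀ k : Fin r, Reg (Ideal.span (gx f '' {i | i < k})) (gx f k)) ↔
      ∀ (j : Fin r) (S : Finset (Fin r)), (∀ i ∈ S, i < j) →
        Reg (Ideal.span (f '' S)) (f j) := by
  classical
  constructor
  · intro h j S hS c hc
    let β : Fin r →₀ ℕ := Finsupp.equivFunOnFinite.symm (fun i => if i ∈ S then 1 else 0)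
    have hβ : ∀ i, β i = if i ∈ S then 1 else 0 := fun i => rfl
    have hset : ∀ γ : Fin r →₀ ℕ, (∀ i, i < j → γ i = β i) →
        {i | i ∈ {i | i < j} ∧ γ i ≠ 0} = (↑S : Set (Fin r)) := by
      intro γ hγ
      ext i
      simp only [Set.mem_ofPred_eq, Finset.mem_coe]
      constructor
      · rintro ⟨hij, hi⟩
        rw [hγ i hij, hβ] at hi
        by_contra hiS
        simp [hiS] at hi
      · intro hiS
        refine ⟨hS i hiS, ?_⟩
        rw [hγ i (hS i hiS), hβ, if_pos hiS]; exact one_ne_zero
    have hp : gx f j * monomial β c ∈ Ideal.span (gx f '' {i | i < j}) := by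
      rw [mem_span_gx_iff]
      intro α
      rw [gx_eq_monomial, monomial_mul, coeff_monomial]
      split_ifs with hα
      · rw [hset α ?_]
        · exact hc
        · intro i hij
          rw [← hα, Finsupp.add_apply, Finsupp.single_apply, if_neg (ne_of_gt hij), zero_add]
      · exact Ideal.zero_mem _
    have := (mem_span_gx_iff f _ _).mp (h j _ hp) β
    rw [coeff_monomial, if_pos rfl, hset β (fun _ _ => rfl)] at this
    exact this
  · intro h k p hp
    rw [mem_span_gx_iff] at hp ⊢
    intro β
    have h1 := hp (β + Finsupp.single k 1)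
    rw [gx, mul_assoc, coeff_C_mul, mul_comm (X k) p, coeff_mul_X] at h1
    have hset : {i | i ∈ {i | i < k} ∧ (β + Finsupp.single k 1 : Fin r →₀ ℕ) i ≠ 0} =
        {i | i ∈ {i | i < k} ∧ β i ≠ 0} := by
      ext i
      simp only [Set.mem_ofPred_eq]
      constructor
      · rintro ⟨hik, hi⟩
        refine ⟨hik, ?_⟩
        rwa [Finsupp.add_apply, Finsupp.single_apply, if_neg (ne_of_gt hik), add_zero] at hi
      · rintro ⟨hik, hi⟩
        refine ⟨hik, ?_⟩
        rwa [Finsupp.add_apply, Finsupp.single_apply, if_neg (ne_of_gt hik), add_zero]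
    rw [hset] at h1
    let S : Finset (Fin r) := Finset.univ.filter (fun i => i < k ∧ β i ≠ 0)
    have hS : (↑S : Set (Fin r)) = {i | i ∈ {i | i < k} ∧ β i ≠ 0} := by
      ext i; simp [S]
    rw [← hS] at h1 ⊢
    exact h k S (by intro i hi; exact ((Finset.mem_filter.mp hi).2).1) _ h1

theorem main (f : Fin r → R) (hf : Ideal.span (Set.range f) ≠ ⊤) :
    (∀ σ : Equiv.Perm (Fin r), IsRegular R (List.ofFn (f ∘ σ))) ↔
      IsRegular (MvPolynomial (Fin r) R) (List.ofFn fun i => C (f i) * X i) := by
  have hR : ∀ σ : Equiv.Perm (Fin r),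
      (⊤ : Submodule R R) ≠ Ideal.ofList (List.ofFn (f ∘ σ)) • ⊤ := by
    intro σ
    have e : Ideal.ofList (List.ofFn (f ∘ σ)) = Ideal.span (Set.range f) := by
      apply congrArg Ideal.span
      ext x
      simp only [List.mem_ofFn, Set.mem_ofPred_eq, Set.mem_range, Function.comp_apply]
      constructor
      · rintro ⟨i, rfl⟩; exact ⟨σ i, rfl⟩
      · rintro ⟨i, rfl⟩; exact ⟨σ.symm i, by simp⟩
    rw [e, smul_eq_mul, Ideal.mul_top]
    exact fun h => hf h.symm
  have hntR : Nontrivial R := by
    by_contra hnt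
    rw [not_nontrivial_iff_subsingleton] at hnt
    exact hf (Subsingleton.elim _ _)
  have hS : (⊤ : Submodule (MvPolynomial (Fin r) R) (MvPolynomial (Fin r) R)) ≠
      Ideal.ofList (List.ofFn (gx f)) • ⊤ := by
    rw [smul_eq_mul, Ideal.mul_top]
    intro h
    have e : Ideal.ofList (List.ofFn (gx f)) = Ideal.span (gx f '' Set.univ) := by
      apply congrArg Ideal.span
      ext x
      simp [List.mem_ofFn]
    have h1 : (1 : MvPolynomial (Fin r) R) ∈ Ideal.span (gx f '' Set.univ) := by
      rw [← e, ← h]; exact Submodule.mem_top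
    have h2 := (mem_span_gx_iff f _ _).mp h1 0
    simp at h2
  have hW : (∀ σ : Equiv.Perm (Fin r), IsWeaklyRegular R (List.ofFn (f ∘ σ))) ↔
      IsWeaklyRegular (MvPolynomial (Fin r) R) (List.ofFn (gx f)) := by
    rw [forall_perm_iff, isWeaklyRegular_ofFn_iff, reg_gx_iff]
    constructor
    · intro h j S hS; exact h S j (fun hj => lt_irrefl _ (hS j hj))
    · exact reg_of_lower f
  constructor
  · intro h
    exact ⟨hW.mp (fun σ => (h σ).toIsWeaklyRegular), hS⟩
  · intro h σ
    exact ⟨hW.mpr h.toIsWeaklyRegular σ, hR σ⟩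

end Groth.Agent.Helper8.RS2
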