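import Groth.Agent.Lib.Helper8.RS1

/-!
# Regular sequences generating the same ideal are connected by elementary steps
-/

set_option autoImplicit false
universe u v

namespace Groth.Agent.Helper8.RS1

open RingTheory.Sequence IsLocalRing
open scoped Pointwise

variable {A : Type u} [CommRing A]

/-- `w` is `M`-regular and generates `Q` modulo `K`. -/
def Good (M : Type v) [AddCommGroup M] [Module A M] (K Q : Ideal A) (w : List A) : Prop :=
  IsRegular M w ∧ Ideal.ofList w ⊔ K = Q

/-- An elementary step: a permutation, or changing the last element. -/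
def Elem (w w' : List A) : Prop :=
  w.Perm w' ∨ (w.length = w'.length ∧ w.dropLast = w'.dropLast)

/-- An elementary step between good sequences. -/
def Step (M : Type v) [AddCommGroup M] [Module A M] (K Q : Ideal A) (w w' : List A) : Prop :=
  Good M K Q w ∧ Good M K Q w' ∧ Elem w w'

omit [CommRing A] in
theorem elem_cons (b : A) {w w' : List A} (h : Elem w w') : Elem (b :: w) (b :: w') := by
  rcases h with h | ⟨h1, h2⟩
  · exact Or.inl (h.cons b)
  · refine Or.inr ⟨by simp [h1], ?_⟩
    rcases w with _ | ⟨x, t⟩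
    · have : w' = [] := List.length_eq_zero_iff.mp h1.symm
      rw [this]
    · rcases w' with _ | ⟨x', t'⟩
      · simp at h1
      · rw [List.dropLast_cons_cons, List.dropLast_cons_cons, h2]

theorem smul_mk_eq_zero' {M : Type v} [AddCommGroup M] [Module A M] {I K : Ideal A}
    (hK : K ≤ Module.annihilator A M) {y : A}
    (hy : y ∈ I ⊔ K) (n : M ⧸ (I • ⊤ : Submodule A M)) : y • n = 0 :=
  smul_mk_eq_zero (sup_le_sup_left hK I hy) n

variable [IsLocalRing A]

theorem connected :
    ∀ (u v : List A) {M : Type v} [AddCommGroup M] [Module A M] [IsNoetherian A M]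
      (K Q : Ideal A), K ≤ Module.annihilator A M → Good M K Q u → Good M K Q v →
      Relation.ReflTransGen (Step M K Q) u v := by
  classical
  intro u
  induction u with
  | nil =>
    intro v M _ _ _ K Q hK hu hv
    have hntM : Nontrivial M := hv.1.nontrivial
    have hle : Ideal.ofList v ≤ Module.annihilator A M := by
      have h1 : Ideal.ofList v ≤ Q := hv.2 ▸ le_sup_left
      rw [← hu.2, Ideal.ofList_nil, bot_sup_eq] at h1
      exact h1.trans hK
    have : v = [] := by
      rcases v with _ | ⟨c, v'⟩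
      · rfl
      · exfalso
        have hc : c ∈ Module.annihilator A M :=
          hle (Ideal.subset_span List.mem_cons_self)
        have hreg := ((isRegular_cons_iff M c v').mp hv.1).1
        obtain ⟨x, y, hxy⟩ := exists_pair_ne M
        apply hxy
        apply hreg
        simp only [Module.mem_annihilator.mp hc]
    rw [this]
  | cons a₀ l₁ ih =>
    intro v M _ _ _ K Q hK hu hv
    obtain ⟨h, hQ⟩ := hu
    obtain ⟨hvreg, hvQ⟩ := hv
    have hI : Ideal.ofList (a₀ :: l₁) ⊔ K = Ideal.ofList v ⊔ K := hQ.trans hvQ.symm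
    have hntM : Nontrivial M := h.nontrivial
    have hI₁ : ∃ I₁ : Ideal A, I₁ = Ideal.ofList l₁ := ⟨_, rfl⟩
    obtain ⟨I₁, hI₁⟩ := hI₁
    have hZm : K ≤ maximalIdeal A := by
      apply IsLocalRing.le_maximalIdeal
      intro htop
      have h1 : (1 : A) ∈ Module.annihilator A M := hK (htop ▸ Submodule.mem_top)
      obtain ⟨x, y, hxy⟩ := exists_pair_ne M
      apply hxy
      have hx := Module.mem_annihilator.mp h1 x
      have hy := Module.mem_annihilator.mp h1 y
      rw [one_smul] at hx hy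
      rw [hx, hy]
    have hIm : Ideal.ofList (a₀ :: l₁) ≤ maximalIdeal A := by
      apply IsLocalRing.le_maximalIdeal
      intro htop
      apply h.top_ne_smul
      rw [htop, Submodule.top_smul]
    have hI'm : Ideal.ofList v ≤ maximalIdeal A :=
      le_trans le_sup_left (hI ▸ sup_le hIm hZm)
    have hperm : IsRegular M (l₁ ++ [a₀]) :=
      IsLocalRing.isRegular_of_perm h (List.perm_append_singleton a₀ l₁).symm
    have hw := (isWeaklyRegular_append_iff M l₁ [a₀]).mp hperm.toIsWeaklyRegular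
    rw [← hI₁] at hw
    have hreg₀ : IsSMulRegular (M ⧸ (I₁ • ⊤ : Submodule A M)) a₀ :=
      (isWeaklyRegular_singleton_iff _ a₀).mp hw.2
    have hntN : Nontrivial (M ⧸ (I₁ • ⊤ : Submodule A M)) := by
      apply Submodule.Quotient.nontrivial_iff.mpr
      intro htop
      apply h.top_ne_smul
      have hle : I₁ ≤ Ideal.ofList (a₀ :: l₁) := by
        rw [hI₁]
        exact Ideal.span_mono fun r hr => List.mem_cons_of_mem _ hr
      have h2 : (I₁ • ⊤ : Submodule A M) ≤ Ideal.ofList (a₀ :: l₁) • ⊤ :=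
        Submodule.smul_mono_left hle
      rw [htop] at h2
      exact le_antisymm h2 le_top
    have hsm : ∀ {y : A}, y ∈ I₁ ⊔ K → ∀ n : M ⧸ (I₁ • ⊤ : Submodule A M), y • n = 0 := by
      intro y hy n
      exact smul_mk_eq_zero' hK hy n
    have hA : a₀ ∉ I₁ ⊔ K := by
      intro hmem
      obtain ⟨x, y, hxy⟩ := exists_pair_ne (M ⧸ (I₁ • ⊤ : Submodule A M))
      apply hxy
      have hx : x = 0 := hreg₀ (by simp only [hsm hmem])
      have hy : y = 0 := hreg₀ (by simp only [hsm hmem])
      rw [hx, hy]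
    have hcons : Ideal.ofList (a₀ :: l₁) = Ideal.span {a₀} ⊔ I₁ := hI₁ ▸ Ideal.ofList_cons a₀ l₁
    have hB : ∃ b ∈ v, b ∉ maximalIdeal A * Ideal.span {a₀} ⊔ (I₁ ⊔ K) := by
      by_contra hcon
      push Not at hcon
      have hle : Ideal.ofList v ≤ maximalIdeal A * Ideal.span {a₀} ⊔ (I₁ ⊔ K) :=
        Ideal.span_le.mpr fun b hb => hcon b hb
      have ha₀ : a₀ ∈ maximalIdeal A * Ideal.span {a₀} ⊔ (I₁ ⊔ K) := by
        have h1 : a₀ ∈ Ideal.ofList (a₀ :: l₁) ⊔ K :=
          Ideal.mem_sup_left (Ideal.subset_span List.mem_cons_self)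
        rw [hI] at h1
        exact (sup_le hle (le_sup_of_le_right le_sup_right)) h1
      obtain ⟨x, hx, y, hy, hxy⟩ := Submodule.mem_sup.mp ha₀
      obtain ⟨c, hc, rfl⟩ := Ideal.mem_mul_span_singleton.mp hx
      have hu : IsUnit (1 - c) := IsLocalRing.isUnit_one_sub_self_of_mem_nonunits c hc
      apply hA
      have : (1 - c) * a₀ = y := by linear_combination (-1 : A) * hxy
      have h2 : a₀ = ↑(hu.unit⁻¹) * y := by
        rw [← this, ← mul_assoc, IsUnit.val_inv_mul, one_mul]
      rw [h2]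
      exact Ideal.mul_mem_left _ _ hy
    obtain ⟨b, hbl, hbK⟩ := hB
    have hb1 : b ∈ Ideal.span {a₀} ⊔ (I₁ ⊔ K) := by
      have : b ∈ Ideal.ofList v ⊔ K := Ideal.mem_sup_left (Ideal.subset_span hbl)
      rw [← hI, hcons, sup_assoc] at this
      exact this
    obtain ⟨x, hx, y, hy, hxy⟩ := Submodule.mem_sup.mp hb1
    obtain ⟨u₀, rfl⟩ := Ideal.mem_span_singleton'.mp hx
    have hu : IsUnit u₀ := by
      by_contra hnu
      apply hbK
      rw [← hxy]
      exact Ideal.add_mem _
        (Ideal.mem_sup_left (Ideal.mul_mem_mul hnu (Ideal.mem_span_singleton_self a₀)))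
        (Ideal.mem_sup_right hy)
    have hC : IsSMulRegular (M ⧸ (I₁ • ⊤ : Submodule A M)) b := by
      have h1 : IsSMulRegular (M ⧸ (I₁ • ⊤ : Submodule A M)) (u₀ * a₀) :=
        IsSMulRegular.mul (hu.isSMulRegular _) hreg₀
      intro n₁ n₂ hn
      apply h1
      have e : ∀ n : M ⧸ (I₁ • ⊤ : Submodule A M), b • n = (u₀ * a₀) • n := by
        intro n
        rw [← hxy, add_smul, hsm hy, add_zero]
      simpa only [e] using hn
    have hbm : b ∈ maximalIdeal A := hI'm (Ideal.subset_span hbl)
    have hw' : IsWeaklyRegular M (l₁ ++ [b]) := by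
      rw [isWeaklyRegular_append_iff M l₁ [b], ← hI₁]
      exact ⟨hw.1, (isWeaklyRegular_singleton_iff _ b).mpr hC⟩
    haveI : Module.Finite A M := inferInstance
    have hr' : IsRegular M (l₁ ++ [b]) := by
      apply IsRegular.of_isWeaklyRegular_of_mem_maximalIdeal M _ hw'
      intro r hr
      rcases List.mem_append.mp hr with hr | hr
      · exact hIm (Ideal.subset_span (List.mem_cons_of_mem _ hr))
      · rw [List.mem_singleton.mp hr]; exact hbm
    have hr'' : IsRegular M (b :: l₁) :=
      IsLocalRing.isRegular_of_perm hr' (List.perm_append_singleton b l₁)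
    obtain ⟨hbreg, hquot⟩ := (isRegular_cons_iff M b l₁).mp hr''
    have hpe : v.Perm (b :: v.erase b) := List.perm_cons_erase hbl
    have hof : Ideal.ofList v = Ideal.span {b} ⊔ Ideal.ofList (v.erase b) := by
      rw [ofList_perm hpe, Ideal.ofList_cons]
    have hbZ' : Ideal.span {b} ≤ Module.annihilator A (QuotSMulTop b M) := by
      rw [Ideal.span_singleton_le_iff_mem, Module.mem_annihilator]
      intro n
      obtain ⟨m, rfl⟩ := Submodule.Quotient.mk_surjective _ n
      rw [← Submodule.Quotient.mk_smul, Submodule.Quotient.mk_eq_zero]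
      exact Submodule.smul_mem_pointwise_smul m b ⊤ Submodule.mem_top
    have hZZ' : K ≤ Module.annihilator A (QuotSMulTop b M) :=
      hK.trans (LinearMap.annihilator_le_of_surjective (Submodule.mkQ (b • ⊤ : Submodule A M))
        (Submodule.mkQ_surjective _))
    have ha₀' : Ideal.span {a₀} ≤ Ideal.span {b} ⊔ (I₁ ⊔ K) := by
      rw [Ideal.span_singleton_le_iff_mem]
      have : a₀ = ↑(hu.unit⁻¹) * (b - y) := by
        rw [← hxy, add_sub_cancel_right, ← mul_assoc, IsUnit.val_inv_mul, one_mul]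
      rw [this]
      apply Ideal.mul_mem_left
      exact Ideal.sub_mem _ (Ideal.mem_sup_left (Ideal.mem_span_singleton_self b))
        (Ideal.mem_sup_right hy)
    -- the ideal of `b :: l₁`
    have hQb : Ideal.span {b} ⊔ (I₁ ⊔ K) = Q := by
      apply le_antisymm
      · rw [← hvQ]
        refine sup_le ?_ ?_
        · rw [Ideal.span_singleton_le_iff_mem]
          exact Ideal.mem_sup_left (Ideal.subset_span hbl)
        · rw [← hI, hcons]
          exact sup_le (le_sup_of_le_left le_sup_right) le_sup_right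
      · rw [← hQ, hcons, sup_assoc]
        exact sup_le ha₀' le_sup_right
    -- goodness of the intermediate sequences
    have g0 : Good M K Q (a₀ :: l₁) := ⟨h, hQ⟩
    have g1 : Good M K Q (l₁ ++ [a₀]) := by
      refine ⟨hperm, ?_⟩
      rw [ofList_perm (List.perm_append_singleton a₀ l₁), hQ]
    have g2 : Good M K Q (l₁ ++ [b]) := by
      refine ⟨hr', ?_⟩
      rw [ofList_perm (List.perm_append_singleton b l₁), Ideal.ofList_cons, ← hI₁, sup_assoc, hQb]
    have g3 : Good M K Q (b :: l₁) := by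
      refine ⟨hr'', ?_⟩
      rw [Ideal.ofList_cons, ← hI₁, sup_assoc, hQb]
    have g5 : Good M K Q v := ⟨hvreg, hvQ⟩
    have hvb : IsRegular M (b :: v.erase b) := IsLocalRing.isRegular_of_perm hvreg hpe
    have g4 : Good M K Q (b :: v.erase b) := by
      refine ⟨hvb, ?_⟩
      rw [← ofList_perm hpe, hvQ]
    -- induction hypothesis
    have hK' : K ⊔ Ideal.span {b} ≤ Module.annihilator A (QuotSMulTop b M) := sup_le hZZ' hbZ'
    have gl₁ : Good (QuotSMulTop b M) (K ⊔ Ideal.span {b}) Q l₁ := by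
      refine ⟨hquot, ?_⟩
      rw [← hQb, ← hI₁]
      ac_rfl
    have gv' : Good (QuotSMulTop b M) (K ⊔ Ideal.span {b}) Q (v.erase b) := by
      refine ⟨((isRegular_cons_iff M b _).mp hvb).2, ?_⟩
      rw [← hvQ, hof]
      ac_rfl
    have hih := ih (v.erase b) (M := QuotSMulTop b M) (K ⊔ Ideal.span {b}) Q hK' gl₁ gv'
    have hlift : Relation.ReflTransGen (Step M K Q) (b :: l₁) (b :: v.erase b) := by
      refine Relation.ReflTransGen.lift (fun w => b :: w) ?_ _ _ hih
      rintro w w' ⟨⟨hw1, hw2⟩, ⟨hw1', hw2'⟩, he⟩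
      refine ⟨⟨(isRegular_cons_iff M b w).mpr ⟨hbreg, hw1⟩, ?_⟩,
        ⟨(isRegular_cons_iff M b w').mpr ⟨hbreg, hw1'⟩, ?_⟩, elem_cons b he⟩
      · rw [Ideal.ofList_cons, ← hw2]; ac_rfl
      · rw [Ideal.ofList_cons, ← hw2']; ac_rfl
    have s1 : Step M K Q (a₀ :: l₁) (l₁ ++ [a₀]) :=
      ⟨g0, g1, Or.inl (List.perm_append_singleton a₀ l₁).symm⟩
    have s2 : Step M K Q (l₁ ++ [a₀]) (l₁ ++ [b]) :=
      ⟨g1, g2, Or.inr ⟨by simp, by simp⟩⟩
    have s3 : Step M K Q (l₁ ++ [b]) (b :: l₁) :=
      ⟨g2, g3, Or.inl (List.perm_append_singleton b l₁)⟩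
    have s4 : Step M K Q (b :: v.erase b) v := ⟨g4, g5, Or.inl hpe.symm⟩
    exact ((((Relation.ReflTransGen.single s1).tail s2).tail s3).trans hlift).tail s4

/-- The chain form. -/
theorem exists_chain [IsNoetherianRing A] (u v : List A) (hu : IsRegular A u)
    (hv : IsRegular A v) (huv : Ideal.span {x | x ∈ u} = Ideal.span {x | x ∈ v}) :
    ∃ ws : List (List A), ws.head? = some u ∧ ws.getLast? = some v ∧
      (∀ w ∈ ws, IsRegular A w ∧ Ideal.span {x | x ∈ w} = Ideal.span {x | x ∈ u}) ∧
      List.IsChain (fun w w' : List A =>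
        w.Perm w' ∨ (w.length = w'.length ∧ w.dropLast = w'.dropLast)) ws := by
  have gu : Good A ⊥ (Ideal.ofList u) u := ⟨hu, sup_bot_eq _⟩
  have gv : Good A ⊥ (Ideal.ofList u) v := ⟨hv, by rw [sup_bot_eq]; exact huv.symm⟩
  have hc := connected u v (M := A) ⊥ (Ideal.ofList u) bot_le gu gv
  obtain ⟨l, hl1, hl2⟩ := List.exists_isChain_cons_of_relationReflTransGen hc
  refine ⟨u :: l, rfl, ?_, ?_, ?_⟩
  · rw [List.getLast?_eq_some_getLast (List.cons_ne_nil _ _), hl2]
  · have := hl1.induction (Good A ⊥ (Ideal.ofList u)) (u :: l) (fun x y hxy _ => hxy.2.1)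
      (fun _ => gu)
    intro w hw
    have hgw := this w hw
    refine ⟨hgw.1, ?_⟩
    have := hgw.2
    rwa [sup_bot_eq] at this
  · exact hl1.imp fun w w' h => h.2.2

end Groth.Agent.Helper8.RS1
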