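import Mathlib

/-!
# Reflexive modules with trivial endomorphism ring over local rings of dimension at most one
-/

set_option autoImplicit false
universe u

namespace Groth.Agent.Helper8.RankOne

open IsLocalRing

variable (R : Type u) [CommRing R] [IsLocalRing R]
  (M : Type u) [AddCommGroup M] [Module R M]

/-- If some functional takes a unit value and `R → End M` is bijective, then `M ≃ R`. -/
theorem nonempty_linearEquiv_of_unit
    (hα : Function.Bijective (algebraMap R (Module.End R M)))
    (φ : Module.Dual R M) (x : M) (hu : IsUnit (φ x)) : Nonempty (M ≃ₗ[R] R) := by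
  obtain ⟨u, hu⟩ := hu
  let φ' : Module.Dual R M := (↑u⁻¹ : R) • φ
  have h1 : φ' x = 1 := by
    simp only [φ', LinearMap.smul_apply, smul_eq_mul, ← hu]
    exact Units.inv_mul u
  let p : Module.End R M := φ'.smulRight x
  have hp : ∀ y, p y = φ' y • x := fun y => LinearMap.smulRight_apply _ _ _
  obtain ⟨r, hr⟩ := hα.2 p
  have hpp : p * p = p := by
    apply LinearMap.ext
    intro y
    rw [Module.End.mul_apply, hp, hp, map_smul, h1, smul_eq_mul, mul_one]
  have hrr : r * r = r := by
    apply hα.1
    rw [map_mul, hr, hpp]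
  have hr01 : r = 0 ∨ r = 1 := by
    rcases IsLocalRing.isUnit_or_isUnit_one_sub_self r with h | h
    · right
      obtain ⟨v, rfl⟩ := h
      have := congrArg (fun z => (↑v⁻¹ : R) * z) hrr
      simpa [← mul_assoc] using this
    · left
      obtain ⟨v, hv⟩ := h
      have h2 : r * (v : R) = 0 := by rw [hv, mul_sub, mul_one, hrr, sub_self]
      have := congrArg (fun z => z * (↑v⁻¹ : R)) h2
      simpa [mul_assoc] using this
  have hrx : ∀ y, p y = r • y := by
    intro y
    rw [← hr]
    rfl
  rcases hr01 with h0 | h1'
  · exfalso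
    have h2 : x = 0 := by
      have := hrx x
      rw [hp, h1, one_smul, h0, zero_smul] at this
      exact this
    rw [h2, map_zero] at h1
    exact zero_ne_one h1
  · have hy : ∀ y, φ' y • x = y := by
      intro y
      rw [← hp, hrx, h1', one_smul]
    refine ⟨LinearEquiv.ofBijective φ' ⟨?_, ?_⟩⟩
    · rw [injective_iff_map_eq_zero]
      intro y hy0
      rw [← hy y, hy0, zero_smul]
    · intro c
      exact ⟨c • x, by rw [map_smul, h1, smul_eq_mul, mul_one]⟩

variable [IsNoetherianRing R]

/-- Over a Noetherian local ring of dimension at most one, a reflexive module whose endomorphism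
ring is `R` is free of rank one. -/
theorem nonempty_linearEquiv_of_bijective_algebraMap [Module.IsReflexive R M]
    [Ring.KrullDimLE 1 R]
    (hα : Function.Bijective (algebraMap R (Module.End R M))) : Nonempty (M ≃ₗ[R] R) := by
  by_cases hτ : ∃ (φ : Module.Dual R M) (x : M), IsUnit (φ x)
  · obtain ⟨φ, x, hu⟩ := hτ
    exact nonempty_linearEquiv_of_unit R M hα φ x hu
  · exfalso
    push Not at hτ
    have hτm : ∀ (φ : Module.Dual R M) (x : M), φ x ∈ maximalIdeal R :=
      fun φ x => (mem_maximalIdeal _).mpr (hτ φ x)
    let τ : Ideal R := Ideal.span (Set.range fun p : Module.Dual R M × M => p.1 p.2)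
    have hτle : τ ≤ maximalIdeal R :=
      Ideal.span_le.mpr (by rintro _ ⟨p, rfl⟩; exact hτm p.1 p.2)
    have hmemτ : ∀ (φ : Module.Dual R M) (x : M), φ x ∈ τ :=
      fun φ x => Ideal.subset_span ⟨(φ, x), rfl⟩
    -- τ contains a nonzerodivisor
    obtain ⟨t, htτ, ht⟩ : ∃ t ∈ τ, t ∈ nonZeroDivisors R := by
      by_contra hcon
      push Not at hcon
      have hdisj : Disjoint (τ : Set R) (nonZeroDivisors R) :=
        Set.disjoint_left.mpr fun a ha => hcon a ha
      obtain ⟨s, hs, hs0⟩ :=
        SetLike.exists_of_lt (Ideal.bot_lt_annihilator_of_disjoint_nonZeroDivisors hdisj)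
      apply hs0
      rw [Ideal.mem_bot]
      apply hα.1
      rw [map_zero]
      apply LinearMap.ext
      intro x
      apply (Module.bijective_dual_eval R M).1
      rw [LinearMap.zero_apply, map_zero]
      apply LinearMap.ext
      intro φ
      rw [Module.Dual.eval_apply, LinearMap.zero_apply]
      have h1 : (algebraMap R (Module.End R M) s) x = s • x := rfl
      rw [h1, map_smul, smul_eq_mul]
      have h2 := (Module.mem_annihilator.mp hs) ⟨φ x, hmemτ φ x⟩
      have h3 := congrArg Subtype.val h2
      simpa using h3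
    have htm : t ∈ maximalIdeal R := hτle htτ
    -- the only prime containing `t` is the maximal ideal
    have hprime : ∀ Q : Ideal R, Q.IsPrime → t ∈ Q → Q = maximalIdeal R := by
      intro Q hQ htQ
      rcases (Ring.krullDimLE_one_iff.mp inferInstance) Q hQ with h | h
      · exfalso
        have := Ideal.disjoint_nonZeroDivisors_of_mem_minimalPrimes h
        exact Set.disjoint_left.mp this htQ ht
      · exact IsLocalRing.eq_maximalIdeal h
    have hrad : maximalIdeal R ≤ (Ideal.span {t}).radical := by
      rw [Ideal.radical_eq_sInf]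
      apply le_sInf
      rintro Q ⟨hle, hQ⟩
      have : t ∈ Q := hle (Ideal.mem_span_singleton_self t)
      rw [hprime Q hQ this]
    obtain ⟨n, hn⟩ := Ideal.exists_pow_le_of_le_radical_of_fg hrad
      (IsNoetherian.noetherian (maximalIdeal R))
    classical
    let n₀ := Nat.find (⟨n, hn⟩ : ∃ k, maximalIdeal R ^ k ≤ Ideal.span {t})
    have hn₀ : maximalIdeal R ^ n₀ ≤ Ideal.span {t} :=
      Nat.find_spec (⟨n, hn⟩ : ∃ k, maximalIdeal R ^ k ≤ Ideal.span {t})
    have hn₀pos : n₀ ≠ 0 := by
      intro h0
      rw [h0, pow_zero, Ideal.one_eq_top, top_le_iff] at hn₀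
      have h1 : (1 : R) ∈ Ideal.span {t} := by rw [hn₀]; trivial
      have h2 : (1 : R) ∈ maximalIdeal R :=
        (Ideal.span_le.mpr (Set.singleton_subset_iff.mpr htm)) h1
      exact (Ideal.ne_top_iff_one _).mp (IsLocalRing.maximalIdeal.isMaximal R).ne_top h2
    obtain ⟨k, hk⟩ := Nat.exists_eq_succ_of_ne_zero hn₀pos
    have hk' : ¬ maximalIdeal R ^ k ≤ Ideal.span {t} := by
      apply Nat.find_min (⟨n, hn⟩ : ∃ k, maximalIdeal R ^ k ≤ Ideal.span {t})
      change k < n₀
      omega
    obtain ⟨y, hyk, hyt⟩ := Set.not_subset.mp hk'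
    have hxy : ∀ a ∈ maximalIdeal R, a * y ∈ Ideal.span {t} := by
      intro a ha
      apply hn₀
      rw [hk, pow_succ']
      exact Ideal.mul_mem_mul ha hyk
    -- the map `e : m → R`, `a ↦ a y / t`
    have hex : ∀ a : maximalIdeal R, ∃ z : R, z * t = (a : R) * y := fun a =>
      Ideal.mem_span_singleton'.mp (hxy a a.2)
    have hcancel : ∀ z₁ z₂ : R, z₁ * t = z₂ * t → z₁ = z₂ := fun z₁ z₂ h =>
      mul_cancel_right_mem_nonZeroDivisors ht |>.mp h
    -- the endomorphism `T` of the dual with `T φ x * t = φ x * y`
    have hexT : ∀ φ : Module.Dual R M, ∃ ψ : Module.Dual R M, ∀ x, ψ x * t = φ x * y := by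
      intro φ
      choose z hz using hex
      refine ⟨{ toFun := fun x => z ⟨φ x, hτm φ x⟩, map_add' := ?_, map_smul' := ?_ }, ?_⟩
      · intro x₁ x₂
        apply hcancel
        rw [hz, add_mul, hz, hz]
        simp [add_mul]
      · intro c x
        apply hcancel
        rw [hz, RingHom.id_apply, smul_eq_mul, mul_assoc, hz]
        simp [mul_assoc]
      · intro x
        exact hz _
    choose T hT using hexT
    have hText : ∀ ψ₁ ψ₂ : Module.Dual R M, (∀ x, ψ₁ x * t = ψ₂ x * t) → ψ₁ = ψ₂ := by
      intro ψ₁ ψ₂ h
      apply LinearMap.ext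
      intro x
      exact hcancel _ _ (h x)
    let TT : Module.End R (Module.Dual R M) :=
      { toFun := T
        map_add' := by
          intro φ₁ φ₂
          apply hText
          intro x
          rw [hT, LinearMap.add_apply, LinearMap.add_apply, add_mul, add_mul, hT, hT]
        map_smul' := by
          intro c φ
          apply hText
          intro x
          rw [hT, RingHom.id_apply, LinearMap.smul_apply, LinearMap.smul_apply, smul_eq_mul,
            smul_eq_mul, mul_assoc, mul_assoc, hT] }
    let E := Module.evalEquiv R M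
    let U : Module.End R M := E.symm.toLinearMap ∘ₗ TT.dualMap ∘ₗ E.toLinearMap
    obtain ⟨r, hr⟩ := hα.2 U
    have hUx : ∀ x, U x = r • x := by
      intro x
      rw [← hr]
      rfl
    have key : ∀ (φ : Module.Dual R M) (x : M), T φ x = r * φ x := by
      intro φ x
      have h1 : E (U x) = TT.dualMap (E x) := by
        simp only [U, LinearMap.coe_comp, LinearEquiv.coe_coe, Function.comp_apply,
          LinearEquiv.apply_symm_apply]
      have h2 := LinearMap.congr_fun h1 φ
      rw [LinearMap.dualMap_apply] at h2
      have h3 : E (U x) φ = φ (U x) := by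
        simp [E, Module.evalEquiv]
      have h4 : E x (TT φ) = T φ x := by
        simp [E, Module.evalEquiv, TT]
      rw [h3, h4, hUx, map_smul, smul_eq_mul] at h2
      exact h2.symm
    have key2 : ∀ a ∈ τ, a * y = r * a * t := by
      intro a ha
      refine Submodule.span_induction ?_ ?_ ?_ ?_ ha
      · rintro _ ⟨p, rfl⟩
        change p.1 p.2 * y = r * p.1 p.2 * t
        rw [← hT, key]
      · simp
      · intro a b _ _ h1 h2
        rw [add_mul, h1, h2]
        ring
      · intro c a _ h1
        rw [smul_eq_mul, mul_assoc, h1]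
        ring
    have h5 := key2 t htτ
    have h6 : y = r * t := by
      apply hcancel
      rw [mul_comm y t, h5]
    exact hyt (Ideal.mem_span_singleton'.mpr ⟨r, h6.symm⟩)

end Groth.Agent.Helper8.RankOne
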