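import Groth.Agent.Lib.Helper8.RankOne1
import Groth.Agent.Lib.Helper8.Refl3

/-!
# Localizing the endomorphism ring; locally free of rank one iff `S = End M`
-/

set_option autoImplicit false
universe u

namespace Groth.Agent.Helper8.RankOne

open Groth.Agent.Helper8.Refl

section loc

variable {A : Type u} [CommRing A] [IsNoetherianRing A] (S : Submonoid A)
  (G : Type u) [AddCommGroup G] [Module A G] [Module.Finite A G]

/-- The localization map on endomorphisms. -/
noncomputable def endLoc :
    Module.End A G →ₗ[A] Module.End (Localization S) (LocalizedModule S G) :=
  IsLocalizedModule.mapExtendScalars S (LocalizedModule.mkLinearMap S G)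
    (LocalizedModule.mkLinearMap S G) (Localization S)

instance : IsLocalizedModule S (endLoc S G) := by
  unfold endLoc
  haveI : Module.FinitePresentation A G := Module.finitePresentation_of_finite A G
  infer_instance

theorem endLoc_apply (T : Module.End A G) (x : G) :
    endLoc S G T (LocalizedModule.mkLinearMap S G x) = LocalizedModule.mkLinearMap S G (T x) := by
  unfold endLoc
  rw [IsLocalizedModule.mapExtendScalars_apply_apply]
  exact IsLocalizedModule.map_apply S _ _ T x

/-- The localization of the structure map `A → End G` is the structure map of the
localization. -/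
theorem map_algebraLinearMap :
    IsLocalizedModule.map S (Algebra.linearMap A (Localization S)) (endLoc S G)
        (Algebra.linearMap A (Module.End A G)) =
      (Algebra.linearMap (Localization S)
        (Module.End (Localization S) (LocalizedModule S G))).restrictScalars A := by
  apply IsLocalizedModule.linearMap_ext S (Algebra.linearMap A (Localization S)) (endLoc S G)
  apply LinearMap.ext
  intro a
  simp only [LinearMap.coe_comp, Function.comp_apply, LinearMap.coe_restrictScalars]
  rw [IsLocalizedModule.map_apply]
  apply LinearMap.restrictScalars_injective A
  apply IsLocalizedModule.linearMap_ext S (LocalizedModule.mkLinearMap S G)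
    (LocalizedModule.mkLinearMap S G)
  apply LinearMap.ext
  intro x
  simp only [LinearMap.coe_comp, LinearMap.coe_restrictScalars, Function.comp_apply]
  rw [endLoc_apply]
  simp only [Algebra.linearMap_apply, Module.algebraMap_end_apply]
  rw [map_smul, algebraMap_smul]

theorem bijective_algebraMap_localizedModule
    (hα : Function.Bijective (algebraMap A (Module.End A G))) :
    Function.Bijective (algebraMap (Localization S)
      (Module.End (Localization S) (LocalizedModule S G))) := by
  have h1 := map_algebraLinearMap S G
  have h2 : Function.Bijective (IsLocalizedModule.map S (Algebra.linearMap A (Localization S))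
      (endLoc S G) (Algebra.linearMap A (Module.End A G))) :=
    ⟨IsLocalizedModule.map_injective S _ _ _ hα.1, IsLocalizedModule.map_surjective S _ _ _ hα.2⟩
  rw [h1] at h2
  exact h2

/-- Reflexivity localizes. -/
theorem isReflexive_localizedModule [Module.IsReflexive A G] :
    Module.IsReflexive (Localization S) (LocalizedModule S G) := by
  have h1 : IsLocalizedModule.map S (LocalizedModule.mkLinearMap S G) (ddualLoc S G)
      (Module.Dual.eval A G) =
      (Module.Dual.eval (Localization S) (LocalizedModule S G)).restrictScalars A := by
    apply IsLocalizedModule.linearMap_ext S (LocalizedModule.mkLinearMap S G) (ddualLoc S G)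
    apply LinearMap.ext
    intro x
    simp only [LinearMap.coe_comp, Function.comp_apply, LinearMap.coe_restrictScalars]
    rw [IsLocalizedModule.map_apply, ddualLoc_eval]
  have hb := Module.bijective_dual_eval A G
  have h2 : Function.Bijective (IsLocalizedModule.map S (LocalizedModule.mkLinearMap S G)
      (ddualLoc S G) (Module.Dual.eval A G)) :=
    ⟨IsLocalizedModule.map_injective S _ _ _ hb.1, IsLocalizedModule.map_surjective S _ _ _ hb.2⟩
  rw [h1] at h2
  exact ⟨h2⟩

end loc

section main

variable (A : Type u) [CommRing A] [IsNoetherianRing A]
  (G : Type u) [AddCommGroup G] [Module A G] [Module.Finite A G]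

/-- If `M ≃ R` then `R → End M` is bijective. -/
theorem bijective_algebraMap_of_linearEquiv {R : Type*} [CommRing R] {M : Type*} [AddCommGroup M]
    [Module R M] (e : M ≃ₗ[R] R) : Function.Bijective (algebraMap R (Module.End R M)) := by
  constructor
  · rw [injective_iff_map_eq_zero]
    intro a ha
    have h1 := LinearMap.congr_fun ha (e.symm 1)
    rw [Module.algebraMap_end_apply, LinearMap.zero_apply, ← map_smul, smul_eq_mul, mul_one] at h1
    simpa using h1
  · intro T
    refine ⟨e (T (e.symm 1)), ?_⟩
    apply LinearMap.ext
    intro x
    rw [Module.algebraMap_end_apply]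
    have hx : x = e x • e.symm 1 := by
      rw [← map_smul, smul_eq_mul, mul_one, LinearEquiv.symm_apply_apply]
    conv_rhs => rw [hx, map_smul]
    apply e.injective
    rw [map_smul, map_smul, smul_eq_mul, smul_eq_mul, mul_comm]

theorem nonempty_linearEquiv_localizedModule (hdim : ringKrullDim A ≤ 1)
    [Module.IsReflexive A G] (hα : Function.Bijective (algebraMap A (Module.End A G)))
    (P : Ideal A) [P.IsPrime] :
    Nonempty (LocalizedModule P.primeCompl G ≃ₗ[Localization.AtPrime P] Localization.AtPrime P) := by
  haveI : Ring.KrullDimLE 1 (Localization.AtPrime P) := by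
    rw [Ring.krullDimLE_iff, IsLocalization.AtPrime.ringKrullDim_eq_height P]
    exact (Ideal.height_le_ringKrullDim_of_ne_top (Ideal.IsPrime.ne_top ‹_›)).trans hdim
  haveI := isReflexive_localizedModule P.primeCompl G
  exact nonempty_linearEquiv_of_bijective_algebraMap (Localization.AtPrime P)
    (LocalizedModule P.primeCompl G) (bijective_algebraMap_localizedModule P.primeCompl G hα)

theorem bijective_algebraMap_of_locally_rank_one
    (h : ∀ (P : Ideal A) (_ : P.IsPrime),
      Nonempty (LocalizedModule P.primeCompl G ≃ₗ[Localization.AtPrime P] Localization.AtPrime P)) :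
    Function.Bijective (algebraMap A (Module.End A G)) := by
  have key := bijective_of_isLocalized_maximal
    (fun (P : Ideal A) [P.IsMaximal] => Localization.AtPrime P)
    (fun (P : Ideal A) [P.IsMaximal] => Algebra.linearMap A (Localization.AtPrime P))
    (fun (P : Ideal A) [P.IsMaximal] =>
      Module.End (Localization.AtPrime P) (LocalizedModule P.primeCompl G))
    (fun (P : Ideal A) [P.IsMaximal] => endLoc P.primeCompl G)
    (Algebra.linearMap A (Module.End A G))
  apply key
  intro P hP
  rw [map_algebraLinearMap]
  obtain ⟨e⟩ := h P hP.isPrime
  exact bijective_algebraMap_of_linearEquiv e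

end main

end Groth.Agent.Helper8.RankOne
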