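import Mathlib
import Groth.Prelude
import Groth.Agent.Lib.Helper8.CplSurj1
import Groth.Agent.Lib.Helper8.PushCoh5

/-!
# Ratliff's theorem, part 1: density and descent of finite length data along completion
-/

set_option autoImplicit false
universe u

namespace Groth.Agent.Helper8.Ratliff

open IsLocalRing

variable (A : Type u) [CommRing A] [IsNoetherianRing A] [IsLocalRing A]

/-- The maximal ideal of the completion is the extension of the maximal ideal, powers included. -/
theorem map_pow_maximalIdeal (k : ℕ) :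
    ((maximalIdeal A) ^ k).map (algebraMap A (EGA4.Cpl A)) = (maximalIdeal (EGA4.Cpl A)) ^ k := by
  rw [Ideal.map_pow, ← AdicCompletion.maximalIdeal_eq_map]

/-- **Density**: `Â = A + 𝔪̂^k`. -/
theorem exists_sub_mem_pow (k : ℕ) (x : EGA4.Cpl A) :
    ∃ r : A, x - algebraMap A (EGA4.Cpl A) r ∈ (maximalIdeal (EGA4.Cpl A)) ^ k := by
  obtain ⟨r, hr⟩ := Ideal.Quotient.mk_surjective (AdicCompletion.evalₐ (maximalIdeal A) k x)
  refine ⟨r, ?_⟩
  rw [← map_pow_maximalIdeal]
  apply Groth.Agent.Helper8.CplSurj.mem_map_pow_of_evalₐ_eq_zero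
  rw [map_sub, AlgHom.commutes, ← hr, sub_eq_zero]
  rfl

/-- one term of the descent: `Â·r ⊆ A + cÂ` when `r 𝔪^k ⊆ cA`. -/
theorem exists_eq_add_of_mul_mem (c : A) (k : ℕ) (r : A)
    (hr : ∀ y ∈ (maximalIdeal A) ^ k, r * y ∈ Ideal.span {c}) (x : EGA4.Cpl A) :
    ∃ (b : A) (γ : EGA4.Cpl A),
      x * algebraMap A (EGA4.Cpl A) r =
        algebraMap A (EGA4.Cpl A) b + algebraMap A (EGA4.Cpl A) c * γ := by
  obtain ⟨u, hu⟩ := exists_sub_mem_pow A k x
  rw [← map_pow_maximalIdeal] at hu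
  have key : ∀ δ ∈ ((maximalIdeal A) ^ k).map (algebraMap A (EGA4.Cpl A)),
      δ * algebraMap A (EGA4.Cpl A) r ∈ Ideal.span {algebraMap A (EGA4.Cpl A) c} := by
    intro δ hδ
    refine Submodule.span_induction ?_ ?_ ?_ ?_ hδ
    · rintro _ ⟨y, hy, rfl⟩
      rw [← map_mul, mul_comm, ← Set.image_singleton, ← Ideal.map_span]
      exact Ideal.mem_map_of_mem _ (hr y hy)
    · rw [zero_mul]; exact Ideal.zero_mem _
    · intro a b _ _ ha hb
      rw [add_mul]; exact Ideal.add_mem _ ha hb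
    · intro a b _ hb
      rw [smul_eq_mul, mul_assoc]; exact Ideal.mul_mem_left _ a hb
  obtain ⟨γ, hγ⟩ := Ideal.mem_span_singleton'.mp (key _ hu)
  refine ⟨u * r, γ, ?_⟩
  have : x = algebraMap A (EGA4.Cpl A) u + (x - algebraMap A (EGA4.Cpl A) u) := by ring
  rw [map_mul, mul_comm (algebraMap A (EGA4.Cpl A) c) γ, hγ]
  ring

/-- **Descent**: an element `β` of the completion with `𝔪^k β ⊆ cÂ` lies in `A + cÂ`. -/
theorem exists_eq_add_of_pow_mul_mem (c : A) (β : EGA4.Cpl A) (k : ℕ)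
    (h : ∀ y ∈ (maximalIdeal A) ^ k, ∃ γ : EGA4.Cpl A,
      algebraMap A (EGA4.Cpl A) y * β = algebraMap A (EGA4.Cpl A) c * γ) :
    ∃ (b : A) (γ : EGA4.Cpl A),
      β = algebraMap A (EGA4.Cpl A) b + algebraMap A (EGA4.Cpl A) c * γ := by
  classical
  obtain ⟨s, hs⟩ : ((maximalIdeal A) ^ k).FG := IsNoetherian.noetherian _
  choose! γ hγ using h
  let v : Option s → EGA4.Cpl A := fun o => o.elim β (fun y => γ y)
  let x : (Option s →₀ A) →ₗ[A] EGA4.Cpl A := Finsupp.linearCombination A v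
  let f : (s →₀ A) →ₗ[A] (Option s →₀ A) := Finsupp.linearCombination A
    (fun y : s => (y : A) • Finsupp.single none (1 : A) - c • Finsupp.single (some y) (1 : A))
  have hsJ : ∀ y : s, (y : A) ∈ (maximalIdeal A) ^ k := fun y => by
    rw [← hs]; exact Ideal.subset_span y.2
  have hxf : x ∘ₗ f = 0 := by
    apply Finsupp.lhom_ext'
    intro y
    apply LinearMap.ext_ring
    simp only [LinearMap.coe_comp, Function.comp_apply, Finsupp.lsingle_apply,
      LinearMap.zero_comp, LinearMap.zero_apply, x, f, Finsupp.linearCombination_single, one_smul,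
      map_sub, map_smul]
    simp only [v, Option.elim, Algebra.smul_def, mul_one]
    rw [hγ y (hsJ y), sub_self]
  obtain ⟨k', a, w, hxw, haf⟩ := Module.Flat.exists_factorization_of_comp_eq_zero_of_free hxf
  set v₀ := a (Finsupp.single none (1 : A)) with hv₀
  have hβ : β = x (Finsupp.single none 1) := by
    simp [x, v]
  have hw : w v₀ = v₀.sum (fun j r => r • w (Finsupp.single j 1)) := by
    conv_lhs => rw [← Finsupp.sum_single v₀]
    rw [map_finsuppSum]
    apply Finsupp.sum_congr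
    intro j _
    rw [← map_smul, Finsupp.smul_single, smul_eq_mul, mul_one]
  have hmem : ∀ j : Fin k', ∀ y ∈ (maximalIdeal A) ^ k, v₀ j * y ∈ Ideal.span {c} := by
    intro j y hy
    rw [← hs] at hy
    refine Submodule.span_induction ?_ ?_ ?_ ?_ hy
    · intro y hy
      have h1 := congrArg (fun z => z j)
        (LinearMap.congr_fun haf (Finsupp.single (⟨y, hy⟩ : s) (1 : A)))
      simp only [LinearMap.coe_comp, Function.comp_apply, f, Finsupp.linearCombination_single,
        one_smul, map_sub, map_smul, LinearMap.zero_apply, Finsupp.coe_sub, Finsupp.coe_smul,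
        Pi.sub_apply, Pi.smul_apply, smul_eq_mul, Finsupp.coe_zero, Pi.zero_apply] at h1
      rw [mul_comm, sub_eq_zero.mp h1]
      exact Ideal.mul_mem_right _ _ (Ideal.mem_span_singleton_self c)
    · rw [mul_zero]; exact Ideal.zero_mem _
    · intro p q _ _ hp hq
      rw [mul_add]; exact Ideal.add_mem _ hp hq
    · intro p q _ hq
      rw [smul_eq_mul, mul_left_comm]; exact Ideal.mul_mem_left _ p hq
  rw [hβ, hxw, LinearMap.comp_apply, ← hv₀, hw, Finsupp.sum]
  refine Finset.sum_induction _ (fun z => ∃ (b : A) (γ : EGA4.Cpl A),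
      z = algebraMap A (EGA4.Cpl A) b + algebraMap A (EGA4.Cpl A) c * γ) ?_ ?_ ?_
  · rintro z₁ z₂ ⟨b₁, γ₁, rfl⟩ ⟨b₂, γ₂, rfl⟩
    exact ⟨b₁ + b₂, γ₁ + γ₂, by rw [map_add]; ring⟩
  · exact ⟨0, 0, by simp⟩
  · intro j _
    obtain ⟨b, γ', hb⟩ := exists_eq_add_of_mul_mem A c k (v₀ j) (hmem j) (w (Finsupp.single j 1))
    refine ⟨b, γ', ?_⟩
    rw [Algebra.smul_def, mul_comm, hb]

end Groth.Agent.Helper8.Ratliff
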