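import Groth.Agent.Lib.Helper8.Ratliff1
import Groth.Agent.Lib.Helper8.AdicReg1
import Groth.Agent.Lib.Helper8.FC3
import Groth.Agent.Lib.Helper4.DimEq1

/-!
# Ratliff's theorem, part 2: a finite birational extension with a maximal ideal of height one
-/

set_option autoImplicit false
set_option linter.unusedSectionVars false
set_option linter.style.haveILetI false
universe u

namespace Groth.Agent.Helper8.Ratliff

open IsLocalRing

section descentLoc

variable {A R : Type u} [CommRing A] [CommRing R] [Algebra A R] (a : A)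

/-- the comparison map `A_a → R_a`. -/
noncomputable def phi : Localization.Away a →+* Localization.Away (algebraMap A R a) :=
  IsLocalization.Away.lift a
    (g := (algebraMap R (Localization.Away (algebraMap A R a))).comp (algebraMap A R))
    (IsLocalization.Away.algebraMap_isUnit (algebraMap A R a))

theorem phi_algebraMap (r : A) :
    phi (R := R) a (algebraMap A (Localization.Away a) r) =
      algebraMap R (Localization.Away (algebraMap A R a)) (algebraMap A R r) :=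
  IsLocalization.Away.lift_eq _ _ _

theorem algebraMap_injective_of_mem_nonZeroDivisors (ha : algebraMap A R a ∈ nonZeroDivisors R) :
    Function.Injective (algebraMap R (Localization.Away (algebraMap A R a))) :=
  IsLocalization.injective _ (Submonoid.powers_le.mpr ha)

theorem exists_of_phi_eq [Module.FaithfullyFlat A R] (ha : algebraMap A R a ∈ nonZeroDivisors R)
    (z : Localization.Away a) (x : R)
    (h : phi (R := R) a z = algebraMap R (Localization.Away (algebraMap A R a)) x) :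
    ∃ r : A, algebraMap A (Localization.Away a) r = z ∧ algebraMap A R r = x := by
  obtain ⟨n, r₀, hz⟩ := IsLocalization.Away.surj a z
  have h1 := congrArg (phi (R := R) a) hz
  rw [map_mul, map_pow, phi_algebraMap, phi_algebraMap, h, ← map_pow, ← map_mul] at h1
  have h2 := algebraMap_injective_of_mem_nonZeroDivisors a ha h1
  have h3 : r₀ ∈ Ideal.span {a ^ n} := by
    rw [← Ideal.comap_map_eq_self_of_faithfullyFlat (B := R) (Ideal.span {a ^ n}), Ideal.mem_comap,
      Ideal.map_span, Set.image_singleton, ← h2, map_pow]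
    exact Ideal.mul_mem_left _ _ (Ideal.mem_span_singleton_self _)
  obtain ⟨r, hr⟩ := Ideal.mem_span_singleton'.mp h3
  refine ⟨r, ?_, ?_⟩
  · have hu : IsUnit (algebraMap A (Localization.Away a) a ^ n) :=
      IsLocalization.Away.algebraMap_pow_isUnit a n
    apply hu.mul_left_injective
    change _ * _ = _ * _
    rw [hz, ← hr, map_mul, map_pow]
  · have hn : algebraMap A R a ^ n ∈ nonZeroDivisors R := pow_mem ha n
    apply mul_cancel_right_mem_nonZeroDivisors hn |>.mp
    rw [h2, ← hr, map_mul, map_pow]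

end descentLoc

section setup

variable (A : Type u) [CommRing A] [IsDomain A] [IsNoetherianRing A] [IsLocalRing A]

/-- the completion is Noetherian. -/
local instance instNoethCpl : IsNoetherianRing (EGA4.Cpl A) :=
  Groth.Agent.Helper8.AdicReg.isNoetherianRing A _

/-- the completion is faithfully flat. -/
local instance instFFCpl : Module.FaithfullyFlat A (EGA4.Cpl A) :=
  Module.FaithfullyFlat.of_flat_of_isLocalHom

/-- The data of the construction: a minimal prime `Q` of the completion with `V(Q) = {Q, 𝔪̂}`,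
ideals `𝔞 ⊆ Q`, `𝔟` with `𝔞𝔟 = 0` and `𝔪̂^k ⊆ 𝔞 + 𝔟`, a decomposition `a^k = α + β`, and a descent
`β = b + a^k δ`. -/
structure Setup where
  Q : Ideal (EGA4.Cpl A)
  hQ : Q ∈ minimalPrimes (EGA4.Cpl A)
  hdim : ∀ P : Ideal (EGA4.Cpl A), P.IsPrime → Q ≤ P → P = Q ∨ P = maximalIdeal (EGA4.Cpl A)
  𝔞 : Ideal (EGA4.Cpl A)
  𝔟 : Ideal (EGA4.Cpl A)
  h𝔞Q : 𝔞 ≤ Q
  hQ𝔞 : ∀ P : Ideal (EGA4.Cpl A), P.IsPrime → 𝔞 ≤ P → Q ≤ P
  hmul : ∀ x ∈ 𝔞, ∀ y ∈ 𝔟, x * y = 0
  k : ℕ
  hk : maximalIdeal (EGA4.Cpl A) ^ k ≤ 𝔞 ⊔ 𝔟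
  a : A
  ha : a ∈ maximalIdeal A
  ha0 : a ≠ 0
  α : EGA4.Cpl A
  β : EGA4.Cpl A
  hα : α ∈ 𝔞
  hβ : β ∈ 𝔟
  hαβ : α + β = algebraMap A (EGA4.Cpl A) a ^ k
  b : A
  δ : EGA4.Cpl A
  hδ : δ ∈ maximalIdeal (EGA4.Cpl A)
  hb : β = algebraMap A (EGA4.Cpl A) b + algebraMap A (EGA4.Cpl A) a ^ k * δ

namespace Setup

variable {A} (S : Setup A)

/-- the image of `a` in the completion. -/
noncomputable abbrev a' : EGA4.Cpl A := algebraMap A (EGA4.Cpl A) S.a

/-- the localization `Â_a`. -/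
abbrev L : Type u := Localization.Away S.a'

/-- the map `Â → Â_a`. -/
noncomputable abbrev ιL : EGA4.Cpl A →+* S.L := algebraMap (EGA4.Cpl A) S.L

theorem a'_mem_nonZeroDivisors : S.a' ∈ nonZeroDivisors (EGA4.Cpl A) := by
  have h1 : IsSMulRegular A S.a := IsSMulRegular.of_ne_zero S.ha0
  have h2 : IsSMulRegular (EGA4.Cpl A) S.a' := h1.of_flat
  rw [← isRegular_iff_mem_nonZeroDivisors]
  exact (Commute.isRegular_iff (Commute.all _)).mpr h2

theorem ιL_injective : Function.Injective S.ιL :=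
  algebraMap_injective_of_mem_nonZeroDivisors S.a S.a'_mem_nonZeroDivisors

/-- the inverse of `a` in `Â_a`. -/
noncomputable abbrev inv : S.L := IsLocalization.Away.invSelf S.a'

theorem ιL_a'_mul_inv : S.ιL S.a' * S.inv = 1 := IsLocalization.Away.mul_invSelf S.a'

theorem ιL_pow_mul_inv_pow : S.ιL (S.a' ^ S.k) * S.inv ^ S.k = 1 := by
  rw [map_pow, ← mul_pow, ιL_a'_mul_inv, one_pow]

/-- the idempotent `f = β / a^k`. -/
noncomputable def f : S.L := S.ιL S.β * S.inv ^ S.k

theorem mul_f {X Y : S.L} (h : X * S.ιL S.β = Y * S.ιL (S.a' ^ S.k)) : X * S.f = Y := by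
  rw [f, ← mul_assoc, h, mul_assoc, ιL_pow_mul_inv_pow, mul_one]

theorem f_mul_pow : S.f * S.ιL (S.a' ^ S.k) = S.ιL S.β := by
  rw [f, mul_assoc, mul_comm (S.inv ^ S.k), ιL_pow_mul_inv_pow, mul_one]

theorem β_mul_pow : S.β * S.a' ^ S.k = S.β * S.β := by
  rw [← S.hαβ, mul_add, mul_comm S.β S.α, S.hmul _ S.hα _ S.hβ, zero_add]

theorem f_mul_f : S.f * S.f = S.f := by
  apply S.mul_f
  rw [f_mul_pow, f, mul_right_comm, ← map_mul, ← β_mul_pow, map_mul, mul_assoc,
    ιL_pow_mul_inv_pow, mul_one]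

theorem map_mul_f {α' β' : EGA4.Cpl A} (hα' : α' ∈ S.𝔞) (hβ' : β' ∈ S.𝔟) :
    S.ιL (α' + β') * S.f = S.ιL β' := by
  apply S.mul_f
  rw [← map_mul, ← map_mul]
  congr 1
  rw [add_mul, S.hmul _ hα' _ S.hβ, zero_add, ← S.hαβ, mul_add, mul_comm β' S.α,
    S.hmul _ S.hα _ hβ', zero_add]

/-- the subring `B = A_a ∩ (Â + Âf)` of `A_a`. -/
noncomputable def B : Subalgebra A (Localization.Away S.a) where
  carrier := {z | ∃ u v : EGA4.Cpl A, phi (R := EGA4.Cpl A) S.a z = S.ιL u + S.ιL v * S.f}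
  mul_mem' := by
    rintro z z' ⟨u, v, h⟩ ⟨u', v', h'⟩
    refine ⟨u * u', u * v' + v * u' + v * v', ?_⟩
    rw [map_mul, h, h']
    simp only [map_add, map_mul]
    linear_combination (S.ιL v * S.ιL v') * S.f_mul_f
  add_mem' := by
    rintro z z' ⟨u, v, h⟩ ⟨u', v', h'⟩
    exact ⟨u + u', v + v', by rw [map_add, h, h']; simp only [map_add]; ring⟩
  algebraMap_mem' := fun r => ⟨algebraMap A _ r, 0, by rw [phi_algebraMap]; simp⟩

theorem mem_B {z : Localization.Away S.a} :
    z ∈ S.B ↔ ∃ u v : EGA4.Cpl A, phi (R := EGA4.Cpl A) S.a z = S.ιL u + S.ιL v * S.f :=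
  Iff.rfl

/-- the inverse of `a` in `A_a`. -/
noncomputable abbrev invA : Localization.Away S.a := IsLocalization.Away.invSelf S.a

theorem phi_invA : phi (R := EGA4.Cpl A) S.a S.invA = S.inv := by
  have h1 : algebraMap A (Localization.Away S.a) S.a * S.invA = 1 :=
    IsLocalization.Away.mul_invSelf S.a
  have h2 := congrArg (phi (R := EGA4.Cpl A) S.a) h1
  rw [map_mul, phi_algebraMap, map_one] at h2
  calc phi (R := EGA4.Cpl A) S.a S.invA
      = (S.ιL S.a' * S.inv) * phi (R := EGA4.Cpl A) S.a S.invA := by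
        rw [ιL_a'_mul_inv, one_mul]
    _ = S.inv * (S.ιL S.a' * phi (R := EGA4.Cpl A) S.a S.invA) := by ring
    _ = S.inv := by rw [h2, mul_one]

theorem pow_mul_invA_pow :
    algebraMap A (Localization.Away S.a) (S.a ^ S.k) * S.invA ^ S.k = 1 := by
  rw [map_pow, ← mul_pow, IsLocalization.Away.mul_invSelf, one_pow]

theorem exists_eq_mul_pow {z : Localization.Away S.a} (hz : z ∈ S.B) :
    ∃ r : A, algebraMap A (Localization.Away S.a) r =
      z * algebraMap A (Localization.Away S.a) (S.a ^ S.k) := by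
  obtain ⟨u, v, h⟩ := hz
  have h1 : phi (R := EGA4.Cpl A) S.a (z * algebraMap A (Localization.Away S.a) (S.a ^ S.k)) =
      S.ιL (u * S.a' ^ S.k + v * S.β) := by
    rw [map_mul, phi_algebraMap, h, map_pow, map_add, map_mul, map_mul, ← S.f_mul_pow]
    ring
  obtain ⟨r, hr, -⟩ := exists_of_phi_eq S.a S.a'_mem_nonZeroDivisors _ _ h1
  exact ⟨r, hr⟩

theorem toSubmodule_B_le :
    Subalgebra.toSubmodule S.B ≤ Submodule.span A {S.invA ^ S.k} := by
  intro z hz
  obtain ⟨r, hr⟩ := S.exists_eq_mul_pow hz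
  rw [Submodule.mem_span_singleton]
  refine ⟨r, ?_⟩
  rw [Algebra.smul_def, hr, mul_assoc, pow_mul_invA_pow, mul_one]

instance finite_B : Module.Finite A S.B := by
  haveI : IsNoetherian A (Submodule.span A {S.invA ^ S.k}) :=
    isNoetherian_span_of_finite A (Set.finite_singleton _)
  haveI : IsNoetherian A (Subalgebra.toSubmodule S.B) := isNoetherian_of_le S.toSubmodule_B_le
  exact Module.Finite.equiv (Subalgebra.toSubmoduleEquiv S.B)

/-- the element `x' = b / a^k`. -/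
noncomputable def x' : Localization.Away S.a :=
  algebraMap A (Localization.Away S.a) S.b * S.invA ^ S.k

theorem phi_x' : phi (R := EGA4.Cpl A) S.a S.x' = S.f - S.ιL S.δ := by
  rw [x', map_mul, map_pow, phi_algebraMap, phi_invA, f, S.hb, map_add, map_mul, add_mul,
    mul_right_comm, ιL_pow_mul_inv_pow, one_mul]
  ring

/-- the element `t = 1 - x'`. -/
noncomputable def t : Localization.Away S.a := 1 - S.x'

theorem phi_t : phi (R := EGA4.Cpl A) S.a S.t = 1 - S.f + S.ιL S.δ := by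
  rw [t, map_sub, map_one, phi_x']
  ring

theorem t_mem_B : S.t ∈ S.B := by
  refine ⟨1 + S.δ, -1, ?_⟩
  rw [phi_t, map_add, map_one, map_neg, map_one]
  ring

theorem isUnit_one_sub_of_mem {x : EGA4.Cpl A} (hx : x ∈ maximalIdeal (EGA4.Cpl A)) :
    IsUnit (1 - x) :=
  IsLocalRing.isUnit_one_sub_self_of_mem_nonunits x hx

theorem f_ne_zero : S.f ≠ 0 := by
  intro h0
  have h1 : S.ιL S.β = 0 := by rw [← S.f_mul_pow, h0, zero_mul]
  have h2 : S.β = 0 := S.ιL_injective (by rw [h1, map_zero])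
  have h3 : S.a' ^ S.k ∈ S.Q := by
    rw [← S.hαβ, h2, add_zero]
    exact S.h𝔞Q S.hα
  haveI := S.hQ.1.1
  have h4 : S.a' ∈ S.Q := Ideal.IsPrime.mem_of_pow_mem inferInstance _ h3
  exact Set.disjoint_left.mp (Ideal.disjoint_nonZeroDivisors_of_mem_minimalPrimes S.hQ) h4
    S.a'_mem_nonZeroDivisors

instance isDomain_away : IsDomain (Localization.Away S.a) :=
  IsLocalization.isDomain_localization
    (Submonoid.powers_le.mpr (mem_nonZeroDivisors_of_ne_zero S.ha0))

/-- `t` as an element of `B`. -/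
noncomputable def tB : S.B := ⟨S.t, S.t_mem_B⟩

theorem not_isUnit_tB : ¬ IsUnit S.tB := by
  intro hu
  obtain ⟨⟨w₀, u', v', hw⟩, hw1⟩ := isUnit_iff_exists_inv.mp hu
  have h1 : S.t * w₀ = 1 := congrArg Subtype.val hw1
  have h2 := congrArg (phi (R := EGA4.Cpl A) S.a) h1
  rw [map_mul, map_one, phi_t, hw] at h2
  have h3 : S.ιL (1 - S.δ * (u' + v')) * S.f = 0 := by
    simp only [map_sub, map_one, map_mul, map_add]
    linear_combination (-S.f) * h2 +
      (S.ιL S.δ * S.ιL v' - S.ιL u' - S.ιL v' * S.f) * S.f_mul_f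
  have hunit : IsUnit (S.ιL (1 - S.δ * (u' + v'))) :=
    (isUnit_one_sub_of_mem (Ideal.mul_mem_right _ _ S.hδ)).map S.ιL
  exact S.f_ne_zero (hunit.mul_right_eq_zero.mp h3)

theorem f_eq_one_of_t_eq_zero (h : S.t = 0) : S.f = 1 := by
  have h2 := congrArg (phi (R := EGA4.Cpl A) S.a) h
  rw [phi_t, map_zero] at h2
  have h3 : S.ιL (1 - (-S.δ)) * (1 - S.f) = 0 := by
    simp only [map_sub, map_one, map_neg]
    linear_combination (1 - S.f) * h2 - S.f_mul_f
  have hunit : IsUnit (S.ιL (1 - (-S.δ))) :=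
    (isUnit_one_sub_of_mem (Ideal.neg_mem_iff _ |>.mpr S.hδ)).map S.ιL
  have := hunit.mul_right_eq_zero.mp h3
  exact (sub_eq_zero.mp this).symm

theorem forall_prime_of_f_eq_one (h : S.f = 1) (P : Ideal (EGA4.Cpl A)) (hP : P.IsPrime) :
    P = S.Q ∨ P = maximalIdeal (EGA4.Cpl A) := by
  have h1 : S.ιL S.β = S.ιL (S.a' ^ S.k) := by rw [← S.f_mul_pow, h, one_mul]
  have h2 : S.β = S.a' ^ S.k := S.ιL_injective h1
  have h3 : S.𝔞 = ⊥ := by
    rw [eq_bot_iff]
    intro x hx
    have h4 := S.hmul x hx S.β S.hβ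
    rw [h2] at h4
    rw [Ideal.mem_bot]
    exact (mul_right_mem_nonZeroDivisors_eq_zero_iff
      (pow_mem S.a'_mem_nonZeroDivisors S.k)).mp h4
  exact S.hdim P hP (S.hQ𝔞 P hP (h3 ▸ bot_le))

theorem map_mem_maximalIdeal {s : A} (hs : s ∈ maximalIdeal A) :
    algebraMap A (EGA4.Cpl A) s ∈ maximalIdeal (EGA4.Cpl A) := by
  rw [AdicCompletion.maximalIdeal_eq_map (R := A)]
  exact Ideal.mem_map_of_mem _ hs

/-- Every prime of `B` containing `t` lies over the maximal ideal. -/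
theorem comap_eq_maximalIdeal
    (hbig : ¬ ∀ P' : Ideal (EGA4.Cpl A), P'.IsPrime →
      P' = S.Q ∨ P' = maximalIdeal (EGA4.Cpl A))
    (P : Ideal S.B) [hP : P.IsPrime] (ht : S.tB ∈ P) :
    P.comap (algebraMap A S.B) = maximalIdeal A := by
  by_contra hne
  haveI hpprime : (P.comap (algebraMap A S.B)).IsPrime := Ideal.comap_isPrime _ _
  have hpm : P.comap (algebraMap A S.B) ≤ maximalIdeal A :=
    IsLocalRing.le_maximalIdeal (Ideal.IsPrime.ne_top inferInstance)
  obtain ⟨s, hsm, hsp⟩ := SetLike.exists_of_lt (lt_of_le_of_ne hpm hne)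
  have h1 : algebraMap A (EGA4.Cpl A) (s ^ S.k) ∈ maximalIdeal (EGA4.Cpl A) ^ S.k := by
    rw [map_pow]
    exact Ideal.pow_mem_pow (map_mem_maximalIdeal hsm) _
  obtain ⟨αs, hαs, βs, hβs, hsum⟩ := Submodule.mem_sup.mp (S.hk h1)
  have h2 : phi (R := EGA4.Cpl A) S.a (algebraMap A _ (s ^ S.k) * S.t) =
      S.ιL (αs + algebraMap A (EGA4.Cpl A) (s ^ S.k) * S.δ) := by
    rw [map_mul, phi_algebraMap, phi_t, ← hsum]
    have := S.map_mul_f hαs hβs
    simp only [map_add, map_mul] at this ⊢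
    linear_combination (-1 : S.L) * this
  obtain ⟨r, hr1, hr2⟩ := exists_of_phi_eq S.a S.a'_mem_nonZeroDivisors _ _ h2
  have hrp : r ∈ P.comap (algebraMap A S.B) := by
    change algebraMap A S.B r ∈ P
    have : algebraMap A S.B r = algebraMap A S.B (s ^ S.k) * S.tB := Subtype.ext hr1
    rw [this]
    exact Ideal.mul_mem_left _ _ ht
  obtain ⟨p', hp'prime, hp'over⟩ :=
    Ideal.exists_isPrime_liesOver_of_faithfullyFlat (B := EGA4.Cpl A)
      (P.comap (algebraMap A S.B))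
  have hcomap : ∀ x : A, x ∈ P.comap (algebraMap A S.B) ↔ algebraMap A (EGA4.Cpl A) x ∈ p' := by
    intro x
    conv_lhs => rw [hp'over.over]
    rfl
  have hrp' : αs + algebraMap A (EGA4.Cpl A) (s ^ S.k) * S.δ ∈ p' := by
    rw [← hr2]
    exact (hcomap r).mp hrp
  have hz : αs * βs ∈ p' := by
    rw [S.hmul _ hαs _ hβs]
    exact p'.zero_mem
  have hunit : IsUnit (1 - (-S.δ)) := isUnit_one_sub_of_mem (Ideal.neg_mem_iff _ |>.mpr S.hδ)
  have hβnot : βs ∉ p' := by
    intro hβ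
    have h3 : (1 - (-S.δ)) * αs ∈ p' := by
      have : (1 - (-S.δ)) * αs =
          (αs + algebraMap A (EGA4.Cpl A) (s ^ S.k) * S.δ) - S.δ * βs := by
        rw [← hsum]; ring
      rw [this]
      exact Ideal.sub_mem _ hrp' (Ideal.mul_mem_left _ _ hβ)
    have h4 : αs ∈ p' := (hp'prime.mem_or_mem h3).resolve_left
      (fun h => hp'prime.ne_top (Ideal.eq_top_of_isUnit_mem _ h hunit))
    have h5 : algebraMap A (EGA4.Cpl A) (s ^ S.k) ∈ p' := by
      rw [← hsum]; exact Ideal.add_mem _ h4 hβ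
    have h6 : s ^ S.k ∈ P.comap (algebraMap A S.B) := (hcomap _).mpr h5
    exact hsp (Ideal.IsPrime.mem_of_pow_mem inferInstance _ h6)
  have h𝔞 : S.𝔞 ≤ p' := fun x hx => by
    have : x * βs ∈ p' := by
      rw [S.hmul x hx βs hβs]
      exact p'.zero_mem
    exact (hp'prime.mem_or_mem this).resolve_right hβnot
  rcases S.hdim p' hp'prime (S.hQ𝔞 p' hp'prime h𝔞) with hQ | hm
  · -- `p' = Q`
    have h7 : P.comap (algebraMap A S.B) = ⊥ := by
      have h8 : S.Q.under A ∈ minimalPrimes A :=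
        Groth.Agent.Helper8.FC.under_mem_minimalPrimes S.Q S.hQ
      rw [IsDomain.minimalPrimes_eq_singleton_bot, Set.mem_singleton_iff] at h8
      rw [hp'over.over, hQ]
      exact h8
    have h9 : P = ⊥ := Ideal.eq_bot_of_comap_eq_bot h7
    have h10 : S.tB = 0 := by
      rw [h9] at ht
      exact (Ideal.mem_bot).mp ht
    have h11 : S.t = 0 := congrArg Subtype.val h10
    exact hbig (S.forall_prime_of_f_eq_one (S.f_eq_one_of_t_eq_zero h11))
  · -- `p' = 𝔪̂`
    apply hsp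
    rw [hcomap, hm]
    exact map_mem_maximalIdeal hsm

/-- `B` has a maximal ideal of height at most one. -/
theorem exists_isMaximal_height_le_one
    (hbig : ¬ ∀ P' : Ideal (EGA4.Cpl A), P'.IsPrime →
      P' = S.Q ∨ P' = maximalIdeal (EGA4.Cpl A)) :
    ∃ n : Ideal S.B, n.IsMaximal ∧ n.height ≤ 1 := by
  haveI : IsNoetherianRing S.B :=
    isNoetherian_of_tower A (isNoetherian_of_isNoetherianRing_of_finite A S.B)
  have hne : Ideal.span {S.tB} ≠ ⊤ := by
    rw [Ne, Ideal.span_singleton_eq_top]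
    exact S.not_isUnit_tB
  obtain ⟨n, hn, hle⟩ := Ideal.exists_le_maximal _ hne
  refine ⟨n, hn, ?_⟩
  have htn : S.tB ∈ n := hle (Ideal.mem_span_singleton_self _)
  have hmin : n ∈ (Ideal.span {S.tB}).minimalPrimes := by
    refine ⟨⟨hn.isPrime, hle⟩, ?_⟩
    rintro P' ⟨hP'prime, hP'le⟩ hP'n
    haveI := hP'prime
    have htP' : S.tB ∈ P' := hP'le (Ideal.mem_span_singleton_self _)
    have h1 := S.comap_eq_maximalIdeal hbig P' htP'
    have h2 : (P'.comap (algebraMap A S.B)).IsMaximal := by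
      rw [h1]; exact maximalIdeal.isMaximal A
    have h3 : P'.IsMaximal := Ideal.isMaximal_of_isIntegral_of_isMaximal_comap P' h2
    exact (h3.eq_of_le hn.ne_top hP'n).ge
  exact Ideal.height_le_one_of_isPrincipal_of_mem_minimalPrimes _ n hmin

include S in
/-- **The one-dimensional case of Ratliff's theorem.** -/
theorem ringKrullDim_le_one (hUC : CAlg.IsUniversallyCatenary A) : ringKrullDim A ≤ 1 := by
  by_cases hbig : ∀ P' : Ideal (EGA4.Cpl A), P'.IsPrime →
      P' = S.Q ∨ P' = maximalIdeal (EGA4.Cpl A)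
  · rw [← Groth.Agent.Helper8.FC.ringKrullDim_cpl A]
    have : Ring.KrullDimLE 1 (EGA4.Cpl A) := by
      rw [Ring.krullDimLE_one_iff]
      intro I hI
      rcases hbig I hI with h | h
      · exact Or.inl (h ▸ S.hQ)
      · exact Or.inr (h ▸ maximalIdeal.isMaximal _)
    exact_mod_cast Ring.krullDimLE_iff.mp this
  · obtain ⟨n, hn, hht⟩ := S.exists_isMaximal_height_le_one hbig
    haveI := hn
    haveI : n.LiesOver (maximalIdeal A) := by
      haveI := Ideal.isMaximal_comap_of_isIntegral_of_isMaximal (R := A) n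
      exact ⟨(IsLocalRing.eq_maximalIdeal inferInstance).symm⟩
    haveI : FaithfulSMul A S.B := by
      rw [faithfulSMul_iff_algebraMap_injective]
      intro x y hxy
      have h1 : algebraMap A (Localization.Away S.a) x = algebraMap A (Localization.Away S.a) y :=
        congrArg Subtype.val hxy
      exact IsLocalization.injective (Localization.Away S.a)
        (Submonoid.powers_le.mpr (mem_nonZeroDivisors_of_ne_zero S.ha0)) h1
    have h := Groth.Agent.Lib.Helper4.DimEq1.S0555_main A hUC S.B (maximalIdeal A) n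
    haveI : Algebra.IsAlgebraic A S.B := Algebra.IsIntegral.isAlgebraic
    haveI : Algebra.IsAlgebraic (A ⧸ maximalIdeal A) (S.B ⧸ n) := Algebra.IsIntegral.isAlgebraic
    rw [_root_.trdeg_eq_zero, _root_.trdeg_eq_zero, add_zero, add_zero, Cardinal.ofENat_inj] at h
    rw [← IsLocalRing.maximalIdeal_height_eq_ringKrullDim, ← h]
    exact_mod_cast hht

end Setup

/-- **The one-dimensional case of Ratliff's theorem**: if the completion of a universally
catenary Noetherian local domain `A` has a minimal prime `Q` with `V(Q) = {Q, 𝔪̂}`, then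
`dim A ≤ 1`. -/
theorem ringKrullDim_le_one_of_minimalPrime (hUC : CAlg.IsUniversallyCatenary A)
    (Q : Ideal (EGA4.Cpl A)) (hQ : Q ∈ minimalPrimes (EGA4.Cpl A))
    (hdim : ∀ P : Ideal (EGA4.Cpl A), P.IsPrime → Q ≤ P →
      P = Q ∨ P = maximalIdeal (EGA4.Cpl A)) :
    ringKrullDim A ≤ 1 := by
  by_cases hm : maximalIdeal A = ⊥
  · rw [← IsLocalRing.maximalIdeal_height_eq_ringKrullDim, hm, Ideal.height_bot]
    simp
  obtain ⟨a, ha, ha0⟩ := Submodule.exists_mem_ne_zero_of_ne_bot hm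
  haveI hQprime : Q.IsPrime := hQ.1.1
  obtain ⟨n, s, hsQ, hs⟩ :=
    Groth.Agent.Helper8.PushCoh.exists_pow_mul_le_of_mem_minimalPrimes (I := ⊥) hQ
  have h𝔞Q : Q ^ (n + 1) ≤ Q := Ideal.pow_le_self (Nat.succ_ne_zero n)
  have hQ𝔞 : ∀ P : Ideal (EGA4.Cpl A), P.IsPrime → Q ^ (n + 1) ≤ P → Q ≤ P :=
    fun P hP h => hP.le_of_pow_le h
  have hmul : ∀ x ∈ Q ^ (n + 1), ∀ y ∈ Ideal.span {s}, x * y = 0 := by
    intro x hx y hy
    obtain ⟨c, rfl⟩ := Ideal.mem_span_singleton'.mp hy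
    have h1 : s * x = 0 := by
      have := hs x (Ideal.pow_le_pow_right (Nat.le_succ n) hx)
      exact (Ideal.mem_bot).mp this
    rw [mul_left_comm, mul_comm x s, h1, mul_zero]
  have hrad : maximalIdeal (EGA4.Cpl A) ≤ (Q ^ (n + 1) ⊔ Ideal.span {s}).radical := by
    rw [Ideal.radical_eq_sInf]
    refine le_sInf ?_
    rintro P ⟨hle, hP⟩
    rcases hdim P hP (hQ𝔞 P hP (le_sup_left.trans hle)) with h | h
    · exfalso
      apply hsQ
      rw [← h]
      exact hle (Ideal.mem_sup_right (Ideal.mem_span_singleton_self s))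
    · exact h.ge
  obtain ⟨k, hk⟩ := Ideal.exists_pow_le_of_le_radical_of_fg hrad
    (IsNoetherian.noetherian (maximalIdeal (EGA4.Cpl A)))
  have hak : algebraMap A (EGA4.Cpl A) a ^ k ∈ maximalIdeal (EGA4.Cpl A) ^ k :=
    Ideal.pow_mem_pow (Setup.map_mem_maximalIdeal ha) _
  obtain ⟨α, hα, β, hβ, hαβ⟩ := Submodule.mem_sup.mp (hk hak)
  have hdesc : ∀ y ∈ (maximalIdeal A) ^ k, ∃ γ : EGA4.Cpl A,
      algebraMap A (EGA4.Cpl A) y * β = algebraMap A (EGA4.Cpl A) (a ^ k) * γ := by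
    intro y hy
    have hy' : algebraMap A (EGA4.Cpl A) y ∈ maximalIdeal (EGA4.Cpl A) ^ k := by
      rw [← map_pow_maximalIdeal]
      exact Ideal.mem_map_of_mem _ hy
    obtain ⟨α', hα', β', hβ', hsum⟩ := Submodule.mem_sup.mp (hk hy')
    refine ⟨β', ?_⟩
    rw [← hsum, map_pow, ← hαβ, add_mul, hmul α' hα' β hβ, zero_add, add_mul,
      hmul α hα β' hβ', zero_add, mul_comm]
  obtain ⟨b₀, γ₀, hb₀⟩ := exists_eq_add_of_pow_mul_mem A (a ^ k) β k hdesc
  obtain ⟨c₀, hc₀⟩ := exists_sub_mem_pow A 1 γ₀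
  rw [pow_one] at hc₀
  let S : Setup A :=
    { Q := Q, hQ := hQ, hdim := hdim, 𝔞 := Q ^ (n + 1), 𝔟 := Ideal.span {s}, h𝔞Q := h𝔞Q,
      hQ𝔞 := hQ𝔞, hmul := hmul, k := k, hk := hk, a := a, ha := ha, ha0 := ha0, α := α, β := β,
      hα := hα, hβ := hβ, hαβ := hαβ, b := b₀ + a ^ k * c₀,
      δ := γ₀ - algebraMap A (EGA4.Cpl A) c₀, hδ := hc₀,
      hb := by
        rw [hb₀, map_add, map_mul, map_pow]
        ring }
  exact S.ringKrullDim_le_one hUC

end setup

end Groth.Agent.Helper8.Ratliff
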