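import Groth.Agent.Lib.Helper8.ExtLoc5

/-!
# Reflexive modules over Gorenstein rings of dimension one
-/

set_option autoImplicit false
universe u

namespace Groth.Agent.Helper8.Refl

open CategoryTheory Abelian LocCoh

variable (S : Type u) [CommRing S] [IsNoetherianRing S]

/-- a finite reflexive (torsionless suffices) module over a Noetherian ring embeds in a finite
free module. -/
theorem exists_injective_to_free (M : Type u) [AddCommGroup M] [Module S M] [Module.Finite S M]
    (hinj : Function.Injective (Module.Dual.eval S M)) :
    ∃ (k : ℕ) (f : M →ₗ[S] (Fin k → S)), Function.Injective f := by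
  obtain ⟨n, π, hπ⟩ := Module.Finite.exists_fin' S M
  -- the dual is finite
  have hfin : Module.Finite S (Module.Dual S M) := by
    have hinj' : Function.Injective π.dualMap :=
      LinearMap.dualMap_injective_of_surjective hπ
    exact Module.Finite.of_injective _ hinj'
  obtain ⟨k, ρ, hρ⟩ := Module.Finite.exists_fin' S (Module.Dual S M)
  refine ⟨k, LinearMap.pi (fun i => ρ (Pi.single i 1)), ?_⟩
  rw [← LinearMap.ker_eq_bot, LinearMap.ker_eq_bot']
  intro m hm
  apply hinj
  rw [map_zero]
  apply LinearMap.ext
  intro φ
  obtain ⟨v, rfl⟩ := hρ φ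
  rw [Module.Dual.eval_apply, LinearMap.zero_apply]
  have hv : v = ∑ i, v i • (Pi.single i (1 : S) : Fin k → S) := by
    ext j
    simp [Finset.sum_apply, Pi.single_apply]
  rw [hv, map_sum, LinearMap.sum_apply]
  apply Finset.sum_eq_zero
  intro i _
  rw [map_smul, LinearMap.smul_apply]
  have := congrFun hm i
  rw [LinearMap.pi_apply] at this
  rw [this]
  simp

/-- a torsionless finite module over a Noetherian ring with `id S ≤ 1` has `Ext¹(M, S) = 0`. -/
theorem ext_one_subsingleton_of_torsionless
    (h2 : HasInjectiveDimensionLT (ModuleCat.of S S) 2)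
    (M : Type u) [AddCommGroup M] [Module S M] [Module.Finite S M]
    (hinj : Function.Injective (Module.Dual.eval S M)) :
    Subsingleton (Ext (ModuleCat.of S M) (ModuleCat.of S S) 1) := by
  obtain ⟨k, f, hf⟩ := exists_injective_to_free S M hinj
  let T : ShortComplex (ModuleCat.{u} S) :=
    ModuleCat.shortComplexOfCompEqZero f (LinearMap.range f).mkQ (by
      apply LinearMap.ext
      intro x
      exact (Submodule.Quotient.mk_eq_zero _).mpr ⟨x, rfl⟩)
  have hT : T.ShortExact :=
    ModuleCat.shortComplex_shortExact _ (LinearMap.exact_map_mkQ_range f) hf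
      (Submodule.mkQ_surjective _)
  have hproj : Projective T.X₂ := by
    have : Module.Projective S (Fin k → S) := inferInstance
    exact (ModuleCat.of S (Fin k → S)).projective_of_categoryTheory_projective
  have h3 : Subsingleton (Ext T.X₃ (ModuleCat.of S S) 2) :=
    HasInjectiveDimensionLT.subsingleton (ModuleCat.of S S) 2 2 le_rfl _
  refine ⟨fun a b => ?_⟩
  have key : ∀ x : Ext T.X₁ (ModuleCat.of S S) 1, x = 0 := by
    intro x
    obtain ⟨y, hy⟩ := Ext.contravariant_sequence_exact₁ hT (ModuleCat.of S S) x
      (by norm_num : 1 + 1 = 2) (Subsingleton.elim _ _)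
    rw [← hy, Ext.eq_zero_of_projective y, Ext.comp_zero]
  exact (key a).trans (key b).symm

/-- over a Gorenstein ring of dimension one, a finite reflexive module has `Ext¹(M, S) = 0`. -/
theorem ext_one_subsingleton_of_reflexive (hG : IsGorensteinRing S) (hdim : ringKrullDim S = 1)
    (M : Type u) [AddCommGroup M] [Module S M] [Module.Finite S M] [Module.IsReflexive S M] :
    Subsingleton (Ext (ModuleCat.of S M) (ModuleCat.of S S) 1) := by
  apply ext_one_subsingleton_of_torsionless S _ M (Module.bijective_dual_eval S M).1
  apply Groth.Agent.Helper8.ExtLoc.hasInjectiveDimensionLT_of_isGorensteinRing S hG 1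
  rw [hdim]
  rfl

end Groth.Agent.Helper8.Refl
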