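import Groth.Agent.Lib.Helper8.Refl3
import Groth.Agent.Lib.Helper8.Refl1

/-!
# Torsionless modules over rings of injective dimension at most one are reflexive
-/

set_option autoImplicit false
universe u

namespace Groth.Agent.Helper8.Refl

open CategoryTheory Abelian LocCoh

variable (S : Type u) [CommRing S]

/-- If `Ext¹(X₂ / f X₁, Y) = 0`, every map `X₁ → Y` extends along the injection `f : X₁ → X₂`. -/
theorem exists_extension_of_ext_one {X₁ X₂ Y : Type u} [AddCommGroup X₁] [Module S X₁]
    [AddCommGroup X₂] [Module S X₂] [AddCommGroup Y] [Module S Y]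
    (f : X₁ →ₗ[S] X₂) (hf : Function.Injective f)
    (h : Subsingleton (Ext (ModuleCat.of S (X₂ ⧸ LinearMap.range f)) (ModuleCat.of S Y) 1))
    (g : X₁ →ₗ[S] Y) : ∃ ψ : X₂ →ₗ[S] Y, ψ ∘ₗ f = g := by
  let T : ShortComplex (ModuleCat.{u} S) :=
    ModuleCat.shortComplexOfCompEqZero f (LinearMap.range f).mkQ (by
      apply LinearMap.ext
      intro x
      exact (Submodule.Quotient.mk_eq_zero _).mpr ⟨x, rfl⟩)
  have hT : T.ShortExact :=
    ModuleCat.shortComplex_shortExact _ (LinearMap.exact_map_mkQ_range f) hf
      (Submodule.mkQ_surjective _)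
  have : Subsingleton (Ext T.X₃ (ModuleCat.of S Y) 1) := h
  obtain ⟨x₂, hx₂⟩ := Ext.contravariant_sequence_exact₁ hT (ModuleCat.of S Y)
    (Ext.mk₀ (ModuleCat.ofHom g)) (by norm_num : 1 + 0 = 1) (Subsingleton.elim _ _)
  obtain ⟨ψ, rfl⟩ := (Ext.mk₀_bijective _ _).2 x₂
  rw [Ext.mk₀_comp_mk₀, (Ext.mk₀_bijective _ _).1.eq_iff] at hx₂
  refine ⟨ψ.hom, ?_⟩
  apply LinearMap.ext
  intro x
  have h1 := congrArg (fun f => f.hom x) hx₂
  exact h1

/-- The dual of any module is torsionless. -/
theorem eval_dual_injective (K : Type u) [AddCommGroup K] [Module S K] :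
    Function.Injective (Module.Dual.eval S (Module.Dual S K)) := by
  intro φ₁ φ₂ h
  apply LinearMap.ext
  intro x
  have h1 := LinearMap.congr_fun h (Module.Dual.eval S K x)
  simpa [Module.Dual.eval_apply] using h1

/-- A submodule of a torsionless module is torsionless. -/
theorem eval_injective_of_injective {C X : Type u} [AddCommGroup C] [Module S C]
    [AddCommGroup X] [Module S X] (j : C →ₗ[S] X) (hj : Function.Injective j)
    (hX : Function.Injective (Module.Dual.eval S X)) :
    Function.Injective (Module.Dual.eval S C) := by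
  rw [injective_iff_map_eq_zero]
  intro c hc
  apply hj
  rw [map_zero]
  apply hX
  rw [map_zero]
  apply LinearMap.ext
  intro φ
  have h1 := LinearMap.congr_fun hc (φ ∘ₗ j)
  simpa [Module.Dual.eval_apply] using h1

/-- A module embedding into a finite free module is torsionless. -/
theorem eval_injective_of_injective_to_free {M : Type u} [AddCommGroup M] [Module S M] (k : ℕ)
    (f : M →ₗ[S] (Fin k → S)) (hf : Function.Injective f) :
    Function.Injective (Module.Dual.eval S M) :=
  eval_injective_of_injective S f hf (Module.bijective_dual_eval S (Fin k → S)).1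

variable [IsNoetherianRing S]

/-- Over a Noetherian ring of self-injective dimension at most one, a finite torsionless module
is reflexive. -/
theorem isReflexive_of_torsionless
    (h2 : HasInjectiveDimensionLT (ModuleCat.of S S) 2)
    (M : Type u) [AddCommGroup M] [Module S M] [Module.Finite S M]
    (hinj : Function.Injective (Module.Dual.eval S M)) :
    Module.IsReflexive S M := by
  obtain ⟨n, π, hπ⟩ := Module.Finite.exists_fin' S M
  have hπd : Function.Injective π.dualMap := LinearMap.dualMap_injective_of_surjective hπ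
  -- the cokernel of `π*` embeds in the dual of `ker π`
  let K := LinearMap.ker π
  let j : (Module.Dual S (Fin n → S) ⧸ LinearMap.range π.dualMap) →ₗ[S] Module.Dual S K :=
    (LinearMap.range π.dualMap).liftQ K.subtype.dualMap (by
      rintro _ ⟨φ, rfl⟩
      rw [LinearMap.mem_ker]
      apply LinearMap.ext
      intro x
      simp only [LinearMap.dualMap_apply, Submodule.subtype_apply, LinearMap.zero_apply]
      rw [LinearMap.mem_ker.mp x.2, map_zero])
  have hj : Function.Injective j := by
    rw [← LinearMap.ker_eq_bot]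
    apply Submodule.ker_liftQ_eq_bot
    intro φ hφ
    rw [LinearMap.mem_ker] at hφ
    have hle : LinearMap.ker π ≤ LinearMap.ker φ := by
      intro x hx
      have := LinearMap.congr_fun hφ ⟨x, hx⟩
      simpa using this
    refine ⟨(LinearMap.ker π).liftQ φ hle ∘ₗ (π.quotKerEquivOfSurjective hπ).symm.toLinearMap, ?_⟩
    apply LinearMap.ext
    intro x
    simp only [LinearMap.dualMap_apply, LinearMap.coe_comp, LinearEquiv.coe_coe,
      Function.comp_apply]
    have : (π.quotKerEquivOfSurjective hπ).symm (π x) = Submodule.Quotient.mk x := by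
      rw [LinearEquiv.symm_apply_eq]
      rfl
    rw [this]
    rfl
  have hC : Function.Injective
      (Module.Dual.eval S (Module.Dual S (Fin n → S) ⧸ LinearMap.range π.dualMap)) :=
    eval_injective_of_injective S j hj (eval_dual_injective S K)
  have hExt := ext_one_subsingleton_of_torsionless S h2 _ hC
  refine ⟨⟨hinj, fun ψ => ?_⟩⟩
  obtain ⟨Ψ, hΨ⟩ := exists_extension_of_ext_one S π.dualMap hπd hExt ψ
  obtain ⟨g, hg⟩ := (Module.bijective_dual_eval S (Fin n → S)).2 Ψ
  refine ⟨π g, ?_⟩
  apply LinearMap.ext
  intro φ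
  rw [← hΨ, ← hg]
  simp [Module.Dual.eval_apply]

end Groth.Agent.Helper8.Refl
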