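import Mathlib
import Groth.Agent.Lib.Helper8.SimpExt2

/-!
# Simple extensions of the residue field of a local ring (no Noetherian hypothesis)
-/

set_option autoImplicit false

namespace Groth.Agent.Helper8.SimpExt

open IsLocalRing Polynomial

universe u

variable {K : Type u} [Field K]

/-- A ring with a map to `K` is weakly good when it is a local ring and the kernel of the map
is the maximal ideal. -/
def GoodRingW (B : Type u) [CommRing B] (φ : B →+* K) : Prop :=
  ∃ _ : IsLocalRing B, RingHom.ker φ = maximalIdeal B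

/-- The data of a simple extension (no Noetherian hypothesis). -/
structure ExtDataW (B : Type u) [CommRing B] (φ : B →+* K) (t : K) where
  /-- the new ring -/
  B' : Type u
  /-- its ring structure -/
  [ring : CommRing B']
  /-- the structure map -/
  f : B →+* B'
  /-- the new map to `K` -/
  φ' : B' →+* K
  comp : φ'.comp f = φ
  mem : t ∈ φ'.range
  good : GoodRingW B' φ'
  goodHom : GoodHom f

theorem nonempty_extDataW (B : Type u) [CommRing B] (φ : B →+* K) (hB : GoodRingW B φ) (t : K) :
    Nonempty (ExtDataW B φ t) := by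
  obtain ⟨hL, hφ⟩ := hB
  by_cases ht : φ.IsIntegralElem t
  · obtain ⟨F, hF1, hF2, hF3⟩ := exists_minPoly φ t ht
    haveI := isLocalRing_adjoinRoot φ hφ t F hF1 hF2 hF3
    exact ⟨{
      B' := AdjoinRoot F
      f := AdjoinRoot.of F
      φ' := AdjoinRoot.lift φ t hF2
      comp := RingHom.ext fun b => AdjoinRoot.lift_of hF2
      mem := ⟨AdjoinRoot.root F, AdjoinRoot.lift_root hF2⟩
      good := ⟨inferInstance, ker_lift_adjoinRoot φ hφ t F hF1 hF2 hF3⟩
      goodHom := ⟨hL, inferInstance, flat_of_adjoinRoot F hF1,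
        isLocalHom_of_adjoinRoot φ hφ t F hF1 hF2 hF3,
        map_maximalIdeal_adjoinRoot φ hφ t F hF1 hF2 hF3⟩ }⟩
  · exact ⟨{
      B' := Loc B
      f := algebraMap B (Loc B)
      φ' := liftLoc φ hφ t ht
      comp := liftLoc_comp φ hφ t ht
      mem := ⟨_, liftLoc_X φ hφ t ht⟩
      good := ⟨inferInstance, ker_liftLoc φ hφ t ht⟩
      goodHom := ⟨hL, inferInstance, RingHom.flat_algebraMap_iff.2 flat_loc, isLocalHom_loc,
        map_maximalIdeal_loc⟩ }⟩

end Groth.Agent.Helper8.SimpExt
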