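import Mathlib
import Groth.Agent.Lib.Helper8.SimpExtW
import Groth.Agent.Lib.Helper8.ColimLoc2

/-!
# Flat local extensions with prescribed residue field (EGA 0_III 10.3.1), part 1:
the successor structure (no Noetherian hypothesis)
-/

set_option autoImplicit false

namespace Groth.Agent.Helper8.ResExtW

open CategoryTheory CategoryTheory.Limits CategoryTheory.SmallObject IsLocalRing
open Groth.Agent.Helper8.SimpExt

universe u

attribute [instance] ExtDataW.ring

variable (K : Type u) [Field K]

/-- Rings equipped with a map to `K`. -/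
abbrev Cat : Type (u + 1) := Over (CommRingCat.of K)

variable {K}

/-- The structure map to `K` of an object. -/
abbrev str (X : Cat K) : X.left →+* K := X.hom.hom

/-- Good objects: Noetherian local rings whose residue field embeds into `K` via the map. -/
def GoodObj (X : Cat K) : Prop := GoodRingW (K := K) X.left (str X)

/-- An element of `K` outside the image, if there is one. -/
noncomputable def tOf (X : Cat K) : K := by
  classical
  exact if h : Function.Surjective (str X) then 0 else Classical.choose (not_forall.1 h)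

theorem tOf_not_mem (X : Cat K) (h : ¬ Function.Surjective (str X)) :
    tOf X ∉ Set.range (str X) := by
  classical
  rw [tOf, dif_neg h]
  intro hmem
  exact Classical.choose_spec (not_forall.1 h) hmem

theorem goodHom_id (B : Type u) [CommRing B] [IsLocalRing B] : GoodHom (RingHom.id B) :=
  ⟨inferInstance, inferInstance, RingHom.Flat.id B, ⟨fun _ h => h⟩, Ideal.map_id _⟩

theorem goodHom_comp {B₁ B₂ B₃ : Type u} [CommRing B₁] [CommRing B₂] [CommRing B₃]
    (f : B₁ →+* B₂) (g : B₂ →+* B₃) (hf : GoodHom f) (hg : GoodHom g) : GoodHom (g.comp f) := by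
  obtain ⟨h1, h2, hf1, hf2, hf3⟩ := hf
  obtain ⟨_, h3, hg1, hg2, hg3⟩ := hg
  refine ⟨h1, h3, RingHom.Flat.comp hf1 hg1, ?_, ?_⟩
  · exact RingHom.isLocalHom_comp g f
  · rw [← Ideal.map_map, hf3, hg3]

/-- Specification of a successor of an object. -/
structure SuccSpec (X : Cat K) where
  /-- the successor -/
  Y : Cat K
  /-- the map to the successor -/
  f : X ⟶ Y
  spec : GoodObj X → GoodObj Y ∧ GoodHom f.left.hom ∧
    (¬ Function.Surjective (str X) → tOf X ∈ Set.range (str Y))

theorem nonempty_succSpec (X : Cat K) : Nonempty (SuccSpec X) := by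
  by_cases h : GoodObj X ∧ ¬ Function.Surjective (str X)
  · obtain ⟨D⟩ := nonempty_extDataW X.left (str X) h.1 (tOf X)
    refine ⟨⟨Over.mk (CommRingCat.ofHom D.φ'), Over.homMk (CommRingCat.ofHom D.f) ?_, ?_⟩⟩
    · apply CommRingCat.hom_ext
      exact D.comp
    · intro _
      exact ⟨D.good, D.goodHom, fun _ => D.mem⟩
  · refine ⟨⟨X, 𝟙 X, fun hX => ⟨hX, ?_, fun hs => absurd ⟨hX, hs⟩ h⟩⟩⟩
    obtain ⟨hL, _⟩ := hX
    exact goodHom_id X.left

/-- The chosen successor data. -/
noncomputable def succSpec (X : Cat K) : SuccSpec X := Classical.choice (nonempty_succSpec X)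

variable {A : Type u} [CommRing A] (ψ : A →+* K)

/-- The successor structure. -/
noncomputable def Φ : SuccStruct (Cat K) where
  X₀ := Over.mk (CommRingCat.ofHom ψ)
  succ X := (succSpec X).Y
  toSucc X := (succSpec X).f

theorem prop_spec {X Y : Cat K} (f : X ⟶ Y) (hf : (Φ ψ).prop f) (hX : GoodObj X) :
    GoodObj Y ∧ GoodHom f.left.hom ∧
      (¬ Function.Surjective (str X) → tOf X ∈ Set.range (str Y)) := by
  cases hf
  exact (succSpec _).spec hX

/-- Images in `K` grow along morphisms. -/
theorem range_subset {X Y : Cat K} (f : X ⟶ Y) : Set.range (str X) ⊆ Set.range (str Y) := by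
  rintro _ ⟨x, rfl⟩
  refine ⟨f.left.hom x, ?_⟩
  have := Over.w f
  have h2 := congrArg (fun g => g.hom x) this
  exact h2

theorem str_comp {X Y : Cat K} (f : X ⟶ Y) (x : X.left) : str Y (f.left.hom x) = str X x := by
  have := Over.w f
  exact congrArg (fun g => g.hom x) this

end Groth.Agent.Helper8.ResExtW
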