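import Mathlib
import Groth.Agent.Lib.Helper8.ResExtW3
import Groth.Agent.Lib.Helper8.ResExt4

/-!
# Flat local extensions with prescribed residue field (EGA 0_III 10.3.1), part 4: main theorem (no Noetherian hypothesis)
-/

set_option autoImplicit false

namespace Groth.Agent.Helper8.ResExtW

open CategoryTheory CategoryTheory.Limits CategoryTheory.SmallObject IsLocalRing
open Groth.Agent.Helper8.SimpExt Groth.Agent.Helper8.ColimLoc

universe u

variable {K : Type u} [Field K]

open Groth.Agent.Helper8.ResExt (Idx not_injective_idx)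

/-- **EGA 0_III 10.3.1**: a local ring `A` with a map `ψ : A → K` to a field whose
kernel is the maximal ideal has a flat local extension `B` with `m_A B = m_B`, and
with a surjection `B → K` extending `ψ` whose kernel is `m_B`. -/
theorem exists_flat_local {A : Type u} [CommRing A] (ψ : A →+* K) (hA : GoodRingW A ψ) :
    ∃ (B : Type u) (_ : CommRing B) (f : A →+* B) (φ : B →+* K),
      φ.comp f = ψ ∧ GoodRingW B φ ∧ GoodHom f ∧ Function.Surjective φ := by
  obtain ⟨j, hj⟩ := exists_surjective_stage (J := Idx K) ψ hA not_injective_idx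
  have hgood := good_all (J := Idx K) ψ hA
  let ι := ((Φ ψ).ιIterationFunctor (Idx K)).app j
  refine ⟨(((Φ ψ).iterationFunctor (Idx K)).obj j).left, inferInstance, ι.left.hom,
    str (((Φ ψ).iterationFunctor (Idx K)).obj j), ?_, (hgood j).1, ?_, hj⟩
  · ext a
    exact str_comp ι a
  · have h0 : ((Φ ψ).iterationFunctor (Idx K)).obj ⊥ = (Φ ψ).X₀ := ((Φ ψ).iter ⊥).obj_bot
    have hι : ι = eqToHom h0.symm ≫ ((Φ ψ).iterationFunctor (Idx K)).map (homOfLE bot_le) := rfl
    rw [hι, Over.comp_left, CommRingCat.hom_comp]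
    refine goodHom_comp _ _ (goodHom_eqToHom h0.symm ?_) ((hgood j).2 ⊥ bot_le)
    exact hA

end Groth.Agent.Helper8.ResExtW
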