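import Mathlib
import Groth.Prelude
import Groth.Agent.Lib.Helper8.RigCl1
import Groth.Agent.Lib.Helper8.GRing9
import Groth.Agent.Lib.Helper8.PolyG4
import Groth.Agent.Lib.Helper8.AdicFS17
import Groth.Agent.Lib.Helper8.AdicNoeth1
import Groth.Agent.Lib.Helper8.CompFib3
import Groth.Agent.Lib.Helper8.Fib5
import Groth.Agent.Lib.Helper2.CompleteNoeth
import Groth.Agent.S0600

/-!
# The quotient by a rig-closed prime is a complete local domain; restricted power series over it
-/

set_option autoImplicit false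
universe u

namespace Groth.Agent.Helper8.RigCl

open IsLocalRing

variable (A : Type u) [CommRing A] [IsNoetherianRing A] (I : Ideal A) [IsAdicComplete I A]
  (p : Ideal A) [p.IsPrime]

/-- The quotient of an adically complete Noetherian ring by a rig-closed prime is a G-ring. -/
theorem isGRing_quotient (hIp : ¬ I ≤ p)
    (hmax : ∀ q : Ideal A, q.IsPrime → p ≤ q → ¬ I ≤ q → q = p) : CAlg.IsGRing (A ⧸ p) := by
  haveI : IsAdicComplete (I.map (algebraMap A (A ⧸ p))) (A ⧸ p) :=
    Groth.Agent.Helper8.AdicNoeth.isAdicComplete_quotient A I p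
  have hI0 : I.map (algebraMap A (A ⧸ p)) ≠ ⊥ := by
    intro h0
    apply hIp
    intro x hx
    have h1 : algebraMap A (A ⧸ p) x ∈ I.map (algebraMap A (A ⧸ p)) := Ideal.mem_map_of_mem _ hx
    rw [h0, Ideal.mem_bot] at h1
    exact Ideal.Quotient.eq_zero_iff_mem.1 h1
  have hq : ∀ q : Ideal (A ⧸ p), q.IsPrime → q ≠ ⊥ → I.map (algebraMap A (A ⧸ p)) ≤ q := by
    intro q hq hq0
    rw [Ideal.map_le_iff_le_comap]
    by_contra hIq
    haveI : (q.comap (algebraMap A (A ⧸ p))).IsPrime := Ideal.comap_isPrime _ _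
    have hpq : p ≤ q.comap (algebraMap A (A ⧸ p)) := by
      intro x hx
      rw [Ideal.mem_comap]
      have : algebraMap A (A ⧸ p) x = 0 := Ideal.Quotient.eq_zero_iff_mem.2 hx
      rw [this]
      exact q.zero_mem
    have h1 := hmax _ inferInstance hpq hIq
    apply hq0
    rw [eq_bot_iff]
    intro y hy
    obtain ⟨x, rfl⟩ := Ideal.Quotient.mk_surjective y
    have hx : x ∈ q.comap (algebraMap A (A ⧸ p)) := hy
    rw [h1] at hx
    rw [Ideal.mem_bot]
    exact Ideal.Quotient.eq_zero_iff_mem.2 hx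
  obtain ⟨hloc, hc⟩ := isLocalRing_and_isAdicComplete (A ⧸ p) (I.map (algebraMap A (A ⧸ p))) hI0 hq
  exact Groth.Agent.Helper8.GRing.isGRing_of_isAdicComplete (A ⧸ p)

/-- **S8825.** -/
theorem main (hIp : ¬ I ≤ p)
    (hmax : ∀ q : Ideal A, q.IsPrime → p ≤ q → ¬ I ≤ q → q = p) (n : ℕ) :
    CAlg.IsRegularHom (A ⧸ p)
      (AdicCompletion (I.map (algebraMap A (MvPolynomial (Fin n) (A ⧸ p))))
        (MvPolynomial (Fin n) (A ⧸ p))) := by
  have hD : CAlg.IsGRing (A ⧸ p) := isGRing_quotient A I p hIp hmax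
  have hP : CAlg.IsGRing (MvPolynomial (Fin n) (A ⧸ p)) :=
    Groth.Agent.Helper8.PolyG.isGRing_mvPolynomial (A ⧸ p) hD n
  set K := I.map (algebraMap A (MvPolynomial (Fin n) (A ⧸ p))) with hK
  have h1 : CAlg.IsRegularHom (A ⧸ p) (MvPolynomial (Fin n) (A ⧸ p)) :=
    Groth.Agent.Helper8.AdicFS.isRegularHom_of_formallySmooth _ _
  have h2 : CAlg.IsRegularHom (MvPolynomial (Fin n) (A ⧸ p))
      (AdicCompletion K (MvPolynomial (Fin n) (A ⧸ p))) :=
    Groth.Agent.S0600.result _ hP K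
  haveI : IsNoetherianRing (AdicCompletion K (MvPolynomial (Fin n) (A ⧸ p))) :=
    Groth.Agent.Helper2.CompleteNoeth.isNoetherianRing_adicCompletion _ K
      (IsNoetherian.noetherian K)
  haveI : @IsScalarTower (A ⧸ p) (MvPolynomial (Fin n) (A ⧸ p))
      (AdicCompletion K (MvPolynomial (Fin n) (A ⧸ p))) Algebra.toSMul Algebra.toSMul
      Algebra.toSMul :=
    IsScalarTower.of_algebraMap_eq' rfl
  exact Groth.Agent.Helper8.CompFib.isRegularHom_comp _ _ _ h1 h2
    (fun q _ => Groth.Agent.Helper8.Fib.isNoetherianRing_fiber q)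

end Groth.Agent.Helper8.RigCl
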