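import Mathlib
import Groth.Prelude.Def_GrLC
import Groth.Prelude.Def_Wider
import Groth.Agent.Lib.Helper9.GrLC.Pos
import Groth.Agent.Lib.Helper6.SegK.SKb

set_option autoImplicit false
set_option linter.unusedSectionVars false
set_option linter.unusedVariables false
set_option linter.unusedSimpArgs false
set_option linter.style.haveILetI false
set_option maxHeartbeats 400000

/-!
# Homogeneous isomorphisms of graded local cohomology modules along short exact sequences, and the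
module form of "a coresolution by modules without local cohomology computes local cohomology"
(helper8, on top of helper6's `CoPack`)
-/

universe u

namespace Groth.Agent.Helper8.SG

open CategoryTheory DirectSum Groth.Agent.Helper9.GrLCLib Groth.Agent.Helper8.LC
open Groth.Agent.Lib.Helper6.CMReg Groth.Agent.Lib.Helper6.SegK

variable {R : Type u} [CommRing R] [IsNoetherianRing R] {𝒜 : ℤ → AddSubgroup R} [GradedRing 𝒜]

/-- two graded modules are isomorphic by a homogeneous isomorphism -/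
def GIso (X Y : GrLC.GMod.{u} 𝒜) : Prop :=
  ∃ e : X.carrier ≃ₗ[R] Y.carrier, GrLC.IsGrHom X.gr Y.gr e.toLinearMap

lemma GIso.refl (X : GrLC.GMod.{u} 𝒜) : GIso X X :=
  ⟨LinearEquiv.refl R X.carrier, fun g x hx => hx⟩

lemma GIso.symm {X Y : GrLC.GMod.{u} 𝒜} (h : GIso X Y) : GIso Y X := by
  obtain ⟨e, he⟩ := h
  exact ⟨e.symm, isGrHom_symm X.gr Y.gr e he⟩

lemma GIso.trans {X Y Z : GrLC.GMod.{u} 𝒜} (h : GIso X Y) (h' : GIso Y Z) : GIso X Z := by
  obtain ⟨e, he⟩ := h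
  obtain ⟨e', he'⟩ := h'
  exact ⟨e.trans e', fun g x hx => he' g _ (he g x hx)⟩

lemma GIso.of_bijective {X Y : GrLC.GMod.{u} 𝒜} (f : X.carrier →ₗ[R] Y.carrier)
    (hf : GrLC.IsGrHom X.gr Y.gr f) (hb : Function.Bijective f) : GIso X Y :=
  ⟨LinearEquiv.ofBijective f hb, hf⟩

section Cover

/-- two homogeneous quotients of a graded module with the same homogeneous kernel elements are
isomorphic -/
theorem exists_equiv_of_common_cover (A B C : GrLC.GMod.{u} 𝒜) (p : A.carrier →ₗ[R] B.carrier)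
    (q : A.carrier →ₗ[R] C.carrier) (hp : GrLC.IsGrHom A.gr B.gr p)
    (hq : GrLC.IsGrHom A.gr C.gr q)
    (hps : ∀ d, ∀ y ∈ B.gr d, ∃ x ∈ A.gr d, p x = y)
    (hqs : ∀ d, ∀ y ∈ C.gr d, ∃ x ∈ A.gr d, q x = y)
    (hker : ∀ d, ∀ x ∈ A.gr d, p x = 0 ↔ q x = 0) :
    ∃ e : B.carrier ≃ₗ[R] C.carrier, GrLC.IsGrHom B.gr C.gr e.toLinearMap ∧
      ∀ x, e (p x) = q x := by
  classical
  have hpS : Function.Surjective p := by
    intro y
    induction y using DirectSum.Decomposition.inductionOn B.gr with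
    | zero => exact ⟨0, map_zero p⟩
    | @homogeneous k y =>
      obtain ⟨x, -, hx⟩ := hps k y y.2
      exact ⟨x, hx⟩
    | add y y' hy hy' =>
      obtain ⟨x, hx⟩ := hy
      obtain ⟨x', hx'⟩ := hy'
      exact ⟨x + x', by rw [map_add, hx, hx']⟩
  have hqS : Function.Surjective q := by
    intro y
    induction y using DirectSum.Decomposition.inductionOn C.gr with
    | zero => exact ⟨0, map_zero q⟩
    | @homogeneous k y =>
      obtain ⟨x, -, hx⟩ := hqs k y y.2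
      exact ⟨x, hx⟩
    | add y y' hy hy' =>
      obtain ⟨x, hx⟩ := hy
      obtain ⟨x', hx'⟩ := hy'
      exact ⟨x + x', by rw [map_add, hx, hx']⟩
  have hk : LinearMap.ker p = LinearMap.ker q := by
    ext x
    rw [LinearMap.mem_ker, LinearMap.mem_ker]
    constructor
    · intro hx
      apply Pos.eq_zero_of_proj_eq_zero C.gr
      intro d
      rw [proj_map_of_isGrHom A.gr C.gr hq x d]
      apply (hker d _ (proj_mem A.gr d x)).mp
      rw [← proj_map_of_isGrHom A.gr B.gr hp x d, hx, map_zero]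
    · intro hx
      apply Pos.eq_zero_of_proj_eq_zero B.gr
      intro d
      rw [proj_map_of_isGrHom A.gr B.gr hp x d]
      apply (hker d _ (proj_mem A.gr d x)).mpr
      rw [← proj_map_of_isGrHom A.gr C.gr hq x d, hx, map_zero]
  let e1 := p.quotKerEquivOfSurjective hpS
  let e2 := Submodule.quotEquivOfEq _ _ hk
  let e3 := q.quotKerEquivOfSurjective hqS
  have key : ∀ x, (e1.symm.trans (e2.trans e3)) (p x) = q x := by
    intro x
    have h1 : e1.symm (p x) = Submodule.Quotient.mk x := by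
      rw [LinearEquiv.symm_apply_eq]
      rfl
    show e3 (e2 (e1.symm (p x))) = q x
    rw [h1]
    rfl
  refine ⟨e1.symm.trans (e2.trans e3), ?_, key⟩
  intro d y hy
  obtain ⟨x, hx, rfl⟩ := hps d y hy
  show (e1.symm.trans (e2.trans e3)) (p x) ∈ C.gr d
  rw [key]
  exact hq d x hx

end Cover

section Vanish

variable (a : HomogeneousIdeal 𝒜)

/-- degreewise vanishing gives vanishing -/
lemma subsingleton_of_van (X : GrLC.GMod.{u} 𝒜) (q : ℕ) (h : ∀ g, Van a X q g) :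
    Subsingleton (LocCoh.H a.toIdeal q X.carrier) := by
  let G := LCGMod 𝒜 X.gr a q
  have key : ∀ x : G.carrier, x = 0 := by
    intro x
    apply Pos.eq_zero_of_proj_eq_zero G.gr
    intro n
    exact h n _ ((mem_LCGMod_gr 𝒜 X.gr a q n _).mp (proj_mem G.gr n x))
  exact ⟨fun x y => (key x).trans (key y).symm⟩

end Vanish

section Raw

variable (J : Ideal R) {S : ShortComplex (ModuleCat.{u} R)} (hS : S.ShortExact)

lemma bij_delta (q : ℕ) (h1 : Subsingleton ((localCohomology J q).obj S.X₂))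
    (h2 : Subsingleton ((localCohomology J (q + 1)).obj S.X₂)) :
    Function.Bijective (δ J q hS) := by
  constructor
  · intro x y hxy
    have h0 : δ J q hS (x - y) = 0 := by rw [map_sub, hxy, sub_self]
    obtain ⟨v, hv⟩ := (exact_g_δ J q hS (x - y)).mp h0
    have hv0 : v = 0 := Subsingleton.elim _ _
    rw [hv0, map_zero] at hv
    exact sub_eq_zero.mp hv.symm
  · intro z
    exact (exact_δ_f J q hS z).mp (Subsingleton.elim _ _)

include hS in
lemma bij_map_f (q : ℕ) (h1 : Subsingleton ((localCohomology J q).obj S.X₃))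
    (h2 : Subsingleton ((localCohomology J (q + 1)).obj S.X₃)) :
    Function.Bijective ((localCohomology J (q + 1)).map S.f) := by
  constructor
  · intro x y hxy
    have h0 : ((localCohomology J (q + 1)).map S.f) (x - y) = 0 := by
      rw [map_sub, hxy, sub_self]
    obtain ⟨w, hw⟩ := (exact_δ_f J q hS (x - y)).mp h0
    have hw0 : w = 0 := Subsingleton.elim _ _
    rw [hw0, map_zero] at hw
    exact sub_eq_zero.mp hw.symm
  · intro v
    exact (exact_f_g J (q + 1) hS v).mp (Subsingleton.elim _ _)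

include hS in
lemma bij_map_g (q : ℕ) (h1 : Subsingleton ((localCohomology J q).obj S.X₁))
    (h2 : Subsingleton ((localCohomology J (q + 1)).obj S.X₁)) :
    Function.Bijective ((localCohomology J q).map S.g) := by
  constructor
  · intro x y hxy
    have h0 : ((localCohomology J q).map S.g) (x - y) = 0 := by
      rw [map_sub, hxy, sub_self]
    obtain ⟨w, hw⟩ := (exact_f_g J q hS (x - y)).mp h0
    have hw0 : w = 0 := Subsingleton.elim _ _
    rw [hw0, map_zero] at hw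
    exact sub_eq_zero.mp hw.symm
  · intro z
    exact (exact_g_δ J q hS z).mp (Subsingleton.elim _ _)

end Raw

section SES

variable (a : HomogeneousIdeal 𝒜)
variable (X₁ X₂ X₃ : GrLC.GMod.{u} 𝒜)
  (j : X₁.carrier →ₗ[R] X₂.carrier) (p : X₂.carrier →ₗ[R] X₃.carrier)
  (h : p ∘ₗ j = 0) (hS : (sesOf j p h).ShortExact)
  (hj : GrLC.IsGrHom X₁.gr X₂.gr j) (hp : GrLC.IsGrHom X₂.gr X₃.gr p)

include hS hj hp in
/-- the connecting map is a homogeneous isomorphism when the middle term has no cohomology -/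
theorem giso_delta (q : ℕ) (h1 : Subsingleton (LocCoh.H a.toIdeal q X₂.carrier))
    (h2 : Subsingleton (LocCoh.H a.toIdeal (q + 1) X₂.carrier)) :
    GIso (LCGMod 𝒜 X₃.gr a q) (LCGMod 𝒜 X₁.gr a (q + 1)) := by
  let f : (LCGMod 𝒜 X₃.gr a q).carrier →ₗ[R] (LCGMod 𝒜 X₁.gr a (q + 1)).carrier :=
    δ a.toIdeal q hS
  refine GIso.of_bijective f ?_ (bij_delta a.toIdeal hS q h1 h2)
  intro g x hx
  exact (mem_LCGMod_gr 𝒜 X₁.gr a (q + 1) g _).mpr
    (LCgr_δ 𝒜 X₁.gr X₂.gr X₃.gr j p h hS hj hp a.toIdeal q g x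
      ((mem_LCGMod_gr 𝒜 X₃.gr a q g x).mp hx))

include hS hj hp in
/-- the first map is a homogeneous isomorphism when the third term has no cohomology -/
theorem giso_left (q : ℕ) (h1 : Subsingleton (LocCoh.H a.toIdeal q X₃.carrier))
    (h2 : Subsingleton (LocCoh.H a.toIdeal (q + 1) X₃.carrier)) :
    GIso (LCGMod 𝒜 X₁.gr a (q + 1)) (LCGMod 𝒜 X₂.gr a (q + 1)) := by
  let f : (LCGMod 𝒜 X₁.gr a (q + 1)).carrier →ₗ[R] (LCGMod 𝒜 X₂.gr a (q + 1)).carrier :=
    ((localCohomology a.toIdeal (q + 1)).map (ModuleCat.ofHom j)).hom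
  refine GIso.of_bijective f ?_ (bij_map_f a.toIdeal hS q h1 h2)
  intro g x hx
  exact (mem_LCGMod_gr 𝒜 X₂.gr a (q + 1) g _).mpr
    (Van.LCgr_map_zero 𝒜 X₁.gr X₂.gr a.toIdeal (q + 1) g j hj x
      ((mem_LCGMod_gr 𝒜 X₁.gr a (q + 1) g x).mp hx))

include hS hj hp in
/-- the second map is a homogeneous isomorphism when the first term has no cohomology -/
theorem giso_right (q : ℕ) (h1 : Subsingleton (LocCoh.H a.toIdeal q X₁.carrier))
    (h2 : Subsingleton (LocCoh.H a.toIdeal (q + 1) X₁.carrier)) :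
    GIso (LCGMod 𝒜 X₂.gr a q) (LCGMod 𝒜 X₃.gr a q) := by
  let f : (LCGMod 𝒜 X₂.gr a q).carrier →ₗ[R] (LCGMod 𝒜 X₃.gr a q).carrier :=
    ((localCohomology a.toIdeal q).map (ModuleCat.ofHom p)).hom
  refine GIso.of_bijective f ?_ (bij_map_g a.toIdeal hS q h1 h2)
  intro g x hx
  exact (mem_LCGMod_gr 𝒜 X₃.gr a q g _).mpr
    (Van.LCgr_map_zero 𝒜 X₂.gr X₃.gr a.toIdeal q g p hp x
      ((mem_LCGMod_gr 𝒜 X₂.gr a q g x).mp hx))

end SES

section Equiv

variable (a : HomogeneousIdeal 𝒜)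

/-- local cohomology of homogeneously isomorphic modules -/
theorem giso_of_giso {X Y : GrLC.GMod.{u} 𝒜} (h : GIso X Y) (q : ℕ) :
    GIso (LCGMod 𝒜 X.gr a q) (LCGMod 𝒜 Y.gr a q) := by
  obtain ⟨e, he⟩ := h
  have he' := isGrHom_symm X.gr Y.gr e he
  let f : (LCGMod 𝒜 X.gr a q).carrier →ₗ[R] (LCGMod 𝒜 Y.gr a q).carrier :=
    ((localCohomology a.toIdeal q).map (ModuleCat.ofHom e.toLinearMap)).hom
  have hl : ∀ x : LocCoh.H a.toIdeal q X.carrier,
      ((localCohomology a.toIdeal q).map (ModuleCat.ofHom e.symm.toLinearMap))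
        (((localCohomology a.toIdeal q).map (ModuleCat.ofHom e.toLinearMap)) x) = x := by
    intro x
    have h3 := Hmap_comp a.toIdeal q e.toLinearMap e.symm.toLinearMap x
    rw [e.symm_comp, Hmap_id] at h3
    exact h3.symm
  have hr : ∀ y : LocCoh.H a.toIdeal q Y.carrier,
      ((localCohomology a.toIdeal q).map (ModuleCat.ofHom e.toLinearMap))
        (((localCohomology a.toIdeal q).map (ModuleCat.ofHom e.symm.toLinearMap)) y) = y := by
    intro y
    have h3 := Hmap_comp a.toIdeal q e.symm.toLinearMap e.toLinearMap y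
    rw [e.comp_symm, Hmap_id] at h3
    exact h3.symm
  refine GIso.of_bijective f ?_ ⟨?_, ?_⟩
  · intro g x hx
    exact (mem_LCGMod_gr 𝒜 Y.gr a q g _).mpr
      (Van.LCgr_map_zero 𝒜 X.gr Y.gr a.toIdeal q g _ he x
        ((mem_LCGMod_gr 𝒜 X.gr a q g x).mp hx))
  · intro x y hxy
    have hxy' : ((localCohomology a.toIdeal q).map (ModuleCat.ofHom e.toLinearMap)) x =
        ((localCohomology a.toIdeal q).map (ModuleCat.ofHom e.toLinearMap)) y := hxy
    rw [← hl x, ← hl y, hxy']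
  · intro y
    exact ⟨_, hr y⟩

/-- for a torsion module `H^0` is the module -/
theorem giso_torsion (X : GrLC.GMod.{u} 𝒜) (hX : LocCoh.IsPowerTorsion a.toIdeal X.carrier) :
    GIso (LCGMod 𝒜 X.gr a 0) X := by
  let f : (LCGMod 𝒜 X.gr a 0).carrier →ₗ[R] X.carrier := ev0 a.toIdeal (ModuleCat.of R X.carrier)
  refine GIso.of_bijective f ?_ ⟨?_, ?_⟩
  · intro g x hx
    exact (Van.mem_LCgr_zero 𝒜 X.gr a.toIdeal g x).mp ((mem_LCGMod_gr 𝒜 X.gr a 0 g x).mp hx)
  · exact ev0_injective a.toIdeal (ModuleCat.of R X.carrier)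
  · intro m
    exact exists_ev0_eq a.toIdeal (ModuleCat.of R X.carrier) m (hX m)

end Equiv

section CoPackG

variable {a : HomogeneousIdeal 𝒜} {X : GrLC.GMod.{u} 𝒜} (K : CoPack a X)

lemma sub_C (j : ℕ) (hj : 1 ≤ j) (q : ℕ) : Subsingleton (LocCoh.H a.toIdeal q (K.Cm j).carrier) :=
  subsingleton_of_van a (K.Cm j) q (fun g => K.van_C j hj q g)

lemma sub_Z0 (j : ℕ) (hj : 1 ≤ j) : Subsingleton (LocCoh.H a.toIdeal 0 (K.Zm j).carrier) :=
  subsingleton_of_van a (K.Zm j) 0 (fun g => K.van_Z_zero j hj g)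

lemma sub_Z1 (j : ℕ) (hj : 1 ≤ j) : Subsingleton (LocCoh.H a.toIdeal 1 (K.Zm j).carrier) :=
  subsingleton_of_van a (K.Zm j) 1 (fun g => K.van_Z_one j hj g)

lemma sub_H (j q : ℕ) (hq : 1 ≤ q) : Subsingleton (LocCoh.H a.toIdeal q (K.Hm j).carrier) :=
  subsingleton_of_isPowerTorsion a.toIdeal q (by omega) (K.Hm j).carrier (K.Hm_torsion j)

lemma sub_Zm0 (q : ℕ) (hq : 1 ≤ q) : Subsingleton (LocCoh.H a.toIdeal q (K.Zm 0).carrier) :=
  subsingleton_of_isPowerTorsion a.toIdeal q (by omega) (K.Zm 0).carrier K.Zm_zero_torsion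

theorem giso1 (j : ℕ) (hj : 1 ≤ j) (q : ℕ) :
    GIso (LCGMod 𝒜 (K.Bm (j + 1)).gr a q) (LCGMod 𝒜 (K.Zm j).gr a (q + 1)) :=
  giso_delta a (K.Zm j) (K.Cm j) (K.Bm (j + 1)) _ _ _ (K.ses_a j)
    (isGrHom_inclMap K.T _ _ (K.Z_hom j) (K.C_hom j) inf_le_left)
    (isGrHom_resMap K.T K.T K.D K.D_gr (K.C j) (K.C_hom j) (K.B_hom (j + 1))) q
    (sub_C K j hj q) (sub_C K j hj (q + 1))

theorem giso2 (j q : ℕ) :
    GIso (LCGMod 𝒜 (K.Bm j).gr a (q + 2)) (LCGMod 𝒜 (K.Zm j).gr a (q + 2)) :=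
  giso_left a (K.Bm j) (K.Zm j) (K.Hm j) _ _ _
    (ses_incl_sq K.T (K.B j) (K.Z j) (K.B_hom j) (K.Z_hom j) (K.B_le_Z j))
    (isGrHom_inclMap K.T _ _ (K.B_hom j) (K.Z_hom j) (K.B_le_Z j))
    (isGrHom_sqMap K.T _ _ (K.B_hom j) (K.Z_hom j)) (q + 1)
    (sub_H K j (q + 1) (by omega)) (sub_H K j (q + 2) (by omega))

theorem giso3 (j : ℕ) (hj : 1 ≤ j) :
    GIso (LCGMod 𝒜 (K.Hm j).gr a 0) (LCGMod 𝒜 (K.Bm j).gr a 1) :=
  giso_delta a (K.Bm j) (K.Zm j) (K.Hm j) _ _ _
    (ses_incl_sq K.T (K.B j) (K.Z j) (K.B_hom j) (K.Z_hom j) (K.B_le_Z j))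
    (isGrHom_inclMap K.T _ _ (K.B_hom j) (K.Z_hom j) (K.B_le_Z j))
    (isGrHom_sqMap K.T _ _ (K.B_hom j) (K.Z_hom j)) 0
    (sub_Z0 K j hj) (sub_Z1 K j hj)

theorem giso4 (j : ℕ) : GIso (LCGMod 𝒜 (K.Hm j).gr a 0) (K.Hm j) :=
  giso_torsion a (K.Hm j) (K.Hm_torsion j)

/-- the key induction -/
theorem giso_B : ∀ (q j n : ℕ), 1 ≤ j → n = j + q →
    GIso (LCGMod 𝒜 (K.Bm j).gr a (q + 1)) (K.Hm n) := by
  intro q
  induction q with
  | zero =>
    intro j n hj hn
    rw [Nat.add_zero] at hn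
    subst hn
    exact (giso3 K n hj).symm.trans (giso4 K n)
  | succ q ih =>
    intro j n hj hn
    have h1 := giso2 K j q
    have h2 := (giso1 K j hj (q + 1)).symm
    have h3 := ih (j + 1) n (by omega) (by omega)
    exact h1.trans (h2.trans h3)

/-- **the local cohomology of `X` is the cohomology of the coresolution**, as graded modules -/
theorem giso_pos (n : ℕ) (hn : 1 ≤ n) : GIso (LCGMod 𝒜 X.gr a n) (K.Hm n) := by
  obtain ⟨q, rfl⟩ : ∃ q, n = q + 1 := ⟨n - 1, by omega⟩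
  have h1 : GIso (LCGMod 𝒜 X.gr a (q + 1)) (LCGMod 𝒜 (K.Cm 0).gr a (q + 1)) :=
    giso_of_giso a ⟨K.φEquiv, K.isGrHom_φEquiv⟩ (q + 1)
  have h2 : GIso (LCGMod 𝒜 (K.Cm 0).gr a (q + 1)) (LCGMod 𝒜 (K.Bm 1).gr a (q + 1)) :=
    giso_right a (K.Zm 0) (K.Cm 0) (K.Bm 1) _ _ _ (K.ses_a 0)
      (isGrHom_inclMap K.T _ _ (K.Z_hom 0) (K.C_hom 0) inf_le_left)
      (isGrHom_resMap K.T K.T K.D K.D_gr (K.C 0) (K.C_hom 0) (K.B_hom 1)) (q + 1)
      (sub_Zm0 K (q + 1) (by omega)) (sub_Zm0 K (q + 2) (by omega))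
  have h3 := giso_B K q 1 (q + 1) le_rfl (by omega)
  exact h1.trans (h2.trans h3)

end CoPackG

end Groth.Agent.Helper8.SG
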