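import Mathlib
import Groth.Prelude.Def_GrLC
import Groth.Prelude.Def_GrSeg
import Groth.Agent.Lib.Helper6.SegK.SKr
import Groth.Agent.Lib.Helper8.SG1

set_option autoImplicit false
set_option linter.unusedSectionVars false
set_option linter.unusedVariables false
set_option linter.unusedSimpArgs false
set_option linter.style.haveILetI false
set_option maxHeartbeats 400000

/-!
# Cocycles and coboundaries of the Čech complex as graded modules; the contraction in one degree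
(helper8, on top of helper6's `CPack`, `DGS`, `SDR`)
-/

universe u

namespace Groth.Agent.Helper8.SG

open scoped TensorProduct
open CategoryTheory DirectSum Groth.Agent.Helper9.GrLCLib Groth.Agent.Helper9.GrLCLib.Trans
open Groth.Agent.Helper8.LC Groth.Agent.Lib.Helper6.CMReg Groth.Agent.Lib.Helper6.SegK
open Groth.Agent.Helper9.SegreLib

section ZB

variable {R : Type u} [CommRing R] [IsNoetherianRing R] {𝒜 : ℤ → AddSubgroup R} [GradedRing 𝒜]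
  {X : GrLC.GMod.{u} 𝒜} {xs : List R} (K : CPack X xs)

/-- the cocycles of degree `n` of the Čech complex -/
def ZZ (n : ℕ) : Submodule R K.T.carrier := K.C n ⊓ LinearMap.ker K.D

/-- the coboundaries of degree `n + 1` of the Čech complex -/
def BB (n : ℕ) : Submodule R K.T.carrier := (K.C n).map K.D

lemma ZZ_hom (n : ℕ) : (ZZ K n).IsHomogeneous K.T.gr :=
  inf_isHomogeneous K.T.gr (K.C_hom n) (ker_isHomogeneous K.T.gr K.T.gr K.D_gr)

lemma BB_hom (n : ℕ) : (BB K n).IsHomogeneous K.T.gr :=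
  map_isHomogeneous K.T.gr K.T.gr K.D_gr (K.C_hom n)

lemma mem_ZZ {n : ℕ} {u : K.T.carrier} : u ∈ ZZ K n ↔ K.p n u = u ∧ K.D u = 0 := by
  constructor
  · rintro ⟨h1, h2⟩
    exact ⟨K.p_of_mem h1, LinearMap.mem_ker.mp h2⟩
  · rintro ⟨h1, h2⟩
    exact ⟨⟨u, h1⟩, LinearMap.mem_ker.mpr h2⟩

lemma mem_BB_gr {n : ℕ} {d : ℤ} {u : K.T.carrier} (hu : u ∈ BB K n) (hd : u ∈ K.T.gr d) :
    ∃ u' : K.T.carrier, u' ∈ K.T.gr d ∧ K.p n u' = u' ∧ K.D u' = u := by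
  obtain ⟨w, hw, rfl⟩ := hu
  have hw' : K.p n w = w := K.p_of_mem hw
  refine ⟨proj K.T.gr d w, proj_mem _ _ _, ?_, ?_⟩
  · rw [← proj_map_of_isGrHom K.T.gr K.T.gr (K.p_gr n) w, hw']
  · rw [← proj_map_of_isGrHom K.T.gr K.T.gr K.D_gr w, proj_of_mem_same K.T.gr hd]

lemma mem_BB_of {n : ℕ} {u' : K.T.carrier} (hp : K.p n u' = u') : K.D u' ∈ BB K n :=
  ⟨u', ⟨u', hp⟩, rfl⟩

/-- the graded module of cocycles -/
noncomputable abbrev Zg (n : ℕ) : GrLC.GMod.{u} 𝒜 := subGMod K.T (ZZ K n) (ZZ_hom K n)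

/-- the graded cohomology module of degree `n + 1` -/
noncomputable abbrev Hg (n : ℕ) : GrLC.GMod.{u} 𝒜 :=
  sqGMod K.T (BB K n) (ZZ K (n + 1)) (BB_hom K n) (ZZ_hom K (n + 1))

/-- the inclusion of the cocycles -/
noncomputable def iZ (n : ℕ) : (Zg K n).carrier →ₗ[R] K.T.carrier :=
  subMap K.T (ZZ K n) (ZZ_hom K n)

/-- the projection of the cocycles onto the cohomology -/
noncomputable def qZ (n : ℕ) : (Zg K (n + 1)).carrier →ₗ[R] (Hg K n).carrier :=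
  sqMap K.T (BB K n) (ZZ K (n + 1)) (BB_hom K n) (ZZ_hom K (n + 1))

lemma iZ_gr (n : ℕ) : GrLC.IsGrHom (Zg K n).gr K.T.gr (iZ K n) := isGrHom_subMap K.T _ _

lemma qZ_gr (n : ℕ) : GrLC.IsGrHom (Zg K (n + 1)).gr (Hg K n).gr (qZ K n) :=
  isGrHom_sqMap K.T _ _ _ _

lemma iZ_mem (n : ℕ) (x : (Zg K n).carrier) : iZ K n x ∈ ZZ K n := subMap_mem K.T _ _ x

lemma iZ_injective (n : ℕ) : Function.Injective (iZ K n) := subMap_injective K.T _ _

lemma mem_Zg_gr {n : ℕ} {d : ℤ} {x : (Zg K n).carrier} :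
    x ∈ (Zg K n).gr d ↔ iZ K n x ∈ K.T.gr d := mem_subGMod_gr K.T _ _ d x

lemma qZ_eq_zero_iff (n : ℕ) (x : (Zg K (n + 1)).carrier) :
    qZ K n x = 0 ↔ iZ K (n + 1) x ∈ BB K n := sqMap_eq_zero_iff K.T _ _ _ _ x

lemma qZ_surjective (n : ℕ) : Function.Surjective (qZ K n) := sqMap_surjective K.T _ _ _ _

lemma qZ_surj_gr (n : ℕ) (d : ℤ) (y : (Hg K n).carrier) (hy : y ∈ (Hg K n).gr d) :
    ∃ x ∈ (Zg K (n + 1)).gr d, qZ K n x = y := by
  obtain ⟨m, hm, hmy⟩ : ∃ m ∈ (subGMod K.T (ZZ K (n + 1)) (ZZ_hom K (n + 1))).gr d,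
    sqMap K.T (BB K n) (ZZ K (n + 1)) (BB_hom K n) (ZZ_hom K (n + 1)) m = y := hy
  exact ⟨m, hm, hmy⟩

/-- a cocycle as an element of the module of cocycles -/
def mkZ (n : ℕ) (u : K.T.carrier) (hu : u ∈ ZZ K n) : (Zg K n).carrier := (⟨u, hu⟩ : ↥(ZZ K n))

lemma iZ_mkZ (n : ℕ) (u : K.T.carrier) (hu : u ∈ ZZ K n) : iZ K n (mkZ K n u hu) = u := rfl

end ZB

section KOne

variable {k : Type u} [Field k] {R : Type u} [CommRing R] [Algebra k R] [IsNoetherianRing R]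
  {𝒜 : ℤ → Submodule k R} [GradedAlgebra 𝒜] {X : GrLC.GMod.{u} (toAG 𝒜)} {xs : List R}
  (K : CPack X xs)

attribute [local instance] kMod

lemma mem_ddgs_Z_of {m : ℕ} {d : ℤ} {u : K.T.carrier} (hu : u ∈ ZZ K (m + 1))
    (hd : u ∈ K.T.gr d) : u ∈ (K.ddgs d).Z (m + 1) :=
  K.mem_ddgs_Z_succ.mpr ⟨hd, ((mem_ZZ K).mp hu).1, ((mem_ZZ K).mp hu).2⟩

lemma mem_ddgs_B_of {m : ℕ} {d : ℤ} {b : K.T.carrier} (hb : b ∈ BB K (m + 1))
    (hd : b ∈ K.T.gr d) : b ∈ (K.ddgs d).B (m + 2) := by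
  obtain ⟨u', hu'd, hu'p, hu'D⟩ := mem_BB_gr K hb hd
  refine ⟨u', ⟨u', ?_⟩, ?_⟩
  · show K.tdgs.p (m + 1) (πk K.T d u') = u'
    rw [πk_of_mem K.T hu'd, K.tp_of_pk_succ hu'p]
  · show K.tdgs.D (πk K.T d u') = b
    rw [πk_of_mem K.T hu'd, K.tD_of_pk_succ hu'p, hu'D]

lemma mem_BB_of_ddgs {m : ℕ} {d : ℤ} {b : K.T.carrier} (hb : b ∈ (K.ddgs d).B (m + 2)) :
    b ∈ BB K (m + 1) := by
  obtain ⟨_, ⟨w, rfl⟩, rfl⟩ := hb
  have h1 : (K.ddgs d).pm (m + 2) w = K.pk (m + 1) (πk K.T d w) := by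
    show K.tdgs.p (m + 1) (πk K.T d w) = _
    rw [K.tp_succ]
  have hpv : K.p (m + 1) (K.pk (m + 1) (πk K.T d w)) = K.pk (m + 1) (πk K.T d w) :=
    K.p_idem (m + 1) _
  have hdv : πk K.T d (K.pk (m + 1) (πk K.T d w)) = K.pk (m + 1) (πk K.T d w) :=
    πk_pk_πk K (m + 1) d w
  rw [h1]
  have h2 : (K.ddgs d).D (K.pk (m + 1) (πk K.T d w)) = K.D (K.pk (m + 1) (πk K.T d w)) := by
    show K.tdgs.D (πk K.T d (K.pk (m + 1) (πk K.T d w))) = _
    rw [hdv, K.tD_of_pk_succ hpv]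
  rw [h2]
  exact mem_BB_of K hpv

variable {d : ℤ} (SU : SDR (K.ddgs d))

lemma sub_h_mem_BB {m : ℕ} {u : K.T.carrier} (hu : u ∈ ZZ K (m + 2)) (hd : u ∈ K.T.gr d) :
    u - SU.h u ∈ BB K (m + 1) :=
  mem_BB_of_ddgs K (DGS.sub_h_mem_B SU (mem_ddgs_Z_of K hu hd))

lemma h_eq_zero_of_mem_BB {m : ℕ} {b : K.T.carrier} (hb : b ∈ BB K (m + 1))
    (hd : b ∈ K.T.gr d) : SU.h b = 0 :=
  DGS.h_eq_zero_of_mem_B SU (mem_ddgs_B_of K hb hd)

/-- the contraction of the cocycles of degree `d` onto their harmonic representatives factors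
through the cohomology, injectively in degree `d` -/
theorem exists_hbar (m : ℕ) :
    ∃ hb : (Hg K (m + 1)).carrier →ₗ[k] K.T.carrier,
      (∀ x : (Zg K (m + 2)).carrier, x ∈ (Zg K (m + 2)).gr d →
        hb (qZ K (m + 1) x) = SU.h (iZ K (m + 2) x)) ∧
      (∀ y ∈ (Hg K (m + 1)).gr d, hb y = 0 → y = 0) := by
  let qk : (Zg K (m + 2)).carrier →ₗ[k] (Hg K (m + 1)).carrier :=
    (qZ K (m + 1)).restrictScalars k
  let f : (Zg K (m + 2)).carrier →ₗ[k] K.T.carrier :=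
    SU.h ∘ₗ ((iZ K (m + 2)).restrictScalars k) ∘ₗ πk (Zg K (m + 2)) d
  have hf : ∀ x, f x = SU.h (iZ K (m + 2) (proj (Zg K (m + 2)).gr d x)) := fun x => rfl
  have hker : ∀ x : (Zg K (m + 2)).carrier, qZ K (m + 1) x = 0 → f x = 0 := by
    intro x hx
    rw [hf]
    have h1 : iZ K (m + 2) x ∈ BB K (m + 1) := (qZ_eq_zero_iff K (m + 1) x).mp hx
    have h2 : iZ K (m + 2) (proj (Zg K (m + 2)).gr d x) = proj K.T.gr d (iZ K (m + 2) x) :=
      (proj_map_of_isGrHom (Zg K (m + 2)).gr K.T.gr (iZ_gr K (m + 2)) x d).symm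
    rw [h2]
    exact h_eq_zero_of_mem_BB K SU (BB_hom K (m + 1) d h1) (proj_mem _ _ _)
  have hqs : LinearMap.range qk = ⊤ := by
    rw [LinearMap.range_eq_top]
    exact qZ_surjective K (m + 1)
  obtain ⟨σ, hσ⟩ := LinearMap.exists_rightInverse_of_surjective qk hqs
  have hσ' : ∀ y, qZ K (m + 1) (σ y) = y := fun y => LinearMap.congr_fun hσ y
  have key : ∀ x : (Zg K (m + 2)).carrier, x ∈ (Zg K (m + 2)).gr d →
      (f ∘ₗ σ) (qZ K (m + 1) x) = SU.h (iZ K (m + 2) x) := by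
    intro x hx
    have h1 : qZ K (m + 1) (σ (qZ K (m + 1) x) - x) = 0 := by
      rw [map_sub, hσ', sub_self]
    have h2 := hker _ h1
    rw [map_sub, sub_eq_zero] at h2
    rw [LinearMap.comp_apply, h2, hf, proj_of_mem_same _ hx]
  refine ⟨f ∘ₗ σ, key, ?_⟩
  intro y hy hy0
  obtain ⟨x, hx, rfl⟩ := qZ_surj_gr K (m + 1) d y hy
  rw [key x hx] at hy0
  rw [qZ_eq_zero_iff]
  have hxd : iZ K (m + 2) x ∈ K.T.gr d := (mem_Zg_gr K).mp hx
  have h3 := sub_h_mem_BB K SU (iZ_mem K (m + 2) x) hxd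
  rw [hy0, sub_zero] at h3
  exact h3

end KOne

end Groth.Agent.Helper8.SG
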