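import Mathlib
import Groth.Prelude.Def_GrLC
import Groth.Prelude.Def_GrSeg
import Groth.Agent.Lib.Helper8.SG2

set_option autoImplicit false
set_option linter.unusedSectionVars false
set_option linter.unusedVariables false
set_option linter.unusedSimpArgs false
set_option linter.style.haveILetI false
set_option maxHeartbeats 800000

/-!
# The top cohomology of the total complex on a Segre product is the Segre product of the top
cohomologies, as graded modules (helper8, on top of helper6's `SegK` library)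
-/

universe u

namespace Groth.Agent.Helper8.SG

open scoped TensorProduct
open CategoryTheory DirectSum Groth.Agent.Helper9.GrLCLib Groth.Agent.Helper9.GrLCLib.Trans
open Groth.Agent.Helper8.LC Groth.Agent.Lib.Helper6.CMReg Groth.Agent.Lib.Helper6.SegK
open Groth.Agent.Helper9.SegreLib

section Gen

variable {k : Type u} [Field k] {R S : Type u} [CommRing R] [CommRing S]
  [Algebra k R] [Algebra k S]
  {𝒜 : ℤ → Submodule k R} {ℬ : ℤ → Submodule k S}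
  [GradedAlgebra 𝒜] [GradedAlgebra ℬ]
  {U U' : GrLC.GMod.{u} (toAG 𝒜)} {V V' : GrLC.GMod.{u} (toAG ℬ)}

attribute [local instance] kMod

/-- homogeneous maps of the ambient tensor products commute with the projections onto the pieces
of the Segre products -/
lemma PiK_isAmb {F : Amb U V →ₗ[k] Amb U' V'} (hF : IsAmb F) (d : ℤ) {w : Amb U V}
    (hw : w ∈ segSub U V) : PiK U' V' d (F w) = F (PiK U V d w) := by
  unfold segSub at hw
  induction hw using Submodule.iSup_induction' with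
  | mem e w hw =>
    by_cases h : e = d
    · subst h
      rw [PiK_of_mem_piece U' V' (hF.2 e w hw), PiK_of_mem_piece U V hw]
    · rw [PiK_of_mem_piece_ne U' V' (hF.2 e w hw) h, PiK_of_mem_piece_ne U V hw h, map_zero]
  | zero => rw [map_zero, map_zero, map_zero, map_zero]
  | add x y _ _ hx hy => rw [map_add, map_add, hx, hy, map_add, map_add]

/-- a tensor product of two maps which are injective in degree `d` is injective on the piece of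
degree `d` of the Segre product -/
lemma map_injOn_piece {A : Type u} [AddCommGroup A] [Module k A] {B : Type u} [AddCommGroup B]
    [Module k B] (f : U.carrier →ₗ[k] A) (g : V.carrier →ₗ[k] B) (d : ℤ)
    (hf : ∀ x ∈ U.gr d, f x = 0 → x = 0) (hg : ∀ y ∈ V.gr d, g y = 0 → y = 0)
    {w : Amb U V} (hw : w ∈ piece U V d) (h0 : TensorProduct.map f g w = 0) : w = 0 := by
  let PU := grK U d
  let PV := grK V d
  have hfU : LinearMap.ker (f ∘ₗ PU.subtype) = ⊥ := by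
    rw [LinearMap.ker_eq_bot']
    intro x hx
    apply Subtype.ext
    exact hf x.1 x.2 hx
  have hgV : LinearMap.ker (g ∘ₗ PV.subtype) = ⊥ := by
    rw [LinearMap.ker_eq_bot']
    intro x hx
    apply Subtype.ext
    exact hg x.1 x.2 hx
  obtain ⟨f', hf'⟩ := LinearMap.exists_leftInverse_of_injective (f ∘ₗ PU.subtype) hfU
  obtain ⟨g', hg'⟩ := LinearMap.exists_leftInverse_of_injective (g ∘ₗ PV.subtype) hgV
  let ρU : U.carrier →ₗ[k] U.carrier := (PU.subtype ∘ₗ f') ∘ₗ f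
  let ρV : V.carrier →ₗ[k] V.carrier := (PV.subtype ∘ₗ g') ∘ₗ g
  have hρU : ∀ x ∈ U.gr d, ρU x = x := by
    intro x hx
    have h2 : f' (f x) = (⟨x, hx⟩ : PU) := LinearMap.congr_fun hf' (⟨x, hx⟩ : PU)
    show PU.subtype (f' (f x)) = x
    rw [h2]
    rfl
  have hρV : ∀ y ∈ V.gr d, ρV y = y := by
    intro y hy
    have h2 : g' (g y) = (⟨y, hy⟩ : PV) := LinearMap.congr_fun hg' (⟨y, hy⟩ : PV)
    show PV.subtype (g' (g y)) = y
    rw [h2]
    rfl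
  have h1 : piece U V d ≤ LinearMap.eqLocus (TensorProduct.map ρU ρV) LinearMap.id := by
    apply segrePiece_le
    intro a ha b hb
    show TensorProduct.map ρU ρV (a ⊗ₜ[k] b) = a ⊗ₜ[k] b
    rw [TensorProduct.map_tmul, hρU a ha, hρV b hb]
  have h2 : TensorProduct.map ρU ρV =
      TensorProduct.map (PU.subtype ∘ₗ f') (PV.subtype ∘ₗ g') ∘ₗ TensorProduct.map f g :=
    TensorProduct.map_comp _ _ _ _
  have h3 : TensorProduct.map ρU ρV w = w := h1 hw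
  rw [← h3, h2, LinearMap.comp_apply, h0, map_zero]

end Gen

section One

variable {k : Type u} [Field k] {R : Type u} [CommRing R] [Algebra k R] [IsNoetherianRing R]
  {𝒜 : ℤ → Submodule k R} [GradedAlgebra 𝒜] {X : GrLC.GMod.{u} (toAG 𝒜)} {xs : List R}
  (K : CPack X xs)

attribute [local instance] kMod

lemma teps_of_pk_succ {a : ℕ} {u : K.T.carrier} (hpu : K.p (a + 1) u = u) :
    K.tdgs.ε u = ((-1 : k) ^ (a + 1)) • u := by
  have h := end_mul_eq (K.tdgs.ε_p (a + 1)) u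
  rw [LinearMap.smul_apply, K.tp_of_pk_succ hpu] at h
  exact h

end One

section Main

variable {k : Type u} [Field k] {R S T : Type u} [CommRing R] [CommRing S] [CommRing T]
  [Algebra k R] [Algebra k S] [Algebra k T] [IsNoetherianRing R] [IsNoetherianRing S]
  [IsNoetherianRing T]
  {𝒜 : ℤ → Submodule k R} {ℬ : ℤ → Submodule k S} {𝒯 : ℤ → Submodule k T}
  [GradedAlgebra 𝒜] [GradedAlgebra ℬ] [GradedAlgebra 𝒯]
  (ψ : T →ₐ[k] R ⊗[k] S) (hT : GrSeg.IsSegreRing 𝒜 ℬ 𝒯 ψ)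
  {XM : GrLC.GMod.{u} (toAG 𝒜)} {XN : GrLC.GMod.{u} (toAG ℬ)} {xs : List R} {ys : List S}
  (KM : CPack XM xs) (KN : CPack XN ys) (i j : ℕ)

attribute [local instance] kMod

/-- the inclusion of the tensors of cocycles -/
noncomputable def iA : Amb (Zg KM (i + 2)) (Zg KN (j + 2)) →ₗ[k] Amb KM.T KN.T :=
  ambMap (iZ KM (i + 2)) (iZ KN (j + 2))

/-- the projection of the tensors of cocycles onto the tensors of cohomology classes -/
noncomputable def qA :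
    Amb (Zg KM (i + 2)) (Zg KN (j + 2)) →ₗ[k] Amb (Hg KM (i + 1)) (Hg KN (j + 1)) :=
  ambMap (qZ KM (i + 1)) (qZ KN (j + 1))

lemma isAmb_iA : IsAmb (iA KM KN i j) :=
  isAmb_ambMap _ _ (iZ_gr KM (i + 2)) (iZ_gr KN (j + 2))

lemma isAmb_qA : IsAmb (qA KM KN i j) :=
  isAmb_ambMap _ _ (qZ_gr KM (i + 1)) (qZ_gr KN (j + 1))

lemma Damb_tmul_succ {a b : ℕ} {u : KM.T.carrier} {v : KN.T.carrier}
    (hpu : KM.p (a + 1) u = u) (hpv : KN.p (b + 1) v = v) :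
    Damb KM KN (u ⊗ₜ[k] v) = KM.D u ⊗ₜ[k] v + KM.tdgs.ε u ⊗ₜ[k] KN.D v := by
  unfold Damb KW.Dw Aamb
  rw [LinearMap.add_apply, LinearMap.add_apply]
  show KM.tdgs.D u ⊗ₜ[k] KN.tdgs.e v + KM.tdgs.ε u ⊗ₜ[k] KN.tdgs.D v +
    (KM.Dk * KM.pk 0) u ⊗ₜ[k] (KN.Dk * KN.pk 0) v = _
  rw [KM.tD_of_pk_succ hpu, KN.te_of_pk_succ hpv, KN.tD_of_pk_succ hpv, Module.End.mul_apply,
    KM.pk0_of_pk_succ hpu, map_zero, TensorProduct.zero_tmul, add_zero]

lemma Pn_tmul {a b n : ℕ} (h : a + 1 + (b + 1) = n) {u : KM.T.carrier} {v : KN.T.carrier}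
    (hpu : KM.p (a + 1) u = u) (hpv : KN.p (b + 1) v = v) :
    KW.Pn KM.tdgs KN.tdgs n (u ⊗ₜ[k] v) = u ⊗ₜ[k] v :=
  KW.Pn_tmul_of_mem KM.tdgs KN.tdgs h (KM.tp_of_pk_succ hpu) (KN.tp_of_pk_succ hpv)

lemma Pn_ddgs_tmul {a b n : ℕ} (h : a + 1 + (b + 1) = n) {d : ℤ} {u : KM.T.carrier}
    {v : KN.T.carrier} (hud : u ∈ KM.T.gr d) (hvd : v ∈ KN.T.gr d)
    (hpu : KM.p (a + 1) u = u) (hpv : KN.p (b + 1) v = v) :
    KW.Pn (KM.ddgs d) (KN.ddgs d) n (u ⊗ₜ[k] v) = u ⊗ₜ[k] v := by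
  rw [Pn_ddgs, Module.End.mul_apply, PiK_tmul, πk_of_mem KM.T hud, πk_of_mem KN.T hvd]
  exact Pn_tmul KM KN h hpu hpv

lemma Qamb_iA (a : Amb (Zg KM (i + 2)) (Zg KN (j + 2))) :
    KW.Pn KM.tdgs KN.tdgs (i + j + 4) (iA KM KN i j a) = iA KM KN i j a := by
  induction a using TensorProduct.induction_on with
  | zero => rw [map_zero, map_zero]
  | tmul x y =>
    have hx := ((mem_ZZ KM).mp (iZ_mem KM (i + 2) x)).1
    have hy := ((mem_ZZ KN).mp (iZ_mem KN (j + 2) y)).1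
    show KW.Pn KM.tdgs KN.tdgs (i + j + 4) (iZ KM (i + 2) x ⊗ₜ[k] iZ KN (j + 2) y) =
      iZ KM (i + 2) x ⊗ₜ[k] iZ KN (j + 2) y
    exact Pn_tmul KM KN (by omega) hx hy
  | add a b ha hb => rw [map_add, map_add, ha, hb]

lemma Damb_iA (a : Amb (Zg KM (i + 2)) (Zg KN (j + 2))) :
    Damb KM KN (iA KM KN i j a) = 0 := by
  induction a using TensorProduct.induction_on with
  | zero => rw [map_zero, map_zero]
  | tmul x y =>
    obtain ⟨hx, hDx⟩ := (mem_ZZ KM).mp (iZ_mem KM (i + 2) x)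
    obtain ⟨hy, hDy⟩ := (mem_ZZ KN).mp (iZ_mem KN (j + 2) y)
    show Damb KM KN (iZ KM (i + 2) x ⊗ₜ[k] iZ KN (j + 2) y) = 0
    rw [Damb_tmul_succ KM KN hx hy, hDx, hDy, TensorProduct.zero_tmul, TensorProduct.tmul_zero,
      add_zero]
  | add a b ha hb => rw [map_add, map_add, ha, hb, add_zero]

lemma iA_mem_Zw {d : ℤ} {a : Amb (Zg KM (i + 2)) (Zg KN (j + 2))}
    (ha : a ∈ piece (Zg KM (i + 2)) (Zg KN (j + 2)) d) :
    iA KM KN i j a ∈ KW.Zw (KM.ddgs d) (KN.ddgs d) (Damb KM KN) (i + j + 4) := by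
  refine ⟨LinearMap.mem_ker.mpr (Damb_iA KM KN i j a), iA KM KN i j a, ?_⟩
  rw [Pn_ddgs', Module.End.mul_apply, Qamb_iA,
    PiK_of_mem_piece _ _ ((isAmb_iA KM KN i j).2 d a ha)]

lemma hw_iA {d : ℤ} (SU : SDR (KM.ddgs d)) (SV : SDR (KN.ddgs d))
    (hbM : (Hg KM (i + 1)).carrier →ₗ[k] KM.T.carrier)
    (hbN : (Hg KN (j + 1)).carrier →ₗ[k] KN.T.carrier)
    (hM : ∀ x : (Zg KM (i + 2)).carrier, x ∈ (Zg KM (i + 2)).gr d →
      hbM (qZ KM (i + 1) x) = SU.h (iZ KM (i + 2) x))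
    (hN : ∀ y : (Zg KN (j + 2)).carrier, y ∈ (Zg KN (j + 2)).gr d →
      hbN (qZ KN (j + 1) y) = SV.h (iZ KN (j + 2) y))
    {a : Amb (Zg KM (i + 2)) (Zg KN (j + 2))}
    (ha : a ∈ piece (Zg KM (i + 2)) (Zg KN (j + 2)) d) :
    KW.hw SU SV (iA KM KN i j a) = TensorProduct.map hbM hbN (qA KM KN i j a) := by
  have h1 : piece (Zg KM (i + 2)) (Zg KN (j + 2)) d ≤
      LinearMap.eqLocus ((KW.hw SU SV) ∘ₗ iA KM KN i j)
        (TensorProduct.map hbM hbN ∘ₗ qA KM KN i j) := by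
    apply segrePiece_le
    intro x hx y hy
    show KW.hw SU SV (iZ KM (i + 2) x ⊗ₜ[k] iZ KN (j + 2) y) =
      TensorProduct.map hbM hbN (qZ KM (i + 1) x ⊗ₜ[k] qZ KN (j + 1) y)
    rw [TensorProduct.map_tmul, hM x hx, hN y hy]
    rfl
  exact h1 ha

/-- a homogeneous tensor of cocycles has zero class in the tensor product of the cohomologies iff
it is a coboundary of the total complex -/
lemma qA_eq_zero_iff {d : ℤ} {a : Amb (Zg KM (i + 2)) (Zg KN (j + 2))}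
    (ha : a ∈ piece (Zg KM (i + 2)) (Zg KN (j + 2)) d) :
    qA KM KN i j a = 0 ↔
      iA KM KN i j a ∈ KW.Bw (KM.ddgs d) (KN.ddgs d) (Damb KM KN) (i + j + 4) := by
  obtain ⟨SU⟩ := (KM.ddgs d).nonempty_sdr
  obtain ⟨SV⟩ := (KN.ddgs d).nonempty_sdr
  obtain ⟨hbM, hM1, hM2⟩ := exists_hbar KM SU i
  obtain ⟨hbN, hN1, hN2⟩ := exists_hbar KN SV j
  have hkey := hw_iA KM KN i j SU SV hbM hbN hM1 hN1 ha
  have hD' := Damb_eW_ddgs KM KN d
  constructor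
  · intro h0
    have h1 := KW.sub_hw_mem_Bw SU SV hD' (iA_mem_Zw KM KN i j ha)
    rw [hkey, h0, map_zero, sub_zero] at h1
    exact h1
  · intro hB
    have h1 := KW.hw_eq_zero_of_mem_Bw SU SV hD' hB
    rw [hkey] at h1
    exact map_injOn_piece hbM hbN d hM2 hN2 ((isAmb_qA KM KN i j).2 d a ha) h1

/-- the cocycles of the total complex on the Segre product -/
noncomputable def ZT (n : ℕ) : Submodule T (SegM ψ hT KM.T KN.T).carrier :=
  CS ψ hT KM KN n ⊓ LinearMap.ker (DS ψ hT KM KN)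

/-- the coboundaries of degree `n + 1` of the total complex on the Segre product -/
noncomputable def BT (n : ℕ) : Submodule T (SegM ψ hT KM.T KN.T).carrier :=
  (CS ψ hT KM KN n).map (DS ψ hT KM KN)

lemma ZT_hom (n : ℕ) : (ZT ψ hT KM KN n).IsHomogeneous (SegM ψ hT KM.T KN.T).gr :=
  inf_isHomogeneous _ (CS_hom ψ hT KM KN n) (ker_isHomogeneous _ _ (DS_gr ψ hT KM KN))

lemma BT_hom (n : ℕ) : (BT ψ hT KM KN n).IsHomogeneous (SegM ψ hT KM.T KN.T).gr :=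
  map_isHomogeneous _ _ (DS_gr ψ hT KM KN) (CS_hom ψ hT KM KN n)

/-- the cohomology of degree `n + 1` of the total complex on the Segre product -/
noncomputable abbrev HTg (n : ℕ) : GrLC.GMod.{u} (toAG 𝒯) :=
  sqGMod (SegM ψ hT KM.T KN.T) (BT ψ hT KM KN n) (ZT ψ hT KM KN (n + 1)) (BT_hom ψ hT KM KN n)
    (ZT_hom ψ hT KM KN (n + 1))

/-- homogeneous coboundaries of the total complex on the Segre product, in terms of the ambient
tensor product -/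
lemma mem_BT_iff {n' : ℕ} {d : ℤ} {β : (SegM ψ hT KM.T KN.T).carrier}
    (hβ : β ∈ (SegM ψ hT KM.T KN.T).gr d) :
    β ∈ BT ψ hT KM KN (n' + 1) ↔
      valM ψ hT β ∈ KW.Bw (KM.ddgs d) (KN.ddgs d) (Damb KM KN) (n' + 3) := by
  constructor
  · rintro ⟨_, ⟨z, rfl⟩, rfl⟩
    have h1 : valM ψ hT (DS ψ hT KM KN (QS ψ hT KM KN (n' + 1) z)) =
        Damb KM KN (Qamb KM KN (n' + 1) (valM ψ hT z)) := rfl
    have h2 : PiK KM.T KN.T d (valM ψ hT (DS ψ hT KM KN (QS ψ hT KM KN (n' + 1) z))) =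
        valM ψ hT (DS ψ hT KM KN (QS ψ hT KM KN (n' + 1) z)) := PiK_of_mem_piece _ _ hβ
    have hz := valM_mem ψ hT z
    rw [h1, PiK_isAmb (isAmb_Damb KM KN) d ((isAmb_Qamb KM KN (n' + 1)).mem_segSub hz),
      PiK_isAmb (isAmb_Qamb KM KN (n' + 1)) d hz] at h2
    rw [h1, ← h2]
    refine ⟨_, ⟨valM ψ hT z, rfl⟩, ?_⟩
    show Damb KM KN (KW.Pn (KM.ddgs d) (KN.ddgs d) (n' + 2) (valM ψ hT z)) = _
    rw [Pn_ddgs, Module.End.mul_apply]
    rfl
  · rintro ⟨_, ⟨w, rfl⟩, hw⟩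
    have hpw : PiK KM.T KN.T d w ∈ segSub KM.T KN.T :=
      piece_le_segSub _ _ d (PiK_mem_piece _ _ d w)
    refine ⟨QS ψ hT KM KN (n' + 1) (mkM ψ hT _ hpw), ⟨_, rfl⟩, ?_⟩
    apply valM_injective ψ hT
    rw [← hw]
    show Damb KM KN (Qamb KM KN (n' + 1) (PiK KM.T KN.T d w)) =
      Damb KM KN (KW.Pn (KM.ddgs d) (KN.ddgs d) (n' + 2) w)
    rw [Pn_ddgs, Module.End.mul_apply]
    rfl

/-- the projection of the Segre product of the cocycles onto the Segre product of the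
cohomologies -/
noncomputable def piS : (SegM ψ hT (Zg KM (i + 2)) (Zg KN (j + 2))).carrier →ₗ[T]
    (SegM ψ hT (Hg KM (i + 1)) (Hg KN (j + 1))).carrier :=
  segLiftM ψ hT (qA KM KN i j) (isAmb_qA KM KN i j)

/-- the inclusion of the Segre product of the cocycles into the total complex -/
noncomputable def iotaS : (SegM ψ hT (Zg KM (i + 2)) (Zg KN (j + 2))).carrier →ₗ[T]
    (SegM ψ hT KM.T KN.T).carrier :=
  segLiftM ψ hT (iA KM KN i j) (isAmb_iA KM KN i j)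

lemma iotaS_mem (w : (SegM ψ hT (Zg KM (i + 2)) (Zg KN (j + 2))).carrier) :
    iotaS ψ hT KM KN i j w ∈ ZT ψ hT KM KN (i + j + 2 + 1) := by
  constructor
  · refine ⟨iotaS ψ hT KM KN i j w, ?_⟩
    apply valM_injective ψ hT
    show KW.Pn KM.tdgs KN.tdgs (i + j + 2 + 2) (iA KM KN i j (valM ψ hT w)) =
      iA KM KN i j (valM ψ hT w)
    exact Qamb_iA KM KN i j _
  · rw [SetLike.mem_coe, LinearMap.mem_ker]
    apply valM_injective ψ hT
    show Damb KM KN (iA KM KN i j (valM ψ hT w)) = 0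
    exact Damb_iA KM KN i j _

/-- the cross product, from the Segre product of the cocycles to the cohomology of the total
complex -/
noncomputable def kapS : (SegM ψ hT (Zg KM (i + 2)) (Zg KN (j + 2))).carrier →ₗ[T]
    (HTg ψ hT KM KN (i + j + 2)).carrier :=
  sqMap (SegM ψ hT KM.T KN.T) (BT ψ hT KM KN (i + j + 2)) (ZT ψ hT KM KN (i + j + 2 + 1))
      (BT_hom ψ hT KM KN (i + j + 2)) (ZT_hom ψ hT KM KN (i + j + 2 + 1)) ∘ₗ
    subLift (SegM ψ hT KM.T KN.T) (ZT ψ hT KM KN (i + j + 2 + 1))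
      (ZT_hom ψ hT KM KN (i + j + 2 + 1)) (iotaS ψ hT KM KN i j) (iotaS_mem ψ hT KM KN i j)

lemma kapS_eq_zero_iff (x : (SegM ψ hT (Zg KM (i + 2)) (Zg KN (j + 2))).carrier) :
    kapS ψ hT KM KN i j x = 0 ↔ iotaS ψ hT KM KN i j x ∈ BT ψ hT KM KN (i + j + 2) :=
  sqMap_eq_zero_iff (SegM ψ hT KM.T KN.T) (BT ψ hT KM KN (i + j + 2))
    (ZT ψ hT KM KN (i + j + 2 + 1)) (BT_hom ψ hT KM KN (i + j + 2))
    (ZT_hom ψ hT KM KN (i + j + 2 + 1)) _

lemma iotaS_gr : GrLC.IsGrHom (SegM ψ hT (Zg KM (i + 2)) (Zg KN (j + 2))).gr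
    (SegM ψ hT KM.T KN.T).gr (iotaS ψ hT KM KN i j) :=
  isGrHom_segLiftM ψ hT _ _

lemma piS_gr : GrLC.IsGrHom (SegM ψ hT (Zg KM (i + 2)) (Zg KN (j + 2))).gr
    (SegM ψ hT (Hg KM (i + 1)) (Hg KN (j + 1))).gr (piS ψ hT KM KN i j) :=
  isGrHom_segLiftM ψ hT _ _

lemma kapS_gr : GrLC.IsGrHom (SegM ψ hT (Zg KM (i + 2)) (Zg KN (j + 2))).gr
    (HTg ψ hT KM KN (i + j + 2)).gr (kapS ψ hT KM KN i j) := by
  intro d x hx
  apply isGrHom_sqMap (SegM ψ hT KM.T KN.T) (BT ψ hT KM KN (i + j + 2))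
    (ZT ψ hT KM KN (i + j + 2 + 1)) (BT_hom ψ hT KM KN (i + j + 2))
    (ZT_hom ψ hT KM KN (i + j + 2 + 1)) d
  apply (mem_subGMod_gr (SegM ψ hT KM.T KN.T) _ (ZT_hom ψ hT KM KN (i + j + 2 + 1)) d _).mpr
  exact iotaS_gr ψ hT KM KN i j d x hx

lemma piS_eq_zero_iff {d : ℤ} {x : (SegM ψ hT (Zg KM (i + 2)) (Zg KN (j + 2))).carrier}
    (hx : x ∈ (SegM ψ hT (Zg KM (i + 2)) (Zg KN (j + 2))).gr d) :
    piS ψ hT KM KN i j x = 0 ↔ kapS ψ hT KM KN i j x = 0 := by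
  have ha : valM ψ hT x ∈ piece (Zg KM (i + 2)) (Zg KN (j + 2)) d := hx
  have h1 : piS ψ hT KM KN i j x = 0 ↔ qA KM KN i j (valM ψ hT x) = 0 := by
    constructor
    · intro h
      exact congrArg (valM ψ hT) h
    · intro h
      apply valM_injective ψ hT
      exact h
  have hι : iotaS ψ hT KM KN i j x ∈ (SegM ψ hT KM.T KN.T).gr d :=
    iotaS_gr ψ hT KM KN i j d x hx
  have h3 : iotaS ψ hT KM KN i j x ∈ BT ψ hT KM KN (i + j + 2) ↔
      iA KM KN i j (valM ψ hT x) ∈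
        KW.Bw (KM.ddgs d) (KN.ddgs d) (Damb KM KN) (i + j + 4) :=
    mem_BT_iff ψ hT KM KN (n' := i + j + 1) hι
  rw [h1, kapS_eq_zero_iff, qA_eq_zero_iff KM KN i j ha, h3]

lemma piS_surj_gr (d : ℤ) (y : (SegM ψ hT (Hg KM (i + 1)) (Hg KN (j + 1))).carrier)
    (hy : y ∈ (SegM ψ hT (Hg KM (i + 1)) (Hg KN (j + 1))).gr d) :
    ∃ x ∈ (SegM ψ hT (Zg KM (i + 2)) (Zg KN (j + 2))).gr d, piS ψ hT KM KN i j x = y := by
  have hy' : valM ψ hT y ∈ piece (Hg KM (i + 1)) (Hg KN (j + 1)) d := hy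
  have h1 : piece (Hg KM (i + 1)) (Hg KN (j + 1)) d ≤
      (piece (Zg KM (i + 2)) (Zg KN (j + 2)) d).map (qA KM KN i j) := by
    apply segrePiece_le
    intro a ha b hb
    obtain ⟨x, hx, rfl⟩ := qZ_surj_gr KM (i + 1) d a ha
    obtain ⟨y', hy', rfl⟩ := qZ_surj_gr KN (j + 1) d b hb
    exact ⟨x ⊗ₜ[k] y', tmul_mem_piece _ _ hx hy', rfl⟩
  obtain ⟨a, ha, hay⟩ := h1 hy'
  refine ⟨mkM ψ hT a (piece_le_segSub _ _ d ha), ha, ?_⟩
  apply valM_injective ψ hT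
  exact hay

variable (hvM : ∀ (a : ℕ) (d : ℤ) (u : KM.T.carrier), i + 2 ≤ a → u ∈ KM.T.gr d →
    KM.p (a + 1) u = u → KM.D u = 0 →
    ∃ u' : KM.T.carrier, u' ∈ KM.T.gr d ∧ KM.p a u' = u' ∧ KM.D u' = u)
  (hvN : ∀ (b : ℕ) (d : ℤ) (v : KN.T.carrier), j + 2 ≤ b → v ∈ KN.T.gr d →
    KN.p (b + 1) v = v → KN.D v = 0 →
    ∃ v' : KN.T.carrier, v' ∈ KN.T.gr d ∧ KN.p b v' = v' ∧ KN.D v' = v)

include hvM hvN in
lemma gen_mem {d : ℤ} {a b : ℕ} (hab : a + b = i + j + 4) {u : KM.T.carrier} {v : KN.T.carrier}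
    (hu : u ∈ (KM.ddgs d).Z a) (hv : v ∈ (KN.ddgs d).Z b) :
    u ⊗ₜ[k] v ∈ (piece (Zg KM (i + 2)) (Zg KN (j + 2)) d).map (iA KM KN i j) ⊔
      KW.Bw (KM.ddgs d) (KN.ddgs d) (Damb KM KN) (i + j + 4) := by
  cases a with
  | zero =>
    rw [KM.ddgs_Z_zero hu, TensorProduct.zero_tmul]
    exact Submodule.zero_mem _
  | succ a1 =>
    cases b with
    | zero =>
      rw [KN.ddgs_Z_zero hv, TensorProduct.tmul_zero]
      exact Submodule.zero_mem _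
    | succ b1 =>
      obtain ⟨hud, hup, huD⟩ := KM.mem_ddgs_Z_succ.mp hu
      obtain ⟨hvd, hvp, hvD⟩ := KN.mem_ddgs_Z_succ.mp hv
      rcases Nat.lt_trichotomy a1 (i + 1) with hlt | heq | hgt
      · have hb1 : j + 2 ≤ b1 := by omega
        obtain ⟨v', hv'd, hv'p, hv'D⟩ := hvN b1 d v hb1 hvd hvp hvD
        obtain ⟨b2, rfl⟩ : ∃ b2, b1 = b2 + 1 := ⟨b1 - 1, by omega⟩
        apply Submodule.mem_sup_right
        have hcc : ((-1 : k) ^ (a1 + 1)) * ((-1 : k) ^ (a1 + 1)) = 1 := by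
          rw [← mul_pow]
          simp
        have h1 : Damb KM KN (((-1 : k) ^ (a1 + 1)) • (u ⊗ₜ[k] v')) = u ⊗ₜ[k] v := by
          rw [map_smul, Damb_tmul_succ KM KN hup hv'p, huD, TensorProduct.zero_tmul, zero_add,
            teps_of_pk_succ KM hup, hv'D, ← TensorProduct.smul_tmul', smul_smul, hcc, one_smul]
        refine ⟨((-1 : k) ^ (a1 + 1)) • (u ⊗ₜ[k] v'), ⟨((-1 : k) ^ (a1 + 1)) • (u ⊗ₜ[k] v'), ?_⟩,
          h1⟩
        show KW.Pn (KM.ddgs d) (KN.ddgs d) (i + j + 3) (((-1 : k) ^ (a1 + 1)) • (u ⊗ₜ[k] v')) = _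
        rw [map_smul, Pn_ddgs_tmul KM KN (by omega) hud hv'd hup hv'p]
      · subst heq
        have hb1 : b1 = j + 1 := by omega
        subst hb1
        apply Submodule.mem_sup_left
        have huZ : u ∈ ZZ KM (i + 2) := (mem_ZZ KM).mpr ⟨hup, huD⟩
        have hvZ : v ∈ ZZ KN (j + 2) := (mem_ZZ KN).mpr ⟨hvp, hvD⟩
        refine ⟨mkZ KM (i + 2) u huZ ⊗ₜ[k] mkZ KN (j + 2) v hvZ, tmul_mem_piece _ _ ?_ ?_, rfl⟩
        · exact (mem_Zg_gr KM).mpr hud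
        · exact (mem_Zg_gr KN).mpr hvd
      · have ha1 : i + 2 ≤ a1 := by omega
        obtain ⟨u', hu'd, hu'p, hu'D⟩ := hvM a1 d u ha1 hud hup huD
        obtain ⟨a2, rfl⟩ : ∃ a2, a1 = a2 + 1 := ⟨a1 - 1, by omega⟩
        apply Submodule.mem_sup_right
        have h1 : Damb KM KN (u' ⊗ₜ[k] v) = u ⊗ₜ[k] v := by
          rw [Damb_tmul_succ KM KN hu'p hvp, hu'D, hvD, TensorProduct.tmul_zero, add_zero]
        refine ⟨u' ⊗ₜ[k] v, ⟨u' ⊗ₜ[k] v, ?_⟩, h1⟩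
        show KW.Pn (KM.ddgs d) (KN.ddgs d) (i + j + 3) (u' ⊗ₜ[k] v) = _
        rw [Pn_ddgs_tmul KM KN (by omega) hu'd hvd hu'p hvp]

include hvM hvN in
lemma kapS_surj_gr (d : ℤ) (y : (HTg ψ hT KM KN (i + j + 2)).carrier)
    (hy : y ∈ (HTg ψ hT KM KN (i + j + 2)).gr d) :
    ∃ x ∈ (SegM ψ hT (Zg KM (i + 2)) (Zg KN (j + 2))).gr d, kapS ψ hT KM KN i j x = y := by
  obtain ⟨z', hz'd, rfl⟩ : ∃ m ∈ (subGMod (SegM ψ hT KM.T KN.T) (ZT ψ hT KM KN (i + j + 2 + 1))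
      (ZT_hom ψ hT KM KN (i + j + 2 + 1))).gr d,
    sqMap (SegM ψ hT KM.T KN.T) (BT ψ hT KM KN (i + j + 2)) (ZT ψ hT KM KN (i + j + 2 + 1))
      (BT_hom ψ hT KM KN (i + j + 2)) (ZT_hom ψ hT KM KN (i + j + 2 + 1)) m = y := hy
  have hβZ := subMap_mem (SegM ψ hT KM.T KN.T) (ZT ψ hT KM KN (i + j + 2 + 1))
    (ZT_hom ψ hT KM KN (i + j + 2 + 1)) z'
  have hβd := (mem_subGMod_gr (SegM ψ hT KM.T KN.T) (ZT ψ hT KM KN (i + j + 2 + 1))
    (ZT_hom ψ hT KM KN (i + j + 2 + 1)) d z').mp hz'd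
  generalize hβe : subMap (SegM ψ hT KM.T KN.T) (ZT ψ hT KM KN (i + j + 2 + 1))
    (ZT_hom ψ hT KM KN (i + j + 2 + 1)) z' = β at hβZ hβd
  have hαd : valM ψ hT β ∈ piece KM.T KN.T d := hβd
  have hPα : PiK KM.T KN.T d (valM ψ hT β) = valM ψ hT β := PiK_of_mem_piece _ _ hαd
  obtain ⟨⟨β', hβ'⟩, hβD⟩ := hβZ
  have hαD : Damb KM KN (valM ψ hT β) = 0 :=
    congrArg (valM ψ hT) (LinearMap.mem_ker.mp hβD)
  have hz : valM ψ hT β ∈ KW.Zw (KM.ddgs d) (KN.ddgs d) (Damb KM KN) (i + j + 4) := by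
    refine ⟨LinearMap.mem_ker.mpr hαD, valM ψ hT β', ?_⟩
    rw [Pn_ddgs', Module.End.mul_apply]
    have h5 : KW.Pn KM.tdgs KN.tdgs (i + j + 4) (valM ψ hT β') = valM ψ hT β :=
      congrArg (valM ψ hT) hβ'
    rw [h5, hPα]
  obtain ⟨b, hb, hab⟩ := KW.exists_decomp (Damb_eW_ddgs KM KN d) hz
  have hspan : Submodule.span k {w | ∃ (i' j' : ℕ) (u : KM.T.carrier) (v : KN.T.carrier),
      i' + j' = i + j + 4 ∧ u ∈ (KM.ddgs d).Z i' ∧ v ∈ (KN.ddgs d).Z j' ∧ w = u ⊗ₜ[k] v} ≤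
      (piece (Zg KM (i + 2)) (Zg KN (j + 2)) d).map (iA KM KN i j) ⊔
        KW.Bw (KM.ddgs d) (KN.ddgs d) (Damb KM KN) (i + j + 4) := by
    rw [Submodule.span_le]
    rintro _ ⟨i', j', u, v, hij, hu, hv, rfl⟩
    exact gen_mem KM KN i j hvM hvN hij hu hv
  have h1 := hspan hab
  have h2 : valM ψ hT β ∈ (piece (Zg KM (i + 2)) (Zg KN (j + 2)) d).map (iA KM KN i j) ⊔
      KW.Bw (KM.ddgs d) (KN.ddgs d) (Damb KM KN) (i + j + 4) := by
    have h3 := Submodule.add_mem _ h1 (Submodule.mem_sup_right hb)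
    rwa [sub_add_cancel] at h3
  obtain ⟨_, ⟨a, ha, rfl⟩, b', hb', hsum⟩ := Submodule.mem_sup.mp h2
  refine ⟨mkM ψ hT a (piece_le_segSub _ _ d ha), ha, ?_⟩
  rw [← sub_eq_zero]
  have hd' : iotaS ψ hT KM KN i j (mkM ψ hT a (piece_le_segSub _ _ d ha)) - β ∈
      (SegM ψ hT KM.T KN.T).gr d :=
    sub_mem (iotaS_gr ψ hT KM KN i j d _ ha) hβd
  have hmem : iotaS ψ hT KM KN i j (mkM ψ hT a (piece_le_segSub _ _ d ha)) - β ∈
      BT ψ hT KM KN (i + j + 1 + 1) := by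
    apply (mem_BT_iff ψ hT KM KN (n' := i + j + 1) hd').mpr
    have h4 : valM ψ hT (iotaS ψ hT KM KN i j (mkM ψ hT a (piece_le_segSub _ _ d ha)) - β) =
        -b' := by
      show iA KM KN i j a - valM ψ hT β = -b'
      rw [← hsum]
      abel
    rw [h4]
    exact Submodule.neg_mem _ hb'
  show sqMap (SegM ψ hT KM.T KN.T) (BT ψ hT KM KN (i + j + 2)) (ZT ψ hT KM KN (i + j + 2 + 1))
      (BT_hom ψ hT KM KN (i + j + 2)) (ZT_hom ψ hT KM KN (i + j + 2 + 1))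
      (subLift (SegM ψ hT KM.T KN.T) (ZT ψ hT KM KN (i + j + 2 + 1))
        (ZT_hom ψ hT KM KN (i + j + 2 + 1)) (iotaS ψ hT KM KN i j) (iotaS_mem ψ hT KM KN i j)
        (mkM ψ hT a (piece_le_segSub _ _ d ha))) -
    sqMap (SegM ψ hT KM.T KN.T) (BT ψ hT KM KN (i + j + 2)) (ZT ψ hT KM KN (i + j + 2 + 1))
      (BT_hom ψ hT KM KN (i + j + 2)) (ZT_hom ψ hT KM KN (i + j + 2 + 1)) z' = 0
  rw [← map_sub, sqMap_eq_zero_iff, map_sub, subMap_subLift, hβe]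
  exact hmem

include hvM hvN in
/-- **the top cohomology of the total complex on the Segre product is the Segre product of the
top cohomologies** -/
theorem giso_top :
    GIso (SegM ψ hT (Hg KM (i + 1)) (Hg KN (j + 1))) (HTg ψ hT KM KN (i + j + 2)) := by
  obtain ⟨e, he, -⟩ := exists_equiv_of_common_cover
    (SegM ψ hT (Zg KM (i + 2)) (Zg KN (j + 2))) (SegM ψ hT (Hg KM (i + 1)) (Hg KN (j + 1)))
    (HTg ψ hT KM KN (i + j + 2)) (piS ψ hT KM KN i j) (kapS ψ hT KM KN i j)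
    (piS_gr ψ hT KM KN i j) (kapS_gr ψ hT KM KN i j) (piS_surj_gr ψ hT KM KN i j)
    (kapS_surj_gr ψ hT KM KN i j hvM hvN)
    (fun d x hx => piS_eq_zero_iff ψ hT KM KN i j hx)
  exact ⟨e, he⟩

end Main

end Groth.Agent.Helper8.SG
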