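import Mathlib
import Groth.Prelude.Def_GrLC
import Groth.Prelude.Def_GrSeg
import Groth.Agent.Lib.Helper8.LC18
import Groth.Agent.Lib.Helper8.SG3

set_option autoImplicit false
set_option linter.unusedSectionVars false
set_option linter.unusedVariables false
set_option linter.unusedSimpArgs false
set_option linter.style.haveILetI false
set_option maxHeartbeats 800000

/-!
# The top local cohomology of a Segre product of rings is the Segre product of the top local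
cohomologies, as graded modules (helper8)
-/

universe u

namespace Groth.Agent.Helper8.SG

open scoped TensorProduct
open CategoryTheory DirectSum Groth.Agent.Helper9.GrLCLib Groth.Agent.Helper9.GrLCLib.Trans
open Groth.Agent.Helper8.LC Groth.Agent.Lib.Helper6.CMReg Groth.Agent.Lib.Helper6.SegK
open Groth.Agent.Helper9.SegreLib

section Van

variable {R : Type u} [CommRing R] [IsNoetherianRing R] {𝒜 : ℤ → AddSubgroup R} [GradedRing 𝒜]
  {X : GrLC.GMod.{u} 𝒜} {xs : List R} (K : CPack X xs)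
  (a : HomogeneousIdeal 𝒜) (ha : a.toIdeal ≤ Ideal.span {y | y ∈ xs})
  (hpos : ∀ e : ℤ, 0 < e → ∀ x ∈ 𝒜 e, x ∈ a.toIdeal)

include ha hpos in
/-- the Čech complex computes local cohomology, as graded modules -/
theorem giso_cech (m : ℕ) : GIso (LCGMod 𝒜 X.gr a (m + 1)) (Hg K m) :=
  giso_pos (K.toCoPack a ha hpos) (m + 1) (by omega)

include ha hpos in
/-- vanishing of local cohomology makes homogeneous Čech cocycles coboundaries of homogeneous
elements -/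
lemma hv_of_vanish (m : ℕ) (hsub : Subsingleton (LocCoh.H a.toIdeal (m + 1) X.carrier)) :
    ∀ (d : ℤ) (u : K.T.carrier), u ∈ K.T.gr d → K.p (m + 1) u = u → K.D u = 0 →
      ∃ u' : K.T.carrier, u' ∈ K.T.gr d ∧ K.p m u' = u' ∧ K.D u' = u := by
  intro d u hud hup huD
  obtain ⟨e, -⟩ := giso_cech K a ha hpos m
  haveI : Subsingleton (LCGMod 𝒜 X.gr a (m + 1)).carrier := hsub
  haveI : Subsingleton (Hg K m).carrier := e.symm.toEquiv.subsingleton
  have hu : u ∈ ZZ K (m + 1) := (mem_ZZ K).mpr ⟨hup, huD⟩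
  have h0 : qZ K m (mkZ K (m + 1) u hu) = 0 := Subsingleton.elim _ _
  have hB : u ∈ BB K m := (qZ_eq_zero_iff K m _).mp h0
  exact mem_BB_gr K hB hud

end Van

section Seg

variable {k : Type u} [Field k] {R S T : Type u} [CommRing R] [CommRing S] [CommRing T]
  [Algebra k R] [Algebra k S] [Algebra k T] [IsNoetherianRing R] [IsNoetherianRing S]
  [IsNoetherianRing T]
  {𝒜 : ℤ → Submodule k R} {ℬ : ℤ → Submodule k S} {𝒯 : ℤ → Submodule k T}
  [GradedAlgebra 𝒜] [GradedAlgebra ℬ] [GradedAlgebra 𝒯]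
  (ψ : T →ₐ[k] R ⊗[k] S) (hT : GrSeg.IsSegreRing 𝒜 ℬ 𝒯 ψ)

attribute [local instance] kMod

/-- the Segre product of homogeneous isomorphisms -/
theorem giso_seg {U U' : GrLC.GMod.{u} (toAG 𝒜)} {V V' : GrLC.GMod.{u} (toAG ℬ)}
    (hU : GIso U U') (hV : GIso V V') : GIso (SegM ψ hT U V) (SegM ψ hT U' V') := by
  obtain ⟨e, he⟩ := hU
  obtain ⟨e', he'⟩ := hV
  have hes := isGrHom_symm U.gr U'.gr e he
  have he's := isGrHom_symm V.gr V'.gr e' he'
  have hF := isAmb_ambMap e.toLinearMap e'.toLinearMap he he'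
  have hG := isAmb_ambMap e.symm.toLinearMap e'.symm.toLinearMap hes he's
  have h1 : ambMap e.symm.toLinearMap e'.symm.toLinearMap ∘ₗ
      ambMap e.toLinearMap e'.toLinearMap = (LinearMap.id : Amb U V →ₗ[k] Amb U V) := by
    rw [← ambMap_comp, e.symm_comp, e'.symm_comp, ambMap_id]
  have h2 : ambMap e.toLinearMap e'.toLinearMap ∘ₗ
      ambMap e.symm.toLinearMap e'.symm.toLinearMap =
        (LinearMap.id : Amb U' V' →ₗ[k] Amb U' V') := by
    rw [← ambMap_comp, e.comp_symm, e'.comp_symm, ambMap_id]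
  refine GIso.of_bijective (segLiftM ψ hT _ hF) (isGrHom_segLiftM ψ hT _ hF) ⟨?_, ?_⟩
  · intro w w' hww'
    have h3 := congrArg (segLiftM ψ hT _ hG) hww'
    rw [segLiftM_segLiftM, segLiftM_segLiftM, segLiftM_congr ψ hT h1 _ IsAmb.id w,
      segLiftM_congr ψ hT h1 _ IsAmb.id w'] at h3
    exact h3
  · intro w
    refine ⟨segLiftM ψ hT _ hG w, ?_⟩
    rw [segLiftM_segLiftM, segLiftM_congr ψ hT h2 _ IsAmb.id]
    rfl

variable (XM : GrLC.GMod.{u} (toAG 𝒜)) (XN : GrLC.GMod.{u} (toAG ℬ))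
  (aR : HomogeneousIdeal (toAG 𝒜))
  (haR : aR.toIdeal = Ideal.span (⋃ n ∈ Set.Ioi (0 : ℤ), (toAG 𝒜 n : Set R)))
  (aS : HomogeneousIdeal (toAG ℬ))
  (haS : aS.toIdeal = Ideal.span (⋃ n ∈ Set.Ioi (0 : ℤ), (toAG ℬ n : Set S)))
  (aT : HomogeneousIdeal (toAG 𝒯))
  (haT : aT.toIdeal = Ideal.span (⋃ n ∈ Set.Ioi (0 : ℤ), (toAG 𝒯 n : Set T)))

include haR haS haT in
/-- **the top local cohomology of a Segre product is the Segre product of the top local
cohomologies**, as graded modules -/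
theorem topK (i j : ℕ) (hdR : ringKrullDim R ≤ ((i + 2 : ℕ) : WithBot ℕ∞))
    (hdS : ringKrullDim S ≤ ((j + 2 : ℕ) : WithBot ℕ∞)) :
    GIso (SegM ψ hT (LCGMod (toAG 𝒜) XM.gr aR (i + 2)) (LCGMod (toAG ℬ) XN.gr aS (j + 2)))
      (LCGMod (toAG 𝒯) (SegM ψ hT XM XN).gr aT (i + j + 3)) := by
  obtain ⟨xs, hxs1, hxs2⟩ := exists_list_gens_pos aR haR
  obtain ⟨ys, hys1, hys2⟩ := exists_list_gens_pos aS haS
  obtain ⟨KM⟩ := CPack.nonempty_cpack XM xs hxs1
  obtain ⟨KN⟩ := CPack.nonempty_cpack XN ys hys1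
  have haR' : aR.toIdeal ≤ Ideal.span {y | y ∈ xs} := hxs2.le
  have haS' : aS.toIdeal ≤ Ideal.span {y | y ∈ ys} := hys2.le
  have hposR : ∀ e : ℤ, 0 < e → ∀ x ∈ toAG 𝒜 e, x ∈ aR.toIdeal := by
    intro e he x hx
    rw [haR]
    exact Ideal.subset_span (Set.mem_iUnion₂.mpr ⟨e, he, hx⟩)
  have hposS : ∀ e : ℤ, 0 < e → ∀ x ∈ toAG ℬ e, x ∈ aS.toIdeal := by
    intro e he x hx
    rw [haS]
    exact Ideal.subset_span (Set.mem_iUnion₂.mpr ⟨e, he, hx⟩)
  have hposT : ∀ e : ℤ, 0 < e → ∀ x ∈ toAG 𝒯 e, x ∈ aT.toIdeal := by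
    intro e he x hx
    rw [haT]
    exact Ideal.subset_span (Set.mem_iUnion₂.mpr ⟨e, he, hx⟩)
  have hxs : ∀ e : ℤ, 0 < e → ∀ x ∈ toAG 𝒜 e, x ∈ Ideal.span {y | y ∈ xs} :=
    fun e he x hx => haR' (hposR e he x hx)
  have hys : ∀ e : ℤ, 0 < e → ∀ x ∈ toAG ℬ e, x ∈ Ideal.span {y | y ∈ ys} :=
    fun e he x hx => haS' (hposS e he x hx)
  have haG : aT.toIdeal ≤
      Ideal.span {t : T | ∃ e : ℤ, 0 < e ∧ ∃ x ∈ 𝒜 e, ∃ y ∈ ℬ e, ψ t = x ⊗ₜ[k] y} := by
    rw [haT]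
    exact irrelevant_le_span ψ hT
  have hcdR := cdLE_of_ringKrullDim_le aR.toIdeal (i + 2) hdR
  have hcdS := cdLE_of_ringKrullDim_le aS.toIdeal (j + 2) hdS
  have hvM : ∀ (a : ℕ) (d : ℤ) (u : KM.T.carrier), i + 2 ≤ a → u ∈ KM.T.gr d →
      KM.p (a + 1) u = u → KM.D u = 0 →
      ∃ u' : KM.T.carrier, u' ∈ KM.T.gr d ∧ KM.p a u' = u' ∧ KM.D u' = u := by
    intro a d u ha
    exact hv_of_vanish KM aR haR' hposR a (hcdR XM.carrier (a + 1) (by omega)) d u
  have hvN : ∀ (b : ℕ) (d : ℤ) (v : KN.T.carrier), j + 2 ≤ b → v ∈ KN.T.gr d →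
      KN.p (b + 1) v = v → KN.D v = 0 →
      ∃ v' : KN.T.carrier, v' ∈ KN.T.gr d ∧ KN.p b v' = v' ∧ KN.D v' = v := by
    intro b d v hb
    exact hv_of_vanish KN aS haS' hposS b (hcdS XN.carrier (b + 1) (by omega)) d v
  have h1 := giso_cech KM aR haR' hposR (i + 1)
  have h2 := giso_cech KN aS haS' hposS (j + 1)
  have h3 : GIso (LCGMod (toAG 𝒯) (SegM ψ hT XM XN).gr aT (i + j + 3))
      (HTg ψ hT KM KN (i + j + 2)) :=
    giso_pos (segCoPack ψ hT KM KN hxs hys aT haG hposT) (i + j + 3) (by omega)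
  have htop := giso_top ψ hT KM KN i j hvM hvN
  exact ((giso_seg ψ hT h1 h2).trans htop).trans h3.symm

end Seg

end Groth.Agent.Helper8.SG
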