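import Mathlib
import Groth.Prelude.Def_GrLC
import Groth.Prelude.Def_GrSeg
import Groth.Agent.Lib.Helper8.SG4
import Groth.Agent.Lib.Helper8.GD4
import Groth.Agent.Lib.Helper6.SegK.SKr
import Groth.Agent.Lib.Helper6.SegCM.CMb

set_option autoImplicit false
set_option linter.unusedSectionVars false
set_option linter.unusedVariables false
set_option linter.unusedSimpArgs false
set_option linter.style.haveILetI false
set_option maxHeartbeats 800000

/-!
# Dimensions of the pieces of canonical modules and of Segre products (helper8)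
-/

universe u

namespace Groth.Agent.Helper8.SG

open scoped TensorProduct
open CategoryTheory DirectSum Groth.Agent.Helper9.GrLCLib Groth.Agent.Helper9.GrLCLib.Trans
open Groth.Agent.Helper8.LC Groth.Agent.Lib.Helper6.CMReg Groth.Agent.Lib.Helper6.SegK
open Groth.Agent.Helper9.SegreLib Groth.Agent.Helper8.GD

section CanonRank

variable {R : Type u} [CommRing R] [IsNoetherianRing R] {𝒜 : ℤ → AddSubgroup R} [GradedRing 𝒜]
  {m : HomogeneousIdeal 𝒜} (hF : FieldGr 𝒜 m)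
variable {E' : Type u} [AddCommGroup E'] [Module R E'] {𝓔 : ℤ → AddSubgroup E'}
  [DirectSum.Decomposition 𝓔] [SetLike.GradedSMul 𝒜 𝓔]
  {e : (R ⧸ m.toIdeal) →ₗ[R] E'} (he : GrLC.IsStarInjHull 𝒜 (GrLC.quotGr 𝒜 m) 𝓔 e)
variable {C : Type u} [AddCommGroup C] [Module R C] (𝒞 : ℤ → AddSubgroup C)
  [DirectSum.Decomposition 𝒞] [SetLike.GradedSMul 𝒜 𝒞]

include hF he in
/-- graded duality: the piece of degree `j` of a canonical module has the dimension of the piece of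
degree `-j` of the top local cohomology -/
theorem finrank_canonical_piece (n : ℕ) (I : GrLC.StarInjRes 𝒜 𝒜)
    (hC : GrLC.IsStarCanonical 𝒜 𝒞 𝓔 m n I) (j : ℤ) :
    Module.finrank (GrLC.deg0 𝒜) (GrLC.comp 𝒜 𝒞 j) =
      Module.finrank (GrLC.deg0 𝒜) (GrLC.comp 𝒜 (LCGMod 𝒜 𝒜 m n).gr (-j)) := by
  obtain ⟨hfin, φ, hφ⟩ := hC
  haveI := hfin
  haveI := finite_comp 𝒜 𝒞 j
  rw [← (finrank_homDeg hF he 𝒞 (j := j)).2]
  obtain ⟨Θ, hΘ⟩ := exists_theta_LCgr 𝒜 𝒜 m I n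
  let X : GrLC.GMod.{u} 𝒜 := HGMod 𝒜 𝒜 I m n
  have hXgr : X.gr = I.Hgr m n := HGMod_gr 𝒜 𝒜 I m n
  let φX : (C →ₗ[R] E') ≃ₗ[R] X.carrier := φ
  have hφX : GrLC.IsGrHom (fun d => (GrLC.homDeg 𝒜 𝒞 𝓔 d).toAddSubgroup) X.gr
      φX.toLinearMap := by
    rw [hXgr]
    exact hφ
  let Φ : (C →ₗ[R] E') →+ (LCGMod 𝒜 𝒜 m n).carrier :=
    (Θ.toLinearMap ∘ₗ φ.toLinearMap).toAddMonoidHom
  have hΦ : ∀ f, Φ f = Θ (φ f) := fun _ => rfl
  apply finrank_eq_of_rank_eq
  refine rank_eq_of_semilinear (id : GrLC.deg0 𝒜 → GrLC.deg0 𝒜) Function.bijective_id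
    (GrLC.homDeg 𝒜 𝒞 𝓔 (-j)) (GrLC.comp 𝒜 (LCGMod 𝒜 𝒜 m n).gr (-j)) Φ ?_ ?_ ?_
  · intro f g hfg
    rw [hΦ, hΦ] at hfg
    exact φ.injective (Θ.injective hfg)
  · intro c f
    rw [hΦ, hΦ]
    show Θ (φ ((c : R) • f)) = (c : R) • Θ (φ f)
    rw [map_smul, map_smul]
  · intro y
    constructor
    · intro hy
      have hy' : y ∈ LCgr 𝒜 𝒜 m.toIdeal n (-j) := (mem_LCGMod_gr 𝒜 𝒜 m n (-j) y).mp hy
      have hx : Θ.symm y ∈ I.Hcomp m n (-j) := by
        apply (hΘ (-j) _).mpr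
        rw [LinearEquiv.apply_symm_apply]
        exact hy'
      have hxX : (Θ.symm y : X.carrier) ∈ X.gr (-j) := by
        rw [hXgr]
        exact hx
      have hf := symm_isGrHomDeg 𝓔 𝒞 X φX hφX hxX
      refine ⟨φ.symm (Θ.symm y), hf, ?_⟩
      rw [hΦ, LinearEquiv.apply_symm_apply, LinearEquiv.apply_symm_apply]
    · rintro ⟨f, hf, rfl⟩
      apply (mem_LCGMod_gr 𝒜 𝒜 m n (-j) _).mpr
      rw [hΦ]
      apply (hΘ (-j) _).mp
      exact hφ (-j) f hf

end CanonRank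

section KAlg

variable {k : Type u} [Field k] {R : Type u} [CommRing R] [Algebra k R] [IsNoetherianRing R]
  (𝒜 : ℤ → Submodule k R) [GradedAlgebra 𝒜]

attribute [local instance] kMod

/-- the graded ring over a field obtained from a nonnegatively graded algebra over a field whose
degree zero piece is the field -/
theorem fieldGr_toAG [Nontrivial R] (hpos : ∀ n : ℤ, n < 0 → 𝒜 n = ⊥)
    (h0 : 𝒜 0 = Submodule.span k {(1 : R)}) (m : HomogeneousIdeal 𝒜)
    (hm : m.toIdeal = Ideal.span (⋃ n ∈ Set.Ioi (0 : ℤ), (𝒜 n : Set R))) :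
    FieldGr (toAG 𝒜) (idealToAG 𝒜 m) :=
  ⟨Groth.Agent.Lib.Helper6.SegCM.toAG_eq_bot 𝒜 hpos,
    Groth.Agent.Lib.Helper6.SegCM.isField_deg0 𝒜 (h0_of_span h0), hm⟩

/-- translation of *injective envelopes -/
theorem starInjHull_toAG (m : HomogeneousIdeal 𝒜) {E' : Type u} [AddCommGroup E'] [Module R E']
    (𝓔 : ℤ → AddSubgroup E') [DirectSum.Decomposition 𝓔] [SetLike.GradedSMul 𝒜 𝓔]
    (e : (R ⧸ m.toIdeal) →ₗ[R] E') (he : GrLC.IsStarInjHull 𝒜 (GrLC.quotGr 𝒜 m) 𝓔 e) :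
    letI := gsmulToAG' 𝒜 𝓔
    GrLC.IsStarInjHull (toAG 𝒜) (GrLC.quotGr (toAG 𝒜) (idealToAG 𝒜 m)) 𝓔 e :=
  letI := gsmulToAG' 𝒜 𝓔
  { injective := he.injective
    grHom := he.grHom
    essential := he.essential
    starInj := isStarInj_toAG 𝒜 𝓔 he.starInj }

/-- homogeneously isomorphic graded modules have pieces of the same dimension -/
theorem finrank_grK_of_giso {X Y : GrLC.GMod.{u} (toAG 𝒜)} (h : GIso X Y) (d : ℤ) :
    Module.finrank k (grK X d) = Module.finrank k (grK Y d) := by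
  obtain ⟨e, he⟩ := h
  have he' := isGrHom_symm X.gr Y.gr e he
  apply finrank_eq_of_rank_eq
  refine rank_eq_of_semilinear (id : k → k) Function.bijective_id (grK X d) (grK Y d)
    e.toLinearMap.toAddMonoidHom e.injective ?_ ?_
  · intro c x
    show e (c • x) = c • e x
    rw [kMod_smul_def, kMod_smul_def, map_smul]
  · intro y
    constructor
    · intro hy
      exact ⟨e.symm y, he' d y hy, e.apply_symm_apply y⟩
    · rintro ⟨x, hx, rfl⟩
      exact he d x hx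

include 𝒜 in
/-- the dimension of the pieces of a canonical module of a graded algebra over a field, in terms of
the top local cohomology -/
theorem finrank_canonical_piece_k [Nontrivial R] (hpos : ∀ n : ℤ, n < 0 → 𝒜 n = ⊥)
    (h0 : 𝒜 0 = Submodule.span k {(1 : R)}) (m : HomogeneousIdeal 𝒜)
    (hm : m.toIdeal = Ideal.span (⋃ n ∈ Set.Ioi (0 : ℤ), (𝒜 n : Set R)))
    (I : GrLC.StarInjRes 𝒜 𝒜) (n : ℕ)
    {E' : Type u} [AddCommGroup E'] [Module R E']
    (𝓔 : ℤ → AddSubgroup E') [DirectSum.Decomposition 𝓔] [SetLike.GradedSMul 𝒜 𝓔]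
    (e : (R ⧸ m.toIdeal) →ₗ[R] E') (he : GrLC.IsStarInjHull 𝒜 (GrLC.quotGr 𝒜 m) 𝓔 e)
    {C : Type u} [AddCommGroup C] [Module R C] (𝒞 : ℤ → AddSubgroup C)
    [DirectSum.Decomposition 𝒞] [SetLike.GradedSMul 𝒜 𝒞]
    (hC : GrLC.IsStarCanonical 𝒜 𝒞 𝓔 m n I) (j : ℤ) :
    Module.finrank (GrLC.deg0 𝒜) (GrLC.comp 𝒜 𝒞 j) =
      Module.finrank k (grK (LCGMod (toAG 𝒜) (bun 𝒜 𝒜).gr (idealToAG 𝒜 m) n) (-j)) := by
  have hF := fieldGr_toAG 𝒜 hpos h0 m hm
  letI i1 : SetLike.GradedSMul (toAG 𝒜) 𝓔 := gsmulToAG' 𝒜 𝓔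
  letI i2 : SetLike.GradedSMul (toAG 𝒜) 𝒞 := gsmulToAG' 𝒜 𝒞
  have he' := starInjHull_toAG 𝒜 m 𝓔 e he
  have hC' : GrLC.IsStarCanonical (toAG 𝒜) 𝒞 𝓔 (idealToAG 𝒜 m) n (resToAG 𝒜 𝒜 I) := by
    obtain ⟨hfin, φ, hφ⟩ := hC
    exact ⟨hfin, φ, fun g x hx => hφ g x hx⟩
  have h1 : Module.finrank (GrLC.deg0 𝒜) (GrLC.comp 𝒜 𝒞 j) =
      Module.finrank (GrLC.deg0 (toAG 𝒜)) (GrLC.comp (toAG 𝒜) 𝒞 j) := by
    apply finrank_eq_of_rank_eq
    exact rank_eq_of_semilinear (deg0ToAG 𝒜) (deg0ToAG_bijective 𝒜) (GrLC.comp 𝒜 𝒞 j)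
      (GrLC.comp (toAG 𝒜) 𝒞 j) (AddMonoidHom.id C) Function.injective_id
      (fun c x => rfl) (fun y => ⟨fun hy => ⟨y, hy, rfl⟩, fun ⟨x, hx, hxy⟩ => hxy ▸ hx⟩)
  have h2 := finrank_canonical_piece hF he' 𝒞 n (resToAG 𝒜 𝒜 I) hC' j
  have hinj : Function.Injective (algebraMap k R) := (algebraMap k R).injective
  have h3 := finrank_eq_of_rank_eq
    (rank_grK (LCGMod (toAG 𝒜) (bun 𝒜 𝒜).gr (idealToAG 𝒜 m) n) (-j) (h0_of_span h0) hinj)
  rw [h1, h2]
  exact h3.symm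

end KAlg

section Seg

variable {k : Type u} [Field k] {R S T : Type u} [CommRing R] [CommRing S] [CommRing T]
  [Algebra k R] [Algebra k S] [Algebra k T] [IsNoetherianRing R] [IsNoetherianRing S]
  [IsNoetherianRing T]
  {𝒜 : ℤ → Submodule k R} {ℬ : ℤ → Submodule k S} {𝒯 : ℤ → Submodule k T}
  [GradedAlgebra 𝒜] [GradedAlgebra ℬ] [GradedAlgebra 𝒯]
  (ψ : T →ₐ[k] R ⊗[k] S) (hT : GrSeg.IsSegreRing 𝒜 ℬ 𝒯 ψ)
  (U : GrLC.GMod.{u} (toAG 𝒜)) (V : GrLC.GMod.{u} (toAG ℬ))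

attribute [local instance] kMod

/-- the inclusion of the tensor product of the pieces of degree `d` -/
noncomputable def pieceMap (d : ℤ) : (grK U d) ⊗[k] (grK V d) →ₗ[k] Amb U V :=
  TensorProduct.mapIncl (grK U d) (grK V d)

lemma pieceMap_tmul (d : ℤ) (a : grK U d) (b : grK V d) :
    pieceMap U V d (a ⊗ₜ[k] b) = (a : U.carrier) ⊗ₜ[k] (b : V.carrier) := rfl

lemma pieceMap_injective (d : ℤ) : Function.Injective (pieceMap U V d) :=
  Module.Flat.tensorProduct_mapIncl_injective_of_right (grK U d) (grK V d)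

lemma range_pieceMap (d : ℤ) : LinearMap.range (pieceMap U V d) = piece U V d := by
  apply le_antisymm
  · rintro _ ⟨w, rfl⟩
    induction w using TensorProduct.induction_on with
    | zero =>
      rw [map_zero]
      exact Submodule.zero_mem _
    | tmul a b =>
      rw [pieceMap_tmul]
      exact tmul_mem_piece U V a.2 b.2
    | add x y hx hy =>
      rw [map_add]
      exact Submodule.add_mem _ hx hy
  · apply segrePiece_le
    intro a ha b hb
    exact ⟨(⟨a, ha⟩ : grK U d) ⊗ₜ[k] (⟨b, hb⟩ : grK V d), rfl⟩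

lemma valM_smul_k (c : k) (w : (SegM ψ hT U V).carrier) :
    valM ψ hT (c • w) = c • valM ψ hT w := by
  rw [kMod_smul_def, valM_smul, AlgHom.commutes, Algebra.algebraMap_eq_smul_one, map_smul,
    LinearMap.smul_apply, Groth.Agent.Lib.Helper6.SegK.act_one]

/-- **the pieces of a Segre product**: dimensions multiply -/
theorem finrank_grK_segM (d : ℤ) :
    Module.finrank k (grK (SegM ψ hT U V) d) =
      Module.finrank k (grK U d) * Module.finrank k (grK V d) := by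
  have h1 : Module.finrank k (grK (SegM ψ hT U V) d) = Module.finrank k (piece U V d) := by
    apply finrank_eq_of_rank_eq
    refine rank_eq_of_semilinear (id : k → k) Function.bijective_id (grK (SegM ψ hT U V) d)
      (piece U V d) (SegC.valHom ψ hT U V) (valM_injective ψ hT) ?_ ?_
    · intro c w
      exact valM_smul_k ψ hT U V c w
    · intro y
      constructor
      · intro hy
        exact ⟨mkM ψ hT y (piece_le_segSub U V d hy), hy, rfl⟩
      · rintro ⟨w, hw, rfl⟩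
        exact hw
  have h2 : Module.finrank k (piece U V d) =
      Module.finrank k ((grK U d) ⊗[k] (grK V d)) := by
    rw [← range_pieceMap U V d]
    exact (LinearEquiv.ofInjective (pieceMap U V d) (pieceMap_injective U V d)).finrank_eq.symm
  rw [h1, h2, Module.finrank_tensorProduct]

end Seg

end Groth.Agent.Helper8.SG
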