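import Mathlib
import Groth.Prelude.Def_GrLC
import Groth.Prelude.Def_GrSeg
import Groth.Agent.Lib.Helper8.SG5
import Groth.Agent.Lib.Helper8.GV3

set_option autoImplicit false
set_option linter.unusedSectionVars false
set_option linter.unusedVariables false
set_option linter.unusedSimpArgs false
set_option linter.style.haveILetI false
set_option maxHeartbeats 800000

/-!
# The Segre product of the *injective envelopes of the residue fields is the *injective envelope of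
the residue field of the Segre product (helper8)
-/

universe u

namespace Groth.Agent.Helper8.SG

open scoped TensorProduct
open CategoryTheory DirectSum Groth.Agent.Helper9.GrLCLib Groth.Agent.Helper9.GrLCLib.Trans
open Groth.Agent.Helper8.LC Groth.Agent.Lib.Helper6.CMReg Groth.Agent.Lib.Helper6.SegK
open Groth.Agent.Helper9.SegreLib Groth.Agent.Helper8.GD

section TL

variable {k : Type u} [Field k] {U V : Type u} [AddCommGroup U] [Module k U] [AddCommGroup V]
  [Module k V]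

/-- contraction of the second factor of a tensor with a functional -/
noncomputable def contrR (g : Module.Dual k V) : U ⊗[k] V →ₗ[k] U :=
  (TensorProduct.rid k U).toLinearMap ∘ₗ g.lTensor U

lemma contrR_tmul (g : Module.Dual k V) (u : U) (v : V) :
    contrR g (u ⊗ₜ[k] v) = g v • u := by
  simp [contrR]

/-- two separating families of functionals separate the tensors -/
theorem exists_dual_ne_zero (F : Set (Module.Dual k U)) (G : Set (Module.Dual k V))
    (hF : ∀ u : U, u ≠ 0 → ∃ f ∈ F, f u ≠ 0) (hG : ∀ v : V, v ≠ 0 → ∃ g ∈ G, g v ≠ 0)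
    (w : U ⊗[k] V) (hw : w ≠ 0) : ∃ f ∈ F, ∃ g ∈ G, f (contrR g w) ≠ 0 := by
  classical
  let b := Module.Free.chooseBasis k U
  have h1 : TensorProduct.equivFinsuppOfBasisLeft (N := V) b w ≠ 0 :=
    fun h => hw ((LinearEquiv.map_eq_zero_iff _).mp h)
  obtain ⟨i, hi⟩ := DFunLike.ne_iff.mp h1
  rw [TensorProduct.equivFinsuppOfBasisLeft_apply, Finsupp.zero_apply] at hi
  obtain ⟨g, hgG, hg⟩ := hG _ hi
  have key : ∀ w : U ⊗[k] V, b.coord i (contrR g w) =
      g (TensorProduct.lid k V ((b.coord i).rTensor V w)) := by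
    intro w
    induction w using TensorProduct.induction_on with
    | zero => simp
    | tmul u v => simp [contrR_tmul, mul_comm]
    | add x y hx hy => simp only [map_add, hx, hy]
  have hu : contrR g w ≠ 0 := by
    intro h
    apply hg
    rw [← key, h, map_zero]
  obtain ⟨f, hfF, hf⟩ := hF _ hu
  exact ⟨f, hfF, g, hgG, hf⟩

end TL

section Lam

variable {k : Type u} [Field k] {R : Type u} [CommRing R] [Algebra k R] [IsNoetherianRing R]
  {𝒜 : ℤ → Submodule k R} [GradedAlgebra 𝒜]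
  {m : HomogeneousIdeal (toAG 𝒜)} (hF : FieldGr (toAG 𝒜) m)
  (h0 : ∀ r ∈ 𝒜 0, ∃ c : k, algebraMap k R c = r)
  {E : GrLC.GMod.{u} (toAG 𝒜)} {e : (R ⧸ m.toIdeal) →ₗ[R] E.carrier}
  (he : GrLC.IsStarInjHull (toAG 𝒜) (GrLC.quotGr (toAG 𝒜) m) E.gr e)

attribute [local instance] kMod

include hF he in
/-- a functional on the *injective envelope with value one on the socle generator -/
lemma exists_lam : ∃ lam : Module.Dual k E.carrier, lam (e 1) = 1 := by
  have hne := eps_ne_zero hF he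
  obtain ⟨φ, hφ⟩ : ∃ φ : Module.Dual k E.carrier, φ (e 1) ≠ 0 := by
    by_contra hcon
    push_neg at hcon
    exact hne ((Module.forall_dual_apply_eq_zero_iff k (e 1)).mp hcon)
  exact ⟨(φ (e 1))⁻¹ • φ, by rw [LinearMap.smul_apply, smul_eq_mul, inv_mul_cancel₀ hφ]⟩

include hF he h0 in
/-- elements of degree zero of the *injective envelope are multiples of the socle generator -/
lemma exists_coord_k {x : E.carrier} (hx : x ∈ E.gr 0) : ∃ c : k, x = c • e 1 := by
  obtain ⟨c, hc, hxc⟩ := exists_coord hF he hx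
  obtain ⟨c', rfl⟩ := h0 c hc
  exact ⟨c', hxc⟩

include hF he h0 in
/-- the functionals `x ↦ lam (a • x)`, `a ∈ R_{-d}`, separate the points of `E_d` -/
lemma exists_lam_smul_ne_zero (lam : Module.Dual k E.carrier) (hlam : lam (e 1) = 1) {d : ℤ}
    {x : E.carrier} (hx : x ∈ E.gr d) (hx0 : x ≠ 0) : ∃ a ∈ 𝒜 (-d), lam (a • x) ≠ 0 := by
  obtain ⟨a, ha, hax, harange⟩ := exists_smul_ne_zero hF he hx hx0
  have hmem : a • x ∈ E.gr 0 := (mem_zero_iff hF he _).mpr harange
  obtain ⟨c, hc⟩ := exists_coord_k hF h0 he hmem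
  refine ⟨a, ha, ?_⟩
  rw [hc, map_smul, hlam, smul_eq_mul, mul_one]
  rintro rfl
  apply hax
  rw [hc, zero_smul]

end Lam

section Ess

variable {k : Type u} [Field k] {R S T : Type u} [CommRing R] [CommRing S] [CommRing T]
  [Algebra k R] [Algebra k S] [Algebra k T] [IsNoetherianRing R] [IsNoetherianRing S]
  [IsNoetherianRing T]
  {𝒜 : ℤ → Submodule k R} {ℬ : ℤ → Submodule k S} {𝒯 : ℤ → Submodule k T}
  [GradedAlgebra 𝒜] [GradedAlgebra ℬ] [GradedAlgebra 𝒯]
  (ψ : T →ₐ[k] R ⊗[k] S) (hT : GrSeg.IsSegreRing 𝒜 ℬ 𝒯 ψ)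
  {mR : HomogeneousIdeal (toAG 𝒜)} (hFR : FieldGr (toAG 𝒜) mR)
  {mS : HomogeneousIdeal (toAG ℬ)} (hFS : FieldGr (toAG ℬ) mS)
  {mT : HomogeneousIdeal (toAG 𝒯)} (hFT : FieldGr (toAG 𝒯) mT)
  (h0R : ∀ r ∈ 𝒜 0, ∃ c : k, algebraMap k R c = r)
  (h0S : ∀ r ∈ ℬ 0, ∃ c : k, algebraMap k S c = r)
  (h0T : ∀ r ∈ 𝒯 0, ∃ c : k, algebraMap k T c = r)
  {ER : GrLC.GMod.{u} (toAG 𝒜)} {eR : (R ⧸ mR.toIdeal) →ₗ[R] ER.carrier}
  (heR : GrLC.IsStarInjHull (toAG 𝒜) (GrLC.quotGr (toAG 𝒜) mR) ER.gr eR)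
  {ES : GrLC.GMod.{u} (toAG ℬ)} {eS : (S ⧸ mS.toIdeal) →ₗ[S] ES.carrier}
  (heS : GrLC.IsStarInjHull (toAG ℬ) (GrLC.quotGr (toAG ℬ) mS) ES.gr eS)
  {ET : GrLC.GMod.{u} (toAG 𝒯)} {eT : (T ⧸ mT.toIdeal) →ₗ[T] ET.carrier}
  (heT : GrLC.IsStarInjHull (toAG 𝒯) (GrLC.quotGr (toAG 𝒯) mT) ET.gr eT)

attribute [local instance] kMod

/-- the pairing of the ambient tensor product given by two functionals -/
noncomputable def Lam2 (lamR : Module.Dual k ER.carrier) (lamS : Module.Dual k ES.carrier) :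
    Amb ER ES →ₗ[k] k :=
  (TensorProduct.lid k k).toLinearMap ∘ₗ TensorProduct.map lamR lamS

lemma Lam2_tmul (lamR : Module.Dual k ER.carrier) (lamS : Module.Dual k ES.carrier)
    (u : ER.carrier) (v : ES.carrier) : Lam2 lamR lamS (u ⊗ₜ[k] v) = lamR u * lamS v := by
  simp [Lam2]

include hFR hFS h0R h0S heR heS in
/-- **the pairing**: a nonzero element of degree `d` of the Segre product of the *injective
envelopes is moved to a nonzero element (of degree zero) by some `a ⊗ b`, `a ∈ R_{-d}`,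
`b ∈ S_{-d}` -/
theorem exists_act_ne_zero (d : ℤ) (w : Amb ER ES) (hw : w ∈ piece ER ES d) (hw0 : w ≠ 0) :
    ∃ a ∈ 𝒜 (-d), ∃ b ∈ ℬ (-d),
      GrSeg.act k R S ER.carrier ES.carrier (a ⊗ₜ[k] b) w ≠ 0 := by
  rw [← range_pieceMap] at hw
  obtain ⟨w', rfl⟩ := hw
  have hw'0 : w' ≠ 0 := by
    rintro rfl
    exact hw0 (map_zero _)
  obtain ⟨lamR, hlamR⟩ := exists_lam hFR heR
  obtain ⟨lamS, hlamS⟩ := exists_lam hFS heS
  let F : Set (Module.Dual k (grK ER d)) :=
    {f | ∃ a ∈ 𝒜 (-d), ∀ u : grK ER d, f u = lamR (a • (u : ER.carrier))}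
  let G : Set (Module.Dual k (grK ES d)) :=
    {g | ∃ b ∈ ℬ (-d), ∀ v : grK ES d, g v = lamS (b • (v : ES.carrier))}
  have hF : ∀ u : grK ER d, u ≠ 0 → ∃ f ∈ F, f u ≠ 0 := by
    intro u hu
    have hu' : (u : ER.carrier) ≠ 0 := fun h => hu (Subtype.ext h)
    obtain ⟨a, ha, hau⟩ := exists_lam_smul_ne_zero hFR h0R heR lamR hlamR u.2 hu'
    refine ⟨lamR ∘ₗ (Algebra.lsmul k k ER.carrier a) ∘ₗ (grK ER d).subtype, ⟨a, ha, fun _ => rfl⟩,
      hau⟩
  have hG : ∀ v : grK ES d, v ≠ 0 → ∃ g ∈ G, g v ≠ 0 := by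
    intro v hv
    have hv' : (v : ES.carrier) ≠ 0 := fun h => hv (Subtype.ext h)
    obtain ⟨b, hb, hbv⟩ := exists_lam_smul_ne_zero hFS h0S heS lamS hlamS v.2 hv'
    refine ⟨lamS ∘ₗ (Algebra.lsmul k k ES.carrier b) ∘ₗ (grK ES d).subtype, ⟨b, hb, fun _ => rfl⟩,
      hbv⟩
  obtain ⟨f, ⟨a, ha, hfa⟩, g, ⟨b, hb, hgb⟩, hfg⟩ := exists_dual_ne_zero F G hF hG w' hw'0
  refine ⟨a, ha, b, hb, ?_⟩
  have key : ∀ z : (grK ER d) ⊗[k] (grK ES d),
      Lam2 lamR lamS (GrSeg.act k R S ER.carrier ES.carrier (a ⊗ₜ[k] b) (pieceMap ER ES d z)) =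
        f (contrR g z) := by
    intro z
    induction z using TensorProduct.induction_on with
    | zero => simp
    | tmul u v =>
      have h1 : f (g v • u) = g v * f u := by rw [map_smul, smul_eq_mul]
      rw [pieceMap_tmul, GrSeg.act_tmul, Lam2_tmul, contrR_tmul, h1, hfa, hgb, mul_comm]
    | add x y hx hy => simp only [map_add, hx, hy]
  intro h
  apply hfg
  rw [← key, h, map_zero]

/-- the socle generator of the Segre product of the *injective envelopes -/
noncomputable def sw0 : (SegM ψ hT ER ES).carrier :=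
  mkM ψ hT (eR 1 ⊗ₜ[k] eS 1)
    (piece_le_segSub ER ES 0 (tmul_mem_piece ER ES (eps_mem hFR heR) (eps_mem hFS heS)))

lemma valM_sw0 : valM ψ hT (sw0 ψ hT hFR hFS heR heS) = eR 1 ⊗ₜ[k] eS 1 := rfl

lemma sw0_mem : sw0 ψ hT hFR hFS heR heS ∈ (SegM ψ hT ER ES).gr 0 :=
  tmul_mem_piece ER ES (eps_mem hFR heR) (eps_mem hFS heS)

lemma sw0_ne_zero : sw0 ψ hT hFR hFS heR heS ≠ 0 := by
  intro h
  obtain ⟨lamR, hlamR⟩ := exists_lam hFR heR
  obtain ⟨lamS, hlamS⟩ := exists_lam hFS heS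
  have h1 := congrArg (fun z => Lam2 lamR lamS (valM ψ hT z)) h
  simp only [valM_sw0, Lam2_tmul, hlamR, hlamS, mul_one] at h1
  rw [valM_zero, map_zero] at h1
  exact one_ne_zero h1

include hFT in
lemma mT_le_ker : mT.toIdeal ≤
    LinearMap.ker (LinearMap.toSpanSingleton T (SegM ψ hT ER ES).carrier
      (sw0 ψ hT hFR hFS heR heS)) := by
  rw [hFT.span, Ideal.span_le]
  intro t ht
  obtain ⟨n, hn, htn⟩ := Set.mem_iUnion₂.mp ht
  have hn' : (0 : ℤ) < n := hn
  have htn' : t ∈ 𝒯 n := htn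
  rw [SetLike.mem_coe, LinearMap.mem_ker, LinearMap.toSpanSingleton_apply]
  apply valM_injective ψ hT
  rw [valM_smul, valM_zero, valM_sw0]
  have h1 : ψ t ∈ GrSeg.segrePiece k 𝒜 ℬ n := map_mem_segrePiece hT htn'
  have h2 : GrSeg.segrePiece k 𝒜 ℬ n ≤
      LinearMap.ker ((GrSeg.act k R S ER.carrier ES.carrier).flip (eR 1 ⊗ₜ[k] eS 1)) := by
    apply segrePiece_le
    intro a ha b hb
    rw [LinearMap.mem_ker, LinearMap.flip_apply, GrSeg.act_tmul]
    have ha' : a ∈ mR.toIdeal := hFR.mem_of_pos hn' ha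
    have h3 : a • eR 1 = 0 := by
      rw [Groth.Agent.Helper8.GV.smul_eps, Ideal.Quotient.eq_zero_iff_mem.mpr ha', map_zero]
    rw [h3, TensorProduct.zero_tmul]
  exact h2 h1

/-- the inclusion of the residue field of `T` into the Segre product of the *injective envelopes -/
noncomputable def epsT (hFT : FieldGr (toAG 𝒯) mT) :
    (T ⧸ mT.toIdeal) →ₗ[T] (SegM ψ hT ER ES).carrier :=
  Submodule.liftQ mT.toIdeal (LinearMap.toSpanSingleton T (SegM ψ hT ER ES).carrier
    (sw0 ψ hT hFR hFS heR heS)) (mT_le_ker ψ hT hFR hFS hFT heR heS)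

lemma epsT_mk (t : T) : epsT ψ hT hFR hFS heR heS hFT (Ideal.Quotient.mk mT.toIdeal t) =
    t • sw0 ψ hT hFR hFS heR heS := rfl

include h0R h0S in
/-- the piece of degree zero of the Segre product of the *injective envelopes is the image of the
residue field -/
lemma gr_zero_le_range (y : (SegM ψ hT ER ES).carrier) (hy : y ∈ (SegM ψ hT ER ES).gr 0) :
    y ∈ LinearMap.range (epsT ψ hT hFR hFS heR heS hFT) := by
  have h1 : piece ER ES 0 ≤ Submodule.span k {eR 1 ⊗ₜ[k] eS 1} := by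
    apply segrePiece_le
    intro u hu v hv
    obtain ⟨c, rfl⟩ := exists_coord_k hFR h0R heR hu
    obtain ⟨c', rfl⟩ := exists_coord_k hFS h0S heS hv
    rw [TensorProduct.smul_tmul_smul]
    exact Submodule.smul_mem _ _ (Submodule.mem_span_singleton_self _)
  have h2 : valM ψ hT y ∈ Submodule.span k {eR 1 ⊗ₜ[k] eS 1} := h1 hy
  obtain ⟨c, hc⟩ := Submodule.mem_span_singleton.mp h2
  refine ⟨Ideal.Quotient.mk mT.toIdeal (algebraMap k T c), ?_⟩
  rw [epsT_mk]
  apply valM_injective ψ hT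
  rw [← hc, ← valM_sw0 ψ hT hFR hFS heR heS, ← valM_smul_k, kMod_smul_def]

include h0R h0S in
/-- the Segre product of the *injective envelopes is a *essential extension of the residue field -/
theorem isStarEss_epsT :
    GrLC.IsStarEss (GrLC.quotGr (toAG 𝒯) mT) (SegM ψ hT ER ES).gr
      (epsT ψ hT hFR hFS heR heS hFT) := by
  haveI hmax : mT.toIdeal.IsMaximal := hFT.isMaximal
  refine ⟨?_, ?_, ?_⟩
  · refine (injective_iff_map_eq_zero _).mpr ?_
    intro y hy
    obtain ⟨t, rfl⟩ := Ideal.Quotient.mk_surjective y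
    rw [epsT_mk] at hy
    rw [Ideal.Quotient.eq_zero_iff_mem]
    have hker : LinearMap.ker (LinearMap.toSpanSingleton T (SegM ψ hT ER ES).carrier
        (sw0 ψ hT hFR hFS heR heS)) = mT.toIdeal := by
      symm
      apply hmax.eq_of_le _ (mT_le_ker ψ hT hFR hFS hFT heR heS)
      intro htop
      have h1 : (1 : T) ∈ LinearMap.ker (LinearMap.toSpanSingleton T (SegM ψ hT ER ES).carrier
          (sw0 ψ hT hFR hFS heR heS)) := by
        rw [htop]
        trivial
      rw [LinearMap.mem_ker, LinearMap.toSpanSingleton_apply, one_smul] at h1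
      exact sw0_ne_zero ψ hT hFR hFS heR heS h1
    rw [← hker, LinearMap.mem_ker, LinearMap.toSpanSingleton_apply]
    exact hy
  · intro j y hy
    obtain ⟨t, ht, rfl⟩ := hy
    change epsT ψ hT hFR hFS heR heS hFT (Ideal.Quotient.mk mT.toIdeal t) ∈
      (SegM ψ hT ER ES).gr j
    rw [epsT_mk]
    have := smul_mem_add (toAG 𝒯) (SegM ψ hT ER ES).gr ht (sw0_mem ψ hT hFR hFS heR heS)
    rwa [add_zero] at this
  · intro P hP hne
    obtain ⟨j, x, hxP, hxj, hx0⟩ := exists_homog_mem_ne_zero (SegM ψ hT ER ES).gr hP hne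
    have hv0 : valM ψ hT x ≠ 0 := fun h => hx0 (valM_injective ψ hT (by rw [h, valM_zero]))
    obtain ⟨a, ha, b, hb, hab⟩ := exists_act_ne_zero hFR hFS h0R h0S heR heS j (valM ψ hT x) hxj hv0
    obtain ⟨t, ht, hψt⟩ := exists_ring_of_tmul hT ha hb
    have htx0 : t • x ≠ 0 := by
      intro h
      apply hab
      rw [← hψt, ← valM_smul, h, valM_zero]
    have htx : t • x ∈ (SegM ψ hT ER ES).gr 0 := by
      have := smul_mem_add (toAG 𝒯) (SegM ψ hT ER ES).gr (show t ∈ toAG 𝒯 (-j) from ht) hxj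
      rwa [neg_add_cancel] at this
    intro hbot
    have hmem : t • x ∈ P ⊓ LinearMap.range (epsT ψ hT hFR hFS heR heS hFT) :=
      ⟨P.smul_mem t hxP, gr_zero_le_range ψ hT hFR hFS hFT h0R h0S heR heS _ htx⟩
    rw [hbot, Submodule.mem_bot] at hmem
    exact htx0 hmem

include hFR hFS hFT heR heS h0R h0S heT in
/-- the comparison map from the Segre product of the *injective envelopes to the *injective
envelope of the residue field of the Segre product -/
theorem exists_theta_inj_seg :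
    ∃ θ : (SegM ψ hT ER ES).carrier →ₗ[T] ET.carrier,
      GrLC.IsGrHom (SegM ψ hT ER ES).gr ET.gr θ ∧ Function.Injective θ := by
  letI := quotGrDecomposition (toAG 𝒯) mT
  letI := quotGrGradedSMul (toAG 𝒯) mT
  have hess := isStarEss_epsT ψ hT hFR hFS hFT h0R h0S heR heS
  obtain ⟨θ₀, hθ₀, hθe⟩ := heT.starInj
    (GrLC.GMod.of (toAG 𝒯) (T ⧸ mT.toIdeal) (GrLC.quotGr (toAG 𝒯) mT))
    (SegM ψ hT ER ES) (epsT ψ hT hFR hFS heR heS hFT) hess.grHom hess.injective eT heT.grHom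
  let θ : (SegM ψ hT ER ES).carrier →ₗ[T] ET.carrier := θ₀
  have hθ : GrLC.IsGrHom (SegM ψ hT ER ES).gr ET.gr θ := hθ₀
  have hcomp : θ ∘ₗ epsT ψ hT hFR hFS heR heS hFT = eT := hθe
  refine ⟨θ, hθ, ?_⟩
  apply injective_of_comp_injective' (SegM ψ hT ER ES).gr ET.gr (GrLC.quotGr (toAG 𝒯) mT) hess hθ
  rw [hcomp]
  exact heT.injective

end Ess

end Groth.Agent.Helper8.SG
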