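import Mathlib
import Groth.Prelude.Def_GrLC
import Groth.Prelude.Def_GrSeg
import Groth.Agent.Lib.Helper8.SG7
import Groth.Agent.Lib.Helper8.GB7
import Groth.Agent.Lib.Helper8.GV4

set_option autoImplicit false
set_option linter.unusedSectionVars false
set_option linter.unusedVariables false
set_option linter.unusedSimpArgs false
set_option linter.style.haveILetI false
set_option maxHeartbeats 800000

/-!
# The Segre product of two Gorenstein graded algebras with the same a-invariant is Gorenstein as soon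
as it is Cohen–Macaulay (helper8)
-/

universe u

namespace Groth.Agent.Helper8.SG

open scoped TensorProduct
open CategoryTheory DirectSum Groth.Agent.Helper9.GrLCLib Groth.Agent.Helper9.GrLCLib.Trans
open Groth.Agent.Helper8.LC Groth.Agent.Lib.Helper6.CMReg Groth.Agent.Lib.Helper6.SegK
open Groth.Agent.Helper9.SegreLib Groth.Agent.Helper8.GD Groth.Agent.Lib.Helper6.SegCM

section EIso

variable {k : Type u} [Field k] {R S T : Type u} [CommRing R] [CommRing S] [CommRing T]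
  [Algebra k R] [Algebra k S] [Algebra k T] [IsNoetherianRing R] [IsNoetherianRing S]
  [IsNoetherianRing T] [Nontrivial R] [Nontrivial S] [Nontrivial T]
  {𝒜 : ℤ → Submodule k R} {ℬ : ℤ → Submodule k S} {𝒯 : ℤ → Submodule k T}
  [GradedAlgebra 𝒜] [GradedAlgebra ℬ] [GradedAlgebra 𝒯]
  (ψ : T →ₐ[k] R ⊗[k] S) (hT : GrSeg.IsSegreRing 𝒜 ℬ 𝒯 ψ)
  {mR : HomogeneousIdeal (toAG 𝒜)} (hFR : FieldGr (toAG 𝒜) mR)
  {mS : HomogeneousIdeal (toAG ℬ)} (hFS : FieldGr (toAG ℬ) mS)
  {mT : HomogeneousIdeal (toAG 𝒯)} (hFT : FieldGr (toAG 𝒯) mT)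
  (h0R : ∀ r ∈ 𝒜 0, ∃ c : k, algebraMap k R c = r)
  (h0S : ∀ r ∈ ℬ 0, ∃ c : k, algebraMap k S c = r)
  (h0T : ∀ r ∈ 𝒯 0, ∃ c : k, algebraMap k T c = r)
  {ER : GrLC.GMod.{u} (toAG 𝒜)} {eR : (R ⧸ mR.toIdeal) →ₗ[R] ER.carrier}
  (heR : GrLC.IsStarInjHull (toAG 𝒜) (GrLC.quotGr (toAG 𝒜) mR) ER.gr eR)
  {ES : GrLC.GMod.{u} (toAG ℬ)} {eS : (S ⧸ mS.toIdeal) →ₗ[S] ES.carrier}
  (heS : GrLC.IsStarInjHull (toAG ℬ) (GrLC.quotGr (toAG ℬ) mS) ES.gr eS)
  {ET : GrLC.GMod.{u} (toAG 𝒯)} {eT : (T ⧸ mT.toIdeal) →ₗ[T] ET.carrier}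
  (heT : GrLC.IsStarInjHull (toAG 𝒯) (GrLC.quotGr (toAG 𝒯) mT) ET.gr eT)

attribute [local instance] kMod

include hT h0R h0S h0T in
/-- the Hilbert function of a Segre product -/
theorem finrank_comp_segre (n : ℤ) :
    Module.finrank (GrLC.deg0 (toAG 𝒯)) (GrLC.comp (toAG 𝒯) (toAG 𝒯) n) =
      Module.finrank (GrLC.deg0 (toAG 𝒜)) (GrLC.comp (toAG 𝒜) (toAG 𝒜) n) *
        Module.finrank (GrLC.deg0 (toAG ℬ)) (GrLC.comp (toAG ℬ) (toAG ℬ) n) := by
  have hinjR : Function.Injective (algebraMap k R) := (algebraMap k R).injective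
  have hinjS : Function.Injective (algebraMap k S) := (algebraMap k S).injective
  have hinjT : Function.Injective (algebraMap k T) := (algebraMap k T).injective
  have b1 : Module.finrank k (grK (bun 𝒜 𝒜) n) =
      Module.finrank (GrLC.deg0 (toAG 𝒜)) (GrLC.comp (toAG 𝒜) (toAG 𝒜) n) :=
    finrank_eq_of_rank_eq (rank_grK (bun 𝒜 𝒜) n h0R hinjR)
  have b2 : Module.finrank k (grK (bun ℬ ℬ) n) =
      Module.finrank (GrLC.deg0 (toAG ℬ)) (GrLC.comp (toAG ℬ) (toAG ℬ) n) :=
    finrank_eq_of_rank_eq (rank_grK (bun ℬ ℬ) n h0S hinjS)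
  have b3 : Module.finrank k (grK (bun 𝒯 𝒯) n) =
      Module.finrank (GrLC.deg0 (toAG 𝒯)) (GrLC.comp (toAG 𝒯) (toAG 𝒯) n) :=
    finrank_eq_of_rank_eq (rank_grK (bun 𝒯 𝒯) n h0T hinjT)
  have g1 : GIso (bun 𝒯 𝒯) (SegM ψ hT (bun 𝒜 𝒜) (bun ℬ ℬ)) :=
    ⟨segEquiv 𝒜 ℬ ψ hT 𝒜 ℬ 𝒯 ψ.toLinearMap (isSegreMod_self ψ hT),
      segEquiv_gr 𝒜 ℬ ψ hT 𝒜 ℬ 𝒯 ψ.toLinearMap (isSegreMod_self ψ hT)⟩
  have b4 := finrank_grK_of_giso 𝒯 g1 n
  have b5 := finrank_grK_segM ψ hT (bun 𝒜 𝒜) (bun ℬ ℬ) n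
  rw [← b1, ← b2, ← b3, b4, b5]

include hFR hFS hFT heR heS heT h0R h0S h0T in
/-- the pieces of the Segre product of the *injective envelopes have the dimensions of the pieces
of the *injective envelope of the Segre product -/
theorem finrank_segM_E (j : ℤ) :
    Module.finrank (GrLC.deg0 (toAG 𝒯)) (GrLC.comp (toAG 𝒯) (SegM ψ hT ER ES).gr j) =
      Module.finrank (GrLC.deg0 (toAG 𝒯)) (GrLC.comp (toAG 𝒯) ET.gr j) := by
  have hinjR : Function.Injective (algebraMap k R) := (algebraMap k R).injective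
  have hinjS : Function.Injective (algebraMap k S) := (algebraMap k S).injective
  have hinjT : Function.Injective (algebraMap k T) := (algebraMap k T).injective
  have a1 := finrank_eq_of_rank_eq (rank_grK (SegM ψ hT ER ES) j h0T hinjT)
  have a2 := finrank_grK_segM ψ hT ER ES j
  have a3 := finrank_eq_of_rank_eq (rank_grK ER j h0R hinjR)
  have a4 := finrank_eq_of_rank_eq (rank_grK ES j h0S hinjS)
  have a5 := (Groth.Agent.Helper8.GV.finrank_E_piece hFR heR (-j)).2
  have a6 := (Groth.Agent.Helper8.GV.finrank_E_piece hFS heS (-j)).2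
  have a7 := (Groth.Agent.Helper8.GV.finrank_E_piece hFT heT (-j)).2
  rw [neg_neg] at a5 a6 a7
  rw [← a1, a2, a3, a4, a5, a6, a7]
  exact (finrank_comp_segre ψ hT h0R h0S h0T (-j)).symm

include hFR hFS hFT heR heS heT h0R h0S h0T in
/-- **the Segre product of the *injective envelopes of the residue fields of `R` and `S` is the
*injective envelope of the residue field of `R # S`** -/
theorem giso_E_seg : GIso (SegM ψ hT ER ES) ET := by
  obtain ⟨θ, hθ, hinj⟩ := exists_theta_inj_seg ψ hT hFR hFS hFT h0R h0S heR heS heT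
  have hsurj : Function.Surjective θ :=
    Groth.Agent.Helper8.GV.surjective_of_finrank_eq (SegM ψ hT ER ES).gr ET.gr hFT.field θ hθ hinj
      (fun j => by
        have := (Groth.Agent.Helper8.GV.finrank_E_piece hFT heT (-j)).1
        rwa [neg_neg] at this)
      (finrank_segM_E ψ hT hFR hFS hFT h0R h0S h0T heR heS heT)
  exact GIso.of_bijective θ hθ ⟨hinj, hsurj⟩

end EIso

section LiftDeg

variable {k : Type u} [Field k] {R S T : Type u} [CommRing R] [CommRing S] [CommRing T]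
  [Algebra k R] [Algebra k S] [Algebra k T] [IsNoetherianRing R] [IsNoetherianRing S]
  [IsNoetherianRing T]
  {𝒜 : ℤ → Submodule k R} {ℬ : ℤ → Submodule k S} {𝒯 : ℤ → Submodule k T}
  [GradedAlgebra 𝒜] [GradedAlgebra ℬ] [GradedAlgebra 𝒯]
  (ψ : T →ₐ[k] R ⊗[k] S) (hT : GrSeg.IsSegreRing 𝒜 ℬ 𝒯 ψ)
  {U U' : GrLC.GMod.{u} (toAG 𝒜)} {V V' : GrLC.GMod.{u} (toAG ℬ)}

attribute [local instance] kMod

/-- the linear map of Segre products induced by a map of the ambient tensor products compatible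
with the actions and preserving the Segre products (no condition on degrees) -/
noncomputable def segLiftD (F : Amb U V →ₗ[k] Amb U' V')
    (hact : ∀ (z : R ⊗[k] S) (w : Amb U V), F (GrSeg.act k R S U.carrier V.carrier z w) =
      GrSeg.act k R S U'.carrier V'.carrier z (F w))
    (hseg : ∀ w : Amb U V, w ∈ segSub U V → F w ∈ segSub U' V') :
    (SegM ψ hT U V).carrier →ₗ[T] (SegM ψ hT U' V').carrier where
  toFun w := mkM ψ hT (F (valM ψ hT w)) (hseg _ (valM_mem ψ hT w))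
  map_add' w w' := by
    apply valM_injective ψ hT
    rw [valM_mkM, valM_add, valM_add, valM_mkM, valM_mkM, map_add]
  map_smul' t w := by
    apply valM_injective ψ hT
    rw [valM_mkM, RingHom.id_apply, valM_smul, valM_smul, valM_mkM, hact]

lemma valM_segLiftD (F : Amb U V →ₗ[k] Amb U' V')
    (hact : ∀ (z : R ⊗[k] S) (w : Amb U V), F (GrSeg.act k R S U.carrier V.carrier z w) =
      GrSeg.act k R S U'.carrier V'.carrier z (F w))
    (hseg : ∀ w : Amb U V, w ∈ segSub U V → F w ∈ segSub U' V') (w : (SegM ψ hT U V).carrier) :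
    valM ψ hT (segLiftD ψ hT F hact hseg w) = F (valM ψ hT w) := rfl

lemma ambMap_mem_segSub (f : U.carrier →ₗ[R] U'.carrier) (g : V.carrier →ₗ[S] V'.carrier)
    (g₀ : ℤ) (hf : GrLC.IsGrHomDeg U.gr U'.gr f g₀) (hg : GrLC.IsGrHomDeg V.gr V'.gr g g₀)
    (w : Amb U V) (hw : w ∈ segSub U V) : ambMap f g w ∈ segSub U' V' := by
  have h1 : segSub U V ≤ (segSub U' V').comap (ambMap f g) := by
    unfold segSub
    apply iSup_le
    intro d
    apply segrePiece_le
    intro a ha b hb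
    rw [Submodule.mem_comap, ambMap_tmul]
    exact piece_le_segSub U' V' (d + g₀) (tmul_mem_piece U' V' (hf d a ha) (hg d b hb))
  exact h1 hw

/-- a pair of bijections homogeneous of the same degree induces an isomorphism of the Segre
products -/
theorem exists_equiv_seg_of_deg (eU : U.carrier ≃ₗ[R] U'.carrier) (eV : V.carrier ≃ₗ[S] V'.carrier)
    (g₀ : ℤ) (hU : GrLC.IsGrHomDeg U.gr U'.gr eU.toLinearMap g₀)
    (hV : GrLC.IsGrHomDeg V.gr V'.gr eV.toLinearMap g₀) :
    Nonempty ((SegM ψ hT U V).carrier ≃ₗ[T] (SegM ψ hT U' V').carrier) := by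
  have hUs := Groth.Agent.Helper8.GB.symm_isGrHomDeg' U.gr U'.gr eU hU
  have hVs := Groth.Agent.Helper8.GB.symm_isGrHomDeg' V.gr V'.gr eV hV
  let F := segLiftD ψ hT (ambMap eU.toLinearMap eV.toLinearMap)
    (fun z w => map_act eU.toLinearMap eV.toLinearMap z w)
    (ambMap_mem_segSub eU.toLinearMap eV.toLinearMap g₀ hU hV)
  let G := segLiftD ψ hT (ambMap eU.symm.toLinearMap eV.symm.toLinearMap)
    (fun z w => map_act eU.symm.toLinearMap eV.symm.toLinearMap z w)
    (ambMap_mem_segSub eU.symm.toLinearMap eV.symm.toLinearMap (-g₀) hUs hVs)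
  have h1 : ambMap eU.symm.toLinearMap eV.symm.toLinearMap ∘ₗ
      ambMap eU.toLinearMap eV.toLinearMap = (LinearMap.id : Amb U V →ₗ[k] Amb U V) := by
    rw [← ambMap_comp, eU.symm_comp, eV.symm_comp, ambMap_id]
  have h2 : ambMap eU.toLinearMap eV.toLinearMap ∘ₗ
      ambMap eU.symm.toLinearMap eV.symm.toLinearMap =
        (LinearMap.id : Amb U' V' →ₗ[k] Amb U' V') := by
    rw [← ambMap_comp, eU.comp_symm, eV.comp_symm, ambMap_id]
  refine ⟨LinearEquiv.ofLinearMap F G ?_ ?_⟩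
  · apply LinearMap.ext
    intro w
    apply valM_injective ψ hT
    show ambMap eU.toLinearMap eV.toLinearMap
      (ambMap eU.symm.toLinearMap eV.symm.toLinearMap (valM ψ hT w)) = valM ψ hT w
    rw [← LinearMap.comp_apply, h2]
    rfl
  · apply LinearMap.ext
    intro w
    apply valM_injective ψ hT
    show ambMap eU.symm.toLinearMap eV.symm.toLinearMap
      (ambMap eU.toLinearMap eV.toLinearMap (valM ψ hT w)) = valM ψ hT w
    rw [← LinearMap.comp_apply, h1]
    rfl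

end LiftDeg

end Groth.Agent.Helper8.SG
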