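import Mathlib
import Groth.Prelude.Def_GrLC
import Groth.Prelude.Def_GrSeg
import Groth.Agent.Lib.Helper8.SG8
import Groth.Agent.Lib.Helper8.GB5
import Groth.Agent.Lib.Helper8.GB3

set_option autoImplicit false
set_option linter.unusedSectionVars false
set_option linter.unusedVariables false
set_option linter.unusedSimpArgs false
set_option linter.style.haveILetI false
set_option maxHeartbeats 1600000

/-!
# The Segre product of two Gorenstein graded algebras with the same a-invariant is Gorenstein as soon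
as it is Cohen–Macaulay, II (helper8)
-/

universe u

namespace Groth.Agent.Helper8.SG

open scoped TensorProduct
open CategoryTheory DirectSum Groth.Agent.Helper9.GrLCLib Groth.Agent.Helper9.GrLCLib.Trans
open Groth.Agent.Helper8.LC Groth.Agent.Lib.Helper6.CMReg Groth.Agent.Lib.Helper6.SegK
open Groth.Agent.Helper9.SegreLib Groth.Agent.Helper8.GD Groth.Agent.Lib.Helper6.SegCM
open Groth.Agent.Helper8.GB Groth.Agent.Lib.Helper6.SegDim

attribute [local instance] kMod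

section Top

variable {k : Type u} [Field k] {R : Type u} [CommRing R] [Algebra k R] [IsNoetherianRing R]
  {𝒜 : ℤ → Submodule k R} [GradedAlgebra 𝒜]
  {m : HomogeneousIdeal (toAG 𝒜)} (hF : FieldGr (toAG 𝒜) m)
  {E : GrLC.GMod.{u} (toAG 𝒜)} {e : (R ⧸ m.toIdeal) →ₗ[R] E.carrier}
  (he : GrLC.IsStarInjHull (toAG 𝒜) (GrLC.quotGr (toAG 𝒜) m) E.gr e)

include hF he in
/-- the top local cohomology of a Gorenstein graded algebra over a field is a shift of the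
*injective envelope of the residue field, by the a-invariant -/
theorem exists_equiv_top_of_gorenstein [hG : LocCoh.IsGorensteinRing R] (r : ℕ)
    (hr : ringKrullDim R = r) (I : GrLC.StarInjRes (toAG 𝒜) (toAG 𝒜)) :
    ∃ (g₀ : ℤ) (β : E.carrier ≃ₗ[R] (LCGMod (toAG 𝒜) (bun 𝒜 𝒜).gr m r).carrier),
      GrLC.IsGrHomDeg E.gr (LCGMod (toAG 𝒜) (bun 𝒜 𝒜).gr m r).gr β.toLinearMap g₀ ∧
        GrLC.endDeg (I.Hgr m r) = ((g₀ : WithTop ℤ) : WithBot (WithTop ℤ)) := by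
  haveI hmax : m.toIdeal.IsMaximal := hF.isMaximal
  haveI hprime : m.toIdeal.IsPrime := hmax.isPrime
  have hGloc : LocCoh.IsGorensteinLocalRing (Localization.AtPrime m.toIdeal) :=
    hG.isGorensteinLocalRing_localization m.toIdeal
  have hnloc : ringKrullDim (Localization.AtPrime m.toIdeal) = r := by
    rw [ringKrullDim_atPrime hF, hr]
  obtain ⟨-, g₀, β, hβ⟩ := exists_grEquiv_of_gorenstein hF he I r hGloc hnloc
  have hend := Groth.Agent.Helper8.GV.endDeg_of_grEquiv hF he I r g₀ β hβ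
  obtain ⟨Θ, hΘ⟩ := exists_theta_LCgr (toAG 𝒜) (toAG 𝒜) m I r
  let Θ' : I.H m r ≃ₗ[R] (LCGMod (toAG 𝒜) (bun 𝒜 𝒜).gr m r).carrier := Θ
  refine ⟨g₀, β.trans Θ', ?_, hend⟩
  intro n x hx
  have h1 : β x ∈ I.Hcomp m r (n + g₀) := hβ n x hx
  have h2 := (hΘ (n + g₀) (β x)).mp h1
  exact (mem_LCGMod_gr (toAG 𝒜) (toAG 𝒜) m r (n + g₀) (Θ (β x))).mpr h2

end Top

/-- **S18659**: the Segre product of two Gorenstein graded algebras of dimensions at least two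
with the same a-invariant is Gorenstein as soon as it is Cohen–Macaulay -/
theorem gorenstein_segre (k : Type u) [Field k] (R : Type u) [CommRing R] [Algebra k R]
    (𝒜 : ℤ → Submodule k R) [GradedAlgebra 𝒜] (hposR : ∀ n : ℤ, n < 0 → 𝒜 n = ⊥)
    (h0R : 𝒜 0 = Submodule.span k {(1 : R)}) [Algebra.FiniteType k R] (S : Type u) [CommRing S]
    [Algebra k S] (ℬ : ℤ → Submodule k S) [GradedAlgebra ℬ] (hposS : ∀ n : ℤ, n < 0 → ℬ n = ⊥)
    (h0S : ℬ 0 = Submodule.span k {(1 : S)}) [Algebra.FiniteType k S] (T : Type u) [CommRing T]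
    [Algebra k T] (𝒯 : ℤ → Submodule k T) [GradedAlgebra 𝒯] (ψ : T →ₐ[k] TensorProduct k R S)
    (hT : GrSeg.IsSegreRing 𝒜 ℬ 𝒯 ψ)
    [hGR : LocCoh.IsGorensteinRing R] [hGS : LocCoh.IsGorensteinRing S]
    (mR : HomogeneousIdeal 𝒜)
    (hmR : mR.toIdeal = Ideal.span (⋃ n ∈ Set.Ioi (0 : ℤ), (𝒜 n : Set R)))
    (I : GrLC.StarInjRes 𝒜 𝒜) (mS : HomogeneousIdeal ℬ)
    (hmS : mS.toIdeal = Ideal.span (⋃ n ∈ Set.Ioi (0 : ℤ), (ℬ n : Set S)))
    (J : GrLC.StarInjRes ℬ ℬ) (r s : ℕ) (hr : ringKrullDim R = r) (hs : ringKrullDim S = s)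
    (h2r : 2 ≤ r) (h2s : 2 ≤ s)
    (haeq : GrLC.endDeg (I.Hgr mR r) = GrLC.endDeg (J.Hgr mS s))
    [hCM : LocCoh.IsCohenMacaulayRing T] : LocCoh.IsGorensteinRing T := by
  haveI : IsNoetherianRing R := Algebra.FiniteType.isNoetherianRing k R
  haveI : IsNoetherianRing S := Algebra.FiniteType.isNoetherianRing k S
  haveI : Nontrivial R := nontrivial_of_dim hr
  haveI : Nontrivial S := nontrivial_of_dim hs
  haveI : IsNoetherianRing T :=
    Groth.Agent.Helper3.Segre.isNoetherianRing_of_segre 𝒜 ℬ 𝒯 ψ hT.2 hT.1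
  haveI : Nontrivial T := nontrivial_of_segre ψ
  have hposT := segre_pos 𝒜 ℬ 𝒯 ψ hT hposR
  have h0T := segre_zero 𝒜 ℬ 𝒯 ψ hT h0R h0S
  have h0R' := h0_of_span h0R
  have h0S' := h0_of_span h0S
  have h0T' := h0_of_span h0T
  have hdimT : ringKrullDim T = ((r + s - 1 : ℕ) : WithBot ℕ∞) :=
    ringKrullDim_segre 𝒜 hposR h0R ℬ hposS h0S T 𝒯 ψ hT.1 hT.2 r s hr hs (by omega) (by omega)
  obtain ⟨i, rfl⟩ : ∃ i, r = i + 2 := ⟨r - 2, by omega⟩
  obtain ⟨j, rfl⟩ : ∃ j, s = j + 2 := ⟨s - 2, by omega⟩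
  have hidx : i + 2 + (j + 2) - 1 = i + j + 3 := by omega
  rw [hidx] at hdimT
  -- the irrelevant ideals
  let aR : HomogeneousIdeal (toAG 𝒜) := idealToAG 𝒜 mR
  let aS : HomogeneousIdeal (toAG ℬ) := idealToAG ℬ mS
  let aT : HomogeneousIdeal (toAG 𝒯) := GrSyz.irrel (toAG 𝒯)
  have haT : aT.toIdeal = Ideal.span (⋃ n ∈ Set.Ioi (0 : ℤ), (toAG 𝒯 n : Set T)) :=
    irrel_toIdeal (toAG 𝒯)
  have hFR : FieldGr (toAG 𝒜) aR := fieldGr_toAG 𝒜 hposR h0R mR hmR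
  have hFS : FieldGr (toAG ℬ) aS := fieldGr_toAG ℬ hposS h0S mS hmS
  have hFT : FieldGr (toAG 𝒯) aT :=
    ⟨toAG_eq_bot 𝒯 hposT, isField_deg0 𝒯 h0T', haT⟩
  -- the *injective envelopes
  obtain ⟨ER, eR, heR⟩ := Groth.Agent.Helper8.GV.exists_starInjHull_quot (toAG 𝒜) aR
  obtain ⟨ES, eS, heS⟩ := Groth.Agent.Helper8.GV.exists_starInjHull_quot (toAG ℬ) aS
  obtain ⟨ET, eT, heT⟩ := Groth.Agent.Helper8.GV.exists_starInjHull_quot (toAG 𝒯) aT
  obtain ⟨IT⟩ := Groth.Agent.S13215.result T (toAG 𝒯) T (toAG 𝒯)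
  -- the top local cohomology of the factors
  obtain ⟨gR, βR, hβR, hendR⟩ :=
    exists_equiv_top_of_gorenstein hFR heR (i + 2) hr (resToAG 𝒜 𝒜 I)
  obtain ⟨gS, βS, hβS, hendS⟩ :=
    exists_equiv_top_of_gorenstein hFS heS (j + 2) hs (resToAG ℬ ℬ J)
  have hendR' : GrLC.endDeg (I.Hgr mR (i + 2)) = ((gR : WithTop ℤ) : WithBot (WithTop ℤ)) :=
    hendR
  have hendS' : GrLC.endDeg (J.Hgr mS (j + 2)) = ((gS : WithTop ℤ) : WithBot (WithTop ℤ)) :=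
    hendS
  have hg : gR = gS := by
    rw [hendR', hendS'] at haeq
    exact WithTop.coe_injective (WithBot.coe_injective haeq)
  subst hg
  -- the chain of isomorphisms
  obtain ⟨e1⟩ := exists_equiv_seg_of_deg ψ hT βR βS gR hβR hβS
  have g1 : GIso (bun 𝒯 𝒯) (SegM ψ hT (bun 𝒜 𝒜) (bun ℬ ℬ)) :=
    ⟨segEquiv 𝒜 ℬ ψ hT 𝒜 ℬ 𝒯 ψ.toLinearMap (isSegreMod_self ψ hT),
      segEquiv_gr 𝒜 ℬ ψ hT 𝒜 ℬ 𝒯 ψ.toLinearMap (isSegreMod_self ψ hT)⟩
  obtain ⟨e2, -⟩ := giso_of_giso aT g1 (i + j + 3)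
  obtain ⟨e3, -⟩ := topK ψ hT (bun 𝒜 𝒜) (bun ℬ ℬ) aR hmR aS hmS aT haT i j hr.le hs.le
  obtain ⟨e4, -⟩ := giso_E_seg ψ hT hFR hFS hFT h0R' h0S' h0T' heR heS heT
  obtain ⟨Θ, -⟩ := exists_theta_LCgr (toAG 𝒯) (toAG 𝒯) aT IT (i + j + 3)
  let Θ' : IT.H aT (i + j + 3) ≃ₗ[T] (LCGMod (toAG 𝒯) (bun 𝒯 𝒯).gr aT (i + j + 3)).carrier := Θ
  have hvan : ∀ q : ℕ, q ≠ i + j + 3 → Subsingleton (IT.H aT q) := fun q hq =>
    subsingleton_starH_of_cm hFT heT (i + j + 3) hdimT IT q hq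
  exact isGorensteinRing_of_H hFT heT IT (i + j + 3) hvan
    (Θ'.trans (e2.trans (e3.symm.trans (e1.symm.trans e4))))

end Groth.Agent.Helper8.SG
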