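import Mathlib
import Groth.Prelude.Def_GrLC
import Groth.Prelude.Def_GrLC2
import Groth.Prelude.Def_GrSeg
import Groth.Agent.Lib.Helper8.SG9
import Groth.Agent.Lib.Helper8.GV8

set_option autoImplicit false
set_option linter.unusedSectionVars false
set_option linter.unusedVariables false
set_option linter.unusedSimpArgs false
set_option linter.style.haveILetI false
set_option maxHeartbeats 1600000

/-!
# The type of the Segre product of two standard graded Gorenstein algebras (helper8)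
-/

universe u

namespace Groth.Agent.Helper8.SG

open scoped TensorProduct
open CategoryTheory DirectSum Groth.Agent.Helper9.GrLCLib Groth.Agent.Helper9.GrLCLib.Trans
open Groth.Agent.Helper8.LC Groth.Agent.Lib.Helper6.CMReg Groth.Agent.Lib.Helper6.SegK
open Groth.Agent.Helper9.SegreLib Groth.Agent.Helper8.GD Groth.Agent.Lib.Helper6.SegCM
open Groth.Agent.Helper8.GB Groth.Agent.Lib.Helper6.SegDim

section Local

open LocCoh IsLocalRing Groth.Agent.Helper8.GV

variable {V : Type u} [CommRing V] [IsNoetherianRing V] {𝒜' : ℤ → AddSubgroup V} [GradedRing 𝒜']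
  {m' : HomogeneousIdeal 𝒜'} (hF' : FieldGr 𝒜' m')

include hF' in
/-- from the graded local cohomology of a graded ring over a field to the local cohomology of its
localization at the irrelevant ideal -/
theorem local_of_graded [hm' : m'.toIdeal.IsMaximal] (I' : GrLC.StarInjRes 𝒜' 𝒜') (n : ℕ)
    (hvan' : ∀ i : ℕ, i ≠ n → Subsingleton (I'.H m' i)) :
    (∀ i : ℕ, i ≠ n → Subsingleton (H (maximalIdeal (Localization.AtPrime m'.toIdeal)) i
      (Localization.AtPrime m'.toIdeal))) ∧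
    Module.length (Localization.AtPrime m'.toIdeal)
      ((Localization.AtPrime m'.toIdeal ⧸ maximalIdeal (Localization.AtPrime m'.toIdeal))
        →ₗ[Localization.AtPrime m'.toIdeal]
          H (maximalIdeal (Localization.AtPrime m'.toIdeal)) n (Localization.AtPrime m'.toIdeal)) =
      Module.length (GrLC.deg0 𝒜') (socK (GrLC.deg0 𝒜') m'.toIdeal (I'.H m' n)) := by
  constructor
  · intro i hi
    obtain ⟨Θ, -⟩ := exists_theta_LCgr 𝒜' 𝒜' m' I' i
    haveI := hvan' i hi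
    haveI : Subsingleton (H m'.toIdeal i V) := Θ.symm.toEquiv.subsingleton
    obtain ⟨ε⟩ := nonempty_locH_equiv m'.toIdeal i
    exact ε.symm.toEquiv.subsingleton
  · obtain ⟨Θ, -⟩ := exists_theta_LCgr 𝒜' 𝒜' m' I' n
    obtain ⟨ε⟩ := nonempty_locH_equiv m'.toIdeal n
    have hK : ∀ v : V, ∃ c ∈ GrLC.deg0 𝒜', v - c ∈ m'.toIdeal := fun v =>
      ⟨proj 𝒜' 0 v, proj_mem 𝒜' 0 v, hF'.sub_proj_zero_mem v⟩
    have h1 := length_hom_residue_localized m'.toIdeal (GrLC.deg0 𝒜') hK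
      (isPowerTorsion_H m'.toIdeal n V)
    have h2 := (socKCongr (GrLC.deg0 𝒜') m'.toIdeal Θ).length_eq
    have h3 := (LinearEquiv.congrRight (M := Localization.AtPrime m'.toIdeal ⧸
      maximalIdeal (Localization.AtPrime m'.toIdeal)) ε).length_eq
    exact h3.symm.trans (h1.trans h2.symm)

end Local

attribute [local instance] kMod

section Single

variable {k : Type u} [Field k] {R : Type u} [CommRing R] [Algebra k R] [IsNoetherianRing R]
  [Nontrivial R]
  {𝒜 : ℤ → Submodule k R} [GradedAlgebra 𝒜]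
  {m : HomogeneousIdeal (toAG 𝒜)} (hF : FieldGr (toAG 𝒜) m)
  (h0 : ∀ r ∈ 𝒜 0, ∃ c : k, algebraMap k R c = r)
  (hstd : Ideal.span (⋃ n ∈ Set.Ioi (0 : ℤ), (toAG 𝒜 n : Set R)) =
    Ideal.span ((toAG 𝒜 1 : AddSubgroup R) : Set R))
  {E : GrLC.GMod.{u} (toAG 𝒜)} {e : (R ⧸ m.toIdeal) →ₗ[R] E.carrier}
  (he : GrLC.IsStarInjHull (toAG 𝒜) (GrLC.quotGr (toAG 𝒜) m) E.gr e)
  {H : GrLC.GMod.{u} (toAG 𝒜)} (β : E.carrier ≃ₗ[R] H.carrier) (a : ℤ)
  (hβ : GrLC.IsGrHomDeg E.gr H.gr β.toLinearMap a)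

include hF he hβ in
/-- a shift of the *injective envelope by `a` vanishes above degree `a` -/
lemma top_eq_zero_of_gt {d : ℤ} (hd : a < d) {u : H.carrier} (hu : u ∈ H.gr d) : u = 0 := by
  have hβs := symm_isGrHomDeg' E.gr H.gr β hβ
  have h1 : β.symm u ∈ E.gr (d + -a) := hβs d u hu
  have h2 : β.symm u = 0 := eq_zero_of_pos hF he (by omega) h1
  rw [← β.apply_symm_apply u, h2, map_zero]

include hF he hβ hstd in
/-- in a shift by `a` of the *injective envelope over a standard graded ring, a nonzero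
homogeneous element of degree less than `a` is not killed by the elements of degree one -/
lemma top_exists_smul_ne_zero {d : ℤ} (hd : d < a) {u : H.carrier} (hu : u ∈ H.gr d)
    (hu0 : u ≠ 0) : ∃ x ∈ 𝒜 1, x • u ≠ 0 := by
  have hβs := symm_isGrHomDeg' E.gr H.gr β hβ
  have h1 : β.symm u ∈ E.gr (d + -a) := hβs d u hu
  have h2 : β.symm u ≠ 0 := fun h => hu0 (by rw [← β.apply_symm_apply u, h, map_zero])
  obtain ⟨r, hr, hru, -⟩ := exists_smul_ne_zero hF he h1 h2
  have ht : (1 : ℤ) ≤ -(d + -a) := by omega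
  obtain ⟨y, hy, s, -, hne⟩ :=
    Groth.Agent.Helper8.GV.exists_deg_one_factor hstd ht hr (β.symm u) hru
  refine ⟨y, hy, ?_⟩
  intro h
  apply hne
  have h3 : y • β.symm u = 0 := by
    rw [← map_smul, h, map_zero]
  rw [h3, smul_zero]

include hβ in
/-- the pieces of a shift -/
lemma rank_grK_of_deg (d : ℤ) :
    Module.rank k (grK E d) = Module.rank k (grK H (d + a)) := by
  have hβs := symm_isGrHomDeg' E.gr H.gr β hβ
  refine rank_eq_of_semilinear (id : k → k) Function.bijective_id (grK E d) (grK H (d + a))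
    β.toLinearMap.toAddMonoidHom β.injective ?_ ?_
  · intro c x
    show β (c • x) = c • β x
    rw [kMod_smul_def, kMod_smul_def, map_smul]
  · intro y
    constructor
    · intro hy
      refine ⟨β.symm y, ?_, β.apply_symm_apply y⟩
      have := hβs (d + a) y hy
      rwa [add_neg_cancel_right] at this
    · rintro ⟨x, hx, rfl⟩
      exact hβ d x hx

include hF he h0 in
/-- the pieces of the *injective envelope are finite-dimensional of the dimensions of the pieces of
the ring -/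
lemma rank_grK_E (j : ℤ) : Module.Finite k (grK E (-j)) ∧
    Module.finrank k (grK E (-j)) = Module.finrank k (𝒜 j) := by
  have hinj : Function.Injective (algebraMap k R) := (algebraMap k R).injective
  letI : Field (GrLC.deg0 (toAG 𝒜)) := hF.field.toField
  obtain ⟨hfin, hfr⟩ := Groth.Agent.Helper8.GV.finrank_E_piece hF he j
  have r1 := rank_grK E (-j) h0 hinj
  have r2 := rank_piece_eq (𝒜 := 𝒜) h0 hinj j
  haveI := hfin
  refine ⟨finite_of_rank_eq r1, ?_⟩
  rw [finrank_eq_of_rank_eq r1, hfr, ← finrank_eq_of_rank_eq r2]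

end Single

section Socle

variable {k : Type u} [Field k] {R S T : Type u} [CommRing R] [CommRing S] [CommRing T]
  [Algebra k R] [Algebra k S] [Algebra k T] [IsNoetherianRing R] [IsNoetherianRing S]
  [IsNoetherianRing T] [Nontrivial R] [Nontrivial S] [Nontrivial T]
  {𝒜 : ℤ → Submodule k R} {ℬ : ℤ → Submodule k S} {𝒯 : ℤ → Submodule k T}
  [GradedAlgebra 𝒜] [GradedAlgebra ℬ] [GradedAlgebra 𝒯]
  (ψ : T →ₐ[k] R ⊗[k] S) (hT : GrSeg.IsSegreRing 𝒜 ℬ 𝒯 ψ)
  {mR : HomogeneousIdeal (toAG 𝒜)} (hFR : FieldGr (toAG 𝒜) mR)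
  {mS : HomogeneousIdeal (toAG ℬ)} (hFS : FieldGr (toAG ℬ) mS)
  {mT : HomogeneousIdeal (toAG 𝒯)} (hFT : FieldGr (toAG 𝒯) mT)
  (h0R : ∀ r ∈ 𝒜 0, ∃ c : k, algebraMap k R c = r)
  (h0S : ∀ r ∈ ℬ 0, ∃ c : k, algebraMap k S c = r)
  (h0T : ∀ r ∈ 𝒯 0, ∃ c : k, algebraMap k T c = r)
  (hstdR : Ideal.span (⋃ n ∈ Set.Ioi (0 : ℤ), (toAG 𝒜 n : Set R)) =
    Ideal.span ((toAG 𝒜 1 : AddSubgroup R) : Set R))
  (hstdS : Ideal.span (⋃ n ∈ Set.Ioi (0 : ℤ), (toAG ℬ n : Set S)) =
    Ideal.span ((toAG ℬ 1 : AddSubgroup S) : Set S))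
  {ER : GrLC.GMod.{u} (toAG 𝒜)} {eR : (R ⧸ mR.toIdeal) →ₗ[R] ER.carrier}
  (heR : GrLC.IsStarInjHull (toAG 𝒜) (GrLC.quotGr (toAG 𝒜) mR) ER.gr eR)
  {ES : GrLC.GMod.{u} (toAG ℬ)} {eS : (S ⧸ mS.toIdeal) →ₗ[S] ES.carrier}
  (heS : GrLC.IsStarInjHull (toAG ℬ) (GrLC.quotGr (toAG ℬ) mS) ES.gr eS)
  {HR : GrLC.GMod.{u} (toAG 𝒜)} (βR : ER.carrier ≃ₗ[R] HR.carrier) (a : ℤ)
  (hβR : GrLC.IsGrHomDeg ER.gr HR.gr βR.toLinearMap a)
  {HS : GrLC.GMod.{u} (toAG ℬ)} (βS : ES.carrier ≃ₗ[S] HS.carrier) (b : ℤ)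
  (hβS : GrLC.IsGrHomDeg ES.gr HS.gr βS.toLinearMap b)

include hFS heS hβS in
/-- the pieces of degree above `b` of the Segre product vanish -/
lemma piece_eq_zero_of_gt {d : ℤ} (hd : b < d) (w : Amb HR HS) (hw : w ∈ piece HR HS d) :
    w = 0 := by
  have h1 : piece HR HS d ≤ ⊥ := by
    apply segrePiece_le
    intro u hu v hv
    rw [Submodule.mem_bot, top_eq_zero_of_gt hFS heS βS b hβS hd hv, TensorProduct.tmul_zero]
  exact (Submodule.mem_bot k).mp (h1 hw)

include hFR hFS heR heS hβR hβS hstdR hstdS in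
/-- a nonzero element of degree less than `a` and `b` of the Segre product is not killed by the
elements `x ⊗ y` of degree one -/
theorem exists_act_one_ne_zero {d : ℤ} (hda : d < a) (hdb : d < b) (w : Amb HR HS)
    (hw : w ∈ piece HR HS d) (hw0 : w ≠ 0) :
    ∃ x ∈ 𝒜 1, ∃ y ∈ ℬ 1, GrSeg.act k R S HR.carrier HS.carrier (x ⊗ₜ[k] y) w ≠ 0 := by
  rw [← range_pieceMap] at hw
  obtain ⟨w', rfl⟩ := hw
  have hw'0 : w' ≠ 0 := by
    rintro rfl
    exact hw0 (map_zero _)
  let F : Set (Module.Dual k (grK HR d)) :=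
    {f | ∃ x ∈ 𝒜 1, ∃ φ : Module.Dual k HR.carrier,
      ∀ u : grK HR d, f u = φ (x • (u : HR.carrier))}
  let G : Set (Module.Dual k (grK HS d)) :=
    {g | ∃ y ∈ ℬ 1, ∃ χ : Module.Dual k HS.carrier,
      ∀ v : grK HS d, g v = χ (y • (v : HS.carrier))}
  have hF : ∀ u : grK HR d, u ≠ 0 → ∃ f ∈ F, f u ≠ 0 := by
    intro u hu
    have hu' : (u : HR.carrier) ≠ 0 := fun h => hu (Subtype.ext h)
    obtain ⟨x, hx, hxu⟩ := top_exists_smul_ne_zero hFR hstdR heR βR a hβR hda u.2 hu'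
    obtain ⟨φ, hφ⟩ : ∃ φ : Module.Dual k HR.carrier, φ (x • (u : HR.carrier)) ≠ 0 := by
      by_contra hcon
      push_neg at hcon
      exact hxu ((Module.forall_dual_apply_eq_zero_iff k _).mp hcon)
    exact ⟨φ ∘ₗ (Algebra.lsmul k k HR.carrier x) ∘ₗ (grK HR d).subtype,
      ⟨x, hx, φ, fun _ => rfl⟩, hφ⟩
  have hG : ∀ v : grK HS d, v ≠ 0 → ∃ g ∈ G, g v ≠ 0 := by
    intro v hv
    have hv' : (v : HS.carrier) ≠ 0 := fun h => hv (Subtype.ext h)
    obtain ⟨y, hy, hyv⟩ := top_exists_smul_ne_zero hFS hstdS heS βS b hβS hdb v.2 hv'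
    obtain ⟨χ, hχ⟩ : ∃ χ : Module.Dual k HS.carrier, χ (y • (v : HS.carrier)) ≠ 0 := by
      by_contra hcon
      push_neg at hcon
      exact hyv ((Module.forall_dual_apply_eq_zero_iff k _).mp hcon)
    exact ⟨χ ∘ₗ (Algebra.lsmul k k HS.carrier y) ∘ₗ (grK HS d).subtype,
      ⟨y, hy, χ, fun _ => rfl⟩, hχ⟩
  obtain ⟨f, ⟨x, hx, φ, hfx⟩, g, ⟨y, hy, χ, hgy⟩, hfg⟩ := exists_dual_ne_zero F G hF hG w' hw'0
  refine ⟨x, hx, y, hy, ?_⟩
  have key : ∀ z : (grK HR d) ⊗[k] (grK HS d),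
      Lam2 φ χ (GrSeg.act k R S HR.carrier HS.carrier (x ⊗ₜ[k] y) (pieceMap HR HS d z)) =
        f (contrR g z) := by
    intro z
    induction z using TensorProduct.induction_on with
    | zero => simp
    | tmul u v =>
      have h1 : f (g v • u) = g v * f u := by rw [map_smul, smul_eq_mul]
      rw [pieceMap_tmul, GrSeg.act_tmul, Lam2_tmul, contrR_tmul, h1, hfx, hgy, mul_comm]
    | add z z' hz hz' => simp only [map_add, hz, hz']
  intro h
  apply hfg
  rw [← key, h, map_zero]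

include hT hFR hFS hFT heR heS hβR hβS hstdR hstdS in
/-- **the socle of the Segre product of the top local cohomologies of two standard graded
Gorenstein algebras is its piece of degree `b = min (a, b)`** -/
theorem socle_segM_iff (hab : b ≤ a) (w : (SegM ψ hT HR HS).carrier) :
    (∀ t ∈ mT.toIdeal, t • w = 0) ↔ w ∈ (SegM ψ hT HR HS).gr b := by
  classical
  constructor
  · intro ht
    have hcomp : ∀ d, d ≠ b → proj (SegM ψ hT HR HS).gr d w = 0 := by
      intro d hd
      by_contra hne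
      set wd := proj (SegM ψ hT HR HS).gr d w with hwd
      have hwdm : wd ∈ (SegM ψ hT HR HS).gr d := proj_mem (SegM ψ hT HR HS).gr d w
      have hsoc := Groth.Agent.Helper8.GV.proj_mem_socle hFT (SegM ψ hT HR HS).gr ht d
      have hv0 : valM ψ hT wd ≠ 0 := fun h => hne (valM_injective ψ hT (by rw [h, valM_zero]))
      rcases lt_or_gt_of_ne hd with hlt | hgt
      · obtain ⟨x, hx, y, hy, hxy⟩ := exists_act_one_ne_zero hFR hFS hstdR hstdS heR heS βR a hβR
          βS b hβS (by omega) hlt (valM ψ hT wd) hwdm hv0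
        obtain ⟨t, ht1, hψt⟩ := exists_ring_of_tmul hT hx hy
        have htm : t ∈ mT.toIdeal := hFT.mem_of_pos one_pos ht1
        apply hxy
        rw [← hψt, ← valM_smul, hsoc t htm, valM_zero]
      · exact hv0 (piece_eq_zero_of_gt hFS heS βS b hβS hgt (valM ψ hT wd) hwdm)
    have : w = proj (SegM ψ hT HR HS).gr b w := by
      apply Groth.Agent.Helper8.Ver.eq_of_forall_proj_eq (SegM ψ hT HR HS).gr
      intro i
      by_cases hi : i = b
      · subst hi
        rw [proj_of_mem_same (SegM ψ hT HR HS).gr (proj_mem (SegM ψ hT HR HS).gr i w)]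
      · rw [hcomp i hi, proj_of_mem_ne (SegM ψ hT HR HS).gr
          (proj_mem (SegM ψ hT HR HS).gr b w) (Ne.symm hi)]
    rw [this]
    exact proj_mem (SegM ψ hT HR HS).gr b w
  · intro hw
    have hle : mT.toIdeal ≤
        LinearMap.ker (LinearMap.toSpanSingleton T (SegM ψ hT HR HS).carrier w) := by
      rw [hFT.span, Ideal.span_le]
      intro t ht
      obtain ⟨n, hn, htn⟩ := Set.mem_iUnion₂.mp ht
      have hn' : (0 : ℤ) < n := hn
      rw [SetLike.mem_coe, LinearMap.mem_ker, LinearMap.toSpanSingleton_apply]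
      have h1 : t • w ∈ (SegM ψ hT HR HS).gr (n + b) :=
        smul_mem_add (toAG 𝒯) (SegM ψ hT HR HS).gr htn hw
      apply valM_injective ψ hT
      rw [valM_zero]
      exact piece_eq_zero_of_gt hFS heS βS b hβS (by omega) _ h1
    intro t ht
    have := hle ht
    rwa [LinearMap.mem_ker, LinearMap.toSpanSingleton_apply] at this

end Socle

end Groth.Agent.Helper8.SG
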