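import Mathlib
import Groth.Prelude.Def_GrLC
import Groth.Prelude.Def_GrLC2
import Groth.Prelude.Def_GrSeg
import Groth.Agent.Lib.Helper8.SG10

set_option autoImplicit false
set_option linter.unusedSectionVars false
set_option linter.unusedVariables false
set_option linter.unusedSimpArgs false
set_option linter.style.haveILetI false
set_option maxHeartbeats 1600000

/-!
# The type of the Segre product of two standard graded Gorenstein algebras, II (helper8)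
-/

universe u

namespace Groth.Agent.Helper8.SG

open scoped TensorProduct
open CategoryTheory DirectSum Groth.Agent.Helper9.GrLCLib Groth.Agent.Helper9.GrLCLib.Trans
open Groth.Agent.Helper8.LC Groth.Agent.Lib.Helper6.CMReg Groth.Agent.Lib.Helper6.SegK
open Groth.Agent.Helper9.SegreLib Groth.Agent.Helper8.GD Groth.Agent.Lib.Helper6.SegCM
open Groth.Agent.Helper8.GB Groth.Agent.Lib.Helper6.SegDim

attribute [local instance] kMod

section Socle

variable {k : Type u} [Field k] {R S T : Type u} [CommRing R] [CommRing S] [CommRing T]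
  [Algebra k R] [Algebra k S] [Algebra k T] [IsNoetherianRing R] [IsNoetherianRing S]
  [IsNoetherianRing T] [Nontrivial R] [Nontrivial S] [Nontrivial T]
  {𝒜 : ℤ → Submodule k R} {ℬ : ℤ → Submodule k S} {𝒯 : ℤ → Submodule k T}
  [GradedAlgebra 𝒜] [GradedAlgebra ℬ] [GradedAlgebra 𝒯]
  (ψ : T →ₐ[k] R ⊗[k] S) (hT : GrSeg.IsSegreRing 𝒜 ℬ 𝒯 ψ)
  {mR : HomogeneousIdeal (toAG 𝒜)} (hFR : FieldGr (toAG 𝒜) mR)
  {mS : HomogeneousIdeal (toAG ℬ)} (hFS : FieldGr (toAG ℬ) mS)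
  {mT : HomogeneousIdeal (toAG 𝒯)} (hFT : FieldGr (toAG 𝒯) mT)
  (h0R : ∀ r ∈ 𝒜 0, ∃ c : k, algebraMap k R c = r)
  (h0S : ∀ r ∈ ℬ 0, ∃ c : k, algebraMap k S c = r)
  (h0T : ∀ r ∈ 𝒯 0, ∃ c : k, algebraMap k T c = r)
  (hstdR : Ideal.span (⋃ n ∈ Set.Ioi (0 : ℤ), (toAG 𝒜 n : Set R)) =
    Ideal.span ((toAG 𝒜 1 : AddSubgroup R) : Set R))
  (hstdS : Ideal.span (⋃ n ∈ Set.Ioi (0 : ℤ), (toAG ℬ n : Set S)) =
    Ideal.span ((toAG ℬ 1 : AddSubgroup S) : Set S))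
  {ER : GrLC.GMod.{u} (toAG 𝒜)} {eR : (R ⧸ mR.toIdeal) →ₗ[R] ER.carrier}
  (heR : GrLC.IsStarInjHull (toAG 𝒜) (GrLC.quotGr (toAG 𝒜) mR) ER.gr eR)
  {ES : GrLC.GMod.{u} (toAG ℬ)} {eS : (S ⧸ mS.toIdeal) →ₗ[S] ES.carrier}
  (heS : GrLC.IsStarInjHull (toAG ℬ) (GrLC.quotGr (toAG ℬ) mS) ES.gr eS)
  {HR : GrLC.GMod.{u} (toAG 𝒜)} (βR : ER.carrier ≃ₗ[R] HR.carrier) (a : ℤ)
  (hβR : GrLC.IsGrHomDeg ER.gr HR.gr βR.toLinearMap a)
  {HS : GrLC.GMod.{u} (toAG ℬ)} (βS : ES.carrier ≃ₗ[S] HS.carrier) (b : ℤ)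
  (hβS : GrLC.IsGrHomDeg ES.gr HS.gr βS.toLinearMap b)

/-- the pieces of the Segre product, as subspaces of the tensor product -/
lemma rank_grK_segM_piece (U : GrLC.GMod.{u} (toAG 𝒜)) (V : GrLC.GMod.{u} (toAG ℬ)) (d : ℤ) :
    Module.rank k (grK (SegM ψ hT U V) d) = Module.rank k (piece U V d) := by
  refine rank_eq_of_semilinear (id : k → k) Function.bijective_id (grK (SegM ψ hT U V) d)
    (piece U V d) (SegC.valHom ψ hT U V) (valM_injective ψ hT) ?_ ?_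
  · intro c w
    exact valM_smul_k ψ hT U V c w
  · intro y
    constructor
    · intro hy
      exact ⟨mkM ψ hT y (piece_le_segSub U V d hy), hy, rfl⟩
    · rintro ⟨w, hw, rfl⟩
      exact hw

include hT hFR hFS hFT heR heS hβR hβS hstdR hstdS h0R h0S h0T in
/-- **the dimension of the socle** -/
theorem length_socK_segM (hab : b ≤ a) :
    Module.length (GrLC.deg0 (toAG 𝒯))
      (Groth.Agent.Helper8.GV.socK (GrLC.deg0 (toAG 𝒯)) mT.toIdeal (SegM ψ hT HR HS).carrier) =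
      (Module.finrank k (𝒜 (a - b)) : ℕ∞) := by
  letI : Field (GrLC.deg0 (toAG 𝒯)) := hFT.field.toField
  have hinjS : Function.Injective (algebraMap k S) := (algebraMap k S).injective
  have hinjT : Function.Injective (algebraMap k T) := (algebraMap k T).injective
  have heq : Groth.Agent.Helper8.GV.socK (GrLC.deg0 (toAG 𝒯)) mT.toIdeal
      (SegM ψ hT HR HS).carrier = GrLC.comp (toAG 𝒯) (SegM ψ hT HR HS).gr b := by
    ext w
    exact socle_segM_iff ψ hT hFR hFS hFT hstdR hstdS heR heS βR a hβR βS b hβS hab w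
  have r1 := rank_grK (SegM ψ hT HR HS) b h0T hinjT
  have rR := rank_grK_of_deg βR a hβR (b - a)
  rw [sub_add_cancel] at rR
  have rS := rank_grK_of_deg βS b hβS 0
  rw [zero_add] at rS
  obtain ⟨finR, frR⟩ := rank_grK_E hFR h0R heR (a - b)
  have hneg : -(a - b) = b - a := by ring
  rw [hneg] at finR frR
  obtain ⟨finS, -⟩ := rank_grK_E hFS h0S heS 0
  rw [neg_zero] at finS
  have frS : Module.finrank k (grK ES 0) = 1 := by
    rw [finrank_eq_of_rank_eq (rank_grK ES 0 h0S hinjS)]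
    exact finrank_E_zero hFS heS
  haveI := finR
  haveI := finS
  haveI hfHR : Module.Finite k (grK HR b) := finite_of_rank_eq rR.symm
  haveI hfHS : Module.Finite k (grK HS b) := finite_of_rank_eq rS.symm
  have hfin_range : Module.Finite k (LinearMap.range (pieceMap HR HS b)) :=
    Module.Finite.equiv (LinearEquiv.ofInjective (pieceMap HR HS b) (pieceMap_injective HR HS b))
  haveI hfin_piece : Module.Finite k (piece HR HS b) := by
    rw [← range_pieceMap]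
    exact hfin_range
  have r2 := rank_grK_segM_piece ψ hT HR HS b
  haveI hfin_seg : Module.Finite k (grK (SegM ψ hT HR HS) b) := finite_of_rank_eq r2
  have hfr : Module.finrank k (grK (SegM ψ hT HR HS) b) = Module.finrank k (𝒜 (a - b)) := by
    rw [finrank_grK_segM ψ hT HR HS b, ← finrank_eq_of_rank_eq rR, ← finrank_eq_of_rank_eq rS,
      frR, frS, mul_one]
  rw [heq, Module.length_eq_rank, ← r1, ← hfr, ← Module.finrank_eq_rank]
  simp

end Socle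

open LocCoh IsLocalRing in
/-- **S18665**: the type of the Segre product of two standard graded Gorenstein algebras -/
theorem bassNum_segre (k : Type u) [Field k] (R : Type u) [CommRing R] [Algebra k R]
    (𝒜 : ℤ → Submodule k R) [GradedAlgebra 𝒜] (hposR : ∀ n : ℤ, n < 0 → 𝒜 n = ⊥)
    (h0R : 𝒜 0 = Submodule.span k {(1 : R)}) [Algebra.FiniteType k R] (S : Type u) [CommRing S]
    [Algebra k S] (ℬ : ℤ → Submodule k S) [GradedAlgebra ℬ] (hposS : ∀ n : ℤ, n < 0 → ℬ n = ⊥)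
    (h0S : ℬ 0 = Submodule.span k {(1 : S)}) [Algebra.FiniteType k S] (T : Type u) [CommRing T]
    [Algebra k T] (𝒯 : ℤ → Submodule k T) [GradedAlgebra 𝒯] (ψ : T →ₐ[k] TensorProduct k R S)
    (hT : GrSeg.IsSegreRing 𝒜 ℬ 𝒯 ψ)
    [hGR : LocCoh.IsGorensteinRing R] [hGS : LocCoh.IsGorensteinRing S]
    (mR : HomogeneousIdeal 𝒜)
    (hmR : mR.toIdeal = Ideal.span (⋃ n ∈ Set.Ioi (0 : ℤ), (𝒜 n : Set R)))
    (hstdR : Ideal.span (⋃ n ∈ Set.Ioi (0 : ℤ), (𝒜 n : Set R)) =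
      Ideal.span ((𝒜 1 : Submodule k R) : Set R))
    (I : GrLC.StarInjRes 𝒜 𝒜) (mS : HomogeneousIdeal ℬ)
    (hmS : mS.toIdeal = Ideal.span (⋃ n ∈ Set.Ioi (0 : ℤ), (ℬ n : Set S)))
    (hstdS : Ideal.span (⋃ n ∈ Set.Ioi (0 : ℤ), (ℬ n : Set S)) =
      Ideal.span ((ℬ 1 : Submodule k S) : Set S))
    (J : GrLC.StarInjRes ℬ ℬ) (r s : ℕ) (hr : ringKrullDim R = r) (hs : ringKrullDim S = s)
    (h2r : 2 ≤ r) (h2s : 2 ≤ s) (a b : ℤ)
    (ha : GrLC.endDeg (I.Hgr mR r) = ((a : WithTop ℤ) : WithBot (WithTop ℤ)))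
    (hb : GrLC.endDeg (J.Hgr mS s) = ((b : WithTop ℤ) : WithBot (WithTop ℤ))) (hab : b ≤ a)
    [hCM : LocCoh.IsCohenMacaulayRing T] (mT : HomogeneousIdeal 𝒯) [hmax : mT.toIdeal.IsMaximal]
    (hmT : mT.toIdeal = Ideal.span (⋃ n ∈ Set.Ioi (0 : ℤ), (𝒯 n : Set T))) :
    GrLC.bassNum mT.toIdeal T (r + s - 1) = (Module.finrank k (𝒜 (a - b)) : ℕ∞) := by
  haveI : IsNoetherianRing R := Algebra.FiniteType.isNoetherianRing k R
  haveI : IsNoetherianRing S := Algebra.FiniteType.isNoetherianRing k S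
  haveI : Nontrivial R := nontrivial_of_dim hr
  haveI : Nontrivial S := nontrivial_of_dim hs
  haveI : IsNoetherianRing T :=
    Groth.Agent.Helper3.Segre.isNoetherianRing_of_segre 𝒜 ℬ 𝒯 ψ hT.2 hT.1
  haveI : Nontrivial T := nontrivial_of_segre ψ
  have hposT := segre_pos 𝒜 ℬ 𝒯 ψ hT hposR
  have h0T := segre_zero 𝒜 ℬ 𝒯 ψ hT h0R h0S
  have h0R' := h0_of_span h0R
  have h0S' := h0_of_span h0S
  have h0T' := h0_of_span h0T
  have hdimT : ringKrullDim T = ((r + s - 1 : ℕ) : WithBot ℕ∞) :=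
    ringKrullDim_segre 𝒜 hposR h0R ℬ hposS h0S T 𝒯 ψ hT.1 hT.2 r s hr hs (by omega) (by omega)
  obtain ⟨i, rfl⟩ : ∃ i, r = i + 2 := ⟨r - 2, by omega⟩
  obtain ⟨j, rfl⟩ : ∃ j, s = j + 2 := ⟨s - 2, by omega⟩
  have hidx : i + 2 + (j + 2) - 1 = i + j + 3 := by omega
  rw [hidx] at hdimT ⊢
  -- the irrelevant ideals
  let aR : HomogeneousIdeal (toAG 𝒜) := idealToAG 𝒜 mR
  let aS : HomogeneousIdeal (toAG ℬ) := idealToAG ℬ mS
  let aT : HomogeneousIdeal (toAG 𝒯) := idealToAG 𝒯 mT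
  have hFR : FieldGr (toAG 𝒜) aR := fieldGr_toAG 𝒜 hposR h0R mR hmR
  have hFS : FieldGr (toAG ℬ) aS := fieldGr_toAG ℬ hposS h0S mS hmS
  have hFT : FieldGr (toAG 𝒯) aT := fieldGr_toAG 𝒯 hposT h0T mT hmT
  haveI hmaxT : aT.toIdeal.IsMaximal := hmax
  -- the *injective envelopes
  obtain ⟨ER, eR, heR⟩ := Groth.Agent.Helper8.GV.exists_starInjHull_quot (toAG 𝒜) aR
  obtain ⟨ES, eS, heS⟩ := Groth.Agent.Helper8.GV.exists_starInjHull_quot (toAG ℬ) aS
  obtain ⟨ET, eT, heT⟩ := Groth.Agent.Helper8.GV.exists_starInjHull_quot (toAG 𝒯) aT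
  obtain ⟨IT⟩ := Groth.Agent.S13215.result T (toAG 𝒯) T (toAG 𝒯)
  -- the top local cohomology of the factors
  obtain ⟨gR, βR, hβR, hendR⟩ :=
    exists_equiv_top_of_gorenstein hFR heR (i + 2) hr (resToAG 𝒜 𝒜 I)
  obtain ⟨gS, βS, hβS, hendS⟩ :=
    exists_equiv_top_of_gorenstein hFS heS (j + 2) hs (resToAG ℬ ℬ J)
  have hendR' : GrLC.endDeg (I.Hgr mR (i + 2)) = ((gR : WithTop ℤ) : WithBot (WithTop ℤ)) :=
    hendR
  have hendS' : GrLC.endDeg (J.Hgr mS (j + 2)) = ((gS : WithTop ℤ) : WithBot (WithTop ℤ)) :=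
    hendS
  have hgR : gR = a := by
    rw [hendR'] at ha
    exact WithTop.coe_injective (WithBot.coe_injective ha)
  have hgS : gS = b := by
    rw [hendS'] at hb
    exact WithTop.coe_injective (WithBot.coe_injective hb)
  subst hgR hgS
  -- the chain of isomorphisms
  have g1 : GIso (bun 𝒯 𝒯) (SegM ψ hT (bun 𝒜 𝒜) (bun ℬ ℬ)) :=
    ⟨segEquiv 𝒜 ℬ ψ hT 𝒜 ℬ 𝒯 ψ.toLinearMap (isSegreMod_self ψ hT),
      segEquiv_gr 𝒜 ℬ ψ hT 𝒜 ℬ 𝒯 ψ.toLinearMap (isSegreMod_self ψ hT)⟩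
  obtain ⟨e2, -⟩ := giso_of_giso aT g1 (i + j + 3)
  obtain ⟨e3, -⟩ := topK ψ hT (bun 𝒜 𝒜) (bun ℬ ℬ) aR hmR aS hmS aT hmT i j hr.le hs.le
  obtain ⟨Θ, -⟩ := exists_theta_LCgr (toAG 𝒯) (toAG 𝒯) aT IT (i + j + 3)
  let Θ' : IT.H aT (i + j + 3) ≃ₗ[T] (LCGMod (toAG 𝒯) (bun 𝒯 𝒯).gr aT (i + j + 3)).carrier := Θ
  have hvan : ∀ q : ℕ, q ≠ i + j + 3 → Subsingleton (IT.H aT q) := fun q hq =>
    subsingleton_starH_of_cm hFT heT (i + j + 3) hdimT IT q hq
  obtain ⟨hvanloc, hlen⟩ := local_of_graded hFT IT (i + j + 3) hvan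
  have hsoc := (Groth.Agent.Helper8.GV.socKCongr (GrLC.deg0 (toAG 𝒯)) aT.toIdeal
    (Θ'.trans (e2.trans e3.symm))).length_eq
  have hlen2 := length_socK_segM ψ hT hFR hFS hFT h0R' h0S' h0T' hstdR hstdS heR heS βR gR hβR
    βS gS hβS hab
  have hfinal := hlen.trans (hsoc.trans hlen2)
  have hmu := (Groth.Agent.Helper8.GV.mu_eq_length_hom_of_vanish
    (Localization.AtPrime aT.toIdeal) (i + j + 3) hvanloc).2
  have hb1 := Groth.Agent.Helper8.GV.bassNum_eq_mu aT.toIdeal (i + j + 3)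
  exact hb1.trans (hmu.trans hfinal)

end Groth.Agent.Helper8.SG
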