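import Mathlib
import Groth.Prelude.Def_GrLC
import Groth.Prelude.Def_GrSeg
import Groth.Agent.Lib.Helper8.SG9
import Groth.Agent.Lib.Helper8.GE1
import Groth.Agent.Lib.Helper8.GD4

set_option autoImplicit false
set_option linter.unusedSectionVars false
set_option linter.unusedVariables false
set_option linter.unusedSimpArgs false
set_option linter.style.haveILetI false
set_option maxHeartbeats 1600000

/-!
# The pairing of Segre products (helper8)

For graded modules `HR`, `U`, `ER` over `R` and `HS`, `V`, `ES` over `S` and homogeneous families of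
maps `HR → Hom_R(U, ER)`, `HS → Hom_S(V, ES)` the induced `T`-linear map
`HR # HS → Hom_T(U # V, ER # ES)`; it is bijective when the two families are perfect pairings and
the targets are the *injective envelopes of the residue fields (`exists_equiv_hom_seg`).
-/

universe u

namespace Groth.Agent.Helper8.SG

open scoped TensorProduct
open CategoryTheory DirectSum Groth.Agent.Helper9.GrLCLib Groth.Agent.Helper9.GrLCLib.Trans
open Groth.Agent.Helper8.LC Groth.Agent.Lib.Helper6.CMReg Groth.Agent.Lib.Helper6.SegK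
open Groth.Agent.Helper9.SegreLib Groth.Agent.Helper8.GD Groth.Agent.Lib.Helper6.SegCM
open Groth.Agent.Helper8.GB Groth.Agent.Lib.Helper6.SegDim

attribute [local instance] kMod

section StarComp

variable {R : Type u} [CommRing R] (𝒜 : ℤ → AddSubgroup R) [GradedRing 𝒜]
variable {M : Type u} [AddCommGroup M] [Module R M] (ℳ : ℤ → AddSubgroup M)
  [DirectSum.Decomposition ℳ] [SetLike.GradedSMul 𝒜 ℳ]
variable {E' : Type u} [AddCommGroup E'] [Module R E'] (𝓔 : ℤ → AddSubgroup E')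
  [DirectSum.Decomposition 𝓔] [SetLike.GradedSMul 𝒜 𝓔]

/-- the piece of degree `d` of `*Hom` is the module of the homogeneous maps of degree `d` -/
noncomputable def starCompEquiv (d : ℤ) :
    GrLC.comp 𝒜 (GE.starGr 𝒜 ℳ 𝓔) d ≃ₗ[GrLC.deg0 𝒜] GrLC.homDeg 𝒜 ℳ 𝓔 d where
  toFun c := ⟨((c : GE.starHom 𝒜 ℳ 𝓔) : M →ₗ[R] E'), c.2⟩
  map_add' a b := rfl
  map_smul' r a := rfl
  invFun f := ⟨⟨(f : M →ₗ[R] E'), GE.mem_starHom_of_deg 𝒜 ℳ 𝓔 f.2⟩, f.2⟩
  left_inv a := rfl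
  right_inv f := rfl

/-- every linear map out of a finitely generated graded module is a sum of homogeneous maps -/
lemma starHom_eq_top [Module.Finite R M] : GE.starHom 𝒜 ℳ 𝓔 = ⊤ := by
  rw [eq_top_iff]
  intro f _
  obtain ⟨D, hD⟩ := exists_finset_sum_homComp 𝒜 ℳ 𝓔 f
  rw [hD]
  exact Submodule.sum_mem _ (fun d _ =>
    GE.mem_starHom_of_deg 𝒜 ℳ 𝓔 (homComp_isGrHomDeg 𝒜 ℳ 𝓔 f d))

variable [IsNoetherianRing R] {m : HomogeneousIdeal 𝒜} (hF : FieldGr 𝒜 m)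
  {e : (R ⧸ m.toIdeal) →ₗ[R] E'} (he : GrLC.IsStarInjHull 𝒜 (GrLC.quotGr 𝒜 m) 𝓔 e)

include hF he in
/-- the dimension of the pieces of `*Hom(M, *E(R/m))` -/
lemma finrank_comp_starGr (j : ℤ) [Module.Finite (GrLC.deg0 𝒜) (GrLC.comp 𝒜 ℳ (-j))] :
    Module.Finite (GrLC.deg0 𝒜) (GrLC.comp 𝒜 (GE.starGr 𝒜 ℳ 𝓔) j) ∧
      Module.finrank (GrLC.deg0 𝒜) (GrLC.comp 𝒜 (GE.starGr 𝒜 ℳ 𝓔) j) =
        Module.finrank (GrLC.deg0 𝒜) (GrLC.comp 𝒜 ℳ (-j)) := by
  have h := finrank_homDeg hF he ℳ (j := -j)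
  rw [neg_neg] at h
  haveI := h.1
  exact ⟨Module.Finite.equiv (starCompEquiv 𝒜 ℳ 𝓔 j).symm,
    by rw [(starCompEquiv 𝒜 ℳ 𝓔 j).finrank_eq, h.2]⟩

end StarComp

section ZetaK

variable {k : Type u} [Field k] {R : Type u} [CommRing R] [Algebra k R]
  {𝒜 : ℤ → Submodule k R} [GradedAlgebra 𝒜]
  {X Y Z : GrLC.GMod.{u} (toAG 𝒜)}

/-- an `R`-linear family of `R`-linear maps, as a `k`-linear family of `k`-linear maps -/
noncomputable def zetaK (ζ : X.carrier →ₗ[R] (Y.carrier →ₗ[R] Z.carrier)) :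
    X.carrier →ₗ[k] (Y.carrier →ₗ[k] Z.carrier) where
  toFun h := (ζ h).restrictScalars k
  map_add' h h' := by
    apply LinearMap.ext
    intro x
    show ζ (h + h') x = ζ h x + ζ h' x
    rw [map_add, LinearMap.add_apply]
  map_smul' c h := by
    apply LinearMap.ext
    intro x
    show ζ (c • h) x = c • ζ h x
    rw [kMod_smul_def, map_smul, LinearMap.smul_apply, kMod_smul_def]

lemma zetaK_apply (ζ : X.carrier →ₗ[R] (Y.carrier →ₗ[R] Z.carrier)) (h : X.carrier)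
    (x : Y.carrier) : zetaK ζ h x = ζ h x := rfl

end ZetaK

section Pair

variable {k : Type u} [Field k] {R S T : Type u} [CommRing R] [CommRing S] [CommRing T]
  [Algebra k R] [Algebra k S] [Algebra k T] [IsNoetherianRing R] [IsNoetherianRing S]
  [IsNoetherianRing T] [Nontrivial R] [Nontrivial S] [Nontrivial T]
  {𝒜 : ℤ → Submodule k R} {ℬ : ℤ → Submodule k S} {𝒯 : ℤ → Submodule k T}
  [GradedAlgebra 𝒜] [GradedAlgebra ℬ] [GradedAlgebra 𝒯]
  (ψ : T →ₐ[k] R ⊗[k] S) (hT : GrSeg.IsSegreRing 𝒜 ℬ 𝒯 ψ)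
  {HR U ER : GrLC.GMod.{u} (toAG 𝒜)} {HS V ES : GrLC.GMod.{u} (toAG ℬ)}
  (ζR : HR.carrier →ₗ[R] (U.carrier →ₗ[R] ER.carrier))
  (ζS : HS.carrier →ₗ[S] (V.carrier →ₗ[S] ES.carrier))
  (hζR : ∀ (d : ℤ) (h : HR.carrier), h ∈ HR.gr d → GrLC.IsGrHomDeg U.gr ER.gr (ζR h) d)
  (hζS : ∀ (d : ℤ) (h : HS.carrier), h ∈ HS.gr d → GrLC.IsGrHomDeg V.gr ES.gr (ζS h) d)

/-- the pairing of the ambient tensor products -/
noncomputable def pairAmb : Amb HR HS →ₗ[k] (Amb U V →ₗ[k] Amb ER ES) :=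
  (TensorProduct.homTensorHomMap (RingHom.id k) U.carrier V.carrier ER.carrier ES.carrier) ∘ₗ
    TensorProduct.map (zetaK ζR) (zetaK ζS)

lemma pairAmb_tmul (h : HR.carrier) (h' : HS.carrier) :
    pairAmb ζR ζS (h ⊗ₜ[k] h') = ambMap (ζR h) (ζS h') := by
  unfold pairAmb
  rw [LinearMap.comp_apply, TensorProduct.map_tmul, TensorProduct.homTensorHomMap_apply]
  rfl

lemma pairAmb_act_right (w : Amb HR HS) (z : R ⊗[k] S) (v : Amb U V) :
    pairAmb ζR ζS w (GrSeg.act k R S U.carrier V.carrier z v) =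
      GrSeg.act k R S ER.carrier ES.carrier z (pairAmb ζR ζS w v) := by
  induction w using TensorProduct.induction_on with
  | zero => rw [map_zero, LinearMap.zero_apply, LinearMap.zero_apply, map_zero]
  | tmul h h' =>
    rw [pairAmb_tmul]
    exact map_act (ζR h) (ζS h') z v
  | add a b ha hb =>
    rw [map_add, LinearMap.add_apply, LinearMap.add_apply, ha, hb, map_add]

lemma pairAmb_act_left (z : R ⊗[k] S) (w : Amb HR HS) (v : Amb U V) :
    pairAmb ζR ζS (GrSeg.act k R S HR.carrier HS.carrier z w) v =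
      GrSeg.act k R S ER.carrier ES.carrier z (pairAmb ζR ζS w v) := by
  induction z using TensorProduct.induction_on with
  | zero => simp
  | add a b ha hb => simp only [map_add, LinearMap.add_apply, ha, hb]
  | tmul a b =>
    induction w using TensorProduct.induction_on with
    | zero => simp
    | add x y hx hy => simp only [map_add, LinearMap.add_apply, hx, hy]
    | tmul h h' =>
      induction v using TensorProduct.induction_on with
      | zero => simp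
      | add x y hx hy => simp only [map_add, hx, hy]
      | tmul x y =>
        rw [GrSeg.act_tmul, pairAmb_tmul, pairAmb_tmul, ambMap_tmul, ambMap_tmul,
          GrSeg.act_tmul, map_smul, map_smul, LinearMap.smul_apply, LinearMap.smul_apply]

include hζR hζS in
lemma pairAmb_mem_piece {d e : ℤ} {w : Amb HR HS} (hw : w ∈ piece HR HS d) {v : Amb U V}
    (hv : v ∈ piece U V e) : pairAmb ζR ζS w v ∈ piece ER ES (e + d) := by
  have h1 : piece HR HS d ≤ (piece ER ES (e + d)).comap ((pairAmb ζR ζS).flip v) := by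
    apply segrePiece_le
    intro h hh h' hh'
    rw [Submodule.mem_comap, LinearMap.flip_apply, pairAmb_tmul]
    have h2 : piece U V e ≤ (piece ER ES (e + d)).comap (ambMap (ζR h) (ζS h')) := by
      apply segrePiece_le
      intro a ha b hb
      rw [Submodule.mem_comap, ambMap_tmul]
      exact tmul_mem_piece ER ES (hζR d h hh e a ha) (hζS d h' hh' e b hb)
    exact h2 hv
  exact h1 hw

include hζR hζS in
lemma pairAmb_mem_segSub {w : Amb HR HS} (hw : w ∈ segSub HR HS) {v : Amb U V}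
    (hv : v ∈ segSub U V) : pairAmb ζR ζS w v ∈ segSub ER ES := by
  have h1 : (⨆ d, piece HR HS d) ≤ (segSub ER ES).comap ((pairAmb ζR ζS).flip v) := by
    apply iSup_le
    intro d w hw
    rw [Submodule.mem_comap, LinearMap.flip_apply]
    have h2 : (⨆ e, piece U V e) ≤ (segSub ER ES).comap (pairAmb ζR ζS w) := by
      apply iSup_le
      intro e v hv
      rw [Submodule.mem_comap]
      exact piece_le_segSub ER ES (e + d) (pairAmb_mem_piece ζR ζS hζR hζS hw hv)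
    exact h2 hv
  exact h1 hw

/-- **the pairing of the Segre products** -/
noncomputable def pairSeg : (SegM ψ hT HR HS).carrier →ₗ[T]
    ((SegM ψ hT U V).carrier →ₗ[T] (SegM ψ hT ER ES).carrier) where
  toFun w := segLiftD ψ hT (pairAmb ζR ζS (valM ψ hT w))
    (fun z v => pairAmb_act_right ζR ζS (valM ψ hT w) z v)
    (fun v hv => pairAmb_mem_segSub ζR ζS hζR hζS (valM_mem ψ hT w) hv)
  map_add' w w' := by
    apply LinearMap.ext
    intro v
    apply valM_injective ψ hT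
    show pairAmb ζR ζS (valM ψ hT (w + w')) (valM ψ hT v) =
      pairAmb ζR ζS (valM ψ hT w) (valM ψ hT v) + pairAmb ζR ζS (valM ψ hT w') (valM ψ hT v)
    rw [valM_add, map_add, LinearMap.add_apply]
  map_smul' t w := by
    apply LinearMap.ext
    intro v
    apply valM_injective ψ hT
    show pairAmb ζR ζS (valM ψ hT (t • w)) (valM ψ hT v) =
      GrSeg.act k R S ER.carrier ES.carrier (ψ t) (pairAmb ζR ζS (valM ψ hT w) (valM ψ hT v))
    rw [valM_smul, pairAmb_act_left]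

lemma valM_pairSeg (w : (SegM ψ hT HR HS).carrier) (v : (SegM ψ hT U V).carrier) :
    valM ψ hT (pairSeg ψ hT ζR ζS hζR hζS w v) =
      pairAmb ζR ζS (valM ψ hT w) (valM ψ hT v) := rfl

lemma pairSeg_isGrHomDeg {d : ℤ} {w : (SegM ψ hT HR HS).carrier}
    (hw : w ∈ (SegM ψ hT HR HS).gr d) :
    GrLC.IsGrHomDeg (SegM ψ hT U V).gr (SegM ψ hT ER ES).gr
      (pairSeg ψ hT ζR ζS hζR hζS w) d := by
  intro e v hv
  show valM ψ hT (pairSeg ψ hT ζR ζS hζR hζS w v) ∈ piece ER ES (e + d)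
  rw [valM_pairSeg]
  exact pairAmb_mem_piece ζR ζS hζR hζS hw hv

variable {mR : HomogeneousIdeal (toAG 𝒜)} (hFR : FieldGr (toAG 𝒜) mR)
  {mS : HomogeneousIdeal (toAG ℬ)} (hFS : FieldGr (toAG ℬ) mS)
  {mT : HomogeneousIdeal (toAG 𝒯)} (hFT : FieldGr (toAG 𝒯) mT)
  (h0R : ∀ r ∈ 𝒜 0, ∃ c : k, algebraMap k R c = r)
  (h0S : ∀ r ∈ ℬ 0, ∃ c : k, algebraMap k S c = r)
  (h0T : ∀ r ∈ 𝒯 0, ∃ c : k, algebraMap k T c = r)
  {eR : (R ⧸ mR.toIdeal) →ₗ[R] ER.carrier}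
  (heR : GrLC.IsStarInjHull (toAG 𝒜) (GrLC.quotGr (toAG 𝒜) mR) ER.gr eR)
  {eS : (S ⧸ mS.toIdeal) →ₗ[S] ES.carrier}
  (heS : GrLC.IsStarInjHull (toAG ℬ) (GrLC.quotGr (toAG ℬ) mS) ES.gr eS)
  {ET : GrLC.GMod.{u} (toAG 𝒯)} {eT : (T ⧸ mT.toIdeal) →ₗ[T] ET.carrier}
  (heT : GrLC.IsStarInjHull (toAG 𝒯) (GrLC.quotGr (toAG 𝒯) mT) ET.gr eT)

include hζR hFR heR h0R in
/-- the functionals `h ↦ lam (ζ h x)`, `x ∈ U_{-d}`, separate the points of `(HR)_d` -/
lemma exists_lam_zeta_ne_zero (hinjR : Function.Injective ζR) (lamR : Module.Dual k ER.carrier)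
    (hlamR : lamR (eR 1) = 1) {d : ℤ} {h : HR.carrier} (hh : h ∈ HR.gr d) (hh0 : h ≠ 0) :
    ∃ x ∈ U.gr (-d), lamR (ζR h x) ≠ 0 := by
  have h1 : ζR h ≠ 0 := fun h0 => hh0 (hinjR (by rw [h0, map_zero]))
  have hdeg : GrLC.IsGrHomDeg U.gr ER.gr (ζR h) (-(-d)) := by
    rw [neg_neg]
    exact hζR d h hh
  obtain ⟨x, hx, hx0⟩ : ∃ x ∈ U.gr (-d), ζR h x ≠ 0 := by
    by_contra hcon
    push Not at hcon
    exact h1 (eq_zero_of_restrict hFR heR U.gr hdeg hcon)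
  have hmem : ζR h x ∈ ER.gr 0 := by
    have := hζR d h hh (-d) x hx
    rwa [neg_add_cancel] at this
  obtain ⟨c, hc⟩ := exists_coord_k hFR h0R heR hmem
  refine ⟨x, hx, ?_⟩
  rw [hc, map_smul, hlamR, smul_eq_mul, mul_one]
  rintro rfl
  apply hx0
  rw [hc, zero_smul]

include hFR hFS h0R h0S heR heS hζR hζS in
/-- **nondegeneracy of the pairing** -/
theorem exists_pair_ne_zero (hinjR : Function.Injective ζR) (hinjS : Function.Injective ζS)
    (d : ℤ) (w : Amb HR HS) (hw : w ∈ piece HR HS d) (hw0 : w ≠ 0) :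
    ∃ x ∈ U.gr (-d), ∃ y ∈ V.gr (-d), pairAmb ζR ζS w (x ⊗ₜ[k] y) ≠ 0 := by
  rw [← range_pieceMap] at hw
  obtain ⟨w', rfl⟩ := hw
  have hw'0 : w' ≠ 0 := by
    rintro rfl
    exact hw0 (map_zero _)
  obtain ⟨lamR, hlamR⟩ := exists_lam hFR heR
  obtain ⟨lamS, hlamS⟩ := exists_lam hFS heS
  let F : Set (Module.Dual k (grK HR d)) :=
    {f | ∃ x ∈ U.gr (-d), ∀ h : grK HR d, f h = lamR (ζR (h : HR.carrier) x)}
  let G : Set (Module.Dual k (grK HS d)) :=
    {g | ∃ y ∈ V.gr (-d), ∀ h : grK HS d, g h = lamS (ζS (h : HS.carrier) y)}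
  have hF : ∀ h : grK HR d, h ≠ 0 → ∃ f ∈ F, f h ≠ 0 := by
    intro h hh
    have hh' : (h : HR.carrier) ≠ 0 := fun h0 => hh (Subtype.ext h0)
    obtain ⟨x, hx, hx0⟩ :=
      exists_lam_zeta_ne_zero ζR hζR hFR h0R heR hinjR lamR hlamR h.2 hh'
    exact ⟨lamR ∘ₗ ((zetaK ζR).flip x) ∘ₗ (grK HR d).subtype, ⟨x, hx, fun _ => rfl⟩, hx0⟩
  have hG : ∀ h : grK HS d, h ≠ 0 → ∃ g ∈ G, g h ≠ 0 := by
    intro h hh
    have hh' : (h : HS.carrier) ≠ 0 := fun h0 => hh (Subtype.ext h0)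
    obtain ⟨y, hy, hy0⟩ :=
      exists_lam_zeta_ne_zero ζS hζS hFS h0S heS hinjS lamS hlamS h.2 hh'
    exact ⟨lamS ∘ₗ ((zetaK ζS).flip y) ∘ₗ (grK HS d).subtype, ⟨y, hy, fun _ => rfl⟩, hy0⟩
  obtain ⟨f, ⟨x, hx, hfx⟩, g, ⟨y, hy, hgy⟩, hfg⟩ := exists_dual_ne_zero F G hF hG w' hw'0
  refine ⟨x, hx, y, hy, ?_⟩
  have key : ∀ z : (grK HR d) ⊗[k] (grK HS d),
      Lam2 lamR lamS (pairAmb ζR ζS (pieceMap HR HS d z) (x ⊗ₜ[k] y)) = f (contrR g z) := by
    intro z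
    induction z using TensorProduct.induction_on with
    | zero => simp
    | tmul u v =>
      have h1 : f (g v • u) = g v * f u := by rw [map_smul, smul_eq_mul]
      rw [pieceMap_tmul, pairAmb_tmul, ambMap_tmul, Lam2_tmul, contrR_tmul, h1, hfx, hgy,
        mul_comm]
    | add a b ha hb => simp only [map_add, LinearMap.add_apply, ha, hb]
  intro h
  apply hfg
  rw [← key, h, map_zero]

/-- the pairing with values in a module isomorphic to the Segre product of the targets -/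
noncomputable def pairT (θ : (SegM ψ hT ER ES).carrier →ₗ[T] ET.carrier) :
    (SegM ψ hT HR HS).carrier →ₗ[T] ((SegM ψ hT U V).carrier →ₗ[T] ET.carrier) where
  toFun w := θ ∘ₗ pairSeg ψ hT ζR ζS hζR hζS w
  map_add' w w' := by
    apply LinearMap.ext
    intro v
    show θ (pairSeg ψ hT ζR ζS hζR hζS (w + w') v) =
      θ (pairSeg ψ hT ζR ζS hζR hζS w v) + θ (pairSeg ψ hT ζR ζS hζR hζS w' v)
    rw [map_add, LinearMap.add_apply, map_add]
  map_smul' t w := by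
    apply LinearMap.ext
    intro v
    show θ (pairSeg ψ hT ζR ζS hζR hζS (t • w) v) =
      t • θ (pairSeg ψ hT ζR ζS hζR hζS w v)
    rw [map_smul, LinearMap.smul_apply, map_smul]

lemma pairT_apply (θ : (SegM ψ hT ER ES).carrier →ₗ[T] ET.carrier)
    (w : (SegM ψ hT HR HS).carrier) (v : (SegM ψ hT U V).carrier) :
    pairT ψ hT ζR ζS hζR hζS θ w v = θ (pairSeg ψ hT ζR ζS hζR hζS w v) := rfl

lemma pairT_isGrHomDeg (θ : (SegM ψ hT ER ES).carrier →ₗ[T] ET.carrier)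
    (hθ : GrLC.IsGrHom (SegM ψ hT ER ES).gr ET.gr θ) {d : ℤ} {w : (SegM ψ hT HR HS).carrier}
    (hw : w ∈ (SegM ψ hT HR HS).gr d) :
    GrLC.IsGrHomDeg (SegM ψ hT U V).gr ET.gr (pairT ψ hT ζR ζS hζR hζS θ w) d := by
  intro e v hv
  rw [pairT_apply]
  exact hθ (e + d) _ (pairSeg_isGrHomDeg ψ hT ζR ζS hζR hζS hw e v hv)

lemma pairT_mem_starHom (θ : (SegM ψ hT ER ES).carrier →ₗ[T] ET.carrier)
    (hθ : GrLC.IsGrHom (SegM ψ hT ER ES).gr ET.gr θ) (w : (SegM ψ hT HR HS).carrier) :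
    pairT ψ hT ζR ζS hζR hζS θ w ∈ GE.starHom (toAG 𝒯) (SegM ψ hT U V).gr ET.gr := by
  induction w using DirectSum.Decomposition.inductionOn (SegM ψ hT HR HS).gr with
  | zero =>
    rw [map_zero]
    exact Submodule.zero_mem _
  | @homogeneous d w =>
    exact GE.mem_starHom_of_deg (toAG 𝒯) (SegM ψ hT U V).gr ET.gr
      (pairT_isGrHomDeg ψ hT ζR ζS hζR hζS θ hθ w.2)
  | add a b ha hb =>
    rw [map_add]
    exact Submodule.add_mem _ ha hb

/-- the pairing, with values in `*Hom` -/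
noncomputable def pairStar (θ : (SegM ψ hT ER ES).carrier →ₗ[T] ET.carrier)
    (hθ : GrLC.IsGrHom (SegM ψ hT ER ES).gr ET.gr θ) :
    (SegM ψ hT HR HS).carrier →ₗ[T]
      (GE.starGMod (toAG 𝒯) (SegM ψ hT U V).gr ET.gr).carrier :=
  LinearMap.codRestrict (GE.starHom (toAG 𝒯) (SegM ψ hT U V).gr ET.gr)
    (pairT ψ hT ζR ζS hζR hζS θ) (pairT_mem_starHom ψ hT ζR ζS hζR hζS θ hθ)

lemma pairStar_isGrHom (θ : (SegM ψ hT ER ES).carrier →ₗ[T] ET.carrier)
    (hθ : GrLC.IsGrHom (SegM ψ hT ER ES).gr ET.gr θ) :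
    GrLC.IsGrHom (SegM ψ hT HR HS).gr (GE.starGMod (toAG 𝒯) (SegM ψ hT U V).gr ET.gr).gr
      (pairStar ψ hT ζR ζS hζR hζS θ hθ) := by
  intro d w hw
  exact pairT_isGrHomDeg ψ hT ζR ζS hζR hζS θ hθ hw

include hFR hFS h0R h0S heR heS in
lemma pairStar_injective (θ : (SegM ψ hT ER ES).carrier →ₗ[T] ET.carrier)
    (hθ : GrLC.IsGrHom (SegM ψ hT ER ES).gr ET.gr θ) (hθinj : Function.Injective θ)
    (hinjR : Function.Injective ζR) (hinjS : Function.Injective ζS) :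
    Function.Injective (pairStar ψ hT ζR ζS hζR hζS θ hθ) := by
  rw [← LinearMap.ker_eq_bot]
  by_contra hne
  obtain ⟨d, w, hwker, hwd, hw0⟩ := exists_homog_mem_ne_zero (SegM ψ hT HR HS).gr
    (ker_isHomogeneous (SegM ψ hT HR HS).gr
      (GE.starGMod (toAG 𝒯) (SegM ψ hT U V).gr ET.gr).gr
      (pairStar_isGrHom ψ hT ζR ζS hζR hζS θ hθ)) hne
  have hv0 : valM ψ hT w ≠ 0 := fun h => hw0 (valM_injective ψ hT (by rw [h, valM_zero]))
  obtain ⟨x, hx, y, hy, hxy⟩ := exists_pair_ne_zero ζR ζS hζR hζS hFR hFS h0R h0S heR heS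
    hinjR hinjS d (valM ψ hT w) hwd hv0
  apply hxy
  have h0 : pairStar ψ hT ζR ζS hζR hζS θ hθ w = 0 := LinearMap.mem_ker.mp hwker
  have h1 : pairT ψ hT ζR ζS hζR hζS θ w = 0 := congrArg Subtype.val h0
  have h2 : θ (pairSeg ψ hT ζR ζS hζR hζS w
      (mkM ψ hT (x ⊗ₜ[k] y) (piece_le_segSub U V (-d) (tmul_mem_piece U V hx hy)))) = 0 :=
    LinearMap.congr_fun h1 _
  have h3 : pairSeg ψ hT ζR ζS hζR hζS w
      (mkM ψ hT (x ⊗ₜ[k] y) (piece_le_segSub U V (-d) (tmul_mem_piece U V hx hy))) = 0 :=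
    hθinj (by rw [h2, map_zero])
  have h4 := congrArg (valM ψ hT) h3
  rw [valM_zero] at h4
  exact h4

include hζR hζS hFR hFS hFT h0R h0S h0T heR heS heT in
/-- **`Hom_T(U # V, *E_T) ≅ HR # HS`** when `HR ≅ *Hom_R(U, *E_R)`, `HS ≅ *Hom_S(V, *E_S)` -/
theorem exists_equiv_hom_seg [Module.Finite T (SegM ψ hT U V).carrier]
    (θ : (SegM ψ hT ER ES).carrier ≃ₗ[T] ET.carrier)
    (hθ : GrLC.IsGrHom (SegM ψ hT ER ES).gr ET.gr θ.toLinearMap)
    (hinjR : Function.Injective ζR) (hinjS : Function.Injective ζS)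
    (hdimR : ∀ j, Module.finrank k (grK HR j) = Module.finrank k (grK U (-j)))
    (hdimS : ∀ j, Module.finrank k (grK HS j) = Module.finrank k (grK V (-j))) :
    ∃ Φ : ((SegM ψ hT U V).carrier →ₗ[T] ET.carrier) ≃ₗ[T] (SegM ψ hT HR HS).carrier,
      ∀ (d : ℤ) (f : (SegM ψ hT U V).carrier →ₗ[T] ET.carrier),
        GrLC.IsGrHomDeg (SegM ψ hT U V).gr ET.gr f d → Φ f ∈ (SegM ψ hT HR HS).gr d := by
  have hinjT : Function.Injective (algebraMap k T) := (algebraMap k T).injective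
  have hgr := pairStar_isGrHom ψ hT ζR ζS hζR hζS θ.toLinearMap hθ
  have hinj := pairStar_injective ψ hT ζR ζS hζR hζS hFR hFS h0R h0S heR heS θ.toLinearMap hθ
    θ.injective hinjR hinjS
  have hfinU : ∀ j, Module.Finite (GrLC.deg0 (toAG 𝒯))
      (GrLC.comp (toAG 𝒯) (SegM ψ hT U V).gr j) :=
    fun j => finite_comp (toAG 𝒯) (SegM ψ hT U V).gr j
  have hfin : ∀ j, Module.Finite (GrLC.deg0 (toAG 𝒯))
      (GrLC.comp (toAG 𝒯) (GE.starGMod (toAG 𝒯) (SegM ψ hT U V).gr ET.gr).gr j) := by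
    intro j
    haveI := hfinU (-j)
    exact (finrank_comp_starGr (toAG 𝒯) (SegM ψ hT U V).gr ET.gr hFT heT j).1
  have hrank : ∀ j, Module.finrank (GrLC.deg0 (toAG 𝒯))
      (GrLC.comp (toAG 𝒯) (SegM ψ hT HR HS).gr j) =
      Module.finrank (GrLC.deg0 (toAG 𝒯))
        (GrLC.comp (toAG 𝒯) (GE.starGMod (toAG 𝒯) (SegM ψ hT U V).gr ET.gr).gr j) := by
    intro j
    haveI := hfinU (-j)
    have a1 := finrank_eq_of_rank_eq (rank_grK (SegM ψ hT HR HS) j h0T hinjT)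
    have a2 := finrank_grK_segM ψ hT HR HS j
    have a3 := finrank_eq_of_rank_eq (rank_grK (SegM ψ hT U V) (-j) h0T hinjT)
    have a4 := finrank_grK_segM ψ hT U V (-j)
    have a5 := (finrank_comp_starGr (toAG 𝒯) (SegM ψ hT U V).gr ET.gr hFT heT j).2
    rw [← a1, a2, hdimR, hdimS, ← a4, a3]
    exact a5.symm
  have hsurj := Groth.Agent.Helper8.GV.surjective_of_finrank_eq (SegM ψ hT HR HS).gr
    (GE.starGMod (toAG 𝒯) (SegM ψ hT U V).gr ET.gr).gr hFT.field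
    (pairStar ψ hT ζR ζS hζR hζS θ.toLinearMap hθ) hgr hinj hfin hrank
  have hG : GIso (SegM ψ hT HR HS) (GE.starGMod (toAG 𝒯) (SegM ψ hT U V).gr ET.gr) :=
    GIso.of_bijective _ hgr ⟨hinj, hsurj⟩
  obtain ⟨ε, hε⟩ := hG.symm
  have htop := starHom_eq_top (toAG 𝒯) (SegM ψ hT U V).gr ET.gr
  let τ : ((SegM ψ hT U V).carrier →ₗ[T] ET.carrier) ≃ₗ[T]
      (GE.starGMod (toAG 𝒯) (SegM ψ hT U V).gr ET.gr).carrier :=
    (LinearEquiv.ofTop (GE.starHom (toAG 𝒯) (SegM ψ hT U V).gr ET.gr) htop).symm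
  refine ⟨τ.trans ε, ?_⟩
  intro d f hf
  have h1 : τ f ∈ (GE.starGMod (toAG 𝒯) (SegM ψ hT U V).gr ET.gr).gr d := hf
  exact hε d _ h1

end Pair

end Groth.Agent.Helper8.SG
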