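import Mathlib
import Groth.Prelude.Def_GrLC
import Groth.Prelude.Def_GrSeg
import Groth.Agent.Lib.Helper8.SG12
import Groth.Agent.S19747

set_option autoImplicit false
set_option linter.unusedSectionVars false
set_option linter.unusedVariables false
set_option linter.unusedSimpArgs false
set_option linter.style.haveILetI false
set_option maxHeartbeats 1600000

/-!
# The canonical module of a Segre product is the Segre product of the canonical modules (helper8)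
-/

universe u

namespace Groth.Agent.Helper8.SG

open scoped TensorProduct
open CategoryTheory DirectSum Groth.Agent.Helper9.GrLCLib Groth.Agent.Helper9.GrLCLib.Trans
open Groth.Agent.Helper8.LC Groth.Agent.Lib.Helper6.CMReg Groth.Agent.Lib.Helper6.SegK
open Groth.Agent.Helper9.SegreLib Groth.Agent.Helper8.GD Groth.Agent.Lib.Helper6.SegCM
open Groth.Agent.Helper8.GB Groth.Agent.Lib.Helper6.SegDim

attribute [local instance] kMod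

section Zeta

variable {R : Type u} [CommRing R] [IsNoetherianRing R] {𝒜 : ℤ → AddSubgroup R} [GradedRing 𝒜]
  {m : HomogeneousIdeal 𝒜}
variable {E' : Type u} [AddCommGroup E'] [Module R E'] (𝓔 : ℤ → AddSubgroup E')
  [DirectSum.Decomposition 𝓔] [SetLike.GradedSMul 𝒜 𝓔]
variable {C : Type u} [AddCommGroup C] [Module R C] (𝒞 : ℤ → AddSubgroup C)
  [DirectSum.Decomposition 𝒞] [SetLike.GradedSMul 𝒜 𝒞]

/-- the top local cohomology as the module of the maps from a canonical module to the *injective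
envelope, homogeneously -/
theorem exists_zeta (n : ℕ) (I : GrLC.StarInjRes 𝒜 𝒜) (hC : GrLC.IsStarCanonical 𝒜 𝒞 𝓔 m n I) :
    ∃ ζ : (LCGMod 𝒜 𝒜 m n).carrier ≃ₗ[R] (C →ₗ[R] E'),
      ∀ (d : ℤ) (h : (LCGMod 𝒜 𝒜 m n).carrier), h ∈ (LCGMod 𝒜 𝒜 m n).gr d →
        GrLC.IsGrHomDeg 𝒞 𝓔 (ζ h) d := by
  obtain ⟨hfin, φ, hφ⟩ := hC
  haveI := hfin
  obtain ⟨Θ, hΘ⟩ := exists_theta_LCgr 𝒜 𝒜 m I n
  let X : GrLC.GMod.{u} 𝒜 := HGMod 𝒜 𝒜 I m n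
  have hXgr : X.gr = I.Hgr m n := HGMod_gr 𝒜 𝒜 I m n
  let φX : (C →ₗ[R] E') ≃ₗ[R] X.carrier := φ
  have hφX : GrLC.IsGrHom (fun d => (GrLC.homDeg 𝒜 𝒞 𝓔 d).toAddSubgroup) X.gr
      φX.toLinearMap := by
    rw [hXgr]
    exact hφ
  let Θ' : X.carrier ≃ₗ[R] (LCGMod 𝒜 𝒜 m n).carrier := Θ
  refine ⟨(φX.trans Θ').symm, ?_⟩
  intro d y hy
  have hy' : y ∈ LCgr 𝒜 𝒜 m.toIdeal n d := (mem_LCGMod_gr 𝒜 𝒜 m n d y).mp hy
  have hx : Θ.symm y ∈ I.Hcomp m n d := by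
    apply (hΘ d _).mpr
    rw [LinearEquiv.apply_symm_apply]
    exact hy'
  have hxX : (Θ.symm y : X.carrier) ∈ X.gr d := by
    rw [hXgr]
    exact hx
  exact symm_isGrHomDeg 𝓔 𝒞 X φX hφX hxX

end Zeta

/-- **S19757**: the Segre product of canonical modules of `R` and `S` is a canonical module of the
Segre product `R # S` -/
theorem starCanonical_segre (k : Type u) [Field k] (R : Type u) [CommRing R] [Algebra k R]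
    (𝒜 : ℤ → Submodule k R) [GradedAlgebra 𝒜] (hposR : ∀ n : ℤ, n < 0 → 𝒜 n = ⊥)
    (h0R : 𝒜 0 = Submodule.span k {(1 : R)}) [Algebra.FiniteType k R] (S : Type u) [CommRing S]
    [Algebra k S] (ℬ : ℤ → Submodule k S) [GradedAlgebra ℬ] (hposS : ∀ n : ℤ, n < 0 → ℬ n = ⊥)
    (h0S : ℬ 0 = Submodule.span k {(1 : S)}) [Algebra.FiniteType k S] (T : Type u) [CommRing T]
    [Algebra k T] (𝒯 : ℤ → Submodule k T) [GradedAlgebra 𝒯] (ψ : T →ₐ[k] TensorProduct k R S)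
    (hT : GrSeg.IsSegreRing 𝒜 ℬ 𝒯 ψ) (mR : HomogeneousIdeal 𝒜)
    (hmR : mR.toIdeal = Ideal.span (⋃ n ∈ Set.Ioi (0 : ℤ), (𝒜 n : Set R)))
    (I : GrLC.StarInjRes 𝒜 𝒜) (mS : HomogeneousIdeal ℬ)
    (hmS : mS.toIdeal = Ideal.span (⋃ n ∈ Set.Ioi (0 : ℤ), (ℬ n : Set S)))
    (J : GrLC.StarInjRes ℬ ℬ) (mT : HomogeneousIdeal 𝒯)
    (hmT : mT.toIdeal = Ideal.span (⋃ n ∈ Set.Ioi (0 : ℤ), (𝒯 n : Set T)))
    (IT : GrLC.StarInjRes 𝒯 𝒯) (r s : ℕ) (hr : ringKrullDim R = r) (hs : ringKrullDim S = s)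
    (h2r : 2 ≤ r) (h2s : 2 ≤ s)
    (ER : Type u) [AddCommGroup ER] [Module R ER] (𝓔R : ℤ → AddSubgroup ER)
    [DirectSum.Decomposition 𝓔R] [SetLike.GradedSMul 𝒜 𝓔R] (eR : (R ⧸ mR.toIdeal) →ₗ[R] ER)
    (heR : GrLC.IsStarInjHull 𝒜 (GrLC.quotGr 𝒜 mR) 𝓔R eR)
    (CR : Type u) [AddCommGroup CR] [Module R CR] [Module k CR] [IsScalarTower k R CR]
    (𝒞R : ℤ → AddSubgroup CR) [DirectSum.Decomposition 𝒞R] [SetLike.GradedSMul 𝒜 𝒞R]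
    (hCR : GrLC.IsStarCanonical 𝒜 𝒞R 𝓔R mR r I)
    (ES : Type u) [AddCommGroup ES] [Module S ES] (𝓔S : ℤ → AddSubgroup ES)
    [DirectSum.Decomposition 𝓔S] [SetLike.GradedSMul ℬ 𝓔S] (eS : (S ⧸ mS.toIdeal) →ₗ[S] ES)
    (heS : GrLC.IsStarInjHull ℬ (GrLC.quotGr ℬ mS) 𝓔S eS)
    (CS : Type u) [AddCommGroup CS] [Module S CS] [Module k CS] [IsScalarTower k S CS]
    (𝒞S : ℤ → AddSubgroup CS) [DirectSum.Decomposition 𝒞S] [SetLike.GradedSMul ℬ 𝒞S]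
    (hCS : GrLC.IsStarCanonical ℬ 𝒞S 𝓔S mS s J)
    (ET : Type u) [AddCommGroup ET] [Module T ET] (𝓔T : ℤ → AddSubgroup ET)
    [DirectSum.Decomposition 𝓔T] [SetLike.GradedSMul 𝒯 𝓔T] (eT : (T ⧸ mT.toIdeal) →ₗ[T] ET)
    (heT : GrLC.IsStarInjHull 𝒯 (GrLC.quotGr 𝒯 mT) 𝓔T eT)
    (P : Type u) [AddCommGroup P] [Module T P] [Module k P] [IsScalarTower k T P]
    (𝒬 : ℤ → AddSubgroup P) [DirectSum.Decomposition 𝒬] [SetLike.GradedSMul 𝒯 𝒬]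
    (φ : P →ₗ[k] TensorProduct k CR CS) (hP : GrSeg.IsSegreMod ψ 𝒞R 𝒞S 𝒬 φ) :
    GrLC.IsStarCanonical 𝒯 𝒬 𝓔T mT (r + s - 1) IT := by
  haveI : IsNoetherianRing R := Algebra.FiniteType.isNoetherianRing k R
  haveI : IsNoetherianRing S := Algebra.FiniteType.isNoetherianRing k S
  haveI : Nontrivial R := nontrivial_of_dim hr
  haveI : Nontrivial S := nontrivial_of_dim hs
  haveI : IsNoetherianRing T :=
    Groth.Agent.Helper3.Segre.isNoetherianRing_of_segre 𝒜 ℬ 𝒯 ψ hT.2 hT.1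
  haveI : Nontrivial T := nontrivial_of_segre ψ
  have hposT := segre_pos 𝒜 ℬ 𝒯 ψ hT hposR
  have h0T := segre_zero 𝒜 ℬ 𝒯 ψ hT h0R h0S
  have h0R' := h0_of_span h0R
  have h0S' := h0_of_span h0S
  have h0T' := h0_of_span h0T
  have hinjR : Function.Injective (algebraMap k R) := (algebraMap k R).injective
  have hinjS : Function.Injective (algebraMap k S) := (algebraMap k S).injective
  obtain ⟨i, rfl⟩ : ∃ i, r = i + 2 := ⟨r - 2, by omega⟩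
  obtain ⟨j, rfl⟩ : ∃ j, s = j + 2 := ⟨s - 2, by omega⟩
  have hidx : i + 2 + (j + 2) - 1 = i + j + 3 := by omega
  rw [hidx]
  -- graded structures over `toAG`
  letI iER : SetLike.GradedSMul (toAG 𝒜) 𝓔R := gsmulToAG' 𝒜 𝓔R
  letI iES : SetLike.GradedSMul (toAG ℬ) 𝓔S := gsmulToAG' ℬ 𝓔S
  letI iET : SetLike.GradedSMul (toAG 𝒯) 𝓔T := gsmulToAG' 𝒯 𝓔T
  letI iCR : SetLike.GradedSMul (toAG 𝒜) 𝒞R := gsmulToAG' 𝒜 𝒞R
  letI iCS : SetLike.GradedSMul (toAG ℬ) 𝒞S := gsmulToAG' ℬ 𝒞S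
  let aR : HomogeneousIdeal (toAG 𝒜) := idealToAG 𝒜 mR
  let aS : HomogeneousIdeal (toAG ℬ) := idealToAG ℬ mS
  let aT : HomogeneousIdeal (toAG 𝒯) := idealToAG 𝒯 mT
  have hFR : FieldGr (toAG 𝒜) aR := fieldGr_toAG 𝒜 hposR h0R mR hmR
  have hFS : FieldGr (toAG ℬ) aS := fieldGr_toAG ℬ hposS h0S mS hmS
  have hFT : FieldGr (toAG 𝒯) aT := fieldGr_toAG 𝒯 hposT h0T mT hmT
  let ER' : GrLC.GMod.{u} (toAG 𝒜) := GrLC.GMod.of (toAG 𝒜) ER 𝓔R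
  let ES' : GrLC.GMod.{u} (toAG ℬ) := GrLC.GMod.of (toAG ℬ) ES 𝓔S
  let ET' : GrLC.GMod.{u} (toAG 𝒯) := GrLC.GMod.of (toAG 𝒯) ET 𝓔T
  let eR' : (R ⧸ aR.toIdeal) →ₗ[R] ER'.carrier := eR
  let eS' : (S ⧸ aS.toIdeal) →ₗ[S] ES'.carrier := eS
  let eT' : (T ⧸ aT.toIdeal) →ₗ[T] ET'.carrier := eT
  have heR' : GrLC.IsStarInjHull (toAG 𝒜) (GrLC.quotGr (toAG 𝒜) aR) ER'.gr eR' :=
    starInjHull_toAG 𝒜 mR 𝓔R eR heR
  have heS' : GrLC.IsStarInjHull (toAG ℬ) (GrLC.quotGr (toAG ℬ) aS) ES'.gr eS' :=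
    starInjHull_toAG ℬ mS 𝓔S eS heS
  have heT' : GrLC.IsStarInjHull (toAG 𝒯) (GrLC.quotGr (toAG 𝒯) aT) ET'.gr eT' :=
    starInjHull_toAG 𝒯 mT 𝓔T eT heT
  -- finiteness
  haveI hfinCR : Module.Finite R CR := hCR.1
  haveI hfinCS : Module.Finite S CS := hCS.1
  have hfinP : Module.Finite T P :=
    Groth.Agent.S19747.result k R 𝒜 hposR h0R S ℬ hposS h0S T 𝒯 ψ hT CR 𝒞R CS 𝒞S P 𝒬 φ hP
  haveI := hfinP
  -- the Segre product of the canonical modules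
  let U : GrLC.GMod.{u} (toAG 𝒜) := bun 𝒜 𝒞R
  let V : GrLC.GMod.{u} (toAG ℬ) := bun ℬ 𝒞S
  let σ : P ≃ₗ[T] (SegM ψ hT U V).carrier := segEquiv 𝒜 ℬ ψ hT 𝒞R 𝒞S 𝒬 φ hP
  have hσ : GrLC.IsGrHom (bun 𝒯 𝒬).gr (SegM ψ hT U V).gr σ.toLinearMap :=
    segEquiv_gr 𝒜 ℬ ψ hT 𝒞R 𝒞S 𝒬 φ hP
  haveI : Module.Finite T (SegM ψ hT U V).carrier := Module.Finite.equiv σ
  -- the top local cohomology modules of the factors
  let HR : GrLC.GMod.{u} (toAG 𝒜) := LCGMod (toAG 𝒜) (bun 𝒜 𝒜).gr aR (i + 2)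
  let HS : GrLC.GMod.{u} (toAG ℬ) := LCGMod (toAG ℬ) (bun ℬ ℬ).gr aS (j + 2)
  have hCR' : GrLC.IsStarCanonical (toAG 𝒜) 𝒞R 𝓔R aR (i + 2) (resToAG 𝒜 𝒜 I) := by
    obtain ⟨hfin, φ₀, hφ₀⟩ := hCR
    exact ⟨hfin, φ₀, fun g x hx => hφ₀ g x hx⟩
  have hCS' : GrLC.IsStarCanonical (toAG ℬ) 𝒞S 𝓔S aS (j + 2) (resToAG ℬ ℬ J) := by
    obtain ⟨hfin, φ₀, hφ₀⟩ := hCS
    exact ⟨hfin, φ₀, fun g x hx => hφ₀ g x hx⟩
  obtain ⟨ζR₀, hζR₀⟩ := exists_zeta 𝓔R 𝒞R (i + 2) (resToAG 𝒜 𝒜 I) hCR'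
  obtain ⟨ζS₀, hζS₀⟩ := exists_zeta 𝓔S 𝒞S (j + 2) (resToAG ℬ ℬ J) hCS'
  let ζR : HR.carrier →ₗ[R] (U.carrier →ₗ[R] ER'.carrier) := ζR₀.toLinearMap
  let ζS : HS.carrier →ₗ[S] (V.carrier →ₗ[S] ES'.carrier) := ζS₀.toLinearMap
  have hζR : ∀ (d : ℤ) (h : HR.carrier), h ∈ HR.gr d →
      GrLC.IsGrHomDeg U.gr ER'.gr (ζR h) d := fun d h hh g x hx => hζR₀ d h hh g x hx
  have hζS : ∀ (d : ℤ) (h : HS.carrier), h ∈ HS.gr d →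
      GrLC.IsGrHomDeg V.gr ES'.gr (ζS h) d := fun d h hh g x hx => hζS₀ d h hh g x hx
  have hinjζR : Function.Injective ζR := ζR₀.injective
  have hinjζS : Function.Injective ζS := ζS₀.injective
  -- dimensions
  have hdimR : ∀ d, Module.finrank k (grK HR d) = Module.finrank k (grK U (-d)) := by
    intro d
    have e2 := finrank_canonical_piece_k 𝒜 hposR h0R mR hmR I (i + 2) 𝓔R eR heR 𝒞R hCR (-d)
    rw [neg_neg] at e2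
    have c1 := finrank_eq_of_rank_eq (rank_comp_eq 𝒜 𝒞R (-d))
    have c2 := finrank_eq_of_rank_eq (rank_grK (bun 𝒜 𝒞R) (-d) h0R' hinjR)
    exact e2.symm.trans (c1.trans c2.symm)
  have hdimS : ∀ d, Module.finrank k (grK HS d) = Module.finrank k (grK V (-d)) := by
    intro d
    have e2 := finrank_canonical_piece_k ℬ hposS h0S mS hmS J (j + 2) 𝓔S eS heS 𝒞S hCS (-d)
    rw [neg_neg] at e2
    have c1 := finrank_eq_of_rank_eq (rank_comp_eq ℬ 𝒞S (-d))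
    have c2 := finrank_eq_of_rank_eq (rank_grK (bun ℬ 𝒞S) (-d) h0S' hinjS)
    exact e2.symm.trans (c1.trans c2.symm)
  -- the *injective envelopes
  obtain ⟨θ, hθ⟩ := giso_E_seg ψ hT hFR hFS hFT h0R' h0S' h0T' heR' heS' heT'
  obtain ⟨Φ, hΦ⟩ := exists_equiv_hom_seg ψ hT ζR ζS hζR hζS hFR hFS hFT h0R' h0S' h0T'
    heR' heS' heT' θ hθ hinjζR hinjζS hdimR hdimS
  -- the local cohomology of the Segre product
  have g1 : GIso (bun 𝒯 𝒯) (SegM ψ hT (bun 𝒜 𝒜) (bun ℬ ℬ)) :=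
    ⟨segEquiv 𝒜 ℬ ψ hT 𝒜 ℬ 𝒯 ψ.toLinearMap (isSegreMod_self ψ hT),
      segEquiv_gr 𝒜 ℬ ψ hT 𝒜 ℬ 𝒯 ψ.toLinearMap (isSegreMod_self ψ hT)⟩
  have g2 := giso_of_giso aT g1 (i + j + 3)
  have g3 := topK ψ hT (bun 𝒜 𝒜) (bun ℬ ℬ) aR hmR aS hmS aT hmT i j hr.le hs.le
  obtain ⟨ε, hε⟩ := g3.trans g2.symm
  obtain ⟨Θ, hΘ⟩ := exists_theta_LCgr (toAG 𝒯) (toAG 𝒯) aT (resToAG 𝒯 𝒯 IT) (i + j + 3)
  let Θ' : IT.H mT (i + j + 3) ≃ₗ[T]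
      (LCGMod (toAG 𝒯) (bun 𝒯 𝒯).gr aT (i + j + 3)).carrier := Θ
  let τ₁ : (P →ₗ[T] ET) ≃ₗ[T] ((SegM ψ hT U V).carrier →ₗ[T] ET'.carrier) :=
    LinearEquiv.arrowCongr σ (LinearEquiv.refl T ET)
  refine ⟨hfinP, τ₁.trans (Φ.trans (ε.trans Θ'.symm)), ?_⟩
  intro d f hf
  have hf' : GrLC.IsGrHomDeg 𝒬 𝓔T f d := hf
  have h1 : GrLC.IsGrHomDeg (SegM ψ hT U V).gr ET'.gr (τ₁ f) d := by
    intro e v hv
    have hsv : σ.symm v ∈ (bun 𝒯 𝒬).gr e :=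
      isGrHom_symm (bun 𝒯 𝒬).gr (SegM ψ hT U V).gr σ hσ e v hv
    have hv' : (τ₁ f) v = f (σ.symm v) := rfl
    rw [hv']
    exact hf' e (σ.symm v) hsv
  have h2 := hΦ d _ h1
  have h3 := hε d _ h2
  have h4 : ε (Φ (τ₁ f)) ∈ LCgr (toAG 𝒯) (toAG 𝒯) aT.toIdeal (i + j + 3) d :=
    (mem_LCGMod_gr (toAG 𝒯) (toAG 𝒯) aT (i + j + 3) d _).mp h3
  have h5 : Θ.symm (ε (Φ (τ₁ f))) ∈ (resToAG 𝒯 𝒯 IT).Hcomp aT (i + j + 3) d := by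
    apply (hΘ d _).mpr
    rw [LinearEquiv.apply_symm_apply]
    exact h4
  exact h5

end Groth.Agent.Helper8.SG
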