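import Mathlib
import Groth.Prelude.Def_GrLC
import Groth.Prelude.Def_GrSeg
import Groth.Agent.Lib.Helper8.SG13

set_option autoImplicit false
set_option linter.unusedSectionVars false
set_option linter.unusedVariables false
set_option linter.unusedSimpArgs false
set_option linter.style.haveILetI false
set_option maxHeartbeats 1600000

/-!
# The canonical module of a Segre product, for bundled graded modules (helper8)

`starCanonical_segM`: the concrete Segre product `U # V` of canonical modules `U` of `R` and `V` of `S`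
is a canonical module of `R # S`; `finite_segM`: it is finitely generated.
-/

universe u

namespace Groth.Agent.Helper8.SG

open scoped TensorProduct
open CategoryTheory DirectSum Groth.Agent.Helper9.GrLCLib Groth.Agent.Helper9.GrLCLib.Trans
open Groth.Agent.Helper8.LC Groth.Agent.Lib.Helper6.CMReg Groth.Agent.Lib.Helper6.SegK
open Groth.Agent.Helper9.SegreLib Groth.Agent.Helper8.GD Groth.Agent.Lib.Helper6.SegCM
open Groth.Agent.Helper8.GB Groth.Agent.Lib.Helper6.SegDim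

attribute [local instance] kMod

section SegMod

variable {k : Type u} [Field k] {R S T : Type u} [CommRing R] [CommRing S] [CommRing T]
  [Algebra k R] [Algebra k S] [Algebra k T] [IsNoetherianRing R] [IsNoetherianRing S]
  [IsNoetherianRing T]
  {𝒜 : ℤ → Submodule k R} {ℬ : ℤ → Submodule k S} {𝒯 : ℤ → Submodule k T}
  [GradedAlgebra 𝒜] [GradedAlgebra ℬ] [GradedAlgebra 𝒯]
  (ψ : T →ₐ[k] R ⊗[k] S) (hT : GrSeg.IsSegreRing 𝒜 ℬ 𝒯 ψ)
  (U : GrLC.GMod.{u} (toAG 𝒜)) (V : GrLC.GMod.{u} (toAG ℬ))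

/-- the underlying tensor, as a linear map over the field -/
noncomputable def valLin : (SegM ψ hT U V).carrier →ₗ[k] U.carrier ⊗[k] V.carrier where
  toFun := valM ψ hT
  map_add' := valM_add ψ hT
  map_smul' c w := valM_smul_k ψ hT U V c w

/-- the concrete Segre product is a Segre product -/
lemma isSegreMod_segM :
    GrSeg.IsSegreMod ψ U.gr V.gr (SegM ψ hT U V).gr (valLin ψ hT U V) where
  injective := valM_injective ψ hT
  image_piece n := by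
    ext a
    constructor
    · rintro ⟨w, hw, rfl⟩
      exact hw
    · intro ha
      exact ⟨mkM ψ hT a (piece_le_segSub U V n ha), ha, rfl⟩
  map_smul t w := valM_smul ψ hT t w

/-- the Segre product of finitely generated graded modules is finitely generated -/
theorem finite_segM (hposR : ∀ n : ℤ, n < 0 → 𝒜 n = ⊥)
    (h0R : 𝒜 0 = Submodule.span k {(1 : R)}) [Algebra.FiniteType k R]
    (hposS : ∀ n : ℤ, n < 0 → ℬ n = ⊥) (h0S : ℬ 0 = Submodule.span k {(1 : S)})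
    [Algebra.FiniteType k S] [Module.Finite R U.carrier] [Module.Finite S V.carrier] :
    Module.Finite T (SegM ψ hT U V).carrier := by
  haveI := gsmulOfAG 𝒜 U.gr
  haveI := gsmulOfAG ℬ V.gr
  exact Groth.Agent.S19747.result k R 𝒜 hposR h0R S ℬ hposS h0S T 𝒯 ψ hT U.carrier U.gr
    V.carrier V.gr (SegM ψ hT U V).carrier (SegM ψ hT U V).gr (valLin ψ hT U V)
    (isSegreMod_segM ψ hT U V)

end SegMod

section KT

variable {k : Type u} [Field k] {R S T : Type u} [CommRing R] [CommRing S] [CommRing T]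
  [Algebra k R] [Algebra k S] [Algebra k T] [IsNoetherianRing R] [IsNoetherianRing S]
  [IsNoetherianRing T] [Nontrivial R] [Nontrivial S] [Nontrivial T]
  {𝒜 : ℤ → Submodule k R} {ℬ : ℤ → Submodule k S} {𝒯 : ℤ → Submodule k T}
  [GradedAlgebra 𝒜] [GradedAlgebra ℬ] [GradedAlgebra 𝒯]
  (ψ : T →ₐ[k] R ⊗[k] S) (hT : GrSeg.IsSegreRing 𝒜 ℬ 𝒯 ψ)
  {mR : HomogeneousIdeal (toAG 𝒜)} (hFR : FieldGr (toAG 𝒜) mR)
  {mS : HomogeneousIdeal (toAG ℬ)} (hFS : FieldGr (toAG ℬ) mS)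
  {mT : HomogeneousIdeal (toAG 𝒯)} (hFT : FieldGr (toAG 𝒯) mT)
  (h0R : ∀ r ∈ 𝒜 0, ∃ c : k, algebraMap k R c = r)
  (h0S : ∀ r ∈ ℬ 0, ∃ c : k, algebraMap k S c = r)
  (h0T : ∀ r ∈ 𝒯 0, ∃ c : k, algebraMap k T c = r)
  {ER : GrLC.GMod.{u} (toAG 𝒜)} {eR : (R ⧸ mR.toIdeal) →ₗ[R] ER.carrier}
  (heR : GrLC.IsStarInjHull (toAG 𝒜) (GrLC.quotGr (toAG 𝒜) mR) ER.gr eR)
  {ES : GrLC.GMod.{u} (toAG ℬ)} {eS : (S ⧸ mS.toIdeal) →ₗ[S] ES.carrier}
  (heS : GrLC.IsStarInjHull (toAG ℬ) (GrLC.quotGr (toAG ℬ) mS) ES.gr eS)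
  {ET : GrLC.GMod.{u} (toAG 𝒯)} {eT : (T ⧸ mT.toIdeal) →ₗ[T] ET.carrier}
  (heT : GrLC.IsStarInjHull (toAG 𝒯) (GrLC.quotGr (toAG 𝒯) mT) ET.gr eT)

include hFR hFS hFT h0R h0S h0T heR heS heT in
/-- **the Segre product of canonical modules is a canonical module of the Segre product** -/
theorem starCanonical_segM {U : GrLC.GMod.{u} (toAG 𝒜)} {V : GrLC.GMod.{u} (toAG ℬ)} (i j : ℕ)
    (hdR : ringKrullDim R ≤ ((i + 2 : ℕ) : WithBot ℕ∞))
    (hdS : ringKrullDim S ≤ ((j + 2 : ℕ) : WithBot ℕ∞))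
    (IR : GrLC.StarInjRes (toAG 𝒜) (toAG 𝒜)) (IS : GrLC.StarInjRes (toAG ℬ) (toAG ℬ))
    (IT : GrLC.StarInjRes (toAG 𝒯) (toAG 𝒯))
    (hCU : GrLC.IsStarCanonical (toAG 𝒜) U.gr ER.gr mR (i + 2) IR)
    (hCV : GrLC.IsStarCanonical (toAG ℬ) V.gr ES.gr mS (j + 2) IS)
    [Module.Finite T (SegM ψ hT U V).carrier] :
    GrLC.IsStarCanonical (toAG 𝒯) (SegM ψ hT U V).gr ET.gr mT (i + j + 3) IT := by
  have hinjR : Function.Injective (algebraMap k R) := (algebraMap k R).injective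
  have hinjS : Function.Injective (algebraMap k S) := (algebraMap k S).injective
  let HR : GrLC.GMod.{u} (toAG 𝒜) := LCGMod (toAG 𝒜) (bun 𝒜 𝒜).gr mR (i + 2)
  let HS : GrLC.GMod.{u} (toAG ℬ) := LCGMod (toAG ℬ) (bun ℬ ℬ).gr mS (j + 2)
  obtain ⟨ζR₀, hζR₀⟩ := exists_zeta ER.gr U.gr (i + 2) IR hCU
  obtain ⟨ζS₀, hζS₀⟩ := exists_zeta ES.gr V.gr (j + 2) IS hCV
  let ζR : HR.carrier →ₗ[R] (U.carrier →ₗ[R] ER.carrier) := ζR₀.toLinearMap
  let ζS : HS.carrier →ₗ[S] (V.carrier →ₗ[S] ES.carrier) := ζS₀.toLinearMap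
  have hζR : ∀ (d : ℤ) (h : HR.carrier), h ∈ HR.gr d →
      GrLC.IsGrHomDeg U.gr ER.gr (ζR h) d := fun d h hh g x hx => hζR₀ d h hh g x hx
  have hζS : ∀ (d : ℤ) (h : HS.carrier), h ∈ HS.gr d →
      GrLC.IsGrHomDeg V.gr ES.gr (ζS h) d := fun d h hh g x hx => hζS₀ d h hh g x hx
  have hinjζR : Function.Injective ζR := ζR₀.injective
  have hinjζS : Function.Injective ζS := ζS₀.injective
  have hdimR : ∀ d, Module.finrank k (grK HR d) = Module.finrank k (grK U (-d)) := by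
    intro d
    have c0 := finrank_canonical_piece hFR heR U.gr (i + 2) IR hCU (-d)
    rw [neg_neg] at c0
    have c1 := finrank_eq_of_rank_eq (rank_grK U (-d) h0R hinjR)
    have c2 := finrank_eq_of_rank_eq (rank_grK HR d h0R hinjR)
    exact c2.trans (c0.symm.trans c1.symm)
  have hdimS : ∀ d, Module.finrank k (grK HS d) = Module.finrank k (grK V (-d)) := by
    intro d
    have c0 := finrank_canonical_piece hFS heS V.gr (j + 2) IS hCV (-d)
    rw [neg_neg] at c0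
    have c1 := finrank_eq_of_rank_eq (rank_grK V (-d) h0S hinjS)
    have c2 := finrank_eq_of_rank_eq (rank_grK HS d h0S hinjS)
    exact c2.trans (c0.symm.trans c1.symm)
  obtain ⟨θ, hθ⟩ := giso_E_seg ψ hT hFR hFS hFT h0R h0S h0T heR heS heT
  obtain ⟨Φ, hΦ⟩ := exists_equiv_hom_seg ψ hT ζR ζS hζR hζS hFR hFS hFT h0R h0S h0T
    heR heS heT θ hθ hinjζR hinjζS hdimR hdimS
  have g1 : GIso (bun 𝒯 𝒯) (SegM ψ hT (bun 𝒜 𝒜) (bun ℬ ℬ)) :=
    ⟨segEquiv 𝒜 ℬ ψ hT 𝒜 ℬ 𝒯 ψ.toLinearMap (isSegreMod_self ψ hT),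
      segEquiv_gr 𝒜 ℬ ψ hT 𝒜 ℬ 𝒯 ψ.toLinearMap (isSegreMod_self ψ hT)⟩
  have g2 := giso_of_giso mT g1 (i + j + 3)
  have g3 := topK ψ hT (bun 𝒜 𝒜) (bun ℬ ℬ) mR hFR.span mS hFS.span mT hFT.span i j hdR hdS
  obtain ⟨ε, hε⟩ := g3.trans g2.symm
  obtain ⟨Θ, hΘ⟩ := exists_theta_LCgr (toAG 𝒯) (toAG 𝒯) mT IT (i + j + 3)
  let Θ' : IT.H mT (i + j + 3) ≃ₗ[T]
      (LCGMod (toAG 𝒯) (bun 𝒯 𝒯).gr mT (i + j + 3)).carrier := Θ
  refine ⟨inferInstance, Φ.trans (ε.trans Θ'.symm), ?_⟩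
  intro d f hf
  have h2 := hΦ d f hf
  have h3 := hε d _ h2
  have h4 : ε (Φ f) ∈ LCgr (toAG 𝒯) (toAG 𝒯) mT.toIdeal (i + j + 3) d :=
    (mem_LCGMod_gr (toAG 𝒯) (toAG 𝒯) mT (i + j + 3) d _).mp h3
  have h5 : Θ.symm (ε (Φ f)) ∈ IT.Hcomp mT (i + j + 3) d := by
    apply (hΘ d _).mpr
    rw [LinearEquiv.apply_symm_apply]
    exact h4
  exact h5

end KT

end Groth.Agent.Helper8.SG
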