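import Mathlib
import Groth.Prelude.Def_GrLC
import Groth.Prelude.Def_GrSeg
import Groth.Agent.Lib.Helper8.SG14
import Groth.Agent.Lib.Helper8.GE4
import Groth.Agent.Lib.Helper8.GorFlat11
import Groth.Agent.Lib.Helper6.SegCM.CMc

set_option autoImplicit false
set_option linter.unusedSectionVars false
set_option linter.unusedVariables false
set_option linter.unusedSimpArgs false
set_option linter.style.haveILetI false
set_option maxHeartbeats 1600000

/-!
# A Gorenstein Segre product of standard graded Cohen–Macaulay algebras has Gorenstein factors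
with the same negative a-invariant (helper8)
-/

universe u

namespace Groth.Agent.Helper8.SG

open scoped TensorProduct
open CategoryTheory DirectSum Groth.Agent.Helper9.GrLCLib Groth.Agent.Helper9.GrLCLib.Trans
open Groth.Agent.Helper8.LC Groth.Agent.Lib.Helper6.CMReg Groth.Agent.Lib.Helper6.SegK
open Groth.Agent.Helper9.SegreLib Groth.Agent.Helper8.GD Groth.Agent.Lib.Helper6.SegCM
open Groth.Agent.Helper8.GB Groth.Agent.Lib.Helper6.SegDim
open Groth.Agent.Helper8.GC Groth.Agent.Helper8.GK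

attribute [local instance] kMod

section Gen

variable {R : Type u} [CommRing R] [IsNoetherianRing R] {𝒜 : ℤ → AddSubgroup R} [GradedRing 𝒜]
  {m : HomogeneousIdeal 𝒜} (hF : FieldGr 𝒜 m)
  (hstd : Ideal.span (⋃ n ∈ Set.Ioi (0 : ℤ), (𝒜 n : Set R)) =
    Ideal.span ((𝒜 1 : AddSubgroup R) : Set R))
variable {E' : Type u} [AddCommGroup E'] [Module R E'] {𝓔 : ℤ → AddSubgroup E'}
  [DirectSum.Decomposition 𝓔] [SetLike.GradedSMul 𝒜 𝓔]
  {e : (R ⧸ m.toIdeal) →ₗ[R] E'} (he : GrLC.IsStarInjHull 𝒜 (GrLC.quotGr 𝒜 m) 𝓔 e)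
variable {C : Type u} [AddCommGroup C] [Module R C] (𝒞 : ℤ → AddSubgroup C)
  [DirectSum.Decomposition 𝒞] [SetLike.GradedSMul 𝒜 𝒞]

include hF hstd in
/-- a homogeneous element `u` of a graded module `C` of positive depth over a standard graded ring
of depth `≥ 2` with no homogeneous annihilator which generates `C` in large degrees generates `C`
freely -/
theorem bijective_toSpanSingleton_of_ge (k₀ k : ℤ) (u : C) (hu : u ∈ 𝒞 k)
    (h1 : ∀ j : ℤ, ∀ x ∈ 𝒜 j, x • u = 0 → x = 0)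
    (h2 : ∀ j : ℤ, k₀ ≤ j → ∀ c ∈ 𝒞 j, c ∈ Submodule.span R {u})
    (hD2R : ∀ φ : m.toIdeal →ₗ[R] R, ∃ y : R, ∀ r : m.toIdeal, φ r = (r : R) • y)
    (hD1C : ∀ w : C, (∀ r ∈ m.toIdeal, r • w = 0) → w = 0) :
    Function.Bijective (LinearMap.toSpanSingleton R C u) := by
  classical
  have hinj : ∀ r : R, r • u = 0 → r = 0 := by
    intro r hru
    have hcomp : ∀ i, (decompose 𝒜 r i : R) = 0 := by
      intro i
      apply h1 i _ (decompose 𝒜 r i).2
      have h3 := proj_smul_of_mem_right 𝒜 𝒞 hu r i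
      rw [hru, map_zero] at h3
      exact h3.symm
    rw [← DirectSum.sum_support_decompose 𝒜 r]
    exact Finset.sum_eq_zero (fun i _ => hcomp i)
  have hlift : ∀ z : C, (∀ r ∈ m.toIdeal, r • z ∈ Submodule.span R {u}) →
      z ∈ Submodule.span R {u} :=
    fun z hz => GE.mem_span_of_smul_mem u hinj hD2R hD1C z hz
  have hP := GE.mem_of_forall_deg_smul_mem hF hstd (Submodule.span R {u}) hlift
  have hhomW : ∀ l : ℤ, ∀ y ∈ 𝒞 l, y ∈ Submodule.span R {u} := by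
    intro l y hy
    obtain ⟨d, hd⟩ : ∃ d : ℕ, k₀ ≤ (d : ℤ) + l := ⟨(k₀ - l).toNat, by omega⟩
    apply hP d y
    intro s hs
    exact h2 _ hd _ (smul_mem_add 𝒜 𝒞 hs hy)
  have hall : ∀ y : C, y ∈ Submodule.span R {u} := by
    intro y
    rw [← DirectSum.sum_support_decompose 𝒞 y]
    exact Submodule.sum_mem _ (fun i _ => hhomW i _ (decompose 𝒞 y i).2)
  constructor
  · intro r r' hrr'
    have h4 : r • u = r' • u := by simpa only [LinearMap.toSpanSingleton_apply] using hrr'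
    have h3 : (r - r') • u = 0 := by rw [sub_smul, h4, sub_self]
    exact sub_eq_zero.mp (hinj _ h3)
  · intro y
    obtain ⟨c, hc⟩ := Submodule.mem_span_singleton.mp (hall y)
    exact ⟨c, by rw [LinearMap.toSpanSingleton_apply]; exact hc⟩

/-- homogeneous elements of a module generated by a homogeneous element are homogeneous
multiples -/
lemma exists_homog_smul_eq {c0 : ℤ} {u : C} (hu : u ∈ 𝒞 c0) (hsurj : ∀ w : C, ∃ t : R, t • u = w)
    {d : ℤ} {w : C} (hw : w ∈ 𝒞 d) : ∃ t ∈ 𝒜 (d - c0), t • u = w := by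
  obtain ⟨t, ht⟩ := hsurj w
  refine ⟨(decompose 𝒜 t (d - c0) : R), (decompose 𝒜 t (d - c0)).2, ?_⟩
  have h4 := proj_smul_of_mem_right' 𝒜 𝒞 hu t d
  rw [ht, proj_of_mem_same 𝒞 hw] at h4
  exact h4.symm

include hF he in
/-- the depth conditions used: `Ext^1(R/m, R) = 0` and `Hom(R/m, K_R) = 0` -/
theorem depth_facts [hCM : LocCoh.IsCohenMacaulayRing R] (n : ℕ) (hn : ringKrullDim R = n)
    (h2 : 2 ≤ n) (I : GrLC.StarInjRes 𝒜 𝒜) (hC : GrLC.IsStarCanonical 𝒜 𝒞 𝓔 m n I) :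
    (∀ φ : m.toIdeal →ₗ[R] R, ∃ y : R, ∀ r : m.toIdeal, φ r = (r : R) • y) ∧
      (∀ w : C, (∀ r ∈ m.toIdeal, r • w = 0) → w = 0) := by
  haveI hmax : m.toIdeal.IsMaximal := hF.isMaximal
  haveI hprime : m.toIdeal.IsPrime := hmax.isPrime
  have hnloc : ringKrullDim (Localization.AtPrime m.toIdeal) = n := by
    rw [ringKrullDim_atPrime hF, hn]
  have hdepth : LocCoh.idealDepth m.toIdeal R = m.toIdeal.height :=
    (Groth.Agent.Helper8.Depth.isCohenMacaulayRing_iff_idealDepth_eq_height.mp hCM) m.toIdeal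
      hmax.ne_top
  have hht : (m.toIdeal.height : WithBot ℕ∞) = n := by
    rw [← IsLocalization.AtPrime.ringKrullDim_eq_height m.toIdeal
      (Localization.AtPrime m.toIdeal), hnloc]
  have hht' : m.toIdeal.height = (n : ℕ∞) := by exact_mod_cast hht
  have hdep2 : ((2 : ℕ) : ℕ∞) ≤ LocCoh.idealDepth m.toIdeal R := by
    rw [hdepth, hht']; exact_mod_cast h2
  have hext := (Groth.Agent.Helper8.Depth.le_idealDepth_iff_ext' (I := m.toIdeal) (M := R) 2).mp
    hdep2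
  have hD2R := exists_smul_of_ext_one m.toIdeal R (hext 1 (by omega))
  have hD1C := eq_zero_of_ext_zero m.toIdeal C
    (subsingleton_ext_residue hF he 𝒞 n hn I hC 0 (by omega))
  exact ⟨hD2R, hD1C⟩

include hF he in
/-- a graded ring over a field whose canonical module is freely generated by an element of degree
`c0` is Gorenstein with a-invariant `-c0` -/
theorem endDeg_of_free_canonical [hCM : LocCoh.IsCohenMacaulayRing R] (n : ℕ)
    (hn : ringKrullDim R = n) (I : GrLC.StarInjRes 𝒜 𝒜)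
    (hC : GrLC.IsStarCanonical 𝒜 𝒞 𝓔 m n I) (c0 : ℤ) (x : C) (hx : x ∈ 𝒞 c0)
    (hbij : Function.Bijective (LinearMap.toSpanSingleton R C x)) :
    LocCoh.IsGorensteinRing R ∧
      GrLC.endDeg (I.Hgr m n) = (((-c0 : ℤ) : WithTop ℤ) : WithBot (WithTop ℤ)) := by
  classical
  haveI hmax : m.toIdeal.IsMaximal := hF.isMaximal
  haveI hprime : m.toIdeal.IsPrime := hmax.isPrime
  have hnloc : ringKrullDim (Localization.AtPrime m.toIdeal) = n := by
    rw [ringKrullDim_atPrime hF, hn]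
  have hfdeg : GrLC.IsGrHomDeg 𝒜 𝒞 (LinearMap.toSpanSingleton R C x) c0 := by
    intro i r hr
    rw [LinearMap.toSpanSingleton_apply]
    exact smul_mem_add 𝒜 𝒞 hr hx
  have hGor : LocCoh.IsGorensteinRing R :=
    (isGorensteinRing_iff_canonical hF he 𝒞 n hn I hC).mpr ⟨_, _, hbij, hfdeg⟩
  refine ⟨hGor, ?_⟩
  have hGloc := hGor.isGorensteinLocalRing_localization m.toIdeal
  obtain ⟨-, g₁, β, hβ⟩ := exists_grEquiv_of_gorenstein hF he I n hGloc hnloc
  obtain ⟨fR, hfRbij, hfRdeg⟩ := exists_shift_equiv_canonical hF he 𝒞 n I hC g₁ β hβ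
  have hend := Groth.Agent.Helper8.GV.endDeg_of_grEquiv hF he I n g₁ β hβ
  rw [hend]
  obtain ⟨w, hw⟩ : ∃ w : C, w = fR 1 := ⟨_, rfl⟩
  have hwmem : w ∈ 𝒞 (-g₁) := by
    have := hfRdeg 0 1 SetLike.GradedOne.one_mem
    rw [zero_add] at this
    rw [hw]; exact this
  have h10 : (1 : R) ≠ 0 := by
    intro h
    apply hmax.ne_top
    rw [Ideal.eq_top_iff_one, h]
    exact zero_mem _
  have hx0 : x ≠ 0 := by
    intro h0
    apply h10
    apply hbij.1
    rw [LinearMap.toSpanSingleton_apply, one_smul, map_zero]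
    exact h0
  have hw0 : w ≠ 0 := by
    intro h0
    apply h10
    apply hfRbij.1
    rw [map_zero, ← hw]
    exact h0
  have hle1 : 0 ≤ c0 - -g₁ := by
    by_contra hlt
    push Not at hlt
    obtain ⟨s, hs⟩ := hfRbij.2 x
    have h3 : x = s • w := by rw [← hs, hw, ← map_smul, smul_eq_mul, mul_one]
    have h4 := proj_smul_of_mem_right' 𝒜 𝒞 hwmem s c0
    rw [← h3, proj_of_mem_same 𝒞 hx, hF.eq_zero_of_neg hlt (decompose 𝒜 s _).2,
      zero_smul] at h4
    exact hx0 h4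
  have hle2 : 0 ≤ -g₁ - c0 := by
    by_contra hlt
    push Not at hlt
    obtain ⟨t, ht⟩ := hbij.2 w
    rw [LinearMap.toSpanSingleton_apply] at ht
    have h4 := proj_smul_of_mem_right' 𝒜 𝒞 hx t (-g₁)
    rw [ht, proj_of_mem_same 𝒞 hwmem, hF.eq_zero_of_neg hlt (decompose 𝒜 t _).2,
      zero_smul] at h4
    exact hw0 h4
  have hfin : g₁ = -c0 := by linarith
  rw [hfin]

end Gen

section TL

variable {k : Type u} [Field k] {U V : Type u} [AddCommGroup U] [Module k U] [AddCommGroup V]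
  [Module k V]

/-- contraction of the first factor of a tensor with a functional -/
noncomputable def contrL (f : Module.Dual k U) : U ⊗[k] V →ₗ[k] V :=
  (TensorProduct.lid k V).toLinearMap ∘ₗ f.rTensor V

lemma contrL_tmul (f : Module.Dual k U) (u : U) (v : V) :
    contrL f (u ⊗ₜ[k] v) = f u • v := by
  simp [contrL]

lemma tmul_ne_zero {a : U} {b : V} (ha : a ≠ 0) (hb : b ≠ 0) : a ⊗ₜ[k] b ≠ 0 := by
  obtain ⟨f, hf⟩ := Module.Projective.exists_dual_ne_zero k ha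
  obtain ⟨g, hg⟩ := Module.Projective.exists_dual_ne_zero k hb
  intro h
  have h1 : contrR g (a ⊗ₜ[k] b) = 0 := by rw [h, map_zero]
  rw [contrR_tmul] at h1
  rcases smul_eq_zero.mp h1 with h2 | h2
  · exact hg h2
  · exact ha h2

/-- a functional with value one on a nonzero vector -/
lemma exists_dual_eq_one {b : V} (hb : b ≠ 0) : ∃ g : Module.Dual k V, g b = 1 := by
  obtain ⟨g₀, hg₀⟩ := Module.Projective.exists_dual_ne_zero k hb
  exact ⟨(g₀ b)⁻¹ • g₀, by rw [LinearMap.smul_apply, smul_eq_mul, inv_mul_cancel₀ hg₀]⟩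

end TL

section Desc

variable {k : Type u} [Field k] {R S T : Type u} [CommRing R] [CommRing S] [CommRing T]
  [Algebra k R] [Algebra k S] [Algebra k T] [IsNoetherianRing R] [IsNoetherianRing S]
  [IsNoetherianRing T]
  {𝒜 : ℤ → Submodule k R} {ℬ : ℤ → Submodule k S} {𝒯 : ℤ → Submodule k T}
  [GradedAlgebra 𝒜] [GradedAlgebra ℬ] [GradedAlgebra 𝒯]
  (ψ : T →ₐ[k] R ⊗[k] S) (hT : GrSeg.IsSegreRing 𝒜 ℬ 𝒯 ψ)
  {U : GrLC.GMod.{u} (toAG 𝒜)} {V : GrLC.GMod.{u} (toAG ℬ)}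
  (u : (SegM ψ hT U V).carrier) (x : U.carrier) (y : V.carrier)
  (hxy : valM ψ hT u = x ⊗ₜ[k] y)

include hxy in
lemma ann_left_eq_zero (hinju : ∀ t : T, t • u = 0 → t = 0) {n : ℤ} (hB : ℬ n ≠ ⊥) {a : R}
    (ha : a ∈ 𝒜 n) (hax : a • x = 0) : a = 0 := by
  obtain ⟨b, hb, hb0⟩ := Submodule.exists_mem_ne_zero_of_ne_bot hB
  obtain ⟨t, ht, hψt⟩ := exists_ring_of_tmul hT ha hb
  have h1 : t • u = 0 := by
    apply valM_injective ψ hT
    rw [valM_smul, hψt, hxy, GrSeg.act_tmul, hax, TensorProduct.zero_tmul, valM_zero]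
  have h2 : t = 0 := hinju t h1
  rw [h2, map_zero] at hψt
  by_contra ha0
  exact tmul_ne_zero ha0 hb0 hψt.symm

include hxy in
lemma ann_right_eq_zero (hinju : ∀ t : T, t • u = 0 → t = 0) {n : ℤ} (hA : 𝒜 n ≠ ⊥) {b : S}
    (hb : b ∈ ℬ n) (hby : b • y = 0) : b = 0 := by
  obtain ⟨a, ha, ha0⟩ := Submodule.exists_mem_ne_zero_of_ne_bot hA
  obtain ⟨t, ht, hψt⟩ := exists_ring_of_tmul hT ha hb
  have h1 : t • u = 0 := by
    apply valM_injective ψ hT
    rw [valM_smul, hψt, hxy, GrSeg.act_tmul, hby, TensorProduct.tmul_zero, valM_zero]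
  have h2 : t = 0 := hinju t h1
  rw [h2, map_zero] at hψt
  by_contra hb0
  exact tmul_ne_zero ha0 hb0 hψt.symm

include hxy in
/-- if `T_n u` is the piece of degree `d` of `U # V` and `V_d ≠ 0` then `U_d = R_n x` -/
lemma exists_smul_eq_left {n d : ℤ}
    (hgen : ∀ w ∈ (SegM ψ hT U V).gr d, ∃ t ∈ 𝒯 n, t • u = w)
    {b' : V.carrier} (hb' : b' ∈ V.gr d) (hb'0 : b' ≠ 0) {a' : U.carrier} (ha' : a' ∈ U.gr d) :
    ∃ a ∈ 𝒜 n, a • x = a' := by
  obtain ⟨g, hg⟩ := exists_dual_eq_one (k := k) hb'0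
  have hw : mkM ψ hT (a' ⊗ₜ[k] b') (piece_le_segSub U V d (tmul_mem_piece U V ha' hb')) ∈
      (SegM ψ hT U V).gr d := tmul_mem_piece U V ha' hb'
  obtain ⟨t, ht, htu⟩ := hgen _ hw
  have h1 : GrSeg.act k R S U.carrier V.carrier (ψ t) (x ⊗ₜ[k] y) = a' ⊗ₜ[k] b' := by
    rw [← hxy, ← valM_smul, htu]
    rfl
  let mx : R →ₗ[k] U.carrier := (LinearMap.toSpanSingleton R U.carrier x).restrictScalars k
  let W : Submodule k U.carrier := (𝒜 n).map mx
  let Λ : R ⊗[k] S →ₗ[k] U.carrier :=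
    contrR g ∘ₗ (GrSeg.act k R S U.carrier V.carrier).flip (x ⊗ₜ[k] y)
  have hΛ : GrSeg.segrePiece k 𝒜 ℬ n ≤ W.comap Λ := by
    apply segrePiece_le
    intro a ha b hb
    rw [Submodule.mem_comap]
    show contrR g (GrSeg.act k R S U.carrier V.carrier (a ⊗ₜ[k] b) (x ⊗ₜ[k] y)) ∈ W
    rw [GrSeg.act_tmul, contrR_tmul]
    refine ⟨g (b • y) • a, (𝒜 n).smul_mem _ ha, ?_⟩
    show (g (b • y) • a) • x = g (b • y) • (a • x)
    rw [smul_assoc]
  have h2 : Λ (ψ t) ∈ W := hΛ (map_mem_segrePiece hT ht)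
  have h3 : Λ (ψ t) = a' := by
    show contrR g (GrSeg.act k R S U.carrier V.carrier (ψ t) (x ⊗ₜ[k] y)) = a'
    rw [h1, contrR_tmul, hg, one_smul]
  rw [h3] at h2
  obtain ⟨a, ha, hax⟩ := h2
  exact ⟨a, ha, hax⟩

include hxy in
/-- if `T_n u` is the piece of degree `d` of `U # V` and `U_d ≠ 0` then `V_d = S_n y` -/
lemma exists_smul_eq_right {n d : ℤ}
    (hgen : ∀ w ∈ (SegM ψ hT U V).gr d, ∃ t ∈ 𝒯 n, t • u = w)
    {a' : U.carrier} (ha' : a' ∈ U.gr d) (ha'0 : a' ≠ 0) {b' : V.carrier} (hb' : b' ∈ V.gr d) :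
    ∃ b ∈ ℬ n, b • y = b' := by
  obtain ⟨f, hf⟩ := exists_dual_eq_one (k := k) ha'0
  have hw : mkM ψ hT (a' ⊗ₜ[k] b') (piece_le_segSub U V d (tmul_mem_piece U V ha' hb')) ∈
      (SegM ψ hT U V).gr d := tmul_mem_piece U V ha' hb'
  obtain ⟨t, ht, htu⟩ := hgen _ hw
  have h1 : GrSeg.act k R S U.carrier V.carrier (ψ t) (x ⊗ₜ[k] y) = a' ⊗ₜ[k] b' := by
    rw [← hxy, ← valM_smul, htu]
    rfl
  let my : S →ₗ[k] V.carrier := (LinearMap.toSpanSingleton S V.carrier y).restrictScalars k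
  let W : Submodule k V.carrier := (ℬ n).map my
  let Λ : R ⊗[k] S →ₗ[k] V.carrier :=
    contrL f ∘ₗ (GrSeg.act k R S U.carrier V.carrier).flip (x ⊗ₜ[k] y)
  have hΛ : GrSeg.segrePiece k 𝒜 ℬ n ≤ W.comap Λ := by
    apply segrePiece_le
    intro a ha b hb
    rw [Submodule.mem_comap]
    show contrL f (GrSeg.act k R S U.carrier V.carrier (a ⊗ₜ[k] b) (x ⊗ₜ[k] y)) ∈ W
    rw [GrSeg.act_tmul, contrL_tmul]
    refine ⟨f (a • x) • b, (ℬ n).smul_mem _ hb, ?_⟩
    show (f (a • x) • b) • y = f (a • x) • (b • y)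
    rw [smul_assoc]
  have h2 : Λ (ψ t) ∈ W := hΛ (map_mem_segrePiece hT ht)
  have h3 : Λ (ψ t) = b' := by
    show contrL f (GrSeg.act k R S U.carrier V.carrier (ψ t) (x ⊗ₜ[k] y)) = b'
    rw [h1, contrL_tmul, hf, one_smul]
  rw [h3] at h2
  obtain ⟨b, hb, hby⟩ := h2
  exact ⟨b, hb, hby⟩

/-- a homogeneous element spanning its piece of a Segre product is a pure tensor -/
lemma exists_pure_tensor {c0 : ℤ} (hu : u ∈ (SegM ψ hT U V).gr c0) (hu0 : u ≠ 0)
    (hgen0 : ∀ w ∈ (SegM ψ hT U V).gr c0, ∃ c : k, c • u = w) :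
    ∃ x ∈ U.gr c0, ∃ y ∈ V.gr c0, valM ψ hT u = x ⊗ₜ[k] y := by
  have h1 : Module.finrank k (grK (SegM ψ hT U V) c0) = 1 := by
    rw [finrank_eq_one_iff_of_nonzero' (⟨u, hu⟩ : grK (SegM ψ hT U V) c0)
      (fun h => hu0 (congrArg Subtype.val h))]
    intro w
    obtain ⟨c, hc⟩ := hgen0 w.1 w.2
    exact ⟨c, Subtype.ext hc⟩
  rw [finrank_grK_segM ψ hT U V c0] at h1
  obtain ⟨hU1, hV1⟩ := mul_eq_one.mp h1
  obtain ⟨x0, hx0, hxs⟩ := finrank_eq_one_iff'.mp hU1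
  obtain ⟨y0, hy0, hys⟩ := finrank_eq_one_iff'.mp hV1
  have h2 : piece U V c0 ≤ Submodule.span k {(x0 : U.carrier) ⊗ₜ[k] (y0 : V.carrier)} := by
    apply segrePiece_le
    intro a ha b hb
    obtain ⟨c, hc⟩ := hxs ⟨a, ha⟩
    obtain ⟨c', hc'⟩ := hys ⟨b, hb⟩
    have ha' : a = c • (x0 : U.carrier) := (congrArg Subtype.val hc).symm
    have hb' : b = c' • (y0 : V.carrier) := (congrArg Subtype.val hc').symm
    rw [ha', hb', TensorProduct.smul_tmul_smul]
    exact Submodule.smul_mem _ _ (Submodule.mem_span_singleton_self _)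
  obtain ⟨lam, hlam⟩ := Submodule.mem_span_singleton.mp (h2 ((mem_gr_iff ψ hT).mp hu))
  refine ⟨lam • (x0 : U.carrier), smul_mem_gr U lam x0.2, (y0 : V.carrier), y0.2, ?_⟩
  rw [← hlam, TensorProduct.smul_tmul']

end Desc

end Groth.Agent.Helper8.SG
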