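import Mathlib
import Groth.Prelude.Def_GrLC
import Groth.Prelude.Def_GrSeg
import Groth.Agent.Lib.Helper8.SG15

set_option autoImplicit false
set_option linter.unusedSectionVars false
set_option linter.unusedVariables false
set_option linter.unusedSimpArgs false
set_option linter.style.haveILetI false
set_option maxHeartbeats 1600000

/-!
# A Gorenstein Segre product of standard graded Cohen–Macaulay algebras has Gorenstein factors
with the same negative a-invariant, II (helper8)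
-/

universe u

namespace Groth.Agent.Helper8.SG

open scoped TensorProduct
open CategoryTheory DirectSum Groth.Agent.Helper9.GrLCLib Groth.Agent.Helper9.GrLCLib.Trans
open Groth.Agent.Helper8.LC Groth.Agent.Lib.Helper6.CMReg Groth.Agent.Lib.Helper6.SegK
open Groth.Agent.Helper9.SegreLib Groth.Agent.Helper8.GD Groth.Agent.Lib.Helper6.SegCM
open Groth.Agent.Helper8.GB Groth.Agent.Lib.Helper6.SegDim

attribute [local instance] kMod

/-- **S18649** -/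
theorem gorenstein_of_segre_gorenstein (k : Type u) [Field k] (R : Type u) [CommRing R]
    [Algebra k R] (𝒜 : ℤ → Submodule k R) [GradedAlgebra 𝒜] (hposR : ∀ n : ℤ, n < 0 → 𝒜 n = ⊥)
    (h0R : 𝒜 0 = Submodule.span k {(1 : R)}) [Algebra.FiniteType k R] (S : Type u) [CommRing S]
    [Algebra k S] (ℬ : ℤ → Submodule k S) [GradedAlgebra ℬ] (hposS : ∀ n : ℤ, n < 0 → ℬ n = ⊥)
    (h0S : ℬ 0 = Submodule.span k {(1 : S)}) [Algebra.FiniteType k S] (T : Type u) [CommRing T]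
    [Algebra k T] (𝒯 : ℤ → Submodule k T) [GradedAlgebra 𝒯] (ψ : T →ₐ[k] TensorProduct k R S)
    (hψ : Function.Injective ψ)
    (hdegT : ∀ n : ℤ, (𝒯 n).map ψ.toLinearMap =
      Submodule.span k {x : TensorProduct k R S | ∃ a ∈ 𝒜 n, ∃ b ∈ ℬ n, x = a ⊗ₜ[k] b})
    [LocCoh.IsCohenMacaulayRing R] [LocCoh.IsCohenMacaulayRing S] (mR : HomogeneousIdeal 𝒜)
    (hmR : mR.toIdeal = Ideal.span (⋃ n ∈ Set.Ioi (0 : ℤ), (𝒜 n : Set R)))
    (hstdR : Ideal.span (⋃ n ∈ Set.Ioi (0 : ℤ), (𝒜 n : Set R)) =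
      Ideal.span ((𝒜 1 : Submodule k R) : Set R))
    (I : GrLC.StarInjRes 𝒜 𝒜) (mS : HomogeneousIdeal ℬ)
    (hmS : mS.toIdeal = Ideal.span (⋃ n ∈ Set.Ioi (0 : ℤ), (ℬ n : Set S)))
    (hstdS : Ideal.span (⋃ n ∈ Set.Ioi (0 : ℤ), (ℬ n : Set S)) =
      Ideal.span ((ℬ 1 : Submodule k S) : Set S))
    (J : GrLC.StarInjRes ℬ ℬ) (r s : ℕ) (hr : ringKrullDim R = r) (hs : ringKrullDim S = s)
    (h2r : 2 ≤ r) (h2s : 2 ≤ s) [hGT : LocCoh.IsGorensteinRing T] :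
    LocCoh.IsGorensteinRing R ∧ LocCoh.IsGorensteinRing S ∧
      GrLC.endDeg (I.Hgr mR r) = GrLC.endDeg (J.Hgr mS s) ∧ GrLC.endDeg (I.Hgr mR r) < 0 := by
  have hT : GrSeg.IsSegreRing 𝒜 ℬ 𝒯 ψ := ⟨hψ, hdegT⟩
  haveI : IsNoetherianRing R := Algebra.FiniteType.isNoetherianRing k R
  haveI : IsNoetherianRing S := Algebra.FiniteType.isNoetherianRing k S
  haveI : Nontrivial R := nontrivial_of_dim hr
  haveI : Nontrivial S := nontrivial_of_dim hs
  haveI : IsNoetherianRing T :=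
    Groth.Agent.Helper3.Segre.isNoetherianRing_of_segre 𝒜 ℬ 𝒯 ψ hT.2 hT.1
  haveI : Nontrivial T := nontrivial_of_segre ψ
  have hposT := segre_pos 𝒜 ℬ 𝒯 ψ hT hposR
  have h0T := segre_zero 𝒜 ℬ 𝒯 ψ hT h0R h0S
  have h0R' := h0_of_span h0R
  have h0S' := h0_of_span h0S
  have h0T' := h0_of_span h0T
  haveI hCMT : LocCoh.IsCohenMacaulayRing T :=
    Groth.Agent.Helper8.GorFlat.isCohenMacaulayRing_of_isGorensteinRing T hGT
  have hneg := (segre_cm_iff_endDeg 𝒜 ℬ 𝒯 ψ hT hposR h0R hposS h0S mR hmR hstdR I mS hmS hstdS J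
    r s hr hs h2r h2s).mp hCMT
  have h1R : 1 ≤ ringKrullDim R := by
    rw [hr]
    exact_mod_cast (by omega : 1 ≤ r)
  have h1S : 1 ≤ ringKrullDim S := by
    rw [hs]
    exact_mod_cast (by omega : 1 ≤ s)
  have hA : ∀ n : ℤ, 𝒜 n = ⊥ ↔ n < 0 := piece_eq_bot_iff 𝒜 hposR h0R hstdR h1R
  have hB : ∀ n : ℤ, ℬ n = ⊥ ↔ n < 0 := piece_eq_bot_iff ℬ hposS h0S hstdS h1S
  have hdimT : ringKrullDim T = ((r + s - 1 : ℕ) : WithBot ℕ∞) :=
    ringKrullDim_segre 𝒜 hposR h0R ℬ hposS h0S T 𝒯 ψ hT.1 hT.2 r s hr hs (by omega) (by omega)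
  obtain ⟨i, rfl⟩ : ∃ i, r = i + 2 := ⟨r - 2, by omega⟩
  obtain ⟨j, rfl⟩ : ∃ j, s = j + 2 := ⟨s - 2, by omega⟩
  have hidx : i + 2 + (j + 2) - 1 = i + j + 3 := by omega
  rw [hidx] at hdimT
  -- the irrelevant ideals
  let aR : HomogeneousIdeal (toAG 𝒜) := idealToAG 𝒜 mR
  let aS : HomogeneousIdeal (toAG ℬ) := idealToAG ℬ mS
  let aT : HomogeneousIdeal (toAG 𝒯) := GrSyz.irrel (toAG 𝒯)
  have haT : aT.toIdeal = Ideal.span (⋃ n ∈ Set.Ioi (0 : ℤ), (toAG 𝒯 n : Set T)) :=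
    irrel_toIdeal (toAG 𝒯)
  have hFR : FieldGr (toAG 𝒜) aR := fieldGr_toAG 𝒜 hposR h0R mR hmR
  have hFS : FieldGr (toAG ℬ) aS := fieldGr_toAG ℬ hposS h0S mS hmS
  have hFT : FieldGr (toAG 𝒯) aT :=
    ⟨toAG_eq_bot 𝒯 hposT, isField_deg0 𝒯 h0T', haT⟩
  have hstdR' : Ideal.span (⋃ n ∈ Set.Ioi (0 : ℤ), (toAG 𝒜 n : Set R)) =
      Ideal.span ((toAG 𝒜 1 : AddSubgroup R) : Set R) := hstdR
  have hstdS' : Ideal.span (⋃ n ∈ Set.Ioi (0 : ℤ), (toAG ℬ n : Set S)) =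
      Ideal.span ((toAG ℬ 1 : AddSubgroup S) : Set S) := hstdS
  -- the *injective envelopes and the canonical modules
  obtain ⟨ER, eR, heR⟩ := Groth.Agent.Helper8.GV.exists_starInjHull_quot (toAG 𝒜) aR
  obtain ⟨ES, eS, heS⟩ := Groth.Agent.Helper8.GV.exists_starInjHull_quot (toAG ℬ) aS
  obtain ⟨ET, eT, heT⟩ := Groth.Agent.Helper8.GV.exists_starInjHull_quot (toAG 𝒯) aT
  obtain ⟨IT⟩ := Groth.Agent.S13215.result T (toAG 𝒯) T (toAG 𝒯)
  obtain ⟨U, hCU⟩ := GE.exists_starCanonical hFR heR (resToAG 𝒜 𝒜 I) (i + 2)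
  obtain ⟨V, hCV⟩ := GE.exists_starCanonical hFS heS (resToAG ℬ ℬ J) (j + 2)
  haveI : Module.Finite R U.carrier := hCU.1
  haveI : Module.Finite S V.carrier := hCV.1
  haveI := finite_segM ψ hT U V hposR h0R hposS h0S
  have hCP := starCanonical_segM ψ hT hFR hFS hFT h0R' h0S' h0T' heR heS heT i j hr.le hs.le
    (resToAG 𝒜 𝒜 I) (resToAG ℬ ℬ J) IT hCU hCV
  obtain ⟨c0, f, hfbij, hfdeg⟩ := (isGorensteinRing_iff_canonical hFT heT (SegM ψ hT U V).gr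
    (i + j + 3) hdimT IT hCP).mp hGT
  -- the generator of the canonical module of `T`
  obtain ⟨u, hudef⟩ : ∃ u : (SegM ψ hT U V).carrier, u = f 1 := ⟨_, rfl⟩
  have hu : u ∈ (SegM ψ hT U V).gr c0 := by
    have := hfdeg 0 1 SetLike.GradedOne.one_mem
    rw [zero_add] at this
    rw [hudef]
    exact this
  have hft : ∀ t : T, f t = t • u := by
    intro t
    rw [hudef, ← map_smul, smul_eq_mul, mul_one]
  have hinju : ∀ t : T, t • u = 0 → t = 0 := by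
    intro t ht
    apply hfbij.1
    rw [hft, ht, map_zero]
  have hsurju : ∀ w : (SegM ψ hT U V).carrier, ∃ t : T, t • u = w := by
    intro w
    obtain ⟨t, ht⟩ := hfbij.2 w
    exact ⟨t, by rw [← hft, ht]⟩
  have hu0 : u ≠ 0 := by
    intro h0
    have := hinju 1 (by rw [one_smul, h0])
    exact one_ne_zero this
  have hgen : ∀ d : ℤ, ∀ w ∈ (SegM ψ hT U V).gr d, ∃ t ∈ 𝒯 (d - c0), t • u = w := by
    intro d w hw
    exact exists_homog_smul_eq (𝒜 := toAG 𝒯) (SegM ψ hT U V).gr hu hsurju hw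
  have hgen0 : ∀ w ∈ (SegM ψ hT U V).gr c0, ∃ c : k, c • u = w := by
    intro w hw
    obtain ⟨t, ht, htu⟩ := hgen c0 w hw
    rw [sub_self] at ht
    obtain ⟨c, hc⟩ := h0T' t ht
    exact ⟨c, by rw [kMod_smul_def, hc, htu]⟩
  obtain ⟨x, hx, y, hy, hxy⟩ := exists_pure_tensor ψ hT u hu hu0 hgen0
  -- the annihilators of `x` and `y` vanish
  have h1R : ∀ n : ℤ, ∀ a ∈ toAG 𝒜 n, a • x = 0 → a = 0 := by
    intro n a ha hax
    by_cases hn : n < 0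
    · have h1 : a ∈ 𝒜 n := ha
      rw [(hA n).mpr hn, Submodule.mem_bot] at h1
      exact h1
    · exact ann_left_eq_zero ψ hT u x y hxy hinju (fun h => hn ((hB n).mp h)) ha hax
  have h1S : ∀ n : ℤ, ∀ b ∈ toAG ℬ n, b • y = 0 → b = 0 := by
    intro n b hb hby
    by_cases hn : n < 0
    · have h1 : b ∈ ℬ n := hb
      rw [(hB n).mpr hn, Submodule.mem_bot] at h1
      exact h1
    · exact ann_right_eq_zero ψ hT u x y hxy hinju (fun h => hn ((hA n).mp h)) hb hby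
  -- nonzero elements in the degrees `≥ c0`
  have hyne : ∀ d : ℤ, c0 ≤ d → ∃ b' ∈ V.gr d, b' ≠ 0 := by
    intro d hd
    have hBd : ℬ (d - c0) ≠ ⊥ := fun h => by
      have := (hB _).mp h
      omega
    obtain ⟨b, hb, hb0⟩ := Submodule.exists_mem_ne_zero_of_ne_bot hBd
    refine ⟨b • y, ?_, fun h => hb0 (h1S _ b hb h)⟩
    have := smul_mem_add (toAG ℬ) V.gr (show b ∈ toAG ℬ (d - c0) from hb) hy
    rwa [sub_add_cancel] at this
  have hxne : ∀ d : ℤ, c0 ≤ d → ∃ a' ∈ U.gr d, a' ≠ 0 := by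
    intro d hd
    have hAd : 𝒜 (d - c0) ≠ ⊥ := fun h => by
      have := (hA _).mp h
      omega
    obtain ⟨a, ha, ha0⟩ := Submodule.exists_mem_ne_zero_of_ne_bot hAd
    refine ⟨a • x, ?_, fun h => ha0 (h1R _ a ha h)⟩
    have := smul_mem_add (toAG 𝒜) U.gr (show a ∈ toAG 𝒜 (d - c0) from ha) hx
    rwa [sub_add_cancel] at this
  -- `x` and `y` generate in the degrees `≥ c0`
  have h2R : ∀ d : ℤ, c0 ≤ d → ∀ c ∈ U.gr d, c ∈ Submodule.span R {x} := by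
    intro d hd c hc
    obtain ⟨b', hb', hb'0⟩ := hyne d hd
    obtain ⟨a, -, hax⟩ := exists_smul_eq_left ψ hT u x y hxy (hgen d) hb' hb'0 hc
    exact Submodule.mem_span_singleton.mpr ⟨a, hax⟩
  have h2S : ∀ d : ℤ, c0 ≤ d → ∀ c ∈ V.gr d, c ∈ Submodule.span S {y} := by
    intro d hd c hc
    obtain ⟨a', ha', ha'0⟩ := hxne d hd
    obtain ⟨b, -, hby⟩ := exists_smul_eq_right ψ hT u x y hxy (hgen d) ha' ha'0 hc
    exact Submodule.mem_span_singleton.mpr ⟨b, hby⟩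
  -- the canonical modules of `R` and `S` are free
  obtain ⟨hD2R, hD1U⟩ := depth_facts hFR heR U.gr (i + 2) hr (by omega) (resToAG 𝒜 𝒜 I) hCU
  obtain ⟨hD2S, hD1V⟩ := depth_facts hFS heS V.gr (j + 2) hs (by omega) (resToAG ℬ ℬ J) hCV
  have hbijR := bijective_toSpanSingleton_of_ge hFR hstdR' U.gr c0 c0 x hx h1R h2R hD2R hD1U
  have hbijS := bijective_toSpanSingleton_of_ge hFS hstdS' V.gr c0 c0 y hy h1S h2S hD2S hD1V
  obtain ⟨hGR, hendR⟩ := endDeg_of_free_canonical hFR heR U.gr (i + 2) hr (resToAG 𝒜 𝒜 I) hCU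
    c0 x hx hbijR
  obtain ⟨hGS, hendS⟩ := endDeg_of_free_canonical hFS heS V.gr (j + 2) hs (resToAG ℬ ℬ J) hCV
    c0 y hy hbijS
  have hendR' : GrLC.endDeg (I.Hgr mR (i + 2)) =
      (((-c0 : ℤ) : WithTop ℤ) : WithBot (WithTop ℤ)) := hendR
  have hendS' : GrLC.endDeg (J.Hgr mS (j + 2)) =
      (((-c0 : ℤ) : WithTop ℤ) : WithBot (WithTop ℤ)) := hendS
  exact ⟨hGR, hGS, hendR'.trans hendS'.symm, hneg.1⟩

end Groth.Agent.Helper8.SG
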