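import Mathlib
import Groth.Prelude.Def_GrLC
import Groth.Prelude.Def_GrSeg
import Groth.Agent.Lib.Helper6.SegCM.CMf
import Groth.Agent.Lib.Helper8.SG16

set_option autoImplicit false
set_option linter.unusedSectionVars false
set_option linter.unusedVariables false
set_option linter.unusedSimpArgs false
set_option linter.style.haveILetI false
set_option linter.overlappingInstances false
set_option maxHeartbeats 1600000

/-!
# Standard graded Cohen–Macaulay algebras of dimension one: the Hilbert function is eventually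
constant; Segre products of standard graded algebras are standard graded; the Segre product with a
polynomial ring in one variable (helper8)
-/

universe u

namespace Groth.Agent.Helper8.SG

open scoped TensorProduct Polynomial
open CategoryTheory DirectSum Groth.Agent.Helper9.GrLCLib Groth.Agent.Helper9.GrLCLib.Trans
open Groth.Agent.Helper8.LC Groth.Agent.Lib.Helper6.CMReg Groth.Agent.Lib.Helper6.SegK
open Groth.Agent.Helper9.SegreLib Groth.Agent.Helper8.GD Groth.Agent.Lib.Helper6.SegCM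
open Groth.Agent.Helper8.GB Groth.Agent.Lib.Helper6.SegDim Groth.Agent.Helper9 Groth.Agent.Helper8

section Std

variable {k : Type u} [Field k] {R : Type u} [CommRing R] [Algebra k R]
  (𝒜 : ℤ → Submodule k R) [GradedAlgebra 𝒜]

/-- in a standard graded algebra the piece of degree `m + 1` is spanned by the products of the
pieces of degrees `m` and `1` -/
theorem piece_succ_le_span
    (hstd : Ideal.span (⋃ n ∈ Set.Ioi (0 : ℤ), (𝒜 n : Set R)) =
      Ideal.span ((𝒜 1 : Submodule k R) : Set R)) (m : ℤ) (hm : 0 ≤ m) {a : R}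
    (ha : a ∈ 𝒜 (m + 1)) :
    a ∈ Submodule.span k {w : R | ∃ a' ∈ 𝒜 m, ∃ y ∈ 𝒜 1, w = a' * y} := by
  classical
  have h1 : a ∈ Ideal.span (⋃ n ∈ Set.Ioi (0 : ℤ), (𝒜 n : Set R)) :=
    Ideal.subset_span (Set.mem_biUnion (Set.mem_Ioi.mpr (by omega : (0 : ℤ) < m + 1)) ha)
  rw [hstd] at h1
  obtain ⟨l, hl⟩ := (Finsupp.mem_span_iff_linearCombination R _ a).mp h1
  have h2 : GradedAlgebra.proj 𝒜 (m + 1) a = a := Groth.Agent.Lib.Helper6.SegDim.proj_of_mem ha
  have h4 : a = ∑ y ∈ l.support, GradedAlgebra.proj 𝒜 m (l y) * (y : R) := by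
    calc a = GradedAlgebra.proj 𝒜 (m + 1) a := h2.symm
      _ = GradedAlgebra.proj 𝒜 (m + 1) (∑ y ∈ l.support, l y • (y : R)) := by
          rw [← hl, Finsupp.linearCombination_apply, Finsupp.sum]
      _ = _ := by
          rw [map_sum]
          refine Finset.sum_congr rfl (fun y _ => ?_)
          rw [smul_eq_mul]
          exact Groth.Agent.Lib.Helper6.SegDim.proj_mul_of_mem y.2 m (l y)
  rw [h4]
  refine Submodule.sum_mem _ (fun y _ => ?_)
  exact Submodule.subset_span ⟨_, proj_mem_piece m (l y), y, y.2, rfl⟩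

/-- the pieces of a standard graded algebra lie in the powers of the irrelevant ideal -/
theorem piece_le_irr_pow
    (hstd : Ideal.span (⋃ n ∈ Set.Ioi (0 : ℤ), (𝒜 n : Set R)) =
      Ideal.span ((𝒜 1 : Submodule k R) : Set R)) :
    ∀ (n : ℕ) (a : R), a ∈ 𝒜 (n : ℤ) → a ∈ irr 𝒜 ^ n := by
  intro n
  induction n with
  | zero =>
    intro a _
    rw [pow_zero, Ideal.one_eq_top]
    exact Submodule.mem_top
  | succ n ih =>
    intro a ha
    have ha' : a ∈ 𝒜 ((n : ℤ) + 1) := by rwa [Nat.cast_succ] at ha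
    have h1 := piece_succ_le_span 𝒜 hstd (n : ℤ) (Int.natCast_nonneg n) ha'
    rw [pow_succ]
    clear ha ha'
    induction h1 using Submodule.span_induction with
    | mem w hw =>
      obtain ⟨a', ha'', y, hy, rfl⟩ := hw
      refine Ideal.mul_mem_mul (ih a' ha'') ?_
      exact Ideal.subset_span (Set.mem_biUnion (Set.mem_Ioi.mpr one_pos) hy)
    | zero => exact Ideal.zero_mem _
    | add x y _ _ hx hy => exact Ideal.add_mem _ hx hy
    | smul c x _ hx =>
      rw [Algebra.smul_def]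
      exact Ideal.mul_mem_left _ _ hx

/-- **the Hilbert function of a standard graded Cohen–Macaulay algebra of dimension one is
nondecreasing and eventually constant** -/
theorem exists_hilbert_const [Algebra.FiniteType k R] [LocCoh.IsCohenMacaulayRing R]
    (hpos : ∀ n : ℤ, n < 0 → 𝒜 n = ⊥) (h0 : 𝒜 0 = Submodule.span k {(1 : R)})
    (hstd : Ideal.span (⋃ n ∈ Set.Ioi (0 : ℤ), (𝒜 n : Set R)) =
      Ideal.span ((𝒜 1 : Submodule k R) : Set R))
    (hr : ringKrullDim R = 1) :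
    (∀ n : ℤ, Module.Finite k (𝒜 n)) ∧
    (∀ (j : ℕ) (n : ℤ), Module.finrank k (𝒜 n) ≤ Module.finrank k (𝒜 (n + j))) ∧
    ∃ (N : ℤ) (e : ℕ), ∀ n : ℤ, N ≤ n → Module.finrank k (𝒜 n) = e := by
  classical
  haveI : IsNoetherianRing R := Algebra.FiniteType.isNoetherianRing k R
  have hr' : ringKrullDim R = ((1 : ℕ) : WithBot ℕ∞) := by rw [hr, Nat.cast_one]
  haveI : Nontrivial R := nontrivial_of_dim hr'
  have hdim1 : 1 ≤ ringKrullDim R := by rw [hr]
  have h0' := h0_of_span h0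
  have hinjk : Function.Injective (algebraMap k R) := (algebraMap k R).injective
  have h0f := isField_deg0 𝒜 h0'
  let aR : HomogeneousIdeal (toAG 𝒜) := GrSyz.irrel (toAG 𝒜)
  have haR : aR.toIdeal = Ideal.span (⋃ n ∈ Set.Ioi (0 : ℤ), (toAG 𝒜 n : Set R)) :=
    irrel_toIdeal (toAG 𝒜)
  have hirr : aR.toIdeal = irr 𝒜 := haR
  have vR0 : ∀ n : ℤ, Van aR (bun 𝒜 𝒜) 0 n := fun n =>
    van_of_cm_field 𝒜 hpos h0' aR haR 1 hr' 0 (by norm_num) n
  -- the depth
  have hJM : irr 𝒜 • (⊤ : Submodule R R) ≠ ⊤ := by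
    intro h1
    have h2 : (1 : R) ∈ irr 𝒜 • (⊤ : Submodule R R) := by rw [h1]; trivial
    have h3 : irr 𝒜 • (⊤ : Submodule R R) ≤ irr 𝒜 := by
      rw [Submodule.smul_le]
      intro r hr n _
      exact Ideal.mul_mem_right _ _ hr
    exact one_notMem_irr hpos (h3 h2)
  have hdepth : (1 : ℕ∞) ≤ LocCoh.idealDepth (irr 𝒜) R := by
    have h1 := le_idealDepth_of_subsingleton (irr 𝒜) hJM 1 (fun i hi => by
      have hi0 : i = 0 := by omega
      subst hi0
      have h2 := subsingleton_H_of_van (toAG 𝒜) (toAG 𝒜) aR 0 (fun g => vR0 g)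
      rw [hirr] at h2
      exact h2)
    rwa [Nat.cast_one] at h1
  obtain ⟨x, ⟨d, hd, hxd⟩, hreg⟩ := exists_homog_regular hpos R hJM hdepth
  obtain ⟨N, hN⟩ := exists_pow_irr_le hpos h0 hr hxd hreg
  have hpw := piece_le_irr_pow 𝒜 hstd
  have hfin : ∀ n : ℤ, Module.Finite k (𝒜 n) := fun n => by
    haveI : IsNoetherian (GrLC.deg0 (toAG 𝒜)) ↥(GrLC.comp (toAG 𝒜) (toAG 𝒜) n) :=
      FinZ.isNoetherian_comp_of_isNoetherian (toAG 𝒜) (toAG 𝒜) n
    exact finite_of_rank_eq (rank_piece_eq (𝒜 := 𝒜) h0' hinjk n)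
  -- the Hilbert function is nondecreasing
  have hstd' : Ideal.span (⋃ n ∈ Set.Ioi (0 : ℤ), (toAG 𝒜 n : Set R)) =
      Ideal.span ((toAG 𝒜 1 : AddSubgroup R) : Set R) := hstd
  have hH : ∀ n : ℤ, Module.finrank k (𝒜 n) ≤ Module.finrank k (𝒜 (n + 1)) := by
    intro n
    have e1 := finrank_eq_of_rank_eq (rank_piece_eq (𝒜 := 𝒜) h0' hinjk n)
    have e2 := finrank_eq_of_rank_eq (rank_piece_eq (𝒜 := 𝒜) h0' hinjk (n + 1))
    have h2 := main_18654 R (toAG 𝒜) (toAG_eq_bot 𝒜 hpos) h0f hstd' hdim1 n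
    exact e1.le.trans (h2.trans e2.ge)
  have hmono : ∀ (j : ℕ) (n : ℤ), Module.finrank k (𝒜 n) ≤ Module.finrank k (𝒜 (n + j)) := by
    intro j
    induction j with
    | zero =>
      intro n
      rw [Nat.cast_zero, add_zero]
    | succ j ih =>
      intro n
      have h1 := ih n
      have h2 := hH (n + j)
      have h3 : n + ((j + 1 : ℕ) : ℤ) = n + j + 1 := by push_cast; ring
      rw [h3]
      exact h1.trans h2
  -- multiplication by `x` is surjective in large degrees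
  have hmul : ∀ n : ℤ, (N : ℤ) ≤ n →
      Module.finrank k (𝒜 n) ≤ Module.finrank k (𝒜 (n - d)) := by
    intro n hn
    let μ : 𝒜 (n - d) →ₗ[k] 𝒜 n :=
      { toFun := fun b => ⟨(b : R) * x, by
          have := SetLike.GradedMul.mul_mem b.2 hxd
          rwa [sub_add_cancel] at this⟩
        map_add' := fun b c => Subtype.ext (add_mul _ _ _)
        map_smul' := fun c b => Subtype.ext (smul_mul_assoc c (b : R) x) }
    have hsurj : Function.Surjective μ := by
      rintro ⟨a, ha⟩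
      obtain ⟨m, rfl⟩ := Int.eq_ofNat_of_zero_le (le_trans (Int.natCast_nonneg N) hn)
      have hNm : N ≤ m := by exact_mod_cast hn
      have h1 : a ∈ irr 𝒜 ^ m := hpw m a ha
      have h2 : a ∈ irr 𝒜 ^ N := Ideal.pow_le_pow_right hNm h1
      obtain ⟨b, hb⟩ := Ideal.mem_span_singleton'.mp (hN h2)
      refine ⟨⟨GradedAlgebra.proj 𝒜 ((m : ℤ) - d) b, proj_mem_piece _ b⟩, Subtype.ext ?_⟩
      show GradedAlgebra.proj 𝒜 ((m : ℤ) - d) b * x = a
      have h3 := Groth.Agent.Lib.Helper6.SegDim.proj_mul_of_mem hxd ((m : ℤ) - d) b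
      rw [sub_add_cancel, hb, Groth.Agent.Lib.Helper6.SegDim.proj_of_mem ha] at h3
      exact h3.symm
    haveI := hfin (n - d)
    have h4 := LinearMap.finrank_range_le μ
    rw [LinearMap.range_eq_top.mpr hsurj, finrank_top] at h4
    exact h4
  have hstep : ∀ n : ℤ, (N : ℤ) ≤ n →
      Module.finrank k (𝒜 (n + 1)) = Module.finrank k (𝒜 n) := by
    intro n hn
    apply le_antisymm _ (hH n)
    have h1 := hmono (d - 1).toNat (n + 1)
    have h2 : n + 1 + (((d - 1).toNat : ℕ) : ℤ) = n + d := by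
      rw [Int.toNat_of_nonneg (by omega)]
      ring
    rw [h2] at h1
    have h3 := hmul (n + d) (by omega)
    rw [add_sub_cancel_right] at h3
    exact h1.trans h3
  refine ⟨hfin, hmono, (N : ℤ), Module.finrank k (𝒜 (N : ℤ)), ?_⟩
  have hind : ∀ j : ℕ,
      Module.finrank k (𝒜 ((N : ℤ) + j)) = Module.finrank k (𝒜 (N : ℤ)) := by
    intro j
    induction j with
    | zero => rw [Nat.cast_zero, add_zero]
    | succ j ih =>
      have h1 := hstep ((N : ℤ) + j) (by omega)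
      have h3 : (N : ℤ) + ((j + 1 : ℕ) : ℤ) = (N : ℤ) + j + 1 := by push_cast; ring
      rw [h3, h1, ih]
  intro n hn
  have h1 := hind (n - N).toNat
  have h2 : (N : ℤ) + (((n - N).toNat : ℕ) : ℤ) = n := by
    rw [Int.toNat_of_nonneg (by omega)]
    ring
  rwa [h2] at h1

/-- a standard graded Cohen–Macaulay algebra of positive dimension whose piece of degree one has
dimension at most one has its irrelevant ideal generated by a linear form which is not nilpotent -/
theorem exists_gen_of_finrank_le_one [LocCoh.IsCohenMacaulayRing R] [Nontrivial R]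
    (hpos : ∀ n : ℤ, n < 0 → 𝒜 n = ⊥) (h0 : 𝒜 0 = Submodule.span k {(1 : R)})
    (hstd : Ideal.span (⋃ n ∈ Set.Ioi (0 : ℤ), (𝒜 n : Set R)) =
      Ideal.span ((𝒜 1 : Submodule k R) : Set R))
    (hdim1 : 1 ≤ ringKrullDim R) [Module.Finite k (𝒜 1)]
    (hf1 : Module.finrank k (𝒜 1) ≤ 1) :
    ∃ y ∈ 𝒜 1, irr 𝒜 = Ideal.span {y} ∧ ∀ n : ℕ, y ^ n ≠ 0 := by
  haveI : (𝒜 1).IsPrincipal := (Submodule.finrank_le_one_iff_isPrincipal (𝒜 1)).mp hf1
  obtain ⟨y, hy⟩ := Submodule.IsPrincipal.principal (𝒜 1)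
  have hy1 : y ∈ 𝒜 1 := by
    rw [hy]
    exact Submodule.mem_span_singleton_self y
  have hirry : irr 𝒜 = Ideal.span {y} := irr_eq_span_of_le hstd hy1 hy.le
  have hyn : ∀ n : ℕ, y ^ n ≠ 0 := by
    intro n hzero
    have h1 := piece_le_span_pow h0 hy1 hirry n
    rw [hzero, Submodule.span_zero_singleton, le_bot_iff] at h1
    have h2 := (piece_eq_bot_iff 𝒜 hpos h0 hstd hdim1 (n : ℤ)).mp h1
    omega
  exact ⟨y, hy1, hirry, hyn⟩

end Std

section Segre

variable {k : Type u} [Field k] {R S T : Type u} [CommRing R] [CommRing S] [CommRing T]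
  [Algebra k R] [Algebra k S] [Algebra k T]
  (𝒜 : ℤ → Submodule k R) (ℬ : ℤ → Submodule k S) (𝒯 : ℤ → Submodule k T)
  [GradedAlgebra 𝒜] [GradedAlgebra ℬ] [GradedAlgebra 𝒯]
  (ψ : T →ₐ[k] R ⊗[k] S) (hT : GrSeg.IsSegreRing 𝒜 ℬ 𝒯 ψ)

include hT in
/-- **the Segre product of standard graded algebras is standard graded** -/
theorem segre_std
    (hstdR : Ideal.span (⋃ n ∈ Set.Ioi (0 : ℤ), (𝒜 n : Set R)) =
      Ideal.span ((𝒜 1 : Submodule k R) : Set R))
    (hstdS : Ideal.span (⋃ n ∈ Set.Ioi (0 : ℤ), (ℬ n : Set S)) =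
      Ideal.span ((ℬ 1 : Submodule k S) : Set S)) :
    Ideal.span (⋃ n ∈ Set.Ioi (0 : ℤ), (𝒯 n : Set T)) =
      Ideal.span ((𝒯 1 : Submodule k T) : Set T) := by
  classical
  apply le_antisymm
  · rw [Ideal.span_le]
    intro t ht
    obtain ⟨n, hn, htn⟩ := Set.mem_iUnion₂.mp ht
    have hn0 : 0 < n := hn
    obtain ⟨m, rfl⟩ : ∃ m : ℤ, n = m + 1 := ⟨n - 1, by ring⟩
    have hm : 0 ≤ m := by omega
    let J : Ideal T := Ideal.span ((𝒯 1 : Submodule k T) : Set T)
    let W : Submodule k (R ⊗[k] S) := (J.restrictScalars k).map ψ.toLinearMap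
    have hgen : ∀ a' ∈ 𝒜 m, ∀ y ∈ 𝒜 1, ∀ b' ∈ ℬ m, ∀ z ∈ ℬ 1,
        (a' * y) ⊗ₜ[k] (b' * z) ∈ W := by
      intro a' ha' y hy b' hb' z hz
      have h1 : a' ⊗ₜ[k] b' ∈ (𝒯 m).map ψ.toLinearMap := by
        rw [hT.2 m]
        exact Submodule.subset_span ⟨a', ha', b', hb', rfl⟩
      have h2 : y ⊗ₜ[k] z ∈ (𝒯 1).map ψ.toLinearMap := by
        rw [hT.2 1]
        exact Submodule.subset_span ⟨y, hy, z, hz, rfl⟩
      obtain ⟨t2, ht2, ht2e⟩ := h1
      obtain ⟨t1, ht1, ht1e⟩ := h2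
      refine ⟨t2 * t1, ?_, ?_⟩
      · exact Ideal.mul_mem_left _ _ (Ideal.subset_span ht1)
      · show ψ (t2 * t1) = _
        have e2 : ψ t2 = a' ⊗ₜ[k] b' := ht2e
        have e1 : ψ t1 = y ⊗ₜ[k] z := ht1e
        rw [map_mul, e2, e1, Algebra.TensorProduct.tmul_mul_tmul]
    have hstep1 : ∀ a' ∈ 𝒜 m, ∀ y ∈ 𝒜 1,
        ∀ b ∈ Submodule.span k {w : S | ∃ b' ∈ ℬ m, ∃ z ∈ ℬ 1, w = b' * z},
        (a' * y) ⊗ₜ[k] b ∈ W := by
      intro a' ha' y hy b hb
      induction hb using Submodule.span_induction with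
      | mem v hv =>
        obtain ⟨b', hb', z, hz, rfl⟩ := hv
        exact hgen a' ha' y hy b' hb' z hz
      | zero =>
        rw [TensorProduct.tmul_zero]
        exact W.zero_mem
      | add v v' _ _ h1 h2 =>
        rw [TensorProduct.tmul_add]
        exact W.add_mem h1 h2
      | smul c v _ h1 =>
        rw [TensorProduct.tmul_smul]
        exact W.smul_mem c h1
    have hstep2 : ∀ b ∈ Submodule.span k {w : S | ∃ b' ∈ ℬ m, ∃ z ∈ ℬ 1, w = b' * z},
        ∀ a ∈ Submodule.span k {w : R | ∃ a' ∈ 𝒜 m, ∃ y ∈ 𝒜 1, w = a' * y},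
        a ⊗ₜ[k] b ∈ W := by
      intro b hb a ha
      induction ha using Submodule.span_induction with
      | mem w hw =>
        obtain ⟨a', ha', y, hy, rfl⟩ := hw
        exact hstep1 a' ha' y hy b hb
      | zero =>
        rw [TensorProduct.zero_tmul]
        exact W.zero_mem
      | add w w' _ _ h1 h2 =>
        rw [TensorProduct.add_tmul]
        exact W.add_mem h1 h2
      | smul c w _ h1 =>
        rw [← TensorProduct.smul_tmul']
        exact W.smul_mem c h1
    have h3 : ψ.toLinearMap t ∈ (𝒯 (m + 1)).map ψ.toLinearMap := ⟨t, htn, rfl⟩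
    rw [hT.2 (m + 1)] at h3
    have h4 : Submodule.span k {x : R ⊗[k] S | ∃ a ∈ 𝒜 (m + 1), ∃ b ∈ ℬ (m + 1),
        x = a ⊗ₜ[k] b} ≤ W := by
      rw [Submodule.span_le]
      rintro x ⟨a, ha, b, hb, rfl⟩
      exact hstep2 b (piece_succ_le_span ℬ hstdS m hm hb) a (piece_succ_le_span 𝒜 hstdR m hm ha)
    obtain ⟨t', ht', ht'e⟩ := h4 h3
    have h5 : t' = t := hT.1 ht'e
    rw [← h5]
    exact ht'
  · apply Ideal.span_mono
    intro t ht
    exact Set.mem_biUnion (Set.mem_Ioi.mpr one_pos) ht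

include hT in
/-- **the Segre product with a polynomial ring in one variable is the other factor** -/
theorem nonempty_ringEquiv_of_gen (hposR : ∀ n : ℤ, n < 0 → 𝒜 n = ⊥)
    (hposS : ∀ n : ℤ, n < 0 → ℬ n = ⊥) (h0S : ℬ 0 = Submodule.span k {(1 : S)}) {y : S}
    (hy : y ∈ ℬ 1) (hirr : irr ℬ = Ideal.span {y}) (hne : ∀ n : ℕ, y ^ n ≠ 0) :
    Nonempty (T ≃+* R) := by
  classical
  have hposT := segre_pos 𝒜 ℬ 𝒯 ψ hT hposR
  have hpow : ∀ n : ℕ, y ^ n ∈ ℬ (n : ℤ) := by
    intro n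
    have h1 := SetLike.pow_mem_graded n hy
    rwa [nsmul_eq_mul, mul_one] at h1
  have hcoef : ∀ (p : k[X]) (n : ℕ),
      GradedAlgebra.proj ℬ (n : ℤ) (Polynomial.aeval y p) = p.coeff n • y ^ n := by
    intro p n
    rw [Polynomial.aeval_eq_sum_range, map_sum, Finset.sum_eq_single n]
    · rw [map_smul, Groth.Agent.Lib.Helper6.SegDim.proj_of_mem (hpow n)]
    · intro m _ hmn
      rw [map_smul, Groth.Agent.Lib.Helper6.SegDim.proj_of_mem_ne (hpow m)
        (by exact_mod_cast hmn), smul_zero]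
    · intro hn
      have h1 : p.coeff n = 0 := by
        apply Polynomial.coeff_eq_zero_of_natDegree_lt
        rw [Finset.mem_range] at hn
        omega
      rw [h1, zero_smul, map_zero]
  have hinj : Function.Injective (Polynomial.aeval (R := k) y) := by
    rw [injective_iff_map_eq_zero]
    intro p hp
    ext n
    have h1 := hcoef p n
    rw [hp, map_zero] at h1
    rw [Polynomial.coeff_zero]
    exact (smul_eq_zero.mp h1.symm).resolve_right (hne n)
  have hsurj : Function.Surjective (Polynomial.aeval (R := k) y) := by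
    intro a
    have hmem : ∀ (i : ℤ) (b : S), b ∈ ℬ i → b ∈ (Polynomial.aeval (R := k) y).range := by
      intro i b hb
      rcases lt_or_ge i 0 with hi | hi
      · rw [eq_zero_of_mem_neg hposS hi hb]
        exact Subalgebra.zero_mem _
      · obtain ⟨n, rfl⟩ := Int.eq_ofNat_of_zero_le hi
        obtain ⟨c, hc⟩ := Submodule.mem_span_singleton.mp (piece_le_span_pow h0S hy hirr n hb)
        rw [← hc]
        refine Subalgebra.smul_mem _ ?_ c
        refine Subalgebra.pow_mem _ ?_ n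
        exact (AlgHom.mem_range _).mpr ⟨Polynomial.X, Polynomial.aeval_X y⟩
    have h1 : a ∈ (Polynomial.aeval (R := k) y).range := by
      rw [← DirectSum.sum_support_decompose ℬ a]
      exact Subalgebra.sum_mem _ (fun i _ => hmem i _ (DirectSum.decompose ℬ a i).2)
    exact (AlgHom.mem_range _).mp h1
  let ε : k[X] ≃ₐ[k] S := AlgEquiv.ofBijective (Polynomial.aeval (R := k) y) ⟨hinj, hsurj⟩
  let χ : S →ₐ[k] k := (Polynomial.aeval (1 : k)).comp (ε.symm : S →ₐ[k] k[X])
  have hεX : ε Polynomial.X = y := Polynomial.aeval_X y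
  have hχy : χ y = 1 := by
    show Polynomial.aeval (1 : k) (ε.symm y) = 1
    rw [← hεX, AlgEquiv.symm_apply_apply, Polynomial.aeval_X]
  have hχpow : ∀ n : ℕ, χ (y ^ n) = 1 := fun n => by rw [map_pow, hχy, one_pow]
  let π : R ⊗[k] S →ₐ[k] R :=
    Algebra.TensorProduct.lift (AlgHom.id k R) ((Algebra.ofId k R).comp χ)
      (fun _ _ => Commute.all _ _)
  have hπ : ∀ (a : R) (b : S), π (a ⊗ₜ[k] b) = χ b • a := by
    intro a b
    show Algebra.TensorProduct.lift (AlgHom.id k R) ((Algebra.ofId k R).comp χ)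
      (fun _ _ => Commute.all _ _) (a ⊗ₜ[k] b) = _
    rw [Algebra.TensorProduct.lift_tmul]
    show a * algebraMap k R (χ b) = χ b • a
    rw [Algebra.smul_def, mul_comm]
  let Φ : T →ₐ[k] R := π.comp ψ
  have key1 : ∀ n : ℕ, ∀ w ∈ Submodule.span k {x : R ⊗[k] S | ∃ a ∈ 𝒜 (n : ℤ),
      ∃ b ∈ ℬ (n : ℤ), x = a ⊗ₜ[k] b}, π w ∈ 𝒜 (n : ℤ) ∧ w = π w ⊗ₜ[k] (y ^ n) := by
    intro n w hw
    induction hw using Submodule.span_induction with
    | mem x hx =>
      obtain ⟨a, ha, b, hb, rfl⟩ := hx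
      obtain ⟨c, hc⟩ := Submodule.mem_span_singleton.mp (piece_le_span_pow h0S hy hirr n hb)
      have hχb : χ b = c := by rw [← hc, map_smul, hχpow, smul_eq_mul, mul_one]
      rw [hπ, hχb]
      refine ⟨(𝒜 (n : ℤ)).smul_mem c ha, ?_⟩
      rw [← hc, TensorProduct.tmul_smul, TensorProduct.smul_tmul']
    | zero =>
      rw [map_zero]
      exact ⟨(𝒜 (n : ℤ)).zero_mem, (TensorProduct.zero_tmul _ _).symm⟩
    | add u v _ _ hu hv =>
      rw [map_add]
      refine ⟨(𝒜 (n : ℤ)).add_mem hu.1 hv.1, ?_⟩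
      rw [TensorProduct.add_tmul, ← hu.2, ← hv.2]
    | smul c u _ hu =>
      rw [map_smul]
      refine ⟨(𝒜 (n : ℤ)).smul_mem c hu.1, ?_⟩
      rw [← TensorProduct.smul_tmul', ← hu.2]
  have hΦ : ∀ (n : ℕ) (t : T), t ∈ 𝒯 (n : ℤ) →
      Φ t ∈ 𝒜 (n : ℤ) ∧ ψ t = Φ t ⊗ₜ[k] (y ^ n) := by
    intro n t ht
    have h1 : ψ.toLinearMap t ∈ (𝒯 (n : ℤ)).map ψ.toLinearMap := ⟨t, ht, rfl⟩
    rw [hT.2 (n : ℤ)] at h1
    exact key1 n _ h1
  have hΦgr : ∀ (i : ℤ) (t : T), t ∈ 𝒯 i → Φ t ∈ 𝒜 i := by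
    intro i t ht
    rcases lt_or_ge i 0 with hi | hi
    · rw [hposT i hi, Submodule.mem_bot] at ht
      rw [ht, map_zero]
      exact (𝒜 i).zero_mem
    · obtain ⟨n, rfl⟩ := Int.eq_ofNat_of_zero_le hi
      exact (hΦ n t ht).1
  have hΦinj0 : ∀ (i : ℤ) (t : T), t ∈ 𝒯 i → Φ t = 0 → t = 0 := by
    intro i t ht h0
    rcases lt_or_ge i 0 with hi | hi
    · rw [hposT i hi, Submodule.mem_bot] at ht
      exact ht
    · obtain ⟨n, rfl⟩ := Int.eq_ofNat_of_zero_le hi
      have h1 := (hΦ n t ht).2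
      rw [h0, TensorProduct.zero_tmul] at h1
      exact hT.1 (by rw [h1, map_zero])
  have hproj : ∀ (i : ℤ) (t : T),
      GradedAlgebra.proj 𝒜 i (Φ t) = Φ (DirectSum.decompose 𝒯 t i : T) := by
    intro i t
    have h1 : Φ t = ∑ j ∈ (DirectSum.decompose 𝒯 t).support, Φ (DirectSum.decompose 𝒯 t j : T) := by
      conv_lhs => rw [← DirectSum.sum_support_decompose 𝒯 t]
      rw [map_sum]
    rw [h1, map_sum]
    by_cases hi : i ∈ (DirectSum.decompose 𝒯 t).support
    · rw [Finset.sum_eq_single i]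
      · exact Groth.Agent.Lib.Helper6.SegDim.proj_of_mem
          (hΦgr i _ (DirectSum.decompose 𝒯 t i).2)
      · intro j _ hji
        exact Groth.Agent.Lib.Helper6.SegDim.proj_of_mem_ne
          (hΦgr j _ (DirectSum.decompose 𝒯 t j).2) hji
      · intro h
        exact absurd hi h
    · have h2 : (DirectSum.decompose 𝒯 t i : T) = 0 := by
        have h3 := DFinsupp.notMem_support_iff.mp hi
        rw [h3]
        rfl
      rw [h2, map_zero]
      apply Finset.sum_eq_zero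
      intro j hj
      have hji : j ≠ i := fun h => hi (h ▸ hj)
      exact Groth.Agent.Lib.Helper6.SegDim.proj_of_mem_ne
        (hΦgr j _ (DirectSum.decompose 𝒯 t j).2) hji
  have hinjΦ : Function.Injective Φ := by
    rw [injective_iff_map_eq_zero]
    intro t ht
    have h1 : ∀ i, (DirectSum.decompose 𝒯 t i : T) = 0 := by
      intro i
      apply hΦinj0 i _ (DirectSum.decompose 𝒯 t i).2
      have h2 := hproj i t
      rw [ht, map_zero] at h2
      exact h2.symm
    rw [← DirectSum.sum_support_decompose 𝒯 t]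
    exact Finset.sum_eq_zero (fun i _ => h1 i)
  have hsurjΦ : Function.Surjective Φ := by
    intro r
    have hmem : ∀ (i : ℤ) (b : R), b ∈ 𝒜 i → b ∈ Φ.range := by
      intro i b hb
      rcases lt_or_ge i 0 with hi | hi
      · rw [hposR i hi, Submodule.mem_bot] at hb
        rw [hb]
        exact Subalgebra.zero_mem _
      · obtain ⟨n, rfl⟩ := Int.eq_ofNat_of_zero_le hi
        have h1 : b ⊗ₜ[k] (y ^ n) ∈ (𝒯 (n : ℤ)).map ψ.toLinearMap := by
          rw [hT.2 (n : ℤ)]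
          exact Submodule.subset_span ⟨b, hb, y ^ n, hpow n, rfl⟩
        obtain ⟨t, ht, hte⟩ := h1
        refine (AlgHom.mem_range _).mpr ⟨t, ?_⟩
        show π (ψ t) = b
        have hte' : ψ t = b ⊗ₜ[k] (y ^ n) := hte
        rw [hte', hπ, hχpow, one_smul]
    have h1 : r ∈ Φ.range := by
      rw [← DirectSum.sum_support_decompose 𝒜 r]
      exact Subalgebra.sum_mem _ (fun i _ => hmem i _ (DirectSum.decompose 𝒜 r i).2)
    exact (AlgHom.mem_range _).mp h1
  exact ⟨(AlgEquiv.ofBijective Φ ⟨hinjΦ, hsurjΦ⟩).toRingEquiv⟩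

end Segre

end Groth.Agent.Helper8.SG
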