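import Mathlib
import Groth.Prelude.Def_GrLC
import Groth.Prelude.Def_GrSeg
import Groth.Agent.Lib.Helper8.SG17
import Groth.Agent.Lib.Helper8.GP1
import Groth.Agent.Lib.Helper8.GorFlat5
import Groth.Agent.Lib.Helper6.GSF.GSe

set_option autoImplicit false
set_option linter.unusedSectionVars false
set_option linter.unusedVariables false
set_option linter.unusedSimpArgs false
set_option linter.style.haveILetI false
set_option linter.overlappingInstances false
set_option maxHeartbeats 1600000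

/-!
# A Gorenstein Segre product of standard graded Cohen–Macaulay algebras of dimension one (helper8)

If `R`, `S` are standard graded Cohen–Macaulay of dimension one, `R` is not a polynomial ring and
`R # S` is Gorenstein, then `S` is a polynomial ring and `R` is Gorenstein.  The proof compares the
Grothendieck–Serre formula `dim H^1(T)_n = e(T) - H_T(n)` with the Gorenstein symmetry
`dim H^1(T)_n = H_T(a - n)`.
-/

universe u

namespace Groth.Agent.Helper8.SG

open scoped TensorProduct Polynomial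
open CategoryTheory DirectSum Groth.Agent.Helper9.GrLCLib Groth.Agent.Helper9.GrLCLib.Trans
open Groth.Agent.Helper8.LC Groth.Agent.Lib.Helper6.CMReg Groth.Agent.Lib.Helper6.SegK
open Groth.Agent.Helper9.SegreLib Groth.Agent.Helper8.GD Groth.Agent.Lib.Helper6.SegCM
open Groth.Agent.Helper8.GB Groth.Agent.Lib.Helper6.SegDim Groth.Agent.Helper9 Groth.Agent.Helper8

/-- **S18660** -/
theorem segre_dim_one_gorenstein (k : Type u) [Field k] (R : Type u) [CommRing R] [Algebra k R]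
    (𝒜 : ℤ → Submodule k R) [GradedAlgebra 𝒜] (hposR : ∀ n : ℤ, n < 0 → 𝒜 n = ⊥)
    (h0R : 𝒜 0 = Submodule.span k {(1 : R)}) [Algebra.FiniteType k R] (S : Type u) [CommRing S]
    [Algebra k S] (ℬ : ℤ → Submodule k S) [GradedAlgebra ℬ] (hposS : ∀ n : ℤ, n < 0 → ℬ n = ⊥)
    (h0S : ℬ 0 = Submodule.span k {(1 : S)}) [Algebra.FiniteType k S] (T : Type u) [CommRing T]
    [Algebra k T] (𝒯 : ℤ → Submodule k T) [GradedAlgebra 𝒯] (ψ : T →ₐ[k] TensorProduct k R S)
    (hψ : Function.Injective ψ)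
    (hdegT : ∀ n : ℤ, (𝒯 n).map ψ.toLinearMap =
      Submodule.span k {x : TensorProduct k R S | ∃ a ∈ 𝒜 n, ∃ b ∈ ℬ n, x = a ⊗ₜ[k] b})
    [LocCoh.IsCohenMacaulayRing R] [LocCoh.IsCohenMacaulayRing S]
    (hstdR : Ideal.span (⋃ n ∈ Set.Ioi (0 : ℤ), (𝒜 n : Set R)) =
      Ideal.span ((𝒜 1 : Submodule k R) : Set R))
    (hstdS : Ideal.span (⋃ n ∈ Set.Ioi (0 : ℤ), (ℬ n : Set S)) =
      Ideal.span ((ℬ 1 : Submodule k S) : Set S))
    (hr : ringKrullDim R = 1) (hs : ringKrullDim S = 1)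
    (hR : IsEmpty (R ≃ₐ[k] Polynomial k)) [hGT : LocCoh.IsGorensteinRing T] :
    Nonempty (S ≃ₐ[k] Polynomial k) ∧ LocCoh.IsGorensteinRing R := by
  classical
  have hT : GrSeg.IsSegreRing 𝒜 ℬ 𝒯 ψ := ⟨hψ, hdegT⟩
  haveI : IsNoetherianRing R := Algebra.FiniteType.isNoetherianRing k R
  haveI : IsNoetherianRing S := Algebra.FiniteType.isNoetherianRing k S
  have hr' : ringKrullDim R = ((1 : ℕ) : WithBot ℕ∞) := by rw [hr, Nat.cast_one]
  have hs' : ringKrullDim S = ((1 : ℕ) : WithBot ℕ∞) := by rw [hs, Nat.cast_one]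
  haveI : Nontrivial R := nontrivial_of_dim hr'
  haveI : Nontrivial S := nontrivial_of_dim hs'
  haveI : IsNoetherianRing T :=
    Groth.Agent.Helper3.Segre.isNoetherianRing_of_segre 𝒜 ℬ 𝒯 ψ hT.2 hT.1
  haveI : Nontrivial T := nontrivial_of_segre ψ
  have hposT := segre_pos 𝒜 ℬ 𝒯 ψ hT hposR
  have h0T := segre_zero 𝒜 ℬ 𝒯 ψ hT h0R h0S
  have h0R' := h0_of_span h0R
  have h0S' := h0_of_span h0S
  have h0T' := h0_of_span h0T
  haveI hCMT : LocCoh.IsCohenMacaulayRing T :=
    Groth.Agent.Helper8.GorFlat.isCohenMacaulayRing_of_isGorensteinRing T hGT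
  have h1R : 1 ≤ ringKrullDim R := by rw [hr]
  have h1S : 1 ≤ ringKrullDim S := by rw [hs]
  have hdimT : ringKrullDim T = ((1 : ℕ) : WithBot ℕ∞) :=
    ringKrullDim_segre 𝒜 hposR h0R ℬ hposS h0S T 𝒯 ψ hT.1 hT.2 1 1 hr' hs' le_rfl le_rfl
  have hinjR : Function.Injective (algebraMap k R) := (algebraMap k R).injective
  have hinjS : Function.Injective (algebraMap k S) := (algebraMap k S).injective
  have hinjT : Function.Injective (algebraMap k T) := (algebraMap k T).injective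
  let aT : HomogeneousIdeal (toAG 𝒯) := GrSyz.irrel (toAG 𝒯)
  have haT : aT.toIdeal = Ideal.span (⋃ n ∈ Set.Ioi (0 : ℤ), (toAG 𝒯 n : Set T)) :=
    irrel_toIdeal (toAG 𝒯)
  have hFT : FieldGr (toAG 𝒯) aT := ⟨toAG_eq_bot 𝒯 hposT, isField_deg0 𝒯 h0T', haT⟩
  have hstdT := segre_std 𝒜 ℬ 𝒯 ψ hT hstdR hstdS
  have hstdT' : Ideal.span (⋃ n ∈ Set.Ioi (0 : ℤ), (toAG 𝒯 n : Set T)) =
      Ideal.span ((toAG 𝒯 1 : AddSubgroup T) : Set T) := hstdT
  obtain ⟨ET, eT, heT⟩ := Groth.Agent.Helper8.GV.exists_starInjHull_quot (toAG 𝒯) aT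
  obtain ⟨IT⟩ := Groth.Agent.S13215.result T (toAG 𝒯) T (toAG 𝒯)
  -- the Hilbert functions
  obtain ⟨finR, monoR, NR, eR, hNR⟩ := exists_hilbert_const 𝒜 hposR h0R hstdR hr
  obtain ⟨finS, monoS, NS, eS, hNS⟩ := exists_hilbert_const ℬ hposS h0S hstdS hs
  have cR : ∀ n : ℤ, Module.finrank k (𝒜 n) =
      Module.finrank (GrLC.deg0 (toAG 𝒜)) (GrLC.comp (toAG 𝒜) (toAG 𝒜) n) :=
    fun n => finrank_eq_of_rank_eq (rank_piece_eq (𝒜 := 𝒜) h0R' hinjR n)
  have cS : ∀ n : ℤ, Module.finrank k (ℬ n) =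
      Module.finrank (GrLC.deg0 (toAG ℬ)) (GrLC.comp (toAG ℬ) (toAG ℬ) n) :=
    fun n => finrank_eq_of_rank_eq (rank_piece_eq (𝒜 := ℬ) h0S' hinjS n)
  have hprod : ∀ n : ℤ,
      Module.finrank (GrLC.deg0 (toAG 𝒯)) (GrLC.comp (toAG 𝒯) (toAG 𝒯) n) =
        Module.finrank k (𝒜 n) * Module.finrank k (ℬ n) := by
    intro n
    rw [cR, cS]
    exact finrank_comp_segre ψ hT h0R' h0S' h0T' n
  have hleR : ∀ n : ℤ, Module.finrank k (𝒜 n) ≤ eR := by
    intro n
    have h1 := monoR (max n NR - n).toNat n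
    have h2 : n + (((max n NR - n).toNat : ℕ) : ℤ) = max n NR := by
      rw [Int.toNat_of_nonneg (by have := le_max_left n NR; omega)]
      ring
    rw [h2, hNR _ (le_max_right n NR)] at h1
    exact h1
  have hleS : ∀ n : ℤ, Module.finrank k (ℬ n) ≤ eS := by
    intro n
    have h1 := monoS (max n NS - n).toNat n
    have h2 : n + (((max n NS - n).toNat : ℕ) : ℤ) = max n NS := by
      rw [Int.toNat_of_nonneg (by have := le_max_left n NS; omega)]
      ring
    rw [h2, hNS _ (le_max_right n NS)] at h1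
    exact h1
  have hR0 : Module.finrank k (𝒜 0) = 1 := by
    rw [h0R]
    exact finrank_span_singleton one_ne_zero
  have hS0 : Module.finrank k (ℬ 0) = 1 := by
    rw [h0S]
    exact finrank_span_singleton one_ne_zero
  have heS1 : 1 ≤ eS := by
    have := hleS 0
    rw [hS0] at this
    exact this
  -- the Grothendieck–Serre formula for `T`
  haveI hArt : IsArtinianRing (GrLC.deg0 (toAG 𝒯)) := by
    letI : Field (GrLC.deg0 (toAG 𝒯)) := hFT.field.toField
    infer_instance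
  have hlen : ∀ (M : Type u) [AddCommGroup M] [Module (GrLC.deg0 (toAG 𝒯)) M],
      (Module.length (GrLC.deg0 (toAG 𝒯)) M).toNat =
        Module.finrank (GrLC.deg0 (toAG 𝒯)) M := by
    intro M _ _
    letI : Field (GrLC.deg0 (toAG 𝒯)) := hFT.field.toField
    rw [Module.length_eq_rank, Cardinal.toNat_toENat]
    rfl
  have hP : ∃ N : ℤ, ∀ n : ℤ, N ≤ n → (Polynomial.C ((eR * eS : ℕ) : ℚ)).eval (n : ℚ) =
      ((Module.length (GrLC.deg0 (toAG 𝒯)) (GrLC.comp (toAG 𝒯) (toAG 𝒯) n)).toNat : ℚ) := by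
    refine ⟨max NR NS, fun n hn => ?_⟩
    rw [Polynomial.eval_C, hlen, hprod, hNR n (le_trans (le_max_left _ _) hn),
      hNS n (le_trans (le_max_right _ _) hn)]
  have hGS := fun n : ℤ => Groth.Agent.Lib.Helper6.GSF.main_17770 T (toAG 𝒯)
    (toAG_eq_bot 𝒯 hposT) hstdT' aT (Groth.Agent.Helper8.GP.isStarLocal_of_fieldGr hFT) 1 hdimT
    T (toAG 𝒯) IT (Polynomial.C ((eR * eS : ℕ) : ℚ)) hP n
  -- Gorenstein: the top local cohomology is a shift of the *injective envelope
  haveI hprimeT : aT.toIdeal.IsPrime := hFT.isMaximal.isPrime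
  have hGloc : LocCoh.IsGorensteinLocalRing (Localization.AtPrime aT.toIdeal) :=
    hGT.isGorensteinLocalRing_localization aT.toIdeal
  have hnloc : ringKrullDim (Localization.AtPrime aT.toIdeal) = ((1 : ℕ) : WithBot ℕ∞) := by
    rw [ringKrullDim_atPrime hFT, hdimT]
  obtain ⟨hvan, g₀, β, hβ⟩ := exists_grEquiv_of_gorenstein hFT heT IT 1 hGloc hnloc
  let X : GrLC.GMod.{u} (toAG 𝒯) := HGMod (toAG 𝒯) (toAG 𝒯) IT aT 1
  have hXgr : X.gr = IT.Hgr aT 1 := HGMod_gr (toAG 𝒯) (toAG 𝒯) IT aT 1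
  let βX : ET.carrier ≃ₗ[T] X.carrier := β
  have hβX : GrLC.IsGrHomDeg ET.gr X.gr βX.toLinearMap g₀ := by
    rw [hXgr]
    exact hβ
  have hβs := symm_isGrHomDeg' ET.gr X.gr βX hβX
  have hH1 : ∀ n : ℤ, Module.finrank (GrLC.deg0 (toAG 𝒯)) (IT.Hcomp aT 1 n) =
      Module.finrank k (𝒜 (g₀ - n)) * Module.finrank k (ℬ (g₀ - n)) := by
    intro n
    have h1 : Module.finrank (GrLC.deg0 (toAG 𝒯)) (GrLC.comp (toAG 𝒯) ET.gr (n - g₀)) =
        Module.finrank (GrLC.deg0 (toAG 𝒯)) (IT.Hcomp aT 1 n) := by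
      apply finrank_eq_of_rank_eq
      refine rank_eq_of_semilinear (id : GrLC.deg0 (toAG 𝒯) → GrLC.deg0 (toAG 𝒯))
        Function.bijective_id (GrLC.comp (toAG 𝒯) ET.gr (n - g₀)) (IT.Hcomp aT 1 n)
        β.toLinearMap.toAddMonoidHom β.injective ?_ ?_
      · intro c x
        exact map_smul β (c : T) x
      · intro y
        constructor
        · intro hy
          refine ⟨β.symm y, ?_, β.apply_symm_apply y⟩
          have hy' : y ∈ X.gr n := by
            rw [hXgr]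
            exact hy
          have h3 := hβs n y hy'
          rw [← sub_eq_add_neg] at h3
          exact h3
        · rintro ⟨x, hx, rfl⟩
          have h3 := hβ (n - g₀) x hx
          rw [sub_add_cancel] at h3
          exact h3
    have h2 := (Groth.Agent.Helper8.GV.finrank_E_piece hFT heT (g₀ - n)).2
    rw [neg_sub] at h2
    rw [← h1, h2, hprod]
  have hH0 : ∀ n : ℤ, Module.finrank (GrLC.deg0 (toAG 𝒯)) (IT.Hcomp aT 0 n) = 0 := by
    intro n
    haveI := hvan 0 (by norm_num)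
    haveI : Subsingleton ↥(IT.Hcomp aT 0 n) :=
      ⟨fun a b => Subtype.ext (Subsingleton.elim _ _)⟩
    exact Module.finrank_zero_of_subsingleton
  have hsym : ∀ n : ℤ, Module.finrank k (𝒜 n) * Module.finrank k (ℬ n) +
      Module.finrank k (𝒜 (g₀ - n)) * Module.finrank k (ℬ (g₀ - n)) = eR * eS := by
    intro n
    have h1 := hGS n
    rw [Finset.sum_range_succ, Finset.sum_range_one] at h1
    simp only [hlen] at h1
    rw [hH0, hH1, hprod, Polynomial.eval_C] at h1
    have h2 : ((Module.finrank k (𝒜 n) * Module.finrank k (ℬ n) +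
        Module.finrank k (𝒜 (g₀ - n)) * Module.finrank k (ℬ (g₀ - n)) : ℕ) : ℚ) =
        ((eR * eS : ℕ) : ℚ) := by
      push_cast at h1 ⊢
      linarith
    exact_mod_cast h2
  -- the numerical argument
  have key := hsym g₀
  rw [sub_self, hR0, hS0, mul_one] at key
  have huR := hleR g₀
  have hvS := hleS g₀
  have h2R : 2 ≤ eR := by
    by_contra hlt
    have h1 : Module.finrank k (𝒜 1) ≤ 1 := (hleR 1).trans (by omega)
    haveI := finR 1
    obtain ⟨y, hy, hirr, hne⟩ := exists_gen_of_finrank_le_one 𝒜 hposR h0R hstdR h1R h1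
    obtain ⟨ε⟩ := nonempty_algEquiv_polynomial hposR h0R hy hirr hne
    exact hR.false ε
  have heS : eS = 1 := by
    by_contra hne1
    have heS2 : 2 ≤ eS := by omega
    obtain ⟨u, hu⟩ : ∃ u, u = Module.finrank k (𝒜 g₀) := ⟨_, rfl⟩
    obtain ⟨v, hv⟩ : ∃ v, v = Module.finrank k (ℬ g₀) := ⟨_, rfl⟩
    rw [← hu, ← hv] at key
    rw [← hu] at huR
    rw [← hv] at hvS
    rcases Nat.lt_or_ge u eR with hlt | hge
    · have h1 : u * v ≤ u * eS := Nat.mul_le_mul_left u hvS
      have h2 : (u + 1) * eS ≤ eR * eS := Nat.mul_le_mul_right eS hlt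
      rw [add_mul, one_mul] at h2
      linarith
    · have hueq : u = eR := le_antisymm huR hge
      rw [hueq] at key
      rcases Nat.lt_or_ge v eS with hvlt | hvge
      · have h3 : eR * (v + 1) ≤ eR * eS := Nat.mul_le_mul_left eR hvlt
        rw [mul_add, mul_one] at h3
        linarith
      · have hveq : v = eS := le_antisymm hvS hvge
        rw [hveq] at key
        linarith
  -- conclusion
  have h1S' : Module.finrank k (ℬ 1) ≤ 1 := by
    have := hleS 1
    rw [heS] at this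
    exact this
  haveI := finS 1
  obtain ⟨y, hy, hirr, hne⟩ := exists_gen_of_finrank_le_one ℬ hposS h0S hstdS h1S h1S'
  refine ⟨nonempty_algEquiv_polynomial hposS h0S hy hirr hne, ?_⟩
  obtain ⟨Θ⟩ := nonempty_ringEquiv_of_gen 𝒜 ℬ 𝒯 ψ hT hposR hposS h0S hy hirr hne
  exact Groth.Agent.Helper8.GorFlat.isGorensteinRing_of_ringEquiv Θ hGT

end Groth.Agent.Helper8.SG
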