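import Mathlib
import Groth.Prelude.Def_GrLC
import Groth.Prelude.Def_GrSeg
import Groth.Agent.Lib.Helper8.LC28
import Groth.Agent.Lib.Helper8.SG14

set_option autoImplicit false
set_option linter.unusedSectionVars false
set_option linter.unusedVariables false
set_option linter.unusedSimpArgs false
set_option linter.style.haveILetI false
set_option maxHeartbeats 800000

/-!
# Local cohomology of a Segre product `X # V` when a homogeneous element of positive degree acts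
bijectively on `V`: `H^q_{T_+}(X # V) ≅ H^q_{R_+}(X) # V`, as graded modules (helper8)

The proof is by dimension shifting along the first two terms of the Čech complex of `X`.
-/

universe u

namespace Groth.Agent.Helper8.SG

open scoped TensorProduct
open CategoryTheory DirectSum Groth.Agent.Helper9.GrLCLib Groth.Agent.Helper9.GrLCLib.Trans
open Groth.Agent.Helper8.LC Groth.Agent.Lib.Helper6.CMReg Groth.Agent.Lib.Helper6.SegK
open Groth.Agent.Helper9.SegreLib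

section Left0

variable {R : Type u} [CommRing R] [IsNoetherianRing R] {𝒜 : ℤ → AddSubgroup R} [GradedRing 𝒜]

/-- the three parts of a short exact sequence -/
lemma ses_parts {M₁ M₂ M₃ : Type u} [AddCommGroup M₁] [Module R M₁] [AddCommGroup M₂]
    [Module R M₂] [AddCommGroup M₃] [Module R M₃] (j : M₁ →ₗ[R] M₂) (p : M₂ →ₗ[R] M₃)
    (h : p ∘ₗ j = 0) (hS : (sesOf j p h).ShortExact) :
    Function.Injective j ∧ Function.Surjective p ∧ LinearMap.ker p ≤ LinearMap.range j := by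
  refine ⟨(ModuleCat.mono_iff_injective (sesOf j p h).f).mp hS.mono_f,
    (ModuleCat.epi_iff_surjective (sesOf j p h).g).mp hS.epi_g, ?_⟩
  intro m hm
  have := (ShortComplex.ShortExact.exact hS)
  rw [ShortComplex.moduleCat_exact_iff] at this
  obtain ⟨m₁, hm₁⟩ := this m hm
  exact ⟨m₁, hm₁⟩

/-- a submodule of a module without sections with support has no sections with support -/
lemma subsingleton_h0_of_injective (J : Ideal R) {X Y : Type u} [AddCommGroup X] [Module R X]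
    [AddCommGroup Y] [Module R Y] (f : X →ₗ[R] Y) (hf : Function.Injective f)
    (h : Subsingleton (LocCoh.H J 0 Y)) : Subsingleton (LocCoh.H J 0 X) := by
  apply subsingleton_h0_of_torsionSub_eq_bot
  have hY := torsionSub_eq_bot_of_subsingleton_h0 J Y h
  rw [eq_bot_iff]
  intro x hx
  obtain ⟨n, hn⟩ := hx
  have h1 : f x ∈ DRing.torsionSub J Y :=
    ⟨n, fun a ha => by rw [← map_smul, hn a ha, map_zero]⟩
  rw [hY] at h1
  have h2 : f x = 0 := (Submodule.mem_bot R).mp h1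
  exact (Submodule.mem_bot R).mpr (hf (h2.trans (map_zero f).symm))

variable (a : HomogeneousIdeal 𝒜)
variable (X₁ X₂ X₃ : GrLC.GMod.{u} 𝒜)
  (j : X₁.carrier →ₗ[R] X₂.carrier) (p : X₂.carrier →ₗ[R] X₃.carrier)
  (h : p ∘ₗ j = 0) (hS : (sesOf j p h).ShortExact)
  (hj : GrLC.IsGrHom X₁.gr X₂.gr j) (hp : GrLC.IsGrHom X₂.gr X₃.gr p)

include hS hj hp in
/-- the first map is a homogeneous isomorphism on `H^0` when the third term has no `H^0` -/
theorem giso_left0 (h1 : Subsingleton (LocCoh.H a.toIdeal 0 X₃.carrier)) :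
    GIso (LCGMod 𝒜 X₁.gr a 0) (LCGMod 𝒜 X₂.gr a 0) := by
  have hjinj : Function.Injective j := (ses_parts j p h hS).1
  let f : (LCGMod 𝒜 X₁.gr a 0).carrier →ₗ[R] (LCGMod 𝒜 X₂.gr a 0).carrier :=
    ((localCohomology a.toIdeal 0).map (ModuleCat.ofHom j)).hom
  refine GIso.of_bijective f ?_ ⟨?_, ?_⟩
  · intro g x hx
    exact (mem_LCGMod_gr 𝒜 X₂.gr a 0 g _).mpr
      (Van.LCgr_map_zero 𝒜 X₁.gr X₂.gr a.toIdeal 0 g j hj x
        ((mem_LCGMod_gr 𝒜 X₁.gr a 0 g x).mp hx))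
  · intro x y hxy
    apply ev0_injective a.toIdeal (ModuleCat.of R X₁.carrier)
    apply hjinj
    have h3 := ev0_map a.toIdeal (ModuleCat.ofHom j) x
    have h4 := ev0_map a.toIdeal (ModuleCat.ofHom j) y
    have hxy' : ((localCohomology a.toIdeal 0).map (ModuleCat.ofHom j)) x =
        ((localCohomology a.toIdeal 0).map (ModuleCat.ofHom j)) y := hxy
    rw [hxy'] at h3
    exact h3.symm.trans h4
  · intro v
    exact (exact_f_g a.toIdeal 0 hS v).mp (Subsingleton.elim _ _)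

/-- the first terms of the Čech complex: every graded module sits in a short exact sequence with a
torsion kernel, whose cokernel embeds in a module without local cohomology -/
theorem exists_shift_data
    (ha : a.toIdeal = Ideal.span (⋃ n ∈ Set.Ioi (0 : ℤ), (𝒜 n : Set R)))
    (X : GrLC.GMod.{u} 𝒜) :
    ∃ (Z0 C0 B1 C1 Q : GrLC.GMod.{u} 𝒜)
      (j₁ : Z0.carrier →ₗ[R] C0.carrier) (p₁ : C0.carrier →ₗ[R] B1.carrier)
      (h₁ : p₁ ∘ₗ j₁ = 0)
      (j₂ : B1.carrier →ₗ[R] C1.carrier) (p₂ : C1.carrier →ₗ[R] Q.carrier)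
      (h₂ : p₂ ∘ₗ j₂ = 0),
      GIso X C0 ∧ (sesOf j₁ p₁ h₁).ShortExact ∧ GrLC.IsGrHom Z0.gr C0.gr j₁ ∧
        GrLC.IsGrHom C0.gr B1.gr p₁ ∧ LocCoh.IsPowerTorsion a.toIdeal Z0.carrier ∧
        (sesOf j₂ p₂ h₂).ShortExact ∧ GrLC.IsGrHom B1.gr C1.gr j₂ ∧
        GrLC.IsGrHom C1.gr Q.gr p₂ ∧ BC C1 := by
  obtain ⟨xs, hxs1, hxs2⟩ := exists_list_gens_pos a ha
  obtain ⟨K⟩ := CPack.nonempty_cpack X xs hxs1
  have ha' : a.toIdeal ≤ Ideal.span {y | y ∈ xs} := hxs2.le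
  have hpos : ∀ e : ℤ, 0 < e → ∀ x ∈ 𝒜 e, x ∈ a.toIdeal := by
    intro e he x hx
    rw [ha]
    exact Ideal.subset_span (Set.mem_iUnion₂.mpr ⟨e, he, hx⟩)
  let K₀ : CoPack a X := K.toCoPack a ha' hpos
  have hle : K₀.B 1 ≤ K₀.C 1 := K₀.B_succ_le_C 0
  exact ⟨K₀.Zm 0, K₀.Cm 0, K₀.Bm 1, K₀.Cm 1,
    sqGMod K₀.T (K₀.B 1) (K₀.C 1) (K₀.B_hom 1) (K₀.C_hom 1),
    inclMap K₀.T (K₀.Z 0) (K₀.C 0) (K₀.Z_hom 0) (K₀.C_hom 0) inf_le_left,
    resMap K₀.T K₀.T K₀.D (K₀.C 0) (K₀.C_hom 0) (K₀.B_hom 1),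
    resMap_comp_inclMap K₀.T K₀.T K₀.D (K₀.C 0) (K₀.C_hom 0) (K₀.Z_hom 0) (K₀.B_hom 1),
    inclMap K₀.T (K₀.B 1) (K₀.C 1) (K₀.B_hom 1) (K₀.C_hom 1) hle,
    sqMap K₀.T (K₀.B 1) (K₀.C 1) (K₀.B_hom 1) (K₀.C_hom 1),
    sqMap_comp_inclMap K₀.T (K₀.B 1) (K₀.C 1) (K₀.B_hom 1) (K₀.C_hom 1) hle,
    ⟨K₀.φEquiv, K₀.isGrHom_φEquiv⟩, K₀.ses_a 0,
    isGrHom_inclMap K₀.T _ _ (K₀.Z_hom 0) (K₀.C_hom 0) inf_le_left,
    isGrHom_resMap K₀.T K₀.T K₀.D K₀.D_gr (K₀.C 0) (K₀.C_hom 0) (K₀.B_hom 1),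
    K₀.Zm_zero_torsion,
    ses_incl_sq K₀.T (K₀.B 1) (K₀.C 1) (K₀.B_hom 1) (K₀.C_hom 1) hle,
    isGrHom_inclMap K₀.T _ _ (K₀.B_hom 1) (K₀.C_hom 1) hle,
    isGrHom_sqMap K₀.T _ _ (K₀.B_hom 1) (K₀.C_hom 1),
    K.triv 1 le_rfl⟩

end Left0

section Seg

variable {k : Type u} [Field k] {R S T : Type u} [CommRing R] [CommRing S] [CommRing T]
  [Algebra k R] [Algebra k S] [Algebra k T] [IsNoetherianRing R] [IsNoetherianRing S]
  [IsNoetherianRing T]
  {𝒜 : ℤ → Submodule k R} {ℬ : ℤ → Submodule k S} {𝒯 : ℤ → Submodule k T}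
  [GradedAlgebra 𝒜] [GradedAlgebra ℬ] [GradedAlgebra 𝒯]
  (ψ : T →ₐ[k] R ⊗[k] S) (hT : GrSeg.IsSegreRing 𝒜 ℬ 𝒯 ψ)

attribute [local instance] kMod

section SegL

variable {U U' U'' : GrLC.GMod.{u} (toAG 𝒜)} (V : GrLC.GMod.{u} (toAG ℬ))

/-- the tensor product of a homogeneous map with the identity commutes with the projections onto
the pieces of the Segre products -/
lemma PiK_ambMap {V' : GrLC.GMod.{u} (toAG ℬ)} (f : U.carrier →ₗ[R] U'.carrier)
    (g : V.carrier →ₗ[S] V'.carrier) (hf : GrLC.IsGrHom U.gr U'.gr f)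
    (hg : GrLC.IsGrHom V.gr V'.gr g) (d : ℤ) (w : Amb U V) :
    PiK U' V' d (ambMap f g w) = ambMap f g (PiK U V d w) := by
  induction w using TensorProduct.induction_on with
  | zero => simp only [map_zero]
  | tmul a b =>
    rw [ambMap_tmul, PiK_tmul, PiK_tmul, ambMap_tmul, πk_apply, πk_apply, πk_apply, πk_apply,
      proj_map_of_isGrHom U.gr U'.gr hf a d, proj_map_of_isGrHom V.gr V'.gr hg b d]
  | add x y hx hy => rw [map_add, map_add, hx, hy, map_add, map_add]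

lemma ambMap_eq_rTensor (f : U.carrier →ₗ[R] U'.carrier) :
    ambMap f (LinearMap.id : V.carrier →ₗ[S] V.carrier) =
      (f.restrictScalars k).rTensor V.carrier := by
  apply TensorProduct.ext'
  intro a b
  rfl

/-- the map of Segre products induced by a homogeneous map of the first factor -/
noncomputable def segL (f : U.carrier →ₗ[R] U'.carrier) (hf : GrLC.IsGrHom U.gr U'.gr f) :
    (SegM ψ hT U V).carrier →ₗ[T] (SegM ψ hT U' V).carrier :=
  segLiftM ψ hT (ambMap f (LinearMap.id : V.carrier →ₗ[S] V.carrier))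
    (isAmb_ambMap f LinearMap.id hf (fun d x hx => hx))

lemma valM_segL (f : U.carrier →ₗ[R] U'.carrier) (hf : GrLC.IsGrHom U.gr U'.gr f)
    (w : (SegM ψ hT U V).carrier) :
    valM ψ hT (segL ψ hT V f hf w) =
      ambMap f (LinearMap.id : V.carrier →ₗ[S] V.carrier) (valM ψ hT w) := rfl

lemma isGrHom_segL (f : U.carrier →ₗ[R] U'.carrier) (hf : GrLC.IsGrHom U.gr U'.gr f) :
    GrLC.IsGrHom (SegM ψ hT U V).gr (SegM ψ hT U' V).gr (segL ψ hT V f hf) :=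
  isGrHom_segLiftM ψ hT _ _

lemma segL_injective (f : U.carrier →ₗ[R] U'.carrier) (hf : GrLC.IsGrHom U.gr U'.gr f)
    (hinj : Function.Injective f) : Function.Injective (segL ψ hT V f hf) := by
  have h1 : Function.Injective ((f.restrictScalars k).rTensor V.carrier) :=
    Module.Flat.rTensor_preserves_injective_linearMap (f.restrictScalars k) hinj
  rw [← ambMap_eq_rTensor V f] at h1
  intro w w' hww'
  apply valM_injective ψ hT
  apply h1
  rw [← valM_segL ψ hT V f hf w, ← valM_segL ψ hT V f hf w', hww']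

lemma segL_surjective (f : U.carrier →ₗ[R] U'.carrier) (hf : GrLC.IsGrHom U.gr U'.gr f)
    (hsurj : Function.Surjective f) : Function.Surjective (segL ψ hT V f hf) := by
  intro y
  have h1 : ∀ d, piece U' V d ≤
      (piece U V d).map (ambMap f (LinearMap.id : V.carrier →ₗ[S] V.carrier)) := by
    intro d
    apply segrePiece_le
    intro a ha b hb
    obtain ⟨a', rfl⟩ := hsurj a
    refine ⟨proj U.gr d a' ⊗ₜ[k] b, tmul_mem_piece U V (proj_mem U.gr d a') hb, ?_⟩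
    rw [ambMap_tmul, ← proj_map_of_isGrHom U.gr U'.gr hf a' d, proj_of_mem_same U'.gr ha]
    rfl
  have h2 : segSub U' V ≤
      (segSub U V).map (ambMap f (LinearMap.id : V.carrier →ₗ[S] V.carrier)) := by
    unfold segSub
    apply iSup_le
    intro d
    exact (h1 d).trans (Submodule.map_mono (le_iSup (piece U V) d))
  obtain ⟨a, ha, hay⟩ := h2 (valM_mem ψ hT y)
  refine ⟨mkM ψ hT a ha, ?_⟩
  apply valM_injective ψ hT
  rw [valM_segL, valM_mkM, hay]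

lemma segL_comp_eq_zero (j : U.carrier →ₗ[R] U'.carrier) (p : U'.carrier →ₗ[R] U''.carrier)
    (hj : GrLC.IsGrHom U.gr U'.gr j) (hp : GrLC.IsGrHom U'.gr U''.gr p) (h : p ∘ₗ j = 0) :
    segL ψ hT V p hp ∘ₗ segL ψ hT V j hj = 0 := by
  apply LinearMap.ext
  intro w
  apply valM_injective ψ hT
  rw [LinearMap.comp_apply, valM_segL, valM_segL, LinearMap.zero_apply, valM_zero]
  have h3 : ambMap p (LinearMap.id : V.carrier →ₗ[S] V.carrier) ∘ₗ
      ambMap j (LinearMap.id : V.carrier →ₗ[S] V.carrier) = 0 := by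
    rw [← ambMap_comp, h, ambMap_zero_left]
  exact LinearMap.congr_fun h3 (valM ψ hT w)

lemma segL_exact (j : U.carrier →ₗ[R] U'.carrier) (p : U'.carrier →ₗ[R] U''.carrier)
    (hj : GrLC.IsGrHom U.gr U'.gr j) (hp : GrLC.IsGrHom U'.gr U''.gr p) (h : p ∘ₗ j = 0)
    (hpsurj : Function.Surjective p) (hex : LinearMap.ker p ≤ LinearMap.range j) :
    LinearMap.ker (segL ψ hT V p hp) = LinearMap.range (segL ψ hT V j hj) := by
  have h0 := segL_comp_eq_zero ψ hT V j p hj hp h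
  have hexk : Function.Exact (j.restrictScalars k) (p.restrictScalars k) := by
    intro y
    constructor
    · intro hy
      obtain ⟨x, hx⟩ := hex (LinearMap.mem_ker.mpr hy)
      exact ⟨x, hx⟩
    · rintro ⟨x, rfl⟩
      exact LinearMap.congr_fun h x
  have h2 := rTensor_exact V.carrier hexk hpsurj
  rw [← ambMap_eq_rTensor V j, ← ambMap_eq_rTensor V p] at h2
  have key : ∀ (d : ℤ) (w : (SegM ψ hT U' V).carrier), w ∈ (SegM ψ hT U' V).gr d →
      segL ψ hT V p hp w = 0 → w ∈ LinearMap.range (segL ψ hT V j hj) := by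
    intro d w hwd hw0
    have hwd' : valM ψ hT w ∈ piece U' V d := hwd
    have h1 : ambMap p (LinearMap.id : V.carrier →ₗ[S] V.carrier) (valM ψ hT w) = 0 := by
      rw [← valM_segL ψ hT V p hp w, hw0, valM_zero]
    obtain ⟨a, ha⟩ := (h2 (valM ψ hT w)).mp h1
    refine ⟨mkM ψ hT (PiK U V d a) (piece_le_segSub U V d (PiK_mem_piece U V d a)), ?_⟩
    apply valM_injective ψ hT
    rw [valM_segL, valM_mkM, ← PiK_ambMap V j LinearMap.id hj (fun _ _ hx => hx) d a, ha,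
      PiK_of_mem_piece U' V hwd']
  apply le_antisymm
  · intro w hw
    rw [LinearMap.mem_ker] at hw
    classical
    rw [← DirectSum.sum_support_decompose (SegM ψ hT U' V).gr w]
    refine Submodule.sum_mem _ (fun d _ => ?_)
    refine key d _ (SetLike.coe_mem _) ?_
    have h3 := proj_map_of_isGrHom (SegM ψ hT U' V).gr (SegM ψ hT U'' V).gr
      (isGrHom_segL ψ hT V p hp) w d
    rw [hw, map_zero] at h3
    exact h3.symm
  · rintro _ ⟨w, rfl⟩
    rw [LinearMap.mem_ker]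
    exact LinearMap.congr_fun h0 w

/-- the Segre product with `V` preserves short exact sequences -/
theorem seg_ses (j : U.carrier →ₗ[R] U'.carrier) (p : U'.carrier →ₗ[R] U''.carrier)
    (h : p ∘ₗ j = 0) (hS : (sesOf j p h).ShortExact)
    (hj : GrLC.IsGrHom U.gr U'.gr j) (hp : GrLC.IsGrHom U'.gr U''.gr p) :
    ∃ h' : segL ψ hT V p hp ∘ₗ segL ψ hT V j hj = 0,
      (sesOf (segL ψ hT V j hj) (segL ψ hT V p hp) h').ShortExact := by
  obtain ⟨hjinj, hpsurj, hex⟩ := ses_parts j p h hS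
  refine ⟨segL_comp_eq_zero ψ hT V j p hj hp h, ?_⟩
  apply sesOf_shortExact
  · exact segL_injective ψ hT V j hj hjinj
  · exact segL_surjective ψ hT V p hp hpsurj
  · exact segL_exact ψ hT V j p hj hp h hpsurj hex

end SegL

section Tors

variable (aR : HomogeneousIdeal (toAG 𝒜)) (U : GrLC.GMod.{u} (toAG 𝒜))
  (V : GrLC.GMod.{u} (toAG ℬ))

lemma act_pow_eq_zero (hU : LocCoh.IsPowerTorsion aR.toIdeal U.carrier) (x : R)
    (hx : x ∈ aR.toIdeal) (y : S) (z : Amb U V) :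
    ∃ n : ℕ, ∀ m : ℕ, n ≤ m →
      GrSeg.act k R S U.carrier V.carrier ((x ^ m) ⊗ₜ[k] (y ^ m)) z = 0 := by
  induction z using TensorProduct.induction_on with
  | zero => exact ⟨0, fun m _ => map_zero _⟩
  | tmul u v =>
    obtain ⟨n, hn⟩ := hU u
    refine ⟨n, fun m hm => ?_⟩
    rw [GrSeg.act_tmul, hn _ (Ideal.pow_le_pow_right hm (Ideal.pow_mem_pow hx m)),
      TensorProduct.zero_tmul]
  | add z z' hz hz' =>
    obtain ⟨n, hn⟩ := hz
    obtain ⟨n', hn'⟩ := hz'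
    refine ⟨max n n', fun m hm => ?_⟩
    rw [map_add, hn m (le_trans (le_max_left n n') hm),
      hn' m (le_trans (le_max_right n n') hm), add_zero]

/-- the Segre product of a torsion module with any module is a torsion module -/
theorem seg_torsion (hposR : ∀ e : ℤ, 0 < e → ∀ x ∈ toAG 𝒜 e, x ∈ aR.toIdeal)
    (aT : HomogeneousIdeal (toAG 𝒯))
    (haT : aT.toIdeal = Ideal.span (⋃ n ∈ Set.Ioi (0 : ℤ), (toAG 𝒯 n : Set T)))
    (hU : LocCoh.IsPowerTorsion aR.toIdeal U.carrier) :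
    LocCoh.IsPowerTorsion aT.toIdeal (SegM ψ hT U V).carrier := by
  intro w
  have haG : aT.toIdeal ≤
      Ideal.span {t : T | ∃ e : ℤ, 0 < e ∧ ∃ x ∈ 𝒜 e, ∃ y ∈ ℬ e, ψ t = x ⊗ₜ[k] y} := by
    rw [haT]
    exact irrelevant_le_span ψ hT
  have h2 := exists_pow_smul_mem_of_generators (⊥ : Submodule T (SegM ψ hT U V).carrier) w
    aT.toIdeal _ haG (by
      rintro t ⟨e, he, x, hx, y, hy, hxy⟩
      obtain ⟨n, hn⟩ := act_pow_eq_zero aR U V hU x (hposR e he x hx) y (valM ψ hT w)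
      refine ⟨n, (Submodule.mem_bot T).mpr ?_⟩
      apply valM_injective ψ hT
      rw [valM_smul, valM_zero, map_pow, hxy, Algebra.TensorProduct.tmul_pow]
      exact hn n le_rfl)
  obtain ⟨n, hn⟩ := h2
  exact ⟨n, fun r hr => (Submodule.mem_bot T).mp (hn r hr)⟩

end Tors

section Main

variable (XN : GrLC.GMod.{u} (toAG ℬ)) (hV : BC XN)
  (aR : HomogeneousIdeal (toAG 𝒜))
  (haR : aR.toIdeal = Ideal.span (⋃ n ∈ Set.Ioi (0 : ℤ), (toAG 𝒜 n : Set R)))
  (aT : HomogeneousIdeal (toAG 𝒯))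
  (haT : aT.toIdeal = Ideal.span (⋃ n ∈ Set.Ioi (0 : ℤ), (toAG 𝒯 n : Set T)))

include hV haR haT in
/-- **the local cohomology of a Segre product with a module on which a homogeneous element of
positive degree acts bijectively** -/
theorem seg_lc_bc : ∀ (q : ℕ) (X : GrLC.GMod.{u} (toAG 𝒜)),
    GIso (LCGMod (toAG 𝒯) (SegM ψ hT X XN).gr aT q)
      (SegM ψ hT (LCGMod (toAG 𝒜) X.gr aR q) XN) := by
  have hposR : ∀ e : ℤ, 0 < e → ∀ x ∈ toAG 𝒜 e, x ∈ aR.toIdeal := by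
    intro e he x hx
    rw [haR]
    exact Ideal.subset_span (Set.mem_iUnion₂.mpr ⟨e, he, hx⟩)
  have hposT : ∀ e : ℤ, 0 < e → ∀ x ∈ toAG 𝒯 e, x ∈ aT.toIdeal := by
    intro e he x hx
    rw [haT]
    exact Ideal.subset_span (Set.mem_iUnion₂.mpr ⟨e, he, hx⟩)
  intro q
  induction q with
  | zero =>
    intro X
    obtain ⟨Z0, C0, B1, C1, Q, j₁, p₁, h₁, j₂, p₂, h₂, gX, hS₁, hj₁, hp₁, htor, hS₂, hj₂, hp₂,
      hBC⟩ := exists_shift_data aR haR X
    obtain ⟨h₁', hS₁'⟩ := seg_ses ψ hT XN j₁ p₁ h₁ hS₁ hj₁ hp₁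
    have hBCs : BC (SegM ψ hT C1 XN) := bc_seg ψ hT hBC XN hV
    have hsubT : Subsingleton (LocCoh.H aT.toIdeal 0 (SegM ψ hT C1 XN).carrier) :=
      subsingleton_of_van aT _ 0 (fun g => hBCs.van aT hposT 0 g)
    have hsubR : Subsingleton (LocCoh.H aR.toIdeal 0 C1.carrier) :=
      subsingleton_of_van aR _ 0 (fun g => hBC.van aR hposR 0 g)
    have htorT : LocCoh.IsPowerTorsion aT.toIdeal (SegM ψ hT Z0 XN).carrier :=
      seg_torsion ψ hT aR Z0 XN hposR aT haT htor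
    have hj₂inj : Function.Injective j₂ := (ses_parts j₂ p₂ h₂ hS₂).1
    have sub0T : Subsingleton (LocCoh.H aT.toIdeal 0 (SegM ψ hT B1 XN).carrier) :=
      subsingleton_h0_of_injective aT.toIdeal (segL ψ hT XN j₂ hj₂)
        (segL_injective ψ hT XN j₂ hj₂ hj₂inj) hsubT
    have sub0R : Subsingleton (LocCoh.H aR.toIdeal 0 B1.carrier) :=
      subsingleton_h0_of_injective aR.toIdeal j₂ hj₂inj hsubR
    have b1 : GIso (LCGMod (toAG 𝒯) (SegM ψ hT X XN).gr aT 0)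
        (LCGMod (toAG 𝒯) (SegM ψ hT C0 XN).gr aT 0) :=
      giso_of_giso aT (giso_seg ψ hT gX (GIso.refl XN)) 0
    have b2 : GIso (LCGMod (toAG 𝒯) (SegM ψ hT Z0 XN).gr aT 0)
        (LCGMod (toAG 𝒯) (SegM ψ hT C0 XN).gr aT 0) :=
      giso_left0 aT (SegM ψ hT Z0 XN) (SegM ψ hT C0 XN) (SegM ψ hT B1 XN)
        (segL ψ hT XN j₁ hj₁) (segL ψ hT XN p₁ hp₁) h₁' hS₁'
        (isGrHom_segL ψ hT XN j₁ hj₁) (isGrHom_segL ψ hT XN p₁ hp₁) sub0T
    have b3 : GIso (LCGMod (toAG 𝒯) (SegM ψ hT Z0 XN).gr aT 0) (SegM ψ hT Z0 XN) :=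
      giso_torsion aT (SegM ψ hT Z0 XN) htorT
    have c3 : GIso (LCGMod (toAG 𝒜) Z0.gr aR 0) Z0 := giso_torsion aR Z0 htor
    have c2 : GIso (LCGMod (toAG 𝒜) Z0.gr aR 0) (LCGMod (toAG 𝒜) C0.gr aR 0) :=
      giso_left0 aR Z0 C0 B1 j₁ p₁ h₁ hS₁ hj₁ hp₁ sub0R
    have c1 : GIso (LCGMod (toAG 𝒜) X.gr aR 0) (LCGMod (toAG 𝒜) C0.gr aR 0) :=
      giso_of_giso aR gX 0
    have cc : GIso Z0 (LCGMod (toAG 𝒜) X.gr aR 0) := c3.symm.trans (c2.trans c1.symm)
    have b4 : GIso (SegM ψ hT Z0 XN) (SegM ψ hT (LCGMod (toAG 𝒜) X.gr aR 0) XN) :=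
      giso_seg ψ hT cc (GIso.refl XN)
    exact b1.trans (b2.symm.trans (b3.trans b4))
  | succ q ih =>
    intro X
    obtain ⟨Z0, C0, B1, C1, Q, j₁, p₁, h₁, j₂, p₂, h₂, gX, hS₁, hj₁, hp₁, htor, hS₂, hj₂, hp₂,
      hBC⟩ := exists_shift_data aR haR X
    obtain ⟨h₁', hS₁'⟩ := seg_ses ψ hT XN j₁ p₁ h₁ hS₁ hj₁ hp₁
    obtain ⟨h₂', hS₂'⟩ := seg_ses ψ hT XN j₂ p₂ h₂ hS₂ hj₂ hp₂
    have hBCs : BC (SegM ψ hT C1 XN) := bc_seg ψ hT hBC XN hV
    have hsubT : ∀ i, Subsingleton (LocCoh.H aT.toIdeal i (SegM ψ hT C1 XN).carrier) :=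
      fun i => subsingleton_of_van aT _ i (fun g => hBCs.van aT hposT i g)
    have hsubR : ∀ i, Subsingleton (LocCoh.H aR.toIdeal i C1.carrier) :=
      fun i => subsingleton_of_van aR _ i (fun g => hBC.van aR hposR i g)
    have htorT : LocCoh.IsPowerTorsion aT.toIdeal (SegM ψ hT Z0 XN).carrier :=
      seg_torsion ψ hT aR Z0 XN hposR aT haT htor
    have s1 : GIso (LCGMod (toAG 𝒯) (SegM ψ hT X XN).gr aT (q + 1))
        (LCGMod (toAG 𝒯) (SegM ψ hT C0 XN).gr aT (q + 1)) :=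
      giso_of_giso aT (giso_seg ψ hT gX (GIso.refl XN)) (q + 1)
    have s2 : GIso (LCGMod (toAG 𝒯) (SegM ψ hT C0 XN).gr aT (q + 1))
        (LCGMod (toAG 𝒯) (SegM ψ hT B1 XN).gr aT (q + 1)) :=
      giso_right aT (SegM ψ hT Z0 XN) (SegM ψ hT C0 XN) (SegM ψ hT B1 XN)
        (segL ψ hT XN j₁ hj₁) (segL ψ hT XN p₁ hp₁) h₁' hS₁'
        (isGrHom_segL ψ hT XN j₁ hj₁) (isGrHom_segL ψ hT XN p₁ hp₁) (q + 1)
        (subsingleton_of_isPowerTorsion aT.toIdeal (q + 1) (by omega) _ htorT)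
        (subsingleton_of_isPowerTorsion aT.toIdeal (q + 1 + 1) (by omega) _ htorT)
    have s3 : GIso (LCGMod (toAG 𝒯) (SegM ψ hT Q XN).gr aT q)
        (LCGMod (toAG 𝒯) (SegM ψ hT B1 XN).gr aT (q + 1)) :=
      giso_delta aT (SegM ψ hT B1 XN) (SegM ψ hT C1 XN) (SegM ψ hT Q XN)
        (segL ψ hT XN j₂ hj₂) (segL ψ hT XN p₂ hp₂) h₂' hS₂'
        (isGrHom_segL ψ hT XN j₂ hj₂) (isGrHom_segL ψ hT XN p₂ hp₂) q (hsubT q)
        (hsubT (q + 1))
    have s4 := ih Q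
    have r3 : GIso (LCGMod (toAG 𝒜) Q.gr aR q) (LCGMod (toAG 𝒜) B1.gr aR (q + 1)) :=
      giso_delta aR B1 C1 Q j₂ p₂ h₂ hS₂ hj₂ hp₂ q (hsubR q) (hsubR (q + 1))
    have r2 : GIso (LCGMod (toAG 𝒜) C0.gr aR (q + 1)) (LCGMod (toAG 𝒜) B1.gr aR (q + 1)) :=
      giso_right aR Z0 C0 B1 j₁ p₁ h₁ hS₁ hj₁ hp₁ (q + 1)
        (subsingleton_of_isPowerTorsion aR.toIdeal (q + 1) (by omega) _ htor)
        (subsingleton_of_isPowerTorsion aR.toIdeal (q + 1 + 1) (by omega) _ htor)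
    have r1 : GIso (LCGMod (toAG 𝒜) X.gr aR (q + 1)) (LCGMod (toAG 𝒜) C0.gr aR (q + 1)) :=
      giso_of_giso aR gX (q + 1)
    have rr : GIso (LCGMod (toAG 𝒜) Q.gr aR q) (LCGMod (toAG 𝒜) X.gr aR (q + 1)) :=
      r3.trans (r2.symm.trans r1.symm)
    have s5 : GIso (SegM ψ hT (LCGMod (toAG 𝒜) Q.gr aR q) XN)
        (SegM ψ hT (LCGMod (toAG 𝒜) X.gr aR (q + 1)) XN) :=
      giso_seg ψ hT rr (GIso.refl XN)
    exact s1.trans (s2.trans (s3.symm.trans (s4.trans s5)))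

end Main

end Seg

end Groth.Agent.Helper8.SG
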