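import Mathlib
import Groth.Prelude.Def_GrLC
import Groth.Prelude.Def_GrSeg
import Groth.Agent.Lib.Helper8.SG19

set_option autoImplicit false
set_option linter.unusedSectionVars false
set_option linter.unusedVariables false
set_option linter.unusedSimpArgs false
set_option linter.style.haveILetI false
set_option maxHeartbeats 1600000

/-!
# `H^q_{T_+}(M # N) ≅ H^q_{R_+}(M) # N` when a homogeneous element of positive degree acts
bijectively on `N`, in terms of *injective resolutions and abstract Segre products (helper8)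
-/

universe u

namespace Groth.Agent.Helper8.SG

open scoped TensorProduct
open CategoryTheory DirectSum Groth.Agent.Helper9.GrLCLib Groth.Agent.Helper9.GrLCLib.Trans
open Groth.Agent.Helper8.LC Groth.Agent.Lib.Helper6.CMReg Groth.Agent.Lib.Helper6.SegK
open Groth.Agent.Helper9.SegreLib

attribute [local instance] kMod

section Transport

variable {k : Type u} [Field k] {R S T : Type u} [CommRing R] [CommRing S] [CommRing T]
  [Algebra k R] [Algebra k S] [Algebra k T] [IsNoetherianRing R] [IsNoetherianRing S]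
  [IsNoetherianRing T]
  {𝒜 : ℤ → Submodule k R} {ℬ : ℤ → Submodule k S} {𝒯 : ℤ → Submodule k T}
  [GradedAlgebra 𝒜] [GradedAlgebra ℬ] [GradedAlgebra 𝒯]
  (ψ : T →ₐ[k] R ⊗[k] S) (hT : GrSeg.IsSegreRing 𝒜 ℬ 𝒯 ψ)
  (U : GrLC.GMod.{u} (toAG 𝒜)) (V : GrLC.GMod.{u} (toAG ℬ))
  {M' : Type u} [AddCommGroup M'] [Module R M'] [Module k M'] [IsScalarTower k R M']
  {N' : Type u} [AddCommGroup N'] [Module S N'] [Module k N'] [IsScalarTower k S N']
  {P' : Type u} [AddCommGroup P'] [Module T P'] [Module k P'] [IsScalarTower k T P']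
  (ℳ' : ℤ → AddSubgroup M') (𝒩' : ℤ → AddSubgroup N') (𝒬' : ℤ → AddSubgroup P')
  [DirectSum.Decomposition 𝒬']
  (α : U.carrier ≃ₗ[R] M') (hα : ∀ (n : ℤ) (x : U.carrier), x ∈ U.gr n ↔ α x ∈ ℳ' n)
  (β : V.carrier ≃ₗ[S] N') (hβ : ∀ (n : ℤ) (y : V.carrier), y ∈ V.gr n ↔ β y ∈ 𝒩' n)
  (Ξ : P' ≃ₗ[T] (SegM ψ hT U V).carrier)
  (hΞ : ∀ (n : ℤ) (p : P'), p ∈ 𝒬' n ↔ Ξ p ∈ (SegM ψ hT U V).gr n)

include hα hβ hΞ in
/-- a graded module homogeneously isomorphic to the concrete Segre product `U # V`, where `U` and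
`V` are homogeneously isomorphic to unbundled graded modules, is an abstract Segre product of
these -/
theorem exists_isSegreMod_of_equiv :
    ∃ φ' : P' →ₗ[k] M' ⊗[k] N', GrSeg.IsSegreMod ψ ℳ' 𝒩' 𝒬' φ' := by
  let αk : U.carrier →ₗ[k] M' := α.toLinearMap.restrictScalars k
  let αk' : M' →ₗ[k] U.carrier := α.symm.toLinearMap.restrictScalars k
  let βk : V.carrier →ₗ[k] N' := β.toLinearMap.restrictScalars k
  let βk' : N' →ₗ[k] V.carrier := β.symm.toLinearMap.restrictScalars k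
  let Ξk : P' →ₗ[k] (SegM ψ hT U V).carrier := Ξ.toLinearMap.restrictScalars k
  let W : Amb U V →ₗ[k] M' ⊗[k] N' := TensorProduct.map αk βk
  let W' : M' ⊗[k] N' →ₗ[k] Amb U V := TensorProduct.map αk' βk'
  have hW'W : ∀ z, W' (W z) = z := by
    intro z
    induction z using TensorProduct.induction_on with
    | zero => simp only [map_zero]
    | tmul a b =>
      show (α.symm (α a)) ⊗ₜ[k] (β.symm (β b)) = a ⊗ₜ[k] b
      rw [α.symm_apply_apply, β.symm_apply_apply]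
    | add x y hx hy => rw [map_add, map_add, hx, hy]
  have hWW' : ∀ z, W (W' z) = z := by
    intro z
    induction z using TensorProduct.induction_on with
    | zero => simp only [map_zero]
    | tmul a b =>
      show (α (α.symm a)) ⊗ₜ[k] (β (β.symm b)) = a ⊗ₜ[k] b
      rw [α.apply_symm_apply, β.apply_symm_apply]
    | add x y hx hy => rw [map_add, map_add, hx, hy]
  have hWpiece : ∀ (n : ℤ) (z : Amb U V), z ∈ piece U V n →
      W z ∈ GrSeg.segrePiece k ℳ' 𝒩' n := by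
    intro n z hz
    have h1 : piece U V n ≤ (GrSeg.segrePiece k ℳ' 𝒩' n).comap W := by
      apply segrePiece_le
      intro a ha b hb
      rw [Submodule.mem_comap]
      show (α a) ⊗ₜ[k] (β b) ∈ GrSeg.segrePiece k ℳ' 𝒩' n
      exact tmul_mem_segrePiece ℳ' 𝒩' ((hα n a).mp ha) ((hβ n b).mp hb)
    exact h1 hz
  have hW'piece : ∀ (n : ℤ) (z : M' ⊗[k] N'), z ∈ GrSeg.segrePiece k ℳ' 𝒩' n →
      W' z ∈ piece U V n := by
    intro n z hz
    have h1 : GrSeg.segrePiece k ℳ' 𝒩' n ≤ (piece U V n).comap W' := by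
      apply segrePiece_le
      intro a ha b hb
      rw [Submodule.mem_comap]
      show (α.symm a) ⊗ₜ[k] (β.symm b) ∈ piece U V n
      apply tmul_mem_piece U V
      · apply (hα n _).mpr
        rw [α.apply_symm_apply]
        exact ha
      · apply (hβ n _).mpr
        rw [β.apply_symm_apply]
        exact hb
    exact h1 hz
  refine ⟨W ∘ₗ valLin ψ hT U V ∘ₗ Ξk, ?_, ?_, ?_⟩
  · intro p p' hpp'
    have h1 : W (valM ψ hT (Ξ p)) = W (valM ψ hT (Ξ p')) := hpp'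
    have h2 := congrArg W' h1
    rw [hW'W, hW'W] at h2
    exact Ξ.injective (valM_injective ψ hT h2)
  · intro n
    ext z
    constructor
    · rintro ⟨p, hp, rfl⟩
      show W (valM ψ hT (Ξ p)) ∈ GrSeg.segrePiece k ℳ' 𝒩' n
      exact hWpiece n _ ((hΞ n p).mp hp)
    · intro hz
      have hz' : W' z ∈ piece U V n := hW'piece n z hz
      let w : (SegM ψ hT U V).carrier := mkM ψ hT (W' z) (piece_le_segSub U V n hz')
      have hw : w ∈ (SegM ψ hT U V).gr n := hz'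
      refine ⟨Ξ.symm w, (hΞ n _).mpr (by rw [Ξ.apply_symm_apply]; exact hw), ?_⟩
      show W (valM ψ hT (Ξ (Ξ.symm w))) = z
      rw [Ξ.apply_symm_apply, valM_mkM, hWW']
  · intro t p
    show W (valM ψ hT (Ξ (t • p))) = GrSeg.act k R S M' N' (ψ t) (W (valM ψ hT (Ξ p)))
    rw [map_smul Ξ t p, valM_smul]
    exact Groth.Agent.Lib.Helper6.SegK.map_act α.toLinearMap β.toLinearMap (ψ t)
      (valM ψ hT (Ξ p))

end Transport

/-- **S19758**: `H^q_{T_+}(M # N)` is the Segre product of `H^q_{R_+}(M)` and `N` when a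
homogeneous element of positive degree acts bijectively on `N` -/
theorem exists_isSegreMod_H_of_smul_bijective (k : Type u) [Field k] (R : Type u) [CommRing R] [Algebra k R] (𝒜 : ℤ → Submodule k R) [GradedAlgebra 𝒜] (hposR : ∀ n : ℤ, n < 0 → 𝒜 n = ⊥) (h0R : 𝒜 0 = Submodule.span k {(1 : R)}) [Algebra.FiniteType k R] (S : Type u) [CommRing S] [Algebra k S] (ℬ : ℤ → Submodule k S) [GradedAlgebra ℬ] (hposS : ∀ n : ℤ, n < 0 → ℬ n = ⊥) (h0S : ℬ 0 = Submodule.span k {(1 : S)}) [Algebra.FiniteType k S] (T : Type u) [CommRing T] [Algebra k T] (𝒯 : ℤ → Submodule k T) [GradedAlgebra 𝒯] (ψ : T →ₐ[k] TensorProduct k R S) (hT : GrSeg.IsSegreRing 𝒜 ℬ 𝒯 ψ) (mR : HomogeneousIdeal 𝒜) (hmR : mR.toIdeal = Ideal.span (⋃ n ∈ Set.Ioi (0 : ℤ), (𝒜 n : Set R))) (mT : HomogeneousIdeal 𝒯) (hmT : mT.toIdeal = Ideal.span (⋃ n ∈ Set.Ioi (0 : ℤ), (𝒯 n : Set T))) (M : Type u) [AddCommGroup M] [Module R M] [Module k M] [IsScalarTower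 k R M] (ℳ : ℤ → AddSubgroup M) [DirectSum.Decomposition ℳ] [SetLike.GradedSMul 𝒜 ℳ] (EM : GrLC.StarInjRes 𝒜 ℳ) (N : Type u) [AddCommGroup N] [Module S N] [Module k N] [IsScalarTower k S N] (𝒩 : ℤ → AddSubgroup N) [DirectSum.Decomposition 𝒩] [SetLike.GradedSMul ℬ 𝒩] (e : ℕ) (he : 0 < e) (g : S) (hg : g ∈ ℬ (e : ℤ)) (hgN : Function.Bijective (fun y : N => g • y)) (P : Type u) [AddCommGroup P] [Module T P] [Module k P] [IsScalarTower k T P] (𝒬 : ℤ → AddSubgroup P) [DirectSum.Decomposition 𝒬] [SetLike.GradedSMul 𝒯 𝒬] (φ : P →ₗ[k] TensorProduct k M N) (hP : GrSeg.IsSegreMod ψ ℳ 𝒩 𝒬 φ) (EP : GrLC.StarInjRes 𝒯 𝒬) (q : ℕ) [Module k (EM.H mR q)] [IsScalarTower k R (EM.H mR q)] [Module k (EP.H mT q)] [IsScalarTower k T (EP.H mT q)] [DirectSum.Decomposition (EP.Hgr mT q)] : ∃ φ' : EP.H mT q →ₗ[k] TensorProduct k (EM.H mR q) N, GrSeg.IsSegreMod ψ (EM.Hgr mR q) 𝒩 (EP.Hgr mT q) φ'  := by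
  haveI : IsNoetherianRing R := Algebra.FiniteType.isNoetherianRing k R
  haveI : IsNoetherianRing S := Algebra.FiniteType.isNoetherianRing k S
  haveI : IsNoetherianRing T :=
    Groth.Agent.Helper3.Segre.isNoetherianRing_of_segre 𝒜 ℬ 𝒯 ψ hT.2 hT.1
  let aR : HomogeneousIdeal (toAG 𝒜) := idealToAG 𝒜 mR
  let aT : HomogeneousIdeal (toAG 𝒯) := idealToAG 𝒯 mT
  let XM : GrLC.GMod.{u} (toAG 𝒜) := bun 𝒜 ℳ
  let XN : GrLC.GMod.{u} (toAG ℬ) := bun ℬ 𝒩
  let XP : GrLC.GMod.{u} (toAG 𝒯) := bun 𝒯 𝒬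
  have he' : (0 : ℤ) < (e : ℤ) := by exact_mod_cast he
  have hV : BC XN := BC.bij XN g (e : ℤ) he' hg hgN
  have g0 : GIso XP (SegM ψ hT XM XN) :=
    ⟨segEquiv 𝒜 ℬ ψ hT ℳ 𝒩 𝒬 φ hP, segEquiv_gr 𝒜 ℬ ψ hT ℳ 𝒩 𝒬 φ hP⟩
  have g1 := giso_of_giso aT g0 q
  have g2 := seg_lc_bc ψ hT XN hV aR hmR aT hmT q XM
  let HM : GrLC.GMod.{u} (toAG 𝒜) := LCGMod (toAG 𝒜) XM.gr aR q
  let HP : GrLC.GMod.{u} (toAG 𝒯) := LCGMod (toAG 𝒯) XP.gr aT q
  have g3 : GIso HP (SegM ψ hT HM XN) := g1.trans g2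
  obtain ⟨ε, hε⟩ := g3
  have hε' := isGrHom_symm HP.gr (SegM ψ hT HM XN).gr ε hε
  obtain ⟨ΘP, hΘP⟩ := exists_theta_LCgr (toAG 𝒯) (toAG 𝒬) aT (resToAG 𝒯 𝒬 EP) q
  obtain ⟨ΘM, hΘM⟩ := exists_theta_LCgr (toAG 𝒜) (toAG ℳ) aR (resToAG 𝒜 ℳ EM) q
  let α : HM.carrier ≃ₗ[R] EM.H mR q := ΘM.symm
  let ΘP' : EP.H mT q ≃ₗ[T] HP.carrier := ΘP
  let Ξ : EP.H mT q ≃ₗ[T] (SegM ψ hT HM XN).carrier := ΘP'.trans ε
  let β : XN.carrier ≃ₗ[S] N := LinearEquiv.refl S N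
  have hα : ∀ (n : ℤ) (x : HM.carrier), x ∈ HM.gr n ↔ α x ∈ EM.Hgr mR q n := by
    intro n x
    have h1 := hΘM n (ΘM.symm x)
    rw [LinearEquiv.apply_symm_apply] at h1
    have h2 := mem_LCGMod_gr (toAG 𝒜) XM.gr aR q n x
    exact h2.trans h1.symm
  have hβ : ∀ (n : ℤ) (y : XN.carrier), y ∈ XN.gr n ↔ β y ∈ 𝒩 n := fun n y => Iff.rfl
  have hΞ : ∀ (n : ℤ) (p : EP.H mT q), p ∈ EP.Hgr mT q n ↔
      Ξ p ∈ (SegM ψ hT HM XN).gr n := by
    intro n p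
    have h1 := hΘP n p
    have h2 := mem_LCGMod_gr (toAG 𝒯) (toAG 𝒬) aT q n (ΘP p)
    constructor
    · intro hp
      have h3 : ΘP' p ∈ HP.gr n := h2.mpr (h1.mp hp)
      exact hε n _ h3
    · intro hp
      have h3 : ε.symm (ε (ΘP' p)) ∈ HP.gr n := hε' n _ hp
      rw [LinearEquiv.symm_apply_apply] at h3
      exact h1.mpr (h2.mp h3)
  exact exists_isSegreMod_of_equiv ψ hT HM XN (EM.Hgr mR q) 𝒩 (EP.Hgr mT q) α hα β hβ Ξ hΞ

end Groth.Agent.Helper8.SG
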