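import Mathlib
import Groth.Prelude.Def_GrLC
import Groth.Prelude.Def_GrSeg
import Groth.Agent.Lib.Helper8.SG5

set_option autoImplicit false
set_option linter.unusedSectionVars false
set_option linter.unusedVariables false
set_option linter.unusedSimpArgs false
set_option linter.style.haveILetI false
set_option maxHeartbeats 800000

/-!
# The dimensions of the pieces of the canonical module of a Segre product (helper8)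
-/

universe u

namespace Groth.Agent.Helper8.SG

open scoped TensorProduct
open CategoryTheory DirectSum Groth.Agent.Helper9.GrLCLib Groth.Agent.Helper9.GrLCLib.Trans
open Groth.Agent.Helper8.LC Groth.Agent.Lib.Helper6.CMReg Groth.Agent.Lib.Helper6.SegK
open Groth.Agent.Helper9.SegreLib Groth.Agent.Helper8.GD Groth.Agent.Lib.Helper6.SegCM

attribute [local instance] kMod

/-- `dim (K_T)_n = dim (K_R)_n · dim (K_S)_n` for the Segre product `T = R # S` -/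
theorem finrank_canonical_segre (k : Type u) [Field k] (R : Type u) [CommRing R] [Algebra k R]
    (𝒜 : ℤ → Submodule k R) [GradedAlgebra 𝒜] (hposR : ∀ n : ℤ, n < 0 → 𝒜 n = ⊥)
    (h0R : 𝒜 0 = Submodule.span k {(1 : R)}) [Algebra.FiniteType k R] (S : Type u) [CommRing S]
    [Algebra k S] (ℬ : ℤ → Submodule k S) [GradedAlgebra ℬ] (hposS : ∀ n : ℤ, n < 0 → ℬ n = ⊥)
    (h0S : ℬ 0 = Submodule.span k {(1 : S)}) [Algebra.FiniteType k S] (T : Type u) [CommRing T]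
    [Algebra k T] (𝒯 : ℤ → Submodule k T) [GradedAlgebra 𝒯] (ψ : T →ₐ[k] TensorProduct k R S)
    (hT : GrSeg.IsSegreRing 𝒜 ℬ 𝒯 ψ)
    (mR : HomogeneousIdeal 𝒜)
    (hmR : mR.toIdeal = Ideal.span (⋃ n ∈ Set.Ioi (0 : ℤ), (𝒜 n : Set R)))
    (I : GrLC.StarInjRes 𝒜 𝒜) (mS : HomogeneousIdeal ℬ)
    (hmS : mS.toIdeal = Ideal.span (⋃ n ∈ Set.Ioi (0 : ℤ), (ℬ n : Set S)))
    (J : GrLC.StarInjRes ℬ ℬ) (mT : HomogeneousIdeal 𝒯)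
    (hmT : mT.toIdeal = Ideal.span (⋃ n ∈ Set.Ioi (0 : ℤ), (𝒯 n : Set T)))
    (IT : GrLC.StarInjRes 𝒯 𝒯) (r s : ℕ) (hr : ringKrullDim R = r) (hs : ringKrullDim S = s)
    (h2r : 2 ≤ r) (h2s : 2 ≤ s)
    (ER : Type u) [AddCommGroup ER] [Module R ER] (𝓔R : ℤ → AddSubgroup ER)
    [DirectSum.Decomposition 𝓔R] [SetLike.GradedSMul 𝒜 𝓔R] (eR : (R ⧸ mR.toIdeal) →ₗ[R] ER)
    (heR : GrLC.IsStarInjHull 𝒜 (GrLC.quotGr 𝒜 mR) 𝓔R eR)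
    (CR : Type u) [AddCommGroup CR] [Module R CR] (𝒞R : ℤ → AddSubgroup CR)
    [DirectSum.Decomposition 𝒞R] [SetLike.GradedSMul 𝒜 𝒞R]
    (hCR : GrLC.IsStarCanonical 𝒜 𝒞R 𝓔R mR r I)
    (ES : Type u) [AddCommGroup ES] [Module S ES] (𝓔S : ℤ → AddSubgroup ES)
    [DirectSum.Decomposition 𝓔S] [SetLike.GradedSMul ℬ 𝓔S] (eS : (S ⧸ mS.toIdeal) →ₗ[S] ES)
    (heS : GrLC.IsStarInjHull ℬ (GrLC.quotGr ℬ mS) 𝓔S eS)
    (CS : Type u) [AddCommGroup CS] [Module S CS] (𝒞S : ℤ → AddSubgroup CS)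
    [DirectSum.Decomposition 𝒞S] [SetLike.GradedSMul ℬ 𝒞S]
    (hCS : GrLC.IsStarCanonical ℬ 𝒞S 𝓔S mS s J)
    (ET : Type u) [AddCommGroup ET] [Module T ET] (𝓔T : ℤ → AddSubgroup ET)
    [DirectSum.Decomposition 𝓔T] [SetLike.GradedSMul 𝒯 𝓔T] (eT : (T ⧸ mT.toIdeal) →ₗ[T] ET)
    (heT : GrLC.IsStarInjHull 𝒯 (GrLC.quotGr 𝒯 mT) 𝓔T eT)
    (CT : Type u) [AddCommGroup CT] [Module T CT] (𝒞T : ℤ → AddSubgroup CT)
    [DirectSum.Decomposition 𝒞T] [SetLike.GradedSMul 𝒯 𝒞T]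
    (hCT : GrLC.IsStarCanonical 𝒯 𝒞T 𝓔T mT (r + s - 1) IT) (n : ℤ) :
    Module.finrank (GrLC.deg0 𝒯) (GrLC.comp 𝒯 𝒞T n) =
      Module.finrank (GrLC.deg0 𝒜) (GrLC.comp 𝒜 𝒞R n) *
        Module.finrank (GrLC.deg0 ℬ) (GrLC.comp ℬ 𝒞S n) := by
  haveI : IsNoetherianRing R := Algebra.FiniteType.isNoetherianRing k R
  haveI : IsNoetherianRing S := Algebra.FiniteType.isNoetherianRing k S
  haveI : Nontrivial R := nontrivial_of_dim hr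
  haveI : Nontrivial S := nontrivial_of_dim hs
  haveI : IsNoetherianRing T :=
    Groth.Agent.Helper3.Segre.isNoetherianRing_of_segre 𝒜 ℬ 𝒯 ψ hT.2 hT.1
  haveI : Nontrivial T := nontrivial_of_segre ψ
  have hposT := segre_pos 𝒜 ℬ 𝒯 ψ hT hposR
  have h0T := segre_zero 𝒜 ℬ 𝒯 ψ hT h0R h0S
  obtain ⟨i, rfl⟩ : ∃ i, r = i + 2 := ⟨r - 2, by omega⟩
  obtain ⟨j, rfl⟩ : ∃ j, s = j + 2 := ⟨s - 2, by omega⟩
  have hidx : i + 2 + (j + 2) - 1 = i + j + 3 := by omega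
  rw [hidx] at hCT
  have e1 := finrank_canonical_piece_k 𝒯 hposT h0T mT hmT IT (i + j + 3) 𝓔T eT heT 𝒞T hCT n
  have e2 := finrank_canonical_piece_k 𝒜 hposR h0R mR hmR I (i + 2) 𝓔R eR heR 𝒞R hCR n
  have e3 := finrank_canonical_piece_k ℬ hposS h0S mS hmS J (j + 2) 𝓔S eS heS 𝒞S hCS n
  have g1 : GIso (bun 𝒯 𝒯) (SegM ψ hT (bun 𝒜 𝒜) (bun ℬ ℬ)) :=
    ⟨segEquiv 𝒜 ℬ ψ hT 𝒜 ℬ 𝒯 ψ.toLinearMap (isSegreMod_self ψ hT),
      segEquiv_gr 𝒜 ℬ ψ hT 𝒜 ℬ 𝒯 ψ.toLinearMap (isSegreMod_self ψ hT)⟩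
  have g2 := giso_of_giso (idealToAG 𝒯 mT) g1 (i + j + 3)
  have g3 := topK ψ hT (bun 𝒜 𝒜) (bun ℬ ℬ) (idealToAG 𝒜 mR) hmR (idealToAG ℬ mS) hmS
    (idealToAG 𝒯 mT) hmT i j hr.le hs.le
  have e4 := finrank_grK_of_giso 𝒯 g2 (-n)
  have e5 := finrank_grK_of_giso 𝒯 g3 (-n)
  have e6 := finrank_grK_segM ψ hT (LCGMod (toAG 𝒜) (bun 𝒜 𝒜).gr (idealToAG 𝒜 mR) (i + 2))
    (LCGMod (toAG ℬ) (bun ℬ ℬ).gr (idealToAG ℬ mS) (j + 2)) (-n)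
  rw [e1, e4, ← e5, e6, e2, e3]

end Groth.Agent.Helper8.SG
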