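import Mathlib.AlgebraicGeometry.Noetherian
import Mathlib.AlgebraicGeometry.Properties
import Mathlib.RingTheory.Ideal.KrullsHeightTheorem

/-! Topological facts about locally Noetherian schemes (seat helper8). -/

set_option autoImplicit false

universe u

namespace Groth.Agent.Helper8

open AlgebraicGeometry

/-- In a locally Noetherian scheme every point has finite coheight for the specialization
order (finitely long chains of generizations). -/
theorem coheight_lt_top_of_isLocallyNoetherian (X : Scheme.{u}) [IsLocallyNoetherian X] (x : X) :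
    Order.coheight x < ⊤ := by
  have h := ringKrullDim_stalk_eq_coheight x
  have hfin : ringKrullDim (X.presheaf.stalk x) < ⊤ := ringKrullDim_lt_top
  rw [h, ← WithBot.coe_top, WithBot.coe_lt_coe] at hfin
  exact hfin

/-- In a locally Noetherian scheme: every point `t` of a set `T` is a specialization of a point
of `T` with no proper generization in `T`. -/
theorem exists_maximal_generization (X : Scheme.{u}) [IsLocallyNoetherian X]
    (T : Set X) (t : X) (ht : t ∈ T) :
    ∃ t₀ ∈ T, (∀ t' ∈ T, t' ⤳ t₀ → t' = t₀) ∧ t₀ ⤳ t := by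
  classical
  -- choose a generization in T of minimal coheight
  let P : ℕ → Prop := fun n => ∃ t' ∈ T, t' ⤳ t ∧ Order.coheight t' = (n : ℕ∞)
  have hP : ∃ n, P n := by
    obtain ⟨n, hn⟩ := ENat.ne_top_iff_exists.mp (coheight_lt_top_of_isLocallyNoetherian X t).ne
    exact ⟨n, t, ht, specializes_rfl, hn.symm⟩
  obtain ⟨t₀, ht₀, hts, hc⟩ := Nat.find_spec hP
  refine ⟨t₀, ht₀, ?_, hts⟩
  intro t' ht' htt'
  by_contra hne
  have hle : t₀ ≤ t' := htt'
  have hlt : t₀ < t' := by
    refine lt_of_le_not_ge hle ?_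
    intro hge
    have h' : t₀ ⤳ t' := hge
    exact hne (htt'.antisymm h').eq
  have h1 := Order.coheight_add_one_le hlt
  obtain ⟨m, hm⟩ := ENat.ne_top_iff_exists.mp (coheight_lt_top_of_isLocallyNoetherian X t').ne
  have hPm : P m := ⟨t', ht', htt'.trans hts, hm.symm⟩
  have hmin := Nat.find_min' hP hPm
  rw [← hm, hc] at h1
  have : (m : ℕ∞) + 1 ≤ (Nat.find hP : ℕ∞) := h1
  have h2 : m + 1 ≤ Nat.find hP := by exact_mod_cast this
  omega

/-- One step of the search for an infinite antichain. -/
theorem antichain_step (X : Scheme.{u}) [IsLocallyNoetherian X] (T : Set X) (hT : T.Infinite) :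
    (∃ T' : Set X, T' ⊆ T ∧ T'.Infinite ∧ ∀ a ∈ T', ∀ b ∈ T', a ⤳ b → a = b) ∨
    (∃ t₀ ∈ T, ((T ∩ closure {t₀}) \ {t₀}).Infinite) := by
  classical
  set Tmax : Set X := {t₀ | t₀ ∈ T ∧ ∀ t' ∈ T, t' ⤳ t₀ → t' = t₀} with hTmax
  by_cases hfin : Tmax.Infinite
  · left
    refine ⟨Tmax, fun t ht => ht.1, hfin, ?_⟩
    intro a ha b hb hab
    exact hb.2 a ha.1 hab
  · right
    rw [Set.not_infinite] at hfin
    have hcov : T ⊆ ⋃ t₀ ∈ Tmax, (T ∩ closure {t₀}) := by
      intro t ht
      obtain ⟨t₀, ht₀, hmax, hts⟩ := exists_maximal_generization X T t ht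
      exact Set.mem_biUnion (show t₀ ∈ Tmax from ⟨ht₀, hmax⟩)
        ⟨ht, specializes_iff_mem_closure.mp hts⟩
    by_contra hcon
    push Not at hcon
    apply hT
    apply Set.Finite.subset _ hcov
    apply Set.Finite.biUnion hfin
    intro t₀ ht₀
    have h1 := hcon t₀ ht₀.1
    have : T ∩ closure {t₀} ⊆ ((T ∩ closure {t₀}) \ {t₀}) ∪ {t₀} := by
      intro x hx
      by_cases hx0 : x = t₀
      · right; exact hx0
      · left; exact ⟨hx, hx0⟩
    exact (h1.union (Set.finite_singleton t₀)).subset this

/-- In a Noetherian scheme every infinite set of points contains an infinite subset no two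
distinct members of which are related by specialization. -/
theorem exists_infinite_antichain (X : Scheme.{u}) [IsNoetherian X] :
    ∀ (Z : TopologicalSpace.Closeds X) (T : Set X), T ⊆ (Z : Set X) → T.Infinite →
      ∃ T' : Set X, T' ⊆ T ∧ T'.Infinite ∧ ∀ a ∈ T', ∀ b ∈ T', a ⤳ b → a = b := by
  intro Z
  induction Z using WellFoundedLT.induction with
  | ind Z ih =>
    intro T hTZ hT
    rcases antichain_step X T hT with h | ⟨t₀, ht₀, hT₁⟩
    · exact h
    · rcases antichain_step X _ hT₁ with ⟨T', hT', h2⟩ | ⟨t₁, ht₁, hT₂⟩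
      · exact ⟨T', fun x hx => (hT' hx).1.1, h2⟩
      · set Z' : TopologicalSpace.Closeds X := ⟨closure {t₁}, isClosed_closure⟩ with hZ'
        have hle : Z' ≤ Z := by
          intro x hx
          have : closure ({t₁} : Set X) ⊆ (Z : Set X) :=
            closure_minimal (Set.singleton_subset_iff.mpr (hTZ ht₁.1.1)) Z.isClosed
          exact this hx
        have hne : Z' ≠ Z := by
          intro heq
          have h0 : t₀ ∈ (Z : Set X) := hTZ ht₀
          rw [← heq] at h0
          have h10 : t₁ ⤳ t₀ := specializes_iff_mem_closure.mpr h0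
          have h01 : t₀ ⤳ t₁ := specializes_iff_mem_closure.mpr ht₁.1.2
          exact ht₁.2 (h10.antisymm h01).eq
        obtain ⟨T', hT', h2⟩ := ih Z' (lt_of_le_of_ne hle hne) _
          (fun x hx => (show x ∈ closure ({t₁} : Set X) from hx.1.2)) hT₂
        exact ⟨T', fun x hx => (hT' hx).1.1.1.1, h2⟩

end Groth.Agent.Helper8
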