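import Mathlib

/-!
# Separably generated extensions: `p`-th powers of linearly independent families

`Phi k A p` : every finite `k`-linearly independent family in `A` has `k`-linearly independent
`p`-th powers. We show it for separably generated field extensions.
-/

namespace Groth.Agent.Helper8.SepGen

open TensorProduct

/-- Applying a field homomorphism coefficientwise preserves linear independence. -/
theorem linearIndependent_mapRange {k k' : Type*} [Field k] [Field k'] (σ : k →+* k')
    {Γ ι : Type*} (v : ι → (Γ →₀ k)) (hv : LinearIndependent k v) :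
    LinearIndependent k' (fun i => Finsupp.mapRange σ (map_zero σ) (v i)) := by
  classical
  letI : Algebra k k' := σ.toAlgebra
  have h1 : LinearIndependent k' ((1 : k') ⊗ₜ[k] v ·) :=
    Module.Flat.linearIndependent_one_tmul hv
  have h2 := h1.map' (TensorProduct.finsuppScalarRight k k' k' Γ).toLinearMap (LinearEquiv.ker _)
  have key : (fun i => Finsupp.mapRange σ (map_zero σ) (v i)) =
      (TensorProduct.finsuppScalarRight k k' k' Γ).toLinearMap ∘ ((1 : k') ⊗ₜ[k] v ·) := by
    funext i
    ext γ
    simp [TensorProduct.finsuppScalarRight_apply_tmul_apply, Algebra.smul_def,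
      RingHom.algebraMap_toAlgebra]
  rw [key]
  exact h2

/-- the property -/
def Phi (k A : Type*) [Field k] [CommRing A] [Algebra k A] (p : ℕ) : Prop :=
  ∀ (n : ℕ) (v : Fin n → A), LinearIndependent k v → LinearIndependent k (fun i => v i ^ p)

theorem Phi.apply {k A : Type*} [Field k] [CommRing A] [Algebra k A] {p : ℕ} (h : Phi k A p)
    {ι : Type*} (v : ι → A) (hv : LinearIndependent k v) :
    LinearIndependent k (fun i => v i ^ p) := by
  classical
  rw [linearIndependent_iff_finset_linearIndependent] at hv ⊢
  intro s
  have e : Fin s.card ≃ s := s.equivFin.symm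
  have h1 : LinearIndependent k ((v ∘ (Subtype.val : s → ι)) ∘ e) :=
    (linearIndependent_equiv e).mpr (hv s)
  have h2 := h _ _ h1
  have h3 : LinearIndependent k (((fun i => v i ^ p) ∘ (Subtype.val : s → ι)) ∘ e) := h2
  exact (linearIndependent_equiv e).mp h3

/-- KL: a basis with independent `p`-th powers. -/
theorem Phi_of_basis {k A : Type*} [Field k] [CommRing A] [Algebra k A] (p : ℕ)
    [ExpChar k p] [ExpChar A p] {Γ : Type*} (e : Module.Basis Γ k A)
    (he : LinearIndependent k (fun γ => e γ ^ p)) : Phi k A p := by
  intro n v hv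
  have hμ : LinearIndependent k (fun i => e.repr (v i)) :=
    hv.map' e.repr.toLinearMap (LinearEquiv.ker _)
  have h1 := linearIndependent_mapRange (frobenius k p) _ hμ
  have h2 := h1.map' (Finsupp.linearCombination k (fun γ => e γ ^ p)) (LinearMap.ker_eq_bot.mpr he)
  have key : (fun i => v i ^ p) = (Finsupp.linearCombination k (fun γ => e γ ^ p)) ∘
      (fun i => Finsupp.mapRange (frobenius k p) (map_zero _) (e.repr (v i))) := by
    funext i
    simp only [Function.comp_apply]
    conv_lhs => rw [← e.linearCombination_repr (v i)]
    rw [Finsupp.linearCombination_apply, Finsupp.linearCombination_apply, Finsupp.sum,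
      sum_pow_char p, Finsupp.sum_mapRange_index (by intro; simp)]
    rw [Finsupp.sum]
    refine Finset.sum_congr rfl fun γ _ => ?_
    rw [Algebra.smul_def, mul_pow, ← map_pow, Algebra.smul_def, frobenius_def]
  rw [key]
  exact h2

theorem Phi_mvPolynomial (k : Type*) [Field k] (ι : Type*) (p : ℕ) [ExpChar k p] :
    Phi k (MvPolynomial ι k) p := by
  have hp0 : p ≠ 0 := (expChar_pos k p).ne'
  haveI : ExpChar (MvPolynomial ι k) p :=
    expChar_of_injective_algebraMap (algebraMap k (MvPolynomial ι k)).injective p
  refine Phi_of_basis p (MvPolynomial.basisMonomials ι k) ?_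
  have hinj : Function.Injective (fun γ : ι →₀ ℕ => p • γ) := by
    intro a b hab
    ext i
    have := DFunLike.congr_fun hab i
    simp only [Finsupp.smul_apply, smul_eq_mul] at this
    exact Nat.eq_of_mul_eq_mul_left (Nat.pos_of_ne_zero hp0) this
  have := (MvPolynomial.basisMonomials ι k).linearIndependent.comp _ hinj
  have key : (fun γ => (MvPolynomial.basisMonomials ι k) γ ^ p) =
      (MvPolynomial.basisMonomials ι k) ∘ fun γ => p • γ := by
    funext γ
    simp [MvPolynomial.monomial_pow]
  rw [key]
  exact this

theorem Phi_of_injective {k A B : Type*} [Field k] [CommRing A] [CommRing B] [Algebra k A]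
    [Algebra k B] (p : ℕ) (ψ : A →ₐ[k] B) (hψ : Function.Injective ψ) (h : Phi k B p) :
    Phi k A p := by
  intro n v hv
  have h1 : LinearIndependent k (ψ.toLinearMap ∘ v) :=
    hv.map' ψ.toLinearMap (LinearMap.ker_eq_bot.mpr hψ)
  have h2 := h _ _ h1
  refine LinearIndependent.of_comp ψ.toLinearMap ?_
  have key : (ψ.toLinearMap ∘ fun i => v i ^ p) = fun i => (ψ.toLinearMap ∘ v) i ^ p := by
    funext i
    simp
  rw [key]
  exact h2

theorem Phi_fraction {k A F : Type*} [Field k] [CommRing A] [IsDomain A] [Field F] [Algebra k A]
    [Algebra A F] [Algebra k F] [IsScalarTower k A F] [IsFractionRing A F] (p : ℕ)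
    (hA : Phi k A p) : Phi k F p := by
  intro n v hv
  obtain ⟨b, hb⟩ := IsLocalization.exist_integer_multiples_of_finite (nonZeroDivisors A) v
  choose a ha using hb
  set d : F := algebraMap A F b with hd
  have hd0 : d ≠ 0 := by
    rw [hd]
    exact IsFractionRing.to_map_ne_zero_of_mem_nonZeroDivisors b.2
  have ha' : ∀ i, algebraMap A F (a i) = d * v i := by
    intro i
    rw [ha i, Algebra.smul_def]
  -- `a` is independent
  have h1 : LinearIndependent k (fun i => d * v i) := by
    have := hv.map' (LinearMap.mulLeft k d)
      (LinearMap.ker_eq_bot.mpr (by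
        intro x y hxy
        exact mul_left_cancel₀ hd0 hxy))
    exact this
  have h2 : LinearIndependent k a := by
    refine LinearIndependent.of_comp (IsScalarTower.toAlgHom k A F).toLinearMap ?_
    have key : ((IsScalarTower.toAlgHom k A F).toLinearMap ∘ a) = fun i => d * v i := by
      funext i
      simp [ha']
    rw [key]
    exact h1
  have h3 := hA _ _ h2
  have h4 : LinearIndependent k (fun i => (d * v i) ^ p) := by
    have := h3.map' (IsScalarTower.toAlgHom k A F).toLinearMap
      (LinearMap.ker_eq_bot.mpr (IsFractionRing.injective A F))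
    have key : (fun i => (d * v i) ^ p) =
        (IsScalarTower.toAlgHom k A F).toLinearMap ∘ fun i => a i ^ p := by
      funext i
      simp [← ha']
    rw [key]
    exact this
  have hdp : d ^ p ≠ 0 := pow_ne_zero _ hd0
  have h5 := h4.map' (LinearMap.mulLeft k (d ^ p)⁻¹)
    (LinearMap.ker_eq_bot.mpr (by
      intro x y hxy
      exact mul_left_cancel₀ (inv_ne_zero hdp) hxy))
  have key : (fun i => v i ^ p) = (LinearMap.mulLeft k (d ^ p)⁻¹) ∘ fun i => (d * v i) ^ p := by
    funext i
    simp only [Function.comp_apply, LinearMap.mulLeft_apply, mul_pow]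
    rw [← mul_assoc, inv_mul_cancel₀ hdp, one_mul]
  rw [key]
  exact h5

theorem Phi_tower {k F K : Type*} [Field k] [Field F] [Field K] [Algebra k F] [Algebra F K]
    [Algebra k K] [IsScalarTower k F K] (p : ℕ) [ExpChar k p] [ExpChar F p] [ExpChar K p]
    [Algebra.IsSeparable F K] (hF : Phi k F p) : Phi k K p := by
  let b := Module.Basis.ofVectorSpace k F
  let c := Module.Basis.ofVectorSpace F K
  have hb' := hF.apply b b.linearIndependent
  have hc' : LinearIndependent F (fun j => c j ^ p) := by
    have := c.linearIndependent.map_pow_expChar_pow_of_isSeparable p 1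
    simpa using this
  have hbc := linearIndependent_smul hb' hc'
  refine Phi_of_basis p (b.smulTower c) ?_
  have key : (fun ij => (b.smulTower c) ij ^ p) = fun ij : _ × _ => b ij.1 ^ p • c ij.2 ^ p := by
    funext ij
    rw [Module.Basis.smulTower_apply, Algebra.smul_def, mul_pow, ← map_pow, Algebra.smul_def]
  rw [key]
  exact hbc

open scoped IntermediateField.algebraAdjoinAdjoin in
theorem Phi_sepGen {k K : Type*} [Field k] [Field K] [Algebra k K] (p : ℕ) [ExpChar k p]
    [ExpChar K p] {ι : Type*} (x : ι → K) (hx : AlgebraicIndependent k x)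
    [Algebra.IsSeparable (IntermediateField.adjoin k (Set.range x)) K] : Phi k K p := by
  have h1 : Phi k (MvPolynomial ι k) p := Phi_mvPolynomial k ι p
  have h2 : Phi k (Algebra.adjoin k (Set.range x)) p :=
    Phi_of_injective p hx.aevalEquiv.symm.toAlgHom hx.aevalEquiv.symm.injective h1
  have h3 : Phi k (IntermediateField.adjoin k (Set.range x)) p := Phi_fraction p h2
  haveI : ExpChar (IntermediateField.adjoin k (Set.range x)) p :=
    expChar_of_injective_algebraMap
      (algebraMap k (IntermediateField.adjoin k (Set.range x))).injective p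
  exact Phi_tower p h3

universe u

theorem main {k K : Type u} [Field k] [Field K] [Algebra k K]
    (h : ∃ (ι : Type u) (x : ι → K), IsTranscendenceBasis k x ∧
      Algebra.IsSeparable (IntermediateField.adjoin k (Set.range x)) K)
    (K' : IntermediateField k K)
    (hK' : ∃ s : Finset K, IntermediateField.adjoin k (s : Set K) = K') :
    ∃ (ι : Type u) (x : ι → K'), IsTranscendenceBasis k x ∧
      Algebra.IsSeparable (IntermediateField.adjoin k (Set.range x)) K' := by
  haveI : Algebra.EssFiniteType k K' := IntermediateField.essFiniteType_iff.mpr hK'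
  suffices H : ∃ s : Finset K', IsTranscendenceBasis k ((↑) : s → K') ∧
      Algebra.IsSeparable (IntermediateField.adjoin k (s : Set K')) K' by
    obtain ⟨s, hs1, hs2⟩ := H
    refine ⟨s, fun i => (i : K'), hs1, ?_⟩
    have : Set.range (fun i : s => (i : K')) = (s : Set K') := Subtype.range_coe
    rw [this]
    exact hs2
  obtain _ | ⟨p, hp, hpk⟩ := CharP.exists' k
  · exact exists_isTranscendenceBasis_and_isSeparable_of_perfectField k K'
  · haveI : ExpChar k p := .prime hp.out
    haveI : ExpChar K p := expChar_of_injective_algebraMap (algebraMap k K).injective p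
    obtain ⟨ι, x, hx, hsep⟩ := h
    have hΦ : Phi k K p := Phi_sepGen p x hx.1
    have hΦ' : Phi k K' p := Phi_of_injective p K'.val Subtype.val_injective hΦ
    refine exists_isTranscendenceBasis_and_isSeparable_of_linearIndepOn_pow_of_essFiniteType
      p hp.out ?_
    intro s hs
    exact hΦ'.apply (fun i : (s : Set K') => (i : K')) hs

end Groth.Agent.Helper8.SepGen
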