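import Mathlib

/-!
# Separable systems `X_i^p - c_i X_i - d_i` (root-grid toolkit)

Reduction modulo the system, roots in an algebraically closed field of characteristic `p`,
the grid vanishing lemma, and the resulting membership criterion for the ideal of relations.
-/

set_option autoImplicit false

namespace Groth.Agent.Helper8.SepSys

open MvPolynomial

section Basic

variable {R : Type*} [CommRing R] {ι : Type*}

/-- Artin–Schreier-type relation `X_i^p - c_i X_i - d_i`. -/
noncomputable def rel (p : ℕ) (c d : ι → R) (i : ι) : MvPolynomial ι R :=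
  X i ^ p - C (c i) * X i - C (d i)

/-- The ideal generated by the relations. -/
noncomputable def relIdeal (p : ℕ) (c d : ι → R) : Ideal (MvPolynomial ι R) :=
  Ideal.span (Set.range (rel p c d))

theorem relIdeal_def (p : ℕ) (c d : ι → R) :
    relIdeal p c d = Ideal.span (Set.range fun i : ι => X i ^ p - C (c i) * X i - C (d i)) := rfl

theorem rel_mem (p : ℕ) (c d : ι → R) (i : ι) : rel p c d i ∈ relIdeal p c d :=
  Ideal.subset_span ⟨i, rfl⟩

theorem monomial_mem_sup (p : ℕ) (hp : 2 ≤ p) (c d : ι → R) :
    ∀ (N : ℕ) (e : ι →₀ ℕ), Finsupp.degree e = N →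
      monomial e (1 : R) ∈
        ((relIdeal p c d).restrictScalars R ⊔ restrictDegree ι R (p - 1)) := by
  intro N
  induction N using Nat.strong_induction_on with
  | _ N ih =>
    intro e hN
    by_cases h : ∀ i, e i ≤ p - 1
    · refine Submodule.mem_sup_right ?_
      rw [mem_restrictDegree]
      intro s hs i
      have hse : s = e := by
        classical
        have h1 := MvPolynomial.support_monomial_subset hs
        exact Finset.mem_singleton.1 h1
      rw [hse]; exact h i
    · push_neg at h
      obtain ⟨i, hi⟩ := h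
      have hpi : p ≤ e i := by omega
      obtain ⟨e', he'⟩ : ∃ e' : ι →₀ ℕ, e = e' + Finsupp.single i p := by
        refine ⟨e - Finsupp.single i p, ?_⟩
        ext j
        rw [Finsupp.add_apply, Finsupp.tsub_apply]
        by_cases hj : i = j
        · subst hj; rw [Finsupp.single_eq_same]; omega
        · simp [Finsupp.single_apply, hj]
      subst he'
      have hdeg : Finsupp.degree e' + p = N := by
        rw [← hN, map_add, Finsupp.degree_single]
      have key : monomial (e' + Finsupp.single i p) (1 : R) =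
          monomial e' 1 * rel p c d i +
            (c i • monomial (e' + Finsupp.single i 1) (1 : R) + d i • monomial e' (1 : R)) := by
        rw [monomial_add_single, monomial_add_single, pow_one, rel, smul_eq_C_mul, smul_eq_C_mul]
        ring
      rw [key]
      refine Submodule.add_mem _ (Submodule.mem_sup_left ?_)
        (Submodule.add_mem _ (Submodule.smul_mem _ _ ?_) (Submodule.smul_mem _ _ ?_))
      · exact (Submodule.restrictScalars_mem R _ _).2 (Ideal.mul_mem_left _ _ (rel_mem p c d i))
      · refine ih (Finsupp.degree e' + 1) (by omega) _ ?_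
        rw [map_add, Finsupp.degree_single]
      · exact ih (Finsupp.degree e') (by omega) _ rfl

/-- Reduction: every polynomial is congruent modulo the relations to one of degree `< p` in
every variable. -/
theorem exists_reduced (p : ℕ) (hp : 2 ≤ p) (c d : ι → R) (F : MvPolynomial ι R) :
    ∃ G ∈ restrictDegree ι R (p - 1), F - G ∈ relIdeal p c d := by
  have hF : F ∈ ((relIdeal p c d).restrictScalars R ⊔ restrictDegree ι R (p - 1)) := by
    refine MvPolynomial.induction_on' F (fun e a => ?_) (fun f g hf hg => Submodule.add_mem _ hf hg)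
    have : monomial e a = a • monomial e (1 : R) := by
      rw [smul_monomial, smul_eq_mul, mul_one]
    rw [this]
    exact Submodule.smul_mem _ _ (monomial_mem_sup p hp c d _ e rfl)
  obtain ⟨y, hy, G, hG, hyG⟩ := Submodule.mem_sup.1 hF
  refine ⟨G, hG, ?_⟩
  have h1 : F - G = y := by rw [← hyG]; ring
  rw [h1]
  exact (Submodule.restrictScalars_mem R _ _).1 hy

end Basic

section Roots

/-- In an algebraically closed field of characteristic `p`, `X^p - γ X - δ` (`γ ≠ 0`) has `p`
distinct roots. -/
theorem exists_roots {K : Type*} [Field K] [IsAlgClosed K] (p : ℕ) [Fact p.Prime] [CharP K p]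
    (γ δ : K) (hγ : γ ≠ 0) :
    ∃ S : Finset K, S.card = p ∧ ∀ ρ ∈ S, ρ ^ p - γ * ρ - δ = 0 := by
  classical
  have hp := (Fact.out : p.Prime)
  obtain ⟨f, hf⟩ : ∃ f : Polynomial K,
      f = Polynomial.X ^ p - (Polynomial.C γ * Polynomial.X + Polynomial.C δ) := ⟨_, rfl⟩
  have hlin : (Polynomial.C γ * Polynomial.X + Polynomial.C δ).degree <
      (Polynomial.X ^ p : Polynomial K).degree := by
    rw [Polynomial.degree_X_pow]
    refine lt_of_le_of_lt Polynomial.degree_linear_le ?_
    exact_mod_cast hp.one_lt
  have hmonic : f.Monic := by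
    rw [hf]; exact (Polynomial.monic_X_pow p).sub_of_left hlin
  have hnat : f.natDegree = p := by
    rw [hf, Polynomial.natDegree_sub_eq_left_of_natDegree_lt, Polynomial.natDegree_X_pow]
    rw [Polynomial.natDegree_X_pow]
    exact lt_of_le_of_lt Polynomial.natDegree_linear_le hp.one_lt
  have hf0 : f ≠ 0 := hmonic.ne_zero
  have h1 : (p : K) = 0 := CharP.cast_eq_zero K p
  have hder : Polynomial.derivative f = - Polynomial.C γ := by
    rw [hf, Polynomial.derivative_sub, Polynomial.derivative_X_pow, h1, Polynomial.C_0, zero_mul,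
      zero_sub, Polynomial.derivative_add, Polynomial.derivative_C, add_zero,
      Polynomial.derivative_C_mul, Polynomial.derivative_X, mul_one]
  have hsep : f.Separable := by
    rw [Polynomial.separable_def]
    refine ⟨0, - Polynomial.C γ⁻¹, ?_⟩
    rw [hder, zero_mul, zero_add, neg_mul_neg, ← Polynomial.C_mul, inv_mul_cancel₀ hγ,
      Polynomial.C_1]
  have hcard : Multiset.card f.roots = p := by
    rw [← hnat]; exact IsAlgClosed.card_roots_eq_natDegree
  refine ⟨f.roots.toFinset, ?_, ?_⟩
  · rw [Multiset.toFinset_card_of_nodup (Polynomial.nodup_roots hsep), hcard]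
  · intro ρ hρ
    have h2 := (Polynomial.mem_roots hf0).1 (Multiset.mem_toFinset.1 hρ)
    rw [Polynomial.IsRoot.def, hf] at h2
    simp only [Polynomial.eval_sub, Polynomial.eval_add, Polynomial.eval_mul, Polynomial.eval_pow,
      Polynomial.eval_X, Polynomial.eval_C] at h2
    linear_combination h2

end Roots

section Grid

/-- Grid lemma: a reduced polynomial vanishing on a product of `p`-element sets is zero. -/
theorem eq_zero_of_grid {R K : Type*} [CommRing R] [Field K] {ι : Type*} [Finite ι]
    (φ : R →+* K) (hφ : Function.Injective φ) (p : ℕ) (hp : 0 < p)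
    (S : ι → Finset K) (hS : ∀ i, (S i).card = p)
    (G : MvPolynomial ι R) (hG : G ∈ restrictDegree ι R (p - 1))
    (hev : ∀ ρ : ι → K, (∀ i, ρ i ∈ S i) → eval₂ φ ρ G = 0) : G = 0 := by
  have hmap : map φ G = 0 := by
    refine MvPolynomial.eq_zero_of_eval_zero_at_prod_finset (map φ G) S ?_ ?_
    · intro i
      rw [hS i, degreeOf_lt_iff hp]
      intro m hm
      have hm' := support_map_subset φ G hm
      have := (mem_restrictDegree ι G (p - 1)).1 hG m hm' i
      omega
    · intro ρ hρ
      rw [eval_map]; exact hev ρ hρ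
  exact map_injective φ hφ (by rw [hmap, map_zero])

/-- Points: a root tuple kills the ideal of relations. -/
theorem eval₂_eq_zero_of_mem {R K : Type*} [CommRing R] [CommRing K] {ι : Type*}
    (φ : R →+* K) (p : ℕ) (c d : ι → R) (ρ : ι → K)
    (hρ : ∀ i, ρ i ^ p - φ (c i) * ρ i - φ (d i) = 0)
    (F : MvPolynomial ι R) (hF : F ∈ relIdeal p c d) : eval₂ φ ρ F = 0 := by
  have hle : relIdeal p c d ≤ RingHom.ker (eval₂Hom φ ρ) := by
    rw [relIdeal, Ideal.span_le]
    rintro _ ⟨i, rfl⟩
    rw [SetLike.mem_coe, RingHom.mem_ker, rel]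
    simp only [map_sub, map_mul, map_pow, eval₂Hom_X', eval₂Hom_C]
    exact hρ i
  exact RingHom.mem_ker.1 (hle hF)

/-- Vanishing criterion: a polynomial vanishing at all root tuples lies in the ideal of
relations. -/
theorem mem_of_forall_eval₂ {R K : Type*} [CommRing R] [Field K] [IsAlgClosed K] {ι : Type*}
    [Finite ι] (φ : R →+* K) (hφ : Function.Injective φ) (p : ℕ) [Fact p.Prime] [CharP K p]
    (c d : ι → R) (hc : ∀ i, φ (c i) ≠ 0) (F : MvPolynomial ι R)
    (hF : ∀ ρ : ι → K, (∀ i, ρ i ^ p - φ (c i) * ρ i - φ (d i) = 0) → eval₂ φ ρ F = 0) :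
    F ∈ relIdeal p c d := by
  have hp := (Fact.out : p.Prime)
  obtain ⟨G, hG, hFG⟩ := exists_reduced p hp.two_le c d F
  have hroots : ∀ i, ∃ S : Finset K, S.card = p ∧
      ∀ ρ ∈ S, ρ ^ p - φ (c i) * ρ - φ (d i) = 0 := fun i =>
    exists_roots p (φ (c i)) (φ (d i)) (hc i)
  choose S hScard hSroot using hroots
  have hG0 : G = 0 := by
    refine eq_zero_of_grid φ hφ p hp.pos S hScard G hG ?_
    intro ρ hρ
    have hρ' : ∀ i, ρ i ^ p - φ (c i) * ρ i - φ (d i) = 0 := fun i => hSroot i (ρ i) (hρ i)
    have h1 := hF ρ hρ'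
    have h2 := eval₂_eq_zero_of_mem φ p c d ρ hρ' (F - G) hFG
    rw [eval₂_sub, h1, zero_sub, neg_eq_zero] at h2
    exact h2
  rw [hG0, sub_zero] at hFG
  exact hFG

/-- Composition of evaluation with substitution. -/
theorem eval₂_aeval' {R K : Type*} [CommRing R] [CommRing K] {σ τ : Type*}
    (φ : R →+* K) (ρ : τ → K) (g : σ → MvPolynomial τ R) (F : MvPolynomial σ R) :
    eval₂ φ ρ (aeval g F) = eval₂ φ (fun i => eval₂ φ ρ (g i)) F := by
  induction F using MvPolynomial.induction_on with
  | C r => simp
  | add f1 f2 h1 h2 => rw [map_add, eval₂_add, eval₂_add, h1, h2]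
  | mul_X f i h => rw [map_mul, eval₂_mul, eval₂_mul, h, aeval_X, eval₂_X]

end Grid

section Univariate

theorem eval_eval₂_poly {R K : Type*} [CommRing R] [CommRing K] {ι : Type*} [DecidableEq ι]
    (φ : R →+* K) (ω : ι → K) (i₀ : ι) (w : K) (G : MvPolynomial ι R) :
    Polynomial.eval w (eval₂ (Polynomial.C.comp φ)
        (fun i => if i = i₀ then Polynomial.X else Polynomial.C (ω i)) G)
      = eval₂ φ (Function.update ω i₀ w) G := by
  induction G using MvPolynomial.induction_on with
  | C r => simp
  | add f1 f2 h1 h2 => rw [eval₂_add, eval₂_add, Polynomial.eval_add, h1, h2]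
  | mul_X f i h =>
    rw [eval₂_mul, eval₂_mul, Polynomial.eval_mul, h, eval₂_X, eval₂_X]
    congr 1
    by_cases hi : i = i₀
    · rw [if_pos hi, Polynomial.eval_X, hi, Function.update_self]
    · rw [if_neg hi, Polynomial.eval_C, Function.update_of_ne hi]

theorem natDegree_eval₂_poly_le {R K : Type*} [CommRing R] [CommRing K] {ι : Type*} [Fintype ι]
    [DecidableEq ι] (φ : R →+* K) (ω : ι → K) (i₀ : ι) (G : MvPolynomial ι R) (N : ℕ)
    (hG : ∀ m ∈ G.support, m i₀ ≤ N) :
    (eval₂ (Polynomial.C.comp φ)
        (fun i => if i = i₀ then Polynomial.X else Polynomial.C (ω i)) G).natDegree ≤ N := by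
  rw [eval₂_eq']
  refine Polynomial.natDegree_sum_le_of_forall_le _ _ ?_
  intro m hm
  rw [RingHom.comp_apply]
  refine (Polynomial.natDegree_C_mul_le _ _).trans ?_
  refine (Polynomial.natDegree_prod_le _ _).trans ?_
  have hterm : ∀ i ∈ (Finset.univ : Finset ι),
      ((if i = i₀ then (Polynomial.X : Polynomial K) else Polynomial.C (ω i)) ^ m i).natDegree
        ≤ (if i = i₀ then m i₀ else 0) := by
    intro i _
    by_cases hi : i = i₀
    · rw [if_pos hi, if_pos hi, hi]; exact Polynomial.natDegree_X_pow_le _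
    · rw [if_neg hi, if_neg hi, ← Polynomial.C_pow, Polynomial.natDegree_C]
  refine (Finset.sum_le_sum hterm).trans ?_
  rw [Finset.sum_ite_eq' Finset.univ i₀ (fun _ => m i₀), if_pos (Finset.mem_univ _)]
  exact hG m hm

/-- A reduced polynomial taking the same value at `p` points in the `i₀`-direction is constant in
that direction. -/
theorem eval₂_update_const {R K : Type*} [CommRing R] [Field K] {ι : Type*} [Fintype ι]
    [DecidableEq ι] (φ : R →+* K) (p : ℕ) (i₀ : ι) (G : MvPolynomial ι R)
    (hG : G ∈ restrictDegree ι R (p - 1)) (hp : 0 < p) (ω : ι → K) (pts : Finset K)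
    (hpts : pts.card = p) (v : K)
    (hv : ∀ w ∈ pts, eval₂ φ (Function.update ω i₀ w) G = v) (w : K) :
    eval₂ φ (Function.update ω i₀ w) G = v := by
  obtain ⟨h, hh⟩ : ∃ h : Polynomial K, h = eval₂ (Polynomial.C.comp φ)
      (fun i => if i = i₀ then Polynomial.X else Polynomial.C (ω i)) G := ⟨_, rfl⟩
  have hdeg : h.natDegree ≤ p - 1 := by
    rw [hh]
    exact natDegree_eval₂_poly_le φ ω i₀ G (p - 1)
      (fun m hm => (mem_restrictDegree ι G (p - 1)).1 hG m hm i₀)
  have hev : ∀ w, Polynomial.eval w h = eval₂ φ (Function.update ω i₀ w) G := fun w => by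
    rw [hh]; exact eval_eval₂_poly φ ω i₀ w G
  have hzero : h - Polynomial.C v = 0 := by
    refine Polynomial.eq_zero_of_natDegree_lt_card_of_eval_eq_zero' (h - Polynomial.C v) pts ?_ ?_
    · intro y hy
      rw [Polynomial.eval_sub, Polynomial.eval_C, hev, hv y hy, sub_self]
    · rw [hpts]
      have h3 := Polynomial.natDegree_sub_le h (Polynomial.C v)
      rw [Polynomial.natDegree_C, max_eq_left (Nat.zero_le _)] at h3
      omega
  have h4 := congrArg (Polynomial.eval w) hzero
  rw [Polynomial.eval_sub, Polynomial.eval_C, Polynomial.eval_zero, hev, sub_eq_zero] at h4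
  exact h4

end Univariate

end Groth.Agent.Helper8.SepSys
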