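import Mathlib
import Groth.Agent.Lib.Helper8.Serre4
import Groth.Agent.Lib.Helper8.Serre3
import Groth.Agent.Lib.Helper8.Sk1

/-!
# Normality of a hypersurface in a regular scheme
-/

set_option autoImplicit false
universe u

namespace Groth.Agent.Helper8.Serre

open LocCoh IsLocalRing Depth

/-- A quotient of a regular local ring by one element of the maximal ideal is Cohen–Macaulay. -/
theorem depth_eq_dim_quotient_singleton (R : Type u) [CommRing R] [IsRegularLocalRing R]
    (J : Ideal R) (x : R) (hJ : J = Ideal.span {x}) (hx : x ∈ maximalIdeal R)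
    [IsLocalRing (R ⧸ J)] :
    ((depth (R ⧸ J) (R ⧸ J) : ℕ∞) : WithBot ℕ∞) = ringKrullDim (R ⧸ J) := by
  have hdom := RLR.isDomain R
  have hR := ABS.depth_eq_dim_of_regular R
  by_cases hx0 : x = 0
  · have hJbot : J = ⊥ := by rw [hJ, hx0]; simp
    let σ : (R ⧸ J) ≃+* R := (Ideal.quotEquivOfEq hJbot).trans (RingEquiv.quotientBot R)
    rw [ringKrullDim_eq_of_ringEquiv σ, ← hR, depth_self_eq_of_ringEquiv σ.symm]
  · have hxreg : IsSMulRegular R x := fun a b hab => mul_left_cancel₀ hx0 hab
    have h1 := Sk.depth_quotient_add_one' R J x hJ hx hxreg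
    have h2 := Sk.ringKrullDim_quotient_add_one' R J x hJ hx hxreg
    rw [← h1] at hR
    rw [← h2] at hR
    have hfin : depth (R ⧸ J) (R ⧸ J) ≠ ⊤ := idealDepth_ne_top (smul_top_ne_top_of_local _ _)
    obtain ⟨e, he⟩ := ENat.ne_top_iff_exists.mp hfin
    rw [← he] at hR ⊢
    generalize ringKrullDim (R ⧸ J) = D at hR ⊢
    induction D with
    | bot =>
      exfalso
      rw [WithBot.bot_add] at hR
      exact WithBot.coe_ne_bot hR
    | coe D =>
      induction D with
      | top =>
        exfalso
        have h3 : (((e : ℕ∞) + 1 : ℕ∞) : WithBot ℕ∞) = (((⊤ : ℕ∞) + 1 : ℕ∞) : WithBot ℕ∞) := hR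
        rw [WithBot.coe_inj, top_add] at h3
        exact ENat.natCast_ne_top (e + 1) (by exact_mod_cast h3)
      | coe n =>
        have h3 : (((e : ℕ∞) + 1 : ℕ∞) : WithBot ℕ∞) = (((n : ℕ∞) + 1 : ℕ∞) : WithBot ℕ∞) := hR
        rw [WithBot.coe_inj] at h3
        have h4 : e + 1 = n + 1 := by exact_mod_cast h3
        have h5 : e = n := by omega
        rw [h5]

/-- A hypersurface in a regular ring satisfies all of Serre's conditions `(S_k)`. -/
theorem hasSk_quotient_singleton_of_regular (A : Type u) [CommRing A] [IsNoetherianRing A]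
    (hreg : ∀ (p : Ideal A) (_ : p.IsPrime), IsRegularLocalRing (Localization.AtPrime p))
    (f : A) (k : ℕ) : HasSk k (A ⧸ Ideal.span {f}) (A ⧸ Ideal.span {f}) := by
  rw [hasSk_self_iff]
  set I := Ideal.span {f} with hI
  intro 𝔮 h𝔮
  set q := 𝔮.comap (Ideal.Quotient.mk I) with hq
  have hqp : q.IsPrime := Ideal.comap_isPrime _ _
  have hIq : I ≤ q := by
    intro a ha
    rw [hq, Ideal.mem_comap, Ideal.Quotient.eq_zero_iff_mem.mpr ha]
    exact 𝔮.zero_mem
  have hmap : q.map (Ideal.Quotient.mk I) = 𝔮 :=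
    Ideal.map_comap_of_surjective _ Ideal.Quotient.mk_surjective 𝔮
  have hQ : (q.map (Ideal.Quotient.mk I)).IsPrime := hmap.symm ▸ h𝔮
  have := hreg q hqp
  set R := Localization.AtPrime q with hR
  set x := algebraMap A R f with hxdef
  have hfq : f ∈ q := hIq (Ideal.mem_span_singleton_self f)
  have hx : x ∈ maximalIdeal R := (IsLocalization.AtPrime.to_map_mem_maximal_iff R q f).mpr hfq
  set J := I.map (algebraMap A R) with hJdef
  have hJ : J = Ideal.span {x} := by
    rw [hJdef, hI, Ideal.map_span, Set.image_singleton]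
  have hJm : J ≤ maximalIdeal R := by
    rw [hJ, Ideal.span_singleton_le_iff_mem]; exact hx
  have : IsLocalRing (R ⧸ J) := RLR.isLocalRing_quotient hJm
  let σ : Localization.AtPrime (q.map (Ideal.Quotient.mk I)) ≃+* (R ⧸ J) :=
    Sk.locQuotEquiv A I q hIq
  have h1 := depth_eq_dim_quotient_singleton R J x hJ hx
  have h3 : depth (R ⧸ J) (R ⧸ J) = depth (Localization.AtPrime (q.map (Ideal.Quotient.mk I)))
      (Localization.AtPrime (q.map (Ideal.Quotient.mk I))) := depth_self_eq_of_ringEquiv σ
  have h4 : ringKrullDim (R ⧸ J) = ((q.map (Ideal.Quotient.mk I)).height : WithBot ℕ∞) := by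
    rw [← ringKrullDim_eq_of_ringEquiv σ,
      IsLocalization.AtPrime.ringKrullDim_eq_height (q.map (Ideal.Quotient.mk I))
        (Localization.AtPrime (q.map (Ideal.Quotient.mk I)))]
  rw [h3, h4] at h1
  have key : ∀ (𝔮' : Ideal (A ⧸ I)) [𝔮'.IsPrime], 𝔮' = q.map (Ideal.Quotient.mk I) →
      min (k : WithBot ℕ∞) (𝔮'.height : WithBot ℕ∞) ≤
        ((depth (Localization.AtPrime 𝔮') (Localization.AtPrime 𝔮') : ℕ∞) : WithBot ℕ∞) := by
    intro 𝔮' _ h𝔮'
    subst h𝔮'
    rw [h1]
    exact min_le_right _ _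
  exact key 𝔮 hmap.symm

end Groth.Agent.Helper8.Serre

namespace Groth.Agent.Helper8.Serre

open LocCoh IsLocalRing Depth

theorem isIntegrallyClosed_hypersurface_iff (A : Type u) [CommRing A] [IsNoetherianRing A]
    (hreg : ∀ (p : Ideal A) (_ : p.IsPrime), IsRegularLocalRing (Localization.AtPrime p))
    (f : A) (hf : (Ideal.span ({f} : Set A)).IsPrime) :
    IsIntegrallyClosed (A ⧸ Ideal.span ({f} : Set A)) ↔
      ∀ q : PrimeSpectrum (A ⧸ Ideal.span ({f} : Set A)),
        ringKrullDim (Localization.AtPrime q.asIdeal) = 1 →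
          IsRegularLocalRing (Localization.AtPrime q.asIdeal) := by
  haveI := hf
  have hdom : IsDomain (A ⧸ Ideal.span ({f} : Set A)) := inferInstance
  constructor
  · intro hic q hq
    have h : ∀ (p : Ideal (A ⧸ Ideal.span ({f} : Set A))) [p.IsPrime],
        IsDomain (Localization.AtPrime p) ∧ IsIntegrallyClosed (Localization.AtPrime p) := by
      intro p _
      exact ⟨inferInstance,
        isIntegrallyClosed_of_isLocalization (Localization.AtPrime p) p.primeCompl
          p.primeCompl_le_nonZeroDivisors⟩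
    refine hasRk_one_of_normal _ h q.asIdeal ?_
    rw [IsLocalization.AtPrime.ringKrullDim_eq_height q.asIdeal] at hq
    have : q.asIdeal.height = 1 := by exact_mod_cast hq
    rw [this]
    norm_num
  · intro h
    refine isIntegrallyClosed_of_R1_S2 _ ?_ (hasSk_quotient_singleton_of_regular A hreg f 2)
    intro p _ hp
    by_cases h1 : ringKrullDim (Localization.AtPrime p) = 1
    · exact h ⟨p, inferInstance⟩ h1
    · have hdim : ringKrullDim (Localization.AtPrime p) = p.height :=
        IsLocalization.AtPrime.ringKrullDim_eq_height p _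
      have h0 : ringKrullDim (Localization.AtPrime p) ≤ 0 := by
        rw [hdim] at h1 ⊢
        have h2 : p.height ≠ 1 := fun h3 => h1 (by rw [h3]; rfl)
        have h3 : p.height ≤ 1 := by exact_mod_cast hp
        have h4 : p.height < 1 := lt_of_le_of_ne h3 h2
        have h5 : p.height = 0 := Order.lt_one_iff.mp h4
        rw [h5]
        rfl
      have hK : Ring.KrullDimLE 0 (Localization.AtPrime p) := Ring.krullDimLE_iff.mpr h0
      exact isRegularLocalRing_of_isField _ Ring.KrullDimLE.isField_of_isDomain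

end Groth.Agent.Helper8.Serre
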