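import Mathlib

/-!
# Sig24a: the quintic `D = E2 * E3 - E1 * E4` in four variables is prime

Helper library for S12437 (irreducibility of `V(σ₂, σ₄) ⊂ A^5`).
We prove, over a field of characteristic zero:
* `e2 = y0 y1 + y0 y2 + y1 y2` is prime in `k[y0,y1,y2]` (linear in `y0`, primitive);
* `D = E2 E3 - E1 E4` is prime in `k[y0..y3]` (Eisenstein at `(e2)` with respect to `y0`);
* there is a field `L` and a ring hom `ι : k[y0..y3] → L` with kernel exactly `(D)`.
-/

set_option autoImplicit false
universe u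

namespace Groth.Agent.Helper8.Sig24a

open MvPolynomial

/-! ## degree one primitive polynomials are irreducible -/

theorem irreducible_linear {R : Type*} [CommRing R] [IsDomain R] (a b : R) (ha : a ≠ 0)
    (hab : ∀ r : R, r ∣ a → r ∣ b → IsUnit r) :
    Irreducible (Polynomial.C a * Polynomial.X + Polynomial.C b) := by
  have hdeg : (Polynomial.C a * Polynomial.X + Polynomial.C b).natDegree = 1 :=
    Polynomial.natDegree_linear ha
  have hne : (Polynomial.C a * Polynomial.X + Polynomial.C b) ≠ 0 := by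
    intro h
    rw [h] at hdeg
    simp at hdeg
  have hC : ∀ r : R, Polynomial.C r ∣ (Polynomial.C a * Polynomial.X + Polynomial.C b) →
      IsUnit r := by
    intro r hr
    rw [Polynomial.C_dvd_iff_dvd_coeff] at hr
    apply hab r
    · have h1 := hr 1
      simpa using h1
    · have h0 := hr 0
      simpa using h0
  refine irreducible_iff.mpr ⟨?_, ?_⟩
  · intro hu
    have := Polynomial.natDegree_eq_zero_of_isUnit hu
    omega
  · intro f g hfg
    have hf0 : f ≠ 0 := by
      rintro rfl
      rw [zero_mul] at hfg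
      exact hne hfg
    have hg0 : g ≠ 0 := by
      rintro rfl
      rw [mul_zero] at hfg
      exact hne hfg
    have hd : f.natDegree + g.natDegree = 1 := by
      rw [← Polynomial.natDegree_mul hf0 hg0, ← hfg, hdeg]
    rcases Nat.eq_zero_or_pos f.natDegree with h0 | hpos
    · left
      have hr : f = Polynomial.C (f.coeff 0) := Polynomial.eq_C_of_natDegree_eq_zero h0
      have hu : IsUnit (f.coeff 0) := by
        apply hC
        rw [← hr]
        exact ⟨g, hfg⟩
      rw [hr]
      exact Polynomial.isUnit_C.mpr hu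
    · right
      have h0 : g.natDegree = 0 := by omega
      have hr : g = Polynomial.C (g.coeff 0) := Polynomial.eq_C_of_natDegree_eq_zero h0
      have hu : IsUnit (g.coeff 0) := by
        apply hC
        rw [← hr]
        exact ⟨f, by rw [hfg, mul_comm]⟩
      rw [hr]
      exact Polynomial.isUnit_C.mpr hu

section Step3

variable (k : Type u) [Field k]

theorem th3_X0 : finSuccEquiv k 2 (X 0) = Polynomial.X := finSuccEquiv_X_zero
theorem th3_X1 : finSuccEquiv k 2 (X 1) = Polynomial.C (X 0) :=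
  finSuccEquiv_X_succ (j := (0 : Fin 2))
theorem th3_X2 : finSuccEquiv k 2 (X 2) = Polynomial.C (X 1) :=
  finSuccEquiv_X_succ (j := (1 : Fin 2))

theorem uv_ne_zero : (X 0 + X 1 : MvPolynomial (Fin 2) k) ≠ 0 := by
  intro h
  have h1 := congrArg (eval ![(1:k), 0]) h
  simp at h1

theorem coprime_uv (r : MvPolynomial (Fin 2) k) (h1 : r ∣ X 0 + X 1) (h2 : r ∣ X 0 * X 1) :
    IsUnit r := by
  obtain ⟨s, hs⟩ := h1
  have hne := uv_ne_zero k
  have hr0 : r ≠ 0 := by
    rintro rfl
    rw [zero_mul] at hs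
    exact hne hs
  have hs0 : s ≠ 0 := by
    rintro rfl
    rw [mul_zero] at hs
    exact hne hs
  have hdeg : r.totalDegree + s.totalDegree ≤ 1 := by
    rw [← totalDegree_mul_of_isDomain hr0 hs0, ← hs]
    refine (totalDegree_add _ _).trans ?_
    simp [totalDegree_X]
  rcases Nat.eq_zero_or_pos r.totalDegree with h0 | hpos
  · rw [totalDegree_eq_zero_iff_eq_C] at h0
    have hc : coeff 0 r ≠ 0 := by
      intro hc
      apply hr0
      rw [h0, hc, C_0]
    have hu : IsUnit (C (coeff 0 r) : MvPolynomial (Fin 2) k) :=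
      (isUnit_iff_ne_zero.mpr hc).map C
    rw [h0]
    exact hu
  · exfalso
    have h0 : s.totalDegree = 0 := by omega
    rw [totalDegree_eq_zero_iff_eq_C] at h0
    have hc : coeff 0 s ≠ 0 := by
      intro hc
      apply hs0
      rw [h0, hc, C_0]
    obtain ⟨t, ht⟩ := h2
    have hpt : eval ![(1:k), -1] (X 0 + X 1 : MvPolynomial (Fin 2) k) = 0 := by simp
    have hpt2 : eval ![(1:k), -1] (X 0 * X 1 : MvPolynomial (Fin 2) k) = -1 := by simp
    have hs' : eval ![(1:k), -1] s = coeff 0 s := by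
      conv_lhs => rw [h0]
      exact eval_C _
    rw [hs, map_mul, hs'] at hpt
    rw [ht, map_mul] at hpt2
    rcases mul_eq_zero.mp hpt with h | h
    · rw [h, zero_mul] at hpt2
      simp at hpt2
    · exact hc h

/-- elementary symmetric polynomials in three variables -/
noncomputable def e1 : MvPolynomial (Fin 3) k := X 0 + X 1 + X 2
noncomputable def e2 : MvPolynomial (Fin 3) k := X 0 * X 1 + X 0 * X 2 + X 1 * X 2
noncomputable def e3 : MvPolynomial (Fin 3) k := X 0 * X 1 * X 2

theorem th3_e2 : finSuccEquiv k 2 (e2 k) =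
    Polynomial.C (X 0 + X 1) * Polynomial.X + Polynomial.C (X 0 * X 1) := by
  simp only [e2, map_add, map_mul, th3_X0, th3_X1, th3_X2]
  ring

theorem prime_e2 : Prime (e2 k) := by
  have hirr : Irreducible (finSuccEquiv k 2 (e2 k)) := by
    rw [th3_e2]
    apply irreducible_linear
    · exact uv_ne_zero k
    · exact coprime_uv k
  exact ((MulEquiv.irreducible_iff (finSuccEquiv k 2)).mp hirr).prime

theorem eval_e1 : eval ![(2:k), 2, -1] (e1 k) = 3 := by simp [e1]; norm_num
theorem eval_e2 : eval ![(2:k), 2, -1] (e2 k) = 0 := by simp [e2]; norm_num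
theorem eval_e3 : eval ![(2:k), 2, -1] (e3 k) = -4 := by simp [e3]; norm_num

theorem e2_not_dvd_e3 [CharZero k] : ¬ e2 k ∣ e3 k := by
  rintro ⟨t, ht⟩
  have h := congrArg (eval ![(2:k), 2, -1]) ht
  simp only [map_mul, eval_e2, eval_e3, zero_mul] at h
  norm_num at h

/-- leading coefficient `e1 e2 - e3 = (y0+y1)(y0+y2)(y1+y2)` -/
noncomputable def cA : MvPolynomial (Fin 3) k := e1 k * e2 k - e3 k

theorem e2_not_dvd_A [CharZero k] : ¬ e2 k ∣ cA k := by
  rintro ⟨t, ht⟩
  have h := congrArg (eval ![(2:k), 2, -1]) ht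
  simp only [cA, map_sub, map_mul, eval_e1, eval_e2, eval_e3, zero_mul, mul_zero] at h
  norm_num at h

/-- the image of `D` in `k[y1,y2,y3][y0]` -/
noncomputable def fD : Polynomial (MvPolynomial (Fin 3) k) :=
  Polynomial.C (cA k) * Polynomial.X ^ 2 + Polynomial.C (e2 k ^ 2) * Polynomial.X +
    Polynomial.C (e2 k * e3 k)

theorem fD_coeff0 : (fD k).coeff 0 = e2 k * e3 k := by
  rw [fD]
  simp only [Polynomial.coeff_add, Polynomial.coeff_C_mul, Polynomial.coeff_C,
    Polynomial.coeff_X_pow, Polynomial.coeff_X]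
  simp
theorem fD_coeff1 : (fD k).coeff 1 = e2 k ^ 2 := by
  rw [fD]
  simp only [Polynomial.coeff_add, Polynomial.coeff_C_mul, Polynomial.coeff_C,
    Polynomial.coeff_X_pow, Polynomial.coeff_X]
  simp
theorem fD_coeff2 : (fD k).coeff 2 = cA k := by
  rw [fD]
  simp only [Polynomial.coeff_add, Polynomial.coeff_C_mul, Polynomial.coeff_C,
    Polynomial.coeff_X_pow, Polynomial.coeff_X]
  simp

theorem irreducible_fD [CharZero k] : Irreducible (fD k) := by
  have hA : cA k ≠ 0 := by
    intro h
    apply e2_not_dvd_A k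
    rw [h]
    exact dvd_zero _
  have hP : (Ideal.span {e2 k}).IsPrime :=
    (Ideal.span_singleton_prime (prime_e2 k).ne_zero).mpr (prime_e2 k)
  have hdeg : (fD k).degree = 2 := Polynomial.degree_quadratic hA
  have hlead : (fD k).leadingCoeff = cA k := Polynomial.leadingCoeff_quadratic hA
  apply Polynomial.irreducible_of_eisenstein_criterion hP
  · rw [hlead, Ideal.mem_span_singleton]
    exact e2_not_dvd_A k
  · intro n hn
    rw [hdeg] at hn
    have hn' : n < 2 := by exact_mod_cast hn
    rw [Ideal.mem_span_singleton]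
    interval_cases n
    · rw [fD_coeff0]
      exact dvd_mul_right _ _
    · rw [fD_coeff1]
      exact dvd_pow_self _ two_ne_zero
  · rw [hdeg]
    norm_num
  · rw [Ideal.span_singleton_pow, Ideal.mem_span_singleton, fD_coeff0, pow_two]
    intro h
    exact e2_not_dvd_e3 k ((mul_dvd_mul_iff_left (prime_e2 k).ne_zero).mp h)
  · intro r hr
    rw [Polynomial.C_dvd_iff_dvd_coeff] at hr
    have h1 : r ∣ e2 k ^ 2 := by
      have h := hr 1
      rwa [fD_coeff1] at h
    have h2 : r ∣ cA k := by
      have h := hr 2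
      rwa [fD_coeff2] at h
    obtain ⟨i, _, hassoc⟩ := (dvd_prime_pow (prime_e2 k) 2).mp h1
    rcases Nat.eq_zero_or_pos i with hi0 | hpos
    · rw [hi0, pow_zero] at hassoc
      exact associated_one_iff_isUnit.mp hassoc
    · exfalso
      apply e2_not_dvd_A k
      have h3 : e2 k ∣ r := (dvd_pow_self (e2 k) hpos.ne').trans hassoc.symm.dvd
      exact h3.trans h2

end Step3

section Step2

variable (k : Type u) [Field k]

theorem th4_X0 : finSuccEquiv k 3 (X 0) = Polynomial.X := finSuccEquiv_X_zero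
theorem th4_X1 : finSuccEquiv k 3 (X 1) = Polynomial.C (X 0) :=
  finSuccEquiv_X_succ (j := (0 : Fin 3))
theorem th4_X2 : finSuccEquiv k 3 (X 2) = Polynomial.C (X 1) :=
  finSuccEquiv_X_succ (j := (1 : Fin 3))
theorem th4_X3 : finSuccEquiv k 3 (X 3) = Polynomial.C (X 2) :=
  finSuccEquiv_X_succ (j := (2 : Fin 3))

/-- elementary symmetric polynomials in four variables -/
noncomputable def E1 : MvPolynomial (Fin 4) k := X 0 + X 1 + X 2 + X 3
noncomputable def E2 : MvPolynomial (Fin 4) k :=
  X 0 * X 1 + X 0 * X 2 + X 0 * X 3 + X 1 * X 2 + X 1 * X 3 + X 2 * X 3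
noncomputable def E3 : MvPolynomial (Fin 4) k :=
  X 0 * X 1 * X 2 + X 0 * X 1 * X 3 + X 0 * X 2 * X 3 + X 1 * X 2 * X 3
noncomputable def E4 : MvPolynomial (Fin 4) k := X 0 * X 1 * X 2 * X 3

/-- the resultant-type quintic -/
noncomputable def D : MvPolynomial (Fin 4) k := E2 k * E3 k - E1 k * E4 k

theorem th4_D : finSuccEquiv k 3 (D k) = fD k := by
  simp only [D, E1, E2, E3, E4, fD, cA, e1, e2, e3, map_add, map_mul, map_sub, map_pow,
    th4_X0, th4_X1, th4_X2, th4_X3]
  ring

theorem prime_D [CharZero k] : Prime (D k) := by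
  have hirr : Irreducible (finSuccEquiv k 3 (D k)) := by
    rw [th4_D]
    exact irreducible_fD k
  exact ((MulEquiv.irreducible_iff (finSuccEquiv k 3)).mp hirr).prime

theorem exists_iota [CharZero k] :
    ∃ (L : Type u) (_ : Field L) (ι : MvPolynomial (Fin 4) k →+* L),
      ∀ g, ι g = 0 ↔ D k ∣ g := by
  have hD : Prime (D k) := prime_D k
  haveI : (Ideal.span {D k}).IsPrime := (Ideal.span_singleton_prime hD.ne_zero).mpr hD
  refine ⟨FractionRing (MvPolynomial (Fin 4) k ⧸ Ideal.span {D k}), inferInstance,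
    (algebraMap (MvPolynomial (Fin 4) k ⧸ Ideal.span {D k})
      (FractionRing (MvPolynomial (Fin 4) k ⧸ Ideal.span {D k}))).comp
      (Ideal.Quotient.mk (Ideal.span {D k})), ?_⟩
  intro g
  rw [RingHom.comp_apply, ← Ideal.mem_span_singleton, ← Ideal.Quotient.eq_zero_iff_mem]
  exact map_eq_zero_iff _ (IsFractionRing.injective _ _)

theorem not_dvd_E1 : ¬ D k ∣ E1 k := by
  rintro ⟨t, ht⟩
  have h := congrArg (eval ![(1:k), 0, 0, 0]) ht
  simp [D, E1, E2, E3, E4] at h

theorem not_dvd_q (i : Fin 4) : ¬ D k ∣ (E1 k ^ 2 - E1 k * X i - E2 k) := by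
  rintro ⟨t, ht⟩
  have h1 : eval ![(1:k), -1, 0, 0] (E1 k) = 0 := by simp [E1]
  have h2 : eval ![(1:k), -1, 0, 0] (E2 k) = -1 := by simp [E2]
  have h3 : eval ![(1:k), -1, 0, 0] (D k) = 0 := by simp [D, E1, E2, E3, E4]
  have h := congrArg (eval ![(1:k), -1, 0, 0]) ht
  simp only [map_mul, map_sub, map_pow, h1, h2, h3] at h
  simp at h

end Step2

end Groth.Agent.Helper8.Sig24a
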