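import Groth.Agent.Lib.Helper8.Sig24a

/-!
# Sig24b: the radical of `(σ₂, σ₄) ⊂ k[X_0..X_4]` is prime

Helper library for S12437.  Using the field `L ⊇ k[y]/(D)` of `Sig24a` we construct a ring hom
`φ : k[X_0..X_4] → L` whose kernel `P` is a prime containing `(σ₂, σ₄)`, show that every element of
`P` is killed into `(σ₂, σ₄)` by a power of each linear form `ℓ_i = Σ_j X_j - X_i`, and conclude via
the Nullstellensatz that `P = rad (σ₂, σ₄)`.
-/

set_option autoImplicit false
universe u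

namespace Groth.Agent.Helper8.Sig24b

open MvPolynomial
open Groth.Agent.Helper8.Sig24a

section Explicit

variable (k : Type u) [Field k]

theorem esymm2 : esymm (Fin 5) k 2 =
    X 0 * X 1 + X 0 * X 2 + X 0 * X 3 + X 0 * X 4 + X 1 * X 2 + X 1 * X 3 + X 1 * X 4 +
      X 2 * X 3 + X 2 * X 4 + X 3 * X 4 := by
  have h : Finset.powersetCard 2 (Finset.univ : Finset (Fin 5)) =
      {{0,1},{0,2},{0,3},{0,4},{1,2},{1,3},{1,4},{2,3},{2,4},{3,4}} := by decide
  rw [MvPolynomial.esymm, h]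
  repeat rw [Finset.sum_insert (by decide)]
  rw [Finset.sum_singleton]
  repeat rw [Finset.prod_insert (by decide)]
  simp only [Finset.prod_singleton]
  ring

theorem esymm4 : esymm (Fin 5) k 4 =
    X 0 * X 1 * X 2 * X 3 + X 0 * X 1 * X 2 * X 4 + X 0 * X 1 * X 3 * X 4 +
      X 0 * X 2 * X 3 * X 4 + X 1 * X 2 * X 3 * X 4 := by
  have h : Finset.powersetCard 4 (Finset.univ : Finset (Fin 5)) =
      {{0,1,2,3},{0,1,2,4},{0,1,3,4},{0,2,3,4},{1,2,3,4}} := by decide
  rw [MvPolynomial.esymm, h]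
  repeat rw [Finset.sum_insert (by decide)]
  rw [Finset.sum_singleton]
  repeat rw [Finset.prod_insert (by decide)]
  simp only [Finset.prod_singleton]
  ring

theorem th5_X0 : finSuccEquiv k 4 (X 0) = Polynomial.X := finSuccEquiv_X_zero
theorem th5_X1 : finSuccEquiv k 4 (X 1) = Polynomial.C (X 0) :=
  finSuccEquiv_X_succ (j := (0 : Fin 4))
theorem th5_X2 : finSuccEquiv k 4 (X 2) = Polynomial.C (X 1) :=
  finSuccEquiv_X_succ (j := (1 : Fin 4))
theorem th5_X3 : finSuccEquiv k 4 (X 3) = Polynomial.C (X 2) :=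
  finSuccEquiv_X_succ (j := (2 : Fin 4))
theorem th5_X4 : finSuccEquiv k 4 (X 4) = Polynomial.C (X 3) :=
  finSuccEquiv_X_succ (j := (3 : Fin 4))
theorem th5_Xsucc (i : Fin 4) : finSuccEquiv k 4 (X i.succ) = Polynomial.C (X i) :=
  finSuccEquiv_X_succ

theorem th5_s2 : finSuccEquiv k 4 (esymm (Fin 5) k 2) =
    Polynomial.C (E2 k) + Polynomial.C (E1 k) * Polynomial.X := by
  rw [esymm2]
  simp only [E1, E2, map_add, map_mul, th5_X0, th5_X1, th5_X2, th5_X3, th5_X4]
  ring

theorem th5_s4 : finSuccEquiv k 4 (esymm (Fin 5) k 4) =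
    Polynomial.C (E4 k) + Polynomial.C (E3 k) * Polynomial.X := by
  rw [esymm4]
  simp only [E3, E4, map_add, map_mul, th5_X0, th5_X1, th5_X2, th5_X3, th5_X4]
  ring

theorem th5_sum : finSuccEquiv k 4 (∑ j : Fin 5, X j) = Polynomial.X + Polynomial.C (E1 k) := by
  rw [Fin.sum_univ_five]
  simp only [E1, map_add, th5_X0, th5_X1, th5_X2, th5_X3, th5_X4]
  ring

theorem th5_l0 : finSuccEquiv k 4 (∑ j : Fin 5, X j - X 0) = Polynomial.C (E1 k) := by
  rw [map_sub, th5_sum, th5_X0]
  ring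

theorem eval_s2 (x : Fin 5 → k) : eval x (esymm (Fin 5) k 2) =
    x 0 * x 1 + x 0 * x 2 + x 0 * x 3 + x 0 * x 4 + x 1 * x 2 + x 1 * x 3 + x 1 * x 4 +
      x 2 * x 3 + x 2 * x 4 + x 3 * x 4 := by
  rw [esymm2]
  simp only [map_add, map_mul, eval_X]

theorem eval_s4 (x : Fin 5 → k) : eval x (esymm (Fin 5) k 4) =
    x 0 * x 1 * x 2 * x 3 + x 0 * x 1 * x 2 * x 4 + x 0 * x 1 * x 3 * x 4 +
      x 0 * x 2 * x 3 * x 4 + x 1 * x 2 * x 3 * x 4 := by
  rw [esymm4]
  simp only [map_add, map_mul, eval_X]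

end Explicit

/-! ## pseudo-evaluation -/

theorem pseudo_eval {R : Type*} [CommRing R] (a b : R) (F : Polynomial R) :
    ∃ (N : ℕ) (H : Polynomial R) (G : R),
      Polynomial.C a ^ N * F =
        H * (Polynomial.C a * Polynomial.X + Polynomial.C b) + Polynomial.C G := by
  induction F using Polynomial.induction_on' with
  | add p q hp hq =>
    obtain ⟨N1, H1, G1, h1⟩ := hp
    obtain ⟨N2, H2, G2, h2⟩ := hq
    refine ⟨N1 + N2, Polynomial.C a ^ N2 * H1 + Polynomial.C a ^ N1 * H2,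
      a ^ N2 * G1 + a ^ N1 * G2, ?_⟩
    simp only [map_add, map_mul, map_pow]
    linear_combination (Polynomial.C a ^ N2) * h1 + (Polynomial.C a ^ N1) * h2
  | monomial n c =>
    obtain ⟨K, hK⟩ := sub_dvd_pow_sub_pow (Polynomial.C a * Polynomial.X)
      (-(Polynomial.C b)) n
    refine ⟨n, Polynomial.C c * K, c * (-b) ^ n, ?_⟩
    rw [← Polynomial.C_mul_X_pow_eq_monomial]
    simp only [map_mul, map_pow, map_neg]
    linear_combination (Polynomial.C c) * hK

/-! ## the evaluation homomorphism -/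

section Main

variable {k : Type u} [Field k] {L : Type u} [Field L]
  (ι : MvPolynomial (Fin 4) k →+* L)

/-- the value of `X 0` -/
noncomputable def x0 : L := -(ι (E2 k)) / ι (E1 k)

/-- the evaluation homomorphism -/
noncomputable def phi : MvPolynomial (Fin 5) k →+* L :=
  (Polynomial.eval₂RingHom ι (x0 ι)).comp (finSuccEquiv k 4).toRingEquiv.toRingHom

theorem phi_apply (f : MvPolynomial (Fin 5) k) :
    phi ι f = Polynomial.eval₂ ι (x0 ι) (finSuccEquiv k 4 f) := rfl

/-- the ideal `(σ₂, σ₄)` -/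
noncomputable def I (k : Type u) [Field k] : Ideal (MvPolynomial (Fin 5) k) :=
  Ideal.span {esymm (Fin 5) k 2, esymm (Fin 5) k 4}

variable (hι : ∀ g, ι g = 0 ↔ D k ∣ g)
include hι

theorem hE1 : ι (E1 k) ≠ 0 := fun h => not_dvd_E1 k ((hι _).mp h)

theorem hx0 : ι (E1 k) * x0 ι = -(ι (E2 k)) := by
  rw [x0, ← mul_div_assoc, mul_div_cancel_left₀ _ (hE1 ι hι)]

theorem phi_s2 : phi ι (esymm (Fin 5) k 2) = 0 := by
  rw [phi_apply, th5_s2]
  simp only [Polynomial.eval₂_add, Polynomial.eval₂_mul, Polynomial.eval₂_C, Polynomial.eval₂_X]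
  rw [hx0 ι hι]
  ring

theorem phi_s4 : phi ι (esymm (Fin 5) k 4) = 0 := by
  rw [phi_apply, th5_s4]
  simp only [Polynomial.eval₂_add, Polynomial.eval₂_mul, Polynomial.eval₂_C, Polynomial.eval₂_X]
  have hD0 : ι (D k) = 0 := (hι _).mpr dvd_rfl
  have h1 : ι (E1 k) * (ι (E4 k) + ι (E3 k) * x0 ι) = -(ι (D k)) := by
    rw [D, map_sub, map_mul, map_mul]
    linear_combination (ι (E3 k)) * hx0 ι hι
  rw [hD0, neg_zero] at h1
  exact (mul_eq_zero.mp h1).resolve_left (hE1 ι hι)

theorem I_le_ker {g : MvPolynomial (Fin 5) k} (hg : g ∈ I k) : phi ι g = 0 := by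
  rw [I, Ideal.mem_span_pair] at hg
  obtain ⟨a, b, rfl⟩ := hg
  rw [map_add, map_mul, map_mul, phi_s2 ι hι, phi_s4 ι hι, mul_zero, mul_zero, add_zero]

theorem sat0 (f : MvPolynomial (Fin 5) k) (hf : phi ι f = 0) :
    ∃ N : ℕ, (∑ j : Fin 5, X j - X 0 : MvPolynomial (Fin 5) k) ^ N * f ∈ I k := by
  obtain ⟨N, H, G, hPE⟩ := pseudo_eval (E1 k) (E2 k) (finSuccEquiv k 4 f)
  have hG : ι G = 0 := by
    have h := congrArg (Polynomial.eval₂ ι (x0 ι)) hPE
    simp only [Polynomial.eval₂_mul, Polynomial.eval₂_add, Polynomial.eval₂_pow,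
      Polynomial.eval₂_C, Polynomial.eval₂_X] at h
    rw [← phi_apply, hf, mul_zero, hx0 ι hι, neg_add_cancel, mul_zero, zero_add] at h
    exact h.symm
  obtain ⟨G', hG'⟩ := (hι G).mp hG
  have hCG : Polynomial.C G = (Polynomial.C (E2 k) * Polynomial.C (E3 k) -
      Polynomial.C (E1 k) * Polynomial.C (E4 k)) * Polynomial.C G' := by
    rw [hG', D]
    simp only [map_mul, map_sub]
  refine ⟨N, ?_⟩
  rw [I, Ideal.mem_span_pair]
  have hl : (∑ j : Fin 5, X j - X 0 : MvPolynomial (Fin 5) k) =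
      (finSuccEquiv k 4).symm (Polynomial.C (E1 k)) := by
    rw [← th5_l0, AlgEquiv.symm_apply_apply]
  refine ⟨(finSuccEquiv k 4).symm (H + Polynomial.C G' * Polynomial.C (E3 k)),
    (finSuccEquiv k 4).symm (-(Polynomial.C G' * Polynomial.C (E1 k))), ?_⟩
  apply (finSuccEquiv k 4).injective
  rw [hl]
  simp only [map_add, map_mul, map_pow, map_neg, AlgEquiv.apply_symm_apply, th5_s2, th5_s4]
  linear_combination (-1 : Polynomial (MvPolynomial (Fin 4) k)) * hPE - hCG

theorem phi_ell (i : Fin 4) : phi ι (∑ j : Fin 5, X j - X i.succ) ≠ 0 := by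
  intro h
  rw [phi_apply, map_sub, th5_sum, th5_Xsucc] at h
  simp only [Polynomial.eval₂_sub, Polynomial.eval₂_add, Polynomial.eval₂_C,
    Polynomial.eval₂_X] at h
  have h1 : ι (E1 k ^ 2 - E1 k * X i - E2 k) = 0 := by
    rw [map_sub, map_sub, map_pow, map_mul]
    linear_combination (ι (E1 k)) * h - hx0 ι hι
  exact not_dvd_q k i ((hι _).mp h1)

omit hι in
theorem swap_I (i : Fin 5) {g : MvPolynomial (Fin 5) k} (hg : g ∈ I k) :
    rename (Equiv.swap (0 : Fin 5) i) g ∈ I k := by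
  rw [I, Ideal.mem_span_pair] at hg ⊢
  obtain ⟨a, b, rfl⟩ := hg
  refine ⟨rename (Equiv.swap (0 : Fin 5) i) a, rename (Equiv.swap (0 : Fin 5) i) b, ?_⟩
  rw [map_add, map_mul, map_mul, rename_esymm, rename_esymm]

omit hι in
theorem swap_swap (i : Fin 5) (g : MvPolynomial (Fin 5) k) :
    rename (Equiv.swap (0 : Fin 5) i) (rename (Equiv.swap (0 : Fin 5) i) g) = g := by
  rw [rename_rename]
  have h : (⇑(Equiv.swap (0 : Fin 5) i) ∘ ⇑(Equiv.swap (0 : Fin 5) i)) = id := by
    funext a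
    simp
  rw [h, rename_id_apply]

omit hι in
theorem swap_sum (i : Fin 5) :
    rename (Equiv.swap (0 : Fin 5) i) (∑ j : Fin 5, X j : MvPolynomial (Fin 5) k) =
      ∑ j : Fin 5, X j := by
  rw [map_sum]
  simp only [rename_X]
  exact Equiv.sum_comp (Equiv.swap (0 : Fin 5) i) (fun j => (X j : MvPolynomial (Fin 5) k))

omit hι in
theorem swap_l0 (i : Fin 5) :
    rename (Equiv.swap (0 : Fin 5) i) (∑ j : Fin 5, X j - X 0 : MvPolynomial (Fin 5) k) =
      ∑ j : Fin 5, X j - X i := by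
  rw [map_sub, swap_sum, rename_X, Equiv.swap_apply_left]

theorem swap_mem (i : Fin 5) (g : MvPolynomial (Fin 5) k)
    (hg : phi ι (rename (Equiv.swap (0 : Fin 5) i) g) = 0) :
    ∃ N : ℕ, (∑ j : Fin 5, X j - X i : MvPolynomial (Fin 5) k) ^ N * g ∈ I k := by
  obtain ⟨N, hN⟩ := sat0 ι hι _ hg
  refine ⟨N, ?_⟩
  have h := swap_I i hN
  rwa [map_mul, map_pow, swap_l0, swap_swap] at h

theorem phi_swap (i : Fin 4) (f : MvPolynomial (Fin 5) k) (hf : phi ι f = 0) :
    phi ι (rename (Equiv.swap (0 : Fin 5) i.succ) f) = 0 := by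
  have h0 : phi ι (rename (Equiv.swap (0 : Fin 5) i.succ)
      (rename (Equiv.swap (0 : Fin 5) i.succ) f)) = 0 := by
    rw [swap_swap]
    exact hf
  obtain ⟨N, hN⟩ := swap_mem ι hι i.succ _ h0
  have h1 := I_le_ker ι hι hN
  rw [map_mul, map_pow] at h1
  rcases mul_eq_zero.mp h1 with h | h
  · exact absurd h (pow_ne_zero N (phi_ell ι hι i))
  · exact h

theorem sat_all (f : MvPolynomial (Fin 5) k) (hf : phi ι f = 0) (i : Fin 5) :
    ∃ N : ℕ, (∑ j : Fin 5, X j - X i : MvPolynomial (Fin 5) k) ^ N * f ∈ I k := by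
  induction i using Fin.cases with
  | zero => exact sat0 ι hι f hf
  | succ i => exact swap_mem ι hι i.succ f (phi_swap ι hι i f hf)

omit hι in
theorem eval_mem_I (x : Fin 5 → k) (hx2 : eval x (esymm (Fin 5) k 2) = 0)
    (hx4 : eval x (esymm (Fin 5) k 4) = 0) {g : MvPolynomial (Fin 5) k} (hg : g ∈ I k) :
    eval x g = 0 := by
  rw [I, Ideal.mem_span_pair] at hg
  obtain ⟨a, b, rfl⟩ := hg
  rw [map_add, map_mul, map_mul, hx2, hx4, mul_zero, mul_zero, add_zero]

omit hι in
theorem exists_ell_ne [CharZero k] (x : Fin 5 → k) (hx : x ≠ 0) :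
    ∃ i, (∑ j, x j) - x i ≠ 0 := by
  by_contra h
  push_neg at h
  apply hx
  have hS : ∀ i, x i = ∑ j, x j := fun i => (sub_eq_zero.mp (h i)).symm
  have h5 : (∑ j, x j) = 5 * ∑ j, x j := by
    conv_lhs => rw [Fin.sum_univ_five, hS 0, hS 1, hS 2, hS 3, hS 4]
    ring
  have h4 : (4 : k) * ∑ j, x j = 0 := by linear_combination (-1 : k) * h5
  have hS0 : ∑ j, x j = 0 := (mul_eq_zero.mp h4).resolve_left (by norm_num)
  funext i
  rw [hS i, hS0]
  rfl

theorem vanish_ne [CharZero k] (f : MvPolynomial (Fin 5) k) (hf : phi ι f = 0) (x : Fin 5 → k)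
    (hx2 : eval x (esymm (Fin 5) k 2) = 0) (hx4 : eval x (esymm (Fin 5) k 4) = 0)
    (hx : x ≠ 0) : eval x f = 0 := by
  obtain ⟨i, hi⟩ := exists_ell_ne x hx
  obtain ⟨N, hN⟩ := sat_all ι hι f hf i
  have h := eval_mem_I x hx2 hx4 hN
  rw [map_mul, map_pow, map_sub, map_sum] at h
  simp only [eval_X] at h
  rcases mul_eq_zero.mp h with h | h
  · exact absurd h (pow_ne_zero N hi)
  · exact h

omit hι in
theorem eval_line (y : Fin 5 → k) (f : MvPolynomial (Fin 5) k) (t : k) :
    Polynomial.eval t (aeval (fun i => Polynomial.C (y i) * Polynomial.X) f) =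
      eval (fun i => y i * t) f := by
  induction f using MvPolynomial.induction_on with
  | C r => simp
  | add f g hf hg => rw [map_add, Polynomial.eval_add, hf, hg, map_add]
  | mul_X f i hf =>
    rw [map_mul, Polynomial.eval_mul, hf, aeval_X, map_mul, eval_X]
    simp

/-- a nonzero point of `V(σ₂, σ₄)` -/
def pt (k : Type u) [Field k] : Fin 5 → k := ![2, 2, -1, 0, 0]

theorem vanish_all [CharZero k] (f : MvPolynomial (Fin 5) k) (hf : phi ι f = 0) (x : Fin 5 → k)
    (hx2 : eval x (esymm (Fin 5) k 2) = 0) (hx4 : eval x (esymm (Fin 5) k 4) = 0) :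
    eval x f = 0 := by
  by_cases hx : x = 0
  · subst hx
    haveI : Infinite k := Infinite.of_injective (Nat.cast : ℕ → k) Nat.cast_injective
    have hroots : ∀ t : k, t ≠ 0 →
        Polynomial.eval t (aeval (fun i => Polynomial.C (pt k i) * Polynomial.X) f) = 0 := by
      intro t ht
      rw [eval_line]
      apply vanish_ne ι hι f hf
      · rw [eval_s2]
        simp [pt]
        ring
      · rw [eval_s4]
        simp [pt]
      · intro h0
        have h1 := congrFun h0 0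
        simp [pt] at h1
        exact ht h1
    have hzero : aeval (fun i => Polynomial.C (pt k i) * Polynomial.X) f = 0 := by
      apply Polynomial.eq_zero_of_infinite_isRoot
      apply Set.Infinite.mono (s := {t : k | t ≠ 0})
      · intro t ht
        exact hroots t ht
      · have : {t : k | t ≠ 0} = ({0} : Set k)ᶜ := by
          ext t
          simp
        rw [this]
        exact (Set.finite_singleton 0).infinite_compl
    have h := eval_line (pt k) f 0
    rw [hzero, Polynomial.eval_zero] at h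
    have h2 : (fun i => pt k i * (0 : k)) = (0 : Fin 5 → k) := by
      funext i
      simp
    rw [h2] at h
    exact h.symm
  · exact vanish_ne ι hι f hf x hx2 hx4 hx

end Main

theorem main (k : Type u) [Field k] [IsAlgClosed k] [CharZero k] :
    (Ideal.span ({esymm (Fin 5) k 2, esymm (Fin 5) k 4} :
      Set (MvPolynomial (Fin 5) k))).radical.IsPrime := by
  obtain ⟨L, hL, ι, hι⟩ := exists_iota k
  have hker : (I k).radical = RingHom.ker (phi ι) := by
    apply le_antisymm
    · rw [Ideal.IsPrime.radical_le_iff (RingHom.ker_isPrime _)]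
      intro g hg
      exact I_le_ker ι hι hg
    · intro f hf
      rw [RingHom.mem_ker] at hf
      rw [← vanishingIdeal_zeroLocus_eq_radical (K := k), mem_vanishingIdeal_iff]
      intro x hx
      rw [mem_zeroLocus_iff] at hx
      have h2 := hx _ (Ideal.subset_span (Set.mem_insert _ _))
      have h4 := hx _ (Ideal.subset_span (Set.mem_insert_of_mem _ (Set.mem_singleton _)))
      rw [aeval_eq_eval] at h2 h4 ⊢
      exact vanish_all ι hι f hf x h2 h4
  have hI : Ideal.span ({esymm (Fin 5) k 2, esymm (Fin 5) k 4} :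
      Set (MvPolynomial (Fin 5) k)) = I k := rfl
  rw [hI, hker]
  exact RingHom.ker_isPrime _

end Groth.Agent.Helper8.Sig24b
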